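import Mathlib
import Groth.Agent.Lib.Seat48SubSheaf
import Groth.Agent.Lib.Seat48ExtBC2

/-!
# Morphisms into subsheaves of modules; kernels as subsheaves (seat 48)

Namespace `Groth.Agent.Lib.Seat48.SubSheaf`.

* `subSheafLift`: a morphism into `F` whose sections lie in the family `N` factors through
  `subSheaf F N`;
* `kerSub q`: the family of kernels of a morphism `q : F ⟶ Q`, local; `hasBCOn_kerSub`: it has base
  change on affines when `F` and `Q` do.
-/

set_option autoImplicit false
set_option linter.unusedSectionVars false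

universe v₁ u₁

open CategoryTheory Limits Opposite

namespace Groth.Agent.Lib.Seat48.SubSheaf

open Groth.Agent.Lib.Seat48.BCAlg
open Groth.Agent.Lib.Seat48.BCSite

attribute [local instance] Groth.Agent.Lib.Seat48.BCSite.commRingSect

variable {C : Type u₁} [Category.{v₁} C] {J : GrothendieckTopology C}
  {R : Sheaf J RingCat.{max v₁ u₁}}

/-- a morphism whose sections lie in the family factors through the subsheaf. -/
noncomputable def subSheafLift (F : SheafOfModules.{max v₁ u₁} R) (N : F.val.Submodule)
    (hloc : IsLocal F N) {H : SheafOfModules.{max v₁ u₁} R} (f : H ⟶ F)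
    (hf : ∀ (W : Cᵒᵖ) (x : H.val.obj W), f.val.app W x ∈ N.obj W) : H ⟶ subSheaf F N hloc :=
  ⟨{ app := fun W => ModuleCat.ofHom (LinearMap.codRestrict (N.obj W) (f.val.app W).hom (hf W))
     naturality := by
      intro W W' g
      ext x
      apply Subtype.ext
      exact PresheafOfModules.naturality_apply f.val g x }⟩

theorem subSheafLift_ι (F : SheafOfModules.{max v₁ u₁} R) (N : F.val.Submodule)
    (hloc : IsLocal F N) {H : SheafOfModules.{max v₁ u₁} R} (f : H ⟶ F)
    (hf : ∀ (W : Cᵒᵖ) (x : H.val.obj W), f.val.app W x ∈ N.obj W) :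
    subSheafLift F N hloc f hf ≫ subSheafι F N hloc = f := by
  apply SheafOfModules.hom_ext
  apply PresheafOfModules.hom_ext
  intro W
  ext x
  rfl

/-- the family of kernels of a morphism. -/
noncomputable def kerSub {F Q : SheafOfModules.{max v₁ u₁} R} (q : F ⟶ Q) : F.val.Submodule where
  obj W := LinearMap.ker (q.val.app W).hom
  map := by
    intro W W' g x hx
    rw [Submodule.mem_comap, LinearMap.mem_ker]
    have hx' : q.val.app W x = 0 := hx
    change q.val.app W' (F.val.map g x) = 0
    rw [PresheafOfModules.naturality_apply, hx']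
    exact map_zero (Q.val.map g).hom

theorem mem_kerSub_iff {F Q : SheafOfModules.{max v₁ u₁} R} (q : F ⟶ Q) (W : Cᵒᵖ)
    (x : F.val.obj W) : x ∈ (kerSub q).obj W ↔ q.val.app W x = 0 := Iff.rfl

theorem isLocal_kerSub {F Q : SheafOfModules.{max v₁ u₁} R} (q : F ⟶ Q) :
    IsLocal F (kerSub q) := by
  intro W s S hS h
  rw [mem_kerSub_iff]
  have hsep := Presheaf.IsSheaf.isSeparated Q.isSheaf
  refine hsep W S hS _ _ ?_
  intro V f hf
  have h1 : q.val.app (op V) (F.val.map f.op s) = 0 := h f hf
  have e1 : Q.val.presheaf.map f.op (q.val.app (op W) s) = Q.val.map f.op (q.val.app (op W) s) :=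
    rfl
  rw [e1, ← PresheafOfModules.naturality_apply, h1]
  exact (map_zero (Q.val.presheaf.map f.op).hom).symm

theorem subSheafι_kerSub_comp {F Q : SheafOfModules.{max v₁ u₁} R} (q : F ⟶ Q) :
    subSheafι F (kerSub q) (isLocal_kerSub q) ≫ q = 0 := by
  apply SheafOfModules.hom_ext
  apply PresheafOfModules.hom_ext
  intro W
  ext x
  exact (x : (kerSub q).obj W).2

variable [IsCommPresheaf R.obj]

/-- the subsheaf of kernels has base change on affines. -/
theorem hasBCOn_kerSub (D : AffineData J R.obj) {F Q : SheafOfModules.{max v₁ u₁} R} (q : F ⟶ Q)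
    (hF : HasBCOn D F.val) (hQ : HasBCOn D Q.val) :
    HasBCOn D (subSheaf F (kerSub q) (isLocal_kerSub q)).val := by
  intro E E' g hE hE'
  refine IsBC.of_ker (D.flat g hE hE')
    ((subSheaf F (kerSub q) (isLocal_kerSub q)).val.restrictₛₗ g.op) (F.val.restrictₛₗ g.op)
    (Q.val.restrictₛₗ g.op)
    ((subSheafι F (kerSub q) (isLocal_kerSub q)).val.app (op E)).hom (q.val.app (op E)).hom
    ((subSheafι F (kerSub q) (isLocal_kerSub q)).val.app (op E')).hom (q.val.app (op E')).hom
    (fun k => (PresheafOfModules.naturality_apply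
      (subSheafι F (kerSub q) (isLocal_kerSub q)).val g.op k).symm)
    (fun x => (PresheafOfModules.naturality_apply q.val g.op x).symm)
    ?_ ?_ ?_ ?_ (hF g hE hE') (hQ g hE hE')
  · intro x y hxy
    exact Subtype.ext (a1 := (x : (kerSub q).obj (op E))) (a2 := (y : (kerSub q).obj (op E))) hxy
  · intro x
    constructor
    · intro hx
      exact ⟨(⟨x, hx⟩ : (kerSub q).obj (op E)), rfl⟩
    · rintro ⟨y, rfl⟩
      exact (y : (kerSub q).obj (op E)).2
  · intro x y hxy
    exact Subtype.ext (a1 := (x : (kerSub q).obj (op E'))) (a2 := (y : (kerSub q).obj (op E'))) hxy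
  · intro x
    constructor
    · intro hx
      exact ⟨(⟨x, hx⟩ : (kerSub q).obj (op E')), rfl⟩
    · rintro ⟨y, rfl⟩
      exact (y : (kerSub q).obj (op E')).2

end Groth.Agent.Lib.Seat48.SubSheaf
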