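import Mathlib
import Groth.Agent.Lib.Seat48SubSheaf2
import Groth.Agent.Lib.Seat48BCEt4

/-!
# The largest quasi-coherent submodule (seat 48)

Namespace `Groth.Agent.Lib.Seat48.LargestQC`.

`exists_largest`: for a quasi-coherent module `F` on the small etale site of `X` and a submodule
`G ⟶ F`, there is a quasi-coherent submodule `G' ⟶ G` through which every map from a quasi-coherent
module to `G` factors uniquely (the image of the sum of all quasi-coherent submodules of `F`
contained in `G`).
-/

set_option autoImplicit false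
set_option linter.style.haveILetI false
set_option linter.unusedSectionVars false

universe u

open CategoryTheory CategoryTheory.Limits AlgebraicGeometry Opposite

namespace Groth.Agent.Lib.Seat48.LargestQC

open AlgSp
open Groth.Agent.Lib.Seat48.BCAlg
open Groth.Agent.Lib.Seat48.BCSite
open Groth.Agent.Lib.Seat48.BCEt
open Groth.Agent.Lib.Seat48.SubSheaf

attribute [local instance] Groth.Agent.Lib.Seat48.BCSite.commRingSect

variable {S : Scheme.{u}} {X : AlgSp.Sp S}

/-- quasi-coherent subsheaves of `F` contained in the image of `ι`. -/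
structure QSub {F G : AlgSp.ModEt X} (ι : G ⟶ F) where
  /-- the family of submodules -/
  N : F.val.Submodule
  hloc : IsLocal F N
  hbc : HasBCOn (affineData X) (subSheaf F N hloc).val
  hle : subSheafι F N hloc ≫ cokernel.π ι = 0

/-- the sheaf of a quasi-coherent subsheaf. -/
noncomputable def QSub.sheaf {F G : AlgSp.ModEt X} {ι : G ⟶ F} (i : QSub ι) : AlgSp.ModEt X :=
  subSheaf F i.N i.hloc

/-- its map to `G`. -/
noncomputable def QSub.toG {F G : AlgSp.ModEt X} {ι : G ⟶ F} [Mono ι] (i : QSub ι) :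
    i.sheaf ⟶ G :=
  Abelian.monoLift ι (subSheafι F i.N i.hloc) i.hle

theorem QSub.toG_ι {F G : AlgSp.ModEt X} {ι : G ⟶ F} [Mono ι] (i : QSub ι) :
    i.toG ≫ ι = subSheafι F i.N i.hloc :=
  Abelian.monoLift_comp ι (subSheafι F i.N i.hloc) i.hle

theorem exists_largest (F G : AlgSp.ModEt X) (hF : HasBCOn (affineData X) F.val) (ι : G ⟶ F)
    [Mono ι] :
    ∃ (G' : AlgSp.ModEt X) (κ : G' ⟶ G), Mono κ ∧ HasBCOn (affineData X) G'.val ∧
      ∀ H : AlgSp.ModEt X, HasBCOn (affineData X) H.val →
        Function.Bijective (fun φ : H ⟶ G' => φ ≫ κ) := by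
  let Hs : QSub ι → AlgSp.ModEt X := fun i => i.sheaf
  let ψ : ∐ Hs ⟶ G := Sigma.desc (fun i => i.toG)
  let θ : ∐ Hs ⟶ F := ψ ≫ ι
  have hθ : θ ≫ cokernel.π ι = 0 := by
    simp only [θ, Category.assoc, cokernel.condition, comp_zero]
  let κ : Abelian.image θ ⟶ G :=
    Abelian.monoLift ι (Abelian.image.ι θ) (Abelian.image_ι_comp_eq_zero hθ)
  have hκ : κ ≫ ι = Abelian.image.ι θ := Abelian.monoLift_comp _ _ _
  have hmono : Mono κ := mono_of_mono_fac hκ
  have hsum : HasBCOn (affineData X) (∐ Hs).val :=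
    hasBCOn_colimit (affineData X) (Discrete.functor Hs) (fun i => i.as.hbc)
  have hBC' : HasBCOn (affineData X) (Abelian.image θ).val :=
    hasBCOn_kernel (affineData X) (cokernel.π θ) hF (hasBCOn_cokernel (affineData X) θ hsum hF)
  refine ⟨Abelian.image θ, κ, hmono, hBC', fun H hH => ⟨?_, ?_⟩⟩
  · intro φ₁ φ₂ h
    exact (cancel_mono κ).1 h
  · intro φ
    let q := cokernel.π (φ ≫ ι)
    have hq : cokernel.π ι = q ≫ cokernel.desc (φ ≫ ι) (cokernel.π ι) (by
        rw [Category.assoc, cokernel.condition, comp_zero]) :=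
      (cokernel.π_desc _ _ _).symm
    let i : QSub ι :=
      { N := kerSub q
        hloc := isLocal_kerSub q
        hbc := hasBCOn_kerSub (affineData X) q hF (hasBCOn_cokernel (affineData X) (φ ≫ ι) hH hF)
        hle := by
          rw [hq, ← Category.assoc, subSheafι_kerSub_comp, zero_comp] }
    let l : H ⟶ i.sheaf := subSheafLift F (kerSub q) (isLocal_kerSub q) (φ ≫ ι) (fun W x => by
      rw [mem_kerSub_iff]
      have h0 : (φ ≫ ι) ≫ q = 0 := cokernel.condition _
      have h1 := congrArg (fun f => f.val.app W x) h0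
      exact h1)
    refine ⟨l ≫ Sigma.ι Hs i ≫ Abelian.factorThruImage θ, ?_⟩
    apply (cancel_mono ι).1
    change ((l ≫ Sigma.ι Hs i ≫ Abelian.factorThruImage θ) ≫ κ) ≫ ι = φ ≫ ι
    have e1 : Sigma.ι Hs i ≫ θ = i.toG ≫ ι := by
      simp only [θ, ψ, ← Category.assoc, Sigma.ι_desc]
    rw [Category.assoc, Category.assoc, Category.assoc, hκ, Abelian.image.fac, e1, i.toG_ι]
    exact subSheafLift_ι F (kerSub q) (isLocal_kerSub q) (φ ≫ ι) _

end Groth.Agent.Lib.Seat48.LargestQC
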