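import Mathlib

/-!
# Counting minimal primes along injective and flat ring maps (seat 48)

Namespace `Groth.Agent.Lib.Seat48.MinPrimes`.
-/

set_option autoImplicit false
set_option linter.style.haveILetI false

universe u v

namespace Groth.Agent.Lib.Seat48.MinPrimes

/-- along an injective ring map the number of minimal primes does not decrease. -/
theorem encard_minimalPrimes_le_of_injective {R : Type u} {S : Type v} [CommRing R] [CommRing S]
    (f : R →+* S) (hf : Function.Injective f) :
    (minimalPrimes R).encard ≤ (minimalPrimes S).encard := by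
  have h1 : minimalPrimes R ⊆ Ideal.comap f '' minimalPrimes S := by
    have h2 := Ideal.minimalPrimes_comap_subset f (⊥ : Ideal S)
    rw [Ideal.comap_bot_of_injective f hf] at h2
    exact h2
  exact (Set.encard_le_encard h1).trans (Set.encard_image_le _ _)

theorem encard_minimalPrimes_of_ringEquiv {R : Type u} {S : Type v} [CommRing R] [CommRing S]
    (e : R ≃+* S) : (minimalPrimes R).encard = (minimalPrimes S).encard :=
  le_antisymm (encard_minimalPrimes_le_of_injective e.toRingHom e.injective)
    (encard_minimalPrimes_le_of_injective e.symm.toRingHom e.symm.injective)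

/-- along a flat ring map minimal primes contract to minimal primes. -/
theorem comap_mem_minimalPrimes_of_flat {R : Type u} {S : Type v} [CommRing R] [CommRing S]
    (f : R →+* S) (hflat : f.Flat) (q : Ideal S) (hq : q ∈ minimalPrimes S) :
    q.comap f ∈ minimalPrimes R := by
  letI := f.toAlgebra
  haveI : Module.Flat R S := hflat
  haveI hqp : q.IsPrime := hq.1.1
  haveI : (q.comap f).IsPrime := Ideal.comap_isPrime f q
  refine ⟨⟨inferInstance, bot_le⟩, fun p' hp' hle => ?_⟩
  haveI : p'.IsPrime := hp'.1
  haveI : q.LiesOver (q.comap f) := ⟨rfl⟩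
  obtain ⟨P, hPq, hPprime, hPover⟩ :=
    Ideal.exists_ideal_le_liesOver_of_le (p := p') (q := q.comap f) q hle
  have h1 : q ≤ P := hq.2 ⟨hPprime, bot_le⟩ hPq
  have h2 : P = q := le_antisymm hPq h1
  have h3 : p' = P.under R := hPover.over
  rw [h3, h2]
  exact le_rfl

end Groth.Agent.Lib.Seat48.MinPrimes
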