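import Mathlib
import Groth.Prelude.Def_AlgSpModX
import Groth.Agent.Lib.Seat48ModSect

/-!
# Exactness on sections of modules on the small etale site, and annihilators (seat 48)

Namespace `Groth.Agent.Lib.Seat48.ModExact`.
* `sect_injective_of_mono`, `sect_exact`: sections over an object are left exact.
* `annSect_map_le`, `annSect_map_eq_of_injective`: annihilators along a morphism of modules.
* `mem_minimalPrimes_of_le`; `annSect_le_smul`, `mem_of_mem_annSect_smul`.
-/

set_option autoImplicit false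
universe u
open CategoryTheory CategoryTheory.Limits AlgebraicGeometry Opposite

namespace Groth.Agent.Lib.Seat48.ModExact

open AlgSp

variable {S : Scheme.{u}} {X : AlgSp.Sp S}

theorem sect_injective_of_mono {M N : AlgSp.ModEt X} (f : M ⟶ N) [Mono f] (E : AlgSp.EtOver X) :
    Function.Injective (f.val.app (op E)) := by
  have : Mono ((SheafOfModules.evaluation (AlgSp.OEtRing X) (op E)).map f) := inferInstance
  exact (ModuleCat.mono_iff_injective _).1 this

theorem sect_exact (C : ShortComplex (AlgSp.ModEt X)) (hC : C.ShortExact) (E : AlgSp.EtOver X)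
    (s : AlgSp.sectModEt C.X₂ E) (hs : C.g.val.app (op E) s = 0) :
    ∃ s₁ : AlgSp.sectModEt C.X₁ E, C.f.val.app (op E) s₁ = s := by
  have := hC.mono_f
  have hz : (SheafOfModules.evaluation (AlgSp.OEtRing X) (op E)).PreservesZeroMorphisms :=
    ⟨fun _ _ => rfl⟩
  have h1 := hC.exact.map_of_mono_of_preservesKernel
    (SheafOfModules.evaluation (AlgSp.OEtRing X) (op E)) inferInstance inferInstance
  rw [ShortComplex.moduleCat_exact_iff] at h1
  exact h1 s hs

theorem annSect_map_le {M N : AlgSp.ModEt X} (f : M ⟶ N) (E : AlgSp.EtOver X)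
    (s : AlgSp.sectModEt M E) :
    AlgSp.annSect s ≤ AlgSp.annSect (M := N) (E := E) (f.val.app (op E) s) := by
  intro a ha
  rw [AlgSp.mem_annSect_iff] at ha ⊢
  rw [← map_smul, ha, map_zero]

theorem annSect_map_eq_of_injective {M N : AlgSp.ModEt X} (f : M ⟶ N) (E : AlgSp.EtOver X)
    (hf : Function.Injective (f.val.app (op E))) (s : AlgSp.sectModEt M E) :
    AlgSp.annSect (M := N) (E := E) (f.val.app (op E) s) = AlgSp.annSect s := by
  apply le_antisymm
  · intro a ha
    rw [AlgSp.mem_annSect_iff] at ha ⊢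
    apply hf
    rw [map_smul, ha, map_zero]
  · exact annSect_map_le f E s

theorem mem_minimalPrimes_of_le {R : Type*} [CommRing R] {I J p : Ideal R}
    (hp : p ∈ I.minimalPrimes) (hIJ : I ≤ J) (hJp : J ≤ p) : p ∈ J.minimalPrimes :=
  ⟨⟨hp.1.1, hJp⟩, fun _ hq hqp => hp.2 ⟨hq.1, hIJ.trans hq.2⟩ hqp⟩

theorem annSect_le_smul {M : AlgSp.ModEt X} {E : AlgSp.EtOver X} (s : AlgSp.sectModEt M E)
    (t : Γ(E.obj.left.left, ⊤)) :
    AlgSp.annSect s ≤ AlgSp.annSect (M := M) (E := E) (AlgSp.upΓ E t • s) := by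
  intro a ha
  rw [AlgSp.mem_annSect_iff] at ha ⊢
  rw [← mul_smul, ← map_mul, mul_comm, map_mul, mul_smul, ha, smul_zero]

theorem mul_mem_of_mem_annSect_smul {M : AlgSp.ModEt X} {E : AlgSp.EtOver X}
    (s : AlgSp.sectModEt M E) (t b : Γ(E.obj.left.left, ⊤))
    (hb : b ∈ AlgSp.annSect (M := M) (E := E) (AlgSp.upΓ E t • s)) : b * t ∈ AlgSp.annSect s := by
  rw [AlgSp.mem_annSect_iff] at hb ⊢
  rw [map_mul, mul_smul]
  exact hb

end Groth.Agent.Lib.Seat48.ModExact
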