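import Mathlib
import Groth.Prelude.Def_AlgSpOX3
import Groth.Prelude.Def_EtBase
import Groth.Agent.Lib.Helper9SpPoint6
import Groth.Agent.Lib.Seat45Charts

/-!
# The etale local ring of an algebraic space at a geometric point: affine pointed neighbourhoods,
germs, and the strictly henselian property (seat 48)

Namespace `Groth.Agent.Lib.Seat48.OEtLocal`.  Port of the scheme-level development
`Groth.Agent.Lib.Seat1.ShLocal` to the small etale site of an algebraic space.
-/

set_option autoImplicit false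
set_option linter.style.haveILetI false
set_option linter.unusedSectionVars false
set_option backward.isDefEq.respectTransparency false

universe u

open CategoryTheory CategoryTheory.Limits AlgebraicGeometry Opposite

namespace Groth.Agent.Lib.Seat48.OEtLocal

open AlgSp
open Groth.Agent.Lib.Helper9.SpPoint

instance hasColimitsOfSize_commRingCat : HasColimitsOfSize.{u, u} CommRingCat.{u + 1} :=
  hasColimitsOfSizeShrink.{u, u, u + 1, u + 1} _

instance preservesFilteredColimits_forget_commRingCat :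
    PreservesFilteredColimitsOfSize.{u, u} (forget CommRingCat.{u + 1}) :=
  preservesFilteredColimitsOfSize_shrink.{u, u + 1, u, u + 1} _

variable {S : Scheme.{u}} (X : AlgSp.Space S) (p : AlgSp.FieldPt X.obj) (hp : p.IsGeometric)

/-- the point of the small etale site defined by a geometric point. -/
noncomputable def pnt : GrothendieckTopology.Point.{u} (AlgSp.etTop X.obj) where
  fiber := AlgSp.FieldPt.liftsTo p
  isCofiltered := by
    obtain ⟨⟨fib, cof, ism, js⟩, rfl⟩ := main X p hp
    exact cof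
  initiallySmall := by
    obtain ⟨⟨fib, cof, ism, js⟩, rfl⟩ := main X p hp
    exact ism
  jointly_surjective := by
    obtain ⟨⟨fib, cof, ism, js⟩, rfl⟩ := main X p hp
    exact js

/-- the etale local ring. -/
noncomputable abbrev A : CommRingCat.{u + 1} := AlgSp.OEtStalk p

/-- the canonical map from the sections over an etale neighbourhood. -/
noncomputable def toA (U : AlgSp.EtOver X.obj) (l : (AlgSp.FieldPt.liftsTo p).obj U) :
    (AlgSp.OEt X.obj).obj.obj (op U) ⟶ A X p :=
  AlgSp.stalkEtι p (AlgSp.OEt X.obj) ⟨U, l⟩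

theorem toA_eq (U : AlgSp.EtOver X.obj) (l : (AlgSp.FieldPt.liftsTo p).obj U) :
    toA X p U l = (pnt X p hp).toPresheafFiber U l (AlgSp.OEt X.obj).obj := rfl

include hp in
theorem toA_w {U V : AlgSp.EtOver X.obj} (f : U ⟶ V) (l : (AlgSp.FieldPt.liftsTo p).obj U) :
    (AlgSp.OEt X.obj).obj.map f.op ≫ toA X p U l =
      toA X p V ((AlgSp.FieldPt.liftsTo p).map f l) :=
  (pnt X p hp).toPresheafFiber_w f l (AlgSp.OEt X.obj).obj

/-- evaluation of a section over an etale neighbourhood at the point. -/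
noncomputable def evAt (U : AlgSp.EtOver X.obj) (l : (AlgSp.FieldPt.liftsTo p).obj U) :
    (AlgSp.OEt X.obj).obj.obj (op U) ⟶ CommRingCat.of (ULift.{u + 1} p.K) :=
  CommRingCat.ofHom ((ULift.ringEquiv.symm : p.K ≃+* ULift.{u + 1} p.K).toRingHom.comp
    ((l.1.left.appTop ≫ (Scheme.ΓSpecIso (CommRingCat.of p.K)).hom).hom.comp
      (ULift.ringEquiv : ULift.{u + 1} Γ(U.obj.left.left, ⊤) ≃+* _).toRingHom))

theorem evAt_w {U V : AlgSp.EtOver X.obj} (f : U ⟶ V) (l : (AlgSp.FieldPt.liftsTo p).obj U) :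
    (AlgSp.OEt X.obj).obj.map f.op ≫ evAt X p U l =
      evAt X p V ((AlgSp.FieldPt.liftsTo p).map f l) := by
  ext s
  change (Scheme.ΓSpecIso (CommRingCat.of p.K)).hom.hom
      (l.1.left.appTop.hom (f.hom.left.left.appTop.hom s.down)) =
    (Scheme.ΓSpecIso (CommRingCat.of p.K)).hom.hom ((l.1 ≫ f.hom.left).left.appTop.hom s.down)
  rw [Over.comp_left, Scheme.Hom.comp_appTop]
  rfl

/-- evaluation at the point, on the etale local ring (lifted one universe). -/
noncomputable def evU : A X p ⟶ CommRingCat.of (ULift.{u + 1} p.K) :=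
  (pnt X p hp).presheafFiberDesc (P := (AlgSp.OEt X.obj).obj) (fun U l => evAt X p U l)
    (fun _ _ f l => evAt_w X p f l)

theorem toA_evU (U : AlgSp.EtOver X.obj) (l : (AlgSp.FieldPt.liftsTo p).obj U) :
    toA X p U l ≫ evU X p hp = evAt X p U l :=
  (pnt X p hp).toPresheafFiber_presheafFiberDesc _ _ U l

/-- evaluation at the point, on the etale local ring. -/
noncomputable def ev : ↥(A X p) →+* p.K :=
  (ULift.ringEquiv : ULift.{u + 1} p.K ≃+* p.K).toRingHom.comp (evU X p hp).hom

theorem ev_toA (U : AlgSp.EtOver X.obj) (l : (AlgSp.FieldPt.liftsTo p).obj U)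
    (s : ↥((AlgSp.OEt X.obj).obj.obj (op U))) :
    ev X p hp ((toA X p U l).hom s) =
      (Scheme.ΓSpecIso (CommRingCat.of p.K)).hom.hom (l.1.left.appTop.hom s.down) := by
  have h := congrArg (fun φ => (ULift.ringEquiv : ULift.{u + 1} p.K ≃+* p.K) (φ.hom s))
    (toA_evU X p hp U l)
  exact h

/-- an affine pointed etale neighbourhood of the point. -/
structure Nbhd where
  /-- coordinate ring -/
  C : CommRingCat.{u}
  /-- structure map to the base -/
  str : Spec C ⟶ S
  /-- structure map to the space -/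
  a : (AlgSp.yon S).obj (Over.mk str) ⟶ X.obj
  et : AlgSp.RepWith @Etale a
  /-- the point -/
  y : C ⟶ CommRingCat.of p.K
  hstr : Spec.map y ≫ str = p.str
  hy : (AlgSp.yon S).map (Over.homMk (Spec.map y) hstr : p.pt ⟶ Over.mk str) ≫ a = p.toHom

variable {X p}

/-- the object of the small etale site. -/
noncomputable abbrev Nbhd.obj (N : Nbhd X p) : AlgSp.EtOver X.obj := AlgSp.EtOver.mk N.a N.et

/-- the lift of the point. -/
noncomputable abbrev Nbhd.pt (N : Nbhd X p) : (AlgSp.FieldPt.liftsTo p).obj N.obj :=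
  ⟨Over.homMk (Spec.map N.y) N.hstr, N.hy⟩

/-- the germ map of an affine pointed neighbourhood. -/
noncomputable def Nbhd.germ (N : Nbhd X p) : ↥N.C →+* ↥(A X p) :=
  (toA X p N.obj N.pt).hom.comp
    ((ULift.ringEquiv.symm : Γ(Spec N.C, ⊤) ≃+* ULift.{u + 1} Γ(Spec N.C, ⊤)).toRingHom.comp
      (Scheme.ΓSpecIso N.C).inv.hom)

theorem Nbhd.germ_apply (N : Nbhd X p) (c : ↥N.C) :
    N.germ c = (toA X p N.obj N.pt).hom (ULift.up ((Scheme.ΓSpecIso N.C).inv.hom c)) := rfl

theorem Nbhd.ev_germ (N : Nbhd X p) (c : ↥N.C) : ev X p hp (N.germ c) = N.y.hom c := by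
  rw [N.germ_apply, ev_toA]
  change (Scheme.ΓSpecIso (CommRingCat.of p.K)).hom.hom
    ((Spec.map N.y).appTop.hom ((Scheme.ΓSpecIso N.C).inv.hom c)) = _
  have h := congrArg (fun φ => φ.hom c) (Scheme.ΓSpecIso_inv_naturality N.y)
  change (Scheme.ΓSpecIso (CommRingCat.of p.K)).inv.hom (N.y.hom c) =
    (Spec.map N.y).appTop.hom ((Scheme.ΓSpecIso N.C).inv.hom c) at h
  rw [← h]
  exact congrArg (fun φ => φ.hom (N.y.hom c)) (Scheme.ΓSpecIso (CommRingCat.of p.K)).inv_hom_id

/-- restriction of sections along a morphism from an affine pointed neighbourhood. -/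
noncomputable def Nbhd.res (N : Nbhd X p) {U : AlgSp.EtOver X.obj} (g : N.obj ⟶ U) :
    Γ(U.obj.left.left, ⊤) →+* ↥N.C :=
  (Scheme.ΓSpecIso N.C).hom.hom.comp g.hom.left.left.appTop.hom

include hp in
theorem Nbhd.germ_res (N : Nbhd X p) {U : AlgSp.EtOver X.obj} (g : N.obj ⟶ U)
    (l : (AlgSp.FieldPt.liftsTo p).obj U) (hl : (AlgSp.FieldPt.liftsTo p).map g N.pt = l)
    (s : Γ(U.obj.left.left, ⊤)) :
    N.germ (N.res g s) = (toA X p U l).hom (ULift.up s) := by
  subst hl
  rw [← toA_w X p hp g N.pt, N.germ_apply]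
  change _ = (toA X p N.obj N.pt).hom (ULift.up (g.hom.left.left.appTop.hom s))
  congr 2
  exact congrArg (fun φ => φ.hom (g.hom.left.left.appTop.hom s)) (Scheme.ΓSpecIso N.C).hom_inv_id

/-- refinement of an affine pointed neighbourhood along an etale ring map. -/
noncomputable abbrev Nbhd.refine (N : Nbhd X p) {C' : CommRingCat.{u}} (h : N.C ⟶ C')
    [Etale (Spec.map h)] (y' : C' ⟶ CommRingCat.of p.K) (hy' : h ≫ y' = N.y) : Nbhd X p where
  C := C'
  str := Spec.map h ≫ N.str
  a := (AlgSp.yon S).map (Over.homMk (Spec.map h) rfl : Over.mk (Spec.map h ≫ N.str) ⟶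
    Over.mk N.str) ≫ N.a
  et := by
    haveI : Etale (Over.homMk (Spec.map h) rfl : Over.mk (Spec.map h ≫ N.str) ⟶
      Over.mk N.str).left := by
      change Etale (Spec.map h)
      infer_instance
    exact Groth.Agent.Lib.Seat45.Charts.repWith_etale_comp _ N.a N.et
  y := y'
  hstr := by rw [← Category.assoc, ← Spec.map_comp, hy', N.hstr]
  hy := by
    rw [← Category.assoc, ← Functor.map_comp]
    have e : (Over.homMk (Spec.map y')
        (by
          change Spec.map y' ≫ Spec.map h ≫ N.str = p.str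
          rw [← Category.assoc, ← Spec.map_comp, hy', N.hstr]) :
          p.pt ⟶ Over.mk (Spec.map h ≫ N.str)) ≫
        (Over.homMk (Spec.map h) rfl : Over.mk (Spec.map h ≫ N.str) ⟶ Over.mk N.str) =
        Over.homMk (Spec.map N.y) N.hstr := by
      apply Over.OverMorphism.ext
      change Spec.map y' ≫ Spec.map h = Spec.map N.y
      rw [← Spec.map_comp, hy']
    rw [e]
    exact N.hy

/-- the morphism of the site from a refinement. -/
noncomputable def Nbhd.refineHom (N : Nbhd X p) {C' : CommRingCat.{u}} (h : N.C ⟶ C')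
    [Etale (Spec.map h)] (y' : C' ⟶ CommRingCat.of p.K) (hy' : h ≫ y' = N.y) :
    (N.refine h y' hy').obj ⟶ N.obj :=
  AlgSp.EtOver.homMk (Over.homMk (Spec.map h) rfl : Over.mk (Spec.map h ≫ N.str) ⟶
    Over.mk N.str) rfl

theorem Nbhd.refineHom_pt (N : Nbhd X p) {C' : CommRingCat.{u}} (h : N.C ⟶ C')
    [Etale (Spec.map h)] (y' : C' ⟶ CommRingCat.of p.K) (hy' : h ≫ y' = N.y) :
    (AlgSp.FieldPt.liftsTo p).map (N.refineHom h y' hy') (N.refine h y' hy').pt = N.pt := by
  apply Subtype.ext
  apply Over.OverMorphism.ext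
  change Spec.map y' ≫ Spec.map h = Spec.map N.y
  rw [← Spec.map_comp, hy']

include hp in
theorem Nbhd.refine_germ (N : Nbhd X p) {C' : CommRingCat.{u}} (h : N.C ⟶ C')
    [Etale (Spec.map h)] (y' : C' ⟶ CommRingCat.of p.K) (hy' : h ≫ y' = N.y) (c : ↥N.C) :
    (N.refine h y' hy').germ (h.hom c) = N.germ c := by
  have h1 := (N.refine h y' hy').germ_res hp (N.refineHom h y' hy') N.pt (N.refineHom_pt h y' hy')
    ((Scheme.ΓSpecIso N.C).inv.hom c)
  rw [N.germ_apply, ← h1]
  congr 1
  change h.hom c = (Scheme.ΓSpecIso C').hom.hom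
    ((Spec.map h).appTop.hom ((Scheme.ΓSpecIso N.C).inv.hom c))
  have h2 := congrArg (fun φ => φ.hom c) (Scheme.ΓSpecIso_inv_naturality h)
  change (Scheme.ΓSpecIso C').inv.hom (h.hom c) =
    (Spec.map h).appTop.hom ((Scheme.ΓSpecIso N.C).inv.hom c) at h2
  rw [← h2]
  exact (congrArg (fun φ => φ.hom (h.hom c)) (Scheme.ΓSpecIso C').inv_hom_id).symm

/-- shrinking a pointed etale neighbourhood to an affine one inside a given open. -/
theorem exists_nbhd (U : AlgSp.EtOver X.obj) (l : (AlgSp.FieldPt.liftsTo p).obj U)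
    (O : U.obj.left.left.Opens)
    (hO : l.1.left (default : Spec (CommRingCat.of p.K)) ∈ O) :
    ∃ (N : Nbhd X p) (g : N.obj ⟶ U), (AlgSp.FieldPt.liftsTo p).map g N.pt = l ∧
      Set.range g.hom.left.left ⊆ O := by
  obtain ⟨C, j, hj, hx, hsub⟩ := Scheme.exists_affine_mem_range_and_range_subset
    (x := l.1.left (default : Spec (CommRingCat.of p.K))) (U := O) hO
  have hrange : Set.range l.1.left ⊆ Set.range j := by
    rintro _ ⟨a, rfl⟩
    have ha : a = (default : Spec (CommRingCat.of p.K)) :=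
      Subsingleton.elim (α := ↥(Spec (CommRingCat.of p.K))) a default
    rw [ha]
    exact hx
  let y₀ : Spec (CommRingCat.of p.K) ⟶ Spec C := IsOpenImmersion.lift j l.1.left hrange
  have hy₀ : y₀ ≫ j = l.1.left := IsOpenImmersion.lift_fac j l.1.left hrange
  let y : C ⟶ CommRingCat.of p.K := Spec.preimage y₀
  have hy : Spec.map y = y₀ := Spec.map_preimage _
  have hl : l.1.left ≫ U.obj.left.hom = p.str := Over.w l.1
  have hstr : Spec.map y ≫ j ≫ U.obj.left.hom = p.str := by
    rw [hy, ← Category.assoc, hy₀, hl]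
  let jj : Over.mk (j ≫ U.obj.left.hom) ⟶ U.obj.left := Over.homMk j rfl
  haveI : Etale jj.left := by
    change Etale j
    infer_instance
  have e : (Over.homMk (Spec.map y) hstr : p.pt ⟶ Over.mk (j ≫ U.obj.left.hom)) ≫ jj = l.1 := by
    apply Over.OverMorphism.ext
    change Spec.map y ≫ j = l.1.left
    rw [hy, hy₀]
  let N : Nbhd X p :=
    { C := C
      str := j ≫ U.obj.left.hom
      a := (AlgSp.yon S).map jj ≫ U.obj.hom
      et := Groth.Agent.Lib.Seat45.Charts.repWith_etale_comp jj U.obj.hom U.property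
      y := y
      hstr := hstr
      hy := by
        rw [← Category.assoc, ← Functor.map_comp, e]
        exact l.2 }
  refine ⟨N, AlgSp.EtOver.homMk jj rfl, ?_, hsub⟩
  apply Subtype.ext
  exact e

variable (X p)

include hp in
/-- finitely many elements of the etale local ring are germs on a common etale neighbourhood. -/
theorem exists_common (m : ℕ) (v : Fin m → ↥(A X p)) :
    ∃ (U : AlgSp.EtOver X.obj) (l : (AlgSp.FieldPt.liftsTo p).obj U)
      (w : Fin m → Γ(U.obj.left.left, ⊤)), ∀ i, (toA X p U l).hom (ULift.up (w i)) = v i := by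
  induction m with
  | zero =>
    obtain ⟨⟨U, l⟩⟩ := IsCofiltered.nonempty (C := (pnt X p hp).fiber.Elements)
    exact ⟨U, l, Fin.elim0, fun i => i.elim0⟩
  | succ m ih =>
    obtain ⟨U₁, x₁, w₁, h₁⟩ := ih (fun i => v i.castSucc)
    obtain ⟨U₂, x₂, z, hz⟩ := (pnt X p hp).toPresheafFiber_jointly_surjective
      (P := (AlgSp.OEt X.obj).obj) (v (Fin.last m))
    let e₁ : (pnt X p hp).fiber.Elements := ⟨U₁, x₁⟩
    let e₂ : (pnt X p hp).fiber.Elements := ⟨U₂, x₂⟩
    let e₃ := IsCofiltered.min e₁ e₂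
    let g₁ : e₃ ⟶ e₁ := IsCofiltered.minToLeft _ _
    let g₂ : e₃ ⟶ e₂ := IsCofiltered.minToRight _ _
    have hg₁ : (AlgSp.FieldPt.liftsTo p).map g₁.1 e₃.2 = x₁ := g₁.2
    have hg₂ : (AlgSp.FieldPt.liftsTo p).map g₂.1 e₃.2 = x₂ := g₂.2
    let z' : ↥((AlgSp.OEt X.obj).obj.obj (op U₂)) := z
    have hz' : (toA X p U₂ x₂).hom z' = v (Fin.last m) := hz
    let w₃ : Fin (m + 1) → Γ(e₃.1.obj.left.left, ⊤) :=
      Fin.lastCases (g₂.1.hom.left.left.appTop.hom z'.down)
        (fun i => g₁.1.hom.left.left.appTop.hom (w₁ i))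
    have hl : w₃ (Fin.last m) = g₂.1.hom.left.left.appTop.hom z'.down := Fin.lastCases_last
    have hc : ∀ i : Fin m, w₃ i.castSucc = g₁.1.hom.left.left.appTop.hom (w₁ i) :=
      fun i => Fin.lastCases_castSucc _
    refine ⟨e₃.1, e₃.2, w₃, fun i => ?_⟩
    refine Fin.lastCases ?_ (fun i => ?_) i
    · rw [hl, ← hz', ← hg₂, ← toA_w X p hp g₂.1 e₃.2]
      rfl
    · rw [hc, ← h₁ i, ← hg₁, ← toA_w X p hp g₁.1 e₃.2]
      rfl

include hp in
/-- finitely many elements of the etale local ring are germs on a common affine neighbourhood. -/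
theorem exists_nbhd_common (m : ℕ) (v : Fin m → ↥(A X p)) :
    ∃ (N : Nbhd X p) (c : Fin m → ↥N.C), ∀ i, N.germ (c i) = v i := by
  obtain ⟨U, l, w, hw⟩ := exists_common X p hp m v
  obtain ⟨N, g, hg, -⟩ := exists_nbhd U l ⊤ trivial
  refine ⟨N, fun i => N.res g (w i), fun i => ?_⟩
  rw [N.germ_res hp g l hg, hw i]

include hp in
theorem exists_nbhd_germ (a : ↥(A X p)) : ∃ (N : Nbhd X p) (c : ↥N.C), N.germ c = a := by
  obtain ⟨N, c, hc⟩ := exists_nbhd_common X p hp 1 (fun _ => a)
  exact ⟨N, c 0, hc 0⟩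

variable {X p}

theorem etale_specMap_algebraMap (B : CommRingCat.{u}) (C' : Type u) [CommRing C'] [Algebra B C']
    [Algebra.Etale B C'] : Etale (Spec.map (CommRingCat.ofHom (algebraMap B C'))) :=
  (HasRingHomProperty.Spec_iff (P := @Etale)).mpr (RingHom.etale_algebraMap.mpr inferInstance)

/-- refinement of an affine pointed neighbourhood along an etale algebra. -/
noncomputable abbrev Nbhd.refineAlg (N : Nbhd X p) (C' : Type u) [CommRing C'] [Algebra N.C C']
    [Algebra.Etale N.C C'] (y' : C' →+* p.K) (hy' : ∀ c, y' (algebraMap N.C C' c) = N.y.hom c) :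
    Nbhd X p :=
  haveI := etale_specMap_algebraMap N.C C'
  N.refine (CommRingCat.ofHom (algebraMap N.C C')) (CommRingCat.ofHom y') (by ext c; exact hy' c)

theorem Nbhd.refineAlg_C (N : Nbhd X p) (C' : Type u) [CommRing C'] [Algebra N.C C']
    [Algebra.Etale N.C C'] (y' : C' →+* p.K) (hy' : ∀ c, y' (algebraMap N.C C' c) = N.y.hom c) :
    (N.refineAlg C' y' hy').C = CommRingCat.of C' := rfl

include hp in
theorem Nbhd.refineAlg_germ (N : Nbhd X p) (C' : Type u) [CommRing C'] [Algebra N.C C']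
    [Algebra.Etale N.C C'] (y' : C' →+* p.K) (hy' : ∀ c, y' (algebraMap N.C C' c) = N.y.hom c)
    (c : ↥N.C) : (N.refineAlg C' y' hy').germ (algebraMap N.C C' c) = N.germ c :=
  haveI := etale_specMap_algebraMap N.C C'
  N.refine_germ hp (CommRingCat.ofHom (algebraMap N.C C')) (CommRingCat.ofHom y')
    (by ext c; exact hy' c) c

theorem Nbhd.refineAlg_y (N : Nbhd X p) (C' : Type u) [CommRing C'] [Algebra N.C C']
    [Algebra.Etale N.C C'] (y' : C' →+* p.K) (hy' : ∀ c, y' (algebraMap N.C C' c) = N.y.hom c)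
    (c' : C') : (N.refineAlg C' y' hy').y.hom c' = y' c' := rfl

include hp in
/-- a germ not vanishing at the point is a unit. -/
theorem Nbhd.isUnit_germ (N : Nbhd X p) (c : ↥N.C) (hc : N.y.hom c ≠ 0) : IsUnit (N.germ c) := by
  have hu : IsUnit (N.y.hom c) := IsUnit.mk0 _ hc
  let y' : Localization.Away c →+* p.K := IsLocalization.Away.lift c hu
  have hy' : ∀ d, y' (algebraMap N.C (Localization.Away c) d) = N.y.hom d :=
    fun d => IsLocalization.Away.lift_eq c hu d
  haveI : Algebra.Etale N.C (Localization.Away c) := Algebra.Etale.of_isLocalizationAway c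
  rw [← N.refineAlg_germ hp (Localization.Away c) y' hy' c]
  exact (IsLocalization.Away.algebraMap_isUnit c).map _

variable (X p)

include hp in
theorem isUnit_iff (a : ↥(A X p)) : IsUnit a ↔ ev X p hp a ≠ 0 := by
  constructor
  · intro h
    exact (h.map (ev X p hp)).ne_zero
  · intro h
    obtain ⟨N, c, rfl⟩ := exists_nbhd_germ X p hp a
    rw [N.ev_germ hp] at h
    exact N.isUnit_germ hp c h

include hp in
theorem nontrivial : Nontrivial ↥(A X p) := (ev X p hp).domain_nontrivial

include hp in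
theorem isLocalRing : IsLocalRing ↥(A X p) := by
  haveI := nontrivial X p hp
  refine IsLocalRing.of_nonunits_add (fun a b ha hb => ?_)
  rw [mem_nonunits_iff, isUnit_iff X p hp, not_not] at ha hb ⊢
  rw [map_add, ha, hb, add_zero]

theorem mem_maximalIdeal_iff [IsLocalRing ↥(A X p)] (a : ↥(A X p)) :
    a ∈ IsLocalRing.maximalIdeal ↥(A X p) ↔ ev X p hp a = 0 := by
  rw [IsLocalRing.mem_maximalIdeal, mem_nonunits_iff, isUnit_iff X p hp, not_not]

variable {X p}

open Polynomial in
include hp in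
/-- **Key construction**: a simple root in `K` of a monic polynomial defined on an affine etale
neighbourhood lifts to a root in the etale local ring. -/
theorem Nbhd.exists_root (N : Nbhd X p) (F : Polynomial ↥N.C) (hF : F.Monic) (α : p.K)
    (h0 : F.eval₂ N.y.hom α = 0) (h1 : F.derivative.eval₂ N.y.hom α ≠ 0) :
    ∃ a : ↥(A X p), (F.map N.germ).IsRoot a ∧ ev X p hp a = α := by
  letI : Algebra N.C p.K := N.y.hom.toAlgebra
  let P : StandardEtalePair N.C := ⟨F, hF, derivative F, ⟨1, 0, 1, by simp⟩⟩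
  have hmap : P.HasMap α := by
    refine ⟨?_, ?_⟩
    · change aeval α F = 0
      rw [aeval_def]
      exact h0
    · change IsUnit (aeval α (derivative F))
      rw [aeval_def]
      exact IsUnit.mk0 _ h1
  let y' : P.Ring →+* p.K := (P.lift α hmap).toRingHom
  have hy' : ∀ c, y' (algebraMap N.C P.Ring c) = N.y.hom c := fun c => (P.lift α hmap).commutes c
  let N' := N.refineAlg P.Ring y' hy'
  refine ⟨N'.germ P.X, ?_, ?_⟩
  · have hg : N.germ = N'.germ.comp (algebraMap N.C P.Ring) := by
      ext c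
      exact (N.refineAlg_germ hp P.Ring y' hy' c).symm
    have h0' : aeval P.X F = 0 := (StandardEtalePair.hasMap_X (P := P)).1
    rw [IsRoot.def, hg, ← Polynomial.map_map, Polynomial.eval_map, Polynomial.eval₂_hom,
      Polynomial.eval_map, ← aeval_def, h0', map_zero]
  · rw [N'.ev_germ hp]
    exact P.lift_X α hmap

variable (X p)

include hp in
/-- a monic polynomial over the etale local ring, together with an element, comes from a common
affine pointed etale neighbourhood. -/
theorem exists_nbhd_poly (f : Polynomial ↥(A X p)) (hf : f.Monic) (a₀ : ↥(A X p)) :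
    ∃ (N : Nbhd X p) (F : Polynomial ↥N.C) (b₀ : ↥N.C),
      F.Monic ∧ F.map N.germ = f ∧ N.germ b₀ = a₀ := by
  haveI := nontrivial X p hp
  obtain ⟨N, c, hc⟩ := exists_nbhd_common X p hp (f.natDegree + 1 + 1)
    (Fin.lastCases a₀ (fun i : Fin (f.natDegree + 1) => f.coeff i))
  have hl : f ∈ Polynomial.lifts N.germ := by
    rw [Polynomial.lifts_iff_coeff_lifts]
    intro k
    by_cases hk : k < f.natDegree + 1
    · refine ⟨c (Fin.castSucc ⟨k, hk⟩), ?_⟩
      rw [hc, Fin.lastCases_castSucc]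
    · refine ⟨0, ?_⟩
      rw [map_zero, Polynomial.coeff_eq_zero_of_natDegree_lt (by omega)]
  obtain ⟨F, hFmap, -, hFmonic⟩ := Polynomial.lifts_and_degree_eq_and_monic hl hf
  refine ⟨N, F, c (Fin.last _), hFmonic, hFmap, ?_⟩
  rw [hc, Fin.lastCases_last]

variable {X p}

theorem Nbhd.ev_eval_map (N : Nbhd X p) (F : Polynomial ↥N.C) (a : ↥(A X p)) :
    ev X p hp ((F.map N.germ).eval a) = F.eval₂ N.y.hom (ev X p hp a) := by
  have h : (ev X p hp).comp N.germ = N.y.hom := by
    ext c
    exact N.ev_germ hp c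
  rw [Polynomial.eval_map, Polynomial.hom_eval₂, h]

variable (X p)

include hp in
/-- the etale local ring is henselian. -/
theorem henselianLocalRing : HenselianLocalRing ↥(A X p) := by
  haveI : IsAlgClosed p.K := hp
  haveI := isLocalRing X p hp
  refine { is_henselian := fun f hf a₀ h0 h1 => ?_ }
  obtain ⟨N, F, b₀, hFm, hFmap, hb₀⟩ := exists_nbhd_poly X p hp f hf a₀
  rw [mem_maximalIdeal_iff X p hp, ← hFmap, N.ev_eval_map hp] at h0
  have h1' : ev X p hp (f.derivative.eval a₀) ≠ 0 := (h1.map (ev X p hp)).ne_zero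
  rw [← hFmap, Polynomial.derivative_map, N.ev_eval_map hp] at h1'
  obtain ⟨a, ha, hα⟩ := N.exists_root hp F hFm _ h0 h1'
  refine ⟨a, hFmap ▸ ha, ?_⟩
  rw [mem_maximalIdeal_iff X p hp, map_sub, hα, sub_self]

theorem isLocalHom_ev : IsLocalHom (ev X p hp) where
  map_nonunit a ha := (isUnit_iff X p hp a).mpr ha.ne_zero

/-- the embedding of the residue field of the etale local ring into `K`. -/
noncomputable def resEmb [IsLocalRing ↥(A X p)] : IsLocalRing.ResidueField ↥(A X p) →+* p.K :=
  haveI := isLocalHom_ev X p hp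
  IsLocalRing.ResidueField.lift (ev X p hp)

theorem resEmb_comp [IsLocalRing ↥(A X p)] :
    (resEmb X p hp).comp (IsLocalRing.residue ↥(A X p)) = ev X p hp :=
  haveI := isLocalHom_ev X p hp
  IsLocalRing.ResidueField.lift_comp_residue _

include hp in
/-- the residue field of the etale local ring is separably closed. -/
theorem isSepClosed_residueField [IsLocalRing ↥(A X p)] :
    IsSepClosed (IsLocalRing.ResidueField ↥(A X p)) := by
  haveI : IsAlgClosed p.K := hp
  refine IsSepClosed.of_exists_root _ (fun q hq hirr hsep => ?_)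
  have hl : q ∈ Polynomial.lifts (IsLocalRing.residue ↥(A X p)) :=
    (Polynomial.mem_lifts q).2 (Polynomial.map_surjective _ IsLocalRing.residue_surjective q)
  obtain ⟨f, hfmap, -, hfm⟩ := Polynomial.lifts_and_degree_eq_and_monic hl hq
  obtain ⟨N, F, -, hFm, hFmap, -⟩ := exists_nbhd_poly X p hp f hfm 0
  have hcomp : (ev X p hp).comp N.germ = N.y.hom := by
    ext c
    exact N.ev_germ hp c
  have hpF : q.map (resEmb X p hp) = F.map N.y.hom := by
    rw [← hfmap, Polynomial.map_map, resEmb_comp, ← hFmap, Polynomial.map_map, hcomp]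
  have hsep' : (F.map N.y.hom).Separable := hpF ▸ hsep.map
  have hdeg : (F.map N.y.hom).degree ≠ 0 := by
    rw [← hpF, Polynomial.degree_map]
    exact (Polynomial.degree_pos_of_irreducible hirr).ne'
  obtain ⟨α, hα⟩ := IsSepClosed.exists_root _ hdeg hsep'
  have h0 : F.eval₂ N.y.hom α = 0 := by
    rw [← Polynomial.eval_map]
    exact hα
  have h1 : F.derivative.eval₂ N.y.hom α ≠ 0 := by
    have := hsep'.eval₂_derivative_ne_zero (RingHom.id p.K) (x := α)
      (by rw [Polynomial.eval₂_id]; exact hα)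
    rwa [Polynomial.eval₂_id, Polynomial.derivative_map, Polynomial.eval_map] at this
  obtain ⟨a, ha, -⟩ := N.exists_root hp F hFm α h0 h1
  refine ⟨IsLocalRing.residue ↥(A X p) a, ?_⟩
  rw [← hfmap, Polynomial.eval_map, Polynomial.eval₂_at_apply, ← hFmap]
  rw [Polynomial.IsRoot.def] at ha
  rw [ha, map_zero]

include hp in
/-- **The etale local ring at a geometric point is strictly henselian.** -/
theorem isStrictlyHenselian : EtCoh.IsStrictlyHenselianLocalRing ↥(AlgSp.OEtStalk p) := by
  haveI := henselianLocalRing X p hp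
  exact ⟨henselianLocalRing X p hp, isSepClosed_residueField X p hp⟩

variable {X p}

end Groth.Agent.Lib.Seat48.OEtLocal
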