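import Mathlib
import Groth.Agent.Lib.Seat48OEtLocal

/-!
# Affine pointed etale neighbourhoods over a fixed one (seat 48)

Namespace `Groth.Agent.Lib.Seat48.OEtLocal`.
-/

set_option autoImplicit false
set_option linter.style.haveILetI false
set_option linter.unusedSectionVars false
set_option backward.isDefEq.respectTransparency false

universe u

open CategoryTheory CategoryTheory.Limits AlgebraicGeometry Opposite

namespace Groth.Agent.Lib.Seat48.OEtLocal

open AlgSp
open Groth.Agent.Lib.Helper9.SpPoint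

variable {S : Scheme.{u}} {X : AlgSp.Space S} {p : AlgSp.FieldPt X.obj} (hp : p.IsGeometric)

/-- an affine pointed etale neighbourhood over a fixed one. -/
structure NbhdOver (N₀ : Nbhd X p) where
  /-- the neighbourhood -/
  N : Nbhd X p
  /-- the structure morphism -/
  g : N.obj ⟶ N₀.obj
  hg : (AlgSp.FieldPt.liftsTo p).map g N.pt = N₀.pt

variable {N₀ : Nbhd X p}

/-- the ring map of a neighbourhood over `N₀`. -/
noncomputable def NbhdOver.h (M : NbhdOver N₀) : N₀.C ⟶ M.N.C := Spec.preimage M.g.hom.left.left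

theorem NbhdOver.specMap_h (M : NbhdOver N₀) : Spec.map M.h = M.g.hom.left.left :=
  Spec.map_preimage _

theorem NbhdOver.h_y (M : NbhdOver N₀) : M.h ≫ M.N.y = N₀.y := by
  apply Spec.map_injective
  rw [Spec.map_comp, M.specMap_h]
  have h1 := congrArg (fun l => l.1.left) M.hg
  exact h1

theorem NbhdOver.h_y_apply (M : NbhdOver N₀) (b : ↥N₀.C) : M.N.y.hom (M.h.hom b) = N₀.y.hom b :=
  congrArg (fun φ => φ.hom b) M.h_y

theorem specMap_appTop_apply {B C : CommRingCat.{u}} (h : B ⟶ C) (b : ↥B) :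
    (Scheme.ΓSpecIso C).hom.hom ((Spec.map h).appTop.hom ((Scheme.ΓSpecIso B).inv.hom b)) =
      h.hom b := by
  have h2 := congrArg (fun φ => φ.hom b) (Scheme.ΓSpecIso_inv_naturality h)
  change (Scheme.ΓSpecIso C).inv.hom (h.hom b) =
    (Spec.map h).appTop.hom ((Scheme.ΓSpecIso B).inv.hom b) at h2
  rw [← h2]
  exact congrArg (fun φ => φ.hom (h.hom b)) (Scheme.ΓSpecIso C).inv_hom_id

theorem NbhdOver.res_eq (M : NbhdOver N₀) (b : ↥N₀.C) :
    M.N.res M.g ((Scheme.ΓSpecIso N₀.C).inv.hom b) = M.h.hom b := by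
  have key : ∀ (f : Spec M.N.C ⟶ Spec N₀.C) (_ : Spec.map M.h = f),
      (Scheme.ΓSpecIso M.N.C).hom.hom (f.appTop.hom ((Scheme.ΓSpecIso N₀.C).inv.hom b)) =
        M.h.hom b := by
    intro f e
    subst e
    exact specMap_appTop_apply _ _
  exact key M.g.hom.left.left M.specMap_h

include hp in
theorem NbhdOver.germ_h (M : NbhdOver N₀) (b : ↥N₀.C) : M.N.germ (M.h.hom b) = N₀.germ b := by
  rw [← M.res_eq, M.N.germ_res hp M.g N₀.pt M.hg, N₀.germ_apply]

theorem NbhdOver.etale_h (M : NbhdOver N₀) : M.h.hom.Etale := by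
  have h1 : Etale (Spec.map M.h) := by
    rw [M.specMap_h]
    exact AlgSp.EtOver.etale_left M.g
  exact (HasRingHomProperty.Spec_iff (P := @Etale)).mp h1

/-- the identity neighbourhood over `N₀`. -/
noncomputable def NbhdOver.self (N₀ : Nbhd X p) : NbhdOver N₀ where
  N := N₀
  g := 𝟙 _
  hg := by simp

theorem NbhdOver.self_h (N₀ : Nbhd X p) : (NbhdOver.self N₀).h = 𝟙 _ := by
  apply Spec.map_injective
  rw [NbhdOver.specMap_h, Spec.map_id]
  rfl

include hp in
/-- every element of the etale local ring is a germ on a neighbourhood over `N₀`. -/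
theorem exists_over (N₀ : Nbhd X p) (a : ↥(A X p)) :
    ∃ (M : NbhdOver N₀) (c : ↥M.N.C), M.N.germ c = a := by
  obtain ⟨U, l, w, hw⟩ := exists_common X p hp 1 (fun _ => a)
  let e₁ : (pnt X p hp).fiber.Elements := ⟨U, l⟩
  let e₂ : (pnt X p hp).fiber.Elements := ⟨N₀.obj, N₀.pt⟩
  let e₃ := IsCofiltered.min e₁ e₂
  let g₁ : e₃ ⟶ e₁ := IsCofiltered.minToLeft _ _
  let g₂ : e₃ ⟶ e₂ := IsCofiltered.minToRight _ _
  have hg₁ : (AlgSp.FieldPt.liftsTo p).map g₁.1 e₃.2 = l := g₁.2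
  have hg₂ : (AlgSp.FieldPt.liftsTo p).map g₂.1 e₃.2 = N₀.pt := g₂.2
  obtain ⟨N, g', hg', -⟩ := exists_nbhd e₃.1 e₃.2 ⊤ trivial
  refine ⟨⟨N, g' ≫ g₂.1, ?_⟩, N.res (g' ≫ g₁.1) (w 0), ?_⟩
  · rw [Functor.map_comp_apply, hg', hg₂]
  · rw [N.germ_res hp (g' ≫ g₁.1) l (by rw [Functor.map_comp_apply, hg', hg₁]), hw 0]

end Groth.Agent.Lib.Seat48.OEtLocal
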