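import Mathlib
import Groth.Agent.Lib.Seat48OEtOver

/-!
# Maps out of the etale local ring from compatible families on affine neighbourhoods over a fixed
one (seat 48)

Namespace `Groth.Agent.Lib.Seat48.OEtLocal`.
-/

set_option autoImplicit false
set_option linter.style.haveILetI false
set_option linter.unusedSectionVars false
set_option backward.isDefEq.respectTransparency false

universe u

open CategoryTheory CategoryTheory.Limits AlgebraicGeometry Opposite

namespace Groth.Agent.Lib.Seat48.OEtLocal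

open AlgSp
open Groth.Agent.Lib.Helper9.SpPoint

variable {S : Scheme.{u}} {X : AlgSp.Space S} {p : AlgSp.FieldPt X.obj} (hp : p.IsGeometric)
  {N₀ : Nbhd X p}

/-- composition of neighbourhoods over one another. -/
noncomputable def NbhdOver.comp (M' : NbhdOver N₀) (K : NbhdOver M'.N) : NbhdOver N₀ where
  N := K.N
  g := K.g ≫ M'.g
  hg := by rw [Functor.map_comp_apply, K.hg, M'.hg]

theorem NbhdOver.comp_h (M' : NbhdOver N₀) (K : NbhdOver M'.N) :
    (M'.comp K).h = M'.h ≫ K.h := by
  apply Spec.map_injective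
  rw [Spec.map_comp, NbhdOver.specMap_h, NbhdOver.specMap_h, NbhdOver.specMap_h]
  rfl

/-- the object of the category of etale neighbourhoods. -/
noncomputable abbrev Nbhd.el (N : Nbhd X p) : AlgSp.EtNbhd p := ⟨N.obj, N.pt⟩

/-- a neighbourhood over `N₀` as an object over `N₀`. -/
noncomputable def NbhdOver.toOver (M : NbhdOver N₀) : Over N₀.el :=
  Over.mk (⟨M.g, M.hg⟩ : M.N.el ⟶ N₀.el)

variable (N₀) in
/-- the category of affine pointed neighbourhoods over `N₀`. -/
abbrev GCat : Type (u + 1) := InducedCategory (Over N₀.el) (NbhdOver.toOver (N₀ := N₀))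

variable (N₀) in
/-- the forgetful functor to all etale neighbourhoods. -/
noncomputable abbrev GFun : GCat N₀ ⥤ AlgSp.EtNbhd p :=
  inducedFunctor (NbhdOver.toOver (N₀ := N₀)) ⋙ Over.forget N₀.el

include hp in
theorem initial_GFun : (GFun N₀).Initial := by
  haveI : IsCofiltered (AlgSp.EtNbhd p) := (pnt X p hp).isCofiltered
  haveI : (inducedFunctor (NbhdOver.toOver (N₀ := N₀))).Initial := by
    refine Functor.initial_of_exists_of_isCofiltered_of_fullyFaithful _ (fun d => ?_)
    obtain ⟨N, g, hg, -⟩ := exists_nbhd d.left.1 d.left.2 ⊤ trivial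
    let r : d.left ⟶ N₀.el := d.hom
    have hr : (AlgSp.FieldPt.liftsTo p).map r.1 d.left.2 = N₀.pt := r.2
    let M : NbhdOver N₀ := ⟨N, g ≫ r.1, by rw [Functor.map_comp_apply, hg, hr]⟩
    refine ⟨M, ⟨Over.homMk (⟨g, hg⟩ : N.el ⟶ d.left) ?_⟩⟩
    apply Subtype.ext
    rfl
  exact Functor.initial_comp _ _

/-- the ring map to a ring `T` lifted one universe, from a family member. -/
noncomputable def liftComp (T : Type u) [CommRing T] (N : Nbhd X p) (φ : ↥N.C →+* T) :
    (AlgSp.OEt X.obj).obj.obj (op N.obj) ⟶ CommRingCat.of (ULift.{u + 1} T) :=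
  CommRingCat.ofHom ((ULift.ringEquiv.symm : T ≃+* ULift.{u + 1} T).toRingHom.comp
    (φ.comp ((Scheme.ΓSpecIso N.C).hom.hom.comp
      (ULift.ringEquiv : ULift.{u + 1} Γ(Spec N.C, ⊤) ≃+* _).toRingHom)))

theorem liftComp_apply (T : Type u) [CommRing T] (N : Nbhd X p) (φ : ↥N.C →+* T)
    (s : ↥((AlgSp.OEt X.obj).obj.obj (op N.obj))) :
    ((liftComp T N φ).hom s).down = φ ((Scheme.ΓSpecIso N.C).hom.hom s.down) := rfl

theorem compat_of (T : Type u) [CommRing T] (fam : ∀ M : NbhdOver N₀, ↥M.N.C →+* T)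
    (compat : ∀ (M' : NbhdOver N₀) (K : NbhdOver M'.N) (c' : ↥M'.N.C),
      fam (M'.comp K) (K.h.hom c') = fam M' c')
    (M : NbhdOver N₀) (N' : Nbhd X p) (k : N'.obj ⟶ M.N.obj)
    (hk₁ : (AlgSp.FieldPt.liftsTo p).map k N'.pt = M.N.pt) (g' : N'.obj ⟶ N₀.obj)
    (hg' : (AlgSp.FieldPt.liftsTo p).map g' N'.pt = N₀.pt) (hk₂ : k ≫ M.g = g')
    (c : ↥M.N.C) :
    fam ⟨N', g', hg'⟩ ((⟨N', k, hk₁⟩ : NbhdOver M.N).h.hom c) = fam M c := by
  subst hk₂
  exact compat M ⟨N', k, hk₁⟩ c

include hp in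
/-- **a compatible family of ring maps on the affine neighbourhoods over `N₀` induces a map on the
etale local ring.** -/
theorem exists_desc (T : Type u) [CommRing T] (fam : ∀ M : NbhdOver N₀, ↥M.N.C →+* T)
    (compat : ∀ (M' : NbhdOver N₀) (K : NbhdOver M'.N) (c' : ↥M'.N.C),
      fam (M'.comp K) (K.h.hom c') = fam M' c') :
    ∃ Φ : ↥(A X p) →+* T, ∀ (M : NbhdOver N₀) (c : ↥M.N.C), Φ (M.N.germ c) = fam M c := by
  haveI := initial_GFun hp (N₀ := N₀)
  have hcol : IsColimit ((colimit.cocone (AlgSp.stalkEtDiagram p (AlgSp.OEt X.obj))).whisker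
      (GFun N₀).op) :=
    (Functor.Final.isColimitWhiskerEquiv (GFun N₀).op _).symm (colimit.isColimit _)
  let cc : Cocone ((GFun N₀).op ⋙ AlgSp.stalkEtDiagram p (AlgSp.OEt X.obj)) :=
    { pt := CommRingCat.of (ULift.{u + 1} T)
      ι :=
        { app := fun M => liftComp T (M.unop : NbhdOver N₀).N (fam (M.unop : NbhdOver N₀))
          naturality := by
            intro M M' f
            refine Eq.trans ?_ (Category.comp_id _).symm
            -- the underlying morphism of neighbourhoods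
            obtain ⟨M⟩ := M
            obtain ⟨M'⟩ := M'
            change NbhdOver N₀ at M M'
            let k : M'.toOver ⟶ M.toOver := f.unop.hom
            let k₁ : M'.N.el ⟶ M.N.el := k.left
            have hk₁ : (AlgSp.FieldPt.liftsTo p).map k₁.1 M'.N.pt = M.N.pt := k₁.2
            have hk₂ : k₁.1 ≫ M.g = M'.g := by
              have := Over.w k
              exact congrArg Subtype.val this
            let K : NbhdOver M.N := ⟨M'.N, k₁.1, hk₁⟩
            ext s
            apply ULift.ext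
            change fam M' ((Scheme.ΓSpecIso M'.N.C).hom.hom (k₁.1.hom.left.left.appTop.hom s.down)) =
              fam M ((Scheme.ΓSpecIso M.N.C).hom.hom s.down)
            have h1 : (Scheme.ΓSpecIso M'.N.C).hom.hom (k₁.1.hom.left.left.appTop.hom s.down) =
                K.h.hom ((Scheme.ΓSpecIso M.N.C).hom.hom s.down) := by
              have h2 := K.res_eq ((Scheme.ΓSpecIso M.N.C).hom.hom s.down)
              rw [← h2]
              change _ = (Scheme.ΓSpecIso M'.N.C).hom.hom (k₁.1.hom.left.left.appTop.hom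
                ((Scheme.ΓSpecIso M.N.C).inv.hom ((Scheme.ΓSpecIso M.N.C).hom.hom s.down)))
              congr 2
              exact (congrArg (fun φ => φ.hom s.down) (Scheme.ΓSpecIso M.N.C).hom_inv_id).symm
            rw [h1]
            exact compat_of T fam compat M M'.N k₁.1 hk₁ M'.g M'.hg hk₂ _ } }
  let Φ₀ := hcol.desc cc
  have hfac : ∀ M : NbhdOver N₀, toA X p M.N.obj M.N.pt ≫ Φ₀ = liftComp T M.N (fam M) :=
    fun M => hcol.fac cc (op M)
  refine ⟨(ULift.ringEquiv : ULift.{u + 1} T ≃+* T).toRingHom.comp Φ₀.hom, fun M c => ?_⟩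
  rw [M.N.germ_apply]
  have h1 := congrArg (fun φ => (φ.hom (ULift.up ((Scheme.ΓSpecIso M.N.C).inv.hom c))).down)
    (hfac M)
  change (Φ₀.hom ((toA X p M.N.obj M.N.pt).hom (ULift.up ((Scheme.ΓSpecIso M.N.C).inv.hom c)))).down =
    fam M ((Scheme.ΓSpecIso M.N.C).hom.hom ((Scheme.ΓSpecIso M.N.C).inv.hom c)) at h1
  have h2 : (Scheme.ΓSpecIso M.N.C).hom.hom ((Scheme.ΓSpecIso M.N.C).inv.hom c) = c :=
    congrArg (fun φ => φ.hom c) (Scheme.ΓSpecIso M.N.C).inv_hom_id
  rw [h2] at h1
  exact h1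

end Groth.Agent.Lib.Seat48.OEtLocal
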