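import Mathlib
import Groth.Agent.Lib.Helper3ShG

/-!
# Lifting maps out of the strict henselization `Rsh R Ω` into henselian local rings of any universe
(seat 48)

Namespace `Groth.Agent.Lib.Seat48.ShLift`.
-/

set_option autoImplicit false
set_option linter.style.haveILetI false

universe u v

namespace Groth.Agent.Lib.Seat48.ShLift

open IsLocalRing Groth.Agent.Lib.Helper3.Sh Groth.Agent.Lib.Helper3.EssEt

variable {R : Type u} [CommRing R] [IsLocalRing R] {Ω : Type u} [Field Ω] [Algebra R Ω]
  [Algebra (ResidueField R) Ω] [IsScalarTower R (ResidueField R) Ω]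

set_option maxHeartbeats 1000000 in
/-- maps out of `Rsh R Ω` into a henselian local ring `T` (any universe) whose residue field is
identified with `Ω` through a surjection `u : T → Ω`. -/
theorem exists_lift (T : Type v) [CommRing T] [HenselianLocalRing T] (f : R →+* T) [IsLocalHom f]
    (u : T →+* Ω) (hu : Function.Surjective u) (hker : ∀ t, u t = 0 ↔ t ∈ maximalIdeal T)
    (huf : ∀ r, u (f r) = algebraMap R Ω r) :
    ∃ g : Rsh R Ω →+* T, g.comp (algebraMap R (Rsh R Ω)) = f ∧ ∀ x, u (g x) = toΩ x := by
  haveI : IsLocalHom u := by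
    constructor
    intro a ha
    by_contra hna
    have h1 : a ∈ maximalIdeal T := hna
    rw [← hker] at h1
    rw [h1] at ha
    exact not_isUnit_zero ha
  let uκ₀ : ResidueField T →+* Ω := ResidueField.lift u
  have huκ₀ : ∀ t, uκ₀ (residue T t) = u t := fun t => ResidueField.lift_residue_apply _ _
  have hbij : Function.Bijective uκ₀ := by
    refine ⟨uκ₀.injective, fun ω => ?_⟩
    obtain ⟨t, rfl⟩ := hu ω
    exact ⟨residue T t, huκ₀ t⟩
  let uκ : ResidueField T ≃+* Ω := RingEquiv.ofBijective uκ₀ hbij
  have huκ : ∀ t, uκ (residue T t) = u t := huκ₀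
  let α : ∀ i : Idx R Ω, ResidueField i.L →+* ResidueField T :=
    fun i => (uκ.symm : Ω →+* ResidueField T).comp i.embL.toRingHom
  have hαres : ∀ i (x : i.L), uκ (α i (residue _ x)) = i.toΩ x := by
    intro i x
    simp only [α, RingHom.comp_apply, RingHom.coe_coe, RingEquiv.apply_symm_apply]
    rfl
  have hα : ∀ i, (α i).comp (ResidueField.map (algebraMap R i.L)) = ResidueField.map f := by
    intro i
    ext x
    obtain ⟨r, rfl⟩ := residue_surjective x
    apply uκ.injective
    simp only [RingHom.comp_apply, ResidueField.map_residue]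
    rw [hαres, huκ, huf, AlgHom.commutes]
  have hex : ∀ i : Idx R Ω, ∃! ψ' : i.L →+* T, IsLocalHom ψ' ∧ ψ'.comp (algebraMap R i.L) = f ∧
      ∀ x, residue T (ψ' x) = α i (residue _ x) :=
    fun i => existsUnique_lift R i.L i.isEssentiallyEtale T f (α i) (hα i)
  choose g hg huniq using hex
  have hcompat : ∀ (i j : Idx R Ω) (h : i ≤ j) (x : i.L), g j (fmap' i j h x) = g i x := by
    intro i j h x
    have : (g j).comp (fmap' i j h) = g i := by
      apply huniq i
      haveI := (hg j).1
      refine ⟨RingHom.isLocalHom_comp _ _, ?_, ?_⟩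
      · ext r
        simp only [RingHom.comp_apply]
        have h1 : fmap' i j h (algebraMap R i.L r) = algebraMap R j.L r := (fmap i j h).commutes r
        rw [h1]
        exact congrArg (fun φ => φ r) (hg j).2.1
      · intro x
        simp only [RingHom.comp_apply]
        rw [(hg j).2.2]
        apply uκ.injective
        rw [hαres, hαres]
        exact fmap_compat i j h x
    exact congrArg (fun φ => φ x) this
  let G : Rsh R Ω →+* T := Ring.DirectLimit.lift _ _ T g hcompat
  have hG : ∀ i x, G (ofL i x) = g i x := fun i x => Ring.DirectLimit.lift_of _ _ _ _ _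
  refine ⟨G, ?_, ?_⟩
  · ext r
    let i : Idx R Ω := Classical.arbitrary _
    simp only [RingHom.comp_apply]
    rw [algebraMap_eq i, hG]
    exact congrArg (fun φ => φ r) (hg i).2.1
  · intro z
    obtain ⟨i, x, rfl⟩ := exists_ofL z
    rw [hG, ← huκ, (hg i).2.2, hαres, toΩ_ofL]

end Groth.Agent.Lib.Seat48.ShLift
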