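import Mathlib
import Groth.Agent.Lib.Seat48OEtDesc
import Groth.Agent.Lib.Seat48ShLift
import Groth.Agent.Lib.Helper3IndEtDesc
import Groth.Agent.Lib.Helper3IndEtField

/-!
# The etale local ring of an algebraic space at a geometric point is a strict henselization of the
local ring of an affine etale neighbourhood (seat 48)

Namespace `Groth.Agent.Lib.Seat48.OEtLocal`.
-/

set_option autoImplicit false
set_option linter.style.haveILetI false
set_option linter.unusedSectionVars false
set_option backward.isDefEq.respectTransparency false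

universe u

open CategoryTheory CategoryTheory.Limits AlgebraicGeometry Opposite

namespace Groth.Agent.Lib.Seat48.OEtLocal

open AlgSp IsLocalRing
open Groth.Agent.Lib.Helper9.SpPoint
open Groth.Agent.Lib.Helper3.Sh

variable {S : Scheme.{u}} {X : AlgSp.Space S} {p : AlgSp.FieldPt X.obj} (hp : p.IsGeometric)

/-- the subfield of `K` of values of the etale local ring. -/
noncomputable def Ωsub : Subfield p.K :=
  { (ev X p hp).range with
    inv_mem' := by
      rintro _ ⟨a, rfl⟩
      by_cases h : ev X p hp a = 0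
      · rw [h, inv_zero]
        exact ⟨0, map_zero _⟩
      · obtain ⟨b, hb⟩ := ((isUnit_iff X p hp a).2 h).exists_right_inv
        refine ⟨b, ?_⟩
        have h1 : ev X p hp a * ev X p hp b = 1 := by rw [← map_mul, hb, map_one]
        exact eq_inv_of_mul_eq_one_right h1 }

/-- the field of values of the etale local ring. -/
abbrev Om : Type u := ↥(Ωsub (X := X) (p := p) hp)

/-- evaluation at the point, as a map onto the field of values. -/
noncomputable def evΩ : ↥(A X p) →+* Om hp :=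
  RingHom.codRestrict (ev X p hp) (Ωsub hp) (fun a => ⟨a, rfl⟩)

theorem evΩ_coe (a : ↥(A X p)) : ((evΩ hp a : Om hp) : p.K) = ev X p hp a := rfl

theorem evΩ_surjective : Function.Surjective (evΩ (X := X) (p := p) hp) := by
  rintro ⟨ω, a, rfl⟩
  exact ⟨a, rfl⟩

theorem evΩ_eq_zero_iff (a : ↥(A X p)) : evΩ hp a = 0 ↔ ev X p hp a = 0 := by
  constructor
  · intro h
    have := congrArg (fun ω : Om hp => (ω : p.K)) h
    exact this
  · intro h
    apply Subtype.ext
    exact h

/-- the prime ideal of the point of an affine pointed neighbourhood. -/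
def Nbhd.P (N : Nbhd X p) : Ideal ↥N.C := RingHom.ker N.y.hom

theorem Nbhd.mem_P (N : Nbhd X p) (c : ↥N.C) : c ∈ N.P ↔ N.y.hom c = 0 := RingHom.mem_ker

instance Nbhd.isPrime_P (N : Nbhd X p) : N.P.IsPrime := by
  haveI : IsDomain ↥(CommRingCat.of p.K) := inferInstanceAs (IsDomain p.K)
  exact RingHom.ker_isPrime N.y.hom

variable (N₀ : Nbhd X p) (R : Type u) [CommRing R] [IsLocalRing R] [Algebra N₀.C R]
  [IsLocalization.AtPrime R N₀.P]

include hp in
theorem isUnit_germ_of_primeCompl (s : N₀.P.primeCompl) :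
    IsUnit (N₀.germ (s : ↥N₀.C)) := by
  refine N₀.isUnit_germ hp s.1 ?_
  intro h
  exact s.2 ((N₀.mem_P _).2 h)

/-- the map from the local ring of the neighbourhood to the etale local ring. -/
noncomputable def toAR : R →+* ↥(A X p) :=
  IsLocalization.lift (M := N₀.P.primeCompl) (g := N₀.germ)
    (isUnit_germ_of_primeCompl hp N₀)

theorem toAR_algebraMap (b : ↥N₀.C) : toAR hp N₀ R (algebraMap N₀.C R b) = N₀.germ b :=
  IsLocalization.lift_eq _ b

theorem ev_toAR_eq_zero_iff (r : R) : ev X p hp (toAR hp N₀ R r) = 0 ↔ r ∈ maximalIdeal R := by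
  obtain ⟨b, s, rfl⟩ := IsLocalization.exists_mk'_eq N₀.P.primeCompl r
  rw [IsLocalization.AtPrime.mk'_mem_maximal_iff R N₀.P]
  have h1 : toAR hp N₀ R (IsLocalization.mk' R b s) * N₀.germ (s : ↥N₀.C) = N₀.germ b := by
    rw [← toAR_algebraMap hp N₀ R, ← toAR_algebraMap hp N₀ R, ← map_mul, IsLocalization.mk'_spec]
  have h2 : ev X p hp (toAR hp N₀ R (IsLocalization.mk' R b s)) * N₀.y.hom (s : ↥N₀.C) =
      N₀.y.hom b := by
    rw [← N₀.ev_germ hp, ← N₀.ev_germ hp, ← map_mul, h1]
  have hs : N₀.y.hom (s : ↥N₀.C) ≠ 0 := fun h => s.2 ((N₀.mem_P _).2 h)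
  rw [N₀.mem_P, ← h2]
  constructor
  · intro h
    rw [h, zero_mul]
  · intro h
    rcases mul_eq_zero.1 h with h | h
    · exact h
    · exact absurd h hs

theorem isLocalHom_toAR : IsLocalHom (toAR hp N₀ R) := by
  constructor
  intro r hr
  by_contra hnr
  have h1 : r ∈ maximalIdeal R := hnr
  rw [← ev_toAR_eq_zero_iff hp N₀ R] at h1
  exact ((isUnit_iff X p hp _).1 hr) h1

section abstractΩ

variable (Ω : Type u) [Field Ω] [Algebra R Ω] [Algebra (ResidueField R) Ω]
  [IsScalarTower R (ResidueField R) Ω]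
  (e : ↥(A X p) →+* Ω) (he : Function.Surjective e) (hker : ∀ a, e a = 0 ↔ ev X p hp a = 0)
  (hR : ∀ r : R, e (toAR hp N₀ R r) = algebraMap R Ω r)

include he hker in
theorem isSepClosed_of : IsSepClosed Ω := by
  haveI := isLocalRing X p hp
  haveI : IsLocalHom e := by
    constructor
    intro a ha
    rw [isUnit_iff X p hp, Ne, ← hker]
    exact ha.ne_zero
  let eκ : ResidueField ↥(A X p) →+* Ω := ResidueField.lift e
  have heκ : ∀ a, eκ (residue _ a) = e a := fun a => ResidueField.lift_residue_apply _ _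
  have hbij : Function.Bijective eκ := by
    refine ⟨eκ.injective, fun ω => ?_⟩
    obtain ⟨a, rfl⟩ := he ω
    exact ⟨residue _ a, heκ a⟩
  haveI := isSepClosed_residueField X p hp
  exact isSepClosed_of_ringEquiv (RingEquiv.ofBijective eκ hbij).symm

include he hR in
theorem isSeparable_of : Algebra.IsSeparable (ResidueField R) Ω := by
  refine ⟨fun ω => ?_⟩
  obtain ⟨a, rfl⟩ := he ω
  obtain ⟨M, c, rfl⟩ := exists_over hp N₀ a
  letI : Algebra ↥N₀.C ↥M.N.C := M.h.hom.toAlgebra
  haveI : Algebra.Etale ↥N₀.C ↥M.N.C := M.etale_h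
  letI : Algebra ↥N₀.C Ω := ((algebraMap R Ω).comp (algebraMap ↥N₀.C R)).toAlgebra
  haveI : IsScalarTower ↥N₀.C R Ω := IsScalarTower.of_algebraMap_eq (fun _ => rfl)
  haveI : IsScalarTower ↥N₀.C (ResidueField R) Ω := by
    refine IsScalarTower.of_algebraMap_eq (fun b => ?_)
    change algebraMap R Ω (algebraMap ↥N₀.C R b) =
      algebraMap (ResidueField R) Ω (residue R (algebraMap ↥N₀.C R b))
    exact IsScalarTower.algebraMap_apply R (ResidueField R) Ω _
  let w : ↥M.N.C →ₐ[↥N₀.C] Ω :=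
    { e.comp M.N.germ with
      commutes' := fun b => by
        change e (M.N.germ (M.h.hom b)) = algebraMap R Ω (algebraMap ↥N₀.C R b)
        rw [M.germ_h hp, ← toAR_algebraMap hp N₀ R, hR] }
  let ψ' : TensorProduct ↥N₀.C (ResidueField R) ↥M.N.C →ₐ[ResidueField R] Ω :=
    Algebra.TensorProduct.lift (Algebra.ofId (ResidueField R) Ω) w (fun _ _ => Commute.all _ _)
  have h1 := Groth.Agent.Lib.Helper3.IndEt.isSeparable_of_etale ψ' ((1 : ResidueField R) ⊗ₜ c)
  have h2 : ψ' ((1 : ResidueField R) ⊗ₜ c) = e (M.N.germ c) := by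
    rw [Algebra.TensorProduct.lift_tmul, map_one, one_mul]
    rfl
  rw [h2] at h1
  exact h1

include he hker hR in
/-- the map from the strict henselization to the etale local ring. -/
theorem exists_psi : ∃ ψ : Rsh R Ω →+* ↥(A X p),
    ψ.comp (algebraMap R (Rsh R Ω)) = toAR hp N₀ R ∧ ∀ x, e (ψ x) = toΩ x := by
  haveI := henselianLocalRing X p hp
  haveI := isLocalHom_toAR hp N₀ R
  refine Groth.Agent.Lib.Seat48.ShLift.exists_lift ↥(A X p) (toAR hp N₀ R) e he (fun t => ?_) hR
  rw [hker, mem_maximalIdeal_iff X p hp]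

variable [Algebra.IsSeparable (ResidueField R) Ω]

include hR in
/-- the unique lift of an affine neighbourhood over `N₀` to the strict henselization. -/
theorem existsUnique_fam (M : NbhdOver N₀) :
    ∃! φ : ↥M.N.C →+* Rsh R Ω,
      (∀ b : ↥N₀.C, φ (M.h.hom b) = algebraMap R (Rsh R Ω) (algebraMap ↥N₀.C R b)) ∧
        ∀ c, toΩ (φ c) = e (M.N.germ c) := by
  letI : Algebra ↥N₀.C ↥M.N.C := M.h.hom.toAlgebra
  haveI : Algebra.Etale ↥N₀.C ↥M.N.C := M.etale_h
  letI : Algebra ↥N₀.C (Rsh R Ω) :=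
    ((algebraMap R (Rsh R Ω)).comp (algebraMap ↥N₀.C R)).toAlgebra
  letI : Algebra ↥N₀.C Ω := ((algebraMap R Ω).comp (algebraMap ↥N₀.C R)).toAlgebra
  let uu : Rsh R Ω →ₐ[↥N₀.C] Ω :=
    { (toΩ : Rsh R Ω →+* Ω) with
      commutes' := fun b => toΩ_algebraMap (algebraMap ↥N₀.C R b) }
  have huu : Function.Surjective uu := toΩ_surjective
  have hkeru : RingHom.ker uu.toRingHom = maximalIdeal (Rsh R Ω) := by
    ext z
    rw [RingHom.mem_ker]
    exact toΩ_eq_zero_iff z
  let w : ↥M.N.C →ₐ[↥N₀.C] Ω :=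
    { e.comp M.N.germ with
      commutes' := fun b => by
        change e (M.N.germ (M.h.hom b)) = algebraMap R Ω (algebraMap ↥N₀.C R b)
        rw [M.germ_h hp, ← toAR_algebraMap hp N₀ R, hR] }
  obtain ⟨f, hf, huniq⟩ :=
    Groth.Agent.Lib.Helper3.IndEt.existsUnique_lift_of_surjective uu huu hkeru w
  refine ⟨f.toRingHom, ⟨fun b => f.commutes b, fun c => AlgHom.congr_fun hf c⟩, ?_⟩
  rintro φ ⟨h1, h2⟩
  let φ' : ↥M.N.C →ₐ[↥N₀.C] Rsh R Ω := { φ with commutes' := h1 }
  have h3 : φ' = f := huniq φ' (AlgHom.ext h2)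
  rw [← h3]

/-- the lift of an affine neighbourhood over `N₀` to the strict henselization. -/
noncomputable def fam (M : NbhdOver N₀) : ↥M.N.C →+* Rsh R Ω :=
  (existsUnique_fam hp N₀ R Ω e hR M).exists.choose

theorem fam_h (M : NbhdOver N₀) (b : ↥N₀.C) :
    fam hp N₀ R Ω e hR M (M.h.hom b) = algebraMap R (Rsh R Ω) (algebraMap ↥N₀.C R b) :=
  (existsUnique_fam hp N₀ R Ω e hR M).exists.choose_spec.1 b

theorem toΩ_fam (M : NbhdOver N₀) (c : ↥M.N.C) :
    toΩ (fam hp N₀ R Ω e hR M c) = e (M.N.germ c) :=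
  (existsUnique_fam hp N₀ R Ω e hR M).exists.choose_spec.2 c

theorem fam_unique (M : NbhdOver N₀) (φ : ↥M.N.C →+* Rsh R Ω)
    (h1 : ∀ b : ↥N₀.C, φ (M.h.hom b) = algebraMap R (Rsh R Ω) (algebraMap ↥N₀.C R b))
    (h2 : ∀ c, toΩ (φ c) = e (M.N.germ c)) : φ = fam hp N₀ R Ω e hR M :=
  (existsUnique_fam hp N₀ R Ω e hR M).unique ⟨h1, h2⟩
    (existsUnique_fam hp N₀ R Ω e hR M).exists.choose_spec

theorem fam_compat (M' : NbhdOver N₀) (K : NbhdOver M'.N) (c' : ↥M'.N.C) :
    fam hp N₀ R Ω e hR (M'.comp K) (K.h.hom c') = fam hp N₀ R Ω e hR M' c' := by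
  have h := fam_unique hp N₀ R Ω e hR M' ((fam hp N₀ R Ω e hR (M'.comp K)).comp K.h.hom)
    (fun b => by
      have h1 := fam_h hp N₀ R Ω e hR (M'.comp K) b
      rw [NbhdOver.comp_h] at h1
      exact h1)
    (fun c => by
      rw [RingHom.comp_apply, toΩ_fam]
      exact congrArg e (K.germ_h hp c))
  exact congrArg (fun φ => φ c') h

/-- the map from the etale local ring to the strict henselization. -/
theorem exists_phi : ∃ φ : ↥(A X p) →+* Rsh R Ω,
    ∀ (M : NbhdOver N₀) (c : ↥M.N.C), φ (M.N.germ c) = fam hp N₀ R Ω e hR M c :=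
  exists_desc hp (Rsh R Ω) (fam hp N₀ R Ω e hR) (fam_compat hp N₀ R Ω e hR)

include hp N₀ he hker hR in
/-- **the etale local ring is isomorphic to the strict henselization.** -/
theorem nonempty_ringEquiv : Nonempty (↥(A X p) ≃+* Rsh R Ω) := by
  haveI := isLocalRing X p hp
  obtain ⟨ψ, hψ1, hψ2⟩ := exists_psi hp N₀ R Ω e he hker hR
  obtain ⟨φ, hφ⟩ := exists_phi hp N₀ R Ω e hR
  have hφΩ : ∀ a, toΩ (φ a) = e a := by
    intro a
    obtain ⟨M, c, rfl⟩ := exists_over hp N₀ a
    rw [hφ, toΩ_fam]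
  -- `ψ ∘ φ = id`
  have h1 : ψ.comp φ = RingHom.id _ := by
    ext a
    obtain ⟨M, c, rfl⟩ := exists_over hp N₀ a
    rw [RingHom.comp_apply, hφ, RingHom.id_apply]
    letI : Algebra ↥N₀.C ↥M.N.C := M.h.hom.toAlgebra
    haveI : Algebra.Etale ↥N₀.C ↥M.N.C := M.etale_h
    letI : Algebra ↥N₀.C ↥(A X p) := N₀.germ.toAlgebra
    let f₁ : ↥M.N.C →ₐ[↥N₀.C] ↥(A X p) :=
      { ψ.comp (fam hp N₀ R Ω e hR M) with
        commutes' := fun b => by
          change ψ (fam hp N₀ R Ω e hR M (M.h.hom b)) = N₀.germ b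
          rw [fam_h, ← toAR_algebraMap hp N₀ R, ← hψ1]
          rfl }
    let f₂ : ↥M.N.C →ₐ[↥N₀.C] ↥(A X p) :=
      { M.N.germ with
        commutes' := fun b => M.germ_h hp b }
    have h12 : f₁ = f₂ := by
      refine Groth.Agent.Lib.Helper3.EssEt.algHom_eq_of_residue_eq f₁ f₂ (fun c => ?_)
      rw [← sub_eq_zero, ← map_sub, residue_eq_zero_iff, mem_maximalIdeal_iff X p hp, ← hker,
        map_sub, sub_eq_zero]
      change e (ψ (fam hp N₀ R Ω e hR M c)) = e (M.N.germ c)
      rw [hψ2, toΩ_fam]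
    exact AlgHom.congr_fun h12 c
  -- `φ ∘ ψ = id`
  have h2 : φ.comp ψ = RingHom.id _ := by
    obtain ⟨g, -, huniq⟩ := universal (R := R) (Ω := Ω) (Rsh R Ω) (algebraMap R (Rsh R Ω))
      (RingHom.id _) (by simp)
    have e1 : φ.comp ψ = g := by
      refine huniq _ ⟨?_, fun x => ?_⟩
      · rw [RingHom.comp_assoc, hψ1]
        refine IsLocalization.ringHom_ext N₀.P.primeCompl ?_
        ext b
        simp only [RingHom.comp_apply]
        rw [toAR_algebraMap]
        have h3 := hφ (NbhdOver.self N₀) b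
        have h4 := fam_h hp N₀ R Ω e hR (NbhdOver.self N₀) b
        rw [NbhdOver.self_h] at h4
        exact h3.trans h4
      · rw [RingHom.id_apply]
        apply toΩ_injective_residue (R := R) (Ω := Ω)
        rw [embΩ_residue, embΩ_residue, RingHom.comp_apply, hφΩ, hψ2]
    have e2 : RingHom.id (Rsh R Ω) = g :=
      huniq _ ⟨by simp, fun x => by simp⟩
    rw [e1, e2]
  exact ⟨RingEquiv.ofRingHom φ ψ h2 h1⟩

end abstractΩ

include hp N₀ in
/-- **The etale local ring of an algebraic space at a geometric point is (isomorphic to) a strict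
henselization of the local ring of any affine pointed etale neighbourhood.** -/
theorem exists_strictHenselization :
    ∃ (A0 : Type u) (_ : CommRing A0) (_ : IsLocalRing A0) (_ : Algebra R A0)
      (_ : IsLocalHom (algebraMap R A0)),
      Hensel.IsStrictHenselization R A0 ∧ Nonempty (↥(AlgSp.OEtStalk p) ≃+* A0) := by
  letI algRΩ : Algebra R (Om (X := X) (p := p) hp) :=
    ((evΩ hp).comp (toAR hp N₀ R)).toAlgebra
  have hmap : ∀ r : R, algebraMap R (Om (X := X) (p := p) hp) r = evΩ hp (toAR hp N₀ R r) :=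
    fun _ => rfl
  haveI : IsLocalHom (algebraMap R (Om (X := X) (p := p) hp)) := by
    constructor
    intro r hr
    by_contra hnr
    have h1 : r ∈ maximalIdeal R := hnr
    rw [← ev_toAR_eq_zero_iff hp N₀ R, ← evΩ_eq_zero_iff, ← hmap] at h1
    rw [h1] at hr
    exact not_isUnit_zero hr
  letI : Algebra (ResidueField R) (Om (X := X) (p := p) hp) :=
    (ResidueField.lift (algebraMap R (Om (X := X) (p := p) hp))).toAlgebra
  haveI : IsScalarTower R (ResidueField R) (Om (X := X) (p := p) hp) :=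
    IsScalarTower.of_algebraMap_eq (fun r => (ResidueField.lift_residue_apply _ r).symm)
  have he := evΩ_surjective (X := X) (p := p) hp
  have hker := evΩ_eq_zero_iff (X := X) (p := p) hp
  have hR : ∀ r : R, evΩ hp (toAR hp N₀ R r) = algebraMap R (Om (X := X) (p := p) hp) r :=
    fun _ => rfl
  haveI : IsSepClosed (Om (X := X) (p := p) hp) := isSepClosed_of hp _ (evΩ hp) he hker
  haveI : Algebra.IsSeparable (ResidueField R) (Om (X := X) (p := p) hp) :=
    isSeparable_of hp N₀ R _ (evΩ hp) he hR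
  haveI : IsSepClosure (ResidueField R) (Om (X := X) (p := p) hp) := ⟨inferInstance, inferInstance⟩
  exact ⟨Rsh R (Om (X := X) (p := p) hp), inferInstance, inferInstance, inferInstance,
    inferInstance, inferInstance, nonempty_ringEquiv hp N₀ R _ (evΩ hp) he hker hR⟩

end Groth.Agent.Lib.Seat48.OEtLocal
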