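import Mathlib
import Groth.Agent.Lib.Seat48OEtSh

/-!
# The etale local ring of an algebraic space at a geometric point is a strict henselization of the
local ring of any etale neighbourhood at the image point (seat 48)

Namespace `Groth.Agent.Lib.Seat48.OEtLocal`.
-/

set_option autoImplicit false
set_option linter.style.haveILetI false
set_option linter.unusedSectionVars false
set_option backward.isDefEq.respectTransparency false

universe u

open CategoryTheory CategoryTheory.Limits AlgebraicGeometry Opposite

namespace Groth.Agent.Lib.Seat48.OEtLocal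

open AlgSp IsLocalRing
open Groth.Agent.Lib.Helper9.SpPoint

variable {S : Scheme.{u}} {X : AlgSp.Space S} {p : AlgSp.FieldPt X.obj} (hp : p.IsGeometric)

/-- shrinking a pointed etale neighbourhood to an affine open one. -/
theorem exists_nbhd' (U : AlgSp.EtOver X.obj) (l : (AlgSp.FieldPt.liftsTo p).obj U) :
    ∃ (N : Nbhd X p) (g : N.obj ⟶ U), (AlgSp.FieldPt.liftsTo p).map g N.pt = l ∧
      IsOpenImmersion g.hom.left.left := by
  obtain ⟨C, j, hj, hx, -⟩ := Scheme.exists_affine_mem_range_and_range_subset
    (x := l.1.left (default : Spec (CommRingCat.of p.K))) (U := ⊤) trivial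
  have hrange : Set.range l.1.left ⊆ Set.range j := by
    rintro _ ⟨a, rfl⟩
    have ha : a = (default : Spec (CommRingCat.of p.K)) :=
      Subsingleton.elim (α := ↥(Spec (CommRingCat.of p.K))) a default
    rw [ha]
    exact hx
  let y₀ : Spec (CommRingCat.of p.K) ⟶ Spec C := IsOpenImmersion.lift j l.1.left hrange
  have hy₀ : y₀ ≫ j = l.1.left := IsOpenImmersion.lift_fac j l.1.left hrange
  let y : C ⟶ CommRingCat.of p.K := Spec.preimage y₀
  have hy : Spec.map y = y₀ := Spec.map_preimage _
  have hl : l.1.left ≫ U.obj.left.hom = p.str := Over.w l.1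
  have hstr : Spec.map y ≫ j ≫ U.obj.left.hom = p.str := by
    rw [hy, ← Category.assoc, hy₀, hl]
  let jj : Over.mk (j ≫ U.obj.left.hom) ⟶ U.obj.left := Over.homMk j rfl
  haveI : Etale jj.left := by
    change Etale j
    infer_instance
  have e : (Over.homMk (Spec.map y) hstr : p.pt ⟶ Over.mk (j ≫ U.obj.left.hom)) ≫ jj = l.1 := by
    apply Over.OverMorphism.ext
    change Spec.map y ≫ j = l.1.left
    rw [hy, hy₀]
  let N : Nbhd X p :=
    { C := C
      str := j ≫ U.obj.left.hom
      a := (AlgSp.yon S).map jj ≫ U.obj.hom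
      et := Groth.Agent.Lib.Seat45.Charts.repWith_etale_comp jj U.obj.hom U.property
      y := y
      hstr := hstr
      hy := by
        rw [← Category.assoc, ← Functor.map_comp, e]
        exact l.2 }
  refine ⟨N, AlgSp.EtOver.homMk jj rfl, ?_, ?_⟩
  · apply Subtype.ext
    exact e
  · change IsOpenImmersion j
    exact hj

theorem isLocalization_atPrime_of_eq {B R : Type u} [CommRing B] [CommRing R] [Algebra B R]
    (P Q : Ideal B) [P.IsPrime] [Q.IsPrime] (h : P = Q) [IsLocalization.AtPrime R P] :
    IsLocalization.AtPrime R Q := by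
  subst h
  infer_instance

/-- the point of the spectrum underlying an affine pointed neighbourhood. -/
noncomputable def Nbhd.x (N : Nbhd X p) : ↥(Spec N.C) :=
  (Spec.map N.y) (default : Spec (CommRingCat.of p.K))

theorem Nbhd.x_asIdeal (N : Nbhd X p) : (N.x : PrimeSpectrum ↥N.C).asIdeal = N.P := by
  have h1 : ((default : Spec (CommRingCat.of p.K)) : PrimeSpectrum p.K).asIdeal = ⊥ := by
    haveI := ((default : Spec (CommRingCat.of p.K)) : PrimeSpectrum p.K).isPrime
    exact Ideal.eq_bot_of_prime _
  change Ideal.comap N.y.hom ((default : Spec (CommRingCat.of p.K)) : PrimeSpectrum p.K).asIdeal = _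
  rw [h1]
  rfl

include hp in
/-- **The etale local ring at a geometric point is (isomorphic to) a strict henselization of the
local ring of any etale neighbourhood at the image of the point.** -/
theorem exists_strictHenselization_stalk (U : AlgSp.EtOver X.obj)
    (l : (AlgSp.FieldPt.liftsTo p).obj U) (x : ↥U.obj.left.left)
    (hx : x = l.1.left (default : Spec (CommRingCat.of p.K))) :
    ∃ (A0 : Type u) (_ : CommRing A0) (_ : IsLocalRing A0)
      (_ : Algebra ↥(U.obj.left.left.presheaf.stalk x) A0)
      (_ : IsLocalHom (algebraMap ↥(U.obj.left.left.presheaf.stalk x) A0)),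
      Hensel.IsStrictHenselization ↥(U.obj.left.left.presheaf.stalk x) A0 ∧
        Nonempty (↥(AlgSp.OEtStalk p) ≃+* A0) := by
  obtain ⟨N, g, hg, hopen⟩ := exists_nbhd' U l
  have hj : g.hom.left.left N.x = l.1.left (default : Spec (CommRingCat.of p.K)) := by
    have h1 := congrArg (fun l' => l'.1.left) hg
    change Spec.map N.y ≫ g.hom.left.left = l.1.left at h1
    rw [← h1]
    rfl
  have e : x = g.hom.left.left N.x := hx.trans hj.symm
  subst e
  let σ : ↥((Spec N.C).presheaf.stalk N.x) ≃+*
      ↥(U.obj.left.left.presheaf.stalk (g.hom.left.left N.x)) :=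
    (asIso (g.hom.left.left.stalkMap N.x)).symm.commRingCatIsoToRingEquiv
  letI : Algebra ↥N.C ↥(U.obj.left.left.presheaf.stalk (g.hom.left.left N.x)) :=
    (σ.toRingHom.comp (algebraMap ↥N.C ↥((Spec.structureSheaf ↥N.C).presheaf.stalk N.x))).toAlgebra
  haveI h0 : IsLocalization.AtPrime ↥(U.obj.left.left.presheaf.stalk (g.hom.left.left N.x))
      (N.x : PrimeSpectrum ↥N.C).asIdeal :=
    IsLocalization.isLocalization_of_algEquiv (N.x : PrimeSpectrum ↥N.C).asIdeal.primeCompl
      (AlgEquiv.ofRingEquiv (f := σ) (fun _ => rfl) :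
        ↥((Spec.structureSheaf ↥N.C).presheaf.stalk N.x) ≃ₐ[↥N.C]
          ↥(U.obj.left.left.presheaf.stalk (g.hom.left.left N.x)))
  haveI : IsLocalization.AtPrime ↥(U.obj.left.left.presheaf.stalk (g.hom.left.left N.x)) N.P :=
    isLocalization_atPrime_of_eq _ _ N.x_asIdeal
  exact exists_strictHenselization hp N ↥(U.obj.left.left.presheaf.stalk (g.hom.left.left N.x))

end Groth.Agent.Lib.Seat48.OEtLocal
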