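import Mathlib
import Groth.Agent.Lib.Seat48OEtStalk

/-!
# Charts through a geometric point and the etale local ring (seat 48)

Namespace `Groth.Agent.Lib.Seat48.OEtLocal`.
-/

set_option autoImplicit false
set_option linter.style.haveILetI false
set_option linter.unusedSectionVars false
set_option backward.isDefEq.respectTransparency false

universe u

open CategoryTheory CategoryTheory.Limits AlgebraicGeometry Opposite

namespace Groth.Agent.Lib.Seat48.OEtLocal

open AlgSp IsLocalRing
open Groth.Agent.Lib.Helper9.SpPoint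

variable {S : Scheme.{u}}

/-- a geometric point whose image in `|X|` is the image of a point `v` of a chart lifts to the
chart through `v`. -/
theorem exists_lift_through {X : AlgSp.Sp S} (p : AlgSp.FieldPt X) (hp : p.IsGeometric)
    (V : AlgSp.EtOver X) (v : V.obj.left.left)
    (h : AlgSp.Points.ofPt V.obj.hom v = AlgSp.Points.mk p) :
    ∃ l : (AlgSp.FieldPt.liftsTo p).obj V,
      l.1.left (default : Spec (CommRingCat.of p.K)) = v := by
  haveI : IsAlgClosed p.K := hp
  haveI : IsSepClosed p.K := inferInstance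
  obtain ⟨Ω, hΩ, w, a, b, hab⟩ := rel_toHom (AlgSp.Points.mk_eq_mk_iff.1 h)
  rw [AlgSp.FieldPt.toHom_ofPt, ← Category.assoc, ← Functor.map_comp] at hab
  have hrep := V.property.1
  have hpb := hrep.isPullback p.toHom
  have het : Etale (hrep.snd p.toHom).left := V.property.2 p.toHom _ _ hpb
  let c := hrep.lift' (a ≫ Over.homMk (V.obj.left.left.fromSpecResidueField v) rfl) b hab
  let y : (hrep.pullback p.toHom).left := c.left (IsLocalRing.closedPoint Ω)
  haveI : Etale (hrep.snd p.toHom).left := het
  obtain ⟨σ₀, hσ₀, hσ₀y⟩ := Scheme.exists_fac_of_etale_of_isSepClosed (hrep.snd p.toHom).left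
    (𝟙 (Spec (CommRingCat.of p.K))) y
    (Subsingleton.elim (α := Spec (CommRingCat.of p.K)) _ _)
  have h1 : (hrep.snd p.toHom).left ≫ p.pt.hom = (hrep.pullback p.toHom).hom :=
    Over.w (hrep.snd p.toHom)
  have h3 : σ₀ ≫ (hrep.pullback p.toHom).hom = p.str := by
    rw [← h1, ← Category.assoc, hσ₀]
    exact Category.id_comp _
  let σ : p.pt ⟶ hrep.pullback p.toHom := Over.homMk σ₀ h3
  have hσ : σ ≫ hrep.snd p.toHom = 𝟙 _ := by
    apply Over.OverMorphism.ext
    exact hσ₀
  refine ⟨⟨σ ≫ hrep.fst' p.toHom, ?_⟩, ?_⟩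
  · rw [Functor.map_comp, Category.assoc, hrep.map_fst', hpb.w, ← Category.assoc,
      ← Functor.map_comp, hσ, CategoryTheory.Functor.map_id, Category.id_comp]
  · change (hrep.fst' p.toHom).left (σ₀ default) = v
    rw [hσ₀y]
    have h4 : c ≫ hrep.fst' p.toHom =
        a ≫ Over.homMk (V.obj.left.left.fromSpecResidueField v) rfl :=
      hrep.lift'_fst _ _ _
    have h5 := congrArg (fun k => k.left (IsLocalRing.closedPoint Ω)) h4
    change (hrep.fst' p.toHom).left (c.left (IsLocalRing.closedPoint Ω)) =
      (V.obj.left.left.fromSpecResidueField v) (a.left (IsLocalRing.closedPoint Ω)) at h5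
    rw [h5]
    exact Scheme.fromSpecResidueField_apply _ _

/-- **The etale local ring at a geometric point is (isomorphic to) a strict henselization of the
local ring of any etale chart at any point over the image of the geometric point.** -/
theorem exists_strictHenselization_chart (X : AlgSp.Space S) (p : AlgSp.FieldPt X.obj)
    (hp : p.IsGeometric) (U : Over S) (a : (AlgSp.yon S).obj U ⟶ X.obj)
    (ha : AlgSp.RepWith @Etale a) (u : ↥U.left)
    (hu : AlgSp.Points.ofPt a u = AlgSp.Points.mk p) :
    ∃ (A0 : Type u) (_ : CommRing A0) (_ : IsLocalRing A0)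
      (_ : Algebra ↥(U.left.presheaf.stalk u) A0)
      (_ : IsLocalHom (algebraMap ↥(U.left.presheaf.stalk u) A0)),
      Hensel.IsStrictHenselization ↥(U.left.presheaf.stalk u) A0 ∧
        Nonempty (↥(AlgSp.OEtStalk p) ≃+* A0) := by
  obtain ⟨l, hl⟩ := exists_lift_through p hp (AlgSp.EtOver.mk a ha) u hu
  exact exists_strictHenselization_stalk hp (AlgSp.EtOver.mk a ha) l u hl.symm

/-- a geometric point of an algebraic space lies on an etale chart. -/
theorem exists_chart_of_geometric (X : AlgSp.Space S) (p : AlgSp.FieldPt X.obj)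
    (hp : p.IsGeometric) :
    ∃ (U : Over S) (a : (AlgSp.yon S).obj U ⟶ X.obj) (u : ↥U.left), AlgSp.RepWith @Etale a ∧
      AlgSp.Points.ofPt a u = AlgSp.Points.mk p := by
  obtain ⟨⟨E, l⟩⟩ := IsCofiltered.nonempty (C := (pnt X p hp).fiber.Elements)
  exact ⟨E.obj.left, E.obj.hom, l.1.left (default : Spec (CommRingCat.of p.K)), E.property,
    ofPt_lift p E l _⟩

end Groth.Agent.Lib.Seat48.OEtLocal
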