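import Mathlib
import Groth.Agent.Lib.Seat48OEtSh

/-!
# The etale local ring as a strict henselization, with compatibility of the structure maps (seat 48)

Namespace `Groth.Agent.Lib.Seat48.OEtLocal`.
-/

set_option autoImplicit false
set_option linter.style.haveILetI false
set_option linter.unusedSectionVars false
set_option backward.isDefEq.respectTransparency false

universe u

open CategoryTheory CategoryTheory.Limits AlgebraicGeometry Opposite

namespace Groth.Agent.Lib.Seat48.OEtLocal

open AlgSp IsLocalRing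
open Groth.Agent.Lib.Helper9.SpPoint
open Groth.Agent.Lib.Helper3.Sh

variable {S : Scheme.{u}} {X : AlgSp.Space S} {p : AlgSp.FieldPt X.obj} (hp : p.IsGeometric)
  (N₀ : Nbhd X p) (R : Type u) [CommRing R] [IsLocalRing R] [Algebra N₀.C R]
  [IsLocalization.AtPrime R N₀.P]

section abstractΩ

variable (Ω : Type u) [Field Ω] [Algebra R Ω] [Algebra (ResidueField R) Ω]
  [IsScalarTower R (ResidueField R) Ω]
  (e : ↥(A X p) →+* Ω) (he : Function.Surjective e) (hker : ∀ a, e a = 0 ↔ ev X p hp a = 0)
  (hR : ∀ r : R, e (toAR hp N₀ R r) = algebraMap R Ω r)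
  [Algebra.IsSeparable (ResidueField R) Ω]

include hp N₀ he hker hR in
/-- the etale local ring is isomorphic to the strict henselization, compatibly with the maps from
the local ring of the neighbourhood. -/
theorem exists_ringEquiv_compat : ∃ ε : ↥(A X p) ≃+* Rsh R Ω,
    ∀ r : R, ε (toAR hp N₀ R r) = algebraMap R (Rsh R Ω) r := by
  haveI := isLocalRing X p hp
  obtain ⟨ψ, hψ1, hψ2⟩ := exists_psi hp N₀ R Ω e he hker hR
  obtain ⟨φ, hφ⟩ := exists_phi hp N₀ R Ω e hR
  have hφΩ : ∀ a, toΩ (φ a) = e a := by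
    intro a
    obtain ⟨M, c, rfl⟩ := exists_over hp N₀ a
    rw [hφ, toΩ_fam]
  have hφR : φ.comp (toAR hp N₀ R) = algebraMap R (Rsh R Ω) := by
    refine IsLocalization.ringHom_ext N₀.P.primeCompl ?_
    ext b
    simp only [RingHom.comp_apply]
    rw [toAR_algebraMap]
    have h3 := hφ (NbhdOver.self N₀) b
    have h4 := fam_h hp N₀ R Ω e hR (NbhdOver.self N₀) b
    rw [NbhdOver.self_h] at h4
    exact h3.trans h4
  -- `ψ ∘ φ = id`
  have h1 : ψ.comp φ = RingHom.id _ := by
    ext a
    obtain ⟨M, c, rfl⟩ := exists_over hp N₀ a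
    rw [RingHom.comp_apply, hφ, RingHom.id_apply]
    letI : Algebra ↥N₀.C ↥M.N.C := M.h.hom.toAlgebra
    haveI : Algebra.Etale ↥N₀.C ↥M.N.C := M.etale_h
    letI : Algebra ↥N₀.C ↥(A X p) := N₀.germ.toAlgebra
    let f₁ : ↥M.N.C →ₐ[↥N₀.C] ↥(A X p) :=
      { ψ.comp (fam hp N₀ R Ω e hR M) with
        commutes' := fun b => by
          change ψ (fam hp N₀ R Ω e hR M (M.h.hom b)) = N₀.germ b
          rw [fam_h, ← toAR_algebraMap hp N₀ R, ← hψ1]
          rfl }
    let f₂ : ↥M.N.C →ₐ[↥N₀.C] ↥(A X p) :=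
      { M.N.germ with
        commutes' := fun b => M.germ_h hp b }
    have h12 : f₁ = f₂ := by
      refine Groth.Agent.Lib.Helper3.EssEt.algHom_eq_of_residue_eq f₁ f₂ (fun c => ?_)
      rw [← sub_eq_zero, ← map_sub, residue_eq_zero_iff, mem_maximalIdeal_iff X p hp, ← hker,
        map_sub, sub_eq_zero]
      change e (ψ (fam hp N₀ R Ω e hR M c)) = e (M.N.germ c)
      rw [hψ2, toΩ_fam]
    exact AlgHom.congr_fun h12 c
  -- `φ ∘ ψ = id`
  have h2 : φ.comp ψ = RingHom.id _ := by
    obtain ⟨g, -, huniq⟩ := universal (R := R) (Ω := Ω) (Rsh R Ω) (algebraMap R (Rsh R Ω))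
      (RingHom.id _) (by simp)
    have e1 : φ.comp ψ = g := by
      refine huniq _ ⟨?_, fun x => ?_⟩
      · rw [RingHom.comp_assoc, hψ1, hφR]
      · rw [RingHom.id_apply]
        apply toΩ_injective_residue (R := R) (Ω := Ω)
        rw [embΩ_residue, embΩ_residue, RingHom.comp_apply, hφΩ, hψ2]
    have e2 : RingHom.id (Rsh R Ω) = g :=
      huniq _ ⟨by simp, fun x => by simp⟩
    rw [e1, e2]
  exact ⟨RingEquiv.ofRingHom φ ψ h2 h1, fun r => congrArg (fun f => f r) hφR⟩

end abstractΩ

include hp N₀ in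
/-- **The etale local ring of an algebraic space at a geometric point is (isomorphic to) a strict
henselization of the local ring of any affine pointed etale neighbourhood, compatibly with the
structure maps.** -/
theorem exists_strictHenselization_compat :
    ∃ (A0 : Type u) (_ : CommRing A0) (_ : IsLocalRing A0) (_ : Algebra R A0)
      (_ : IsLocalHom (algebraMap R A0)),
      Hensel.IsStrictHenselization R A0 ∧ ∃ ε : ↥(AlgSp.OEtStalk p) ≃+* A0,
        ∀ r : R, ε (toAR hp N₀ R r) = algebraMap R A0 r := by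
  letI algRΩ : Algebra R (Om (X := X) (p := p) hp) :=
    ((evΩ hp).comp (toAR hp N₀ R)).toAlgebra
  have hmap : ∀ r : R, algebraMap R (Om (X := X) (p := p) hp) r = evΩ hp (toAR hp N₀ R r) :=
    fun _ => rfl
  haveI : IsLocalHom (algebraMap R (Om (X := X) (p := p) hp)) := by
    constructor
    intro r hr
    by_contra hnr
    have h1 : r ∈ maximalIdeal R := hnr
    rw [← ev_toAR_eq_zero_iff hp N₀ R, ← evΩ_eq_zero_iff, ← hmap] at h1
    rw [h1] at hr
    exact not_isUnit_zero hr
  letI : Algebra (ResidueField R) (Om (X := X) (p := p) hp) :=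
    (ResidueField.lift (algebraMap R (Om (X := X) (p := p) hp))).toAlgebra
  haveI : IsScalarTower R (ResidueField R) (Om (X := X) (p := p) hp) :=
    IsScalarTower.of_algebraMap_eq (fun r => (ResidueField.lift_residue_apply _ r).symm)
  have he := evΩ_surjective (X := X) (p := p) hp
  have hker := evΩ_eq_zero_iff (X := X) (p := p) hp
  have hR : ∀ r : R, evΩ hp (toAR hp N₀ R r) = algebraMap R (Om (X := X) (p := p) hp) r :=
    fun _ => rfl
  haveI : IsSepClosed (Om (X := X) (p := p) hp) := isSepClosed_of hp _ (evΩ hp) he hker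
  haveI : Algebra.IsSeparable (ResidueField R) (Om (X := X) (p := p) hp) :=
    isSeparable_of hp N₀ R _ (evΩ hp) he hR
  haveI : IsSepClosure (ResidueField R) (Om (X := X) (p := p) hp) := ⟨inferInstance, inferInstance⟩
  exact ⟨Rsh R (Om (X := X) (p := p) hp), inferInstance, inferInstance, inferInstance,
    inferInstance, inferInstance, exists_ringEquiv_compat hp N₀ R _ (evΩ hp) he hker hR⟩

end Groth.Agent.Lib.Seat48.OEtLocal
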