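import Mathlib
import Groth.Agent.Lib.Seat48OEtSh2
import Groth.Agent.Lib.Seat48OEtChart
import Groth.Agent.Lib.Seat48MinPrimes
import Groth.Agent.S0539
import Groth.Agent.S9238

/-!
# Minimal primes of the etale local ring versus minimal primes of the local rings of etale
neighbourhoods (seat 48)

Namespace `Groth.Agent.Lib.Seat48.OEtLocal`.
-/

set_option autoImplicit false
set_option linter.style.haveILetI false
set_option linter.unusedSectionVars false
set_option backward.isDefEq.respectTransparency false

universe u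

open CategoryTheory CategoryTheory.Limits AlgebraicGeometry Opposite

namespace Groth.Agent.Lib.Seat48.OEtLocal

open AlgSp IsLocalRing
open Groth.Agent.Lib.Helper9.SpPoint
open Groth.Agent.Lib.Seat48.MinPrimes

variable {S : Scheme.{u}} {X : AlgSp.Space S} {p : AlgSp.FieldPt X.obj} (hp : p.IsGeometric)

/-- the local ring of an affine pointed neighbourhood at its point. -/
abbrev Nbhd.RN (N : Nbhd X p) : Type u := ↥((Spec.structureSheaf ↥N.C).presheaf.stalk N.x)

instance Nbhd.isLocalization_RN (N : Nbhd X p) : IsLocalization.AtPrime N.RN N.P :=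
  isLocalization_atPrime_of_eq _ _ N.x_asIdeal

instance Nbhd.isLocalRing_RN (N : Nbhd X p) : IsLocalRing N.RN :=
  IsLocalization.AtPrime.isLocalRing N.RN N.P

include hp in
theorem toAR_flat_injective (N : Nbhd X p) :
    (toAR hp N N.RN).Flat ∧ Function.Injective (toAR hp N N.RN) := by
  obtain ⟨A0, _, _, _, _, hsh, ε, hε⟩ := exists_strictHenselization_compat hp N N.RN
  have hff : Module.FaithfullyFlat N.RN A0 := Groth.Agent.S0539.result N.RN A0
  constructor
  · letI : Algebra N.RN ↥(A X p) := (toAR hp N N.RN).toAlgebra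
    let εₐ : ↥(A X p) ≃ₐ[N.RN] A0 := AlgEquiv.ofRingEquiv (f := ε) (fun r => hε r)
    haveI : Module.Flat N.RN A0 := inferInstance
    exact Module.Flat.of_linearEquiv εₐ.toLinearEquiv
  · have h1 : Function.Injective (algebraMap N.RN A0) := FaithfulSMul.algebraMap_injective _ _
    intro r r' hr
    apply h1
    rw [← hε, ← hε, hr]

include hp in
/-- the local ring of an affine pointed neighbourhood has at most as many minimal primes as the
etale local ring. -/
theorem encard_minimalPrimes_RN_le (N : Nbhd X p) :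
    (minimalPrimes N.RN).encard ≤ (minimalPrimes ↥(A X p)).encard :=
  encard_minimalPrimes_le_of_injective _ (toAR_flat_injective hp N).2

include hp in
/-- finitely many minimal primes of the etale local ring are separated on the local ring of a
suitable affine pointed neighbourhood. -/
theorem exists_nbhd_le_encard (m : ℕ) (hm : (m : ℕ∞) ≤ (minimalPrimes ↥(A X p)).encard) :
    ∃ N : Nbhd X p, (m : ℕ∞) ≤ (minimalPrimes N.RN).encard := by
  classical
  obtain ⟨t, ht, htm⟩ := Set.exists_subset_encard_eq hm
  have htfin : t.Finite := Set.finite_of_encard_eq_coe htm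
  -- separating elements
  have hsep : ∀ q q' : Ideal ↥(A X p), q ∈ t → q' ∈ t → q ≠ q' → ∃ a, a ∈ q ∧ a ∉ q' := by
    intro q q' hq hq' hne
    by_contra hcon
    push Not at hcon
    have hle : q ≤ q' := fun a ha => hcon a ha
    have h1 : q' ≤ q := (ht hq').2 ⟨(ht hq).1.1, bot_le⟩ hle
    exact hne (le_antisymm hle h1)
  let sep : Ideal ↥(A X p) → Ideal ↥(A X p) → ↥(A X p) := fun q q' =>
    if h : q ∈ t ∧ q' ∈ t ∧ q ≠ q' then (hsep q q' h.1 h.2.1 h.2.2).choose else 0
  have hsep1 : ∀ q q', q ∈ t → q' ∈ t → q ≠ q' → sep q q' ∈ q ∧ sep q q' ∉ q' := by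
    intro q q' hq hq' hne
    have h : q ∈ t ∧ q' ∈ t ∧ q ≠ q' := ⟨hq, hq', hne⟩
    simp only [sep, dif_pos h]
    exact (hsep q q' hq hq' hne).choose_spec
  let tf : Finset (Ideal ↥(A X p)) := htfin.toFinset
  let P : Finset (Ideal ↥(A X p) × Ideal ↥(A X p)) := tf ×ˢ tf
  let v : Fin P.card → ↥(A X p) := fun i => sep (P.equivFin.symm i).1.1 (P.equivFin.symm i).1.2
  obtain ⟨N, c, hc⟩ := exists_nbhd_common X p hp P.card v
  refine ⟨N, ?_⟩
  obtain ⟨hflat, -⟩ := toAR_flat_injective hp N
  have himg : Ideal.comap (toAR hp N N.RN) '' t ⊆ minimalPrimes N.RN := by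
    rintro _ ⟨q, hq, rfl⟩
    exact comap_mem_minimalPrimes_of_flat _ hflat q (ht hq)
  have hinj : Set.InjOn (Ideal.comap (toAR hp N N.RN)) t := by
    intro q hq q' hq' hqq'
    by_contra hne
    have hmem : (q, q') ∈ P := by
      simp only [P, tf, Finset.mem_product, Set.Finite.mem_toFinset]
      exact ⟨hq, hq'⟩
    let i : Fin P.card := P.equivFin ⟨(q, q'), hmem⟩
    have hvi : v i = sep q q' := by
      simp only [v, i, Equiv.symm_apply_apply]
    obtain ⟨h1, h2⟩ := hsep1 q q' hq hq' hne
    have h3 : toAR hp N N.RN (algebraMap ↥N.C N.RN (c i)) = sep q q' := by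
      rw [toAR_algebraMap, hc i, hvi]
    have h4 : algebraMap ↥N.C N.RN (c i) ∈ Ideal.comap (toAR hp N N.RN) q := by
      rw [Ideal.mem_comap, h3]
      exact h1
    rw [hqq', Ideal.mem_comap, h3] at h4
    exact h2 h4
  calc (m : ℕ∞) = t.encard := htm.symm
    _ = (Ideal.comap (toAR hp N N.RN) '' t).encard := (hinj.encard_image).symm
    _ ≤ (minimalPrimes N.RN).encard := Set.encard_le_encard himg

/-- the number of geometric branches of an etale chart at a point over a geometric point is the
number of minimal primes of the etale local ring. -/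
theorem numGeomBranchesAt_eq (X : AlgSp.Space S) (p : AlgSp.FieldPt X.obj) (hp : p.IsGeometric)
    (U : Over S) (a : (AlgSp.yon S).obj U ⟶ X.obj) (ha : AlgSp.RepWith @Etale a) (u : ↥U.left)
    (hu : AlgSp.Points.ofPt a u = AlgSp.Points.mk p) :
    Brnch.numGeomBranchesAt U.left u = (minimalPrimes ↥(AlgSp.OEtStalk p)).encard := by
  obtain ⟨A0, _, _, _, _, hsh, ⟨e⟩⟩ := exists_strictHenselization_chart X p hp U a ha u hu
  have h1 := Groth.Agent.S9238.result ↥(U.left.presheaf.stalk u) A0
  rw [encard_minimalPrimes_of_ringEquiv e]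
  exact h1.symm

/-- the local ring of an etale chart at a point over a geometric point has at most as many minimal
primes as the etale local ring. -/
theorem encard_minimalPrimes_stalk_le (X : AlgSp.Space S) (p : AlgSp.FieldPt X.obj)
    (hp : p.IsGeometric) (U : Over S) (a : (AlgSp.yon S).obj U ⟶ X.obj)
    (ha : AlgSp.RepWith @Etale a) (u : ↥U.left)
    (hu : AlgSp.Points.ofPt a u = AlgSp.Points.mk p) :
    (minimalPrimes ↥(U.left.presheaf.stalk u)).encard ≤
      (minimalPrimes ↥(AlgSp.OEtStalk p)).encard := by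
  obtain ⟨A0, _, _, _, _, hsh, ⟨e⟩⟩ := exists_strictHenselization_chart X p hp U a ha u hu
  have hff : Module.FaithfullyFlat ↥(U.left.presheaf.stalk u) A0 :=
    Groth.Agent.S0539.result ↥(U.left.presheaf.stalk u) A0
  have h1 : Function.Injective (algebraMap ↥(U.left.presheaf.stalk u) A0) :=
    FaithfulSMul.algebraMap_injective _ _
  rw [encard_minimalPrimes_of_ringEquiv e]
  exact encard_minimalPrimes_le_of_injective _ h1

end Groth.Agent.Lib.Seat48.OEtLocal
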