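import Mathlib
import Groth.Agent.Lib.Seat48OEtChart
import Groth.Prelude.Def_CAlgX
import Groth.Prelude.Def_CAlg2

/-!
# Minimal primes of the etale local ring of an algebraic space at a geometric point (seat 48)

Namespace `Groth.Agent.Lib.Seat48.OEtLocal`.
-/

set_option autoImplicit false
set_option linter.style.haveILetI false
set_option linter.unusedSectionVars false
set_option backward.isDefEq.respectTransparency false

universe u v

open CategoryTheory CategoryTheory.Limits AlgebraicGeometry Opposite

namespace Groth.Agent.Lib.Seat48.OEtLocal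

open AlgSp IsLocalRing
open Groth.Agent.Lib.Helper9.SpPoint

/-- a ring has a unique minimal prime iff its nilradical is prime. -/
theorem hump_iff_nilradical_isPrime (A : Type v) [CommRing A] :
    CAlgX.HasUniqueMinimalPrime A ↔ (nilradical A).IsPrime := by
  constructor
  · rintro ⟨P, hP, huniq⟩
    have h1 : minimalPrimes A = {P} := by
      ext Q
      constructor
      · intro hQ
        exact huniq Q hQ
      · rintro rfl
        exact hP
    have h2 : sInf (minimalPrimes A) = nilradical A := by
      have := Ideal.sInf_minimalPrimes (I := (⊥ : Ideal A))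
      exact this
    rw [h1, sInf_singleton] at h2
    rw [← h2]
    exact hP.1.1
  · intro h
    have hmin : nilradical A ∈ minimalPrimes A := by
      refine ⟨⟨h, bot_le⟩, fun Q hQ _ => ?_⟩
      haveI := hQ.1
      exact nilradical_le_prime Q
    refine ⟨nilradical A, hmin, fun Q hQ => ?_⟩
    haveI := hQ.1.1
    have h1 : nilradical A ≤ Q := nilradical_le_prime Q
    exact le_antisymm (hQ.2 ⟨h, bot_le⟩ h1) h1

theorem nilradical_isPrime_of_ringEquiv {A : Type u} {B : Type v} [CommRing A] [CommRing B]
    (e : A ≃+* B) (h : (nilradical B).IsPrime) : (nilradical A).IsPrime := by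
  have h1 : nilradical A = Ideal.comap e.toRingHom (nilradical B) := by
    ext x
    rw [Ideal.mem_comap, mem_nilradical, mem_nilradical]
    constructor
    · intro hx
      exact hx.map e.toRingHom
    · intro hx
      have := hx.map e.symm.toRingHom
      simpa using this
  rw [h1]
  exact Ideal.comap_isPrime _ _

theorem hump_of_ringEquiv {A : Type u} {B : Type v} [CommRing A] [CommRing B]
    (e : A ≃+* B) (h : CAlgX.HasUniqueMinimalPrime B) : CAlgX.HasUniqueMinimalPrime A :=
  (hump_iff_nilradical_isPrime A).2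
    (nilradical_isPrime_of_ringEquiv e ((hump_iff_nilradical_isPrime B).1 h))

variable {S : Scheme.{u}} {X : AlgSp.Space S} {p : AlgSp.FieldPt X.obj} (hp : p.IsGeometric)

include hp in
/-- a germ vanishes iff the section vanishes on a smaller affine neighbourhood. -/
theorem Nbhd.exists_over_of_germ_eq_zero (N : Nbhd X p) (c : ↥N.C) (h : N.germ c = 0) :
    ∃ M : NbhdOver N, M.h.hom c = 0 := by
  rw [N.germ_apply] at h
  have h0 : (toA X p N.obj N.pt).hom (ULift.up ((Scheme.ΓSpecIso N.C).inv.hom c)) =
      (toA X p N.obj N.pt).hom 0 := by rw [h, map_zero]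
  obtain ⟨V, f, y, hy, hf⟩ := ((pnt X p hp).toPresheafFiber_eq_iff'
    (P := (AlgSp.OEt X.obj).obj) N.obj N.pt _ _).1 h0
  have hy' : (AlgSp.FieldPt.liftsTo p).map f y = N.pt := hy
  obtain ⟨N', g', hg', -⟩ := exists_nbhd V y ⊤ trivial
  let M : NbhdOver N := ⟨N', g' ≫ f, by rw [Functor.map_comp_apply, hg', hy']⟩
  refine ⟨M, ?_⟩
  rw [← M.res_eq]
  change (Scheme.ΓSpecIso N'.C).hom.hom ((g' ≫ f).hom.left.left.appTop.hom
    ((Scheme.ΓSpecIso N.C).inv.hom c)) = 0
  have h1 : f.hom.left.left.appTop.hom ((Scheme.ΓSpecIso N.C).inv.hom c) = 0 := by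
    have h2 := congrArg ULift.down hf
    rw [map_zero] at h2
    exact h2
  have h3 : (g' ≫ f).hom.left.left.appTop.hom ((Scheme.ΓSpecIso N.C).inv.hom c) =
      g'.hom.left.left.appTop.hom (f.hom.left.left.appTop.hom ((Scheme.ΓSpecIso N.C).inv.hom c)) := by
    change ((g'.hom.left.left ≫ f.hom.left.left).appTop.hom _) = _
    rw [Scheme.Hom.comp_appTop]
    rfl
  rw [h3, h1, map_zero, map_zero]

include hp in
/-- if the local rings of all affine pointed etale neighbourhoods have a unique minimal prime, then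
the nilradical of the etale local ring is prime. -/
theorem nilradical_isPrime_of_nbhds
    (h : ∀ N : Nbhd X p, CAlgX.HasUniqueMinimalPrime ↥((Spec N.C).presheaf.stalk N.x)) :
    (nilradical ↥(A X p)).IsPrime := by
  haveI := nontrivial X p hp
  rw [Ideal.isPrime_iff]
  refine ⟨?_, fun {a b} hab => ?_⟩
  · intro htop
    have h1 : (1 : ↥(A X p)) ∈ nilradical ↥(A X p) := htop ▸ Submodule.mem_top
    rw [mem_nilradical] at h1
    exact not_isNilpotent_one h1
  · obtain ⟨n, hn⟩ := (mem_nilradical.1 hab)
    obtain ⟨N, c, hc⟩ := exists_nbhd_common X p hp 2 ![a, b]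
    have ha : N.germ (c 0) = a := hc 0
    have hb : N.germ (c 1) = b := hc 1
    have h0 : N.germ ((c 0 * c 1) ^ n) = 0 := by rw [map_pow, map_mul, ha, hb, hn]
    obtain ⟨M, hM⟩ := N.exists_over_of_germ_eq_zero hp _ h0
    have ha' : M.N.germ (M.h.hom (c 0)) = a := by rw [M.germ_h hp, ha]
    have hb' : M.N.germ (M.h.hom (c 1)) = b := by rw [M.germ_h hp, hb]
    have h1 : (M.h.hom (c 0) * M.h.hom (c 1)) ^ n = 0 := by
      rw [← map_mul, ← map_pow]
      exact hM
    haveI : IsLocalization.AtPrime ↥((Spec.structureSheaf ↥M.N.C).presheaf.stalk M.N.x) M.N.P :=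
      isLocalization_atPrime_of_eq _ _ M.N.x_asIdeal
    have hprime : (nilradical ↥((Spec.structureSheaf ↥M.N.C).presheaf.stalk M.N.x)).IsPrime :=
      (hump_iff_nilradical_isPrime _).1 (h M.N)
    have h2 : algebraMap ↥M.N.C ↥((Spec.structureSheaf ↥M.N.C).presheaf.stalk M.N.x)
          (M.h.hom (c 0)) *
        algebraMap ↥M.N.C ↥((Spec.structureSheaf ↥M.N.C).presheaf.stalk M.N.x)
          (M.h.hom (c 1)) ∈
        nilradical ↥((Spec.structureSheaf ↥M.N.C).presheaf.stalk M.N.x) := by
      rw [mem_nilradical]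
      exact ⟨n, by rw [← map_mul, ← map_pow, h1, map_zero]⟩
    have key : ∀ (c' : ↥M.N.C) (a' : ↥(A X p)), M.N.germ c' = a' →
        algebraMap ↥M.N.C ↥((Spec.structureSheaf ↥M.N.C).presheaf.stalk M.N.x) c' ∈
          nilradical ↥((Spec.structureSheaf ↥M.N.C).presheaf.stalk M.N.x) →
        a' ∈ nilradical ↥(A X p) := by
      intro c' a' hca h3
      obtain ⟨m, hm⟩ := mem_nilradical.1 h3
      rw [← map_pow, IsLocalization.map_eq_zero_iff M.N.P.primeCompl] at hm
      obtain ⟨s, hs⟩ := hm
      have hu := isUnit_germ_of_primeCompl hp M.N s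
      have h4 : M.N.germ (s : ↥M.N.C) * a' ^ m = 0 := by
        rw [← hca, ← map_pow, ← map_mul, hs, map_zero]
      rw [mem_nilradical]
      exact ⟨m, (hu.mul_right_eq_zero).1 h4⟩
    rcases hprime.mem_or_mem h2 with h3 | h3
    · exact Or.inl (key _ _ ha' h3)
    · exact Or.inr (key _ _ hb' h3)

/-- a geometrically unibranch local ring has a unique minimal prime. -/
theorem hump_of_isGeomUnibranch (A : Type v) [CommRing A] [IsLocalRing A]
    (h : CAlg2.IsGeomUnibranch A) : CAlgX.HasUniqueMinimalPrime A := by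
  rw [hump_iff_nilradical_isPrime]
  have h1 : IsDomain (A ⧸ nilradical A) := h.1.1
  exact (Ideal.Quotient.isDomain_iff_prime (nilradical A)).1 h1

include hp in
/-- if the local rings of all etale charts at the points over `x` have a unique minimal prime, then
so does the etale local ring at every geometric point over `x`. -/
theorem hump_OEtStalk_of_charts (x : AlgSp.Points X.obj) (hpx : AlgSp.Points.mk p = x)
    (h : ∀ (U : Over S) (a : (AlgSp.yon S).obj U ⟶ X.obj) (u : ↥U.left),
      AlgSp.RepWith @Etale a → AlgSp.Points.ofPt a u = x →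
        CAlgX.HasUniqueMinimalPrime ↥(U.left.presheaf.stalk u)) :
    CAlgX.HasUniqueMinimalPrime ↥(AlgSp.OEtStalk p) := by
  rw [hump_iff_nilradical_isPrime]
  refine nilradical_isPrime_of_nbhds hp (fun N => ?_)
  refine h (Over.mk N.str) N.a N.x N.et ?_
  rw [← hpx]
  exact ofPt_lift p N.obj N.pt _

end Groth.Agent.Lib.Seat48.OEtLocal
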