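import Mathlib
import Groth.Agent.Lib.Seat48PushBC
import Groth.Agent.Lib.Seat48WeakAssChart

/-!
# Finite type and direct images along affine morphisms (seat 48)

Namespace `Groth.Agent.Lib.Seat48.PushBC`.

* `isFiniteType_of_finite_sections_bc`: a module with base change on affines on `X` whose sections
  over the base changes `E ×_Y X` of the affine objects `E` of the small etale site of `Y` are
  finite is of finite type (`f : X ⟶ Y` affine).
-/

set_option autoImplicit false
set_option linter.style.haveILetI false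
set_option linter.unusedSectionVars false
set_option backward.isDefEq.respectTransparency false

universe u

open CategoryTheory CategoryTheory.Limits AlgebraicGeometry Opposite

namespace Groth.Agent.Lib.Seat48.PushBC

open AlgSp
open Groth.Agent.Lib.Seat48.BCAlg
open Groth.Agent.Lib.Seat48.BCSite
open Groth.Agent.Lib.Seat48.BCEt
open Groth.Agent.Lib.Seat48.PushWeakAss
open Groth.Agent.Lib.Seat48.WeakAssChart

attribute [local instance] Groth.Agent.Lib.Seat48.BCSite.commRingSect

variable {S : Scheme.{u}} {X Y : AlgSp.Sp S} {f : X ⟶ Y}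

theorem isFiniteType_of_finite_sections_bc (hY : AlgSp.IsAlgSpace Y) (hf : AlgSp.Representable f)
    (haff : AlgSp.IsAffineMor f) (F : AlgSp.ModEt X) (hF : HasBCOn (affineData X) F.val)
    (hfin : ∀ E : AlgSp.EtOver Y, IsAffine E.obj.left.left →
      Module.Finite ((AlgSp.OEtRing X).obj.obj (op ((AlgSp.EtOver.bc hf).obj E)))
        (F.val.obj (op ((AlgSp.EtOver.bc hf).obj E)))) :
    F.IsFiniteType := by
  refine BCSite.isFiniteType_of_sections (affineData X) (affCover X) F hF (fun W => ?_)
  rw [Groth.Agent.Lib.Helper9.SpEt.mem_etTop_iff]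
  intro w
  obtain ⟨E, hE, e, he⟩ := exists_affine_chart hY
    (AlgSp.Points.map f (AlgSp.Points.ofPt W.obj.hom w))
  obtain ⟨x', -, hx'2⟩ := exists_point_bc hf E e _ he.symm
  obtain ⟨V, hV, a, b, v, hav, -⟩ :=
    exists_common_affine W ((AlgSp.EtOver.bc hf).obj E) w x' hx'2.symm
  refine ⟨V, a, v, ?_, hav⟩
  have hW : IsAffine ((AlgSp.EtOver.bc hf).obj E).obj.left.left := isAffine_bcObj hf haff E
  have hVfin : Module.Finite ((AlgSp.OEtRing X).obj.obj (op V)) (F.val.obj (op V)) := by
    haveI := hfin E hE
    exact IsBC.finite (hF b hW hV)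
  exact ⟨⟨V, hV, hVfin⟩, ⟨𝟙 V⟩⟩

end Groth.Agent.Lib.Seat48.PushBC
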