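import Mathlib
import Groth.Agent.Lib.Seat48PushBC2
import Groth.Agent.Lib.Seat48BCSite9

/-!
# Finite presentation and direct images along finite morphisms of finite presentation (seat 48)

Namespace `Groth.Agent.Lib.Seat48.PushBC`.

* `BCEt.finitePresentation_sections`: sections over affines of a module of finite presentation on
  the small etale site are finitely presented.
* `finitePresentation_bcRingHom`: for `f` finite and of finite presentation, `O(E ×_Y X)` is a
  finitely presented `O(E)`-module for affine `E`.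
* `finitePresentation_sections_push`, `finitePresentation_sections_of_push`.
* `isFinitePresentation_of_finitePresentation_sections_bc`.
-/

set_option autoImplicit false
set_option linter.style.haveILetI false
set_option linter.unusedSectionVars false
set_option backward.isDefEq.respectTransparency false

universe u

open CategoryTheory CategoryTheory.Limits AlgebraicGeometry Opposite

namespace Groth.Agent.Lib.Seat48.BCEt

open AlgSp
open Groth.Agent.Lib.Seat48.BCAlg
open Groth.Agent.Lib.Seat48.BCSite

attribute [local instance] Groth.Agent.Lib.Seat48.BCSite.commRingSect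

variable {S : Scheme.{u}} {X : AlgSp.Sp S}

/-- sections over affines of a module of finite presentation are finitely presented. -/
theorem finitePresentation_sections (M : AlgSp.ModEt X) [M.IsFinitePresentation]
    (E : AlgSp.EtOver X) (hE : IsAffine E.obj.left.left) :
    Module.FinitePresentation ((AlgSp.OEtRing X).obj.obj (op E)) (M.val.obj (op E)) :=
  BCSite.finitePresentation_sections_of_isFinitePresentation (affineData X) M
    (hasBCOn_of_isQuasicoherent M) hE

end Groth.Agent.Lib.Seat48.BCEt

namespace Groth.Agent.Lib.Seat48.PushBC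

open AlgSp
open Groth.Agent.Lib.Seat48.BCAlg
open Groth.Agent.Lib.Seat48.BCSite
open Groth.Agent.Lib.Seat48.BCEt
open Groth.Agent.Lib.Seat48.PushWeakAss
open Groth.Agent.Lib.Seat48.WeakAssChart

attribute [local instance] Groth.Agent.Lib.Seat48.BCSite.commRingSect

variable {S : Scheme.{u}} {X Y : AlgSp.Sp S} {f : X ⟶ Y}

section Alg

universe w

theorem finitePresentation_ulift {R S : Type u} [CommRing R] [CommRing S] {φ : R →+* S}
    (hφ : φ.FinitePresentation) : (RingHom.ulift.{w, w} φ).FinitePresentation := by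
  have h1 : ((ULift.ringEquiv : ULift.{w} R ≃+* R).toRingHom).FinitePresentation :=
    RingHom.FinitePresentation.of_bijective (ULift.ringEquiv : ULift.{w} R ≃+* R).bijective
  have h2 : ((ULift.ringEquiv.symm : S ≃+* ULift.{w} S).toRingHom).FinitePresentation :=
    RingHom.FinitePresentation.of_bijective (ULift.ringEquiv.symm : S ≃+* ULift.{w} S).bijective
  have h3 : RingHom.ulift.{w, w} φ =
      ((ULift.ringEquiv.symm : S ≃+* ULift.{w} S).toRingHom).comp
        (φ.comp (ULift.ringEquiv : ULift.{w} R ≃+* R).toRingHom) := rfl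
  rw [h3]
  exact h2.comp (hφ.comp h1)

end Alg

/-- for a finite morphism of finite presentation, the functions on `E ×_Y X` form a finitely
presented module over the functions on an affine object `E`. -/
theorem finitePresentation_bcRingHom (hf : AlgSp.Representable f) (hfin : AlgSp.IsFiniteMor f)
    (hfp : AlgSp.LocP @LocallyOfFinitePresentation f)
    (E : AlgSp.EtOver Y) (hE : IsAffine E.obj.left.left) :
    letI : Algebra ((AlgSp.OEtRing Y).obj.obj (op E))
        ((AlgSp.OEtRing X).obj.obj (op ((AlgSp.EtOver.bc hf).obj E))) :=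
      ((AlgSp.bcRingHom hf).hom.app (op E)).hom.toAlgebra
    Module.FinitePresentation ((AlgSp.OEtRing Y).obj.obj (op E))
      ((AlgSp.OEtRing X).obj.obj (op ((AlgSp.EtOver.bc hf).obj E))) := by
  letI : Algebra ((AlgSp.OEtRing Y).obj.obj (op E))
      ((AlgSp.OEtRing X).obj.obj (op ((AlgSp.EtOver.bc hf).obj E))) :=
    ((AlgSp.bcRingHom hf).hom.app (op E)).hom.toAlgebra
  haveI := hE
  haveI hW1 : IsAffine ((AlgSp.EtOver.bc hf).obj E).obj.left.left :=
    isAffine_bcObj hf (isAffineMor_of_isFiniteMor hfin) E
  haveI hW2 : IsAffine (AlgSp.EtOver.bcObj hf E).obj.left.left := hW1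
  haveI hlfp : LocallyOfFinitePresentation (AlgSp.EtOver.bcπ hf E).left :=
    hfp ((AlgSp.EtOver.bc hf).obj E).obj.hom E.obj.hom (AlgSp.EtOver.bcπ hf E)
      ((AlgSp.EtOver.bc hf).obj E).property E.property (AlgSp.EtOver.isPullback_bcObj hf E).w
  have h1 : RingHom.FinitePresentation
      (A := (AlgSp.OEtRing Y).obj.obj (op E))
      (B := (AlgSp.OEtRing X).obj.obj (op ((AlgSp.EtOver.bc hf).obj E)))
      ((AlgSp.bcRingHom hf).hom.app (op E)).hom :=
    finitePresentation_ulift.{u, u + 1} (AlgSp.EtOver.bcπ hf E).left.finitePresentation_appTop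
  haveI : Algebra.FinitePresentation ((AlgSp.OEtRing Y).obj.obj (op E))
      ((AlgSp.OEtRing X).obj.obj (op ((AlgSp.EtOver.bc hf).obj E))) := h1
  haveI : Module.Finite ((AlgSp.OEtRing Y).obj.obj (op E))
      ((AlgSp.OEtRing X).obj.obj (op ((AlgSp.EtOver.bc hf).obj E))) :=
    finite_bcRingHom hf hfin E hE
  exact Module.FinitePresentation.of_finite_of_finitePresentation _ _

/-- sections of the direct image along a finite morphism of finite presentation of a module with
finitely presented sections on affines are finitely presented. -/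
theorem finitePresentation_sections_push (hf : AlgSp.Representable f)
    (hfin : AlgSp.IsFiniteMor f) (hfp : AlgSp.LocP @LocallyOfFinitePresentation f)
    (M : AlgSp.ModEt X)
    (hM : ∀ W : AlgSp.EtOver X, IsAffine W.obj.left.left →
      Module.FinitePresentation ((AlgSp.OEtRing X).obj.obj (op W)) (M.val.obj (op W)))
    (E : AlgSp.EtOver Y) (hE : IsAffine E.obj.left.left) :
    Module.FinitePresentation ((AlgSp.OEtRing Y).obj.obj (op E))
      (((AlgSp.pushModEt hf).obj M).val.obj (op E)) := by
  haveI := hE
  have hW : IsAffine ((AlgSp.EtOver.bc hf).obj E).obj.left.left :=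
    isAffine_bcObj hf (isAffineMor_of_isFiniteMor hfin) E
  have h1 := hM _ hW
  have h2 := finitePresentation_bcRingHom hf hfin hfp E hE
  letI : Algebra ((AlgSp.OEtRing Y).obj.obj (op E))
      ((AlgSp.OEtRing X).obj.obj (op ((AlgSp.EtOver.bc hf).obj E))) :=
    ((AlgSp.bcRingHom hf).hom.app (op E)).hom.toAlgebra
  letI iM : Module ((AlgSp.OEtRing Y).obj.obj (op E))
      (M.val.obj (op ((AlgSp.EtOver.bc hf).obj E))) :=
    Module.compHom _ ((AlgSp.bcRingHom hf).hom.app (op E)).hom
  haveI : IsScalarTower ((AlgSp.OEtRing Y).obj.obj (op E))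
      ((AlgSp.OEtRing X).obj.obj (op ((AlgSp.EtOver.bc hf).obj E)))
      (M.val.obj (op ((AlgSp.EtOver.bc hf).obj E))) :=
    IsScalarTower.of_algebraMap_smul (fun _ _ => rfl)
  haveI : Module.FinitePresentation ((AlgSp.OEtRing Y).obj.obj (op E))
      ((AlgSp.OEtRing X).obj.obj (op ((AlgSp.EtOver.bc hf).obj E))) := h2
  haveI : Module.FinitePresentation ((AlgSp.OEtRing Y).obj.obj (op E))
      (M.val.obj (op ((AlgSp.EtOver.bc hf).obj E))) :=
    Module.FinitePresentation.trans _ _
      ((AlgSp.OEtRing X).obj.obj (op ((AlgSp.EtOver.bc hf).obj E)))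
  let eM : (M.val.obj (op ((AlgSp.EtOver.bc hf).obj E))) ≃ₗ[(AlgSp.OEtRing Y).obj.obj (op E)]
      (((AlgSp.pushModEt hf).obj M).val.obj (op E)) :=
    { toFun := fun x => x, invFun := fun x => x, map_add' := fun _ _ => rfl,
      map_smul' := fun _ _ => rfl, left_inv := fun _ => rfl, right_inv := fun _ => rfl }
  exact Module.FinitePresentation.of_equiv eM

/-- conversely, for `f` finite, finite presentation of the sections of the direct image over `E`
gives finite presentation of the sections over `E ×_Y X`. -/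
theorem finitePresentation_sections_of_push (hf : AlgSp.Representable f)
    (hfin : AlgSp.IsFiniteMor f) (M : AlgSp.ModEt X)
    (E : AlgSp.EtOver Y) (hE : IsAffine E.obj.left.left)
    (h : Module.FinitePresentation ((AlgSp.OEtRing Y).obj.obj (op E))
      (((AlgSp.pushModEt hf).obj M).val.obj (op E))) :
    Module.FinitePresentation ((AlgSp.OEtRing X).obj.obj (op ((AlgSp.EtOver.bc hf).obj E)))
      (M.val.obj (op ((AlgSp.EtOver.bc hf).obj E))) := by
  letI : Algebra ((AlgSp.OEtRing Y).obj.obj (op E))
      ((AlgSp.OEtRing X).obj.obj (op ((AlgSp.EtOver.bc hf).obj E))) :=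
    ((AlgSp.bcRingHom hf).hom.app (op E)).hom.toAlgebra
  letI iM : Module ((AlgSp.OEtRing Y).obj.obj (op E))
      (M.val.obj (op ((AlgSp.EtOver.bc hf).obj E))) :=
    Module.compHom _ ((AlgSp.bcRingHom hf).hom.app (op E)).hom
  haveI : IsScalarTower ((AlgSp.OEtRing Y).obj.obj (op E))
      ((AlgSp.OEtRing X).obj.obj (op ((AlgSp.EtOver.bc hf).obj E)))
      (M.val.obj (op ((AlgSp.EtOver.bc hf).obj E))) :=
    IsScalarTower.of_algebraMap_smul (fun _ _ => rfl)
  haveI : Module.Finite ((AlgSp.OEtRing Y).obj.obj (op E))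
      ((AlgSp.OEtRing X).obj.obj (op ((AlgSp.EtOver.bc hf).obj E))) :=
    finite_bcRingHom hf hfin E hE
  let eM : (((AlgSp.pushModEt hf).obj M).val.obj (op E)) ≃ₗ[(AlgSp.OEtRing Y).obj.obj (op E)]
      (M.val.obj (op ((AlgSp.EtOver.bc hf).obj E))) :=
    { toFun := fun x => x, invFun := fun x => x, map_add' := fun _ _ => rfl,
      map_smul' := fun _ _ => rfl, left_inv := fun _ => rfl, right_inv := fun _ => rfl }
  haveI : Module.FinitePresentation ((AlgSp.OEtRing Y).obj.obj (op E))
      (M.val.obj (op ((AlgSp.EtOver.bc hf).obj E))) := Module.FinitePresentation.of_equiv eM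
  exact finitePresentation_of_restrictScalars (A := (AlgSp.OEtRing Y).obj.obj (op E))

theorem isFinitePresentation_of_finitePresentation_sections_bc (hY : AlgSp.IsAlgSpace Y)
    (hf : AlgSp.Representable f) (haff : AlgSp.IsAffineMor f) (F : AlgSp.ModEt X)
    (hF : HasBCOn (affineData X) F.val)
    (hfin : ∀ E : AlgSp.EtOver Y, IsAffine E.obj.left.left →
      Module.FinitePresentation ((AlgSp.OEtRing X).obj.obj (op ((AlgSp.EtOver.bc hf).obj E)))
        (F.val.obj (op ((AlgSp.EtOver.bc hf).obj E)))) :
    F.IsFinitePresentation := by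
  refine BCSite.isFinitePresentation_of_sections (affineData X) (affCover X) F hF (fun W => ?_)
  rw [Groth.Agent.Lib.Helper9.SpEt.mem_etTop_iff]
  intro w
  obtain ⟨E, hE, e, he⟩ := exists_affine_chart hY
    (AlgSp.Points.map f (AlgSp.Points.ofPt W.obj.hom w))
  obtain ⟨x', -, hx'2⟩ := exists_point_bc hf E e _ he.symm
  obtain ⟨V, hV, a, b, v, hav, -⟩ :=
    exists_common_affine W ((AlgSp.EtOver.bc hf).obj E) w x' hx'2.symm
  refine ⟨V, a, v, ?_, hav⟩
  have hW : IsAffine ((AlgSp.EtOver.bc hf).obj E).obj.left.left := isAffine_bcObj hf haff E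
  have hVfin : Module.FinitePresentation ((AlgSp.OEtRing X).obj.obj (op V)) (F.val.obj (op V)) := by
    haveI := hfin E hE
    exact IsBC.finitePresentation (hF b hW hV)
  exact ⟨⟨V, hV, hVfin⟩, ⟨𝟙 V⟩⟩

end Groth.Agent.Lib.Seat48.PushBC
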