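import Mathlib
import Groth.Prelude.Def_AlgSp3

/-!
# Plumbing for morphisms of fppf sheaves (seat 48)

* `prodMap_mem`: for a property `P` of morphisms of sheaves stable under base change and composition
  (e.g. `AlgSp.RepWith @Etale`, `AlgSp.RepWith @Surjective`), the product over `Y` of two morphisms
  with `P` has `P`: `V ×_Y W ⟶ X ×_Y Y'`.
-/

set_option autoImplicit false
universe u
open CategoryTheory CategoryTheory.Limits AlgebraicGeometry

namespace Groth.Agent.Lib.Seat48.SpPlumb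

open AlgSp

variable {S : Scheme.{u}}

/-- the product over `Y` of two morphisms with a property stable under base change and composition
has that property: `U = V ×_Y W ⟶ X ×_Y Y' = X'`. -/
theorem prodMap_mem (P : MorphismProperty (AlgSp.Sp S)) [P.IsStableUnderBaseChange]
    [P.IsStableUnderComposition]
    {X Y Y' X' V W U : AlgSp.Sp S} {f : X ⟶ Y} {g : Y' ⟶ Y} {g' : X' ⟶ X} {f' : X' ⟶ Y'}
    (hX' : IsPullback g' f' f g) {φ : V ⟶ X} {β : W ⟶ Y'} {u₁ : U ⟶ V} {u₂ : U ⟶ W}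
    (hU : IsPullback u₁ u₂ (φ ≫ f) (β ≫ g)) (c : U ⟶ X') (hc₁ : c ≫ g' = u₁ ≫ φ)
    (hc₂ : c ≫ f' = u₂ ≫ β) (hφ : P φ) (hβ : P β) : P c := by
  -- `M = X ×_Y W`
  have hM := IsPullback.of_hasPullback f (β ≫ g)
  -- `c₂ : M ⟶ X'`
  have hw₂ : pullback.fst f (β ≫ g) ≫ f = (pullback.snd f (β ≫ g) ≫ β) ≫ g := by
    rw [Category.assoc]; exact hM.w
  have hsq₂ : IsPullback (hX'.lift _ _ hw₂) (pullback.snd f (β ≫ g)) f' β := by
    refine IsPullback.of_right ?_ (hX'.lift_snd _ _ hw₂) hX'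
    rw [hX'.lift_fst _ _ hw₂]
    exact hM
  have hc₂P : P (hX'.lift _ _ hw₂) := MorphismProperty.of_isPullback hsq₂.flip hβ
  -- `c₁ : U ⟶ M`
  have hw₁ : (u₁ ≫ φ) ≫ f = u₂ ≫ β ≫ g := by
    rw [Category.assoc]; exact hU.w
  have hsq₁ : IsPullback (hM.lift _ _ hw₁) u₁ (pullback.fst f (β ≫ g)) φ := by
    refine IsPullback.of_right ?_ (hM.lift_fst _ _ hw₁) hM.flip
    rw [hM.lift_snd _ _ hw₁]
    exact hU.flip
  have hc₁P : P (hM.lift _ _ hw₁) := MorphismProperty.of_isPullback hsq₁.flip hφ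
  have hcomp : c = hM.lift _ _ hw₁ ≫ hX'.lift _ _ hw₂ := by
    apply hX'.hom_ext
    · rw [hc₁, Category.assoc, hX'.lift_fst, hM.lift_fst]
    · rw [hc₂, Category.assoc, hX'.lift_snd, ← Category.assoc, hM.lift_snd]
  rw [hcomp]
  exact P.comp_mem _ _ hc₁P hc₂P

end Groth.Agent.Lib.Seat48.SpPlumb
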