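import Mathlib
import Groth.Agent.Lib.Seat48StalkEt

/-!
# Isomorphisms on sections from vanishing of kernel and cokernel (seat 48)

Namespace `Groth.Agent.Lib.Seat48.StalkEt`.
-/

set_option autoImplicit false
set_option linter.style.haveILetI false
set_option linter.unusedSectionVars false
set_option backward.isDefEq.respectTransparency false

universe u

open CategoryTheory CategoryTheory.Limits AlgebraicGeometry Opposite

namespace Groth.Agent.Lib.Seat48.StalkEt

open AlgSp

section General

universe w v₁ u₁

variable {C : Type u₁} [Category.{v₁} C] {J : GrothendieckTopology C} {R : Sheaf J RingCat.{w}}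

/-- a sheaf of modules without nonzero sections is a zero object. -/
theorem isZero_of_sections (N : SheafOfModules.{w} R) (h : ∀ (W : Cᵒᵖ) (σ : N.val.obj W), σ = 0) :
    IsZero N := by
  rw [IsZero.iff_id_eq_zero]
  apply SheafOfModules.hom_ext
  apply PresheafOfModules.hom_ext
  intro W
  apply ModuleCat.hom_ext
  ext σ
  exact (h W _).trans (h W _).symm

end General

variable {S : Scheme.{u}} {X : AlgSp.Sp S}

/-- a morphism of modules whose kernel and cokernel have no sections over the objects over `E` is
bijective on sections over `E`. -/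
theorem isIso_app_of_sections_eq_zero {G F : AlgSp.ModEt X} (φ : G ⟶ F) (E : AlgSp.EtOver X)
    (hK0 : ∀ (Y : Over E) (σ : (kernel φ).val.obj (op Y.left)), σ = 0)
    (hC0 : ∀ (Y : Over E) (σ : (cokernel φ).val.obj (op Y.left)), σ = 0) :
    IsIso (φ.val.app (op E)) := by
  have hKz : IsZero ((AlgSp.resModEt E).obj (kernel φ)) :=
    isZero_of_sections _ (fun W σ => hK0 W.unop σ)
  have hCz : IsZero ((AlgSp.resModEt E).obj (cokernel φ)) :=
    isZero_of_sections _ (fun W σ => hC0 W.unop σ)
  have hKz' : IsZero (kernel ((AlgSp.resModEt E).map φ)) :=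
    IsZero.of_iso hKz (PreservesKernel.iso (AlgSp.resModEt E) φ).symm
  have hCz' : IsZero (cokernel ((AlgSp.resModEt E).map φ)) :=
    IsZero.of_iso hCz (PreservesCokernel.iso (AlgSp.resModEt E) φ).symm
  haveI : Mono ((AlgSp.resModEt E).map φ) :=
    Preadditive.mono_of_kernel_zero (hKz'.eq_of_src _ _)
  haveI : Epi ((AlgSp.resModEt E).map φ) :=
    Preadditive.epi_of_cokernel_zero (hCz'.eq_of_tgt _ _)
  haveI : IsIso ((AlgSp.resModEt E).map φ) := isIso_of_mono_of_epi _
  have h : IsIso ((SheafOfModules.evaluation (AlgSp.OEtOn E) (op (Over.mk (𝟙 E)))).map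
      ((AlgSp.resModEt E).map φ)) := inferInstance
  exact h

end Groth.Agent.Lib.Seat48.StalkEt
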