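import Mathlib
import Groth.Agent.Lib.Seat48StalkEt
import Groth.Agent.Lib.Seat48BCSite6
import Groth.Agent.Lib.Seat48ExtBC2

/-!
# Surjectivity on stalks near a point (seat 48)

Namespace `Groth.Agent.Lib.Seat48.StalkEt`.
-/

set_option autoImplicit false
set_option linter.style.haveILetI false
set_option linter.unusedSectionVars false
set_option backward.isDefEq.respectTransparency false

universe u

open CategoryTheory CategoryTheory.Limits AlgebraicGeometry Opposite

namespace Groth.Agent.Lib.Seat48.StalkEt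

open AlgSp
open Groth.Agent.Lib.Seat48.BCAlg
open Groth.Agent.Lib.Seat48.BCSite
open Groth.Agent.Lib.Seat48.BCEt
open Groth.Agent.Lib.Seat48.ModSect
open Groth.Agent.Lib.Seat48.CohEt
open Groth.Agent.Lib.Helper9.SpPoint

attribute [local instance] Groth.Agent.Lib.Seat48.BCSite.commRingSect

variable {S : Scheme.{u}}

/-- over an affine object, a section of the target killed by the projection to the cokernel comes
from the source (modules with base change on affines). -/
theorem exists_preimage_of_cokernel_eq_zero {X : AlgSp.Sp S} {G F : AlgSp.ModEt X} (φ : G ⟶ F)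
    (hG : HasBCOn (affineData X) G.val) (hF : HasBCOn (affineData X) F.val)
    {W : AlgSp.EtOver X} (hW : IsAffine W.obj.left.left) (t : F.val.obj (op W))
    (ht : (cokernel.π φ).val.app (op W) t = 0) : ∃ g : G.val.obj (op W), φ.val.app (op W) g = t := by
  have hC : HasBCOn (affineData X) (cokernel φ).val := hasBCOn_cokernel _ φ hG hF
  obtain ⟨-, hex⟩ := app_injective_and_exact_of_isLimit (cokernel.π φ)
    (KernelFork.ofι (kernel.ι (cokernel.π φ)) (kernel.condition (cokernel.π φ)))
    (kernelIsKernel (cokernel.π φ)) (op W)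
  obtain ⟨k, hk⟩ := (hex t).1 ht
  have hK : HasBCOn (affineData X) (kernel (cokernel.π φ)).val :=
    hasBCOn_kernel _ (cokernel.π φ) hF hC
  have hsurj := app_surjective_of_epi (affineData X) (Abelian.factorThruImage φ) hG hK
    (show (affineData X).Aff W from hW)
  obtain ⟨g, hg⟩ := hsurj k
  have hfac : Abelian.factorThruImage φ ≫ kernel.ι (cokernel.π φ) = φ := Abelian.image.fac φ
  refine ⟨g, ?_⟩
  have h := congrArg (fun f : G ⟶ F => (f.val.app (op W)).hom g) hfac
  rw [← hk, ← hg]
  exact h.symm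

variable (X : AlgSp.Space S)

/-- **if the cokernel of a morphism of modules with base change on affines has no sections over an
affine object `V`, the morphism is surjective on stalks at the geometric points over the image of
`V`.** -/
theorem stalk_map_surjective_of_cokernel_eq_zero {G F : AlgSp.ModEt X.obj} (φ : G ⟶ F)
    (hG : HasBCOn (affineData X.obj) G.val) (hF : HasBCOn (affineData X.obj) F.val)
    {V : AlgSp.EtOver X.obj} (hV : IsAffine V.obj.left.left)
    (hV0 : ∀ σ : (cokernel φ).val.obj (op V), σ = 0)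
    (p : AlgSp.FieldPt X.obj) (hp : p.IsGeometric)
    (hpV : AlgSp.Points.mk p ∈ Set.range (AlgSp.Points.ofPt V.obj.hom)) :
    Function.Surjective
      ((AlgSp.stalkEtFunctor AddCommGrpCat.{u + 1} p).map ((AlgSp.toAbEt X.obj).map φ)).hom := by
  have hC : HasBCOn (affineData X.obj) (cokernel φ).val := hasBCOn_cokernel _ φ hG hF
  intro z
  obtain ⟨U, l, σ, rfl⟩ := germ_surjective X ((AlgSp.toAbEt X.obj).obj F) p hp z
  obtain ⟨v, hv⟩ := hpV
  obtain ⟨lV⟩ := exists_lift_of_ofPt_eq_mk p hp V v hv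
  obtain ⟨⟨Y', y'⟩, ⟨a₁, ha₁⟩, ⟨a₂, ha₂⟩, -⟩ := IsCofilteredOrEmpty.cone_objs
    (C := (AlgSp.FieldPt.liftsTo p).Elements)
    (⟨U, l⟩ : AlgSp.EtNbhd p) (⟨V, lV⟩ : AlgSp.EtNbhd p)
  change (AlgSp.FieldPt.liftsTo p).map a₁ y' = l at ha₁
  change (AlgSp.FieldPt.liftsTo p).map a₂ y' = lV at ha₂
  obtain ⟨Y₁, hY₁, -, y'', hy''⟩ := exists_affine_nbhd X p hp y' ⊤ trivial
  have hW0 : ∀ τ : (cokernel φ).val.obj (op (affObj Y' Y₁)), τ = 0 :=
    eq_zero_of_hom X (cokernel φ) hC (affHom Y' Y₁ ≫ a₂) hV hY₁ hV0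
  obtain ⟨g, hg⟩ := exists_preimage_of_cokernel_eq_zero φ hG hF (W := affObj Y' Y₁) hY₁
    (F.val.map (affHom Y' Y₁ ≫ a₁).op σ) (hW0 _)
  refine ⟨germ X G p y'' g, ?_⟩
  rw [stalk_map_germ, hg, germ_map, Functor.map_comp_apply, hy'', ha₁]
  rfl

end Groth.Agent.Lib.Seat48.StalkEt
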