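import Mathlib
import Groth.Agent.Lib.Seat48SuppSub2
import Groth.Agent.Lib.Seat48BCEt4

/-!
# Sections supported on the complement of an open subspace of a locally Noetherian space (seat 48)

Namespace `Groth.Agent.Lib.Seat48.SuppSub`.
-/

set_option autoImplicit false
set_option linter.style.haveILetI false
set_option linter.unusedSectionVars false
set_option backward.isDefEq.respectTransparency false

universe u

open CategoryTheory CategoryTheory.Limits AlgebraicGeometry Opposite

namespace Groth.Agent.Lib.Seat48.SuppSub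

open AlgSp
open Groth.Agent.Lib.Seat48.BCAlg
open Groth.Agent.Lib.Seat48.BCSite
open Groth.Agent.Lib.Seat48.BCEt
open Groth.Agent.Lib.Seat48.SubSheaf
open Groth.Agent.Lib.Seat48.ModSect
open Groth.Agent.Lib.Seat48.AnnSub
open Groth.Agent.Lib.Seat48.WeakAssChart

attribute [local instance] Groth.Agent.Lib.Seat48.BCSite.commRingSect

variable {S : Scheme.{u}} {X U : AlgSp.Sp S} {j : U ⟶ X}

/-- over an affine object of a locally Noetherian space the inverse image of the complement of an
open subspace is the zero locus of a finitely generated ideal. -/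
theorem exists_fg_ideal_zeroLocus_of_locNoeth (hj : AlgSp.RepWith @IsOpenImmersion j)
    (hN : AlgSp.IsLocNoethSp X) (W : AlgSp.EtOver X) (hW : IsAffine W.obj.left.left) :
    ∃ I : Ideal Γ(W.obj.left.left, ⊤), I.FG ∧
      W.obj.left.left.zeroLocus (U := ⊤) (I : Set Γ(W.obj.left.left, ⊤)) =
        {w | AlgSp.Points.ofPt W.obj.hom w ∈ (Set.range (AlgSp.Points.map j))ᶜ} := by
  have hopen := isOpen_setOf_inU hj W
  haveI : IsNoetherianRing Γ(W.obj.left.left, ⊤) :=
    Groth.Agent.Lib.Seat48.PushWeakAss.isNoetherianRing_of_isLocNoethSp hN W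
  set Vs : Set W.obj.left.left :=
    {w | AlgSp.Points.ofPt W.obj.hom w ∈ Set.range (AlgSp.Points.map j)} with hVs
  haveI : TopologicalSpace.NoetherianSpace (PrimeSpectrum Γ(W.obj.left.left, ⊤)) := inferInstance
  have h1 : IsCompact (W.obj.left.left.isoSpec.hom '' Vs) ∧
      IsOpen (W.obj.left.left.isoSpec.hom '' Vs) :=
    ⟨TopologicalSpace.NoetherianSpace.isCompact
      (α := PrimeSpectrum Γ(W.obj.left.left, ⊤)) _,
      W.obj.left.left.isoSpec.hom.isOpenEmbedding.isOpenMap _ hopen⟩
  obtain ⟨I, hI, hIV⟩ := PrimeSpectrum.isCompact_isOpen_iff_ideal.1 h1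
  refine ⟨I, hI, ?_⟩
  have hbij : Function.Bijective W.obj.left.left.isoSpec.hom :=
    ConcreteCategory.bijective_of_isIso (C := TopCat) W.obj.left.left.isoSpec.hom.base
  have h2 : W.obj.left.left.isoSpec.hom '' (W.obj.left.left.zeroLocus (U := ⊤)
      (I : Set Γ(W.obj.left.left, ⊤))) = W.obj.left.left.isoSpec.hom '' Vsᶜ := by
    rw [Scheme.isoSpec_image_zeroLocus, Set.image_compl_eq hbij, ← hIV, compl_compl]
  have h3 := hbij.1.image_injective h2
  rw [h3]
  rfl

/-- the submodule of sections supported on the complement of an open subspace of a locally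
Noetherian space has base change along morphisms of affine objects. -/
theorem hasBCOn_suppSheaf_of_locNoeth (hj : AlgSp.RepWith @IsOpenImmersion j)
    (hN : AlgSp.IsLocNoethSp X) (F : AlgSp.ModEt X) [F.IsQuasicoherent] :
    HasBCOn (affineData X) (suppSheaf j F).val := by
  intro E E' g hE hE'
  obtain ⟨I, hI, hIz⟩ := exists_fg_ideal_zeroLocus_of_locNoeth hj hN E hE
  have hIz' : E'.obj.left.left.zeroLocus (U := ⊤)
      ((I.map g.hom.left.left.appTop.hom : Ideal Γ(E'.obj.left.left, ⊤)) :
        Set Γ(E'.obj.left.left, ⊤)) =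
      {w | AlgSp.Points.ofPt E'.obj.hom w ∈ (Set.range (AlgSp.Points.map j))ᶜ} := by
    ext w'
    rw [mem_zeroLocus_map_iff, hIz]
    change AlgSp.Points.ofPt E.obj.hom (g.hom.left.left w') ∈
      (Set.range (AlgSp.Points.map j))ᶜ ↔ _
    rw [ofPt_hom g w']
    rfl
  have hF := hasBCOn_of_isQuasicoherent F g hE hE'
  have hmap : (I.map (AlgSp.upΓ E)).map ((AlgSp.OEtRing X).obj.map g.op).hom =
      (I.map g.hom.left.left.appTop.hom).map (AlgSp.upΓ E') := by
    rw [Ideal.map_map, Ideal.map_map]
    rfl
  refine IsBC.of_powTorsion ((affineData X).flat g hE hE') (I.map (AlgSp.upΓ E))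
    (hI.map _)
    ((suppSheaf j F).val.restrictₛₗ g.op) (F.val.restrictₛₗ g.op)
    ((suppSheafι j F).val.app (op E)).hom ((suppSheafι j F).val.app (op E')).hom
    (fun k => (PresheafOfModules.naturality_apply (suppSheafι j F).val g.op k).symm)
    (suppSheafι_app_injective j F E) (suppSheafι_app_injective j F E') ?_ ?_ hF
  · intro x
    rw [mem_range_suppSheafι_iff_pow hj F E hE I hI hIz x]
    exact exists_congr (fun n => (forall_mem_map_up_pow_iff E I n x).symm)
  · intro x
    rw [mem_range_suppSheafι_iff_pow hj F E' hE' _ (hI.map _) hIz' x, hmap]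
    exact exists_congr (fun n => (forall_mem_map_up_pow_iff E' _ n x).symm)

end Groth.Agent.Lib.Seat48.SuppSub
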