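import Mathlib
import Groth.Agent.Lib.Seat48StalkEt
import Groth.Agent.Lib.Seat48SuppSub3
import Groth.Agent.Lib.Seat48CohEt
import Groth.Agent.Lib.Seat48BCEt3
import Groth.Agent.S10195

/-!
# Splitting the support of a coherent module (seat 48)

Namespace `Groth.Agent.Lib.Seat48.SuppSplit`.
-/

set_option autoImplicit false
set_option linter.style.haveILetI false
set_option linter.unusedSectionVars false
set_option backward.isDefEq.respectTransparency false

universe u

open CategoryTheory CategoryTheory.Limits AlgebraicGeometry Opposite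

namespace Groth.Agent.Lib.Seat48.SuppSplit

open AlgSp
open Groth.Agent.Lib.Seat48.BCAlg
open Groth.Agent.Lib.Seat48.BCSite
open Groth.Agent.Lib.Seat48.BCEt
open Groth.Agent.Lib.Seat48.ModSect
open Groth.Agent.Lib.Seat48.CohEt
open Groth.Agent.Lib.Seat48.SuppSub
open Groth.Agent.Lib.Seat48.StalkEt
open Groth.Agent.Lib.Seat48.WeakAssChart
open Groth.Agent.Lib.Helper9.SpPoint

attribute [local instance] Groth.Agent.Lib.Seat48.BCSite.commRingSect

variable {S : Scheme.{u}}

theorem support_split (X : AlgSp.Space S) (hN : AlgSp.IsLocNoethSp X.obj)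
    (F : AlgSp.ModEt X.obj) [F.IsFinitePresentation] (Z Z' : Set (AlgSp.Points X.obj))
    (hZ : IsClosed Z) (hZ' : IsClosed Z')
    (hsupp : ∀ x : AlgSp.FieldPt X.obj, x.IsGeometric →
      (AlgSp.Points.mk x ∈ Z ∪ Z' ↔ ¬ IsZero (AlgSp.stalkEt x ((AlgSp.toAbEt X.obj).obj F)))) :
    ∃ (G' : AlgSp.ModEt X.obj) (a : G' ⟶ F), Mono a ∧ G'.IsFinitePresentation ∧
      (cokernel a).IsFinitePresentation ∧
        (∀ x : AlgSp.FieldPt X.obj, x.IsGeometric → AlgSp.Points.mk x ∉ Z' →
          IsZero (AlgSp.stalkEt x ((AlgSp.toAbEt X.obj).obj G'))) ∧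
        (∀ x : AlgSp.FieldPt X.obj, x.IsGeometric → AlgSp.Points.mk x ∉ Z →
          IsZero (AlgSp.stalkEt x ((AlgSp.toAbEt X.obj).obj (cokernel a)))) := by
  haveI : F.IsQuasicoherent := inferInstance
  have hF := hasBCOn_of_isQuasicoherent F
  have hfinF : ∀ E : AlgSp.EtOver X.obj, IsAffine E.obj.left.left →
      Module.Finite ((AlgSp.OEtRing X.obj).obj.obj (op E)) (F.val.obj (op E)) :=
    fun E hE => finite_sections F hF E hE
  obtain ⟨X', j, hj, hrange⟩ := Groth.Agent.S10195.result X Z'ᶜ hZ'.isOpen_compl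
  have hG' := hasBCOn_suppSheaf_of_locNoeth hj hN F
  have hC := hasBCOn_cokernel (affineData X.obj) (suppSheafι j.hom F) hG' hF
  refine ⟨suppSheaf j.hom F, suppSheafι j.hom F, inferInstance,
    isFinitePresentation_of_mono hN (suppSheafι j.hom F) hG' hfinF,
    isFinitePresentation_of_epi hN (cokernel.π (suppSheafι j.hom F)) hC hF hfinF, ?_, ?_⟩
  · intro x hx hxZ'
    apply isZero_stalk_of_germ X (suppSheaf j.hom F) x hx
    intro W l σ
    rw [germ_eq_zero_iff' X (suppSheaf j.hom F) x hx]
    have hopen := isOpen_setOf_inU hj W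
    let O : W.obj.left.left.Opens :=
      ⟨{w | AlgSp.Points.ofPt W.obj.hom w ∈ Set.range (AlgSp.Points.map j.hom)}, hopen⟩
    have hw : l.1.left (default : Spec (CommRingCat.of x.K)) ∈ O := by
      change AlgSp.Points.ofPt W.obj.hom _ ∈ Set.range (AlgSp.Points.map j.hom)
      rw [ofPt_lift x W l default, hrange]
      exact hxZ'
    obtain ⟨y, hy, -⟩ := exists_lift_hom x hx (affHom W O) l ⟨_, hw⟩ rfl
    refine ⟨affObj W O, affHom W O, y, hy, ?_⟩
    apply suppSheafι_app_injective j.hom F (affObj W O)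
    rw [map_zero]
    have h1 := PresheafOfModules.naturality_apply (suppSheafι j.hom F).val (affHom W O).op σ
    have h2 : ((suppSheafι j.hom F).val.app (op W)).hom σ ∈ (suppSub j.hom F).obj (op W) :=
      (mem_range_suppSheafι_iff j.hom F W _).1 ⟨σ, rfl⟩
    have h3 := (mem_suppSub_iff j.hom F W _).1 h2 (affObj W O) (affHom W O)
      (inU_affObj j.hom W O (fun w hw => hw))
    exact h1.trans h3
  · intro x hx hxZ
    apply isZero_stalk_of_germ X (cokernel (suppSheafι j.hom F)) x hx
    intro W l c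
    rw [germ_eq_zero_iff' X (cokernel (suppSheafι j.hom F)) x hx]
    let O : W.obj.left.left.Opens :=
      ⟨{w | AlgSp.Points.ofPt W.obj.hom w ∈ Zᶜ},
        hZ.isOpen_compl.preimage (AlgSp.Points.continuous_ofPt _)⟩
    have hw : l.1.left (default : Spec (CommRingCat.of x.K)) ∈ O := by
      change AlgSp.Points.ofPt W.obj.hom _ ∈ Zᶜ
      rw [ofPt_lift x W l default]
      exact hxZ
    obtain ⟨W₁, hW₁, hle, y, hy⟩ := exists_affine_nbhd X x hx l O hw
    refine ⟨affObj W W₁, affHom W W₁, y, hy, ?_⟩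
    have hπ := app_surjective_of_epi (affineData X.obj) (cokernel.π (suppSheafι j.hom F)) hF hC
      (show (affineData X.obj).Aff (affObj W W₁) from hW₁)
    obtain ⟨s, hs⟩ := hπ ((cokernel (suppSheafι j.hom F)).val.map (affHom W W₁).op c)
    rw [← hs]
    haveI : IsAffine (affObj W W₁).obj.left.left := hW₁
    have hmem : s ∈ (suppSub j.hom F).obj (op (affObj W W₁)) := by
      apply mem_suppSub_of_zeroLocus_subset
      intro v hv
      change AlgSp.Points.ofPt (affObj W W₁).obj.hom v ∈ (Set.range (AlgSp.Points.map j.hom))ᶜ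
      rw [hrange, compl_compl]
      by_contra hvZ'
      have hvZ : AlgSp.Points.ofPt (affObj W W₁).obj.hom v ∉ Z := by
        rw [← ofPt_hom (affHom W W₁) v]
        exact hle v.2
      obtain ⟨p, hp, l', hl'⟩ := exists_geometric_lift (affObj W W₁) v
      have hmk : AlgSp.Points.mk p = AlgSp.Points.ofPt (affObj W W₁).obj.hom v := by
        rw [← hl']
        exact (ofPt_lift p (affObj W W₁) l' default).symm
      have hz : IsZero (AlgSp.stalkEt p ((AlgSp.toAbEt X.obj).obj F)) := by
        by_contra hnz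
        have h4 := (hsupp p hp).2 hnz
        rw [hmk] at h4
        exact h4.elim hvZ hvZ'
      have hg := germ_eq_zero_of_isZero X F p hz l' s
      obtain ⟨V', φ, y', hy', h0⟩ := (germ_eq_zero_iff' X F p hp l' s).1 hg
      obtain ⟨V₁', hV₁', -, y'', hy''⟩ := exists_affine_nbhd X p hp y' ⊤ trivial
      haveI : IsAffine (affObj V' V₁').obj.left.left := hV₁'
      have hpt : (affHom V' V₁' ≫ φ).hom.left.left
          (y''.1.left (default : Spec (CommRingCat.of p.K))) = v := by
        have h5 : (AlgSp.FieldPt.liftsTo p).map (affHom V' V₁' ≫ φ) y'' = l' := by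
          rw [Functor.map_comp_apply, hy'', hy']
        have h6 := congrArg (fun t : (AlgSp.FieldPt.liftsTo p).obj (affObj W W₁) =>
          t.1.left (default : Spec (CommRingCat.of p.K))) h5
        exact h6.trans hl'
      have hne := map_ne_zero_of_annSect_le F (affHom V' V₁' ≫ φ) s
        (y''.1.left (default : Spec (CommRingCat.of p.K))) (by
          rw [hpt]
          exact (mem_zeroLocus_iff_le_primeAtPt _ v).1 hv)
      apply hne
      rw [← map_map_eq' F.val (rfl : affHom V' V₁' ≫ φ = affHom V' V₁' ≫ φ) s, h0, map_zero]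
    obtain ⟨g, hg⟩ := (mem_range_suppSheafι_iff j.hom F (affObj W W₁) s).2 hmem
    rw [← hg]
    have h3 : suppSheafι j.hom F ≫ cokernel.π (suppSheafι j.hom F) = 0 := cokernel.condition _
    exact congrArg (fun k : suppSheaf j.hom F ⟶ cokernel (suppSheafι j.hom F) =>
      k.val.app (op (affObj W W₁)) g) h3

end Groth.Agent.Lib.Seat48.SuppSplit
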