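import Mathlib
import Groth.Prelude.Def_AlgSpModX
import Groth.Prelude.Def_AlgSpSub
import Groth.Agent.Lib.Seat48WeakAss
import Groth.Agent.Lib.Helper12Reduced

/-!
# Weakly associated points of reduced rings and reduced algebraic spaces (seat 48)

Namespace `Groth.Agent.Lib.Seat48.WeakAssRed`.
* `exists_mul_pow_mem_of_mem_minimalPrimes`: for `p` minimal over `I` and `x ∈ p` there are `s ∉ p`
  and `n` with `s * x ^ n ∈ I`.
* `mem_minimalPrimes_of_annElt`: in a reduced ring a prime minimal over the annihilator of an element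
  is a minimal prime; `mem_minimalPrimes_annElt_one`: the converse, with the element `1`.
* `ringKrullDim_stalk_eq_height`: on an affine scheme, the dimension of the local ring at a point is
  the height of its prime.
* `isReduced_of_isReducedSp`: every scheme etale over a reduced sheaf is reduced.
-/

set_option autoImplicit false
universe u
open CategoryTheory CategoryTheory.Limits AlgebraicGeometry

namespace Groth.Agent.Lib.Seat48.WeakAssRed

open Groth.Agent.Lib.Seat48.WeakAss

theorem exists_mul_pow_mem_of_mem_minimalPrimes {R : Type u} [CommRing R] {I p : Ideal R}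
    (hp : p ∈ I.minimalPrimes) {x : R} (hx : x ∈ p) : ∃ s ∉ p, ∃ n : ℕ, s * x ^ n ∈ I := by
  have hpp : p.IsPrime := hp.1.1
  have h1 := IsLocalization.AtPrime.radical_map_of_mem_minimalPrimes
    (A := Localization.AtPrime p) p I hp
  have h2 : algebraMap R (Localization.AtPrime p) x ∈
      (I.map (algebraMap R (Localization.AtPrime p))).radical := by
    rw [h1]
    exact Ideal.mem_map_of_mem _ hx
  obtain ⟨n, hn⟩ := h2
  rw [IsLocalization.mem_map_algebraMap_iff (M := p.primeCompl)] at hn
  obtain ⟨⟨a, b⟩, hn⟩ := hn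
  rw [← map_pow, ← map_mul, IsLocalization.eq_iff_exists p.primeCompl] at hn
  obtain ⟨t, ht⟩ := hn
  refine ⟨t.1 * b.1, ?_, n, ?_⟩
  · exact (t * b).2
  · have : t.1 * b.1 * x ^ n = t.1 * a.1 := by
      rw [← ht]; ring
    rw [this]
    exact I.mul_mem_left _ a.2

/-- in a reduced ring, a prime minimal over the annihilator of an element is a minimal prime. -/
theorem mem_minimalPrimes_of_annElt {R : Type u} [CommRing R] [IsReduced R] {a : R} {p : Ideal R}
    (hp : p ∈ (annElt a).minimalPrimes) : p ∈ minimalPrimes R := by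
  have hpp : p.IsPrime := hp.1.1
  have hap : a ∉ p := by
    intro ha
    obtain ⟨s, hs, n, hn⟩ := exists_mul_pow_mem_of_mem_minimalPrimes hp ha
    rw [mem_annElt_iff] at hn
    have h1 : (s * a) ^ (n + 1) = 0 := by
      have : (s * a) ^ (n + 1) = s ^ n * (s * a ^ n * a) := by ring
      rw [this, hn, mul_zero]
    have h2 : s * a = 0 := IsReduced.eq_zero _ ⟨n + 1, h1⟩
    exact hs (hp.1.2 ((mem_annElt_iff a s).2 h2))
  refine ⟨⟨hpp, bot_le⟩, fun q hq hqp => ?_⟩
  have hqq : q.IsPrime := hq.1
  refine hp.2 ⟨hqq, ?_⟩ hqp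
  intro b hb
  rw [mem_annElt_iff] at hb
  have h3 : b * a ∈ q := hb ▸ q.zero_mem
  rcases hqq.mem_or_mem h3 with h | h
  · exact h
  · exact absurd (hqp h) hap

theorem annElt_one {R : Type u} [CommRing R] : annElt (1 : R) = ⊥ := by
  ext b
  rw [mem_annElt_iff, mul_one, Ideal.mem_bot]

theorem mem_minimalPrimes_annElt_one {R : Type u} [CommRing R] {p : Ideal R}
    (hp : p ∈ minimalPrimes R) : p ∈ (annElt (1 : R)).minimalPrimes := by
  rw [annElt_one]
  exact hp

variable {W : Scheme.{u}}

/-- on an affine scheme, the dimension of the local ring at a point is the height of its prime. -/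
theorem ringKrullDim_stalk_eq_height [IsAffine W] (w : W) :
    ringKrullDim (W.presheaf.stalk w) = (AlgSp.primeAtPt W w).height := by
  rw [primeAtPt_eq_primeIdealOf]
  exact @IsLocalization.AtPrime.ringKrullDim_eq_height _ _ _ _ (W.presheaf.stalk w) _
    (W.presheaf.algebra_section_stalk (U := ⊤) ⟨w, trivial⟩)
    ((isAffineOpen_top W).isLocalization_stalk ⟨w, trivial⟩)

theorem ringKrullDim_stalk_eq_zero_iff [IsAffine W] (w : W) :
    ringKrullDim (W.presheaf.stalk w) = 0 ↔ AlgSp.primeAtPt W w ∈ minimalPrimes Γ(W, ⊤) := by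
  rw [ringKrullDim_stalk_eq_height, ← Ideal.height_eq_zero_iff]
  exact WithBot.coe_eq_zero

open AlgSp

variable {S : Scheme.{u}}

/-- every scheme etale over a reduced sheaf is reduced. -/
theorem isReduced_of_isReducedSp {X : AlgSp.Sp S} (hX : AlgSp.IsReducedSp X) {U : Over S}
    (a : (AlgSp.yon S).obj U ⟶ X) (ha : AlgSp.RepWith @Etale a) : IsReduced U.left := by
  obtain ⟨U₀, p, hpe, hps, hU₀⟩ := hX
  obtain ⟨W, snd, fst', sq⟩ := hpe.1 a
  obtain ⟨fst, rfl⟩ := (AlgSp.yon S).map_surjective fst'
  have h1 : Etale snd.left := hpe.2 _ _ snd sq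
  have h2 : Surjective snd.left := hps.2 _ _ snd sq
  have h3 : Etale fst.left := ha.2 _ _ fst sq.flip
  have : IsReduced U₀.left := hU₀
  have : IsReduced W.left := Groth.Agent.Lib.Helper12.Reduced.isReduced_of_smooth fst.left
  exact Groth.Agent.Lib.Helper12.Reduced.isReduced_of_flat_of_surjective snd.left

end Groth.Agent.Lib.Seat48.WeakAssRed
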