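import Mathlib

/-!
# Increasing chains of ideal sheaves on the spectrum of a Noetherian ring (helper49)

Namespace `Groth.Agent.Lib.Seat49.IdealChain`.

An increasing sequence of subsheaves `I_n` of the structure sheaf of `Spec A` is encoded by the relation
`C n g b`: "the restriction of `b ∈ A` to `D(g)` is a section of `I_n`".  For `A` Noetherian the sequence is
locally stationary, uniformly: `exists_stable'`.
-/

set_option autoImplicit false
set_option linter.style.haveILetI false
universe u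
open TopologicalSpace PrimeSpectrum

namespace Groth.Agent.Lib.Seat49.IdealChain

variable {A : Type u} [CommRing A]

/-- axioms for an increasing sequence of ideal sheaves, tested on basic opens with global
numerators -/
structure Sys (C : ℕ → A → A → Prop) : Prop where
  zero : ∀ n g, C n g 0
  add : ∀ n g b b', C n g b → C n g b' → C n g (b + b')
  smul : ∀ n g a b, C n g b → C n g (a * b)
  res : ∀ n g g' b, C n g b → C n (g * g') b
  mono : ∀ n m g b, n ≤ m → C n g b → C m g b
  unit : ∀ n g b, C n g (g * b) → C n g b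

variable {C : ℕ → A → A → Prop} (hC : Sys C)

include hC in
theorem Sys.res' (n : ℕ) (g g' b : A) (h : C n g b) : C n (g' * g) b := by
  rw [mul_comm]
  exact hC.res n g g' b h

/-- the stalk of the `n`-th ideal sheaf at `p` -/
def stalkIdeal (n : ℕ) (p : PrimeSpectrum A) : Ideal (Localization.AtPrime p.asIdeal) where
  carrier := {e | ∃ g b, g ∉ p.asIdeal ∧ C n g b ∧
    e * algebraMap A (Localization.AtPrime p.asIdeal) g = algebraMap A _ b}
  zero_mem' := ⟨1, 0, p.isPrime.one_notMem, hC.zero n 1, by simp⟩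
  add_mem' := by
    rintro e e' ⟨g, b, hg, hb, he⟩ ⟨g', b', hg', hb', he'⟩
    refine ⟨g * g', g' * b + g * b', ?_, ?_, ?_⟩
    · exact fun h => (p.isPrime.mem_or_mem h).elim hg hg'
    · exact hC.add _ _ _ _ (hC.smul _ _ _ _ (hC.res _ _ _ _ hb))
        (hC.smul _ _ _ _ (hC.res' _ _ _ _ hb'))
    · simp only [map_mul, map_add]
      rw [← he, ← he']
      ring
  smul_mem' := by
    rintro c e ⟨g, b, hg, hb, he⟩
    obtain ⟨⟨a, s⟩, hs⟩ := IsLocalization.surj p.asIdeal.primeCompl c
    refine ⟨g * s, a * b, ?_, ?_, ?_⟩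
    · exact fun h => (p.isPrime.mem_or_mem h).elim hg s.2
    · exact hC.smul _ _ _ _ (hC.res _ _ _ _ hb)
    · simp only [map_mul, smul_eq_mul]
      rw [← he, ← hs]
      ring

theorem mem_stalkIdeal {n : ℕ} {p : PrimeSpectrum A} {e : Localization.AtPrime p.asIdeal} :
    e ∈ stalkIdeal hC n p ↔ ∃ g b, g ∉ p.asIdeal ∧ C n g b ∧
      e * algebraMap A (Localization.AtPrime p.asIdeal) g = algebraMap A _ b :=
  Iff.rfl

theorem stalkIdeal_mono {n m : ℕ} (h : n ≤ m) (p : PrimeSpectrum A) :
    stalkIdeal hC n p ≤ stalkIdeal hC m p := by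
  rintro e ⟨g, b, hg, hb, he⟩
  exact ⟨g, b, hg, hC.mono _ _ _ _ h hb, he⟩

/-- a global numerator gives an element of the stalk -/
theorem algebraMap_mem_stalkIdeal {n : ℕ} {p : PrimeSpectrum A} {g b : A} (hg : g ∉ p.asIdeal)
    (hb : C n g b) : algebraMap A (Localization.AtPrime p.asIdeal) b ∈ stalkIdeal hC n p := by
  refine ⟨g, g * b, hg, hC.smul _ _ _ _ hb, ?_⟩
  rw [map_mul, mul_comm]

/-- the chain of stalks is stationary, uniformly on `Z` -/
def StableOn (Z : Set (PrimeSpectrum A)) : Prop :=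
  ∃ n₀, ∀ n, n₀ ≤ n → ∀ p ∈ Z, stalkIdeal hC n p ≤ stalkIdeal hC n₀ p

theorem stableOn_empty : StableOn hC (∅ : Set (PrimeSpectrum A)) :=
  ⟨0, fun _ _ p hp => absurd hp (Set.notMem_empty p)⟩

theorem StableOn.mono {Z Z' : Set (PrimeSpectrum A)} (h : Z ⊆ Z') (h' : StableOn hC Z') :
    StableOn hC Z := by
  obtain ⟨n₀, hn₀⟩ := h'
  exact ⟨n₀, fun n hn p hp => hn₀ n hn p (h hp)⟩

theorem StableOn.union {Z₁ Z₂ : Set (PrimeSpectrum A)} (h₁ : StableOn hC Z₁)
    (h₂ : StableOn hC Z₂) : StableOn hC (Z₁ ∪ Z₂) := by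
  obtain ⟨n₁, hn₁⟩ := h₁
  obtain ⟨n₂, hn₂⟩ := h₂
  refine ⟨max n₁ n₂, fun n hn p hp => ?_⟩
  rcases hp with hp | hp
  · exact (hn₁ n ((le_max_left _ _).trans hn) p hp).trans (stalkIdeal_mono hC (le_max_left _ _) p)
  · exact (hn₂ n ((le_max_right _ _).trans hn) p hp).trans
      (stalkIdeal_mono hC (le_max_right _ _) p)

/-- the irreducible case of the Noetherian induction -/
theorem stableOn_zeroLocus [IsNoetherianRing A] (q : PrimeSpectrum A)
    (IH : ∀ f : A, f ∉ q.asIdeal → StableOn hC (zeroLocus (q.asIdeal : Set A) ∩ zeroLocus {f})) :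
    StableOn hC (zeroLocus (q.asIdeal : Set A)) := by
  classical
  let Aq := Localization.AtPrime q.asIdeal
  haveI : IsNoetherianRing Aq := IsLocalization.isNoetherianRing q.asIdeal.primeCompl Aq inferInstance
  -- the chain of stalks at `q` is stationary
  let ch : ℕ →o Ideal Aq := ⟨fun n => stalkIdeal hC n q, fun n m h => stalkIdeal_mono hC h q⟩
  obtain ⟨n₁, hn₁⟩ := (monotone_stabilizes_iff_noetherian (R := Aq) (M := Aq)).2 inferInstance ch
  let I : Ideal Aq := stalkIdeal hC n₁ q
  have hI : ∀ n, n₁ ≤ n → stalkIdeal hC n q = I := fun n hn => (hn₁ n hn).symm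
  -- generators of `I`
  obtain ⟨s, hs⟩ : I.FG := IsNoetherian.noetherian I
  have hsel : ∀ e ∈ s, ∃ g b, g ∉ q.asIdeal ∧ C n₁ g b ∧
      e * algebraMap A Aq g = algebraMap A Aq b := by
    intro e he
    have : e ∈ I := hs ▸ Ideal.subset_span he
    exact this
  choose! gf bf hgf using hsel
  let g : A := ∏ e ∈ s, gf e
  have hg : g ∉ q.asIdeal := by
    intro h
    obtain ⟨e, he, h'⟩ := (q.isPrime.prod_mem_iff).1 h
    exact (hgf e he).1 h'
  have hCg : ∀ e ∈ s, C n₁ g (bf e) := by
    intro e he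
    have : g = gf e * ∏ e' ∈ s.erase e, gf e' := (Finset.mul_prod_erase s gf he).symm
    rw [this]
    exact hC.res _ _ _ _ (hgf e he).2.1
  let J : Ideal A := Ideal.span (bf '' (s : Set Aq))
  have hJI : Ideal.map (algebraMap A Aq) J = I := by
    apply le_antisymm
    · rw [Ideal.map_le_iff_le_comap, Ideal.span_le]
      rintro _ ⟨e, he, rfl⟩
      change algebraMap A Aq (bf e) ∈ I
      rw [← (hgf e he).2.2]
      exact I.mul_mem_right _ (hs ▸ Ideal.subset_span he)
    · rw [← hs, Ideal.span_le]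
      intro e he
      have hu : IsUnit (algebraMap A Aq (gf e)) :=
        IsLocalization.map_units Aq (⟨gf e, (hgf e he).1⟩ : q.asIdeal.primeCompl)
      obtain ⟨u, hu'⟩ := hu
      have h1 : e = algebraMap A Aq (bf e) * ↑u⁻¹ := by
        rw [← (hgf e he).2.2, ← hu', mul_assoc, Units.mul_inv, mul_one]
      change e ∈ Ideal.map (algebraMap A Aq) J
      rw [h1]
      exact Ideal.mul_mem_right _ _ (Ideal.mem_map_of_mem _ (Ideal.subset_span ⟨e, he, rfl⟩))
  -- the contraction of `I`
  let N : Ideal A := I.comap (algebraMap A Aq)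
  obtain ⟨t, ht⟩ : N.FG := IsNoetherian.noetherian N
  have htsel : ∀ c ∈ t, ∃ h : A, h ∉ q.asIdeal ∧ h * c ∈ J := by
    intro c hc
    have h1 : c ∈ N := ht ▸ Ideal.subset_span hc
    have h2 : algebraMap A Aq c ∈ Ideal.map (algebraMap A Aq) J := by rw [hJI]; exact h1
    obtain ⟨⟨j, m⟩, hjm⟩ := (IsLocalization.mem_map_algebraMap_iff q.asIdeal.primeCompl Aq).1 h2
    rw [← map_mul] at hjm
    obtain ⟨u, hu⟩ := (IsLocalization.eq_iff_exists q.asIdeal.primeCompl Aq).1 hjm
    refine ⟨u * m, fun h => (q.isPrime.mem_or_mem h).elim u.2 m.2, ?_⟩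
    have : (u : A) * m * c = u * j := by rw [← hu]; ring
    rw [this]
    exact J.mul_mem_left _ j.2
  choose! hf hhf using htsel
  let h : A := ∏ c ∈ t, hf c
  have hh : h ∉ q.asIdeal := by
    intro h'
    obtain ⟨c, hc, h''⟩ := (q.isPrime.prod_mem_iff).1 h'
    exact (hhf c hc).1 h''
  have hhN : ∀ x ∈ N, h * x ∈ J := by
    intro x hx
    rw [← ht] at hx
    induction hx using Submodule.span_induction with
    | mem c hc =>
      have : h = (∏ c' ∈ t.erase c, hf c') * hf c := by
        rw [mul_comm]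
        exact (Finset.mul_prod_erase t hf hc).symm
      rw [this, mul_assoc]
      exact J.mul_mem_left _ (hhf c hc).2
    | zero => simp
    | add x y _ _ hx hy => rw [mul_add]; exact J.add_mem hx hy
    | smul a x _ hx =>
      rw [smul_eq_mul, mul_left_comm]
      exact J.mul_mem_left _ hx
  have hJC : ∀ x ∈ J, C n₁ g x := by
    intro x hx
    induction hx using Submodule.span_induction with
    | mem c hc =>
      obtain ⟨e, he, rfl⟩ := hc
      exact hCg e he
    | zero => exact hC.zero _ _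
    | add x y _ _ hx hy => exact hC.add _ _ _ _ hx hy
    | smul a x _ hx => exact hC.smul _ _ _ _ hx
  -- apply the induction hypothesis to `g * h`
  have hgh : g * h ∉ q.asIdeal := fun h' => (q.isPrime.mem_or_mem h').elim hg hh
  obtain ⟨n₂, hn₂⟩ := IH (g * h) hgh
  refine ⟨max n₁ n₂, fun n hn p hp => ?_⟩
  have hqp : q.asIdeal ≤ p.asIdeal := by
    intro x hx
    exact (mem_zeroLocus p _).1 hp hx
  by_cases hfp : g * h ∈ p.asIdeal
  · have hp' : p ∈ zeroLocus (q.asIdeal : Set A) ∩ zeroLocus {g * h} := by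
      refine ⟨hp, ?_⟩
      rw [mem_zeroLocus, Set.singleton_subset_iff]
      exact hfp
    exact (hn₂ n ((le_max_right _ _).trans hn) p hp').trans
      (stalkIdeal_mono hC (le_max_right _ _) p)
  · have hgp : g ∉ p.asIdeal := fun h' => hfp (p.asIdeal.mul_mem_right _ h')
    have hhp : h ∉ p.asIdeal := fun h' => hfp (p.asIdeal.mul_mem_left _ h')
    refine le_trans ?_ (stalkIdeal_mono hC (le_max_left _ _) p)
    rintro e ⟨g', b, hg', hb, he⟩
    have hg'q : g' ∉ q.asIdeal := fun h' => hg' (hqp h')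
    have h1 : algebraMap A Aq b ∈ stalkIdeal hC n q := algebraMap_mem_stalkIdeal hC hg'q hb
    rw [hI n ((le_max_left _ _).trans hn)] at h1
    have h2 : h * b ∈ J := hhN b h1
    have h3 : C n₁ g (h * b) := hJC _ h2
    refine ⟨g * (g' * h), g * (h * b), ?_, ?_, ?_⟩
    · intro h'
      rcases p.isPrime.mem_or_mem h' with h'' | h''
      · exact hgp h''
      · exact (p.isPrime.mem_or_mem h'').elim hg' hhp
    · exact hC.smul _ _ _ _ (hC.res _ _ _ _ h3)
    · simp only [map_mul]
      rw [← he]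
      ring

/-- the chain of stalks is uniformly stationary -/
theorem stableOn_univ [IsNoetherianRing A] : StableOn hC (Set.univ : Set (PrimeSpectrum A)) := by
  suffices h : ∀ Z : Closeds (PrimeSpectrum A), StableOn hC (Z : Set (PrimeSpectrum A)) by
    simpa using h ⊤
  intro Z
  apply wellFounded_lt.induction Z
  clear Z
  intro Z H
  rcases eq_or_ne Z ⊥ with rfl | h₀
  · simpa using stableOn_empty hC
  · by_cases h₁ : IsPreirreducible (Z : Set (PrimeSpectrum A))
    · replace h₁ : IsIrreducible (Z : Set (PrimeSpectrum A)) := ⟨Closeds.coe_nonempty.2 h₀, h₁⟩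
      have hprime := isIrreducible_iff_vanishingIdeal_isPrime.1 h₁
      let q : PrimeSpectrum A := ⟨vanishingIdeal (Z : Set (PrimeSpectrum A)), hprime⟩
      have hZ : (Z : Set (PrimeSpectrum A)) = zeroLocus (q.asIdeal : Set A) := by
        rw [zeroLocus_vanishingIdeal_eq_closure, Z.isClosed.closure_eq]
      rw [hZ]
      apply stableOn_zeroLocus hC q
      intro f hf
      let Z' : Closeds (PrimeSpectrum A) := Z ⊓ ⟨zeroLocus {f}, isClosed_zeroLocus _⟩
      have hlt : Z' < Z := by
        apply inf_lt_left.2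
        intro hle
        apply hf
        have hq : q ∈ (Z : Set (PrimeSpectrum A)) := by
          rw [hZ, mem_zeroLocus]
        have := hle hq
        change q ∈ zeroLocus {f} at this
        rw [mem_zeroLocus, Set.singleton_subset_iff] at this
        exact this
      have := H Z' hlt
      rw [← hZ]
      exact this
    · simp only [isPreirreducible_iff_isClosed_union_isClosed, not_forall, not_or] at h₁
      obtain ⟨z₁, z₂, hz₁, hz₂, h, hz₁', hz₂'⟩ := h₁
      lift z₁ to Closeds (PrimeSpectrum A) using hz₁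
      lift z₂ to Closeds (PrimeSpectrum A) using hz₂
      have h1 := H (Z ⊓ z₁) (inf_lt_left.2 hz₁')
      have h2 := H (Z ⊓ z₂) (inf_lt_left.2 hz₂')
      refine (h1.union hC h2).mono hC ?_
      intro p hp
      rcases h hp with h' | h'
      · exact Or.inl ⟨hp, h'⟩
      · exact Or.inr ⟨hp, h'⟩

include hC in
/-- an increasing sequence of ideal sheaves on the spectrum of a Noetherian ring is locally
stationary, uniformly -/
theorem exists_stable' [IsNoetherianRing A] :
    ∃ n₀, ∀ n, n₀ ≤ n → ∀ g b, C n g b → ∀ p : PrimeSpectrum A, g ∉ p.asIdeal →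
      ∃ h, h ∉ p.asIdeal ∧ C n₀ h b := by
  obtain ⟨n₀, hn₀⟩ := stableOn_univ hC
  refine ⟨n₀, fun n hn g b hb p hg => ?_⟩
  have h1 : algebraMap A (Localization.AtPrime p.asIdeal) b ∈ stalkIdeal hC n₀ p :=
    hn₀ n hn p (Set.mem_univ p) (algebraMap_mem_stalkIdeal hC hg hb)
  obtain ⟨g', b', hg', hb', he⟩ := h1
  rw [← map_mul] at he
  obtain ⟨u, hu⟩ := (IsLocalization.eq_iff_exists p.asIdeal.primeCompl _).1 he
  refine ⟨g' * u, fun h' => (p.isPrime.mem_or_mem h').elim hg' u.2, ?_⟩
  apply hC.unit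
  have h2 : g' * ↑u * b = ↑u * b' := by rw [← hu]; ring
  rw [h2]
  exact hC.smul _ _ _ _ (hC.res _ _ _ _ hb')

end Groth.Agent.Lib.Seat49.IdealChain
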