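import Mathlib
import Groth.Prelude.Def_CxOX
import Groth.Agent.Lib.Helper20Triv

/-!
# Maps out of `j_! O_U` are sections over `U` (helper49)

Namespace `Groth.Agent.Lib.Seat49.ExtZeroSec`.

* `secEquiv U G : (CxOX.extZeroUnit U.ι ⟶ G) ≃ Γ(G, U.ι ''ᵁ ⊤)`, natural in `G` (`secEquiv_comp`).
* `exists_epi_coprod`: every module is a quotient of a coproduct of modules `j_! O_U`.
-/

set_option autoImplicit false
universe u
open CategoryTheory CategoryTheory.Limits AlgebraicGeometry TopologicalSpace Opposite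

namespace Groth.Agent.Lib.Seat49.ExtZeroSec

noncomputable section

variable {X : Scheme.{u}}

/-- maps out of `j_! O_U` are the sections over `U` -/
def secEquiv (U : X.Opens) (G : X.Modules) :
    (CxOX.extZeroUnit U.ι ⟶ G) ≃ Γ(G, U.ι ''ᵁ ⊤) :=
  ((CxOX.extZeroAdj U.ι).homEquiv (Coh.structureModule ↑U) G).trans
    (Groth.Agent.Lib.Helper21.UnitHom.unitHomAddEquiv
      (Groth.Agent.Lib.Helper20.Triv.isTerminalTop (↑U : Scheme.{u})) (G.restrict U.ι)).toEquiv

theorem secEquiv_comp (U : X.Opens) {G G' : X.Modules} (φ : CxOX.extZeroUnit U.ι ⟶ G) (g : G ⟶ G') :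
    secEquiv U G' (φ ≫ g) = g.app (U.ι ''ᵁ ⊤) (secEquiv U G φ) := by
  simp only [secEquiv, Equiv.trans_apply]
  rw [Adjunction.homEquiv_naturality_right]
  rfl

theorem secEquiv_symm_comp (U : X.Opens) {G G' : X.Modules} (s : Γ(G, U.ι ''ᵁ ⊤)) (g : G ⟶ G') :
    (secEquiv U G).symm s ≫ g = (secEquiv U G').symm (g.app (U.ι ''ᵁ ⊤) s) := by
  apply (secEquiv U G').injective
  rw [secEquiv_comp, Equiv.apply_symm_apply, Equiv.apply_symm_apply]

theorem image_top (U : X.Opens) : U.ι ''ᵁ ⊤ = U := by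
  simp

/-- every `O_X`-module is a quotient of a coproduct of modules `j_! O_U` -/
theorem exists_epi_coprod (F : X.Modules) :
    ∃ (ι : Type u) (U : ι → X.Opens) (p : (∐ fun i => CxOX.extZeroUnit (U i).ι) ⟶ F), Epi p := by
  refine ⟨Σ U : X.Opens, Γ(F, U.ι ''ᵁ ⊤), fun i => i.1,
    Sigma.desc (fun i => (secEquiv i.1 F).symm i.2), ⟨?_⟩⟩
  intro G g h hgh
  ext V s
  -- restrict to `V.ι ''ᵁ ⊤ = V`
  have hV : V.ι ''ᵁ ⊤ = V := image_top V
  have hle : V.ι ''ᵁ ⊤ ≤ V := hV.le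
  have hle' : V ≤ V.ι ''ᵁ ⊤ := hV.ge
  let s' : Γ(F, V.ι ''ᵁ ⊤) := F.presheaf.map (homOfLE hle).op s
  have h1 := congrArg (fun q => Sigma.ι (fun i : (Σ U : X.Opens, Γ(F, U.ι ''ᵁ ⊤)) =>
    CxOX.extZeroUnit i.1.ι) ⟨V, s'⟩ ≫ q) hgh
  simp only [Sigma.ι_desc_assoc] at h1
  rw [secEquiv_symm_comp, secEquiv_symm_comp] at h1
  have h2 := (secEquiv V G).symm.injective h1
  -- naturality of `g`, `h` with respect to restriction
  have hg : G.presheaf.map (homOfLE hle).op (g.app V s) = g.app (V.ι ''ᵁ ⊤) s' := by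
    have := g.mapPresheaf.naturality (homOfLE hle).op
    exact (CategoryTheory.congr_fun this s).symm
  have hh : G.presheaf.map (homOfLE hle).op (h.app V s) = h.app (V.ι ''ᵁ ⊤) s' := by
    have := h.mapPresheaf.naturality (homOfLE hle).op
    exact (CategoryTheory.congr_fun this s).symm
  have h3 : G.presheaf.map (homOfLE hle).op (g.app V s) =
      G.presheaf.map (homOfLE hle).op (h.app V s) := by rw [hg, hh]; exact h2
  have hres : ∀ t : Γ(G, V),
      G.presheaf.map (homOfLE hle').op (G.presheaf.map (homOfLE hle).op t) = t := by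
    intro t
    rw [← ConcreteCategory.comp_apply, ← G.presheaf.map_comp]
    have hid : (homOfLE hle).op ≫ (homOfLE hle').op = 𝟙 (op V) := Subsingleton.elim _ _
    rw [hid, G.presheaf.map_id]
    rfl
  have h4 := congrArg (G.presheaf.map (homOfLE hle').op) h3
  rw [hres, hres] at h4
  exact h4

end

end Groth.Agent.Lib.Seat49.ExtZeroSec
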