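import Mathlib
import Groth.Agent.Lib.Helper1KBC2
import Groth.Agent.Lib.Helper16BaerFamily
import Groth.Agent.Lib.Seat49ExtZeroSec
import Groth.Agent.S0484

/-!
# Locally injective modules are injective (helper49)

Namespace `Groth.Agent.Lib.Seat49.LocInj`.
-/

set_option autoImplicit false
set_option linter.style.haveILetI false
universe u
open CategoryTheory CategoryTheory.Limits AlgebraicGeometry TopologicalSpace Opposite

namespace Groth.Agent.Lib.Seat49.LocInj

open Groth.Agent.Lib.Helper1.Sky Groth.Agent.Lib.Helper1.KBC Groth.Agent.Lib.Helper1.StalkTensor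

noncomputable section

variable {X : Scheme.{u}}

/-! ### the unit of `j_! ⊣ j^*` is an isomorphism -/

/-- the adjoint triple `j_! ⊣ j^* ⊣ j_*` -/
def triple (U : X.Opens) : Adjunction.Triple (CxOX.extZero U.ι)
    (Scheme.Modules.restrictFunctor U.ι) (Scheme.Modules.pushforward U.ι) :=
  ⟨CxOX.extZeroAdj U.ι, Scheme.Modules.restrictAdjunction U.ι⟩

instance isIso_unit (U : X.Opens) : IsIso (CxOX.extZeroAdj U.ι).unit :=
  (triple U).isIso_unit_iff_isIso_counit.2
    (inferInstanceAs (IsIso (Scheme.Modules.restrictAdjunction U.ι).counit))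

instance isIso_restrict_counit (U : X.Opens) (A : X.Modules) :
    IsIso ((Scheme.Modules.restrictFunctor U.ι).map ((CxOX.extZeroAdj U.ι).counit.app A)) := by
  have h := (CxOX.extZeroAdj U.ι).right_triangle_components A
  exact IsIso.of_isIso_fac_left h

/-! ### stalks -/

theorem image_le (U : X.Opens) (W : (↑U : Scheme.{u}).Opens) : U.ι ''ᵁ W ≤ U := by
  intro z hz
  obtain ⟨w, -, rfl⟩ := hz
  exact w.2

/-- the stalk of `j_! N` at a point outside `U` vanishes -/
theorem isZero_stalk_extZero (U : X.Opens) (y : X) (hy : y ∉ U) (N : (↑U : Scheme.{u}).Modules) :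
    IsZero ((stalkFun y).obj ((CxOX.extZero U.ι).obj N)) := by
  rw [IsZero.iff_id_eq_zero]
  apply ((stalkSkyAdj y).homEquiv _ _).injective
  apply ((CxOX.extZeroAdj U.ι).homEquiv _ _).injective
  apply Scheme.Modules.hom_ext
  intro W
  ext s
  apply SkyT.ext (R := X.presheaf) (U := U.ι ''ᵁ W)
  intro hx
  exact absurd (image_le U W hx) hy

/-- a morphism bijective on all stalks is an isomorphism -/
theorem isIso_of_sm_bijective {A B : X.Modules} (f : A ⟶ B)
    (h : ∀ y : X, Function.Bijective (sm (toPMMap f) y)) : IsIso f := by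
  rw [Scheme.Modules.Hom.isIso_iff_isIso_app]
  intro V
  rw [ConcreteCategory.isIso_iff_bijective]
  let g : abSheaf A ⟶ abSheaf B := ⟨(Scheme.Modules.toPresheaf X).map f⟩
  exact TopCat.Presheaf.app_bijective_of_stalkFunctor_map_bijective g V (fun y _ => h y)

/-- an isomorphism is bijective on stalks -/
theorem sm_bijective_of_isIso {A B : X.Modules} (f : A ⟶ B) [IsIso f] (y : X) :
    Function.Bijective (sm (toPMMap f) y) := by
  have h : IsIso ((stalkFun y).map f) := inferInstance
  have h2 := (ConcreteCategory.isIso_iff_bijective ((stalkFun y).map f)).1 h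
  exact h2

/-- a morphism which is bijective on sections over all opens inside `U` is bijective on stalks at
points of `U` -/
theorem sm_bijective_of_restrict {A B : X.Modules} (f : A ⟶ B) (U : X.Opens) (y : X) (hy : y ∈ U)
    (h : ∀ W : (↑U : Scheme.{u}).Opens, Function.Bijective (f.app (U.ι ''ᵁ W))) :
    Function.Bijective (sm (toPMMap f) y) := by
  -- the open `U.ι ''ᵁ (U.ι ⁻¹ᵁ V) ≤ V`
  have hle : ∀ V : X.Opens, U.ι ''ᵁ (U.ι ⁻¹ᵁ V) ≤ V := by
    intro V z hz
    obtain ⟨w, hw, rfl⟩ := hz
    exact hw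
  have hmem : ∀ V : X.Opens, y ∈ V → y ∈ U.ι ''ᵁ (U.ι ⁻¹ᵁ V) := by
    intro V hV
    exact ⟨⟨y, hy⟩, hV, rfl⟩
  constructor
  · rw [injective_iff_map_eq_zero]
    intro a ha
    obtain ⟨V, hV, s, rfl⟩ := exists_gm_eq a
    rw [sm_gm] at ha
    have h0 : gm (toPM B) y V hV ((toPMMap f).app (op V) s) = gm (toPM B) y V hV 0 := by
      rw [ha, map_zero]
    obtain ⟨V', hV', i₁, i₂, e⟩ := gm_eq hV hV _ _ h0
    rw [map_zero] at e
    -- restrict to `W = U.ι ''ᵁ (U.ι ⁻¹ᵁ V')`
    let W := U.ι ''ᵁ (U.ι ⁻¹ᵁ V')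
    let k : W ⟶ V' := homOfLE (hle V')
    have e1 : (toPMMap f).app (op W) (rs (toPM A) (k ≫ i₁) s) = 0 := by
      have hn := PresheafOfModules.naturality_apply (toPMMap f) (k ≫ i₁).op s
      have e' := congrArg (rs (toPM B) k) e
      rw [map_zero, rs_rs] at e'
      exact hn.trans e'
    have e2 : rs (toPM A) (k ≫ i₁) s = 0 := by
      apply (h (U.ι ⁻¹ᵁ V')).1
      have hz : f.app (U.ι ''ᵁ (U.ι ⁻¹ᵁ V')) (0 : Γ(A, U.ι ''ᵁ (U.ι ⁻¹ᵁ V'))) = 0 := map_zero _
      exact e1.trans hz.symm
    rw [← gm_rs (k ≫ i₁) (hmem V' hV') s, e2, map_zero]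
  · intro b
    obtain ⟨V, hV, t, rfl⟩ := exists_gm_eq b
    let W := U.ι ''ᵁ (U.ι ⁻¹ᵁ V)
    let k : W ⟶ V := homOfLE (hle V)
    obtain ⟨s, hs⟩ := (h (U.ι ⁻¹ᵁ V)).2 (rs (toPM B) k t)
    refine ⟨gm (toPM A) y W (hmem V hV) s, ?_⟩
    rw [sm_gm, ← gm_rs k (hmem V hV) t]
    exact congrArg _ hs

/-! ### the enlarging step -/

section Step

variable (U : X.Opens) {A B : X.Modules} (p : A ⟶ B)

/-- the pushout of `A` along `j_! j^* A ⟶ j_! j^* B` -/
def po : X.Modules :=
  pushout ((CxOX.extZeroAdj U.ι).counit.app A)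
    ((CxOX.extZero U.ι).map ((Scheme.Modules.restrictFunctor U.ι).map p))

/-- the inclusion of `A` -/
def poInl : A ⟶ po U p := pushout.inl _ _

/-- the inclusion of `j_! j^* B` -/
def poInr : (CxOX.extZero U.ι).obj ((Scheme.Modules.restrictFunctor U.ι).obj B) ⟶ po U p :=
  pushout.inr _ _

/-- the map to `B` -/
def poDesc : po U p ⟶ B :=
  pushout.desc p ((CxOX.extZeroAdj U.ι).counit.app B)
    (((CxOX.extZeroAdj U.ι).counit.naturality p).symm)

@[reassoc (attr := simp)]
theorem poInl_desc : poInl U p ≫ poDesc U p = p := pushout.inl_desc _ _ _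

@[reassoc (attr := simp)]
theorem poInr_desc : poInr U p ≫ poDesc U p = (CxOX.extZeroAdj U.ι).counit.app B :=
  pushout.inr_desc _ _ _

theorem isPushout_po : IsPushout ((CxOX.extZeroAdj U.ι).counit.app A)
    ((CxOX.extZero U.ι).map ((Scheme.Modules.restrictFunctor U.ι).map p)) (poInl U p) (poInr U p) :=
  IsPushout.of_hasPushout _ _

instance isIso_restrict_poDesc :
    IsIso ((Scheme.Modules.restrictFunctor U.ι).map (poDesc U p)) := by
  have hpo := (isPushout_po U p).map (Scheme.Modules.restrictFunctor U.ι)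
  haveI : IsIso ((Scheme.Modules.restrictFunctor U.ι).map (poInr U p)) := hpo.isIso_inr_of_isIso
  have hcomp : (Scheme.Modules.restrictFunctor U.ι).map (poInr U p) ≫
      (Scheme.Modules.restrictFunctor U.ι).map (poDesc U p) =
      (Scheme.Modules.restrictFunctor U.ι).map ((CxOX.extZeroAdj U.ι).counit.app B) := by
    rw [← Functor.map_comp, poInr_desc]
  exact IsIso.of_isIso_fac_left hcomp

/-- a morphism inverted by restriction to `U` is bijective on stalks at points of `U` -/
theorem sm_bijective_of_isIso_restrict {A B : X.Modules} (f : A ⟶ B)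
    [IsIso ((Scheme.Modules.restrictFunctor U.ι).map f)] (y : X) (hy : y ∈ U) :
    Function.Bijective (sm (toPMMap f) y) := by
  apply sm_bijective_of_restrict f U y hy
  intro W
  have h1 : IsIso (((Scheme.Modules.restrictFunctor U.ι).map f).app W) := inferInstance
  exact (ConcreteCategory.isIso_iff_bijective _).1 h1

theorem sm_poInl_bijective (y : X) (hy : y ∉ U) : Function.Bijective (sm (toPMMap (poInl U p)) y) := by
  have hpo := (isPushout_po U p).map (stalkFun y)
  have hz1 := isZero_stalk_extZero U y hy ((Scheme.Modules.restrictFunctor U.ι).obj A)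
  have hz2 := isZero_stalk_extZero U y hy ((Scheme.Modules.restrictFunctor U.ι).obj B)
  haveI : IsIso ((stalkFun y).map
      ((CxOX.extZero U.ι).map ((Scheme.Modules.restrictFunctor U.ι).map p))) :=
    ⟨⟨0, hz1.eq_of_src _ _, hz2.eq_of_src _ _⟩⟩
  have h1 : IsIso ((stalkFun y).map (poInl U p)) := hpo.isIso_inl_of_isIso
  exact (ConcreteCategory.isIso_iff_bijective ((stalkFun y).map (poInl U p))).1 h1

instance mono_poDesc [Mono p] : Mono (poDesc U p) := by
  apply mono_of_sm_injective
  intro y
  by_cases hy : y ∈ U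
  · exact (sm_bijective_of_isIso_restrict U (poDesc U p) y hy).1
  · have h1 : Function.Injective (sm (toPMMap (poInl U p ≫ poDesc U p)) y) := by
      rw [poInl_desc]
      exact sm_injective_of_mono p y
    have h2 : sm (toPMMap (poInl U p ≫ poDesc U p)) y =
        (sm (toPMMap (poDesc U p)) y) ∘ (sm (toPMMap (poInl U p)) y) := by
      funext a
      exact sm_comp (toPMMap (poInl U p)) (toPMMap (poDesc U p)) y a
    rw [h2] at h1
    exact Function.Injective.of_comp_right h1 (sm_poInl_bijective U p y hy).2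

theorem not_isIso_poInl (x : X) (hx : x ∈ U) (hp : ¬ Function.Bijective (sm (toPMMap p) x)) :
    ¬ IsIso (poInl U p) := by
  intro h
  apply hp
  haveI : IsIso ((Scheme.Modules.restrictFunctor U.ι).map p) := by
    rw [← poInl_desc U p, Functor.map_comp]
    infer_instance
  exact sm_bijective_of_isIso_restrict U p x hx

end Step

/-! ### the Baer-type criterion -/

section Baer

open Groth.Agent.Lib.Helper16.BaerFamily MorphismProperty

variable (F : X.Modules)

/-- extensions by zero of monomorphisms over opens on which `F` is injective, and isomorphisms -/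
inductive W : MorphismProperty X.Modules
  | ext (U : X.Opens) (hU : Injective ((Scheme.Modules.restrictFunctor U.ι).obj F))
      {A' B' : (↑U : Scheme.{u}).Modules} (m : A' ⟶ B') (hm : Mono m) :
      W ((CxOX.extZero U.ι).map m)
  | iso {A B : X.Modules} (f : A ⟶ B) (hf : IsIso f) : W f

variable (hF : ∀ x : X, ∃ U : X.Opens, x ∈ U ∧
  Injective ((Scheme.Modules.restrictFunctor U.ι).obj F))

include hF in
theorem gen_W : Gen (W F) where
  iso_le := fun A B f hf => MorphismProperty.le_pushouts _ _ (W.iso f hf)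
  exists_pushouts {A B} p _ hp := by
    have hx : ∃ x : X, ¬ Function.Bijective (sm (toPMMap p) x) := by
      by_contra hcon
      push Not at hcon
      exact hp (isIso_of_sm_bijective p hcon)
    obtain ⟨x, hx⟩ := hx
    obtain ⟨U, hxU, hU⟩ := hF x
    haveI : Mono ((Scheme.Modules.restrictFunctor U.ι).map p) := inferInstance
    refine ⟨po U p, poInl U p, poDesc U p, ?_, not_isIso_poInl U p x hxU hx, inferInstance,
      poInl_desc U p⟩
    exact ⟨_, _, _, _, _, W.ext U hU ((Scheme.Modules.restrictFunctor U.ι).map p) inferInstance,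
      isPushout_po U p⟩

instance : IsGrothendieckAbelian.{u} X.Modules :=
  Groth.Agent.S0484.result (Opens.grothendieckTopology X) X.ringCatSheaf

include hF in
/-- a locally injective module is injective -/
theorem injective_of_locally_injective : Injective F := by
  rw [injective_iff_rlp_monomorphisms_zero]
  apply rlp_le.{u} (gen_W F hF)
  intro A B i hi
  cases hi with
  | ext U hU m hm =>
    refine ⟨fun {f g} sq => ?_⟩
    let adj := CxOX.extZeroAdj U.ι
    haveI := hU
    haveI := hm
    let l' := Injective.factorThru (adj.homEquiv _ _ f) m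
    refine CommSq.HasLift.mk' ⟨(adj.homEquiv _ _).symm l', ?_, (isZero_zero _).eq_of_tgt _ _⟩
    rw [← adj.homEquiv_naturality_left_symm, Injective.comp_factorThru]
    exact (adj.homEquiv _ _).symm_apply_apply f
  | iso f hf =>
    haveI := hf
    exact HasLiftingProperty.of_left_iso i _

end Baer

end

end Groth.Agent.Lib.Seat49.LocInj
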