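import Mathlib
import Groth.Agent.Lib.Seat49LocInj
import Groth.Agent.Lib.Seat49IdealChain

/-!
# `j_! O_U` is a Noetherian object of `X.Modules` (helper49)

Namespace `Groth.Agent.Lib.Seat49.NoethObj`.

* `Chain Y`: increasing chains of submodules of the structure module of a scheme `Y`;
  `Chain.exists_isIso`: on an affine scheme with Noetherian ring of functions every chain is stationary
  (stalkwise Noetherian induction, `Seat49IdealChain`).
* general open immersions `j`: `isIso_unit'`, `isZero_stalk_extZero'`, `sm_bijective_of_restrict'`.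
* `noetherian_extZeroUnit`: for `X` locally Noetherian and `U` affine, every increasing sequence of
  subobjects of `j_! O_U` is stationary.
-/

set_option autoImplicit false
set_option linter.style.haveILetI false
universe u
open CategoryTheory CategoryTheory.Limits AlgebraicGeometry TopologicalSpace Opposite

namespace Groth.Agent.Lib.Seat49.NoethObj

open Groth.Agent.Lib.Helper1.Sky Groth.Agent.Lib.Helper1.KBC Groth.Agent.Lib.Helper1.StalkTensor
open Groth.Agent.Lib.Seat49.IdealChain Groth.Agent.Lib.Seat49.LocInj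

noncomputable section

variable {Y : Scheme.{u}}

/-- sections of the structure module are functions -/
def toO (W : Y.Opens) : Γ(Y, W) ≃+ Γ(Coh.structureModule Y, W) := AddEquiv.refl _

theorem toO_smul (W : Y.Opens) (r s : Γ(Y, W)) : toO W (r * s) = r • toO W s := rfl

theorem toO_res {W W' : Y.Opens} (i : W' ⟶ W) (s : Γ(Y, W)) :
    (Coh.structureModule Y).presheaf.map i.op (toO W s) = toO W' (Y.presheaf.map i.op s) := rfl

/-- naturality of a morphism of modules with respect to restriction -/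
theorem app_res {M N : Y.Modules} (φ : M ⟶ N) {W W' : Y.Opens} (i : W' ⟶ W) (t : Γ(M, W)) :
    φ.app W' (M.presheaf.map i.op t) = N.presheaf.map i.op (φ.app W t) := by
  have := φ.mapPresheaf.naturality i.op
  exact (CategoryTheory.congr_fun this t)

/-- a monomorphism is injective on sections -/
theorem app_injective_of_mono {M N : Y.Modules} (φ : M ⟶ N) [Mono φ] (W : Y.Opens) :
    Function.Injective (φ.app W) := by
  have h1 : Mono ((Scheme.Modules.toPresheaf Y).map φ) := inferInstance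
  rw [NatTrans.mono_iff_mono_app] at h1
  exact (AddCommGrpCat.mono_iff_injective _).1 (h1 (op W))

/-- restriction of a global function to an open -/
def resT (W : Y.Opens) : Γ(Y, ⊤) →+* Γ(Y, W) := (Y.presheaf.map (homOfLE le_top).op).hom

theorem resT_res {W W' : Y.Opens} (i : W' ⟶ W) (b : Γ(Y, ⊤)) :
    Y.presheaf.map i.op (resT W b) = resT W' b := by
  change (Y.presheaf.map (homOfLE le_top).op ≫ Y.presheaf.map i.op) b = _
  rw [← Y.presheaf.map_comp]
  rfl

theorem resT_basicOpen (g b : Γ(Y, ⊤)) :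
    resT (Y.basicOpen g) b = algebraMap Γ(Y, ⊤) Γ(Y, Y.basicOpen g) b := rfl

/-- an increasing chain of submodules of the structure sheaf -/
structure Chain (Y : Scheme.{u}) where
  K : ℕ → Y.Modules
  ι : ∀ n, K n ⟶ Coh.structureModule Y
  mono : ∀ n, Mono (ι n)
  f : ∀ n m, n ≤ m → (K n ⟶ K m)
  hf : ∀ n m (h : n ≤ m), f n m h ≫ ι m = ι n

namespace Chain

variable (c : Chain Y)

instance (n : ℕ) : Mono (c.ι n) := c.mono n

instance (n m : ℕ) (h : n ≤ m) : Mono (c.f n m h) := by
  haveI : Mono (c.f n m h ≫ c.ι m) := by rw [c.hf]; infer_instance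
  exact mono_of_mono (c.f n m h) (c.ι m)

/-- the restriction of `b` to `D(g)` is a section of the `n`-th submodule -/
def C (n : ℕ) (g b : Γ(Y, ⊤)) : Prop :=
  ∃ t : Γ(c.K n, Y.basicOpen g), (c.ι n).app (Y.basicOpen g) t = toO _ (resT _ b)

theorem sys [IsAffine Y] : Sys c.C where
  zero n g := ⟨0, by rw [map_zero, map_zero, map_zero]⟩
  add n g b b' := by
    rintro ⟨t, ht⟩ ⟨t', ht'⟩
    exact ⟨t + t', by rw [map_add, ht, ht', map_add, map_add]⟩
  smul n g a b := by
    rintro ⟨t, ht⟩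
    refine ⟨resT (Y.basicOpen g) a • t, ?_⟩
    rw [Scheme.Modules.Hom.app_smul, ht, (resT (Y.basicOpen g)).map_mul, toO_smul]
  res n g g' b := by
    rintro ⟨t, ht⟩
    have hle : Y.basicOpen (g * g') ≤ Y.basicOpen g := by
      rw [Scheme.basicOpen_mul]
      exact inf_le_left
    refine ⟨(c.K n).presheaf.map (homOfLE hle).op t, ?_⟩
    rw [app_res, ht, toO_res, resT_res]
  mono n m g b h := by
    rintro ⟨t, ht⟩
    refine ⟨(c.f n m h).app _ t, ?_⟩
    rw [← ht, ← c.hf n m h]
    rfl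
  unit n g b := by
    rintro ⟨t, ht⟩
    have hu : IsUnit (resT (Y.basicOpen g) g) := IsLocalization.Away.algebraMap_isUnit g
    obtain ⟨u, hu⟩ := hu
    refine ⟨(↑u⁻¹ : Γ(Y, Y.basicOpen g)) • t, ?_⟩
    rw [Scheme.Modules.Hom.app_smul, ht, ← toO_smul]
    congr 1
    rw [(resT (Y.basicOpen g)).map_mul, ← hu, ← mul_assoc, Units.inv_mul, one_mul]

end Chain

/-! ### points and primes -/

section Points

variable [IsAffine Y]

/-- the prime of global functions vanishing at `x` -/
def primeOf (x : Y) : PrimeSpectrum Γ(Y, ⊤) := (isAffineOpen_top Y).primeIdealOf ⟨x, trivial⟩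

theorem mem_basicOpen_iff (x : Y) (g : Γ(Y, ⊤)) : x ∈ Y.basicOpen g ↔ g ∉ (primeOf x).asIdeal := by
  rw [primeOf, IsAffineOpen.primeIdealOf_eq_map_closedPoint]
  rw [Scheme.mem_basicOpen _ g x trivial]
  change _ ↔ ¬ (Y.presheaf.germ ⊤ x trivial).hom g ∈ IsLocalRing.maximalIdeal _
  rw [IsLocalRing.mem_maximalIdeal, mem_nonunits_iff, not_not]

end Points

/-! ### the chain is stationary -/

namespace Chain

variable (c : Chain Y)

theorem app_eq_of_ι_eq {n m : ℕ} (h : n ≤ m) {W : Y.Opens} (t : Γ(c.K m, W)) (t' : Γ(c.K n, W))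
    (e : (c.ι m).app W t = (c.ι n).app W t') : (c.f n m h).app W t' = t := by
  apply app_injective_of_mono (c.ι m) W
  rw [e, ← c.hf n m h]
  rfl

theorem exists_isIso [IsAffine Y] [IsNoetherianRing Γ(Y, ⊤)] :
    ∃ n₀, ∀ m (h : n₀ ≤ m), IsIso (c.f n₀ m h) := by
  obtain ⟨n₀, hn₀⟩ := exists_stable' c.sys
  refine ⟨n₀, fun m h => ?_⟩
  apply isIso_of_sm_bijective
  intro y
  refine ⟨sm_injective_of_mono (c.f n₀ m h) y, ?_⟩
  intro a
  obtain ⟨V, hyV, t, rfl⟩ := exists_gm_eq a
  obtain ⟨g, hgV, hyg⟩ := (isAffineOpen_top Y).exists_basicOpen_le ⟨y, hyV⟩ trivial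
  let D := Y.basicOpen g
  obtain ⟨t1, ht1⟩ : ∃ t1 : Γ(c.K m, D), t1 = (c.K m).presheaf.map (homOfLE hgV).op t := ⟨_, rfl⟩
  obtain ⟨s, hs0⟩ : ∃ s : Γ(Y, D), (c.ι m).app D t1 = toO D s :=
    ⟨(toO D).symm ((c.ι m).app D t1), ((toO D).apply_symm_apply _).symm⟩
  obtain ⟨⟨b, ⟨_, k, rfl⟩⟩, hs⟩ := IsLocalization.surj (Submonoid.powers g) s
  -- `hs : s * algebraMap (g ^ k) = algebraMap b`
  have hs' : s * resT D (g ^ k) = resT D b := hs
  have hC : c.C m g b := by
    refine ⟨resT D (g ^ k) • t1, ?_⟩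
    rw [Scheme.Modules.Hom.app_smul, ← hs', mul_comm, toO_smul, hs0]
  obtain ⟨h', hh', t', ht'⟩ := hn₀ m h g b hC (primeOf y) ((mem_basicOpen_iff y g).1 hyg)
  have hyh : y ∈ Y.basicOpen h' := (mem_basicOpen_iff y h').2 hh'
  let W : Y.Opens := D ⊓ Y.basicOpen h'
  have hyW : y ∈ W := ⟨hyg, hyh⟩
  let i1 : W ⟶ D := homOfLE inf_le_left
  let i2 : W ⟶ Y.basicOpen h' := homOfLE inf_le_right
  -- the inverse of `g` on `D`
  have hu : IsUnit (resT D g) := IsLocalization.Away.algebraMap_isUnit g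
  obtain ⟨u, hu⟩ := hu
  have hsu : s = ↑(u⁻¹ ^ k) * resT D b := by
    rw [← hs', map_pow, ← hu, mul_comm s, ← mul_assoc, ← Units.val_pow_eq_pow_val, ← Units.val_mul,
      ← mul_pow, inv_mul_cancel, one_pow, Units.val_one, one_mul]
  obtain ⟨r, hr⟩ : ∃ r : Γ(Y, W), r = Y.presheaf.map i1.op (↑(u⁻¹ ^ k) : Γ(Y, D)) := ⟨_, rfl⟩
  obtain ⟨t'', ht''⟩ : ∃ t'' : Γ(c.K n₀, W), t'' = r • (c.K n₀).presheaf.map i2.op t' := ⟨_, rfl⟩
  have key : (c.ι m).app W ((c.K m).presheaf.map i1.op t1) = (c.ι n₀).app W t'' := by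
    rw [app_res (c.ι m) i1 t1, hs0, toO_res, hsu, ht'', Scheme.Modules.Hom.app_smul,
      app_res (c.ι n₀) i2 t', ht', toO_res, resT_res, ← toO_smul]
    congr 1
    rw [map_mul, resT_res, hr]
  have h3 := c.app_eq_of_ι_eq h _ t'' key
  refine ⟨gm (toPM (c.K n₀)) y W hyW t'', ?_⟩
  rw [sm_gm]
  have h4 : (toPMMap (c.f n₀ m h)).app (op W) t'' = (c.K m).presheaf.map i1.op t1 := h3
  rw [h4]
  have h5 : (c.K m).presheaf.map i1.op t1 = rs (toPM (c.K m)) (i1 ≫ homOfLE hgV) t := by
    rw [ht1]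
    rw [← ConcreteCategory.comp_apply, ← (c.K m).presheaf.map_comp]
    rfl
  rw [h5, gm_rs]

end Chain

/-! ### general open immersions -/

section OpenImm

variable {U X : Scheme.{u}} (j : U ⟶ X) [IsOpenImmersion j]

/-- the adjoint triple `j_! ⊣ j^* ⊣ j_*` -/
def triple' : Adjunction.Triple (CxOX.extZero j)
    (Scheme.Modules.restrictFunctor j) (Scheme.Modules.pushforward j) :=
  ⟨CxOX.extZeroAdj j, Scheme.Modules.restrictAdjunction j⟩

instance isIso_unit' : IsIso (CxOX.extZeroAdj j).unit :=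
  (triple' j).isIso_unit_iff_isIso_counit.2
    (inferInstanceAs (IsIso (Scheme.Modules.restrictAdjunction j).counit))

theorem image_le_range (W : U.Opens) {z : X} (hz : z ∈ j ''ᵁ W) : z ∈ Set.range j := by
  obtain ⟨w, -, rfl⟩ := hz
  exact ⟨w, rfl⟩

/-- the stalk of `j_! N` at a point outside the image of `j` vanishes -/
theorem isZero_stalk_extZero' (y : X) (hy : y ∉ Set.range j) (N : U.Modules) :
    IsZero ((stalkFun y).obj ((CxOX.extZero j).obj N)) := by
  rw [IsZero.iff_id_eq_zero]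
  apply ((stalkSkyAdj y).homEquiv _ _).injective
  apply ((CxOX.extZeroAdj j).homEquiv _ _).injective
  apply Scheme.Modules.hom_ext
  intro W
  ext s
  apply SkyT.ext (R := X.presheaf) (U := j ''ᵁ W)
  intro hx
  exact absurd (image_le_range j W hx) hy

/-- a morphism which is bijective on sections over all opens inside the image of `j` is bijective
on stalks at points of the image -/
theorem sm_bijective_of_restrict' {A B : X.Modules} (f : A ⟶ B) (y : X) (hy : y ∈ Set.range j)
    (h : ∀ W : U.Opens, Function.Bijective (f.app (j ''ᵁ W))) :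
    Function.Bijective (sm (toPMMap f) y) := by
  have hle : ∀ V : X.Opens, j ''ᵁ (j ⁻¹ᵁ V) ≤ V := by
    intro V z hz
    obtain ⟨w, hw, rfl⟩ := hz
    exact hw
  have hmem : ∀ V : X.Opens, y ∈ V → y ∈ j ''ᵁ (j ⁻¹ᵁ V) := by
    intro V hV
    obtain ⟨w, rfl⟩ := hy
    exact ⟨w, hV, rfl⟩
  constructor
  · rw [injective_iff_map_eq_zero]
    intro a ha
    obtain ⟨V, hV, s, rfl⟩ := exists_gm_eq a
    rw [sm_gm] at ha
    have h0 : gm (toPM B) y V hV ((toPMMap f).app (op V) s) = gm (toPM B) y V hV 0 := by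
      rw [ha, map_zero]
    obtain ⟨V', hV', i₁, i₂, e⟩ := gm_eq hV hV _ _ h0
    rw [map_zero] at e
    let W := j ''ᵁ (j ⁻¹ᵁ V')
    let k : W ⟶ V' := homOfLE (hle V')
    have e1 : (toPMMap f).app (op W) (rs (toPM A) (k ≫ i₁) s) = 0 := by
      have hn := PresheafOfModules.naturality_apply (toPMMap f) (k ≫ i₁).op s
      have e' := congrArg (rs (toPM B) k) e
      rw [map_zero, rs_rs] at e'
      exact hn.trans e'
    have e2 : rs (toPM A) (k ≫ i₁) s = 0 := by
      apply (h (j ⁻¹ᵁ V')).1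
      have hz : f.app (j ''ᵁ (j ⁻¹ᵁ V')) (0 : Γ(A, j ''ᵁ (j ⁻¹ᵁ V'))) = 0 := map_zero _
      exact e1.trans hz.symm
    rw [← gm_rs (k ≫ i₁) (hmem V' hV') s, e2, map_zero]
  · intro b
    obtain ⟨V, hV, t, rfl⟩ := exists_gm_eq b
    let W := j ''ᵁ (j ⁻¹ᵁ V)
    let k : W ⟶ V := homOfLE (hle V)
    obtain ⟨s, hs⟩ := (h (j ⁻¹ᵁ V)).2 (rs (toPM B) k t)
    refine ⟨gm (toPM A) y W (hmem V hV) s, ?_⟩
    rw [sm_gm, ← gm_rs k (hmem V hV) t]
    exact congrArg _ hs

end OpenImm

/-! ### `j_! O_U` is a Noetherian object -/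

theorem noetherian_extZeroUnit {U X : Scheme.{u}} [IsLocallyNoetherian X] [IsAffine U]
    (j : U ⟶ X) [IsOpenImmersion j] (c : ℕ →o Subobject (CxOX.extZeroUnit j)) :
    ∃ n : ℕ, ∀ m : ℕ, n ≤ m → c n = c m := by
  haveI : IsLocallyNoetherian U := isLocallyNoetherian_of_isOpenImmersion j
  haveI : IsNoetherianRing Γ(U, ⊤) :=
    IsLocallyNoetherian.component_noetherian ⟨⊤, isAffineOpen_top U⟩
  let η := (CxOX.extZeroAdj j).unit.app (Coh.structureModule U)
  let R := Scheme.Modules.restrictFunctor j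
  let ch : Chain U :=
    { K := fun n => R.obj (c n : X.Modules)
      ι := fun n => R.map (c n).arrow ≫ inv η
      mono := fun n => by
        haveI : Mono (R.map (c n).arrow) := inferInstance
        exact mono_comp _ _
      f := fun n m h => R.map (Subobject.ofLE (c n) (c m) (c.monotone h))
      hf := fun n m h => by
        rw [← Category.assoc, ← R.map_comp, Subobject.ofLE_arrow] }
  obtain ⟨n₀, hn₀⟩ := ch.exists_isIso
  refine ⟨n₀, fun m h => ?_⟩
  let φ : (c n₀ : X.Modules) ⟶ (c m : X.Modules) := Subobject.ofLE (c n₀) (c m) (c.monotone h)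
  have hiso : IsIso φ := by
    apply isIso_of_sm_bijective
    intro y
    by_cases hy : y ∈ Set.range j
    · apply sm_bijective_of_restrict' j φ y hy
      intro W
      haveI : IsIso (R.map φ) := hn₀ m h
      have h1 : IsIso ((R.map φ).app W) := inferInstance
      exact (ConcreteCategory.isIso_iff_bijective ((R.map φ).app W)).1 h1
    · have hz : ∀ n, Subsingleton (St (toPM (c n : X.Modules)) y) := by
        intro n
        have h1 := sm_injective_of_mono (c n).arrow y
        haveI : Subsingleton (St (toPM (CxOX.extZeroUnit j)) y) :=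
          ModuleCat.subsingleton_of_isZero (isZero_stalk_extZero' j y hy _)
        exact h1.subsingleton
      haveI := hz n₀
      haveI := hz m
      exact ⟨Function.injective_of_subsingleton _, fun b => ⟨0, Subsingleton.elim _ _⟩⟩
  refine le_antisymm (c.monotone h) ?_
  exact Subobject.le_of_comm (inv φ) (by rw [IsIso.inv_comp_eq]; exact (Subobject.ofLE_arrow _).symm)

end
end Groth.Agent.Lib.Seat49.NoethObj
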