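import Mathlib
import Groth.Agent.Lib.Seat49NoethObj
import Groth.Agent.Lib.Seat49ExtZeroSec

/-!
# Coproducts of injective modules on a locally Noetherian scheme are injective (helper49)

Namespace `Groth.Agent.Lib.Seat49.CoprodInj`.
-/

set_option autoImplicit false
set_option linter.style.haveILetI false
universe u
open CategoryTheory CategoryTheory.Limits AlgebraicGeometry TopologicalSpace Opposite

namespace Groth.Agent.Lib.Seat49.CoprodInj

/-! ### finite parts of a coproduct -/

section Proj

variable {C : Type*} [Category C] [Preadditive C] {ι : Type*} (I : ι → C) [HasCoproduct I]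

open Classical in
/-- the projection of a coproduct onto the part indexed by `F` -/
noncomputable def pF (F : Finset ι) : ∐ I ⟶ ∐ I :=
  Sigma.desc (fun i => if i ∈ F then Sigma.ι I i else 0)

open Classical in
@[reassoc]
theorem ι_pF (F : Finset ι) (i : ι) :
    Sigma.ι I i ≫ pF I F = if i ∈ F then Sigma.ι I i else 0 := by
  simp [pF]

theorem pF_comp {F F' : Finset ι} (h : F ⊆ F') : pF I F ≫ pF I F' = pF I F := by
  classical
  apply Sigma.hom_ext
  intro i
  rw [ι_pF_assoc, ι_pF]
  by_cases hi : i ∈ F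
  · rw [if_pos hi, ι_pF, if_pos (h hi)]
  · rw [if_neg hi, zero_comp]

open Classical in
/-- the `i`-th coordinate of a coproduct -/
noncomputable def πc (i : ι) : ∐ I ⟶ I i :=
  Sigma.desc (fun k => if h : k = i then eqToHom (by rw [h]) else 0)

open Classical in
@[reassoc]
theorem ι_πc (k i : ι) :
    Sigma.ι I k ≫ πc I i = if h : k = i then eqToHom (by rw [h]) else 0 := by
  simp [πc]

theorem pF_eq_sum (F : Finset ι) : pF I F = ∑ i ∈ F, πc I i ≫ Sigma.ι I i := by
  classical
  apply Sigma.hom_ext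
  intro k
  rw [ι_pF, Preadditive.comp_sum]
  by_cases hk : k ∈ F
  · rw [if_pos hk, Finset.sum_eq_single_of_mem k hk]
    · rw [ι_πc_assoc, dif_pos rfl]
      simp
    · intro i _ hik
      rw [ι_πc_assoc, dif_neg (Ne.symm hik), zero_comp]
  · rw [if_neg hk]
    symm
    apply Finset.sum_eq_zero
    intro i hi
    have : k ≠ i := fun h => hk (h ▸ hi)
    rw [ι_πc_assoc, dif_neg this, zero_comp]

/-- a morphism into a coproduct of injectives which lands in a finite part extends along any
monomorphism -/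
theorem exists_ext_of_comp_eq [∀ i, Injective (I i)] {A E : C} (m : A ⟶ E) [Mono m]
    (g : A ⟶ ∐ I) (F : Finset ι) (hg : g ≫ pF I F = g) : ∃ h : E ⟶ ∐ I, m ≫ h = g := by
  refine ⟨∑ i ∈ F, Injective.factorThru (g ≫ πc I i) m ≫ Sigma.ι I i, ?_⟩
  rw [Preadditive.comp_sum]
  conv_rhs => rw [← hg, pF_eq_sum, Preadditive.comp_sum]
  apply Finset.sum_congr rfl
  intro i _
  rw [← Category.assoc, Injective.comp_factorThru, Category.assoc]

end Proj

open Groth.Agent.Lib.Helper1.Sky Groth.Agent.Lib.Helper1.KBC Groth.Agent.Lib.Helper1.StalkTensor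
open Groth.Agent.Lib.Seat49.LocInj Groth.Agent.Lib.Seat49.NoethObj
open Groth.Agent.Lib.Seat49.ExtZeroSec

noncomputable section

variable {X : Scheme.{u}}

/-! ### stalks of coproducts and kernels -/

theorem sm_comp' {A B D : X.Modules} (f : A ⟶ B) (g : B ⟶ D) (x : X) (a : St (toPM A) x) :
    sm (toPMMap (f ≫ g)) x a = sm (toPMMap g) x (sm (toPMMap f) x a) :=
  sm_comp (toPMMap f) (toPMMap g) x a

section Stalk

variable {ι : Type u} (I : ι → X.Modules)

/-- every element of a stalk of a coproduct lies in a finite part -/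
theorem exists_pF_fixed (x : X) (y : St (toPM (∐ I)) x) :
    ∃ F : Finset ι, sm (toPMMap (pF I F)) x y = y := by
  classical
  let G := stalkFun x
  -- the submodule of elements lying in a finite part
  let N : Submodule (Ox x) (St (toPM (∐ I)) x) :=
    { carrier := {y | ∃ F : Finset ι, sm (toPMMap (pF I F)) x y = y}
      zero_mem' := ⟨∅, map_zero _⟩
      add_mem' := by
        rintro a b ⟨F, hF⟩ ⟨F', hF'⟩
        refine ⟨F ∪ F', ?_⟩
        rw [map_add]
        congr 1
        · conv_lhs => rw [← hF, ← sm_comp', pF_comp I Finset.subset_union_left]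
          exact hF
        · conv_lhs => rw [← hF', ← sm_comp', pF_comp I Finset.subset_union_right]
          exact hF'
      smul_mem' := by
        rintro r a ⟨F, hF⟩
        refine ⟨F, ?_⟩
        rw [sm_smul, hF] }
  suffices h : N = ⊤ by
    have : y ∈ N := h ▸ Submodule.mem_top
    exact this
  -- the quotient map vanishes on all components
  let q : G.obj (∐ I) ⟶ ModuleCat.of (Ox x) (St (toPM (∐ I)) x ⧸ N) := ModuleCat.ofHom N.mkQ
  have hq : q = 0 := by
    have hc := isColimitOfPreserves G (coproductIsCoproduct I)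
    apply hc.hom_ext
    rintro ⟨i⟩
    rw [comp_zero]
    ext z
    change N.mkQ (sm (toPMMap (Sigma.ι I i)) x z) = 0
    rw [Submodule.mkQ_apply, Submodule.Quotient.mk_eq_zero]
    refine ⟨{i}, ?_⟩
    have hz := sm_comp' (Sigma.ι I i) (pF I {i}) x z
    rw [ι_pF, if_pos (Finset.mem_singleton_self i)] at hz
    exact hz.symm
  rw [eq_top_iff]
  intro z _
  have : N.mkQ z = 0 := by
    have := congrArg (fun φ => φ.hom z) hq
    exact this
  rwa [Submodule.mkQ_apply, Submodule.Quotient.mk_eq_zero] at this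

/-- stalks are exact at kernels -/
theorem exists_of_sm_eq_zero {A B : X.Modules} (f : A ⟶ B) (x : X) (a : St (toPM A) x)
    (ha : sm (toPMMap f) x a = 0) :
    ∃ a' : St (toPM (kernel f)) x, sm (toPMMap (kernel.ι f)) x a' = a := by
  let S : ShortComplex X.Modules := ShortComplex.mk (kernel.ι f) f (kernel.condition f)
  have hS : S.Exact := S.exact_of_f_is_kernel (kernelIsKernel f)
  have hS' : (S.map (stalkFun x)).Exact := hS.map (stalkFun x)
  exact (ShortComplex.moduleCat_exact_iff _).1 hS' a ha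

end Stalk

/-! ### maps from Noetherian objects into coproducts -/

section Fin

variable {ι : Type u} (I : ι → X.Modules)

theorem sm_sub {A B : X.Modules} (f g : A ⟶ B) (x : X) (a : St (toPM A) x) :
    sm (toPMMap (f - g)) x a = sm (toPMMap f) x a - sm (toPMMap g) x a := by
  have h := (stalkFun x).map_sub (f := f) (g := g)
  have h2 := congrArg (fun φ => φ.hom a) h
  exact h2

/-- a morphism from a Noetherian object into a coproduct lands in a finite part -/
theorem exists_comp_pF_eq {A : X.Modules} [IsNoetherianObject A] (g : A ⟶ ∐ I) :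
    ∃ F : Finset ι, g ≫ pF I F = g := by
  classical
  let AF : Finset ι → Subobject A := fun F => kernelSubobject (g ≫ (𝟙 _ - pF I F))
  have hmono : ∀ F F', F ⊆ F' → AF F ≤ AF F' := by
    intro F F' h
    have e : g ≫ (𝟙 _ - pF I F') = (g ≫ (𝟙 _ - pF I F)) ≫ (𝟙 _ - pF I F') := by
      rw [Category.assoc]
      congr 1
      rw [Preadditive.sub_comp, Preadditive.comp_sub, Preadditive.comp_sub, Category.id_comp,
        Category.comp_id, pF_comp I h]
      abel
    change kernelSubobject _ ≤ kernelSubobject _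
    rw [e]
    exact kernelSubobject_comp_le _ _
  obtain ⟨_, ⟨F₀, rfl⟩, hmax⟩ := wellFounded_gt.has_min (Set.range AF) ⟨_, ⟨∅, rfl⟩⟩
  have hle : ∀ F, AF F ≤ AF F₀ := by
    intro F
    have h1 : AF F₀ ≤ AF (F ∪ F₀) := hmono _ _ Finset.subset_union_right
    have h2 : AF (F ∪ F₀) = AF F₀ := by
      by_contra hne
      exact hmax _ ⟨_, rfl⟩ (lt_of_le_of_ne h1 (Ne.symm hne))
    exact h2 ▸ hmono _ _ Finset.subset_union_left
  have hiso : IsIso (AF F₀).arrow := by
    apply isIso_of_sm_bijective
    intro x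
    refine ⟨sm_injective_of_mono _ x, ?_⟩
    intro a
    obtain ⟨F, hF⟩ := exists_pF_fixed I x (sm (toPMMap g) x a)
    have h0 : sm (toPMMap (g ≫ (𝟙 _ - pF I F))) x a = 0 := by
      rw [Preadditive.comp_sub, Category.comp_id, sm_sub, sm_comp', hF, sub_self]
    obtain ⟨a', ha'⟩ := exists_of_sm_eq_zero _ x a h0
    refine ⟨sm (toPMMap ((kernelSubobjectIso _).inv ≫ Subobject.ofLE _ _ (hle F))) x a', ?_⟩
    rw [← sm_comp', Category.assoc, Subobject.ofLE_arrow, kernelSubobject_arrow']
    exact ha'
  refine ⟨F₀, ?_⟩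
  have h1 : (AF F₀).arrow ≫ (g ≫ (𝟙 _ - pF I F₀)) = 0 := kernelSubobject_arrow_comp _
  have h2 : g ≫ (𝟙 _ - pF I F₀) = 0 := by
    rwa [← cancel_epi (AF F₀).arrow, comp_zero]
  rw [Preadditive.comp_sub, Category.comp_id, sub_eq_zero] at h2
  exact h2.symm

end Fin

/-! ### the Baer-type criterion -/

section Baer

open Groth.Agent.Lib.Helper16.BaerFamily MorphismProperty

variable (X)

/-- inclusions of subobjects of the modules `j_! O_V`, `V` affine open, and isomorphisms -/
def W : MorphismProperty X.Modules := fun _ _ f =>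
  (∃ V : X.affineOpens,
    IsGrothendieckAbelian.generatingMonomorphisms (CxOX.extZeroUnit V.1.ι) f) ∨ IsIso f

theorem gen_W : Gen (W X) where
  iso_le := fun A B f hf => MorphismProperty.le_pushouts _ _ (Or.inr hf)
  exists_pushouts {A B} p _ hp := by
    have hx : ∃ x : X, ¬ Function.Bijective (sm (toPMMap p) x) := by
      by_contra hcon
      push Not at hcon
      exact hp (isIso_of_sm_bijective p hcon)
    obtain ⟨x, hx⟩ := hx
    have hsurj : ¬ Function.Surjective (sm (toPMMap p) x) :=
      fun h => hx ⟨sm_injective_of_mono p x, h⟩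
    rw [Function.Surjective] at hsurj
    push Not at hsurj
    obtain ⟨b, hb⟩ := hsurj
    obtain ⟨V', hxV', s, rfl⟩ := exists_gm_eq b
    obtain ⟨V₀, hV, hxV, hVV'⟩ := (Opens.isBasis_iff_nbhd.1 X.isBasis_affineOpens) hxV'
    let V : X.Opens := V₀
    have hle : V.ι ''ᵁ ⊤ ≤ V' := (image_top V).le.trans hVV'
    have hxV2 : x ∈ V.ι ''ᵁ ⊤ := (image_top V).ge hxV
    let s2 : Γ(B, V.ι ''ᵁ ⊤) := rs (toPM B) (homOfLE hle) s
    let σ : CxOX.extZeroUnit V.ι ⟶ B := (secEquiv V B).symm s2
    have hf : ∀ a : CxOX.extZeroUnit V.ι ⟶ A, a ≫ p ≠ σ := by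
      intro a ha
      have h1 := secEquiv_comp V a p
      rw [ha, Equiv.apply_symm_apply] at h1
      apply hb (gm (toPM A) x (V.ι ''ᵁ ⊤) hxV2 (secEquiv V A a))
      rw [sm_gm]
      have h2 : (toPMMap p).app (op (V.ι ''ᵁ ⊤)) (secEquiv V A a) = s2 := h1.symm
      rw [h2]
      exact gm_rs (homOfLE hle) hxV2 s
    obtain ⟨X', i, p', hi, hi', hp', fac⟩ := exists_pushouts_of_not_factor p σ hf
    refine ⟨X', i, p', ?_, hi', hp', fac⟩
    refine MorphismProperty.pushouts_monotone ?_ _ hi
    intro _ _ f hf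
    exact Or.inl ⟨⟨V, hV⟩, hf⟩

variable {X}

/-- on a locally Noetherian scheme, coproducts of injective modules are injective -/
theorem injective_coprod [IsLocallyNoetherian X] {ι : Type u} (I : ι → X.Modules)
    [∀ i, Injective (I i)] : Injective (∐ I) := by
  rw [injective_iff_rlp_monomorphisms_zero]
  apply rlp_le.{u} (gen_W X)
  intro A B i hi
  rcases hi with ⟨V, hV⟩ | hiso
  · obtain ⟨S⟩ := hV
    refine ⟨fun {f g} sq => ?_⟩
    haveI : IsAffine (V.1 : Scheme.{u}) := V.2
    haveI : IsNoetherianObject (CxOX.extZeroUnit V.1.ι) :=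
      (isNoetherianObject_iff_monotone_chain_condition _).2 (noetherian_extZeroUnit V.1.ι)
    haveI : IsNoetherianObject (Subobject.underlying.obj S) := isNoetherianObject_of_mono S.arrow
    obtain ⟨F, hF⟩ := exists_comp_pF_eq I f
    obtain ⟨h, hh⟩ := exists_ext_of_comp_eq I S.arrow f F hF
    exact CommSq.HasLift.mk' ⟨h, hh, (isZero_zero _).eq_of_tgt _ _⟩
  · haveI := hiso
    exact HasLiftingProperty.of_left_iso i _

end Baer

end

end Groth.Agent.Lib.Seat49.CoprodInj
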