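import Mathlib
import Groth.Agent.Lib.Helper1Sky3
import Groth.Agent.S0306
import Groth.Agent.S0307
import Groth.Agent.S11661
import Groth.Agent.Lib.Seat49CoprodInj

/-!
# Skyscraper modules are injective; the tilde of an injective module over a Noetherian ring is injective (helper49)

Namespace `Groth.Agent.Lib.Seat49.SkyInj`.

* `injective_skyMod'`: the skyscraper `O_X`-module at `x` with value an injective `O_{X,x}`-module is an injective
  object of `X.Modules` (adjunction `stalk ⊣ sky`, the stalk functor preserves monomorphisms).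
* `toSky x J : J ⟶ sky_x (J_x)` and `isIso_toSky`: it is an isomorphism as soon as, on a basis, sections over members
  containing `x` map bijectively to the stalk and sections over members not containing `x` vanish.
* `isIso_toSky_tilde`: on `Spec R`, for a module `M` on which elements outside `p` act bijectively and elements of `p`
  act locally nilpotently, `M~ ≅ sky_p (M~_p)`.
* `injective_stalk_tilde`: stalks of `M~` are injective over the local rings if `M` is injective over Noetherian `R`
  (Mathlib `Module.injective_of_isLocalizedModule`).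
* `local_of_isInjectiveHull`: the hull `E(R/p)` is "local at `p`" (from the prior row S11661).
* `injective_tilde`: **`M~` is an injective `O_{Spec R}`-module for `M` injective over Noetherian `R`** (Matlis
  decomposition, prior rows S0306/S0307, and injectivity of direct sums on locally Noetherian schemes, S11157).
-/

set_option autoImplicit false
set_option linter.style.haveILetI false
universe u
open CategoryTheory CategoryTheory.Limits AlgebraicGeometry TopologicalSpace Opposite

theorem IsLocalizedModule.bijective_of_forall_bijective {R M M' : Type*} [CommRing R]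
    [AddCommGroup M] [AddCommGroup M'] [Module R M] [Module R M'] (S : Submonoid R)
    (g : M →ₗ[R] M') [IsLocalizedModule S g]
    (h : ∀ s ∈ S, Function.Bijective (fun m : M => s • m)) : Function.Bijective g := by
  constructor
  · rw [injective_iff_map_eq_zero]
    intro m hm
    obtain ⟨s, hs⟩ := (IsLocalizedModule.eq_zero_iff S g).1 hm
    apply (h s s.2).1
    change (s : R) • m = (s : R) • 0
    rw [smul_zero]
    exact hs
  · intro y
    obtain ⟨⟨x, s⟩, hx⟩ := IsLocalizedModule.surj S g y
    obtain ⟨m', rfl⟩ := (h s s.2).2 x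
    refine ⟨m', ?_⟩
    have h2 := IsLocalizedModule.smul_injective g s
    apply h2
    change s • g m' = s • y
    rw [hx]
    exact (map_smul g (s : R) m').symm

namespace Groth.Agent.Lib.Seat49.SkyInj

open Groth.Agent.Lib.Helper1.Sky Groth.Agent.Lib.Helper1.StalkTensor

noncomputable section

variable {X : Scheme.{u}}

instance preservesMonomorphisms_stalkFun (x : X) : (stalkFun x).PreservesMonomorphisms where
  preserves {A B} f hf := by
    rw [ModuleCat.mono_iff_injective]
    exact sm_injective_of_mono f x

/-- skyscrapers with injective value are injective -/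
theorem injective_skyMod (x : X) (N : ModuleCat.{u} (Ox x)) [Injective N] :
    Injective (skyMod x N) :=
  Injective.injective_of_adjoint (stalkSkyAdj x) N

/-- skyscrapers with injective value are injective -/
theorem injective_skyMod' (x : X) (N : ModuleCat.{u} (Ox x)) (hN : Module.Injective (Ox x) N) :
    Injective (skyMod x N) := by
  haveI : Injective N := Module.injective_object_of_injective_module (Ox x) N
  exact injective_skyMod x N

/-- the canonical map to the skyscraper at `x` with value the stalk -/
def toSky (x : X) (J : X.Modules) : J ⟶ skyMod x ((stalkFun x).obj J) :=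
  ⟨ofStalk (R := X.presheaf) (x := x) (P := toPM J) LinearMap.id⟩

lemma toSky_app_ev (x : X) (J : X.Modules) (U : X.Opens) (s : Γ(J, U)) (hx : x ∈ U) :
    SkyT.ev X.presheaf U ((toSky x J).app U s) hx = gm (toPM J) x U hx s := rfl

/-- a morphism of modules which is bijective on the members of a basis is an isomorphism -/
theorem isIso_of_bijective_basis {A B : X.Modules} (f : A ⟶ B) {ι : Type*} (Bs : ι → X.Opens)
    (hB : Opens.IsBasis (Set.range Bs)) (h : ∀ i, Function.Bijective (f.app (Bs i))) : IsIso f := by
  rw [Scheme.Modules.Hom.isIso_iff_isIso_app]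
  intro V
  let g : abSheaf A ⟶ abSheaf B := ⟨(Scheme.Modules.toPresheaf X).map f⟩
  have hg : IsIso g := by
    refine TopCat.Sheaf.isIso_iff_isIso_basis (φ := g) hB (fun i => ?_)
    rw [ConcreteCategory.isIso_iff_bijective]
    exact h i
  have h1 : IsIso ((TopCat.Sheaf.forget _ _).map g) := inferInstance
  have h2 : IsIso (((TopCat.Sheaf.forget _ _).map g).app (op V)) := inferInstance
  exact h2

/-- criterion for `J` to be the skyscraper at `x` with value its stalk -/
theorem isIso_toSky (x : X) (J : X.Modules) {ι : Type*} (Bs : ι → X.Opens)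
    (hB : Opens.IsBasis (Set.range Bs))
    (h1 : ∀ i (hx : x ∈ Bs i), Function.Bijective (gm (toPM J) x (Bs i) hx))
    (h0 : ∀ i, x ∉ Bs i → Subsingleton Γ(J, Bs i)) : IsIso (toSky x J) := by
  refine isIso_of_bijective_basis _ Bs hB (fun i => ?_)
  by_cases hx : x ∈ Bs i
  · constructor
    · intro s t hst
      apply (h1 i hx).1
      have := congrArg (fun z => SkyT.ev X.presheaf (Bs i) z hx) hst
      exact this
    · intro t
      obtain ⟨s, hs⟩ := (h1 i hx).2 (SkyT.ev X.presheaf (Bs i) t hx)
      refine ⟨s, ?_⟩
      apply SkyT.ext (R := X.presheaf) (U := Bs i)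
      intro hx'
      exact hs
  · haveI := h0 i hx
    constructor
    · intro s t _
      exact Subsingleton.elim _ _
    · intro t
      refine ⟨0, ?_⟩
      apply SkyT.ext (R := X.presheaf) (U := Bs i)
      intro hx'
      exact absurd hx' hx

/-! ### the affine case -/

variable {R : CommRingCat.{u}} (M : ModuleCat.{u} R)

/-- the map `M → Γ(M~, U)`, additive -/
def tOpen (U : (Spec R).Opens) : M →+ (toPM (tilde M)).obj (op U) :=
  (tilde.toOpen M U).hom.toAddMonoidHom

lemma tOpen_rs {U V : (Spec R).Opens} (i : V ⟶ U) (m : M) :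
    rs (toPM (tilde M)) i (tOpen M U m) = tOpen M V m := rfl

lemma subsingleton_sections_of_torsion (f : R) (hf : ∀ m : M, ∃ n : ℕ, f ^ n • m = 0) :
    Subsingleton ((toPM (tilde M)).obj (op (PrimeSpectrum.basicOpen f))) := by
  have := (IsLocalizedModule.subsingleton_iff (.powers f)
    (tilde.toOpen M (PrimeSpectrum.basicOpen f)).hom).2 (fun m => by
      obtain ⟨n, hn⟩ := hf m
      exact ⟨f ^ n, ⟨n, rfl⟩, hn⟩)
  exact this

lemma tOpen_bijective (f : R) (hf : Function.Bijective (fun m : M => f • m)) :
    Function.Bijective (tOpen M (PrimeSpectrum.basicOpen f)) := by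
  refine IsLocalizedModule.bijective_of_forall_bijective (.powers f)
    (tilde.toOpen M (PrimeSpectrum.basicOpen f)).hom ?_
  rintro _ ⟨n, rfl⟩
  induction n with
  | zero =>
    have : (fun m : M => f ^ 0 • m) = id := by
      funext m
      simp
    rw [this]
    exact Function.bijective_id
  | succ n ih =>
    have : (fun m : M => f ^ (n + 1) • m) = (fun m : M => f ^ n • m) ∘ (fun m : M => f • m) := by
      funext m
      simp [pow_succ, mul_smul]
    rw [this]
    exact ih.comp hf

theorem gm_bijective_basicOpen (x : PrimeSpectrum R)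
    (hM : ∀ g : R, g ∉ x.asIdeal → Function.Bijective (fun m : M => g • m))
    (f : R) (hx : x ∈ PrimeSpectrum.basicOpen f) :
    Function.Bijective (gm (toPM (tilde M)) (x : Spec R) (PrimeSpectrum.basicOpen f) hx) := by
  have hf : f ∉ x.asIdeal := (PrimeSpectrum.mem_basicOpen f x).1 hx
  constructor
  · rw [injective_iff_map_eq_zero]
    intro s hs
    obtain ⟨m, rfl⟩ := (tOpen_bijective M f (hM f hf)).2 s
    have h0 : gm (toPM (tilde M)) (x : Spec R) (PrimeSpectrum.basicOpen f) hx
        (tOpen M (PrimeSpectrum.basicOpen f) m) =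
        gm (toPM (tilde M)) (x : Spec R) (PrimeSpectrum.basicOpen f) hx 0 := by
      rw [hs, map_zero]
    obtain ⟨W, hW, i₁, i₂, e⟩ := gm_eq hx hx _ _ h0
    rw [map_zero, tOpen_rs] at e
    obtain ⟨_, ⟨_, ⟨g, rfl⟩, rfl⟩, hxg, hgW⟩ :=
      PrimeSpectrum.isBasis_basic_opens.exists_subset_of_mem_open hW W.2
    have hg : g ∉ x.asIdeal := (PrimeSpectrum.mem_basicOpen g x).1 hxg
    have e2 : tOpen M (PrimeSpectrum.basicOpen g) m = 0 := by
      rw [← tOpen_rs M (homOfLE hgW : PrimeSpectrum.basicOpen g ⟶ W) m, e, map_zero]
    have : m = 0 := (tOpen_bijective M g (hM g hg)).1 (e2.trans (map_zero _).symm)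
    rw [this, map_zero]
  · intro a
    obtain ⟨V, hV, t, rfl⟩ := exists_gm_eq a
    obtain ⟨_, ⟨_, ⟨g, rfl⟩, rfl⟩, hxg, hgW⟩ :=
      PrimeSpectrum.isBasis_basic_opens.exists_subset_of_mem_open
        (show x ∈ (V ⊓ PrimeSpectrum.basicOpen f : Opens _) from ⟨hV, hx⟩)
        (V ⊓ PrimeSpectrum.basicOpen f : Opens _).2
    have hg : g ∉ x.asIdeal := (PrimeSpectrum.mem_basicOpen g x).1 hxg
    have i₁ : PrimeSpectrum.basicOpen g ⟶ V := homOfLE (hgW.trans inf_le_left)
    have i₂ : PrimeSpectrum.basicOpen g ⟶ PrimeSpectrum.basicOpen f := homOfLE (hgW.trans inf_le_right)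
    obtain ⟨m, hm⟩ := (tOpen_bijective M g (hM g hg)).2 (rs (toPM (tilde M)) i₁ t)
    refine ⟨tOpen M (PrimeSpectrum.basicOpen f) m, ?_⟩
    rw [← gm_rs i₂ hxg, tOpen_rs, hm, gm_rs]

/-- for a module `M` which is "local at `x`", `M~` is the skyscraper at `x` with value the stalk -/
theorem isIso_toSky_tilde (x : PrimeSpectrum R)
    (ha : ∀ g : R, g ∉ x.asIdeal → Function.Bijective (fun m : M => g • m))
    (hb : ∀ g : R, g ∈ x.asIdeal → ∀ m : M, ∃ n : ℕ, g ^ n • m = 0) :
    IsIso (toSky (X := Spec R) x (tilde M)) :=
  isIso_toSky (X := Spec R) x (tilde M) (fun f : R => PrimeSpectrum.basicOpen f)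
    PrimeSpectrum.isBasis_basic_opens
    (fun f hx => gm_bijective_basicOpen M x ha f hx)
    (fun f hx => subsingleton_sections_of_torsion M f
      (hb f (by
        by_contra h
        exact hx ((PrimeSpectrum.mem_basicOpen f x).2 h))))

/-- stalks of `M~` are injective if `M` is injective over a Noetherian ring -/
theorem injective_stalk_tilde [IsNoetherianRing R] (hM : Module.Injective R M) (x : PrimeSpectrum R) :
    Module.Injective (Ox (X := Spec R) x) (St (toPM (tilde M)) (x : Spec R)) := by
  have := Module.injective_of_isLocalizedModule (S := x.asIdeal.primeCompl)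
    (Rₛ := (structurePresheafInCommRingCat R).stalk x)
    (f := StructureSheaf.toStalkₗ R M x)
  exact this

/-- a module over a Noetherian ring which is injective and "local at `x`" has injective tilde -/
theorem injective_tilde_of_local [IsNoetherianRing R] (hM : Module.Injective R M) (x : PrimeSpectrum R)
    (ha : ∀ g : R, g ∉ x.asIdeal → Function.Bijective (fun m : M => g • m))
    (hb : ∀ g : R, g ∈ x.asIdeal → ∀ m : M, ∃ n : ℕ, g ^ n • m = 0) :
    Injective (tilde M) := by
  haveI := isIso_toSky_tilde M x ha hb
  haveI : Injective (skyMod (X := Spec R) x ((stalkFun (X := Spec R) x).obj (tilde M))) :=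
    injective_skyMod' (X := Spec R) x _ (injective_stalk_tilde M hM x)
  exact Injective.of_iso (asIso (toSky (X := Spec R) x (tilde M))).symm inferInstance

end

/-! ### commutative algebra: the hull of `R ⧸ p` is local at `p` -/

/-- an injective hull of the residue field of `p` is an injective hull of `R ⧸ p` -/
theorem isInjectiveHull_quotient {R : Type u} [CommRing R] (p : Ideal R) [p.IsPrime] {E : Type u}
    [AddCommGroup E] [Module R E] (g : p.ResidueField →ₗ[R] E) (hg : InjHull.IsInjectiveHull g) :
    InjHull.IsInjectiveHull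
      (g.comp ((Algebra.linearMap (R ⧸ p) p.ResidueField).restrictScalars R)) := by
  have hinj : Function.Injective (algebraMap (R ⧸ p) p.ResidueField) :=
    p.injective_algebraMap_quotient_residueField
  refine { injective := ?_, essential := ?_, isInjective := hg.isInjective }
  · exact hg.injective.comp hinj
  · intro N hN hbot
    have h1 := hg.essential N hN
    apply h1
    rw [Submodule.eq_bot_iff]
    rintro e ⟨heN, k, rfl⟩
    by_contra he0
    have hk0 : k ≠ 0 := by
      rintro rfl
      exact he0 (map_zero g)
    obtain ⟨a, s, hs, rfl⟩ := IsFractionRing.div_surjective (A := R ⧸ p) k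
    obtain ⟨s', rfl⟩ := Ideal.Quotient.mk_surjective s
    have hs0 : algebraMap (R ⧸ p) p.ResidueField (Ideal.Quotient.mk p s') ≠ 0 := by
      intro h
      exact nonZeroDivisors.ne_zero hs (hinj (h.trans (map_zero _).symm))
    have ha0 : a ≠ 0 := by
      rintro rfl
      apply hk0
      rw [map_zero, zero_div]
    have hsm : s' • (algebraMap (R ⧸ p) p.ResidueField a /
        algebraMap (R ⧸ p) p.ResidueField (Ideal.Quotient.mk p s')) =
        algebraMap (R ⧸ p) p.ResidueField a := by
      rw [Algebra.smul_def, IsScalarTower.algebraMap_apply R (R ⧸ p) p.ResidueField,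
        Ideal.Quotient.algebraMap_eq]
      field_simp
    have hmem : g (algebraMap (R ⧸ p) p.ResidueField a) ∈
        N ⊓ LinearMap.range (g.comp ((Algebra.linearMap (R ⧸ p) p.ResidueField).restrictScalars R)) := by
      refine ⟨?_, a, rfl⟩
      rw [← hsm, map_smul]
      exact N.smul_mem s' heN
    rw [hbot, Submodule.mem_bot] at hmem
    apply ha0
    apply hinj
    rw [map_zero]
    apply hg.injective
    rw [hmem, map_zero]

/-- an injective hull `E` of `R ⧸ p` over a Noetherian ring: elements outside `p` act bijectively, elements of `p`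
act locally nilpotently -/
theorem local_of_isInjectiveHull {R : Type u} [CommRing R] [IsNoetherianRing R] (p : Ideal R) [p.IsPrime]
    {E : Type u} [AddCommGroup E] [Module R E] (f : (R ⧸ p) →ₗ[R] E) (hf : InjHull.IsInjectiveHull f) :
    (∀ g : R, g ∉ p → Function.Bijective (fun e : E => g • e)) ∧
      (∀ g : R, g ∈ p → ∀ e : E, ∃ n : ℕ, g ^ n • e = 0) := by
  constructor
  · intro g hg
    have hdis : Disjoint (p : Set R) (Submonoid.powers g : Set R) := by
      rw [Set.disjoint_left]
      rintro _ hp ⟨n, rfl⟩
      exact hg (Ideal.IsPrime.mem_of_pow_mem inferInstance n hp)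
    obtain ⟨hbij, -⟩ := (Groth.Agent.S11661.result R (Submonoid.powers g) p E f hf).2 hdis
    have hu := IsLocalizedModule.map_units (LocalizedModule.mkLinearMap (Submonoid.powers g) E)
      (⟨g, Submonoid.mem_powers g⟩ : Submonoid.powers g)
    rw [Module.End.isUnit_iff] at hu
    constructor
    · intro e e' h
      apply hbij.1
      apply hu.1
      simp only [Module.algebraMap_end_apply]
      rw [← map_smul, ← map_smul]
      exact congrArg _ h
    · intro e
      obtain ⟨y, hy⟩ := hu.2 (LocalizedModule.mkLinearMap (Submonoid.powers g) E e)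
      obtain ⟨e', rfl⟩ := hbij.2 y
      refine ⟨e', ?_⟩
      apply hbij.1
      simp only [Module.algebraMap_end_apply] at hy
      rw [← hy, map_smul]
  · intro g hg e
    have hne : ((p : Set R) ∩ (Submonoid.powers g : Set R)).Nonempty := ⟨g, hg, Submonoid.mem_powers g⟩
    have hsub := (Groth.Agent.S11661.result R (Submonoid.powers g) p E f hf).1 hne
    obtain ⟨r, ⟨n, rfl⟩, hr⟩ := LocalizedModule.subsingleton_iff.1 hsub e
    exact ⟨n, hr⟩

/-! ### the tilde of an injective module -/

noncomputable section

variable {R : CommRingCat.{u}} (M : ModuleCat.{u} R)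

/-- an indecomposable injective module over a Noetherian ring has injective tilde -/
theorem injective_tilde_of_indecomposable [IsNoetherianRing R] (hM : Module.Injective R M)
    (hind : InjHull.IsIndecomposable R M) : Injective (tilde M) := by
  obtain ⟨p, hp, g, hg⟩ := Groth.Agent.S0306.result R M hind hM
  obtain ⟨ha, hb⟩ := local_of_isInjectiveHull p _ (isInjectiveHull_quotient p g hg)
  exact injective_tilde_of_local M hM ⟨p, hp⟩ ha hb

open Classical in
/-- **the tilde of an injective module over a Noetherian ring is an injective `O`-module** -/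
theorem injective_tilde [IsNoetherianRing R] (hM : Module.Injective R M) : Injective (tilde M) := by
  obtain ⟨ι, E, hint, hE⟩ := Groth.Agent.S0307.result R M hM
  let Z : ι → ModuleCat.{u} R := fun i => ModuleCat.of R (E i)
  haveI : ∀ i, Injective ((tilde.functor R).obj (Z i)) := fun i =>
    injective_tilde_of_indecomposable (Z i) (hE i).2 (hE i).1
  haveI : IsLocallyNoetherian (Spec R) := inferInstance
  haveI : Injective (∐ fun i => (tilde.functor R).obj (Z i)) :=
    Groth.Agent.Lib.Seat49.CoprodInj.injective_coprod _
  let e1 : ModuleCat.of R (DirectSum ι fun i => E i) ≅ M :=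
    (LinearEquiv.ofBijective (DirectSum.coeLinearMap E) hint).toModuleIso
  let e2 : ∐ Z ≅ ModuleCat.of R (DirectSum ι fun i => E i) := ModuleCat.coprodIsoDirectSum Z
  let e3 : (tilde.functor R).obj (∐ Z) ≅ ∐ fun i => (tilde.functor R).obj (Z i) :=
    PreservesCoproduct.iso (tilde.functor R) Z
  exact Injective.of_iso (e3.symm ≪≫ (tilde.functor R).mapIso (e2 ≪≫ e1)) inferInstance

end

end Groth.Agent.Lib.Seat49.SkyInj
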