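import Mathlib
import Groth.Agent.Lib.Seat49SkyInj
import Groth.Agent.Lib.Seat49NoethObj
import Groth.Agent.Lib.Helper1StalkTensorC
import Groth.Agent.Lib.Helper23QCohLocal
import Groth.Agent.Lib.Helper23QCohSum

/-!
# Injective quasi-coherent modules on Noetherian schemes (helper49)

Namespace `Groth.Agent.Lib.Seat49.QCohInj`.

* `preservesMonomorphisms_extZero`, `injective_restrict`: `j_!` preserves monomorphisms, hence `j^*` preserves
  injectives (open immersions `j`).
* `injective_pushforward`: `j_*` preserves injectives.
* `mono_counit_extZero`: `j_! j^* A ⟶ A` is a monomorphism.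
* `surjective_map_of_injective`: injective `O_X`-modules are flasque.
* `exists_mono_injective_qcoh`: on a Noetherian scheme every quasi-coherent module embeds into a quasi-coherent module
  which is injective as an `O_X`-module.
* `injective_of_injective_qcoh`: on a Noetherian scheme injective objects of `QCoh` are injective `O_X`-modules.
-/

set_option autoImplicit false
set_option linter.style.haveILetI false
universe u
open CategoryTheory CategoryTheory.Limits AlgebraicGeometry TopologicalSpace Opposite

namespace Groth.Agent.Lib.Seat49.QCohInj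

open Groth.Agent.Lib.Helper1.Sky Groth.Agent.Lib.Helper1.StalkTensor Groth.Agent.Lib.Seat49.SkyInj
open Groth.Agent.Lib.Seat49.NoethObj

noncomputable section

section OpenImm

variable {U X : Scheme.{u}} (j : U ⟶ X) [IsOpenImmersion j]

/-- a morphism which is injective on sections over all opens inside the image of `j` is injective
on stalks at points of the image -/
theorem sm_injective_of_restrict' {A B : X.Modules} (f : A ⟶ B) (y : X) (hy : y ∈ Set.range j)
    (h : ∀ W : U.Opens, Function.Injective (f.app (j ''ᵁ W))) :
    Function.Injective (sm (toPMMap f) y) := by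
  have hle : ∀ V : X.Opens, j ''ᵁ (j ⁻¹ᵁ V) ≤ V := by
    intro V z hz
    obtain ⟨w, hw, rfl⟩ := hz
    exact hw
  have hmem : ∀ V : X.Opens, y ∈ V → y ∈ j ''ᵁ (j ⁻¹ᵁ V) := by
    intro V hV
    obtain ⟨w, rfl⟩ := hy
    exact ⟨w, hV, rfl⟩
  rw [injective_iff_map_eq_zero]
  intro a ha
  obtain ⟨V, hV, s, rfl⟩ := exists_gm_eq a
  rw [sm_gm] at ha
  have h0 : gm (toPM B) y V hV ((toPMMap f).app (op V) s) = gm (toPM B) y V hV 0 := by
    rw [ha, map_zero]
  obtain ⟨V', hV', i₁, i₂, e⟩ := gm_eq hV hV _ _ h0
  rw [map_zero] at e
  let W := j ''ᵁ (j ⁻¹ᵁ V')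
  let k : W ⟶ V' := homOfLE (hle V')
  have e1 : (toPMMap f).app (op W) (rs (toPM A) (k ≫ i₁) s) = 0 := by
    have hn := PresheafOfModules.naturality_apply (toPMMap f) (k ≫ i₁).op s
    have e' := congrArg (rs (toPM B) k) e
    rw [map_zero, rs_rs] at e'
    exact hn.trans e'
  have e2 : rs (toPM A) (k ≫ i₁) s = 0 := by
    apply h (j ⁻¹ᵁ V')
    have hz : f.app (j ''ᵁ (j ⁻¹ᵁ V')) (0 : Γ(A, j ''ᵁ (j ⁻¹ᵁ V'))) = 0 := map_zero _
    exact e1.trans hz.symm
  rw [← gm_rs (k ≫ i₁) (hmem V' hV') s, e2, map_zero]

instance preservesMonomorphisms_restrictFunctor :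
    (Scheme.Modules.restrictFunctor j).PreservesMonomorphisms := inferInstance

/-- direct images along open immersions preserve injectives -/
theorem injective_pushforward (N : U.Modules) (hN : Injective N) :
    Injective ((Scheme.Modules.pushforward j).obj N) :=
  (Scheme.Modules.restrictAdjunction j).map_injective N hN

/-- if `j^* f` is a monomorphism then `f` is injective on stalks at points in the image of `j` -/
theorem sm_injective_of_mono_restrict {A B : X.Modules} (f : A ⟶ B)
    (hf : Mono ((Scheme.Modules.restrictFunctor j).map f)) (y : X) (hy : y ∈ Set.range j) :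
    Function.Injective (sm (toPMMap f) y) := by
  apply sm_injective_of_restrict' j f y hy
  intro W
  exact Groth.Agent.Lib.Seat49.NoethObj.app_injective_of_mono ((Scheme.Modules.restrictFunctor j).map f) W


/-- the source of a morphism whose stalk at `y` is zero is injective at `y` -/
theorem sm_injective_of_isZero {A B : X.Modules} (f : A ⟶ B) (y : X)
    (hz : IsZero ((stalkFun y).obj A)) : Function.Injective (sm (toPMMap f) y) := by
  haveI : Subsingleton ((stalkFun y).obj A) := ModuleCat.subsingleton_of_isZero hz
  intro a b _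
  exact Subsingleton.elim (α := ((stalkFun y).obj A)) a b

instance isIso_restrict_counit' (A : X.Modules) :
    IsIso ((Scheme.Modules.restrictFunctor j).map ((CxOX.extZeroAdj j).counit.app A)) := by
  have h := (CxOX.extZeroAdj j).right_triangle_components A
  exact IsIso.of_isIso_fac_left h

/-- `j_! j^* A ⟶ A` is a monomorphism -/
instance mono_counit_extZero (A : X.Modules) : Mono ((CxOX.extZeroAdj j).counit.app A) := by
  apply mono_of_sm_injective
  intro y
  by_cases hy : y ∈ Set.range j
  · exact sm_injective_of_mono_restrict j _ inferInstance y hy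
  · exact sm_injective_of_isZero _ y (isZero_stalk_extZero' j y hy _)

/-- `j_!` preserves monomorphisms -/
instance preservesMonomorphisms_extZero : (CxOX.extZero j).PreservesMonomorphisms where
  preserves {A B} f hf := by
    apply mono_of_sm_injective
    intro y
    by_cases hy : y ∈ Set.range j
    · apply sm_injective_of_mono_restrict j _ ?_ y hy
      have hn := (CxOX.extZeroAdj j).unit.naturality f
      simp only [Functor.id_obj, Functor.id_map, Functor.comp_obj, Functor.comp_map] at hn
      have h2 : (Scheme.Modules.restrictFunctor j).map ((CxOX.extZero j).map f) =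
          inv ((CxOX.extZeroAdj j).unit.app A) ≫ f ≫ (CxOX.extZeroAdj j).unit.app B := by
        rw [IsIso.eq_inv_comp]
        exact hn.symm
      rw [h2]
      infer_instance
    · exact sm_injective_of_isZero _ y (isZero_stalk_extZero' j y hy _)

/-- restriction to an open subscheme preserves injectives -/
theorem injective_restrict (I : X.Modules) (hI : Injective I) :
    Injective ((Scheme.Modules.restrictFunctor j).obj I) :=
  (CxOX.extZeroAdj j).map_injective I hI

/-- for an injective `O_X`-module `I`, every morphism to `j_* j^* I` lifts to `I` -/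
theorem exists_lift_unit (I : X.Modules) [Injective I] {A : X.Modules}
    (g : A ⟶ (Scheme.Modules.pushforward j).obj ((Scheme.Modules.restrictFunctor j).obj I)) :
    ∃ h : A ⟶ I, h ≫ (Scheme.Modules.restrictAdjunction j).unit.app I = g := by
  let g' := ((Scheme.Modules.restrictAdjunction j).homEquiv _ _).symm g
  let g'' := ((CxOX.extZeroAdj j).homEquiv _ _).symm g'
  refine ⟨Injective.factorThru g'' ((CxOX.extZeroAdj j).counit.app A), ?_⟩
  have h1 : (CxOX.extZeroAdj j).counit.app A ≫
      Injective.factorThru g'' ((CxOX.extZeroAdj j).counit.app A) = g'' :=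
    Injective.comp_factorThru _ _
  apply ((Scheme.Modules.restrictAdjunction j).homEquiv _ _).symm.injective
  rw [Adjunction.homEquiv_counit, Functor.map_comp, Category.assoc,
    Adjunction.left_triangle_components, Category.comp_id]
  have h2 := congrArg ((CxOX.extZeroAdj j).homEquiv _ _) h1
  rw [Adjunction.homEquiv_unit, Functor.map_comp, ← Category.assoc,
    Adjunction.right_triangle_components, Category.id_comp] at h2
  rw [h2]
  exact Equiv.apply_symm_apply _ _

end OpenImm

variable {X : Scheme.{u}}

/-- a quasi-coherent module on `Spec R`, `R` Noetherian, embeds into the tilde of an injective module -/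
theorem exists_mono_tilde_injective {R : CommRingCat.{u}} [IsNoetherianRing R] (G : (Spec R).Modules)
    [G.IsQuasicoherent] : ∃ (E : ModuleCat.{u} R) (g : G ⟶ tilde E), Injective (tilde E) ∧ Mono g := by
  let M : ModuleCat.{u} R := (modulesSpecToSheaf.obj G).presheaf.obj (op ⊤)
  let E : ModuleCat.{u} R := Injective.under M
  let e : M ⟶ E := Injective.ι M
  have he : Function.Injective e.hom := (ModuleCat.mono_iff_injective e).1 inferInstance
  haveI : Mono (tilde.map e) :=
    mono_of_app_injective _ (fun V => tilde_map_app_injective e he V)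
  haveI : IsIso G.fromTildeΓ := Groth.Agent.Lib.Helper23.QCohLocal.isIso_fromTildeΓ G
  haveI hE : Injective E := Injective.injective_under M
  haveI : Injective (ModuleCat.of R E) := hE
  refine ⟨E, inv G.fromTildeΓ ≫ tilde.map e, ?_, inferInstance⟩
  exact injective_tilde E (Module.injective_module_of_injective_object R E)

/-- on a locally Noetherian scheme, a quasi-coherent module maps to a quasi-coherent injective module, injectively on
stalks at the points of a given affine open -/
theorem exists_injective_qcoh_of_affine [IsLocallyNoetherian X] (F : X.Modules) [F.IsQuasicoherent]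
    {V : X.Opens} (hV : IsAffineOpen V) :
    ∃ (Q : X.Modules) (f : F ⟶ Q), Injective Q ∧ Q.IsQuasicoherent ∧
      ∀ y ∈ V, Function.Injective (sm (toPMMap f) y) := by
  haveI : IsNoetherianRing Γ(X, V) := IsLocallyNoetherian.component_noetherian ⟨V, hV⟩
  obtain ⟨E, g, hE, hg⟩ := exists_mono_tilde_injective (F.restrict hV.fromSpec)
  refine ⟨(Scheme.Modules.pushforward hV.fromSpec).obj (tilde E),
    (Scheme.Modules.restrictAdjunction hV.fromSpec).homEquiv _ _ g,
    injective_pushforward hV.fromSpec _ hE,
    Groth.Agent.Lib.Helper23.QCohLocal.isQuasicoherent_pushforward hV.fromSpec (tilde E), ?_⟩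
  intro y hy
  apply sm_injective_of_mono_restrict hV.fromSpec _ ?_ y ?_
  · have h1 : (Scheme.Modules.restrictFunctor hV.fromSpec).map
        ((Scheme.Modules.restrictAdjunction hV.fromSpec).homEquiv _ _ g) ≫
        (Scheme.Modules.restrictAdjunction hV.fromSpec).counit.app _ = g :=
      ((Scheme.Modules.restrictAdjunction hV.fromSpec).homEquiv _ _).symm_apply_apply g
    haveI : IsIso ((Scheme.Modules.restrictAdjunction hV.fromSpec).counit.app (tilde E)) :=
      inferInstance
    have h2 : (Scheme.Modules.restrictFunctor hV.fromSpec).map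
        ((Scheme.Modules.restrictAdjunction hV.fromSpec).homEquiv _ _ g) =
        g ≫ inv ((Scheme.Modules.restrictAdjunction hV.fromSpec).counit.app (tilde E)) :=
      (IsIso.eq_comp_inv _).2 h1
    rw [h2]
    infer_instance
  · have := hV.range_fromSpec
    rw [this]
    exact hy

variable (X) in
theorem exists_finite_affine_cover [CompactSpace X] :
    ∃ (n : ℕ) (V : Fin n → X.affineOpens), ∀ x : X, ∃ i, x ∈ (V i).1 := by
  obtain ⟨t, ht⟩ := isCompact_univ.elim_finite_subcover (fun V : X.affineOpens => ((V.1 : X.Opens) : Set X))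
    (fun V => V.1.2) (by
      intro x _
      have h := iSup_affineOpens_eq_top X
      have hx : x ∈ (⨆ i : X.affineOpens, (i : X.Opens)) := by rw [h]; trivial
      obtain ⟨i, hi⟩ := Opens.mem_iSup.1 hx
      exact Set.mem_iUnion.2 ⟨i, hi⟩)
  refine ⟨t.card, fun i => (t.equivFin.symm i).1, fun x => ?_⟩
  obtain ⟨V, hV, hxV⟩ := Set.mem_iUnion₂.1 (ht (Set.mem_univ x))
  exact ⟨t.equivFin ⟨V, hV⟩, by simpa using hxV⟩

attribute [local instance] Abelian.hasFiniteBiproducts in
/-- on a Noetherian scheme every quasi-coherent module embeds into a quasi-coherent module which is an injective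
`O_X`-module -/
theorem exists_mono_injective_qcoh [IsNoetherian X] (F : X.Modules) [F.IsQuasicoherent] :
    ∃ (Q : X.Modules) (f : F ⟶ Q), Injective Q ∧ Q.IsQuasicoherent ∧ Mono f := by
  obtain ⟨n, V, hV⟩ := exists_finite_affine_cover X
  choose Q f hQ using fun i => exists_injective_qcoh_of_affine F (V i).2
  haveI := fun i => (hQ i).1
  refine ⟨⨁ Q, biproduct.lift f, inferInstance,
    Groth.Agent.Lib.Helper23.QCohLocal.isQuasicoherent_biproduct Q (fun i => (hQ i).2.1), ?_⟩
  apply mono_of_sm_injective
  intro y a b hab
  obtain ⟨i, hi⟩ := hV y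
  apply (hQ i).2.2 y hi
  have h1 : biproduct.lift f ≫ biproduct.π Q i = f i := biproduct.lift_π _ _
  have h2 : ∀ c, sm (toPMMap (f i)) y c =
      sm (toPMMap (biproduct.π Q i)) y (sm (toPMMap (biproduct.lift f)) y c) := by
    intro c
    rw [← h1]
    exact sm_comp (toPMMap (biproduct.lift f)) (toPMMap (biproduct.π Q i)) y c
  rw [h2, h2, hab]

/-- on a Noetherian scheme, an injective object of the category of quasi-coherent modules is an injective
`O_X`-module -/
theorem injective_of_injective_qcoh [IsNoetherian X]
    (J : ObjectProperty.FullSubcategory (fun M : X.Modules => Coh.IsQCoh M)) (hJ : Injective J) :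
    Injective J.obj := by
  haveI : J.obj.IsQuasicoherent := J.property
  obtain ⟨Q, f, hQ, hQc, hf⟩ := exists_mono_injective_qcoh J.obj
  let Q' : ObjectProperty.FullSubcategory (fun M : X.Modules => Coh.IsQCoh M) := ⟨Q, hQc⟩
  let f' : J ⟶ Q' := ObjectProperty.homMk f
  haveI : Mono f' := ⟨fun g h hgh => by
    apply ObjectProperty.hom_ext
    have := congrArg (fun k => k.hom) hgh
    simp only [ObjectProperty.FullSubcategory.comp_hom] at this
    exact (cancel_mono f).1 this⟩
  let r : Q' ⟶ J := Injective.factorThru (𝟙 J) f'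
  have hr : f' ≫ r = 𝟙 J := Injective.comp_factorThru (𝟙 J) f'
  have hr' : f ≫ r.hom = 𝟙 J.obj := congrArg (fun k => k.hom) hr
  exact Retract.injective ⟨f, r.hom, hr'⟩

/-! ### flasqueness -/

theorem rs_self (A : X.Modules) {U : X.Opens} (i : U ⟶ U) (s : (toPM A).obj (op U)) :
    rs (toPM A) i s = s := by
  have hi : i = 𝟙 U := Subsingleton.elim _ _
  subst hi
  have : (toPM A).presheaf.map (𝟙 U).op = 𝟙 _ := by
    rw [op_id, CategoryTheory.Functor.map_id]
  change ((toPM A).presheaf.map (𝟙 U).op).hom s = s
  rw [this]
  rfl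

/-- injective `O_X`-modules are flasque -/
theorem surjective_rs_of_injective (I : X.Modules) [Injective I] {U V : X.Opens} (i : U ⟶ V) :
    Function.Surjective (rs (toPM I) i) := by
  have hUV : U ≤ V := i.le
  obtain ⟨σ, hσ⟩ := exists_lift_unit U.ι I (𝟙 _)
  let W : X.Opens := U.ι ''ᵁ (U.ι ⁻¹ᵁ V)
  have hWU : W ≤ U := by
    rintro z ⟨w, -, rfl⟩
    exact w.2
  have hUW : U ≤ W := by
    intro z hz
    exact ⟨⟨z, hz⟩, hUV hz, rfl⟩
  have hWV : W ≤ V := U.ι.image_preimage_le V
  have h1 : Function.Surjective (rs (toPM I) (homOfLE hWV)) := by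
    intro s
    refine ⟨σ.app V s, ?_⟩
    have := congrArg (fun k => k.app V s) hσ
    exact this
  intro s
  obtain ⟨t, ht⟩ := h1 (rs (toPM I) (homOfLE hWU) s)
  refine ⟨t, ?_⟩
  have h2 := congrArg (rs (toPM I) (homOfLE hUW)) ht
  rw [rs_rs, rs_rs, rs_self] at h2
  exact h2

end

end Groth.Agent.Lib.Seat49.QCohInj
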