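import Mathlib
import Groth.Agent.S0013
import Groth.Agent.Lib.Helper23FTsub
import Groth.Agent.Lib.Seat13CKCech1
import Groth.Agent.Lib.Seat49NoethObj
import Groth.Agent.Lib.Seat49QCohInj

/-!
# Čech cocycles of a quasi-coherent module live in a finite-type submodule (seat 49)

* `isZero_cech_of_ft`: on a qcqs scheme with a finite family of opens whose finite intersections are affine, if the
  degree `k+1` Čech cohomology of every finite-type quasi-coherent submodule of `G` vanishes then that of `G` vanishes.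
* `subsingleton_HH_of_coh`: on a Noetherian separated scheme, vanishing of `H^i` of all coherent modules for `i > n`
  implies the same for all quasi-coherent modules (S10946).
-/

set_option autoImplicit false
set_option linter.style.haveILetI false
universe u
open CategoryTheory CategoryTheory.Limits AlgebraicGeometry TopologicalSpace Opposite

namespace Groth.Agent.Lib.Seat49.CechCoh

open Groth.Agent.Lib.Helper16.CechLow Groth.Agent.Lib.Seat13.CKCech1

variable {X : Scheme.{u}}

theorem isZero_cech_of_ft [CompactSpace X] [QuasiSeparatedSpace X] {ι : Type u} [Finite ι]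
    (U : ι → X.Opens) (hU : ∀ {n : ℕ} (x : Fin (n + 1) → ι), IsAffineOpen (Ux U x))
    (G : X.Modules) [G.IsQuasicoherent] (k : ℕ)
    (h : ∀ (K' : X.Modules) (i : K' ⟶ G), Mono i → K'.IsQuasicoherent →
      SheafOfModules.IsFiniteType (R := X.ringCatSheaf) K' → IsZero (CohB1.cechH U K' (k + 1))) :
    IsZero (CohB1.cechH U G (k + 1)) := by
  classical
  have hex : (CK U G.presheaf).ExactAt (k + 1) := by
    rw [HomologicalComplex.exactAt_iff' _ k (k + 1) (k + 2) (by simp) (by simp),
      ShortComplex.ab_exact_iff]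
    intro c hc
    have hc0 : (CK U G.presheaf).d (k + 1) (k + 2) c = 0 := hc
    haveI := Fintype.ofFinite ι
    let a₀ : Σ V : X.affineOpens, Γ(G, V.1) := ⟨⟨⊥, isAffineOpen_bot X⟩, 0⟩
    let l : List (Σ V : X.affineOpens, Γ(G, V.1)) :=
      (Finset.univ : Finset (Fin (k + 2) → ι)).toList.map
        (fun x => ⟨⟨Ux U x, hU x⟩, pr U G.presheaf (k + 1) x c⟩)
    obtain ⟨K', i, hi, hq, hf, hmem⟩ := Groth.Agent.Lib.Helper23.FTsub.exists_ft_sub_list G a₀ l
    have hx : ∀ x : Fin (k + 2) → ι, ∃ g : Γ(K', Ux U x),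
        i.app (Ux U x) g = pr U G.presheaf (k + 1) x c := by
      intro x
      exact hmem ⟨⟨Ux U x, hU x⟩, pr U G.presheaf (k + 1) x c⟩
        (List.mem_cons_of_mem _ (List.mem_map.2 ⟨x, by simp, rfl⟩))
    choose g hg using hx
    let c' : (CK U K'.presheaf).X (k + 1) := mkElt U K'.presheaf (k + 1) g
    have hφ : (Cmap U i.mapPresheaf).f (k + 1) c' = c := by
      apply elt_ext
      intro x
      rw [pr_Cmap, pr_mkElt]
      exact hg x
    have hinj : Function.Injective ((Cmap U i.mapPresheaf).f (k + 2)) :=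
      Cmap_f_injective U i.mapPresheaf (k + 2)
        (fun V => Groth.Agent.Lib.Seat49.NoethObj.app_injective_of_mono i V)
    have hcomm : ∀ (a : ℕ) (z : (CK U K'.presheaf).X a),
        (Cmap U i.mapPresheaf).f (a + 1) ((CK U K'.presheaf).d a (a + 1) z) =
          (CK U G.presheaf).d a (a + 1) ((Cmap U i.mapPresheaf).f a z) := by
      intro a z
      exact congr($((Cmap U i.mapPresheaf).comm a (a + 1)) z).symm
    have hc' : (CK U K'.presheaf).d (k + 1) (k + 2) c' = 0 := by
      apply hinj
      rw [hcomm, hφ, hc0, map_zero]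
    obtain ⟨b', hb'⟩ := exists_of_isZero_homology U K'.presheaf k (h K' i hi hq hf) c' hc'
    refine ⟨(Cmap U i.mapPresheaf).f k b', ?_⟩
    change (CK U G.presheaf).d k (k + 1) ((Cmap U i.mapPresheaf).f k b') = c
    rw [← hcomm, hb', hφ]
  exact (HomologicalComplex.exactAt_iff_isZero_homology _ _).1 hex

theorem Ux_eq_iInf {ι : Type u} (U : ι → X.Opens) {n : ℕ} (x : Fin (n + 1) → ι) :
    Ux U x = ⨅ a, U (x a) := by
  apply le_antisymm
  · exact le_iInf fun a => Ux_le U x a
  · exact le_Ux U x _ fun a => iInf_le _ a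

/-- on a quasi-compact separated scheme, vanishing of `H^i` of all finite-type quasi-coherent modules for `i > n`
implies the same for all quasi-coherent modules -/
theorem subsingleton_HH_of_ft (X : Scheme.{u}) [CompactSpace X] [X.IsSeparated] (n : ℕ)
    (h : ∀ F : X.Modules, Coh.IsCoh F → ∀ i : ℕ, n < i → Subsingleton (Coh.HH X F i))
    (G : X.Modules) (hG : Coh.IsQCoh G) (i : ℕ) (hi : n < i) :
    Subsingleton (Coh.HH X G i) := by
  obtain ⟨k, rfl⟩ : ∃ k, i = k + 1 := ⟨i - 1, by omega⟩
  obtain ⟨m, V, hV⟩ := Groth.Agent.Lib.Seat49.QCohInj.exists_finite_affine_cover X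
  let ι := ULift.{u} (Fin m)
  let U : ι → X.Opens := fun j => (V j.down).1
  have hUi : ∀ j, IsAffineOpen (U j) := fun j => (V j.down).2
  have hcov : ⨆ j, U j = ⊤ := by
    rw [eq_top_iff]
    intro x _
    obtain ⟨j, hj⟩ := hV x
    exact Opens.mem_iSup.2 ⟨⟨j⟩, hj⟩
  have hUaff : ∀ s : Finset ι, s.Nonempty → IsAffineOpen (⨅ j ∈ s, U j) := fun s hs =>
    IsAffineOpen.biInf (s : Set ι) s.finite_toSet hs (fun j _ => hUi j)
  have hUx : ∀ {n : ℕ} (x : Fin (n + 1) → ι), IsAffineOpen (Ux U x) := by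
    intro n x
    rw [Ux_eq_iInf]
    exact IsAffineOpen.iInf fun a => hUi (x a)
  haveI : G.IsQuasicoherent := hG
  have hz : IsZero (CohB1.cechH U G (k + 1)) := by
    apply isZero_cech_of_ft U hUx G k
    intro K' j hj hq hf
    haveI : Coh.IsQCoh K' := hq
    obtain ⟨e⟩ := Groth.Agent.S0013.result X U hcov hUaff K' (k + 1)
    haveI : Subsingleton (Coh.HH X K' (k + 1)) := h K' ⟨hq, hf⟩ (k + 1) hi
    haveI : Subsingleton ↑(CohB1.cechH U K' (k + 1)) := e.injective.subsingleton
    exact AddCommGrpCat.isZero_of_subsingleton _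
  obtain ⟨e⟩ := Groth.Agent.S0013.result X U hcov hUaff G (k + 1)
  haveI : Subsingleton ↑(CohB1.cechH U G (k + 1)) :=
    (AddCommGrpCat.subsingleton_of_isZero hz)
  exact e.symm.injective.subsingleton

theorem subsingleton_HH_of_coh (X : Scheme.{u}) [IsNoetherian X] [X.IsSeparated] (n : ℕ)
    (h : ∀ F : X.Modules, Coh.IsCoh F → ∀ i : ℕ, n < i → Subsingleton (Coh.HH X F i))
    (G : X.Modules) (hG : Coh.IsQCoh G) (i : ℕ) (hi : n < i) :
    Subsingleton (Coh.HH X G i) :=
  subsingleton_HH_of_ft X n h G hG i hi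

end Groth.Agent.Lib.Seat49.CechCoh
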