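import Mathlib
import Groth.Agent.Lib.Helper23TensorMap
import Groth.Agent.Lib.Helper23SecTw6
import Groth.Agent.Lib.Helper23Support
import Groth.Agent.Lib.Helper23QCohExt
import Groth.Agent.Lib.Helper2RelTildeMonoEpi
import Groth.Agent.Lib.Helper2ModExact
import Groth.Agent.Lib.Helper20ZClos20
import Groth.Agent.Lib.Helper23TensorQCoh
import Groth.Agent.Lib.Helper23FinTypeLocal
import Groth.Agent.Lib.Helper4ModEpi

/-!
# Tensoring with an invertible module is exact (seat 58), section-level version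

* `twMap φ T : M ⊗ T ⟶ M' ⊗ T` with `twMap_tm`.
* `mono_twMap`: for `T` invertible and `φ` mono, `twMap φ T` is mono.
-/

set_option autoImplicit false
universe u
open CategoryTheory CategoryTheory.Limits AlgebraicGeometry MonoidalCategory TopologicalSpace Opposite

namespace Groth.Agent.Lib.Seat58.TwistExact

open Groth.Agent.Lib.Helper23.SecTw Groth.Agent.Lib.Helper23.TensorMap Groth.Agent.Lib.Helper6

variable {X : Scheme.{u}}

/-- the map `φ ⊗ T` -/
noncomputable def twMap {M M' : X.Modules} (φ : M ⟶ M') (T : X.Modules) :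
    CohB1.tensorMod M T ⟶ CohB1.tensorMod M' T :=
  lift ((show (CohB1.tensorPre M T : X.PresheafOfModules) ⟶ (CohB1.tensorPre M' T : X.PresheafOfModules) from
      ((show CohB1.toPMod M ⟶ CohB1.toPMod M' from φ.val) ▷ CohB1.toPMod T)) ≫ SecTwist.toTensor M' T)

theorem twMap_tm {M M' : X.Modules} (φ : M ⟶ M') (T : X.Modules) (W : X.Opens) (m : Γ(M, W)) (t : Γ(T, W)) :
    (twMap φ T).app W (tm M T W m t) = tm M' T W (φ.app W m) t := by
  unfold twMap
  rw [lift_tm]
  rfl

theorem app_res {M N : X.Modules} (ψ : M ⟶ N) {U V : X.Opens} (h : V ≤ U) (m : Γ(M, U)) :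
    ψ.app V (res M h m) = res N h (ψ.app U m) :=
  Groth.Agent.Lib.Helper2.ModExact.app_map ψ (homOfLE h) m

/-- sections are equal if they agree near every point -/
theorem eq_of_locally_eq (M : X.Modules) {V : X.Opens} (a b : Γ(M, V))
    (h : ∀ x ∈ V, ∃ (V' : X.Opens) (hV' : V' ≤ V), x ∈ V' ∧ res M hV' a = res M hV' b) : a = b := by
  choose V' hV' hx hab using h
  refine (modSheaf M).eq_of_locally_eq' (fun x : V => V' x.1 x.2) V (fun x => homOfLE (hV' x.1 x.2)) ?_ a b
    (fun x => hab x.1 x.2)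
  intro y hy
  exact Opens.mem_iSup.2 ⟨⟨y, hy⟩, hx y hy⟩

/-- tensoring a monomorphism with an invertible module gives a map injective on sections -/
theorem injective_app_twMap {M M' : X.Modules} (φ : M ⟶ M') [Mono φ] (T : X.Modules)
    (hT : PicF.IsInvertible T) (V : X.Opens) : Function.Injective ((twMap φ T).app V) := by
  intro a b hab
  apply eq_of_locally_eq
  intro x hx
  obtain ⟨W, e, hxW, hgen⟩ := exists_gen T hT x
  refine ⟨V ⊓ W, inf_le_left, ⟨hx, hxW⟩, ?_⟩
  obtain ⟨a', ha'⟩ := (bijective_tm_of_isGen M T W e hgen (V ⊓ W) inf_le_right).2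
    (res _ inf_le_left a)
  obtain ⟨b', hb'⟩ := (bijective_tm_of_isGen M T W e hgen (V ⊓ W) inf_le_right).2
    (res _ inf_le_left b)
  have h1 : (twMap φ T).app (V ⊓ W) (res _ inf_le_left a) = (twMap φ T).app (V ⊓ W) (res _ inf_le_left b) := by
    rw [app_res, app_res, hab]
  rw [← ha', ← hb'] at h1 ⊢
  simp only [twMap_tm] at h1
  have h2 := (bijective_tm_of_isGen M' T W e hgen (V ⊓ W) inf_le_right).1 h1
  have h3 := Groth.Agent.Lib.Helper2.ModExact.app_injective_of_mono φ (V ⊓ W) h2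
  simp only [h3]

theorem mono_twMap {M M' : X.Modules} (φ : M ⟶ M') [Mono φ] (T : X.Modules)
    (hT : PicF.IsInvertible T) : Mono (twMap φ T) :=
  Groth.Agent.Lib.Helper2.RelTildeMonoEpi.mono_of_app_injective _ (injective_app_twMap φ T hT)

/-- the support of the cokernel of `φ ⊗ T` is contained in the (closed) support of the cokernel of `φ` -/
theorem support_cokernel_twMap_subset {M M' : X.Modules} (φ : M ⟶ M') [Mono φ] (T : X.Modules)
    (hT : PicF.IsInvertible T) (hcl : IsClosed (CohB1.support (cokernel φ))) :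
    CohB1.support (cokernel (twMap φ T)) ⊆ CohB1.support (cokernel φ) := by
  intro x hx
  by_contra hxZ
  apply hx
  let U : X.Opens := ⟨(CohB1.support (cokernel φ))ᶜ, hcl.isOpen_compl⟩
  have hxU : x ∈ U := hxZ
  obtain ⟨W, e, hxW, hgen⟩ := exists_gen T hT x
  apply Groth.Agent.Lib.Helper23.Support.subsingleton_stalk_of_forall_res_eq_zero
  intro W₀ hxW₀ c
  obtain ⟨V₁, hV₁, hxV₁, b, hb⟩ :=
    Groth.Agent.Lib.Helper4.ModEpi.exists_app_eq_of_epi (cokernel.π (twMap φ T)) W₀ c x hxW₀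
  let V₂ : X.Opens := V₁ ⊓ W ⊓ U
  have hV₂V₁ : V₂ ≤ V₁ := inf_le_left.trans inf_le_left
  have hV₂W : V₂ ≤ W := inf_le_left.trans inf_le_right
  have hV₂U : V₂ ≤ U := inf_le_right
  refine ⟨V₂, hV₂V₁.trans hV₁, ⟨⟨hxV₁, hxW⟩, hxU⟩, ?_⟩
  obtain ⟨b', hb'⟩ := (bijective_tm_of_isGen M' T W e hgen V₂ hV₂W).2 (res _ hV₂V₁ b)
  have hq : (cokernel.π φ).app V₂ b' = 0 :=
    Groth.Agent.Lib.Helper23.Support.eq_zero_of_disjoint_support _ V₂ (fun y hy => hV₂U hy) _
  let S : ShortComplex X.Modules := ShortComplex.mk φ (cokernel.π φ) (cokernel.condition φ)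
  have hS : S.ShortExact :=
    { exact := ShortComplex.exact_cokernel φ
      mono_f := inferInstanceAs (Mono φ)
      epi_g := inferInstanceAs (Epi (cokernel.π φ)) }
  obtain ⟨a', ha'⟩ := Groth.Agent.Lib.Helper2.ModExact.exists_app_eq_of_shortExact S hS V₂ b' hq
  have ha'' : φ.app V₂ a' = b' := ha'
  have h1 : res _ hV₂V₁ b = (twMap φ T).app V₂ (tm M T V₂ a' (res T hV₂W e)) := by
    rw [twMap_tm, ha'', ← hb']
  have h2 : res (cokernel (twMap φ T)) (hV₂V₁.trans hV₁) c = res _ hV₂V₁ (res _ hV₁ c) :=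
    (res_res _ hV₁ hV₂V₁ c).symm
  change res (cokernel (twMap φ T)) (hV₂V₁.trans hV₁) c = 0
  have hb2 : res (cokernel (twMap φ T)) hV₁ c = (cokernel.π (twMap φ T)).app V₁ b := hb.symm
  rw [h2, hb2, ← app_res, h1]
  have h3 : twMap φ T ≫ cokernel.π (twMap φ T) = 0 := cokernel.condition _
  have h4 : (twMap φ T ≫ cokernel.π (twMap φ T)).app V₂ (tm M T V₂ a' (res T hV₂W e)) =
      (0 : CohB1.tensorMod M T ⟶ cokernel (twMap φ T)).app V₂ (tm M T V₂ a' (res T hV₂W e)) := by
    rw [h3]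
  rw [Scheme.Modules.Hom.comp_app, Scheme.Modules.Hom.zero_app] at h4
  exact h4

/-- coherence of the cokernel of `φ ⊗ T` -/
theorem isCoh_cokernel_twMap {M M' : X.Modules} (φ : M ⟶ M') (T : X.Modules)
    (hM : Coh.IsCoh M) (hM' : Coh.IsCoh M') (hT : PicF.IsInvertible T) :
    Coh.IsCoh (cokernel (twMap φ T)) := by
  have : M.IsQuasicoherent := hM.1
  have : M'.IsQuasicoherent := hM'.1
  have : SheafOfModules.IsFiniteType (R := X.ringCatSheaf) M' := hM'.2
  have : T.IsQuasicoherent := Groth.Agent.Lib.Helper20.WeakAss.isQuasicoherent_of_isInvertible T hT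
  have : SheafOfModules.IsFiniteType (R := X.ringCatSheaf) T :=
    Groth.Agent.Lib.Helper20.ZClosLib.isFiniteType_of_isInvertible T hT
  have := Groth.Agent.Lib.Helper23.TensorQCoh.isQuasicoherent_tensorMod M T
  have := Groth.Agent.Lib.Helper23.TensorQCoh.isQuasicoherent_tensorMod M' T
  have := Groth.Agent.Lib.Helper23.TensorQCoh.isFiniteType_tensorMod M' T
  have hq : (cokernel (twMap φ T)).IsQuasicoherent :=
    Groth.Agent.Lib.Helper23.QCohLocal.isQuasicoherent_cokernel (twMap φ T)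
  exact ⟨hq, Groth.Agent.Lib.Helper20.Nakayama.isFiniteType_of_epi (cokernel.π (twMap φ T))⟩

/-- vanishing of the cohomology of the middle term of a short exact sequence of modules -/
theorem subsingleton_HH_mid (S : ShortComplex X.Modules) (hS : S.ShortExact) (i : ℕ)
    (h₁ : Subsingleton (Coh.HH X S.X₁ i)) (h₃ : Subsingleton (Coh.HH X S.X₃ i)) :
    Subsingleton (Coh.HH X S.X₂ i) := by
  have hS' := Groth.Agent.Lib.Helper23.QCohLocal.shortExact_toAbF S hS
  refine ⟨fun a b => ?_⟩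
  have key : ∀ y : Coh.HH X S.X₂ i, y = 0 := by
    intro y
    have hy : (show Abelian.Ext _ ((S.map (Groth.Agent.Lib.Helper23.QCohLocal.toAbF X)).X₂) i from y).comp
        (Abelian.Ext.mk₀ (S.map (Groth.Agent.Lib.Helper23.QCohLocal.toAbF X)).g) (add_zero i) = 0 :=
      h₃.elim _ _
    obtain ⟨x₁, hx₁⟩ := Abelian.Ext.covariant_sequence_exact₂ _ hS' _ hy
    have hx0 : x₁ = 0 := h₁.elim _ _
    rw [hx0, Abelian.Ext.zero_comp] at hx₁
    exact hx₁.symm
  rw [key a, key b]

/-- in a closed subset of Krull dimension `≤ 0` of a `T0` space every point is closed -/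
theorem isClosed_singleton_of_topologicalKrullDim_le_zero {Y : Type*} [TopologicalSpace Y] [T0Space Y]
    {Z : Set Y} (hZ : IsClosed Z) (h : topologicalKrullDim ↥Z ≤ 0) {x : Y} (hx : x ∈ Z) :
    IsClosed ({x} : Set Y) := by
  rw [← closure_subset_iff_isClosed]
  intro y hy
  have hyZ : y ∈ Z := hZ.closure_subset_iff.2 (Set.singleton_subset_iff.2 hx) hy
  let A : IrreducibleCloseds ↥Z :=
    ⟨closure {⟨y, hyZ⟩}, isIrreducible_singleton.closure, isClosed_closure⟩
  let B : IrreducibleCloseds ↥Z :=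
    ⟨closure {⟨x, hx⟩}, isIrreducible_singleton.closure, isClosed_closure⟩
  have hyx : (⟨y, hyZ⟩ : ↥Z) ∈ closure ({⟨x, hx⟩} : Set ↥Z) := by
    rw [closure_subtype, Set.image_singleton]
    exact hy
  have hAB : A ≤ B := by
    change closure ({⟨y, hyZ⟩} : Set ↥Z) ⊆ closure ({⟨x, hx⟩} : Set ↥Z)
    exact closure_minimal (Set.singleton_subset_iff.2 hyx) isClosed_closure
  have hmax := (Order.krullDim_nonpos_iff_forall_isMax.1 h) A
  have hBA : B ≤ A := hmax hAB
  have hxy : (⟨x, hx⟩ : ↥Z) ∈ closure ({⟨y, hyZ⟩} : Set ↥Z) := by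
    have : closure ({⟨x, hx⟩} : Set ↥Z) ⊆ closure ({⟨y, hyZ⟩} : Set ↥Z) := hBA
    exact this (subset_closure rfl)
  rw [closure_subtype, Set.image_singleton] at hxy
  have h1 : x ⤳ y := specializes_iff_mem_closure.2 hy
  have h2 : y ⤳ x := specializes_iff_mem_closure.2 hxy
  exact (h2.antisymm h1).eq

end Groth.Agent.Lib.Seat58.TwistExact
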