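import Mathlib
import Groth.Prelude.Def_DefoConn
import Groth.Prelude.Def_DefoSh2
import Groth.Agent.Lib.Helper23SecTw
import Groth.Agent.Lib.Helper23TensorMap

/-!
# Seat84: deformations of a connection over the trivial first-order deformation
-/

set_option autoImplicit false
universe u

open CategoryTheory CategoryTheory.Limits AlgebraicGeometry TopologicalSpace Opposite TensorProduct
  MonoidalCategory

namespace Groth.Agent.Lib.Seat84.DefoConn

open Groth.Agent.Lib.Helper23.SecTw Groth.Agent.Lib.Helper23.TensorMap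

theorem aux_add {R G : Type*} [Semiring R] [AddCommGroup G] [Module R G] (t : R)
    (a₁ a₂ w₁ w₂ : G) : (t • a₁ + w₁) + (t • a₂ + w₂) = t • (a₁ + a₂) + (w₁ + w₂) := by
  rw [smul_add]; abel

section general
variable {C : Type*} [Category C] {R : Cᵒᵖ ⥤ CommRingCat.{u}}
variable (P Q : PresheafOfModules.{u} (R ⋙ forget₂ CommRingCat RingCat)) (Z : Cᵒᵖ)
variable {T : ModuleCat.{u} ((R ⋙ forget₂ CommRingCat RingCat).obj Z)} (φ ψ : (P ⊗ Q).obj Z ⟶ T)

theorem hom_ext_pt (h : ∀ p q, φ.hom (pt P Q Z p q) = ψ.hom (pt P Q Z p q)) : φ = ψ := by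
  apply ModuleCat.hom_ext
  refine LinearMap.ext fun t => ?_
  refine TensorProduct.induction_on (R := R.obj Z) (M := P.obj Z) (N := Q.obj Z)
    (motive := fun t => φ.hom t = ψ.hom t) t ?_ ?_ ?_
  · exact (map_zero φ.hom).trans (map_zero ψ.hom).symm
  · intro p q
    exact h p q
  · intro x y hx hy
    exact (map_add φ.hom x y).trans ((congrArg₂ (· + ·) hx hy).trans (map_add ψ.hom x y).symm)

end general

variable {X : Scheme.{u}}

/-- Morphisms out of a tensor product are determined by their values on the sections `m ⊗ n`. -/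
theorem hom_ext_tmul {M N P : X.Modules} (φ ψ : CohB1.tensorMod M N ⟶ P)
    (h : ∀ (U : X.Opens) (m : Γ(M, U)) (n : Γ(N, U)),
      φ.app U (SecTwist.tmul M N U m n) = ψ.app U (SecTwist.tmul M N U m n)) : φ = ψ := by
  apply ((adj X).homEquiv _ _).injective
  erw [Adjunction.homEquiv_unit, Adjunction.homEquiv_unit]
  apply PresheafOfModules.hom_ext
  intro U
  refine hom_ext_pt (CohB1.toPMod M) (CohB1.toPMod N) U _ _ ?_
  intro m n
  exact h U.unop m n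

section TensorMapLinear

variable {M M' N N' : X.Modules}

theorem tensorMap_add_left (f g : M ⟶ M') (h : N ⟶ N') :
    KoszTw.tensorMap (f + g) h = KoszTw.tensorMap f h + KoszTw.tensorMap g h := by
  apply hom_ext_tmul
  intro U m n
  have e1 := KoszTw.tensorMap_tmul (f + g) h U m n
  have e2 := KoszTw.tensorMap_tmul f h U m n
  have e3 := KoszTw.tensorMap_tmul g h U m n
  have e4 := tm_add_left M' N' U (f.app U m) (g.app U m) (h.app U n)
  exact e1.trans (e4.trans (congrArg₂ (· + ·) e2 e3).symm)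

theorem tensorMap_zero_left (h : N ⟶ N') :
    KoszTw.tensorMap (0 : M ⟶ M') h = 0 := by
  apply hom_ext_tmul
  intro U m n
  have e1 := KoszTw.tensorMap_tmul (0 : M ⟶ M') h U m n
  have e4 := tm_zero_left M' N' U (h.app U n)
  exact e1.trans e4

variable {k : Type u} [Field k] [X.Over (Spec (CommRingCat.of k))]

theorem tensorMap_smul_left (a : k) (f : M ⟶ M') (h : N ⟶ N') :
    KoszTw.tensorMap (a • f) h = a • KoszTw.tensorMap f h := by
  apply hom_ext_tmul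
  intro U m n
  have e1 := KoszTw.tensorMap_tmul (a • f) h U m n
  have e2 := KoszTw.tensorMap_tmul f h U m n
  have e3 := KLin.smul_app_apply a f U m
  have e4 := KLin.smul_app_apply a (KoszTw.tensorMap f h) U (SecTwist.tmul M N U m n)
  have e5 := tm_smul_left M' N' U
    (X.presheaf.map (homOfLE (le_top : U ≤ ⊤)).op
      (Coh.toGlobal (X ↘ Spec (CommRingCat.of k)) a)) (f.app U m) (h.app U n)
  rw [e3] at e1
  rw [e2] at e4
  exact e1.trans (e5.trans e4.symm)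

end TensorMapLinear

section TrivConn

variable {k : Type u} [Field k] [X.Over (Spec (CommRingCat.of k))] {Ω' : X.Modules}
  (δ : OmegaSh.Der (X ↘ Spec (CommRingCat.of k)) Ω') {E : X.Modules}
  (nabla : Coh.toAb E ⟶ Coh.toAb (CohB1.tensorMod E Ω'))

/-- The connection `(s, t) ↦ (∇ s, ∇ t)` on `E ⊞ E`. -/
noncomputable def trivConn : Coh.toAb (E ⊞ E) ⟶ Coh.toAb (CohB1.tensorMod (E ⊞ E) Ω') :=
  (SheafOfModules.toSheaf X.ringCatSheaf).map (biprod.fst : E ⊞ E ⟶ E) ≫ nabla ≫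
      (SheafOfModules.toSheaf X.ringCatSheaf).map (KoszTw.tensorMap (biprod.inl : E ⟶ E ⊞ E) (𝟙 Ω')) +
    (SheafOfModules.toSheaf X.ringCatSheaf).map (biprod.snd : E ⊞ E ⟶ E) ≫ nabla ≫
      (SheafOfModules.toSheaf X.ringCatSheaf).map (KoszTw.tensorMap (biprod.inr : E ⟶ E ⊞ E) (𝟙 Ω'))

theorem secApp_trivConn (U : X.Opens) (e : (E ⊞ E).val.obj (op U)) :
    ConnSh.secApp (trivConn nabla) U e =
      (KoszTw.tensorMap (biprod.inl : E ⟶ E ⊞ E) (𝟙 Ω')).app U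
          (ConnSh.secApp nabla U ((biprod.fst : E ⊞ E ⟶ E).app U e)) +
        (KoszTw.tensorMap (biprod.inr : E ⟶ E ⊞ E) (𝟙 Ω')).app U
          (ConnSh.secApp nabla U ((biprod.snd : E ⊞ E ⟶ E).app U e)) := rfl

theorem total_app (U : X.Opens) (e : Γ(E ⊞ E, U)) :
    (biprod.inl : E ⟶ E ⊞ E).app U ((biprod.fst : E ⊞ E ⟶ E).app U e) +
      (biprod.inr : E ⟶ E ⊞ E).app U ((biprod.snd : E ⊞ E ⟶ E).app U e) = e := by
  have h := congrArg (fun φ : E ⊞ E ⟶ E ⊞ E => φ.app U e) (biprod.total (X := E) (Y := E))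
  exact h

/-- Pushing the Leibniz rule through `φ ⊗ 1`. -/
theorem push_leibniz {M N : X.Modules} (φ : M ⟶ N)
    (nab : Coh.toAb M ⟶ Coh.toAb (CohB1.tensorMod M Ω')) (hn : ConnSh.IsConn δ M nab)
    (U : X.Opens) (t : Γ(X, U)) (s : M.val.obj (op U)) :
    (KoszTw.tensorMap φ (𝟙 Ω')).app U (ConnSh.secApp nab U (t • s)) =
      t • (KoszTw.tensorMap φ (𝟙 Ω')).app U (ConnSh.secApp nab U s) +
        tm N Ω' U (φ.app U s) (δ.app U t) :=
  (congrArg (fun z => (KoszTw.tensorMap φ (𝟙 Ω')).app U z) (hn U t s)).trans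
    ((map_add ((KoszTw.tensorMap φ (𝟙 Ω')).app U).hom _ _).trans
      (congrArg₂ (· + ·) (Scheme.Modules.Hom.app_smul _ _ _)
        (KoszTw.tensorMap_tmul φ (𝟙 Ω') U s (δ.app U t))))

theorem isConn_trivConn (hn : ConnSh.IsConn δ E nabla) :
    ConnSh.IsConn δ (E ⊞ E) (trivConn nabla) := by
  intro U t e
  have h1 : (biprod.fst : E ⊞ E ⟶ E).app U (t • e) = t • (biprod.fst : E ⊞ E ⟶ E).app U e :=
    Scheme.Modules.Hom.app_smul _ _ _
  have h2 : (biprod.snd : E ⊞ E ⟶ E).app U (t • e) = t • (biprod.snd : E ⊞ E ⟶ E).app U e :=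
    Scheme.Modules.Hom.app_smul _ _ _
  have f1 := push_leibniz δ (biprod.inl : E ⟶ E ⊞ E) nabla hn U t
    ((biprod.fst : E ⊞ E ⟶ E).app U e)
  have f2 := push_leibniz δ (biprod.inr : E ⟶ E ⊞ E) nabla hn U t
    ((biprod.snd : E ⊞ E ⟶ E).app U e)
  have f3 := (tm_add_left (E ⊞ E) Ω' U
    ((biprod.inl : E ⟶ E ⊞ E).app U ((biprod.fst : E ⊞ E ⟶ E).app U e))
    ((biprod.inr : E ⟶ E ⊞ E).app U ((biprod.snd : E ⊞ E ⟶ E).app U e)) (δ.app U t)).symm
  have f4 : SecTwist.tmul (E ⊞ E) Ω' U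
      ((biprod.inl : E ⟶ E ⊞ E).app U ((biprod.fst : E ⊞ E ⟶ E).app U e) +
        (biprod.inr : E ⟶ E ⊞ E).app U ((biprod.snd : E ⊞ E ⟶ E).app U e)) (δ.app U t) =
      SecTwist.tmul (E ⊞ E) Ω' U e (δ.app U t) :=
    congrArg (fun z => SecTwist.tmul (E ⊞ E) Ω' U z (δ.app U t)) (total_app U e)
  have g1 : ConnSh.secApp (trivConn nabla) U (t • e) =
      (KoszTw.tensorMap (biprod.inl : E ⟶ E ⊞ E) (𝟙 Ω')).app U
          (ConnSh.secApp nabla U (t • (biprod.fst : E ⊞ E ⟶ E).app U e)) +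
        (KoszTw.tensorMap (biprod.inr : E ⟶ E ⊞ E) (𝟙 Ω')).app U
          (ConnSh.secApp nabla U (t • (biprod.snd : E ⊞ E ⟶ E).app U e)) :=
    (secApp_trivConn nabla U (t • e)).trans
      (congrArg₂ (fun a b => (KoszTw.tensorMap (biprod.inl : E ⟶ E ⊞ E) (𝟙 Ω')).app U
          (ConnSh.secApp nabla U a) +
        (KoszTw.tensorMap (biprod.inr : E ⟶ E ⊞ E) (𝟙 Ω')).app U
          (ConnSh.secApp nabla U b)) h1 h2)
  have g2 := secApp_trivConn nabla U e
  refine g1.trans ((congrArg₂ (· + ·) f1 f2).trans ?_)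
  refine Eq.trans ?_ (congrArg₂ (fun a b => t • a + b) g2.symm (f3.trans f4))
  exact aux_add t _ _ _ _

/-- The derivation kills the constants. -/
theorem der_const (U : X.Opens) (c : k) :
    δ.app U (X.presheaf.map (homOfLE (le_top : U ≤ ⊤)).op
      (Coh.toGlobal (X ↘ Spec (CommRingCat.of k)) c)) = 0 := by
  have h1 : δ.app ⊤ (Coh.toGlobal (X ↘ Spec (CommRingCat.of k)) c) = 0 :=
    δ.d_app (X := op ⊤) ((Scheme.ΓSpecIso (CommRingCat.of k)).inv c)
  have h2 := δ.d_map (homOfLE (le_top : U ≤ ⊤)).op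
    (Coh.toGlobal (X ↘ Spec (CommRingCat.of k)) c)
  have h3 : δ.app U (X.presheaf.map (homOfLE (le_top : U ≤ ⊤)).op
      (Coh.toGlobal (X ↘ Spec (CommRingCat.of k)) c)) =
      Ω'.val.map (homOfLE (le_top : U ≤ ⊤)).op
        (δ.app ⊤ (Coh.toGlobal (X ↘ Spec (CommRingCat.of k)) c)) := h2
  exact h3.trans ((congrArg (fun z => (Ω'.val.map (homOfLE (le_top : U ≤ ⊤)).op).hom z) h1).trans
    (map_zero (Ω'.val.map (homOfLE (le_top : U ≤ ⊤)).op).hom))

/-- A connection is linear over the constants. -/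
theorem secApp_const_smul (hn : ConnSh.IsConn δ E nabla) (U : X.Opens) (c : k)
    (s : E.val.obj (op U)) :
    ConnSh.secApp nabla U ((X.presheaf.map (homOfLE (le_top : U ≤ ⊤)).op
        (Coh.toGlobal (X ↘ Spec (CommRingCat.of k)) c) : Γ(X, U)) • s) =
      (X.presheaf.map (homOfLE (le_top : U ≤ ⊤)).op
        (Coh.toGlobal (X ↘ Spec (CommRingCat.of k)) c) : Γ(X, U)) • ConnSh.secApp nabla U s := by
  have h := hn U (X.presheaf.map (homOfLE (le_top : U ≤ ⊤)).op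
        (Coh.toGlobal (X ↘ Spec (CommRingCat.of k)) c)) s
  have h0 : SecTwist.tmul E Ω' U s (δ.app U (X.presheaf.map (homOfLE (le_top : U ≤ ⊤)).op
        (Coh.toGlobal (X ↘ Spec (CommRingCat.of k)) c))) = 0 :=
    (congrArg (fun z => SecTwist.tmul E Ω' U s z) (der_const δ U c)).trans
      (tmul_zero_right E Ω' U s)
  exact h.trans ((congrArg (fun z => (X.presheaf.map (homOfLE (le_top : U ≤ ⊤)).op
        (Coh.toGlobal (X ↘ Spec (CommRingCat.of k)) c) : Γ(X, U)) • ConnSh.secApp nabla U s + z) h0).trans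
      (add_zero _))

/-- `(ψ ⊗ 1)` applied to the trivial connection. -/
theorem tensorMap_trivConn {M : X.Modules} (ψ : E ⊞ E ⟶ M) (U : X.Opens)
    (e : (E ⊞ E).val.obj (op U)) :
    (KoszTw.tensorMap ψ (𝟙 Ω')).app U (ConnSh.secApp (trivConn nabla) U e) =
      (KoszTw.tensorMap ((biprod.inl : E ⟶ E ⊞ E) ≫ ψ) (𝟙 Ω')).app U
          (ConnSh.secApp nabla U ((biprod.fst : E ⊞ E ⟶ E).app U e)) +
        (KoszTw.tensorMap ((biprod.inr : E ⟶ E ⊞ E) ≫ ψ) (𝟙 Ω')).app U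
          (ConnSh.secApp nabla U ((biprod.snd : E ⊞ E ⟶ E).app U e)) := by
  have h1 : KoszTw.tensorMap ((biprod.inl : E ⟶ E ⊞ E) ≫ ψ) (𝟙 Ω') =
      KoszTw.tensorMap (biprod.inl : E ⟶ E ⊞ E) (𝟙 Ω') ≫ KoszTw.tensorMap ψ (𝟙 Ω') := by
    rw [← KoszTw.tensorMap_comp, Category.comp_id]
  have h2 : KoszTw.tensorMap ((biprod.inr : E ⟶ E ⊞ E) ≫ ψ) (𝟙 Ω') =
      KoszTw.tensorMap (biprod.inr : E ⟶ E ⊞ E) (𝟙 Ω') ≫ KoszTw.tensorMap ψ (𝟙 Ω') := by
    rw [← KoszTw.tensorMap_comp, Category.comp_id]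
  rw [h1, h2]
  exact (congrArg (fun z => (KoszTw.tensorMap ψ (𝟙 Ω')).app U z)
    (secApp_trivConn nabla U e)).trans (map_add ((KoszTw.tensorMap ψ (𝟙 Ω')).app U).hom _ _)

theorem π_horizontal_trivConn :
    ConnSh.IsHorizontal (trivConn nabla) nabla (biprod.fst : E ⊞ E ⟶ E) := by
  intro U e
  have h := tensorMap_trivConn nabla (biprod.fst : E ⊞ E ⟶ E) U e
  rw [biprod.inl_fst, biprod.inr_fst, KoszTw.tensorMap_id, tensorMap_zero_left] at h
  exact (h.trans (add_zero _)).symm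

theorem inl_dualAct (a : DualNumber k) :
    (biprod.inl : E ⟶ E ⊞ E) ≫ (DefoSh.dualAct k E a : E ⊞ E ⟶ E ⊞ E) =
      a.fst • (biprod.inl : E ⟶ E ⊞ E) + a.snd • (biprod.inr : E ⟶ E ⊞ E) := by
  rw [DefoSh.dualAct_hom]
  change (biprod.inl : E ⟶ E ⊞ E) ≫
      (a.fst • 𝟙 (E ⊞ E) + a.snd • ((biprod.fst : E ⊞ E ⟶ E) ≫ biprod.inr)) = _
  simp [Preadditive.comp_add, Linear.comp_smul]

theorem inr_dualAct (a : DualNumber k) :
    (biprod.inr : E ⟶ E ⊞ E) ≫ (DefoSh.dualAct k E a : E ⊞ E ⟶ E ⊞ E) =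
      a.fst • (biprod.inr : E ⟶ E ⊞ E) := by
  rw [DefoSh.dualAct_hom]
  change (biprod.inr : E ⟶ E ⊞ E) ≫
      (a.fst • 𝟙 (E ⊞ E) + a.snd • ((biprod.fst : E ⊞ E ⟶ E) ≫ biprod.inr)) = _
  simp [Preadditive.comp_add, Linear.comp_smul]

theorem dualAct_fst (a : DualNumber k) :
    (DefoSh.dualAct k E a : E ⊞ E ⟶ E ⊞ E) ≫ (biprod.fst : E ⊞ E ⟶ E) =
      a.fst • (biprod.fst : E ⊞ E ⟶ E) := by
  rw [DefoSh.dualAct_hom]
  change (a.fst • 𝟙 (E ⊞ E) + a.snd • ((biprod.fst : E ⊞ E ⟶ E) ≫ biprod.inr)) ≫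
      (biprod.fst : E ⊞ E ⟶ E) = _
  simp [Preadditive.add_comp, Linear.smul_comp]

theorem dualAct_snd (a : DualNumber k) :
    (DefoSh.dualAct k E a : E ⊞ E ⟶ E ⊞ E) ≫ (biprod.snd : E ⊞ E ⟶ E) =
      a.fst • (biprod.snd : E ⊞ E ⟶ E) + a.snd • (biprod.fst : E ⊞ E ⟶ E) := by
  rw [DefoSh.dualAct_hom]
  change (a.fst • 𝟙 (E ⊞ E) + a.snd • ((biprod.fst : E ⊞ E ⟶ E) ≫ biprod.inr)) ≫
      (biprod.snd : E ⊞ E ⟶ E) = _
  simp [Preadditive.add_comp, Linear.smul_comp]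

/-- The image of a constant in `Γ(X, U)`. -/
noncomputable def cst (U : X.Opens) (c : k) : Γ(X, U) :=
  X.presheaf.map (homOfLE (le_top : U ≤ ⊤)).op (Coh.toGlobal (X ↘ Spec (CommRingCat.of k)) c)

theorem smul_app_cst {M N : X.Modules} (a : k) (f : M ⟶ N) (U : X.Opens) (m : Γ(M, U)) :
    (a • f).app U m = cst U a • f.app U m := KLin.smul_app_apply a f U m

theorem add_app_apply {M N : X.Modules} (f g : M ⟶ N) (U : X.Opens) (m : Γ(M, U)) :
    (f + g).app U m = f.app U m + g.app U m := rfl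

theorem secApp_cst_smul (hn : ConnSh.IsConn δ E nabla) (U : X.Opens) (c : k)
    (s : E.val.obj (op U)) :
    ConnSh.secApp nabla U (cst U c • s) = cst U c • ConnSh.secApp nabla U s :=
  secApp_const_smul δ nabla hn U c s

theorem aux_add3 {G : Type*} [AddCommGroup G] (p q r : G) : p + (q + r) = (p + r) + q := by abel

theorem act_horizontal_trivConn (hn : ConnSh.IsConn δ E nabla) (a : DualNumber k) :
    ConnSh.IsHorizontal (trivConn nabla) (trivConn nabla)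
      (DefoSh.dualAct k E a : E ⊞ E ⟶ E ⊞ E) := by
  intro U e
  -- the right hand side
  have hR := tensorMap_trivConn nabla (DefoSh.dualAct k E a : E ⊞ E ⟶ E ⊞ E) U e
  rw [inl_dualAct, inr_dualAct, tensorMap_add_left, tensorMap_smul_left, tensorMap_smul_left,
    tensorMap_smul_left] at hR
  -- the left hand side
  have hL := secApp_trivConn nabla U ((DefoSh.dualAct k E a : E ⊞ E ⟶ E ⊞ E).app U e)
  have h1 : (biprod.fst : E ⊞ E ⟶ E).app U ((DefoSh.dualAct k E a : E ⊞ E ⟶ E ⊞ E).app U e) =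
      cst U a.fst • (biprod.fst : E ⊞ E ⟶ E).app U e := by
    have := congrArg (fun φ : E ⊞ E ⟶ E => φ.app U e) (dualAct_fst (E := E) a)
    exact this.trans (smul_app_cst a.fst _ U e)
  have h2 : (biprod.snd : E ⊞ E ⟶ E).app U ((DefoSh.dualAct k E a : E ⊞ E ⟶ E ⊞ E).app U e) =
      cst U a.fst • (biprod.snd : E ⊞ E ⟶ E).app U e +
        cst U a.snd • (biprod.fst : E ⊞ E ⟶ E).app U e := by
    have := congrArg (fun φ : E ⊞ E ⟶ E => φ.app U e) (dualAct_snd (E := E) a)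
    exact this.trans ((add_app_apply _ _ U e).trans
      (congrArg₂ (· + ·) (smul_app_cst a.fst _ U e) (smul_app_cst a.snd _ U e)))
  have n1 : ConnSh.secApp nabla U
      ((biprod.fst : E ⊞ E ⟶ E).app U ((DefoSh.dualAct k E a : E ⊞ E ⟶ E ⊞ E).app U e)) =
      cst U a.fst • ConnSh.secApp nabla U ((biprod.fst : E ⊞ E ⟶ E).app U e) :=
    (congrArg (fun z => ConnSh.secApp nabla U z) h1).trans (secApp_cst_smul δ nabla hn U _ _)
  have n2 : ConnSh.secApp nabla U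
      ((biprod.snd : E ⊞ E ⟶ E).app U ((DefoSh.dualAct k E a : E ⊞ E ⟶ E ⊞ E).app U e)) =
      cst U a.fst • ConnSh.secApp nabla U ((biprod.snd : E ⊞ E ⟶ E).app U e) +
        cst U a.snd • ConnSh.secApp nabla U ((biprod.fst : E ⊞ E ⟶ E).app U e) :=
    (congrArg (fun z => ConnSh.secApp nabla U z) h2).trans
      ((map_add (ConnSh.secApp nabla U) _ _).trans
        (congrArg₂ (· + ·) (secApp_cst_smul δ nabla hn U _ _) (secApp_cst_smul δ nabla hn U _ _)))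
  have m1 : (KoszTw.tensorMap (biprod.inl : E ⟶ E ⊞ E) (𝟙 Ω')).app U (ConnSh.secApp nabla U
      ((biprod.fst : E ⊞ E ⟶ E).app U ((DefoSh.dualAct k E a : E ⊞ E ⟶ E ⊞ E).app U e))) =
      cst U a.fst • (KoszTw.tensorMap (biprod.inl : E ⟶ E ⊞ E) (𝟙 Ω')).app U
        (ConnSh.secApp nabla U ((biprod.fst : E ⊞ E ⟶ E).app U e)) :=
    (congrArg (fun z => (KoszTw.tensorMap (biprod.inl : E ⟶ E ⊞ E) (𝟙 Ω')).app U z) n1).trans
      (Scheme.Modules.Hom.app_smul _ _ _)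
  have m2 : (KoszTw.tensorMap (biprod.inr : E ⟶ E ⊞ E) (𝟙 Ω')).app U (ConnSh.secApp nabla U
      ((biprod.snd : E ⊞ E ⟶ E).app U ((DefoSh.dualAct k E a : E ⊞ E ⟶ E ⊞ E).app U e))) =
      cst U a.fst • (KoszTw.tensorMap (biprod.inr : E ⟶ E ⊞ E) (𝟙 Ω')).app U
          (ConnSh.secApp nabla U ((biprod.snd : E ⊞ E ⟶ E).app U e)) +
        cst U a.snd • (KoszTw.tensorMap (biprod.inr : E ⟶ E ⊞ E) (𝟙 Ω')).app U
          (ConnSh.secApp nabla U ((biprod.fst : E ⊞ E ⟶ E).app U e)) :=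
    (congrArg (fun z => (KoszTw.tensorMap (biprod.inr : E ⟶ E ⊞ E) (𝟙 Ω')).app U z) n2).trans
      ((map_add ((KoszTw.tensorMap (biprod.inr : E ⟶ E ⊞ E) (𝟙 Ω')).app U).hom _ _).trans
        (congrArg₂ (· + ·) (Scheme.Modules.Hom.app_smul _ _ _) (Scheme.Modules.Hom.app_smul _ _ _)))
  -- unfold the right hand side
  have r1 : (a.fst • KoszTw.tensorMap (biprod.inl : E ⟶ E ⊞ E) (𝟙 Ω') +
        a.snd • KoszTw.tensorMap (biprod.inr : E ⟶ E ⊞ E) (𝟙 Ω')).app U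
          (ConnSh.secApp nabla U ((biprod.fst : E ⊞ E ⟶ E).app U e)) =
      cst U a.fst • (KoszTw.tensorMap (biprod.inl : E ⟶ E ⊞ E) (𝟙 Ω')).app U
          (ConnSh.secApp nabla U ((biprod.fst : E ⊞ E ⟶ E).app U e)) +
        cst U a.snd • (KoszTw.tensorMap (biprod.inr : E ⟶ E ⊞ E) (𝟙 Ω')).app U
          (ConnSh.secApp nabla U ((biprod.fst : E ⊞ E ⟶ E).app U e)) :=
    (add_app_apply _ _ U _).trans
      (congrArg₂ (· + ·) (smul_app_cst a.fst _ U _) (smul_app_cst a.snd _ U _))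
  have r2 : (a.fst • KoszTw.tensorMap (biprod.inr : E ⟶ E ⊞ E) (𝟙 Ω')).app U
          (ConnSh.secApp nabla U ((biprod.snd : E ⊞ E ⟶ E).app U e)) =
      cst U a.fst • (KoszTw.tensorMap (biprod.inr : E ⟶ E ⊞ E) (𝟙 Ω')).app U
          (ConnSh.secApp nabla U ((biprod.snd : E ⊞ E ⟶ E).app U e)) :=
    smul_app_cst a.fst _ U _
  refine (hL.trans (congrArg₂ (· + ·) m1 m2)).trans ?_
  refine Eq.trans ?_ (hR.trans (congrArg₂ (· + ·) r1 r2)).symm
  exact aux_add3 _ _ _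

end TrivConn

end Groth.Agent.Lib.Seat84.DefoConn
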