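import Mathlib
import Groth.Agent.Lib.Seat58TwistExact
import Groth.Agent.Lib.Seat84DefoConn
import Groth.Agent.Lib.Helper23Serre

/-!
# Tensoring a short exact sequence with an invertible module (Seat64)

Namespace `Groth.Agent.Lib.Seat64.TwistSES`.  Builds on `Seat58TwistExact` (`twMap`, `mono_twMap`).

* `twMap_comp`, `twMap_zero`.
* `epi_twMap`: tensoring an epimorphism with an invertible module gives an epimorphism.
* `twSC S T`: the short complex `S ⊗ T`; `shortExact_twSC`: it is short exact for `T` invertible.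
* `subsingleton_HH_right`: if `H^i(X₂) = 0` and `H^{i+1}(X₁) = 0` then `H^i(X₃) = 0`.
-/

set_option autoImplicit false
universe u
open CategoryTheory CategoryTheory.Limits AlgebraicGeometry MonoidalCategory TopologicalSpace Opposite

namespace Groth.Agent.Lib.Seat64.TwistSES

open Groth.Agent.Lib.Helper23.SecTw Groth.Agent.Lib.Helper23.TensorMap Groth.Agent.Lib.Helper6
  Groth.Agent.Lib.Seat58.TwistExact

variable {X : Scheme.{u}}

theorem twMap_comp {M M' M'' : X.Modules} (φ : M ⟶ M') (ψ : M' ⟶ M'') (T : X.Modules) :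
    twMap (φ ≫ ψ) T = twMap φ T ≫ twMap ψ T := by
  apply Groth.Agent.Lib.Seat84.DefoConn.hom_ext_tmul
  intro U m n
  change (twMap (φ ≫ ψ) T).app U (tm M T U m n) = (twMap ψ T).app U ((twMap φ T).app U (tm M T U m n))
  rw [twMap_tm, twMap_tm, twMap_tm]
  rfl

theorem twMap_zero {M M' : X.Modules} (T : X.Modules) : twMap (0 : M ⟶ M') T = 0 := by
  apply Groth.Agent.Lib.Seat84.DefoConn.hom_ext_tmul
  intro U m n
  change (twMap (0 : M ⟶ M') T).app U (tm M T U m n) = (0 : CohB1.tensorMod M T ⟶ CohB1.tensorMod M' T).app U (tm M T U m n)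
  rw [twMap_tm, Scheme.Modules.Hom.zero_app]
  exact tm_zero_left M' T U n

/-- tensoring an epimorphism with an invertible module gives an epimorphism -/
theorem epi_twMap {M M' : X.Modules} (φ : M ⟶ M') [Epi φ] (T : X.Modules)
    (hT : PicF.IsInvertible T) : Epi (twMap φ T) := by
  apply Groth.Agent.Lib.Helper23.Serre.epi_of_locally_surjective
  intro V c x hx
  obtain ⟨W, e, hxW, hgen⟩ := exists_gen T hT x
  obtain ⟨b', hb'⟩ := (bijective_tm_of_isGen M' T W e hgen (V ⊓ W) inf_le_right).2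
    (res _ inf_le_left c)
  obtain ⟨V₂, hV₂, hxV₂, a, ha⟩ :=
    Groth.Agent.Lib.Helper4.ModEpi.exists_app_eq_of_epi φ (V ⊓ W) b' x ⟨hx, hxW⟩
  refine ⟨V₂, hV₂.trans inf_le_left, hxV₂, tm M T V₂ a (res T (hV₂.trans inf_le_right) e), ?_⟩
  rw [twMap_tm, ha]
  have h1 : res (CohB1.tensorMod M' T) hV₂ (tm M' T (V ⊓ W) b' (res T inf_le_right e)) =
      tm M' T V₂ (res M' hV₂ b') (res T hV₂ (res T inf_le_right e)) := res_tm M' T hV₂ _ _
  have hb'' : tm M' T (V ⊓ W) b' (res T inf_le_right e) = res _ inf_le_left c := hb'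
  rw [hb'', res_res, res_res] at h1
  exact h1.symm

/-- the short complex `S ⊗ T` -/
noncomputable def twSC (S : ShortComplex X.Modules) (T : X.Modules) : ShortComplex X.Modules :=
  ShortComplex.mk (twMap S.f T) (twMap S.g T) (by rw [← twMap_comp, S.zero, twMap_zero])

theorem shortExact_twSC (S : ShortComplex X.Modules) (hS : S.ShortExact) (T : X.Modules)
    (hT : PicF.IsInvertible T) : (twSC S T).ShortExact := by
  haveI := hS.mono_f
  haveI := hS.epi_g
  haveI : Mono (twSC S T).f := mono_twMap S.f T hT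
  haveI : Epi (twSC S T).g := epi_twMap S.g T hT
  refine { exact := ?_ }
  rw [ShortComplex.exact_iff_epi_kernel_lift]
  apply Groth.Agent.Lib.Helper23.Serre.epi_of_locally_surjective
  intro V t x hx
  obtain ⟨W, e, hxW, hgen⟩ := exists_gen T hT x
  -- the section of the middle term
  let c : Γ(CohB1.tensorMod S.X₂ T, V) := (kernel.ι (twSC S T).g).app V t
  have hc : (twMap S.g T).app V c = 0 := by
    change ((kernel.ι (twSC S T).g) ≫ (twSC S T).g).app V t = 0
    rw [kernel.condition, Scheme.Modules.Hom.zero_app]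
    rfl
  obtain ⟨b, hb⟩ := (bijective_tm_of_isGen S.X₂ T W e hgen (V ⊓ W) inf_le_right).2
    (res _ inf_le_left c)
  have hb' : tm S.X₂ T (V ⊓ W) b (res T inf_le_right e) = res _ inf_le_left c := hb
  have hgb : S.g.app (V ⊓ W) b = 0 := by
    apply (bijective_tm_of_isGen S.X₃ T W e hgen (V ⊓ W) inf_le_right).1
    change tm S.X₃ T (V ⊓ W) (S.g.app (V ⊓ W) b) (res T inf_le_right e) =
      tm S.X₃ T (V ⊓ W) 0 (res T inf_le_right e)
    rw [tm_zero_left, ← twMap_tm, hb', app_res, hc]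
    exact map_zero _
  obtain ⟨a, ha⟩ := Groth.Agent.Lib.Helper2.ModExact.exists_app_eq_of_shortExact S hS (V ⊓ W) b hgb
  refine ⟨V ⊓ W, inf_le_left, ⟨hx, hxW⟩, tm S.X₁ T (V ⊓ W) a (res T inf_le_right e), ?_⟩
  apply Groth.Agent.Lib.Helper2.ModExact.app_injective_of_mono (kernel.ι (twSC S T).g) (V ⊓ W)
  have h1 : (kernel.ι (twSC S T).g).app (V ⊓ W)
      ((kernel.lift (twSC S T).g (twSC S T).f (twSC S T).zero).app (V ⊓ W)
        (tm S.X₁ T (V ⊓ W) a (res T inf_le_right e))) =
      (twMap S.f T).app (V ⊓ W) (tm S.X₁ T (V ⊓ W) a (res T inf_le_right e)) := by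
    change ((kernel.lift (twSC S T).g (twSC S T).f (twSC S T).zero) ≫
      kernel.ι (twSC S T).g).app (V ⊓ W) _ = _
    rw [kernel.lift_ι]
    rfl
  rw [h1, twMap_tm, ha, hb']
  exact (app_res (kernel.ι (twSC S T).g) inf_le_left t).symm

/-- vanishing of the cohomology of the right term of a short exact sequence of modules -/
theorem subsingleton_HH_right (S : ShortComplex X.Modules) (hS : S.ShortExact) (i : ℕ)
    (h₂ : Subsingleton (Coh.HH X S.X₂ i)) (h₁ : Subsingleton (Coh.HH X S.X₁ (i + 1))) :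
    Subsingleton (Coh.HH X S.X₃ i) := by
  have hS' := Groth.Agent.Lib.Helper23.QCohLocal.shortExact_toAbF S hS
  refine ⟨fun a b => ?_⟩
  have key : ∀ y : Coh.HH X S.X₃ i, y = 0 := by
    intro y
    have hy : (show Abelian.Ext _ ((S.map (Groth.Agent.Lib.Helper23.QCohLocal.toAbF X)).X₃) i from y).comp
        hS'.extClass rfl = 0 :=
      h₁.elim _ _
    obtain ⟨x₂, hx₂⟩ := Abelian.Ext.covariant_sequence_exact₃ _ hS' _ rfl hy
    have hx0 : x₂ = 0 := h₂.elim _ _
    rw [hx0, Abelian.Ext.zero_comp] at hx₂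
    exact hx₂.symm
  rw [key a, key b]

/-- cohomology vanishing is invariant under isomorphisms (copied from `Seat54PnVanish2`) -/
theorem subsingleton_HH_of_iso {M N : X.Modules} (φ : M ≅ N) (q : ℕ)
    (h : Subsingleton (Coh.HH X N q)) : Subsingleton (Coh.HH X M q) := by
  let ψ : Coh.toAb M ≅ Coh.toAb N := (SheafOfModules.toSheaf X.ringCatSheaf).mapIso φ
  let f : Coh.toAb M ⟶ Coh.toAb N := ψ.hom
  let g : Coh.toAb N ⟶ Coh.toAb M := ψ.inv
  have hfg : f ≫ g = 𝟙 _ := ψ.hom_inv_id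
  refine ⟨fun a b => ?_⟩
  have ha : Sheaf.H.map g q (Sheaf.H.map f q a) = a := by
    rw [← Sheaf.H.map_comp_apply, hfg, Sheaf.H.map_id_apply]
  have hb : Sheaf.H.map g q (Sheaf.H.map f q b) = b := by
    rw [← Sheaf.H.map_comp_apply, hfg, Sheaf.H.map_id_apply]
  rw [← ha, ← hb, h.elim (Sheaf.H.map f q a) (Sheaf.H.map f q b)]

end Groth.Agent.Lib.Seat64.TwistSES
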