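import Mathlib
import Groth.Prelude.Def_PicGrp
import Groth.Prelude.Def_ThetaK
import Groth.Agent.Lib.Helper23RestrTensor
import Groth.Agent.Lib.Helper23TensorUnit
import Groth.Agent.Lib.Helper23LocGen
import Groth.Agent.Lib.Helper23PB
import Groth.Agent.Lib.Helper23SecTw6
import Groth.Agent.Lib.Helper20ParaF6

/-!
# A small calculus of isomorphisms for `CohB1.tensorMod` and `Scheme.Modules.pullback` (seat 98)

Collects, under uniform short names, the isomorphisms built by earlier helpers:

* `tIso`, `tAssoc`, `tComm`, `tUnitL`, `tUnitR` : functoriality / associativity / commutativity / units of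
  `CohB1.tensorMod` (all modules, no invertibility needed);
* `pb f M`, `pbT`, `pbO`, `pbComp`, `pbCongr`, `pbId`, `pbIso`, `pbComp'` : pullbacks;
* `inv_pb`, `inv_tensor`, `inv_O` : invertibility is preserved;
* `trivial_of_point` : invertible modules on a one-point scheme are trivial.
-/

set_option autoImplicit false
universe u

namespace Groth.Agent.Lib.Seat98.PicCalc

open CategoryTheory AlgebraicGeometry MonoidalCategory

variable {X Y Z : Scheme.{u}}

/-- pullback of a module along a morphism of schemes -/
noncomputable abbrev pb (f : X ⟶ Y) (M : Y.Modules) : X.Modules := (Scheme.Modules.pullback f).obj M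

/-- functoriality of the tensor product in isomorphisms -/
noncomputable def tIso {M M' N N' : X.Modules} (e : M ≅ M') (e' : N ≅ N') :
    CohB1.tensorMod M N ≅ CohB1.tensorMod M' N' := PicGrp.tensorModIso e e'

/-- commutativity of the tensor product (all modules). -/
noncomputable def tComm (M N : X.Modules) : CohB1.tensorMod M N ≅ CohB1.tensorMod N M :=
  (CohB1.sheafifyMod X).mapIso
    (show (CohB1.tensorPre M N : X.PresheafOfModules) ≅ CohB1.tensorPre N M from
      β_ (CohB1.toPMod M) (CohB1.toPMod N))

/-- associativity of the tensor product -/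
noncomputable def tAssoc (F G H : X.Modules) :
    CohB1.tensorMod (CohB1.tensorMod F G) H ≅ CohB1.tensorMod F (CohB1.tensorMod G H) :=
  Groth.Agent.Lib.Helper23.LocGen.tensorAssoc F G H

/-- right unit -/
noncomputable def tUnitR (M : X.Modules) : CohB1.tensorMod M (Coh.structureModule X) ≅ M :=
  Groth.Agent.Lib.Helper23.TensorUnit.tensorUnitIso M

/-- left unit -/
noncomputable def tUnitL (M : X.Modules) : CohB1.tensorMod (Coh.structureModule X) M ≅ M :=
  Groth.Agent.Lib.Helper23.TensorUnit.unitTensorIso M

/-- pullback commutes with tensor products -/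
noncomputable def pbT (f : X ⟶ Y) (M N : Y.Modules) :
    pb f (CohB1.tensorMod M N) ≅ CohB1.tensorMod (pb f M) (pb f N) :=
  Groth.Agent.Lib.Helper23.RestrTensor.pullbackTensorIso M N f

/-- pullback of the structure module -/
noncomputable def pbO (f : X ⟶ Y) : pb f (Coh.structureModule Y) ≅ Coh.structureModule X :=
  Groth.Agent.Lib.Helper23.PB.pullbackUnitIso f

/-- pullback along a composite -/
noncomputable def pbComp (f : X ⟶ Y) (g : Y ⟶ Z) (M : Z.Modules) : pb (f ≫ g) M ≅ pb f (pb g M) :=
  ((Scheme.Modules.pullbackComp f g).app M).symm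

/-- pullback along equal morphisms -/
noncomputable def pbCongr {f g : X ⟶ Y} (h : f = g) (M : Y.Modules) : pb f M ≅ pb g M :=
  (Scheme.Modules.pullbackCongr h).app M

/-- pullback along the identity -/
noncomputable def pbId (M : X.Modules) : pb (𝟙 X) M ≅ M := (Scheme.Modules.pullbackId X).app M

/-- pullback of an iso -/
noncomputable def pbIso (f : X ⟶ Y) {M N : Y.Modules} (e : M ≅ N) : pb f M ≅ pb f N :=
  (Scheme.Modules.pullback f).mapIso e

/-- `pb f (pb g M) ≅ pb h M` when `f ≫ g = h` -/
noncomputable def pbComp' (f : X ⟶ Y) (g : Y ⟶ Z) (h : X ⟶ Z) (e : f ≫ g = h) (M : Z.Modules) :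
    pb f (pb g M) ≅ pb h M := (pbComp f g M).symm ≪≫ pbCongr e M

theorem inv_pb (f : X ⟶ Y) (L : Y.Modules) (hL : PicF.IsInvertible L) : PicF.IsInvertible (pb f L) :=
  Groth.Agent.Lib.Helper23.PB.isInvertible_pullback f L hL

theorem inv_tensor {M N : X.Modules} (hM : PicF.IsInvertible M) (hN : PicF.IsInvertible N) :
    PicF.IsInvertible (CohB1.tensorMod M N) :=
  Groth.Agent.Lib.Helper23.SecTw.isInvertible_tensorMod hM hN

theorem inv_O (X : Scheme.{u}) : PicF.IsInvertible (Coh.structureModule X) :=
  Groth.Agent.Lib.Helper23.TensorUnit.isInvertible_structureModule X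

/-- invertible modules on a one-point scheme are trivial -/
theorem trivial_of_point (N : X.Modules) (hN : PicF.IsInvertible N) (y : X) (hy : ∀ y' : X, y' = y) :
    Nonempty (N ≅ Coh.structureModule X) := by
  obtain ⟨W, hyW, hW⟩ := Groth.Agent.Lib.Helper20.ParaFLib.exists_triv N hN y
  have hWtop : W = ⊤ := by
    rw [eq_top_iff]
    intro y' _
    rw [hy y']
    exact hyW
  exact Groth.Agent.Lib.Helper20.ParaFLib.nonempty_iso_of_triv_top N (hW.of_eq hWtop)

end Groth.Agent.Lib.Seat98.PicCalc
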