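import Mathlib
import Groth.Agent.Lib.Seat49CechCoh
import Groth.Agent.Lib.Seat20NegPow
import Groth.Agent.Lib.Helper23SecTw8
import Groth.Agent.Lib.Helper23AmpleIso
import Groth.Agent.Lib.Helper23TensorUnit
import Groth.Agent.Lib.Helper23QCohSum
import Groth.Agent.Lib.Helper23QCohExt
import Groth.Agent.Lib.Helper23QCohAbelian
import Groth.Agent.Lib.Helper23TensorQCoh
import Groth.Agent.Lib.Helper2TensorInv
import Groth.Agent.Lib.Seat98PicCalc
import Groth.Agent.Lib.Seat64TwistSES
import Groth.Agent.S0016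
import Groth.Agent.S0014

/-!
# A scheme with an ample invertible module whose negative powers are acyclic is affine (seat 49)

Namespace `Groth.Agent.Lib.Seat49.AmpleAffine`.

* `H_map_sum`, `subsingleton_HH_biproduct`: cohomology of a finite biproduct of acyclic modules vanishes.
* `nonempty_iso_of_inverses`: two inverses of an invertible module are isomorphic.
* `nonempty_tensorPow_inverse`: `L ⊗ L' ≅ O` gives `L^c ⊗ L'^c ≅ O`.
* `subsingleton_HH_of_negPowers` (S11377), `isAffine_of_ample_of_vanishing` (S0824).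
-/

set_option autoImplicit false
set_option linter.style.haveILetI false
universe u
open CategoryTheory CategoryTheory.Limits AlgebraicGeometry TopologicalSpace Opposite

namespace Groth.Agent.Lib.Seat49.AmpleAffine

open Groth.Agent.Lib.Seat98.PicCalc Groth.Agent.Lib.Helper23.SecTw

attribute [local instance] Abelian.hasFiniteBiproducts

section Sum

variable {C : Type*} [Category C] {J : GrothendieckTopology C}
  [HasSheafify J AddCommGrpCat.{u}] [HasExt.{u} (Sheaf J AddCommGrpCat.{u})]

theorem H_map_zero {F G : Sheaf J AddCommGrpCat.{u}} (n : ℕ) (x : F.H n) :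
    Sheaf.H.map (0 : F ⟶ G) n x = 0 := by
  simp [Sheaf.H.map_apply, Abelian.Ext.mk₀_zero]

theorem H_map_sum {F G : Sheaf J AddCommGrpCat.{u}} {ι : Type*} (s : Finset ι) (f : ι → (F ⟶ G))
    (n : ℕ) (x : F.H n) :
    Sheaf.H.map (∑ j ∈ s, f j) n x = ∑ j ∈ s, Sheaf.H.map (f j) n x := by
  classical
  induction s using Finset.induction_on with
  | empty => simpa using H_map_zero n x
  | insert a s ha ih =>
    rw [Finset.sum_insert ha, Finset.sum_insert ha, Sheaf.H.map_add_apply, ih]

end Sum

variable {X : Scheme.{u}}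

open Groth.Agent.Lib.Helper23.QCohLocal in
/-- cohomology of a finite biproduct of modules without cohomology in degree `p` vanishes in degree `p` -/
theorem subsingleton_HH_biproduct {K : Type u} [Fintype K] (N' : K → X.Modules) (p : ℕ)
    (h : ∀ k, Subsingleton (Coh.HH X (N' k) p)) : Subsingleton (Coh.HH X (⨁ N') p) := by
  classical
  have key : ∀ x : Coh.HH X (⨁ N') p, x = 0 := by
    intro x
    have h1 : ∑ j, biproduct.π N' j ≫ biproduct.ι N' j = 𝟙 (⨁ N') :=
      IsBilimit.total (biproduct.isBilimit N')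
    have h3 : ∑ j, (toAbF X).map (biproduct.π N' j) ≫ (toAbF X).map (biproduct.ι N' j) =
        𝟙 ((toAbF X).obj (⨁ N')) := by
      rw [← (toAbF X).map_id, ← h1, (toAbF X).map_sum]
      exact Finset.sum_congr rfl (fun j _ => ((toAbF X).map_comp _ _).symm)
    have h2 : x = Sheaf.H.map (𝟙 ((toAbF X).obj (⨁ N'))) p x := (Sheaf.H.map_id_apply x).symm
    rw [h2, ← h3, H_map_sum]
    refine Finset.sum_eq_zero fun j _ => ?_
    rw [Sheaf.H.map_comp_apply]
    have h5 : Sheaf.H.map ((toAbF X).map (biproduct.π N' j)) p x = 0 :=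
      (h j).elim _ _
    rw [h5]
    exact map_zero _
  exact ⟨fun a b => by rw [key a, key b]⟩

/-- two inverses of a module are isomorphic -/
theorem nonempty_iso_of_inverses {M Q Q' : X.Modules}
    (θ : CohB1.tensorMod M Q ≅ Coh.structureModule X)
    (e : CohB1.tensorMod Q Q' ≅ Coh.structureModule X) : Nonempty (M ≅ Q') :=
  ⟨(tUnitR M).symm ≪≫ tIso (Iso.refl M) e.symm ≪≫ (tAssoc M Q Q').symm ≪≫ tIso θ (Iso.refl Q') ≪≫
    tUnitL Q'⟩

/-- `L ⊗ L' ≅ O` gives `L^c ⊗ L'^c ≅ O` -/
theorem nonempty_tensorPow_inverse {L L' : X.Modules} (hL : PicF.IsInvertible L)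
    (e : CohB1.tensorMod L L' ≅ Coh.structureModule X) (c : ℕ) :
    Nonempty (CohB1.tensorMod (CohB1.tensorPow L c) (CohB1.tensorPow L' c) ≅ Coh.structureModule X) := by
  have hL' : PicF.IsInvertible L' :=
    Groth.Agent.Lib.Helper2.TensorInv.isInvertible_of_tensor_iso L' L (tComm L' L ≪≫ e)
  obtain ⟨φ⟩ := nonempty_tensorPow_tensorMod_iso L L' hL hL' c
  exact ⟨φ ≪≫ Groth.Agent.Lib.Helper23.AmpleIso.tensorPowIso e c ≪≫
    Groth.Agent.Lib.Helper23.TensorUnit.tensorPowUnitIso c⟩

/-- quasi-coherence of a biproduct indexed by a finite type -/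
theorem isQuasicoherent_biproduct' {K : Type u} [Fintype K] (N' : K → X.Modules)
    (h : ∀ k, (N' k).IsQuasicoherent) : (⨁ N' : X.Modules).IsQuasicoherent := by
  classical
  have e : (⨁ N') ≅ ⨁ (N' ∘ (Fintype.equivFin K).symm) :=
    biproduct.whiskerEquiv (f := N') (g := N' ∘ (Fintype.equivFin K).symm) (Fintype.equivFin K)
      (fun k => eqToIso (by simp))
  haveI : (⨁ (N' ∘ (Fintype.equivFin K).symm) : X.Modules).IsQuasicoherent :=
    Groth.Agent.Lib.Helper23.QCohLocal.isQuasicoherent_biproduct _ (fun j => h _)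
  exact Groth.Agent.Lib.Helper23.TensorQCoh.isQuasicoherent_of_iso e.symm

/-- On a scheme with an ample invertible module `L` with inverse `L'`: if the large powers of `L'` have no cohomology
in degrees `> r`, then no quasi-coherent module has cohomology in degrees `> r`. -/
theorem subsingleton_HH_of_negPowers (X : Scheme.{u}) (L L' : X.Modules)
    (hL : CohB1.IsAmple L) (hinv : Nonempty (CohB1.tensorMod L L' ≅ Coh.structureModule X)) (r n₀ : ℕ)
    (h : ∀ n : ℕ, n₀ ≤ n → ∀ p : ℕ, r < p → Subsingleton (Coh.HH X (CohB1.tensorPow L' n) p))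
    (G : X.Modules) (hG : Coh.IsQCoh G) (i : ℕ) (hi : r < i) :
    Subsingleton (Coh.HH X G i) := by
  obtain ⟨hLinv, hc, hcov⟩ := hL
  haveI := hc
  haveI : X.IsSeparated := isSeparated_of_cover L hLinv hcov
  obtain ⟨e⟩ := hinv
  -- resolutions by acyclic modules
  have hres : ∀ (F : X.Modules), Coh.IsCoh F →
      ∃ (K : Type u) (_ : Fintype K) (N' : K → X.Modules) (π : (⨁ N') ⟶ F),
        (∀ k, (N' k).IsQuasicoherent ∧ ∀ p, r < p → Subsingleton (Coh.HH X (N' k) p)) ∧ Epi π := by
    intro F hF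
    haveI : F.IsQuasicoherent := hF.1
    haveI : SheafOfModules.IsFiniteType (R := X.ringCatSheaf) F := hF.2
    refine Groth.Agent.Lib.Seat20.NegPow.exists_epi_of_charts F
      (fun M => M.IsQuasicoherent ∧ ∀ p, r < p → Subsingleton (Coh.HH X M p)) (fun x => ?_)
    obtain ⟨n, s, hxs, haff⟩ := hcov x
    have hP1 : PicF.IsInvertible (CohB1.tensorPow L (n + 1)) := isInvertible_tensorPow hLinv (n + 1)
    have hgl : CohB1.genLocus (CohB1.tensorPow (CohB1.tensorPow L (n + 1)) (n₀ + 1))
        (SecTwist.powHom s (n₀ + 1)) = CohB1.genLocus _ s :=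
      genLocus_powHom hP1 s (n₀ + 1) (Nat.succ_pos _)
    refine ⟨CohB1.tensorPow (CohB1.tensorPow L (n + 1)) (n₀ + 1), isInvertible_tensorPow hP1 (n₀ + 1),
      SecTwist.powHom s (n₀ + 1), ?_, ?_, ?_⟩
    · rw [hgl]; exact hxs
    · rw [hgl]; exact haff
    · rintro N hN M ⟨θ⟩
      have hM : PicF.IsInvertible M :=
        Groth.Agent.Lib.Helper2.TensorInv.isInvertible_of_tensor_iso M _ θ
      refine ⟨Groth.Agent.Lib.Helper20.WeakAss.isQuasicoherent_of_isInvertible M hM, fun p hp => ?_⟩
      obtain ⟨φ2⟩ := nonempty_tensorPow_tensorPow_iso (CohB1.tensorPow L (n + 1)) hP1 (n₀ + 1) N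
        ((n₀ + 1) * N) rfl
      obtain ⟨φ3⟩ := nonempty_tensorPow_tensorPow_iso L hLinv (n + 1) ((n₀ + 1) * N)
        ((n + 1) * ((n₀ + 1) * N)) rfl
      obtain ⟨ec⟩ := nonempty_tensorPow_inverse hLinv e ((n + 1) * ((n₀ + 1) * N))
      obtain ⟨ψ⟩ := nonempty_iso_of_inverses (tIso (Iso.refl M) (φ2 ≪≫ φ3).symm ≪≫ θ) ec
      refine Groth.Agent.Lib.Seat64.TwistSES.subsingleton_HH_of_iso ψ p (h _ ?_ p hp)
      calc n₀ ≤ n₀ + 1 := Nat.le_succ n₀
        _ ≤ (n₀ + 1) * N := Nat.le_mul_of_pos_right _ hN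
        _ ≤ (n + 1) * ((n₀ + 1) * N) := Nat.le_mul_of_pos_left _ (Nat.succ_pos n)
  -- descending induction
  obtain ⟨d, hd⟩ := Groth.Agent.S0016.result X
  have key : ∀ (m q : ℕ), d ≤ q + m → r < q → ∀ i : ℕ, q ≤ i → ∀ (G : X.Modules), Coh.IsQCoh G →
      Subsingleton (Coh.HH X G i) := by
    intro m
    induction m with
    | zero =>
      intro q hq _ i hi G hG
      exact hd G hG i (by omega)
    | succ m ih =>
      intro q hq hq0 i hi G hG
      refine Groth.Agent.Lib.Seat49.CechCoh.subsingleton_HH_of_ft X (q - 1) ?_ G hG i (by omega)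
      intro F hF j hj
      by_cases hjq : q + 1 ≤ j
      · exact ih (q + 1) (by omega) (by omega) j hjq F hF.1
      · have hjq' : j = q := by omega
        subst hjq'
        obtain ⟨K, hK, N', π, hgood, hepi⟩ := hres F hF
        haveI : F.IsQuasicoherent := hF.1
        haveI : (⨁ N' : X.Modules).IsQuasicoherent := isQuasicoherent_biproduct' N' (fun k => (hgood k).1)
        let S : ShortComplex X.Modules := ShortComplex.mk (kernel.ι π) π (kernel.condition π)
        have hS : S.ShortExact :=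
          { exact := ShortComplex.exact_kernel π
            mono_f := inferInstanceAs (Mono (kernel.ι π))
            epi_g := hepi }
        have hKq : Coh.IsQCoh (kernel π) :=
          Groth.Agent.Lib.Helper23.QCohLocal.isQuasicoherent_kernel π
        exact Groth.Agent.Lib.Seat64.TwistSES.subsingleton_HH_right S hS j
          (subsingleton_HH_biproduct N' j (fun k => (hgood k).2 j hq0))
          (ih (j + 1) (by omega) (by omega) (j + 1) le_rfl (kernel π) hKq)
  exact key d i (by omega) hi i le_rfl G hG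

/-- **S0824.** A scheme with an ample invertible module `L` such that the large powers of the inverse of `L` have no
higher cohomology is affine. -/
theorem isAffine_of_ample_of_vanishing (X : Scheme.{u}) (L L' : X.Modules)
    (hL : CohB1.IsAmple L) (hinv : Nonempty (CohB1.tensorMod L L' ≅ Coh.structureModule X)) (n₀ : ℕ)
    (h : ∀ n : ℕ, n₀ ≤ n → ∀ p : ℕ, 0 < p → Subsingleton (Coh.HH X (CohB1.tensorPow L' n) p)) :
    IsAffine X := by
  haveI : CompactSpace X := hL.2.1
  haveI : QuasiSeparatedSpace X := quasiSeparatedSpace_of_isAmple L hL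
  exact Groth.Agent.S0014.result X (fun I i _ hI _ =>
    subsingleton_HH_of_negPowers X L L' hL hinv 0 n₀ h I hI 1 one_pos)

end Groth.Agent.Lib.Seat49.AmpleAffine
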