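import Mathlib
import Groth.Agent.Lib.Helper13ModBasis

/-!
# Modules trivialised on a cover: morphisms from cocycle data (helper49)

Namespace `Groth.Agent.Lib.Seat49.Cocycle`.

Given an open cover `U i` of a scheme `X`, modules `L`, `L'` with generating sections `s i`, `s' i` over `U i`
(`r ↦ r • s i|_V` bijective for all `V ≤ U i`), transition functions `η`, `η'`, and functions `u i` on `U i`
with `η' i j * u i| = u j| * η i j`, we build `homOfCochain : L ⟶ L'` with
`(homOfCochain …).app V (r • s i|_V) = (r * u i|_V) • s' i|_V`, and deduce the isomorphism criterion.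
-/

set_option autoImplicit false
universe u
open CategoryTheory AlgebraicGeometry TopologicalSpace Opposite

namespace Groth.Agent.Lib.Seat49.Cocycle

noncomputable section

variable {X : Scheme.{u}} {ι : Type u} (U : ι → X.Opens)

/-- index type of the basis of opens contained in some member of the cover -/
abbrev Idx : Type u := {p : ι × X.Opens // p.2 ≤ U p.1}

/-- the basis of opens contained in some member of the cover -/
abbrev B : Idx U → X.Opens := fun p => p.1.2

theorem isBasis (hU : iSup U = ⊤) : Opens.IsBasis (Set.range (B U)) := by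
  rw [Opens.isBasis_iff_nbhd]
  intro W x hx
  have hx' : x ∈ iSup U := by rw [hU]; trivial
  obtain ⟨i, hi⟩ := Opens.mem_iSup.mp hx'
  exact ⟨W ⊓ U i, ⟨⟨(i, W ⊓ U i), inf_le_right⟩, rfl⟩, ⟨hx, hi⟩, inf_le_left⟩

theorem map_map_apply (M : X.Modules) {V₁ V₂ V₃ : X.Opens} (h₁ : V₂ ≤ V₁) (h₂ : V₃ ≤ V₂)
    (m : Γ(M, V₁)) :
    M.presheaf.map (homOfLE h₂).op (M.presheaf.map (homOfLE h₁).op m) =
      M.presheaf.map (homOfLE (h₂.trans h₁)).op m := by
  rw [← ConcreteCategory.comp_apply, ← M.presheaf.map_comp]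
  rfl

theorem map_refl_apply (M : X.Modules) {V : X.Opens} (h : V ≤ V) (m : Γ(M, V)) :
    M.presheaf.map (homOfLE h).op m = m := by
  have : (homOfLE h).op = 𝟙 (op V) := Subsingleton.elim _ _
  rw [this, M.presheaf.map_id]
  rfl

theorem ring_map_map_apply {V₁ V₂ V₃ : X.Opens} (h₁ : V₂ ≤ V₁) (h₂ : V₃ ≤ V₂)
    (r : Γ(X, V₁)) :
    X.presheaf.map (homOfLE h₂).op (X.presheaf.map (homOfLE h₁).op r) =
      X.presheaf.map (homOfLE (h₂.trans h₁)).op r := by
  rw [← ConcreteCategory.comp_apply, ← X.presheaf.map_comp]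
  rfl

theorem ring_map_refl_apply {V : X.Opens} (h : V ≤ V) (r : Γ(X, V)) :
    X.presheaf.map (homOfLE h).op r = r := by
  have : (homOfLE h).op = 𝟙 (op V) := Subsingleton.elim _ _
  rw [this, X.presheaf.map_id]
  rfl

section Transition

variable (L : X.Modules) (s : ∀ i : ι, Γ(L, U i)) (η : ∀ i j : ι, Γ(X, U i ⊓ U j))
  (hη : ∀ i j : ι, L.presheaf.map (homOfLE (inf_le_left : U i ⊓ U j ≤ U i)).op (s i) =
    η i j • L.presheaf.map (homOfLE (inf_le_right : U i ⊓ U j ≤ U j)).op (s j))

include hη in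
/-- the transition relation restricted to any open inside `U i ⊓ U j` -/
theorem transition_restrict (i j : ι) (V : X.Opens) (hi : V ≤ U i) (hj : V ≤ U j) :
    L.presheaf.map (homOfLE hi).op (s i) =
      X.presheaf.map (homOfLE (le_inf hi hj)).op (η i j) • L.presheaf.map (homOfLE hj).op (s j) := by
  have h := congrArg (L.presheaf.map (homOfLE (le_inf hi hj)).op) (hη i j)
  rw [map_map_apply, Scheme.Modules.map_smul, map_map_apply] at h
  exact h

end Transition

section Hom

variable (hU : iSup U = ⊤) (L L' : X.Modules) (s : ∀ i : ι, Γ(L, U i)) (s' : ∀ i : ι, Γ(L', U i))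
  (hs : ∀ (i : ι) (V : X.Opens) (h : V ≤ U i),
    Function.Bijective (fun r : Γ(X, V) => r • L.presheaf.map (homOfLE h).op (s i)))
  (η η' : ∀ i j : ι, Γ(X, U i ⊓ U j))
  (hη : ∀ i j : ι, L.presheaf.map (homOfLE (inf_le_left : U i ⊓ U j ≤ U i)).op (s i) =
    η i j • L.presheaf.map (homOfLE (inf_le_right : U i ⊓ U j ≤ U j)).op (s j))
  (hη' : ∀ i j : ι, L'.presheaf.map (homOfLE (inf_le_left : U i ⊓ U j ≤ U i)).op (s' i) =
    η' i j • L'.presheaf.map (homOfLE (inf_le_right : U i ⊓ U j ≤ U j)).op (s' j))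
  (u : ∀ i : ι, Γ(X, U i))
  (hu : ∀ i j : ι,
    η' i j * X.presheaf.map (homOfLE (inf_le_left : U i ⊓ U j ≤ U i)).op (u i) =
      X.presheaf.map (homOfLE (inf_le_right : U i ⊓ U j ≤ U j)).op (u j) * η i j)

/-- the trivialisation `Γ(X, V) ≃ Γ(L, V)` for `V ≤ U i` -/
def gen (p : Idx U) : Γ(X, B U p) ≃ₗ[Γ(X, B U p)] Γ(L, B U p) :=
  LinearEquiv.ofBijective
    (LinearMap.toSpanSingleton Γ(X, B U p) Γ(L, B U p) (L.presheaf.map (homOfLE p.2).op (s p.1.1)))
    (hs p.1.1 p.1.2 p.2)

theorem gen_apply (p : Idx U) (r : Γ(X, B U p)) :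
    gen U L s hs p r = r • L.presheaf.map (homOfLE p.2).op (s p.1.1) := rfl

/-- the local map `r • s i ↦ (r * u i) • s' i` -/
def dLin (p : Idx U) : Γ(L, B U p) →ₗ[Γ(X, B U p)] Γ(L', B U p) :=
  (LinearMap.toSpanSingleton Γ(X, B U p) Γ(L', B U p)
    (X.presheaf.map (homOfLE p.2).op (u p.1.1) • L'.presheaf.map (homOfLE p.2).op (s' p.1.1))).comp
    (gen U L s hs p).symm.toLinearMap

theorem dLin_smul (p : Idx U) (r : Γ(X, B U p)) :
    dLin U L L' s s' hs u p (r • L.presheaf.map (homOfLE p.2).op (s p.1.1)) =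
      (r * X.presheaf.map (homOfLE p.2).op (u p.1.1)) • L'.presheaf.map (homOfLE p.2).op (s' p.1.1) := by
  have h : (gen U L s hs p).symm (r • L.presheaf.map (homOfLE p.2).op (s p.1.1)) = r := by
    rw [← gen_apply U L s hs p r, LinearEquiv.symm_apply_apply]
  simp only [dLin, LinearMap.comp_apply, LinearEquiv.coe_coe, h, LinearMap.toSpanSingleton_apply,
    mul_smul]

/-- the local map as a morphism of abelian groups -/
def d (p : Idx U) : Γ(L, B U p) ⟶ Γ(L', B U p) :=
  AddCommGrpCat.ofHom (dLin U L L' s s' hs u p).toAddMonoidHom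

theorem d_apply (p : Idx U) (m : Γ(L, B U p)) :
    d U L L' s s' hs u p m = dLin U L L' s s' hs u p m := rfl

include hη hη' hu in
theorem d_nat (p p' : Idx U) (h : B U p' ≤ B U p) :
    L.presheaf.map (homOfLE h).op ≫ d U L L' s s' hs u p' =
      d U L L' s s' hs u p ≫ L'.presheaf.map (homOfLE h).op := by
  ext m
  obtain ⟨r, rfl⟩ := (gen U L s hs p).surjective m
  rw [ConcreteCategory.comp_apply, ConcreteCategory.comp_apply, d_apply, d_apply, gen_apply,
    dLin_smul, Scheme.Modules.map_smul, Scheme.Modules.map_smul, map_map_apply, map_map_apply,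
    transition_restrict U L s η hη p.1.1 p'.1.1 (B U p') (h.trans p.2) p'.2,
    transition_restrict U L' s' η' hη' p.1.1 p'.1.1 (B U p') (h.trans p.2) p'.2,
    smul_smul, smul_smul, dLin_smul, map_mul, ring_map_map_apply]
  congr 1
  have hu' := congrArg (X.presheaf.map (homOfLE (le_inf (h.trans p.2) p'.2)).op) (hu p.1.1 p'.1.1)
  rw [map_mul, map_mul, ring_map_map_apply, ring_map_map_apply] at hu'
  rw [mul_assoc, mul_assoc, mul_comm (X.presheaf.map _ (η p.1.1 p'.1.1)),
    mul_comm (X.presheaf.map _ (u p.1.1))]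
  congr 1
  exact hu'.symm

/-- the morphism `L ⟶ L'` determined by a 0-cochain `u` intertwining the cocycles -/
def homOfCochain : L ⟶ L' :=
  Groth.Agent.Helper13ModBasis.homOfBasis (B U) (isBasis U hU) (d U L L' s s' hs u)
    (d_nat U L L' s s' hs η η' hη hη' u hu)
    (fun p a m => by
      rw [d_apply, d_apply, map_smul])

theorem homOfCochain_app (p : Idx U) :
    (homOfCochain U hU L L' s s' hs η η' hη hη' u hu).app (B U p) = d U L L' s s' hs u p :=
  Groth.Agent.Helper13ModBasis.homOfBasis_app _ _ _ _ _ p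

theorem homOfCochain_app_smul (p : Idx U) (r : Γ(X, B U p)) :
    (homOfCochain U hU L L' s s' hs η η' hη hη' u hu).app (B U p)
        (r • L.presheaf.map (homOfLE p.2).op (s p.1.1)) =
      (r * X.presheaf.map (homOfLE p.2).op (u p.1.1)) • L'.presheaf.map (homOfLE p.2).op (s' p.1.1) := by
  rw [homOfCochain_app, d_apply, dLin_smul]

end Hom

end

end Groth.Agent.Lib.Seat49.Cocycle
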