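import Mathlib

/-!
# Gluing an invertible module from a cocycle (helper49)

Namespace `Groth.Agent.Lib.Seat49.CocycleGlue`.

For an open cover `U i` of a scheme `X` and functions `η i j` on `U i ⊓ U j`, the module `glued U η` has as sections
over `V` the families `a k ∈ Γ(X, V ⊓ U k)` with `a k = a j * η j k` on `V ⊓ U j ⊓ U k`.
-/

set_option autoImplicit false
universe u
open CategoryTheory AlgebraicGeometry TopologicalSpace Opposite

namespace Groth.Agent.Lib.Seat49.CocycleGlue

noncomputable section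

variable {X : Scheme.{u}}

/-- restriction of functions as a ring homomorphism -/
abbrev rr {V W : X.Opens} (h : W ≤ V) : Γ(X, V) →+* Γ(X, W) := (X.presheaf.map (homOfLE h).op).hom

theorem rr_rr {V₁ V₂ V₃ : X.Opens} (h₁ : V₂ ≤ V₁) (h₂ : V₃ ≤ V₂) (x : Γ(X, V₁)) :
    rr h₂ (rr h₁ x) = rr (h₂.trans h₁) x := by
  show X.presheaf.map (homOfLE h₂).op (X.presheaf.map (homOfLE h₁).op x) = _
  rw [← ConcreteCategory.comp_apply, ← X.presheaf.map_comp]
  rfl

theorem rr_refl {V : X.Opens} (h : V ≤ V) (x : Γ(X, V)) : rr h x = x := by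
  show X.presheaf.map (homOfLE h).op x = x
  have : (homOfLE h).op = 𝟙 (op V) := Subsingleton.elim _ _
  rw [this, X.presheaf.map_id]
  rfl

variable {ι : Type u} (U : ι → X.Opens) (η : ∀ i j : ι, Γ(X, U i ⊓ U j))

/-- the cocycle compatibility of a family of coefficient functions -/
def IsSec (V : X.Opens) (a : ∀ k, Γ(X, V ⊓ U k)) : Prop :=
  ∀ j k, rr (inf_le_inf_right (U k) inf_le_left : V ⊓ U j ⊓ U k ≤ V ⊓ U k) (a k) =
    rr (inf_le_left : V ⊓ U j ⊓ U k ≤ V ⊓ U j) (a j) *
      rr (inf_le_inf_right (U k) inf_le_right : V ⊓ U j ⊓ U k ≤ U j ⊓ U k) (η j k)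

/-- the group of sections over `V` -/
def secSubgroup (V : X.Opens) : AddSubgroup (∀ k, Γ(X, V ⊓ U k)) where
  carrier := {a | IsSec U η V a}
  add_mem' {a b} ha hb := by
    intro j k
    simp only [Pi.add_apply, map_add, add_mul]
    rw [ha j k, hb j k]
  zero_mem' := by
    intro j k
    simp only [Pi.zero_apply, map_zero, zero_mul]
  neg_mem' {a} ha := by
    intro j k
    simp only [Pi.neg_apply, map_neg, neg_mul]
    rw [ha j k]

/-- the type of sections over `V` -/
abbrev Sec (V : X.Opens) : Type u := secSubgroup U η V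

theorem Sec.isSec {V : X.Opens} (a : Sec U η V) : IsSec U η V a.1 := a.2

@[ext]
theorem Sec.ext {V : X.Opens} {a b : Sec U η V} (h : ∀ k, a.1 k = b.1 k) : a = b :=
  Subtype.ext (funext h)

/-- scalar multiplication of sections -/
def smulSec {V : X.Opens} (r : Γ(X, V)) (a : Sec U η V) : Sec U η V :=
  ⟨fun k => rr (inf_le_left : V ⊓ U k ≤ V) r * a.1 k, by
    intro j k
    simp only [map_mul, rr_rr]
    rw [a.2 j k]
    ring⟩

instance (V : X.Opens) : Module Γ(X, V) (Sec U η V) where
  smul := smulSec U η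
  one_smul a := by
    ext k
    show rr _ 1 * a.1 k = a.1 k
    rw [map_one, one_mul]
  mul_smul r r' a := by
    ext k
    show rr _ (r * r') * a.1 k = rr _ r * (rr _ r' * a.1 k)
    rw [map_mul, mul_assoc]
  smul_zero r := by
    ext k
    show rr _ r * (0 : Sec U η V).1 k = (0 : Sec U η V).1 k
    exact mul_zero _
  smul_add r a b := by
    ext k
    show rr _ r * (a + b).1 k = (smulSec U η r a + smulSec U η r b).1 k
    exact mul_add _ _ _
  add_smul r r' a := by
    ext k
    show rr _ (r + r') * a.1 k = (smulSec U η r a + smulSec U η r' a).1 k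
    rw [map_add, add_mul]
    rfl
  zero_smul a := by
    ext k
    show rr _ 0 * a.1 k = (0 : Sec U η V).1 k
    rw [map_zero, zero_mul]
    rfl

theorem smul_val {V : X.Opens} (r : Γ(X, V)) (a : Sec U η V) (k : ι) :
    (r • a).1 k = rr (inf_le_left : V ⊓ U k ≤ V) r * a.1 k := rfl

/-- restriction of sections -/
def resSec {V W : X.Opens} (h : W ≤ V) : Sec U η V →+ Sec U η W where
  toFun a := ⟨fun k => rr (inf_le_inf_right (U k) h) (a.1 k), by
    intro j k
    have := congrArg (rr (inf_le_inf_right (U k) (inf_le_inf_right (U j) h))) (a.2 j k)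
    simp only [map_mul, rr_rr] at this ⊢
    exact this⟩
  map_zero' := by
    ext k
    show rr _ ((0 : Sec U η V).1 k) = (0 : Sec U η W).1 k
    exact map_zero _
  map_add' a b := by
    ext k
    show rr _ ((a + b).1 k) = _
    exact map_add _ _ _

theorem resSec_val {V W : X.Opens} (h : W ≤ V) (a : Sec U η V) (k : ι) :
    (resSec U η h a).1 k = rr (inf_le_inf_right (U k) h) (a.1 k) := rfl

theorem resSec_smul {V W : X.Opens} (h : W ≤ V) (r : Γ(X, V)) (a : Sec U η V) :
    resSec U η h (r • a) = rr h r • resSec U η h a := by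
  ext k
  rw [resSec_val, smul_val, smul_val, resSec_val, map_mul, rr_rr, rr_rr]

/-- the underlying presheaf of abelian groups -/
def pre : (Opens X)ᵒᵖ ⥤ Ab.{u} where
  obj V := AddCommGrpCat.of (Sec U η V.unop)
  map f := AddCommGrpCat.ofHom (resSec U η (leOfHom f.unop))
  map_id V := by
    ext a k
    exact rr_refl _ _
  map_comp f g := by
    ext a k
    exact (rr_rr _ _ _).symm

theorem pre_map_apply {V W : (Opens X)ᵒᵖ} (f : V ⟶ W) (a : Sec U η V.unop) :
    (pre U η).map f a = resSec U η (leOfHom f.unop) a := rfl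

theorem pre_isSheaf : TopCat.Presheaf.IsSheaf (pre U η) := by
  rw [TopCat.Presheaf.isSheaf_iff_isSheafUniqueGluing]
  intro α V sf hsf
  -- reformulate the hypotheses in terms of `Sec`
  let sf' : ∀ a, Sec U η (V a) := sf
  have hsf' : ∀ a b k, rr (inf_le_inf_right (U k) inf_le_left : V a ⊓ V b ⊓ U k ≤ V a ⊓ U k) ((sf' a).1 k) =
      rr (inf_le_inf_right (U k) inf_le_right : V a ⊓ V b ⊓ U k ≤ V b ⊓ U k) ((sf' b).1 k) := by
    intro a b k
    have h := hsf a b
    have h' := congrArg (fun x : Sec U η (V a ⊓ V b) => x.1 k) h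
    exact h'
  -- glue componentwise
  have hglue : ∀ k, ∃! b : Γ(X, iSup V ⊓ U k),
      ∀ a, rr (inf_le_inf_right (U k) (le_iSup V a)) b = (sf' a).1 k := by
    intro k
    refine X.sheaf.existsUnique_gluing' (fun a => V a ⊓ U k) (iSup V ⊓ U k)
      (fun a => homOfLE (inf_le_inf_right (U k) (le_iSup V a))) ?_ (fun a => (sf' a).1 k) ?_
    · rw [iSup_inf_eq]
    · intro a b
      have h := congrArg (rr (le_inf (inf_le_inf inf_le_left inf_le_left) (inf_le_left.trans inf_le_right) :
        (V a ⊓ U k) ⊓ (V b ⊓ U k) ≤ V a ⊓ V b ⊓ U k)) (hsf' a b k)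
      rw [rr_rr, rr_rr] at h
      exact h
  choose b hb hbuniq using hglue
  have hbsec : IsSec U η (iSup V) b := by
    intro j k
    refine X.sheaf.eq_of_locally_eq' (fun a => V a ⊓ U j ⊓ U k) (iSup V ⊓ U j ⊓ U k)
      (fun a => homOfLE (inf_le_inf_right (U k) (inf_le_inf_right (U j) (le_iSup V a)))) ?_ _ _ ?_
    · rw [iSup_inf_eq, iSup_inf_eq]
    · intro a
      show rr _ (rr _ (b k)) = rr _ (rr _ (b j) * rr _ (η j k))
      have h1 := (sf' a).2 j k
      rw [← hb k a, ← hb j a, rr_rr, rr_rr] at h1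
      rw [map_mul, rr_rr, rr_rr, rr_rr]
      exact h1
  refine ⟨(⟨b, hbsec⟩ : Sec U η (iSup V)), ?_, ?_⟩
  · intro a
    show resSec U η (le_iSup V a) (⟨b, hbsec⟩ : Sec U η (iSup V)) = sf' a
    ext k
    exact hb k a
  · intro t ht
    let t' : Sec U η (iSup V) := t
    show t' = ⟨b, hbsec⟩
    ext k
    apply hbuniq k
    intro a
    have h := ht a
    have h' := congrArg (fun x : Sec U η (V a) => x.1 k) h
    exact h'

instance (V : (Opens X)ᵒᵖ) : Module (X.ringCatSheaf.obj.obj V) ((pre U η).obj V) :=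
  inferInstanceAs (Module Γ(X, V.unop) (Sec U η V.unop))

/-- the glued module -/
def glued : X.Modules :=
  ⟨PresheafOfModules.ofPresheaf (pre U η) (fun _ _ f r m => resSec_smul U η (leOfHom f.unop) r m),
    pre_isSheaf U η⟩

theorem glued_map_apply {V W : X.Opens} (h : W ≤ V) (a : Sec U η V) :
    (glued U η).presheaf.map (homOfLE h).op a = resSec U η h a := rfl

theorem glued_smul {V : X.Opens} (r : Γ(X, V)) (a : Sec U η V) :
    (r • (a : Γ(glued U η, V)) : Γ(glued U η, V)) = smulSec U η r a := rfl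

section Gen

variable (hη : ∀ i j k : ι,
  rr (inf_le_inf_right (U k) inf_le_left : U i ⊓ U j ⊓ U k ≤ U i ⊓ U k) (η i k) =
    rr (inf_le_left : U i ⊓ U j ⊓ U k ≤ U i ⊓ U j) (η i j) *
      rr (inf_le_inf_right (U k) inf_le_right : U i ⊓ U j ⊓ U k ≤ U j ⊓ U k) (η j k))

/-- the generating section over `U i` -/
def gen (i : ι) : Sec U η (U i) := ⟨fun k => η i k, hη i⟩

theorem gen_val (i k : ι) : (gen U η hη i).1 k = η i k := rfl

include hη in
theorem gen_transition (i j : ι) :
    resSec U η (inf_le_left : U i ⊓ U j ≤ U i) (gen U η hη i) =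
      η i j • resSec U η (inf_le_right : U i ⊓ U j ≤ U j) (gen U η hη j) := by
  ext k
  rw [smul_val, resSec_val, resSec_val, gen_val, gen_val]
  exact hη i j k

theorem gen_bijective (i : ι) (hu : IsUnit (η i i)) (V : X.Opens) (h : V ≤ U i) :
    Function.Bijective (fun r : Γ(X, V) => r • resSec U η h (gen U η hη i)) := by
  constructor
  · intro r r' hrr'
    have h1 := congrArg (fun x : Sec U η V => x.1 i) hrr'
    simp only [smul_val, resSec_val, gen_val] at h1
    have hu' : IsUnit (rr (inf_le_inf_right (U i) h : V ⊓ U i ≤ U i ⊓ U i) (η i i)) := hu.map _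
    have h2 := hu'.mul_left_injective h1
    have h3 := congrArg (rr (le_inf le_rfl h : V ≤ V ⊓ U i)) h2
    rw [rr_rr, rr_rr, rr_refl, rr_refl] at h3
    exact h3
  · intro a
    refine ⟨rr (le_inf le_rfl h : V ≤ V ⊓ U i) (a.1 i), ?_⟩
    ext k
    show (rr (le_inf le_rfl h : V ≤ V ⊓ U i) (a.1 i) • resSec U η h (gen U η hη i)).1 k = a.1 k
    rw [smul_val, resSec_val, gen_val, rr_rr]
    have h1 := congrArg (rr (le_inf (le_inf inf_le_left (inf_le_left.trans h)) inf_le_right :
      V ⊓ U k ≤ V ⊓ U i ⊓ U k)) (a.2 i k)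
    rw [map_mul, rr_rr, rr_rr, rr_rr, rr_refl] at h1
    exact h1.symm

end Gen

end

end Groth.Agent.Lib.Seat49.CocycleGlue
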