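import Mathlib

/-!
# The different ideal commutes with localization of the base (helper49)

Namespace `Groth.Agent.Lib.Seat49.Different`.
-/

set_option autoImplicit false
universe u
open nonZeroDivisors

namespace Groth.Agent.Lib.Seat49.Different

/-- the extension map on `L = Frac B = Frac Bₛ` is the identity -/
theorem isLocalization_map_eq_id {B Bₛ L : Type u} [CommRing B] [CommRing Bₛ] [Field L]
    [Algebra B L] [Algebra B Bₛ] [Algebra Bₛ L] [IsScalarTower B Bₛ L]
    [IsFractionRing B L] [IsFractionRing Bₛ L]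
    (hf : B⁰ ≤ Submonoid.comap (algebraMap B Bₛ) Bₛ⁰) :
    IsLocalization.map (S := L) L (algebraMap B Bₛ) hf = RingHom.id L := by
  apply IsLocalization.ringHom_ext B⁰
  ext b
  simp only [RingHom.coe_comp, Function.comp_apply, RingHom.id_apply]
  rw [IsLocalization.map_eq, ← IsScalarTower.algebraMap_apply B Bₛ L]

section Key

variable (A K L B Aₛ Bₛ : Type u) [CommRing A] [Field K] [CommRing B] [Field L]
  [CommRing Aₛ] [CommRing Bₛ]
  [Algebra A K] [Algebra B L] [Algebra A B] [Algebra K L] [Algebra A L]
  [IsScalarTower A K L] [IsScalarTower A B L]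
  [Algebra A Aₛ] [Algebra B Bₛ] [Algebra Aₛ Bₛ] [Algebra A Bₛ]
  [IsScalarTower A Aₛ Bₛ] [IsScalarTower A B Bₛ]
  [Algebra Aₛ K] [Algebra Bₛ L] [Algebra Aₛ L]
  [IsScalarTower A Aₛ K] [IsScalarTower B Bₛ L] [IsScalarTower Aₛ K L] [IsScalarTower Aₛ Bₛ L]
  (S : Submonoid A)
  [IsLocalization S Aₛ] [IsLocalization (Algebra.algebraMapSubmonoid B S) Bₛ]
  [Module.Finite A B]

include S in
/-- the trace dual of `Bₛ` over `Aₛ` is the `Bₛ`-span of the trace dual of `B` over `A` -/
theorem traceDual_one_localization :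
    (Submodule.traceDual Aₛ K (1 : Submodule Bₛ L) : Set L) =
      (Submodule.span Bₛ (Submodule.traceDual A K (1 : Submodule B L) : Set L) : Set L) := by
  ext x
  simp only [SetLike.mem_coe]
  -- compatibility of the algebra maps to `L`
  have hAL : ∀ a : A, algebraMap Bₛ L (algebraMap B Bₛ (algebraMap A B a)) = algebraMap A L a := by
    intro a
    rw [← IsScalarTower.algebraMap_apply B Bₛ L, ← IsScalarTower.algebraMap_apply A B L]
  have hAK : ∀ a : A, algebraMap Aₛ K (algebraMap A Aₛ a) = algebraMap A K a := by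
    intro a
    rw [← IsScalarTower.algebraMap_apply A Aₛ K]
  have hAKL : ∀ a : A, algebraMap K L (algebraMap A K a) = algebraMap A L a := by
    intro a
    rw [← IsScalarTower.algebraMap_apply A K L]
  constructor
  · intro hx
    rw [Submodule.mem_traceDual] at hx
    obtain ⟨T, hT⟩ := (Module.Finite.fg_top : (⊤ : Submodule A B).FG)
    -- the traces of `x * b` for the generators `b`
    have htr : ∀ b : B, ∃ a' : Aₛ, algebraMap Aₛ K a' =
        Algebra.traceForm K L x (algebraMap B L b) := by
      intro b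
      have := hx (algebraMap B L b) (by
        rw [Submodule.mem_one]
        exact ⟨algebraMap B Bₛ b, (IsScalarTower.algebraMap_apply B Bₛ L b).symm⟩)
      exact this
    choose a' ha' using htr
    classical
    obtain ⟨s, hs⟩ := IsLocalization.exist_integer_multiples_of_finset S (T.image a')
    have hmem : algebraMap A L (s : A) * x ∈ Submodule.traceDual A K (1 : Submodule B L) := by
      rw [Submodule.mem_traceDual]
      intro a ha
      rw [Submodule.mem_one] at ha
      obtain ⟨b, rfl⟩ := ha
      have hb : b ∈ Submodule.span A (T : Set B) := by rw [hT]; trivial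
      induction hb using Submodule.span_induction with
      | mem b hb =>
        obtain ⟨r, hr⟩ := hs (a' b) (Finset.mem_image_of_mem a' hb)
        refine ⟨r, ?_⟩
        rw [Algebra.traceForm_apply, ← hAKL, mul_assoc, ← Algebra.smul_def, map_smul,
          ← Algebra.traceForm_apply, ← ha', smul_eq_mul, ← hAK, ← hAK, hr, Algebra.smul_def,
          map_mul]
      | zero =>
        refine ⟨0, ?_⟩
        rw [map_zero, map_zero, map_zero]
      | add b₁ b₂ _ _ h₁ h₂ =>
        obtain ⟨r₁, hr₁⟩ := h₁
        obtain ⟨r₂, hr₂⟩ := h₂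
        refine ⟨r₁ + r₂, ?_⟩
        rw [map_add, map_add, map_add, hr₁, hr₂]
      | smul c b _ h =>
        obtain ⟨r, hr⟩ := h
        refine ⟨c * r, ?_⟩
        have hcb : algebraMap B L (c • b) = algebraMap A K c • algebraMap B L b := by
          rw [Algebra.smul_def, map_mul, ← IsScalarTower.algebraMap_apply A B L, Algebra.smul_def,
            hAKL]
        rw [hcb, map_smul, smul_eq_mul, ← hr, ← map_mul]
    have hsB : algebraMap A B (s : A) ∈ Algebra.algebraMapSubmonoid B S :=
      ⟨s, s.2, rfl⟩
    have hx' : x = (IsLocalization.mk' Bₛ (1 : B) ⟨algebraMap A B (s : A), hsB⟩) •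
        (algebraMap A L (s : A) * x) := by
      rw [Algebra.smul_def, ← mul_assoc, ← hAL, ← map_mul]
      have := IsLocalization.mk'_spec Bₛ (1 : B) ⟨algebraMap A B (s : A), hsB⟩
      rw [this, map_one, map_one, one_mul]
    rw [hx']
    exact Submodule.smul_mem _ _ (Submodule.subset_span hmem)
  · intro hx
    refine Submodule.span_le.2 ?_ hx
    intro y hy
    simp only [SetLike.mem_coe] at hy ⊢
    rw [Submodule.mem_traceDual] at hy ⊢
    intro a ha
    rw [Submodule.mem_one] at ha
    obtain ⟨b', rfl⟩ := ha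
    obtain ⟨⟨b, s⟩, hbs⟩ := IsLocalization.surj (Algebra.algebraMapSubmonoid B S) b'
    obtain ⟨s₀, hs₀, hs₀'⟩ := s.2
    obtain ⟨t₀, ht₀⟩ := hy (algebraMap B L b) (by rw [Submodule.mem_one]; exact ⟨b, rfl⟩)
    have hunit : IsUnit (algebraMap A K s₀) := by
      rw [← hAK]
      exact (IsLocalization.map_units Aₛ (⟨s₀, hs₀⟩ : S)).map _
    have h1 : algebraMap Bₛ L b' * algebraMap A L s₀ = algebraMap B L b := by
      have := congrArg (algebraMap Bₛ L) hbs
      simp only at this
      rw [map_mul, ← hs₀', hAL, ← IsScalarTower.algebraMap_apply B Bₛ L] at this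
      exact this
    have h2 : Algebra.traceForm K L y (algebraMap Bₛ L b') * algebraMap A K s₀ =
        algebraMap A K t₀ := by
      rw [ht₀, ← h1, Algebra.traceForm_apply, Algebra.traceForm_apply, ← hAKL, ← mul_assoc,
        mul_comm _ (algebraMap K L _), ← Algebra.smul_def, map_smul, smul_eq_mul, mul_comm]
    refine ⟨IsLocalization.mk' Aₛ t₀ (⟨s₀, hs₀⟩ : S), ?_⟩
    apply hunit.mul_left_injective
    simp only
    rw [h2, ← hAK s₀, ← map_mul, IsLocalization.mk'_spec, hAK]

include S in
theorem map_differentIdeal [IsDomain A] [IsFractionRing A K] [IsFractionRing B L]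
    [IsFractionRing Aₛ K] [IsFractionRing Bₛ L] [FiniteDimensional K L] [Algebra.IsSeparable K L]
    [IsIntegralClosure B A L] [IsIntegralClosure Bₛ Aₛ L] [IsIntegrallyClosed A]
    [IsDedekindDomain B] [Module.IsTorsionFree A B] [IsDomain Aₛ] [IsIntegrallyClosed Aₛ]
    [IsDedekindDomain Bₛ] [Module.IsTorsionFree Aₛ Bₛ] :
    Ideal.map (algebraMap B Bₛ) (differentIdeal A B) = differentIdeal Aₛ Bₛ := by
  have hinj : Function.Injective (algebraMap B Bₛ) := by
    have h : Function.Injective ((algebraMap Bₛ L) ∘ (algebraMap B Bₛ)) := by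
      have := IsFractionRing.injective B L
      convert this using 1
      ext b
      exact (IsScalarTower.algebraMap_apply B Bₛ L b).symm
    exact Function.Injective.of_comp h
  have hf : B⁰ ≤ Submonoid.comap (algebraMap B Bₛ) Bₛ⁰ :=
    nonZeroDivisors_le_comap_nonZeroDivisors_of_injective _ hinj
  apply FractionalIdeal.coeIdeal_injective (K := L)
  show ((Ideal.map (algebraMap B Bₛ) (differentIdeal A B) : Ideal Bₛ) : FractionalIdeal Bₛ⁰ L) =
    ((differentIdeal Aₛ Bₛ : Ideal Bₛ) : FractionalIdeal Bₛ⁰ L)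
  rw [← FractionalIdeal.extended_coeIdeal_eq_map (K := L) L hf, coeIdeal_differentIdeal A K L B,
    coeIdeal_differentIdeal Aₛ K L Bₛ]
  have h1 : (FractionalIdeal.dual A K (1 : FractionalIdeal B⁰ L))⁻¹.extended L hf =
      ((FractionalIdeal.dual A K (1 : FractionalIdeal B⁰ L)).extended L hf)⁻¹ :=
    map_inv₀ (FractionalIdeal.extendedHom' (K := L) L hf) _
  rw [h1]
  congr 1
  apply FractionalIdeal.coeToSubmodule_injective
  beta_reduce
  rw [FractionalIdeal.coe_extended_eq_span, FractionalIdeal.coe_dual_one,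
    isLocalization_map_eq_id hf]
  have hset : ((FractionalIdeal.dual A K (1 : FractionalIdeal B⁰ L) : FractionalIdeal B⁰ L) : Set L) =
      ((Submodule.traceDual A K (1 : Submodule B L)) : Set L) := by
    ext x
    rw [SetLike.mem_coe, SetLike.mem_coe, ← FractionalIdeal.mem_coe, FractionalIdeal.coe_dual_one]
  apply SetLike.coe_injective
  rw [traceDual_one_localization A K L B Aₛ Bₛ S, hset]
  simp

end Key

end Groth.Agent.Lib.Seat49.Different
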