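import Mathlib
import Groth.Agent.Lib.Helper1KBC2
import Groth.Agent.Lib.Seat49ExtZeroSec

/-!
# Stalks of coproducts of `j_! O_U` are projective (helper49)

Namespace `Groth.Agent.Lib.Seat49.ExtZeroStalk`.
-/

set_option autoImplicit false
universe u
open CategoryTheory CategoryTheory.Limits AlgebraicGeometry TopologicalSpace Opposite

namespace Groth.Agent.Lib.Seat49.ExtZeroStalk

open Groth.Agent.Lib.Helper1.Sky Groth.Agent.Lib.Helper1.KBC Groth.Agent.Lib.Helper1.StalkTensor
  Groth.Agent.Lib.Seat49.ExtZeroSec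

noncomputable section

variable {X : Scheme.{u}} (x : X)

/-- a surjection of modules induces surjections on sections of the skyscrapers -/
theorem sky_app_surjective {T T' : ModuleCat.{u} (Ox x)} (e : T ⟶ T') [Epi e] (V : X.Opens) :
    Function.Surjective (((skyFun x).map e).app V) := by
  have he : Function.Surjective e.hom := (ModuleCat.epi_iff_surjective e).1 inferInstance
  intro s
  choose t ht using he
  refine ⟨SkyT.mk (R := X.presheaf) (U := V) fun hx => t (SkyT.ev X.presheaf V s hx), ?_⟩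
  apply SkyT.ext (R := X.presheaf) (U := V)
  intro hx
  exact ht _

theorem exists_lift_extZeroUnit (U : X.Opens) {T T' : ModuleCat.{u} (Ox x)} (e : T ⟶ T') [Epi e]
    (f : CxOX.extZeroUnit U.ι ⟶ (skyFun x).obj T') :
    ∃ g : CxOX.extZeroUnit U.ι ⟶ (skyFun x).obj T, g ≫ (skyFun x).map e = f := by
  obtain ⟨s, hs⟩ := sky_app_surjective x e (U.ι ''ᵁ ⊤) (secEquiv U _ f)
  refine ⟨(secEquiv U _).symm s, ?_⟩
  rw [secEquiv_symm_comp, hs, Equiv.symm_apply_apply]

theorem projective_stalk_coprod {ι : Type u} (U : ι → X.Opens) :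
    Projective ((stalkFun x).obj (∐ fun i => CxOX.extZeroUnit (U i).ι)) := by
  constructor
  intro T T' f e he
  let adj := stalkSkyAdj x
  let f' := adj.homEquiv _ _ f
  have hlift : ∀ i, ∃ g : CxOX.extZeroUnit (U i).ι ⟶ (skyFun x).obj T,
      g ≫ (skyFun x).map e = Sigma.ι (fun i => CxOX.extZeroUnit (U i).ι) i ≫ f' :=
    fun i => exists_lift_extZeroUnit x (U i) e _
  choose g hg using hlift
  refine ⟨(adj.homEquiv _ _).symm (Sigma.desc g), ?_⟩
  rw [← adj.homEquiv_naturality_right_symm]
  have : Sigma.desc g ≫ (skyFun x).map e = f' := by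
    apply Sigma.hom_ext
    intro i
    rw [Sigma.ι_desc_assoc, hg]
  rw [this]
  exact (adj.homEquiv _ _).symm_apply_apply f

theorem isFlat_coprod {ι : Type u} (U : ι → X.Opens) :
    FlatMod.IsFlat (∐ fun i => CxOX.extZeroUnit (U i).ι) := by
  intro x
  have hp := projective_stalk_coprod x U
  have hp' : Module.Projective (Ox x) (St (toPM (∐ fun i => CxOX.extZeroUnit (U i).ι)) x) :=
    (IsProjective.iff_projective _).2 hp
  exact @Module.Flat.of_projective (Ox x) (St (toPM (∐ fun i => CxOX.extZeroUnit (U i).ι)) x) _ _ _ hp'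

end

end Groth.Agent.Lib.Seat49.ExtZeroStalk
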