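import Mathlib

/-!
# Integrally closed graded domains and degree-`d` fractions defined everywhere on `Proj` (seat 49)

Namespace `Groth.Agent.Lib.Seat49.GradedNormal`.

* `mem_of_mul_mem`: in a graded domain, `b * s ∈ 𝒜 (k + j)` with `0 ≠ s ∈ 𝒜 j` forces `b ∈ 𝒜 k`.
* `exists_mem_of_forall_proj`: let `A` be a Noetherian integrally closed graded domain generated in degree one
  (`𝒜 1 * 𝒜 i = 𝒜 (i + 1)`), `𝒜 1 ≠ ⊥`, and `t` an element of the fraction field which at every point `x` of
  `Proj` can be written `a / s` with `s ∉ x` homogeneous and `deg a = deg s + d` (or `a = 0`). Then `t ∈ 𝒜 d`.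
-/

set_option autoImplicit false
universe u

open DirectSum
open scoped Classical

namespace Groth.Agent.Lib.Seat49.GradedNormal

variable {R A : Type u} [CommRing R] [CommRing A] [IsDomain A] [Algebra R A]
  (𝒜 : ℕ → Submodule R A) [GradedAlgebra 𝒜]

/-- homogeneous division in a graded domain. -/
theorem mem_of_mul_mem {s b : A} {j k : ℕ} (hs : s ∈ 𝒜 j) (hs0 : s ≠ 0)
    (h : b * s ∈ 𝒜 (k + j)) : b ∈ 𝒜 k := by
  have hk : ∀ m, m ≠ k → (decompose 𝒜 b m : A) = 0 := by
    intro m hm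
    have h1 := coe_decompose_mul_add_of_right_mem 𝒜 (a := b) (i := m) hs
    have h2 : (decompose 𝒜 (b * s) (m + j) : A) = 0 :=
      decompose_of_mem_ne 𝒜 h (by omega)
    rw [h2] at h1
    exact (mul_eq_zero.1 h1.symm).resolve_right hs0
  have hb : b = (decompose 𝒜 b k : A) := by
    conv_lhs => rw [← sum_support_decompose 𝒜 b]
    refine Finset.sum_eq_single k (fun m _ hm => hk m hm) (fun hk' => ?_)
    rw [DFinsupp.notMem_support_iff] at hk'
    rw [hk']
    rfl
  rw [hb]
  exact (decompose 𝒜 b k).2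

variable {𝒜}

/-- the generic point of `Proj` of a graded domain with `𝒜 1 ≠ ⊥`. -/
def genericPt (h1 : 𝒜 1 ≠ ⊥) : ProjectiveSpectrum 𝒜 where
  asHomogeneousIdeal := ⊥
  isPrime := by
    rw [HomogeneousIdeal.toIdeal_bot]
    exact Ideal.isPrime_bot
  not_irrelevant_le := by
    intro hle
    apply h1
    rw [eq_bot_iff]
    intro x hx
    have hx' : x ∈ HomogeneousIdeal.irrelevant 𝒜 := by
      rw [HomogeneousIdeal.mem_irrelevant_iff, GradedRing.proj_apply,
        decompose_of_mem_ne 𝒜 hx (by norm_num)]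
    have := hle hx'
    rw [← HomogeneousIdeal.mem_iff, HomogeneousIdeal.toIdeal_bot] at this
    exact this

theorem genericPt_toIdeal (h1 : 𝒜 1 ≠ ⊥) :
    (genericPt h1).asHomogeneousIdeal.toIdeal = ⊥ := HomogeneousIdeal.toIdeal_bot


section Main

variable {K : Type u} [Field K] [Algebra A K] [IsFractionRing A K]

/-- the ideal of denominators of `t`. -/
def denomIdeal (t : K) : Ideal A where
  carrier := {s | ∃ a : A, algebraMap A K s * t = algebraMap A K a}
  add_mem' := by
    rintro s s' ⟨a, ha⟩ ⟨a', ha'⟩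
    exact ⟨a + a', by rw [map_add, map_add, add_mul, ha, ha']⟩
  zero_mem' := ⟨0, by simp⟩
  smul_mem' := by
    rintro c s ⟨a, ha⟩
    exact ⟨c * a, by rw [smul_eq_mul, map_mul, map_mul, mul_assoc, ha]⟩

theorem mem_denomIdeal {t : K} {s : A} :
    s ∈ denomIdeal (A := A) t ↔ ∃ a : A, algebraMap A K s * t = algebraMap A K a := Iff.rfl

/-- powers of the irrelevant ideal contain the graded pieces, when the ring is generated in degree one. -/
theorem le_irrelevant_pow (hgen : ∀ i : ℕ, 𝒜 1 * 𝒜 i = 𝒜 (i + 1)) (n : ℕ) :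
    ∀ y ∈ 𝒜 n, y ∈ (HomogeneousIdeal.irrelevant 𝒜).toIdeal ^ n := by
  induction n with
  | zero => intro y _; simp
  | succ n ih =>
    intro y hy
    rw [← hgen n] at hy
    refine Submodule.mul_induction_on hy ?_ ?_
    · intro a ha b hb
      rw [pow_succ']
      refine Ideal.mul_mem_mul ?_ (ih b hb)
      rw [HomogeneousIdeal.mem_iff, HomogeneousIdeal.mem_irrelevant_iff, GradedRing.proj_apply,
        decompose_of_mem_ne 𝒜 ha (by norm_num)]
    · intro a b ha hb
      exact Ideal.add_mem _ ha hb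

theorem exists_mem_of_forall_proj [IsNoetherianRing A] [IsIntegrallyClosed A]
    (hgen : ∀ i : ℕ, 𝒜 1 * 𝒜 i = 𝒜 (i + 1)) (h1 : 𝒜 1 ≠ ⊥) (d : ℕ) (t : K)
    (ht : ∀ x : ProjectiveSpectrum 𝒜, ∃ (i j : ℕ) (a s : A), a ∈ 𝒜 i ∧ s ∈ 𝒜 j ∧
      s ∉ x.asHomogeneousIdeal ∧ ((i : ℤ) = j + d ∨ a = 0) ∧
      algebraMap A K s * t = algebraMap A K a) :
    ∃ b ∈ 𝒜 d, algebraMap A K b = t := by
  have hinj : Function.Injective (algebraMap A K) := IsFractionRing.injective A K
  obtain ⟨i₀, j₀, a₀, s₀, ha₀, hs₀, hs₀η, hdeg, h₀⟩ := ht (genericPt h1)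
  have hs₀0 : s₀ ≠ 0 := by
    intro h
    apply hs₀η
    rw [h]
    exact Submodule.zero_mem _
  have hs₀K : algebraMap A K s₀ ≠ 0 := fun h => hs₀0 (hinj (h.trans (map_zero _).symm))
  by_cases ha₀0 : a₀ = 0
  · refine ⟨0, Submodule.zero_mem _, ?_⟩
    rw [ha₀0, map_zero] at h₀
    rw [map_zero]
    exact ((mul_eq_zero.1 h₀).resolve_left hs₀K).symm
  have hdeg' : i₀ = d + j₀ := by
    rcases hdeg with h | h
    · omega
    · exact absurd h ha₀0
  subst hdeg'
  -- the key relation: for `s` in the denominator ideal with `s t = a`, `s a₀ = a s₀`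
  have hrel : ∀ s a : A, algebraMap A K s * t = algebraMap A K a → s * a₀ = a * s₀ := by
    intro s a h
    apply hinj
    rw [map_mul, map_mul, ← h₀, ← h]
    ring
  -- the denominator ideal is homogeneous
  have hIhom : (denomIdeal (A := A) t).IsHomogeneous 𝒜 := by
    intro k s hs
    obtain ⟨a, ha⟩ := hs
    refine ⟨(decompose 𝒜 a (k + d) : A), ?_⟩
    have h2 := hrel s a ha
    have e1 := coe_decompose_mul_add_of_right_mem 𝒜 (a := s) (i := k) ha₀
    have e2 := coe_decompose_mul_add_of_right_mem 𝒜 (a := a) (i := k + d) hs₀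
    have e3 : k + (d + j₀) = k + d + j₀ := by omega
    rw [e3, h2, e2] at e1
    -- e1 : a_{k+d} * s₀ = s_k * a₀
    apply mul_right_cancel₀ hs₀K
    rw [mul_assoc, mul_comm t, h₀, ← map_mul, ← map_mul, e1]
  -- it is contained in no point of `Proj`
  have hIx : ∀ x : ProjectiveSpectrum 𝒜, ¬ denomIdeal (A := A) t ≤ x.asHomogeneousIdeal.toIdeal := by
    intro x hle
    obtain ⟨i, j, a, s, -, -, hsx, -, h⟩ := ht x
    exact hsx (hle ⟨a, h⟩)
  -- hence its radical contains the irrelevant ideal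
  have hrad : (HomogeneousIdeal.irrelevant 𝒜).toIdeal ≤ (denomIdeal (A := A) t).radical := by
    rw [hIhom.radical_eq]
    refine le_sInf ?_
    rintro J ⟨hJhom, hIJ, hJprime⟩
    by_contra hirr
    exact hIx ⟨⟨J, hJhom⟩, hJprime, hirr⟩ hIJ
  obtain ⟨N, hN⟩ := Ideal.exists_pow_le_of_le_radical_of_fg hrad
    (IsNoetherian.noetherian (HomogeneousIdeal.irrelevant 𝒜).toIdeal)
  -- multiplication by `t` raises degrees by `d` on `𝒜 n`, `n ≥ N`
  have hstep : ∀ n, N ≤ n → ∀ y ∈ 𝒜 n, ∃ a ∈ 𝒜 (n + d), algebraMap A K y * t = algebraMap A K a := by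
    intro n hn y hy
    have hyI : y ∈ denomIdeal (A := A) t :=
      hN (Ideal.pow_le_pow_right hn (le_irrelevant_pow hgen n y hy))
    obtain ⟨a, ha⟩ := hyI
    refine ⟨a, ?_, ha⟩
    have h2 := hrel y a ha
    have h3 : a * s₀ ∈ 𝒜 (n + d + j₀) := by
      rw [← h2]
      have := SetLike.mul_mem_graded hy ha₀
      rwa [show n + (d + j₀) = n + d + j₀ by omega] at this
    exact mem_of_mul_mem 𝒜 hs₀ hs₀0 h3
  have hpow : ∀ k n, N ≤ n → ∀ y ∈ 𝒜 n, ∃ a ∈ 𝒜 (n + k * d),
      algebraMap A K y * t ^ k = algebraMap A K a := by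
    intro k
    induction k with
    | zero => intro n _ y hy; exact ⟨y, by simpa using hy, by simp⟩
    | succ k ih =>
      intro n hn y hy
      obtain ⟨a, ha, h⟩ := ih n hn y hy
      obtain ⟨a', ha', h'⟩ := hstep (n + k * d) (by omega) a ha
      refine ⟨a', ?_, ?_⟩
      · rwa [show n + (k + 1) * d = n + k * d + d by ring]
      · rw [pow_succ, ← mul_assoc, h, h']
  -- a nonzero element of degree `N`
  obtain ⟨x₁, hx₁, hx₁0⟩ := (Submodule.ne_bot_iff _).1 h1
  have hy₀ : x₁ ^ N ∈ 𝒜 N := by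
    have := SetLike.pow_mem_graded N hx₁
    simpa using this
  have hy₀0 : x₁ ^ N ≠ 0 := pow_ne_zero _ hx₁0
  -- integrality of `t`
  have hint : IsIntegral A t := by
    let M : Submodule A K := Submodule.span A (Set.range fun k : ℕ => algebraMap A K (x₁ ^ N) * t ^ k)
    have hMle : M ≤ LinearMap.range (Algebra.linearMap A K) := by
      rw [Submodule.span_le]
      rintro _ ⟨k, rfl⟩
      obtain ⟨a, -, h⟩ := hpow k N le_rfl _ hy₀
      exact ⟨a, h.symm⟩
    have hMfg : M.FG := by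
      haveI : IsNoetherian A (LinearMap.range (Algebra.linearMap A K)) := inferInstance
      haveI : IsNoetherian A M := isNoetherian_of_le hMle
      exact (Submodule.fg_top M).1 (IsNoetherian.noetherian ⊤)
    have hMne : M ≠ ⊥ := by
      intro h
      have : algebraMap A K (x₁ ^ N) * t ^ 0 ∈ M := Submodule.subset_span ⟨0, rfl⟩
      rw [h, Submodule.mem_bot, pow_zero, mul_one] at this
      exact hy₀0 (hinj (this.trans (map_zero _).symm))
    refine isIntegral_of_smul_mem_submodule M hMne hMfg t ?_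
    intro n hn
    refine Submodule.span_induction ?_ ?_ ?_ ?_ hn
    · rintro _ ⟨k, rfl⟩
      refine Submodule.subset_span ⟨k + 1, ?_⟩
      simp only [smul_eq_mul]
      ring
    · simp
    · intro x y _ _ hx hy
      rw [smul_add]
      exact M.add_mem hx hy
    · intro c x _ hx
      rw [smul_comm]
      exact M.smul_mem c hx
  obtain ⟨b, hb⟩ := IsIntegrallyClosed.algebraMap_eq_of_integral hint
  refine ⟨b, ?_, hb⟩
  have h4 : b * s₀ = a₀ := by
    apply hinj
    rw [map_mul, hb, mul_comm, h₀]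
  exact mem_of_mul_mem 𝒜 hs₀ hs₀0 (h4 ▸ ha₀)

end Main

end Groth.Agent.Lib.Seat49.GradedNormal
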