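import Mathlib

/-!
# Henselian local rings from decomposition / inertia fields (helper49)

Namespace `Groth.Agent.Lib.Seat49.Hensel`.

* `henselian_of_unique_max`: a normal local domain `S` whose integral closure in a separably closed
  algebraic extension of its fraction field has a unique maximal ideal is Henselian.
* `exists_mem_closure_apply_eq`: elements of `Gal(Ks/L)`, `L` the fixed field of a subgroup `H`, are
  approximated on single elements by elements of `H`.
* `henselian_fixedField`: the localisation of the integral closure of a normal domain at the prime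
  below `Ps`, inside the fixed field of a group of automorphisms stabilising `Ps`, is Henselian.
-/

set_option autoImplicit false
set_option linter.style.haveILetI false
universe u
open Polynomial IsLocalRing

namespace Groth.Agent.Lib.Seat49.Hensel

/-! ### products in a subalgebra and prime ideals -/

section Prod

variable {S Ω : Type*} [CommRing S] [CommRing Ω] [Algebra S Ω]

/-- if a product of elements of a subalgebra lies in a prime ideal of the subalgebra, so does one of
the factors -/
theorem exists_mem_of_prod_mem (T : Subalgebra S Ω) (n : Ideal T) [hn : n.IsPrime]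
    (s : Multiset Ω) (hs : ∀ β ∈ s, β ∈ T)
    (h : ∃ h : s.prod ∈ T, (⟨s.prod, h⟩ : T) ∈ n) :
    ∃ β ∈ s, ∃ h : β ∈ T, (⟨β, h⟩ : T) ∈ n := by
  induction s using Multiset.induction_on with
  | empty =>
    obtain ⟨h1, h2⟩ := h
    exfalso
    apply hn.ne_top
    rw [Ideal.eq_top_iff_one]
    have : (⟨(0 : Multiset Ω).prod, h1⟩ : T) = 1 := by
      apply Subtype.ext
      simp
    rwa [this] at h2
  | cons β s ih =>
    obtain ⟨h1, h2⟩ := h
    have hβ : β ∈ T := hs β (Multiset.mem_cons_self β s)
    have hs' : ∀ γ ∈ s, γ ∈ T := fun γ hγ => hs γ (Multiset.mem_cons_of_mem hγ)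
    have hp : s.prod ∈ T := Subalgebra.multiset_prod_mem T hs'
    have e : (⟨(β ::ₘ s).prod, h1⟩ : T) = ⟨β, hβ⟩ * ⟨s.prod, hp⟩ := by
      apply Subtype.ext
      simp
    rw [e] at h2
    rcases hn.mem_or_mem h2 with h3 | h3
    · exact ⟨β, Multiset.mem_cons_self β s, hβ, h3⟩
    · obtain ⟨γ, hγ, hγT, hγn⟩ := ih hs' ⟨hp, h3⟩
      exact ⟨γ, Multiset.mem_cons_of_mem hγ, hγT, hγn⟩

/-- coercion of an evaluation in a subalgebra -/
theorem coe_eval (T : Subalgebra S Ω) (q : Polynomial T) (t : T) :
    ((q.eval t : T) : Ω) = (q.map (algebraMap T Ω)).eval (t : Ω) := by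
  rw [eval_map, ← aeval_def]
  have := aeval_algebraMap_apply Ω t q
  rw [coe_aeval_eq_eval] at this
  exact this.symm

end Prod

/-! ### uniqueness of maximal ideals passes to purely inseparable extensions -/

section PI

variable {S : Type u} [CommRing S]
  {Ls : Type u} [Field Ls] [Algebra S Ls]
  (Ω : Type u) [Field Ω] [Algebra Ls Ω] [Algebra S Ω] [IsScalarTower S Ls Ω]
  [IsPurelyInseparable Ls Ω]

theorem max_unique_of_purelyInseparable
    (hloc : ∀ N₁ N₂ : Ideal (integralClosure S Ls), N₁.IsMaximal → N₂.IsMaximal → N₁ = N₂)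
    (n₁ n₂ : Ideal (integralClosure S Ω)) (h1 : n₁.IsMaximal) (h2 : n₂.IsMaximal) : n₁ = n₂ := by
  let φ : integralClosure S Ls →ₐ[S] integralClosure S Ω :=
    (IsScalarTower.toAlgHom S Ls Ω).mapIntegralClosure
  have hφ : (φ : integralClosure S Ls →+* integralClosure S Ω).IsIntegral := by
    apply RingHom.IsIntegral.tower_top (algebraMap S (integralClosure S Ls))
    have : ((φ : integralClosure S Ls →+* integralClosure S Ω).comp
        (algebraMap S (integralClosure S Ls))) = algebraMap S (integralClosure S Ω) :=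
      φ.comp_algebraMap
    rw [this]
    exact algebraMap_isIntegral_iff.2 inferInstance
  have hc : n₁.comap (φ : integralClosure S Ls →+* integralClosure S Ω) =
      n₂.comap (φ : integralClosure S Ls →+* integralClosure S Ω) := by
    apply hloc
    · haveI := h1
      exact Ideal.isMaximal_comap_of_isIntegral_of_isMaximal' _ hφ n₁
    · haveI := h2
      exact Ideal.isMaximal_comap_of_isIntegral_of_isMaximal' _ hφ n₂
  obtain ⟨q, hq⟩ := ExpChar.exists Ls
  haveI := hq
  apply h1.eq_of_le h2.ne_top
  intro x hx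
  obtain ⟨k, y, hy⟩ := IsPurelyInseparable.pow_mem Ls q (x : Ω)
  have hyint : IsIntegral S y := by
    have h3 : IsIntegral S ((x : Ω) ^ q ^ k) := (x.2 : IsIntegral S (x : Ω)).pow _
    rw [← hy] at h3
    exact (isIntegral_algHom_iff (IsScalarTower.toAlgHom S Ls Ω)
      (algebraMap Ls Ω).injective).1 h3
  let y' : integralClosure S Ls := ⟨y, hyint⟩
  have e : φ y' = x ^ q ^ k := by
    apply Subtype.ext
    exact hy
  have h4 : y' ∈ n₁.comap (φ : integralClosure S Ls →+* integralClosure S Ω) := by
    rw [Ideal.mem_comap]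
    change φ y' ∈ n₁
    rw [e]
    exact Ideal.pow_mem_of_mem _ hx _ (pow_pos (expChar_pos Ls q) k)
  rw [hc, Ideal.mem_comap] at h4
  change φ y' ∈ n₂ at h4
  rw [e] at h4
  haveI := h2.isPrime
  exact Ideal.IsPrime.mem_of_pow_mem inferInstance _ h4

end PI

/-! ### the Henselian criterion -/

section Crit

variable (S : Type u) [CommRing S] [IsLocalRing S] [IsIntegrallyClosed S]
  (L : Type u) [Field L] [Algebra S L] [IsFractionRing S L]
  (Ls : Type u) [Field Ls] [Algebra L Ls] [Algebra S Ls] [IsScalarTower S L Ls]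
  [IsSepClosed Ls] [Algebra.IsAlgebraic L Ls]

include L in
/-- A normal local domain whose integral closure in a separably closed algebraic extension of its
fraction field has only one maximal ideal is Henselian. -/
theorem henselian_of_unique_max
    (hloc : ∀ N₁ N₂ : Ideal (integralClosure S Ls), N₁.IsMaximal → N₂.IsMaximal → N₁ = N₂) :
    HenselianLocalRing S := by
  classical
  let Ω := AlgebraicClosure Ls
  haveI : IsScalarTower S Ls Ω := inferInstance
  haveI : IsScalarTower L Ls Ω := inferInstance
  haveI : IsScalarTower S L Ω := IsScalarTower.of_algebraMap_eq (fun x => by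
    rw [IsScalarTower.algebraMap_apply S Ls Ω, IsScalarTower.algebraMap_apply S L Ls,
      ← IsScalarTower.algebraMap_apply L Ls Ω])
  haveI : Algebra.IsAlgebraic L Ω := Algebra.IsAlgebraic.trans L Ls Ω
  haveI : IsAlgClosure L Ω := ⟨inferInstance, inferInstance⟩
  haveI : Normal L Ω := IsAlgClosure.normal L Ω
  haveI : IsPurelyInseparable Ls Ω := inferInstance
  let T := integralClosure S Ω
  have hT : ∀ n₁ n₂ : Ideal T, n₁.IsMaximal → n₂.IsMaximal → n₁ = n₂ :=
    max_unique_of_purelyInseparable Ω hloc
  obtain ⟨n, hn⟩ := Ideal.exists_maximal T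
  haveI := hn
  have hcomap : n.comap (algebraMap S T) = maximalIdeal S :=
    IsLocalRing.eq_maximalIdeal (Ideal.isMaximal_comap_of_isIntegral_of_isMaximal n)
  have hinjL : Function.Injective (algebraMap L Ω) := (algebraMap L Ω).injective
  have hinjS : Function.Injective (algebraMap S Ω) := by
    rw [IsScalarTower.algebraMap_eq S L Ω]
    exact hinjL.comp (IsFractionRing.injective S L)
  refine @HenselianLocalRing.mk S _ inferInstance ?_
  intro f hf a₀ h₁ h₂
  let fT : Polynomial T := f.map (algebraMap S T)
  have hfT : fT.Monic := hf.map _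
  let a : T := algebraMap S T a₀
  let fΩ : Polynomial Ω := f.map (algebraMap S Ω)
  have hfΩ : fΩ.Monic := hf.map _
  have hsplit : fΩ.Splits := IsAlgClosed.splits fΩ
  -- the roots are integral
  have hroots : ∀ β ∈ fΩ.roots, β ∈ T := by
    intro β hβ
    refine ⟨f, hf, ?_⟩
    have := (mem_roots hfΩ.ne_zero).1 hβ
    rw [IsRoot.def, eval_map] at this
    exact this
  -- evaluation at `a₀`
  have hev : fΩ.eval (algebraMap S Ω a₀) = (fΩ.roots.map (algebraMap S Ω a₀ - ·)).prod :=
    hsplit.eval_eq_prod_roots_of_monic hfΩ _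
  have hev2 : fΩ.eval (algebraMap S Ω a₀) = algebraMap S Ω (f.eval a₀) := by
    rw [eval_map, eval₂_at_apply]
  -- a root congruent to `a₀`
  have hex : ∃ γ ∈ fΩ.roots.map (algebraMap S Ω a₀ - ·), ∃ h : γ ∈ T, (⟨γ, h⟩ : T) ∈ n := by
    apply exists_mem_of_prod_mem T n
    · intro γ hγ
      obtain ⟨β, hβ, rfl⟩ := Multiset.mem_map.1 hγ
      exact T.sub_mem (T.algebraMap_mem a₀) (hroots β hβ)
    · rw [← hev, hev2]
      refine ⟨T.algebraMap_mem _, ?_⟩
      have h3 : algebraMap S T (f.eval a₀) ∈ n := by
        rw [← Ideal.mem_comap, hcomap]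
        exact h₁
      exact h3
  obtain ⟨γ, hγ, hγT, hγn⟩ := hex
  obtain ⟨α', hα', rfl⟩ := Multiset.mem_map.1 hγ
  let α : T := ⟨α', hroots α' hα'⟩
  have haα : a - α ∈ n := hγn
  have hrootα : fT.IsRoot α := by
    have h3 := (mem_roots hfΩ.ne_zero).1 hα'
    rw [IsRoot.def] at h3 ⊢
    apply Subtype.ext
    have h4 : ((fT.eval α : T) : Ω) = fΩ.eval α' := by
      have h5 : fΩ = fT.map (algebraMap T Ω) := by
        rw [Polynomial.map_map, ← IsScalarTower.algebraMap_eq]
      rw [h5]
      exact coe_eval T fT α
    rw [h4, h3]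
    rfl
  -- derivative at `α` is not in `n`
  have hder_a : IsUnit ((derivative fT).eval a) := by
    have : (derivative fT).eval a = algebraMap S T ((derivative f).eval a₀) := by
      rw [derivative_map, eval_map, eval₂_at_apply]
    rw [this]
    exact h₂.map _
  have hder : (derivative fT).eval α ∉ n := by
    intro hmem
    have hdvd : a - α ∣ (derivative fT).eval a - (derivative fT).eval α := sub_dvd_eval_sub _ _ _
    have h3 : (derivative fT).eval a - (derivative fT).eval α ∈ n :=
      Ideal.mem_of_dvd n hdvd haα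
    have h4 : (derivative fT).eval a ∈ n := by
      have := n.add_mem h3 hmem
      rwa [sub_add_cancel] at this
    exact hn.ne_top (Ideal.eq_top_of_isUnit_mem _ h4 hder_a)
  -- uniqueness of `α`
  obtain ⟨g, hg⟩ := dvd_iff_isRoot.2 hrootα
  have hgα : (derivative fT).eval α = g.eval α := by
    rw [hg, derivative_mul]
    simp
  have huniq : ∀ β : T, fT.IsRoot β → a - β ∈ n → β = α := by
    intro β hβ haβ
    rw [IsRoot.def, hg, eval_mul] at hβ
    rcases mul_eq_zero.1 hβ with h3 | h3
    · simpa [sub_eq_zero] using h3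
    · exfalso
      apply hder
      rw [hgα]
      have hdvd : α - β ∣ g.eval α - g.eval β := sub_dvd_eval_sub _ _ _
      rw [h3, sub_zero] at hdvd
      apply Ideal.mem_of_dvd n hdvd
      have : α - β = (a - β) - (a - α) := by ring
      rw [this]
      exact n.sub_mem haβ haα
  -- automorphisms fix `α`
  have hfix : ∀ σ : Ω ≃ₐ[L] Ω, σ α' = α' := by
    intro σ
    let σS : Ω ≃ₐ[S] Ω := σ.restrictScalars S
    let σT : T ≃ₐ[S] T := σS.mapIntegralClosure
    have hσn : n.comap (σT : T →+* T) = n := by
      apply hT _ _ _ hn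
      exact Ideal.comap_isMaximal_of_surjective _ σT.surjective
    have h3 : a - σT α ∈ n := by
      have h4 : σT (a - α) ∈ n := by
        have : a - α ∈ n.comap (σT : T →+* T) := by rw [hσn]; exact haα
        exact this
      rw [map_sub] at h4
      have h5 : σT a = a := σT.commutes a₀
      rwa [h5] at h4
    have h6 : fT.IsRoot (σT α) := by
      rw [IsRoot.def]
      have h7 : fT.eval (σT α) = σT (fT.eval α) := by
        change (f.map (algebraMap S T)).eval (σT α) = σT ((f.map (algebraMap S T)).eval α)
        rw [eval_map, eval_map, ← aeval_def, ← aeval_def, aeval_algHom_apply]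
      rw [h7, hrootα, map_zero]
    have h8 := huniq _ h6 h3
    have h9 := congrArg (fun t : T => (t : Ω)) h8
    exact h9
  -- `α'` is separable over `L`
  let fL : Polynomial L := f.map (algebraMap S L)
  have hfL : fL.Monic := hf.map _
  have hfLΩ : fL.map (algebraMap L Ω) = fΩ := by
    rw [Polynomial.map_map, ← IsScalarTower.algebraMap_eq]
  have hαint : IsIntegral L α' := (hroots α' hα').tower_top
  have haeval : aeval α' fL = 0 := by
    have h3 := (mem_roots hfΩ.ne_zero).1 hα'
    rw [aeval_def, ← eval_map, hfLΩ]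
    exact h3
  have hder' : aeval α' (derivative fL) ≠ 0 := by
    intro h0
    apply hder
    have h3 : ((derivative fT).eval α : T) = 0 := by
      apply Subtype.ext
      have h4 : (((derivative fT).eval α : T) : Ω) = aeval α' (derivative fL) := by
        have h5 : (derivative fL).map (algebraMap L Ω) = (derivative fT).map (algebraMap T Ω) := by
          rw [← derivative_map, ← derivative_map, hfLΩ, Polynomial.map_map,
            ← IsScalarTower.algebraMap_eq]
        rw [aeval_def, ← eval_map, h5]
        exact coe_eval T (derivative fT) α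
      rw [h4, h0]
      rfl
    rw [h3]
    exact n.zero_mem
  let p := minpoly L α'
  have hpdvd : p ∣ fL := minpoly.dvd L α' haeval
  have hpsep : p.Separable := by
    rw [Polynomial.separable_iff_derivative_ne_zero (minpoly.irreducible hαint)]
    intro hp0
    obtain ⟨r, hr⟩ := hpdvd
    apply hder'
    rw [hr, derivative_mul, hp0, zero_mul, zero_add, map_mul, minpoly.aeval, zero_mul]
  have hpsplit : (p.map (algebraMap L Ω)).Splits := Normal.splits inferInstance α'
  have hcard : Fintype.card (p.rootSet Ω) = p.natDegree :=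
    card_rootSet_eq_natDegree hpsep hpsplit
  have hsub : ∀ β : p.rootSet Ω, β = ⟨α', by
      rw [mem_rootSet]; exact ⟨minpoly.ne_zero hαint, minpoly.aeval L α'⟩⟩ := by
    intro β
    apply Subtype.ext
    have hβ := (mem_rootSet.1 β.2).2
    obtain ⟨σ, hσ⟩ := minpoly.exists_algEquiv_of_root' hαint.isAlgebraic hβ
    rw [← hσ]
    exact hfix σ
  have hdeg : p.natDegree = 1 := by
    haveI : Subsingleton (p.rootSet Ω) := ⟨fun b c => (hsub b).trans (hsub c).symm⟩
    have h3 : Fintype.card (p.rootSet Ω) ≤ 1 := Fintype.card_le_one_iff_subsingleton.2 inferInstance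
    have h4 : 0 < p.natDegree := minpoly.natDegree_pos hαint
    omega
  obtain ⟨ℓ, hℓ⟩ := (minpoly.natDegree_eq_one_iff).1 hdeg
  have hℓint : IsIntegral S ℓ := by
    have h3 : IsIntegral S (algebraMap L Ω ℓ) := by rw [hℓ]; exact hroots α' hα'
    exact (isIntegral_algHom_iff (IsScalarTower.toAlgHom S L Ω) hinjL).1 h3
  obtain ⟨b, hb⟩ := IsIntegrallyClosed.isIntegral_iff.1 hℓint
  have hbα : algebraMap S T b = α := by
    apply Subtype.ext
    change algebraMap S Ω b = α'
    rw [IsScalarTower.algebraMap_apply S L Ω, hb, hℓ]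
  refine ⟨b, ?_, ?_⟩
  · rw [IsRoot.def]
    apply hinjS
    rw [map_zero]
    have h3 := (mem_roots hfΩ.ne_zero).1 hα'
    rw [IsRoot.def, eval_map, ← hℓ, ← hb, ← IsScalarTower.algebraMap_apply S L Ω,
      eval₂_at_apply] at h3
    exact h3
  · rw [← hcomap, Ideal.mem_comap, map_sub, hbα]
    have : α - a = -(a - α) := by ring
    change α - a ∈ n
    rw [this]
    exact n.neg_mem haα

end Crit

/-! ### approximation of automorphisms over a fixed field -/

section Approx

variable {K Ks : Type u} [Field K] [Field Ks] [Algebra K Ks] [Normal K Ks]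

open IntermediateField in
/-- An automorphism fixing the fixed field of `H` agrees, on any given element, with an element
of `H`. -/
theorem exists_mem_apply_eq (H : Subgroup (Ks ≃ₐ[K] Ks)) (σ : Ks ≃ₐ[K] Ks)
    (hσ : ∀ x ∈ IntermediateField.fixedField H, σ x = x) (y : Ks) : ∃ d ∈ H, d y = σ y := by
  have hy : IsIntegral K y := Normal.isIntegral inferInstance y
  haveI : FiniteDimensional K K⟮y⟯ := IntermediateField.adjoin.finiteDimensional hy
  let E : IntermediateField K Ks := IntermediateField.normalClosure K K⟮y⟯ Ks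
  haveI : Normal K E := inferInstance
  haveI : FiniteDimensional K E := inferInstance
  have hyE : y ∈ E :=
    IntermediateField.le_normalClosure (K⟮y⟯) (IntermediateField.mem_adjoin_simple_self K y)
  let HE : Subgroup (E ≃ₐ[K] E) := H.map (AlgEquiv.restrictNormalHom E)
  let σE : E ≃ₐ[K] E := AlgEquiv.restrictNormalHom E σ
  have hmem : σE ∈ (IntermediateField.fixedField HE).fixingSubgroup := by
    rw [IntermediateField.mem_fixingSubgroup_iff]
    intro e he
    have he' : (e : Ks) ∈ IntermediateField.fixedField H := by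
      rw [IntermediateField.mem_fixedField_iff]
      intro d hd
      have h1 : (AlgEquiv.restrictNormalHom E d) e = e :=
        (IntermediateField.mem_fixedField_iff _ _).1 he _ ⟨d, hd, rfl⟩
      have h2 := AlgEquiv.restrictNormal_commutes d E e
      change algebraMap E Ks ((AlgEquiv.restrictNormalHom E d) e) = d (algebraMap E Ks e) at h2
      rw [h1] at h2
      exact h2.symm
    have h3 := hσ _ he'
    apply (algebraMap E Ks).injective
    have h4 := AlgEquiv.restrictNormal_commutes σ E e
    change algebraMap E Ks (σE e) = σ (algebraMap E Ks e) at h4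
    rw [h4]
    exact h3
  rw [IntermediateField.fixingSubgroup_fixedField] at hmem
  obtain ⟨d, hd, hdE⟩ := hmem
  refine ⟨d, hd, ?_⟩
  have h5 := AlgEquiv.restrictNormal_commutes d E ⟨y, hyE⟩
  have h6 := AlgEquiv.restrictNormal_commutes σ E ⟨y, hyE⟩
  change algebraMap E Ks ((AlgEquiv.restrictNormalHom E d) ⟨y, hyE⟩) = d y at h5
  change algebraMap E Ks (σE ⟨y, hyE⟩) = σ y at h6
  rw [← h5, ← h6, hdE]

end Approx

/-! ### automorphisms stabilising a maximal ideal of the integral closure -/

section Stab

variable {R K Ks : Type u} [CommRing R] [Field K] [Algebra R K]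
  [Field Ks] [Algebra K Ks] [Algebra R Ks] [IsScalarTower R K Ks]

/-- the set of elements of `Ks` lying in the ideal `Ps` of the integral closure -/
def idealSet (Ps : Ideal (integralClosure R Ks)) : Set Ks :=
  {z | ∃ h : z ∈ integralClosure R Ks, (⟨z, h⟩ : integralClosure R Ks) ∈ Ps}

theorem mem_idealSet {Ps : Ideal (integralClosure R Ks)} (x : integralClosure R Ks) :
    (x : Ks) ∈ idealSet Ps ↔ x ∈ Ps :=
  ⟨fun ⟨_, h⟩ => h, fun h => ⟨x.2, h⟩⟩

theorem stab_of_mem_closure (Ps : Ideal (integralClosure R Ks)) [hPs : Ps.IsMaximal]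
    (G : Set (Ks ≃ₐ[K] Ks))
    (hG : ∀ σ ∈ G, ∀ z ∈ idealSet Ps, σ z ∈ idealSet Ps)
    (d : Ks ≃ₐ[K] Ks) (hd : d ∈ Subgroup.closure G) (z : Ks) :
    z ∈ idealSet Ps ↔ d z ∈ idealSet Ps := by
  induction hd using Subgroup.closure_induction generalizing z with
  | mem σ hσ =>
    refine ⟨hG σ hσ z, ?_⟩
    intro hz
    let σT : integralClosure R Ks ≃ₐ[R] integralClosure R Ks :=
      (σ.restrictScalars R).mapIntegralClosure
    have hle : Ps ≤ Ps.comap (σT : integralClosure R Ks →+* integralClosure R Ks) := by
      intro w hw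
      rw [Ideal.mem_comap]
      obtain ⟨h1, h2⟩ := hG σ hσ _ ((mem_idealSet w).2 hw)
      exact h2
    have hmax : (Ps.comap (σT : integralClosure R Ks →+* integralClosure R Ks)).IsMaximal :=
      Ideal.comap_isMaximal_of_surjective _ σT.surjective
    have heq := hPs.eq_of_le hmax.ne_top hle
    obtain ⟨h1, h2⟩ := hz
    have hzint : z ∈ integralClosure R Ks := by
      have h3 : IsIntegral R ((σ.restrictScalars R).symm (σ z)) :=
        (h1 : IsIntegral R (σ z)).map ((σ.restrictScalars R).symm : Ks →ₐ[R] Ks)
      have h4 : (σ.restrictScalars R).symm (σ z) = z := σ.symm_apply_apply z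
      rwa [h4] at h3
    refine ⟨hzint, ?_⟩
    rw [heq, Ideal.mem_comap]
    exact h2
  | one => exact Iff.rfl
  | mul d₁ d₂ _ _ ih₁ ih₂ =>
    rw [ih₂ z, ih₁ (d₂ z)]
    exact Iff.rfl
  | inv d _ ih =>
    rw [ih (d⁻¹ z)]
    have : d (d⁻¹ z) = z := d.apply_symm_apply z
    rw [this]

end Stab

/-! ### the main theorem -/

section Main

variable {R K Ks : Type u} [CommRing R] [IsDomain R] [Field K] [Algebra R K] [IsFractionRing R K]
  [Field Ks] [Algebra K Ks] [IsSepClosure K Ks] [Algebra R Ks] [IsScalarTower R K Ks]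

instance isScalarTower_mid (L : IntermediateField K Ks) : IsScalarTower R L Ks :=
  IsScalarTower.of_algebraMap_eq (fun _ => rfl)

instance isScalarTower_int (L : IntermediateField K Ks) :
    IsScalarTower R (integralClosure R L) Ks :=
  IsScalarTower.of_algebraMap_eq (fun _ => rfl)

theorem isFractionRing_int (L : IntermediateField K Ks) :
    IsFractionRing (integralClosure R L) L := by
  haveI : Algebra.IsAlgebraic R L :=
    (IsFractionRing.comap_isAlgebraic_iff (A := R) (K := K) (C := L)).2 inferInstance
  apply integralClosure.isFractionRing_of_algebraic (A := R) (L := L)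
  intro x hx
  have h1 : algebraMap R Ks x = 0 := by
    rw [IsScalarTower.algebraMap_apply R L Ks, hx, map_zero]
  rw [IsScalarTower.algebraMap_apply R K Ks] at h1
  have h2 := (map_eq_zero (algebraMap K Ks)).1 h1
  exact (IsFractionRing.to_map_eq_zero_iff (K := K)).1 h2

theorem isIntegrallyClosed_int (L : IntermediateField K Ks) :
    IsIntegrallyClosed (integralClosure R L) := by
  haveI := isFractionRing_int (R := R) L
  exact (isIntegrallyClosed_iff_isIntegrallyClosedIn L).2 inferInstance

variable (Ps : Ideal (integralClosure R Ks)) [hPs : Ps.IsMaximal]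
  (G : Set (Ks ≃ₐ[K] Ks)) (hG : ∀ σ ∈ G, ∀ z ∈ idealSet Ps, σ z ∈ idealSet Ps)
  (L : IntermediateField K Ks) (hL : L = IntermediateField.fixedField (Subgroup.closure G))

include hG hL in
theorem le_of_liesOver (P : Ideal (integralClosure R Ks)) [P.IsPrime]
    (hPQ : ∀ y : integralClosure R L, ((y : L) : Ks) ∈ idealSet P → ((y : L) : Ks) ∈ idealSet Ps) :
    P ≤ Ps := by
  classical
  intro x hx
  let B := integralClosure R L
  haveI := isFractionRing_int (R := R) L
  haveI := isIntegrallyClosed_int (R := R) L
  let x' : Ks := x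
  have hxB : IsIntegral B x' := (x.2 : IsIntegral R x').tower_top
  let g : Polynomial B := minpoly B x'
  have hgm : g.Monic := minpoly.monic hxB
  have hgL : minpoly L x' = g.map (algebraMap B L) :=
    minpoly.isIntegrallyClosed_eq_field_fractions' L hxB
  let gKs : Polynomial Ks := g.map (algebraMap B Ks)
  have hgKs : gKs = (minpoly L x').map (algebraMap L Ks) := by
    rw [hgL, Polynomial.map_map, ← IsScalarTower.algebraMap_eq]
  have hgKsm : gKs.Monic := hgm.map _
  have hsplit : gKs.Splits := by
    rw [hgKs]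
    exact Normal.splits inferInstance x'
  -- roots are integral over R
  have hroots : ∀ β ∈ gKs.roots, β ∈ integralClosure R Ks := by
    intro β hβ
    have h1 : IsIntegral B β := by
      refine ⟨g, hgm, ?_⟩
      have := (mem_roots hgKsm.ne_zero).1 hβ
      rw [IsRoot.def, eval_map] at this
      exact this
    exact isIntegral_trans β h1
  -- constant coefficient
  let b₀ : B := g.coeff 0
  have hb₀ : algebraMap B Ks b₀ = (-1) ^ gKs.natDegree * gKs.roots.prod := by
    rw [← hsplit.coeff_zero_eq_prod_roots_of_monic hgKsm, coeff_map]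
  -- `b₀ ∈ P`
  let w : Ks := aeval x' (divX g)
  have hw : w ∈ integralClosure R Ks := by
    have h1 : IsIntegral B w := by
      have h2 := Polynomial.aeval_subalgebra_coe (divX g) (integralClosure B Ks) ⟨x', hxB⟩
      have h3 : (aeval (⟨x', hxB⟩ : integralClosure B Ks) (divX g) : Ks) ∈ integralClosure B Ks :=
        Subtype.mem _
      rw [h2] at h3
      exact h3
    exact isIntegral_trans w h1
  have hb₀w : algebraMap B Ks b₀ = - (w * x') := by
    have h1 : aeval x' g = 0 := minpoly.aeval B x'
    have h2 : g = divX g * X + C b₀ := (divX_mul_X_add g).symm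
    rw [h2, map_add, map_mul, aeval_X, aeval_C] at h1
    exact eq_neg_of_add_eq_zero_right h1
  have hb₀int : algebraMap B Ks b₀ ∈ integralClosure R Ks := isIntegral_trans _ isIntegral_algebraMap
  have hb₀P : algebraMap B Ks b₀ ∈ idealSet P := by
    refine ⟨hb₀int, ?_⟩
    have h1 : (⟨algebraMap B Ks b₀, hb₀int⟩ : integralClosure R Ks) = - (⟨w, hw⟩ * x) := by
      apply Subtype.ext
      exact hb₀w
    rw [h1]
    exact P.neg_mem (P.mul_mem_left _ hx)
  have hb₀Ps : algebraMap B Ks b₀ ∈ idealSet Ps := hPQ b₀ hb₀P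
  -- the product of the roots is in `Ps`
  have hprodint : gKs.roots.prod ∈ integralClosure R Ks :=
    Subalgebra.multiset_prod_mem _ hroots
  have hprod : (⟨gKs.roots.prod, hprodint⟩ : integralClosure R Ks) ∈ Ps := by
    obtain ⟨h1, h2⟩ := hb₀Ps
    have h3 : (⟨gKs.roots.prod, hprodint⟩ : integralClosure R Ks) =
        (-1) ^ gKs.natDegree * ⟨algebraMap B Ks b₀, h1⟩ := by
      apply Subtype.ext
      change gKs.roots.prod = (-1) ^ gKs.natDegree * algebraMap B Ks b₀
      rw [hb₀, ← mul_assoc, ← pow_add, ← two_mul, pow_mul]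
      simp
    rw [h3]
    exact Ps.mul_mem_left _ h2
  haveI := hPs.isPrime
  obtain ⟨β, hβ, hβint, hβPs⟩ := exists_mem_of_prod_mem (integralClosure R Ks) Ps gKs.roots hroots
    ⟨hprodint, hprod⟩
  -- `β` is conjugate to `x'`
  have hβroot : aeval β (minpoly L x') = 0 := by
    have h1 := (mem_roots hgKsm.ne_zero).1 hβ
    rw [IsRoot.def, hgKs, eval_map, ← aeval_def] at h1
    exact h1
  have hxalg : IsAlgebraic L x' := (hxB.tower_top (A := L)).isAlgebraic
  obtain ⟨σ, hσ⟩ := minpoly.exists_algEquiv_of_root hxalg hβroot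
  let σK : Ks ≃ₐ[K] Ks := σ.restrictScalars K
  have hσK : ∀ z ∈ IntermediateField.fixedField (Subgroup.closure G), σK z = z := by
    intro z hz
    rw [← hL] at hz
    exact σ.commutes ⟨z, hz⟩
  obtain ⟨d, hd, hdβ⟩ := exists_mem_apply_eq (Subgroup.closure G) σK hσK β
  have h5 : d β ∈ idealSet Ps :=
    (stab_of_mem_closure Ps G hG d hd β).1 ⟨hβint, hβPs⟩
  rw [hdβ] at h5
  have h6 : σK β = x' := hσ
  rw [h6] at h5
  exact (mem_idealSet x).1 h5

include hG hL in
theorem eq_of_liesOver (P : Ideal (integralClosure R Ks)) [P.IsPrime]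
    (Q : Ideal (integralClosure R L))
    (hQ : ∀ y : integralClosure R L, y ∈ Q ↔ ((y : L) : Ks) ∈ idealSet Ps)
    (hPQ : ∀ y : integralClosure R L, y ∈ Q ↔ ((y : L) : Ks) ∈ idealSet P) : P = Ps := by
  have hle : P ≤ Ps := le_of_liesOver Ps G hG L hL P (fun y hy => (hQ y).1 ((hPQ y).2 hy))
  have hcomap : P.comap (algebraMap R (integralClosure R Ks)) =
      Ps.comap (algebraMap R (integralClosure R Ks)) := by
    ext r
    rw [Ideal.mem_comap, Ideal.mem_comap, ← mem_idealSet, ← mem_idealSet]
    have : ((algebraMap R (integralClosure R Ks) r : integralClosure R Ks) : Ks) =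
        (((algebraMap R (integralClosure R L) r : integralClosure R L) : L) : Ks) := rfl
    rw [this, ← hPQ, ← hQ]
  have hmax : P.IsMaximal := by
    apply Ideal.isMaximal_of_isIntegral_of_isMaximal_comap (R := R) P
    rw [hcomap]
    exact Ideal.isMaximal_comap_of_isIntegral_of_isMaximal Ps
  exact hmax.eq_of_le hPs.ne_top hle

include hG hL in
/-- The localisation of the integral closure of `R` in the fixed field `L` of a group of
automorphisms stabilising the maximal ideal `Ps`, at the prime below `Ps`, is Henselian. -/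
theorem henselian_fixedField (Q : Ideal (integralClosure R L)) [Q.IsPrime]
    (hQ : ∀ y : integralClosure R L, y ∈ Q ↔ ((y : L) : Ks) ∈ idealSet Ps) :
    HenselianLocalRing (Localization.AtPrime Q) := by
  let B := integralClosure R L
  let S := Localization.AtPrime Q
  haveI := isFractionRing_int (R := R) L
  haveI := isIntegrallyClosed_int (R := R) L
  have hle : Q.primeCompl ≤ nonZeroDivisors B := Q.primeCompl_le_nonZeroDivisors
  letI : Algebra S L :=
    IsLocalization.localizationAlgebraOfSubmonoidLe S L Q.primeCompl (nonZeroDivisors B) hle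
  haveI : IsScalarTower B S L :=
    IsLocalization.localization_isScalarTower_of_submonoid_le S L _ _ hle
  haveI : IsFractionRing S L :=
    IsFractionRing.isFractionRing_of_isDomain_of_isLocalization Q.primeCompl S L
  haveI : IsIntegrallyClosed S := isIntegrallyClosed_of_isLocalization S Q.primeCompl hle
  letI : Algebra S Ks := ((algebraMap L Ks).comp (algebraMap S L)).toAlgebra
  haveI : IsScalarTower S L Ks := IsScalarTower.of_algebraMap_eq (fun _ => rfl)
  haveI : IsScalarTower B S Ks := IsScalarTower.of_algebraMap_eq (fun y => by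
    change algebraMap B Ks y = algebraMap L Ks (algebraMap S L (algebraMap B S y))
    rw [← IsScalarTower.algebraMap_apply B S L, ← IsScalarTower.algebraMap_apply B L Ks])
  haveI : IsSepClosed Ks := IsSepClosure.sep_closed K
  have hu : (maximalIdeal S).comap (algebraMap B S) = Q :=
    IsLocalization.AtPrime.under_maximalIdeal S Q
  apply henselian_of_unique_max S L Ks
  suffices h : ∀ N₁ N₂ : Ideal (integralClosure S Ks), N₁.IsMaximal → N₂.IsMaximal → N₁ ≤ N₂ by
    intro N₁ N₂ h1 h2
    exact h1.eq_of_le h2.ne_top (h N₁ N₂ h1 h2)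
  intro N₁ N₂ h1 h2
  let ψ : integralClosure R Ks →+* integralClosure S Ks :=
    RingHom.codRestrict ((integralClosure R Ks).val : integralClosure R Ks →+* Ks)
      (integralClosure S Ks)
      (fun x => ((x.2 : IsIntegral R (x : Ks)).tower_top (A := B)).tower_top (A := S))
  have hψ : ∀ (y : B) (h : ((y : L) : Ks) ∈ integralClosure R Ks),
      ψ ⟨((y : L) : Ks), h⟩ = algebraMap S (integralClosure S Ks) (algebraMap B S y) := by
    intro y h
    apply Subtype.ext
    change ((y : L) : Ks) = algebraMap S Ks (algebraMap B S y)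
    rw [← IsScalarTower.algebraMap_apply B S Ks]
    rfl
  have hNB : ∀ N : Ideal (integralClosure S Ks), N.IsMaximal →
      ∀ y : B, y ∈ Q ↔ ((y : L) : Ks) ∈ idealSet (N.comap ψ) := by
    intro N hN y
    haveI := hN
    have hc : N.comap (algebraMap S (integralClosure S Ks)) = maximalIdeal S := by
      have hm : (N.comap (algebraMap S (integralClosure S Ks))).IsMaximal :=
        Ideal.isMaximal_comap_of_isIntegral_of_isMaximal (R := S) (S := integralClosure S Ks) N
      exact IsLocalRing.eq_maximalIdeal hm
    have hyint : ((y : L) : Ks) ∈ integralClosure R Ks :=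
      isIntegral_trans _ (isIntegral_algebraMap (R := B) (A := Ks) (x := y))
    have e1 : y ∈ Q ↔ algebraMap B S y ∈ maximalIdeal S := by
      rw [← Ideal.mem_comap, hu]
    rw [e1, ← hc, Ideal.mem_comap, ← hψ y hyint]
    constructor
    · intro h
      exact ⟨hyint, h⟩
    · rintro ⟨_, h⟩
      exact h
  haveI : (N₁.comap ψ).IsPrime := by haveI := h1.isPrime; exact Ideal.comap_isPrime ψ N₁
  haveI : (N₂.comap ψ).IsPrime := by haveI := h2.isPrime; exact Ideal.comap_isPrime ψ N₂
  have hP1 : N₁.comap ψ = Ps := eq_of_liesOver Ps G hG L hL (N₁.comap ψ) Q hQ (hNB N₁ h1)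
  have hP2 : N₂.comap ψ = Ps := eq_of_liesOver Ps G hG L hL (N₂.comap ψ) Q hQ (hNB N₂ h2)
  intro x hx
  obtain ⟨⟨s, hs⟩, hsx⟩ :=
    IsIntegral.exists_multiple_integral_of_isLocalization Q.primeCompl (x : Ks) x.2
  have hsxR : IsIntegral R (s • (x : Ks)) := isIntegral_trans _ hsx
  let t : integralClosure R Ks := ⟨s • (x : Ks), hsxR⟩
  have hψt : ψ t = algebraMap S (integralClosure S Ks) (algebraMap B S s) * x := by
    apply Subtype.ext
    change s • (x : Ks) = algebraMap S Ks (algebraMap B S s) * (x : Ks)
    rw [← IsScalarTower.algebraMap_apply B S Ks, Algebra.smul_def]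
  have ht1 : t ∈ N₁.comap ψ := by
    rw [Ideal.mem_comap, hψt]
    exact N₁.mul_mem_left _ hx
  rw [hP1, ← hP2, Ideal.mem_comap, hψt] at ht1
  haveI := h2.isPrime
  rcases Ideal.IsPrime.mem_or_mem inferInstance ht1 with h3 | h3
  · exfalso
    haveI := h2
    have hc : N₂.comap (algebraMap S (integralClosure S Ks)) = maximalIdeal S := by
      have hm : (N₂.comap (algebraMap S (integralClosure S Ks))).IsMaximal :=
        Ideal.isMaximal_comap_of_isIntegral_of_isMaximal (R := S) (S := integralClosure S Ks) N₂
      exact IsLocalRing.eq_maximalIdeal hm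
    rw [← Ideal.mem_comap, hc, ← Ideal.mem_comap, hu] at h3
    exact hs h3
  · exact h3

end Main

end Groth.Agent.Lib.Seat49.Hensel
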