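import Mathlib
import Groth.Prelude.Def_QCohCat
import Groth.Prelude.Def_Coh
import Groth.Agent.S0045
import Groth.Agent.S4342
import Groth.Agent.Lib.Helper23FTsub
import Groth.Agent.Lib.Helper20Nakayama
import Groth.Agent.Lib.Helper23QCohAbelian
import Groth.Agent.Lib.Seat49SkyInj
import Groth.Agent.Lib.Seat49NoethObj

/-!
# Noetherian objects of `QCoh(O_Y)` are the coherent modules (helper49)

Namespace `Groth.Agent.Lib.Seat49.QCohNoeth`.

* `mono_hom`, `mono_of_mono_hom`: monomorphisms in `QCoh` are the monomorphisms of modules.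
* `Φ`: subobjects in `QCoh` as subobjects of the underlying module (`Φ_le`, `le_of_Φ_le`, `Φ_injective`).
* `isNoetherianObject_of_isCoh` (via prior S0045), `isFT_of_isNoetherianObject` (via S4342).
-/

set_option autoImplicit false
set_option linter.style.haveILetI false
universe u
open CategoryTheory CategoryTheory.Limits AlgebraicGeometry TopologicalSpace Opposite

namespace Groth.Agent.Lib.Seat49.QCohNoeth

open Groth.Agent.Lib.Helper23.QCohLocal

noncomputable section

variable {Y : Scheme.{u}}

/-- the inclusion of quasi-coherent modules into all modules preserves monomorphisms -/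
theorem mono_hom {A B : QCohCat.QCoh Y} (f : A ⟶ B) [Mono f] : Mono f.hom := by
  haveI : A.obj.IsQuasicoherent := A.property
  haveI : B.obj.IsQuasicoherent := B.property
  have hK : (kernel f.hom).IsQuasicoherent := isQuasicoherent_kernel f.hom
  let K : QCohCat.QCoh Y := ⟨kernel f.hom, hK⟩
  let k : K ⟶ A := ObjectProperty.homMk (kernel.ι f.hom)
  have hk : k ≫ f = 0 ≫ f := by
    apply ObjectProperty.hom_ext
    simp [k]
  have hk0 : k = 0 := (cancel_mono f).1 hk
  have : kernel.ι f.hom = 0 := congrArg (fun g => g.hom) hk0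
  exact Preadditive.mono_of_kernel_zero this

/-- a morphism of quasi-coherent modules whose underlying morphism is a monomorphism is a monomorphism -/
theorem mono_of_mono_hom {A B : QCohCat.QCoh Y} (f : A ⟶ B) [Mono f.hom] : Mono f :=
  ⟨fun g h hgh => by
    apply ObjectProperty.hom_ext
    have := congrArg (fun k => k.hom) hgh
    simp only [ObjectProperty.FullSubcategory.comp_hom] at this
    exact (cancel_mono f.hom).1 this⟩


variable (M : QCohCat.QCoh Y)

instance (S : Subobject M) : Mono S.arrow.hom := mono_hom S.arrow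

/-- the subobject of the underlying module attached to a subobject in `QCoh` -/
def Φ (S : Subobject M) : Subobject M.obj := Subobject.mk S.arrow.hom

theorem Φ_le {S T : Subobject M} (h : S ≤ T) : Φ M S ≤ Φ M T := by
  refine Subobject.mk_le_mk_of_comm (Subobject.ofLE S T h).hom ?_
  have := Subobject.ofLE_arrow h
  exact congrArg (fun k => k.hom) this

theorem le_of_Φ_le {S T : Subobject M} (h : Φ M S ≤ Φ M T) : S ≤ T := by
  let g : (S : QCohCat.QCoh Y).obj ⟶ (T : QCohCat.QCoh Y).obj := Subobject.ofMkLEMk _ _ h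
  have hg : g ≫ T.arrow.hom = S.arrow.hom := Subobject.ofMkLEMk_comp h
  let g' : (S : QCohCat.QCoh Y) ⟶ (T : QCohCat.QCoh Y) := ObjectProperty.homMk g
  have hg' : g' ≫ T.arrow = S.arrow := by
    apply ObjectProperty.hom_ext
    exact hg
  exact Subobject.le_of_comm g' hg'

theorem Φ_injective : Function.Injective (Φ M) := by
  intro S T h
  exact le_antisymm (le_of_Φ_le M h.le) (le_of_Φ_le M h.ge)

theorem isQuasicoherent_Φ (S : Subobject M) : ((Φ M S : Subobject M.obj) : Y.Modules).IsQuasicoherent := by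
  have h : (S : QCohCat.QCoh Y).obj.IsQuasicoherent := (S : QCohCat.QCoh Y).property
  exact (SheafOfModules.isQuasicoherent Y.ringCatSheaf).prop_of_iso
    (Subobject.underlyingIso S.arrow.hom).symm h

/-- a coherent module on a Noetherian scheme is a Noetherian object of `QCoh` -/
theorem isNoetherianObject_of_isCoh [IsNoetherian Y] (hM : Coh.IsCoh M.obj) : IsNoetherianObject M := by
  rw [isNoetherianObject_iff_monotone_chain_condition]
  intro f
  let F : ℕ →o Subobject M.obj := ⟨fun n => Φ M (f n), fun a b h => Φ_le M (f.monotone h)⟩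
  obtain ⟨n, hn⟩ := Groth.Agent.S0045.result Y M.obj hM F (fun n => isQuasicoherent_Φ M (f n))
  exact ⟨n, fun m hm => Φ_injective M (hn m hm).symm⟩


theorem isFT_of_iso {A B : Y.Modules} (e : A ≅ B) (h : CohB1.IsFT A) : CohB1.IsFT B := by
  haveI : SheafOfModules.IsFiniteType (R := Y.ringCatSheaf) A := h
  exact Groth.Agent.Lib.Helper20.Nakayama.isFiniteType_of_epi e.hom

/-- the underlying module of `Subobject.mk` -/
def mkIso {G : QCohCat.QCoh Y} (i : G ⟶ M) [Mono i] :
    ((Subobject.mk i : Subobject M) : QCohCat.QCoh Y).obj ≅ G.obj :=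
  (QCohCat.isQCoh Y).ι.mapIso (Subobject.underlyingIso i)

/-- a Noetherian object of `QCoh` on a scheme with locally Noetherian underlying space is of finite type -/
theorem isFT_of_isNoetherianObject
    (hY : ∀ x : Y, ∃ U : Y.Opens, x ∈ U ∧ TopologicalSpace.NoetherianSpace (U : Set Y))
    [IsNoetherianObject M] : CohB1.IsFT M.obj := by
  haveI : M.obj.IsQuasicoherent := M.property
  let 𝒮 : Set (Subobject M) := {S | CohB1.IsFT (S : QCohCat.QCoh Y).obj}
  have hne : 𝒮.Nonempty := by
    obtain ⟨G', i', hi', hq, hft, -⟩ :=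
      Groth.Agent.S4342.result hY M.obj ⟨⊥, isAffineOpen_bot Y⟩ 0
    let G : QCohCat.QCoh Y := ⟨G', hq⟩
    let i : G ⟶ M := ObjectProperty.homMk i'
    haveI : Mono i.hom := hi'
    haveI : Mono i := mono_of_mono_hom i
    exact ⟨Subobject.mk i, isFT_of_iso (mkIso M i).symm hft⟩
  obtain ⟨N, hN, hmax⟩ := WellFounded.has_min (wellFounded_gt (α := Subobject M)) 𝒮 hne
  let Nobj : Y.Modules := (N : QCohCat.QCoh Y).obj
  haveI : Nobj.IsQuasicoherent := (N : QCohCat.QCoh Y).property
  haveI : SheafOfModules.IsFiniteType (R := Y.ringCatSheaf) Nobj := hN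
  have hsurj : ∀ U : Y.affineOpens, Function.Surjective (N.arrow.hom.app U.1) := by
    intro U s
    obtain ⟨G', i', hi', hq, hft, g, hg⟩ := Groth.Agent.S4342.result hY M.obj U s
    haveI : G'.IsQuasicoherent := hq
    haveI : SheafOfModules.IsFiniteType (R := Y.ringCatSheaf) G' := hft
    let d : (Nobj ⊞ G' : Y.Modules) ⟶ M.obj := biprod.desc N.arrow.hom i'
    haveI : (Nobj ⊞ G' : Y.Modules).IsQuasicoherent :=
      Groth.Agent.Lib.Helper23.QCohLocal.isQuasicoherent_biprod Nobj G'
    haveI : SheafOfModules.IsFiniteType (R := Y.ringCatSheaf) (Nobj ⊞ G' : Y.Modules) :=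
      Groth.Agent.Lib.Helper23.FTsub.isFiniteType_biprod Nobj G'
    let I : Y.Modules := Abelian.image d
    have hIq : I.IsQuasicoherent := by
      haveI : (cokernel d).IsQuasicoherent := isQuasicoherent_cokernel d
      exact isQuasicoherent_kernel (cokernel.π d)
    have hIft : CohB1.IsFT I :=
      Groth.Agent.Lib.Helper20.Nakayama.isFiniteType_of_epi (Abelian.factorThruImage d)
    let Iq : QCohCat.QCoh Y := ⟨I, hIq⟩
    let a : Iq ⟶ M := ObjectProperty.homMk (Abelian.image.ι d)
    haveI : Mono a.hom := inferInstanceAs (Mono (Abelian.image.ι d))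
    haveI : Mono a := mono_of_mono_hom a
    let S' : Subobject M := Subobject.mk a
    have hS' : S' ∈ 𝒮 := isFT_of_iso (mkIso M a).symm hIft
    have hle : N ≤ S' := by
      let n' : (N : QCohCat.QCoh Y) ⟶ Iq :=
        ObjectProperty.homMk ((biprod.inl : Nobj ⟶ Nobj ⊞ G') ≫ Abelian.factorThruImage d)
      refine Subobject.le_mk_of_comm n' ?_
      apply ObjectProperty.hom_ext
      change ((biprod.inl : Nobj ⟶ Nobj ⊞ G') ≫ Abelian.factorThruImage d) ≫ Abelian.image.ι d = N.arrow.hom
      rw [Category.assoc, Abelian.image.fac, biprod.inl_desc]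
    have heq : S' = N := by
      by_contra hcon
      exact hmax S' hS' (lt_of_le_of_ne hle (Ne.symm hcon))
    have hle' : S' ≤ N := heq.le
    let c : Iq ⟶ (N : QCohCat.QCoh Y) := Subobject.ofMkLE a N hle'
    have hc : c ≫ N.arrow = a := Subobject.ofMkLE_arrow hle'
    have hc' : c.hom ≫ N.arrow.hom = Abelian.image.ι d := congrArg (fun k => k.hom) hc
    refine ⟨c.hom.app U.1 ((Abelian.factorThruImage d).app U.1
      ((biprod.inr : G' ⟶ Nobj ⊞ G').app U.1 g)), ?_⟩
    have h1 : (biprod.inr : G' ⟶ Nobj ⊞ G') ≫ Abelian.factorThruImage d ≫ c.hom ≫ N.arrow.hom = i' := by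
      rw [hc', Abelian.image.fac, biprod.inr_desc]
    have h2 := congrArg (fun k : G' ⟶ M.obj => k.app U.1 g) h1
    exact h2.trans hg
  haveI : IsIso N.arrow.hom := by
    refine Groth.Agent.Lib.Seat49.SkyInj.isIso_of_bijective_basis N.arrow.hom
      (fun U : Y.affineOpens => (U : Y.Opens)) ?_ (fun U => ⟨?_, hsurj U⟩)
    · have h := Y.isBasis_affineOpens
      rwa [← Subtype.range_coe (s := Y.affineOpens)] at h
    · exact Groth.Agent.Lib.Seat49.NoethObj.app_injective_of_mono N.arrow.hom U.1
  exact isFT_of_iso (asIso N.arrow.hom) hN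

end

end Groth.Agent.Lib.Seat49.QCohNoeth
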