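import Mathlib
import Groth.Prelude.Def_Canon
import Groth.Agent.Lib.Helper23QCohExt
import Groth.Agent.Lib.Helper23QCohSum
import Groth.Agent.Lib.Helper23FTsub
import Groth.Agent.Lib.Seat81EdgeAb

/-!
# Finiteness of `Coh.HH` along short exact sequences (seat 54)

For `X` over `Spec A`: the long exact cohomology sequence of a short exact sequence of `O_X`-modules is
`A`-linear (`Canon.HHlin`, `δlin`), exactness statements `range_eq_ker_mid`, `range_eq_ker_right`, and the
finiteness consequences `finite_mid`, `finite_right` over a Noetherian ring `A`. Functoriality lemmas for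
`Canon.HHlin`: `HHlin_comp`, `HHlin_id`, `HHlin_zero`, `HHlin_add`, `HHlin_sum`.
-/

set_option autoImplicit false
universe u
open CategoryTheory CategoryTheory.Limits AlgebraicGeometry Abelian Opposite

namespace Groth.Agent.Lib.Seat54.HHFinite

open Groth.Agent.Lib.Helper23.QCohLocal

variable (A : Type u) [CommRing A] {X : Scheme.{u}} [X.Over (Spec (CommRingCat.of A))]

theorem HHlin_apply {F G : X.Modules} (φ : F ⟶ G) (i : ℕ) (x : Coh.HH X F i) :
    Canon.HHlin A φ i x = Sheaf.H.map ((SheafOfModules.toSheaf X.ringCatSheaf).map φ) i x := rfl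

theorem toSheaf_comp {F G H : X.Modules} (φ : F ⟶ G) (ψ : G ⟶ H) :
    (SheafOfModules.toSheaf X.ringCatSheaf).map (φ ≫ ψ) =
      (SheafOfModules.toSheaf X.ringCatSheaf).map φ ≫ (SheafOfModules.toSheaf X.ringCatSheaf).map ψ :=
  (SheafOfModules.toSheaf X.ringCatSheaf).map_comp φ ψ

theorem toSheaf_id (F : X.Modules) :
    (SheafOfModules.toSheaf X.ringCatSheaf).map (𝟙 F) = 𝟙 _ :=
  (SheafOfModules.toSheaf X.ringCatSheaf).map_id F

theorem toSheaf_zero (F G : X.Modules) :
    (SheafOfModules.toSheaf X.ringCatSheaf).map (0 : F ⟶ G) = 0 :=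
  (toAbF X).map_zero F G

theorem toSheaf_add {F G : X.Modules} (φ ψ : F ⟶ G) :
    (SheafOfModules.toSheaf X.ringCatSheaf).map (φ + ψ) =
      (SheafOfModules.toSheaf X.ringCatSheaf).map φ + (SheafOfModules.toSheaf X.ringCatSheaf).map ψ :=
  (toAbF X).map_add

theorem HHlin_comp {F G H : X.Modules} (φ : F ⟶ G) (ψ : G ⟶ H) (i : ℕ) (x : Coh.HH X F i) :
    Canon.HHlin A (φ ≫ ψ) i x = Canon.HHlin A ψ i (Canon.HHlin A φ i x) :=
  (congrArg (fun f => Sheaf.H.map f i x) (toSheaf_comp φ ψ)).trans (Sheaf.H.map_comp_apply _ _ x)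

theorem HHlin_id (F : X.Modules) (i : ℕ) (x : Coh.HH X F i) :
    Canon.HHlin A (𝟙 F) i x = x :=
  (congrArg (fun f => Sheaf.H.map f i x) (toSheaf_id F)).trans (Sheaf.H.map_id_apply x)

theorem H_map_zero {F G : CohTop.Ab X.carrier} (i : ℕ) (x : Sheaf.H F i) :
    Sheaf.H.map (0 : F ⟶ G) i x = 0 := by
  rw [Sheaf.H.map_apply, Ext.mk₀_zero, Ext.comp_zero]

theorem HHlin_zero (F G : X.Modules) (i : ℕ) (x : Coh.HH X F i) :
    Canon.HHlin A (0 : F ⟶ G) i x = 0 :=
  (congrArg (fun f => Sheaf.H.map f i x) (toSheaf_zero F G)).trans (H_map_zero i x)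

theorem HHlin_add {F G : X.Modules} (φ ψ : F ⟶ G) (i : ℕ) (x : Coh.HH X F i) :
    Canon.HHlin A (φ + ψ) i x = Canon.HHlin A φ i x + Canon.HHlin A ψ i x :=
  (congrArg (fun f => Sheaf.H.map f i x) (toSheaf_add φ ψ)).trans (Sheaf.H.map_add_apply _ _ x)

theorem HHlin_sum {ι : Type*} (s : Finset ι) {F G : X.Modules} (φ : ι → (F ⟶ G)) (i : ℕ)
    (x : Coh.HH X F i) :
    Canon.HHlin A (∑ j ∈ s, φ j) i x = ∑ j ∈ s, Canon.HHlin A (φ j) i x := by
  classical
  induction s using Finset.induction_on with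
  | empty => rw [Finset.sum_empty, Finset.sum_empty, HHlin_zero]
  | insert a s ha ih => rw [Finset.sum_insert ha, Finset.sum_insert ha, HHlin_add, ih]

/-- exactness of the cohomology sequence in the middle -/
theorem range_eq_ker_mid (S : ShortComplex X.Modules) (hS : S.ShortExact) (i : ℕ) :
    LinearMap.range (Canon.HHlin A S.f i) = LinearMap.ker (Canon.HHlin A S.g i) := by
  have hS' := shortExact_toAbF S hS
  ext y
  rw [LinearMap.mem_range, LinearMap.mem_ker]
  constructor
  · rintro ⟨x, rfl⟩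
    rw [← HHlin_comp, S.zero, HHlin_zero]
  · intro hy
    have hy' : (show Ext _ ((S.map (toAbF X)).X₂) i from y).comp
        (Ext.mk₀ (S.map (toAbF X)).g) (add_zero i) = 0 := hy
    obtain ⟨x₁, hx₁⟩ := Ext.covariant_sequence_exact₂ _ hS' _ hy'
    exact ⟨x₁, hx₁⟩

/-- multiplication by a scalar as an endomorphism of the underlying short complex of abelian sheaves -/
noncomputable def smulHom (S : ShortComplex X.Modules) (r : Coh.Γtop X) :
    S.map (toAbF X) ⟶ S.map (toAbF X) where
  τ₁ := Coh.smulAb S.X₁ r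
  τ₂ := Coh.smulAb S.X₂ r
  τ₃ := Coh.smulAb S.X₃ r
  comm₁₂ := (Canon.toSheaf_map_comp_smulAb S.f r).symm
  comm₂₃ := (Canon.toSheaf_map_comp_smulAb S.g r).symm

/-- the connecting homomorphism, as an `A`-linear map -/
noncomputable def δlin (S : ShortComplex X.Modules) (hS : S.ShortExact) (i : ℕ) :
    Coh.HH X S.X₃ i →ₗ[A] Coh.HH X S.X₁ (i + 1) where
  toFun x := Groth.Agent.Lib.Seat81.EdgeAb.extδ (shortExact_toAbF S hS) i
    (show Sheaf.H ((S.map (toAbF X)).X₃) i from x)
  map_add' _ _ := map_add (Groth.Agent.Lib.Seat81.EdgeAb.extδ (shortExact_toAbF S hS) i) _ _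
  map_smul' a x :=
    (Groth.Agent.Lib.Seat81.EdgeAb.map_extδ (shortExact_toAbF S hS) (shortExact_toAbF S hS)
      (smulHom S (Coh.toGlobal (X ↘ Spec (CommRingCat.of A)) a)) i x).symm

theorem δlin_apply (S : ShortComplex X.Modules) (hS : S.ShortExact) (i : ℕ) (x : Coh.HH X S.X₃ i) :
    δlin A S hS i x = (show Ext _ ((S.map (toAbF X)).X₃) i from x).comp
      (shortExact_toAbF S hS).extClass rfl := rfl

/-- exactness of the cohomology sequence at the right-hand term -/
theorem range_eq_ker_right (S : ShortComplex X.Modules) (hS : S.ShortExact) (i : ℕ) :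
    LinearMap.range (Canon.HHlin A S.g i) = LinearMap.ker (δlin A S hS i) := by
  have hS' := shortExact_toAbF S hS
  ext y
  rw [LinearMap.mem_range, LinearMap.mem_ker]
  constructor
  · rintro ⟨x, rfl⟩
    have h0 : (Ext.mk₀ (S.map (toAbF X)).g).comp hS'.extClass (zero_add 1) = 0 := hS'.comp_extClass
    have h1 : δlin A S hS i (Canon.HHlin A S.g i x) =
        ((show Ext _ ((S.map (toAbF X)).X₂) i from x).comp (Ext.mk₀ (S.map (toAbF X)).g) (add_zero i)).comp
          hS'.extClass rfl := rfl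
    rw [h1, Ext.comp_assoc _ _ _ (add_zero i) (zero_add 1) (by lia), h0, Ext.comp_zero]
    rfl
  · intro hy
    have hy' : (show Ext _ ((S.map (toAbF X)).X₃) i from y).comp hS'.extClass rfl = 0 := hy
    obtain ⟨x₂, hx₂⟩ := Ext.covariant_sequence_exact₃ _ hS' _ rfl hy'
    exact ⟨x₂, hx₂⟩

variable [IsNoetherianRing A]

/-- the middle term of a short exact sequence has finite cohomology if the outer ones do -/
theorem finite_mid (S : ShortComplex X.Modules) (hS : S.ShortExact) (i : ℕ)
    (h₁ : Module.Finite A (Coh.HH X S.X₁ i)) (h₃ : Module.Finite A (Coh.HH X S.X₃ i)) :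
    Module.Finite A (Coh.HH X S.X₂ i) := by
  have : IsNoetherian A (Coh.HH X S.X₁ i) := isNoetherian_of_isNoetherianRing_of_finite A _
  have : IsNoetherian A (Coh.HH X S.X₃ i) := isNoetherian_of_isNoetherianRing_of_finite A _
  have : IsNoetherian A (Coh.HH X S.X₂ i) :=
    isNoetherian_of_range_eq_ker _ _ (range_eq_ker_mid A S hS i)
  infer_instance

/-- the right-hand term of a short exact sequence has finite `H^i` if the middle one has and the
left-hand one has finite `H^{i+1}` -/
theorem finite_right (S : ShortComplex X.Modules) (hS : S.ShortExact) (i : ℕ)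
    (h₂ : Module.Finite A (Coh.HH X S.X₂ i)) (h₁ : Module.Finite A (Coh.HH X S.X₁ (i + 1))) :
    Module.Finite A (Coh.HH X S.X₃ i) := by
  have : IsNoetherian A (Coh.HH X S.X₂ i) := isNoetherian_of_isNoetherianRing_of_finite A _
  have : IsNoetherian A (Coh.HH X S.X₁ (i + 1)) := isNoetherian_of_isNoetherianRing_of_finite A _
  have : IsNoetherian A (Coh.HH X S.X₃ i) :=
    isNoetherian_of_range_eq_ker _ _ (range_eq_ker_right A S hS i)
  infer_instance

end Groth.Agent.Lib.Seat54.HHFinite
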