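/-
Seat63CohThick: coherent modules supported in a subset form an ObjectProperty closed under
isomorphisms, zero and kernels (`CohIn Y`); basic permanence of `Coh.IsCoh` (kernels, cokernels,
finite locally free, free) and of `CohB1.support` (mono/epi/iso/zero).
-/
import Mathlib
import Groth.Prelude.Def_CohB1
import Groth.Agent.Lib.Helper23QCohAbelian
import Groth.Agent.Lib.Helper23FinTypeLocal
import Groth.Agent.Lib.Helper23TensorQCoh
import Groth.Agent.Lib.Helper20StalkExact
import Groth.Agent.Lib.Helper18Epi1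
import Groth.Agent.Lib.Helper2LocFree
import Groth.Agent.Lib.Helper23FinType

set_option autoImplicit false
universe u
open CategoryTheory CategoryTheory.Limits AlgebraicGeometry

namespace Groth.Agent.Lib.Seat63.CohThick

variable {X : Scheme.{u}}

/-- coherent modules supported in `Y'` -/
def CohIn (Y' : Set X) : ObjectProperty X.Modules :=
  fun G => Coh.IsCoh G ∧ CohB1.support G ⊆ Y'

lemma isCoh_of_iso {M N : X.Modules} (e : M ≅ N) (h : Coh.IsCoh M) : Coh.IsCoh N := by
  have := h.1
  have := h.2
  exact ⟨Groth.Agent.Lib.Helper23.TensorQCoh.isQuasicoherent_of_iso e,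
    Groth.Agent.Lib.Helper23.FinType.isFiniteType_of_iso e⟩

lemma support_eq_of_iso {M N : X.Modules} (e : M ≅ N) : CohB1.support M = CohB1.support N := by
  ext x
  have e' := (TopCat.Presheaf.stalkFunctor AddCommGrpCat.{u} x).mapIso
    ((Scheme.Modules.toPresheaf X).mapIso e)
  exact not_congr (e'.addCommGroupIsoToAddEquiv.toEquiv.subsingleton_congr)

lemma isFiniteType_of_isFinitePresentation (M : X.Modules)
    (h : SheafOfModules.IsFinitePresentation (R := X.ringCatSheaf) M) :
    SheafOfModules.IsFiniteType (R := X.ringCatSheaf) M := by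
  obtain ⟨σ, hσ⟩ := h.exists_quasicoherentData
  constructor
  refine ⟨σ.localGeneratorsData, ?_⟩
  exact @SheafOfModules.QuasicoherentData.instIsFiniteTypeLocalGeneratorsDataOfIsFinitePresentation
    _ _ _ _ _ _ _ σ hσ

lemma isCoh_of_isFinLocFree (M : X.Modules) (hM : FlatMod.IsFinLocFree M) : Coh.IsCoh M := by
  have h : SheafOfModules.IsFinitePresentation (R := X.ringCatSheaf) M :=
    Groth.Agent.Lib.Helper2.LocFree.isFP_of_isFinLocFree _ hM
  have h3 : SheafOfModules.IsQuasicoherent (R := X.ringCatSheaf) M := by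
    obtain ⟨σ, hσ⟩ := h.exists_quasicoherentData
    exact σ.isQuasicoherent
  exact ⟨h3, isFiniteType_of_isFinitePresentation M h⟩

lemma isCoh_freeMod (m : ℕ) : Coh.IsCoh (FlatMod.freeMod X m) :=
  isCoh_of_isFinLocFree _
    (Groth.Agent.Lib.Helper2.LocFree.isFinLocFree_of_iso_freeMod (FlatMod.freeMod X m) (Iso.refl _))

lemma isCoh_kernel [IsLocallyNoetherian X] {M N : X.Modules} (f : M ⟶ N) (hM : Coh.IsCoh M)
    (hN : Coh.IsCoh N) : Coh.IsCoh (kernel f) := by
  have := hM.1
  have := hM.2
  have := hN.1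
  have hq : (kernel f).IsQuasicoherent :=
    Groth.Agent.Lib.Helper23.QCohLocal.isQuasicoherent_kernel f
  exact ⟨hq, Groth.Agent.Lib.Helper23.FinType.isFiniteType_of_mono (kernel.ι f)⟩

lemma isCoh_cokernel {M N : X.Modules} (f : M ⟶ N) (hM : Coh.IsCoh M)
    (hN : Coh.IsCoh N) : Coh.IsCoh (cokernel f) := by
  have := hM.1
  have := hN.1
  have := hN.2
  have hq : (cokernel f).IsQuasicoherent :=
    Groth.Agent.Lib.Helper23.QCohLocal.isQuasicoherent_cokernel f
  exact ⟨hq, Groth.Agent.Lib.Helper23.FinType.isFiniteType_of_epi (cokernel.π f)⟩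

lemma isCoh_of_isZero [IsLocallyNoetherian X] {Z : X.Modules} (hZ : IsZero Z) : Coh.IsCoh Z := by
  have h1 := isCoh_kernel (𝟙 (FlatMod.freeMod X 0)) (isCoh_freeMod 0) (isCoh_freeMod 0)
  exact isCoh_of_iso ((isZero_kernel_of_mono _).iso hZ) h1

lemma support_subset_of_mono {M N : X.Modules} (f : M ⟶ N) [Mono f] :
    CohB1.support M ⊆ CohB1.support N := by
  intro x hx hN
  apply hx
  let S : ShortComplex X.Modules := ShortComplex.mk f (cokernel.π f) (cokernel.condition f)
  have hS : S.ShortExact :=
    { exact := ShortComplex.exact_cokernel f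
      mono_f := inferInstanceAs (Mono f)
      epi_g := inferInstanceAs (Epi (cokernel.π f)) }
  exact ((Groth.Agent.Lib.Helper20.StalkExact.subsingleton_stalk_iff S hS x).1 hN).1

lemma support_subset_of_epi {M N : X.Modules} (f : M ⟶ N) [Epi f] :
    CohB1.support N ⊆ CohB1.support M := by
  intro x hx hM
  apply hx
  let S : ShortComplex X.Modules := ShortComplex.mk (kernel.ι f) f (kernel.condition f)
  have hS : S.ShortExact :=
    { exact := ShortComplex.exact_kernel f
      mono_f := inferInstanceAs (Mono (kernel.ι f))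
      epi_g := inferInstanceAs (Epi f) }
  exact ((Groth.Agent.Lib.Helper20.StalkExact.subsingleton_stalk_iff S hS x).1 hM).2

lemma support_eq_empty_of_isZero {Z : X.Modules} (hZ : IsZero Z) : CohB1.support Z = ∅ := by
  ext x
  simp only [CohB1.support, Set.mem_ofPred_eq, Set.mem_empty_iff_false, iff_false, not_not]
  exact Groth.Agent.Helper18Epi.subsingleton_stalk_of_isZero hZ x

variable (Y' : Set X)

instance : (CohIn Y').IsClosedUnderIsomorphisms :=
  ⟨fun e h => ⟨isCoh_of_iso e h.1, (support_eq_of_iso e) ▸ h.2⟩⟩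

open ZeroObject in
instance [IsLocallyNoetherian X] : (CohIn Y').ContainsZero :=
  ⟨⟨0, isZero_zero _, isCoh_of_isZero (isZero_zero _), by
    rw [support_eq_empty_of_isZero (isZero_zero _)]
    exact Set.empty_subset _⟩⟩

instance [IsLocallyNoetherian X] : (CohIn Y').IsClosedUnderKernels where
  kernels_le := by
    rintro _ ⟨f, k, hk, ⟨h1, h2⟩⟩
    have e : kernel f ≅ k.pt := (kernelIsKernel f).conePointUniqueUpToIso hk
    refine (CohIn Y').prop_of_iso e ⟨isCoh_kernel f h1.1 h2.1, ?_⟩
    exact (support_subset_of_mono (kernel.ι f)).trans h1.2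

end Groth.Agent.Lib.Seat63.CohThick
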