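import Groth.Agent.S1108
import Groth.Agent.S9815
import Groth.Agent.S0016
import Groth.Agent.Lib.Seat64TwistSES
import Groth.Agent.Lib.Seat54HHFinite
import Groth.Agent.S2357
import Groth.Agent.Lib.Helper27PnChart
import Groth.Agent.Lib.Helper27TwistAmple2
import Groth.Agent.Lib.Seat63CohThick

/-!
# Cohomological dimension on quasi-projective schemes can be tested on vector bundles (seat 49)

Namespace `Groth.Agent.Lib.Seat49.QProjVanish`.

* `isAmple_twistProjSpace_one`: `O(1)` is ample on `P^N_R` (`R` Noetherian).
* `hasResolutionProperty_of_immersion`: a scheme immersed in `P^N_k` has the resolution property and is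
  Noetherian.
* `subsingleton_HH_of_locFree`: descending induction.
-/

set_option autoImplicit false
set_option linter.style.haveILetI false
universe u
open CategoryTheory CategoryTheory.Limits AlgebraicGeometry

namespace Groth.Agent.Lib.Seat49.QProjVanish

/-- projective space over a Noetherian ring is a Noetherian scheme -/
theorem isNoetherian_projSpace (N : ℕ) (R : Type u) [CommRing R] [IsNoetherianRing R] :
    IsNoetherian (CohB1.ProjSpace N R) :=
  Groth.Agent.S2357.result (CohB1.polyGrading N R)

/-- `O(1)` is ample on projective space over a Noetherian ring -/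
theorem isAmple_twistProjSpace_one (N : ℕ) (R : Type u) [CommRing R] [IsNoetherianRing R] :
    CohB1.IsAmple (Twist.twistProjSpace N R 1) := by
  have hcov : ∀ y : Proj (CohB1.polyGrading N R), ∃ i : Fin (N + 1),
      (MvPolynomial.X i : MvPolynomial (Fin (N + 1)) R) ∉
        (show ProjectiveSpectrum (CohB1.polyGrading N R) from y).asHomogeneousIdeal := by
    intro y
    have hy : y ∈ (⨆ i : Fin (N + 1), Proj.basicOpen (CohB1.polyGrading N R) (MvPolynomial.X i)) := by
      rw [Groth.Agent.Lib.Helper27PnChart.iSup_basicOpen_X N R]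
      trivial
    obtain ⟨i, hi⟩ := TopologicalSpace.Opens.mem_iSup.mp hy
    exact ⟨i, (ProjectiveSpectrum.mem_basicOpen (CohB1.polyGrading N R) _ y).mp hi⟩
  haveI : IsNoetherian (Proj (CohB1.polyGrading N R)) :=
    Groth.Agent.S2357.result (CohB1.polyGrading N R)
  exact Groth.Agent.Lib.Helper27GrTildeSect.isAmple_of_cover (CohB1.polyGrading N R) 1
    (fun i : Fin (N + 1) => (MvPolynomial.X i : MvPolynomial (Fin (N + 1)) R))
    (Groth.Agent.Lib.Helper27PnChart.X_mem_one N R) hcov one_pos

variable {X : Scheme.{u}}

/-- descending induction along resolutions by finite locally free modules, for a property `P` of (module, degree) which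
passes to the right-hand term of a short exact sequence -/
theorem coh_prop_aux [IsLocallyNoetherian X] (hres : PerfAux.HasResolutionProperty X)
    (P : X.Modules → ℕ → Prop)
    (hright : ∀ (S : ShortComplex X.Modules), S.ShortExact → ∀ i : ℕ, P S.X₂ i → P S.X₁ (i + 1) → P S.X₃ i)
    (n d : ℕ) (hd : ∀ (M : X.Modules), Coh.IsQCoh M → ∀ p : ℕ, d ≤ p → P M p)
    (h : ∀ E : X.Modules, FlatMod.IsFinLocFree E → ∀ i : ℕ, n < i → P E i) :
    ∀ (m i : ℕ), d ≤ i + m → n < i → ∀ (F : X.Modules), Coh.IsCoh F → P F i := by
  intro m
  induction m with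
  | zero =>
    intro i hi _ F hF
    exact hd F hF.1 i (by omega)
  | succ m ih =>
    intro i hi hni F hF
    obtain ⟨E, π, hE, hπ⟩ := hres F hF.1 hF.2
    have hEc : Coh.IsCoh E := Groth.Agent.Lib.Seat63.CohThick.isCoh_of_isFinLocFree E hE
    let S : ShortComplex X.Modules := ShortComplex.mk (kernel.ι π) π (kernel.condition π)
    have hS : S.ShortExact :=
      { exact := ShortComplex.exact_kernel π
        mono_f := inferInstanceAs (Mono (kernel.ι π))
        epi_g := hπ }
    have hK : Coh.IsCoh (kernel π) := Groth.Agent.Lib.Seat63.CohThick.isCoh_kernel π hEc hF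
    exact hright S hS i (h E hE i hni) (ih (i + 1) (by omega) (by omega) (kernel π) hK)

/-- if finite locally free modules have no cohomology above `n`, and `X` is locally Noetherian with the resolution
property, neither do coherent modules -/
theorem subsingleton_HH_aux [IsLocallyNoetherian X] (hres : PerfAux.HasResolutionProperty X)
    (n d : ℕ) (hd : ∀ (M : X.Modules), Coh.IsQCoh M → ∀ p : ℕ, d ≤ p → Subsingleton (Coh.HH X M p))
    (h : ∀ E : X.Modules, FlatMod.IsFinLocFree E → ∀ i : ℕ, n < i → Subsingleton (Coh.HH X E i)) :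
    ∀ (m i : ℕ), d ≤ i + m → n < i → ∀ (F : X.Modules), Coh.IsCoh F →
      Subsingleton (Coh.HH X F i) :=
  coh_prop_aux hres (fun M i => Subsingleton (Coh.HH X M i))
    (fun S hS i h₂ h₁ => Groth.Agent.Lib.Seat64.TwistSES.subsingleton_HH_right S hS i h₂ h₁) n d hd h

/-- **Coherent cohomological dimension is detected by vector bundles** on a quasi-compact locally Noetherian scheme
with the resolution property. -/
theorem subsingleton_HH_of_resolutionProperty [IsLocallyNoetherian X] [CompactSpace X]
    (hres : PerfAux.HasResolutionProperty X) (n : ℕ)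
    (h : ∀ E : X.Modules, FlatMod.IsFinLocFree E → ∀ i : ℕ, n < i → Subsingleton (Coh.HH X E i))
    (F : X.Modules) (hF : Coh.IsCoh F) (i : ℕ) (hi : n < i) : Subsingleton (Coh.HH X F i) := by
  obtain ⟨d, hd⟩ := Groth.Agent.S0016.result X
  exact subsingleton_HH_aux hres n d hd h d i (by omega) hi F hF

/-- finiteness version -/
theorem finite_HH_of_resolutionProperty (A : Type u) [CommRing A] [IsNoetherianRing A]
    [X.Over (Spec (CommRingCat.of A))] [IsLocallyNoetherian X] [CompactSpace X]
    (hres : PerfAux.HasResolutionProperty X) (n : ℕ)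
    (h : ∀ E : X.Modules, FlatMod.IsFinLocFree E → ∀ i : ℕ, n < i → Module.Finite A (Coh.HH X E i))
    (F : X.Modules) (hF : Coh.IsCoh F) (i : ℕ) (hi : n < i) : Module.Finite A (Coh.HH X F i) := by
  obtain ⟨d, hd⟩ := Groth.Agent.S0016.result X
  exact coh_prop_aux hres (fun M i => Module.Finite A (Coh.HH X M i))
    (fun S hS i h₂ h₁ => Groth.Agent.Lib.Seat54.HHFinite.finite_right A S hS i h₂ h₁) n d
    (fun M hM p hp => by
      haveI := hd M hM p hp
      exact Module.Finite.of_finite) h d i (by omega) hi F hF

end Groth.Agent.Lib.Seat49.QProjVanish
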