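import Mathlib
import Groth.Agent.S1687
import Groth.Agent.Lib.Helper23IdealSec
import Groth.Agent.Lib.Seat20ResProp
import Groth.Agent.Lib.Seat20InvMod2
import Groth.Agent.Lib.Helper18Cart1
import Groth.Agent.Lib.Seat12RegUFD
import Groth.Agent.Lib.Helper5RLR
import Groth.Agent.Lib.Seat98PicCalc
import Groth.Agent.Lib.Helper2TensorInv
import Groth.Agent.Lib.Helper23SecTw7

/-!
# The resolution property for regular Noetherian schemes with affine diagonal (seat 49)

Namespace `Groth.Agent.Lib.Seat49.RegResProp`.

* `exists_section_of_dense_affine`: on a Noetherian scheme with affine diagonal, a dense affine open `U` outside of which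
  the local rings are factorial is contained... every point of `U` lies in an affine `X_s ⊆ U`, `s` a section of an
  invertible module (the dual of the ideal of an effective Cartier divisor supported on `X ∖ U`, S1687).
* `hasResolutionProperty_of_regular_of_dense`: resolution property when every point has a dense affine open neighbourhood
  (e.g. `X` irreducible) and `X` is regular.
-/

set_option autoImplicit false
set_option linter.style.haveILetI false
universe u
open CategoryTheory CategoryTheory.Limits AlgebraicGeometry TopologicalSpace Opposite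

namespace Groth.Agent.Lib.Seat49.RegResProp

open Groth.Agent.Lib.Seat98.PicCalc Groth.Agent.Lib.Helper23.SecTw Groth.Agent.Lib.Helper23.IdealSec

variable (X : Scheme.{u})

theorem ideal_eq_top_of_support_disjoint (𝓘 : X.IdealSheafData) (U : X.affineOpens)
    (h : ∀ y ∈ U.1, y ∉ 𝓘.support) : 𝓘.ideal U = ⊤ := by
  rw [← PrimeSpectrum.zeroLocus_empty_iff_eq_top]
  have h1 := U.2.fromSpec_image_zeroLocus (𝓘.ideal U : Set Γ(X, U.1))
  have h2 : X.zeroLocus (U := U.1) (𝓘.ideal U : Set Γ(X, U.1)) ∩ (U.1 : Set X) = ∅ := by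
    ext y
    simp only [Set.mem_inter_iff, Set.mem_empty_iff_false, iff_false, not_and]
    intro hy hyU
    exact h y hyU ((Scheme.IdealSheafData.mem_support_iff_of_mem (I := 𝓘) (U := U) hyU).2 hy)
  rw [h2] at h1
  exact Set.image_eq_empty.1 h1

theorem exists_section_of_dense_affine [IsNoetherian X]
    (hΔ : ∀ V W : X.Opens, IsAffineOpen V → IsAffineOpen W → IsAffineOpen (V ⊓ W))
    (U : X.Opens) (hU : IsAffineOpen U) (hdense : Dense (U : Set X))
    (hufd : ∀ x : X, x ∉ U → IsDomain (X.presheaf.stalk x) ∧ UniqueFactorizationMonoid (X.presheaf.stalk x))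
    (x : X) (hx : x ∈ U) :
    ∃ (P : X.Modules) (_ : PicF.IsInvertible P) (s : Coh.structureModule X ⟶ P),
      x ∈ CohB1.genLocus P s ∧ IsAffineOpen (CohB1.genLocus P s) := by
  obtain ⟨𝓘, hcart, hsupp⟩ := Groth.Agent.S1687.result X hΔ U hU hdense hufd
  have hJinv : PicF.IsInvertible (ClSub.idealMod 𝓘) :=
    Groth.Agent.Helper18Cart.isInvertible_of_isEffCartier 𝓘 hcart
  obtain ⟨P, ⟨θ⟩⟩ := Groth.Agent.Lib.Seat20.InvMod.exists_inverse (ClSub.idealMod 𝓘) hJinv
  have hP : PicF.IsInvertible P := Groth.Agent.Lib.Helper2.TensorInv.isInvertible_of_tensor_iso P _ θ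
  let θ' : CohB1.tensorMod (ClSub.idealMod 𝓘) P ≅ Coh.structureModule X := tComm _ _ ≪≫ θ
  let c : FlatMod.freeMod X 1 ≅ Coh.structureModule X :=
    coproductUniqueIso (fun _ : Fin 1 => Coh.structureModule X)
  let p : FlatMod.freeMod X 1 ⟶ CohB1.tensorMod (ClSub.idealMod 𝓘) P := c.hom ≫ θ'.inv
  haveI : Epi p := inferInstance
  have hJU : 𝓘.ideal ⟨U, hU⟩ = ⊤ := by
    apply ideal_eq_top_of_support_disjoint
    intro y hyU hy
    have : y ∈ (𝓘.support : Set X) := hy
    rw [hsupp] at this
    exact this hyU
  obtain ⟨σ, hσ⟩ := exists_section_mem_genLocus 𝓘 P hP ⟨U, hU⟩ hJU p x hx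
  have hle := genLocus_comp_mulHom_le 𝓘 P hP U (fun y hy => by
    have : y ∈ (𝓘.support : Set X) := by rw [hsupp]; exact hy
    exact this) σ
  refine ⟨P, hP, _, hσ, ?_⟩
  have h3 := isAffineOpen_inf_genLocus P hP
    (σ ≫ Groth.Agent.Lib.Helper23.TensorMap.mulHom (ClSub.idealModι 𝓘) P) U hU
  rwa [inf_eq_right.2 hle] at h3

/-- resolution property for a Noetherian scheme with affine diagonal and regular local rings in which every point has a
dense affine open neighbourhood -/
theorem hasResolutionProperty_of_regular_of_dense [IsNoetherian X]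
    (hΔ : ∀ V W : X.Opens, IsAffineOpen V → IsAffineOpen W → IsAffineOpen (V ⊓ W))
    (hreg : ∀ x : X, IsRegularLocalRing (X.presheaf.stalk x))
    (hd : ∀ x : X, ∃ U : X.Opens, IsAffineOpen U ∧ Dense (U : Set X) ∧ x ∈ U) :
    PerfAux.HasResolutionProperty X := by
  apply Groth.Agent.Lib.Seat20.ResProp.hasResolutionProperty_of_cover
  intro x
  obtain ⟨U, hU, hdense, hx⟩ := hd x
  refine exists_section_of_dense_affine X hΔ U hU hdense (fun y _ => ?_) x hx
  haveI := hreg y
  haveI : IsDomain (X.presheaf.stalk y) := Groth.Agent.Lib.Helper5.isDomain_of_isRegularLocalRing _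
  exact ⟨inferInstance, Groth.Agent.Lib.Seat12.RegUFD.ufd_of_isRegularLocalRing _⟩

/-- resolution property for an integral Noetherian separated regular scheme -/
theorem hasResolutionProperty_of_regular_of_integral [IsNoetherian X] [X.IsSeparated] [IsIntegral X]
    (hreg : ∀ x : X, IsRegularLocalRing (X.presheaf.stalk x)) :
    PerfAux.HasResolutionProperty X := by
  apply hasResolutionProperty_of_regular_of_dense X (fun V W hV hW => hV.inf hW) hreg
  intro x
  obtain ⟨U, hU, hxU, -⟩ := Opens.isBasis_iff_nbhd.1 X.isBasis_affineOpens (Opens.mem_top x)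
  refine ⟨U, hU, ?_, hxU⟩
  exact U.2.dense ⟨x, hxU⟩

variable {X}

/-- a scheme of finite type over a Noetherian ring is Noetherian -/
theorem isNoetherian_of_finiteType (A : Type u) [CommRing A] [IsNoetherianRing A]
    (f : X ⟶ Spec (CommRingCat.of A)) [LocallyOfFiniteType f] [QuasiCompact f] : IsNoetherian X := by
  haveI : IsNoetherianRing ↑(CommRingCat.of A) := inferInstanceAs (IsNoetherianRing A)
  haveI : IsLocallyNoetherian X := LocallyOfFiniteType.isLocallyNoetherian f
  haveI : CompactSpace X := QuasiCompact.compactSpace_of_compactSpace f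
  exact {}

/-- a scheme separated over an affine scheme is separated -/
theorem isSeparated_of_isSeparated_affine {Y : Scheme.{u}} [IsAffine Y] (f : X ⟶ Y) [IsSeparated f] :
    X.IsSeparated := by
  refine ⟨?_⟩
  rw [← terminal.comp_from f]
  infer_instance

end Groth.Agent.Lib.Seat49.RegResProp
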