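import Mathlib
import Groth.Agent.Lib.Seat49SkyInj
import Groth.Agent.Lib.Helper1StalkTensorC
import Groth.Agent.Lib.Helper2QcPush
import Groth.Agent.Lib.Helper23QCohLocal

/-!
# The modules `ι_{x,*} N~` for power torsion `N` are skyscrapers (helper49)

Namespace `Groth.Agent.Lib.Seat49.SkyPush`.  With helper1's `GNF x : N ↦ ι_{x,*} N~` (`ι_x : Spec O_{X,x} ⟶ X`):

* `isIso_toSky_GNF`: for `N` killed elementwise by powers of elements of the maximal ideal, `ι_{x,*} N~` is the
  skyscraper at `x` with value its stalk.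
* `injective_GNF`: if moreover `N` is an injective `O_{X,x}`-module, `ι_{x,*} N~` is an injective `O_X`-module.
* `isQuasicoherent_GNF`: `ι_{x,*} N~` is quasi-coherent on a locally Noetherian scheme (helper23's direct images).
-/

set_option autoImplicit false
set_option linter.style.haveILetI false
universe u
open CategoryTheory CategoryTheory.Limits AlgebraicGeometry TopologicalSpace Opposite

theorem Module.Injective.of_linearEquiv' {R : Type u} {M N : Type u} [Ring R] [AddCommGroup M]
    [AddCommGroup N] [Module R M] [Module R N] (e : M ≃ₗ[R] N) (hM : Module.Injective R M) :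
    Module.Injective R N := by
  have := Module.Baer.of_injective hM
  apply Module.Baer.injective
  intro I g
  obtain ⟨l, hl⟩ := this I (e.symm.toLinearMap.comp g)
  refine ⟨e.toLinearMap.comp l, fun x hx => ?_⟩
  simp [hl x hx]

namespace Groth.Agent.Lib.Seat49.SkyPush

open Groth.Agent.Lib.Helper1.Sky Groth.Agent.Lib.Helper1.StalkTensor Groth.Agent.Lib.Seat49.SkyInj
open Groth.Agent.Lib.Helper2.QcPush

noncomputable section

/-- sections of `N~` over an open not containing the closed point vanish, for `N` power torsion -/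
theorem subsingleton_sections_of_closedPoint_notMem {R : CommRingCat.{u}} [IsLocalRing R]
    (N : ModuleCat.{u} R)
    (hN : ∀ f ∈ IsLocalRing.maximalIdeal R, ∀ n : N, ∃ k : ℕ, f ^ k • n = 0)
    (V : (Spec R).Opens) (hV : IsLocalRing.closedPoint R ∉ V) : Subsingleton Γ(tilde N, V) := by
  refine ⟨fun s t => ?_⟩
  rw [← sub_eq_zero]
  apply section_eq_zero_of_cover (tilde N) V (s - t)
  intro y hy
  obtain ⟨_, ⟨_, ⟨f, rfl⟩, rfl⟩, hyf, hfV⟩ :=
    PrimeSpectrum.isBasis_basic_opens.exists_subset_of_mem_open hy V.2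
  refine ⟨PrimeSpectrum.basicOpen f, hfV, hyf, ?_⟩
  have hf : f ∈ IsLocalRing.maximalIdeal R := by
    by_contra h
    apply hV
    apply hfV
    exact (PrimeSpectrum.mem_basicOpen f _).2 h
  haveI : Subsingleton ↑((tilde N).presheaf.obj (op (PrimeSpectrum.basicOpen f))) :=
    subsingleton_sections_of_torsion N f (hN f hf)
  exact Subsingleton.elim _ _

variable {X : Scheme.{u}} (x : X)

/-- `ι_{x,*} N~` is the skyscraper at `x` with value `N`, if `N` is power torsion -/
theorem isIso_toSky_GNF (N : ModuleCat.{u} (X.presheaf.stalk x))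
    (hN : ∀ f ∈ IsLocalRing.maximalIdeal (X.presheaf.stalk x), ∀ n : N, ∃ k : ℕ, f ^ k • n = 0) :
    IsIso (toSky x ((GNF x).obj N)) := by
  refine isIso_toSky x ((GNF x).obj N) (fun U : X.Opens => U) ?_ ?_ ?_
  · rw [Set.range_id']
    exact Opens.isBasis_iff_nbhd.2 fun {U y} hy => ⟨U, trivial, hy, le_rfl⟩
  · intro U hx
    constructor
    · intro s t hst
      obtain ⟨n, rfl⟩ := (toSec_bijective N hx).2 s
      obtain ⟨n', rfl⟩ := (toSec_bijective N hx).2 t
      rw [← ψ_eq N hx, ← ψ_eq N hx] at hst
      rw [ψ_injective N hst]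
    · intro a
      obtain ⟨n, rfl⟩ := ψ_surjective N a
      exact ⟨toSec N U n, (ψ_eq N hx n).symm⟩
  · intro U hx
    apply subsingleton_sections_of_closedPoint_notMem N hN ((ιx x) ⁻¹ᵁ U)
    intro h
    apply hx
    have h2 : (ιx x) (IsLocalRing.closedPoint (X.presheaf.stalk x)) ∈ U := h
    rwa [Scheme.fromSpecStalk_closedPoint] at h2

theorem injective_GNF [IsLocallyNoetherian X] (N : ModuleCat.{u} (X.presheaf.stalk x))
    (hinj : Module.Injective (X.presheaf.stalk x) N)
    (hN : ∀ f ∈ IsLocalRing.maximalIdeal (X.presheaf.stalk x), ∀ n : N, ∃ k : ℕ, f ^ k • n = 0) :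
    Injective ((GNF x).obj N) := by
  haveI := isIso_toSky_GNF x N hN
  have h1 : Module.Injective (Groth.Agent.Lib.Helper1.Sky.Ox x) (St (toPM ((GNF x).obj N)) x) :=
    Module.Injective.of_linearEquiv' (ψLin N) hinj
  haveI : Injective (skyMod x ((stalkFun x).obj ((GNF x).obj N))) := injective_skyMod' x _ h1
  exact Injective.of_iso (asIso (toSky x ((GNF x).obj N))).symm inferInstance

theorem isQuasicoherent_GNF [IsLocallyNoetherian X] (N : ModuleCat.{u} (X.presheaf.stalk x)) :
    ((GNF x).obj N).IsQuasicoherent :=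
  Groth.Agent.Lib.Helper23.QCohLocal.isQuasicoherent_pushforward (ιx x) (tilde N)

end

end Groth.Agent.Lib.Seat49.SkyPush
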