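import Mathlib
import Groth.Agent.Lib.Seat49QCohInj
import Groth.Agent.Lib.Seat49SkyPush

/-!
# Stalks of injective `O_X`-modules on locally Noetherian schemes (helper49)

Namespace `Groth.Agent.Lib.Seat49.StalkInj`.

* `exists_lift_of_fp`: a semilinear map from a finitely presented module to a filtered colimit lifts to a stage.
* `injective_of_directed`: filtered colimits of injective modules over a Noetherian ring (which are modules over a
  localization at a prime) are injective over the localization.
* `injective_secR`: sections of an injective module on `Spec R` over any open are injective `R`-modules.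
* `injective_stalk_spec`: stalks of injective modules on `Spec R`, `R` Noetherian, are injective.
* `τ`, `τ_gm`, `τ_smul`, `σ`: the stalk of `j^* F` at `u` is the stalk of `F` at `j u`, semilinearly along the stalk map.
* `injective_stalk_of_restrict`, `injective_stalk_restrict`: injectivity of stalks transfers along open immersions.
* `injective_stalk_of_injective`: stalks of injective modules on locally Noetherian schemes are injective.
-/

set_option autoImplicit false
set_option linter.style.haveILetI false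
universe u
open CategoryTheory CategoryTheory.Limits AlgebraicGeometry TopologicalSpace Opposite

namespace Groth.Agent.Lib.Seat49.StalkInj

section Algebra

variable {R S : Type*} [CommRing R] [CommRing S] (α : R →+* S)
  {N : Type*} [AddCommGroup N] [Module R N]
  {ι : Type*} [Preorder ι] [IsDirected ι (· ≤ ·)] [Nonempty ι]
  (P : ι → Type*) [∀ i, AddCommGroup (P i)] [∀ i, Module R (P i)]
  (r : ∀ {i j : ι}, i ≤ j → P i →ₗ[R] P j)
  {Q : Type*} [AddCommGroup Q] [Module S Q] (g : ∀ i, P i →ₛₗ[α] Q)

include r g in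
/-- a semilinear map from a finitely presented module to a filtered colimit lifts to some stage -/
theorem exists_lift_of_fp [Module.FinitePresentation R N]
    (hr : ∀ {i j k : ι} (h₁ : i ≤ j) (h₂ : j ≤ k) (s : P i), r h₂ (r h₁ s) = r (h₁.trans h₂) s)
    (hg : ∀ {i j : ι} (h : i ≤ j) (s : P i), g j (r h s) = g i s)
    (hsurj : ∀ q : Q, ∃ i, ∃ s : P i, g i s = q)
    (hinj : ∀ i (s : P i), g i s = 0 → ∃ j, ∃ h : i ≤ j, r h s = 0)
    (ψ : N →ₛₗ[α] Q) : ∃ i, ∃ ψ' : N →ₗ[R] P i, ∀ n, g i (ψ' n) = ψ n := by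
  obtain ⟨n, m, f, g', hf, hex⟩ := Module.FinitePresentation.exists_fin' R N
  -- lift the images of the generators
  choose i₀ s₀ hs₀ using fun k : Fin n => hsurj (ψ (f (Pi.single k 1)))
  obtain ⟨i₁, hi₁⟩ := Finite.exists_le i₀
  let s₁ : Fin n → P i₁ := fun k => r (hi₁ k) (s₀ k)
  have hs₁ : ∀ k, g i₁ (s₁ k) = ψ (f (Pi.single k 1)) := fun k => by
    rw [hg, hs₀]
  let lam : (Fin n → R) →ₗ[R] P i₁ := Fintype.linearCombination R s₁
  have hlam : ∀ v, g i₁ (lam v) = ψ (f v) := by
    intro v
    have hv : v = ∑ k, v k • (Pi.single k (1 : R) : Fin n → R) := by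
      ext l
      simp [Finset.sum_apply, Pi.single_apply]
    have h1 : lam v = ∑ k, v k • s₁ k := Fintype.linearCombination_apply R s₁ v
    rw [h1, map_sum]
    conv_rhs => rw [hv, map_sum, map_sum]
    refine Finset.sum_congr rfl fun k _ => ?_
    rw [map_smulₛₗ, hs₁, map_smul, map_smulₛₗ]
  -- kill the relations
  have h0 : ∀ l : Fin m, g i₁ (lam (g' (Pi.single l 1))) = 0 := by
    intro l
    rw [hlam, hex.apply_apply_eq_zero, map_zero]
  choose j₀ hj₀ hr₀ using fun l : Fin m => hinj i₁ _ (h0 l)
  obtain ⟨i₂', hi₂'⟩ := Finite.exists_le j₀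
  obtain ⟨i₂, h12', h12⟩ := directed_of (· ≤ ·) i₂' i₁
  let lam' : (Fin n → R) →ₗ[R] P i₂ := (r h12).comp lam
  have hker : LinearMap.ker f ≤ LinearMap.ker lam' := by
    intro v hv
    obtain ⟨w, rfl⟩ := (hex v).1 hv
    have hcomp : lam'.comp g' = 0 := by
      apply LinearMap.pi_ext'
      intro l
      apply LinearMap.ext_ring
      simp only [LinearMap.coe_comp, Function.comp_apply, LinearMap.coe_single, LinearMap.zero_apply,
        lam']
      have : r h12 (lam (g' (Pi.single l 1))) =
          r ((hi₂' l).trans h12') (r (hj₀ l) (lam (g' (Pi.single l 1)))) := by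
        rw [hr]
      rw [this, hr₀, map_zero]
    exact LinearMap.congr_fun hcomp w
  let e := f.quotKerEquivOfSurjective hf
  let ψ' : N →ₗ[R] P i₂ := ((LinearMap.ker f).liftQ lam' hker).comp e.symm.toLinearMap
  refine ⟨i₂, ψ', fun n => ?_⟩
  obtain ⟨v, rfl⟩ := hf n
  have he : e.symm (f v) = Submodule.Quotient.mk v := by
    apply e.injective
    rw [LinearEquiv.apply_symm_apply]
    rfl
  have h2 : ψ' (f v) = lam' v := by
    simp only [ψ', LinearMap.coe_comp, Function.comp_apply, LinearEquiv.coe_coe, he,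
      Submodule.liftQ_apply]
  rw [h2]
  simp only [lam', LinearMap.coe_comp, Function.comp_apply]
  rw [hg, hlam]

end Algebra

section Baer

variable {R S : Type u} [CommRing R] [CommRing S] [Algebra R S]
  {ι : Type*} [Preorder ι] [IsDirected ι (· ≤ ·)] [Nonempty ι]
  (P : ι → Type u) [∀ i, AddCommGroup (P i)] [∀ i, Module R (P i)]
  (r : ∀ {i j : ι}, i ≤ j → P i →ₗ[R] P j)
  {Q : Type u} [AddCommGroup Q] [Module S Q] (g : ∀ i, P i →ₛₗ[algebraMap R S] Q)

include r g in
/-- a filtered colimit of injective modules over a Noetherian ring `R`, which is a module over a localization `S` of `R`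
at a prime, is an injective `S`-module -/
theorem injective_of_directed [IsNoetherianRing R] (p : Ideal R) [p.IsPrime] [IsLocalization.AtPrime S p]
    (hr : ∀ {i j k : ι} (h₁ : i ≤ j) (h₂ : j ≤ k) (s : P i), r h₂ (r h₁ s) = r (h₁.trans h₂) s)
    (hg : ∀ {i j : ι} (h : i ≤ j) (s : P i), g j (r h s) = g i s)
    (hsurj : ∀ q : Q, ∃ i, ∃ s : P i, g i s = q)
    (hinj : ∀ i (s : P i), g i s = 0 → ∃ j, ∃ h : i ≤ j, r h s = 0)
    (hP : ∀ i, Module.Injective R (P i)) : Module.Injective S Q := by
  apply Module.Baer.injective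
  intro 𝔞 γ
  let 𝔟 : Ideal R := 𝔞.comap (algebraMap R S)
  haveI : Module.FinitePresentation R 𝔟 := Module.finitePresentation_of_finite R 𝔟
  let ψ : 𝔟 →ₛₗ[algebraMap R S] Q :=
    { toFun := fun b => γ ⟨algebraMap R S b.1, b.2⟩
      map_add' := fun b b' => by
        rw [← map_add]
        congr 1
        exact Subtype.ext (map_add _ _ _)
      map_smul' := fun c b => by
        rw [← map_smul]
        congr 1
        exact Subtype.ext (by simp [Algebra.smul_def]) }
  obtain ⟨i, ψ', hψ'⟩ := exists_lift_of_fp (algebraMap R S) P r g hr hg hsurj hinj ψ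
  obtain ⟨χ, hχ⟩ := Module.Baer.of_injective (hP i) 𝔟 ψ'
  let τ : Q := g i (χ 1)
  refine ⟨LinearMap.toSpanSingleton S Q τ, fun a ha => ?_⟩
  obtain ⟨⟨b, s⟩, hbs⟩ := IsLocalization.surj p.primeCompl a
  simp only at hbs
  have hb : b ∈ 𝔟 := by
    change algebraMap R S b ∈ 𝔞
    rw [← hbs]
    exact 𝔞.mul_mem_right _ ha
  have h1 : algebraMap R S b • τ = γ ⟨algebraMap R S b, hb⟩ := by
    have e1 : χ b = ψ' ⟨b, hb⟩ := hχ b hb
    have e2 : χ b = b • χ 1 := by
      rw [← map_smul, smul_eq_mul, mul_one]
    have e3 := hψ' ⟨b, hb⟩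
    rw [← e1, e2, map_smulₛₗ] at e3
    exact e3
  have hu : IsUnit (algebraMap R S s.1) := IsLocalization.map_units S s
  have h2 : algebraMap R S s.1 • γ ⟨a, ha⟩ = algebraMap R S s.1 • (a • τ) := by
    have e : algebraMap R S s.1 • (⟨a, ha⟩ : 𝔞) = ⟨algebraMap R S b, hb⟩ :=
      Subtype.ext (by
        change algebraMap R S s.1 * a = algebraMap R S b
        rw [mul_comm, hbs])
    rw [← map_smul γ, e, ← h1, smul_smul, mul_comm, hbs]
  have h3 : γ ⟨a, ha⟩ = a • τ := by
    obtain ⟨c, hc⟩ := hu.exists_left_inv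
    have := congrArg (fun q => c • q) h2
    simp only [← mul_smul] at this
    rw [← mul_assoc, hc, one_mul] at this
    rw [one_smul] at this
    exact this
  rw [h3]
  rfl

end Baer

open Groth.Agent.Lib.Helper1.Sky Groth.Agent.Lib.Helper1.StalkTensor Groth.Agent.Lib.Seat49.SkyInj
open Groth.Agent.Lib.Seat49.NoethObj Groth.Agent.Lib.Seat49.QCohInj

noncomputable section

theorem bijective_rs_of_eq {X : Scheme.{u}} (G : X.Modules) {V₁ V₂ : X.Opens} (k : V₁ ⟶ V₂) (h : V₁ = V₂) :
    Function.Bijective (rs (toPM G) k) := by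
  subst h
  have : rs (toPM G) k = AddMonoidHom.id _ := by
    ext s
    exact rs_self G k s
  rw [this]
  exact Function.bijective_id

variable {R : CommRingCat.{u}}

instance preservesMonomorphisms_tilde : (tilde.functor R).PreservesMonomorphisms where
  preserves {A B} f hf := by
    have he : Function.Injective f.hom := (ModuleCat.mono_iff_injective f).1 hf
    exact mono_of_app_injective _ (fun V => tilde_map_app_injective f he V)

variable (G : (Spec R).Modules)

/-- sections as `R`-module -/
abbrev secR (W : (Spec R).Opens) : ModuleCat.{u} R := (modulesSpecToSheaf.obj G).presheaf.obj (op W)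

theorem injective_secR [Injective G] (W : (Spec R).Opens) : Module.Injective R (secR G W) := by
  let H := (Scheme.Modules.pushforward W.ι).obj ((Scheme.Modules.restrictFunctor W.ι).obj G)
  haveI : Injective H := injective_pushforward W.ι _ (injective_restrict W.ι G inferInstance)
  haveI h1 : Injective (moduleSpecΓFunctor.obj H) := tilde.adjunction.map_injective H inferInstance
  have h2 : Module.Injective R (secR H ⊤) := Module.injective_module_of_injective_object R _ (inj := h1)
  let η := (Scheme.Modules.restrictAdjunction W.ι).unit.app G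
  let a : secR H ⊤ ⟶ secR H W := (modulesSpecToSheaf.obj H).presheaf.map (homOfLE le_top).op
  let b : secR G W ⟶ secR H W := (modulesSpecToSheaf.map η).1.app (op W)
  have himg : ∀ V : (Spec R).Opens, W ≤ V → W.ι ''ᵁ (W.ι ⁻¹ᵁ V) = W := by
    intro V hV
    ext z
    constructor
    · rintro ⟨w, -, rfl⟩
      exact w.2
    · intro hz
      exact ⟨⟨z, hz⟩, hV hz, rfl⟩
  have ha : Function.Bijective a.hom := by
    have hle : W.ι ''ᵁ (W.ι ⁻¹ᵁ W) ≤ W.ι ''ᵁ (W.ι ⁻¹ᵁ ⊤) := by
      rw [himg W le_rfl, himg ⊤ le_top]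
    exact bijective_rs_of_eq G (homOfLE hle) ((himg W le_rfl).trans (himg ⊤ le_top).symm)
  have hb : Function.Bijective b.hom := by
    exact bijective_rs_of_eq G (homOfLE (W.ι.image_preimage_le W)) (himg W le_rfl)
  have h3 : Module.Injective R (secR H W) :=
    Module.Injective.of_linearEquiv' (LinearEquiv.ofBijective a.hom ha) h2
  exact Module.Injective.of_linearEquiv' (LinearEquiv.ofBijective b.hom hb).symm h3


variable (x : PrimeSpectrum R)

/-- the canonical map to the stalk -/
def α : R →+* Groth.Agent.Lib.Helper1.Sky.Ox (X := Spec R) x := (StructureSheaf.toStalk R x).hom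

theorem secR_smul (W : (Spec R).Opens) (r : R) (s : (toPM G).obj (op W)) :
    ((r • (show secR G W from s) : secR G W) : (toPM G).obj (op W)) =
    (rr (Spec R).presheaf (homOfLE (le_top : W ≤ ⊤)) ((Scheme.ΓSpecIso R).inv.hom r)) • s := rfl

theorem α_eq (r : R) : α x r =
  gr (Spec R).presheaf (x : Spec R) ⊤ trivial ((Scheme.ΓSpecIso R).inv.hom r) := rfl

theorem isLocalization_α : @IsLocalization.AtPrime _ _ (Groth.Agent.Lib.Helper1.Sky.Ox (X := Spec R) x) _ (α x).toAlgebra x.asIdeal _ :=
  inferInstanceAs (IsLocalization.AtPrime ((structurePresheafInCommRingCat R).stalk x) x.asIdeal)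


/-- open neighbourhoods of `x`, ordered by reverse inclusion -/
structure Nhd where
  /-- the open set -/
  W : (Spec R).Opens
  mem : (x : Spec R) ∈ W

instance : Preorder (Nhd x) := Preorder.lift (fun a => OrderDual.toDual a.W)

instance : IsDirected (Nhd x) (· ≤ ·) :=
  ⟨fun a b => ⟨⟨a.W ⊓ b.W, ⟨a.mem, b.mem⟩⟩, (inf_le_left : a.W ⊓ b.W ≤ a.W),
    (inf_le_right : a.W ⊓ b.W ≤ b.W)⟩⟩

instance : Nonempty (Nhd x) := ⟨⟨⊤, trivial⟩⟩

theorem Nhd.le {a b : Nhd x} (h : a ≤ b) : b.W ≤ a.W := h

/-- the stalks of an injective module on the spectrum of a Noetherian ring are injective -/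
theorem injective_stalk_spec [IsNoetherianRing R] [Injective G] :
    Module.Injective (Groth.Agent.Lib.Helper1.Sky.Ox (X := Spec R) x) (St (toPM G) (x : Spec R)) := by
  letI : Algebra R (Groth.Agent.Lib.Helper1.Sky.Ox (X := Spec R) x) := (α x).toAlgebra
  haveI := isLocalization_α x
  refine injective_of_directed (R := R) (S := Groth.Agent.Lib.Helper1.Sky.Ox (X := Spec R) x)
    (ι := Nhd x) (fun a => secR G a.W)
    (fun {a b} h => ((modulesSpecToSheaf.obj G).presheaf.map (homOfLE (Nhd.le x h)).op).hom)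
    (fun a =>
      { toFun := gm (toPM G) (x : Spec R) a.W a.mem
        map_add' := map_add _
        map_smul' := fun c s => by
          have h1 := secR_smul G a.W c s
          have h2 := gm_smul (P := toPM G) (x := (x : Spec R)) a.mem
            (rr (Spec R).presheaf (homOfLE (le_top : a.W ≤ ⊤)) ((Scheme.ΓSpecIso R).inv.hom c)) s
          rw [gr_rr] at h2
          exact (congrArg (gm (toPM G) (x : Spec R) a.W a.mem) h1).trans h2 })
    x.asIdeal ?_ ?_ ?_ ?_ (fun a => injective_secR G a.W)
  · intro a b c h₁ h₂ s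
    exact rs_rs (P := toPM G) (homOfLE (Nhd.le x h₁)) (homOfLE (Nhd.le x h₂)) s
  · intro a b h s
    exact gm_rs (P := toPM G) (homOfLE (Nhd.le x h)) b.mem s
  · intro q
    obtain ⟨W, hW, s, rfl⟩ := exists_gm_eq q
    exact ⟨⟨W, hW⟩, s, rfl⟩
  · intro a s hs
    have h0 : gm (toPM G) (x : Spec R) a.W a.mem s = gm (toPM G) (x : Spec R) a.W a.mem 0 := by
      rw [map_zero]
      exact hs
    obtain ⟨W', hW', i₁, i₂, e⟩ := gm_eq a.mem a.mem _ _ h0
    rw [map_zero] at e
    exact ⟨⟨W', hW'⟩, i₁.le, e⟩

/-! ### transfer of stalks along open immersions -/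

section Transfer

variable {U X : Scheme.{u}} (j : U ⟶ X) [IsOpenImmersion j] (F : X.Modules) (u : U)

/-- the comparison of stalks -/
def τ : St (toPM (F.restrict j)) u →+ St (toPM F) (j u) :=
  ((Scheme.Modules.restrictStalkNatIso j u).app F).hom.hom

theorem τ_gm (W : U.Opens) (hu : u ∈ W) (s : (toPM (F.restrict j)).obj (op W)) :
    τ j F u (gm (toPM (F.restrict j)) u W hu s) =
      gm (toPM F) (j u) (j ''ᵁ W) ⟨u, hu, rfl⟩ s := by
  have h := Scheme.Modules.germ_restrictStalkNatIso_hom_app j u F hu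
  exact congrArg (fun k => k.hom s) h

theorem τ_bijective : Function.Bijective (τ j F u) :=
  ConcreteCategory.bijective_of_isIso ((Scheme.Modules.restrictStalkNatIso j u).app F).hom

theorem stalkMap_gr (W : U.Opens) (hu : u ∈ W) (t : Γ(X, j ''ᵁ W)) :
    (j.stalkMap u).hom (gr X.presheaf (j u) (j ''ᵁ W) ⟨u, hu, rfl⟩ t) =
      gr U.presheaf u W hu ((j.appIso W).hom.hom t) := by
  have h1 := Scheme.Hom.germ_stalkMap_apply j (j ''ᵁ W) u ⟨u, hu, rfl⟩ t
  refine h1.trans ?_
  rw [Scheme.Hom.appIso_hom]
  exact (TopCat.Presheaf.germ_res_apply U.presheaf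
    (eqToHom (j.preimage_image_eq W).symm) u hu (j.app (j ''ᵁ W) t)).symm

theorem restrict_smul (W : U.Opens) (r : Γ(U, W)) (s : (toPM (F.restrict j)).obj (op W)) :
    (r • s : (toPM (F.restrict j)).obj (op W)) =
      (((j.appIso W).inv.hom r) • (show (toPM F).obj (op (j ''ᵁ W)) from s) : (toPM F).obj (op (j ''ᵁ W))) := rfl


theorem τ_smul_aux (W : U.Opens) (hu : u ∈ W) (t : Γ(X, j ''ᵁ W))
    (s : (toPM (F.restrict j)).obj (op W)) :
    τ j F u ((j.stalkMap u).hom (gr X.presheaf (j u) (j ''ᵁ W) ⟨u, hu, rfl⟩ t) •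
      gm (toPM (F.restrict j)) u W hu s) =
    gr X.presheaf (j u) (j ''ᵁ W) ⟨u, hu, rfl⟩ t • τ j F u (gm (toPM (F.restrict j)) u W hu s) := by
  rw [stalkMap_gr j u W hu, ← gm_smul, τ_gm, τ_gm, restrict_smul]
  have h : (j.appIso W).inv.hom ((j.appIso W).hom.hom t) = t := by
    rw [← CommRingCat.comp_apply, Iso.hom_inv_id]
    rfl
  rw [h]
  exact gm_smul (P := toPM F) (x := j u) _ t s

theorem τ_smul (c : Groth.Agent.Lib.Helper1.Sky.Ox (j u)) (m : St (toPM (F.restrict j)) u) :
    τ j F u ((j.stalkMap u).hom c • m) = c • τ j F u m := by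
  obtain ⟨V, hV, t, rfl⟩ := exists_gr_eq (R := X.presheaf) c
  obtain ⟨W, hW, s, rfl⟩ := exists_gm_eq m
  let W' : U.Opens := W ⊓ j ⁻¹ᵁ V
  have hu' : u ∈ W' := ⟨hW, hV⟩
  have hle : j ''ᵁ W' ≤ V := by
    rintro z ⟨w, hw, rfl⟩
    exact hw.2
  have h1 : gr X.presheaf (j u) V hV t =
      gr X.presheaf (j u) (j ''ᵁ W') ⟨u, hu', rfl⟩ (rr X.presheaf (homOfLE hle) t) :=
    (gr_rr (homOfLE hle) _ t).symm
  have h2 : gm (toPM (F.restrict j)) u W hW s =
      gm (toPM (F.restrict j)) u W' hu' (rs (toPM (F.restrict j)) (homOfLE inf_le_left) s) :=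
    (gm_rs (homOfLE inf_le_left) hu' s).symm
  rw [h1, h2]
  exact τ_smul_aux j F u W' hu' _ _

/-- the stalk map as a ring equivalence -/
def σ : Groth.Agent.Lib.Helper1.Sky.Ox (j u) ≃+* Groth.Agent.Lib.Helper1.Sky.Ox u :=
  RingEquiv.ofBijective (j.stalkMap u).hom (ConcreteCategory.bijective_of_isIso (j.stalkMap u))

theorem σ_apply (c : Groth.Agent.Lib.Helper1.Sky.Ox (j u)) : σ j u c = (j.stalkMap u).hom c := rfl

/-- the comparison of stalks as a bijection -/
def τe : St (toPM (F.restrict j)) u ≃ St (toPM F) (j u) := Equiv.ofBijective _ (τ_bijective j F u)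

theorem τe_apply (m : St (toPM (F.restrict j)) u) : τe j F u m = τ j F u m := rfl

attribute [local instance] RingHomInvPair.of_ringEquiv in
theorem injective_stalk_of_restrict
    (h : Module.Injective (Groth.Agent.Lib.Helper1.Sky.Ox u) (St (toPM (F.restrict j)) u)) :
    Module.Injective (Groth.Agent.Lib.Helper1.Sky.Ox (j u)) (St (toPM F) (j u)) := by
  let e₂ : St (toPM (F.restrict j)) u ≃ₛₗ[RingHomClass.toRingHom (σ j u).symm] St (toPM F) (j u) :=
    { toFun := τ j F u
      map_add' := map_add _
      map_smul' := fun c m => by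
        have hc : (j.stalkMap u).hom ((σ j u).symm c) = c := (σ j u).apply_symm_apply c
        conv_lhs => rw [← hc]
        exact τ_smul j F u _ m
      invFun := (τe j F u).symm
      left_inv := (τe j F u).left_inv
      right_inv := (τe j F u).right_inv }
  exact Module.Injective.of_ringEquiv (σ j u).symm e₂

attribute [local instance] RingHomInvPair.of_ringEquiv in
theorem injective_stalk_restrict
    (h : Module.Injective (Groth.Agent.Lib.Helper1.Sky.Ox (j u)) (St (toPM F) (j u))) :
    Module.Injective (Groth.Agent.Lib.Helper1.Sky.Ox u) (St (toPM (F.restrict j)) u) := by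
  let e₂ : St (toPM F) (j u) ≃ₛₗ[RingHomClass.toRingHom (σ j u)] St (toPM (F.restrict j)) u :=
    { toFun := (τe j F u).symm
      map_add' := fun a b => by
        apply (τe j F u).injective
        rw [Equiv.apply_symm_apply, τe_apply, map_add, ← τe_apply, ← τe_apply,
          Equiv.apply_symm_apply, Equiv.apply_symm_apply]
      map_smul' := fun c n => by
        apply (τe j F u).injective
        rw [Equiv.apply_symm_apply, τe_apply]
        change c • n = τ j F u ((j.stalkMap u).hom c • (τe j F u).symm n)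
        rw [τ_smul, ← τe_apply, Equiv.apply_symm_apply]
      invFun := τ j F u
      left_inv := (τe j F u).right_inv
      right_inv := (τe j F u).left_inv }
  exact Module.Injective.of_ringEquiv (σ j u) e₂

end Transfer


/-- the stalks of an injective module on a locally Noetherian scheme are injective modules -/
theorem injective_stalk_of_injective {X : Scheme.{u}} [IsLocallyNoetherian X] (I : X.Modules)
    (hI : Injective I) (x : X) :
    Module.Injective (Groth.Agent.Lib.Helper1.Sky.Ox x) (St (toPM I) x) := by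
  obtain ⟨V, hxV⟩ : ∃ V : X.affineOpens, x ∈ V.1 := by
    have h := iSup_affineOpens_eq_top X
    have hx : x ∈ (⨆ i : X.affineOpens, (i : X.Opens)) := by rw [h]; trivial
    exact Opens.mem_iSup.1 hx
  haveI : IsNoetherianRing Γ(X, V.1) := IsLocallyNoetherian.component_noetherian V
  have hx : x ∈ Set.range V.2.fromSpec := by
    rw [V.2.range_fromSpec]
    exact hxV
  obtain ⟨y, rfl⟩ := hx
  apply injective_stalk_of_restrict V.2.fromSpec I y
  haveI : Injective (I.restrict V.2.fromSpec) := injective_restrict V.2.fromSpec I hI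
  exact injective_stalk_spec (I.restrict V.2.fromSpec) y

end

end Groth.Agent.Lib.Seat49.StalkInj
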