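import Mathlib
import Groth.Agent.Lib.Seat49StalkInj
import Groth.Agent.Lib.Seat49LocInj

/-!
# Quasi-coherent modules with injective stalks are injective (helper49)

Namespace `Groth.Agent.Lib.Seat49.StalkInj`.

* `injective_restrict_ι_of_range_eq`: if `j^* F` is injective for an open immersion `j` with image `U`, then `F|_U` is.
* `injective_of_stalks_spec`, `injective_of_stalks`: a quasi-coherent module with injective stalks on a locally Noetherian
  scheme is an injective `O_X`-module.
-/

set_option autoImplicit false
set_option linter.style.haveILetI false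
universe u
open CategoryTheory CategoryTheory.Limits AlgebraicGeometry TopologicalSpace Opposite

namespace Groth.Agent.Lib.Seat49.StalkInj

open Groth.Agent.Lib.Helper1.Sky Groth.Agent.Lib.Helper1.StalkTensor Groth.Agent.Lib.Seat49.SkyInj
open Groth.Agent.Lib.Seat49.NoethObj Groth.Agent.Lib.Seat49.QCohInj

noncomputable section

/-- if `j^* F` is injective for an open immersion `j` with image `U`, then `F|_U` is injective -/
theorem injective_restrict_ι_of_range_eq {Y X : Scheme.{u}} (j : Y ⟶ X) [IsOpenImmersion j] (U : X.Opens)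
    (hU : Set.range j = (U : Set X)) (F : X.Modules)
    (h : Injective ((Scheme.Modules.restrictFunctor j).obj F)) :
    Injective ((Scheme.Modules.restrictFunctor U.ι).obj F) := by
  let I' := (Scheme.Modules.pushforward j).obj ((Scheme.Modules.restrictFunctor j).obj F)
  have hI' : Injective I' := injective_pushforward j _ h
  let η : F ⟶ I' := (Scheme.Modules.restrictAdjunction j).unit.app F
  haveI : IsIso ((Scheme.Modules.restrictFunctor U.ι).map η) := by
    rw [Scheme.Modules.Hom.isIso_iff_isIso_app]
    intro W
    rw [ConcreteCategory.isIso_iff_bijective]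
    have heq : j ''ᵁ (j ⁻¹ᵁ (U.ι ''ᵁ W)) = U.ι ''ᵁ W := by
      apply le_antisymm (j.image_preimage_le _)
      rintro z ⟨w, hw, rfl⟩
      have hz : (U.ι w) ∈ Set.range j := by
        rw [hU]
        exact w.2
      obtain ⟨y, hy⟩ := hz
      exact ⟨y, ⟨w, hw, hy.symm⟩, hy⟩
    exact bijective_rs_of_eq F (homOfLE (j.image_preimage_le (U.ι ''ᵁ W))) heq
  exact Injective.of_iso (asIso ((Scheme.Modules.restrictFunctor U.ι).map η)).symm
    (injective_restrict U.ι I' hI')


theorem isLoc_stalk {R : CommRingCat.{u}} (x : PrimeSpectrum R) :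
    IsLocalization.AtPrime ((structurePresheafInCommRingCat R).stalk x) x.asIdeal := inferInstance

theorem isLocMod_stalk {R : CommRingCat.{u}} (M : ModuleCat.{u} R) (x : PrimeSpectrum R) :
    IsLocalizedModule x.asIdeal.primeCompl (StructureSheaf.toStalkₗ R M x) := inferInstance

/-- a quasi-coherent module on the spectrum of a Noetherian ring with injective stalks is injective -/
theorem injective_of_stalks_spec {R : CommRingCat.{u}} [IsNoetherianRing R] (G : (Spec R).Modules)
    [G.IsQuasicoherent]
    (h : ∀ x : PrimeSpectrum R, Module.Injective (Groth.Agent.Lib.Helper1.Sky.Ox (X := Spec R) x)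
      (St (toPM G) (x : Spec R))) : Injective G := by
  let M : ModuleCat.{u} R := (modulesSpecToSheaf.obj G).presheaf.obj (op ⊤)
  haveI : IsIso G.fromTildeΓ := Groth.Agent.Lib.Helper23.QCohLocal.isIso_fromTildeΓ G
  have h' : ∀ x : PrimeSpectrum R, Module.Injective (Groth.Agent.Lib.Helper1.Sky.Ox (X := Spec R) x)
      (St (toPM (tilde M)) (x : Spec R)) := by
    intro x
    let e := (stalkFun (X := Spec R) x).mapIso (asIso G.fromTildeΓ)
    exact Module.Injective.of_linearEquiv' e.toLinearEquiv.symm (h x)
  have hM : Module.Injective R M := by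
    refine @Module.injective_of_localization_maximal' R _ M _ _
      (fun P hP => (structurePresheafInCommRingCat R).stalk (⟨P, hP.isPrime⟩ : PrimeSpectrum R)) _ _ _
      (fun P hP => isLoc_stalk (⟨P, hP.isPrime⟩ : PrimeSpectrum R))
      (fun P hP => ↑(TopCat.Presheaf.stalk (moduleStructurePresheaf R M).presheaf
        (⟨P, hP.isPrime⟩ : PrimeSpectrum R))) _ _ _ _
      (fun P hP => StructureSheaf.toStalkₗ R M (⟨P, hP.isPrime⟩ : PrimeSpectrum R))
      (fun P hP => isLocMod_stalk M (⟨P, hP.isPrime⟩ : PrimeSpectrum R)) _ _ ?_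
    intro P hP
    exact h' ⟨P, hP.isPrime⟩
  haveI : Injective (tilde M) := injective_tilde M hM
  exact Injective.of_iso (asIso G.fromTildeΓ) inferInstance


/-- a quasi-coherent module on a locally Noetherian scheme with injective stalks is injective -/
theorem injective_of_stalks {X : Scheme.{u}} [IsLocallyNoetherian X] (F : X.Modules) [F.IsQuasicoherent]
    (h : ∀ x : X, Module.Injective (Groth.Agent.Lib.Helper1.Sky.Ox x) (St (toPM F) x)) : Injective F := by
  apply Groth.Agent.Lib.Seat49.LocInj.injective_of_locally_injective F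
  intro x
  obtain ⟨V, hxV⟩ : ∃ V : X.affineOpens, x ∈ V.1 := by
    have h := iSup_affineOpens_eq_top X
    have hx : x ∈ (⨆ i : X.affineOpens, (i : X.Opens)) := by rw [h]; trivial
    exact Opens.mem_iSup.1 hx
  refine ⟨V.1, hxV, ?_⟩
  haveI : IsNoetherianRing Γ(X, V.1) := IsLocallyNoetherian.component_noetherian V
  apply injective_restrict_ι_of_range_eq V.2.fromSpec V.1 V.2.range_fromSpec F
  haveI : (F.restrict V.2.fromSpec).IsQuasicoherent :=
    Scheme.Modules.isQuasicoherent_restrictFunctor V.2.fromSpec F
  apply injective_of_stalks_spec (F.restrict V.2.fromSpec)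
  intro y
  exact injective_stalk_restrict V.2.fromSpec F y (h _)

end

end Groth.Agent.Lib.Seat49.StalkInj
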