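import Mathlib
import Groth.Agent.Lib.Helper10Weier
import Groth.Agent.Lib.Helper5RLR

/-!
# Regularity of an affine Weierstrass scheme over a DVR (seat 49)

Namespace `Groth.Agent.Lib.Seat49.Weier`.

* `dX`: the partial derivative with respect to the inner variable on `R[X][Y]` (through `Bivariate.swap`);
  `dX_polynomial`, `derivative_polynomial`: the partial derivatives of the Weierstrass polynomial are Mathlib's
  `polynomialX`, `polynomialY`.
* `leibniz_mem`, `leibniz_mem_of_mul_mem`: a map satisfying the Leibniz rule sends `I ^ 2` into `I`.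
* `isRegularLocalRing_localization_quotient`: `(B ⧸ (f))_P` is regular if `B_𝔓` is regular and `f ∉ 𝔪²` there.
* `main`: every localization of the coordinate ring of `y² + a₁xy + a₃y = x³ + a₂x² + a₄x + a₆` over a DVR, with
  `Δ ≠ 0`, `a₃, a₄, a₆ ∈ m`, `a₆ ∉ m²`, at a prime ideal is a regular local ring.
-/

set_option autoImplicit false
set_option linter.style.haveILetI false
set_option linter.unusedSimpArgs false
universe u
open Polynomial IsLocalRing
open scoped Polynomial.Bivariate

namespace Groth.Agent.Lib.Seat49.Weier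

section Deriv

variable {R : Type u} [CommRing R]

/-- the partial derivative with respect to the inner variable `X` on `R[X][Y]`. -/
noncomputable def dX (p : R[X][Y]) : R[X][Y] :=
  Bivariate.swap (derivative (Bivariate.swap p))

lemma dX_add (p q : R[X][Y]) : dX (p + q) = dX p + dX q := by
  simp only [dX, map_add]

lemma dX_mul (p q : R[X][Y]) : dX (p * q) = dX p * q + p * dX q := by
  simp only [dX, map_mul, derivative_mul, map_add, Bivariate.swap_swap_apply]

lemma dX_polynomial (W : WeierstrassCurve.Affine R) : dX W.polynomial = W.polynomialX := by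
  have h1 : Bivariate.swap W.polynomial =
      (C X : R[X][Y]) ^ 2 + (C (C W.a₁) * Y + C (C W.a₃)) * C X -
        (Y ^ 3 + C (C W.a₂) * Y ^ 2 + C (C W.a₄) * Y + C (C W.a₆)) := by
    simp only [WeierstrassCurve.Affine.polynomial, map_add, map_sub, map_mul, map_pow,
      Bivariate.swap_Y, Bivariate.swap_C, Polynomial.map_add, Polynomial.map_mul,
      Polynomial.map_pow, Polynomial.map_C, Polynomial.map_X]
  have h2 : derivative (Bivariate.swap W.polynomial) =
      C (C W.a₁) * C X - (C (C 3) * Y ^ 2 + C (C (2 * W.a₂)) * Y + C (C W.a₄)) := by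
    rw [h1]
    simp only [derivative_add, derivative_sub, derivative_mul, derivative_C, derivative_X,
      derivative_X_pow, derivative_pow, map_mul, map_ofNat]
    simp
    rw [show (C (3 : R[X]) : R[X][Y]) = 3 from map_ofNat C 3,
      show (C (2 : R[X]) : R[X][Y]) = 2 from map_ofNat C 2]
    ring
  rw [dX, h2]
  simp only [WeierstrassCurve.Affine.polynomialX, map_add, map_sub, map_mul, map_pow,
      Bivariate.swap_Y, Bivariate.swap_C, Polynomial.map_add, Polynomial.map_mul,
      Polynomial.map_pow, Polynomial.map_C, Polynomial.map_X, Bivariate.swap_C_C, Bivariate.swap_X]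

lemma derivative_polynomial (W : WeierstrassCurve.Affine R) :
    derivative W.polynomial = W.polynomialY := by
  simp only [WeierstrassCurve.Affine.polynomial, WeierstrassCurve.Affine.polynomialY]
  simp only [derivative_add, derivative_sub, derivative_mul, derivative_C, derivative_X,
      derivative_X_pow, derivative_pow, map_mul, map_ofNat]
  simp
  rw [show (C (2 : R[X]) : R[X][Y]) = 2 from map_ofNat C 2]

/-- the partial derivative with respect to the outer variable `Y` on `R[X][Y]`. -/
noncomputable def dY (p : R[X][Y]) : R[X][Y] := derivative p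

lemma dY_add (p q : R[X][Y]) : dY (p + q) = dY p + dY q := derivative_add

lemma dY_mul (p q : R[X][Y]) : dY (p * q) = dY p * q + p * dY q := derivative_mul

/-- a map satisfying the Leibniz rule sends `I ^ 2` into `I`. -/
lemma leibniz_mem {B : Type*} [CommRing B] (D : B → B) (hadd : ∀ p q, D (p + q) = D p + D q)
    (hmul : ∀ p q, D (p * q) = D p * q + p * D q) (I : Ideal B) {b : B} (hb : b ∈ I ^ 2) :
    D b ∈ I := by
  rw [pow_two] at hb
  refine Submodule.mul_induction_on hb ?_ ?_
  · intro p hp q hq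
    rw [hmul]
    exact I.add_mem (I.mul_mem_left _ hq) (I.mul_mem_right _ hp)
  · intro p q hp hq
    rw [hadd]
    exact I.add_mem hp hq

/-- if `s * f ∈ I ^ 2` with `s ∉ I` prime and `f ∈ I`, then `D f ∈ I`. -/
lemma leibniz_mem_of_mul_mem {B : Type*} [CommRing B] (D : B → B)
    (hadd : ∀ p q, D (p + q) = D p + D q)
    (hmul : ∀ p q, D (p * q) = D p * q + p * D q) (I : Ideal B) [I.IsPrime] {s f : B}
    (hs : s ∉ I) (hf : f ∈ I) (hsf : s * f ∈ I ^ 2) : D f ∈ I := by
  have h1 := leibniz_mem D hadd hmul I hsf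
  rw [hmul] at h1
  have h2 : s * D f ∈ I := by
    have := I.sub_mem h1 (I.mul_mem_left (D s) hf)
    simpa using this
  exact (Ideal.IsPrime.mem_or_mem ‹_› h2).resolve_left hs

end Deriv

section Quot

/-- Localizing a quotient `B ⧸ (f)` at a prime `P` is the quotient of the localization of `B` at the
preimage `𝔓` of `P`; it is regular if `B_𝔓` is regular and `f ∉ 𝔪²`. -/
theorem isRegularLocalRing_localization_quotient {B : Type u} [CommRing B] (f : B)
    (𝔓 : Ideal B) [𝔓.IsPrime]
    (P : Ideal (B ⧸ Ideal.span {f})) [P.IsPrime]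
    (h𝔓 : 𝔓 = P.comap (Ideal.Quotient.mk (Ideal.span {f})))
    [IsRegularLocalRing (Localization.AtPrime 𝔓)]
    (hf : algebraMap B (Localization.AtPrime 𝔓) f ∉ maximalIdeal (Localization.AtPrime 𝔓) ^ 2) :
    IsRegularLocalRing (Localization.AtPrime P) := by
  have hfP : f ∈ 𝔓 := by
    rw [h𝔓, Ideal.mem_comap]
    have : Ideal.Quotient.mk (Ideal.span {f}) f = 0 :=
      Ideal.Quotient.eq_zero_iff_mem.2 (Ideal.subset_span rfl)
    rw [this]; exact P.zero_mem
  have hfm : algebraMap B (Localization.AtPrime 𝔓) f ∈ maximalIdeal (Localization.AtPrime 𝔓) := by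
    rw [← Localization.AtPrime.map_eq_maximalIdeal]
    exact Ideal.mem_map_of_mem _ hfP
  have hne : Ideal.span ({algebraMap B (Localization.AtPrime 𝔓) f} : Set (Localization.AtPrime 𝔓)) ≠ ⊤ := by
    intro h
    have : Ideal.span ({algebraMap B (Localization.AtPrime 𝔓) f} : Set (Localization.AtPrime 𝔓)) ≤
        maximalIdeal (Localization.AtPrime 𝔓) := by
      rw [Ideal.span_le, Set.singleton_subset_iff]; exact hfm
    rw [h] at this
    exact (Ideal.IsMaximal.ne_top (maximalIdeal.isMaximal (Localization.AtPrime 𝔓))) (top_le_iff.1 this)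
  haveI : Nontrivial ((Localization.AtPrime 𝔓) ⧸
      Ideal.span ({algebraMap B (Localization.AtPrime 𝔓) f} : Set (Localization.AtPrime 𝔓))) :=
    Ideal.Quotient.nontrivial_iff.mpr hne
  haveI : IsLocalRing ((Localization.AtPrime 𝔓) ⧸
      Ideal.span ({algebraMap B (Localization.AtPrime 𝔓) f} : Set (Localization.AtPrime 𝔓))) :=
    IsLocalRing.of_surjective' (Ideal.Quotient.mk _) Ideal.Quotient.mk_surjective
  have hreg := (Groth.Agent.Lib.Helper5.isRegularLocalRing_quotient_span_singleton hfm hf).1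
  have hmap : (Ideal.span {f}).map (algebraMap B (Localization.AtPrime 𝔓)) =
      Ideal.span ({algebraMap B (Localization.AtPrime 𝔓) f} : Set (Localization.AtPrime 𝔓)) := by
    rw [Ideal.map_span, Set.image_singleton]
  -- the quotient of the localization is a localization of the quotient
  have hloc : IsLocalization (Algebra.algebraMapSubmonoid (B ⧸ Ideal.span {f}) 𝔓.primeCompl)
      ((Localization.AtPrime 𝔓) ⧸ (Ideal.span {f}).map (algebraMap B (Localization.AtPrime 𝔓))) :=
    inferInstance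
  have hsub : Algebra.algebraMapSubmonoid (B ⧸ Ideal.span {f}) 𝔓.primeCompl = P.primeCompl := by
    ext x
    constructor
    · rintro ⟨b, hb, rfl⟩
      have hb' : b ∉ 𝔓 := hb
      rw [h𝔓, Ideal.mem_comap] at hb'
      exact hb'
    · intro hx
      obtain ⟨b, rfl⟩ := Ideal.Quotient.mk_surjective x
      refine ⟨b, ?_, rfl⟩
      show b ∉ 𝔓
      rw [h𝔓, Ideal.mem_comap]
      exact hx
  rw [hsub] at hloc
  haveI : IsLocalization.AtPrime
      ((Localization.AtPrime 𝔓) ⧸ (Ideal.span {f}).map (algebraMap B (Localization.AtPrime 𝔓))) P := hloc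
  have e : ((Localization.AtPrime 𝔓) ⧸ (Ideal.span {f}).map (algebraMap B (Localization.AtPrime 𝔓))) ≃+*
      Localization.AtPrime P :=
    (IsLocalization.algEquiv P.primeCompl _ (Localization.AtPrime P)).toRingEquiv
  haveI hreg' : IsRegularLocalRing
      ((Localization.AtPrime 𝔓) ⧸ (Ideal.span {f}).map (algebraMap B (Localization.AtPrime 𝔓))) := by
    rw [hmap]; exact hreg
  exact IsRegularLocalRing.of_ringEquiv e

end Quot

section Main

variable {R : Type u} [CommRing R] [IsDomain R] [IsDiscreteValuationRing R]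

open WeierstrassCurve.Affine

/-- the identity `x³ = -(x W_X + y W_Y - 2 W) - a₃ y + a₄ x + 2 a₆`. -/
lemma X_pow_three_eq (W : WeierstrassCurve.Affine R) :
    (C X : R[X][Y]) ^ 3 = -(C X * W.polynomialX + Y * W.polynomialY - 2 * W.polynomial) -
      C (C W.a₃) * Y + C (C W.a₄) * C X + 2 * C (C W.a₆) := by
  simp only [WeierstrassCurve.Affine.polynomial, WeierstrassCurve.Affine.polynomialX,
    WeierstrassCurve.Affine.polynomialY, map_add, map_mul, map_pow, map_ofNat]
  ring

/-- the identity `y² = W - (a₁ x + a₃) y + (x³ + a₂ x² + a₄ x + a₆)`. -/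
lemma Y_sq_eq (W : WeierstrassCurve.Affine R) :
    (Y : R[X][Y]) ^ 2 = W.polynomial - (C (C W.a₁) * C X + C (C W.a₃)) * Y +
      (C X ^ 3 + C (C W.a₂) * C X ^ 2 + C (C W.a₄) * C X + C (C W.a₆)) := by
  simp only [WeierstrassCurve.Affine.polynomial, map_add, map_mul, map_pow]
  ring

/-- a prime of the coordinate ring containing `m`, `x`, `y` is maximal. -/
lemma isMaximal_of_mem (W : WeierstrassCurve.Affine R) (P : Ideal W.CoordinateRing) [P.IsPrime]
    (hP : ∀ r ∈ maximalIdeal R, algebraMap R W.CoordinateRing r ∈ P)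
    (hx : CoordinateRing.mk W (C X) ∈ P) (hy : CoordinateRing.mk W Y ∈ P) : P.IsMaximal := by
  have hJP : Ideal.span {CoordinateRing.mk W (C X), CoordinateRing.mk W Y} ≤ P := by
    rw [Ideal.span_le]
    rintro _ (rfl | rfl)
    · exact hx
    · exact hy
  rw [Ideal.isMaximal_iff]
  refine ⟨fun h => (Ideal.IsPrime.ne_top ‹_›) ((Ideal.eq_top_iff_one _).2 h), ?_⟩
  intro J a hPJ haP haJ
  obtain ⟨r, hr⟩ := Groth.Agent.Lib.Helper10.Weier.exists_decomp W a
  have hrJ : algebraMap R W.CoordinateRing r ∈ J := by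
    have := J.sub_mem haJ (hPJ (hJP hr))
    rwa [sub_sub_cancel] at this
  have hrm : r ∉ maximalIdeal R := by
    intro hrm
    apply haP
    have := P.add_mem (hJP hr) (hP r hrm)
    rwa [sub_add_cancel] at this
  have hu : IsUnit r := by
    by_contra h
    exact hrm ((mem_maximalIdeal _).mpr h)
  have := Ideal.eq_top_of_isUnit_mem _ hrJ (hu.map _)
  rw [this]
  trivial

theorem main (W : WeierstrassCurve.Affine R) (hΔ : W.Δ ≠ 0)
    (h3 : W.a₃ ∈ maximalIdeal R) (h4 : W.a₄ ∈ maximalIdeal R)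
    (h6 : W.a₆ ∈ maximalIdeal R) (h6' : W.a₆ ∉ maximalIdeal R ^ 2)
    (P : Ideal W.CoordinateRing) [hPprime : P.IsPrime] :
    IsRegularLocalRing (Localization.AtPrime P) := by
  -- the preimage of `P` in `R[X][Y]`
  obtain ⟨𝔓, h𝔓⟩ : ∃ 𝔓 : Ideal R[X][Y], 𝔓 = P.comap (CoordinateRing.mk W) := ⟨_, rfl⟩
  haveI : 𝔓.IsPrime := by rw [h𝔓]; infer_instance
  have hFP : W.polynomial ∈ 𝔓 := by
    rw [h𝔓, Ideal.mem_comap, show CoordinateRing.mk W W.polynomial = 0 from AdjoinRoot.mk_self]
    exact P.zero_mem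
  haveI : IsRegularRing R := inferInstance
  haveI : IsRegularRing R[X][Y] := inferInstance
  haveI : IsRegularLocalRing (Localization.AtPrime 𝔓) := inferInstance
  by_cases hF : algebraMap R[X][Y] (Localization.AtPrime 𝔓) W.polynomial ∈
      maximalIdeal (Localization.AtPrime 𝔓) ^ 2
  swap
  · exact @isRegularLocalRing_localization_quotient R[X][Y] _ W.polynomial 𝔓 _ P hPprime h𝔓 _ hF
  -- now `W`, `W_X`, `W_Y` all lie in `𝔓`
  rw [← Localization.AtPrime.map_eq_maximalIdeal, ← Ideal.map_pow,
    IsLocalization.algebraMap_mem_map_algebraMap_iff 𝔓.primeCompl] at hF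
  obtain ⟨s, hs, hsF⟩ := hF
  have hFX : W.polynomialX ∈ 𝔓 := by
    rw [← dX_polynomial]
    exact leibniz_mem_of_mul_mem dX dX_add dX_mul 𝔓 hs hFP hsF
  have hFY : W.polynomialY ∈ 𝔓 := by
    have := leibniz_mem_of_mul_mem (B := R[X][Y]) dY dY_add dY_mul 𝔓 hs hFP hsF
    rwa [dY, derivative_polynomial] at this
  by_cases hm : ∀ r ∈ maximalIdeal R, (C (C r) : R[X][Y]) ∈ 𝔓
  · -- special fibre: `P` is the origin
    have hX3 : (C X : R[X][Y]) ^ 3 ∈ 𝔓 := by
      rw [X_pow_three_eq W]
      refine 𝔓.add_mem (𝔓.add_mem (𝔓.sub_mem (𝔓.neg_mem (𝔓.sub_mem (𝔓.add_mem ?_ ?_) ?_)) ?_) ?_) ?_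
      · exact 𝔓.mul_mem_left _ hFX
      · exact 𝔓.mul_mem_left _ hFY
      · exact 𝔓.mul_mem_left _ hFP
      · exact 𝔓.mul_mem_right _ (hm _ h3)
      · exact 𝔓.mul_mem_right _ (hm _ h4)
      · exact 𝔓.mul_mem_left _ (hm _ h6)
    have hX : (C X : R[X][Y]) ∈ 𝔓 := Ideal.IsPrime.mem_of_pow_mem ‹_› 3 hX3
    have hY2 : (Y : R[X][Y]) ^ 2 ∈ 𝔓 := by
      rw [Y_sq_eq W]
      refine 𝔓.add_mem (𝔓.sub_mem hFP (𝔓.mul_mem_right _ (𝔓.add_mem (𝔓.mul_mem_left _ hX) (hm _ h3))))
        (𝔓.add_mem (𝔓.add_mem (𝔓.add_mem (𝔓.pow_mem_of_mem hX 3 (by norm_num))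
          (𝔓.mul_mem_left _ (𝔓.pow_mem_of_mem hX 2 (by norm_num)))) (𝔓.mul_mem_left _ hX)) (hm _ h6))
    have hY : (Y : R[X][Y]) ∈ 𝔓 := Ideal.IsPrime.mem_of_pow_mem ‹_› 2 hY2
    have hP : ∀ r ∈ maximalIdeal R, algebraMap R W.CoordinateRing r ∈ P := by
      intro r hr
      have := hm r hr
      rw [h𝔓, Ideal.mem_comap] at this
      exact this
    have hx : CoordinateRing.mk W (C X) ∈ P := by
      rw [h𝔓, Ideal.mem_comap] at hX; exact hX
    have hy : CoordinateRing.mk W Y ∈ P := by
      rw [h𝔓, Ideal.mem_comap] at hY; exact hY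
    haveI : P.IsMaximal := isMaximal_of_mem W P hP hx hy
    exact Groth.Agent.Lib.Helper10.Weier.main h6 h6' P hP hx hy
  · -- generic fibre: contradiction with `Δ ≠ 0`
    exfalso
    push Not at hm
    obtain ⟨r, hr, hr𝔓⟩ := hm
    let φ : R →+* (R[X][Y] ⧸ 𝔓) := (Ideal.Quotient.mk 𝔓).comp ((C : R[X] →+* R[X][Y]).comp C)
    have hφ : Function.Injective φ := by
      rw [injective_iff_map_eq_zero]
      intro a ha
      by_contra ha0
      have hker : RingHom.ker φ ≠ ⊥ := fun h => ha0 ((Submodule.mem_bot R).1 (h ▸ ha))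
      haveI : (RingHom.ker φ).IsPrime := RingHom.ker_isPrime φ
      have hmax : (RingHom.ker φ).IsMaximal := Ideal.IsPrime.isMaximal inferInstance hker
      have : RingHom.ker φ = maximalIdeal R := IsLocalRing.eq_maximalIdeal hmax
      have hr' : r ∈ RingHom.ker φ := this ▸ hr
      exact hr𝔓 (Ideal.Quotient.eq_zero_iff_mem.1 hr')
    have hΔ' : (WeierstrassCurve.map W φ).Δ ≠ (0 : R[X][Y] ⧸ 𝔓) := by
      rw [WeierstrassCurve.map_Δ]
      exact fun h => hΔ (hφ (h.trans (map_zero φ).symm))
    have hφC : ∀ a : R, φ a = Ideal.Quotient.mk 𝔓 (C (C a)) := fun a => rfl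
    have heq : (WeierstrassCurve.map W φ).toAffine.Equation
        (Ideal.Quotient.mk 𝔓 (C X)) (Ideal.Quotient.mk 𝔓 Y) := by
      rw [WeierstrassCurve.Affine.equation_iff']
      have := Ideal.Quotient.eq_zero_iff_mem.2 hFP
      simp only [WeierstrassCurve.Affine.polynomial, map_add, map_sub, map_mul, map_pow] at this
      simp only [WeierstrassCurve.map_a₁, WeierstrassCurve.map_a₂, WeierstrassCurve.map_a₃,
        WeierstrassCurve.map_a₄, WeierstrassCurve.map_a₆, hφC]
      rw [← this]
      ring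
    have hns := (WeierstrassCurve.Affine.equation_iff_nonsingular_of_Δ_ne_zero hΔ').1 heq
    rw [WeierstrassCurve.Affine.nonsingular_iff'] at hns
    have h1 := Ideal.Quotient.eq_zero_iff_mem.2 hFX
    have h2 := Ideal.Quotient.eq_zero_iff_mem.2 hFY
    simp only [WeierstrassCurve.Affine.polynomialX, WeierstrassCurve.Affine.polynomialY,
      map_add, map_sub, map_mul, map_pow, map_ofNat] at h1 h2
    simp only [WeierstrassCurve.map_a₁, WeierstrassCurve.map_a₂, WeierstrassCurve.map_a₃,
        WeierstrassCurve.map_a₄, WeierstrassCurve.map_a₆, hφC] at hns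
    rcases hns.2 with h | h
    · apply h
      linear_combination h1
    · apply h
      linear_combination h2

end Main

end Groth.Agent.Lib.Seat49.Weier
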