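import Groth.Agent.Lib.Helper17AbHom

/-!
# Element-level criteria for injectivity/surjectivity of maps on homology of complexes of
abelian groups (seat 4)
-/

set_option autoImplicit false
universe u
open CategoryTheory CategoryTheory.Limits

namespace Groth.Agent.Lib.Seat4.AbHomB

open Groth.Agent.Lib.Helper17.AbHom

variable {ι : Type*} {c : ComplexShape ι} {C D : HomologicalComplex AddCommGrpCat.{u} c}
  (f : C ⟶ D)

theorem injective_homologyMap (i n j : ι) (hi : c.prev n = i) (_hj : c.next n = j)
    (H : ∀ x : C.X n, C.d n j x = 0 → (∃ y : D.X i, D.d i n y = f.f n x) →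
      ∃ y' : C.X i, C.d i n y' = x) :
    Function.Injective (HomologicalComplex.homologyMap f n) := by
  rw [injective_iff_map_eq_zero]
  intro h hh
  obtain ⟨z, rfl⟩ := homologyπ_surjective C n h
  rw [homologyMap_homologyπ] at hh
  obtain ⟨y, hy⟩ := exists_of_homologyπ_eq_zero D i n hi _ hh
  obtain ⟨y', hy'⟩ := H (C.iCycles n z) (d_iCycles C n j z) ⟨y, by
    rw [← iCycles_toCycles, hy, iCycles_cyclesMap]⟩
  have hz : C.toCycles i n y' = z := by
    apply iCycles_injective
    rw [iCycles_toCycles, hy']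
  rw [← hz]
  exact homologyπ_toCycles _ _ _ _

theorem exists_of_injective_homologyMap (i n j : ι) (hi : c.prev n = i) (hj : c.next n = j)
    (hinj : Function.Injective (HomologicalComplex.homologyMap f n))
    (x : C.X n) (hx : C.d n j x = 0) (y : D.X i) (hy : D.d i n y = f.f n x) :
    ∃ y' : C.X i, C.d i n y' = x := by
  obtain ⟨z, hz⟩ := exists_cycle C n j hj x hx
  have h1 : HomologicalComplex.cyclesMap f n z = D.toCycles i n y := by
    apply iCycles_injective
    rw [iCycles_cyclesMap, hz, iCycles_toCycles, hy]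
  have h2 : HomologicalComplex.homologyMap f n (C.homologyπ n z) = 0 := by
    rw [homologyMap_homologyπ, h1]
    exact homologyπ_toCycles _ _ _ _
  have h3 : C.homologyπ n z = 0 := hinj (by rw [h2, map_zero])
  obtain ⟨y', hy'⟩ := exists_of_homologyπ_eq_zero C i n hi z h3
  refine ⟨y', ?_⟩
  rw [← iCycles_toCycles, hy', hz]

theorem surjective_homologyMap (i n j : ι) (_hi : c.prev n = i) (hj : c.next n = j)
    (H : ∀ z : D.X n, D.d n j z = 0 →
      ∃ x : C.X n, C.d n j x = 0 ∧ ∃ y : D.X i, f.f n x = z + D.d i n y) :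
    Function.Surjective (HomologicalComplex.homologyMap f n) := by
  intro g
  obtain ⟨z', rfl⟩ := homologyπ_surjective D n g
  obtain ⟨x, hx, y, hy⟩ := H (D.iCycles n z') (d_iCycles D n j z')
  obtain ⟨w, hw⟩ := exists_cycle C n j hj x hx
  refine ⟨C.homologyπ n w, ?_⟩
  have h1 : HomologicalComplex.cyclesMap f n w = z' + D.toCycles i n y := by
    apply iCycles_injective
    rw [iCycles_cyclesMap, hw, hy, map_add, iCycles_toCycles]
  rw [homologyMap_homologyπ, h1, map_add, homologyπ_toCycles, add_zero]

theorem exists_of_surjective_homologyMap (i n j : ι) (hi : c.prev n = i) (hj : c.next n = j)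
    (hsurj : Function.Surjective (HomologicalComplex.homologyMap f n))
    (z : D.X n) (hz : D.d n j z = 0) :
    ∃ x : C.X n, C.d n j x = 0 ∧ ∃ y : D.X i, f.f n x = z + D.d i n y := by
  obtain ⟨z', hz'⟩ := exists_cycle D n j hj z hz
  obtain ⟨h, hh⟩ := hsurj (D.homologyπ n z')
  obtain ⟨w, rfl⟩ := homologyπ_surjective C n h
  rw [homologyMap_homologyπ] at hh
  have h0 : D.homologyπ n (HomologicalComplex.cyclesMap f n w - z') = 0 := by
    rw [map_sub, hh, sub_self]
  obtain ⟨y, hy⟩ := exists_of_homologyπ_eq_zero D i n hi _ h0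
  refine ⟨C.iCycles n w, d_iCycles C n j w, y, ?_⟩
  rw [← iCycles_cyclesMap, ← iCycles_toCycles, hy, map_sub, hz']
  abel

end Groth.Agent.Lib.Seat4.AbHomB
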