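import Mathlib

/-!
# A formal lemma: right adjoints to inclusions of full subcategories commute with a right adjoint (seat 4)

`L ⊣ R` between `D` and `C`; `P ⊆ C`, `Q ⊆ D` full subcategories whose inclusions have right adjoints `RP`, `RQ`;
`L` maps `Q` into `P` and `R` maps `P` into `Q`.  Then `R ∘ RP ≅ RQ ∘ R`: the canonical comparison is an isomorphism.
-/

set_option autoImplicit false

universe v₁ v₂ u₁ u₂

open CategoryTheory

namespace Groth.Agent.Lib.Seat4.AdjSub

variable {C : Type u₁} [Category.{v₁} C] {D : Type u₂} [Category.{v₂} D]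
  (P : ObjectProperty C) (Q : ObjectProperty D)
  {RP : C ⥤ P.FullSubcategory} (adjP : P.ι ⊣ RP)
  {RQ : D ⥤ Q.FullSubcategory} (adjQ : Q.ι ⊣ RQ)
  {L : D ⥤ C} {R : C ⥤ D} (adj : L ⊣ R)

include adj in
theorem isIso_comparison (hL : ∀ M : D, Q M → P (L.obj M)) (K : C) (hRK : Q (R.obj (P.ι.obj (RP.obj K)))) :
    IsIso (adjQ.homEquiv (⟨R.obj (P.ι.obj (RP.obj K)), hRK⟩ : Q.FullSubcategory) (R.obj K)
      (R.map (adjP.counit.app K))) := by
  apply isIso_of_yoneda_map_bijective
  intro T
  -- reduce along `adjQ.homEquiv`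
  have h1 : ∀ x : T ⟶ (⟨R.obj (P.ι.obj (RP.obj K)), hRK⟩ : Q.FullSubcategory),
      x ≫ adjQ.homEquiv _ _ (R.map (adjP.counit.app K)) =
        adjQ.homEquiv _ _ (Q.ι.map x ≫ R.map (adjP.counit.app K)) := fun x => by
    rw [Adjunction.homEquiv_naturality_left]
  -- the object `N = L T ∈ P`
  let N : P.FullSubcategory := ⟨L.obj T.obj, hL _ T.property⟩
  -- the chain of bijections
  let e : (T ⟶ (⟨R.obj (P.ι.obj (RP.obj K)), hRK⟩ : Q.FullSubcategory)) ≃ (T ⟶ RQ.obj (R.obj K)) :=
    (Q.fullyFaithfulι.homEquiv (X := T) (Y := ⟨R.obj (P.ι.obj (RP.obj K)), hRK⟩)).trans <|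
      ((adj.homEquiv T.obj (P.ι.obj (RP.obj K))).symm).trans <|
        ((P.fullyFaithfulι.homEquiv (X := N) (Y := RP.obj K)).symm).trans <|
          ((adjP.homEquiv N K).symm).trans <|
            (adj.homEquiv T.obj K).trans (adjQ.homEquiv T (R.obj K))
  have he : ∀ x, e x = x ≫ adjQ.homEquiv _ _ (R.map (adjP.counit.app K)) := by
    intro x
    rw [h1]
    simp only [e, Equiv.trans_apply]
    congr 1
    rw [Adjunction.homEquiv_counit]
    have h2 : P.ι.map ((P.fullyFaithfulι.homEquiv (X := N) (Y := RP.obj K)).symm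
        ((adj.homEquiv T.obj (P.ι.obj (RP.obj K))).symm (Q.fullyFaithfulι.homEquiv x))) =
        (adj.homEquiv T.obj (P.ι.obj (RP.obj K))).symm (Q.ι.map x) := by
      simp [Functor.FullyFaithful.homEquiv]
    rw [h2, Adjunction.homEquiv_counit, Adjunction.homEquiv_unit]
    simp only [Functor.map_comp, Category.assoc]
    have h3 : adj.unit.app T.obj ≫ R.map (L.map (Q.ι.map x)) =
        Q.ι.map x ≫ adj.unit.app _ := (adj.unit.naturality (Q.ι.map x)).symm
    rw [← Category.assoc, h3, Category.assoc]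
    erw [adj.right_triangle_components_assoc]
  refine ⟨fun a b hab => e.injective ?_, fun y => ⟨e.symm y, ?_⟩⟩
  · rw [he, he]
    exact hab
  · have := he (e.symm y)
    rw [Equiv.apply_symm_apply] at this
    exact this.symm

end Groth.Agent.Lib.Seat4.AdjSub
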