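import Groth.Agent.Lib.Seat4HB
import Groth.Agent.Lib.Helper17Hyp19

/-!
# Consequences of `HB` for exact fully faithful functors and adjunctions (seat 4)
-/

set_option autoImplicit false
set_option linter.dupNamespace false

universe w w' v v' u u'

open CategoryTheory CategoryTheory.Limits DerivedCategory

namespace Groth.Agent.Lib.Seat4.HB

open Groth.Agent.Lib.Helper17.Hyp

section Adj

variable {C D : Type*} [Category C] [Category D] {L : C ⥤ D} {G : D ⥤ C} (adj : L ⊣ G)

/-- if `L` is bijective on `Hom(X, G K)`, then post-composition with the counit is bijective on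
`Hom(L X, L G K)`. -/
lemma bijective_comp_counit (X : C) (K : D)
    (h : Function.Bijective (fun g : X ⟶ G.obj K => L.map g)) :
    Function.Bijective (fun ψ : L.obj X ⟶ L.obj (G.obj K) => ψ ≫ adj.counit.app K) := by
  have hcomp : Function.Bijective
      ((fun ψ : L.obj X ⟶ L.obj (G.obj K) => ψ ≫ adj.counit.app K) ∘
        (fun g : X ⟶ G.obj K => L.map g)) := by
    have : ((fun ψ : L.obj X ⟶ L.obj (G.obj K) => ψ ≫ adj.counit.app K) ∘
        (fun g : X ⟶ G.obj K => L.map g)) = (adj.homEquiv X K).symm := by
      funext g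
      exact (adj.homEquiv_counit X K g).symm
    rw [this]
    exact (adj.homEquiv X K).symm.bijective
  exact (Function.Bijective.of_comp_iff _ h).1 hcomp

end Adj

section Sq

variable {A : Type u} [Category.{v} A] [Abelian A] [HasDerivedCategory.{w} A]

/-- if `φ` induces a bijection on `Hom(E, -)` and `HB` holds at both ends, then `H^q(φ)` induces a
bijection on `Hom(H^q E, -)`. -/
lemma bijective_comp_homology_map {E K₁ K₂ : DerivedCategory A} {q : ℤ} (φ : K₁ ⟶ K₂)
    (h1 : HB E K₁ q) (h2 : HB E K₂ q)
    (h : Function.Bijective (fun ψ : E ⟶ K₁ => ψ ≫ φ)) :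
    Function.Bijective (fun s : (homologyFunctor A q).obj E ⟶ (homologyFunctor A q).obj K₁ =>
      s ≫ (homologyFunctor A q).map φ) := by
  constructor
  · intro s s' hs
    dsimp only at hs
    obtain ⟨ξ, rfl⟩ := h1.2 s
    obtain ⟨ξ', rfl⟩ := h1.2 s'
    dsimp only at hs ⊢
    rw [← Functor.map_comp, ← Functor.map_comp] at hs
    have := h.1 (h2.1 hs)
    rw [this]
  · intro s
    obtain ⟨ζ, rfl⟩ := h2.2 s
    obtain ⟨ξ, rfl⟩ := h.2 ζ
    refine ⟨(homologyFunctor A q).map ξ, ?_⟩
    dsimp only
    rw [← Functor.map_comp]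

end Sq

section Exact

variable {A : Type u} [Category.{v} A] [Abelian A] [HasDerivedCategory.{w} A]
  {B : Type u'} [Category.{v'} B] [Abelian B] [HasDerivedCategory.{w'} B]
  (F : A ⥤ B) [F.Additive] [PreservesFiniteLimits F] [PreservesFiniteColimits F]

lemma homology_map_mapDerivedCategory {X Y : DerivedCategory A} (φ : X ⟶ Y) (i : ℤ) :
    (homologyFunctor B i).map (F.mapDerivedCategory.map φ) =
      (homologyNatIso F i).hom.app X ≫ F.map ((homologyFunctor A i).map φ) ≫
        (homologyNatIso F i).inv.app Y := by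
  have h := (homologyNatIso F i).hom.naturality φ
  simp only [Functor.comp_map] at h
  rw [← Category.assoc, ← h, Category.assoc, Iso.hom_inv_id_app, Category.comp_id]

/-- an exact fully faithful functor induces a bijection on `Hom_{D}(E, N)` as soon as `HB` holds on
both sides. -/
theorem bijective_mapDerivedCategory_map [F.Full] [F.Faithful] {E N : DerivedCategory A} {q : ℤ}
    (h1 : HB E N q) (h2 : HB (F.mapDerivedCategory.obj E) (F.mapDerivedCategory.obj N) q) :
    Function.Bijective (fun ξ : E ⟶ N => F.mapDerivedCategory.map ξ) := by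
  constructor
  · intro ξ ξ' h
    dsimp only at h
    have h3 : (homologyFunctor B q).map (F.mapDerivedCategory.map ξ) =
        (homologyFunctor B q).map (F.mapDerivedCategory.map ξ') := by rw [h]
    rw [homology_map_mapDerivedCategory, homology_map_mapDerivedCategory,
      cancel_epi, cancel_mono] at h3
    exact h1.1 (F.map_injective h3)
  · intro ψ
    obtain ⟨t, ht⟩ := F.map_surjective ((homologyNatIso F q).inv.app E ≫
      (homologyFunctor B q).map ψ ≫ (homologyNatIso F q).hom.app N)
    obtain ⟨ξ, hξ⟩ := h1.2 t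
    dsimp only at hξ
    refine ⟨ξ, h2.1 ?_⟩
    dsimp only
    rw [homology_map_mapDerivedCategory, hξ, ht]
    simp

end Exact

end Groth.Agent.Lib.Seat4.HB
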