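import Groth.Agent.Lib.Seat4HB
import Groth.Agent.Lib.Helper17Hyp10
import Groth.Agent.Lib.Helper17KInjD1

/-!
# `HB` for a projective separator (seat 4)

In a Grothendieck abelian category `A` with a projective object `P` detecting zero morphisms,
`Hom_{D(A)}(P[-q], N) → Hom_A(H^q(P[-q]), H^q N)` is bijective for every `N ∈ D(A)`.
-/

set_option autoImplicit false
set_option linter.dupNamespace false

universe w v

open CategoryTheory CategoryTheory.Limits DerivedCategory

namespace Groth.Agent.Lib.Seat4.HB

open Groth.Agent.Lib.Helper17.Hyp Groth.Agent.S14388 Groth.Agent.Lib.Seat4.HypA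

variable {A : Type (v + 1)} [Category.{v} A] [Abelian A] [IsGrothendieckAbelian.{v} A]
  [HasDerivedCategory.{w} A]

/-- countable products in the derived category of a Grothendieck abelian category. -/
lemma hasProduct_nat (K : ℕ → DerivedCategory A) : HasProduct K := by
  have : HasProducts.{v} (DerivedCategory A) :=
    Groth.Agent.Lib.Helper17.KInj.hasProducts_derivedCategory
  have : HasProducts.{0} (DerivedCategory A) := has_smallest_products_of_hasProducts.{v}
  infer_instance

variable (P : A)

/-- the constant functor at `P` on the one-point category. -/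
def frP : Discrete PUnit.{1} ⥤ A := (Functor.const _).obj P

theorem locFr_frP [Projective P]
    (hsep : ∀ {G G' : A} (π : G ⟶ G'), (∀ s : P ⟶ G, s ≫ π = 0) → π = 0) :
    LocFr (⊥ : GrothendieckTopology (Discrete PUnit.{1})) (frP P) where
  lift {F G} π _ U s := by
    refine ⟨⊤, (⊥ : GrothendieckTopology (Discrete PUnit.{1})).top_mem U, fun V f _ => ?_⟩
    let s₀ : P ⟶ G := s
    let t₀ : P ⟶ F := Projective.factorThru s₀ π
    refine ⟨t₀, ?_⟩
    have h1 : t₀ ≫ π = s₀ := Projective.factorThru_comp s₀ π
    have h2 : (frP P).map f ≫ s = s₀ := Category.id_comp s₀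
    exact h1.trans h2.symm
  sep {G} U s T hT h := by
    rw [GrothendieckTopology.bot_covering] at hT
    subst hT
    have := h (𝟙 U) trivial
    change 𝟙 P ≫ s = 0 at this
    rwa [Category.id_comp] at this
  gen {G G'} π h := hsep π (fun s => h ⟨PUnit.unit⟩ s)

variable [Projective P]

lemma vanishAbove_of_projective (N : DerivedCategory A) :
    VanishAbove (dsgl P) N (fun _ => 0) := by
  intro m k hk
  have hk' : 0 < k := by
    have : (0 : ℤ) < (k : ℤ) := hk
    exact_mod_cast this
  obtain ⟨p, rfl⟩ : ∃ p : ℕ, k = p + 1 := ⟨k - 1, by omega⟩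
  exact @Equiv.subsingleton _ _ (Abelian.Ext.homEquiv (X := P)
    (Y := (homologyFunctor A (m - ((p + 1 : ℕ) : ℤ))).obj N) (n := p + 1)).symm
    (Abelian.Ext.subsingleton_of_projective.{v} P _ p)

theorem bijective_cm_of_projective
    (hsep : ∀ {G G' : A} (π : G ⟶ G'), (∀ s : P ⟶ G, s ≫ π = 0) → π = 0)
    (N : DerivedCategory A) (q : ℤ) :
    Function.Bijective (fun ξ : dsgl P ⟶ N⟦q⟧ => cm ξ) := by
  have := hasProduct_nat (CohCx.truncTower N)
  have hL : CohCx.IsRlimVia (CohCx.truncTower N) (CohCx.truncTowerMap N) N
      (CohCx.toTruncTower N) := by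
    apply isRlimVia_truncTower_of_cofinal (fr := frP P) (locFr_frP P hsep) N
    intro U
    refine ⟨fun _ _ => True, ?_, ?_⟩
    · apply (⊥ : GrothendieckTopology (Discrete PUnit.{1})).superset_covering ?_
        ((⊥ : GrothendieckTopology (Discrete PUnit.{1})).top_mem U)
      intro V f _
      exact ⟨V, 𝟙 V, f, trivial, Category.id_comp f⟩
    · intro V g _
      refine ⟨fun _ => 0, fun T hT => ?_⟩
      refine ⟨fun _ _ => True, ?_, ?_, ?_⟩
      · rw [GrothendieckTopology.bot_covering] at hT
        subst hT
        intro W f _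
        trivial
      · apply (⊥ : GrothendieckTopology (Discrete PUnit.{1})).superset_covering ?_
          ((⊥ : GrothendieckTopology (Discrete PUnit.{1})).top_mem V)
        intro W f _
        exact ⟨W, 𝟙 W, f, trivial, Category.id_comp f⟩
      · intro W g' _
        exact vanishAbove_of_projective P N
  exact bijective_cm_of_acyc hL (vanishAbove_of_projective P N) q

theorem hb_of_projective
    (hsep : ∀ {G G' : A} (π : G ⟶ G'), (∀ s : P ⟶ G, s ≫ π = 0) → π = 0)
    (N : DerivedCategory A) (q : ℤ) : HB ((singleFunctor A q).obj P) N q :=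
  hb_single_of_bijective_cm (bijective_cm_of_projective P hsep N q)

end Groth.Agent.Lib.Seat4.HB
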