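import Groth.Agent.Lib.Seat4TruncMod
import Groth.Agent.Lib.Seat28GammaAcyc

/-!
# `O_X ⊗ ℤ_X ≅ O_X` and acyclicity of `O_X` on an affine scheme (seat 4)
-/

set_option autoImplicit false
set_option linter.style.haveILetI false

universe w u

open CategoryTheory CategoryTheory.Limits DerivedCategory Opposite TopologicalSpace
  AlgebraicGeometry

namespace Groth.Agent.Lib.Seat4.UnitFr

open Groth.Agent.Lib.Helper17.Hyp Groth.Agent.Lib.Seat4.RlimMod Groth.Agent.Lib.Seat4.TruncMod
  Groth.Agent.Lib.Seat28.RD Groth.Agent.Lib.Seat28.Good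

variable (X : Scheme.{u})

/-- sections over `⊤` seen in `gammaAb`. -/
noncomputable def toFr (Z : X.Modules) (f : Coh.structureModule X ⟶ Z) : (frX X).obj ⊤ ⟶ Z :=
  sectEquiv X.ringCatSheaf (⊤ : X.Opens) Z (secEquiv X Z f)

noncomputable def ofFr (Z : X.Modules) (f : (frX X).obj ⊤ ⟶ Z) : Coh.structureModule X ⟶ Z :=
  (secEquiv X Z).symm ((sectEquiv X.ringCatSheaf (⊤ : X.Opens) Z).symm f)

/-- `O_X ⊗ ℤ_X ≅ O_X`. -/
noncomputable def frTopIso : (frX X).obj ⊤ ≅ Coh.structureModule X :=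
  Coyoneda.ext _ _ (fun {Z} f => ofFr X Z f) (fun {Z} f => toFr X Z f)
    (fun {Z} f => by
      dsimp only [toFr, ofFr]
      rw [AddEquiv.apply_symm_apply]
      exact AddEquiv.apply_symm_apply _ _)
    (fun {Z} f => by
      dsimp only [toFr, ofFr]
      erw [AddEquiv.symm_apply_apply]
      exact AddEquiv.symm_apply_apply _ _)
    (fun {Z Z'} f g => by
      dsimp only [toFr]
      rw [secEquiv_comp]
      exact sectEquiv_comm X.ringCatSheaf (⊤ : X.Opens) g _)

end Groth.Agent.Lib.Seat4.UnitFr
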