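import Groth.Agent.Lib.Seat4TildeAdj
import Groth.Agent.Lib.Seat4HB2
import Groth.Agent.Lib.Seat4ProjHB
import Groth.Agent.Lib.Seat4UnitFr

/-!
# `D(R) ≃ D_QCoh(O_{Spec R})` (seat 4)

The derived adjunction `tildeD ⊣ RΓ` restricts to an equivalence between `D(R)` and the full
subcategory of `D(O_{Spec R})` of objects with quasi-coherent cohomology sheaves.
-/

set_option autoImplicit false
set_option linter.style.haveILetI false
universe u
open CategoryTheory CategoryTheory.Limits AlgebraicGeometry DerivedCategory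

attribute [local instance] HasDerivedCategory.standard

namespace Groth.Agent.Lib.Seat4.TildeEquiv

open Groth.Agent.Lib.Seat4.TildeAdj Groth.Agent.Lib.Seat4.HB Groth.Agent.Lib.Helper17.Hyp
  Groth.Agent.Lib.Seat4.HypA

variable (R : CommRingCat.{u})

/-- `R` as a module over itself. -/
abbrev R₀ : ModuleCat.{u} R := ModuleCat.of R R

section LemmaG

/-- evaluation at `1`. -/
lemma hsep_R₀ {G G' : ModuleCat.{u} R} (π : G ⟶ G')
    (h : ∀ s : R₀ R ⟶ G, s ≫ π = 0) : π = 0 := by
  ext x
  have h1 := h (ModuleCat.ofHom (LinearMap.toSpanSingleton R G x))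
  have h2 := congrArg (fun f => f.hom (1 : R)) h1
  simpa using h2

instance : Projective (R₀ R) := (ModuleCat.of R R).projective_of_categoryTheory_projective

/-- A morphism of `R`-modules inducing a bijection on `Hom(R, -)` is an isomorphism. -/
lemma isIso_of_bijective_comp_R₀ {M N : ModuleCat.{u} R} (f : M ⟶ N)
    (h : Function.Bijective (fun s : R₀ R ⟶ M => s ≫ f)) : IsIso f := by
  rw [ConcreteCategory.isIso_iff_bijective]
  constructor
  · intro x y hxy
    have h1 : ModuleCat.ofHom (LinearMap.toSpanSingleton R M x) ≫ f =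
        ModuleCat.ofHom (LinearMap.toSpanSingleton R M y) ≫ f := by
      ext
      simpa using hxy
    have h2 := h.1 h1
    have h3 := congrArg (fun g => g.hom (1 : R)) h2
    simpa using h3
  · intro y
    obtain ⟨s, hs⟩ := h.2 (ModuleCat.ofHom (LinearMap.toSpanSingleton R N y))
    refine ⟨s.hom (1 : R), ?_⟩
    have h3 := congrArg (fun g => g.hom (1 : R)) hs
    simpa using h3

/-- Lemma G: a morphism of quasi-coherent modules on `Spec R` inducing a bijection on
`Hom(O, -)` is an isomorphism. -/
lemma isIso_of_bijective_comp {M N : (Spec (CommRingCat.of R)).Modules}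
    [M.IsQuasicoherent] [N.IsQuasicoherent] (φ : M ⟶ N)
    (h : Function.Bijective (fun s : (tilde.functor R).obj (R₀ R) ⟶ M => s ≫ φ)) : IsIso φ := by
  let adj := tilde.adjunction (R := R)
  have hΓ : IsIso ((moduleSpecΓFunctor (R := R)).map φ) := by
    apply isIso_of_bijective_comp_R₀
    constructor
    · intro s s' hs
      dsimp only at hs
      apply (adj.homEquiv (R₀ R) M).symm.injective
      apply h.1
      dsimp only
      rw [← adj.homEquiv_naturality_right_symm, ← adj.homEquiv_naturality_right_symm, hs]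
    · intro t
      obtain ⟨s, hs⟩ := h.2 ((adj.homEquiv (R₀ R) N).symm t)
      dsimp only at hs
      refine ⟨adj.homEquiv (R₀ R) M s, ?_⟩
      dsimp only
      rw [← adj.homEquiv_naturality_right, hs, Equiv.apply_symm_apply]
  have hM : IsIso (adj.counit.app M) := by
    change IsIso M.fromTildeΓ
    infer_instance
  have hN : IsIso (adj.counit.app N) := by
    change IsIso N.fromTildeΓ
    infer_instance
  have hnat := adj.counit.naturality φ
  simp only [Functor.comp_map, Functor.id_map] at hnat
  have : φ = inv (adj.counit.app M) ≫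
      (tilde.functor R).map ((moduleSpecΓFunctor (R := R)).map φ) ≫ adj.counit.app N := by
    rw [hnat, IsIso.inv_hom_id_assoc]
  rw [this]
  infer_instance

end LemmaG

section Main

/-- (a) `Hom_{D(O_X)}(O_X[-q], K) ≃ Hom(O_X, H^q K)` for `K ∈ D_QCoh(O_X)`, `X` affine. -/
lemma hb_structure (K : DCoh.D (Spec (CommRingCat.of R))) (hK : DCoh.IsQCohD K) (q : ℤ) :
    HB ((singleFunctor (Spec (CommRingCat.of R)).Modules q).obj
      (Coh.structureModule (Spec (CommRingCat.of R)))) K q := by
  haveI : IsGrothendieckAbelian.{u} (Spec (CommRingCat.of R)).Modules :=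
    Groth.Agent.S0484.result (Opens.grothendieckTopology _)
      (Spec (CommRingCat.of R)).ringCatSheaf
  haveI := hasProduct_nat (CohCx.truncTower K)
  have hL := Groth.Agent.Lib.Seat4.TruncMod.isRlimVia_truncTower K hK
  have hP : Acyc (Coh.structureModule (Spec (CommRingCat.of R))) K := by
    intro m k hk
    have h0 := Groth.Agent.Lib.Seat4.TruncMod.vanishAbove_of_isQCoh K hK ⊤
      (isAffineOpen_top (Spec (CommRingCat.of R))) m k hk
    let e := (singleFunctor (Spec (CommRingCat.of R)).Modules 0).mapIso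
      (Groth.Agent.Lib.Seat4.UnitFr.frTopIso (Spec (CommRingCat.of R)))
    exact ⟨fun a b => (cancel_epi e.hom).1 (h0.elim _ _)⟩
  exact hb_single_of_bijective_cm (bijective_cm_of_acyc hL hP q)


variable [PreservesFiniteLimits (tilde.functor R)]

/-- Step 1: the essential image of `tildeD` lies in `D_QCoh`. -/
lemma isQCohD_tildeD (M : DerivedCategory (ModuleCat.{u} R)) :
    DCoh.IsQCohD ((DCoh.tildeD R).obj M) := by
  intro i
  have e := (homologyNatIso (tilde.functor R) i).app M
  have h : ((tilde.functor R).obj ((homologyFunctor (ModuleCat.{u} R) i).obj M)).IsQuasicoherent :=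
    inferInstance
  exact (SheafOfModules.isQuasicoherent.{u} (Spec (CommRingCat.of R)).ringCatSheaf).prop_of_iso
    e.symm h

omit [PreservesFiniteLimits (tilde.functor R)] in
/-- (b) `Hom_{D(R)}(R[-q], N) ≃ Hom(R, H^q N)`. -/
lemma hb_R₀ (N : DerivedCategory (ModuleCat.{u} R)) (q : ℤ) :
    HB ((singleFunctor (ModuleCat.{u} R) q).obj (R₀ R)) N q :=
  hb_of_projective (R₀ R) (fun π h => hsep_R₀ R π h) N q

/-- `tildeD (R[-q]) ≅ O_X[-q]`. -/
noncomputable def tildeDSingleIso (q : ℤ) :
    (DCoh.tildeD R).obj ((singleFunctor (ModuleCat.{u} R) q).obj (R₀ R)) ≅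
      (singleFunctor (Spec (CommRingCat.of R)).Modules q).obj
        (Coh.structureModule (Spec (CommRingCat.of R))) :=
  ((tilde.functor R).mapDerivedCategorySingleFunctor q).app (R₀ R) ≪≫
    (singleFunctor (Spec (CommRingCat.of R)).Modules q).mapIso (tildeSelf (R := R))

lemma hb_tildeD_single (K : DCoh.D (Spec (CommRingCat.of R))) (hK : DCoh.IsQCohD K) (q : ℤ) :
    HB ((DCoh.tildeD R).obj ((singleFunctor (ModuleCat.{u} R) q).obj (R₀ R))) K q :=
  HB.of_iso_left (tildeDSingleIso R q).symm (hb_structure R K hK q)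

/-- (c) `tildeD` is bijective on `Hom(R[-q], N)`. -/
lemma bijective_tildeD_map (N : DerivedCategory (ModuleCat.{u} R)) (q : ℤ) :
    Function.Bijective (fun ξ : (singleFunctor (ModuleCat.{u} R) q).obj (R₀ R) ⟶ N =>
      (DCoh.tildeD R).map ξ) :=
  bijective_mapDerivedCategory_map (tilde.functor R) (hb_R₀ R N q)
    (hb_tildeD_single R _ (isQCohD_tildeD R N) q)

/-- `H^q(tildeD (R[-q])) ≅ R~`. -/
noncomputable def homologyTildeDSingleIso (q : ℤ) :
    (homologyFunctor (Spec (CommRingCat.of R)).Modules q).obj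
      ((DCoh.tildeD R).obj ((singleFunctor (ModuleCat.{u} R) q).obj (R₀ R))) ≅
      (tilde.functor R).obj (R₀ R) :=
  (homologyFunctor (Spec (CommRingCat.of R)).Modules q).mapIso
      (((tilde.functor R).mapDerivedCategorySingleFunctor q).app (R₀ R)) ≪≫
    (singleFunctorCompHomologyFunctorIso (Spec (CommRingCat.of R)).Modules q).app
      ((tilde.functor R).obj (R₀ R))

/-- (d)–(f): the counit of `tildeD ⊣ RΓ` is an isomorphism on `D_QCoh`. -/
theorem isIso_counit_app (K : DCoh.D (Spec (CommRingCat.of R))) (hK : DCoh.IsQCohD K) :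
    IsIso ((dadj R).counit.app K) := by
  rw [DerivedCategory.isIso_iff]
  intro q
  let E := (DCoh.tildeD R).obj ((singleFunctor (ModuleCat.{u} R) q).obj (R₀ R))
  have hd : Function.Bijective
      (fun ψ : E ⟶ (DCoh.tildeD R).obj ((RΓm R).obj K) => ψ ≫ (dadj R).counit.app K) :=
    bijective_comp_counit (dadj R) ((singleFunctor (ModuleCat.{u} R) q).obj (R₀ R)) K
      (bijective_tildeD_map R ((RΓm R).obj K) q)
  have he := bijective_comp_homology_map ((dadj R).counit.app K)
    (hb_tildeD_single R _ (isQCohD_tildeD R ((RΓm R).obj K)) q) (hb_tildeD_single R K hK q) hd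
  let θ := homologyTildeDSingleIso R q
  haveI : ((homologyFunctor (Spec (CommRingCat.of R)).Modules q).obj
      ((DCoh.tildeD R).obj ((RΓm R).obj K))).IsQuasicoherent :=
    isQCohD_tildeD R ((RΓm R).obj K) q
  haveI : ((homologyFunctor (Spec (CommRingCat.of R)).Modules q).obj K).IsQuasicoherent := hK q
  refine isIso_of_bijective_comp R
    (M := (homologyFunctor (Spec (CommRingCat.of R)).Modules q).obj
      ((DCoh.tildeD R).obj ((RΓm R).obj K)))
    (N := (homologyFunctor (Spec (CommRingCat.of R)).Modules q).obj K)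
    ((homologyFunctor (Spec (CommRingCat.of R)).Modules q).map ((dadj R).counit.app K)) ?_
  constructor
  · intro t t' ht
    dsimp only at ht
    have h1 : (θ.hom ≫ t) ≫ (homologyFunctor _ q).map ((dadj R).counit.app K) =
        (θ.hom ≫ t') ≫ (homologyFunctor _ q).map ((dadj R).counit.app K) := by
      rw [Category.assoc, Category.assoc, ht]
    exact (cancel_epi θ.hom).1 (he.1 h1)
  · intro y
    obtain ⟨s, hs⟩ := he.2 (θ.hom ≫ y)
    dsimp only at hs
    refine ⟨θ.inv ≫ s, ?_⟩
    dsimp only
    rw [Category.assoc, hs, Iso.inv_hom_id_assoc]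

/-- `tildeD` reflects isomorphisms. -/
lemma isIso_of_isIso_tildeD_map {M N : DerivedCategory (ModuleCat.{u} R)} (φ : M ⟶ N)
    (h : IsIso ((DCoh.tildeD R).map φ)) : IsIso φ := by
  rw [DerivedCategory.isIso_iff]
  intro n
  have h1 : IsIso ((homologyFunctor (Spec (CommRingCat.of R)).Modules n).map
      ((DCoh.tildeD R).map φ)) := inferInstance
  have h2 : IsIso ((tilde.functor R).map ((homologyFunctor (ModuleCat.{u} R) n).map φ)) :=
    (isIso_homology_map_iff (tilde.functor R) φ n).1 h1
  exact isIso_of_fully_faithful (tilde.functor R) _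

/-- the unit of `tildeD ⊣ RΓ` is an isomorphism. -/
theorem isIso_unit_app (M : DerivedCategory (ModuleCat.{u} R)) :
    IsIso ((dadj R).unit.app M) := by
  apply isIso_of_isIso_tildeD_map R
  have hε : IsIso ((dadj R).counit.app ((DCoh.tildeD R).obj M)) :=
    isIso_counit_app R _ (isQCohD_tildeD R M)
  have htri := (dadj R).left_triangle_components M
  have : (DCoh.tildeD R).map ((dadj R).unit.app M) =
      inv ((dadj R).counit.app ((DCoh.tildeD R).obj M)) := by
    rw [← cancel_mono ((dadj R).counit.app ((DCoh.tildeD R).obj M)), htri, IsIso.inv_hom_id]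
    rfl
  rw [this]
  infer_instance

instance : IsIso (dadj R).unit :=
  haveI : ∀ M, IsIso ((dadj R).unit.app M) := fun M => isIso_unit_app R M
  NatIso.isIso_of_isIso_app _

/-- `tildeD` is fully faithful. -/
noncomputable def fullyFaithfulTildeD : (DCoh.tildeD R).FullyFaithful :=
  (dadj R).fullyFaithfulLOfIsIsoUnit

/-- **`D(R) ≃ D_QCoh(O_{Spec R})`**. -/
theorem main :
    (DCoh.tildeD R).Full ∧ (DCoh.tildeD R).Faithful ∧
    ∀ K : DCoh.D (Spec (CommRingCat.of R)),
      DCoh.IsQCohD K ↔ ∃ M, Nonempty ((DCoh.tildeD R).obj M ≅ K) := by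
  refine ⟨(fullyFaithfulTildeD R).full, (fullyFaithfulTildeD R).faithful, fun K => ⟨fun hK => ?_, ?_⟩⟩
  · haveI := isIso_counit_app R K hK
    exact ⟨(RΓm R).obj K, ⟨asIso ((dadj R).counit.app K)⟩⟩
  · rintro ⟨M, ⟨e⟩⟩ i
    have h := isQCohD_tildeD R M i
    exact (SheafOfModules.isQuasicoherent.{u} (Spec (CommRingCat.of R)).ringCatSheaf).prop_of_iso
      ((homologyFunctor (Spec (CommRingCat.of R)).Modules i).mapIso e) h

end Main

end Groth.Agent.Lib.Seat4.TildeEquiv
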