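/-
Seat 81 helper library: the global sections functor of abelian sheaves on a space is `Hom(ℤ, -)`; its right
derived functors compute sheaf cohomology `Sheaf.H`.
-/
import Mathlib
import Groth.Agent.Lib.Seat81GSS
import Groth.Agent.Lib.Helper23ExtRD
import Groth.Agent.Lib.Helper21DerPost

open CategoryTheory Limits Opposite TopologicalSpace

namespace Groth.Agent.Lib.Seat81.GammaDer

universe u

variable (Y : TopCat.{u})

/-- global sections of abelian sheaves on a space -/
noncomputable abbrev Γ : Sheaf (Opens.grothendieckTopology Y) AddCommGrpCat.{u} ⥤ AddCommGrpCat.{u} :=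
  (sheafSections (Opens.grothendieckTopology Y) AddCommGrpCat.{u}).obj (op ⊤)

/-- the constant sheaf `ℤ` -/
noncomputable abbrev Z : Sheaf (Opens.grothendieckTopology Y) AddCommGrpCat.{u} :=
  (constantSheaf (Opens.grothendieckTopology Y) AddCommGrpCat.{u}).obj (AddCommGrpCat.of (ULift ℤ))

noncomputable abbrev adj : constantSheaf (Opens.grothendieckTopology Y) AddCommGrpCat.{u} ⊣ Γ Y :=
  constantSheafAdj (Opens.grothendieckTopology Y) AddCommGrpCat.{u}
    (Limits.isTerminalTop : Limits.IsTerminal (⊤ : Opens Y))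

instance : (Γ Y).IsRightAdjoint := (adj Y).isRightAdjoint

instance : (Γ Y).Additive := (adj Y).right_adjoint_additive

noncomputable instance : PreservesFiniteLimits (Γ Y) := inferInstance

/-- `Hom(ℤ, F) ≃+ F(⊤)` -/
noncomputable def homEquiv (F : Sheaf (Opens.grothendieckTopology Y) AddCommGrpCat.{u}) :
    (Z Y ⟶ F) ≃+ (Γ Y).obj F :=
  AddEquiv.trans ((adj Y).homAddEquiv _ F) (AddCommGrpCat.uliftZMultiplesAddEquiv _)

/-- `Hom(ℤ, -) ≅ Γ` -/
noncomputable def coyonedaIso : preadditiveCoyoneda.obj (op (Z Y)) ≅ Γ Y :=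
  NatIso.ofComponents (fun F => AddEquiv.toAddCommGrpIso (X := AddCommGrpCat.of _) (homEquiv Y F))
    (fun {F G} φ => by
      ext x
      change homEquiv Y G (x ≫ φ) = φ.hom.app (op ⊤) (homEquiv Y F x)
      simp only [homEquiv, AddEquiv.trans_apply]
      rfl)

/-- `Rⁿ Γ(N) ≅ Hⁿ(Y, N)` -/
theorem nonempty_rightDerived_iso (N : Sheaf (Opens.grothendieckTopology Y) AddCommGrpCat.{u}) (n : ℕ) :
    Nonempty (((Γ Y).rightDerived n).obj N ≅ AddCommGrpCat.of (Sheaf.H N n)) := by
  obtain ⟨e⟩ := Groth.Agent.Lib.Helper23ExtRD.rightDerived_coyoneda_iso (Z Y) N n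
  exact ⟨((Groth.Agent.Lib.Helper21.DerPost.natIsoRightDerived (coyonedaIso Y) n).symm).app N ≪≫ e⟩

theorem acyc_iff (N : Sheaf (Opens.grothendieckTopology Y) AddCommGrpCat.{u}) :
    GSS.Acyc (Γ Y) N ↔ ∀ a : ℕ, Subsingleton (Sheaf.H N (a + 1)) := by
  constructor
  · intro h a
    obtain ⟨e⟩ := nonempty_rightDerived_iso Y N (a + 1)
    have := (h a).of_iso e.symm
    exact AddCommGrpCat.subsingleton_of_isZero this
  · intro h a
    obtain ⟨e⟩ := nonempty_rightDerived_iso Y N (a + 1)
    refine IsZero.of_iso ?_ e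
    have := h a
    exact AddCommGrpCat.isZero_of_subsingleton _

end Groth.Agent.Lib.Seat81.GammaDer
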