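/-
Seat 81 helper library: for `f : X ⟶ S` quasi-compact quasi-separated with `S` affine and `M` quasi-coherent,
`H^q(X, M) ≃+ Γ(S, R^q f_* M)` (degenerate Leray spectral sequence).
-/
import Groth.Agent.Lib.Seat81GammaDer
import Groth.Agent.Lib.Seat81BC
import Groth.Agent.Lib.Helper23ModAbBridge
import Groth.Agent.Lib.Helper23AffVanish7
import Groth.Agent.Lib.Helper16Flasque
import Groth.Agent.Lib.Helper16ClosedEmb

set_option autoImplicit false
universe u

namespace Groth.Agent.Lib.Seat81.GammaPush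

open AlgebraicGeometry CategoryTheory Opposite Limits TopologicalSpace
open Groth.Agent.Lib.Seat81 Groth.Agent.Lib.Seat81.GammaDer

/-- `f_* ⋙ Γ(S, -) ≅ Γ(X, -)` -/
noncomputable def pushΓIso {X S : Scheme.{u}} (f : X ⟶ S) :
    Coh.pushAb f ⋙ Γ S.carrier ≅ Γ X.carrier :=
  NatIso.ofComponents (fun F => Iso.refl _) (fun φ => by
    rfl)

theorem acyc_push_injective {X S : Scheme.{u}} (f : X ⟶ S)
    (I : Sheaf (Opens.grothendieckTopology X) AddCommGrpCat.{u}) (hI : Injective I) :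
    GSS.Acyc (Γ S.carrier) ((Coh.pushAb f).obj I) := by
  rw [acyc_iff]
  intro a
  have hfl : TopCat.Sheaf.IsFlasque I := Groth.Agent.Lib.Helper16.Flasque.injective_isFlasque I
  have hfl' : TopCat.Sheaf.IsFlasque ((CohTop.push f.base).obj I) :=
    TopCat.Sheaf.IsFlasque.pushforward_isFlasque I f.base
  exact Groth.Agent.Lib.Helper16.Flasque.H_subsingleton _ a

theorem good {X S : Scheme.{u}} (f : X ⟶ S)
    [QuasiCompact f] [QuasiSeparated f] [IsAffine S] (M : X.Modules) [Coh.IsQCoh M] :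
    GSS.Good (Coh.pushAb f) (Γ S.carrier) (Coh.toAb M) := by
  intro b
  rw [acyc_iff]
  intro a
  have := DerRes.enoughInjectives X
  have : HasInjectiveResolutions X.Modules := inferInstance
  obtain ⟨e⟩ := Groth.Agent.Lib.Helper23.ModAbBridge.nonempty_toAb_Rpush_iso f M b
  have hq : ((Coh.Rpush f b).obj M).IsQuasicoherent := BC.qcoh_Rpush f M b
  have h := Groth.Agent.Lib.Helper23.AffVanish.subsingleton_HH ((Coh.Rpush f b).obj M) (a + 1) (Nat.succ_pos a)
  refine subsingleton_of_forall_eq 0 (fun x => ?_)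
  have h1 : Sheaf.H.map e.hom (a + 1) (Sheaf.H.map e.inv (a + 1) x) = x := by
    rw [← Sheaf.H.map_comp_apply, e.inv_hom_id, Sheaf.H.map_id_apply]
  rw [← h1, Subsingleton.elim (Sheaf.H.map e.inv (a + 1) x) 0, map_zero]

theorem nonempty_HH_addEquiv {X S : Scheme.{u}} (f : X ⟶ S)
    [QuasiCompact f] [QuasiSeparated f] [IsAffine S] (M : X.Modules) [Coh.IsQCoh M] (q : ℕ) :
    Nonempty (Coh.HH X M q ≃+ ↑(((Coh.RpushAb f q).obj (Coh.toAb M)).obj.obj (op ⊤))) := by
  have : PreservesFiniteLimits (Coh.pushAb f) :=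
    Groth.Agent.Lib.Helper16.ClosedEmb.push_preservesFiniteLimits f.base
  obtain ⟨e1⟩ := GSS.gss_degenerate (Coh.pushAb f) (Γ S.carrier) (acyc_push_injective f) (Coh.toAb M)
    (good f M) q
  obtain ⟨e2⟩ := nonempty_rightDerived_iso X.carrier (Coh.toAb M) q
  let e3 := (Groth.Agent.Lib.Helper21.DerPost.natIsoRightDerived (pushΓIso f) q).app (Coh.toAb M)
  exact ⟨(e2.symm ≪≫ e3.symm ≪≫ e1).addCommGroupIsoToAddEquiv⟩

end Groth.Agent.Lib.Seat81.GammaPush
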