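/-
Seat 81 helper library: sections of higher direct images over affine opens of the base are the cohomology of the
preimage (additive version), restriction of higher direct images to opens of the base, and the vanishing criterion
`R^q f_* M = 0 ↔ H^q(f⁻¹V, M) = 0` for all affine opens `V`.
-/
import Groth.Agent.Lib.Seat81BC
import Groth.Agent.Lib.Seat81GammaPush

namespace Groth.Agent.Lib.Seat81.SecRpush
open CategoryTheory CategoryTheory.Limits AlgebraicGeometry TopologicalSpace Opposite
open AlgebraicGeometry.Scheme.Modules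
open Groth.Agent.Lib.Seat81.DerRes Groth.Agent.Lib.Seat81.BC
open Groth.Agent.Lib.Helper21 Groth.Agent.Lib.Helper23.QCohLocal
universe u
set_option autoImplicit false

attribute [local instance] Groth.Agent.Lib.Helper23.QCohLocal.restrictFunctor_isRightAdjoint

variable {X S : Scheme.{u}} (f : X ⟶ S) (V : S.Opens)

/-- higher direct images commute with restriction to an open of the base -/
theorem nonempty_Rpush_restrict_iso [HasInjectiveResolutions X.Modules]
    [HasInjectiveResolutions ((f ⁻¹ᵁ V : X.Opens) : Scheme.{u}).Modules] (M : X.Modules) (p : ℕ) :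
    Nonempty (((Coh.Rpush f p).obj M).restrict V.ι ≅
      (Coh.Rpush (f ∣_ V) p).obj (M.restrict (f ⁻¹ᵁ V).ι)) := by
  let e1 := (DerPost.postIso (pushforward f) (restrictFunctor V.ι) p).app M
  let e2 := (DerPost.natIsoRightDerived (bcIso f V) p).app M
  obtain ⟨e3⟩ := nonempty_rightDerived_restrict_comp (f ⁻¹ᵁ V) (f ∣_ V) M p
  exact ⟨e1.symm ≪≫ e2 ≪≫ e3⟩

/-- sections over `V` of a module as global sections of its restriction -/
noncomputable def sectionsRestrictIso (N : S.Modules) : Γ(N.restrict V.ι, ⊤) ≅ Γ(N, V) :=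
  N.restrictAppIso V.ι ⊤ ≪≫ N.presheaf.mapIso (eqToIso (by rw [Scheme.Opens.ι_image_top])).op

/-- **sections of higher direct images over an affine open are cohomology of the preimage** (additive version) -/
theorem nonempty_HHon_addEquiv_sections (hV : IsAffineOpen V) [QuasiCompact f] [QuasiSeparated f]
    [HasInjectiveResolutions X.Modules] (M : X.Modules) [M.IsQuasicoherent] (q : ℕ) :
    Nonempty (Coh.HHon X M (f ⁻¹ᵁ V) q ≃+ Γ((Coh.Rpush f q).obj M, V)) := by
  have : IsAffine (V : Scheme.{u}) := hV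
  have := enoughInjectives ((f ⁻¹ᵁ V : X.Opens) : Scheme.{u})
  have : HasInjectiveResolutions ((f ⁻¹ᵁ V : X.Opens) : Scheme.{u}).Modules := inferInstance
  obtain ⟨e1⟩ := nonempty_Rpush_restrict_iso f V M q
  obtain ⟨e2⟩ := GammaPush.nonempty_HH_addEquiv (f ∣_ V) (M.restrict (f ⁻¹ᵁ V).ι) q
  obtain ⟨e3⟩ := Groth.Agent.Lib.Helper23.ModAbBridge.nonempty_toAb_Rpush_iso (f ∣_ V)
    (M.restrict (f ⁻¹ᵁ V).ι) q
  -- sections over ⊤
  let a3 : Γ((Coh.Rpush (f ∣_ V) q).obj (M.restrict (f ⁻¹ᵁ V).ι), ⊤) ≃+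
      ((Coh.RpushAb (f ∣_ V) q).obj (Coh.toAb (M.restrict (f ⁻¹ᵁ V).ι))).obj.obj (op ⊤) :=
    (((GammaDer.Γ (V : Scheme.{u}).carrier).mapIso e3)).addCommGroupIsoToAddEquiv
  let a1 : Γ(((Coh.Rpush f q).obj M).restrict V.ι, ⊤) ≃+
      Γ((Coh.Rpush (f ∣_ V) q).obj (M.restrict (f ⁻¹ᵁ V).ι), ⊤) :=
    (((GammaDer.Γ (V : Scheme.{u}).carrier).mapIso
      ((SheafOfModules.toSheaf (V : Scheme.{u}).ringCatSheaf).mapIso e1))).addCommGroupIsoToAddEquiv
  let a0 : Γ(((Coh.Rpush f q).obj M).restrict V.ι, ⊤) ≃+ Γ((Coh.Rpush f q).obj M, V) :=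
    (sectionsRestrictIso V ((Coh.Rpush f q).obj M)).addCommGroupIsoToAddEquiv
  exact ⟨e2.trans (a3.symm.trans (a1.symm.trans a0))⟩

/-- a module all of whose sections over a basis of opens vanish is zero. -/
theorem isZero_of_basis {Y : Scheme.{u}} (N : Y.Modules) (B : Set Y.Opens) (hB : TopologicalSpace.Opens.IsBasis B)
    (h : ∀ U ∈ B, Subsingleton Γ(N, U)) : IsZero N := by
  have key : ∀ W : Y.Opens, Subsingleton Γ(N, W) := by
    intro W
    refine ⟨fun s t => ?_⟩
    refine N.isSheaf.section_ext (U := op W) fun x hx => ?_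
    obtain ⟨V, hVB, hxV, hVW⟩ := TopologicalSpace.Opens.isBasis_iff_nbhd.mp hB hx
    have := h V hVB
    exact ⟨V, hVW, hxV, Subsingleton.elim _ _⟩
  rw [IsZero.iff_id_eq_zero]
  apply Scheme.Modules.hom_ext
  intro U
  ext x
  have := key U
  exact Subsingleton.elim _ _

theorem subsingleton_sections_of_isZero {Y : Scheme.{u}} (N : Y.Modules) (h : IsZero N) (U : Y.Opens) :
    Subsingleton Γ(N, U) := by
  refine ⟨fun s t => ?_⟩
  have h0 : (𝟙 N : N ⟶ N) = 0 := h.eq_of_src _ _
  have h1 : ∀ x : Γ(N, U), x = 0 := fun x => by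
    have := congrArg (fun φ : N ⟶ N => φ.app U x) h0
    exact this
  rw [h1 s, h1 t]

/-- **vanishing criterion**: `R^q f_* M = 0` iff `H^q(f⁻¹V, M) = 0` for all affine opens `V` of the base -/
theorem isZero_Rpush_iff_forall_affine [QuasiCompact f] [QuasiSeparated f]
    [HasInjectiveResolutions X.Modules] (M : X.Modules) [M.IsQuasicoherent] (q : ℕ) :
    IsZero ((Coh.Rpush f q).obj M) ↔
      ∀ V : S.Opens, IsAffineOpen V → Subsingleton (Coh.HHon X M (f ⁻¹ᵁ V) q) := by
  constructor
  · intro h V hV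
    obtain ⟨e⟩ := nonempty_HHon_addEquiv_sections f V hV M q
    have := subsingleton_sections_of_isZero _ h V
    exact e.subsingleton
  · intro h
    refine isZero_of_basis _ S.affineOpens S.isBasis_affineOpens (fun V hV => ?_)
    obtain ⟨e⟩ := nonempty_HHon_addEquiv_sections f V hV M q
    have := h V hV
    exact e.symm.subsingleton

/-- the same criterion for the higher direct images of the underlying abelian sheaf -/
theorem isZero_RpushAb_iff_forall_affine [QuasiCompact f] [QuasiSeparated f]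
    (M : X.Modules) [M.IsQuasicoherent] (q : ℕ) :
    IsZero ((Coh.RpushAb f q).obj (Coh.toAb M)) ↔
      ∀ V : S.Opens, IsAffineOpen V → Subsingleton (Coh.HHon X M (f ⁻¹ᵁ V) q) := by
  have := enoughInjectives X
  have : HasInjectiveResolutions X.Modules := inferInstance
  obtain ⟨e⟩ := Groth.Agent.Lib.Helper23.ModAbBridge.nonempty_toAb_Rpush_iso f M q
  rw [← isZero_Rpush_iff_forall_affine f M q]
  constructor
  · intro h
    exact RelExtSS.isZero_of_isZero_toAb _ (IsZero.of_iso h e)
  · intro h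
    exact IsZero.of_iso ((SheafOfModules.toSheaf S.ringCatSheaf).map_isZero h) e.symm

end Groth.Agent.Lib.Seat81.SecRpush
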