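/-
Seat 81 helper library: vanishing of higher direct images from vanishing of cohomology over the preimages of an
affine open COVER of the base.
-/
import Groth.Agent.Lib.Seat81SecRpush
import Groth.Agent.Lib.Helper2Push

namespace Groth.Agent.Lib.Seat81.SecRpush
open CategoryTheory CategoryTheory.Limits AlgebraicGeometry TopologicalSpace Opposite
open AlgebraicGeometry.Scheme.Modules
open Groth.Agent.Lib.Seat81.DerRes Groth.Agent.Lib.Seat81.BC
open Groth.Agent.Lib.Helper21 Groth.Agent.Lib.Helper23.QCohLocal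
universe u
set_option autoImplicit false

/-- a quasi-coherent module with no sections over an affine open has no sections over its basic opens -/
theorem subsingleton_sections_basicOpen {Y : Scheme.{u}} (N : Y.Modules) [N.IsQuasicoherent] {U : Y.Opens}
    (hU : IsAffineOpen U) (h : Subsingleton Γ(N, U)) (f : Γ(Y, U)) : Subsingleton Γ(N, Y.basicOpen f) := by
  have hloc := Groth.Agent.Lib.Helper2.Push.IsLocOn.of_isQuasicoherent hU N
  refine ⟨fun s t => ?_⟩
  have key : ∀ s : Γ(N, Y.basicOpen f), s = 0 := by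
    intro s
    obtain ⟨n, t, ht⟩ := hloc.exists_extension f s
    have ht0 : t = 0 := Subsingleton.elim _ _
    rw [ht0, map_zero] at ht
    have hu : IsUnit ((Y.presheaf.map (homOfLE (Y.basicOpen_le f)).op f) ^ n) :=
      (RingedSpace.isUnit_res_basicOpen Y.toRingedSpace f).pow n
    obtain ⟨u, hu'⟩ := hu
    have h1 : (u⁻¹ : (Γ(Y, Y.basicOpen f))ˣ).1 • ((Y.presheaf.map (homOfLE (Y.basicOpen_le f)).op f) ^ n • s) = s := by
      rw [← hu', smul_smul, Units.inv_mul, one_smul]
    rw [← h1, ← ht, smul_zero]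
  rw [key s, key t]

/-- a quasi-coherent module with no sections over the members of an affine open cover is zero -/
theorem isZero_of_affine_cover {Y : Scheme.{u}} (N : Y.Modules) [N.IsQuasicoherent] {ι : Type*}
    (V : ι → Y.Opens) (hV : IsOpenCover V) (hVa : ∀ i, IsAffineOpen (V i))
    (h : ∀ i, Subsingleton Γ(N, V i)) : IsZero N := by
  refine isZero_of_basis N {W | ∃ (i : ι) (f : Γ(Y, V i)), W = Y.basicOpen f} ?_ ?_
  · rw [Opens.isBasis_iff_nbhd]
    intro O x hxO
    have hx : x ∈ (⨆ i, V i : Y.Opens) := by rw [hV.iSup_eq_top]; trivial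
    obtain ⟨i, hxi⟩ := Opens.mem_iSup.1 hx
    obtain ⟨f, hf, hxf⟩ := (hVa i).exists_basicOpen_le (V := O) ⟨x, hxO⟩ hxi
    exact ⟨Y.basicOpen f, ⟨i, f, rfl⟩, hxf, hf⟩
  · rintro W ⟨i, f, rfl⟩
    exact subsingleton_sections_basicOpen N (hVa i) (h i) f

variable {X S : Scheme.{u}} (f : X ⟶ S)

/-- **vanishing criterion on an affine open cover of the base** -/
theorem isZero_Rpush_of_affine_cover [QuasiCompact f] [QuasiSeparated f]
    [HasInjectiveResolutions X.Modules] (M : X.Modules) [M.IsQuasicoherent] (q : ℕ) {ι : Type*}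
    (V : ι → S.Opens) (hV : IsOpenCover V) (hVa : ∀ i, IsAffineOpen (V i))
    (h : ∀ i, Subsingleton (Coh.HHon X M (f ⁻¹ᵁ (V i)) q)) :
    IsZero ((Coh.Rpush f q).obj M) := by
  have hq : ((Coh.Rpush f q).obj M).IsQuasicoherent := qcoh_Rpush f M q
  refine isZero_of_affine_cover _ V hV hVa (fun i => ?_)
  obtain ⟨e⟩ := nonempty_HHon_addEquiv_sections f (V i) (hVa i) M q
  have := h i
  exact e.symm.subsingleton

/-- the same for the higher direct images of the underlying abelian sheaf -/
theorem isZero_RpushAb_of_affine_cover [QuasiCompact f] [QuasiSeparated f]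
    (M : X.Modules) [M.IsQuasicoherent] (q : ℕ) {ι : Type*}
    (V : ι → S.Opens) (hV : IsOpenCover V) (hVa : ∀ i, IsAffineOpen (V i))
    (h : ∀ i, Subsingleton (Coh.HHon X M (f ⁻¹ᵁ (V i)) q)) :
    IsZero ((Coh.RpushAb f q).obj (Coh.toAb M)) := by
  have := enoughInjectives X
  have : HasInjectiveResolutions X.Modules := inferInstance
  obtain ⟨e⟩ := Groth.Agent.Lib.Helper23.ModAbBridge.nonempty_toAb_Rpush_iso f M q
  exact IsZero.of_iso ((SheafOfModules.toSheaf S.ringCatSheaf).map_isZero
    (isZero_Rpush_of_affine_cover f M q V hV hVa h)) e.symm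

end Groth.Agent.Lib.Seat81.SecRpush
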