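import Groth.Agent.Lib.Seat4PushQcLocal
import Groth.Agent.Lib.Seat4TildeEquiv
import Groth.Agent.Lib.Seat28DAdj
import Groth.Agent.Lib.Seat28GammaAcyc
import Groth.Agent.Lib.Seat28Supp
import Groth.Agent.Lib.Helper23PB
import Groth.Agent.Lib.Seat81SecRpush2

/-!
# `Rf_*` reflects isomorphisms on `D_QCoh` for affine `f` (seat 4)
-/

set_option autoImplicit false
set_option linter.style.haveILetI false

universe u

open CategoryTheory CategoryTheory.Limits DerivedCategory Opposite TopologicalSpace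
  AlgebraicGeometry

namespace Groth.Agent.Lib.Seat4.AffConserv

open Groth.Agent.Lib.Seat4.TildeAdj Groth.Agent.Lib.Seat4.HB Groth.Agent.Lib.Helper17.Hyp
  Groth.Agent.Lib.Seat4.HypA Groth.Agent.Lib.Seat4.TildeEquiv Groth.Agent.Lib.Helper1.Sky
  Groth.Agent.Lib.Seat28.RD Groth.Agent.Lib.Seat4.QcSerre Groth.Agent.Lib.Seat4.PushVanish
  Groth.Agent.Lib.Seat4.PushQcLocal

attribute [local instance] HasDerivedCategory.standard

section HBAff

variable (Y : Scheme.{u}) [IsAffine Y]

/-- `Hom_{D(O_Y)}(O_Y[-q], K) ≃ Hom(O_Y, H^q K)` for `K ∈ D_QCoh(O_Y)`, `Y` an affine scheme. -/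
lemma hb_structure_of_isAffine (K : DCoh.D Y) (hK : DCoh.IsQCohD K) (q : ℤ) :
    HB ((singleFunctor Y.Modules q).obj (Coh.structureModule Y)) K q := by
  haveI : IsGrothendieckAbelian.{u} Y.Modules :=
    Groth.Agent.S0484.result (Opens.grothendieckTopology _) Y.ringCatSheaf
  haveI := hasProduct_nat (CohCx.truncTower K)
  have hL := Groth.Agent.Lib.Seat4.TruncMod.isRlimVia_truncTower K hK
  have hP : Acyc (Coh.structureModule Y) K := by
    intro m k hk
    have h0 := Groth.Agent.Lib.Seat4.TruncMod.vanishAbove_of_isQCoh K hK ⊤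
      (isAffineOpen_top Y) m k hk
    let e := (singleFunctor Y.Modules 0).mapIso (Groth.Agent.Lib.Seat4.UnitFr.frTopIso Y)
    exact ⟨fun a b => (cancel_epi e.hom).1 (h0.elim _ _)⟩
  exact hb_single_of_bijective_cm (bijective_cm_of_acyc hL hP q)

end HBAff

section StepB

open Groth.Agent.Lib.Seat28.Good Groth.Agent.Lib.Helper23.PB

variable {U V : Scheme.{u}} (g : U ⟶ V)

/-- `Lg^*(O_V[-q]) ≅ O_U[-q]`. -/
noncomputable def lpullSOIso [DCoh.HasLpull g] (q : ℤ) :
    (DCoh.Lpull g).obj (Q.obj (SO V q)) ≅ Q.obj (SO U q) :=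
  lpullIso g (SO V q) (kffs_SO V q) ≪≫ Q.mapIso
    ((HomologicalComplex.singleMapHomologicalComplex (Scheme.Modules.pullback g)
      (ComplexShape.up ℤ) q).app (Coh.structureModule V) ≪≫
    (HomologicalComplex.single _ _ q).mapIso (pullbackUnitIso g))

/-- for `U` affine and `D ∈ D_QCoh(U)`, `Rg_* D = 0` implies `D = 0`. -/
theorem isZero_of_isZero_rpush [IsAffine U] [DCoh.HasRpush g] (D : DCoh.D U)
    (hD : DCoh.IsQCohD D) (h : IsZero ((DCoh.Rpush g).obj D)) : IsZero D := by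
  haveI : DCoh.HasLpull g := hasLpull g
  let adj := lpullRpushAdj g
  apply Groth.Agent.Lib.Seat28.Supp.isZero_of_HD
  intro q
  have h1 : Subsingleton ((DCoh.Lpull g).obj (Q.obj (SO V q)) ⟶ D) :=
    haveI : Subsingleton (Q.obj (SO V q) ⟶ (DCoh.Rpush g).obj D) :=
      ⟨fun a b => h.eq_of_tgt a b⟩
    (adj.homEquiv _ _).subsingleton
  let e : (singleFunctor U.Modules q).obj (Coh.structureModule U) ≅
      (DCoh.Lpull g).obj (Q.obj (SO V q)) :=
    (singleFunctorIsoCompQ U.Modules q).app (Coh.structureModule U) ≪≫ (lpullSOIso g q).symm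
  have h2 : Subsingleton ((singleFunctor U.Modules q).obj (Coh.structureModule U) ⟶ D) :=
    ⟨fun a b => (cancel_epi e.inv).1 (h1.elim _ _)⟩
  have hb := hb_structure_of_isAffine U D hD q
  have h3 : Subsingleton ((homologyFunctor U.Modules q).obj
      ((singleFunctor U.Modules q).obj (Coh.structureModule U)) ⟶
      (homologyFunctor U.Modules q).obj D) :=
    ⟨fun a b => by
      obtain ⟨a', rfl⟩ := hb.2 a
      obtain ⟨b', rfl⟩ := hb.2 b
      rw [h2.elim a' b']⟩
  let κ : Coh.structureModule U ≅ (homologyFunctor U.Modules q).obj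
      ((singleFunctor U.Modules q).obj (Coh.structureModule U)) :=
    ((singleFunctorCompHomologyFunctorIso U.Modules q).app (Coh.structureModule U)).symm
  have h4 : Subsingleton (Coh.structureModule U ⟶ (homologyFunctor U.Modules q).obj D) :=
    ⟨fun a b => (cancel_epi κ.inv).1 (h3.elim _ _)⟩
  have h5 : Subsingleton ((DCoh.gammaAb U).obj ((homologyFunctor U.Modules q).obj D)) :=
    (secEquiv U _).symm.subsingleton
  haveI : ((homologyFunctor U.Modules q).obj D).IsQuasicoherent := hD q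
  refine Groth.Agent.Lib.Seat81.SecRpush.isZero_of_affine_cover _ (fun _ : Unit => (⊤ : U.Opens))
    ?_ (fun _ => isAffineOpen_top U) (fun _ => h5)
  rw [IsOpenCover, eq_top_iff]
  intro x _
  exact Opens.mem_iSup.2 ⟨(), trivial⟩

end StepB

section Cover

variable {X : Scheme.{u}}

lemma subsingleton_stalk_of_isZero {M : X.Modules} (hz : IsZero M) (x : X) :
    Subsingleton (M.presheaf.stalk x) := by
  refine ⟨fun a b => ?_⟩
  obtain ⟨U, hxU, s, rfl⟩ := M.presheaf.exists_germ_eq a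
  obtain ⟨V, hxV, t, rfl⟩ := M.presheaf.exists_germ_eq b
  have hU := Groth.Agent.Lib.Helper20.OmegaUnr.subsingleton_sections_of_isZero hz U
  have hV := Groth.Agent.Lib.Helper20.OmegaUnr.subsingleton_sections_of_isZero hz V
  rw [Subsingleton.elim s 0, Subsingleton.elim t 0, map_zero, map_zero]

lemma subsingleton_stalk_of_isZero_restrict (W : X.Opens) (M : X.Modules)
    (h : IsZero ((Scheme.Modules.restrictFunctor W.ι).obj M)) (x : X) (hx : x ∈ W) :
    Subsingleton (M.presheaf.stalk x) := by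
  have h3 := subsingleton_stalk_of_isZero h ⟨x, hx⟩
  let e' := (Scheme.Modules.restrictStalkNatIso W.ι ⟨x, hx⟩).app M
  refine ⟨fun a b => ?_⟩
  have hab : e'.inv a = e'.inv b := Subsingleton.elim (h := h3) _ _
  have h4 : ∀ c, e'.hom (e'.inv c) = c := fun c => by
    rw [← ConcreteCategory.comp_apply, e'.inv_hom_id]
    rfl
  rw [← h4 a, ← h4 b, hab]

/-- a module whose restrictions to an open cover vanish is zero -/
lemma isZero_of_open_cover (M : X.Modules) {ι : Type*} (V : ι → X.Opens) (hV : IsOpenCover V)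
    (h : ∀ i, IsZero ((Scheme.Modules.restrictFunctor (V i).ι).obj M)) : IsZero M := by
  refine Groth.Agent.Lib.Seat28.Supp.isZero_of_subsingleton_stalk M (fun x => ?_)
  have hx : x ∈ (⨆ i, V i : X.Opens) := by rw [hV.iSup_eq_top]; trivial
  obtain ⟨i, hxi⟩ := TopologicalSpace.Opens.mem_iSup.1 hx
  exact subsingleton_stalk_of_isZero_restrict (V i) M (h i) x hxi

end Cover

section StepC

open Scheme.Modules

variable {X S : Scheme.{u}} (f : X ⟶ S)

/-- for `f` affine and `C ∈ D_QCoh(X)`, `Rf_* C = 0` implies `C = 0`. -/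
theorem isZero_of_isZero_rpush_of_isAffineHom [IsAffineHom f] [DCoh.HasRpush f] (C : DCoh.D X)
    (hC : DCoh.IsQCohD C) (h : IsZero ((DCoh.Rpush f).obj C)) : IsZero C := by
  obtain ⟨I, hI, ⟨e⟩⟩ := exists_fibrant_repr.{u} C
  haveI : I.IsKInjective := hI.isKInjective
  have hQI : DCoh.IsQCohD (Q.obj I) := fun j =>
    qc_of_iso X ((homologyFunctor X.Modules j).mapIso e.symm) (hC j)
  have hpush : IsZero (Q.obj ((pushCx f).obj I)) :=
    h.of_iso ((DCoh.Rpush f).mapIso e.symm ≪≫
      isoOfKInj.{u} (Scheme.Modules.pushforward f) I).symm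
  apply Groth.Agent.Lib.Seat28.Supp.isZero_of_HD
  intro q
  refine IsZero.of_iso ?_ ((homologyFunctor X.Modules q).mapIso e.symm ≪≫
    (homologyFunctorFactors X.Modules q).app I)
  have hcov : IsOpenCover (fun V : S.affineOpens => f ⁻¹ᵁ V.1) := by
    rw [IsOpenCover, eq_top_iff]
    intro y _
    have hx : f y ∈ (⨆ U : S.affineOpens, (U : S.Opens) : S.Opens) := by
      rw [iSup_affineOpens_eq_top]; trivial
    obtain ⟨U, hU⟩ := Opens.mem_iSup.1 hx
    exact Opens.mem_iSup.2 ⟨U, hU⟩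
  refine isZero_of_open_cover _ _ hcov (fun V => ?_)
  haveI : IsAffine ((f ⁻¹ᵁ V.1 : X.Opens) : Scheme.{u}) := V.2.preimage f
  haveI : DCoh.HasRpush (f ∣_ V.1) := Groth.Agent.Lib.Seat28.RDExist.hasRpush _
  let I' : CochainComplex ((f ⁻¹ᵁ V.1 : X.Opens) : Scheme.{u}).Modules ℤ :=
    ((restrictFunctor (f ⁻¹ᵁ V.1).ι).mapHomologicalComplex (ComplexShape.up ℤ)).obj I
  haveI : CochainComplex.IsKInjective I' := isKInjective_restrict (f ⁻¹ᵁ V.1) I
  have hI' : DCoh.IsQCohD (Q.obj I') := isQCohD_restrict _ I hQI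
  have hz : IsZero ((DCoh.Rpush (f ∣_ V.1)).obj (Q.obj I')) := by
    refine IsZero.of_iso ?_ (isoOfKInj.{u} (Scheme.Modules.pushforward (f ∣_ V.1)) I')
    refine IsZero.of_iso ?_ (Q.mapIso (pushRestrictCxIso f V.1 I).symm)
    apply Groth.Agent.Lib.Seat28.Supp.isZero_of_HD
    intro j
    refine IsZero.of_iso ?_ ((homologyFunctorFactors _ j).app _ ≪≫
      (Groth.Agent.Lib.Helper17.Hyp.homologyNatIsoCx (restrictFunctor V.1.ι) j).app
        ((pushCx f).obj I))
    refine (restrictFunctor V.1.ι).map_isZero ?_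
    exact IsZero.of_iso ((homologyFunctor S.Modules j).map_isZero hpush)
      ((homologyFunctorFactors S.Modules j).app _).symm
  have hz2 := isZero_of_isZero_rpush (f ∣_ V.1) (Q.obj I') hI' hz
  refine IsZero.of_iso ((homologyFunctor _ q).map_isZero hz2) ?_
  exact ((Groth.Agent.Lib.Helper17.Hyp.homologyNatIsoCx
    (restrictFunctor (f ⁻¹ᵁ V.1).ι) q).app I).symm ≪≫
    ((homologyFunctorFactors _ q).app I').symm

end StepC

section StepD

open Pretriangulated Groth.Agent.Lib.Helper17.AdjWay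

variable {X S : Scheme.{u}} (f : X ⟶ S)

lemma isQCohD_shift_one (E : DCoh.D X) (hE : DCoh.IsQCohD E) : DCoh.IsQCohD (E⟦(1 : ℤ)⟧) :=
  fun i => qc_of_iso X
    (((homologyFunctor X.Modules 0).shiftIso (1 : ℤ) i (i + 1) (by omega)).app E).symm
    (hE (i + 1))

/-- **`Rf_*` reflects isomorphisms on `D_QCoh` for affine `f`.** -/
theorem isIso_of_isIso_rpush_map [IsAffineHom f] [DCoh.HasRpush f] {E F : DCoh.D X}
    (hE : DCoh.IsQCohD E) (hF : DCoh.IsQCohD F) (α : E ⟶ F)
    (hα : IsIso ((DCoh.Rpush f).map α)) : IsIso α := by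
  obtain ⟨C, β, γ, hT⟩ := distinguished_cocone_triangle α
  have hT' := rot_of_distTriang _ hT
  have hC : DCoh.IsQCohD C :=
    cohIn_obj₂ (qc X) _ hT' hF (isQCohD_shift_one E hE)
  obtain ⟨w, hw⟩ := Groth.Agent.Lib.Seat4.PushQc.exists_distinguished_rpush f _ hT
  have hz : IsZero ((DCoh.Rpush f).obj C) :=
    (Triangle.isZero₃_iff_isIso₁ _ hw).2 hα
  have hC0 : IsZero C := isZero_of_isZero_rpush_of_isAffineHom f C hC hz
  exact (Triangle.isZero₃_iff_isIso₁ _ hT).1 hC0

end StepD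

end Groth.Agent.Lib.Seat4.AffConserv
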