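import Mathlib
import Groth.Agent.S0455
import Groth.Agent.Lib.Helper21CechPush

/-!
# Čech vanishing from surjective restrictions, via a coarse topology (helper4)

Given a family of opens `U i` of `X`, the set `⋃ U i` carries the coarse topology generated by the `U i`.
An abelian sheaf `F` on `X` induces a sheaf `Fc` on this coarse space; if the restriction maps
`F(⋃ U i) → F(U')` are surjective for all unions `U'` of finite intersections, then `Fc` is flasque,
hence Čech-acyclic (`S0455`), and its Čech complex is isomorphic to that of `F`.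
-/

set_option autoImplicit false
universe u
open CategoryTheory CategoryTheory.Limits Opposite TopologicalSpace

namespace Groth.Agent.Lib.Seat4.Coarse

/-- A functor between lattices of opens which preserves binary intersections preserves pullbacks. -/
theorem preservesPullbacks_opens {X Y : TopCat.{u}} (v : Opens X ⥤ Opens Y)
    (h : ∀ a b : Opens X, v.obj a ⊓ v.obj b ≤ v.obj (a ⊓ b)) :
    PreservesLimitsOfShape WalkingCospan v := by
  constructor
  intro K
  constructor
  intro c hc
  let a : Opens X := K.obj WalkingCospan.left ⊓ K.obj WalkingCospan.right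
  have ha : ∀ j : WalkingCospan, a ≤ K.obj j := by
    intro j
    match j with
    | none => exact inf_le_left.trans (K.map WalkingCospan.Hom.inl).le
    | some WalkingPair.left => exact inf_le_left
    | some WalkingPair.right => exact inf_le_right
  let s0 : Cone K :=
    { pt := a
      π := { app := fun j => homOfLE (ha j), naturality := fun _ _ _ => Subsingleton.elim _ _ } }
  have h1 : a ≤ c.pt := (hc.lift s0).le
  refine ⟨{ lift := fun s => homOfLE ?_, fac := fun _ _ => Subsingleton.elim _ _,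
            uniq := fun _ _ _ => Subsingleton.elim _ _ }⟩
  have h2 : s.pt ≤ v.obj (K.obj WalkingCospan.left) := (s.π.app WalkingCospan.left).le
  have h3 : s.pt ≤ v.obj (K.obj WalkingCospan.right) := (s.π.app WalkingCospan.right).le
  exact (le_inf h2 h3).trans ((h _ _).trans (v.map (homOfLE h1)).le)

variable {X : TopCat.{u}} {ι : Type u} (U : ι → Opens X)

/-- the union of the `U i`, as a type, to be equipped with the coarse topology -/
def Pt : Type u := ↥(iSup U : Opens X)

instance : TopologicalSpace (Pt U) :=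
  TopologicalSpace.generateFrom
    (Set.range fun i : ι => (Subtype.val ⁻¹' (U i : Set X) : Set ↥(iSup U : Opens X)))

/-- the coarse space -/
abbrev Xc : TopCat.{u} := TopCat.of (Pt U)

/-- the identity map from the union (with the subspace topology) to the coarse space -/
def g : TopCat.of ↥(iSup U : Opens X) ⟶ Xc U :=
  TopCat.ofHom ⟨fun x => x, by
    apply continuous_generateFrom_iff.2
    rintro _ ⟨i, rfl⟩
    exact (U i).isOpen.preimage continuous_subtype_val⟩

/-- the functor from opens of the coarse space to opens of `X` -/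
noncomputable def v : Opens (Xc U) ⥤ Opens X :=
  Opens.map (g U) ⋙ (iSup U : Opens X).isOpenEmbedding.isOpenMap.functor

theorem mem_v (W : Opens (Xc U)) (z : X) :
    z ∈ (v U).obj W ↔ ∃ x : Pt U, x ∈ W ∧ (x : ↥(iSup U : Opens X)).1 = z := by
  constructor
  · rintro ⟨x, hx, rfl⟩
    exact ⟨x, hx, rfl⟩
  · rintro ⟨x, hx, rfl⟩
    exact ⟨x, hx, rfl⟩

theorem v_inf (a b : Opens (Xc U)) : (v U).obj a ⊓ (v U).obj b ≤ (v U).obj (a ⊓ b) := by
  intro z hz
  obtain ⟨x, hx, rfl⟩ := (mem_v U a _).1 hz.1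
  obtain ⟨y, hy, hxy⟩ := (mem_v U b _).1 hz.2
  have : y = x := Subtype.ext hxy
  subst this
  exact (mem_v U _ _).2 ⟨y, ⟨hx, hy⟩, rfl⟩

noncomputable instance : PreservesLimitsOfShape WalkingCospan (v U) :=
  preservesPullbacks_opens (v U) (v_inf U)

/-- the generating opens of the coarse space -/
def Uc (i : ι) : Opens (Xc U) :=
  ⟨(Subtype.val ⁻¹' (U i : Set X) : Set ↥(iSup U : Opens X)),
    TopologicalSpace.isOpen_generateFrom_of_mem ⟨i, rfl⟩⟩

theorem v_Uc (i : ι) : (v U).obj (Uc U i) = U i := by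
  ext z
  constructor
  · intro hz
    obtain ⟨x, hx, rfl⟩ := (mem_v U _ _).1 hz
    exact hx
  · intro hz
    have hz' : z ∈ (iSup U : Opens X) := (le_iSup U i) hz
    exact (mem_v U _ _).2 ⟨⟨z, hz'⟩, hz, rfl⟩

theorem v_top : (v U).obj ⊤ = iSup U := by
  ext z
  constructor
  · intro hz
    obtain ⟨x, _, rfl⟩ := (mem_v U _ _).1 hz
    exact x.2
  · intro hz
    exact (mem_v U _ _).2 ⟨⟨z, hz⟩, trivial, rfl⟩

/-- every point of an open of the coarse space lies in a finite intersection of the `U i` contained in it -/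
theorem exists_tuple (W : Opens (Xc U)) (x : Pt U) (hx : x ∈ W) :
    ∃ (p : ℕ) (t : Fin (p + 1) → ι), (∀ j, (x : ↥(iSup U : Opens X)).1 ∈ U (t j)) ∧
      ∀ y : Pt U, (∀ j, (y : ↥(iSup U : Opens X)).1 ∈ U (t j)) → y ∈ W := by
  have hb := TopologicalSpace.isTopologicalBasis_of_subbasis
    (t := (inferInstance : TopologicalSpace (Pt U))) (s := Set.range fun i : ι =>
      (Subtype.val ⁻¹' (U i : Set X) : Set ↥(iSup U : Opens X))) rfl
  obtain ⟨B, ⟨f, ⟨hfin, hsub⟩, rfl⟩, hxB, hBW⟩ := hb.exists_subset_of_mem_open hx W.isOpen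
  suffices h : ∀ f : Set (Set (Pt U)), f.Finite →
      f ⊆ (Set.range fun i : ι => (Subtype.val ⁻¹' (U i : Set X) : Set ↥(iSup U : Opens X))) →
      x ∈ ⋂₀ f → ∃ (p : ℕ) (t : Fin (p + 1) → ι), (∀ j, (x : ↥(iSup U : Opens X)).1 ∈ U (t j)) ∧
        ∀ y : Pt U, (∀ j, (y : ↥(iSup U : Opens X)).1 ∈ U (t j)) → y ∈ ⋂₀ f by
    obtain ⟨p, t, h1, h2⟩ := h f hfin hsub hxB
    exact ⟨p, t, h1, fun y hy => hBW (h2 y hy)⟩
  intro f hfin
  induction f, hfin using Set.Finite.induction_on with
  | empty =>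
    intro _ _
    obtain ⟨i, hi⟩ := Opens.mem_iSup.1 (x : ↥(iSup U : Opens X)).2
    exact ⟨0, fun _ => i, fun _ => hi, fun y _ => by simp⟩
  | insert hs hfin ih =>
    rename_i s f'
    intro hsub hx'
    obtain ⟨i, rfl⟩ := hsub (Set.mem_insert _ _)
    obtain ⟨p, t, h1, h2⟩ := ih (fun a ha => hsub (Set.mem_insert_of_mem _ ha))
      (by
        intro a ha
        exact hx' a (Set.mem_insert_of_mem _ ha))
    refine ⟨p + 1, Fin.cons i t, ?_, ?_⟩
    · intro j
      refine Fin.cases ?_ (fun j' => ?_) j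
      · rw [Fin.cons_zero]
        exact hx' _ (Set.mem_insert _ _)
      · rw [Fin.cons_succ]
        exact h1 j'
    · intro y hy a ha
      rcases ha with rfl | ha
      · have := hy 0
        rw [Fin.cons_zero] at this
        exact this
      · refine h2 y (fun j' => ?_) a ha
        have := hy j'.succ
        rw [Fin.cons_succ] at this
        exact this

/-- index type for writing an open of the coarse space as a union of finite intersections -/
def κ (W : Opens (Xc U)) : Type u :=
  {t : (Σ p : ℕ, Fin (p + 1) → ι) //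
    ∀ y : Pt U, (∀ j, (y : ↥(iSup U : Opens X)).1 ∈ U (t.2 j)) → y ∈ W}

theorem v_eq_iSup (W : Opens (Xc U)) :
    (v U).obj W = ⨆ k : κ U W, ⨅ j, U (k.1.2 j) := by
  ext z
  constructor
  · intro hz
    obtain ⟨x, hx, rfl⟩ := (mem_v U _ _).1 hz
    obtain ⟨p, t, h1, h2⟩ := exists_tuple U W x hx
    refine Opens.mem_iSup.2 ⟨⟨⟨p, t⟩, h2⟩, ?_⟩
    change _ ∈ ((⨅ j, U (t j) : Opens X) : Set X)
    rw [Opens.coe_iInf]
    exact Set.mem_iInter.2 h1
  · intro hz
    obtain ⟨k, hk⟩ := Opens.mem_iSup.1 hz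
    have hk' : z ∈ ((⨅ j, U (k.1.2 j) : Opens X) : Set X) := hk
    rw [Opens.coe_iInf] at hk'
    have h1 : ∀ j, z ∈ U (k.1.2 j) := Set.mem_iInter.1 hk'
    have hz' : z ∈ (iSup U : Opens X) := (le_iSup U _) (h1 0)
    exact (mem_v U _ _).2 ⟨⟨z, hz'⟩, k.2 ⟨z, hz'⟩ h1, rfl⟩

variable (F : CohTop.Ab X)

/-- the induced sheaf on the coarse space -/
noncomputable def Fc : CohTop.Ab (Xc U) :=
  (CohTop.push (g U)).obj ((CohTop.restrFunctor (iSup U)).obj F)

theorem Fc_obj : (Fc U F).obj = (v U).op ⋙ F.obj := rfl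

/-- the hypothesis of the statement -/
def Hyp : Prop :=
  ∀ (κ : Type u) (a : κ → Σ p : ℕ, Fin (p + 1) → ι),
    Function.Surjective (F.obj.map (homOfLE
      (iSup_le fun k => (iInf_le _ ⟨0, Nat.succ_pos _⟩).trans
        (le_iSup U ((a k).2 ⟨0, Nat.succ_pos _⟩)) :
        (⨆ k, ⨅ j, U ((a k).2 j)) ≤ iSup U)).op)

variable {U F}

theorem surj_of_hyp (h : Hyp U F) (T : Opens X) (hT : T ≤ iSup U) (W : Opens (Xc U))
    (hTW : T = (v U).obj W) : Function.Surjective (F.obj.map (homOfLE hT).op) := by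
  have h1 := h (κ U W) (fun k => k.1)
  rw [v_eq_iSup] at hTW
  subst hTW
  exact h1

theorem isFlasque_Fc (h : Hyp U F) : TopCat.Sheaf.IsFlasque (Fc U F) := by
  constructor
  intro A B i
  apply (AddCommGrpCat.epi_iff_surjective _).2
  have hB : (v U).obj B.unop ≤ iSup U := by
    rw [← v_top U]
    exact ((v U).map (homOfLE le_top)).le
  have hA : (v U).obj A.unop ≤ iSup U := by
    rw [← v_top U]
    exact ((v U).map (homOfLE le_top)).le
  have h1 := surj_of_hyp h _ hB B.unop rfl
  have h2 : F.obj.map (homOfLE hB).op =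
      F.obj.map (homOfLE hA).op ≫ (Fc U F).obj.map i := by
    change _ = F.obj.map (homOfLE hA).op ≫ F.obj.map ((v U).map i.unop).op
    rw [← F.obj.map_comp]
    rfl
  intro y
  obtain ⟨x, hx⟩ := h1 y
  refine ⟨F.obj.map (homOfLE hA).op x, ?_⟩
  rw [h2] at hx
  exact hx

open Groth.Agent.Lib.Helper21.CechPush Groth.Agent.Lib.Helper16.CechCmp in
theorem isZero_cechH (h : Hyp U F) (p : ℕ) : IsZero (CohTop.cechH F.obj U (p + 1)) := by
  have : TopCat.Sheaf.IsFlasque (Fc U F) := isFlasque_Fc h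
  let Y : ι → Over (⊤ : Opens (Xc U)) := fun i => Over.mk (homOfLE (le_top : Uc U i ≤ ⊤))
  have hY : (⊤ : Opens (Xc U)) ≤ ⨆ i, (Y i).left := by
    intro x _
    obtain ⟨i, hi⟩ := Opens.mem_iSup.1 (x : ↥(iSup U : Opens X)).2
    exact Opens.mem_iSup.2 ⟨i, hi⟩
  have h1 : IsZero (CohCx.cechH ((v U).op ⋙ F.obj) Y (p + 1)) :=
    Groth.Agent.S0455.flasque_cech_site Y hY p (Fc U F)
  have h2 : IsZero (CohCx.cechH F.obj (uY (v U) Y) (p + 1)) :=
    IsZero.of_iso h1 (asIso (HomologicalComplex.homologyMap (ΨCx (v U) Y F.obj) (p + 1)))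
  have h3 := isoH F.obj (uY (v U) Y) (p + 1)
  have h4 : (UY (uY (v U) Y)) = U := funext (fun i => v_Uc U i)
  rw [h4] at h3
  exact IsZero.of_iso h2 h3

end Groth.Agent.Lib.Seat4.Coarse
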