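import Groth.Agent.Lib.Seat4PushQcLocal

/-!
# Extending objects of `D_QCoh(U)` to `X` along a quasi-compact open immersion (seat 4)
-/

set_option autoImplicit false
set_option linter.style.haveILetI false

universe u

open CategoryTheory CategoryTheory.Limits DerivedCategory Opposite TopologicalSpace
  AlgebraicGeometry

namespace Groth.Agent.Lib.Seat4.ExtendQc

open Groth.Agent.Lib.Seat28.RD Groth.Agent.Lib.Seat4.PushVanish Groth.Agent.Lib.Seat4.QcSerre

attribute [local instance] HasDerivedCategory.standard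

theorem main (X : Scheme.{u}) (U : X.Opens) [QuasiCompact U.ι]
    (F : DCoh.D (U : Scheme.{u})) (hF : DCoh.IsQCohD F) :
    ∃ G : CochainComplex X.Modules ℤ, DCoh.IsQCohD (DCoh.toD X G) ∧
      Nonempty (DerivedCategory.Q.obj ((DCoh.restrictCx U).obj G) ≅ F) := by
  haveI : DCoh.HasRpush U.ι := Groth.Agent.Lib.Seat28.RDExist.hasRpush _
  obtain ⟨I, hI, ⟨e⟩⟩ := exists_fibrant_repr.{u} F
  haveI : I.IsKInjective := hI.isKInjective
  refine ⟨(pushCx U.ι).obj I, ?_, ⟨?_⟩⟩
  · have h := Groth.Agent.Lib.Seat4.PushQcLocal.isQCohD_rpush U.ι F hF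
    intro q
    exact qc_of_iso X ((homologyFunctor X.Modules q).mapIso ((DCoh.Rpush U.ι).mapIso e.symm ≪≫
      isoOfKInj.{u} (Scheme.Modules.pushforward U.ι) I)) (h q)
  · refine Q.mapIso ?_ ≪≫ e
    exact (NatIso.mapHomologicalComplex (Scheme.Modules.restrictFunctorAdjCounitIso U.ι)
      (ComplexShape.up ℤ)).app I

end Groth.Agent.Lib.Seat4.ExtendQc
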