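import Groth.Agent.Lib.Seat4HypB

/-!
# Morphisms in `D(A)` detected by their effect on one cohomology object (seat 4)

`HB E K q`: the map `Hom_{D(A)}(E, K) → Hom_A(H^q E, H^q K)`, `ξ ↦ H^q(ξ)`, is bijective.
For `E = P[-q]` (the object `P` placed in degree `q`) this follows from bijectivity of the canonical map
`cm : Hom(P[0], K[q]) → Hom(P, H^q K)`.
-/

set_option autoImplicit false

universe w w' v v' u u'

open CategoryTheory CategoryTheory.Limits DerivedCategory

namespace Groth.Agent.Lib.Seat4.HB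

open Groth.Agent.Lib.Helper17.Hyp Groth.Agent.S14388

variable {A : Type u} [Category.{v} A] [Abelian A] [HasDerivedCategory.{w} A]

/-- `ξ ↦ H^q(ξ)` is bijective on `Hom(E, K)`. -/
def HB (E K : DerivedCategory A) (q : ℤ) : Prop :=
  Function.Bijective (fun ξ : E ⟶ K => (homologyFunctor A q).map ξ)

lemma HB.of_iso_left {E E' K : DerivedCategory A} {q : ℤ} (e : E ≅ E') (h : HB E K q) :
    HB E' K q := by
  constructor
  · intro ξ ξ' hξ
    dsimp only at hξ
    have : e.hom ≫ ξ = e.hom ≫ ξ' := h.1 (by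
      dsimp only
      rw [Functor.map_comp, Functor.map_comp, hξ])
    exact (cancel_epi e.hom).1 this
  · intro s
    obtain ⟨ξ, hξ⟩ := h.2 ((homologyFunctor A q).map e.hom ≫ s)
    dsimp only at hξ
    refine ⟨e.inv ≫ ξ, ?_⟩
    dsimp only
    rw [Functor.map_comp, hξ, ← Category.assoc, ← Functor.map_comp, e.inv_hom_id,
      CategoryTheory.Functor.map_id, Category.id_comp]

lemma HB.of_iso_right {E K K' : DerivedCategory A} {q : ℤ} (e : K ≅ K') (h : HB E K q) :
    HB E K' q := by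
  constructor
  · intro ξ ξ' hξ
    dsimp only at hξ
    have : ξ ≫ e.inv = ξ' ≫ e.inv := h.1 (by
      dsimp only
      rw [Functor.map_comp, Functor.map_comp, hξ])
    exact (cancel_mono e.inv).1 this
  · intro s
    obtain ⟨ξ, hξ⟩ := h.2 (s ≫ (homologyFunctor A q).map e.inv)
    dsimp only at hξ
    refine ⟨ξ ≫ e.hom, ?_⟩
    dsimp only
    rw [Functor.map_comp, hξ, Category.assoc, ← Functor.map_comp, e.inv_hom_id,
      CategoryTheory.Functor.map_id, Category.comp_id]

/-- `P[0] ≅ (P[-q])[q]`. -/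
noncomputable def sglShiftIso (P : A) (q : ℤ) :
    dsgl P ≅ ((singleFunctor A q).obj P)⟦q⟧ :=
  (((singleFunctors A).shiftIso q 0 q (add_zero q)).app P).symm

/-- From bijectivity of `cm` to `HB` for the object `P` placed in degree `q`. -/
theorem hb_single_of_bijective_cm {P : A} {K : DerivedCategory A} {q : ℤ}
    (h : Function.Bijective (fun ξ : dsgl P ⟶ K⟦q⟧ => cm ξ)) :
    HB ((singleFunctor A q).obj P) K q := by
  let E := (singleFunctor A q).obj P
  let ι := sglShiftIso P q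
  -- the isomorphism `P ≅ H^q(E)`
  let κ : P ⟶ (homologyFunctor A q).obj E := cm ι.hom
  have hcm : ∀ ξ : E ⟶ K, cm (ι.hom ≫ ξ⟦q⟧') = κ ≫ (homologyFunctor A q).map ξ :=
    fun ξ => cm_comp ι.hom ξ
  have hκ : IsIso κ := by
    dsimp only [κ, cm, c₀]
    have : IsIso ((homologyFunctor A 0).map ι.hom) := inferInstance
    infer_instance
  constructor
  · intro ξ ξ' hξ
    dsimp only at hξ
    have h1 : ι.hom ≫ ξ⟦q⟧' = ι.hom ≫ ξ'⟦q⟧' := h.1 (by
      dsimp only
      rw [hcm, hcm, hξ])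
    have h2 : ξ⟦q⟧' = ξ'⟦q⟧' := (cancel_epi ι.hom).1 h1
    exact (shiftFunctor (DerivedCategory A) q).map_injective h2
  · intro s
    obtain ⟨ζ, hζ⟩ := h.2 (κ ≫ s)
    dsimp only at hζ
    obtain ⟨ξ, hξ⟩ := (shiftFunctor (DerivedCategory A) q).map_surjective (ι.inv ≫ ζ)
    refine ⟨ξ, ?_⟩
    dsimp only
    have h3 : cm (ι.hom ≫ ξ⟦q⟧') = κ ≫ s := by
      rw [hξ, ι.hom_inv_id_assoc, hζ]
    rw [hcm] at h3
    exact (cancel_epi κ).1 h3

end Groth.Agent.Lib.Seat4.HB
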