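import Groth.Agent.Lib.Helper17Hyp17
import Mathlib.Algebra.Homology.DerivedCategory.FullyFaithful

/-!
# `Hom(P[0], M[q]) ≃ Hom(P, H^q M)` for `M ∈ D^{≥ q}` (seat 4)

Abstract setting: an abelian category `A` with its derived category.  We show that the canonical
maps `c₀`, `cm` of `Helper17Hyp1/3` are bijective on objects which are `≥ 0` (resp. `≥ q`) for the
canonical t-structure.
-/

set_option autoImplicit false

universe w w' v v' u u'

open CategoryTheory CategoryTheory.Limits DerivedCategory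

namespace Groth.Agent.Lib.Seat4.HypA

open Groth.Agent.Lib.Helper17.Hyp Groth.Agent.S14388 Pretriangulated

variable {A : Type u} [Category.{v} A] [Abelian A] [HasDerivedCategory.{w} A]

/-- the map `P[0] ⟶ F[0]` induced by `f : P ⟶ F`. -/
noncomputable abbrev sMap {P F : A} (f : P ⟶ F) : dsgl P ⟶ dsgl F :=
  Q.map ((HomologicalComplex.single A (ComplexShape.up ℤ) 0).map f)

lemma sMap_surjective {P F : A} (ξ : dsgl P ⟶ dsgl F) : ∃ f : P ⟶ F, sMap f = ξ :=
  (singleFunctor A 0).map_surjective ξ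

/-- `c₀` of a morphism between singles. -/
lemma c₀_sMap {P F : A} (f : P ⟶ F) : c₀ (sMap f) = f ≫ (e₀ F).inv := by
  dsimp only [c₀, sMap]
  rw [e₀_inv_naturality]

/-- Lemma A: `c₀` is bijective on `Hom(P[0], F[0])`. -/
theorem bijective_c₀_single (P F : A) :
    Function.Bijective (fun ξ : dsgl P ⟶ dsgl F => c₀ ξ) := by
  constructor
  · intro ξ ξ' h
    obtain ⟨f, rfl⟩ := sMap_surjective ξ
    obtain ⟨f', rfl⟩ := sMap_surjective ξ'
    dsimp only at h
    rw [c₀_sMap, c₀_sMap] at h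
    rw [(cancel_mono (e₀ F).inv).1 h]
  · intro s
    refine ⟨sMap (s ≫ (e₀ F).hom), ?_⟩
    dsimp only
    rw [c₀_sMap, Category.assoc, Iso.hom_inv_id, Category.comp_id]

/-- `c₀` is bijective on `M` iff it is so on an isomorphic object. -/
lemma bijective_c₀_of_iso (P : A) {M M' : DerivedCategory A} (e : M ≅ M')
    (h : Function.Bijective (fun ξ : dsgl P ⟶ M' => c₀ ξ)) :
    Function.Bijective (fun ξ : dsgl P ⟶ M => c₀ ξ) := by
  constructor
  · intro ξ ξ' hξ
    dsimp only at hξ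
    have : c₀ (ξ ≫ e.hom) = c₀ (ξ' ≫ e.hom) := by rw [c₀_comp, c₀_comp, hξ]
    have h2 := h.1 this
    rwa [cancel_mono] at h2
  · intro s
    obtain ⟨ξ, hξ⟩ := h.2 (s ≫ (homologyFunctor A 0).map e.hom)
    dsimp only at hξ
    refine ⟨ξ ≫ e.inv, ?_⟩
    dsimp only
    rw [c₀_comp, hξ, Category.assoc, ← Functor.map_comp, e.hom_inv_id,
      CategoryTheory.Functor.map_id, Category.comp_id]

/-- Lemma B: `c₀` is bijective on objects concentrated in degree `0`. -/
theorem bijective_c₀_of_isGE_of_isLE (P : A) (M : DerivedCategory A) [M.IsGE 0] [M.IsLE 0] :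
    Function.Bijective (fun ξ : dsgl P ⟶ M => c₀ ξ) := by
  obtain ⟨F, ⟨e⟩⟩ := exists_iso_singleFunctor_obj_of_isGE_of_isLE M 0
  have e' : M ≅ dsgl F := e
  exact bijective_c₀_of_iso P e' (bijective_c₀_single P F)

lemma c₀_sub {P : A} {K : DerivedCategory A} (ξ ξ' : dsgl P ⟶ K) :
    c₀ (ξ - ξ') = c₀ ξ - c₀ ξ' := by
  dsimp only [c₀]
  rw [Functor.map_sub, Preadditive.comp_sub]

/-- Lemma C: `c₀` is bijective on objects which are `≥ 0`. -/
theorem bijective_c₀_of_isGE (P : A) (N : DerivedCategory A) [N.IsGE 0] :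
    Function.Bijective (fun ξ : dsgl P ⟶ N => c₀ ξ) := by
  let X := (tt.truncLT 1).obj N
  let Y := (tt.truncGE 1).obj N
  have hT := tt.triangleLTGE_distinguished 1 N
  have : X.IsLE 0 := tt.isLE_truncLT_obj N 1 0 (by omega)
  have : X.IsGE 0 := inferInstanceAs (tt.IsGE ((tt.truncLT 1).obj N) 0)
  have : (dsgl P).IsLE 0 :=
    inferInstanceAs (((singleFunctor A 0).obj P).IsLE 0)
  have hiso : IsIso ((homologyFunctor A 0).map ((tt.truncLTι 1).app N)) :=
    isIso_homology_truncLTι 1 0 (by omega) N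
  have hB := bijective_c₀_of_isGE_of_isLE P X
  -- every map to `N` factors through `X`
  have hfac : ∀ ξ : dsgl P ⟶ N, ∃ η : dsgl P ⟶ X, η ≫ (tt.truncLTι 1).app N = ξ := by
    intro ξ
    have h0 : ξ ≫ (tt.truncGEπ 1).app N = 0 := tt.zero _ 0 1 (by omega)
    obtain ⟨η, hη⟩ := Triangle.coyoneda_exact₂ _ hT ξ h0
    exact ⟨η, hη.symm⟩
  constructor
  · intro ξ ξ' h
    dsimp only at h
    obtain ⟨η, hη⟩ := hfac (ξ - ξ')
    have h1 : c₀ η ≫ (homologyFunctor A 0).map ((tt.truncLTι 1).app N) = 0 := by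
      rw [← c₀_comp, hη, c₀_sub, h, sub_self]
    have h2 : c₀ η = 0 := by
      rw [← cancel_mono ((homologyFunctor A 0).map ((tt.truncLTι 1).app N)), h1, zero_comp]
    have h3 : η = 0 := hB.1 (by dsimp only; rw [h2, c₀_zero])
    rw [h3, zero_comp] at hη
    exact sub_eq_zero.1 hη.symm
  · intro s
    obtain ⟨η, hη⟩ := hB.2 (s ≫ inv ((homologyFunctor A 0).map ((tt.truncLTι 1).app N)))
    dsimp only at hη
    have key : c₀ (η ≫ (tt.truncLTι 1).app N) = s := by
      rw [c₀_comp, hη, Category.assoc, IsIso.inv_hom_id, Category.comp_id]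
    exact ⟨_, key⟩

/-- Lemma D: `cm` is bijective on `Hom(P[0], M[q])` for `M ∈ D^{≥ q}`. -/
theorem bijective_cm_of_isGE (P : A) (M : DerivedCategory A) (q : ℤ) [M.IsGE q] :
    Function.Bijective (fun ξ : dsgl P ⟶ M⟦q⟧ => cm ξ) := by
  have : (M⟦q⟧).IsGE 0 := tt.isGE_shift M q q 0 (by omega)
  have hC := bijective_c₀_of_isGE P (M⟦q⟧)
  constructor
  · intro ξ ξ' h
    dsimp only [cm] at h
    rw [cancel_mono] at h
    exact hC.1 h
  · intro s
    obtain ⟨ξ, hξ⟩ := hC.2 (s ≫ (shIso M q).inv)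
    dsimp only at hξ
    refine ⟨ξ, ?_⟩
    dsimp only [cm]
    rw [hξ, Category.assoc, Iso.inv_hom_id, Category.comp_id]

end Groth.Agent.Lib.Seat4.HypA
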