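import Groth.Agent.Lib.Seat4HypA

/-!
# `H^q(P, K) ≃ Hom(P, H^q K)` when `P` is acyclic for all cohomology objects of `K` (seat 4)

Abstract setting: `K ∈ D(A)` is the derived limit of its truncations `τ_{≥ -n} K`, and `P : A` satisfies
`Hom(P[0], H^j(K)[k]) = 0` for all `j` and all `k > 0`.  Then the canonical map
`cm : Hom(P[0], K[q]) → Hom(P, H^q K)` is bijective.
-/

set_option autoImplicit false

universe w w' v v' u u'

open CategoryTheory CategoryTheory.Limits DerivedCategory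

namespace Groth.Agent.Lib.Seat4.HypA

open Groth.Agent.Lib.Helper17.Hyp Groth.Agent.S14388 Pretriangulated

variable {A : Type (v + 1)} [Category.{v} A] [Abelian A] [HasDerivedCategory.{w} A]

/-- `P` is acyclic for all the cohomology objects of `K`. -/
abbrev Acyc (P : A) (K : DerivedCategory A) : Prop := VanishAbove (dsgl P) K (fun _ => 0)

lemma Acyc.subsingleton {P : A} {K : DerivedCategory A} (hP : Acyc P K) (a k : ℤ) (hk : 0 < k) :
    Subsingleton (dsgl P ⟶ ((singleFunctor A 0).obj ((homologyFunctor A a).obj K))⟦k⟧) :=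
  VanishAbove.at hP a k hk.le hk

lemma nb_zero (m : ℤ) : Nb (fun _ => (0 : ℤ)) m = (-m).toNat := by
  dsimp only [Nb]
  omega

/-- Step 1: `Hom(P[0], K[q]) → Hom(P[0], (τ_{≥ -N} K)[q])` is bijective for `N ≥ 1 - q`. -/
theorem bijective_postcomp_toTruncTower {P : A} {K : DerivedCategory A}
    [HasProduct (CohCx.truncTower K)]
    (hL : CohCx.IsRlimVia (CohCx.truncTower K) (CohCx.truncTowerMap K) K (CohCx.toTruncTower K))
    (hP : Acyc P K) (q : ℤ) (N : ℕ) (hN : 1 - q ≤ N) :
    Function.Bijective (fun y : dsgl P ⟶ K⟦q⟧ => y ≫ (CohCx.toTruncTower K N)⟦q⟧') := by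
  have hN1 : Nb (fun _ => (0 : ℤ)) q ≤ N := by rw [nb_zero]; omega
  have hN2 : Nb (fun _ => (0 : ℤ)) (q - 1) ≤ N := by rw [nb_zero]; omega
  constructor
  · intro y y' h
    dsimp only at h
    obtain ⟨g1, g2⟩ := good_of_vanishAbove hP q N (max_le hN1 hN2)
    have h0 : (y - y') ≫ (CohCx.toTruncTower K N)⟦q⟧' = 0 := by
      rw [Preadditive.sub_comp, h, sub_self]
    exact sub_eq_zero.1 (eq_zero_of_good hL (dsgl P) q N g1 g2 (y - y') h0)
  · intro ξ
    exact exists_lift_of_evBij hL (dsgl P) q N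
      (fun n hn => bijective_truncTowerMap hP q n (le_trans hN1 hn)) ξ

/-- Step 2: for `Y` with `H^i(Y) ≅ H^i(K)` acyclic in degrees `< q`, the map
`Hom(P[0], Y[q]) → Hom(P[0], (τ_{≥ q} Y)[q])` is bijective. -/
theorem bijective_postcomp_truncGEπ {P : A} (Y : DerivedCategory A) (a q : ℤ) [Y.IsGE a]
    (hP : ∀ i : ℤ, a ≤ i → i < q → ∀ k : ℤ, 0 < k →
      Subsingleton (dsgl P ⟶ ((singleFunctor A 0).obj ((homologyFunctor A i).obj Y))⟦k⟧)) :
    Function.Bijective (fun y : dsgl P ⟶ Y⟦q⟧ => y ≫ ((tt.truncGEπ q).app Y)⟦q⟧') := by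
  let X := (tt.truncLT q).obj Y
  have hT := tt.triangleLTGE_distinguished q Y
  have hXle : X.IsLE (q - 1) := tt.isLE_truncLT_obj Y q (q - 1) (by omega)
  have hX : ∀ i : ℤ, (i < a ∨ q - 1 < i) → IsZero ((homologyFunctor A i).obj X) := by
    rintro i (hi | hi)
    · by_cases hiq : i < q
      · have := isIso_homology_truncLTι q i hiq Y
        exact IsZero.of_iso (isZero_of_isGE Y a i hi)
          (asIso ((homologyFunctor A i).map ((tt.truncLTι q).app Y)))
      · exact isZero_of_isLE X (q - 1) i (by omega)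
    · exact isZero_of_isLE X (q - 1) i hi
  have hX1 : ∀ j : ℤ, q ≤ j → Subsingleton (dsgl P ⟶ X⟦j⟧) := by
    intro j hj
    apply subsingleton_hom_of_bounded (dsgl P) j X a (q - 1) hX
    intro i hi1 hi2
    have := isIso_homology_truncLTι q i (by omega) Y
    exact subsingleton_hom_of_iso ((shiftFunctor _ (j - i)).mapIso ((singleFunctor A 0).mapIso
      (asIso ((homologyFunctor A i).map ((tt.truncLTι q).app Y))).symm))
      (hP i hi1 (by omega) (j - i) (by omega))
  exact bijective_postcomp_mor₂ _ hT (dsgl P) q (hX1 q le_rfl) (hX1 (q + 1) (by omega))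

/-- Theorem E: bijectivity of `cm` for `K = R lim τ_{≥ -n} K` and `P` acyclic for the `H^j(K)`. -/
theorem bijective_cm_of_acyc {P : A} {K : DerivedCategory A} [HasProduct (CohCx.truncTower K)]
    (hL : CohCx.IsRlimVia (CohCx.truncTower K) (CohCx.truncTowerMap K) K (CohCx.toTruncTower K))
    (hP : Acyc P K) (q : ℤ) :
    Function.Bijective (fun ξ : dsgl P ⟶ K⟦q⟧ => cm ξ) := by
  obtain ⟨N, hN1, hN2⟩ : ∃ N : ℕ, 1 - q ≤ N ∧ -(N : ℤ) ≤ q := ⟨(1 - q).toNat, by omega, by omega⟩
  let Y := CohCx.truncTower K N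
  let M := (tt.truncGE q).obj Y
  have h1 := bijective_postcomp_toTruncTower hL hP q N hN1
  have hYge : Y.IsGE (-(N : ℤ)) := inferInstanceAs (((tt.truncGE (-(N : ℤ))).obj K).IsGE _)
  have hisoY : ∀ i : ℤ, -(N : ℤ) ≤ i → IsIso ((homologyFunctor A i).map (CohCx.toTruncTower K N)) :=
    fun i hi => isIso_homology_truncGEπ (-(N : ℤ)) i hi K
  have h2 := bijective_postcomp_truncGEπ (P := P) Y (-(N : ℤ)) q (by
    intro i hi1 _ k hk
    have := hisoY i hi1
    exact subsingleton_hom_of_iso ((shiftFunctor _ k).mapIso ((singleFunctor A 0).mapIso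
      (asIso ((homologyFunctor A i).map (CohCx.toTruncTower K N))))) (hP.subsingleton i k hk))
  have hMge : M.IsGE q := inferInstanceAs (((tt.truncGE q).obj Y).IsGE q)
  have h3 := bijective_cm_of_isGE P M q
  -- the comparison map `K ⟶ M` and its effect on `H^q`
  let φ : K ⟶ M := CohCx.toTruncTower K N ≫ (tt.truncGEπ q).app Y
  have hφ : IsIso ((homologyFunctor A q).map φ) := by
    have := hisoY q hN2
    have := isIso_homology_truncGEπ q q le_rfl Y
    dsimp only [φ]
    rw [Functor.map_comp]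
    infer_instance
  have hcomp : ∀ ξ : dsgl P ⟶ K⟦q⟧,
      cm ξ = cm ((ξ ≫ (CohCx.toTruncTower K N)⟦q⟧') ≫ ((tt.truncGEπ q).app Y)⟦q⟧') ≫
        inv ((homologyFunctor A q).map φ) := by
    intro ξ
    rw [Category.assoc, ← Functor.map_comp, cm_comp, Category.assoc, IsIso.hom_inv_id,
      Category.comp_id]
  constructor
  · intro ξ ξ' h
    dsimp only at h
    rw [hcomp ξ, hcomp ξ', cancel_mono] at h
    exact h1.1 (h2.1 (h3.1 h))
  · intro s
    obtain ⟨z, hz⟩ := h3.2 (s ≫ (homologyFunctor A q).map φ)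
    obtain ⟨y, hy⟩ := h2.2 z
    obtain ⟨ξ, hξ⟩ := h1.2 y
    dsimp only at hz hy hξ
    refine ⟨ξ, ?_⟩
    dsimp only
    rw [hcomp ξ, hξ, hy, hz, Category.assoc, IsIso.hom_inv_id, Category.comp_id]

end Groth.Agent.Lib.Seat4.HypA
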