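import Groth.Agent.Lib.Seat4HypB
import Groth.Agent.Lib.Helper17KInjD1

/-!
# Cohomology over objects which are acyclic for the cohomology sheaves (seat 4)

Site-level form: `C` a small site, `K ∈ D(Ab(C))`, `B` a class of objects covering every object and
such that `H^p(U, H^q(K)) = 0` for `p > 0`, all `q`, `U ∈ B`.  Then `K = R lim τ_{≥ -n} K` and
`H^q(U, K) → H^q(K)(U)` is bijective for `U ∈ B`.
-/

set_option autoImplicit false

universe u

open CategoryTheory CategoryTheory.Limits DerivedCategory Opposite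

namespace Groth.Agent.Lib.Seat4.HypA

open Groth.Agent.Lib.Helper17.Hyp Groth.Agent.S14388

variable {C : Type u} [SmallCategory C] {J : GrothendieckTopology C}

/-- every object has a covering by members of `B`. -/
def Covers (J : GrothendieckTopology C) (B : Set C) : Prop :=
  ∀ U : C, ∃ (ι : Type u) (Y : ι → C) (f : ∀ i, Y i ⟶ U), Sieve.ofArrows Y f ∈ J U ∧ ∀ i, Y i ∈ B

/-- the presieve of all arrows to `V` in `T` with source in `B`. -/
def presieveIn (B : Set C) {V : C} (T : Sieve V) : Presieve V := fun W g => W ∈ B ∧ T g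

lemma presieveIn_le (B : Set C) {V : C} (T : Sieve V) : presieveIn B T ≤ T := fun _ _ h => h.2

lemma generate_presieveIn_mem {B : Set C} (hB : Covers J B) {V : C} (T : Sieve V) (hT : T ∈ J V) :
    Sieve.generate (presieveIn B T) ∈ J V := by
  choose ι Y f hcov hYB using hB
  refine J.superset_covering ?_ (J.bind_covering hT (fun V' g _ => hcov V'))
  rintro W _ ⟨V', k, g, hg, hk, rfl⟩
  obtain ⟨W', a, _, ⟨i⟩, rfl⟩ := hk
  exact ⟨_, a, f V' i ≫ g, ⟨hYB V' i, T.downward_closed hg _⟩, by rw [Category.assoc]⟩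

section

variable [HasDerivedCategory.{u} (Sheaf J AddCommGrpCat.{u})]

instance hasProduct_nat (K : ℕ → DerivedCategory (Sheaf J AddCommGrpCat.{u})) : HasProduct K := by
  have : HasProducts.{u} (DerivedCategory (Sheaf J AddCommGrpCat.{u})) :=
    Groth.Agent.Lib.Helper17.KInj.hasProducts_derivedCategory
  have : HasProducts.{0} (DerivedCategory (Sheaf J AddCommGrpCat.{u})) :=
    has_smallest_products_of_hasProducts.{u}
  infer_instance

/-- acyclicity of the free sheaf on `U` for the cohomology sheaves of `K`. -/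
lemma acyc_of_HU (K : DerivedCategory (Sheaf J AddCommGrpCat.{u})) (U : C)
    (h : ∀ (p : ℕ) (q : ℤ), Subsingleton (CohSite.HU (CohCx.HD K q) (p + 1) U)) :
    Acyc (CohCx.freeSheaf J U) K := by
  intro m k hk
  have hk' : 0 < k := by
    have : (0 : ℤ) < (k : ℤ) := hk
    exact_mod_cast this
  obtain ⟨p, rfl⟩ : ∃ p : ℕ, k = p + 1 := ⟨k - 1, by omega⟩
  exact @Equiv.subsingleton _ _ (Abelian.Ext.homEquiv (X := CohCx.freeSheaf J U)
    (Y := CohCx.HD K (m - (p + 1 : ℕ))) (n := p + 1)).symm (h p _)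

/-- `K = R lim τ_{≥ -n} K` when the cohomology sheaves of `K` are acyclic on a covering class. -/
theorem isRlimVia_truncTower_of_acyclic (K : DerivedCategory (Sheaf J AddCommGrpCat.{u}))
    (B : Set C) (hB : Covers J B)
    (h : ∀ U ∈ B, ∀ (p : ℕ) (q : ℤ), Subsingleton (CohSite.HU (CohCx.HD K q) (p + 1) U)) :
    CohCx.IsRlimVia (CohCx.truncTower K) (CohCx.truncTowerMap K) K (CohCx.toTruncTower K) := by
  apply isRlimVia_truncTower_of_cofinal.{u, u} (fr := frSh J) (locFr_frSh J) K
  intro U
  refine ⟨presieveIn B ⊤, generate_presieveIn_mem hB ⊤ (J.top_mem U), ?_⟩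
  intro V g hg
  refine ⟨fun _ => 0, fun T hT => ?_⟩
  refine ⟨presieveIn B T, presieveIn_le B T, generate_presieveIn_mem hB T hT, ?_⟩
  intro W g' hg'
  exact acyc_of_HU K W (h W hg'.1)

/-- `H^q(U, K) → H^q(K)(U)` is bijective for `U ∈ B`. -/
theorem bijective_canonU (K : DerivedCategory (Sheaf J AddCommGrpCat.{u}))
    (B : Set C) (hB : Covers J B)
    (h : ∀ U ∈ B, ∀ (p : ℕ) (q : ℤ), Subsingleton (CohSite.HU (CohCx.HD K q) (p + 1) U))
    (U : C) (hU : U ∈ B) (q : ℤ) : Function.Bijective (canonU K q U) := by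
  have hL := isRlimVia_truncTower_of_acyclic K B hB h
  have hcm := bijective_cm_of_acyc hL (acyc_of_HU K U (h U hU)) q
  have hev : Function.Bijective (CohFree.evalGen J U (CohCx.HD K q)) :=
    (CohFree.homEquivSect J U (CohCx.HD K q)).bijective
  exact hev.comp hcm

end

end Groth.Agent.Lib.Seat4.HypA
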