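import Groth.Agent.Lib.Seat4HypC
import Groth.Prelude.Def_DCoh2

/-!
# The limit of an acyclic inverse system of sheaves is its derived limit (seat 4)

Part I: generalities on `R lim` in a pretriangulated category.
Part II: vanishing of cohomology objects from local vanishing of hypercohomology.
Part III: the site-level statement.
-/

set_option autoImplicit false

universe w w' v v' u u'

open CategoryTheory CategoryTheory.Limits DerivedCategory Opposite

namespace Groth.Agent.Lib.Seat4.HypD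

open Groth.Agent.Lib.Helper17.Hyp Groth.Agent.S14388 Groth.Agent.Lib.Seat4.HypA

section Ab

/-- an inverse system of trivial groups has vanishing `R^1 lim`. -/
lemma limOneIsZero_of_subsingleton (A : ℕ → Type w) [∀ n, AddCommGroup (A n)]
    (t : ∀ n, A (n + 1) →+ A n) (h : ∀ n, Subsingleton (A n)) : CohCx.LimOneIsZero A t := by
  intro b
  exact ⟨0, funext fun n => Subsingleton.elim _ _⟩

/-- vanishing of `R^1 lim` passes along a surjective morphism of inverse systems. -/
lemma limOneIsZero_of_surjective_map {A A' : ℕ → Type w} [∀ n, AddCommGroup (A n)]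
    [∀ n, AddCommGroup (A' n)] (t : ∀ n, A (n + 1) →+ A n) (t' : ∀ n, A' (n + 1) →+ A' n)
    (e : ∀ n, A n →+ A' n) (he : ∀ n, Function.Surjective (e n))
    (comm : ∀ n x, e n (t n x) = t' n (e (n + 1) x)) (h : CohCx.LimOneIsZero A t) :
    CohCx.LimOneIsZero A' t' := by
  intro b'
  choose b hb using fun n => he n (b' n)
  obtain ⟨a, ha⟩ := h b
  refine ⟨fun n => e n (a n), funext fun n => ?_⟩
  have := congrFun ha n
  dsimp only at this ⊢
  rw [← comm, ← map_sub, this, hb]

end Ab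

section Tri

open Pretriangulated

variable {T : Type u'} [Category.{v'} T] [Preadditive T] [HasZeroObject T] [HasShift T ℤ]
    [∀ n : ℤ, (shiftFunctor T n).Additive] [Pretriangulated T]
    {K : ℕ → T} {t : ∀ n, K (n + 1) ⟶ K n} [HasProduct K]

/-- `Hom(P, L[m]) = 0` for `L = R lim K_n` if `Hom(P, K_n[m]) = 0` and `R^1 lim Hom(P, K_n[m-1]) = 0`. -/
theorem subsingleton_hom_rlim {L : T} {a : ∀ n, L ⟶ K n} (hL : CohCx.IsRlimVia K t L a) (P : T)
    (m : ℤ) (h0 : ∀ n, Subsingleton (P ⟶ (K n)⟦m⟧))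
    (h1 : CohCx.LimOneIsZero (fun n => P ⟶ (K n)⟦m - 1⟧)
        (fun n => Preadditive.rightComp _ ((t n)⟦m - 1⟧'))) :
    Subsingleton (P ⟶ L⟦m⟧) := by
  have h := (Groth.Agent.S0943.milnor_general hL P m).2 h1
  exact ⟨fun y y' => by
    rw [h y (fun n => Subsingleton.elim _ _), h y' (fun n => Subsingleton.elim _ _)]⟩

/-- uniqueness of maps to `R lim K_n` when `Hom(E[1], K_n[0]) = 0`. -/
theorem hom_ext_rlim {L : T} {a : ∀ n, L ⟶ K n} (hL : CohCx.IsRlimVia K t L a) (E : T)
    (hE : ∀ n, Subsingleton (E⟦(1 : ℤ)⟧ ⟶ (K n)⟦(1 : ℤ) - 1⟧))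
    (y y' : E ⟶ L) (hy : ∀ n, y ≫ a n = y' ≫ a n) : y = y' := by
  have h := (Groth.Agent.S0943.milnor_general hL (E⟦(1 : ℤ)⟧) 1).2
    (limOneIsZero_of_subsingleton _ _ hE) ((y - y')⟦(1 : ℤ)⟧') (fun n => by
      rw [← Functor.map_comp, Preadditive.sub_comp, hy, sub_self, Functor.map_zero])
  have h2 : y - y' = 0 := (shiftFunctor T (1 : ℤ)).map_injective (by rw [h, Functor.map_zero])
  exact sub_eq_zero.1 h2

end Tri

section Der

variable {A : Type (v + 1)} [Category.{v} A] [Abelian A]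
  {C : Type u'} [Category.{v'} C]
  {J : GrothendieckTopology C} {fr : C ⥤ A} [HasDerivedCategory.{w} A]

/-- `H^m(L) = 0` if `Hom(fr V, L[m]) = 0` for a cofinal system of coverings. -/
theorem isZero_homology_of_local (h : LocFr J fr) (L : DerivedCategory A) (m : ℤ)
    (hloc : ∀ (U : C) (T : Sieve U), T ∈ J U → ∃ R : Presieve U, R ≤ T ∧
      Sieve.generate R ∈ J U ∧
      ∀ ⦃V : C⦄ (g : V ⟶ U), R g → Subsingleton (dsgl (fr.obj V) ⟶ L⟦m⟧)) :
    IsZero ((homologyFunctor A m).obj L) := by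
  rw [IsZero.iff_id_eq_zero]
  apply h.gen
  intro U s
  rw [Category.comp_id]
  obtain ⟨T, hT, hT'⟩ := exists_lift_cm h L m U s
  obtain ⟨R, hRT, hR, hR'⟩ := hloc U T hT
  refine h.zero_of_generate U s R hR ?_
  intro V g hg
  obtain ⟨ξ, hξ⟩ := hT' g (hRT _ _ hg)
  have := hR' g hg
  rw [← hξ, Subsingleton.elim ξ 0, cm_zero]

end Der

section Cone

variable {D : Type u'} [Category.{v'} D] {X : ℕ → D} (t : ∀ n, X (n + 1) ⟶ X n)

/-- the cone over `ofOpSequence t` given by compatible legs. -/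
def coneOfLegs (G : D) (b : ∀ n, G ⟶ X n) (hb : ∀ n, b (n + 1) ≫ t n = b n) :
    Cone (Functor.ofOpSequence t) where
  pt := G
  π := NatTrans.ofOpSequence (F := (Functor.const _).obj G) (G := Functor.ofOpSequence t)
    (fun n => b n) (fun n => by
      have h1 : (Functor.ofOpSequence t).map (homOfLE (Nat.le_add_right n 1)).op = t n :=
        Functor.ofOpSequence_map_homOfLE_succ t n
      have h2 : 𝟙 G ≫ b n = b (n + 1) ≫ t n := by rw [Category.id_comp, hb]
      rw [h1]
      exact h2)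

lemma cone_leg_succ (s : Cone (Functor.ofOpSequence t)) (n : ℕ) :
    s.π.app (op (n + 1)) ≫ t n = s.π.app (op n) := by
  have := s.w (homOfLE (Nat.le_add_right n 1)).op
  rwa [Functor.ofOpSequence_map_homOfLE_succ] at this

/-- compatible legs with the unique lifting property give a limit cone. -/
noncomputable def isLimitConeOfLegs (G : D) (b : ∀ n, G ⟶ X n) (hb : ∀ n, b (n + 1) ≫ t n = b n)
    (hex : ∀ (E : D) (x : ∀ n, E ⟶ X n), (∀ n, x (n + 1) ≫ t n = x n) →
      ∃ y : E ⟶ G, ∀ n, y ≫ b n = x n)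
    (huniq : ∀ (E : D) (y y' : E ⟶ G), (∀ n, y ≫ b n = y' ≫ b n) → y = y') :
    IsLimit (coneOfLegs t G b hb) :=
  IsLimit.ofExistsUnique (fun s => by
    obtain ⟨y, hy⟩ := hex s.pt (fun n => s.π.app (op n)) (cone_leg_succ t s)
    refine ⟨y, fun j => hy j.unop, fun y' hy' => huniq _ _ _ (fun n => ?_)⟩
    rw [hy n]
    exact hy' (op n))

end Cone

section Sheaf

variable {C : Type u} [SmallCategory C] {J : GrothendieckTopology C}
  [HasDerivedCategory.{u} (Sheaf J AddCommGrpCat.{u})]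

/-- sections of `F` over `U` as classes in `Hom(ℤ_U[0], F[0]⟦0⟧)`. -/
noncomputable def sectToHom (U : C) (F : Sheaf J AddCommGrpCat.{u}) :
    F.obj.obj (op U) →+
      ((singleFunctor (Sheaf J AddCommGrpCat.{u}) 0).obj (CohCx.freeSheaf J U) ⟶
        ((singleFunctor (Sheaf J AddCommGrpCat.{u}) 0).obj F)⟦(0 : ℤ)⟧) where
  toFun s := (singleFunctor _ 0).map (CohFree.ofSect J U F s) ≫
    (shiftFunctorZero _ ℤ).inv.app ((singleFunctor (Sheaf J AddCommGrpCat.{u}) 0).obj F)
  map_zero' := by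
    have : CohFree.ofSect J U F 0 = 0 := (CohFree.homEquivSect J U F).symm.map_zero
    rw [this, Functor.map_zero, zero_comp]
  map_add' x y := by
    have : CohFree.ofSect J U F (x + y) = CohFree.ofSect J U F x + CohFree.ofSect J U F y :=
      (CohFree.homEquivSect J U F).symm.map_add x y
    rw [this, Functor.map_add, Preadditive.add_comp]

lemma sectToHom_apply (U : C) (F : Sheaf J AddCommGrpCat.{u}) (s : F.obj.obj (op U)) :
    sectToHom U F s = (singleFunctor _ 0).map (CohFree.ofSect J U F s) ≫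
      (shiftFunctorZero _ ℤ).inv.app ((singleFunctor (Sheaf J AddCommGrpCat.{u}) 0).obj F) := rfl

lemma sectToHom_surjective (U : C) (F : Sheaf J AddCommGrpCat.{u}) :
    Function.Surjective (sectToHom U F) := by
  intro x
  obtain ⟨f, hf⟩ := (singleFunctor _ 0).map_surjective (x ≫ (shiftFunctorZero _ ℤ).hom.app _)
  refine ⟨CohFree.evalGen J U F f, ?_⟩
  rw [sectToHom_apply, CohFree.ofSect_evalGen, hf, Category.assoc, Iso.hom_inv_id_app,
    Category.comp_id]

omit [HasDerivedCategory.{u} (Sheaf J AddCommGrpCat.{u})] in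
lemma ofSect_comp (U : C) {F F' : Sheaf J AddCommGrpCat.{u}} (φ : F ⟶ F')
    (s : F.obj.obj (op U)) :
    CohFree.ofSect J U F' ((φ.hom.app (op U)).hom s) = CohFree.ofSect J U F s ≫ φ := by
  apply (CohFree.homEquivSect J U F').injective
  rw [CohFree.homEquivSect_apply, CohFree.homEquivSect_apply, CohFree.evalGen_ofSect,
    evalGen_comp, CohFree.evalGen_ofSect]

lemma sectToHom_comm (U : C) {F F' : Sheaf J AddCommGrpCat.{u}} (φ : F ⟶ F')
    (s : F.obj.obj (op U)) :
    sectToHom U F' ((φ.hom.app (op U)).hom s) =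
      sectToHom U F s ≫ ((singleFunctor _ 0).map φ)⟦(0 : ℤ)⟧' := by
  rw [sectToHom_apply, sectToHom_apply, ofSect_comp, Functor.map_comp, Category.assoc,
    Category.assoc]
  congr 1
  exact (shiftFunctorZero _ ℤ).inv.naturality _

/-- vanishing of `R^1 lim` of sections gives vanishing of `R^1 lim` of `Hom(ℤ_U, F_n[0])`. -/
lemma limOneIsZero_hom (U : C) (F : ℕ → Sheaf J AddCommGrpCat.{u}) (t : ∀ n, F (n + 1) ⟶ F n)
    (k : ℤ) (hk : k = 0)
    (h2 : CohCx.LimOneIsZero (fun n => (F n).obj.obj (op U))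
      (fun n => ((t n).hom.app (op U)).hom)) :
    CohCx.LimOneIsZero
      (fun n => ((singleFunctor (Sheaf J AddCommGrpCat.{u}) 0).obj (CohCx.freeSheaf J U) ⟶
        ((singleFunctor (Sheaf J AddCommGrpCat.{u}) 0).obj (F n))⟦k⟧))
      (fun n => Preadditive.rightComp _ (((singleFunctor _ 0).map (t n))⟦k⟧')) := by
  subst hk
  exact limOneIsZero_of_surjective_map _ _ (fun n => sectToHom U (F n))
    (fun n => sectToHom_surjective U (F n)) (fun n x => sectToHom_comm U (t n) x) h2

/-- The limit of an inverse system of sheaves which is acyclic on a covering class `B` is its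
derived limit, and it is acyclic on `B`. -/
theorem rlim_of_acyclic (F : ℕ → Sheaf J AddCommGrpCat.{u}) (t : ∀ n, F (n + 1) ⟶ F n)
    [HasProduct fun n => (singleFunctor (Sheaf J AddCommGrpCat.{u}) 0).obj (F n)]
    (B : Set C) (hB : Covers J B)
    (h1 : ∀ U ∈ B, ∀ (p n : ℕ), Subsingleton (CohSite.HU (F n) (p + 1) U))
    (h2 : ∀ U ∈ B, CohCx.LimOneIsZero (fun n => (F n).obj.obj (op U))
      (fun n => ((t n).hom.app (op U)).hom)) :
    DCoh.IsRlim (fun n => (singleFunctor (Sheaf J AddCommGrpCat.{u}) 0).obj (F n))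
      (fun n => (singleFunctor (Sheaf J AddCommGrpCat.{u}) 0).map (t n))
      ((singleFunctor (Sheaf J AddCommGrpCat.{u}) 0).obj (limit (CohCx.opSequence F t))) ∧
    ∀ U ∈ B, ∀ p : ℕ, Subsingleton (CohSite.HU (limit (CohCx.opSequence F t)) (p + 1) U) := by
  let S := singleFunctor (Sheaf J AddCommGrpCat.{u}) 0
  let K : ℕ → DerivedCategory (Sheaf J AddCommGrpCat.{u}) := fun n => S.obj (F n)
  let tK : ∀ n, K (n + 1) ⟶ K n := fun n => S.map (t n)
  obtain ⟨L, a, hL⟩ := exists_isRlimVia K tK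
  have hLE : ∀ E : Sheaf J AddCommGrpCat.{u}, (S.obj E).IsLE 0 := fun E => inferInstance
  have hGE : ∀ E : Sheaf J AddCommGrpCat.{u}, (S.obj E).IsGE 0 := fun E => inferInstance
  -- negative degrees
  have hneg : ∀ (E : Sheaf J AddCommGrpCat.{u}) (n : ℕ) (j : ℤ), j < 0 →
      Subsingleton (S.obj E ⟶ (K n)⟦j⟧) := by
    intro E n j hj
    have := hLE E
    have := hGE (F n)
    have : tt.IsGE ((K n)⟦j⟧) (-j) := tt.isGE_shift (K n) 0 j (-j) (by omega)
    exact ⟨fun y y' => by rw [tt.zero y 0 (-j) (by omega), tt.zero y' 0 (-j) (by omega)]⟩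
  -- positive degrees
  have hpos : ∀ U ∈ B, ∀ (n : ℕ) (j : ℤ), 0 < j →
      Subsingleton (S.obj (CohCx.freeSheaf J U) ⟶ (K n)⟦j⟧) := by
    intro U hU n j hj
    obtain ⟨p, rfl⟩ : ∃ p : ℕ, j = ((p + 1 : ℕ) : ℤ) := ⟨(j - 1).toNat, by omega⟩
    exact @Equiv.subsingleton _ _ (Abelian.Ext.homEquiv (X := CohCx.freeSheaf J U)
      (Y := F n) (n := p + 1)).symm (h1 U hU p n)
  -- `R^1 lim`
  have hlim : ∀ U ∈ B, ∀ j : ℤ, CohCx.LimOneIsZero
      (fun n => (S.obj (CohCx.freeSheaf J U) ⟶ (K n)⟦j⟧))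
      (fun n => Preadditive.rightComp _ ((tK n)⟦j⟧')) := by
    intro U hU j
    rcases lt_trichotomy j 0 with hj | hj | hj
    · exact limOneIsZero_of_subsingleton _ _ (fun n => hneg _ n j hj)
    · exact limOneIsZero_hom U F t j hj (h2 U hU)
    · exact limOneIsZero_of_subsingleton _ _ (fun n => hpos U hU n j hj)
  -- `Hom(ℤ_U, L[m])`
  have hL0 : ∀ U ∈ B, ∀ m : ℤ, m ≠ 0 →
      Subsingleton (S.obj (CohCx.freeSheaf J U) ⟶ L⟦m⟧) := by
    intro U hU m hm
    apply subsingleton_hom_rlim hL _ m ?_ (hlim U hU (m - 1))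
    intro n
    rcases lt_or_gt_of_ne hm with h | h
    · exact hneg _ n m h
    · exact hpos U hU n m h
  -- cohomology sheaves of `L`
  have hH : ∀ m : ℤ, m ≠ 0 → IsZero ((homologyFunctor _ m).obj L) := by
    intro m hm
    apply isZero_homology_of_local (locFr_frSh J) L m
    intro U T hT
    refine ⟨presieveIn B T, presieveIn_le B T, generate_presieveIn_mem hB T hT, ?_⟩
    intro V g hg
    exact hL0 V hg.1 m hm
  have : L.IsGE 0 := by
    rw [isGE_iff]
    intro i hi
    exact hH i (by omega)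
  have : L.IsLE 0 := by
    rw [isLE_iff]
    intro i hi
    exact hH i (by omega)
  obtain ⟨G, ⟨e⟩⟩ := exists_iso_singleFunctor_obj_of_isGE_of_isLE L 0
  have e : L ≅ S.obj G := e
  -- legs
  let b : ∀ n, G ⟶ F n := fun n => S.preimage (e.inv ≫ a n)
  have hb' : ∀ n, S.map (b n) = e.inv ≫ a n := fun n => S.map_preimage _
  have hat : ∀ n, a (n + 1) ≫ tK n = a n := isRlimVia_comp_t hL
  have hb : ∀ n, b (n + 1) ≫ t n = b n := by
    intro n
    apply S.map_injective
    rw [Functor.map_comp, hb', hb', Category.assoc]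
    congr 1
    exact hat n
  -- limit cone
  have hlimcone : IsLimit (coneOfLegs t G b hb) := by
    apply isLimitConeOfLegs
    · intro E x hx
      obtain ⟨ψ, hψ⟩ := exists_lift_to_rlim hL (fun n => S.map (x n)) (fun n => by
        change S.map (x (n + 1)) ≫ S.map (t n) = S.map (x n)
        rw [← Functor.map_comp, hx])
      refine ⟨S.preimage (ψ ≫ e.hom), fun n => ?_⟩
      apply S.map_injective
      rw [Functor.map_comp, S.map_preimage, hb', Category.assoc, e.hom_inv_id_assoc, hψ]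
    · intro E y y' hy
      have key : S.map y ≫ e.inv = S.map y' ≫ e.inv := by
        apply hom_ext_rlim hL (S.obj E) ?_ _ _ (fun n => ?_)
        · intro n
          have := hLE E
          have := hGE (F n)
          have : tt.IsLE ((S.obj E)⟦(1 : ℤ)⟧) (-1) := tt.isLE_shift (S.obj E) 0 1 (-1) (by omega)
          have : tt.IsGE ((K n)⟦(1 : ℤ) - 1⟧) 0 :=
            tt.isGE_shift (K n) 0 ((1 : ℤ) - 1) 0 (by omega)
          exact ⟨fun z z' => by rw [tt.zero z (-1) 0 (by omega), tt.zero z' (-1) 0 (by omega)]⟩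
        · rw [Category.assoc, Category.assoc, ← hb', ← Functor.map_comp, ← Functor.map_comp, hy]
      rw [cancel_mono] at key
      exact S.map_injective key
  let θ : limit (CohCx.opSequence F t) ≅ G := limit.isoLimitCone ⟨_, hlimcone⟩
  let ψ : S.obj (limit (CohCx.opSequence F t)) ⟶ L := S.map θ.hom ≫ e.inv
  have hψ : IsIso ψ := inferInstance
  constructor
  · obtain ⟨c, hc⟩ := isRlimVia_of_iso hL ψ (fun n => ψ ≫ a n) (fun n => rfl)
    exact ⟨_, c, hc⟩
  · intro U hU p
    have h3 := hL0 U hU ((p + 1 : ℕ) : ℤ) (by omega)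
    have h4 : Subsingleton (S.obj (CohCx.freeSheaf J U) ⟶
        (S.obj (limit (CohCx.opSequence F t)))⟦((p + 1 : ℕ) : ℤ)⟧) :=
      subsingleton_hom_of_iso ((shiftFunctor _ _).mapIso (asIso ψ).symm) h3
    exact @Equiv.subsingleton _ _ (Abelian.Ext.homEquiv (X := CohCx.freeSheaf J U)
      (Y := limit (CohCx.opSequence F t)) (n := p + 1)) h4

end Sheaf

section Top

open TopologicalSpace

/-- a basis of opens is a covering class for the site of opens. -/
lemma covers_of_isBasis {X : TopCat.{u}} (B : Set (Opens X)) (hB : Opens.IsBasis B) :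
    Covers (Opens.grothendieckTopology X) B := by
  intro V
  refine ⟨{W : Opens X // W ∈ B ∧ W ≤ V}, fun W => W.1, fun W => homOfLE W.2.2, ?_,
    fun W => W.2.1⟩
  intro x hx
  obtain ⟨W, hWB, hxW, hWV⟩ := Opens.isBasis_iff_nbhd.1 hB hx
  exact ⟨W, homOfLE hWV,
    Sieve.ofArrows_mk _ _ (⟨W, hWB, hWV⟩ : {W : Opens X // W ∈ B ∧ W ≤ V}), hxW⟩

end Top

end Groth.Agent.Lib.Seat4.HypD
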