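import Groth.Agent.Lib.Seat4HypD

/-!
# Cohomology sheaves of a derived limit (seat 4)

If `L = R lim K_n` in `D(Ab(C))` and `B` is a covering class of objects on which the cohomology
sheaves `H^q(K_n)` are acyclic with vanishing `R^1 lim` of sections, then `H^q(L) = lim H^q(K_n)`.
-/

set_option autoImplicit false

universe w w' v v' u u'

open CategoryTheory CategoryTheory.Limits DerivedCategory Opposite

namespace Groth.Agent.Lib.Seat4.HypE

open Groth.Agent.Lib.Helper17.Hyp Groth.Agent.S14388 Groth.Agent.Lib.Seat4.HypA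
  Groth.Agent.Lib.Seat4.HypD

section Ab

/-- vanishing of `R^1 lim` is reflected by a bijective morphism of inverse systems. -/
lemma limOneIsZero_of_bijective_map {A A' : ℕ → Type w} [∀ n, AddCommGroup (A n)]
    [∀ n, AddCommGroup (A' n)] (t : ∀ n, A (n + 1) →+ A n) (t' : ∀ n, A' (n + 1) →+ A' n)
    (e : ∀ n, A n →+ A' n) (he : ∀ n, Function.Bijective (e n))
    (comm : ∀ n x, e n (t n x) = t' n (e (n + 1) x)) (h : CohCx.LimOneIsZero A' t') :
    CohCx.LimOneIsZero A t := by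
  intro b
  obtain ⟨a', ha'⟩ := h (fun n => e n (b n))
  choose a ha using fun n => (he n).2 (a' n)
  refine ⟨a, funext fun n => (he n).1 ?_⟩
  have := congrFun ha' n
  dsimp only at this ⊢
  rw [map_sub, comm, ha, ha, this]

end Ab

section Tri

open Pretriangulated

variable {T : Type u'} [Category.{v'} T] [Preadditive T] [HasZeroObject T] [HasShift T ℤ]
    [∀ n : ℤ, (shiftFunctor T n).Additive] [Pretriangulated T]
    {K : ℕ → T} {t : ∀ n, K (n + 1) ⟶ K n} [HasProduct K]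

lemma exists_isRlimVia_of_isRlim {L : T} (hL : DCoh.IsRlim K t L) :
    ∃ a : ∀ n, L ⟶ K n, CohCx.IsRlimVia K t L a := by
  obtain ⟨a, c, hc⟩ := hL
  refine ⟨fun n => a ≫ Pi.π K n, c, ?_⟩
  have : Pi.lift (fun n => a ≫ Pi.π K n) = a := by
    apply Pi.hom_ext
    intro n
    rw [Pi.lift_π]
  rw [this]
  exact hc

end Tri

section Der

variable {A : Type (v + 1)} [Category.{v} A] [Abelian A]
  {C : Type u'} [Category.{v'} C]
  {J : GrothendieckTopology C} {fr : C ⥤ A} [HasDerivedCategory.{w} A]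
  {K : ℕ → DerivedCategory A} {t : ∀ n, K (n + 1) ⟶ K n} [HasProduct K]
  {L : DerivedCategory A} {a : ∀ n, L ⟶ K n}

/-- compatible sections of the `H^m(K_n)` over `P` lift to `H^m(L)` when `cm` is bijective. -/
theorem exists_section_rlim (hL : CohCx.IsRlimVia K t L a) (m : ℤ) (P : A)
    (hbij : ∀ n, Function.Bijective (fun ξ : dsgl P ⟶ (K n)⟦m⟧ => cm ξ))
    (s : ∀ n, P ⟶ (homologyFunctor A m).obj (K n))
    (hs : ∀ n, s (n + 1) ≫ (homologyFunctor A m).map (t n) = s n) :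
    ∃ s' : P ⟶ (homologyFunctor A m).obj L,
      ∀ n, s' ≫ (homologyFunctor A m).map (a n) = s n := by
  choose ξ hξ using fun n => (hbij n).2 (s n)
  dsimp only at hξ
  have hcomp : ∀ n, ξ (n + 1) ≫ (t n)⟦m⟧' = ξ n := by
    intro n
    apply (hbij n).1
    dsimp only
    rw [cm_comp, hξ, hξ, hs]
  obtain ⟨y, hy⟩ := (Groth.Agent.S0943.milnor_general hL (dsgl P) m).1 ξ hcomp
  refine ⟨cm y, fun n => ?_⟩
  rw [← cm_comp, hy, hξ]

/-- a class in `H^m(P, L)` whose section of `H^m(L)` dies in all `H^m(K_n)` is zero. -/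
theorem eq_zero_of_cm_comp_eq_zero (hL : CohCx.IsRlimVia K t L a) (m : ℤ) (P : A)
    (hinj : ∀ n, Function.Injective (fun ξ : dsgl P ⟶ (K n)⟦m⟧ => cm ξ))
    (hlim : CohCx.LimOneIsZero (fun n => dsgl P ⟶ (K n)⟦m - 1⟧)
      (fun n => Preadditive.rightComp _ ((t n)⟦m - 1⟧')))
    (ξ : dsgl P ⟶ L⟦m⟧) (h : ∀ n, cm ξ ≫ (homologyFunctor A m).map (a n) = 0) : ξ = 0 := by
  apply (Groth.Agent.S0943.milnor_general hL (dsgl P) m).2 hlim ξ
  intro n
  apply hinj n
  dsimp only
  rw [cm_comp, h, cm_zero]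

/-- `H^m(L) ⟶ lim H^m(K_n)` is an isomorphism. -/
theorem isIso_of_good (h : LocFr J fr) (hL : CohCx.IsRlimVia K t L a) (m : ℤ)
    (good : C → Prop)
    (hcov : ∀ (U : C) (T : Sieve U), T ∈ J U → ∃ R : Presieve U, R ≤ T ∧
      Sieve.generate R ∈ J U ∧ ∀ ⦃V : C⦄ (g : V ⟶ U), R g → good V)
    (hbij : ∀ V, good V → ∀ n,
      Function.Bijective (fun ξ : dsgl (fr.obj V) ⟶ (K n)⟦m⟧ => cm ξ))
    (hlim : ∀ V, good V → CohCx.LimOneIsZero (fun n => dsgl (fr.obj V) ⟶ (K n)⟦m - 1⟧)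
      (fun n => Preadditive.rightComp _ ((t n)⟦m - 1⟧')))
    (Λ : A) (π : ∀ n, Λ ⟶ (homologyFunctor A m).obj (K n))
    (hπ : ∀ n, π (n + 1) ≫ (homologyFunctor A m).map (t n) = π n)
    (hext : ∀ {E : A} (f g : E ⟶ Λ), (∀ n, f ≫ π n = g ≫ π n) → f = g)
    (φ : (homologyFunctor A m).obj L ⟶ Λ)
    (hφ : ∀ n, φ ≫ π n = (homologyFunctor A m).map (a n)) : IsIso φ := by
  have hmono : Mono φ := by
    apply Preadditive.mono_of_cancel_zero
    intro E g hg
    apply h.gen
    intro U s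
    obtain ⟨T, hT, hT'⟩ := exists_lift_cm h L m U (s ≫ g)
    obtain ⟨R, hRT, hR, hR'⟩ := hcov U T hT
    refine h.zero_of_generate U _ R hR ?_
    intro V f hf
    obtain ⟨ξ, hξ⟩ := hT' f (hRT _ _ hf)
    have hV := hR' f hf
    have : ξ = 0 := by
      apply eq_zero_of_cm_comp_eq_zero hL m _ (fun n => (hbij V hV n).1) (hlim V hV) ξ
      intro n
      rw [hξ, ← hφ, Category.assoc, Category.assoc, reassoc_of% hg, zero_comp, comp_zero,
        comp_zero]
    rw [← hξ, this, cm_zero]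
  have hepi : Epi φ := by
    apply epi_of_local_lift h
    intro U s
    obtain ⟨R, -, hR, hR'⟩ := hcov U ⊤ (J.top_mem U)
    refine ⟨R, hR, fun V g hg => ?_⟩
    have hV := hR' g hg
    obtain ⟨s', hs'⟩ := exists_section_rlim hL m (fr.obj V) (hbij V hV)
      (fun n => fr.map g ≫ s ≫ π n) (fun n => by
        rw [Category.assoc, Category.assoc, hπ])
    refine ⟨s', ?_⟩
    apply hext
    intro n
    rw [Category.assoc, hφ, hs', Category.assoc]
  exact isIso_of_mono_of_epi φ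

end Der

section Sheaf

variable {C : Type u} [SmallCategory C] {J : GrothendieckTopology C}
  [HasDerivedCategory.{u} (Sheaf J AddCommGrpCat.{u})]

lemma canonU_comp {K K' : DerivedCategory (Sheaf J AddCommGrpCat.{u})} (φ : K ⟶ K') (q : ℤ)
    (U : C) (ξ : CohCx.HDU K q U) :
    canonU K' q U (ξ ≫ φ⟦q⟧') =
      (((homologyFunctor _ q).map φ).hom.app (op U)).hom (canonU K q U ξ) := by
  have h1 := cm_comp (P := CohCx.freeSheaf J U) (K := K) (m := q) ξ φ
  exact (congrArg (CohFree.evalGen J U _) h1).trans (evalGen_comp J U _ _)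

/-- `H^q(R lim K_n) = lim H^q(K_n)` when the `H^q(K_n)` are acyclic on a covering class `B` with
vanishing `R^1 lim` of sections. -/
theorem homology_rlim_iso (K : ℕ → DerivedCategory (Sheaf J AddCommGrpCat.{u}))
    (t : ∀ n, K (n + 1) ⟶ K n) [HasProduct K]
    (L : DerivedCategory (Sheaf J AddCommGrpCat.{u})) (a : ∀ n, L ⟶ K n)
    (hL : CohCx.IsRlimVia K t L a) (B : Set C) (hB : Covers J B)
    (h1 : ∀ U ∈ B, ∀ (p : ℕ) (q : ℤ) (n : ℕ),
      Subsingleton (CohSite.HU (CohCx.HD (K n) q) (p + 1) U))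
    (h2 : ∀ U ∈ B, ∀ (q : ℤ), CohCx.LimOneIsZero (fun n => (CohCx.HD (K n) q).obj.obj (op U))
      (fun n => (((DerivedCategory.homologyFunctor _ q).map (t n)).hom.app (op U)).hom))
    (q : ℤ) :
    Nonempty (CohCx.HD L q ≅ limit (CohCx.opSequence (fun n => CohCx.HD (K n) q)
      (fun n => (DerivedCategory.homologyFunctor _ q).map (t n)))) := by
  let Fq : ℕ → Sheaf J AddCommGrpCat.{u} := fun n => CohCx.HD (K n) q
  let tq : ∀ n, Fq (n + 1) ⟶ Fq n := fun n => (DerivedCategory.homologyFunctor _ q).map (t n)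
  let Λ : Sheaf J AddCommGrpCat.{u} := limit (CohCx.opSequence Fq tq)
  let π : ∀ n, Λ ⟶ Fq n := fun n => limit.π (CohCx.opSequence Fq tq) (op n)
  have hπ : ∀ n, π (n + 1) ≫ tq n = π n := fun n =>
    cone_leg_succ tq (limit.cone (CohCx.opSequence Fq tq)) n
  have hat := isRlimVia_comp_t hL
  let φ : CohCx.HD L q ⟶ Λ := limit.lift _ (coneOfLegs tq (CohCx.HD L q)
    (fun n => (DerivedCategory.homologyFunctor _ q).map (a n)) (fun n => by
      dsimp only [tq]
      rw [← Functor.map_comp, hat]))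
  have hφ : ∀ n, φ ≫ π n = (DerivedCategory.homologyFunctor _ q).map (a n) := fun n =>
    limit.lift_π _ _
  have hbij : ∀ V, V ∈ B → ∀ n, Function.Bijective
      (fun ξ : dsgl ((frSh J).obj V) ⟶ (K n)⟦q⟧ => cm ξ) := fun V hV n =>
    bijective_cm_of_acyc
      (isRlimVia_truncTower_of_acyclic (K n) B hB (fun U hU p q => h1 U hU p q n))
      (acyc_of_HU (K n) V (fun p q => h1 V hV p q n)) q
  have hlim : ∀ V, V ∈ B → CohCx.LimOneIsZero
      (fun n => dsgl ((frSh J).obj V) ⟶ (K n)⟦q - 1⟧)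
      (fun n => Preadditive.rightComp _ ((t n)⟦q - 1⟧')) := fun V hV =>
    limOneIsZero_of_bijective_map _ _ (fun n => canonU (K n) (q - 1) V)
      (fun n => bijective_canonU (K n) B hB (fun U hU p q => h1 U hU p q n) V hV (q - 1))
      (fun n ξ => canonU_comp (t n) (q - 1) V ξ) (h2 V hV (q - 1))
  have : IsIso φ := isIso_of_good (locFr_frSh J) hL q (fun V => V ∈ B)
    (fun U T hT => ⟨presieveIn B T, presieveIn_le B T, generate_presieveIn_mem hB T hT,
      fun V g hg => hg.1⟩) hbij hlim Λ π hπ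
    (fun f g hfg => limit.hom_ext (fun j => hfg j.unop)) φ hφ
  exact ⟨asIso φ⟩

end Sheaf

end Groth.Agent.Lib.Seat4.HypE
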