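import Groth.Agent.Lib.Seat4HypD

/-!
# The limit of an acyclic inverse system of sheaves is its derived limit, via the projections (seat 4)

Variant of `Seat4HypD.rlim_of_acyclic` recording that the legs of the derived limit are the images of the
projections of the limit.
-/

set_option autoImplicit false

universe w w' v v' u u'

open CategoryTheory CategoryTheory.Limits DerivedCategory Opposite

namespace Groth.Agent.Lib.Seat4.HypF

open Groth.Agent.Lib.Helper17.Hyp Groth.Agent.S14388 Groth.Agent.Lib.Seat4.HypA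
  Groth.Agent.Lib.Seat4.HypD

section Sheaf

variable {C : Type u} [SmallCategory C] {J : GrothendieckTopology C}
  [HasDerivedCategory.{u} (Sheaf J AddCommGrpCat.{u})]

/-- The limit of an inverse system of sheaves which is acyclic on a covering class `B` is its
derived limit, and it is acyclic on `B`. -/
theorem rlim_of_acyclic_via (F : ℕ → Sheaf J AddCommGrpCat.{u}) (t : ∀ n, F (n + 1) ⟶ F n)
    [HasProduct fun n => (singleFunctor (Sheaf J AddCommGrpCat.{u}) 0).obj (F n)]
    (B : Set C) (hB : Covers J B)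
    (h1 : ∀ U ∈ B, ∀ (p n : ℕ), Subsingleton (CohSite.HU (F n) (p + 1) U))
    (h2 : ∀ U ∈ B, CohCx.LimOneIsZero (fun n => (F n).obj.obj (op U))
      (fun n => ((t n).hom.app (op U)).hom)) :
    CohCx.IsRlimVia (fun n => (singleFunctor (Sheaf J AddCommGrpCat.{u}) 0).obj (F n))
      (fun n => (singleFunctor (Sheaf J AddCommGrpCat.{u}) 0).map (t n))
      ((singleFunctor (Sheaf J AddCommGrpCat.{u}) 0).obj (limit (CohCx.opSequence F t)))
      (fun n => (singleFunctor (Sheaf J AddCommGrpCat.{u}) 0).map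
        (limit.π (CohCx.opSequence F t) (op n))) := by
  let S := singleFunctor (Sheaf J AddCommGrpCat.{u}) 0
  let K : ℕ → DerivedCategory (Sheaf J AddCommGrpCat.{u}) := fun n => S.obj (F n)
  let tK : ∀ n, K (n + 1) ⟶ K n := fun n => S.map (t n)
  obtain ⟨L, a, hL⟩ := exists_isRlimVia K tK
  have hLE : ∀ E : Sheaf J AddCommGrpCat.{u}, (S.obj E).IsLE 0 := fun E => inferInstance
  have hGE : ∀ E : Sheaf J AddCommGrpCat.{u}, (S.obj E).IsGE 0 := fun E => inferInstance
  -- negative degrees
  have hneg : ∀ (E : Sheaf J AddCommGrpCat.{u}) (n : ℕ) (j : ℤ), j < 0 →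
      Subsingleton (S.obj E ⟶ (K n)⟦j⟧) := by
    intro E n j hj
    have := hLE E
    have := hGE (F n)
    have : tt.IsGE ((K n)⟦j⟧) (-j) := tt.isGE_shift (K n) 0 j (-j) (by omega)
    exact ⟨fun y y' => by rw [tt.zero y 0 (-j) (by omega), tt.zero y' 0 (-j) (by omega)]⟩
  -- positive degrees
  have hpos : ∀ U ∈ B, ∀ (n : ℕ) (j : ℤ), 0 < j →
      Subsingleton (S.obj (CohCx.freeSheaf J U) ⟶ (K n)⟦j⟧) := by
    intro U hU n j hj
    obtain ⟨p, rfl⟩ : ∃ p : ℕ, j = ((p + 1 : ℕ) : ℤ) := ⟨(j - 1).toNat, by omega⟩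
    exact @Equiv.subsingleton _ _ (Abelian.Ext.homEquiv (X := CohCx.freeSheaf J U)
      (Y := F n) (n := p + 1)).symm (h1 U hU p n)
  -- `R^1 lim`
  have hlim : ∀ U ∈ B, ∀ j : ℤ, CohCx.LimOneIsZero
      (fun n => (S.obj (CohCx.freeSheaf J U) ⟶ (K n)⟦j⟧))
      (fun n => Preadditive.rightComp _ ((tK n)⟦j⟧')) := by
    intro U hU j
    rcases lt_trichotomy j 0 with hj | hj | hj
    · exact limOneIsZero_of_subsingleton _ _ (fun n => hneg _ n j hj)
    · exact limOneIsZero_hom U F t j hj (h2 U hU)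
    · exact limOneIsZero_of_subsingleton _ _ (fun n => hpos U hU n j hj)
  -- `Hom(ℤ_U, L[m])`
  have hL0 : ∀ U ∈ B, ∀ m : ℤ, m ≠ 0 →
      Subsingleton (S.obj (CohCx.freeSheaf J U) ⟶ L⟦m⟧) := by
    intro U hU m hm
    apply subsingleton_hom_rlim hL _ m ?_ (hlim U hU (m - 1))
    intro n
    rcases lt_or_gt_of_ne hm with h | h
    · exact hneg _ n m h
    · exact hpos U hU n m h
  -- cohomology sheaves of `L`
  have hH : ∀ m : ℤ, m ≠ 0 → IsZero ((homologyFunctor _ m).obj L) := by
    intro m hm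
    apply isZero_homology_of_local (locFr_frSh J) L m
    intro U T hT
    refine ⟨presieveIn B T, presieveIn_le B T, generate_presieveIn_mem hB T hT, ?_⟩
    intro V g hg
    exact hL0 V hg.1 m hm
  have : L.IsGE 0 := by
    rw [isGE_iff]
    intro i hi
    exact hH i (by omega)
  have : L.IsLE 0 := by
    rw [isLE_iff]
    intro i hi
    exact hH i (by omega)
  obtain ⟨G, ⟨e⟩⟩ := exists_iso_singleFunctor_obj_of_isGE_of_isLE L 0
  have e : L ≅ S.obj G := e
  -- legs
  let b : ∀ n, G ⟶ F n := fun n => S.preimage (e.inv ≫ a n)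
  have hb' : ∀ n, S.map (b n) = e.inv ≫ a n := fun n => S.map_preimage _
  have hat : ∀ n, a (n + 1) ≫ tK n = a n := isRlimVia_comp_t hL
  have hb : ∀ n, b (n + 1) ≫ t n = b n := by
    intro n
    apply S.map_injective
    rw [Functor.map_comp, hb', hb', Category.assoc]
    congr 1
    exact hat n
  -- limit cone
  have hlimcone : IsLimit (coneOfLegs t G b hb) := by
    apply isLimitConeOfLegs
    · intro E x hx
      obtain ⟨ψ, hψ⟩ := exists_lift_to_rlim hL (fun n => S.map (x n)) (fun n => by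
        change S.map (x (n + 1)) ≫ S.map (t n) = S.map (x n)
        rw [← Functor.map_comp, hx])
      refine ⟨S.preimage (ψ ≫ e.hom), fun n => ?_⟩
      apply S.map_injective
      rw [Functor.map_comp, S.map_preimage, hb', Category.assoc, e.hom_inv_id_assoc, hψ]
    · intro E y y' hy
      have key : S.map y ≫ e.inv = S.map y' ≫ e.inv := by
        apply hom_ext_rlim hL (S.obj E) ?_ _ _ (fun n => ?_)
        · intro n
          have := hLE E
          have := hGE (F n)
          have : tt.IsLE ((S.obj E)⟦(1 : ℤ)⟧) (-1) := tt.isLE_shift (S.obj E) 0 1 (-1) (by omega)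
          have : tt.IsGE ((K n)⟦(1 : ℤ) - 1⟧) 0 :=
            tt.isGE_shift (K n) 0 ((1 : ℤ) - 1) 0 (by omega)
          exact ⟨fun z z' => by rw [tt.zero z (-1) 0 (by omega), tt.zero z' (-1) 0 (by omega)]⟩
        · rw [Category.assoc, Category.assoc, ← hb', ← Functor.map_comp, ← Functor.map_comp, hy]
      rw [cancel_mono] at key
      exact S.map_injective key
  let θ : limit (CohCx.opSequence F t) ≅ G := limit.isoLimitCone ⟨_, hlimcone⟩
  let ψ : S.obj (limit (CohCx.opSequence F t)) ⟶ L := S.map θ.hom ≫ e.inv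
  have hψ : IsIso ψ := inferInstance
  refine isRlimVia_of_iso hL ψ _ (fun n => ?_)
  have h1 : θ.hom ≫ b n = limit.π (CohCx.opSequence F t) (op n) :=
    limit.isoLimitCone_hom_π ⟨_, hlimcone⟩ (op n)
  change (S.map θ.hom ≫ e.inv) ≫ a n = S.map (limit.π (CohCx.opSequence F t) (op n))
  rw [Category.assoc, ← hb', ← Functor.map_comp, h1]
  rfl

end Sheaf

end Groth.Agent.Lib.Seat4.HypF
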