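import Groth.Agent.Lib.Seat4HypD
import Groth.Agent.Lib.Helper17KInj12
import Groth.Agent.Lib.Helper16KInjAdj

/-!
# Maps from `P[0]` to a K-injective complex in the derived category (seat 4)

For `L` a K-injective complex in an abelian category `A` and `P : A`, the map
`θ : Z^0 Hom(P, L) → Hom_{D(A)}(P[0], L)` is surjective with kernel the coboundaries.
-/

set_option autoImplicit false

universe w w' v v' u u'

open CategoryTheory CategoryTheory.Limits DerivedCategory Opposite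

namespace Groth.Agent.Lib.Seat4.KInjSect

open Groth.Agent.Lib.Helper17.Hyp Groth.Agent.Lib.Helper17.KInj

section Abs

variable {A : Type u} [Category.{v} A] [Abelian A] [HasDerivedCategory.{w} A]

/-- degree-zero cocycles of `Hom(P, L)`. -/
def Z0 (P : A) (L : CochainComplex A ℤ) : AddSubgroup (P ⟶ L.X 0) :=
  (Preadditive.rightComp P (L.d 0 1)).ker

omit [HasDerivedCategory.{w} A] in
lemma mem_Z0 {P : A} {L : CochainComplex A ℤ} (φ : P ⟶ L.X 0) : φ ∈ Z0 P L ↔ φ ≫ L.d 0 1 = 0 :=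
  Iff.rfl

omit [HasDerivedCategory.{w} A] in
lemma fromSingle₀_add {P : A} {L : CochainComplex A ℤ} (φ φ' : P ⟶ L.X 0)
    (hφ : φ ≫ L.d 0 1 = 0) (hφ' : φ' ≫ L.d 0 1 = 0) :
    fromSingle₀ (φ + φ') (by rw [Preadditive.add_comp, hφ, hφ', add_zero]) =
      fromSingle₀ φ hφ + fromSingle₀ φ' hφ' := by
  apply HomologicalComplex.from_single_hom_ext
  rw [HomologicalComplex.add_f_apply, fromSingle₀_f, fromSingle₀_f, fromSingle₀_f,
    Preadditive.comp_add]

/-- the class of a cocycle. -/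
noncomputable def θ (P : A) (L : CochainComplex A ℤ) : Z0 P L →+ (dsgl P ⟶ Q.obj L) where
  toFun φ := Q.map (fromSingle₀ φ.1 φ.2)
  map_zero' := by
    have : fromSingle₀ (0 : P ⟶ L.X 0) zero_comp = 0 := by
      apply HomologicalComplex.from_single_hom_ext
      rw [fromSingle₀_f, comp_zero]
      rfl
    change Q.map (fromSingle₀ (0 : P ⟶ L.X 0) _) = 0
    rw [this, Functor.map_zero]
  map_add' φ φ' := by
    change Q.map (fromSingle₀ (φ.1 + φ'.1) _) = _
    rw [fromSingle₀_add φ.1 φ'.1 φ.2 φ'.2, Functor.map_add]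

lemma θ_apply {P : A} {L : CochainComplex A ℤ} (φ : Z0 P L) :
    θ P L φ = Q.map (fromSingle₀ φ.1 φ.2) := rfl

lemma θ_surjective (P : A) (L : CochainComplex A ℤ) [L.IsKInjective] :
    Function.Surjective (θ P L) := by
  intro ξ
  obtain ⟨g, rfl⟩ := exists_Q_map_eq (K := sgl P) (L := L) ξ
  obtain ⟨φ, hφ, rfl⟩ := eq_fromSingle₀ g
  exact ⟨⟨φ, hφ⟩, rfl⟩

lemma θ_eq_zero_of_coboundary {P : A} {L : CochainComplex A ℤ} (φ : Z0 P L)
    (w : P ⟶ L.X (-1)) (hw : w ≫ L.d (-1) 0 = φ.1) : θ P L φ = 0 := by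
  obtain ⟨φ, hφ⟩ := φ
  subst hw
  rw [θ_apply, Q_map_eq_of_homotopy (homotopyFromSingle₀ w hφ), Functor.map_zero]

lemma exists_coboundary_of_θ_eq_zero {P : A} {L : CochainComplex A ℤ} [L.IsKInjective]
    (φ : Z0 P L) (h : θ P L φ = 0) : ∃ w : P ⟶ L.X (-1), w ≫ L.d (-1) 0 = φ.1 := by
  have h' : (Q : _ ⥤ DerivedCategory A).map (fromSingle₀ φ.1 φ.2) = Q.map 0 := by
    rw [Functor.map_zero]
    exact h
  obtain ⟨H⟩ := homotopy_of_Q_map_eq h'
  refine ⟨(HomologicalComplex.singleObjXSelf (ComplexShape.up ℤ) 0 P).inv ≫ H.hom 0 (-1), ?_⟩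
  have h0 := H.comm 0
  rw [fromSingle₀_f, HomologicalComplex.zero_f, add_zero,
    dNext_eq _ (show (ComplexShape.up ℤ).Rel 0 1 by simp),
    prevD_eq _ (show (ComplexShape.up ℤ).Rel (-1) 0 by simp), sgl_d, zero_comp, zero_add] at h0
  rw [Category.assoc, ← h0, Iso.inv_hom_id_assoc]

lemma θ_eq_zero_iff {P : A} {L : CochainComplex A ℤ} [L.IsKInjective] (φ : Z0 P L) :
    θ P L φ = 0 ↔ ∃ w : P ⟶ L.X (-1), w ≫ L.d (-1) 0 = φ.1 :=
  ⟨exists_coboundary_of_θ_eq_zero φ, fun ⟨w, hw⟩ => θ_eq_zero_of_coboundary φ w hw⟩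

/-- naturality in `P`. -/
lemma θ_precomp {P P' : A} (f : P ⟶ P') {L : CochainComplex A ℤ} (φ : Z0 P' L) :
    Q.map ((HomologicalComplex.single A (ComplexShape.up ℤ) 0).map f) ≫ θ P' L φ =
      θ P L ⟨f ≫ φ.1, by rw [mem_Z0, Category.assoc, (mem_Z0 _).1 φ.2, comp_zero]⟩ := by
  rw [θ_apply, θ_apply, ← Functor.map_comp, single_map_comp_fromSingle₀]

end Abs

section Top

open TopologicalSpace

variable {X Y : TopCat.{u}} (f : X ⟶ Y)

/-- maps `ℤ_V ⟶ f_* G` correspond to maps `ℤ_{f⁻¹V} ⟶ G`. -/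
noncomputable def sharp (G : CohTop.Ab X) (V : Opens Y) :
    (CohCx.freeSheaf (Opens.grothendieckTopology Y) V ⟶ (CohTop.push f).obj G) ≃+
      (CohCx.freeSheaf (Opens.grothendieckTopology X) ((Opens.map f).obj V) ⟶ G) :=
  (CohFree.homEquivSect _ V ((CohTop.push f).obj G)).trans
    (CohFree.homEquivSect _ ((Opens.map f).obj V) G).symm

lemma evalGen_sharp (G : CohTop.Ab X) (V : Opens Y)
    (σ : CohCx.freeSheaf (Opens.grothendieckTopology Y) V ⟶ (CohTop.push f).obj G) :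
    CohFree.evalGen _ ((Opens.map f).obj V) G (sharp f G V σ) =
      CohFree.evalGen _ V ((CohTop.push f).obj G) σ :=
  CohFree.evalGen_ofSect _ _ _ _

lemma sharp_comp {G G' : CohTop.Ab X} (ψ : G ⟶ G') (V : Opens Y)
    (σ : CohCx.freeSheaf (Opens.grothendieckTopology Y) V ⟶ (CohTop.push f).obj G) :
    sharp f G' V (σ ≫ (CohTop.push f).map ψ) = sharp f G V σ ≫ ψ := by
  apply (CohFree.homEquivSect _ ((Opens.map f).obj V) G').injective
  rw [CohFree.homEquivSect_apply, CohFree.homEquivSect_apply, evalGen_sharp, evalGen_comp,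
    evalGen_comp, evalGen_sharp]
  rfl

lemma sharp_res (G : CohTop.Ab X) {V V' : Opens Y} (g : V' ⟶ V)
    (σ : CohCx.freeSheaf (Opens.grothendieckTopology Y) V ⟶ (CohTop.push f).obj G) :
    sharp f G V' (CohCx.freeSheafMap _ g ≫ σ) =
      CohCx.freeSheafMap _ ((Opens.map f).map g) ≫ sharp f G V σ := by
  apply (CohFree.homEquivSect _ ((Opens.map f).obj V') G).injective
  rw [CohFree.homEquivSect_apply, CohFree.homEquivSect_apply, evalGen_sharp,
    CohFree.evalGen_freeSheafMap_comp, CohFree.evalGen_freeSheafMap_comp, evalGen_sharp]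
  rfl

end Top

section Push

open TopologicalSpace Groth.Agent.S14388 Groth.Agent.Lib.Seat4.HypA Groth.Agent.Lib.Seat4.HypD

variable {X Y : TopCat.{u}} (f : X ⟶ Y)

/-- the adjunction `f⁻¹ ⊣ f_*` on abelian sheaves. -/
noncomputable def pullPushAdj : CohTop.pull f ⊣ CohTop.push f :=
  TopCat.Sheaf.pullbackPushforwardAdjunction AddCommGrpCat.{u} f

instance pull_preservesFiniteLimits : PreservesFiniteLimits (CohTop.pull f) :=
  CategoryTheory.Functor.SmallCategories.instPreservesFiniteLimitsSheafSheafPullbackOfRepresentablyFlat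
    (Opens.map f) AddCommGrpCat.{u} (Opens.grothendieckTopology ↑Y) (Opens.grothendieckTopology ↑X)

instance pull_preservesFiniteColimits : PreservesFiniteColimits (CohTop.pull f) := by
  have : PreservesColimitsOfSize.{0, 0} (CohTop.pull f) :=
    (pullPushAdj f).leftAdjoint_preservesColimits
  exact PreservesColimitsOfSize.preservesFiniteColimits _

instance pull_additive : (CohTop.pull f).Additive :=
  (pullPushAdj f).left_adjoint_additive

/-- termwise pushforward of complexes. -/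
noncomputable abbrev pushCx : CochainComplex (CohTop.Ab X) ℤ ⥤ CochainComplex (CohTop.Ab Y) ℤ :=
  (CohTop.push f).mapHomologicalComplex (ComplexShape.up ℤ)

instance isKInjective_pushCx (I : CochainComplex (CohTop.Ab X) ℤ) [I.IsKInjective] :
    ((pushCx f).obj I).IsKInjective :=
  Groth.Agent.Lib.Helper16.KInjAdj.isKInjective_map (pullPushAdj f) I

variable (I : CochainComplex (CohTop.Ab X) ℤ) (V : Opens Y)

/-- `sharp` for the terms of a complex. -/
noncomputable def sharpX (n : ℤ) :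
    (CohCx.freeSheaf (Opens.grothendieckTopology Y) V ⟶ ((pushCx f).obj I).X n) ≃+
      (CohCx.freeSheaf (Opens.grothendieckTopology X) ((Opens.map f).obj V) ⟶ I.X n) :=
  sharp f (I.X n) V

lemma sharpX_d (a b : ℤ)
    (σ : CohCx.freeSheaf (Opens.grothendieckTopology Y) V ⟶ ((pushCx f).obj I).X a) :
    sharpX f I V b (σ ≫ ((pushCx f).obj I).d a b) = sharpX f I V a σ ≫ I.d a b :=
  sharp_comp f (I.d a b) V σ

lemma sharpX_res {V V' : Opens Y} (g : V' ⟶ V) (n : ℤ)
    (σ : CohCx.freeSheaf (Opens.grothendieckTopology Y) V ⟶ ((pushCx f).obj I).X n) :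
    sharpX f I V' n (CohCx.freeSheafMap _ g ≫ σ) =
      CohCx.freeSheafMap _ ((Opens.map f).map g) ≫ sharpX f I V n σ :=
  sharp_res f (I.X n) g σ

/-- transport of cocycles. -/
noncomputable def sharpZ :
    Z0 (CohCx.freeSheaf (Opens.grothendieckTopology Y) V) ((pushCx f).obj I) →+
      Z0 (CohCx.freeSheaf (Opens.grothendieckTopology X) ((Opens.map f).obj V)) I where
  toFun σ := ⟨sharpX f I V 0 σ.1, by
    rw [mem_Z0, ← sharpX_d, (mem_Z0 _).1 σ.2, map_zero]⟩
  map_zero' := Subtype.ext (map_zero _)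
  map_add' σ σ' := Subtype.ext (map_add _ _ _)

lemma sharpZ_coe (σ : Z0 (CohCx.freeSheaf (Opens.grothendieckTopology Y) V) ((pushCx f).obj I)) :
    (sharpZ f I V σ).1 = sharpX f I V 0 σ.1 := rfl

lemma sharpZ_surjective : Function.Surjective (sharpZ f I V) := by
  rintro ⟨φ, hφ⟩
  refine ⟨⟨(sharpX f I V 0).symm φ, ?_⟩, Subtype.ext (AddEquiv.apply_symm_apply _ _)⟩
  rw [mem_Z0]
  apply (sharpX f I V 1).injective
  rw [sharpX_d, AddEquiv.apply_symm_apply, map_zero]
  exact hφ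

variable [HasDerivedCategory.{w} (CohTop.Ab X)] [HasDerivedCategory.{w'} (CohTop.Ab Y)]

lemma θ_sharpZ_eq_zero_iff [I.IsKInjective]
    (σ : Z0 (CohCx.freeSheaf (Opens.grothendieckTopology Y) V) ((pushCx f).obj I)) :
    θ _ I (sharpZ f I V σ) = 0 ↔ θ _ ((pushCx f).obj I) σ = 0 := by
  rw [θ_eq_zero_iff, θ_eq_zero_iff]
  constructor
  · rintro ⟨w, hw⟩
    refine ⟨(sharpX f I V (-1)).symm w, ?_⟩
    apply (sharpX f I V 0).injective
    rw [sharpX_d, AddEquiv.apply_symm_apply]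
    exact hw
  · rintro ⟨w', hw'⟩
    refine ⟨sharpX f I V (-1) w', ?_⟩
    rw [← sharpX_d, hw']
    rfl

/-- `Hom(ℤ_{f⁻¹V}[0], K') = 0` iff `Hom(ℤ_V[0], f_* I) = 0` for a K-injective representative
`I` of `K'`. -/
theorem subsingleton_iff [I.IsKInjective] {K' : DerivedCategory (CohTop.Ab X)}
    (e : Q.obj I ≅ K') :
    Subsingleton (dsgl (CohCx.freeSheaf (Opens.grothendieckTopology X) ((Opens.map f).obj V)) ⟶
      K') ↔
    Subsingleton (dsgl (CohCx.freeSheaf (Opens.grothendieckTopology Y) V) ⟶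
      Q.obj ((pushCx f).obj I)) := by
  constructor
  · intro h
    refine ⟨fun ξ ξ' => ?_⟩
    have key : ∀ ξ : dsgl (CohCx.freeSheaf (Opens.grothendieckTopology Y) V) ⟶
        Q.obj ((pushCx f).obj I), ξ = 0 := by
      intro ξ
      obtain ⟨σ, rfl⟩ := θ_surjective _ _ ξ
      rw [← θ_sharpZ_eq_zero_iff]
      have h1 : θ _ I (sharpZ f I V σ) ≫ e.hom = 0 := Subsingleton.elim _ _
      rw [← cancel_mono e.hom, h1, zero_comp]
    rw [key ξ, key ξ']
  · intro h
    refine ⟨fun ξ ξ' => ?_⟩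
    have key : ∀ ξ : dsgl (CohCx.freeSheaf (Opens.grothendieckTopology X)
        ((Opens.map f).obj V)) ⟶ K', ξ = 0 := by
      intro ξ
      obtain ⟨φ, hφ⟩ := θ_surjective _ I (ξ ≫ e.inv)
      obtain ⟨σ, rfl⟩ := sharpZ_surjective f I V φ
      have h1 : θ _ ((pushCx f).obj I) σ = 0 := Subsingleton.elim _ _
      rw [(θ_sharpZ_eq_zero_iff f I V σ).2 h1] at hφ
      rw [← cancel_mono e.inv, ← hφ, zero_comp]
    rw [key ξ, key ξ']

end Push

end Groth.Agent.Lib.Seat4.KInjSect
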