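import Groth.Agent.Lib.Helper17MLHom
import Groth.Agent.Lib.Seat4AbHomB
import Groth.Prelude.Def_CohCx

/-!
# Cohomology of a limit of an inverse system of complexes of abelian groups under `R^1 lim = 0`
hypotheses (seat 4)

`K : ℕᵒᵖ ⥤ Ch(Ab)`.  If the systems of terms in degrees `n-2`, `n-1` and the system `H^{n-1}(K_i)`
have vanishing `R^1 lim` and `H^n(K_N) → H^n(K_{n₀})` is bijective for `N ≥ n₀`, then
`H^n(lim K_i) → H^n(K_{n₀})` is bijective.
-/

set_option autoImplicit false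
universe u
open CategoryTheory CategoryTheory.Limits Opposite

namespace Groth.Agent.Lib.Seat4.LimCx

open Groth.Agent.Lib.Helper17.AbHom Groth.Agent.Lib.Helper17.MLHom Groth.Agent.Lib.Seat4.AbHomB

variable (K : ℕᵒᵖ ⥤ HomologicalComplex AddCommGrpCat.{u} (ComplexShape.up ℤ))

/-- transition maps of the system. -/
noncomputable abbrev T {i N : ℕ} (h : i ≤ N) : K.obj (op N) ⟶ K.obj (op i) :=
  K.map (homOfLE h).op

lemma T_T {i N M : ℕ} (h : i ≤ N) (h' : N ≤ M) (j : ℤ) (x : (K.obj (op M)).X j) :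
    (T K h).f j ((T K h').f j x) = (T K (h.trans h')).f j x := by
  rw [← AddCommGrpCat.comp_apply, ← HomologicalComplex.comp_f, ← K.map_comp]
  rfl

lemma T_refl (i : ℕ) (j : ℤ) (x : (K.obj (op i)).X j) : (T K (le_refl i)).f j x = x := by
  have : T K (le_refl i) = 𝟙 _ := by
    change K.map (homOfLE (le_refl i)).op = 𝟙 _
    rw [show (homOfLE (le_refl i)).op = 𝟙 (op i) from Subsingleton.elim _ _, K.map_id]
  rw [this]
  rfl

lemma T_d {i N : ℕ} (h : i ≤ N) (a b : ℤ) (x : (K.obj (op N)).X a) :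
    (K.obj (op i)).d a b ((T K h).f a x) = (T K h).f b ((K.obj (op N)).d a b x) := by
  rw [← AddCommGrpCat.comp_apply, ← AddCommGrpCat.comp_apply, (T K h).comm]

lemma π_T {i N : ℕ} (h : i ≤ N) (j : ℤ) (x : (limit K).X j) :
    (T K h).f j ((limit.π K (op N)).f j x) = (limit.π K (op i)).f j x :=
  π_w K j _ x

lemma compat_of_succ (j : ℤ) (s : ∀ i : ℕ, (K.obj (op i)).X j)
    (hs : ∀ i, (T K (Nat.le_succ i)).f j (s (i + 1)) = s i) {i N : ℕ} (h : i ≤ N) :
    (T K h).f j (s N) = s i := by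
  obtain ⟨k, rfl⟩ := Nat.exists_eq_add_of_le h
  induction k with
  | zero => exact T_refl K i j _
  | succ k ih =>
    have h1 := T_T K (Nat.le_add_right i k) (Nat.le_succ (i + k)) j (s (i + k + 1))
    rw [hs (i + k), ih (Nat.le_add_right i k)] at h1
    exact h1.symm

lemma exists_lift_of_succ (j : ℤ) (s : ∀ i : ℕ, (K.obj (op i)).X j)
    (hs : ∀ i, (T K (Nat.le_succ i)).f j (s (i + 1)) = s i) :
    ∃ x : (limit K).X j, ∀ i : ℕ, (limit.π K (op i)).f j x = s i := by
  obtain ⟨x, hx⟩ := exists_lift K j (fun i => s i.unop) (fun i' j' f => by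
    have h : j'.unop ≤ i'.unop := leOfHom f.unop
    have hf : f = (homOfLE h).op := Subsingleton.elim _ _
    rw [hf]
    exact compat_of_succ K j s hs h)
  exact ⟨x, fun i => hx (op i)⟩

lemma ext_of_π (j : ℤ) (x y : (limit K).X j)
    (h : ∀ i : ℕ, (limit.π K (op i)).f j x = (limit.π K (op i)).f j y) : x = y :=
  ext_lift K j x y (fun i => h i.unop)

/-- vanishing of `R^1 lim` for the terms in degree `j`. -/
def HA (j : ℤ) : Prop :=
  CohCx.LimOneIsZero (fun i => (K.obj (op i)).X j) (fun i => ((T K (Nat.le_succ i)).f j).hom)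

/-- vanishing of `R^1 lim` for the cohomology in degree `j`. -/
def HB (j : ℤ) : Prop :=
  CohCx.LimOneIsZero (fun i => (K.obj (op i)).homology j)
    (fun i => (HomologicalComplex.homologyMap (T K (Nat.le_succ i)) j).hom)

/-- the transition maps are bijective on `H^n` above `n₀`. -/
def HC (n : ℤ) (n₀ : ℕ) : Prop :=
  ∀ (N : ℕ) (h : n₀ ≤ N), Function.Bijective (HomologicalComplex.homologyMap (T K h) n)

variable {K}

lemma ha_elem {j : ℤ} (ha : HA K j) (c : ∀ i, (K.obj (op i)).X j) :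
    ∃ e : ∀ i, (K.obj (op i)).X j, ∀ i, e i - (T K (Nat.le_succ i)).f j (e (i + 1)) = c i := by
  obtain ⟨e, he⟩ := ha c
  exact ⟨e, fun i => congrFun he i⟩

lemma hb_elem {n : ℤ} (hb : HB K (n - 1)) (b : ∀ i, (K.obj (op i)).X (n - 1))
    (hbd : ∀ i, (K.obj (op i)).d (n - 1) n (b i) = 0) :
    ∃ (a : ∀ i, (K.obj (op i)).X (n - 1)) (c : ∀ i, (K.obj (op i)).X (n - 2)),
      (∀ i, (K.obj (op i)).d (n - 1) n (a i) = 0) ∧
      ∀ i, a i - (T K (Nat.le_succ i)).f (n - 1) (a (i + 1)) =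
        b i + (K.obj (op i)).d (n - 2) (n - 1) (c i) := by
  choose β hβ using fun i => exists_cycle (K.obj (op i)) (n - 1) n (by simp) (b i) (hbd i)
  obtain ⟨α, hα⟩ := hb (fun i => (K.obj (op i)).homologyπ (n - 1) (β i))
  have hα' : ∀ i, α i - HomologicalComplex.homologyMap (T K (Nat.le_succ i)) (n - 1) (α (i + 1)) =
      (K.obj (op i)).homologyπ (n - 1) (β i) := fun i => congrFun hα i
  choose a' ha' using fun i => homologyπ_surjective (K.obj (op i)) (n - 1) (α i)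
  have h0 : ∀ i, (K.obj (op i)).homologyπ (n - 1)
      (a' i - HomologicalComplex.cyclesMap (T K (Nat.le_succ i)) (n - 1) (a' (i + 1)) - β i) = 0 := by
    intro i
    rw [map_sub, map_sub, ← homologyMap_homologyπ, ha', ha', hα', sub_self]
  choose c hc using fun i =>
    exists_of_homologyπ_eq_zero (K.obj (op i)) (n - 2) (n - 1) (by simp; ring) _ (h0 i)
  refine ⟨fun i => (K.obj (op i)).iCycles (n - 1) (a' i), c, fun i => d_iCycles _ _ _ _, fun i => ?_⟩
  have := congrArg ((K.obj (op i)).iCycles (n - 1)) (hc i)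
  rw [iCycles_toCycles, map_sub, map_sub, iCycles_cyclesMap, hβ] at this
  rw [this]
  abel

lemma hc_inj {n : ℤ} {n₀ : ℕ} (hc : HC K n n₀) {N : ℕ} (h : n₀ ≤ N) (z : (K.obj (op N)).X n)
    (hz : (K.obj (op N)).d n (n + 1) z = 0) (y : (K.obj (op n₀)).X (n - 1))
    (hy : (K.obj (op n₀)).d (n - 1) n y = (T K h).f n z) :
    ∃ y' : (K.obj (op N)).X (n - 1), (K.obj (op N)).d (n - 1) n y' = z :=
  exists_of_injective_homologyMap (T K h) (n - 1) n (n + 1) (by simp) (by simp) (hc N h).1 z hz y hy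

lemma hc_surj {n : ℤ} {n₀ : ℕ} (hc : HC K n n₀) {N : ℕ} (h : n₀ ≤ N) (z : (K.obj (op n₀)).X n)
    (hz : (K.obj (op n₀)).d n (n + 1) z = 0) :
    ∃ x : (K.obj (op N)).X n, (K.obj (op N)).d n (n + 1) x = 0 ∧
      ∃ y : (K.obj (op n₀)).X (n - 1), (T K h).f n x = z + (K.obj (op n₀)).d (n - 1) n y :=
  exists_of_surjective_homologyMap (T K h) (n - 1) n (n + 1) (by simp) (by simp) (hc N h).2 z hz

/-- injectivity part. -/
theorem lim_inj {n : ℤ} {n₀ : ℕ} (ha : HA K (n - 2)) (hb : HB K (n - 1)) (hc : HC K n n₀)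
    (x : (limit K).X n) (hx : (limit K).d n (n + 1) x = 0)
    (y₀ : (K.obj (op n₀)).X (n - 1))
    (hy₀ : (K.obj (op n₀)).d (n - 1) n y₀ = (limit.π K (op n₀)).f n x) :
    ∃ y : (limit K).X (n - 1), (limit K).d (n - 1) n y = x := by
  -- components
  have hzd : ∀ i : ℕ, (K.obj (op i)).d n (n + 1) ((limit.π K (op i)).f n x) = 0 := by
    intro i
    rw [← π_d, hx, map_zero]
  -- each component is a coboundary
  have hcob : ∀ i : ℕ, ∃ y' : (K.obj (op i)).X (n - 1),
      (K.obj (op i)).d (n - 1) n y' = (limit.π K (op i)).f n x := by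
    intro i
    have h1 : n₀ ≤ max i n₀ := le_max_right _ _
    have h2 : i ≤ max i n₀ := le_max_left _ _
    obtain ⟨y', hy'⟩ := hc_inj hc h1 ((limit.π K (op (max i n₀))).f n x) (hzd _) y₀
      (by rw [hy₀, π_T])
    refine ⟨(T K h2).f (n - 1) y', ?_⟩
    rw [T_d, hy', π_T]
  choose y' hy' using hcob
  -- the defect of compatibility
  have hbd : ∀ i : ℕ, (K.obj (op i)).d (n - 1) n
      (y' i - (T K (Nat.le_succ i)).f (n - 1) (y' (i + 1))) = 0 := by
    intro i
    rw [map_sub, T_d, hy', hy', π_T, sub_self]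
  obtain ⟨a, c, had, hac⟩ := hb_elem hb _ hbd
  obtain ⟨e, he⟩ := ha_elem ha c
  -- corrected lifts
  let y : ∀ i : ℕ, (K.obj (op i)).X (n - 1) := fun i =>
    y' i - a i + (K.obj (op i)).d (n - 2) (n - 1) (e i)
  have hyd : ∀ i, (K.obj (op i)).d (n - 1) n (y i) = (limit.π K (op i)).f n x := by
    intro i
    dsimp only [y]
    rw [map_add, map_sub, hy', had, sub_zero]
    have : (K.obj (op i)).d (n - 1) n ((K.obj (op i)).d (n - 2) (n - 1) (e i)) = 0 := by
      rw [← AddCommGrpCat.comp_apply, HomologicalComplex.d_comp_d]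
      rfl
    rw [this, add_zero]
  have hyc : ∀ i, (T K (Nat.le_succ i)).f (n - 1) (y (i + 1)) = y i := by
    intro i
    dsimp only [y]
    rw [map_add, map_sub, ← T_d]
    have h1 := hac i
    have h2 := congrArg ((K.obj (op i)).d (n - 2) (n - 1)) (he i)
    rw [map_sub] at h2
    rw [← sub_eq_zero]
    have h3 : (T K (Nat.le_succ i)).f (n - 1) (y' (i + 1)) -
        (T K (Nat.le_succ i)).f (n - 1) (a (i + 1)) +
        (K.obj (op i)).d (n - 2) (n - 1) ((T K (Nat.le_succ i)).f (n - 2) (e (i + 1))) -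
        (y' i - a i + (K.obj (op i)).d (n - 2) (n - 1) (e i)) =
        (a i - (T K (Nat.le_succ i)).f (n - 1) (a (i + 1))) -
        (y' i - (T K (Nat.le_succ i)).f (n - 1) (y' (i + 1))) -
        ((K.obj (op i)).d (n - 2) (n - 1) (e i) -
          (K.obj (op i)).d (n - 2) (n - 1) ((T K (Nat.le_succ i)).f (n - 2) (e (i + 1)))) := by
      abel
    rw [h3, h1, h2]
    abel
  obtain ⟨yl, hyl⟩ := exists_lift_of_succ K (n - 1) y hyc
  refine ⟨yl, ext_of_π K n _ _ (fun i => ?_)⟩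
  rw [π_d, hyl, hyd]

/-- surjectivity part. -/
theorem lim_surj {n : ℤ} {n₀ : ℕ} (ha : HA K (n - 1)) (hc : HC K n n₀)
    (z : (K.obj (op n₀)).X n) (hz : (K.obj (op n₀)).d n (n + 1) z = 0) :
    ∃ x : (limit K).X n, (limit K).d n (n + 1) x = 0 ∧
      ∃ y : (K.obj (op n₀)).X (n - 1),
        (limit.π K (op n₀)).f n x = z + (K.obj (op n₀)).d (n - 1) n y := by
  -- step 1: cocycles lifting (or mapping from) `z`
  have hex : ∀ i : ℕ, ∃ ζ : (K.obj (op i)).X n, (K.obj (op i)).d n (n + 1) ζ = 0 ∧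
      (∀ h : i ≤ n₀, ζ = (T K h).f n z) ∧
      (∀ h : n₀ ≤ i, ∃ y : (K.obj (op n₀)).X (n - 1),
        (T K h).f n ζ = z + (K.obj (op n₀)).d (n - 1) n y) := by
    intro i
    by_cases hi : i ≤ n₀
    · refine ⟨(T K hi).f n z, ?_, fun _ => rfl, fun h => ?_⟩
      · rw [T_d, hz, map_zero]
      · obtain rfl : i = n₀ := le_antisymm hi h
        refine ⟨0, ?_⟩
        rw [T_refl, T_refl, map_zero, add_zero]
    · have hi' : n₀ ≤ i := le_of_not_ge hi
      obtain ⟨ζ, hζ, y, hy⟩ := hc_surj hc hi' z hz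
      exact ⟨ζ, hζ, fun h => absurd h hi, fun h => ⟨y, hy⟩⟩
  choose ζ hζd hζle hζge using hex
  -- step 2: almost compatibility
  have halm : ∀ i : ℕ, ∃ u : (K.obj (op i)).X (n - 1),
      (T K (Nat.le_succ i)).f n (ζ (i + 1)) - ζ i = (K.obj (op i)).d (n - 1) n u := by
    intro i
    by_cases hi : i + 1 ≤ n₀
    · refine ⟨0, ?_⟩
      rw [hζle (i + 1) hi, hζle i (Nat.le_of_succ_le hi), T_T, map_zero, sub_self]
    · have hi' : n₀ ≤ i := by omega
      obtain ⟨y1, hy1⟩ := hζge (i + 1) (hi'.trans (Nat.le_succ i))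
      obtain ⟨y2, hy2⟩ := hζge i hi'
      obtain ⟨u, hu⟩ := hc_inj hc hi' ((T K (Nat.le_succ i)).f n (ζ (i + 1)) - ζ i)
        (by rw [map_sub, T_d, hζd, hζd, map_zero, sub_self]) (y1 - y2)
        (by rw [map_sub, map_sub, T_T, hy1, hy2]; abel)
      exact ⟨u, hu.symm⟩
  choose u hu using halm
  obtain ⟨v, hv⟩ := ha_elem ha u
  -- step 3: corrected compatible family
  let z' : ∀ i : ℕ, (K.obj (op i)).X n := fun i => ζ i + (K.obj (op i)).d (n - 1) n (v i)
  have hz'd : ∀ i, (K.obj (op i)).d n (n + 1) (z' i) = 0 := by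
    intro i
    dsimp only [z']
    have : (K.obj (op i)).d n (n + 1) ((K.obj (op i)).d (n - 1) n (v i)) = 0 := by
      rw [← AddCommGrpCat.comp_apply, HomologicalComplex.d_comp_d]
      rfl
    rw [map_add, hζd, this, add_zero]
  have hz'c : ∀ i, (T K (Nat.le_succ i)).f n (z' (i + 1)) = z' i := by
    intro i
    dsimp only [z']
    rw [map_add, ← T_d, ← sub_eq_zero]
    have h1 := hu i
    have h2 := congrArg ((K.obj (op i)).d (n - 1) n) (hv i)
    rw [map_sub] at h2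
    have h3 : (T K (Nat.le_succ i)).f n (ζ (i + 1)) +
        (K.obj (op i)).d (n - 1) n ((T K (Nat.le_succ i)).f (n - 1) (v (i + 1))) -
        (ζ i + (K.obj (op i)).d (n - 1) n (v i)) =
        ((T K (Nat.le_succ i)).f n (ζ (i + 1)) - ζ i) -
        ((K.obj (op i)).d (n - 1) n (v i) -
          (K.obj (op i)).d (n - 1) n ((T K (Nat.le_succ i)).f (n - 1) (v (i + 1)))) := by
      abel
    rw [h3, h1, h2, sub_self]
  obtain ⟨x, hxl⟩ := exists_lift_of_succ K n z' hz'c
  refine ⟨x, ext_of_π K (n + 1) _ _ (fun i => ?_), ?_⟩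
  · rw [π_d, hxl, hz'd, map_zero]
  · obtain ⟨y, hy⟩ := hζge n₀ le_rfl
    rw [T_refl] at hy
    refine ⟨y + v n₀, ?_⟩
    rw [hxl]
    dsimp only [z']
    rw [hy, map_add, add_assoc]

variable (K) in
/-- `H^n(lim K_i) → H^n(K_{n₀})` is bijective. -/
theorem bijective_homologyMap_limit_π (n : ℤ) (n₀ : ℕ) (ha2 : HA K (n - 2)) (ha1 : HA K (n - 1))
    (hb : HB K (n - 1)) (hc : HC K n n₀) :
    Function.Bijective (HomologicalComplex.homologyMap (limit.π K (op n₀)) n) :=
  ⟨injective_homologyMap _ (n - 1) n (n + 1) (by simp) (by simp)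
      (fun x hx ⟨y, hy⟩ => lim_inj ha2 hb hc x hx y hy),
    surjective_homologyMap _ (n - 1) n (n + 1) (by simp) (by simp)
      (fun z hz => lim_surj ha1 hc z hz)⟩

end Groth.Agent.Lib.Seat4.LimCx
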