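import Groth.Agent.Lib.Helper23QCohExt
import Groth.Agent.Lib.Helper23QCohAbelian
import Groth.Agent.Lib.Seat81DerRes
import Groth.Prelude.Def_WeakSerre
import Groth.Prelude.Def_Coh

/-!
# Quasi-coherent modules form a weak Serre subcategory of `O_X`-modules (seat 4)
-/

set_option autoImplicit false
set_option linter.style.haveILetI false

universe u

open CategoryTheory CategoryTheory.Limits AlgebraicGeometry ZeroObject

namespace Groth.Agent.Lib.Seat4.QcSerre

variable (X : Scheme.{u})

/-- quasi-coherence as an object property. -/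
abbrev qc : ObjectProperty X.Modules := fun M => Coh.IsQCoh M

lemma qc_of_iso {M N : X.Modules} (e : M ≅ N) (h : qc X M) : qc X N :=
  (SheafOfModules.isQuasicoherent.{u} X.ringCatSheaf).prop_of_iso e h

instance : WSerre.IsWeakSerre (qc X) where
  exists_zero := by
    have h0 : (Coh.structureModule X).IsQuasicoherent := inferInstance
    obtain ⟨Z, hZ⟩ : ∃ Z : X.Modules, IsZero Z := HasZeroObject.zero
    exact ⟨Z, hZ, Groth.Agent.Lib.Seat81.DerRes.isQuasicoherent_of_isZero
      (N := Coh.structureModule X) hZ⟩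
  kernels_le := by
    rintro _ ⟨f, k, hk, ⟨hX, hY⟩⟩
    have h := @Groth.Agent.Lib.Helper23.QCohLocal.isQuasicoherent_kernel X _ _ hX hY f
    exact qc_of_iso X (IsLimit.conePointUniqueUpToIso (kernelIsKernel f) hk) h
  cokernels_le := by
    rintro _ ⟨f, k, hk, ⟨hX, hY⟩⟩
    have h := @Groth.Agent.Lib.Helper23.QCohLocal.isQuasicoherent_cokernel X _ _ hX hY f
    exact qc_of_iso X (IsColimit.coconePointUniqueUpToIso (cokernelIsCokernel f) hk) h
  prop_X₂_of_shortExact {S} hS h1 h3 :=
    Groth.Agent.Lib.Helper23.QCohLocal.isQuasicoherent_of_shortExact S hS h1 h3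

end Groth.Agent.Lib.Seat4.QcSerre
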