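import Groth.Agent.Lib.Helper1Sky9
import Groth.Agent.Lib.Helper17Hyp19
import Groth.Agent.Lib.Helper23FinTypeLocal
import Groth.Agent.Lib.Seat4QcSerre
import Groth.Agent.Lib.Seat30HasLDer
import Groth.Agent.S0997
import Groth.Agent.S1055
import Groth.Agent.S9498

/-!
# `Lf^*` preserves `D_QCoh` (seat 4)
-/

set_option autoImplicit false
set_option linter.style.haveILetI false

universe u

open CategoryTheory CategoryTheory.Limits DerivedCategory Opposite TopologicalSpace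
  AlgebraicGeometry

namespace Groth.Agent.Lib.Seat4.LpullQc

open Groth.Agent.Lib.Helper1.Sky Groth.Agent.Lib.Seat4.QcSerre

attribute [local instance] HasDerivedCategory.standard

variable {X Y : Scheme.{u}}

lemma isQCohD_of_iso {K L : DCoh.D X} (e : K ≅ L) (hK : DCoh.IsQCohD K) : DCoh.IsQCohD L :=
  fun q => qc_of_iso X ((homologyFunctor X.Modules q).mapIso e) (hK q)

section OpenImm

variable (j : Y ⟶ X) [IsOpenImmersion j]

instance preservesFiniteLimits_pullback_of_isOpenImmersion :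
    PreservesFiniteLimits (Scheme.Modules.pullback j) :=
  haveI : PreservesFiniteLimits (Scheme.Modules.restrictFunctor j) := by
    haveI := Groth.Agent.Lib.Helper23.QCohLocal.restrictFunctor_isRightAdjoint j
    infer_instance
  Limits.preservesFiniteLimits_of_natIso (Scheme.Modules.restrictFunctorIsoPullback j)

/-- the derived pullback along an open immersion preserves `D_QCoh`. -/
theorem isQCohD_lpull_of_isOpenImmersion [DCoh.HasLpull j] (K : DCoh.D X)
    (hK : DCoh.IsQCohD K) : DCoh.IsQCohD ((DCoh.Lpull j).obj K) := by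
  let F₀ : CochainComplex X.Modules ℤ := Q.objPreimage K
  let e₀ : Q.obj F₀ ≅ K := Q.objObjPreimageIso K
  refine isQCohD_of_iso ((lpullIsoOfExact j F₀).symm ≪≫ (DCoh.Lpull j).mapIso e₀) ?_
  intro q
  have h1 : Coh.IsQCoh (F₀.homology q) :=
    qc_of_iso X ((homologyFunctor X.Modules q).mapIso e₀.symm ≪≫
      (homologyFunctorFactors X.Modules q).app F₀) (hK q)
  haveI : (F₀.homology q).IsQuasicoherent := h1
  have h2 : ((Scheme.Modules.restrictFunctor j).obj (F₀.homology q)).IsQuasicoherent :=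
    inferInstance
  refine qc_of_iso Y ?_ h2
  exact (Scheme.Modules.restrictFunctorIsoPullback j).app _ ≪≫
    ((Groth.Agent.Lib.Helper17.Hyp.homologyNatIsoCx (Scheme.Modules.pullback j) q).app F₀).symm ≪≫
    ((homologyFunctorFactors Y.Modules q).app ((pullC j).obj F₀)).symm

end OpenImm

section Affine

/-- the derived pullback along a morphism of affine schemes `Spec R' ⟶ Spec R` preserves `D_QCoh`. -/
theorem isQCohD_lpull_spec {R R' : CommRingCat.{u}} (φ : R ⟶ R')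
    [DCoh.HasLpull (Spec.map (CommRingCat.ofHom φ.hom))]
    (K : DCoh.D (Spec (CommRingCat.of R))) (hK : DCoh.IsQCohD K) :
    DCoh.IsQCohD ((DCoh.Lpull (Spec.map (CommRingCat.ofHom φ.hom))).obj K) := by
  haveI : PreservesFiniteLimits (tilde.functor (CommRingCat.of R)) := (Groth.Agent.S9498.aux _).1
  haveI : PreservesFiniteLimits (tilde.functor (CommRingCat.of R')) := (Groth.Agent.S9498.aux _).1
  haveI : DRing.HasLBaseChange φ.hom := Groth.Agent.Lib.Seat30.HasLDer.hasLBaseChange φ.hom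
  obtain ⟨M, ⟨e⟩⟩ := ((Groth.Agent.S0997.result (CommRingCat.of R)).2.2 K).1 hK
  obtain ⟨c⟩ := Groth.Agent.S1055.result φ.hom
  refine isQCohD_of_iso (c.app M ≪≫
    (DCoh.Lpull (Spec.map (CommRingCat.ofHom φ.hom))).mapIso e) ?_
  exact Groth.Agent.Lib.Seat4.TildeEquiv.isQCohD_tildeD (CommRingCat.of R') _

end Affine

section General

/-- the derived pullback along a morphism of affine schemes preserves `D_QCoh`. -/
theorem isQCohD_lpull_of_isAffine {V U : Scheme.{u}} [IsAffine V] [IsAffine U] (g : V ⟶ U)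
    [DCoh.HasLpull g] (K : DCoh.D U) (hK : DCoh.IsQCohD K) :
    DCoh.IsQCohD ((DCoh.Lpull g).obj K) := by
  let φ : Γ(U, ⊤) ⟶ Γ(V, ⊤) := g.appTop
  let s : Spec (CommRingCat.of Γ(V, ⊤)) ⟶ Spec (CommRingCat.of Γ(U, ⊤)) :=
    Spec.map (CommRingCat.ofHom φ.hom)
  let a : Spec (CommRingCat.of Γ(U, ⊤)) ⟶ U := U.isoSpec.inv
  let b : V ⟶ Spec (CommRingCat.of Γ(V, ⊤)) := V.isoSpec.hom
  haveI : IsOpenImmersion a := inferInstanceAs (IsOpenImmersion U.isoSpec.inv)
  haveI : IsOpenImmersion b := inferInstanceAs (IsOpenImmersion V.isoSpec.hom)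
  haveI : DCoh.HasLpull a := hasLpull _
  haveI : DCoh.HasLpull s := hasLpull _
  haveI : DCoh.HasLpull b := hasLpull _
  haveI : DCoh.HasLpull (s ≫ a) := hasLpull _
  haveI : DCoh.HasLpull (b ≫ s ≫ a) := hasLpull _
  have hg : b ≫ s ≫ a = g := by
    have h := Scheme.isoSpec_hom_naturality g
    change V.isoSpec.hom ≫ Spec.map g.appTop ≫ U.isoSpec.inv = g
    rw [← Category.assoc, h, Category.assoc, Iso.hom_inv_id, Category.comp_id]
  obtain ⟨c1⟩ := nonempty_lpull_comp_iso s a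
  obtain ⟨c2⟩ := nonempty_lpull_comp_iso b (s ≫ a)
  obtain ⟨c3⟩ := nonempty_lpull_congr hg
  have h1 := isQCohD_lpull_of_isOpenImmersion a K hK
  have h2 := isQCohD_lpull_spec φ _ h1
  have h3 := isQCohD_lpull_of_isOpenImmersion b _ h2
  exact isQCohD_of_iso ((DCoh.Lpull b).mapIso (c1.app K) ≪≫ c2.app K ≪≫ c3.app K) h3

/-- `H^q(L)|_V` is quasi-coherent if `L(j_V)^* L ∈ D_QCoh(V)`. -/
lemma isQuasicoherent_restrict_HD (V : Y.Opens) [DCoh.HasLpull V.ι] (L : DCoh.D Y) (q : ℤ)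
    (h : DCoh.IsQCohD ((DCoh.Lpull V.ι).obj L)) :
    ((DCoh.HD L q).restrict V.ι).IsQuasicoherent := by
  haveI := Groth.Agent.Lib.Helper23.QCohLocal.restrictFunctor_isRightAdjoint V.ι
  let F₁ : CochainComplex Y.Modules ℤ := Q.objPreimage L
  let e₁ : Q.obj F₁ ≅ L := Q.objObjPreimageIso L
  refine qc_of_iso _ ?_ (h q)
  exact (homologyFunctor _ q).mapIso ((DCoh.Lpull V.ι).mapIso e₁.symm ≪≫ lpullOpenIso V F₁) ≪≫
    (homologyFunctorFactors _ q).app _ ≪≫
    (Groth.Agent.Lib.Helper17.Hyp.homologyNatIsoCx (Scheme.Modules.restrictFunctor V.ι) q).app F₁ ≪≫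
    (Scheme.Modules.restrictFunctor V.ι).mapIso
      (((homologyFunctorFactors Y.Modules q).app F₁).symm ≪≫
        (homologyFunctor Y.Modules q).mapIso e₁)

/-- **`Lf^*` preserves `D_QCoh`.** -/
theorem isQCohD_lpull (f : Y ⟶ X) [DCoh.HasLpull f] (K : DCoh.D X) (hK : DCoh.IsQCohD K) :
    DCoh.IsQCohD ((DCoh.Lpull f).obj K) := by
  intro q
  have hcov : IsOpenCover (fun U : X.affineOpens => f ⁻¹ᵁ U.1) := by
    rw [IsOpenCover, eq_top_iff]
    intro y _
    have hx : f y ∈ (⨆ U : X.affineOpens, (U : X.Opens) : X.Opens) := by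
      rw [iSup_affineOpens_eq_top]; trivial
    obtain ⟨U, hU⟩ := Opens.mem_iSup.1 hx
    exact Opens.mem_iSup.2 ⟨U, hU⟩
  refine Groth.Agent.Lib.Helper23.FinType.isQuasicoherent_of_open_cover _
    (fun p : {p : Y.affineOpens × X.affineOpens // p.1.1 ≤ f ⁻¹ᵁ p.2.1} => p.1.1.1) ?_
    (fun p => ?_)
  · rw [IsOpenCover, eq_top_iff]
    intro y _
    obtain ⟨W, U, hWU, hyW⟩ :=
      Groth.Agent.Lib.Helper23.FinType.exists_affine_le_of_isOpenCover _ hcov y
    exact Opens.mem_iSup.2 ⟨⟨(W, U), hWU⟩, hyW⟩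
  · obtain ⟨⟨V, U⟩, hVU⟩ := p
    change V.1 ≤ f ⁻¹ᵁ U.1 at hVU
    change ((DCoh.HD ((DCoh.Lpull f).obj K) q).restrict V.1.ι).IsQuasicoherent
    haveI : IsAffine ((V : Y.Opens) : Scheme.{u}) := V.2
    haveI : IsAffine ((U : X.Opens) : Scheme.{u}) := U.2
    have hrange : Set.range (V.1.ι ≫ f) ⊆ Set.range U.1.ι := by
      rintro _ ⟨y, rfl⟩
      rw [Scheme.Opens.range_ι]
      exact hVU y.2
    let g : (V.1 : Scheme.{u}) ⟶ (U.1 : Scheme.{u}) :=
      IsOpenImmersion.lift U.1.ι (V.1.ι ≫ f) hrange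
    have hg : g ≫ U.1.ι = V.1.ι ≫ f := IsOpenImmersion.lift_fac _ _ _
    haveI : DCoh.HasLpull V.1.ι := hasLpull _
    haveI : DCoh.HasLpull U.1.ι := hasLpull _
    haveI : DCoh.HasLpull g := hasLpull _
    haveI : DCoh.HasLpull (g ≫ U.1.ι) := hasLpull _
    haveI : DCoh.HasLpull (V.1.ι ≫ f) := hasLpull _
    obtain ⟨c1⟩ := nonempty_lpull_comp_iso V.1.ι f
    obtain ⟨c2⟩ := nonempty_lpull_comp_iso g U.1.ι
    obtain ⟨c3⟩ := nonempty_lpull_congr hg
    apply isQuasicoherent_restrict_HD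
    have h1 := isQCohD_lpull_of_isOpenImmersion U.1.ι K hK
    have h2 := isQCohD_lpull_of_isAffine g _ h1
    exact isQCohD_of_iso (c2.app K ≪≫ c3.app K ≪≫ (c1.app K).symm) h2

end General

end Groth.Agent.Lib.Seat4.LpullQc
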