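import Groth.Agent.Lib.Seat4PushVanish
import Groth.Agent.Lib.Seat4ProjHB
import Groth.Agent.Lib.Seat81SecRpush
import Groth.Agent.Lib.Helper16Restr
import Groth.Agent.S0031

/-!
# A uniform bound for the cohomology sheaves of `Rf_* E`, `E ∈ D_QCoh^{≤ 0}` (seat 4)
-/

set_option autoImplicit false
set_option linter.style.haveILetI false

universe w w' v v' u u'

open CategoryTheory CategoryTheory.Limits DerivedCategory Opposite TopologicalSpace
  AlgebraicGeometry

namespace Groth.Agent.Lib.Seat4.PushBound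

open Groth.Agent.Lib.Helper17.Hyp Groth.Agent.S14388 Pretriangulated

section Abs

variable {A : Type (v + 1)} [Category.{v} A] [Abelian A] [HasDerivedCategory.{w} A]

/-- If `Hom(P, H^j(E)[k]) = 0` for all `j` and `k > c`, `E = R lim τ_{≥ -n} E` and `E ∈ D^{≤ 0}`,
then `Hom(P, E[m]) = 0` for `m > c`. -/
theorem subsingleton_hom_of_vanishAbove {P E : DerivedCategory A} [HasProduct (CohCx.truncTower E)]
    (hL : CohCx.IsRlimVia (CohCx.truncTower E) (CohCx.truncTowerMap E) E (CohCx.toTruncTower E))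
    [E.IsLE 0] (c : ℤ) (hP : VanishAbove P E (fun _ => c)) (m : ℤ) (hm : c < m)
    (hm0 : 0 ≤ m) :
    Subsingleton (P ⟶ E⟦m⟧) := by
  let N : ℕ := max (Nb (fun _ => c) m) (Nb (fun _ => c) (m - 1))
  obtain ⟨g1, g2⟩ := good_of_vanishAbove hP m N le_rfl
  have hY : Subsingleton (P ⟶ (CohCx.truncTower E N)⟦m⟧) := by
    apply subsingleton_hom_of_bounded P m _ (-(N : ℤ)) 0
    · rintro i (hi | hi)
      · haveI : (CohCx.truncTower E N).IsGE (-(N : ℤ)) :=
          inferInstanceAs (((tt.truncGE (-(N : ℤ))).obj E).IsGE _)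
        exact isZero_of_isGE _ (-(N : ℤ)) i hi
      · by_cases hi' : -(N : ℤ) ≤ i
        · have := isIso_homology_truncGEπ (-(N : ℤ)) i hi' E
          exact IsZero.of_iso (isZero_of_isLE E 0 i hi)
            (asIso ((homologyFunctor A i).map ((tt.truncGEπ (-(N : ℤ))).app E))).symm
        · omega
    · intro q hq1 hq2
      have := isIso_homology_truncGEπ (-(N : ℤ)) q hq1 E
      exact subsingleton_hom_of_iso ((shiftFunctor _ (m - q)).mapIso ((singleFunctor A 0).mapIso
        (asIso ((homologyFunctor A q).map ((tt.truncGEπ (-(N : ℤ))).app E)))))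
        (VanishAbove.at hP q (m - q) (by omega) (by omega))
  exact ⟨fun y y' => sub_eq_zero.1 (eq_zero_of_good hL P m N g1 g2 (y - y') (hY.elim _ _))⟩

end Abs

section Sch

attribute [local instance] HasDerivedCategory.standard

open Groth.Agent.Lib.Seat4.RlimMod Groth.Agent.Lib.Seat4.HypA Groth.Agent.Lib.Seat4.HypD
  Groth.Agent.Lib.Seat4.PushVanish

variable {X S : Scheme.{u}}

lemma subsingleton_HU_of_HHon (M : X.Modules) (W : X.Opens) (q : ℕ)
    (h : Subsingleton (Coh.HHon X M W q)) :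
    Subsingleton (CohSite.HU ((SheafOfModules.toSheaf X.ringCatSheaf).obj M) q W) := by
  obtain ⟨e⟩ := Groth.Agent.Lib.Helper16.Restr.nonempty_HU_equiv (X := X.carrier) W (Coh.toAb M) q
  have e' : CohTop.HU (Coh.toAb M) q W ≃+ Coh.HHon X M W q := e
  exact e'.toEquiv.subsingleton

/-- `O_X ⊗ ℤ_W` has `Hom`-dimension `< n` against the cohomology sheaves of `E ∈ D_QCoh`, if `W` has
quasi-coherent cohomological dimension `< n`. -/
lemma vanishAbove_of_cd (E : DCoh.D X) (hE : DCoh.IsQCohD E) (W : X.Opens) (n : ℕ)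
    (hW : ∀ M : X.Modules, Coh.IsQCoh M → ∀ p : ℕ, n ≤ p → Subsingleton (Coh.HHon X M W p)) :
    VanishAbove (dsgl ((frX X).obj W)) E (fun _ => (n : ℤ)) := by
  intro m k hk
  have hk' : n < k := by
    have : (n : ℤ) < (k : ℤ) := hk
    exact_mod_cast this
  obtain ⟨p, rfl⟩ : ∃ p : ℕ, k = p + 1 := ⟨k - 1, by omega⟩
  apply subsingleton_hom_frX W _ p
  exact subsingleton_HU_of_HHon _ W (p + 1) (hW _ (hE _) (p + 1) (by omega))

/-- `Hom(O_X ⊗ ℤ_W, E[m]) = 0` for `m > n`, `E ∈ D_QCoh^{≤ 0}`, when `W` has quasi-coherent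
cohomological dimension `< n`. -/
theorem subsingleton_hom_frX_of_cd (E : DCoh.D X) (hE : DCoh.IsQCohD E) [E.IsLE 0]
    (W : X.Opens) (n : ℕ)
    (hW : ∀ M : X.Modules, Coh.IsQCoh M → ∀ p : ℕ, n ≤ p → Subsingleton (Coh.HHon X M W p))
    (m : ℤ) (hm : (n : ℤ) < m) :
    Subsingleton (dsgl ((frX X).obj W) ⟶ E⟦m⟧) := by
  haveI : IsGrothendieckAbelian.{u} X.Modules :=
    Groth.Agent.S0484.result (Opens.grothendieckTopology X) X.ringCatSheaf
  haveI := Groth.Agent.Lib.Seat4.HB.hasProduct_nat (CohCx.truncTower E)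
  have hL := Groth.Agent.Lib.Seat4.TruncMod.isRlimVia_truncTower E hE
  exact subsingleton_hom_of_vanishAbove hL (n : ℤ) (vanishAbove_of_cd E hE W n hW) m hm (by omega)

/-- **Uniform vanishing bound for `Rf_*` on `D_QCoh^{≤ 0}`** (`f` qcqs, `S` quasi-compact). -/
theorem main (f : X ⟶ S) [QuasiCompact f] [QuasiSeparated f] [CompactSpace ↥S]
    [DCoh.HasRpush f] :
    ∃ N : ℤ, ∀ (E : DCoh.D X), DCoh.IsQCohD E → E.IsLE 0 → ∀ m : ℤ, N ≤ m →
      IsZero (DCoh.HD ((DCoh.Rpush f).obj E) m) := by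
  obtain ⟨n, hn⟩ := Groth.Agent.S0031.result f
  refine ⟨(n : ℤ) + 1, fun E hE hLE m hm => ?_⟩
  haveI := hLE
  apply isZero_HD_rpush f E m S.affineOpens
    (covers_of_isBasis (X := S.carrier) S.affineOpens S.isBasis_affineOpens)
  intro V hV
  apply subsingleton_hom_frX_of_cd E hE (f ⁻¹ᵁ V) n _ m (by omega)
  intro M hM p hp
  haveI : M.IsQuasicoherent := hM
  exact (Groth.Agent.Lib.Seat81.SecRpush.isZero_RpushAb_iff_forall_affine f M p).1 (hn M hM p hp)
    V hV

end Sch

end Groth.Agent.Lib.Seat4.PushBound
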