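import Groth.Agent.Lib.Seat4KInjSect

/-!
# Vanishing of negative hypercohomology on inverse images of opens, and the sheaf of `H^0` (seat 4)

`f : X ⟶ Y` continuous, `K ∈ D(Ab(X))` with `H^i(f⁻¹V, K) = 0` for `i < 0` and `V` in a basis
of `Y`.  Then `f_* I ∈ D^{≥ 0}(Ab(Y))` for a K-injective representative `I` of `K`; consequently
`H^i(f⁻¹V, K) = 0` for all opens `V` and `i < 0`, and `V ↦ H^0(f⁻¹V, K)` is a sheaf.
-/

set_option autoImplicit false

universe w w' v v' u u'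

open CategoryTheory CategoryTheory.Limits DerivedCategory Opposite TopologicalSpace

namespace Groth.Agent.Lib.Seat4.PushGE

open Groth.Agent.Lib.Helper17.Hyp Groth.Agent.Lib.Helper17.KInj Groth.Agent.S14388
  Groth.Agent.Lib.Seat4.HypA Groth.Agent.Lib.Seat4.HypD Groth.Agent.Lib.Seat4.KInjSect

variable {X Y : TopCat.{u}} (f : X ⟶ Y)
  [HasDerivedCategory.{w} (CohTop.Ab X)] [HasDerivedCategory.{w'} (CohTop.Ab Y)]

omit [HasDerivedCategory.{w'} (CohTop.Ab Y)] in
lemma exists_kinj (K : DerivedCategory (CohTop.Ab X)) :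
    ∃ (I : CochainComplex (CohTop.Ab X) ℤ) (_ : I.IsKInjective), Nonempty (Q.obj I ≅ K) := by
  obtain ⟨I, i, hI, hi, -, -⟩ :=
    exists_kInjective_resolution.{u} (CohTop.Ab X) (Q.objPreimage K)
  have := hi
  exact ⟨I, hI, ⟨(asIso (Q.map i)).symm ≪≫ Q.objObjPreimageIso K⟩⟩

omit [HasDerivedCategory.{w'} (CohTop.Ab Y)] in
/-- `Q(I⟦i⟧) ≅ K⟦i⟧`. -/
noncomputable def shiftIsoX {I : CochainComplex (CohTop.Ab X) ℤ} {K : DerivedCategory (CohTop.Ab X)}
    (e : Q.obj I ≅ K) (i : ℤ) : Q.obj (I⟦i⟧) ≅ K⟦i⟧ :=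
  (Q.commShiftIso i).app I ≪≫ (shiftFunctor _ i).mapIso e

omit [HasDerivedCategory.{w} (CohTop.Ab X)] in
/-- `Q(f_*(I⟦i⟧)) ≅ (Q f_* I)⟦i⟧`. -/
noncomputable def shiftIsoY (I : CochainComplex (CohTop.Ab X) ℤ) (i : ℤ) :
    Q.obj ((pushCx f).obj (I⟦i⟧)) ≅ (Q.obj ((pushCx f).obj I))⟦i⟧ :=
  Q.mapIso (((CohTop.push f).mapCochainComplexShiftIso i).app I) ≪≫
    (Q.commShiftIso i).app ((pushCx f).obj I)

theorem subsingleton_shift_iff (I : CochainComplex (CohTop.Ab X) ℤ) [I.IsKInjective]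
    {K : DerivedCategory (CohTop.Ab X)} (e : Q.obj I ≅ K) (V : Opens Y) (i : ℤ) :
    Subsingleton (dsgl (CohCx.freeSheaf (Opens.grothendieckTopology X) ((Opens.map f).obj V)) ⟶
      K⟦i⟧) ↔
    Subsingleton (dsgl (CohCx.freeSheaf (Opens.grothendieckTopology Y) V) ⟶
      (Q.obj ((pushCx f).obj I))⟦i⟧) := by
  rw [subsingleton_iff f (I⟦i⟧) V (shiftIsoX e i)]
  exact ⟨fun h => subsingleton_hom_of_iso (shiftIsoY f I i) h,
    fun h => subsingleton_hom_of_iso (shiftIsoY f I i).symm h⟩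

/-- `f_* I ∈ D^{≥ 0}`. -/
theorem isGE_push (B : Set (Opens Y)) (hB : Opens.IsBasis B)
    (K : DerivedCategory (CohTop.Ab X))
    (h : ∀ V ∈ B, ∀ i : ℤ, i < 0 → Subsingleton (CohCx.HDU K i ((Opens.map f).obj V)))
    (I : CochainComplex (CohTop.Ab X) ℤ) [I.IsKInjective] (e : Q.obj I ≅ K) :
    (Q.obj ((pushCx f).obj I)).IsGE 0 := by
  rw [isGE_iff]
  intro i hi
  apply isZero_homology_of_local (locFr_frSh (Opens.grothendieckTopology Y)) _ i
  intro U T hT
  have hcov := covers_of_isBasis B hB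
  refine ⟨presieveIn B T, presieveIn_le B T, generate_presieveIn_mem hcov T hT, ?_⟩
  intro V g hg
  exact (subsingleton_shift_iff f I e V i).1 (h V hg.1 i hi)

theorem subsingleton_of_isGE_push (K : DerivedCategory (CohTop.Ab X))
    (I : CochainComplex (CohTop.Ab X) ℤ) [I.IsKInjective] (e : Q.obj I ≅ K)
    (hN : (Q.obj ((pushCx f).obj I)).IsGE 0) (V : Opens Y) (i : ℤ) (hi : i < 0) :
    Subsingleton (CohCx.HDU K i ((Opens.map f).obj V)) := by
  apply (subsingleton_shift_iff f I e V i).2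
  have h1 : (dsgl (CohCx.freeSheaf (Opens.grothendieckTopology Y) V)).IsLE 0 :=
    inferInstanceAs (((singleFunctor (CohTop.Ab Y) 0).obj _).IsLE 0)
  have h2 : tt.IsGE ((Q.obj ((pushCx f).obj I))⟦i⟧) (-i) :=
    tt.isGE_shift _ 0 i (-i) (by omega)
  exact ⟨fun y y' => by rw [tt.zero y 0 (-i) (by omega), tt.zero y' 0 (-i) (by omega)]⟩

section AddEquiv

/-- two surjective additive maps with the same kernel have isomorphic targets. -/
lemma exists_addEquiv_of_surjective {Z P Q : Type*} [AddCommGroup Z] [AddCommGroup P]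
    [AddCommGroup Q] (a : Z →+ P) (b : Z →+ Q) (ha : Function.Surjective a)
    (hb : Function.Surjective b) (hk : ∀ z, a z = 0 ↔ b z = 0) :
    ∃ Ψ : P ≃+ Q, ∀ z, Ψ (a z) = b z := by
  have key : ∀ z z', a z = a z' ↔ b z = b z' := by
    intro z z'
    rw [← sub_eq_zero, ← map_sub, hk, map_sub, sub_eq_zero]
  choose s hs using ha
  choose t ht using hb
  refine ⟨{ toFun := fun p => b (s p)
            invFun := fun q => a (t q)
            left_inv := fun p => ?_
            right_inv := fun q => ?_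
            map_add' := fun p p' => ?_ }, fun z => ?_⟩
  · change a (t (b (s p))) = p
    rw [(key _ _).2 (ht (b (s p))), hs]
  · change b (s (a (t q))) = q
    rw [(key _ _).1 (hs (a (t q))), ht]
  · rw [← map_add]
    apply (key _ _).1
    rw [hs, map_add, hs, hs]
  · exact (key _ _).1 (hs (a z))

end AddEquiv

section Claim2

variable (K : DerivedCategory (CohTop.Ab X)) (I : CochainComplex (CohTop.Ab X) ℤ)
  (e : Q.obj I ≅ K)

/-- `c₀` as an additive map. -/
noncomputable def c₀Add {A : Type u'} [Category.{v'} A] [Abelian A] [HasDerivedCategory.{w} A]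
    (P : A) (N : DerivedCategory A) : (dsgl P ⟶ N) →+ (P ⟶ (homologyFunctor A 0).obj N) where
  toFun := c₀
  map_zero' := c₀_zero
  map_add' := c₀_add

/-- cocycles of `f_* I` over `V` to classes in `H^0(f⁻¹V, K)`. -/
noncomputable def aMap (V : Opens Y) :
    Z0 (CohCx.freeSheaf (Opens.grothendieckTopology Y) V) ((pushCx f).obj I) →+
      CohCx.HDU K 0 ((Opens.map f).obj V) :=
  (Preadditive.rightComp _ (e.hom ≫ (shiftFunctorZero _ ℤ).inv.app K)).comp
    ((θ _ I).comp (sharpZ f I V))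

/-- cocycles of `f_* I` over `V` to sections of `H^0(f_* I)` over `V`. -/
noncomputable def bMap (V : Opens Y) :
    Z0 (CohCx.freeSheaf (Opens.grothendieckTopology Y) V) ((pushCx f).obj I) →+
      ((homologyFunctor (CohTop.Ab Y) 0).obj (Q.obj ((pushCx f).obj I))).obj.obj (op V) :=
  (CohFree.evalGen _ V _).comp ((c₀Add _ _).comp (θ _ ((pushCx f).obj I)))

omit [HasDerivedCategory.{w'} (CohTop.Ab Y)] in
lemma aMap_apply (V : Opens Y)
    (σ : Z0 (CohCx.freeSheaf (Opens.grothendieckTopology Y) V) ((pushCx f).obj I)) :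
    aMap f K I e V σ = θ _ I (sharpZ f I V σ) ≫ e.hom ≫ (shiftFunctorZero _ ℤ).inv.app K := rfl

omit [HasDerivedCategory.{w} (CohTop.Ab X)] in
lemma bMap_apply (V : Opens Y)
    (σ : Z0 (CohCx.freeSheaf (Opens.grothendieckTopology Y) V) ((pushCx f).obj I)) :
    bMap f I V σ = CohFree.evalGen _ V _ (c₀ (θ _ ((pushCx f).obj I) σ)) := rfl

variable [I.IsKInjective]

omit [HasDerivedCategory.{w'} (CohTop.Ab Y)] in
lemma aMap_surjective (V : Opens Y) : Function.Surjective (aMap f K I e V) := by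
  intro ξ
  obtain ⟨φ, hφ⟩ := θ_surjective _ I (ξ ≫ (shiftFunctorZero _ ℤ).hom.app K ≫ e.inv)
  obtain ⟨σ, rfl⟩ := sharpZ_surjective f I V φ
  refine ⟨σ, ?_⟩
  rw [aMap_apply, hφ]
  simp only [Category.assoc, Iso.inv_hom_id_assoc, Iso.hom_inv_id_app, Category.comp_id]

lemma aMap_eq_zero_iff (V : Opens Y)
    (σ : Z0 (CohCx.freeSheaf (Opens.grothendieckTopology Y) V) ((pushCx f).obj I)) :
    aMap f K I e V σ = 0 ↔ θ _ ((pushCx f).obj I) σ = 0 := by
  rw [← θ_sharpZ_eq_zero_iff, aMap_apply]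
  constructor
  · intro h
    have h2 : θ _ I (sharpZ f I V σ) ≫ e.hom ≫ (shiftFunctorZero _ ℤ).inv.app K = 0 := h
    have h3 := congrArg (fun κ => κ ≫ (shiftFunctorZero _ ℤ).hom.app K ≫ e.inv) h2
    simpa only [Category.assoc, Iso.inv_hom_id_app_assoc, Iso.hom_inv_id, Category.comp_id,
      zero_comp] using h3
  · intro h
    rw [h, zero_comp]
    rfl

variable (hN : (Q.obj ((pushCx f).obj I)).IsGE 0)

omit [HasDerivedCategory.{w} (CohTop.Ab X)] in
include hN in
lemma bMap_surjective (V : Opens Y) : Function.Surjective (bMap f I V) := by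
  intro s
  obtain ⟨ψ, hψ⟩ := (CohFree.homEquivSect _ V _).surjective s
  obtain ⟨ξ, hξ⟩ := (bijective_c₀_of_isGE (CohCx.freeSheaf (Opens.grothendieckTopology Y) V)
    (Q.obj ((pushCx f).obj I))).2 ψ
  obtain ⟨σ, rfl⟩ := θ_surjective _ _ ξ
  refine ⟨σ, ?_⟩
  rw [bMap_apply]
  dsimp only at hξ
  rw [hξ]
  exact hψ

omit [HasDerivedCategory.{w} (CohTop.Ab X)] [I.IsKInjective] in
include hN in
lemma bMap_eq_zero_iff (V : Opens Y)
    (σ : Z0 (CohCx.freeSheaf (Opens.grothendieckTopology Y) V) ((pushCx f).obj I)) :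
    bMap f I V σ = 0 ↔ θ _ ((pushCx f).obj I) σ = 0 := by
  rw [bMap_apply]
  constructor
  · intro h
    have h1 : c₀ (θ _ ((pushCx f).obj I) σ) = 0 := by
      apply (CohFree.homEquivSect _ V _).injective
      rw [map_zero]
      exact h
    exact (bijective_c₀_of_isGE (CohCx.freeSheaf (Opens.grothendieckTopology Y) V)
      (Q.obj ((pushCx f).obj I))).1 (by dsimp only; rw [h1, c₀_zero])
  · intro h
    rw [h, c₀_zero, map_zero]

end Claim2

end Groth.Agent.Lib.Seat4.PushGE
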