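import Groth.Agent.Lib.Seat4PushQc
import Groth.Agent.Lib.Seat4AffConserv
import Groth.Agent.Lib.Seat0PCSummand
import Groth.Agent.Lib.Seat0PCQCoh

/-!
# `Rf_*` and pseudo-coherence: reduction of the unbounded case to the bounded case (seat 4)
-/

set_option autoImplicit false
set_option linter.style.haveILetI false

universe u

open CategoryTheory CategoryTheory.Limits DerivedCategory Opposite TopologicalSpace
  AlgebraicGeometry

namespace Groth.Agent.Lib.Seat4.PushPC

open Groth.Agent.Lib.Seat4.PushQc Groth.Agent.Lib.Seat0.PCTri Groth.Agent.Lib.Seat0.PCSummand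
  Groth.Agent.Lib.Seat0.PCQCoh Groth.Agent.Lib.Seat0.TopCoh Pretriangulated Groth.Agent.S14388

attribute [local instance] HasDerivedCategory.standard

variable {X S : Scheme.{u}}

/-- a pseudo-coherent object on a quasi-compact scheme is bounded above -/
theorem exists_isLE_of_isPC_compact [CompactSpace ↥X] {m : ℤ} {K : DCoh.D X}
    (h : DCoh.IsPseudoCoherentD m K) : ∃ b : ℤ, K.IsLE b := by
  choose V hxV N hN using fun x : X => exists_isLE_of_isPC h x
  obtain ⟨t, ht⟩ := isCompact_univ.elim_finite_subcover (fun x : X => ((V x : X.Opens) : Set X))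
    (fun x => (V x).isOpen) (fun x _ => Set.mem_iUnion.2 ⟨x, hxV x⟩)
  let B : ℤ := ((t.sup (fun x => (N x).toNat) : ℕ) : ℤ)
  have hB : ∀ x ∈ t, N x ≤ B := fun x hx => by
    have h1 : (N x).toNat ≤ t.sup (fun x => (N x).toNat) := Finset.le_sup (f := fun x => (N x).toNat) hx
    have h2 : N x ≤ ((N x).toNat : ℤ) := Int.self_le_toNat _
    have h3 : (((N x).toNat : ℕ) : ℤ) ≤ B := Int.ofNat_le.2 h1
    exact h2.trans h3
  refine ⟨B, ?_⟩
  rw [DerivedCategory.isLE_iff]
  intro i hi
  have hcov : IsOpenCover (fun x : t => V x.1) := by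
    rw [IsOpenCover, eq_top_iff]
    intro y _
    obtain ⟨x, hx⟩ := Set.mem_iUnion.1 (ht (Set.mem_univ y))
    obtain ⟨hxt, hy⟩ := Set.mem_iUnion.1 hx
    exact Opens.mem_iSup.2 ⟨⟨x, hxt⟩, hy⟩
  refine Groth.Agent.Lib.Seat4.AffConserv.isZero_of_open_cover _ _ hcov (fun x => ?_)
  haveI := hN x.1
  exact IsZero.of_iso (isZero_of_isLE _ (N x.1) i (lt_of_le_of_lt (hB x.1 x.2) hi))
    (restrictHDIso (V x.1).ι K i).symm

/-- **S11122**: if `Rf_*` shifts pseudo-coherence of bounded objects by at most `k`, then `Rf_*` preserves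
pseudo-coherent objects (no boundedness). -/
theorem isPC_rpush (f : X ⟶ S) [QuasiCompact f] [QuasiSeparated f] [CompactSpace ↥S]
    [DCoh.HasRpush f] (k : ℤ)
    (hK : ∀ (F : DCoh.D X) (n a b : ℤ), F.IsGE a → F.IsLE b → DCoh.IsPseudoCoherentD n F →
      DCoh.IsPseudoCoherentD (n + k) ((DCoh.Rpush f).obj F))
    (F : DCoh.D X) (hF : ∀ m : ℤ, DCoh.IsPseudoCoherentD m F) (m : ℤ) :
    DCoh.IsPseudoCoherentD m ((DCoh.Rpush f).obj F) := by
  haveI : CompactSpace ↥X := QuasiCompact.compactSpace_of_compactSpace f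
  have hq : DCoh.IsQCohD F := fun i =>
    (isQCoh_cohomology_of_isPC (i - 1) F (hF (i - 1))).1 i (by omega)
  obtain ⟨b, hb⟩ := exists_isLE_of_isPC_compact (hF 0)
  obtain ⟨n, hn⟩ := bound_le f
  -- the truncation index
  let a : ℤ := m - max (n : ℤ) k
  have han : a + n ≤ m := by
    have := le_max_left (n : ℤ) k
    simp only [a]; omega
  have hak : a - 1 + k ≤ m := by
    have := le_max_right (n : ℤ) k
    simp only [a]; omega
  let T := (tt.triangleLTGE a).obj F
  have hT : T ∈ distTriang _ := tt.triangleLTGE_distinguished a F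
  obtain ⟨w, hw⟩ := exists_distinguished_rpush f T hT
  -- the truncation below
  have hC : ((tt.truncLT a).obj F).IsLE (a - 1) := inferInstance
  have hCq : DCoh.IsQCohD ((tt.truncLT a).obj F) := isQCohD_truncLT F hq a
  have h1 : ((DCoh.Rpush f).obj ((tt.truncLT a).obj F)).IsLE (n + (a - 1)) := by
    rw [DerivedCategory.isLE_iff]
    intro i hi
    exact hn _ hCq (a - 1) hC i hi
  have h1' : DCoh.IsPseudoCoherentD m ((DCoh.Rpush f).obj ((tt.truncLT a).obj F)) := by
    refine isPC_mono (m := n + (a - 1) + 1) (by omega) (isPC_of_isLE _ ?_)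
    have e : (n : ℤ) + (a - 1) + 1 - 1 = n + (a - 1) := by ring
    rw [e]
    exact h1
  -- the truncation above
  have hG : DCoh.IsPseudoCoherentD (a - 1) ((tt.truncGE a).obj F) := by
    refine (isPC_triangle (a - 1) T hT).1 ?_ (hF (a - 1))
    refine isPC_of_isLE _ ?_
    have e : a - 1 + 1 - 1 = a - 1 := by ring
    rw [e]
    exact hC
  have hGb : ((tt.truncGE a).obj F).IsLE b := inferInstance
  have h3 : DCoh.IsPseudoCoherentD m ((DCoh.Rpush f).obj ((tt.truncGE a).obj F)) :=
    isPC_mono hak (hK _ (a - 1) a b inferInstance hGb hG)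
  exact (isPC_triangle m _ hw).2.1 h1' h3

end Groth.Agent.Lib.Seat4.PushPC
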