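import Groth.Agent.Lib.Seat28RD
import Groth.Agent.Lib.Helper23Bridge

/-!
# The total right derived functor on a module placed in one degree (seat 4)

`H^i(RG(M[-j])) ≅ R^{i-j} G(M)`, where `RG` is the total right derived functor (computed on K-injective
complexes) and `R^k G` is Mathlib's `Functor.rightDerived` (computed on injective resolutions).
-/

set_option autoImplicit false
set_option linter.style.haveILetI false

universe w w₁ w₂ v v' u u'

open CategoryTheory CategoryTheory.Limits DerivedCategory HomologicalComplex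

namespace Groth.Agent.Lib.Seat4.RpushSingle

open Groth.Agent.Lib.Seat28.RD

variable {A : Type u} [Category.{v} A] [Abelian A] {B : Type u'} [Category.{v'} B] [Abelian B]
  [IsGrothendieckAbelian.{w} B] [HasDerivedCategory.{w₁} A] [HasDerivedCategory.{w₂} B]
  (G : B ⥤ A) [G.Additive]
  [(Kh G).HasRightDerivedFunctor (HomotopyCategory.quasiIso B (ComplexShape.up ℤ))]

section

variable {M : B} (R : InjectiveResolution M) (j : ℤ)

/-- the quasi-isomorphism `M[0] ⟶ J` in `D(B)`. -/
noncomputable def qι : (singleFunctor B 0).obj M ⟶ Q.obj R.cochainComplex := Q.map R.ι'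

instance : IsIso (qι R) := by
  have h : IsIso ((Q : _ ⥤ DerivedCategory B).map R.ι') := by
    rw [isIso_Q_map_iff_quasiIso]
    infer_instance
  exact h

/-- `M[-j] ≅ Q(J[-j])` for an injective resolution `J` of `M`. -/
noncomputable def singleIso :
    (singleFunctor B j).obj M ≅ Q.obj (R.cochainComplex⟦-j⟧) :=
  (((singleFunctors B).shiftIso (-j) j 0 (by omega)).app M).symm ≪≫
    (shiftFunctor (DerivedCategory B) (-j)).mapIso (asIso (qι R)) ≪≫
    ((Q.commShiftIso (-j)).app R.cochainComplex).symm

/-- `RG(M[-j]) ≅ Q(G(J)[-j])`. -/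
noncomputable def rfunSingleIso :
    (RFun G).obj ((singleFunctor B j).obj M) ≅
      Q.obj (((G.mapHomologicalComplex (ComplexShape.up ℤ)).obj R.cochainComplex)⟦-j⟧) :=
  (RFun G).mapIso (singleIso R j) ≪≫ isoOfKInj.{w} G (R.cochainComplex⟦-j⟧) ≪≫
    Q.mapIso ((G.mapCochainComplexShiftIso (-j)).app R.cochainComplex)

/-- `H^i(RG(M[-j])) ≅ H^k(G(J))`, `k = i - j`. -/
noncomputable def homologyRFunSingleIso (i k : ℤ) (h : -j + i = k) :
    (homologyFunctor A i).obj ((RFun G).obj ((singleFunctor B j).obj M)) ≅
      ((G.mapHomologicalComplex (ComplexShape.up ℤ)).obj R.cochainComplex).homology k :=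
  (homologyFunctor A i).mapIso (rfunSingleIso G R j) ≪≫
    (homologyFunctorFactors A i).app _ ≪≫
    (CochainComplex.ShiftSequence.shiftIso A (-j) i k h).app
      ((G.mapHomologicalComplex (ComplexShape.up ℤ)).obj R.cochainComplex)

end

/-- `H^i(RG(M[-j])) ≅ R^k G(M)` for `i = j + k`. -/
theorem nonempty_homology_RFun_single_iso (M : B) (j i : ℤ) (k : ℕ) (h : j + k = i) :
    Nonempty ((homologyFunctor A i).obj ((RFun G).obj ((singleFunctor B j).obj M)) ≅
      (G.rightDerived k).obj M) := by
  let R : InjectiveResolution M := injectiveResolution M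
  let e1 := homologyRFunSingleIso G R j i (k : ℤ) (by omega)
  let e2 : ((G.mapHomologicalComplex (ComplexShape.up ℤ)).obj R.cochainComplex).homology (k : ℤ) ≅
      (((G.mapHomologicalComplex (ComplexShape.up ℕ)).obj R.cocomplex).extend
        ComplexShape.embeddingUpNat).homology (k : ℤ) :=
    (HomologicalComplex.homologyFunctor A (ComplexShape.up ℤ) (k : ℤ)).mapIso
      (Groth.Agent.Lib.Helper23Bridge.extendMapIso G R.cocomplex ComplexShape.embeddingUpNat)
  let e3 := HomologicalComplex.extendHomologyIso
    ((G.mapHomologicalComplex (ComplexShape.up ℕ)).obj R.cocomplex) ComplexShape.embeddingUpNat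
    (j := k) (j' := (k : ℤ)) rfl
  exact ⟨e1 ≪≫ e2 ≪≫ e3 ≪≫ (R.isoRightDerivedObj G k).symm⟩

/-- `H^i(RG(M[-j])) = 0` for `i < j`. -/
theorem isZero_homology_RFun_single (M : B) (j i : ℤ) (h : i < j) :
    IsZero ((homologyFunctor A i).obj ((RFun G).obj ((singleFunctor B j).obj M))) := by
  let R : InjectiveResolution M := injectiveResolution M
  refine IsZero.of_iso ?_ (homologyRFunSingleIso G R j i (-j + i) rfl)
  rw [← HomologicalComplex.exactAt_iff_isZero_homology]
  apply ShortComplex.exact_of_isZero_X₂
  exact G.map_isZero (CochainComplex.isZero_of_isStrictlyGE R.cochainComplex 0 _ (by omega))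

end Groth.Agent.Lib.Seat4.RpushSingle
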