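import Groth.Agent.Lib.Seat4PushBound
import Groth.Agent.Lib.Seat4QcSerre
import Groth.Agent.Lib.Seat4RpushSingle
import Groth.Agent.Lib.Seat28RD3
import Groth.Agent.Lib.Seat28RDExist
import Groth.Agent.Lib.Seat28RpushAdd
import Groth.Agent.Lib.Helper17AdjWay2
import Groth.Agent.Lib.Helper1Devissage
import Groth.Agent.Lib.Seat81BC
import Groth.Agent.Lib.Helper23FinTypeLocal

/-!
# `Rf_*` preserves `D_QCoh` for quasi-compact quasi-separated `f` (seat 4)
-/

set_option autoImplicit false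
set_option linter.style.haveILetI false

universe w w' v v' u u'

open CategoryTheory CategoryTheory.Limits DerivedCategory Opposite TopologicalSpace
  AlgebraicGeometry

namespace Groth.Agent.Lib.Seat4.PushQc

open Groth.Agent.Lib.Helper17.Hyp Groth.Agent.S14388 Pretriangulated

section Abs

variable {A : Type (v + 1)} [Category.{v} A] [Abelian A] [HasDerivedCategory.{w} A]

/-- variant of `PushBound.subsingleton_hom_of_vanishAbove` for `E ∈ D^{≤ b}`. -/
theorem subsingleton_hom_of_vanishAbove_le {P E : DerivedCategory A}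
    [HasProduct (CohCx.truncTower E)]
    (hL : CohCx.IsRlimVia (CohCx.truncTower E) (CohCx.truncTowerMap E) E (CohCx.toTruncTower E))
    (b : ℤ) [E.IsLE b] (c : ℤ) (hc : 0 ≤ c) (hP : VanishAbove P E (fun _ => c)) (m : ℤ)
    (hm : c + b < m) :
    Subsingleton (P ⟶ E⟦m⟧) := by
  let N : ℕ := max (Nb (fun _ => c) m) (Nb (fun _ => c) (m - 1))
  obtain ⟨g1, g2⟩ := good_of_vanishAbove hP m N le_rfl
  have hY : Subsingleton (P ⟶ (CohCx.truncTower E N)⟦m⟧) := by
    apply subsingleton_hom_of_bounded P m _ (-(N : ℤ)) b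
    · rintro i (hi | hi)
      · haveI : (CohCx.truncTower E N).IsGE (-(N : ℤ)) :=
          inferInstanceAs (((tt.truncGE (-(N : ℤ))).obj E).IsGE _)
        exact isZero_of_isGE _ (-(N : ℤ)) i hi
      · by_cases hi' : -(N : ℤ) ≤ i
        · have := isIso_homology_truncGEπ (-(N : ℤ)) i hi' E
          exact IsZero.of_iso (isZero_of_isLE E b i hi)
            (asIso ((homologyFunctor A i).map ((tt.truncGEπ (-(N : ℤ))).app E))).symm
        · haveI : (CohCx.truncTower E N).IsGE (-(N : ℤ)) :=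
            inferInstanceAs (((tt.truncGE (-(N : ℤ))).obj E).IsGE _)
          exact isZero_of_isGE _ (-(N : ℤ)) i (by omega)
    · intro q hq1 hq2
      have := isIso_homology_truncGEπ (-(N : ℤ)) q hq1 E
      exact subsingleton_hom_of_iso ((shiftFunctor _ (m - q)).mapIso ((singleFunctor A 0).mapIso
        (asIso ((homologyFunctor A q).map ((tt.truncGEπ (-(N : ℤ))).app E)))))
        (VanishAbove.at hP q (m - q) (by omega) (by omega))
  exact ⟨fun y y' => sub_eq_zero.1 (eq_zero_of_good hL P m N g1 g2 (y - y') (hY.elim _ _))⟩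

/-- in a distinguished triangle `A ⟶ K ⟶ B ⟶ A[1]` with `H^q(A) = 0 = H^{q+1}(A)`,
`H^q(K) ≅ H^q(B)`. -/
lemma isIso_homology_mor₂ (T : Triangle (DerivedCategory A)) (hT : T ∈ distTriang _) (q : ℤ)
    (h1 : IsZero ((homologyFunctor A q).obj T.obj₁))
    (h2 : IsZero ((homologyFunctor A (q + 1)).obj T.obj₁)) :
    IsIso ((homologyFunctor A q).map T.mor₂) := by
  have e2 := HomologySequence.exact₂ T hT q
  have e3 := HomologySequence.exact₃ T hT q (q + 1) rfl
  haveI : Mono ((homologyFunctor A q).map T.mor₂) := e2.mono_g (h1.eq_of_src _ _)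
  haveI : Epi ((homologyFunctor A q).map T.mor₂) := e3.epi_f (h2.eq_of_tgt _ _)
  exact isIso_of_mono_of_epi _

/-- in a distinguished triangle `A ⟶ K ⟶ B ⟶ A[1]` with `H^{q-1}(B) = 0 = H^q(B)`,
`H^q(A) ≅ H^q(K)`. -/
lemma isIso_homology_mor₁ (T : Triangle (DerivedCategory A)) (hT : T ∈ distTriang _) (q : ℤ)
    (h1 : IsZero ((homologyFunctor A (q - 1)).obj T.obj₃))
    (h2 : IsZero ((homologyFunctor A q).obj T.obj₃)) :
    IsIso ((homologyFunctor A q).map T.mor₁) := by
  have e1 := HomologySequence.exact₁ T hT (q - 1) q (by omega)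
  have e2 := HomologySequence.exact₂ T hT q
  haveI : Mono ((homologyFunctor A q).map T.mor₁) := e1.mono_g (h1.eq_of_src _ _)
  haveI : Epi ((homologyFunctor A q).map T.mor₁) := e2.epi_f (h2.eq_of_tgt _ _)
  exact isIso_of_mono_of_epi _

end Abs

section Sch

attribute [local instance] HasDerivedCategory.standard

open Groth.Agent.Lib.Seat4.RlimMod Groth.Agent.Lib.Seat4.HypA Groth.Agent.Lib.Seat4.HypD
  Groth.Agent.Lib.Seat4.PushVanish Groth.Agent.Lib.Seat4.PushBound Groth.Agent.Lib.Seat4.QcSerre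
  Groth.Agent.Lib.Seat28.RD Groth.Agent.Lib.Helper17.AdjWay

variable {X S : Scheme.{u}}

/-- (G1) uniform bound, for `E ∈ D_QCoh^{≤ b}`. -/
theorem bound_le (f : X ⟶ S) [QuasiCompact f] [QuasiSeparated f] [CompactSpace ↥S]
    [DCoh.HasRpush f] :
    ∃ n : ℕ, ∀ (E : DCoh.D X), DCoh.IsQCohD E → ∀ b : ℤ, E.IsLE b → ∀ m : ℤ, (n : ℤ) + b < m →
      IsZero (DCoh.HD ((DCoh.Rpush f).obj E) m) := by
  obtain ⟨n, hn⟩ := Groth.Agent.S0031.result f
  refine ⟨n, fun E hE b hLE m hm => ?_⟩
  haveI := hLE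
  apply isZero_HD_rpush f E m S.affineOpens
    (covers_of_isBasis (X := S.carrier) S.affineOpens S.isBasis_affineOpens)
  intro V hV
  haveI : IsGrothendieckAbelian.{u} X.Modules :=
    Groth.Agent.S0484.result (Opens.grothendieckTopology X) X.ringCatSheaf
  haveI := Groth.Agent.Lib.Seat4.HB.hasProduct_nat (CohCx.truncTower E)
  have hL := Groth.Agent.Lib.Seat4.TruncMod.isRlimVia_truncTower E hE
  refine subsingleton_hom_of_vanishAbove_le hL b (n : ℤ) (by omega)
    (vanishAbove_of_cd E hE (f ⁻¹ᵁ V) n ?_) m hm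
  intro M hM p hp
  haveI : M.IsQuasicoherent := hM
  exact (Groth.Agent.Lib.Seat81.SecRpush.isZero_RpushAb_iff_forall_affine f M p).1 (hn M hM p hp)
    V hV

/-- (G2) `Rf_*` is left t-exact. -/
theorem isZero_HD_rpush_of_isGE (f : X ⟶ S) [DCoh.HasRpush f] (E : DCoh.D X) (c : ℤ) [E.IsGE c]
    (m : ℤ) (hm : m < c) : IsZero (DCoh.HD ((DCoh.Rpush f).obj E) m) := by
  apply isZero_HD_rpush f E m S.affineOpens
    (covers_of_isBasis (X := S.carrier) S.affineOpens S.isBasis_affineOpens)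
  intro V _
  have h1 : (dsgl ((frX X).obj (f ⁻¹ᵁ V))).IsLE 0 :=
    inferInstanceAs (((singleFunctor X.Modules 0).obj _).IsLE 0)
  have h2 : tt.IsGE (E⟦m⟧) (c - m) := tt.isGE_shift _ c m (c - m) (by omega)
  exact ⟨fun y y' => by rw [tt.zero y 0 (c - m) (by omega), tt.zero y' 0 (c - m) (by omega)]⟩

/-- `Rf_*` on distinguished triangles. -/
theorem exists_distinguished_rpush (f : X ⟶ S) [DCoh.HasRpush f] (T : Triangle (DCoh.D X))
    (hT : T ∈ distTriang (DCoh.D X)) :
    ∃ w : (DCoh.Rpush f).obj T.obj₃ ⟶ ((DCoh.Rpush f).obj T.obj₁)⟦(1 : ℤ)⟧,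
      Triangle.mk ((DCoh.Rpush f).map T.mor₁) ((DCoh.Rpush f).map T.mor₂) w ∈
        distTriang (DCoh.D S) := by
  haveI : IsGrothendieckAbelian.{u} X.Modules :=
    Groth.Agent.S0484.result (Opens.grothendieckTopology X) X.ringCatSheaf
  exact Groth.Agent.Lib.Seat28.RD3.exists_distinguished_map.{u} (Scheme.Modules.pushforward f) T hT

/-- (iv) the bounded case, by dévissage to `R^p f_*` of quasi-coherent modules (S0030). -/
theorem cohIn_rpush_of_bounded (f : X ⟶ S) [QuasiCompact f] [QuasiSeparated f] [DCoh.HasRpush f]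
    (C : DCoh.D X) (hC : DCoh.IsQCohD C) (a b : ℤ)
    (hab : ∀ i : ℤ, (i < a ∨ b < i) → IsZero (DCoh.HD C i)) :
    WSerre.cohIn (qc S) ((DCoh.Rpush f).obj C) := by
  haveI : IsGrothendieckAbelian.{u} X.Modules :=
    Groth.Agent.S0484.result (Opens.grothendieckTopology X) X.ringCatSheaf
  let PP : ObjectProperty (DCoh.D X) := fun C => WSerre.cohIn (qc S) ((DCoh.Rpush f).obj C)
  haveI : PP.IsClosedUnderIsomorphisms :=
    ⟨fun {Z Z'} e hZ => cohIn_of_iso (qc S) ((DCoh.Rpush f).mapIso e) hZ⟩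
  refine Groth.Agent.Lib.Helper1.Devissage.induction_homology' PP ?_ ?_ C a b hab ?_
  · intro K hK
    exact cohIn_of_isZero (qc S) _ (isZero_rpush_obj f hK)
  · intro T hT h1 h3
    obtain ⟨w, hw⟩ := exists_distinguished_rpush f T hT
    exact cohIn_obj₂ (qc S) _ hw h1 h3
  · intro j _ _ i
    haveI : (DCoh.HD C j).IsQuasicoherent := hC j
    by_cases hij : i < j
    · exact Groth.Agent.Lib.Seat81.DerRes.isQuasicoherent_of_isZero
        (N := Coh.structureModule S)
        (Groth.Agent.Lib.Seat4.RpushSingle.isZero_homology_RFun_single.{u}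
          (Scheme.Modules.pushforward f) (DCoh.HD C j) j i hij)
    · obtain ⟨k, hk⟩ : ∃ k : ℕ, j + (k : ℤ) = i := ⟨(i - j).toNat, by omega⟩
      obtain ⟨e⟩ := Groth.Agent.Lib.Seat4.RpushSingle.nonempty_homology_RFun_single_iso.{u}
        (Scheme.Modules.pushforward f) (DCoh.HD C j) j i k hk
      have h := Groth.Agent.Lib.Seat81.BC.qcoh_Rpush f (DCoh.HD C j) k
      exact qc_of_iso S e.symm h

lemma isQCohD_truncLT (K : DCoh.D X) (hK : DCoh.IsQCohD K) (a : ℤ) :
    DCoh.IsQCohD ((tt.truncLT a).obj K) := by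
  intro i
  by_cases hi : i < a
  · have := isIso_homology_truncLTι a i hi K
    exact qc_of_iso X (asIso ((homologyFunctor X.Modules i).map ((tt.truncLTι a).app K))).symm (hK i)
  · have hle : ((tt.truncLT a).obj K).IsLE (a - 1) := tt.isLE_truncLT_obj K a (a - 1) (by omega)
    exact Groth.Agent.Lib.Seat81.DerRes.isQuasicoherent_of_isZero (N := Coh.structureModule X)
      (isZero_of_isLE _ (a - 1) i (by omega))

lemma isQCohD_truncGE (K : DCoh.D X) (hK : DCoh.IsQCohD K) (a : ℤ) :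
    DCoh.IsQCohD ((tt.truncGE a).obj K) := by
  intro i
  by_cases hi : a ≤ i
  · have := isIso_homology_truncGEπ a i hi K
    exact qc_of_iso X (asIso ((homologyFunctor X.Modules i).map ((tt.truncGEπ a).app K))) (hK i)
  · have hge : ((tt.truncGE a).obj K).IsGE a := inferInstanceAs (((tt.truncGE a).obj K).IsGE _)
    exact Groth.Agent.Lib.Seat81.DerRes.isQuasicoherent_of_isZero (N := Coh.structureModule X)
      (isZero_of_isGE _ a i (by omega))

/-- **`Rf_*` preserves `D_QCoh`** when the base is quasi-compact. -/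
theorem isQCohD_rpush_of_compact (f : X ⟶ S) [QuasiCompact f] [QuasiSeparated f]
    [CompactSpace ↥S] [DCoh.HasRpush f] (K : DCoh.D X) (hK : DCoh.IsQCohD K) :
    DCoh.IsQCohD ((DCoh.Rpush f).obj K) := by
  obtain ⟨n, hn⟩ := bound_le f
  intro q
  -- step (ii): replace `K` by `B = τ_{≥ a} K`
  let a : ℤ := q - n - 1
  let A := (tt.truncLT a).obj K
  let B := (tt.truncGE a).obj K
  have hT := tt.triangleLTGE_distinguished a K
  have hAle : A.IsLE (a - 1) := tt.isLE_truncLT_obj K a (a - 1) (by omega)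
  have hAq : DCoh.IsQCohD A := isQCohD_truncLT K hK a
  have hBq : DCoh.IsQCohD B := isQCohD_truncGE K hK a
  have hBge : B.IsGE a := inferInstanceAs (((tt.truncGE a).obj K).IsGE _)
  obtain ⟨w, hw⟩ := exists_distinguished_rpush f _ hT
  have h1 := hn A hAq (a - 1) hAle q (by omega)
  have h2 := hn A hAq (a - 1) hAle (q + 1) (by omega)
  have i1 := isIso_homology_mor₂ _ hw q h1 h2
  let e1 := @asIso _ _ _ _ _ i1
  -- step (iii): replace `B` by `C = τ_{≤ q} B`
  let C := (tt.truncLT (q + 1)).obj B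
  let C' := (tt.truncGE (q + 1)).obj B
  have hT' := tt.triangleLTGE_distinguished (q + 1) B
  obtain ⟨w', hw'⟩ := exists_distinguished_rpush f _ hT'
  haveI hC'ge : C'.IsGE (q + 1) := inferInstanceAs (((tt.truncGE (q + 1)).obj B).IsGE _)
  have h3 := isZero_HD_rpush_of_isGE f C' (q + 1) (q - 1) (by omega)
  have h4 := isZero_HD_rpush_of_isGE f C' (q + 1) q (by omega)
  have i2 := isIso_homology_mor₁ _ hw' q h3 h4
  let e2 := @asIso _ _ _ _ _ i2
  -- step (iv): the bounded case
  have hCq : DCoh.IsQCohD C := isQCohD_truncLT B hBq (q + 1)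
  have hCle : C.IsLE q := tt.isLE_truncLT_obj B (q + 1) q (by omega)
  have hCab : ∀ i : ℤ, (i < a ∨ q < i) → IsZero (DCoh.HD C i) := by
    rintro i (hi | hi)
    · have := isIso_homology_truncLTι (q + 1) i (by omega) B
      exact IsZero.of_iso (isZero_of_isGE B a i hi)
        (asIso ((homologyFunctor X.Modules i).map ((tt.truncLTι (q + 1)).app B)))
    · exact isZero_of_isLE C q i hi
  have h5 := cohIn_rpush_of_bounded f C hCq a q hCab q
  exact qc_of_iso S (e2 ≪≫ e1.symm) h5

end Sch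

end Groth.Agent.Lib.Seat4.PushQc
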