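import Groth.Agent.Lib.Seat4PushQc
import Groth.Agent.Lib.Helper17Hyp19

/-!
# `Rf_*` preserves `D_QCoh` for quasi-compact quasi-separated `f`: reduction to an affine base (seat 4)
-/

set_option autoImplicit false
set_option linter.style.haveILetI false

universe u

open CategoryTheory CategoryTheory.Limits DerivedCategory Opposite TopologicalSpace
  AlgebraicGeometry

namespace Groth.Agent.Lib.Seat4.PushQcLocal

open Groth.Agent.Lib.Helper17.Hyp Groth.Agent.Lib.Seat28.RD Groth.Agent.Lib.Seat4.PushVanish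
  Groth.Agent.Lib.Seat4.PushQc Groth.Agent.Lib.Seat4.QcSerre

attribute [local instance] HasDerivedCategory.standard
attribute [local instance] Groth.Agent.Lib.Helper23.QCohLocal.restrictFunctor_isRightAdjoint

variable {X S : Scheme.{u}}

section Restr

variable (U : X.Opens)

instance : (Scheme.Modules.restrictFunctor U.ι).Additive := inferInstance
instance : PreservesFiniteLimits (Scheme.Modules.restrictFunctor U.ι) := inferInstance
instance : PreservesFiniteColimits (Scheme.Modules.restrictFunctor U.ι) := inferInstance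

end Restr

section Main

open Scheme.Modules

variable (f : X ⟶ S)

/-- the complex `(f_* I)|_V` is isomorphic to `(f|_V)_* (I|_{f⁻¹V})`. -/
noncomputable def pushRestrictCxIso (V : S.Opens) (I : CochainComplex X.Modules ℤ) :
    ((restrictFunctor V.ι).mapHomologicalComplex (ComplexShape.up ℤ)).obj ((pushCx f).obj I) ≅
      (pushCx (f ∣_ V)).obj
        (((restrictFunctor (f ⁻¹ᵁ V).ι).mapHomologicalComplex (ComplexShape.up ℤ)).obj I) :=
  (NatIso.mapHomologicalComplex (Groth.Agent.Lib.Seat81.BC.bcIso f V) (ComplexShape.up ℤ)).app I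

/-- `Q(I|_U)` has quasi-coherent cohomology if `Q(I)` has. -/
theorem isQCohD_restrict (U : X.Opens) (I : CochainComplex X.Modules ℤ)
    (h : DCoh.IsQCohD (Q.obj I)) :
    DCoh.IsQCohD (Q.obj
      (((restrictFunctor U.ι).mapHomologicalComplex (ComplexShape.up ℤ)).obj I)) := by
  intro j
  have h1 : Coh.IsQCoh (I.homology j) :=
    qc_of_iso X ((homologyFunctorFactors X.Modules j).app I) (h j)
  haveI : (I.homology j).IsQuasicoherent := h1
  have h2 : ((I.homology j).restrict U.ι).IsQuasicoherent := inferInstance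
  refine qc_of_iso _ (((homologyFunctorFactors (U : Scheme.{u}).Modules j).app _ ≪≫
    (Groth.Agent.Lib.Helper17.Hyp.homologyNatIsoCx (restrictFunctor U.ι) j).app I).symm) h2

/-- **`Rf_*` preserves `D_QCoh` for quasi-compact quasi-separated `f`.** -/
theorem isQCohD_rpush [QuasiCompact f] [QuasiSeparated f] [DCoh.HasRpush f]
    (K : DCoh.D X) (hK : DCoh.IsQCohD K) : DCoh.IsQCohD ((DCoh.Rpush f).obj K) := by
  obtain ⟨I, hI, ⟨e⟩⟩ := exists_fibrant_repr.{u} K
  haveI : I.IsKInjective := hI.isKInjective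
  have hQI : DCoh.IsQCohD (Q.obj I) := fun j =>
    qc_of_iso X ((homologyFunctor X.Modules j).mapIso e.symm) (hK j)
  let e1 : (DCoh.Rpush f).obj K ≅ Q.obj ((pushCx f).obj I) :=
    (DCoh.Rpush f).mapIso e.symm ≪≫ isoOfKInj.{u} (Scheme.Modules.pushforward f) I
  intro q
  refine qc_of_iso S (((homologyFunctor S.Modules q).mapIso e1 ≪≫
    (homologyFunctorFactors S.Modules q).app ((pushCx f).obj I)).symm) ?_
  -- quasi-coherence is local on `S`
  refine Groth.Agent.Lib.Helper23.FinType.isQuasicoherent_of_open_cover _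
    (fun V : S.affineOpens => (V : S.Opens)) (iSup_affineOpens_eq_top S) (fun V => ?_)
  haveI : IsAffine ((V : S.Opens) : Scheme.{u}) := V.2
  haveI : DCoh.HasRpush (f ∣_ (V : S.Opens)) := Groth.Agent.Lib.Seat28.RDExist.hasRpush _
  let I' : CochainComplex ((f ⁻¹ᵁ (V : S.Opens) : X.Opens) : Scheme.{u}).Modules ℤ :=
    ((restrictFunctor (f ⁻¹ᵁ (V : S.Opens)).ι).mapHomologicalComplex (ComplexShape.up ℤ)).obj I
  haveI : CochainComplex.IsKInjective I' := isKInjective_restrict (f ⁻¹ᵁ (V : S.Opens)) I
  have hI' : DCoh.IsQCohD (Q.obj I') := isQCohD_restrict _ I hQI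
  have h3 := isQCohD_rpush_of_compact (f ∣_ (V : S.Opens)) (Q.obj I') hI' q
  have h4 : Coh.IsQCoh (((pushCx (f ∣_ (V : S.Opens))).obj I').homology q) :=
    qc_of_iso _ ((homologyFunctor _ q).mapIso
      (isoOfKInj.{u} (Scheme.Modules.pushforward (f ∣_ (V : S.Opens))) I') ≪≫
      (homologyFunctorFactors _ q).app _) h3
  refine qc_of_iso _ ?_ h4
  exact ((HomologicalComplex.homologyFunctor _ _ q).mapIso
    (pushRestrictCxIso f (V : S.Opens) I)).symm ≪≫
    (Groth.Agent.Lib.Helper17.Hyp.homologyNatIsoCx (restrictFunctor (V : S.Opens).ι) q).app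
      ((pushCx f).obj I)

end Main

end Groth.Agent.Lib.Seat4.PushQcLocal
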