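import Groth.Agent.Lib.Seat4PushGE

/-!
# `V ↦ H^0(f⁻¹V, K)` is a sheaf when `f_* I ∈ D^{≥ 0}` (seat 4)
-/

set_option autoImplicit false

universe w w' v v' u u'

open CategoryTheory CategoryTheory.Limits DerivedCategory Opposite TopologicalSpace

namespace Groth.Agent.Lib.Seat4.PushSheaf

open Groth.Agent.Lib.Helper17.Hyp Groth.Agent.Lib.Helper17.KInj Groth.Agent.S14388
  Groth.Agent.Lib.Seat4.HypA Groth.Agent.Lib.Seat4.HypD Groth.Agent.Lib.Seat4.KInjSect
  Groth.Agent.Lib.Seat4.PushGE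

variable {X Y : TopCat.{u}} (f : X ⟶ Y)
  [HasDerivedCategory.{u} (CohTop.Ab X)] [HasDerivedCategory.{w'} (CohTop.Ab Y)]
  (K : DerivedCategory (CohTop.Ab X)) (I : CochainComplex (CohTop.Ab X) ℤ)
  (e : Q.obj I ≅ K)

omit [HasDerivedCategory.{u} (CohTop.Ab X)] [HasDerivedCategory.{w'} (CohTop.Ab Y)] in
/-- restriction of cocycles. -/
noncomputable def resZ {V V' : Opens Y} (g : V' ⟶ V)
    (σ : Z0 (CohCx.freeSheaf (Opens.grothendieckTopology Y) V) ((pushCx f).obj I)) :
    Z0 (CohCx.freeSheaf (Opens.grothendieckTopology Y) V') ((pushCx f).obj I) :=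
  ⟨CohCx.freeSheafMap _ g ≫ σ.1, by
    rw [mem_Z0, Category.assoc, (mem_Z0 _).1 σ.2, comp_zero]⟩

omit [HasDerivedCategory.{w'} (CohTop.Ab Y)] in
lemma aMap_res {V V' : Opens Y} (g : V' ⟶ V)
    (σ : Z0 (CohCx.freeSheaf (Opens.grothendieckTopology Y) V) ((pushCx f).obj I)) :
    aMap f K I e V' (resZ f I g σ) =
      CohCx.HDUres K 0 ((Opens.map f).map g) (aMap f K I e V σ) := by
  have h1 := θ_precomp (CohCx.freeSheafMap (Opens.grothendieckTopology X) ((Opens.map f).map g))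
    (sharpZ f I V σ)
  have h2 : θ _ I (sharpZ f I V' (resZ f I g σ)) =
      Q.map ((HomologicalComplex.single _ (ComplexShape.up ℤ) 0).map
        (CohCx.freeSheafMap (Opens.grothendieckTopology X) ((Opens.map f).map g))) ≫
        θ _ I (sharpZ f I V σ) := by
    rw [h1]
    congr 1
    exact Subtype.ext (sharpX_res f I g 0 σ.1)
  rw [aMap_apply, aMap_apply, h2, Category.assoc]
  rfl

omit [HasDerivedCategory.{u} (CohTop.Ab X)] in
lemma bMap_res {V V' : Opens Y} (g : V' ⟶ V)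
    (σ : Z0 (CohCx.freeSheaf (Opens.grothendieckTopology Y) V) ((pushCx f).obj I)) :
    bMap f I V' (resZ f I g σ) =
      (((homologyFunctor (CohTop.Ab Y) 0).obj (Q.obj ((pushCx f).obj I))).obj.map g.op).hom
        (bMap f I V σ) := by
  rw [bMap_apply, bMap_apply]
  have h1 := θ_precomp (CohCx.freeSheafMap (Opens.grothendieckTopology Y) g) σ
  have h2 : θ _ ((pushCx f).obj I) (resZ f I g σ) =
      Q.map ((HomologicalComplex.single _ (ComplexShape.up ℤ) 0).map
        (CohCx.freeSheafMap (Opens.grothendieckTopology Y) g)) ≫ θ _ ((pushCx f).obj I) σ :=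
    h1.symm
  rw [h2, c₀_precomp, CohFree.evalGen_freeSheafMap_comp]

include e in
/-- `V ↦ H^0(f⁻¹V, K)` is a sheaf on `Y` when `f_* I ∈ D^{≥ 0}`. -/
theorem isSheaf_H0 [I.IsKInjective] (hN : (Q.obj ((pushCx f).obj I)).IsGE 0) :
    Presheaf.IsSheaf (Opens.grothendieckTopology Y)
      ((Opens.map f).op ⋙ CohCx.HDUPresheaf K 0) := by
  have key : ∀ V : Opens Y, ∃ Ψ : CohCx.HDU K 0 ((Opens.map f).obj V) ≃+
      ((homologyFunctor (CohTop.Ab Y) 0).obj (Q.obj ((pushCx f).obj I))).obj.obj (op V),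
      ∀ σ, Ψ (aMap f K I e V σ) = bMap f I V σ := fun V =>
    exists_addEquiv_of_surjective _ _ (aMap_surjective f K I e V) (bMap_surjective f I hN V)
      (fun σ => by rw [aMap_eq_zero_iff, bMap_eq_zero_iff f I hN])
  choose Ψ hΨ using key
  let iso : (Opens.map f).op ⋙ CohCx.HDUPresheaf K 0 ≅
      ((homologyFunctor (CohTop.Ab Y) 0).obj (Q.obj ((pushCx f).obj I))).obj :=
    NatIso.ofComponents (fun V => (Ψ V.unop).toAddCommGrpIso) (by
      intro V V' g
      apply AddCommGrpCat.hom_ext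
      ext ξ
      obtain ⟨σ, rfl⟩ := aMap_surjective f K I e V.unop ξ
      change Ψ V'.unop (CohCx.HDUres K 0 ((Opens.map f).map g.unop) (aMap f K I e V.unop σ)) =
        (((homologyFunctor (CohTop.Ab Y) 0).obj (Q.obj ((pushCx f).obj I))).obj.map g).hom
          (Ψ V.unop (aMap f K I e V.unop σ))
      rw [← aMap_res, hΨ, hΨ]
      exact bMap_res f I g.unop σ)
  exact (Presheaf.isSheaf_of_iso_iff iso).2
    ((homologyFunctor (CohTop.Ab Y) 0).obj (Q.obj ((pushCx f).obj I))).property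

end Groth.Agent.Lib.Seat4.PushSheaf
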