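import Groth.Agent.Lib.Seat4PushQcLocal
import Groth.Agent.Lib.Seat4TildeEquiv
import Groth.Agent.Lib.Seat28DAdj
import Groth.Agent.Lib.Seat30HasLDer
import Groth.Agent.S1055
import Groth.Agent.S12898

/-!
# `Rf_*(M~) ≅ (M_A)~` for `f : Spec B ⟶ Spec A` (seat 4)
-/

set_option autoImplicit false
set_option linter.style.haveILetI false

universe u

open CategoryTheory CategoryTheory.Limits DerivedCategory Opposite TopologicalSpace
  AlgebraicGeometry

namespace Groth.Agent.Lib.Seat4.PushTilde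

open Groth.Agent.Lib.Seat4.TildeAdj Groth.Agent.Lib.Seat4.TildeEquiv Groth.Agent.Lib.Helper1.Sky
  Groth.Agent.Lib.Seat28.RD

attribute [local instance] HasDerivedCategory.standard

variable {A B : Type u} [CommRing A] [CommRing B] (φ : A →+* B)
  [PreservesFiniteLimits (tilde.functor (CommRingCat.of A))]
  [PreservesFiniteLimits (tilde.functor (CommRingCat.of B))]
  [DCoh.HasRpush (Spec.map (CommRingCat.ofHom φ))]

theorem main :
    Nonempty (DCoh.tildeD (CommRingCat.of B) ⋙ DCoh.Rpush (Spec.map (CommRingCat.ofHom φ)) ≅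
      DRing.restrictD φ ⋙ DCoh.tildeD (CommRingCat.of A)) := by
  let f : Spec (CommRingCat.of B) ⟶ Spec (CommRingCat.of A) := Spec.map (CommRingCat.ofHom φ)
  haveI : DRing.HasLBaseChange φ := Groth.Agent.Lib.Seat30.HasLDer.hasLBaseChange φ
  haveI : DCoh.HasLpull f := hasLpull f
  obtain ⟨adjL⟩ := Groth.Agent.S12898.result φ
  obtain ⟨c⟩ := Groth.Agent.S1055.result φ
  let TA := DCoh.tildeD (CommRingCat.of A)
  let TB := DCoh.tildeD (CommRingCat.of B)
  let GA := RΓm (CommRingCat.of A)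
  let GB := RΓm (CommRingCat.of B)
  let adj1 : DRing.LBaseChange φ ⋙ TB ⊣ GB ⋙ DRing.restrictD φ := adjL.comp (dadj (CommRingCat.of B))
  let adj2 : TA ⋙ DCoh.Lpull f ⊣ DCoh.Rpush f ⋙ GA :=
    (dadj (CommRingCat.of A)).comp (lpullRpushAdj f)
  let r : GB ⋙ DRing.restrictD φ ≅ DCoh.Rpush f ⋙ GA :=
    adj1.rightAdjointUniq (adj2.ofNatIsoLeft c.symm)
  -- the counit is an isomorphism on `Rf_*(M~)`
  haveI : ∀ M, IsIso ((Functor.whiskerLeft (TB ⋙ DCoh.Rpush f)
      (dadj (CommRingCat.of A)).counit).app M) := fun M =>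
    isIso_counit_app (CommRingCat.of A) _
      (Groth.Agent.Lib.Seat4.PushQcLocal.isQCohD_rpush f _ (isQCohD_tildeD (CommRingCat.of B) M))
  haveI : IsIso (Functor.whiskerLeft (TB ⋙ DCoh.Rpush f) (dadj (CommRingCat.of A)).counit) :=
    NatIso.isIso_of_isIso_app _
  let e1 : (TB ⋙ DCoh.Rpush f) ⋙ (GA ⋙ TA) ≅ (TB ⋙ DCoh.Rpush f) ⋙ 𝟭 _ :=
    asIso (Functor.whiskerLeft (TB ⋙ DCoh.Rpush f) (dadj (CommRingCat.of A)).counit)
  haveI : IsIso (dadj (CommRingCat.of B)).unit :=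
    haveI : ∀ M, IsIso ((dadj (CommRingCat.of B)).unit.app M) := fun M =>
      isIso_unit_app (CommRingCat.of B) M
    NatIso.isIso_of_isIso_app _
  let e2 : 𝟭 _ ≅ TB ⋙ GB := asIso (dadj (CommRingCat.of B)).unit
  exact ⟨(Functor.rightUnitor _).symm ≪≫ e1.symm ≪≫
    (Functor.associator _ _ _) ≪≫
    Functor.isoWhiskerLeft TB ((Functor.associator _ _ _).symm ≪≫
      Functor.isoWhiskerRight r.symm TA ≪≫ Functor.associator _ _ _) ≪≫
    (Functor.associator _ _ _).symm ≪≫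
    Functor.isoWhiskerRight e2.symm (DRing.restrictD φ ⋙ TA) ≪≫
    Functor.leftUnitor _⟩

end Groth.Agent.Lib.Seat4.PushTilde
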