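import Groth.Agent.Lib.Seat4TruncMod
import Groth.Agent.Lib.Seat4HB
import Groth.Agent.Lib.Seat28RD

/-!
# Vanishing of cohomology sheaves of `Rf_* E` from vanishing of `Hom(O_X ⊗ ℤ_{f⁻¹V}[-m], E)` (seat 4)
-/

set_option autoImplicit false
set_option linter.style.haveILetI false

universe w w' v v' u u'

open CategoryTheory CategoryTheory.Limits DerivedCategory Opposite TopologicalSpace
  AlgebraicGeometry

namespace Groth.Agent.Lib.Seat4.PushVanish

open Groth.Agent.Lib.Helper17.Hyp Groth.Agent.Lib.Helper17.KInj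

section PartA

variable {A : Type u} [Category.{v} A] [Abelian A] {C : Type u'} [Category.{v'} C]
  {J : GrothendieckTopology C} {fr : C ⥤ A}

/-- `H^m(L) = 0` if, over a cofinal system of coverings, cocycles in `Hom(fr V, L^m)` are
coboundaries. -/
theorem isZero_homology_of_sections (h : LocFr J fr) (L : CochainComplex A ℤ) (m : ℤ)
    (hloc : ∀ (U : C) (T : Sieve U), T ∈ J U → ∃ R : Presieve U, R ≤ T ∧
      Sieve.generate R ∈ J U ∧
      ∀ ⦃V : C⦄ (g : V ⟶ U), R g → ∀ φ : fr.obj V ⟶ L.X m, φ ≫ L.d m (m + 1) = 0 →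
        ∃ w : fr.obj V ⟶ L.X (m - 1), w ≫ L.d (m - 1) m = φ) :
    IsZero (L.homology m) := by
  rw [IsZero.iff_id_eq_zero]
  apply h.gen
  intro U s
  rw [Category.comp_id]
  obtain ⟨T, hT, hT'⟩ := h.lift (L.homologyπ m) U s
  obtain ⟨R, hRT, hR, hR'⟩ := hloc U T hT
  refine h.sep U s _ hR ?_
  rintro W' _ ⟨V, k, g, hg, rfl⟩
  rw [Functor.map_comp, Category.assoc]
  suffices fr.map g ≫ s = 0 by rw [this, comp_zero]
  obtain ⟨s', hs'⟩ := hT' g (hRT _ _ hg)
  obtain ⟨w, hw⟩ := hR' g hg (s' ≫ L.iCycles m) (by simp)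
  have h1 : s' = w ≫ L.toCycles (m - 1) m := by
    rw [← cancel_mono (L.iCycles m), Category.assoc, HomologicalComplex.toCycles_i, hw]
  rw [← hs', h1, Category.assoc, HomologicalComplex.toCycles_comp_homologyπ, comp_zero]

end PartA

section PartB

variable {A : Type u} [Category.{v} A] [Abelian A] [HasDerivedCategory.{w} A]

/-- For `I` K-injective, if `Hom_{D(A)}(P[-m], I) = 0` then every `m`-cocycle of `Hom(P, I)` is a
coboundary. -/
theorem exists_coboundary_of_subsingleton (P : A) (I : CochainComplex A ℤ) [I.IsKInjective] (m : ℤ)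
    (hs : Subsingleton ((singleFunctor A m).obj P ⟶ Q.obj I))
    (φ : P ⟶ I.X m) (hφ : φ ≫ I.d m (m + 1) = 0) :
    ∃ w : P ⟶ I.X (m - 1), w ≫ I.d (m - 1) m = φ := by
  let g : (HomologicalComplex.single A (ComplexShape.up ℤ) m).obj P ⟶ I :=
    HomologicalComplex.mkHomFromSingle φ (fun k hk => by
      obtain rfl : m + 1 = k := hk
      exact hφ)
  have hg : (Q : _ ⥤ DerivedCategory A).map g = Q.map 0 := by
    rw [Functor.map_zero]
    exact hs.elim (Q.map g) 0
  obtain ⟨H⟩ := homotopy_of_Q_map_eq hg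
  refine ⟨(HomologicalComplex.singleObjXSelf (ComplexShape.up ℤ) m P).inv ≫ H.hom m (m - 1), ?_⟩
  have h0 := H.comm m
  rw [HomologicalComplex.mkHomFromSingle_f, HomologicalComplex.zero_f, add_zero,
    dNext_eq _ (show (ComplexShape.up ℤ).Rel m (m + 1) by simp),
    prevD_eq _ (show (ComplexShape.up ℤ).Rel (m - 1) m by simp),
    HomologicalComplex.single_obj_d, zero_comp, zero_add] at h0
  rw [Category.assoc, ← h0, Iso.inv_hom_id_assoc]

/-- `Hom(P[0], K[m]) = 0` iff `Hom(P[-m], K) = 0`. -/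
lemma subsingleton_single_of_subsingleton_dsgl (P : A) (K : DerivedCategory A) (m : ℤ)
    (h : Subsingleton (dsgl P ⟶ K⟦m⟧)) : Subsingleton ((singleFunctor A m).obj P ⟶ K) := by
  refine ⟨fun a b => ?_⟩
  have h1 : (Groth.Agent.Lib.Seat4.HB.sglShiftIso P m).hom ≫ a⟦m⟧' =
      (Groth.Agent.Lib.Seat4.HB.sglShiftIso P m).hom ≫ b⟦m⟧' := h.elim _ _
  exact (shiftFunctor (DerivedCategory A) m).map_injective ((cancel_epi _).1 h1)

end PartB

section PartC

open Groth.Agent.Lib.Seat4.RlimMod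

variable {X S : Scheme.{u}} (f : X ⟶ S)

/-- termwise direct image of complexes. -/
noncomputable abbrev pushCx : CochainComplex X.Modules ℤ ⥤ CochainComplex S.Modules ℤ :=
  (Scheme.Modules.pushforward f).mapHomologicalComplex (ComplexShape.up ℤ)

/-- sections of `f_* M` over `V` are sections of `M` over `f⁻¹ V`: the transfer of morphisms out of
the free modules. -/
noncomputable def pushHomEquiv (V : S.Opens) (M : X.Modules) :
    ((frX S).obj V ⟶ (Scheme.Modules.pushforward f).obj M) ≃+ ((frX X).obj (f ⁻¹ᵁ V) ⟶ M) :=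
  (sectEquiv S.ringCatSheaf V ((Scheme.Modules.pushforward f).obj M)).symm.trans
    (sectEquiv X.ringCatSheaf (f ⁻¹ᵁ V) M)

lemma pushHomEquiv_comp (V : S.Opens) {M N : X.Modules} (φ : M ⟶ N)
    (a : (frX S).obj V ⟶ (Scheme.Modules.pushforward f).obj M) :
    pushHomEquiv f V N (a ≫ (Scheme.Modules.pushforward f).map φ) = pushHomEquiv f V M a ≫ φ := by
  have e1 : (sectEquiv S.ringCatSheaf V ((Scheme.Modules.pushforward f).obj N)).symm
      (a ≫ (Scheme.Modules.pushforward f).map φ) =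
      (((SheafOfModules.toSheaf S.ringCatSheaf).map
        ((Scheme.Modules.pushforward f).map φ)).hom.app (op V)).hom
        ((sectEquiv S.ringCatSheaf V ((Scheme.Modules.pushforward f).obj M)).symm a) := by
    apply (sectEquiv S.ringCatSheaf V ((Scheme.Modules.pushforward f).obj N)).injective
    rw [AddEquiv.apply_symm_apply, sectEquiv_comm, AddEquiv.apply_symm_apply]
  exact (congrArg (sectEquiv X.ringCatSheaf (f ⁻¹ᵁ V) N) e1).trans
    (sectEquiv_comm X.ringCatSheaf (f ⁻¹ᵁ V) φ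
      ((sectEquiv S.ringCatSheaf V ((Scheme.Modules.pushforward f).obj M)).symm a))

/-- transfer of the coboundary property along `f_*`. -/
theorem exists_coboundary_push (I : CochainComplex X.Modules ℤ) (V : S.Opens) (m : ℤ)
    (h : ∀ φ : (frX X).obj (f ⁻¹ᵁ V) ⟶ I.X m, φ ≫ I.d m (m + 1) = 0 →
      ∃ w : (frX X).obj (f ⁻¹ᵁ V) ⟶ I.X (m - 1), w ≫ I.d (m - 1) m = φ)
    (φ : (frX S).obj V ⟶ ((pushCx f).obj I).X m)
    (hφ : φ ≫ ((pushCx f).obj I).d m (m + 1) = 0) :
    ∃ w : (frX S).obj V ⟶ ((pushCx f).obj I).X (m - 1),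
      w ≫ ((pushCx f).obj I).d (m - 1) m = φ := by
  let φ₀ : (frX S).obj V ⟶ (Scheme.Modules.pushforward f).obj (I.X m) := φ
  have hφ₀ : φ₀ ≫ (Scheme.Modules.pushforward f).map (I.d m (m + 1)) = 0 := hφ
  obtain ⟨w', hw'⟩ := h (pushHomEquiv f V _ φ₀) (by
    rw [← pushHomEquiv_comp, hφ₀, map_zero])
  refine ⟨(pushHomEquiv f V (I.X (m - 1))).symm w', ?_⟩
  change (pushHomEquiv f V (I.X (m - 1))).symm w' ≫
    (Scheme.Modules.pushforward f).map (I.d (m - 1) m) = φ₀
  apply (pushHomEquiv f V (I.X m)).injective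
  rw [pushHomEquiv_comp, AddEquiv.apply_symm_apply, hw']

end PartC

section PartE

open Groth.Agent.Lib.Seat4.RlimMod Groth.Agent.Lib.Seat4.HypA Groth.Agent.Lib.Seat4.HypD
  Groth.Agent.Lib.Seat28.RD

attribute [local instance] HasDerivedCategory.standard

variable {X S : Scheme.{u}} (f : X ⟶ S) [DCoh.HasRpush f]

/-- `H^m(Rf_* E) = 0` as soon as `Hom(O_X ⊗ ℤ_{f⁻¹V}, E[m]) = 0` for `V` in a covering class. -/
theorem isZero_HD_rpush (E : DCoh.D X) (m : ℤ) (B : Set S.Opens)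
    (hB : Covers (Opens.grothendieckTopology S) B)
    (h : ∀ V ∈ B, Subsingleton (dsgl ((frX X).obj (f ⁻¹ᵁ V)) ⟶ E⟦m⟧)) :
    IsZero (DCoh.HD ((DCoh.Rpush f).obj E) m) := by
  haveI : IsGrothendieckAbelian.{u} X.Modules :=
    Groth.Agent.S0484.result (Opens.grothendieckTopology X) X.ringCatSheaf
  obtain ⟨I, hI, ⟨e⟩⟩ := exists_fibrant_repr.{u} E
  haveI : I.IsKInjective := hI.isKInjective
  let e1 : (DCoh.Rpush f).obj E ≅ Q.obj ((pushCx f).obj I) :=
    (DCoh.Rpush f).mapIso e.symm ≪≫ isoOfKInj.{u} (Scheme.Modules.pushforward f) I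
  refine IsZero.of_iso ?_ ((homologyFunctor S.Modules m).mapIso e1 ≪≫
    (homologyFunctorFactors S.Modules m).app ((pushCx f).obj I))
  apply isZero_homology_of_sections (locFr_frX (X := S)) ((pushCx f).obj I) m
  intro U T hT
  refine ⟨presieveIn B T, presieveIn_le B T, generate_presieveIn_mem hB T hT, ?_⟩
  intro V g hg φ hφ
  apply exists_coboundary_push f I V m _ φ hφ
  intro ψ hψ
  apply exists_coboundary_of_subsingleton ((frX X).obj (f ⁻¹ᵁ V)) I m _ ψ hψ
  have h2 := subsingleton_single_of_subsingleton_dsgl _ _ m (h V hg.1)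
  exact ⟨fun a b => (cancel_mono e.hom).1 (h2.elim _ _)⟩

end PartE

end Groth.Agent.Lib.Seat4.PushVanish
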