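import Mathlib
import Groth.Prelude.Def_Formal2
import Groth.Agent.S0870
import Groth.Agent.Lib.Helper23FinTypeLocal
import Groth.Agent.Lib.Helper23AffOpen2
import Groth.Agent.Lib.Helper16Restr
import Groth.Agent.Lib.Helper17KInjD1
import Groth.Agent.Lib.Helper17DBrown1

/-!
# Limits of towers of quasi-coherent modules with surjective transition maps (helper4)

For a tower `G : ℕᵒᵖ ⥤ X.Modules` of quasi-coherent modules with epimorphic transition maps, the
underlying abelian sheaf of `limit G` is the derived limit of the tower, and it is acyclic on affine opens.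
-/

set_option autoImplicit false
set_option linter.style.haveILetI false
universe u w
open CategoryTheory CategoryTheory.Limits Opposite TopologicalSpace AlgebraicGeometry

namespace Groth.Agent.Lib.Seat4.QcLim

/-- vanishing of `R^1 lim` for surjective transition maps. -/
lemma limOneIsZero_of_surjective (A : ℕ → Type w) [∀ n, AddCommGroup (A n)]
    (t : ∀ n, A (n + 1) →+ A n) (h : ∀ n, Function.Surjective (t n)) : CohCx.LimOneIsZero A t := by
  intro b
  choose s hs using h
  let a : ∀ n, A n := fun n => Nat.rec (motive := A) 0 (fun k ak => s k (ak - b k)) n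
  refine ⟨a, funext fun n => ?_⟩
  change a n - t n (a (n + 1)) = b n
  have h1 : a (n + 1) = s n (a n - b n) := rfl
  rw [h1, hs]
  abel

section

variable {C : Type u} [SmallCategory C] {J : GrothendieckTopology C} (R : Sheaf J RingCat.{u})

noncomputable instance :
    PreservesLimitsOfShape ℕᵒᵖ (SheafOfModules.toSheaf.{u} R ⋙ sheafToPresheaf _ _) :=
  comp_preservesLimitsOfShape (SheafOfModules.forget.{u} R) (PresheafOfModules.toPresheaf R.obj)

noncomputable instance : PreservesLimitsOfShape ℕᵒᵖ (SheafOfModules.toSheaf.{u} R) :=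
  preservesLimitsOfShape_of_reflects_of_preserves _ (sheafToPresheaf _ _)

end

variable {X : Scheme.{u}} (G : ℕᵒᵖ ⥤ X.Modules)

/-- the underlying abelian sheaves -/
noncomputable abbrev F (n : ℕ) : CohTop.Ab X.carrier := Coh.toAb (G.obj (op n))

/-- the transition maps of the underlying abelian sheaves -/
noncomputable abbrev t (n : ℕ) : F G (n + 1) ⟶ F G n :=
  (SheafOfModules.toSheaf X.ringCatSheaf).map (G.map (homOfLE (Nat.le_succ n)).op)

/-- comparison of diagrams -/
noncomputable def diagIso :
    G ⋙ SheafOfModules.toSheaf X.ringCatSheaf ≅ CohCx.opSequence (F G) (t G) := by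
  let α : G ⋙ SheafOfModules.toSheaf X.ringCatSheaf ⟶ CohCx.opSequence (F G) (t G) :=
    NatTrans.ofOpSequence (fun n => 𝟙 _) (fun n => by
      have h1 : (CohCx.opSequence (F G) (t G)).map (homOfLE (n.le_add_right 1)).op = t G n :=
        Functor.ofOpSequence_map_homOfLE_succ _ n
      exact (Category.comp_id _).trans ((Category.id_comp _).trans h1).symm)
  haveI : ∀ n, IsIso (α.app n) := fun n => by
    change IsIso (𝟙 _)
    infer_instance
  haveI : IsIso α := NatIso.isIso_of_isIso_app α
  exact asIso α

/-- the underlying abelian sheaf of the limit is the limit of the underlying abelian sheaves -/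
noncomputable def limIso : Coh.toAb (limit G) ≅ limit (CohCx.opSequence (F G) (t G)) :=
  preservesLimitIso (SheafOfModules.toSheaf X.ringCatSheaf) G ≪≫ HasLimit.isoOfNatIso (diagIso G)

theorem limIso_hom_π (n : ℕ) :
    (limIso G).hom ≫ limit.π (CohCx.opSequence (F G) (t G)) (op n) =
      (SheafOfModules.toSheaf X.ringCatSheaf).map (limit.π G (op n)) := by
  have h1 : (HasLimit.isoOfNatIso (diagIso G)).hom ≫
      limit.π (CohCx.opSequence (F G) (t G)) (op n) =
      limit.π (G ⋙ SheafOfModules.toSheaf X.ringCatSheaf) (op n) ≫ (diagIso G).hom.app (op n) :=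
    HasLimit.isoOfNatIso_hom_π _ _
  have h2 : (diagIso G).hom.app (op n) = 𝟙 _ := rfl
  have h3 : (preservesLimitIso (SheafOfModules.toSheaf X.ringCatSheaf) G).hom ≫
      limit.π (G ⋙ SheafOfModules.toSheaf X.ringCatSheaf) (op n) =
      (SheafOfModules.toSheaf X.ringCatSheaf).map (limit.π G (op n)) :=
    preservesLimitIso_hom_π _ _ _
  unfold limIso
  refine (Category.assoc _ _ _).trans ?_
  refine (congrArg (fun z => _ ≫ z) (h1.trans ((congrArg (fun z => _ ≫ z) h2).trans
    (Category.comp_id _)))).trans h3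

open Groth.Agent.Lib.Helper23.AffVanish in
theorem acyclic_F (hq : ∀ n, Coh.IsQCoh (G.obj (op n))) (U : X.Opens) (hU : IsAffineOpen U)
    (p n : ℕ) : Subsingleton (CohTop.HU (F G n) (p + 1) U) := by
  haveI : (G.obj (op n)).IsQuasicoherent := hq n
  exact subsingleton_HE_of_isAffineOpen hU (G.obj (op n)) p

theorem limOne_F (hq : ∀ n, Coh.IsQCoh (G.obj (op n)))
    (hepi : ∀ n, Epi (G.map (homOfLE (Nat.le_succ n)).op)) (U : X.Opens) (hU : IsAffineOpen U) :
    CohCx.LimOneIsZero (fun n => (F G n).obj.obj (op U))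
      (fun n => ((t G n).hom.app (op U)).hom) := by
  apply limOneIsZero_of_surjective
  intro n
  haveI : (G.obj (op n)).IsQuasicoherent := hq n
  haveI : (G.obj (op (n + 1))).IsQuasicoherent := hq (n + 1)
  haveI := hepi n
  exact Groth.Agent.Lib.Helper23.FinType.surjective_app_of_epi
    (G.map (homOfLE (Nat.le_succ n)).op) hU

/-- countable products in the derived category of abelian sheaves on a scheme. -/
theorem hasProduct_nat [HasDerivedCategory.{u} (CohTop.Ab X.carrier)]
    (K : ℕ → DerivedCategory (CohTop.Ab X.carrier)) : HasProduct K := by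
  haveI : HasProducts.{u} (DerivedCategory (CohTop.Ab X.carrier)) :=
    Groth.Agent.Lib.Helper17.KInj.hasProducts_derivedCategory
  haveI : HasLimitsOfShape (Discrete ℕ) (DerivedCategory (CohTop.Ab X.carrier)) :=
    hasLimitsOfShape_of_equivalence (Discrete.equivalence (Equiv.ulift.{u} (α := ℕ)))
  infer_instance

theorem main [HasDerivedCategory.{u} (CohTop.Ab X.carrier)]
    [HasProduct fun n => (DerivedCategory.singleFunctor (CohTop.Ab X.carrier) 0).obj (F G n)]
    (hq : ∀ n, Coh.IsQCoh (G.obj (op n)))
    (hepi : ∀ n, Epi (G.map (homOfLE (Nat.le_succ n)).op)) :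
    DCoh.IsRlim (fun n => (DerivedCategory.singleFunctor (CohTop.Ab X.carrier) 0).obj (F G n))
      (fun n => (DerivedCategory.singleFunctor (CohTop.Ab X.carrier) 0).map (t G n))
      ((DerivedCategory.singleFunctor (CohTop.Ab X.carrier) 0).obj
        (limit (CohCx.opSequence (F G) (t G)))) ∧
    ∀ U : X.Opens, IsAffineOpen U → ∀ p : ℕ,
      Subsingleton (CohTop.HU (limit (CohCx.opSequence (F G) (t G))) (p + 1) U) := by
  have key := Groth.Agent.S0870.result (F G) (t G) X.affineOpens
    X.isBasis_affineOpens (fun U hU p n => acyclic_F G hq U hU p n)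
    (fun U hU => limOne_F G hq hepi U hU)
  exact ⟨key.1, fun U hU p => key.2 U hU p⟩

/-- `H^{p+1}(U, lim G_n) = 0` on affine opens `U`. -/
theorem subsingleton_HU_limit (hq : ∀ n, Coh.IsQCoh (G.obj (op n)))
    (hepi : ∀ n, Epi (G.map (homOfLE (Nat.le_succ n)).op)) (U : X.Opens) (hU : IsAffineOpen U)
    (p : ℕ) : Subsingleton (CohTop.HU (Coh.toAb (limit G)) (p + 1) U) := by
  letI : HasDerivedCategory.{u} (CohTop.Ab X.carrier) :=
    Groth.Agent.Lib.Helper17.DBrown.hasDerivedCategorySmall _
  haveI := hasProduct_nat (X := X)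
    (fun n => (DerivedCategory.singleFunctor (CohTop.Ab X.carrier) 0).obj (F G n))
  have h := (main G hq hepi).2 U hU p
  let e := ((Sheaf.cohomologyPresheafFunctor (Opens.grothendieckTopology X.carrier) (p + 1)).mapIso
    (limIso G)).app (op U)
  exact (e.addCommGroupIsoToAddEquiv.toEquiv).subsingleton

/-- `H^{p+1}` of the restriction of `lim G_n` to an affine open vanishes. -/
theorem subsingleton_HHon_limit (hq : ∀ n, Coh.IsQCoh (G.obj (op n)))
    (hepi : ∀ n, Epi (G.map (homOfLE (Nat.le_succ n)).op)) (U : X.Opens) (hU : IsAffineOpen U)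
    (p : ℕ) : Subsingleton (Coh.HHon X (limit G) U (p + 1)) := by
  haveI := subsingleton_HU_limit G hq hepi U hU p
  obtain ⟨e⟩ := Groth.Agent.Lib.Helper16.Restr.nonempty_HU_equiv (X := X.carrier) U
    (Coh.toAb (limit G)) (p + 1)
  have e' : CohTop.HU (Coh.toAb (limit G)) (p + 1) U ≃+ Coh.HHon X (limit G) U (p + 1) := e
  exact e'.symm.toEquiv.subsingleton

end Groth.Agent.Lib.Seat4.QcLim
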