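import Groth.Agent.Lib.Seat4QcLim

/-!
# Limits of towers of quasi-coherent modules whose transition maps are eventually surjective (seat 4)

Variant of `Seat4QcLim` where `G_{n+1} ⟶ G_n` is only assumed to be an epimorphism for `n ≥ 1`.
-/

set_option autoImplicit false
set_option linter.style.haveILetI false
universe u w
open CategoryTheory CategoryTheory.Limits Opposite TopologicalSpace AlgebraicGeometry

namespace Groth.Agent.Lib.Seat4.QcLimTail

open Groth.Agent.Lib.Seat4.QcLim

/-- vanishing of `R^1 lim` for transition maps which are surjective from index `1` on. -/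
lemma limOneIsZero_of_tail_surjective (A : ℕ → Type w) [∀ n, AddCommGroup (A n)]
    (t : ∀ n, A (n + 1) →+ A n) (h : ∀ n, 1 ≤ n → Function.Surjective (t n)) :
    CohCx.LimOneIsZero A t := by
  intro b
  choose s hs using h
  let a' : ∀ n, A (n + 1) := fun n =>
    Nat.rec (motive := fun n => A (n + 1)) 0
      (fun k ak => s (k + 1) (Nat.le_add_left 1 k) (ak - b (k + 1))) n
  let a : ∀ n, A n := fun n =>
    Nat.casesOn (motive := A) n (b 0 + t 0 (a' 0)) (fun k => a' k)
  refine ⟨a, funext fun n => ?_⟩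
  change a n - t n (a (n + 1)) = b n
  cases n with
  | zero =>
    change b 0 + t 0 (a' 0) - t 0 (a' 0) = b 0
    abel
  | succ k =>
    change a' k - t (k + 1) (a' (k + 1)) = b (k + 1)
    have h1 : a' (k + 1) = s (k + 1) (Nat.le_add_left 1 k) (a' k - b (k + 1)) := rfl
    rw [h1, hs]
    abel

variable {X : Scheme.{u}} (G : ℕᵒᵖ ⥤ X.Modules)

theorem limOne_F (hq : ∀ n, Coh.IsQCoh (G.obj (op n)))
    (hepi : ∀ n, 1 ≤ n → Epi (G.map (homOfLE (Nat.le_succ n)).op)) (U : X.Opens)
    (hU : IsAffineOpen U) :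
    CohCx.LimOneIsZero (fun n => (F G n).obj.obj (op U))
      (fun n => ((t G n).hom.app (op U)).hom) := by
  apply limOneIsZero_of_tail_surjective
  intro n hn
  haveI : (G.obj (op n)).IsQuasicoherent := hq n
  haveI : (G.obj (op (n + 1))).IsQuasicoherent := hq (n + 1)
  haveI := hepi n hn
  exact Groth.Agent.Lib.Helper23.FinType.surjective_app_of_epi
    (G.map (homOfLE (Nat.le_succ n)).op) hU

theorem main [HasDerivedCategory.{u} (CohTop.Ab X.carrier)]
    [HasProduct fun n => (DerivedCategory.singleFunctor (CohTop.Ab X.carrier) 0).obj (F G n)]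
    (hq : ∀ n, Coh.IsQCoh (G.obj (op n)))
    (hepi : ∀ n, 1 ≤ n → Epi (G.map (homOfLE (Nat.le_succ n)).op)) :
    DCoh.IsRlim (fun n => (DerivedCategory.singleFunctor (CohTop.Ab X.carrier) 0).obj (F G n))
      (fun n => (DerivedCategory.singleFunctor (CohTop.Ab X.carrier) 0).map (t G n))
      ((DerivedCategory.singleFunctor (CohTop.Ab X.carrier) 0).obj
        (limit (CohCx.opSequence (F G) (t G)))) ∧
    ∀ U : X.Opens, IsAffineOpen U → ∀ p : ℕ,
      Subsingleton (CohTop.HU (limit (CohCx.opSequence (F G) (t G))) (p + 1) U) := by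
  have key := Groth.Agent.S0870.result (F G) (t G) X.affineOpens
    X.isBasis_affineOpens (fun U hU p n => acyclic_F G hq U hU p n)
    (fun U hU => limOne_F G hq hepi U hU)
  exact ⟨key.1, fun U hU p => key.2 U hU p⟩

/-- `H^{p+1}(U, lim G_n) = 0` on affine opens `U`. -/
theorem subsingleton_HU_limit (hq : ∀ n, Coh.IsQCoh (G.obj (op n)))
    (hepi : ∀ n, 1 ≤ n → Epi (G.map (homOfLE (Nat.le_succ n)).op)) (U : X.Opens)
    (hU : IsAffineOpen U)
    (p : ℕ) : Subsingleton (CohTop.HU (Coh.toAb (limit G)) (p + 1) U) := by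
  letI : HasDerivedCategory.{u} (CohTop.Ab X.carrier) :=
    Groth.Agent.Lib.Helper17.DBrown.hasDerivedCategorySmall _
  haveI := hasProduct_nat (X := X)
    (fun n => (DerivedCategory.singleFunctor (CohTop.Ab X.carrier) 0).obj (F G n))
  have h := (main G hq hepi).2 U hU p
  let e := ((Sheaf.cohomologyPresheafFunctor (Opens.grothendieckTopology X.carrier) (p + 1)).mapIso
    (limIso G)).app (op U)
  exact (e.addCommGroupIsoToAddEquiv.toEquiv).subsingleton

/-- `H^{p+1}` of the restriction of `lim G_n` to an affine open vanishes. -/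
theorem subsingleton_HHon_limit (hq : ∀ n, Coh.IsQCoh (G.obj (op n)))
    (hepi : ∀ n, 1 ≤ n → Epi (G.map (homOfLE (Nat.le_succ n)).op)) (U : X.Opens)
    (hU : IsAffineOpen U)
    (p : ℕ) : Subsingleton (Coh.HHon X (limit G) U (p + 1)) := by
  haveI := subsingleton_HU_limit G hq hepi U hU p
  obtain ⟨e⟩ := Groth.Agent.Lib.Helper16.Restr.nonempty_HU_equiv (X := X.carrier) U
    (Coh.toAb (limit G)) (p + 1)
  have e' : CohTop.HU (Coh.toAb (limit G)) (p + 1) U ≃+ Coh.HHon X (limit G) U (p + 1) := e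
  exact e'.symm.toEquiv.subsingleton

end Groth.Agent.Lib.Seat4.QcLimTail
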