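import Mathlib
import Groth.Agent.Lib.Seat4QcLim
import Groth.Agent.Lib.Seat4Milnor
import Groth.Agent.Lib.Seat4ExtMilnor
import Groth.Agent.Lib.Seat4HypF

/-!
# The Milnor sequence for the cohomology of a limit of a tower of quasi-coherent modules (helper4)
-/

set_option autoImplicit false
set_option linter.unusedSectionVars false
set_option linter.style.haveILetI false
universe u
open CategoryTheory CategoryTheory.Limits Opposite TopologicalSpace AlgebraicGeometry DerivedCategory

namespace Groth.Agent.Lib.Seat4.QcMilnor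

open Groth.Agent.Lib.Seat4.QcLim Groth.Agent.Lib.Seat4.Milnor


variable {X : Scheme.{u}} (G : ℕᵒᵖ ⥤ X.Modules) [HasDerivedCategory.{u} (CohTop.Ab X.carrier)]

/-- the derived limit statement with the canonical projections as legs -/
theorem isRlimVia_limit
    [HasProduct fun n => (singleFunctor (CohTop.Ab X.carrier) 0).obj (F G n)]
    (hq : ∀ n, Coh.IsQCoh (G.obj (op n)))
    (hepi : ∀ n, Epi (G.map (homOfLE (Nat.le_succ n)).op)) :
    CohCx.IsRlimVia (fun n => (singleFunctor (CohTop.Ab X.carrier) 0).obj (F G n))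
      (fun n => (singleFunctor (CohTop.Ab X.carrier) 0).map (t G n))
      ((singleFunctor (CohTop.Ab X.carrier) 0).obj (Coh.toAb (limit G)))
      (fun n => (singleFunctor (CohTop.Ab X.carrier) 0).map
        ((SheafOfModules.toSheaf X.ringCatSheaf).map (limit.π G (op n)))) := by
  have key := Groth.Agent.Lib.Seat4.HypF.rlim_of_acyclic_via (F G) (t G)
    (X.affineOpens : Set (Opens X.carrier))
    (Groth.Agent.Lib.Seat4.HypD.covers_of_isBasis _ X.isBasis_affineOpens)
    (fun U hU p n => acyclic_F G hq U hU p n)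
    (fun U hU => limOne_F G hq hepi U hU)
  haveI : IsIso ((singleFunctor (CohTop.Ab X.carrier) 0).map (limIso G).hom) := inferInstance
  refine Groth.Agent.Lib.Helper17.Hyp.isRlimVia_of_iso key
    ((singleFunctor (CohTop.Ab X.carrier) 0).map (limIso G).hom) _ (fun n => ?_)
  have h1 := limIso_hom_π G n
  exact ((singleFunctor (CohTop.Ab X.carrier) 0).map_comp _ _).symm.trans
    (congrArg (fun z => (singleFunctor (CohTop.Ab X.carrier) 0).map z) h1)

omit [HasDerivedCategory.{u} (CohTop.Ab X.carrier)] in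
/-- The Milnor sequence `0 → R¹lim H^p(X, G_n) → H^{p+1}(X, lim G_n) → lim H^{p+1}(X, G_n) → 0`. -/
theorem milnor_qc (hq : ∀ n, Coh.IsQCoh (G.obj (op n)))
    (hepi : ∀ n, Epi (G.map (homOfLE (Nat.le_succ n)).op)) (p : ℕ) :
    ∃ (α : Formal2.limOne (fun n => Coh.HH X (G.obj (op n)) p) (Formal2.HHsysMap G p) →+
        Coh.HH X (limit G) (p + 1))
      (β : Coh.HH X (limit G) (p + 1) →+
        Formal2.limZero (fun n => Coh.HH X (G.obj (op n)) (p + 1)) (Formal2.HHsysMap G (p + 1))),
      Function.Injective α ∧ Function.Surjective β ∧ α.range = β.ker ∧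
      ∀ (x : Coh.HH X (limit G) (p + 1)) (n : ℕ),
        (β x : ∀ n, Coh.HH X (G.obj (op n)) (p + 1)) n =
          Sheaf.H.map ((SheafOfModules.toSheaf _).map (limit.π G (op n))) (p + 1) x := by
  letI : HasDerivedCategory.{u} (CohTop.Ab X.carrier) :=
    Groth.Agent.Lib.Helper17.DBrown.hasDerivedCategorySmall _
  haveI := hasProduct_nat (X := X)
    (fun n => (singleFunctor (CohTop.Ab X.carrier) 0).obj (F G n))
  have hL := isRlimVia_limit G hq hepi
  have hπ : ∀ n, (SheafOfModules.toSheaf X.ringCatSheaf).map (limit.π G (op (n + 1))) ≫ t G n =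
      (SheafOfModules.toSheaf X.ringCatSheaf).map (limit.π G (op n)) := fun n =>
    ((SheafOfModules.toSheaf X.ringCatSheaf).map_comp _ _).symm.trans
      (congrArg (fun z => (SheafOfModules.toSheaf X.ringCatSheaf).map z)
        (limit.w G (homOfLE (Nat.le_succ n)).op))
  exact Groth.Agent.Lib.Seat4.ExtMilnor.milnor_ext
    ((constantSheaf (Opens.grothendieckTopology X.carrier) AddCommGrpCat.{u}).obj
      (AddCommGrpCat.of (ULift ℤ)))
    (F G) (t G) (Coh.toAb (limit G))
    (fun n => (SheafOfModules.toSheaf X.ringCatSheaf).map (limit.π G (op n))) hπ hL p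

end Groth.Agent.Lib.Seat4.QcMilnor
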