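import Groth.Agent.Lib.Seat4HypF

/-!
# The limit of an acyclic inverse system is its derived limit: abstract `LocFr` form (seat 4)

Generalisation of `Seat4HypF.rlim_of_acyclic_via` from abelian sheaves on a site to an abelian
category `A` with a "free object" functor `fr : C ⥤ A` satisfying `LocFr J fr`
(e.g. sheaves of modules on a ringed site, with `fr = frModR R`).
-/

set_option autoImplicit false

universe w w' v v' u u'

open CategoryTheory CategoryTheory.Limits DerivedCategory Opposite

namespace Groth.Agent.Lib.Seat4.RlimGen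

open Groth.Agent.Lib.Helper17.Hyp Groth.Agent.S14388 Groth.Agent.Lib.Seat4.HypA
  Groth.Agent.Lib.Seat4.HypD

/-- vanishing of `R^1 lim` passes along a surjective morphism of inverse systems
(two universes). -/
lemma limOneIsZero_of_surjective_map' {A : ℕ → Type w} {A' : ℕ → Type w'}
    [∀ n, AddCommGroup (A n)]
    [∀ n, AddCommGroup (A' n)] (t : ∀ n, A (n + 1) →+ A n) (t' : ∀ n, A' (n + 1) →+ A' n)
    (e : ∀ n, A n →+ A' n) (he : ∀ n, Function.Surjective (e n))
    (comm : ∀ n x, e n (t n x) = t' n (e (n + 1) x)) (h : CohCx.LimOneIsZero A t) :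
    CohCx.LimOneIsZero A' t' := by
  intro b'
  choose b hb using fun n => he n (b' n)
  obtain ⟨a, ha⟩ := h b
  refine ⟨fun n => e n (a n), funext fun n => ?_⟩
  have := congrFun ha n
  dsimp only at this ⊢
  rw [← comm, ← map_sub, this, hb]

variable {A : Type (v + 1)} [Category.{v} A] [Abelian A] [HasDerivedCategory.{w} A]

/-- morphisms `P ⟶ F` as classes in `Hom(P[0], F[0]⟦0⟧)`. -/
noncomputable def homToHom (P F : A) :
    (P ⟶ F) →+ ((singleFunctor A 0).obj P ⟶ ((singleFunctor A 0).obj F)⟦(0 : ℤ)⟧) where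
  toFun f := (singleFunctor A 0).map f ≫
    (shiftFunctorZero _ ℤ).inv.app ((singleFunctor A 0).obj F)
  map_zero' := by rw [Functor.map_zero, zero_comp]
  map_add' x y := by rw [Functor.map_add, Preadditive.add_comp]

lemma homToHom_apply (P F : A) (f : P ⟶ F) :
    homToHom P F f = (singleFunctor A 0).map f ≫
      (shiftFunctorZero _ ℤ).inv.app ((singleFunctor A 0).obj F) := rfl

lemma homToHom_surjective (P F : A) : Function.Surjective (homToHom (A := A) P F) := by
  intro x
  obtain ⟨f, hf⟩ := (singleFunctor A 0).map_surjective (x ≫ (shiftFunctorZero _ ℤ).hom.app _)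
  refine ⟨f, ?_⟩
  rw [homToHom_apply, hf, Category.assoc, Iso.hom_inv_id_app, Category.comp_id]

lemma homToHom_comm (P : A) {F F' : A} (φ : F ⟶ F') (f : P ⟶ F) :
    homToHom P F' (f ≫ φ) = homToHom P F f ≫ ((singleFunctor A 0).map φ)⟦(0 : ℤ)⟧' := by
  rw [homToHom_apply, homToHom_apply, Functor.map_comp, Category.assoc, Category.assoc]
  congr 1
  exact (shiftFunctorZero _ ℤ).inv.naturality _

/-- vanishing of `R^1 lim` of `Hom(P, F_n)` gives vanishing of `R^1 lim` of `Hom(P[0], F_n[0]⟦0⟧)`. -/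
lemma limOneIsZero_hom (P : A) (F : ℕ → A) (t : ∀ n, F (n + 1) ⟶ F n)
    (k : ℤ) (hk : k = 0)
    (h2 : CohCx.LimOneIsZero (fun n => (P ⟶ F n)) (fun n => Preadditive.rightComp P (t n))) :
    CohCx.LimOneIsZero
      (fun n => ((singleFunctor A 0).obj P ⟶ ((singleFunctor A 0).obj (F n))⟦k⟧))
      (fun n => Preadditive.rightComp _ (((singleFunctor A 0).map (t n))⟦k⟧')) := by
  subst hk
  exact limOneIsZero_of_surjective_map' _ _ (fun n => homToHom P (F n))
    (fun n => homToHom_surjective P (F n)) (fun n x => homToHom_comm P (t n) x) h2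

variable {C : Type u} [SmallCategory C] {J : GrothendieckTopology C} {fr : C ⥤ A}

/-- The limit of an inverse system of objects of `A` which is acyclic on a covering class `B`
(for the "free objects" `fr U`) is its derived limit, via the projections. -/
theorem rlim_of_acyclic_via (h : LocFr J fr) (F : ℕ → A) (t : ∀ n, F (n + 1) ⟶ F n)
    [HasLimit (CohCx.opSequence F t)]
    [HasProduct fun n => (singleFunctor A 0).obj (F n)]
    (B : Set C) (hB : Covers J B)
    (h1 : ∀ U ∈ B, ∀ (n : ℕ) (j : ℤ), 0 < j →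
      Subsingleton ((singleFunctor A 0).obj (fr.obj U) ⟶ ((singleFunctor A 0).obj (F n))⟦j⟧))
    (h2 : ∀ U ∈ B, CohCx.LimOneIsZero (fun n => (fr.obj U ⟶ F n))
      (fun n => Preadditive.rightComp (fr.obj U) (t n))) :
    CohCx.IsRlimVia (fun n => (singleFunctor A 0).obj (F n))
      (fun n => (singleFunctor A 0).map (t n))
      ((singleFunctor A 0).obj (limit (CohCx.opSequence F t)))
      (fun n => (singleFunctor A 0).map (limit.π (CohCx.opSequence F t) (op n))) := by
  let S := singleFunctor A 0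
  let K : ℕ → DerivedCategory A := fun n => S.obj (F n)
  let tK : ∀ n, K (n + 1) ⟶ K n := fun n => S.map (t n)
  obtain ⟨L, a, hL⟩ := exists_isRlimVia K tK
  have hLE : ∀ E : A, (S.obj E).IsLE 0 := fun E => inferInstance
  have hGE : ∀ E : A, (S.obj E).IsGE 0 := fun E => inferInstance
  -- negative degrees
  have hneg : ∀ (E : A) (n : ℕ) (j : ℤ), j < 0 →
      Subsingleton (S.obj E ⟶ (K n)⟦j⟧) := by
    intro E n j hj
    have := hLE E
    have := hGE (F n)
    have : tt.IsGE ((K n)⟦j⟧) (-j) := tt.isGE_shift (K n) 0 j (-j) (by omega)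
    exact ⟨fun y y' => by rw [tt.zero y 0 (-j) (by omega), tt.zero y' 0 (-j) (by omega)]⟩
  -- positive degrees
  have hpos : ∀ U ∈ B, ∀ (n : ℕ) (j : ℤ), 0 < j →
      Subsingleton (S.obj (fr.obj U) ⟶ (K n)⟦j⟧) := fun U hU n j hj => h1 U hU n j hj
  -- `R^1 lim`
  have hlim : ∀ U ∈ B, ∀ j : ℤ, CohCx.LimOneIsZero
      (fun n => (S.obj (fr.obj U) ⟶ (K n)⟦j⟧))
      (fun n => Preadditive.rightComp _ ((tK n)⟦j⟧')) := by
    intro U hU j
    rcases lt_trichotomy j 0 with hj | hj | hj
    · exact limOneIsZero_of_subsingleton _ _ (fun n => hneg _ n j hj)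
    · exact limOneIsZero_hom (fr.obj U) F t j hj (h2 U hU)
    · exact limOneIsZero_of_subsingleton _ _ (fun n => hpos U hU n j hj)
  -- `Hom(fr U, L[m])`
  have hL0 : ∀ U ∈ B, ∀ m : ℤ, m ≠ 0 →
      Subsingleton (S.obj (fr.obj U) ⟶ L⟦m⟧) := by
    intro U hU m hm
    apply subsingleton_hom_rlim hL _ m ?_ (hlim U hU (m - 1))
    intro n
    rcases lt_or_gt_of_ne hm with h | h
    · exact hneg _ n m h
    · exact hpos U hU n m h
  -- cohomology objects of `L`
  have hH : ∀ m : ℤ, m ≠ 0 → IsZero ((homologyFunctor _ m).obj L) := by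
    intro m hm
    apply isZero_homology_of_local h L m
    intro U T hT
    refine ⟨presieveIn B T, presieveIn_le B T, generate_presieveIn_mem hB T hT, ?_⟩
    intro V g hg
    exact hL0 V hg.1 m hm
  have : L.IsGE 0 := by
    rw [isGE_iff]
    intro i hi
    exact hH i (by omega)
  have : L.IsLE 0 := by
    rw [isLE_iff]
    intro i hi
    exact hH i (by omega)
  obtain ⟨G, ⟨e⟩⟩ := exists_iso_singleFunctor_obj_of_isGE_of_isLE L 0
  have e : L ≅ S.obj G := e
  -- legs
  let b : ∀ n, G ⟶ F n := fun n => S.preimage (e.inv ≫ a n)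
  have hb' : ∀ n, S.map (b n) = e.inv ≫ a n := fun n => S.map_preimage _
  have hat : ∀ n, a (n + 1) ≫ tK n = a n := isRlimVia_comp_t hL
  have hb : ∀ n, b (n + 1) ≫ t n = b n := by
    intro n
    apply S.map_injective
    rw [Functor.map_comp, hb', hb', Category.assoc]
    congr 1
    exact hat n
  -- limit cone
  have hlimcone : IsLimit (coneOfLegs t G b hb) := by
    apply isLimitConeOfLegs
    · intro E x hx
      obtain ⟨ψ, hψ⟩ := exists_lift_to_rlim hL (fun n => S.map (x n)) (fun n => by
        change S.map (x (n + 1)) ≫ S.map (t n) = S.map (x n)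
        rw [← Functor.map_comp, hx])
      refine ⟨S.preimage (ψ ≫ e.hom), fun n => ?_⟩
      apply S.map_injective
      rw [Functor.map_comp, S.map_preimage, hb', Category.assoc, e.hom_inv_id_assoc, hψ]
    · intro E y y' hy
      have key : S.map y ≫ e.inv = S.map y' ≫ e.inv := by
        apply hom_ext_rlim hL (S.obj E) ?_ _ _ (fun n => ?_)
        · intro n
          have := hLE E
          have := hGE (F n)
          have : tt.IsLE ((S.obj E)⟦(1 : ℤ)⟧) (-1) := tt.isLE_shift (S.obj E) 0 1 (-1) (by omega)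
          have : tt.IsGE ((K n)⟦(1 : ℤ) - 1⟧) 0 :=
            tt.isGE_shift (K n) 0 ((1 : ℤ) - 1) 0 (by omega)
          exact ⟨fun z z' => by rw [tt.zero z (-1) 0 (by omega), tt.zero z' (-1) 0 (by omega)]⟩
        · rw [Category.assoc, Category.assoc, ← hb', ← Functor.map_comp, ← Functor.map_comp, hy]
      rw [cancel_mono] at key
      exact S.map_injective key
  let θ : limit (CohCx.opSequence F t) ≅ G := limit.isoLimitCone ⟨_, hlimcone⟩
  let ψ : S.obj (limit (CohCx.opSequence F t)) ⟶ L := S.map θ.hom ≫ e.inv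
  have hψ : IsIso ψ := inferInstance
  refine isRlimVia_of_iso hL ψ _ (fun n => ?_)
  have h1 : θ.hom ≫ b n = limit.π (CohCx.opSequence F t) (op n) :=
    limit.isoLimitCone_hom_π ⟨_, hlimcone⟩ (op n)
  change (S.map θ.hom ≫ e.inv) ≫ a n = S.map (limit.π (CohCx.opSequence F t) (op n))
  rw [Category.assoc, ← hb', ← Functor.map_comp, h1]
  rfl

end Groth.Agent.Lib.Seat4.RlimGen
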