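import Groth.Agent.Lib.Seat4RlimGen
import Groth.Agent.Lib.Seat4QcLimTail
import Groth.Agent.Lib.Helper17Hyp14

/-!
# `R lim` of towers of quasi-coherent modules in `D(O_X)` (seat 4)

For a tower `(F_n)` of quasi-coherent `O_X`-modules with eventually surjective transition maps,
`lim F_n` placed in degree `0` is the derived limit of `(F_n[0])` in `D(X.Modules)`.
-/

set_option autoImplicit false
set_option linter.style.haveILetI false

universe w u

open CategoryTheory CategoryTheory.Limits DerivedCategory Opposite TopologicalSpace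
  AlgebraicGeometry

namespace Groth.Agent.Lib.Seat4.RlimMod

open Groth.Agent.Lib.Helper17.Hyp Groth.Agent.Lib.Helper21 Groth.Agent.Lib.Helper21.FreeAb
  Groth.Agent.Lib.Helper21.TorsFree Groth.Agent.Lib.Seat4.HypA Groth.Agent.Lib.Seat4.HypD

section Site

variable {C : Type u} [SmallCategory C] {J : GrothendieckTopology C} (R : Sheaf J RingCat.{u})

/-- sections of a module over `U` as morphisms out of `R ⊗ ℤ_U`. -/
noncomputable def sectEquiv (U : C) (M : SheafOfModules.{u} R) :
    ((SheafOfModules.toSheaf R).obj M).obj.obj (op U) ≃+ ((frModR R).obj U ⟶ M) :=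
  (CohFree.homEquivSect J U ((SheafOfModules.toSheaf R).obj M)).symm.trans
    ((freeShRAdj R).homAddEquiv (CohCx.freeSheaf J U) M).symm

lemma sectEquiv_apply (U : C) (M : SheafOfModules.{u} R)
    (s : ((SheafOfModules.toSheaf R).obj M).obj.obj (op U)) :
    sectEquiv R U M s = ((freeShRAdj R).homEquiv (CohCx.freeSheaf J U) M).symm
      (CohFree.ofSect J U ((SheafOfModules.toSheaf R).obj M) s) := rfl

lemma sectEquiv_comm (U : C) {M M' : SheafOfModules.{u} R} (φ : M ⟶ M')
    (s : ((SheafOfModules.toSheaf R).obj M).obj.obj (op U)) :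
    sectEquiv R U M' ((((SheafOfModules.toSheaf R).map φ).hom.app (op U)).hom s) =
      sectEquiv R U M s ≫ φ := by
  rw [sectEquiv_apply, sectEquiv_apply, ofSect_comp]
  exact (freeShRAdj R).homEquiv_naturality_right_symm _ _

/-- vanishing of `R^1 lim` of sections gives vanishing of `R^1 lim` of `Hom(R ⊗ ℤ_U, F_n)`. -/
lemma limOneIsZero_hom_frModR (U : C) (F : ℕ → SheafOfModules.{u} R) (t : ∀ n, F (n + 1) ⟶ F n)
    (h2 : CohCx.LimOneIsZero (fun n => ((SheafOfModules.toSheaf R).obj (F n)).obj.obj (op U))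
      (fun n => (((SheafOfModules.toSheaf R).map (t n)).hom.app (op U)).hom)) :
    CohCx.LimOneIsZero (fun n => ((frModR R).obj U ⟶ F n))
      (fun n => Preadditive.rightComp ((frModR R).obj U) (t n)) :=
  limOneIsZero_of_surjective_map _ _ (fun n => (sectEquiv R U (F n)).toAddMonoidHom)
    (fun n => (sectEquiv R U (F n)).surjective) (fun n x => sectEquiv_comm R U (t n) x) h2

/-- `Hom(R ⊗ ℤ_U [0], M[j]) = 0` if `H^j(U, M) = 0`. -/
theorem subsingleton_hom_frModR [HasDerivedCategory.{w} (SheafOfModules.{u} R)] (U : C)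
    (M : SheafOfModules.{u} R) (p : ℕ)
    (h : Subsingleton (CohSite.HU ((SheafOfModules.toSheaf R).obj M) (p + 1) U)) :
    Subsingleton ((singleFunctor (SheafOfModules.{u} R) 0).obj ((frModR R).obj U) ⟶
      ((singleFunctor (SheafOfModules.{u} R) 0).obj M)⟦((p + 1 : ℕ) : ℤ)⟧) := by
  haveI := Groth.Agent.S0484.result J R
  obtain ⟨e⟩ := nonempty_ext_freeShR_iso R (CohCx.freeSheaf J U) (TF_freeSheaf U) M (p + 1)
  haveI : Subsingleton (Abelian.Ext.{u} ((freeShR R).obj (CohCx.freeSheaf J U)) M (p + 1)) :=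
    @Equiv.subsingleton _ _ (e.addCommGroupIsoToAddEquiv.toEquiv) h
  exact @Equiv.subsingleton _ _ (Abelian.Ext.homEquiv (X := (freeShR R).obj (CohCx.freeSheaf J U))
    (Y := M) (n := p + 1)).symm inferInstance

end Site

section Scheme

variable {X : Scheme.{u}}

/-- `U ↦ O_X ⊗ ℤ_U` with values in `X.Modules`. -/
noncomputable def frX (X : Scheme.{u}) : X.Opens ⥤ X.Modules := frModR X.ringCatSheaf

theorem locFr_frX : LocFr (Opens.grothendieckTopology X) (frX X) := locFr_frModR X.ringCatSheaf

theorem subsingleton_hom_frX [HasDerivedCategory.{w} X.Modules] (U : X.Opens)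
    (M : X.Modules) (p : ℕ)
    (h : Subsingleton (CohSite.HU ((SheafOfModules.toSheaf X.ringCatSheaf).obj M) (p + 1) U)) :
    Subsingleton ((singleFunctor X.Modules 0).obj ((frX X).obj U) ⟶
      ((singleFunctor X.Modules 0).obj M)⟦((p + 1 : ℕ) : ℤ)⟧) := by
  letI inst : HasDerivedCategory.{w} (SheafOfModules.{u} X.ringCatSheaf) :=
    ‹HasDerivedCategory.{w} X.Modules›
  exact subsingleton_hom_frModR X.ringCatSheaf U M p h

lemma limOneIsZero_hom_frX (U : X.Opens) (F : ℕ → X.Modules) (t : ∀ n, F (n + 1) ⟶ F n)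
    (h2 : CohCx.LimOneIsZero
      (fun n => ((SheafOfModules.toSheaf X.ringCatSheaf).obj (F n)).obj.obj (op U))
      (fun n => (((SheafOfModules.toSheaf X.ringCatSheaf).map (t n)).hom.app (op U)).hom)) :
    CohCx.LimOneIsZero (fun n => ((frX X).obj U ⟶ F n))
      (fun n => Preadditive.rightComp ((frX X).obj U) (t n)) :=
  limOneIsZero_hom_frModR X.ringCatSheaf U F t h2

variable [HasDerivedCategory.{w} X.Modules]

/-- For a tower of quasi-coherent modules with eventually surjective transition maps, `lim F_n`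
is the derived limit in `D(O_X)`, via the projections. -/
theorem isRlimVia_limit (F : ℕ → X.Modules) (t : ∀ n, F (n + 1) ⟶ F n)
    (hF : ∀ n, Coh.IsQCoh (F n)) (ht : ∀ n, 1 ≤ n → Epi (t n))
    [HasProduct fun n => (singleFunctor X.Modules 0).obj (F n)] :
    CohCx.IsRlimVia (fun n => (singleFunctor X.Modules 0).obj (F n))
      (fun n => (singleFunctor X.Modules 0).map (t n))
      ((singleFunctor X.Modules 0).obj (limit (CohCx.opSequence F t)))
      (fun n => (singleFunctor X.Modules 0).map (limit.π (CohCx.opSequence F t) (op n))) := by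
  refine Groth.Agent.Lib.Seat4.RlimGen.rlim_of_acyclic_via (locFr_frX (X := X)) F t
    X.affineOpens (covers_of_isBasis (X := X.carrier) X.affineOpens X.isBasis_affineOpens) ?_ ?_
  · intro U hU n j hj
    obtain ⟨p, rfl⟩ : ∃ p : ℕ, j = ((p + 1 : ℕ) : ℤ) := ⟨(j - 1).toNat, by omega⟩
    apply subsingleton_hom_frX U (F n) p
    haveI : (F n).IsQuasicoherent := hF n
    exact Groth.Agent.Lib.Helper23.AffVanish.subsingleton_HE_of_isAffineOpen hU (F n) p
  · intro U hU
    apply limOneIsZero_hom_frX
    apply Groth.Agent.Lib.Seat4.QcLimTail.limOneIsZero_of_tail_surjective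
    intro n hn
    haveI : (F n).IsQuasicoherent := hF n
    haveI : (F (n + 1)).IsQuasicoherent := hF (n + 1)
    haveI := ht n hn
    exact Groth.Agent.Lib.Helper23.FinType.surjective_app_of_epi (t n) hU

end Scheme

end Groth.Agent.Lib.Seat4.RlimMod
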