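import Groth.Agent.Lib.Seat4LimCx
import Groth.Agent.Lib.Seat4HypC
import Mathlib.CategoryTheory.Abelian.Refinements

/-!
# Cohomology sheaves of complexes of sheaves via sections over a covering class (seat 4)

* `isIso_homologyMap_of_local`: abstract criterion (in terms of maps from the objects `fr V`).
* `isIso_homologyMap_of_sections`: a map of complexes of abelian sheaves inducing isomorphisms on
  the cohomology of the complexes of sections over every member of a covering class induces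
  an isomorphism of cohomology sheaves.
* `isIso_homologyMap_limit_π`: the limit of an inverse system of complexes of sheaves.
-/

set_option autoImplicit false

universe w w' v v' u u'

open CategoryTheory CategoryTheory.Limits Opposite

namespace Groth.Agent.Lib.Seat4.ShHom

open Groth.Agent.Lib.Helper17.Hyp Groth.Agent.Lib.Seat4.HypA

section Abs

variable {A : Type (v + 1)} [Category.{v} A] [Abelian A]
  {C : Type u'} [Category.{v'} C]
  {J : GrothendieckTopology C} {fr : C ⥤ A}
  {ι : Type*} {c : ComplexShape ι}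

/-- a cycle whose class vanishes is locally a boundary. -/
theorem exists_local_boundary (h : LocFr J fr) (G : HomologicalComplex A c) (i n : ι)
    (hi : c.prev n = i) (V : C) (z : fr.obj V ⟶ G.cycles n) (hz : z ≫ G.homologyπ n = 0) :
    ∃ T ∈ J V, ∀ ⦃W : C⦄ (g : W ⟶ V), T g →
      ∃ w : fr.obj W ⟶ G.X i, w ≫ G.toCycles i n = fr.map g ≫ z := by
  have hS : (ShortComplex.mk (G.toCycles i n) (G.homologyπ n)
      (G.toCycles_comp_homologyπ i n)).Exact :=
    ShortComplex.exact_of_g_is_cokernel _ (G.homologyIsCokernel i n hi)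
  obtain ⟨A', π, hπ, x₁, fac⟩ := (ShortComplex.exact_iff_exact_up_to_refinements _).1 hS z hz
  obtain ⟨T, hT, hT'⟩ := h.lift π V (𝟙 _)
  refine ⟨T, hT, fun W g hg => ?_⟩
  obtain ⟨s', hs'⟩ := hT' g hg
  refine ⟨s' ≫ x₁, ?_⟩
  dsimp only at fac
  rw [Category.assoc, ← fac, ← Category.assoc, hs', Category.comp_id]

/-- abstract criterion for `H^n(φ)` to be an isomorphism. -/
theorem isIso_homologyMap_of_local (h : LocFr J fr) {G G' : HomologicalComplex A c}
    (φ : G ⟶ G') (i n j : ι) (hi : c.prev n = i) (hj : c.next n = j)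
    (good : C → Prop)
    (hcov : ∀ (U : C) (T : Sieve U), T ∈ J U → ∃ R : Presieve U, R ≤ T ∧
      Sieve.generate R ∈ J U ∧ ∀ ⦃V : C⦄ (g : V ⟶ U), R g → good V)
    (hinj : ∀ V, good V → ∀ (x : fr.obj V ⟶ G.X n), x ≫ G.d n j = 0 →
      ∀ (w' : fr.obj V ⟶ G'.X i), w' ≫ G'.d i n = x ≫ φ.f n →
      ∃ w : fr.obj V ⟶ G.X i, w ≫ G.d i n = x)
    (hsurj : ∀ V, good V → ∀ (y : fr.obj V ⟶ G'.X n), y ≫ G'.d n j = 0 →
      ∃ (x : fr.obj V ⟶ G.X n) (_ : x ≫ G.d n j = 0) (w' : fr.obj V ⟶ G'.X i),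
        x ≫ φ.f n = y + w' ≫ G'.d i n) :
    IsIso (HomologicalComplex.homologyMap φ n) := by
  have hmono : Mono (HomologicalComplex.homologyMap φ n) := by
    apply Preadditive.mono_of_cancel_zero
    intro E g₀ hg₀
    apply h.gen
    intro U s₀
    have hs₁ : (s₀ ≫ g₀) ≫ HomologicalComplex.homologyMap φ n = 0 := by
      rw [Category.assoc, hg₀, comp_zero]
    generalize s₀ ≫ g₀ = s₁ at hs₁
    obtain ⟨T, hT, hT'⟩ := h.lift (G.homologyπ n) U s₁
    obtain ⟨R, hRT, hR, hR'⟩ := hcov U T hT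
    refine h.zero_of_generate U s₁ R hR ?_
    intro V f hf
    obtain ⟨z, hz⟩ := hT' f (hRT _ _ hf)
    have hz' : (z ≫ HomologicalComplex.cyclesMap φ n) ≫ G'.homologyπ n = 0 := by
      rw [Category.assoc, ← HomologicalComplex.homologyπ_naturality, ← Category.assoc, hz,
        Category.assoc, hs₁, comp_zero]
    obtain ⟨T', hT'm, hT''⟩ := exists_local_boundary h G' i n hi V _ hz'
    obtain ⟨R', hR'T, hR'm, hR'g⟩ := hcov V T' hT'm
    refine h.zero_of_generate V _ R' hR'm ?_
    intro W g hg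
    obtain ⟨w', hw'⟩ := hT'' g (hR'T _ _ hg)
    obtain ⟨w, hw⟩ := hinj W (hR'g g hg) (fr.map g ≫ z ≫ G.iCycles n)
      (by rw [Category.assoc, Category.assoc, G.iCycles_d, comp_zero, comp_zero]) w' (by
        have := congrArg (fun κ => κ ≫ G'.iCycles n) hw'
        rw [Category.assoc, G'.toCycles_i, Category.assoc, Category.assoc,
          HomologicalComplex.cyclesMap_i] at this
        rw [this, Category.assoc, Category.assoc])
    have hgz : fr.map g ≫ z = w ≫ G.toCycles i n := by
      rw [← cancel_mono (G.iCycles n), Category.assoc, Category.assoc, G.toCycles_i, hw]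
    rw [← hz, ← Category.assoc, hgz, Category.assoc, G.toCycles_comp_homologyπ, comp_zero]
  have hepi : Epi (HomologicalComplex.homologyMap φ n) := by
    apply epi_of_local_lift h
    intro U s
    obtain ⟨T, hT, hT'⟩ := h.lift (G'.homologyπ n) U s
    obtain ⟨R, hRT, hR, hR'⟩ := hcov U T hT
    refine ⟨R, hR, fun V f hf => ?_⟩
    obtain ⟨z', hz'⟩ := hT' f (hRT _ _ hf)
    obtain ⟨x, hx, w', hxw⟩ := hsurj V (hR' f hf) (z' ≫ G'.iCycles n)
      (by rw [Category.assoc, G'.iCycles_d, comp_zero])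
    refine ⟨G.liftCycles x j hj hx ≫ G.homologyπ n, ?_⟩
    have hc : G.liftCycles x j hj hx ≫ HomologicalComplex.cyclesMap φ n =
        z' + w' ≫ G'.toCycles i n := by
      rw [← cancel_mono (G'.iCycles n), Category.assoc, HomologicalComplex.cyclesMap_i,
        G.liftCycles_i_assoc, hxw, Preadditive.add_comp, Category.assoc, G'.toCycles_i]
    rw [Category.assoc, HomologicalComplex.homologyπ_naturality, ← Category.assoc, hc,
      Preadditive.add_comp, Category.assoc, G'.toCycles_comp_homologyπ, comp_zero, add_zero, hz']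
  exact isIso_of_mono_of_epi _

end Abs

section Ab

lemma limOneIsZero_congr {A : ℕ → Type w} [∀ n, AddCommGroup (A n)]
    {t t' : ∀ n, A (n + 1) →+ A n} (h : ∀ n x, t n x = t' n x)
    (H : CohCx.LimOneIsZero A t) : CohCx.LimOneIsZero A t' := by
  intro b
  obtain ⟨a, ha⟩ := H b
  refine ⟨a, funext fun n => ?_⟩
  dsimp only
  rw [← h]
  exact congrFun ha n

end Ab

section Sheaf

open Groth.Agent.Lib.Seat4.AbHomB Groth.Agent.Lib.Seat4.LimCx

variable {C : Type u} [SmallCategory C] {J : GrothendieckTopology C}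

/-- maps `ℤ_V ⟶ G^n` as sections of `G^n` over `V`. -/
noncomputable def sec (G : CochainComplex (Sheaf J AddCommGrpCat.{u}) ℤ) (V : C) (n : ℤ) :
    (CohCx.freeSheaf J V ⟶ G.X n) ≃+ ((CohCx.sectCx J V).obj G).X n :=
  CohFree.homEquivSect J V (G.X n)

lemma sec_d (G : CochainComplex (Sheaf J AddCommGrpCat.{u}) ℤ) (V : C) (a b : ℤ)
    (x : CohCx.freeSheaf J V ⟶ G.X a) :
    sec G V b (x ≫ G.d a b) = ((CohCx.sectCx J V).obj G).d a b (sec G V a x) := rfl

lemma sec_map {G G' : CochainComplex (Sheaf J AddCommGrpCat.{u}) ℤ} (φ : G ⟶ G') (V : C) (n : ℤ)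
    (x : CohCx.freeSheaf J V ⟶ G.X n) :
    sec G' V n (x ≫ φ.f n) = ((CohCx.sectCx J V).map φ).f n (sec G V n x) := rfl

/-- a map of complexes of abelian sheaves which induces isomorphisms on `H^m` of sections over
all members of a covering class induces an isomorphism on the `m`-th cohomology sheaves. -/
theorem isIso_homologyMap_of_sections {G G' : CochainComplex (Sheaf J AddCommGrpCat.{u}) ℤ}
    (φ : G ⟶ G') (m : ℤ) (B : Set C) (hB : Covers J B)
    (hiso : ∀ V ∈ B, IsIso (HomologicalComplex.homologyMap ((CohCx.sectCx J V).map φ) m)) :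
    IsIso (HomologicalComplex.homologyMap φ m) := by
  have hinj : ∀ V, V ∈ B → ∀ (x : CohCx.freeSheaf J V ⟶ G.X m), x ≫ G.d m (m + 1) = 0 →
      ∀ (w' : CohCx.freeSheaf J V ⟶ G'.X (m - 1)), w' ≫ G'.d (m - 1) m = x ≫ φ.f m →
      ∃ w : CohCx.freeSheaf J V ⟶ G.X (m - 1), w ≫ G.d (m - 1) m = x := by
    intro V hV x hx w' hw'
    have hb := (ConcreteCategory.isIso_iff_bijective _).1 (hiso V hV)
    obtain ⟨y', hy'⟩ := exists_of_injective_homologyMap ((CohCx.sectCx J V).map φ) (m - 1) m
      (m + 1) (by simp) (by simp) hb.1 (sec G V m x)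
      (by rw [← sec_d, hx, map_zero]) (sec G' V (m - 1) w') (by rw [← sec_d, hw', sec_map])
    refine ⟨(sec G V (m - 1)).symm y', ?_⟩
    apply (sec G V m).injective
    rw [sec_d, AddEquiv.apply_symm_apply, hy']
  have hsurj : ∀ V, V ∈ B → ∀ (y : CohCx.freeSheaf J V ⟶ G'.X m), y ≫ G'.d m (m + 1) = 0 →
      ∃ (x : CohCx.freeSheaf J V ⟶ G.X m) (_ : x ≫ G.d m (m + 1) = 0)
        (w' : CohCx.freeSheaf J V ⟶ G'.X (m - 1)), x ≫ φ.f m = y + w' ≫ G'.d (m - 1) m := by
    intro V hV y hy
    have hb := (ConcreteCategory.isIso_iff_bijective _).1 (hiso V hV)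
    obtain ⟨x, hx, w, hw⟩ := exists_of_surjective_homologyMap ((CohCx.sectCx J V).map φ) (m - 1) m
      (m + 1) (by simp) (by simp) hb.2 (sec G' V m y) (by rw [← sec_d, hy, map_zero])
    refine ⟨(sec G V m).symm x, ?_, (sec G' V (m - 1)).symm w, ?_⟩
    · apply (sec G V (m + 1)).injective
      rw [sec_d, AddEquiv.apply_symm_apply, hx, map_zero]
    · apply (sec G' V m).injective
      rw [sec_map, AddEquiv.apply_symm_apply, hw, map_add, sec_d, AddEquiv.apply_symm_apply]
  exact isIso_homologyMap_of_local (locFr_frSh J) φ (m - 1) m (m + 1) (by simp) (by simp)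
    (fun V => V ∈ B)
    (fun U T hT => ⟨presieveIn B T, presieveIn_le B T, generate_presieveIn_mem hB T hT,
      fun V g hg => hg.1⟩) hinj hsurj

lemma opSequence_map_eq_transition {D : Type u'} [Category.{v'} D] (F : ℕ → D)
    (t : ∀ n, F (n + 1) ⟶ F n) (n₀ k : ℕ) :
    (CohCx.opSequence F t).map (homOfLE (Nat.le_add_right n₀ k)).op =
      CohCx.transition F t n₀ k := by
  induction k with
  | zero =>
    change (CohCx.opSequence F t).map (homOfLE (le_refl n₀)).op = 𝟙 _
    rw [show (homOfLE (le_refl n₀)).op = 𝟙 (op n₀) from Subsingleton.elim _ _,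
      CategoryTheory.Functor.map_id]
  | succ k ih =>
    have h1 : (homOfLE (Nat.le_add_right n₀ (k + 1))).op =
        (homOfLE (Nat.le_succ (n₀ + k))).op ≫ (homOfLE (Nat.le_add_right n₀ k)).op :=
      Subsingleton.elim _ _
    rw [h1, Functor.map_comp, ih]
    have h2 : (CohCx.opSequence F t).map (homOfLE (Nat.le_succ (n₀ + k))).op = t (n₀ + k) :=
      Functor.ofOpSequence_map_homOfLE_succ t (n₀ + k)
    rw [h2]
    rfl

/-- the cohomology sheaf of a limit of complexes of sheaves. -/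
theorem isIso_homologyMap_limit_π (F : ℕ → CochainComplex (Sheaf J AddCommGrpCat.{u}) ℤ)
    (t : ∀ n, F (n + 1) ⟶ F n) (m : ℤ) (B : Set C) (hB : Covers J B) (n₀ : ℕ)
    (ha : ∀ U ∈ B, ∀ j : ℤ, (j = m - 2 ∨ j = m - 1) →
      CohCx.LimOneIsZero (fun n => ((F n).X j).obj.obj (op U))
        (fun n => (((t n).f j).hom.app (op U)).hom))
    (hb : ∀ U ∈ B, CohCx.LimOneIsZero
      (fun n => ((CohCx.sectCx J U).obj (F n)).homology (m - 1))
      (fun n => (HomologicalComplex.homologyMap ((CohCx.sectCx J U).map (t n)) (m - 1)).hom))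
    (hc : ∀ U ∈ B, ∀ k : ℕ, IsIso (HomologicalComplex.homologyMap
      ((CohCx.sectCx J U).map (CohCx.transition F t n₀ k)) m)) :
    IsIso (HomologicalComplex.homologyMap (limit.π (CohCx.opSequence F t) (op n₀)) m) := by
  apply isIso_homologyMap_of_sections _ m B hB
  intro V hV
  let G : ℕᵒᵖ ⥤ CochainComplex (Sheaf J AddCommGrpCat.{u}) ℤ := CohCx.opSequence F t
  let K : ℕᵒᵖ ⥤ HomologicalComplex AddCommGrpCat.{u} (ComplexShape.up ℤ) :=
    G ⋙ CohCx.sectCx J V
  have hsucc : ∀ i : ℕ, G.map (homOfLE (Nat.le_succ i)).op = t i := fun i =>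
    Functor.ofOpSequence_map_homOfLE_succ t i
  have hT : ∀ i : ℕ, T K (Nat.le_succ i) = (CohCx.sectCx J V).map (t i) := fun i => by
    change (CohCx.sectCx J V).map (G.map (homOfLE (Nat.le_succ i)).op) = _
    rw [hsucc]
    rfl
  have hA : ∀ j : ℤ, (j = m - 2 ∨ j = m - 1) → HA K j := fun j hj =>
    limOneIsZero_congr (fun i x => by rw [hT]; rfl) (ha V hV j hj)
  have hB' : HB K (m - 1) :=
    limOneIsZero_congr (fun i x => by rw [hT]; rfl) (hb V hV)
  have hC : HC K m n₀ := by
    intro N h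
    obtain ⟨k, rfl⟩ := Nat.exists_eq_add_of_le h
    have h1 : T K h = (CohCx.sectCx J V).map (CohCx.transition F t n₀ k) := by
      change (CohCx.sectCx J V).map (G.map (homOfLE h).op) = _
      rw [← opSequence_map_eq_transition]
      rfl
    rw [h1]
    exact (ConcreteCategory.isIso_iff_bijective _).1 (hc V hV k)
  have hbij := bijective_homologyMap_limit_π K m n₀ (hA _ (Or.inl rfl)) (hA _ (Or.inr rfl)) hB' hC
  have : IsIso (HomologicalComplex.homologyMap (limit.π K (op n₀)) m) :=
    (ConcreteCategory.isIso_iff_bijective _).2 hbij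
  have he : (preservesLimitIso (CohCx.sectCx J V) G).hom ≫ limit.π K (op n₀) =
      (CohCx.sectCx J V).map (limit.π G (op n₀)) := preservesLimitIso_hom_π _ _ _
  rw [← he, HomologicalComplex.homologyMap_comp]
  infer_instance

end Sheaf

end Groth.Agent.Lib.Seat4.ShHom
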