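import Groth.Agent.Lib.Seat28DAdj
import Groth.Agent.Lib.Seat28RDExist
import Groth.Prelude.Def_DCoh2

/-!
# The derived adjunction `tildeD ⊣ RΓ` on `Spec R` (seat 4)

`M ↦ M~` is exact, so it induces `tildeD R : D(R) ⥤ D(O_{Spec R})`; its right adjoint is the total right
derived functor of the global sections functor `moduleSpecΓFunctor`.
-/

set_option autoImplicit false
set_option linter.style.haveILetI false
universe u
open CategoryTheory CategoryTheory.Limits AlgebraicGeometry HomologicalComplex

attribute [local instance] HasDerivedCategory.standard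

namespace Groth.Agent.Lib.Seat4.TildeAdj

open Groth.Agent.Lib.Seat28.RD Groth.Agent.Lib.Seat28.RDExist

variable (R : CommRingCat.{u}) [PreservesFiniteLimits (tilde.functor R)]

/-- global sections as an `R`-module. -/
noncomputable abbrev Γm : (Spec (CommRingCat.of R)).Modules ⥤ ModuleCat.{u} R :=
  moduleSpecΓFunctor (R := R)

instance : (Γm R).Additive := (tilde.adjunction (R := R)).right_adjoint_additive

instance : PreservesFiniteColimits (tilde.functor R) := inferInstance

instance hasRΓm : (Kh (Γm R)).HasRightDerivedFunctor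
    (HomotopyCategory.quasiIso (Spec (CommRingCat.of R)).Modules (ComplexShape.up ℤ)) :=
  hasRightDerivedFunctor_Kh.{u} (Γm R)

/-- `RΓ(Spec R, -) : D(O_{Spec R}) ⥤ D(R)`. -/
noncomputable abbrev RΓm : DCoh.D (Spec (CommRingCat.of R)) ⥤ DerivedCategory (ModuleCat.{u} R) :=
  RFun (Γm R)

/-- the counit-type datum exhibiting `tildeD` as a left derived functor. -/
noncomputable def tildeα :
    DerivedCategory.Q ⋙ DCoh.tildeD R ⟶
      (tilde.functor R).mapHomologicalComplex (ComplexShape.up ℤ) ⋙ DerivedCategory.Q :=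
  (tilde.functor R).mapDerivedCategoryFactors.hom

instance : (DCoh.tildeD R).IsLeftDerivedFunctor (tildeα R)
    (HomologicalComplex.quasiIso (ModuleCat.{u} R) (ComplexShape.up ℤ)) :=
  Functor.isLeftDerivedFunctor_of_inverts _ _ (tilde.functor R).mapDerivedCategoryFactors

lemma isLeftDerivedFunctor_tildeD_comp {H : Type*} [Category H]
    (Ψ : DCoh.D (Spec (CommRingCat.of R)) ⥤ H) :
    (DCoh.tildeD R ⋙ Ψ).IsLeftDerivedFunctor
      ((Functor.associator _ _ _).inv ≫ Functor.whiskerRight (tildeα R) Ψ)
      (HomologicalComplex.quasiIso (ModuleCat.{u} R) (ComplexShape.up ℤ)) := by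
  have := Functor.isLeftDerivedFunctor_of_inverts
    (HomologicalComplex.quasiIso (ModuleCat.{u} R) (ComplexShape.up ℤ))
    (L := DerivedCategory.Q) (DCoh.tildeD R ⋙ Ψ)
    ((Functor.associator _ _ _).symm ≪≫
      Functor.isoWhiskerRight (tilde.functor R).mapDerivedCategoryFactors Ψ)
  exact this

/-- the derived adjunction `tildeD ⊣ RΓ`. -/
noncomputable def dadj : DCoh.tildeD R ⊣ RΓm R :=
  haveI := isLeftDerivedFunctor_tildeD_comp R (RΓm R)
  haveI := isRightDerivedFunctor_postGen.{u} (Γm R) (DCoh.tildeD R)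
  (Groth.Agent.Lib.Helper17.SerreLoc.adjHC (tilde.adjunction (R := R)) (ComplexShape.up ℤ)).derived
    (HomologicalComplex.quasiIso (ModuleCat.{u} R) (ComplexShape.up ℤ))
    (HomologicalComplex.quasiIso (Spec (CommRingCat.of R)).Modules (ComplexShape.up ℤ))
    (tildeα R) (unitC (Γm R))

end Groth.Agent.Lib.Seat4.TildeAdj
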