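import Groth.Agent.Lib.Seat4RlimMod

/-!
# `E = R lim τ_{≥ -n} E` for `E ∈ D_QCoh(O_X)` (seat 4)
-/

set_option autoImplicit false
set_option linter.style.haveILetI false

universe w u

open CategoryTheory CategoryTheory.Limits DerivedCategory Opposite TopologicalSpace
  AlgebraicGeometry

namespace Groth.Agent.Lib.Seat4.TruncMod

open Groth.Agent.Lib.Helper17.Hyp Groth.Agent.Lib.Seat4.HypA Groth.Agent.Lib.Seat4.HypD
  Groth.Agent.Lib.Seat4.RlimMod

variable {X : Scheme.{u}} [HasDerivedCategory.{w} X.Modules]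

/-- acyclicity of `O_X ⊗ ℤ_U`, `U` affine, for the cohomology sheaves of `E ∈ D_QCoh(O_X)`. -/
lemma vanishAbove_of_isQCoh (E : DerivedCategory X.Modules)
    (hE : ∀ i : ℤ, Coh.IsQCoh ((homologyFunctor X.Modules i).obj E))
    (U : X.Opens) (hU : IsAffineOpen U) :
    VanishAbove ((singleFunctor X.Modules 0).obj ((frX X).obj U)) E (fun _ => 0) := by
  intro m k hk
  have hk' : 0 < k := by
    have : (0 : ℤ) < (k : ℤ) := hk
    exact_mod_cast this
  obtain ⟨p, rfl⟩ : ∃ p : ℕ, k = p + 1 := ⟨k - 1, by omega⟩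
  apply subsingleton_hom_frX U _ p
  haveI : ((homologyFunctor X.Modules (m - ((p + 1 : ℕ) : ℤ))).obj E).IsQuasicoherent := hE _
  exact Groth.Agent.Lib.Helper23.AffVanish.subsingleton_HE_of_isAffineOpen hU _ p

/-- `E = R lim τ_{≥ -n} E` for `E` with quasi-coherent cohomology sheaves. -/
theorem isRlimVia_truncTower (E : DerivedCategory X.Modules)
    (hE : ∀ i : ℤ, Coh.IsQCoh ((homologyFunctor X.Modules i).obj E))
    [HasProduct (CohCx.truncTower E)] :
    CohCx.IsRlimVia (CohCx.truncTower E) (CohCx.truncTowerMap E) E (CohCx.toTruncTower E) := by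
  haveI : IsGrothendieckAbelian.{u} X.Modules :=
    Groth.Agent.S0484.result (Opens.grothendieckTopology X) X.ringCatSheaf
  have hB : Covers (Opens.grothendieckTopology X) X.affineOpens :=
    covers_of_isBasis (X := X.carrier) X.affineOpens X.isBasis_affineOpens
  apply isRlimVia_truncTower_of_cofinal (fr := frX X) locFr_frX E
  intro U
  refine ⟨presieveIn X.affineOpens ⊤, generate_presieveIn_mem hB ⊤
    ((Opens.grothendieckTopology X).top_mem U), ?_⟩
  intro V g hg
  refine ⟨fun _ => 0, fun T hT => ?_⟩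
  refine ⟨presieveIn X.affineOpens T, presieveIn_le X.affineOpens T,
    generate_presieveIn_mem hB T hT, ?_⟩
  intro W g' hg'
  exact vanishAbove_of_isQCoh E hE W hg'.1

end Groth.Agent.Lib.Seat4.TruncMod
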