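import Mathlib

/-!
# `R[1/s] ≃ R_(s)[T, T⁻¹]` for a homogeneous element `s` of degree one in an `ℕ`-graded domain
-/

namespace Groth.Agent.Lib.Seat50.AwayLaurent

open HomogeneousLocalization Polynomial

variable {A σ : Type*} [CommRing A] [IsDomain A] [SetLike σ A] [AddSubgroupClass σ A]
  (𝒜 : ℕ → σ) [GradedRing 𝒜] {s : A}

/-- The unit of `Localization.Away s` given by `s`. -/
noncomputable def sUnit (s : A) : (Localization.Away s)ˣ :=
  (IsLocalization.map_units (Localization.Away s) (⟨s, 1, pow_one s⟩ : Submonoid.powers s)).unit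

omit [IsDomain A] in
@[simp] lemma sUnit_val (s : A) : ((sUnit s : (Localization.Away s)ˣ) : Localization.Away s) =
    algebraMap A (Localization.Away s) s := rfl

lemma algebraMap_injective (hs0 : s ≠ 0) :
    Function.Injective (algebraMap A (Localization.Away s)) :=
  IsLocalization.injective _ (Submonoid.powers_le.mpr (mem_nonZeroDivisors_of_ne_zero hs0))

/-- `s` is transcendental over the degree-zero localization. -/
theorem eq_zero_of_eval₂_eq_zero (hs : s ∈ 𝒜 1) (hs0 : s ≠ 0) (p : (Away 𝒜 s)[X])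
    (h : Polynomial.eval₂ (algebraMap (Away 𝒜 s) (Localization.Away s))
      (algebraMap A (Localization.Away s) s) p = 0) : p = 0 := by
  classical
  by_contra hp
  set L := Localization.Away s
  set ι := algebraMap A L with hι
  have hinj : Function.Injective ι := algebraMap_injective hs0
  set c : ℕ → Away 𝒜 s := fun j => p.coeff j with hc
  set n : ℕ → A := fun j => (c j).num with hn
  set d : ℕ → A := fun j => (c j).den with hd
  set g : ℕ → ℕ := fun j => (c j).deg with hg
  have hdpow : ∀ j, d j ∈ Submonoid.powers s := fun j => (c j).den_mem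
  have hd0 : ∀ j, d j ≠ 0 := by
    intro j
    obtain ⟨m, hm⟩ := hdpow j
    have hm' : s ^ m = d j := hm
    rw [← hm']
    exact pow_ne_zero _ hs0
  have hdval : ∀ j, ι (d j) * (c j).val = ι (n j) := by
    intro j
    have := (c j).den_smul_val
    rw [Algebra.smul_def] at this
    exact this
  have hdmem : ∀ j, d j ∈ 𝒜 (g j) := fun j => (c j).den_mem_deg
  have hnmem : ∀ j, n j ∈ 𝒜 (g j) := fun j => (c j).num_mem_deg
  set D : A := ∏ i ∈ p.support, d i with hD
  set D' : ℕ → A := fun j => ∏ i ∈ p.support.erase j, d i with hD'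
  set N : ℕ := ∑ i ∈ p.support, g i with hN
  set t : ℕ → A := fun j => D' j * n j * s ^ j with ht
  have hDD' : ∀ j ∈ p.support, d j * D' j = D := fun j hj => Finset.mul_prod_erase _ _ hj
  have hsum : ∑ j ∈ p.support, t j = 0 := by
    apply hinj
    rw [map_zero, map_sum]
    have h1 : ι D * Polynomial.eval₂ (algebraMap (Away 𝒜 s) L) (ι s) p = 0 := by
      rw [h, mul_zero]
    rw [Polynomial.eval₂_eq_sum, Polynomial.sum_def, Finset.mul_sum] at h1
    rw [← h1]
    refine Finset.sum_congr rfl (fun j hj => ?_)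
    rw [ht]
    simp only [map_mul, map_pow]
    rw [← hDD' j hj, map_mul, ← hdval j]
    have e : (algebraMap (Away 𝒜 s) L) (p.coeff j) = (c j).val := rfl
    rw [e]
    ring
  have htmem : ∀ j ∈ p.support, t j ∈ 𝒜 (N + j) := by
    intro j hj
    have h1 : D' j ∈ 𝒜 (∑ i ∈ p.support.erase j, g i) :=
      SetLike.prod_mem_graded _ _ _ (fun i _ => hdmem i)
    have h2 : s ^ j ∈ 𝒜 (j • 1) := SetLike.pow_mem_graded j hs
    have h3 : t j ∈ 𝒜 ((∑ i ∈ p.support.erase j, g i) + g j + j • 1) :=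
      SetLike.mul_mem_graded (SetLike.mul_mem_graded h1 (hnmem j)) h2
    have h4 : (∑ i ∈ p.support.erase j, g i) + g j + j • 1 = N + j := by
      rw [hN, ← Finset.add_sum_erase _ _ hj]
      simp only [smul_eq_mul, mul_one]
      ring
    rw [h4] at h3
    exact h3
  have hp' : p.support.Nonempty := by
    rw [Finset.nonempty_iff_ne_empty]
    intro h0
    exact hp (Polynomial.support_eq_empty.mp h0)
  obtain ⟨j₁, hj₁⟩ := hp'
  have htj₁ : t j₁ = 0 := by
    have h1 := congrArg (GradedRing.proj 𝒜 (N + j₁)) hsum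
    rw [map_zero, map_sum, Finset.sum_eq_single j₁] at h1
    · rw [GradedRing.proj_apply, DirectSum.decompose_of_mem_same 𝒜 (htmem j₁ hj₁)] at h1
      exact h1
    · intro j hj hne
      rw [GradedRing.proj_apply]
      apply DirectSum.decompose_of_mem_ne 𝒜 (htmem j hj)
      intro h2
      exact hne (Nat.add_left_cancel h2)
    · intro h2
      exact absurd hj₁ h2
  have hD'0 : D' j₁ ≠ 0 := Finset.prod_ne_zero_iff.mpr (fun i _ => hd0 i)
  have hn0 : n j₁ = 0 := by
    rw [ht] at htj₁
    simp only [mul_eq_zero, pow_eq_zero_iff', hs0, false_and, or_false] at htj₁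
    exact htj₁.resolve_left hD'0
  have hc0 : c j₁ = 0 := by
    apply HomogeneousLocalization.val_injective
    rw [HomogeneousLocalization.val_zero, (c j₁).eq_num_div_den]
    show Localization.mk (n j₁) _ = 0
    rw [hn0, Localization.mk_zero]
  exact (Polynomial.mem_support_iff.mp hj₁) hc0

/-- The comparison map `R_(s)[T, T⁻¹] → R[1/s]`. -/
noncomputable def toAway (s : A) : LaurentPolynomial (Away 𝒜 s) →+* Localization.Away s :=
  LaurentPolynomial.eval₂ (algebraMap (Away 𝒜 s) (Localization.Away s)) (sUnit s)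

theorem toAway_injective (hs : s ∈ 𝒜 1) (hs0 : s ≠ 0) : Function.Injective (toAway 𝒜 s) := by
  rw [injective_iff_map_eq_zero]
  intro f hf
  obtain ⟨m, f', hf'⟩ := LaurentPolynomial.exists_T_pow f
  have h1 : toAway 𝒜 s (Polynomial.toLaurent f') = 0 := by
    rw [hf', map_mul, hf, zero_mul]
  have h2 : f' = 0 := by
    apply eq_zero_of_eval₂_eq_zero 𝒜 hs hs0 f'
    rw [toAway, LaurentPolynomial.eval₂_toLaurent] at h1
    exact h1
  rw [h2, map_zero] at hf'
  have h3 : f * LaurentPolynomial.T (m : ℤ) * LaurentPolynomial.T (-(m : ℤ)) = 0 := by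
    rw [← hf', zero_mul]
  rw [LaurentPolynomial.mul_T_assoc, add_neg_cancel, LaurentPolynomial.T_zero, mul_one] at h3
  exact h3

theorem algebraMap_mem_range_of_mem (hs : s ∈ 𝒜 1) {i : ℕ} {r : A} (hr : r ∈ 𝒜 i) :
    algebraMap A (Localization.Away s) r ∈ (toAway 𝒜 s).range := by
  have hr' : r ∈ 𝒜 (i • 1) := by simpa using hr
  refine ⟨LaurentPolynomial.C (Away.mk 𝒜 hs i r hr') * LaurentPolynomial.T (i : ℤ), ?_⟩
  rw [toAway, LaurentPolynomial.eval₂_C_mul_T_n]
  show (Away.mk 𝒜 hs i r hr').val * _ = _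
  rw [Away.val_mk, sUnit_val, ← map_pow, Localization.mk_eq_mk', mul_comm]
  exact IsLocalization.mk'_spec' _ r (⟨s ^ i, i, rfl⟩ : Submonoid.powers s)

theorem algebraMap_mem_range (hs : s ∈ 𝒜 1) (r : A) :
    algebraMap A (Localization.Away s) r ∈ (toAway 𝒜 s).range := by
  classical
  rw [← DirectSum.sum_support_decompose 𝒜 r, map_sum]
  exact Subring.sum_mem _ (fun i _ => algebraMap_mem_range_of_mem 𝒜 hs (SetLike.coe_mem _))

theorem toAway_surjective (hs : s ∈ 𝒜 1) : Function.Surjective (toAway 𝒜 s) := by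
  intro x
  obtain ⟨⟨r, u⟩, hru⟩ := IsLocalization.surj (Submonoid.powers s) x
  simp only at hru
  obtain ⟨m, hm⟩ := u.2
  have hm' : s ^ m = (u : A) := hm
  obtain ⟨y, hy⟩ := algebraMap_mem_range 𝒜 hs r
  refine ⟨y * LaurentPolynomial.T (-(m : ℤ)), ?_⟩
  rw [map_mul, hy, ← hru, toAway, LaurentPolynomial.eval₂_T_neg_n, ← hm', map_pow, mul_assoc,
    ← mul_pow]
  have : algebraMap A (Localization.Away s) s * ((sUnit s)⁻¹ : (Localization.Away s)ˣ) = 1 := by
    rw [← sUnit_val, Units.mul_inv]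
  rw [this, one_pow, mul_one]

/-- `R[1/s] ≃+* R_(s)[T, T⁻¹]`. -/
noncomputable def laurentEquiv (hs : s ∈ 𝒜 1) (hs0 : s ≠ 0) :
    LaurentPolynomial (Away 𝒜 s) ≃+* Localization.Away s :=
  RingEquiv.ofBijective (toAway 𝒜 s) ⟨toAway_injective 𝒜 hs hs0, toAway_surjective 𝒜 hs⟩

/-- If `R_(s)` is a UFD then so is `R[1/s]`. -/
theorem ufm_away (hs : s ∈ 𝒜 1) (hs0 : s ≠ 0) [IsDomain (Away 𝒜 s)]
    [UniqueFactorizationMonoid (Away 𝒜 s)] :
    UniqueFactorizationMonoid (Localization.Away s) := by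
  have h1 : UniqueFactorizationMonoid (Away 𝒜 s)[X] := inferInstance
  have h2 : UniqueFactorizationMonoid (LaurentPolynomial (Away 𝒜 s)) :=
    UniqueFactorizationMonoid.of_isLocalization
      (Submonoid.powers (Polynomial.X : (Away 𝒜 s)[X])) _
  exact (laurentEquiv 𝒜 hs hs0).toMulEquiv.uniqueFactorizationMonoid h2

end Groth.Agent.Lib.Seat50.AwayLaurent
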