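import Mathlib
import Groth.Prelude.Def_CAlgX
import Groth.Prelude.Def_W4bk4grassmannianPl

/-!
# Determinantal ideals as ideals of opposite cells: minors of `[I_d ; Z]`
-/

namespace Groth.Agent.Lib.Seat50.CellMinor

open Matrix W4bk4grassmannian

universe u

/-- Reindexing rows and columns by two different equivalences changes the determinant by a sign. -/
theorem det_submatrix_equiv_equiv {R : Type*} [CommRing R] {n m : Type*} [Fintype n] [DecidableEq n]
    [Fintype m] [DecidableEq m] (e₁ e₂ : n ≃ m) (A : Matrix m m R) :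
    (A.submatrix e₁ e₂).det = ((Equiv.Perm.sign (e₂.symm.trans e₁) : ℤˣ) : ℤ) * A.det := by
  have h : A.submatrix e₁ e₂ = (A.submatrix (e₂.symm.trans e₁) id).submatrix e₂ e₂ := by
    ext i j
    simp
  rw [h, Matrix.det_submatrix_equiv_self, Matrix.det_permute]

theorem det_submatrix_equiv_equiv_mem {R : Type*} [CommRing R] {n m : Type*} [Fintype n]
    [DecidableEq n] [Fintype m] [DecidableEq m] (e₁ e₂ : n ≃ m) (A : Matrix m m R) (I : Ideal R) :
    (A.submatrix e₁ e₂).det ∈ I ↔ A.det ∈ I := by
  rw [det_submatrix_equiv_equiv]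
  apply Ideal.unit_mul_mem_iff_mem
  have : IsUnit (((Equiv.Perm.sign (e₂.symm.trans e₁) : ℤˣ) : ℤ)) := Units.isUnit _
  exact_mod_cast this.map (Int.castRingHom R)

/-- Minors of size `≥ t` lie in the ideal of `t`-minors. -/
theorem det_submatrix_mem_minorIdeal {R : Type*} [CommRing R] {m n : Type} [Fintype m] [Fintype n]
    (A : Matrix m n R) (t : ℕ) : ∀ (k : ℕ) (f : Fin (t + k) → m) (g : Fin (t + k) → n),
    (A.submatrix f g).det ∈ CAlgX.minorIdeal A t := by
  intro k
  induction k with
  | zero =>
    intro f g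
    exact Ideal.subset_span ⟨(f, g), rfl⟩
  | succ k ih =>
    intro f g
    have h := Matrix.det_succ_row_zero (n := t + k) (A.submatrix f g)
    rw [h]
    refine Ideal.sum_mem _ (fun j _ => ?_)
    apply Ideal.mul_mem_left
    exact ih (f ∘ Fin.succ) (g ∘ j.succAbove)

theorem det_submatrix_mem_minorIdeal' {R : Type*} [CommRing R] {m n : Type} [Fintype m] [Fintype n]
    (A : Matrix m n R) (t : ℕ) {β : Type*} [Fintype β] [DecidableEq β] (hβ : t ≤ Fintype.card β)
    (f : β → m) (g : β → n) : (A.submatrix f g).det ∈ CAlgX.minorIdeal A t := by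
  obtain ⟨k, hk⟩ := Nat.exists_eq_add_of_le hβ
  let e : β ≃ Fin (t + k) := (Fintype.equivFin β).trans (finCongr hk)
  have h : A.submatrix f g = (A.submatrix (f ∘ e.symm) (g ∘ e.symm)).submatrix e e := by
    ext i j
    simp
  rw [h, Matrix.det_submatrix_equiv_self]
  exact det_submatrix_mem_minorIdeal A t k _ _

theorem exists_equiv_of_range_eq {β γ X : Type*} (u : β → X) (v : γ → X)
    (hu : Function.Injective u) (hv : Function.Injective v) (h : Set.range u = Set.range v) :
    ∃ σ : β ≃ γ, u = v ∘ σ := by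
  refine ⟨(Equiv.ofInjective u hu).trans ((Equiv.setCongr h).trans (Equiv.ofInjective v hv).symm), ?_⟩
  funext b
  simp only [Function.comp_apply, Equiv.trans_apply]
  rw [Equiv.apply_ofInjective_symm hv]
  rfl

section BlockDet

variable (K : Type u) [CommRing K] {d r : ℕ} (θ : Fin d → Fin (d + r))

/-- Rows of `θ` landing in the identity block. -/
abbrev Top : Type := {i : Fin d // (θ i).val < d}

/-- Rows of `θ` landing in the generic block. -/
abbrev Bot : Type := {i : Fin d // ¬ (θ i).val < d}

/-- The column of the `1` in an identity-block row. -/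
def col (a : Top θ) : Fin d := ⟨(θ a.1).val, a.2⟩

/-- The row of the generic block. -/
def row (b : Bot θ) : Fin r := ⟨(θ b.1).val - d, by have := (θ b.1).isLt; have := b.2; omega⟩

theorem col_injective (hθ : Function.Injective θ) : Function.Injective (col θ) := by
  intro a a' h
  apply Subtype.ext
  apply hθ
  apply Fin.ext
  have h1 := congrArg Fin.val h
  exact h1

theorem row_injective (hθ : Function.Injective θ) : Function.Injective (row (r := r) θ) := by
  intro b b' h
  apply Subtype.ext
  apply hθ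
  apply Fin.ext
  have h1 := congrArg Fin.val h
  simp only [row] at h1
  have := b.2
  have := b'.2
  omega

theorem exists_cols (hθ : Function.Injective θ) :
    ∃ g' : Bot θ → Fin d, Function.Injective g' ∧ Set.range g' = (Set.range (col θ))ᶜ ∧
      ∀ I : Ideal (CellRing K d r), ((cellMatrix K d r).submatrix θ id).det ∈ I ↔
        ((genMatrix K r d).submatrix (row θ) g').det ∈ I := by
  classical
  have hcol := col_injective θ hθ
  have hcard : Fintype.card (Bot θ) = Fintype.card ↥((Set.range (col θ))ᶜ : Set (Fin d)) := by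
    rw [Fintype.card_compl_set, Set.card_range_of_injective hcol, Fintype.card_subtype_compl,
      Fintype.card_fin]
  let ε : Bot θ ≃ ↥((Set.range (col θ))ᶜ : Set (Fin d)) := Fintype.equivOfCardEq hcard
  let g' : Bot θ → Fin d := fun b => (ε b).1
  have hg'inj : Function.Injective g' := fun b b' h => ε.injective (Subtype.ext h)
  have hg'range : Set.range g' = (Set.range (col θ))ᶜ := by
    ext x
    constructor
    · rintro ⟨b, rfl⟩
      exact (ε b).2
    · intro hx
      exact ⟨ε.symm ⟨x, hx⟩, by simp [g']⟩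
  refine ⟨g', hg'inj, hg'range, ?_⟩
  have hF : Function.Bijective (Sum.elim (col θ) g') := by
    constructor
    · rintro (a | b) (a' | b') h
      · exact congrArg Sum.inl (hcol h)
      · exfalso
        have h1 : g' b' ∈ (Set.range (col θ))ᶜ := hg'range ▸ Set.mem_range_self b'
        exact h1 ⟨a, h⟩
      · exfalso
        have h1 : g' b ∈ (Set.range (col θ))ᶜ := hg'range ▸ Set.mem_range_self b
        exact h1 ⟨a', h.symm⟩
      · exact congrArg Sum.inr (hg'inj h)
    · intro x
      by_cases hx : x ∈ Set.range (col θ)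
      · obtain ⟨a, rfl⟩ := hx
        exact ⟨Sum.inl a, rfl⟩
      · have : x ∈ Set.range g' := hg'range ▸ hx
        obtain ⟨b, rfl⟩ := this
        exact ⟨Sum.inr b, rfl⟩
  let ec : Top θ ⊕ Bot θ ≃ Fin d := Equiv.ofBijective _ hF
  let er : Top θ ⊕ Bot θ ≃ Fin d := Equiv.sumCompl (fun i : Fin d => (θ i).val < d)
  intro I
  rw [← det_submatrix_equiv_equiv_mem er ec]
  set N := (((cellMatrix K d r).submatrix θ id).submatrix er ec) with hN
  have h11 : N.toBlocks₁₁ = 1 := by
    refine Matrix.ext (fun a a' => ?_)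
    simp only [toBlocks₁₁, hN, submatrix_apply, of_apply, id_eq, one_apply]
    show cellMatrix K d r (θ a.1) (col θ a') = _
    simp only [cellMatrix, of_apply, a.2, dite_true, col]
    by_cases h : a = a'
    · subst h; simp
    · rw [if_neg h, if_neg]
      intro h2
      apply h
      apply Subtype.ext
      apply hθ
      exact Fin.ext h2
  have h12 : N.toBlocks₁₂ = 0 := by
    refine Matrix.ext (fun a b => ?_)
    simp only [toBlocks₁₂, hN, submatrix_apply, of_apply, id_eq, Matrix.zero_apply]
    show cellMatrix K d r (θ a.1) (g' b) = _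
    simp only [cellMatrix, of_apply, a.2, dite_true]
    rw [if_neg]
    intro h2
    have h1 : g' b ∈ (Set.range (col θ))ᶜ := hg'range ▸ Set.mem_range_self b
    exact h1 ⟨a, Fin.ext h2⟩
  have h22 : N.toBlocks₂₂ = (genMatrix K r d).submatrix (row θ) g' := by
    refine Matrix.ext (fun b b' => ?_)
    simp only [toBlocks₂₂, hN, submatrix_apply, of_apply, id_eq]
    show cellMatrix K d r (θ b.1) (g' b') = _
    simp only [cellMatrix, of_apply, b.2, dite_false, genMatrix, row]
  have hdet : N.det = ((genMatrix K r d).submatrix (row θ) g').det := by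
    rw [← Matrix.fromBlocks_toBlocks N, h11, h12, h22, Matrix.det_fromBlocks_zero₁₂, det_one, one_mul]
  rw [hdet]

end BlockDet

theorem span_le (K : Type u) [CommRing K] (d r t : ℕ) (hd : 0 < d)
    (ht : 0 < t) (htd : t ≤ d) (htr : t ≤ r) :
    Ideal.span {f : CellRing K d r | ∃ θ : Idx d (d + r),
        d ≤ (θ.1 ⟨d - t, Nat.sub_lt hd ht⟩).val ∧ f = cellMinor K d r θ} ≤
      CAlgX.minorIdeal (genMatrix K r d) t := by
  classical
  rw [Ideal.span_le]
  rintro _ ⟨θ, hθ, rfl⟩
  obtain ⟨g', -, -, hI⟩ := exists_cols K θ.1 θ.2.injective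
  show cellMinor K d r θ ∈ CAlgX.minorIdeal (genMatrix K r d) t
  rw [cellMinor, hI]
  apply det_submatrix_mem_minorIdeal'
  -- card (Bot θ) ≥ t
  have hinj : Function.Injective (fun j : Fin t => (⟨⟨d - t + j.val, by omega⟩, by
      have h1 : θ.1 ⟨d - t, Nat.sub_lt hd ht⟩ ≤ θ.1 ⟨d - t + j.val, by omega⟩ :=
        θ.2.monotone (by simp [Fin.le_def])
      have h2 : (θ.1 ⟨d - t, Nat.sub_lt hd ht⟩).val ≤ (θ.1 ⟨d - t + j.val, by omega⟩).val := h1
      omega⟩ : Bot θ.1)) := by
    intro j j' h
    have h1 := congrArg (fun b : Bot θ.1 => b.1.val) h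
    simp only at h1
    apply Fin.ext
    omega
  have h3 := Fintype.card_le_of_injective _ hinj
  rwa [Fintype.card_fin] at h3

/-- For injective `f, g` there is a sorted index `θ` with the right identity columns and generic rows. -/
theorem exists_idx (d r t : ℕ) (hd : 0 < d) (ht : 0 < t) (htd : t ≤ d)
    (f : Fin t → Fin r) (g : Fin t → Fin d) (hf : Function.Injective f) (hg : Function.Injective g) :
    ∃ θ : Idx d (d + r), d ≤ (θ.1 ⟨d - t, Nat.sub_lt hd ht⟩).val ∧
      Set.range (col θ.1) = (Set.range g)ᶜ ∧ Set.range (row θ.1) = Set.range f := by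
  classical
  set S₁ : Finset (Fin (d + r)) := ((Finset.univ.image g)ᶜ).map (Fin.castAddEmb r) with hS₁
  set S₂ : Finset (Fin (d + r)) := (Finset.univ.image f).map (Fin.natAddEmb d) with hS₂
  have hS₁lt : ∀ x ∈ S₁, x.val < d := by
    intro x hx
    rw [hS₁, Finset.mem_map] at hx
    obtain ⟨c, -, rfl⟩ := hx
    simp
  have hS₂ge : ∀ x ∈ S₂, d ≤ x.val := by
    intro x hx
    rw [hS₂, Finset.mem_map] at hx
    obtain ⟨c, -, rfl⟩ := hx
    simp
  have hdisj : Disjoint S₁ S₂ := by
    rw [Finset.disjoint_left]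
    intro x h1 h2
    have := hS₁lt x h1
    have := hS₂ge x h2
    omega
  have hcard₁ : S₁.card = d - t := by
    rw [hS₁, Finset.card_map, Finset.card_compl, Finset.card_image_of_injective _ hg]
    simp
  have hcard₂ : S₂.card = t := by
    rw [hS₂, Finset.card_map, Finset.card_image_of_injective _ hf]
    simp
  have hcard : (S₁ ∪ S₂).card = d := by
    rw [Finset.card_union_of_disjoint hdisj, hcard₁, hcard₂]
    omega
  set e := (S₁ ∪ S₂).orderEmbOfFin hcard with he
  let θ : Idx d (d + r) := ⟨fun i => e i, e.strictMono⟩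
  have hmem : ∀ i, θ.1 i ∈ S₁ ∪ S₂ := fun i => Finset.orderEmbOfFin_mem _ hcard i
  have hrange : ∀ x ∈ S₁ ∪ S₂, ∃ i, θ.1 i = x := by
    intro x hx
    have h1 : x ∈ Set.range e := by
      rw [he, Finset.range_orderEmbOfFin]
      exact hx
    exact h1
  have hcol : Set.range (col θ.1) = (Set.range g)ᶜ := by
    ext c
    constructor
    · rintro ⟨a, rfl⟩ hc
      have h1 := hmem a.1
      rw [Finset.mem_union] at h1
      rcases h1 with h1 | h1
      · rw [hS₁, Finset.mem_map] at h1
        obtain ⟨c', hc', hc'eq⟩ := h1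
        rw [Finset.mem_compl, Finset.mem_image] at hc'
        apply hc'
        obtain ⟨j, hj⟩ := hc
        refine ⟨j, Finset.mem_univ _, ?_⟩
        rw [hj]
        apply Fin.ext
        have := congrArg Fin.val hc'eq
        simp only [Fin.castAddEmb_apply, Fin.val_castAdd] at this
        simp only [col]
        omega
      · have := hS₂ge _ h1
        have := a.2
        omega
    · intro hc
      have h1 : Fin.castAddEmb r c ∈ S₁ ∪ S₂ := by
        rw [Finset.mem_union]
        left
        rw [hS₁, Finset.mem_map]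
        refine ⟨c, ?_, rfl⟩
        rw [Finset.mem_compl, Finset.mem_image]
        rintro ⟨j, -, hj⟩
        exact hc ⟨j, hj⟩
      obtain ⟨i, hi⟩ := hrange _ h1
      have h2 : (θ.1 i).val < d := by
        rw [hi]
        simp
      refine ⟨⟨i, h2⟩, ?_⟩
      apply Fin.ext
      simp only [col]
      rw [hi]
      simp
  have hrow : Set.range (row θ.1) = Set.range f := by
    ext ρ
    constructor
    · rintro ⟨b, rfl⟩
      have h1 := hmem b.1
      rw [Finset.mem_union] at h1
      rcases h1 with h1 | h1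
      · have := hS₁lt _ h1
        exact absurd this b.2
      · rw [hS₂, Finset.mem_map] at h1
        obtain ⟨ρ', hρ', hρ'eq⟩ := h1
        rw [Finset.mem_image] at hρ'
        obtain ⟨j, -, hj⟩ := hρ'
        refine ⟨j, ?_⟩
        rw [hj]
        apply Fin.ext
        have := congrArg Fin.val hρ'eq
        simp only [Fin.natAddEmb_apply, Fin.val_natAdd] at this
        simp only [row]
        omega
    · rintro ⟨j, rfl⟩
      have h1 : Fin.natAddEmb d (f j) ∈ S₁ ∪ S₂ := by
        rw [Finset.mem_union]
        right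
        rw [hS₂, Finset.mem_map]
        exact ⟨f j, Finset.mem_image_of_mem _ (Finset.mem_univ _), rfl⟩
      obtain ⟨i, hi⟩ := hrange _ h1
      have h2 : ¬ (θ.1 i).val < d := by
        rw [hi]
        simp
      refine ⟨⟨i, h2⟩, ?_⟩
      apply Fin.ext
      simp only [row]
      rw [hi]
      simp
  refine ⟨θ, ?_, hcol, hrow⟩
  by_contra hlt
  push Not at hlt
  -- all i ≤ d - t are in Top
  have hinj : Function.Injective (fun j : Fin (d - t + 1) => (⟨⟨j.val, by omega⟩, by
      have h1 : θ.1 ⟨j.val, by omega⟩ ≤ θ.1 ⟨d - t, Nat.sub_lt hd ht⟩ :=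
        θ.2.monotone (by simp only [Fin.le_def]; omega)
      have h2 : (θ.1 ⟨j.val, by omega⟩).val ≤ (θ.1 ⟨d - t, Nat.sub_lt hd ht⟩).val := h1
      omega⟩ : Top θ.1)) := by
    intro j j' h
    have h1 := congrArg (fun b : Top θ.1 => b.1.val) h
    simp only at h1
    exact Fin.ext h1
  have h3 := Fintype.card_le_of_injective _ hinj
  rw [Fintype.card_fin] at h3
  have h4 : Fintype.card (Top θ.1) = d - t := by
    rw [← Set.card_range_of_injective (col_injective θ.1 θ.2.injective)]
    simp only [hcol]
    rw [Fintype.card_compl_set, Set.card_range_of_injective hg]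
    simp
  have h5 : d - t + 1 ≤ d - t := by
    calc d - t + 1 ≤ Fintype.card (Top θ.1) := h3
      _ = d - t := h4
  omega


theorem le_span (K : Type u) [CommRing K] (d r t : ℕ) (hd : 0 < d)
    (ht : 0 < t) (htd : t ≤ d) :
    CAlgX.minorIdeal (genMatrix K r d) t ≤
    Ideal.span {f : CellRing K d r | ∃ θ : Idx d (d + r),
        d ≤ (θ.1 ⟨d - t, Nat.sub_lt hd ht⟩).val ∧ f = cellMinor K d r θ} := by
  classical
  rw [CAlgX.minorIdeal, Ideal.span_le]
  rintro _ ⟨⟨f, g⟩, rfl⟩
  simp only
  by_cases hf : Function.Injective f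
  swap
  · rw [Function.Injective] at hf
    push Not at hf
    obtain ⟨i, j, hij, hne⟩ := hf
    rw [Matrix.det_zero_of_row_eq hne]
    · exact Ideal.zero_mem _
    · funext c
      simp [hij]
  by_cases hg : Function.Injective g
  swap
  · rw [Function.Injective] at hg
    push Not at hg
    obtain ⟨i, j, hij, hne⟩ := hg
    rw [Matrix.det_zero_of_column_eq hne]
    · exact Ideal.zero_mem _
    · intro c
      simp [hij]
  obtain ⟨θ, hθ, hcol, hrow⟩ := exists_idx d r t hd ht htd f g hf hg
  obtain ⟨g', hg'inj, hg'range, hI⟩ := exists_cols K θ.1 θ.2.injective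
  have hmem : cellMinor K d r θ ∈ Ideal.span {f : CellRing K d r | ∃ θ : Idx d (d + r),
        d ≤ (θ.1 ⟨d - t, Nat.sub_lt hd ht⟩).val ∧ f = cellMinor K d r θ} :=
    Ideal.subset_span ⟨θ, hθ, rfl⟩
  rw [cellMinor, hI] at hmem
  obtain ⟨σ₁, hσ₁⟩ := exists_equiv_of_range_eq (row θ.1) f (row_injective θ.1 θ.2.injective) hf hrow
  have hg'range' : Set.range g' = Set.range g := by rw [hg'range, hcol, compl_compl]
  obtain ⟨σ₂, hσ₂⟩ := exists_equiv_of_range_eq g' g hg'inj hg hg'range'
  have h : (genMatrix K r d).submatrix (row θ.1) g' =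
      ((genMatrix K r d).submatrix f g).submatrix σ₁ σ₂ := by
    rw [hσ₁, hσ₂]
    rfl
  rw [h, det_submatrix_equiv_equiv_mem] at hmem
  exact hmem

end Groth.Agent.Lib.Seat50.CellMinor
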