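import Mathlib
import Groth.Prelude.Def_W4bk4grassmannianPl

/-!
# The Plücker quadrics cut out the Grassmannian set-theoretically
-/

namespace Groth.Agent.Lib.Seat50.Plucker

open W4bk4grassmannian

universe u

variable {d n : ℕ}

/-- The sign of a permutation is `(-1)` to the number of inversions of `θ ∘ ρ`, `θ` strictly monotone. -/
theorem sign_eq_neg_one_pow_invCount (ρ : Equiv.Perm (Fin d)) (θ : Fin d → Fin n)
    (hθ : StrictMono θ) :
    (Equiv.Perm.sign ρ : ℤˣ) = (-1) ^ (invCount d n (θ ∘ ρ)) := by
  classical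
  rw [Equiv.Perm.sign_eq_prod_prod_Iio]
  have h1 : ∀ j : Fin d, ∏ i ∈ Finset.Iio j, (if ρ i < ρ j then (1 : ℤˣ) else -1) =
      ∏ i : Fin d, if i < j then (if ρ i < ρ j then (1 : ℤˣ) else -1) else 1 := by
    intro j
    rw [← Finset.prod_filter]
    congr 1
    ext i
    simp
  simp_rw [h1]
  rw [Finset.prod_comm, ← Fintype.prod_prod_type']
  have h2 : ∀ p : Fin d × Fin d,
      (if p.1 < p.2 then (if ρ p.1 < ρ p.2 then (1 : ℤˣ) else -1) else 1) =
      if (p.1 < p.2 ∧ (θ ∘ ρ) p.2 < (θ ∘ ρ) p.1) then (-1 : ℤˣ) else 1 := by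
    intro p
    by_cases h : p.1 < p.2
    · simp only [h, if_true, true_and, Function.comp_apply, hθ.lt_iff_lt]
      by_cases h' : ρ p.1 < ρ p.2
      · rw [if_pos h', if_neg (not_lt.mpr h'.le)]
      · rw [if_neg h', if_pos]
        exact lt_of_le_of_ne (not_lt.mp h') (fun e => h.ne (ρ.injective e.symm))
    · simp [h]
  simp_rw [h2]
  rw [Finset.prod_ite, Finset.prod_const, Finset.prod_const_one, mul_one]
  rfl

theorem card_image_eq_iff (a : Fin d → Fin n) :
    (Finset.univ.image a).card = d ↔ Function.Injective a := by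
  constructor
  · intro h
    have h1 : (Finset.univ.image a).card = (Finset.univ : Finset (Fin d)).card := by
      rw [h, Finset.card_univ, Fintype.card_fin]
    have := Finset.card_image_iff.mp h1
    exact fun x y hxy => this (Finset.mem_coe.mpr (Finset.mem_univ x))
      (Finset.mem_coe.mpr (Finset.mem_univ y)) hxy
  · intro h
    rw [Finset.card_image_of_injective _ h, Finset.card_univ, Fintype.card_fin]

/-- A sorted tuple is its own sort. -/
theorem sortIdx_of_strictMono (θ : Idx d n) (h : (Finset.univ.image θ.1).card = d) :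
    sortIdx d n θ.1 h = θ := by
  apply Subtype.ext
  funext t
  have := Finset.orderEmbOfFin_unique h (f := θ.1)
    (fun x => Finset.mem_image_of_mem _ (Finset.mem_univ x)) θ.2
  exact (congrFun this t).symm

theorem sortIdx_mem (a : Fin d → Fin n) (h : (Finset.univ.image a).card = d) (t : Fin d) :
    (sortIdx d n a h).1 t ∈ Finset.univ.image a :=
  Finset.orderEmbOfFin_mem _ h t

theorem range_sortIdx (a : Fin d → Fin n) (h : (Finset.univ.image a).card = d) :
    Set.range (sortIdx d n a h).1 = Set.range a := by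
  have h1 : Set.range (sortIdx d n a h).1 = ↑(Finset.univ.image a) :=
    Finset.range_orderEmbOfFin _ h
  rw [h1]
  simp

/-- Two injective maps with the same range differ by a permutation. -/
theorem exists_perm_of_range_eq {β γ X : Type*} (u : β → X) (v : γ → X)
    (hu : Function.Injective u) (hv : Function.Injective v) (h : Set.range u = Set.range v) :
    ∃ σ : β ≃ γ, u = v ∘ σ := by
  refine ⟨(Equiv.ofInjective u hu).trans ((Equiv.setCongr h).trans (Equiv.ofInjective v hv).symm), ?_⟩
  funext b
  simp only [Function.comp_apply, Equiv.trans_apply]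
  rw [Equiv.apply_ofInjective_symm hv]
  rfl

/-- An injective tuple is its sort composed with a permutation whose sign is the inversion parity. -/
theorem exists_perm_sort (a : Fin d → Fin n) (h : (Finset.univ.image a).card = d) :
    ∃ ρ : Equiv.Perm (Fin d), a = (sortIdx d n a h).1 ∘ ρ ∧
      (Equiv.Perm.sign ρ : ℤˣ) = (-1) ^ (invCount d n a) := by
  have ha : Function.Injective a := (card_image_eq_iff a).mp h
  obtain ⟨ρ, hρ⟩ := exists_perm_of_range_eq a (sortIdx d n a h).1 ha
    (sortIdx d n a h).2.injective (range_sortIdx a h).symm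
  refine ⟨ρ, hρ, ?_⟩
  rw [sign_eq_neg_one_pow_invCount ρ _ (sortIdx d n a h).2, ← hρ]

variable (K : Type u) [CommRing K]

/-- Value of the signed Plücker coordinate of an arbitrary tuple at the point `q`. -/
noncomputable def pc (q : Idx d n → K) (a : Fin d → Fin n) : K :=
  MvPolynomial.eval q (coord K d n a)

variable {K}

theorem pc_of_not_injective (q : Idx d n → K) (a : Fin d → Fin n) (ha : ¬ Function.Injective a) :
    pc K q a = 0 := by
  have h : ¬ (Finset.univ.image a).card = d := fun h => ha ((card_image_eq_iff a).mp h)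
  rw [pc, coord, dif_neg h, map_zero]

theorem pc_of_injective (q : Idx d n → K) (a : Fin d → Fin n)
    (h : (Finset.univ.image a).card = d) :
    pc K q a = (-1) ^ (invCount d n a) * q (sortIdx d n a h) := by
  rw [pc, coord, dif_pos h]
  simp

theorem pc_sorted (q : Idx d n → K) (θ : Idx d n) : pc K q θ.1 = q θ := by
  have h : (Finset.univ.image θ.1).card = d := (card_image_eq_iff θ.1).mpr θ.2.injective
  obtain ⟨ρ, hρ, hsign⟩ := exists_perm_sort θ.1 h
  rw [pc_of_injective q θ.1 h, sortIdx_of_strictMono θ h]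
  rw [sortIdx_of_strictMono θ h] at hρ
  have hρ1 : ρ = 1 := by
    ext t
    have := congrFun hρ t
    simp only [Function.comp_apply] at this
    exact congrArg Fin.val (θ.2.injective this).symm
  rw [hρ1, Equiv.Perm.sign_one] at hsign
  have h2 : ((-1 : ℤˣ) ^ invCount d n θ.1 : ℤˣ) = 1 := hsign.symm
  have h3 : ((-1 : K) ^ invCount d n θ.1) = 1 := by
    have := congrArg (fun u : ℤˣ => ((u : ℤ) : K)) h2
    simpa using this
  rw [h3, one_mul]

theorem sortIdx_congr (a b : Fin d → Fin n) (ha : (Finset.univ.image a).card = d)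
    (hb : (Finset.univ.image b).card = d) (himg : Finset.univ.image a = Finset.univ.image b) :
    sortIdx d n a ha = sortIdx d n b hb := by
  apply Subtype.ext
  exact Finset.orderEmbOfFin_unique hb (f := (sortIdx d n a ha).1)
    (fun x => himg ▸ sortIdx_mem a ha x) (sortIdx d n a ha).2

theorem neg_one_pow_eq_sign (ρ : Equiv.Perm (Fin d)) (m : ℕ)
    (h : (Equiv.Perm.sign ρ : ℤˣ) = (-1) ^ m) : ((-1 : K) ^ m) = (((Equiv.Perm.sign ρ : ℤˣ) : ℤ) : K) := by
  rw [h]
  simp

/-- The signed coordinate is alternating. -/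
theorem pc_comp_perm (q : Idx d n → K) (a : Fin d → Fin n) (π : Equiv.Perm (Fin d)) :
    pc K q (a ∘ π) = (((Equiv.Perm.sign π : ℤˣ) : ℤ) : K) * pc K q a := by
  by_cases ha : Function.Injective a
  · have h : (Finset.univ.image a).card = d := (card_image_eq_iff a).mpr ha
    have h' : (Finset.univ.image (a ∘ π)).card = d :=
      (card_image_eq_iff _).mpr (ha.comp π.injective)
    have himg : Finset.univ.image (a ∘ π) = Finset.univ.image a := by
      ext x
      simp only [Finset.mem_image, Finset.mem_univ, true_and, Function.comp_apply]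
      constructor
      · rintro ⟨t, rfl⟩; exact ⟨π t, rfl⟩
      · rintro ⟨t, rfl⟩; exact ⟨π.symm t, by simp⟩
    obtain ⟨ρa, hρa, hsa⟩ := exists_perm_sort a h
    obtain ⟨ρb, hρb, hsb⟩ := exists_perm_sort (a ∘ π) h'
    rw [pc_of_injective q _ h', pc_of_injective q _ h, sortIdx_congr _ _ h' h himg] at *
    have hρ : ρb = ρa * π := by
      ext t
      have h1 : (sortIdx d n a h).1 (ρb t) = (sortIdx d n a h).1 (ρa (π t)) := by
        have e1 := congrFun hρb t
        have e2 := congrFun hρa (π t)
        simp only [Function.comp_apply] at e1 e2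
        rw [← e1, e2]
      exact congrArg Fin.val ((sortIdx d n a h).2.injective h1)
    rw [neg_one_pow_eq_sign ρb _ hsb, neg_one_pow_eq_sign ρa _ hsa, hρ, Equiv.Perm.sign_mul]
    push_cast
    ring
  · rw [pc_of_not_injective q a ha, pc_of_not_injective, mul_zero]
    intro h
    apply ha
    have : a = (a ∘ π) ∘ π.symm := by
      funext t; simp
    rw [this]
    exact h.comp π.symm.injective

/-- At the vector of minors of a matrix, the signed coordinate of any tuple is the minor on those rows. -/
theorem pc_minors (A : Matrix (Fin n) (Fin d) K) (q : Idx d n → K)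
    (hq : ∀ θ : Idx d n, q θ = (A.submatrix θ.1 id).det) (a : Fin d → Fin n) :
    pc K q a = (A.submatrix a id).det := by
  by_cases ha : Function.Injective a
  · have h : (Finset.univ.image a).card = d := (card_image_eq_iff a).mpr ha
    obtain ⟨ρ, hρ, hs⟩ := exists_perm_sort a h
    rw [pc_of_injective q _ h, neg_one_pow_eq_sign ρ _ hs, hq]
    have : A.submatrix a id = (A.submatrix (sortIdx d n a h).1 id).submatrix ρ id := by
      conv_lhs => rw [hρ]
      rfl
    rw [this, Matrix.det_permute]
  · rw [pc_of_not_injective q a ha]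
    rw [Function.Injective] at ha
    push Not at ha
    obtain ⟨i, j, hij, hne⟩ := ha
    rw [Matrix.det_zero_of_row_eq hne]
    funext c
    simp [hij]

theorem eval_quadric {e : ℕ} (q : Idx (e + 1) n → K) (i' : Idx e n) (j' : Idx (e + 2) n) :
    MvPolynomial.eval q (quadric K i' j') =
      ∑ h : Fin (e + 2), (-1) ^ (h.val + 1) * pc K q (Fin.snoc i'.1 (j'.1 h)) *
        pc K q (j'.1 ∘ h.succAbove) := by
  simp only [quadric, pc, map_sum, map_mul, map_pow, map_neg, map_one]

/-- Laplace expansion of the minor on rows `(i', x)` along its last row. -/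
theorem det_snoc {e : ℕ} (A : Matrix (Fin n) (Fin (e + 1)) K) (i' : Fin e → Fin n) (x : Fin n) :
    (A.submatrix (Fin.snoc i' x : Fin (e + 1) → Fin n) id).det =
      ∑ c : Fin (e + 1), (-1) ^ (e + c.val) * A x c * (A.submatrix i' c.succAbove).det := by
  rw [Matrix.det_succ_row _ (Fin.last e)]
  refine Finset.sum_congr rfl (fun c _ => ?_)
  have h1 : (A.submatrix (Fin.snoc i' x : Fin (e + 1) → Fin n) id) (Fin.last e) c = A x c := by
    simp [Matrix.submatrix_apply]
  have h2 : (A.submatrix (Fin.snoc i' x : Fin (e + 1) → Fin n) id).submatrix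
      (Fin.last e).succAbove c.succAbove = A.submatrix i' c.succAbove := by
    ext r s
    simp [Matrix.submatrix_apply, Fin.succAbove_last]
  rw [h1, h2]
  simp

/-- The Plücker quadrics vanish at the vector of minors of a matrix. -/
theorem quadric_minors {e : ℕ} (A : Matrix (Fin n) (Fin (e + 1)) K) (q : Idx (e + 1) n → K)
    (hq : ∀ θ : Idx (e + 1) n, q θ = (A.submatrix θ.1 id).det) (i' : Idx e n)
    (j' : Idx (e + 2) n) : MvPolynomial.eval q (quadric K i' j') = 0 := by
  rw [eval_quadric]
  simp_rw [pc_minors A q hq, det_snoc]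
  -- inner vanishing
  have hin : ∀ c : Fin (e + 1), ∑ h : Fin (e + 2), (-1 : K) ^ h.val * A (j'.1 h) c *
      (A.submatrix (j'.1 ∘ h.succAbove) id).det = 0 := by
    intro c
    let N : Matrix (Fin (e + 2)) (Fin (e + 2)) K :=
      Matrix.of fun h c' => (Fin.cons (A (j'.1 h) c) (fun c'' => A (j'.1 h) c'') : Fin (e + 2) → K) c'
    have hN : N.det = 0 := by
      apply Matrix.det_zero_of_column_eq (i := 0) (j := c.succ) (Fin.succ_ne_zero c).symm
      intro h
      simp [N]
    rw [Matrix.det_succ_column_zero] at hN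
    rw [← hN]
    refine Finset.sum_congr rfl (fun h _ => ?_)
    have h1 : N h 0 = A (j'.1 h) c := by simp [N]
    have h2 : N.submatrix h.succAbove Fin.succ = A.submatrix (j'.1 ∘ h.succAbove) id := by
      ext r s
      simp [N, Matrix.submatrix_apply]
    rw [h1, h2]
  have step : ∀ h : Fin (e + 2), (-1 : K) ^ (h.val + 1) *
        (∑ c : Fin (e + 1), (-1) ^ (e + c.val) * A (j'.1 h) c * (A.submatrix i'.1 c.succAbove).det) *
        (A.submatrix (j'.1 ∘ h.succAbove) id).det =
      ∑ c : Fin (e + 1), (-(-1 : K) ^ (e + c.val) * (A.submatrix i'.1 c.succAbove).det) *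
        ((-1 : K) ^ h.val * A (j'.1 h) c * (A.submatrix (j'.1 ∘ h.succAbove) id).det) := by
    intro h
    rw [Finset.mul_sum, Finset.sum_mul]
    refine Finset.sum_congr rfl (fun c _ => ?_)
    ring
  rw [Finset.sum_congr rfl (fun h _ => step h), Finset.sum_comm]
  refine Finset.sum_eq_zero (fun c _ => ?_)
  rw [← Finset.mul_sum, hin c, mul_zero]

theorem det_updateRow_one {m : Type*} [Fintype m] [DecidableEq m] (c : m) (v : m → K) :
    ((1 : Matrix m m K).updateRow c v).det = v c := by
  rw [← Matrix.cramer_transpose_apply, Matrix.transpose_one, Matrix.cramer_one]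
  rfl

section Field

variable {F : Type u} [Field F] {e : ℕ}

/-- The candidate matrix built from the coordinates at distance one from `θ₀`. -/
noncomputable def candMatrix (q : Idx (e + 1) n → F) (θ₀ : Idx (e + 1) n) :
    Matrix (Fin n) (Fin (e + 1)) F :=
  (Matrix.of fun x c => pc F q (Function.update θ₀.1 c x) / q θ₀) *
    Matrix.diagonal (fun c : Fin (e + 1) => if c = 0 then q θ₀ else 1)

theorem candMatrix_minor (q : Idx (e + 1) n → F) (θ₀ : Idx (e + 1) n) (h0 : q θ₀ ≠ 0)
    (c : Fin (e + 1)) (x : Fin n) :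
    ((candMatrix q θ₀).submatrix (Function.update θ₀.1 c x) id).det =
      pc F q (Function.update θ₀.1 c x) := by
  classical
  set A₁ : Matrix (Fin n) (Fin (e + 1)) F :=
    Matrix.of fun x c => pc F q (Function.update θ₀.1 c x) / q θ₀ with hA₁
  set s : Fin (e + 1) → F := fun c => if c = 0 then q θ₀ else 1 with hs
  have h1 : (candMatrix q θ₀).submatrix (Function.update θ₀.1 c x) id =
      (A₁.submatrix (Function.update θ₀.1 c x) id) * Matrix.diagonal s := by
    rw [candMatrix]
    rfl
  have h2 : A₁.submatrix (Function.update θ₀.1 c x) id =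
      (1 : Matrix (Fin (e + 1)) (Fin (e + 1)) F).updateRow c (fun c'' => A₁ x c'') := by
    refine Matrix.ext (fun r c'' => ?_)
    rw [Matrix.submatrix_apply, Matrix.updateRow_apply]
    by_cases hr : r = c
    · subst hr
      simp
    · rw [if_neg hr, Function.update_of_ne hr, id, hA₁, Matrix.of_apply, Matrix.one_apply]
      by_cases hrc : r = c''
      · subst hrc
        rw [if_pos rfl, Function.update_eq_self, pc_sorted, div_self h0]
      · rw [if_neg hrc, pc_of_not_injective, zero_div]
        intro hinj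
        have : Function.update θ₀.1 c'' (θ₀.1 r) c'' = Function.update θ₀.1 c'' (θ₀.1 r) r := by
          rw [Function.update_self, Function.update_of_ne hrc]
        exact hrc (hinj this).symm
  have h3 : (Matrix.diagonal s).det = q θ₀ := by
    rw [Matrix.det_diagonal, hs]
    simp [Finset.prod_ite_eq']
  rw [h1, Matrix.det_mul, h2, det_updateRow_one, h3, hA₁, Matrix.of_apply, div_mul_cancel₀ _ h0]

end Field

/-- Abbreviation: the image of a tuple as a finset. -/
abbrev img {k : ℕ} (a : Fin k → Fin n) : Finset (Fin n) := Finset.univ.image a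

/-- The sorted tuple enumerating a finset. -/
def sortOf {k : ℕ} (S : Finset (Fin n)) (h : S.card = k) : Idx k n :=
  ⟨fun t => S.orderEmbOfFin h t, (S.orderEmbOfFin h).strictMono⟩

theorem img_sortOf {k : ℕ} (S : Finset (Fin n)) (h : S.card = k) : img (sortOf S h).1 = S :=
  Finset.image_orderEmbOfFin_univ S h

theorem img_snoc {k : ℕ} (a : Fin k → Fin n) (y : Fin n) :
    img (Fin.snoc a y : Fin (k + 1) → Fin n) = insert y (img a) := by
  ext z
  simp only [img, Finset.mem_image, Finset.mem_univ, true_and, Finset.mem_insert]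
  constructor
  · rintro ⟨t, rfl⟩
    refine Fin.lastCases ?_ (fun s => ?_) t
    · left; simp
    · right; exact ⟨s, by simp⟩
  · rintro (rfl | ⟨s, rfl⟩)
    · exact ⟨Fin.last k, by simp⟩
    · exact ⟨s.castSucc, by simp⟩

theorem img_comp_succAbove {k : ℕ} (j : Fin (k + 1) → Fin n) (hj : Function.Injective j)
    (h : Fin (k + 1)) : img (j ∘ h.succAbove) = (img j).erase (j h) := by
  ext z
  simp only [img, Finset.mem_image, Finset.mem_univ, true_and, Finset.mem_erase,
    Function.comp_apply]
  constructor
  · rintro ⟨t, rfl⟩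
    exact ⟨fun e => Fin.succAbove_ne h t (hj e), ⟨_, rfl⟩⟩
  · rintro ⟨hne, s, rfl⟩
    have hs : s ≠ h := fun e => hne (by rw [e])
    obtain ⟨t, ht⟩ := Fin.exists_succAbove_eq hs
    exact ⟨t, by rw [ht]⟩

theorem img_update (a : Fin d → Fin n) (ha : Function.Injective a) (c : Fin d) (y : Fin n) :
    img (Function.update a c y) = insert y ((img a).erase (a c)) := by
  ext z
  simp only [img, Finset.mem_image, Finset.mem_univ, true_and, Finset.mem_insert,
    Finset.mem_erase]
  constructor
  · rintro ⟨t, rfl⟩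
    by_cases ht : t = c
    · left; rw [ht, Function.update_self]
    · right
      rw [Function.update_of_ne ht]
      exact ⟨fun e => ht (ha e), t, rfl⟩
  · rintro (rfl | ⟨hne, t, rfl⟩)
    · exact ⟨c, Function.update_self ..⟩
    · have ht : t ≠ c := fun e => hne (by rw [e])
      exact ⟨t, Function.update_of_ne ht ..⟩

theorem range_eq_of_img_eq {k l : ℕ} (a : Fin k → Fin n) (b : Fin l → Fin n) (h : img a = img b) :
    Set.range a = Set.range b := by
  have := congrArg (fun s : Finset (Fin n) => (s : Set (Fin n))) h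
  simpa [img] using this

/-- Agreement at distance one propagates to every injective tuple with such an image. -/
theorem pc_eq_of_near (p q : Idx d n → K) (θ₀ : Idx d n)
    (H₁ : ∀ c x, pc K p (Function.update θ₀.1 c x) = pc K q (Function.update θ₀.1 c x))
    (b : Fin d → Fin n) (hb : Function.Injective b) (x y : Fin n) (hx : x ∈ img θ₀.1)
    (himg : img b = insert y ((img θ₀.1).erase x)) : pc K p b = pc K q b := by
  obtain ⟨c, -, rfl⟩ := Finset.mem_image.mp hx
  set a := Function.update θ₀.1 c y with ha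
  have hia : img a = img b := by rw [himg, ha, img_update _ θ₀.2.injective]
  have hainj : Function.Injective a := by
    rw [← card_image_eq_iff]
    show (img a).card = d
    rw [hia]
    exact (card_image_eq_iff b).mpr hb
  obtain ⟨π, hπ⟩ := exists_perm_of_range_eq b a hb hainj (range_eq_of_img_eq _ _ hia.symm)
  rw [hπ, pc_comp_perm, pc_comp_perm, H₁]

section Uniq

variable {F : Type u} [Field F] {e : ℕ}

theorem snoc_injective {k : ℕ} (a : Fin k → Fin n) (ha : Function.Injective a) (y : Fin n)
    (hy : y ∉ img a) : Function.Injective (Fin.snoc a y : Fin (k + 1) → Fin n) := by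
  rw [← card_image_eq_iff]
  show (img _).card = k + 1
  rw [img_snoc, Finset.card_insert_of_notMem hy]
  exact congrArg (· + 1) ((card_image_eq_iff a).mpr ha)

theorem uniq_aux (p q : Idx (e + 1) n → F) (θ₀ : Idx (e + 1) n) (h0 : q θ₀ ≠ 0)
    (Hp : ∀ (i' : Idx e n) (j' : Idx (e + 2) n), MvPolynomial.eval p (quadric F i' j') = 0)
    (Hq : ∀ (i' : Idx e n) (j' : Idx (e + 2) n), MvPolynomial.eval q (quadric F i' j') = 0)
    (H₁ : ∀ c x, pc F p (Function.update θ₀.1 c x) = pc F q (Function.update θ₀.1 c x)) :
    ∀ (m : ℕ) (b : Fin (e + 1) → Fin n), (img b \ img θ₀.1).card ≤ m → pc F p b = pc F q b := by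
  classical
  have hcard0 : (img θ₀.1).card = e + 1 := (card_image_eq_iff θ₀.1).mpr θ₀.2.injective
  intro m
  induction m with
  | zero =>
    intro b hb
    by_cases hbi : Function.Injective b
    swap
    · rw [pc_of_not_injective p b hbi, pc_of_not_injective q b hbi]
    have hcardb : (img b).card = e + 1 := (card_image_eq_iff b).mpr hbi
    have hsub : img b ⊆ img θ₀.1 := by
      rw [← Finset.sdiff_eq_empty_iff_subset, ← Finset.card_eq_zero]
      exact Nat.le_zero.mp hb
    have heq : img b = img θ₀.1 := Finset.eq_of_subset_of_card_le hsub (by rw [hcard0, hcardb])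
    have hx : θ₀.1 0 ∈ img θ₀.1 := Finset.mem_image_of_mem _ (Finset.mem_univ _)
    apply pc_eq_of_near p q θ₀ H₁ b hbi (θ₀.1 0) (θ₀.1 0) hx
    rw [heq, Finset.insert_erase hx]
  | succ m ih =>
    intro b hb
    by_cases hle : (img b \ img θ₀.1).card ≤ m
    · exact ih b hle
    have hdist : (img b \ img θ₀.1).card = m + 1 := by omega
    by_cases hbi : Function.Injective b
    swap
    · rw [pc_of_not_injective p b hbi, pc_of_not_injective q b hbi]
    have hcardb : (img b).card = e + 1 := (card_image_eq_iff b).mpr hbi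
    -- choose x ∈ img θ₀ \ img b
    have hcomm : (img θ₀.1 \ img b).card = m + 1 := by
      rw [← hdist]
      exact Finset.card_sdiff_comm (by rw [hcard0, hcardb])
    obtain ⟨x, hx⟩ : (img θ₀.1 \ img b).Nonempty := by
      rw [← Finset.card_pos, hcomm]; omega
    rw [Finset.mem_sdiff] at hx
    obtain ⟨hx0, hxb⟩ := hx
    -- the sorted tuples
    have hSi : ((img θ₀.1).erase x).card = e := by
      rw [Finset.card_erase_of_mem hx0, hcard0]; rfl
    have hSj : (insert x (img b)).card = e + 2 := by
      rw [Finset.card_insert_of_notMem hxb, hcardb]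
    set i' : Idx e n := sortOf _ hSi with hi'
    set j' : Idx (e + 2) n := sortOf _ hSj with hj'
    have himgi : img i'.1 = (img θ₀.1).erase x := img_sortOf _ hSi
    have himgj : img j'.1 = insert x (img b) := img_sortOf _ hSj
    obtain ⟨hx', -, hjx⟩ : ∃ h, h ∈ Finset.univ ∧ j'.1 h = x := by
      have : x ∈ img j'.1 := by rw [himgj]; exact Finset.mem_insert_self _ _
      exact Finset.mem_image.mp this
    -- the two relations
    have Rp := Hp i' j'
    have Rq := Hq i' j'
    rw [eval_quadric] at Rp Rq
    -- terms other than hx' agree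
    have hother : ∀ h : Fin (e + 2), h ≠ hx' →
        (-1 : F) ^ (h.val + 1) * pc F p (Fin.snoc i'.1 (j'.1 h)) * pc F p (j'.1 ∘ h.succAbove) =
        (-1 : F) ^ (h.val + 1) * pc F q (Fin.snoc i'.1 (j'.1 h)) * pc F q (j'.1 ∘ h.succAbove) := by
      intro h hh
      have hyx : j'.1 h ≠ x := fun e' => hh (j'.2.injective (e'.trans hjx.symm))
      have hyb : j'.1 h ∈ img b := by
        have : j'.1 h ∈ img j'.1 := Finset.mem_image_of_mem _ (Finset.mem_univ _)
        rw [himgj, Finset.mem_insert] at this
        exact this.resolve_left hyx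
      by_cases hy0 : j'.1 h ∈ img θ₀.1
      · have hni : ¬ Function.Injective (Fin.snoc i'.1 (j'.1 h) : Fin (e + 1) → Fin n) := by
          intro hinj
          have hmem : j'.1 h ∈ img i'.1 := by
            rw [himgi]; exact Finset.mem_erase.mpr ⟨hyx, hy0⟩
          obtain ⟨s, -, hs⟩ := Finset.mem_image.mp hmem
          have h1 : (Fin.snoc i'.1 (j'.1 h) : Fin (e + 1) → Fin n) s.castSucc =
              (Fin.snoc i'.1 (j'.1 h) : Fin (e + 1) → Fin n) (Fin.last e) := by
            simp [hs]
          exact (Fin.castSucc_lt_last s).ne (hinj h1)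
        rw [pc_of_not_injective p _ hni, pc_of_not_injective q _ hni]
        simp
      · have hyi : j'.1 h ∉ img i'.1 := by
          rw [himgi]; exact fun hm => hy0 (Finset.mem_of_mem_erase hm)
        have e1 : pc F p (Fin.snoc i'.1 (j'.1 h)) = pc F q (Fin.snoc i'.1 (j'.1 h)) := by
          apply pc_eq_of_near p q θ₀ H₁ _ (snoc_injective _ i'.2.injective _ hyi) x (j'.1 h) hx0
          rw [img_snoc, himgi]
        have e2 : pc F p (j'.1 ∘ h.succAbove) = pc F q (j'.1 ∘ h.succAbove) := by
          apply ih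
          rw [img_comp_succAbove _ j'.2.injective, himgj]
          have : ((insert x (img b)).erase (j'.1 h)) \ img θ₀.1 =
              (img b \ img θ₀.1).erase (j'.1 h) := by
            ext z
            simp only [Finset.mem_sdiff, Finset.mem_erase, Finset.mem_insert]
            constructor
            · rintro ⟨⟨hz1, hz2⟩, hz3⟩
              rcases hz2 with rfl | hz2
              · exact absurd hx0 hz3
              · exact ⟨hz1, hz2, hz3⟩
            · rintro ⟨hz1, hz2, hz3⟩
              exact ⟨⟨hz1, Or.inr hz2⟩, hz3⟩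
          rw [this, Finset.card_erase_of_mem (Finset.mem_sdiff.mpr ⟨hyb, hy0⟩), hdist]
          rfl
        rw [e1, e2]
    -- isolate the hx' term
    have hsplit : ∀ r : Idx (e + 1) n → F,
        (∑ h : Fin (e + 2), (-1 : F) ^ (h.val + 1) * pc F r (Fin.snoc i'.1 (j'.1 h)) *
          pc F r (j'.1 ∘ h.succAbove)) =
        (-1 : F) ^ (hx'.val + 1) * pc F r (Fin.snoc i'.1 (j'.1 hx')) *
          pc F r (j'.1 ∘ hx'.succAbove) +
        ∑ h ∈ Finset.univ.erase hx', (-1 : F) ^ (h.val + 1) *
          pc F r (Fin.snoc i'.1 (j'.1 h)) * pc F r (j'.1 ∘ h.succAbove) := fun r =>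
      (Finset.add_sum_erase _ _ (Finset.mem_univ hx')).symm
    rw [hsplit] at Rp Rq
    have hrest : ∑ h ∈ Finset.univ.erase hx', (-1 : F) ^ (h.val + 1) *
          pc F p (Fin.snoc i'.1 (j'.1 h)) * pc F p (j'.1 ∘ h.succAbove) =
        ∑ h ∈ Finset.univ.erase hx', (-1 : F) ^ (h.val + 1) *
          pc F q (Fin.snoc i'.1 (j'.1 h)) * pc F q (j'.1 ∘ h.succAbove) :=
      Finset.sum_congr rfl (fun h hh => hother h (Finset.ne_of_mem_erase hh))
    rw [hrest] at Rp
    have hmain : (-1 : F) ^ (hx'.val + 1) * pc F p (Fin.snoc i'.1 (j'.1 hx')) *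
          pc F p (j'.1 ∘ hx'.succAbove) =
        (-1 : F) ^ (hx'.val + 1) * pc F q (Fin.snoc i'.1 (j'.1 hx')) *
          pc F q (j'.1 ∘ hx'.succAbove) := by
      have := Rp.trans Rq.symm
      exact add_right_cancel this
    rw [hjx] at hmain
    -- first factor: a permutation of θ₀
    have hxi : x ∉ img i'.1 := by
      rw [himgi]; exact Finset.notMem_erase x _
    have hsn_inj : Function.Injective (Fin.snoc i'.1 x : Fin (e + 1) → Fin n) :=
      snoc_injective _ i'.2.injective _ hxi
    have hsn_img : img (Fin.snoc i'.1 x : Fin (e + 1) → Fin n) = img θ₀.1 := by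
      rw [img_snoc, himgi, Finset.insert_erase hx0]
    have e1 : pc F p (Fin.snoc i'.1 x) = pc F q (Fin.snoc i'.1 x) := by
      apply pc_eq_of_near p q θ₀ H₁ _ hsn_inj x x hx0
      rw [hsn_img, Finset.insert_erase hx0]
    have hne : pc F q (Fin.snoc i'.1 x) ≠ 0 := by
      obtain ⟨π, hπ⟩ := exists_perm_of_range_eq _ θ₀.1 hsn_inj θ₀.2.injective
        (range_eq_of_img_eq _ _ hsn_img)
      rw [hπ, pc_comp_perm, pc_sorted]
      refine mul_ne_zero ?_ h0
      have : IsUnit ((((Equiv.Perm.sign π : ℤˣ) : ℤ) : F)) :=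
        (Units.isUnit (Equiv.Perm.sign π)).map (Int.castRingHom F)
      exact this.ne_zero
    -- second factor: a sorted tuple with the image of b
    set θ' : Idx (e + 1) n := ⟨j'.1 ∘ hx'.succAbove,
      j'.2.comp (Fin.strictMono_succAbove hx')⟩ with hθ'
    have hθ'img : img θ'.1 = img b := by
      show img (j'.1 ∘ hx'.succAbove) = img b
      rw [img_comp_succAbove _ j'.2.injective, himgj, hjx, Finset.erase_insert hxb]
    have hpq : p θ' = q θ' := by
      have h2 : pc F p θ'.1 = pc F q θ'.1 := by
        rw [e1] at hmain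
        have h3 : (-1 : F) ^ (hx'.val + 1) * pc F q (Fin.snoc i'.1 x) ≠ 0 :=
          mul_ne_zero (pow_ne_zero _ (by norm_num)) hne
        exact mul_left_cancel₀ h3 hmain
      rwa [pc_sorted, pc_sorted] at h2
    obtain ⟨π, hπ⟩ := exists_perm_of_range_eq b θ'.1 hbi θ'.2.injective
      (range_eq_of_img_eq _ _ hθ'img.symm)
    rw [hπ, pc_comp_perm, pc_comp_perm, pc_sorted, pc_sorted, hpq]

end Uniq


section Main

variable {F : Type u} [Field F] {e : ℕ}

theorem exists_matrix_of_quadrics (q : Idx (e + 1) n → F) (hq : q ≠ 0)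
    (Hq : ∀ (i' : Idx e n) (j' : Idx (e + 2) n), MvPolynomial.eval q (quadric F i' j') = 0) :
    ∃ A : Matrix (Fin n) (Fin (e + 1)) F, ∀ θ : Idx (e + 1) n, q θ = (A.submatrix θ.1 id).det := by
  obtain ⟨θ₀, h0⟩ : ∃ θ₀, q θ₀ ≠ 0 := by
    by_contra h
    push Not at h
    exact hq (funext h)
  refine ⟨candMatrix q θ₀, fun θ => ?_⟩
  set p : Idx (e + 1) n → F := fun θ => ((candMatrix q θ₀).submatrix θ.1 id).det with hp
  have Hp : ∀ (i' : Idx e n) (j' : Idx (e + 2) n), MvPolynomial.eval p (quadric F i' j') = 0 :=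
    fun i' j' => quadric_minors (candMatrix q θ₀) p (fun _ => rfl) i' j'
  have H₁ : ∀ c x, pc F p (Function.update θ₀.1 c x) = pc F q (Function.update θ₀.1 c x) := by
    intro c x
    rw [pc_minors (candMatrix q θ₀) p (fun _ => rfl), candMatrix_minor q θ₀ h0]
  have := uniq_aux p q θ₀ h0 Hp Hq H₁ _ θ.1 le_rfl
  rw [pc_sorted, pc_sorted] at this
  exact this.symm

end Main

end Groth.Agent.Lib.Seat50.Plucker
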