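import Mathlib
import Groth.Prelude.Def_W4bk4grassmannianPl

/-!
# Linear independence of standard monomials on Schubert varieties (helper50)
-/

namespace Groth.Agent.Lib.Seat50.StdIndep

open W4bk4grassmannian

universe u

section ZeroBlock

variable {R : Type*} [CommRing R] {d n : ℕ}

/-- A matrix with `A l t = 0` for `l > τ t` has vanishing minors on all rows `φ ≰ τ`. -/
theorem det_submatrix_eq_zero (τ φ : Idx d n) (A : Matrix (Fin n) (Fin d) R)
    (hA : ∀ l t, τ.1 t < l → A l t = 0) (hφ : ¬ φ ≤ τ) : (A.submatrix φ.1 id).det = 0 := by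
  have hφ' : ∃ s, τ.1 s < φ.1 s := by
    by_contra h
    push Not at h
    exact hφ h
  obtain ⟨s₀, hs₀⟩ := hφ'
  rw [Matrix.det_apply]
  refine Finset.sum_eq_zero (fun σ _ => ?_)
  -- find t ≤ s₀ with σ t ≥ s₀
  have hex : ∃ t, t ≤ s₀ ∧ s₀ ≤ σ t := by
    by_contra h
    push Not at h
    have hmaps : ∀ t ∈ Finset.Iic s₀, σ t ∈ Finset.Iio s₀ := by
      intro t ht
      rw [Finset.mem_Iio]
      exact h t (Finset.mem_Iic.mp ht)
    have := Finset.card_le_card_of_injOn σ hmaps (fun a _ b _ hab => σ.injective hab)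
    rw [Fin.card_Iic, Fin.card_Iio] at this
    omega
  obtain ⟨t, ht, hst⟩ := hex
  have hz : (A.submatrix φ.1 id) (σ t) t = 0 := by
    rw [Matrix.submatrix_apply]
    apply hA
    calc τ.1 t ≤ τ.1 s₀ := τ.2.monotone ht
      _ < φ.1 s₀ := hs₀
      _ ≤ φ.1 (σ t) := φ.2.monotone hst
  have hprod : ∏ i, (A.submatrix φ.1 id) (σ i) i = 0 :=
    Finset.prod_eq_zero (Finset.mem_univ t) hz
  rw [hprod, smul_zero]

end ZeroBlock

section MonicIndep

open scoped MonomialOrder

variable {σ : Type*} {K : Type*} [CommRing K] (m : MonomialOrder σ)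

/-- Monic polynomials with pairwise distinct degrees are linearly independent. -/
theorem eq_zero_of_sum_monic {ι : Type*} (F : Finset ι) (P : ι → MvPolynomial σ K)
    (hP : ∀ c ∈ F, m.Monic (P c))
    (hinj : ∀ c ∈ F, ∀ c' ∈ F, m.degree (P c) = m.degree (P c') → c = c')
    (a : ι → K) (hsum : ∑ c ∈ F, a c • P c = 0) : ∀ c ∈ F, a c = 0 := by
  classical
  by_contra hne
  push Not at hne
  obtain ⟨c₀, hc₀F, hc₀⟩ := hne
  set G := F.filter fun c => a c ≠ 0 with hG
  have hGne : G.Nonempty := ⟨c₀, Finset.mem_filter.mpr ⟨hc₀F, hc₀⟩⟩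
  obtain ⟨c₁, hc₁G, hmax⟩ := Finset.exists_max_image G (fun c => m.toSyn (m.degree (P c))) hGne
  have hc₁F : c₁ ∈ F := (Finset.mem_filter.mp hc₁G).1
  have hc₁a : a c₁ ≠ 0 := (Finset.mem_filter.mp hc₁G).2
  have hcoeff := congrArg (MvPolynomial.coeff (m.degree (P c₁))) hsum
  rw [MvPolynomial.coeff_sum, MvPolynomial.coeff_zero] at hcoeff
  rw [Finset.sum_eq_single c₁] at hcoeff
  · rw [MvPolynomial.coeff_smul, (hP c₁ hc₁F).coeff_degree, smul_eq_mul, mul_one] at hcoeff
    exact hc₁a hcoeff
  · intro c hcF hcc₁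
    rw [MvPolynomial.coeff_smul]
    by_cases hac : a c = 0
    · rw [hac, zero_smul]
    · have hcG : c ∈ G := Finset.mem_filter.mpr ⟨hcF, hac⟩
      have hle := hmax c hcG
      have hne' : m.toSyn (m.degree (P c)) ≠ m.toSyn (m.degree (P c₁)) := by
        intro h
        exact hcc₁ (hinj c hcF c₁ hc₁F (m.toSyn.injective h))
      have hlt : m.degree (P c) ≺[m] m.degree (P c₁) := lt_of_le_of_ne hle hne'
      rw [m.coeff_eq_zero_of_lt hlt, smul_zero]
  · intro h; exact absurd hc₁F h

end MonicIndep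

section Sorted

theorem antitone_eq_of_multiset_eq {m : ℕ} {α : Type*} [LinearOrder α] (f g : Fin m → α)
    (hf : Antitone f) (hg : Antitone g)
    (h : Multiset.map f Finset.univ.val = Multiset.map g Finset.univ.val) : f = g := by
  rw [Fin.univ_val_map, Fin.univ_val_map] at h
  have hperm : (List.ofFn f).Perm (List.ofFn g) := Quotient.exact h
  have h1 : (List.ofFn f).SortedGE := List.sortedGE_ofFn_iff.mpr hf
  have h2 : (List.ofFn g).SortedGE := List.sortedGE_ofFn_iff.mpr hg
  exact List.ofFn_injective (List.Perm.eq_of_sortedGE h1 h2 hperm)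

end Sorted

section Lead

open scoped MonomialOrder
open MvPolynomial

variable {d n : ℕ}

/-- The variables of the auxiliary polynomial ring, in lexicographic (row-major) order. -/
abbrev Var (d n : ℕ) : Type := Lex (Fin n × Fin d)

/-- Exponent of the "diagonal" monomial `∏_t y_{f t, t}`. -/
noncomputable def Dexp (f : Fin d → Fin n) : Var d n →₀ ℕ :=
  ∑ t : Fin d, Finsupp.single (toLex (f t, t)) 1

theorem Dexp_apply (f : Fin d → Fin n) (l : Fin n) (t : Fin d) :
    Dexp f (toLex (l, t)) = if f t = l then 1 else 0 := by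
  rw [Dexp, Finsupp.finsetSum_apply, Finset.sum_eq_single t]
  · rw [Finsupp.single_apply]
    by_cases h : f t = l
    · rw [if_pos h, if_pos (by rw [h])]
    · rw [if_neg h, if_neg]
      intro h'
      apply h
      have := congrArg (fun x => (ofLex x).1) h'
      simpa using this
  · intro s _ hs
    rw [Finsupp.single_apply, if_neg]
    intro h
    apply hs
    have := congrArg (fun x => (ofLex x).2) h
    simpa using this
  · intro h; exact absurd (Finset.mem_univ t) h

theorem Dexp_comp_lt (θ : Idx d n) (σ : Equiv.Perm (Fin d)) (hσ : σ ≠ 1) :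
    toLex (Dexp (θ.1 ∘ σ)) < toLex (Dexp θ.1) := by
  classical
  have hex : ∃ t, σ t ≠ t := by
    by_contra h
    push Not at h
    exact hσ (Equiv.ext h)
  obtain ⟨P, hPdef⟩ : ∃ P : Finset (Fin d), P = Finset.univ.filter (fun t => σ t ≠ t) := ⟨_, rfl⟩
  have hP : P.Nonempty := by
    obtain ⟨t, ht⟩ := hex
    exact ⟨t, by rw [hPdef]; exact Finset.mem_filter.mpr ⟨Finset.mem_univ _, ht⟩⟩
  obtain ⟨ρ, hρdef⟩ : ∃ ρ, ρ = P.min' hP := ⟨_, rfl⟩
  have hρ : σ ρ ≠ ρ := by
    have := P.min'_mem hP
    rw [← hρdef, hPdef] at this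
    exact (Finset.mem_filter.mp this).2
  have hfix : ∀ t, t < ρ → σ t = t := by
    intro t ht
    by_contra h
    have hmem : t ∈ P := by rw [hPdef]; exact Finset.mem_filter.mpr ⟨Finset.mem_univ _, h⟩
    have := P.min'_le t hmem
    rw [← hρdef] at this
    exact absurd this (not_le.mpr ht)
  rw [Finsupp.Lex.lt_iff]
  refine ⟨toLex (θ.1 ρ, ρ), ?_, ?_⟩
  · intro j hj
    obtain ⟨l, t, rfl⟩ : ∃ l t, j = toLex (l, t) := ⟨(ofLex j).1, (ofLex j).2, rfl⟩
    show (Dexp (θ.1 ∘ σ)) (toLex (l, t)) = (Dexp θ.1) (toLex (l, t))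
    rw [Dexp_apply, Dexp_apply]
    rw [Prod.Lex.toLex_lt_toLex] at hj
    simp only [Function.comp_apply]
    rcases hj with hj | ⟨hj1, hj2⟩
    · -- l < θ ρ
      by_cases h1 : θ.1 t = l
      · have htρ : t < ρ := θ.2.lt_iff_lt.mp (by rw [h1]; exact hj)
        rw [if_pos h1, if_pos (by rw [hfix t htρ]; exact h1)]
      · rw [if_neg h1, if_neg]
        intro h2
        have hσtρ : σ t < ρ := θ.2.lt_iff_lt.mp (by rw [h2]; exact hj)
        have h3 : σ (σ t) = σ t := hfix _ hσtρ
        have h4 : σ t = t := σ.injective h3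
        rw [h4] at h2
        exact h1 h2
    · -- l = θ ρ, t < ρ
      simp only at hj1 hj2
      subst hj1
      rw [if_neg, if_neg]
      · intro h; exact absurd (θ.2.injective h) (ne_of_lt hj2)
      · intro h
        rw [hfix t hj2] at h
        exact absurd (θ.2.injective h) (ne_of_lt hj2)
  · show (Dexp (θ.1 ∘ σ)) (toLex (θ.1 ρ, ρ)) < (Dexp θ.1) (toLex (θ.1 ρ, ρ))
    rw [Dexp_apply, Dexp_apply, if_pos rfl, if_neg]
    · exact Nat.zero_lt_one
    · intro h
      exact hρ (θ.2.injective h)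

theorem prod_X_eq_monomial (K : Type u) [CommRing K] (f : Fin d → Fin n) :
    ∏ t : Fin d, (X (toLex (f t, t)) : MvPolynomial (Var d n) K) = monomial (Dexp f) 1 := by
  rw [Dexp, monomial_sum_one]
  rfl

end Lead


section Minors

open scoped MonomialOrder
open MvPolynomial

variable {d n : ℕ} (K : Type u) [Field K]

/-- The generic matrix truncated to the Schubert cell pattern of `τ`. -/
noncomputable def Y (τ : Idx d n) : Matrix (Fin n) (Fin d) (MvPolynomial (Var d n) K) :=
  Matrix.of fun l t => if l ≤ τ.1 t then X (toLex (l, t)) else 0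

/-- The minor of the truncated generic matrix on the rows `a`. -/
noncomputable def pmin (τ : Idx d n) (a : Fin d → Fin n) : MvPolynomial (Var d n) K :=
  ((Y K τ).submatrix a id).det

/-- coefficient of the term of `σ` in the Leibniz expansion of the truncated minor. -/
noncomputable def cσ (τ θ : Idx d n) (σ : Equiv.Perm (Fin d)) : K :=
  ((Equiv.Perm.sign σ : ℤ) : K) * (if ∀ t, θ.1 (σ t) ≤ τ.1 t then 1 else 0)

theorem pmin_eq_sum (τ θ : Idx d n) :
    pmin K τ θ.1 = ∑ σ : Equiv.Perm (Fin d), monomial (Dexp (θ.1 ∘ σ)) (cσ K τ θ σ) := by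
  rw [pmin, Matrix.det_apply]
  refine Finset.sum_congr rfl (fun σ _ => ?_)
  have hentry : ∀ t, ((Y K τ).submatrix θ.1 id) (σ t) t =
      if θ.1 (σ t) ≤ τ.1 t then X (toLex (θ.1 (σ t), t)) else 0 := fun t => rfl
  rw [Finset.prod_congr rfl (fun t _ => hentry t)]
  by_cases hall : ∀ t, θ.1 (σ t) ≤ τ.1 t
  · have hprod : ∏ t, (if θ.1 (σ t) ≤ τ.1 t then X (toLex (θ.1 (σ t), t)) else 0 :
        MvPolynomial (Var d n) K) = monomial (Dexp (θ.1 ∘ σ)) 1 := by
      rw [← prod_X_eq_monomial]
      exact Finset.prod_congr rfl (fun t _ => by rw [if_pos (hall t)]; rfl)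
    rw [hprod, cσ, if_pos hall, mul_one]
    rcases Int.units_eq_one_or (Equiv.Perm.sign σ) with h | h <;> simp [h]
  · have hall' := hall
    push Not at hall
    obtain ⟨t, ht⟩ := hall
    have hz : (if θ.1 (σ t) ≤ τ.1 t then X (toLex (θ.1 (σ t), t)) else 0 :
        MvPolynomial (Var d n) K) = 0 := by rw [if_neg (not_le.mpr ht)]
    rw [Finset.prod_eq_zero (Finset.mem_univ t) hz, smul_zero, cσ, if_neg hall', mul_zero,
      monomial_zero]

theorem pmin_monic (τ θ : Idx d n) (hθ : θ ≤ τ) :
    (MonomialOrder.lex).Monic (pmin K τ θ.1) ∧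
      (MonomialOrder.lex).degree (pmin K τ θ.1) = Dexp θ.1 := by
  have hle : ∀ σ : Equiv.Perm (Fin d), toLex (Dexp (θ.1 ∘ σ)) ≤ toLex (Dexp θ.1) := by
    intro σ
    by_cases hσ : σ = 1
    · subst hσ; exact le_of_eq rfl
    · exact le_of_lt (Dexp_comp_lt θ σ hσ)
  have hdeg_le : (MonomialOrder.lex).degree (pmin K τ θ.1) ≼[MonomialOrder.lex] Dexp θ.1 := by
    rw [pmin_eq_sum]
    refine le_trans (MonomialOrder.lex).degree_sum_le (Finset.sup_le fun σ _ => ?_)
    exact le_trans ((MonomialOrder.lex).degree_monomial_le _) (hle σ)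
  have hcoeff : coeff (Dexp θ.1) (pmin K τ θ.1) = 1 := by
    rw [pmin_eq_sum, coeff_sum]
    simp only [coeff_monomial]
    rw [Finset.sum_eq_single 1]
    · have hall : ∀ t, θ.1 ((1 : Equiv.Perm (Fin d)) t) ≤ τ.1 t := fun t => hθ t
      rw [if_pos (by rfl), cσ, Equiv.Perm.sign_one, if_pos hall]
      simp
    · intro σ _ hσ
      rw [if_neg]
      intro h
      have := Dexp_comp_lt θ σ hσ
      rw [h] at this
      exact lt_irrefl _ this
    · intro h; exact absurd (Finset.mem_univ _) h
  have hdeg : (MonomialOrder.lex).degree (pmin K τ θ.1) = Dexp θ.1 := by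
    apply (MonomialOrder.lex).toSyn.injective
    apply le_antisymm hdeg_le
    apply (MonomialOrder.lex).le_degree
    rw [mem_support_iff, hcoeff]
    exact one_ne_zero
  refine ⟨?_, hdeg⟩
  rw [MonomialOrder.Monic, MonomialOrder.leadingCoeff, hdeg]
  exact hcoeff

theorem pmin_eq_zero (τ φ : Idx d n) (hφ : ¬ φ ≤ τ) : pmin K τ φ.1 = 0 := by
  apply det_submatrix_eq_zero τ φ (Y K τ) _ hφ
  intro l t hlt
  simp only [Y, Matrix.of_apply]
  rw [if_neg (not_le.mpr hlt)]

end Minors

section Chains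

open scoped MonomialOrder
open MvPolynomial

variable {d n : ℕ}

/-- Antitone sequences (of any length) in `I(d,n)`: the data of standard monomials. -/
abbrev Chain (d n : ℕ) : Type := Σ m : ℕ, {c : Fin m → Idx d n // Antitone c}

/-- Exponent of the product of the diagonal monomials along a sequence. -/
noncomputable def Dchain {m : ℕ} (c : Fin m → Idx d n) : Var d n →₀ ℕ := ∑ k, Dexp (c k).1

theorem Dchain_apply {m : ℕ} (c : Fin m → Idx d n) (l : Fin n) (t : Fin d) :
    Dchain c (toLex (l, t)) = ∑ k : Fin m, if (c k).1 t = l then 1 else 0 := by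
  rw [Dchain, Finsupp.finsetSum_apply]
  exact Finset.sum_congr rfl (fun k _ => Dexp_apply _ l t)

theorem sum_Dchain {m : ℕ} (c : Fin m → Idx d n) (t : Fin d) :
    ∑ l : Fin n, Dchain c (toLex (l, t)) = m := by
  simp only [Dchain_apply]
  rw [Finset.sum_comm]
  simp

theorem Dchain_injective (hd : 0 < d) (c c' : Chain d n) (h : Dchain c.2.1 = Dchain c'.2.1) :
    c = c' := by
  obtain ⟨m, c, hc⟩ := c
  obtain ⟨m', c', hc'⟩ := c'
  simp only at h
  have hm : m = m' := by
    rw [← sum_Dchain c ⟨0, hd⟩, ← sum_Dchain c' ⟨0, hd⟩, h]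
  subst hm
  have hcol : ∀ t : Fin d, (fun k => (c k).1 t) = fun k => (c' k).1 t := by
    intro t
    apply antitone_eq_of_multiset_eq
    · intro k k' hkk'; exact hc hkk' t
    · intro k k' hkk'; exact hc' hkk' t
    · ext l
      rw [Multiset.count_map, Multiset.count_map]
      have h1 := Dchain_apply c l t
      have h2 := Dchain_apply c' l t
      rw [h] at h1
      rw [h1] at h2
      have e1 : (Multiset.filter (fun k => l = (c k).1 t) Finset.univ.val).card =
          ∑ k : Fin m, if (c k).1 t = l then 1 else 0 := by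
        rw [Finset.sum_boole]
        simp only [Nat.cast_id]
        rw [← Finset.filter_val, Finset.card_val]
        congr 1
        ext k
        simp [eq_comm]
      have e2 : (Multiset.filter (fun k => l = (c' k).1 t) Finset.univ.val).card =
          ∑ k : Fin m, if (c' k).1 t = l then 1 else 0 := by
        rw [Finset.sum_boole]
        simp only [Nat.cast_id]
        rw [← Finset.filter_val, Finset.card_val]
        congr 1
        ext k
        simp [eq_comm]
      rw [e1, e2, h2]
  have hcc' : c = c' := by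
    funext k
    apply Subtype.ext
    funext t
    exact congrFun (hcol t) k
  subst hcc'
  rfl

end Chains

section Main

open scoped MonomialOrder
open MvPolynomial

variable {d n : ℕ} (K : Type u) [Field K]

/-- Substitution of the truncated generic minors for the Plücker coordinates. -/
noncomputable def evτ (τ : Idx d n) : PlRing K d n →ₐ[K] MvPolynomial (Var d n) K :=
  aeval fun θ : Idx d n => pmin K τ θ.1

theorem evτ_chainMon (τ : Idx d n) {m : ℕ} (c : Fin m → Idx d n) :
    evτ K τ (chainMon K c) = ∏ k, pmin K τ (c k).1 := by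
  rw [chainMon, map_prod]
  refine Finset.prod_congr rfl (fun k _ => ?_)
  rw [evτ, aeval_X]

theorem evτ_chainMon_eq_zero (τ : Idx d n) {m : ℕ} (c : Fin m → Idx d n)
    (hc : ¬ ∀ k, c k ≤ τ) : evτ K τ (chainMon K c) = 0 := by
  push Not at hc
  obtain ⟨k, hk⟩ := hc
  rw [evτ_chainMon]
  exact Finset.prod_eq_zero (Finset.mem_univ k) (pmin_eq_zero K τ (c k) hk)

theorem chain_monic (τ : Idx d n) {m : ℕ} (c : Fin m → Idx d n) (hc : ∀ k, c k ≤ τ) :
    (MonomialOrder.lex).Monic (∏ k, pmin K τ (c k).1) ∧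
      (MonomialOrder.lex).degree (∏ k, pmin K τ (c k).1) = Dchain c := by
  refine ⟨MonomialOrder.Monic.prod (fun k _ => (pmin_monic K τ (c k) (hc k)).1), ?_⟩
  rw [(MonomialOrder.lex).degree_prod
    (fun k _ => ((pmin_monic K τ (c k) (hc k)).1).ne_zero), Dchain]
  exact Finset.sum_congr rfl (fun k _ => (pmin_monic K τ (c k) (hc k)).2)

/-- The matrix over `K` obtained by evaluating the truncated generic matrix. -/
noncomputable def Ymat (τ : Idx d n) (y : Var d n → K) : Matrix (Fin n) (Fin d) K :=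
  (Y K τ).map (eval y)

theorem Ymat_schubert (τ : Idx d n) (y : Var d n → K) (φ : Idx d n) (hφ : ¬ φ ≤ τ) :
    ((Ymat K τ y).submatrix φ.1 id).det = 0 := by
  apply det_submatrix_eq_zero τ φ (Ymat K τ y) _ hφ
  intro l t hlt
  simp only [Ymat, Y, Matrix.map_apply, Matrix.of_apply]
  rw [if_neg (not_le.mpr hlt), map_zero]

theorem eval_evτ (τ : Idx d n) (y : Var d n → K) (f : PlRing K d n) :
    eval y (evτ K τ f) = evalMinors K d n (Ymat K τ y) f := by
  have h : (aeval y : MvPolynomial (Var d n) K →ₐ[K] K).comp (evτ K τ) =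
      evalMinors K d n (Ymat K τ y) := by
    apply MvPolynomial.algHom_ext
    intro θ
    rw [AlgHom.comp_apply, evτ, aeval_X, evalMinors, aeval_X, pmin]
    change (eval y) ((Y K τ).submatrix θ.1 id).det = _
    rw [RingHom.map_det]
    rfl
  have := congrArg (fun g => g f) h
  simpa using this

theorem evτ_eq_zero_of_mem [Infinite K] (τ : Idx d n) (f : PlRing K d n)
    (hf : f ∈ schubertVanishing K d n τ) : evτ K τ f = 0 := by
  apply MvPolynomial.funext
  intro y
  rw [eval_evτ, map_zero]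
  have h1 := Ideal.mem_iInf.mp hf (Ymat K τ y)
  have h2 := Ideal.mem_iInf.mp h1 (Ymat_schubert K τ y)
  exact h2

/-- **Independence of standard monomials.**  If a linear combination of standard monomials lies in
the vanishing ideal of the Schubert variety `X(τ)`, then the coefficient of every standard monomial
on `X(τ)` is zero. -/
theorem coeff_eq_zero_of_mem [Infinite K] (hd : 0 < d) (τ : Idx d n) (a : Chain d n →₀ K)
    (hmem : (a.sum fun c x => x • chainMon K c.2.1) ∈ schubertVanishing K d n τ)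
    (c : Chain d n) (hc : ∀ k, c.2.1 k ≤ τ) : a c = 0 := by
  classical
  have h0 := evτ_eq_zero_of_mem K τ _ hmem
  rw [Finsupp.sum, map_sum] at h0
  set F := a.support.filter fun c : Chain d n => ∀ k, c.2.1 k ≤ τ with hF
  have h1 : ∑ c ∈ F, a c • (∏ k, pmin K τ (c.2.1 k).1) = 0 := by
    rw [← h0, hF, Finset.sum_filter]
    refine Finset.sum_congr rfl (fun c _ => ?_)
    rw [map_smul]
    by_cases hc : ∀ k, c.2.1 k ≤ τ
    · rw [if_pos hc, evτ_chainMon]
    · rw [if_neg hc, evτ_chainMon_eq_zero K τ _ hc, smul_zero]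
  have hz := eq_zero_of_sum_monic (MonomialOrder.lex) F
    (fun c : Chain d n => ∏ k, pmin K τ (c.2.1 k).1)
    (fun c hcF => (chain_monic K τ c.2.1 (Finset.mem_filter.mp hcF).2).1)
    (fun c hcF c' hc'F hdeg => by
      rw [(chain_monic K τ c.2.1 (Finset.mem_filter.mp hcF).2).2,
        (chain_monic K τ c'.2.1 (Finset.mem_filter.mp hc'F).2).2] at hdeg
      exact Dchain_injective hd c c' hdeg)
    (fun c => a c) h1
  by_cases hcs : c ∈ a.support
  · exact hz c (Finset.mem_filter.mpr ⟨hcs, hc⟩)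
  · exact Finsupp.notMem_support_iff.mp hcs

end Main

end Groth.Agent.Lib.Seat50.StdIndep
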