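import Mathlib
import Groth.Prelude.Def_W4bk4grassmannianPl
import Groth.Agent.Lib.Seat50Plucker

/-!
# The shuffle relations vanish at the minors of a matrix (helper50)

`evalMinors_shuffleRel`: for every `n × d` matrix `A` over a commutative ring and all `i j r`,
the shuffle relation `shuffleRel K i j r` is killed by `evalMinors K d n A`.  The proof realises the
evaluated relation as a multilinear map in the `d + 1` moving rows, shows that it vanishes when two
adjacent rows agree (sign-reversing involution on the shuffles), deduces that it is alternating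
(`map_eq_zero_of_adjacent`) and hence zero on `d + 1` vectors of a free module of rank `d`.
-/

namespace Groth.Agent.Lib.Seat50.Shuffle

open W4bk4grassmannian

universe u


section Adjacent

variable {R M N : Type*} [CommSemiring R] [AddCommMonoid M] [Module R M] [AddCommGroup N] [Module R N]

theorem map_swap_adjacent {m : ℕ} (f : MultilinearMap R (fun _ : Fin m => M) N)
    (hadj : ∀ (v : Fin m → M) (k : Fin m) (hk : k.val + 1 < m), v k = v ⟨k.val + 1, hk⟩ → f v = 0)
    (v : Fin m → M) (k : Fin m) (hk : k.val + 1 < m) :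
    f (v ∘ Equiv.swap k ⟨k.val + 1, hk⟩) = - f v := by
  obtain ⟨k', hk'⟩ : ∃ k' : Fin m, k' = ⟨k.val + 1, hk⟩ := ⟨_, rfl⟩
  have hadj' : ∀ (w : Fin m → M), w k = w k' → f w = 0 := by
    intro w hw; rw [hk'] at hw; exact hadj w k hk hw
  rw [← hk']
  have hkk' : k ≠ k' := by
    intro h; have := congrArg Fin.val h; rw [hk'] at this; simp at this
  have hupd : ∀ (w : Fin m → M) (x : M), f (Function.update (Function.update w k x) k' x) = 0 := by
    intro w x
    apply hadj'
    rw [Function.update_of_ne hkk', Function.update_self, Function.update_self]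
  have hself1 : f (Function.update v k (v k')) = 0 := by
    apply hadj'
    rw [Function.update_self, Function.update_of_ne hkk'.symm]
  have hself2 : f (Function.update v k' (v k)) = 0 := by
    apply hadj'
    rw [Function.update_of_ne hkk', Function.update_self]
  have key := hupd v (v k + v k')
  rw [MultilinearMap.map_update_add, Function.update_comm hkk' (v k + v k') (v k) v,
    Function.update_comm hkk' (v k + v k') (v k') v,
    MultilinearMap.map_update_add, MultilinearMap.map_update_add] at key
  rw [Equiv.comp_swap_eq_update]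
  have e1 : Function.update (Function.update v k' (v k)) k (v k) = Function.update v k' (v k) := by
    rw [Function.update_comm hkk'.symm, Function.update_eq_self]
  have e2 : Function.update (Function.update v k' (v k')) k (v k') = Function.update v k (v k') := by
    rw [Function.update_eq_self]
  have e3 : Function.update (Function.update v k' (v k')) k (v k) = v := by
    rw [Function.update_eq_self, Function.update_eq_self]
  rw [e1, e2, e3, hself1, hself2] at key
  rw [eq_neg_iff_add_eq_zero]
  simpa using key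

theorem map_eq_zero_of_adjacent {m : ℕ} (f : MultilinearMap R (fun _ : Fin m => M) N)
    (hadj : ∀ (v : Fin m → M) (k : Fin m) (hk : k.val + 1 < m), v k = v ⟨k.val + 1, hk⟩ → f v = 0)
    (v : Fin m → M) (i j : Fin m) (hij : i ≠ j) (h : v i = v j) : f v = 0 := by
  -- wlog i < j
  wlog hlt : i < j generalizing i j
  · exact this j i hij.symm h.symm (lt_of_le_of_ne (not_lt.mp hlt) hij.symm)
  -- induction on j - i
  obtain ⟨s, hs⟩ : ∃ s : ℕ, j.val = i.val + s + 1 := ⟨j.val - i.val - 1, by
    have : i.val < j.val := hlt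
    omega⟩
  induction s generalizing v j with
  | zero =>
    have hk : i.val + 1 < m := by have := j.isLt; omega
    have : j = ⟨i.val + 1, hk⟩ := Fin.ext (by simpa using hs)
    subst this
    exact hadj v i hk h
  | succ s ih =>
    -- swap j-1 and j
    have hj1 : j.val - 1 < m := by have := j.isLt; omega
    set j1 : Fin m := ⟨j.val - 1, hj1⟩ with hj1def
    have hk : j1.val + 1 < m := by have := j.isLt; simp [j1]; omega
    have hjeq : j = ⟨j1.val + 1, hk⟩ := Fin.ext (by simp [j1]; omega)
    have hsw := map_swap_adjacent f hadj v j1 hk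
    rw [← hjeq] at hsw
    have hij1 : i ≠ j1 := by
      intro h'; have := congrArg Fin.val h'; simp [j1] at this; omega
    have hj1j : j1 ≠ j := by
      intro h'; have := congrArg Fin.val h'; simp [j1] at this; omega
    have h0 : f (v ∘ Equiv.swap j1 j) = 0 := by
      apply ih (v ∘ Equiv.swap j1 j) j1 hij1
      · simp only [Function.comp_apply]
        rw [Equiv.swap_apply_of_ne_of_ne hij1 hij, Equiv.swap_apply_left]
        exact h
      · exact Fin.lt_def.mpr (by simp [j1]; omega)
      · simp [j1]; omega
    rw [h0] at hsw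
    exact neg_eq_zero.mp hsw.symm

end Adjacent




section Build

variable {K : Type u} [CommRing K] {d : ℕ}

/-- matrix with first `r+1` rows `x` and the remaining rows from `u`. -/
def M1 (r : Fin d) (u : Fin d → Fin d → K) (x : Fin (r.val + 1) → Fin d → K) :
    Matrix (Fin d) (Fin d) K :=
  Matrix.of fun t => if h : t.val ≤ r.val then x ⟨t.val, by omega⟩ else u t

/-- matrix with first `r` rows from `w` and the remaining `d - r` rows `y`. -/
def M2 (r : Fin d) (w : Fin d → Fin d → K) (y : Fin (d - r.val) → Fin d → K) :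
    Matrix (Fin d) (Fin d) K :=
  Matrix.of fun t => if h : t.val < r.val then w t
    else y ⟨t.val - r.val, by have := t.isLt; omega⟩

theorem M1_update (r : Fin d) (u : Fin d → Fin d → K) [DecidableEq (Fin (r.val + 1))]
    (x : Fin (r.val + 1) → Fin d → K) (p : Fin (r.val + 1)) (a : Fin d → K) :
    M1 r u (Function.update x p a) =
      (M1 r u x).updateRow ⟨p.val, lt_of_lt_of_le p.isLt r.isLt⟩ a := by
  ext t c
  rw [Matrix.updateRow_apply]
  by_cases ht : t = ⟨p.val, lt_of_lt_of_le p.isLt r.isLt⟩
  · subst ht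
    have hp : p.val ≤ r.val := Nat.lt_succ_iff.mp p.isLt
    simp only [M1, Matrix.of_apply]
    rw [dif_pos (by exact hp)]
    simp
  · rw [if_neg ht]
    simp only [M1, Matrix.of_apply]
    by_cases h : t.val ≤ r.val
    · rw [dif_pos h, dif_pos h, Function.update_of_ne]
      intro h'
      apply ht
      have := congrArg Fin.val h'
      exact Fin.ext (by simpa using this)
    · rw [dif_neg h, dif_neg h]

theorem M2_update (r : Fin d) (w : Fin d → Fin d → K) [DecidableEq (Fin (d - r.val))]
    (y : Fin (d - r.val) → Fin d → K) (p : Fin (d - r.val)) (a : Fin d → K) :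
    M2 r w (Function.update y p a) =
      (M2 r w y).updateRow ⟨p.val + r.val, by have := p.isLt; omega⟩ a := by
  ext t c
  rw [Matrix.updateRow_apply]
  by_cases ht : t = ⟨p.val + r.val, by have := p.isLt; omega⟩
  · subst ht
    simp only [M2, Matrix.of_apply]
    rw [dif_neg (by simp)]
    simp
  · rw [if_neg ht]
    simp only [M2, Matrix.of_apply]
    by_cases h : t.val < r.val
    · rw [dif_pos h, dif_pos h]
    · rw [dif_neg h, dif_neg h, Function.update_of_ne]
      intro h'
      apply ht
      have := congrArg Fin.val h'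
      exact Fin.ext (by simp at this; simp; omega)

/-- `x ↦ det [x, u]` as a multilinear map. -/
def phi (r : Fin d) (u : Fin d → Fin d → K) :
    MultilinearMap K (fun _ : Fin (r.val + 1) => Fin d → K) K where
  toFun x := (M1 r u x).det
  map_update_add' := by
    intro _ x p a b
    rw [M1_update, M1_update, M1_update, Matrix.det_updateRow_add]
  map_update_smul' := by
    intro _ x p c a
    rw [M1_update, M1_update, Matrix.det_updateRow_smul, smul_eq_mul]

/-- `y ↦ det [w, y]` as a multilinear map. -/
def psi (r : Fin d) (w : Fin d → Fin d → K) :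
    MultilinearMap K (fun _ : Fin (d - r.val) => Fin d → K) K where
  toFun y := (M2 r w y).det
  map_update_add' := by
    intro _ x p a b
    rw [M2_update, M2_update, M2_update, Matrix.det_updateRow_add]
  map_update_smul' := by
    intro _ x p c a
    rw [M2_update, M2_update, Matrix.det_updateRow_smul, smul_eq_mul]

theorem card_compl_of {r : Fin d} {S : Finset (Fin (d + 1))} (hS : S.card = r.val + 1) :
    Sᶜ.card = d - r.val := by
  rw [Finset.card_compl, hS, Fintype.card_fin]; omega

/-- one term of the shuffle sum as a multilinear map in the `d + 1` moving vectors. -/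
def termMap (r : Fin d) (u w : Fin d → Fin d → K) (S : Finset (Fin (d + 1)))
    (hS : S.card = r.val + 1) : MultilinearMap K (fun _ : Fin (d + 1) => Fin d → K) K :=
  (LinearMap.mul' K K).compMultilinearMap
    (((phi r u).domCoprod (psi r w)).domDomCongr (finSumEquivOfFinset hS (card_compl_of hS)))

theorem termMap_apply (r : Fin d) (u w : Fin d → Fin d → K) (S : Finset (Fin (d + 1)))
    (hS : S.card = r.val + 1) (v : Fin (d + 1) → Fin d → K) :
    termMap r u w S hS v =
      (M1 r u (fun p => v (S.orderEmbOfFin hS p))).det *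
        (M2 r w (fun p => v (Sᶜ.orderEmbOfFin (card_compl_of hS) p))).det := by
  simp [termMap, phi, psi, MultilinearMap.domCoprod]

/-- The shuffle sum (with signs `(-1)^{Σ S}`) as a multilinear map. -/
def shuffleMap (r : Fin d) (u w : Fin d → Fin d → K) :
    MultilinearMap K (fun _ : Fin (d + 1) => Fin d → K) K :=
  ∑ S : Finset (Fin (d + 1)), if hS : S.card = r.val + 1 then
    ((-1 : K) ^ (S.sum fun a => a.val)) • termMap r u w S hS else 0

theorem shuffleMap_apply (r : Fin d) (u w : Fin d → Fin d → K) (v : Fin (d + 1) → Fin d → K) :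
    shuffleMap r u w v = ∑ S : Finset (Fin (d + 1)), if hS : S.card = r.val + 1 then
      ((-1 : K) ^ (S.sum fun a => a.val)) *
        ((M1 r u (fun p => v (S.orderEmbOfFin hS p))).det *
          (M2 r w (fun p => v (Sᶜ.orderEmbOfFin (card_compl_of hS) p))).det) else 0 := by
  rw [shuffleMap, MultilinearMap.sum_apply]
  refine Finset.sum_congr rfl (fun S _ => ?_)
  by_cases hS : S.card = r.val + 1
  · rw [dif_pos hS, dif_pos hS, MultilinearMap.smul_apply, termMap_apply, smul_eq_mul]
  · rw [dif_neg hS, dif_neg hS, MultilinearMap.zero_apply]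

end Build




section Swap

variable {N : ℕ}

theorem swap_lt_swap (T : Finset (Fin N)) (k k' : Fin N) (hkk' : k'.val = k.val + 1)
    (hT : ¬ (k ∈ T ∧ k' ∈ T)) {x y : Fin N} (hx : x ∈ T) (hy : y ∈ T) (hxy : x < y) :
    Equiv.swap k k' x < Equiv.swap k k' y := by
  have hxy' : x.val < y.val := hxy
  rw [Equiv.swap_apply_def, Equiv.swap_apply_def]
  by_cases h1 : x = k
  · subst h1
    rw [if_pos rfl]
    by_cases h2 : y = x
    · subst h2; exact absurd hxy (lt_irrefl _)
    · rw [if_neg h2]
      by_cases h3 : y = k'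
      · subst h3; exact absurd ⟨hx, hy⟩ hT
      · rw [if_neg h3]
        have : y.val ≠ k'.val := fun h => h3 (Fin.ext h)
        exact Fin.lt_def.mpr (by omega)
  · rw [if_neg h1]
    by_cases h2 : x = k'
    · subst h2
      rw [if_pos rfl]
      have hyk : y ≠ k := by
        intro h; subst h; omega
      rw [if_neg hyk]
      have hyk' : y ≠ x := by
        intro h; subst h; exact absurd hxy (lt_irrefl _)
      rw [if_neg hyk']
      exact Fin.lt_def.mpr (by omega)
    · rw [if_neg h2]
      by_cases h3 : y = k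
      · subst h3
        rw [if_pos rfl]
        exact Fin.lt_def.mpr (by omega)
      · rw [if_neg h3]
        by_cases h4 : y = k'
        · subst h4
          rw [if_pos rfl]
          have : x.val ≠ k.val := fun h => h1 (Fin.ext h)
          exact Fin.lt_def.mpr (by omega)
        · rw [if_neg h4]
          exact hxy

theorem orderEmb_map_swap {m : ℕ} (T : Finset (Fin N)) (k k' : Fin N) (hkk' : k'.val = k.val + 1)
    (hT : ¬ (k ∈ T ∧ k' ∈ T)) (h : T.card = m)
    (h' : (T.map (Equiv.swap k k').toEmbedding).card = m) (p : Fin m) :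
    (T.map (Equiv.swap k k').toEmbedding).orderEmbOfFin h' p =
      Equiv.swap k k' (T.orderEmbOfFin h p) := by
  have key := Finset.orderEmbOfFin_unique h'
    (f := fun p => Equiv.swap k k' (T.orderEmbOfFin h p)) ?_ ?_
  · exact (congrFun key p).symm
  · intro x
    rw [Finset.mem_map_equiv]
    simp [Finset.orderEmbOfFin_mem]
  · intro a b hab
    exact swap_lt_swap T k k' hkk' hT (T.orderEmbOfFin_mem h a) (T.orderEmbOfFin_mem h b)
      ((T.orderEmbOfFin h).strictMono hab)

theorem compl_map_swap (T : Finset (Fin N)) (k k' : Fin N) :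
    (T.map (Equiv.swap k k').toEmbedding)ᶜ = Tᶜ.map (Equiv.swap k k').toEmbedding := by
  ext x
  simp [Finset.mem_map_equiv]

theorem orderEmb_congr {m : ℕ} {T T' : Finset (Fin N)} (hTT' : T = T') (h : T.card = m)
    (h' : T'.card = m) (p : Fin m) : T.orderEmbOfFin h p = T'.orderEmbOfFin h' p := by
  subst hTT'; rfl

theorem sum_map_swap (S : Finset (Fin N)) (k k' : Fin N) (hkk' : k'.val = k.val + 1)
    (hk : k ∈ S) (hk' : k' ∉ S) :
    ((S.map (Equiv.swap k k').toEmbedding).sum fun a => a.val) = (S.sum fun a => a.val) + 1 := by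
  rw [Finset.sum_map, ← Finset.add_sum_erase S _ hk, ← Finset.add_sum_erase S (fun a => a.val) hk]
  have h1 : ∀ a ∈ S.erase k, ((Equiv.swap k k').toEmbedding a).val = a.val := by
    intro a ha
    have hak : a ≠ k := Finset.ne_of_mem_erase ha
    have hak' : a ≠ k' := fun h => hk' (h ▸ Finset.mem_of_mem_erase ha)
    simp [Equiv.swap_apply_of_ne_of_ne hak hak']
  rw [Finset.sum_congr rfl h1]
  simp only [Equiv.coe_toEmbedding, Equiv.swap_apply_left]
  rw [hkk']
  have e : (S.erase k).sum Fin.val = ∑ x ∈ S.erase k, (x : ℕ) := rfl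
  omega

theorem neg_one_pow_sum_map_swap {K : Type*} [CommRing K] (S : Finset (Fin N)) (k k' : Fin N)
    (hkk' : k'.val = k.val + 1) (hmix : k ∈ S ↔ k' ∉ S) :
    (-1 : K) ^ ((S.map (Equiv.swap k k').toEmbedding).sum fun a => a.val) =
      - (-1 : K) ^ (S.sum fun a => a.val) := by
  by_cases hk : k ∈ S
  · rw [sum_map_swap S k k' hkk' hk (hmix.mp hk), pow_succ]; ring
  · have hk' : k' ∈ S := by
      by_contra h; exact hk (hmix.mpr h)
    -- apply to S' = S.map swap
    set S' := S.map (Equiv.swap k k').toEmbedding with hS'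
    have hkS' : k ∈ S' := by
      rw [hS', Finset.mem_map_equiv]; simpa using hk'
    have hk'S' : k' ∉ S' := by
      rw [hS', Finset.mem_map_equiv]; simpa using hk
    have hback : S'.map (Equiv.swap k k').toEmbedding = S := by
      rw [hS', Finset.map_map]
      ext x; simp
    have := sum_map_swap S' k k' hkk' hkS' hk'S'
    rw [hback] at this
    rw [this, pow_succ]; ring

end Swap


section Vanish

variable {K : Type u} [CommRing K] {d : ℕ}

theorem M1_det_eq_zero (r : Fin d) (u : Fin d → Fin d → K) (x : Fin (r.val + 1) → Fin d → K)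
    {p p' : Fin (r.val + 1)} (hpp' : p ≠ p') (hx : x p = x p') : (M1 r u x).det = 0 := by
  have hp : p.val ≤ r.val := Nat.lt_succ_iff.mp p.isLt
  have hp' : p'.val ≤ r.val := Nat.lt_succ_iff.mp p'.isLt
  apply Matrix.det_zero_of_row_eq (i := ⟨p.val, lt_of_le_of_lt hp r.isLt⟩)
    (j := ⟨p'.val, lt_of_le_of_lt hp' r.isLt⟩)
  · intro h
    apply hpp'
    exact Fin.ext (by simpa using congrArg Fin.val h)
  · funext c
    simp only [M1, Matrix.of_apply]
    rw [dif_pos (by exact hp), dif_pos (by exact hp')]
    exact congrFun hx c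

theorem M2_det_eq_zero (r : Fin d) (w : Fin d → Fin d → K) (y : Fin (d - r.val) → Fin d → K)
    {p p' : Fin (d - r.val)} (hpp' : p ≠ p') (hy : y p = y p') : (M2 r w y).det = 0 := by
  have hp := p.isLt
  have hp' := p'.isLt
  apply Matrix.det_zero_of_row_eq (i := ⟨p.val + r.val, by omega⟩)
    (j := ⟨p'.val + r.val, by omega⟩)
  · intro h
    apply hpp'
    have := congrArg Fin.val h
    exact Fin.ext (by simp at this; omega)
  · funext c
    simp only [M2, Matrix.of_apply]
    rw [dif_neg (by simp), dif_neg (by simp)]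
    simp only [Nat.add_sub_cancel]
    exact congrFun hy c

theorem exists_two_of_mem {N m : ℕ} (T : Finset (Fin N)) (h : T.card = m) {k k' : Fin N}
    (hne : k ≠ k') (hk : k ∈ T) (hk' : k' ∈ T) :
    ∃ p p' : Fin m, p ≠ p' ∧ T.orderEmbOfFin h p = k ∧ T.orderEmbOfFin h p' = k' := by
  have h1 : k ∈ Set.range (T.orderEmbOfFin h) := by
    rw [Finset.range_orderEmbOfFin]; exact hk
  have h2 : k' ∈ Set.range (T.orderEmbOfFin h) := by
    rw [Finset.range_orderEmbOfFin]; exact hk'
  obtain ⟨p, hp⟩ := h1
  obtain ⟨p', hp'⟩ := h2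
  refine ⟨p, p', ?_, hp, hp'⟩
  intro hpp
  apply hne
  rw [← hp, ← hp', hpp]

theorem shuffleMap_adjacent (r : Fin d) (u w : Fin d → Fin d → K) (v : Fin (d + 1) → Fin d → K)
    (k : Fin (d + 1)) (hk : k.val + 1 < d + 1) (hv : v k = v ⟨k.val + 1, hk⟩) :
    shuffleMap r u w v = 0 := by
  obtain ⟨k', hk'⟩ : ∃ k' : Fin (d + 1), k' = ⟨k.val + 1, hk⟩ := ⟨_, rfl⟩
  rw [← hk'] at hv
  have hkk' : k'.val = k.val + 1 := by rw [hk']
  have hne : k ≠ k' := by
    intro h; have := congrArg Fin.val h; omega
  obtain ⟨sw, hsw⟩ : ∃ sw : Equiv.Perm (Fin (d + 1)), sw = Equiv.swap k k' := ⟨_, rfl⟩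
  have hvsw : ∀ x, v (sw x) = v x := by
    intro x
    rw [hsw, Equiv.swap_apply_def]
    split_ifs with h1 h2
    · rw [h1]; exact hv.symm
    · rw [h2]; exact hv
    · rfl
  rw [shuffleMap_apply]
  obtain ⟨T, hT⟩ : ∃ T : Finset (Fin (d + 1)) → K, T = fun S =>
      if hS : S.card = r.val + 1 then
      ((-1 : K) ^ (S.sum fun a => a.val)) *
        ((M1 r u (fun p => v (S.orderEmbOfFin hS p))).det *
          (M2 r w (fun p => v (Sᶜ.orderEmbOfFin (card_compl_of hS) p))).det) else 0 := ⟨_, rfl⟩
  have hTdef : ∀ S, T S = if hS : S.card = r.val + 1 then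
      ((-1 : K) ^ (S.sum fun a => a.val)) *
        ((M1 r u (fun p => v (S.orderEmbOfFin hS p))).det *
          (M2 r w (fun p => v (Sᶜ.orderEmbOfFin (card_compl_of hS) p))).det) else 0 := by
    intro S; rw [hT]
  show ∑ S, (fun S : Finset (Fin (d + 1)) => if hS : S.card = r.val + 1 then
      ((-1 : K) ^ (S.sum fun a => a.val)) *
        ((M1 r u (fun p => v (S.orderEmbOfFin hS p))).det *
          (M2 r w (fun p => v (Sᶜ.orderEmbOfFin (card_compl_of hS) p))).det) else 0) S = 0
  rw [← hT]
  have hmem : ∀ (S : Finset (Fin (d + 1))) x, x ∈ S.map sw.toEmbedding ↔ sw x ∈ S := by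
    intro S x
    rw [Finset.mem_map_equiv, hsw, Equiv.symm_swap]
  have hswk : sw k = k' := by rw [hsw, Equiv.swap_apply_left]
  have hswk' : sw k' = k := by rw [hsw, Equiv.swap_apply_right]
  have hpure_in : ∀ S, k ∈ S → k' ∈ S → T S = 0 := by
    intro S h1 h2
    rw [hTdef]
    by_cases hS : S.card = r.val + 1
    · rw [dif_pos hS]
      obtain ⟨p, p', hpp', hp, hp'⟩ := exists_two_of_mem S hS hne h1 h2
      rw [M1_det_eq_zero r u _ hpp' (by simp only [hp, hp']; exact hv)]
      ring
    · rw [dif_neg hS]
  have hpure_out : ∀ S, k ∉ S → k' ∉ S → T S = 0 := by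
    intro S h1 h2
    rw [hTdef]
    by_cases hS : S.card = r.val + 1
    · rw [dif_pos hS]
      obtain ⟨p, p', hpp', hp, hp'⟩ := exists_two_of_mem Sᶜ (card_compl_of hS) hne
        (Finset.mem_compl.mpr h1) (Finset.mem_compl.mpr h2)
      rw [M2_det_eq_zero r w _ hpp' (by simp only [hp, hp']; exact hv)]
      ring
    · rw [dif_neg hS]
  have hmixed : ∀ S, (k ∈ S ↔ k' ∉ S) → T (S.map sw.toEmbedding) = - T S := by
    intro S hmix
    have hcard : (S.map sw.toEmbedding).card = S.card := Finset.card_map _
    rw [hTdef, hTdef]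
    by_cases hS : S.card = r.val + 1
    · have hS' : (S.map sw.toEmbedding).card = r.val + 1 := hcard.trans hS
      rw [dif_pos hS', dif_pos hS]
      have hnotin : ¬ (k ∈ S ∧ k' ∈ S) := fun h => (hmix.mp h.1) h.2
      have hnotout : ¬ (k ∈ Sᶜ ∧ k' ∈ Sᶜ) := by
        rintro ⟨a, b⟩
        rw [Finset.mem_compl] at a b
        exact a (hmix.mpr b)
      have e1 : (fun p => v ((S.map sw.toEmbedding).orderEmbOfFin hS' p)) =
          fun p => v (S.orderEmbOfFin hS p) := by
        funext p
        subst hsw
        rw [orderEmb_map_swap S k k' hkk' hnotin hS hS' p, hvsw]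
      have e2 : (fun p => v ((S.map sw.toEmbedding)ᶜ.orderEmbOfFin (card_compl_of hS') p)) =
          fun p => v (Sᶜ.orderEmbOfFin (card_compl_of hS) p) := by
        funext p
        subst hsw
        have hc : (Sᶜ.map (Equiv.swap k k').toEmbedding).card = d - r.val :=
          (Finset.card_map _).trans (card_compl_of hS)
        rw [orderEmb_congr (compl_map_swap S k k') (card_compl_of hS') hc p,
          orderEmb_map_swap Sᶜ k k' hkk' hnotout (card_compl_of hS) hc p, hvsw]
      rw [e1, e2]
      subst hsw
      rw [neg_one_pow_sum_map_swap S k k' hkk' hmix]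
      ring
    · have hS' : ¬ (S.map sw.toEmbedding).card = r.val + 1 := by rw [hcard]; exact hS
      rw [dif_neg hS', dif_neg hS, neg_zero]
  refine Finset.sum_involution (fun S _ => S.map sw.toEmbedding) ?_ ?_
    (fun S _ => Finset.mem_univ _) ?_
  · intro S _
    by_cases h1 : k ∈ S <;> by_cases h2 : k' ∈ S
    · rw [hpure_in S h1 h2, hpure_in _ ((hmem _ _).mpr (by rw [hswk]; exact h2))
        ((hmem _ _).mpr (by rw [hswk']; exact h1)), add_zero]
    · rw [hmixed S ⟨fun _ => h2, fun _ => h1⟩, add_neg_cancel]
    · rw [hmixed S ⟨fun h => absurd h h1, fun h => absurd h2 h⟩, add_neg_cancel]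
    · rw [hpure_out S h1 h2, hpure_out _ (fun h => h2 (by rw [← hswk]; exact (hmem _ _).mp h))
        (fun h => h1 (by rw [← hswk']; exact (hmem _ _).mp h)), add_zero]
  · intro S _ hne' hEq
    apply hne'
    by_cases h1 : k ∈ S <;> by_cases h2 : k' ∈ S
    · exact hpure_in S h1 h2
    · exfalso
      have : k' ∈ S.map sw.toEmbedding := (hmem S k').mpr (by rw [hswk']; exact h1)
      rw [hEq] at this; exact h2 this
    · exfalso
      have : k ∈ S.map sw.toEmbedding := (hmem S k).mpr (by rw [hswk]; exact h2)
      rw [hEq] at this; exact h1 this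
    · exact hpure_out S h1 h2
  · intro S _
    rw [Finset.map_map]
    ext x
    simp [hsw]

theorem shuffleMap_eq_zero (r : Fin d) (u w : Fin d → Fin d → K) : shuffleMap r u w = 0 := by
  apply Module.Basis.ext_multilinear (fun _ => Pi.basisFun K (Fin d))
  intro c
  obtain ⟨i, j, hij, hc⟩ := Fintype.exists_ne_map_eq_of_card_lt c (by simp)
  rw [MultilinearMap.zero_apply]
  exact map_eq_zero_of_adjacent _ (fun v k hk hv => shuffleMap_adjacent r u w v k hk hv) _ i j hij
    (by simp [hc])

end Vanish

section Eval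

variable {K : Type u} [CommRing K] {d n : ℕ}

theorem evalMinors_coord (A : Matrix (Fin n) (Fin d) K) (a : Fin d → Fin n) :
    evalMinors K d n A (coord K d n a) = (A.submatrix a id).det := by
  have := Plucker.pc_minors A (fun θ => (A.submatrix θ.1 id).det) (fun _ => rfl) a
  rw [← this, Plucker.pc, evalMinors]
  rfl

theorem le_orderEmb {N m : ℕ} (T : Finset (Fin N)) (h : T.card = m) (p : Fin m) :
    p.val ≤ (T.orderEmbOfFin h p).val := by
  obtain ⟨p, hp⟩ := p
  induction p with
  | zero => exact Nat.zero_le _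
  | succ q ih =>
    have h1 := ih (by omega)
    have hlt : T.orderEmbOfFin h ⟨q, by omega⟩ < T.orderEmbOfFin h ⟨q + 1, hp⟩ :=
      (T.orderEmbOfFin h).strictMono (Fin.mk_lt_mk.mpr (Nat.lt_succ_self q))
    have h2 : (T.orderEmbOfFin h ⟨q, by omega⟩).val < (T.orderEmbOfFin h ⟨q + 1, hp⟩).val := hlt
    simp only at h1 ⊢
    omega

theorem sum_eq_sum_orderEmb {N m : ℕ} (T : Finset (Fin N)) (h : T.card = m) (f : Fin N → ℕ) :
    T.sum f = ∑ p : Fin m, f (T.orderEmbOfFin h p) := by
  conv_lhs => rw [← Finset.map_orderEmbOfFin_univ T h]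
  rw [Finset.sum_map]
  rfl

theorem gauss_le_sum {N : ℕ} (r : ℕ) (S : Finset (Fin N)) (hS : S.card = r + 1) :
    r * (r + 1) / 2 ≤ S.sum fun a => a.val := by
  rw [sum_eq_sum_orderEmb S hS]
  have h1 : ∑ p : Fin (r + 1), p.val ≤ ∑ p : Fin (r + 1), (S.orderEmbOfFin hS p).val :=
    Finset.sum_le_sum (fun p _ => le_orderEmb S hS p)
  have h2 : ∑ p : Fin (r + 1), p.val = r * (r + 1) / 2 := by
    rw [Fin.sum_univ_eq_sum_range (fun i => i) (r + 1), Finset.sum_range_id]
    simp [mul_comm]
  omega

theorem submatrix_shuffleI (A : Matrix (Fin n) (Fin d) K) (i j : Idx d n) (r : Fin d)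
    (S : Finset (Fin (d + 1))) (hS : S.card = r.val + 1) :
    A.submatrix (shuffleI i j r S hS) id =
      M1 r (fun t => A (i.1 t))
        (fun p => (fun k => A (movingRows i j r k)) (S.orderEmbOfFin hS p)) := by
  ext t c
  simp only [M1, shuffleI, Matrix.submatrix_apply, Matrix.of_apply, id]
  split_ifs <;> rfl

theorem submatrix_shuffleJ (A : Matrix (Fin n) (Fin d) K) (i j : Idx d n) (r : Fin d)
    (S : Finset (Fin (d + 1))) (hS : S.card = r.val + 1) :
    A.submatrix (shuffleJ i j r S hS) id =
      M2 r (fun t => A (j.1 t))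
        (fun p => (fun k => A (movingRows i j r k)) (Sᶜ.orderEmbOfFin (card_compl_of hS) p)) := by
  ext t c
  simp only [M2, shuffleJ, Matrix.submatrix_apply, Matrix.of_apply, id]
  split_ifs <;> rfl

/-- The shuffle relations vanish at the minors of every matrix. -/
theorem evalMinors_shuffleRel (A : Matrix (Fin n) (Fin d) K) (i j : Idx d n) (r : Fin d) :
    evalMinors K d n A (shuffleRel K i j r) = 0 := by
  have key := congrArg (fun f => f (fun k => A (movingRows i j r k)))
    (shuffleMap_eq_zero r (fun t => A (i.1 t)) (fun t => A (j.1 t)))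
  simp only [MultilinearMap.zero_apply] at key
  rw [shuffleMap_apply] at key
  rw [shuffleRel, map_sum]
  have hterm : ∀ S : Finset (Fin (d + 1)),
      (if hS : S.card = r.val + 1 then
        ((-1 : K) ^ (S.sum fun a => a.val)) *
          ((M1 r (fun t => A (i.1 t))
              (fun p => (fun k => A (movingRows i j r k)) (S.orderEmbOfFin hS p))).det *
            (M2 r (fun t => A (j.1 t))
              (fun p => (fun k => A (movingRows i j r k))
                (Sᶜ.orderEmbOfFin (card_compl_of hS) p))).det) else 0) =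
        (-1 : K) ^ (r.val * (r.val + 1) / 2) * evalMinors K d n A (shuffleTerm K i j r S) := by
    intro S
    rw [shuffleTerm]
    by_cases hS : S.card = r.val + 1
    · rw [dif_pos hS, dif_pos hS, map_mul, map_mul, map_pow, map_neg, map_one, evalMinors_coord,
        evalMinors_coord, submatrix_shuffleI, submatrix_shuffleJ, shuffleSign]
      have hge := gauss_le_sum r.val S hS
      have hpow : (-1 : K) ^ (S.sum fun a => a.val) =
          (-1 : K) ^ (r.val * (r.val + 1) / 2) *
            (-1 : K) ^ ((S.sum fun a => a.val) - r.val * (r.val + 1) / 2) := by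
        rw [← pow_add]
        congr 1
        omega
      rw [hpow]
      ring
    · rw [dif_neg hS, dif_neg hS, map_zero, mul_zero]
  rw [Finset.sum_congr rfl (fun S _ => hterm S), ← Finset.mul_sum] at key
  have hunit : ((-1 : K) ^ (r.val * (r.val + 1) / 2)) * ((-1 : K) ^ (r.val * (r.val + 1) / 2)) = 1 := by
    rw [← mul_pow]; simp
  calc ∑ S : Finset (Fin (d + 1)), evalMinors K d n A (shuffleTerm K i j r S)
      = ((-1 : K) ^ (r.val * (r.val + 1) / 2)) * (((-1 : K) ^ (r.val * (r.val + 1) / 2)) *
          ∑ S : Finset (Fin (d + 1)), evalMinors K d n A (shuffleTerm K i j r S)) := by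
        rw [← mul_assoc, hunit, one_mul]
    _ = 0 := by rw [key, mul_zero]

end Eval

end Groth.Agent.Lib.Seat50.Shuffle
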