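import Mathlib
import Groth.Prelude.Def_W4bk4grassmannianPl
import Groth.Agent.Lib.Seat50Plucker
import Groth.Agent.Lib.Seat50Shuffle

/-!
# Straightening: standard monomials span modulo the shuffle relations (helper50)
-/

namespace Groth.Agent.Lib.Seat50.Straighten

open W4bk4grassmannian MvPolynomial

universe u

variable {d n : ℕ}

/-- The weight of an index: the sum of its entries. -/
def wt (θ : Idx d n) : ℕ := ∑ t, (θ.1 t).val

/-- The sum of the entries of an arbitrary tuple. -/
def tsum (a : Fin d → Fin n) : ℕ := ∑ t, (a t).val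

theorem wt_sortIdx (a : Fin d → Fin n) (h : (Finset.univ.image a).card = d) :
    wt (sortIdx d n a h) = tsum a := by
  unfold wt tsum sortIdx
  simp only
  rw [← Shuffle.sum_eq_sum_orderEmb (Finset.univ.image a) h (fun x => x.val)]
  rw [Finset.sum_image]
  intro x _ y _ hxy
  exact ((Plucker.card_image_eq_iff a).mp h) hxy

section Coord

variable (K : Type u) [CommRing K]

theorem coord_sorted (θ : Idx d n) : coord K d n θ.1 = X θ := by
  have h : (Finset.univ.image θ.1).card = d :=
    (Plucker.card_image_eq_iff θ.1).mpr θ.2.injective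
  rw [coord, dif_pos h, Plucker.sortIdx_of_strictMono θ h]
  have h0 : invCount d n θ.1 = 0 := by
    unfold invCount
    rw [Finset.card_eq_zero, Finset.filter_eq_empty_iff]
    rintro ⟨p, q⟩ _ ⟨h1, h2⟩
    exact absurd (θ.2 h1) (not_lt.mpr (le_of_lt h2))
  rw [h0, pow_zero, one_mul]

theorem coord_cases (a : Fin d → Fin n) :
    coord K d n a = 0 ∨ ∃ θ : Idx d n, wt θ = tsum a ∧
      (coord K d n a = X θ ∨ coord K d n a = - X θ) := by
  by_cases h : (Finset.univ.image a).card = d
  · right
    refine ⟨sortIdx d n a h, wt_sortIdx a h, ?_⟩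
    rw [coord, dif_pos h]
    rcases neg_one_pow_eq_or (PlRing K d n) (invCount d n a) with h1 | h1 <;> rw [h1]
    · left; rw [one_mul]
    · right; rw [neg_one_mul]
  · left
    rw [coord, dif_neg h]

end Coord

section Moving

theorem movingRows_strictMono (i j : Idx d n) (r : Fin d) (h : i.1 r < j.1 r) :
    StrictMono (movingRows i j r) := by
  intro k k' hkk'
  unfold movingRows
  have hkk'' : k.val < k'.val := hkk'
  by_cases h1 : k.val ≤ r.val
  · rw [dif_pos h1]
    by_cases h2 : k'.val ≤ r.val
    · rw [dif_pos h2]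
      exact i.2 (Fin.mk_lt_mk.mpr hkk'')
    · rw [dif_neg h2]
      calc i.1 ⟨k.val, _⟩ ≤ i.1 r := i.2.monotone (Fin.le_def.mpr h1)
        _ < j.1 r := h
        _ ≤ j.1 ⟨k'.val - 1, _⟩ := j.2.monotone (Fin.le_def.mpr (by simp; omega))
  · have h2 : ¬ k'.val ≤ r.val := by omega
    rw [dif_neg h1, dif_neg h2]
    exact j.2 (Fin.mk_lt_mk.mpr (by omega))

/-- The positions of the identity shuffle. -/
def S0 (r : Fin d) : Finset (Fin (d + 1)) := Finset.Iic (⟨r.val, by omega⟩ : Fin (d + 1))

theorem mem_S0 (r : Fin d) (k : Fin (d + 1)) : k ∈ S0 r ↔ k.val ≤ r.val := by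
  rw [S0, Finset.mem_Iic, Fin.le_def]

theorem card_S0 (r : Fin d) : (S0 r).card = r.val + 1 := by
  rw [S0, Fin.card_Iic]

theorem orderEmb_S0 (r : Fin d) (h : (S0 r).card = r.val + 1) (p : Fin (r.val + 1)) :
    (S0 r).orderEmbOfFin h p = ⟨p.val, by have := p.isLt; have := r.isLt; omega⟩ := by
  have key := Finset.orderEmbOfFin_unique h
    (f := fun p : Fin (r.val + 1) => (⟨p.val, by have := p.isLt; have := r.isLt; omega⟩ : Fin (d + 1)))
    (fun p => by rw [mem_S0]; have := p.isLt; simp only; omega)
    (fun p q hpq => Fin.mk_lt_mk.mpr hpq)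
  exact (congrFun key p).symm

theorem orderEmb_S0_compl (r : Fin d) (h : (S0 r)ᶜ.card = d - r.val) (p : Fin (d - r.val)) :
    (S0 r)ᶜ.orderEmbOfFin h p = ⟨p.val + r.val + 1, by have := p.isLt; omega⟩ := by
  have key := Finset.orderEmbOfFin_unique h
    (f := fun p : Fin (d - r.val) => (⟨p.val + r.val + 1, by have := p.isLt; omega⟩ : Fin (d + 1)))
    (fun p => by rw [Finset.mem_compl, mem_S0]; simp only; omega)
    (fun p q hpq => Fin.mk_lt_mk.mpr (by have : p.val < q.val := hpq; omega))
  exact (congrFun key p).symm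

theorem shuffleI_S0 (i j : Idx d n) (r : Fin d) (h : (S0 r).card = r.val + 1) :
    shuffleI i j r (S0 r) h = i.1 := by
  funext t
  unfold shuffleI
  by_cases ht : t.val ≤ r.val
  · rw [dif_pos ht, orderEmb_S0, movingRows, dif_pos (by exact ht)]
  · rw [dif_neg ht]

theorem shuffleJ_S0 (i j : Idx d n) (r : Fin d) (h : (S0 r).card = r.val + 1) :
    shuffleJ i j r (S0 r) h = j.1 := by
  funext t
  unfold shuffleJ
  by_cases ht : t.val < r.val
  · simp only [dif_pos ht]
  · simp only [dif_neg ht]
    rw [orderEmb_S0_compl, movingRows, dif_neg (by simp only; omega)]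
    apply congrArg j.1
    apply Fin.ext
    simp only
    omega

theorem sum_fin_val (r : ℕ) : ∑ p : Fin (r + 1), p.val = r * (r + 1) / 2 := by
  rw [Fin.sum_univ_eq_sum_range (fun i => i) (r + 1), Finset.sum_range_id]
  simp [mul_comm]

theorem shuffleSign_S0 (r : Fin d) : shuffleSign r (S0 r) = 0 := by
  unfold shuffleSign
  rw [Shuffle.sum_eq_sum_orderEmb (S0 r) (card_S0 r) (fun a => a.val)]
  have : ∀ p : Fin (r.val + 1), ((S0 r).orderEmbOfFin (card_S0 r) p).val = p.val := by
    intro p; rw [orderEmb_S0]
  rw [Finset.sum_congr rfl (fun p _ => this p), sum_fin_val]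
  exact Nat.sub_self _

theorem shuffleTerm_S0 (K : Type u) [CommRing K] (i j : Idx d n) (r : Fin d) :
    shuffleTerm K i j r (S0 r) = X i * X j := by
  rw [shuffleTerm, dif_pos (card_S0 r), shuffleSign_S0, pow_zero, one_mul, shuffleI_S0, shuffleJ_S0,
    coord_sorted, coord_sorted]

theorem eq_S0_of_orderEmb (r : Fin d) (S : Finset (Fin (d + 1))) (hS : S.card = r.val + 1)
    (h : ∀ p : Fin (r.val + 1), (S.orderEmbOfFin hS p).val = p.val) : S = S0 r := by
  ext k
  rw [mem_S0]
  constructor
  · intro hk
    have hk' : k ∈ Set.range (S.orderEmbOfFin hS) := by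
      rw [Finset.range_orderEmbOfFin]; exact hk
    obtain ⟨p, hp⟩ := hk'
    rw [← hp, h p]
    have := p.isLt
    omega
  · intro hk
    have hp : (S.orderEmbOfFin hS ⟨k.val, by omega⟩) = k := Fin.ext (h ⟨k.val, by omega⟩)
    rw [← hp]
    exact Finset.orderEmbOfFin_mem S hS _

theorem tsum_shuffleI_gt (i j : Idx d n) (r : Fin d) (hpiv : i.1 r < j.1 r)
    (S : Finset (Fin (d + 1))) (hS : S.card = r.val + 1) (hne : S ≠ S0 r) :
    wt i < tsum (shuffleI i j r S hS) := by
  have hmono := movingRows_strictMono i j r hpiv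
  have hmov : ∀ t : Fin d, (ht : t.val ≤ r.val) →
      movingRows i j r ⟨t.val, by omega⟩ = i.1 t := by
    intro t ht
    rw [movingRows, dif_pos (by exact ht)]
  unfold wt tsum
  apply Finset.sum_lt_sum
  · intro t _
    unfold shuffleI
    by_cases ht : t.val ≤ r.val
    · rw [dif_pos ht, ← hmov t ht]
      have hle := Shuffle.le_orderEmb S hS ⟨t.val, by omega⟩
      exact Fin.le_def.mp (hmono.monotone (Fin.le_def.mpr hle))
    · rw [dif_neg ht]
  · have hex : ∃ p : Fin (r.val + 1), (S.orderEmbOfFin hS p).val ≠ p.val := by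
      by_contra h
      push Not at h
      exact hne (eq_S0_of_orderEmb r S hS h)
    obtain ⟨p, hp⟩ := hex
    have hpr : p.val ≤ r.val := Nat.lt_succ_iff.mp p.isLt
    refine ⟨⟨p.val, lt_of_le_of_lt hpr r.isLt⟩, Finset.mem_univ _, ?_⟩
    unfold shuffleI
    rw [dif_pos (by exact hpr), ← hmov ⟨p.val, lt_of_le_of_lt hpr r.isLt⟩ hpr]
    have hle := Shuffle.le_orderEmb S hS p
    have hlt : p.val < (S.orderEmbOfFin hS p).val := lt_of_le_of_ne hle (Ne.symm hp)
    exact Fin.lt_def.mp (hmono (Fin.lt_def.mpr hlt))

end Moving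

section Main

variable (K : Type u) [CommRing K]

theorem coord_cases' (a : Fin d → Fin n) :
    coord K d n a = 0 ∨ ∃ (θ : Idx d n) (ε : K), wt θ = tsum a ∧ coord K d n a = C ε * X θ := by
  by_cases h : (Finset.univ.image a).card = d
  · right
    refine ⟨sortIdx d n a h, (-1) ^ invCount d n a, wt_sortIdx a h, ?_⟩
    rw [coord, dif_pos h]
    simp
  · left
    rw [coord, dif_neg h]

/-- The `K`-span of the standard monomials plus the ideal of the shuffle relations. -/
noncomputable def W : Submodule K (PlRing K d n) :=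
  Submodule.span K {f | ∃ (m : ℕ) (c : Fin m → Idx d n), Antitone c ∧ f = chainMon K c} ⊔
    (plIdealTop K (d := d) (n := n)).restrictScalars K

theorem exists_pivot (i j : Idx d n) (hij : ¬ j ≤ i) : ∃ r : Fin d, IsPivot i j r := by
  classical
  have hex : ∃ t, i.1 t < j.1 t := by
    by_contra h
    push Not at h
    exact hij h
  obtain ⟨P, hPdef⟩ : ∃ P : Finset (Fin d), P = Finset.univ.filter (fun t => i.1 t < j.1 t) :=
    ⟨_, rfl⟩
  have hP : P.Nonempty := by
    obtain ⟨t, ht⟩ := hex
    exact ⟨t, by rw [hPdef]; exact Finset.mem_filter.mpr ⟨Finset.mem_univ _, ht⟩⟩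
  refine ⟨P.min' hP, ?_, ?_⟩
  · intro t ht
    by_contra h
    have hmem : t ∈ P := by
      rw [hPdef]; exact Finset.mem_filter.mpr ⟨Finset.mem_univ _, not_le.mp h⟩
    exact absurd (P.min'_le t hmem) (not_le.mpr ht)
  · have hmem := P.min'_mem hP
    have hall : ∀ t ∈ P, i.1 t < j.1 t := by
      intro t ht
      rw [hPdef] at ht
      exact (Finset.mem_filter.mp ht).2
    exact hall _ hmem

theorem chainMon_split {m : ℕ} (T : Fin m → Idx d n) (k k1 : Fin m) (hkk1 : k ≠ k1) :
    chainMon K T = (∏ k' ∈ (Finset.univ.erase k).erase k1, X (T k')) * (X (T k) * X (T k1)) := by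
  rw [chainMon, ← Finset.mul_prod_erase Finset.univ _ (Finset.mem_univ k),
    ← Finset.mul_prod_erase (Finset.univ.erase k) _
      (Finset.mem_erase.mpr ⟨hkk1.symm, Finset.mem_univ k1⟩)]
  ring

theorem chainMon_update {m : ℕ} (T : Fin m → Idx d n) (k k1 : Fin m) (hkk1 : k ≠ k1)
    (α β : Idx d n) :
    chainMon K (Function.update (Function.update T k α) k1 β) =
      (∏ k' ∈ (Finset.univ.erase k).erase k1, X (T k')) * (X α * X β) := by
  rw [chainMon_split K _ k k1 hkk1, Function.update_self, Function.update_of_ne hkk1,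
    Function.update_self]
  congr 1
  refine Finset.prod_congr rfl (fun k' hk' => ?_)
  have h1 : k' ≠ k1 := (Finset.mem_erase.mp hk').1
  have h2 : k' ≠ k := (Finset.mem_erase.mp (Finset.mem_erase.mp hk').2).1
  rw [Function.update_of_ne h1, Function.update_of_ne h2]

theorem antitone_or_exists {m : ℕ} (T : Fin m → Idx d n) :
    Antitone T ∨ ∃ (k k1 : Fin m), k1.val = k.val + 1 ∧ ¬ T k1 ≤ T k := by
  cases m with
  | zero => left; intro a; exact a.elim0
  | succ m' =>
    by_cases h : Antitone T
    · left; exact h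
    · right
      rw [Fin.antitone_iff_succ_le] at h
      push Not at h
      obtain ⟨i, hi⟩ := h
      exact ⟨i.castSucc, i.succ, by simp, hi⟩

theorem chainMon_mem_W {m : ℕ} (T : Fin m → Idx d n) : chainMon K T ∈ W (d := d) (n := n) K := by
  classical
  let R : (Fin m → Idx d n) → (Fin m → Idx d n) → Prop := fun T' T =>
    toLex (fun k => wt (T k)) < toLex (fun k => wt (T' k))
  have : IsTrans _ R := ⟨fun a b c h1 h2 => lt_trans h2 h1⟩
  have : Std.Irrefl R := ⟨fun a => lt_irrefl _⟩
  have hwf : WellFounded R := Finite.wellFounded_of_trans_of_irrefl R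
  refine hwf.induction (C := fun T => chainMon K T ∈ W (d := d) (n := n) K) T ?_
  intro T ih
  rcases antitone_or_exists T with hT | ⟨k, k1, hk1, hnot⟩
  · exact Submodule.mem_sup_left (Submodule.subset_span ⟨m, T, hT, rfl⟩)
  · have hkk1 : k ≠ k1 := by
      intro h; rw [h] at hk1; omega
    obtain ⟨r, hpiv⟩ := exists_pivot (T k) (T k1) hnot
    set rest : PlRing K d n := ∏ k' ∈ (Finset.univ.erase k).erase k1, X (T k') with hrest
    have hsplit : shuffleRel K (T k) (T k1) r = X (T k) * X (T k1) +
        ∑ S ∈ Finset.univ.erase (S0 r), shuffleTerm K (T k) (T k1) r S := by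
      rw [shuffleRel, ← Finset.add_sum_erase _ _ (Finset.mem_univ (S0 r)), shuffleTerm_S0]
    have hrel : shuffleRel K (T k) (T k1) r ∈ plIdealTop K (d := d) (n := n) :=
      Ideal.subset_span ⟨T k, T k1, r, hpiv, rfl⟩
    have hmain : chainMon K T = rest * shuffleRel K (T k) (T k1) r -
        ∑ S ∈ Finset.univ.erase (S0 r), rest * shuffleTerm K (T k) (T k1) r S := by
      rw [chainMon_split K T k k1 hkk1, hsplit, ← Finset.mul_sum]
      ring
    rw [hmain]
    refine Submodule.sub_mem _ ?_ (Submodule.sum_mem _ ?_)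
    · exact Submodule.mem_sup_right (Ideal.mul_mem_left _ _ hrel)
    · intro S hS
      have hSne : S ≠ S0 r := (Finset.mem_erase.mp hS).1
      rw [shuffleTerm]
      by_cases hcard : S.card = r.val + 1
      · rw [dif_pos hcard]
        rcases coord_cases' K (shuffleI (T k) (T k1) r S hcard) with hI | ⟨α, εI, hα, hI⟩
        · rw [hI]; simp
        rcases coord_cases' K (shuffleJ (T k) (T k1) r S hcard) with hJ | ⟨β, εJ, hβ, hJ⟩
        · rw [hJ]; simp
        rw [hI, hJ]
        have hform : rest * ((-1 : PlRing K d n) ^ shuffleSign r S * (C εI * X α) * (C εJ * X β)) =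
            ((-1) ^ shuffleSign r S * εI * εJ : K) •
              chainMon K (Function.update (Function.update T k α) k1 β) := by
          rw [chainMon_update K T k k1 hkk1, ← hrest, smul_eq_C_mul]
          simp only [map_mul, map_pow, map_neg, map_one]
          ring
        rw [hform]
        apply Submodule.smul_mem
        apply ih
        -- the order relation
        show toLex (fun k' => wt (T k')) <
          toLex (fun k' => wt (Function.update (Function.update T k α) k1 β k'))
        refine ⟨k, ?_, ?_⟩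
        · intro k' hk'
          have h1 : k' ≠ k := ne_of_lt hk'
          have h2 : k' ≠ k1 := by
            intro h
            have : k'.val < k.val := hk'
            rw [h] at this
            omega
          show wt (T k') = wt (Function.update (Function.update T k α) k1 β k')
          rw [Function.update_of_ne h2, Function.update_of_ne h1]
        · show wt (T k) < wt (Function.update (Function.update T k α) k1 β k)
          rw [Function.update_of_ne hkk1, Function.update_self, hα]
          exact tsum_shuffleI_gt (T k) (T k1) r hpiv.2 S hcard hSne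
      · rw [dif_neg hcard, mul_zero]
        exact Submodule.zero_mem _

end Main

section Span

variable (K : Type u) [CommRing K]

theorem chainMon_snoc {m : ℕ} (T : Fin m → Idx d n) (θ : Idx d n) :
    chainMon K (Fin.snoc (α := fun _ => Idx d n) T θ : Fin (m + 1) → Idx d n) =
      chainMon K T * X θ := by
  rw [chainMon, chainMon, Fin.prod_univ_castSucc]
  simp only [Fin.snoc_castSucc, Fin.snoc_last]

theorem mem_span_all (f : PlRing K d n) :
    f ∈ Submodule.span K {g : PlRing K d n | ∃ (m : ℕ) (T : Fin m → Idx d n), g = chainMon K T} := by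
  induction f using MvPolynomial.induction_on with
  | C a =>
    have h1 : (C a : PlRing K d n) = a • chainMon K (fun k : Fin 0 => k.elim0) := by
      rw [chainMon, Finset.univ_eq_empty, Finset.prod_empty, smul_eq_C_mul, mul_one]
    rw [h1]
    exact Submodule.smul_mem _ _ (Submodule.subset_span ⟨0, _, rfl⟩)
  | add p q hp hq => exact Submodule.add_mem _ hp hq
  | mul_X p θ hp =>
    induction hp using Submodule.span_induction with
    | mem x hx =>
      obtain ⟨m, T, rfl⟩ := hx
      rw [← chainMon_snoc]
      exact Submodule.subset_span ⟨m + 1, _, rfl⟩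
    | zero => rw [zero_mul]; exact Submodule.zero_mem _
    | add x y _ _ hx hy => rw [add_mul]; exact Submodule.add_mem _ hx hy
    | smul a x _ hx => rw [smul_mul_assoc]; exact Submodule.smul_mem _ _ hx

/-- Every Plücker polynomial is, modulo the shuffle relations, a linear combination of standard
monomials. -/
theorem mem_W (f : PlRing K d n) : f ∈ W (d := d) (n := n) K := by
  have h := mem_span_all K f
  refine (Submodule.span_le.mpr ?_) h
  rintro g ⟨m, T, rfl⟩
  exact chainMon_mem_W K T

end Span

end Groth.Agent.Lib.Seat50.Straighten
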