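import Mathlib
import Groth.Prelude.Def_W4bk4grassmannianPl
import Groth.Agent.Lib.Seat50Shuffle
import Groth.Agent.Lib.Seat50StdIndep
import Groth.Agent.Lib.Seat50Straighten

/-!
# Standard monomial theory for Schubert varieties in the Grassmannian (helper50)

Assembly of the three parts: the shuffle relations vanish on minors (`Seat50Shuffle`), standard
monomials span modulo the shuffle relations (`Seat50Straighten`) and standard monomials on `X(τ)` are
linearly independent modulo `J(τ)` (`Seat50StdIndep`).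
-/

namespace Groth.Agent.Lib.Seat50.StdMon

open W4bk4grassmannian MvPolynomial StdIndep

universe u

variable {d n : ℕ}

section General

variable (K : Type u) [CommRing K]

/-- The linear combination of standard monomials with coefficients `a`. -/
noncomputable def comb (a : Chain d n →₀ K) : PlRing K d n :=
  a.sum fun c x => x • chainMon K c.2.1

theorem exists_rep (f : PlRing K d n) :
    ∃ a : Chain d n →₀ K, f - comb K a ∈ plIdealTop K (d := d) (n := n) := by
  have h := Straighten.mem_W K f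
  rw [Straighten.W, Submodule.mem_sup] at h
  obtain ⟨g, hg, h', hh', hsum⟩ := h
  have hS : {f : PlRing K d n | ∃ (m : ℕ) (c : Fin m → Idx d n), Antitone c ∧ f = chainMon K c} =
      Set.range (fun c : Chain d n => chainMon K c.2.1) := by
    ext x
    constructor
    · rintro ⟨m, c, hc, rfl⟩
      exact ⟨⟨m, ⟨c, hc⟩⟩, rfl⟩
    · rintro ⟨⟨m, ⟨c, hc⟩⟩, rfl⟩
      exact ⟨m, c, hc, rfl⟩
  rw [hS, Finsupp.mem_span_range_iff_exists_finsupp] at hg
  obtain ⟨a, ha⟩ := hg
  refine ⟨a, ?_⟩
  have : f - comb K a = h' := by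
    rw [comb, ha, ← hsum]; ring
  rw [this]
  exact hh'

theorem plIdealTop_le (τ : Idx d n) :
    plIdealTop K (d := d) (n := n) ≤ schubertVanishing K d n τ := by
  rw [plIdealTop, Ideal.span_le]
  rintro f ⟨i, j, r, _, rfl⟩
  rw [schubertVanishing]
  refine Ideal.mem_iInf.mpr fun A => Ideal.mem_iInf.mpr fun _ => ?_
  exact RingHom.mem_ker.mpr (Shuffle.evalMinors_shuffleRel A i j r)

theorem X_mem_schubert (τ φ : Idx d n) (h : ¬ φ ≤ τ) : X φ ∈ schubertVanishing K d n τ := by
  rw [schubertVanishing]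
  refine Ideal.mem_iInf.mpr fun A => Ideal.mem_iInf.mpr fun hA => ?_
  refine RingHom.mem_ker.mpr ?_
  show evalMinors K d n A (X φ) = 0
  rw [evalMinors, aeval_X]
  exact hA φ h

theorem plIdeal_le (τ : Idx d n) : plIdeal K τ ≤ schubertVanishing K d n τ := by
  rw [plIdeal, Ideal.span_le]
  rintro f (⟨i, j, r, _, rfl⟩ | ⟨φ, hφ, rfl⟩)
  · exact plIdealTop_le K τ (Ideal.subset_span ⟨i, j, r, ‹_›, rfl⟩)
  · exact X_mem_schubert K τ φ hφ

theorem plIdealTop_le_plIdeal (τ : Idx d n) : plIdealTop K (d := d) (n := n) ≤ plIdeal K τ := by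
  rw [plIdealTop, plIdeal]
  exact Ideal.span_mono Set.subset_union_left

theorem chainMon_mem_of_mem {m : ℕ} (c : Fin m → Idx d n) (k : Fin m) (I : Ideal (PlRing K d n))
    (h : X (c k) ∈ I) : chainMon K c ∈ I := by
  rw [chainMon, ← Finset.mul_prod_erase Finset.univ _ (Finset.mem_univ k)]
  exact Ideal.mul_mem_right _ _ h

theorem chainMon_mem_plIdeal (τ : Idx d n) {m : ℕ} (c : Fin m → Idx d n) (h : ¬ ∀ k, c k ≤ τ) :
    chainMon K c ∈ plIdeal K τ := by
  push Not at h
  obtain ⟨k, hk⟩ := h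
  apply chainMon_mem_of_mem K c k
  exact Ideal.subset_span (Or.inr ⟨c k, hk, rfl⟩)

theorem schubert_anti {φ τ : Idx d n} (h : φ ≤ τ) :
    schubertVanishing K d n τ ≤ schubertVanishing K d n φ := by
  intro f hf
  rw [schubertVanishing] at hf ⊢
  refine Ideal.mem_iInf.mpr fun A => Ideal.mem_iInf.mpr fun hA => ?_
  exact Ideal.mem_iInf.mp (Ideal.mem_iInf.mp hf A) (fun ψ hψ => hA ψ (fun hψφ => hψ (le_trans hψφ h)))

theorem comb_mem_of_support (a : Chain d n →₀ K) (I : Ideal (PlRing K d n))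
    (h : ∀ c ∈ a.support, chainMon K c.2.1 ∈ I) : comb K a ∈ I := by
  rw [comb, Finsupp.sum]
  refine Ideal.sum_mem _ (fun c hc => ?_)
  rw [smul_eq_C_mul]
  exact Ideal.mul_mem_left _ _ (h c hc)

end General

section Field

variable (K : Type u) [Field K] [Infinite K]

/-- The shuffle relations and the vanishing coordinates generate the ideal of a Schubert variety. -/
theorem plIdeal_eq (hd : 0 < d) (τ : Idx d n) : plIdeal K τ = schubertVanishing K d n τ := by
  apply le_antisymm (plIdeal_le K τ)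
  intro f hf
  obtain ⟨a, ha⟩ := exists_rep K f
  have hcomb : comb K a ∈ schubertVanishing K d n τ := by
    have h1 := plIdealTop_le K τ ha
    have : comb K a = f - (f - comb K a) := by ring
    rw [this]
    exact Ideal.sub_mem _ hf h1
  have hzero := coeff_eq_zero_of_mem K hd τ a hcomb
  have hcomb' : comb K a ∈ plIdeal K τ := by
    apply comb_mem_of_support
    intro c hc
    apply chainMon_mem_plIdeal
    intro hbelow
    exact (Finsupp.mem_support_iff.mp hc) (hzero c hbelow)
  have : f = (f - comb K a) + comb K a := by ring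
  rw [this]
  exact Ideal.add_mem _ (plIdealTop_le_plIdeal K τ ha) hcomb'

end Field

section Union

variable (K : Type u) [Field K] [Infinite K]

/-- Standard chains below one of the `τs i`. -/
abbrev UChain {r : ℕ} (τs : Fin r → Idx d n) : Type :=
  Σ m : ℕ, {c : Fin m → Idx d n // Antitone c ∧ ∃ i, ∀ k, c k ≤ τs i}

/-- Forget the bound. -/
def UChain.toChain {r : ℕ} {τs : Fin r → Idx d n} (c : UChain τs) : Chain d n :=
  ⟨c.1, ⟨c.2.1, c.2.2.1⟩⟩

theorem toChain_injective {r : ℕ} (τs : Fin r → Idx d n) :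
    Function.Injective (UChain.toChain (τs := τs)) := by
  rintro ⟨m, c, hc⟩ ⟨m', c', hc'⟩ h
  simp only [UChain.toChain, Sigma.mk.injEq] at h
  obtain ⟨rfl, h2⟩ := h
  have h3 := eq_of_heq h2
  simp only [Subtype.mk.injEq] at h3
  subst h3
  rfl

theorem union_indep (hd : 0 < d) {r : ℕ} (τs : Fin r → Idx d n) :
    LinearIndependent K (fun c : UChain τs =>
      Ideal.Quotient.mk (⨅ i, schubertVanishing K d n (τs i)) (chainMon K c.2.1)) := by
  rw [linearIndependent_iff]
  intro l hl
  rw [Finsupp.linearCombination_apply] at hl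
  set I := ⨅ i, schubertVanishing K d n (τs i) with hI
  have h1 : (l.sum fun c a => a • Ideal.Quotient.mk I (chainMon K c.2.1)) =
      Ideal.Quotient.mk I (l.sum fun c a => a • chainMon K c.2.1) := by
    rw [Finsupp.sum, Finsupp.sum, map_sum]
    refine Finset.sum_congr rfl (fun c _ => ?_)
    exact (map_smul (Ideal.Quotient.mkₐ K I) (l c) (chainMon K c.2.1)).symm
  rw [h1, Ideal.Quotient.eq_zero_iff_mem] at hl
  have h2 : comb K (l.mapDomain UChain.toChain) = l.sum fun c a => a • chainMon K c.2.1 := by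
    rw [comb, Finsupp.sum_mapDomain_index]
    · rfl
    · intro c; exact zero_smul _ _
    · intro c x y; exact add_smul _ _ _
  ext c
  obtain ⟨i, hi⟩ := c.2.2.2
  have h3 : comb K (l.mapDomain UChain.toChain) ∈ schubertVanishing K d n (τs i) := by
    rw [h2]
    exact (iInf_le (fun i => schubertVanishing K d n (τs i)) i) hl
  have h4 := coeff_eq_zero_of_mem K hd (τs i) (l.mapDomain UChain.toChain) h3 c.toChain hi
  rw [Finsupp.mapDomain_apply (toChain_injective τs)] at h4
  exact h4

theorem span_of_le (I : Ideal (PlRing K d n)) (hle : plIdealTop K (d := d) (n := n) ≤ I)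
    (P : Chain d n → Prop) (hP : ∀ c : Chain d n, ¬ P c → chainMon K c.2.1 ∈ I)
    (x : PlRing K d n ⧸ I) :
    x ∈ Submodule.span K (Set.range fun c : {c : Chain d n // P c} =>
      Ideal.Quotient.mk I (chainMon K c.1.2.1)) := by
  classical
  obtain ⟨f, rfl⟩ := Ideal.Quotient.mk_surjective x
  obtain ⟨a, ha⟩ := exists_rep K f
  have h1 : Ideal.Quotient.mk I f = Ideal.Quotient.mk I (comb K a) :=
    Ideal.Quotient.eq.mpr (hle ha)
  rw [h1, comb, Finsupp.sum, map_sum]
  refine Submodule.sum_mem _ (fun c _ => ?_)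
  have h2 : Ideal.Quotient.mk I (a c • chainMon K c.2.1) =
      a c • Ideal.Quotient.mk I (chainMon K c.2.1) :=
    map_smul (Ideal.Quotient.mkₐ K I) (a c) (chainMon K c.2.1)
  rw [h2]
  apply Submodule.smul_mem
  by_cases hc : P c
  · exact Submodule.subset_span ⟨⟨c, hc⟩, rfl⟩
  · rw [Ideal.Quotient.eq_zero_iff_mem.mpr (hP c hc)]
    exact Submodule.zero_mem _

theorem union_span {r : ℕ} (τs : Fin r → Idx d n) :
    Submodule.span K (Set.range fun c : UChain τs =>
      Ideal.Quotient.mk (⨅ i, schubertVanishing K d n (τs i)) (chainMon K c.2.1)) = ⊤ := by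
  rw [eq_top_iff]
  rintro x -
  have h := span_of_le K (⨅ i, schubertVanishing K d n (τs i))
    (le_iInf fun i => plIdealTop_le K (τs i))
    (fun c => ∃ i, ∀ k, c.2.1 k ≤ τs i)
    (fun c hc => Ideal.mem_iInf.mpr (fun i => plIdeal_le K (τs i)
      (chainMon_mem_plIdeal K (τs i) c.2.1 (fun h => hc ⟨i, h⟩)))) x
  refine Submodule.span_mono ?_ h
  rintro y ⟨⟨c, hc⟩, rfl⟩
  exact ⟨⟨c.1, ⟨c.2.1, c.2.2, hc⟩⟩, rfl⟩

end Union

section Radical

variable (K : Type u) [Field K] [Infinite K]

theorem schubert_isRadical (τ : Idx d n) : (schubertVanishing K d n τ).IsRadical := by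
  intro f hf
  obtain ⟨k, hk⟩ := hf
  rw [schubertVanishing] at hk ⊢
  refine Ideal.mem_iInf.mpr fun A => Ideal.mem_iInf.mpr fun hA => ?_
  have h1 := Ideal.mem_iInf.mp (Ideal.mem_iInf.mp hk A) hA
  rw [RingHom.mem_ker] at h1 ⊢
  rw [map_pow] at h1
  exact eq_zero_of_pow_eq_zero h1

theorem plIdeal_inf (w₁ w₂ : Idx d n) :
    plIdeal K (W4bk4grassmannian.inf w₁ w₂) = plIdeal K w₁ ⊔ plIdeal K w₂ := by
  have hiff : ∀ φ : Idx d n, ¬ φ ≤ W4bk4grassmannian.inf w₁ w₂ ↔ (¬ φ ≤ w₁ ∨ ¬ φ ≤ w₂) := by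
    intro φ
    rw [← not_and_or]
    apply not_congr
    constructor
    · intro h
      exact ⟨fun t => le_trans (h t) (min_le_left _ _), fun t => le_trans (h t) (min_le_right _ _)⟩
    · rintro ⟨h1, h2⟩ t
      exact le_min (h1 t) (h2 t)
  apply le_antisymm
  · rw [plIdeal, Ideal.span_le]
    rintro f (⟨i, j, r, hp, rfl⟩ | ⟨φ, hφ, rfl⟩)
    · exact Ideal.mem_sup_left (Ideal.subset_span (Or.inl ⟨i, j, r, hp, rfl⟩))
    · rcases (hiff φ).mp hφ with h | h
      · exact Ideal.mem_sup_left (Ideal.subset_span (Or.inr ⟨φ, h, rfl⟩))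
      · exact Ideal.mem_sup_right (Ideal.subset_span (Or.inr ⟨φ, h, rfl⟩))
  · apply sup_le
    · rw [plIdeal, Ideal.span_le]
      rintro f (⟨i, j, r, hp, rfl⟩ | ⟨φ, hφ, rfl⟩)
      · exact Ideal.subset_span (Or.inl ⟨i, j, r, hp, rfl⟩)
      · exact Ideal.subset_span (Or.inr ⟨φ, (hiff φ).mpr (Or.inl hφ), rfl⟩)
    · rw [plIdeal, Ideal.span_le]
      rintro f (⟨i, j, r, hp, rfl⟩ | ⟨φ, hφ, rfl⟩)
      · exact Ideal.subset_span (Or.inl ⟨i, j, r, hp, rfl⟩)
      · exact Ideal.subset_span (Or.inr ⟨φ, (hiff φ).mpr (Or.inr hφ), rfl⟩)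

/-- `J(w₁) + J(w₂) = J(w₁ ∧ w₂)`; in particular the sum is radical. -/
theorem schubert_sup (hd : 0 < d) (w₁ w₂ : Idx d n) :
    schubertVanishing K d n w₁ ⊔ schubertVanishing K d n w₂ =
      schubertVanishing K d n (W4bk4grassmannian.inf w₁ w₂) := by
  rw [← plIdeal_eq K hd, ← plIdeal_eq K hd, ← plIdeal_eq K hd, plIdeal_inf]

theorem schubert_sup_isRadical (hd : 0 < d) (w₁ w₂ : Idx d n) :
    (schubertVanishing K d n w₁ ⊔ schubertVanishing K d n w₂).IsRadical := by
  rw [schubert_sup K hd]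
  exact schubert_isRadical K _

end Radical

section Divisors

theorem val_le_of_strictMono (a : Fin d → Fin n) (ha : StrictMono a) (t : Fin d) :
    t.val ≤ (a t).val := by
  obtain ⟨t, ht⟩ := t
  induction t with
  | zero => exact Nat.zero_le _
  | succ q ih =>
    have h1 := ih (by omega)
    have hlt : a ⟨q, by omega⟩ < a ⟨q + 1, ht⟩ := ha (Fin.mk_lt_mk.mpr (Nat.lt_succ_self q))
    have h2 : (a ⟨q, by omega⟩).val < (a ⟨q + 1, ht⟩).val := hlt
    simp only at h1 ⊢
    omega

/-- Every `θ < τ` lies below a Schubert divisor of `τ`. -/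
theorem exists_divisor (θ τ : Idx d n) (h : θ < τ) : ∃ φ ∈ divisors τ, θ ≤ φ := by
  classical
  have hle : ∀ t, θ.1 t ≤ τ.1 t := fun t => (le_of_lt h) t
  have hex : ∃ t, θ.1 t < τ.1 t := by
    by_contra hcon
    push Not at hcon
    exact (not_le_of_gt h) hcon
  obtain ⟨P, hPdef⟩ : ∃ P : Finset (Fin d), P = Finset.univ.filter (fun t => θ.1 t < τ.1 t) :=
    ⟨_, rfl⟩
  have hP : P.Nonempty := by
    obtain ⟨t, ht⟩ := hex
    exact ⟨t, by rw [hPdef]; exact Finset.mem_filter.mpr ⟨Finset.mem_univ _, ht⟩⟩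
  obtain ⟨t₀, ht₀def⟩ : ∃ t₀, t₀ = P.min' hP := ⟨_, rfl⟩
  have hall : ∀ t ∈ P, θ.1 t < τ.1 t := by
    intro t ht
    rw [hPdef] at ht
    exact (Finset.mem_filter.mp ht).2
  have ht₀ : θ.1 t₀ < τ.1 t₀ := by
    rw [ht₀def]; exact hall _ (P.min'_mem hP)
  have heq : ∀ t, t < t₀ → θ.1 t = τ.1 t := by
    intro t ht
    by_contra hne
    have hlt : θ.1 t < τ.1 t := lt_of_le_of_ne (hle t) hne
    have hmem : t ∈ P := by rw [hPdef]; exact Finset.mem_filter.mpr ⟨Finset.mem_univ _, hlt⟩
    have := P.min'_le t hmem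
    rw [← ht₀def] at this
    exact absurd this (not_le.mpr ht)
  have ht₀val : (θ.1 t₀).val < (τ.1 t₀).val := ht₀
  have hpos : (τ.1 t₀).val - 1 < n := by have := (τ.1 t₀).isLt; omega
  let x : Fin n := ⟨(τ.1 t₀).val - 1, hpos⟩
  have hxlt : x < τ.1 t₀ := Fin.lt_def.mpr (by simp only [x]; omega)
  have hθx : θ.1 t₀ ≤ x := Fin.le_def.mpr (by simp only [x]; omega)
  have hmono : StrictMono (Function.update τ.1 t₀ x) := by
    intro a b hab
    by_cases ha : a = t₀
    · subst ha
      have hb : b ≠ a := ne_of_gt hab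
      rw [Function.update_self, Function.update_of_ne hb]
      exact lt_trans hxlt (τ.2 hab)
    · rw [Function.update_of_ne ha]
      by_cases hb : b = t₀
      · subst hb
        rw [Function.update_self, ← heq a hab]
        exact lt_of_lt_of_le (θ.2 hab) hθx
      · rw [Function.update_of_ne hb]
        exact τ.2 hab
  refine ⟨⟨Function.update τ.1 t₀ x, hmono⟩, ⟨⟨?_, ?_⟩, ?_⟩, ?_⟩
  · -- φ ≤ τ
    intro t
    show Function.update τ.1 t₀ x t ≤ τ.1 t
    by_cases ht : t = t₀
    · subst ht; rw [Function.update_self]; exact le_of_lt hxlt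
    · rw [Function.update_of_ne ht]
  · -- ¬ τ ≤ φ
    intro hcon
    have := hcon t₀
    have h2 : τ.1 t₀ ≤ Function.update τ.1 t₀ x t₀ := this
    rw [Function.update_self] at h2
    exact absurd h2 (not_le.mpr hxlt)
  · -- codeg
    unfold codeg
    rw [← Finset.add_sum_erase Finset.univ _ (Finset.mem_univ t₀),
      ← Finset.add_sum_erase Finset.univ (fun t => (τ.1 t).val - t.val) (Finset.mem_univ t₀)]
    have hrest : ∑ t ∈ Finset.univ.erase t₀,
        ((Function.update τ.1 t₀ x t).val - t.val) =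
        ∑ t ∈ Finset.univ.erase t₀, ((τ.1 t).val - t.val) := by
      refine Finset.sum_congr rfl (fun t ht => ?_)
      rw [Function.update_of_ne (Finset.ne_of_mem_erase ht)]
    simp only
    rw [hrest, Function.update_self]
    have hge := val_le_of_strictMono _ hmono t₀
    rw [Function.update_self] at hge
    have hxval : x.val = (τ.1 t₀).val - 1 := rfl
    omega
  · -- θ ≤ φ
    intro t
    show θ.1 t ≤ Function.update τ.1 t₀ x t
    by_cases ht : t = t₀
    · subst ht; rw [Function.update_self]; exact hθx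
    · rw [Function.update_of_ne ht]; exact hle t

end Divisors

section DivisorIdeal

variable (K : Type u) [Field K] [Infinite K]

theorem schubert_sup_X (hd : 0 < d) (τ : Idx d n) (hτ : ∃ φ : Idx d n, φ < τ) :
    schubertVanishing K d n τ ⊔ Ideal.span {X τ} =
      ⨅ φ ∈ divisors τ, schubertVanishing K d n φ := by
  apply le_antisymm
  · apply sup_le
    · exact le_iInf fun φ => le_iInf fun hφ => schubert_anti K (le_of_lt hφ.1)
    · rw [Ideal.span_le, Set.singleton_subset_iff]
      exact Ideal.mem_iInf.mpr fun φ => Ideal.mem_iInf.mpr fun hφ =>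
        X_mem_schubert K φ τ (not_le_of_gt hφ.1)
  · intro f hf
    obtain ⟨a, ha⟩ := exists_rep K f
    have hcombφ : ∀ φ ∈ divisors τ, comb K a ∈ schubertVanishing K d n φ := by
      intro φ hφ
      have h1 := plIdealTop_le K φ ha
      have h2 := Ideal.mem_iInf.mp (Ideal.mem_iInf.mp hf φ) hφ
      have : comb K a = f - (f - comb K a) := by ring
      rw [this]
      exact Ideal.sub_mem _ h2 h1
    have hcomb : comb K a ∈ schubertVanishing K d n τ ⊔ Ideal.span {X τ} := by
      apply comb_mem_of_support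
      intro c hc
      by_cases h1 : ∀ k, c.2.1 k ≤ τ
      · by_cases h2 : ∃ k, c.2.1 k = τ
        · obtain ⟨k, hk⟩ := h2
          apply chainMon_mem_of_mem K c.2.1 k
          rw [hk]
          exact Ideal.mem_sup_right (Ideal.subset_span rfl)
        · exfalso
          push Not at h2
          have hlt : ∀ k, c.2.1 k < τ := fun k => lt_of_le_of_ne (h1 k) (h2 k)
          have hdiv : ∃ φ ∈ divisors τ, ∀ k, c.2.1 k ≤ φ := by
            obtain ⟨m, c', hc'⟩ := c
            cases m with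
            | zero =>
              obtain ⟨φ₀, hφ₀⟩ := hτ
              obtain ⟨φ, hφ, _⟩ := exists_divisor φ₀ τ hφ₀
              exact ⟨φ, hφ, fun k => k.elim0⟩
            | succ m' =>
              obtain ⟨φ, hφ, hle⟩ := exists_divisor (c' 0) τ (hlt 0)
              exact ⟨φ, hφ, fun k => le_trans (hc' (Fin.zero_le k)) hle⟩
          obtain ⟨φ, hφ, hbelow⟩ := hdiv
          exact (Finsupp.mem_support_iff.mp hc)
            (coeff_eq_zero_of_mem K hd φ a (hcombφ φ hφ) c hbelow)
      · exact Ideal.mem_sup_left (plIdeal_le K τ (chainMon_mem_plIdeal K τ c.2.1 h1))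
    have : f = (f - comb K a) + comb K a := by ring
    rw [this]
    exact Ideal.add_mem _ (Ideal.mem_sup_left (plIdealTop_le K τ ha)) hcomb

end DivisorIdeal

end Groth.Agent.Lib.Seat50.StdMon
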