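import Mathlib
import Groth.Prelude.Def_W4bk4grassmannianPl
import Groth.Agent.Lib.Seat50StdIndep
import Groth.Agent.Lib.Seat50StdMon

/-!
# Independence of standard monomials on matrices with a general zero pattern (helper50)

`ker_evP_eq`: for a zero pattern `P` contained in the Schubert pattern of `w`, the kernel of the
substitution `X_θ ↦ p_θ(Y_P)` (minors of the generic matrix with the pattern `P`) is
`J(w) + (X_θ : θ not P-good)`, provided the minors of the non-good `θ` vanish.  In particular these
ideals are prime.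
-/

namespace Groth.Agent.Lib.Seat50.StdIndep2

open W4bk4grassmannian MvPolynomial StdIndep StdMon
open scoped MonomialOrder

universe u

variable {d n : ℕ} (K : Type u) [Field K] (P : Fin n → Fin d → Prop) [∀ l t, Decidable (P l t)]

/-- The generic matrix with zero pattern `P`. -/
noncomputable def YP : Matrix (Fin n) (Fin d) (MvPolynomial (Var d n) K) :=
  Matrix.of fun l t => if P l t then X (toLex (l, t)) else 0

/-- The minor of the patterned generic matrix on the rows `a`. -/
noncomputable def pminP (a : Fin d → Fin n) : MvPolynomial (Var d n) K :=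
  ((YP K P).submatrix a id).det

/-- coefficient of the term of `σ` in the Leibniz expansion of the patterned minor. -/
noncomputable def cP (θ : Idx d n) (σ : Equiv.Perm (Fin d)) : K :=
  ((Equiv.Perm.sign σ : ℤ) : K) * (if ∀ t, P (θ.1 (σ t)) t then 1 else 0)

theorem pminP_eq_sum (θ : Idx d n) :
    pminP K P θ.1 = ∑ σ : Equiv.Perm (Fin d), monomial (Dexp (θ.1 ∘ σ)) (cP K P θ σ) := by
  rw [pminP, Matrix.det_apply]
  refine Finset.sum_congr rfl (fun σ _ => ?_)
  have hentry : ∀ t, ((YP K P).submatrix θ.1 id) (σ t) t =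
      if P (θ.1 (σ t)) t then X (toLex (θ.1 (σ t), t)) else 0 := fun t => rfl
  rw [Finset.prod_congr rfl (fun t _ => hentry t)]
  by_cases hall : ∀ t, P (θ.1 (σ t)) t
  · have hprod : ∏ t, (if P (θ.1 (σ t)) t then X (toLex (θ.1 (σ t), t)) else 0 :
        MvPolynomial (Var d n) K) = monomial (Dexp (θ.1 ∘ σ)) 1 := by
      rw [← prod_X_eq_monomial]
      exact Finset.prod_congr rfl (fun t _ => by rw [if_pos (hall t)]; rfl)
    rw [hprod, cP, if_pos hall, mul_one]
    rcases Int.units_eq_one_or (Equiv.Perm.sign σ) with h | h <;> simp [h]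
  · have hall' := hall
    push Not at hall
    obtain ⟨t, ht⟩ := hall
    have hz : (if P (θ.1 (σ t)) t then X (toLex (θ.1 (σ t), t)) else 0 :
        MvPolynomial (Var d n) K) = 0 := by rw [if_neg ht]
    rw [Finset.prod_eq_zero (Finset.mem_univ t) hz, smul_zero, cP, if_neg hall', mul_zero,
      monomial_zero]

theorem pminP_monic (θ : Idx d n) (hθ : ∀ t, P (θ.1 t) t) :
    (MonomialOrder.lex).Monic (pminP K P θ.1) ∧
      (MonomialOrder.lex).degree (pminP K P θ.1) = Dexp θ.1 := by
  have hle : ∀ σ : Equiv.Perm (Fin d), toLex (Dexp (θ.1 ∘ σ)) ≤ toLex (Dexp θ.1) := by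
    intro σ
    by_cases hσ : σ = 1
    · subst hσ; exact le_of_eq rfl
    · exact le_of_lt (Dexp_comp_lt θ σ hσ)
  have hdeg_le : (MonomialOrder.lex).degree (pminP K P θ.1) ≼[MonomialOrder.lex] Dexp θ.1 := by
    rw [pminP_eq_sum]
    refine le_trans (MonomialOrder.lex).degree_sum_le (Finset.sup_le fun σ _ => ?_)
    exact le_trans ((MonomialOrder.lex).degree_monomial_le _) (hle σ)
  have hcoeff : coeff (Dexp θ.1) (pminP K P θ.1) = 1 := by
    rw [pminP_eq_sum, coeff_sum]
    simp only [coeff_monomial]
    rw [Finset.sum_eq_single 1]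
    · have hall : ∀ t, P (θ.1 ((1 : Equiv.Perm (Fin d)) t)) t := fun t => hθ t
      rw [if_pos (by rfl), cP, Equiv.Perm.sign_one, if_pos hall]
      simp
    · intro σ _ hσ
      rw [if_neg]
      intro h
      have := Dexp_comp_lt θ σ hσ
      rw [h] at this
      exact lt_irrefl _ this
    · intro h; exact absurd (Finset.mem_univ _) h
  have hdeg : (MonomialOrder.lex).degree (pminP K P θ.1) = Dexp θ.1 := by
    apply (MonomialOrder.lex).toSyn.injective
    apply le_antisymm hdeg_le
    apply (MonomialOrder.lex).le_degree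
    rw [mem_support_iff, hcoeff]
    exact one_ne_zero
  refine ⟨?_, hdeg⟩
  rw [MonomialOrder.Monic, MonomialOrder.leadingCoeff, hdeg]
  exact hcoeff

/-- Substitution of the patterned generic minors for the Plücker coordinates. -/
noncomputable def evP : PlRing K d n →ₐ[K] MvPolynomial (Var d n) K :=
  aeval fun θ : Idx d n => pminP K P θ.1

theorem evP_X (θ : Idx d n) : evP K P (X θ) = pminP K P θ.1 := by
  rw [evP, aeval_X]

theorem evP_chainMon {m : ℕ} (c : Fin m → Idx d n) :
    evP K P (chainMon K c) = ∏ k, pminP K P (c k).1 := by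
  rw [chainMon, map_prod]
  exact Finset.prod_congr rfl (fun k _ => evP_X K P (c k))

theorem chainP_monic {m : ℕ} (c : Fin m → Idx d n) (hc : ∀ k t, P ((c k).1 t) t) :
    (MonomialOrder.lex).Monic (∏ k, pminP K P (c k).1) ∧
      (MonomialOrder.lex).degree (∏ k, pminP K P (c k).1) = Dchain c := by
  refine ⟨MonomialOrder.Monic.prod (fun k _ => (pminP_monic K P (c k) (hc k)).1), ?_⟩
  rw [(MonomialOrder.lex).degree_prod
    (fun k _ => ((pminP_monic K P (c k) (hc k)).1).ne_zero), Dchain]
  exact Finset.sum_congr rfl (fun k _ => (pminP_monic K P (c k) (hc k)).2)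

/-- Independence of the good standard monomials after the substitution `evP`. -/
theorem coeff_eq_zero_of_evP (hd : 0 < d)
    (hbad : ∀ θ : Idx d n, (¬ ∀ t, P (θ.1 t) t) → pminP K P θ.1 = 0)
    (a : Chain d n →₀ K) (h : evP K P (comb K a) = 0)
    (c : Chain d n) (hc : ∀ k t, P ((c.2.1 k).1 t) t) : a c = 0 := by
  classical
  rw [comb, Finsupp.sum, map_sum] at h
  set F := a.support.filter fun c : Chain d n => ∀ k t, P ((c.2.1 k).1 t) t with hF
  have h1 : ∑ c ∈ F, a c • (∏ k, pminP K P (c.2.1 k).1) = 0 := by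
    rw [← h, hF, Finset.sum_filter]
    refine Finset.sum_congr rfl (fun c _ => ?_)
    rw [map_smul, evP_chainMon]
    by_cases hc : ∀ k t, P ((c.2.1 k).1 t) t
    · rw [if_pos hc]
    · rw [if_neg hc]
      push Not at hc
      obtain ⟨k, t, hkt⟩ := hc
      have : pminP K P (c.2.1 k).1 = 0 := hbad _ (fun hall => hkt (hall t))
      rw [Finset.prod_eq_zero (Finset.mem_univ k) this, smul_zero]
  have hz := eq_zero_of_sum_monic (MonomialOrder.lex) F
    (fun c : Chain d n => ∏ k, pminP K P (c.2.1 k).1)
    (fun c hcF => (chainP_monic K P c.2.1 (Finset.mem_filter.mp hcF).2).1)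
    (fun c hcF c' hc'F hdeg => by
      rw [(chainP_monic K P c.2.1 (Finset.mem_filter.mp hcF).2).2,
        (chainP_monic K P c'.2.1 (Finset.mem_filter.mp hc'F).2).2] at hdeg
      exact Dchain_injective hd c c' hdeg)
    (fun c => a c) h1
  by_cases hcs : c ∈ a.support
  · exact hz c (Finset.mem_filter.mpr ⟨hcs, hc⟩)
  · exact Finsupp.notMem_support_iff.mp hcs

theorem eval_evP (y : Var d n → K) (f : PlRing K d n) :
    eval y (evP K P f) = evalMinors K d n ((YP K P).map (eval y)) f := by
  have h : (aeval y : MvPolynomial (Var d n) K →ₐ[K] K).comp (evP K P) =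
      evalMinors K d n ((YP K P).map (eval y)) := by
    apply MvPolynomial.algHom_ext
    intro θ
    rw [AlgHom.comp_apply, evP, aeval_X, evalMinors, aeval_X, pminP]
    change (eval y) ((YP K P).submatrix θ.1 id).det = _
    rw [RingHom.map_det]
    rfl
  have := congrArg (fun g => g f) h
  simpa using this

theorem schubert_le_ker_evP [Infinite K] (w : Idx d n) (hP : ∀ l t, P l t → l ≤ w.1 t) :
    schubertVanishing K d n w ≤ RingHom.ker (evP K P).toRingHom := by
  intro f hf
  rw [RingHom.mem_ker]
  show evP K P f = 0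
  apply MvPolynomial.funext
  intro y
  rw [eval_evP, map_zero]
  have h1 := Ideal.mem_iInf.mp hf ((YP K P).map (eval y))
  have h2 := Ideal.mem_iInf.mp h1 (fun φ hφ => by
    apply det_submatrix_eq_zero w φ _ _ hφ
    intro l t hlt
    simp only [YP, Matrix.map_apply, Matrix.of_apply]
    rw [if_neg (fun hPlt => absurd (hP l t hPlt) (not_le.mpr hlt)), map_zero])
  exact h2

/-- The kernel of the patterned substitution. -/
theorem ker_evP_eq [Infinite K] (hd : 0 < d) (w : Idx d n) (hP : ∀ l t, P l t → l ≤ w.1 t)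
    (hbad : ∀ θ : Idx d n, (¬ ∀ t, P (θ.1 t) t) → pminP K P θ.1 = 0) :
    RingHom.ker (evP K P).toRingHom =
      schubertVanishing K d n w ⊔
        Ideal.span {f | ∃ θ : Idx d n, (¬ ∀ t, P (θ.1 t) t) ∧ f = X θ} := by
  apply le_antisymm
  · intro f hf
    rw [RingHom.mem_ker] at hf
    have hf' : evP K P f = 0 := hf
    obtain ⟨a, ha⟩ := exists_rep K f
    have hker : evP K P (f - comb K a) = 0 :=
      RingHom.mem_ker.mp (schubert_le_ker_evP K P w hP (plIdealTop_le K w ha))
    have hcomb0 : evP K P (comb K a) = 0 := by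
      have : comb K a = f - (f - comb K a) := by ring
      rw [this, map_sub, hf', hker, sub_zero]
    have hzero := coeff_eq_zero_of_evP K P hd hbad a hcomb0
    have hcomb : comb K a ∈ schubertVanishing K d n w ⊔
        Ideal.span {f | ∃ θ : Idx d n, (¬ ∀ t, P (θ.1 t) t) ∧ f = X θ} := by
      apply comb_mem_of_support
      intro c hc
      have hnot : ¬ ∀ k t, P ((c.2.1 k).1 t) t :=
        fun hgood => (Finsupp.mem_support_iff.mp hc) (hzero c hgood)
      push Not at hnot
      obtain ⟨k, t, hkt⟩ := hnot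
      apply chainMon_mem_of_mem K c.2.1 k
      exact Ideal.mem_sup_right (Ideal.subset_span ⟨c.2.1 k, fun hall => hkt (hall t), rfl⟩)
    have : f = (f - comb K a) + comb K a := by ring
    rw [this]
    exact Ideal.add_mem _ (Ideal.mem_sup_left (plIdealTop_le K w ha)) hcomb
  · apply sup_le (schubert_le_ker_evP K P w hP)
    rw [Ideal.span_le]
    rintro f ⟨θ, hθ, rfl⟩
    rw [SetLike.mem_coe, RingHom.mem_ker]
    show evP K P (X θ) = 0
    rw [evP_X]
    exact hbad θ hθ

theorem ker_evP_isPrime : (RingHom.ker (evP K P).toRingHom).IsPrime :=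
  RingHom.ker_isPrime _

end Groth.Agent.Lib.Seat50.StdIndep2
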