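import Mathlib
import Groth.Prelude.Def_W4bk4grassmannianPl
import Groth.Agent.Lib.Seat50StdIndep2

/-!
# Primality of Schubert ideals and of the least Plücker coordinate (helper50)
-/

namespace Groth.Agent.Lib.Seat50.SchubertPrime

open W4bk4grassmannian MvPolynomial StdIndep StdMon StdIndep2

universe u

variable {d n : ℕ}

section Combinatorics

theorem val_add_le_of_strictMono (a : Fin d → Fin n) (ha : StrictMono a) (s t : Fin d) (hst : s ≤ t) :
    (a s).val + t.val ≤ (a t).val + s.val := by
  obtain ⟨k, hk⟩ : ∃ k : ℕ, t.val = s.val + k := ⟨t.val - s.val, by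
    have : s.val ≤ t.val := hst
    omega⟩
  induction k generalizing t with
  | zero =>
    have : t = s := Fin.ext (by omega)
    subst this
    exact le_refl _
  | succ k ih =>
    have ht1 : t.val - 1 < d := by have := t.isLt; omega
    have h1 := ih ⟨t.val - 1, ht1⟩ (Fin.le_def.mpr (by simp only; omega)) (by simp only; omega)
    have hlt : a ⟨t.val - 1, ht1⟩ < a t := ha (Fin.lt_def.mpr (by simp only; omega))
    have h2 : (a ⟨t.val - 1, ht1⟩).val < (a t).val := hlt
    simp only at h1
    omega

/-- The least element `(0, 1, …, d-1)` of `I(d,n)`. -/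
def iota (hdn : d < n) : Idx d n := ⟨fun t => ⟨t.val, lt_trans t.isLt hdn⟩, fun _ _ h => h⟩

theorem iota_le (hdn : d < n) (w : Idx d n) : iota hdn ≤ w := by
  intro t
  exact Fin.le_def.mpr (val_le_of_strictMono w.1 w.2 t)

theorem eq_iota_of_last_lt (hdn : d < n) (θ : Idx d n)
    (h : ∀ t : Fin d, t.val + 1 = d → (θ.1 t).val < d) : θ = iota hdn := by
  apply Subtype.ext
  funext t
  apply Fin.ext
  show (θ.1 t).val = t.val
  have h1 := val_le_of_strictMono θ.1 θ.2 t
  have hd : 0 < d := lt_of_le_of_lt (Nat.zero_le _) t.isLt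
  obtain ⟨tl, htl⟩ : ∃ tl : Fin d, tl.val = d - 1 := ⟨⟨d - 1, by omega⟩, rfl⟩
  have h2 := val_add_le_of_strictMono θ.1 θ.2 t tl (Fin.le_def.mpr (by have := t.isLt; omega))
  have h3 := h tl (by omega)
  omega

end Combinatorics

section Prime

variable (K : Type u) [Field K] [Infinite K]

/-- The Schubert pattern of `τ`. -/
def PSch (τ : Idx d n) : Fin n → Fin d → Prop := fun l t => l ≤ τ.1 t

instance (τ : Idx d n) : ∀ l t, Decidable (PSch τ l t) := fun l t => by
  unfold PSch; infer_instance

theorem schubert_eq_ker (hd : 0 < d) (τ : Idx d n) :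
    schubertVanishing K d n τ = RingHom.ker (evP K (PSch τ)).toRingHom := by
  have hbad : ∀ θ : Idx d n, (¬ ∀ t, PSch τ (θ.1 t) t) → pminP K (PSch τ) θ.1 = 0 := by
    intro θ hθ
    apply det_submatrix_eq_zero τ θ (YP K (PSch τ)) _ hθ
    intro l t hlt
    simp only [YP, Matrix.of_apply]
    rw [if_neg (fun h : PSch τ l t => absurd h (not_le.mpr hlt))]
  rw [ker_evP_eq K (PSch τ) hd τ (fun l t h => h) hbad]
  apply le_antisymm le_sup_left
  apply sup_le le_rfl
  rw [Ideal.span_le]
  rintro f ⟨θ, hθ, rfl⟩
  exact X_mem_schubert K τ θ hθ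

/-- The vanishing ideal of a Schubert variety is prime. -/
theorem schubert_isPrime (hd : 0 < d) (τ : Idx d n) : (schubertVanishing K d n τ).IsPrime := by
  rw [schubert_eq_ker K hd τ]
  exact ker_evP_isPrime K _

/-- The pattern of `w` with the first `d` entries of the last column removed. -/
def PIota (w : Idx d n) : Fin n → Fin d → Prop :=
  fun l t => l ≤ w.1 t ∧ (t.val + 1 = d → d ≤ l.val)

instance (w : Idx d n) : ∀ l t, Decidable (PIota w l t) := fun l t => by
  unfold PIota; infer_instance

theorem schubert_sup_iota_eq_ker (hd : 0 < d) (hdn : d < n) (w : Idx d n) :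
    schubertVanishing K d n w ⊔ Ideal.span {X (iota hdn)} =
      RingHom.ker (evP K (PIota w)).toRingHom := by
  have hbad : ∀ θ : Idx d n, (¬ ∀ t, PIota w (θ.1 t) t) → pminP K (PIota w) θ.1 = 0 := by
    intro θ hθ
    by_cases hθw : θ ≤ w
    · -- the last column of the submatrix vanishes
      have hlast : ∀ t : Fin d, t.val + 1 = d → (θ.1 t).val < d := by
        intro t ht
        by_contra hcon
        apply hθ
        intro t'
        refine ⟨hθw t', fun ht' => ?_⟩
        have : t' = t := Fin.ext (by omega)
        rw [this]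
        omega
      have hθι := eq_iota_of_last_lt hdn θ hlast
      rw [pminP]
      apply Matrix.det_eq_zero_of_column_eq_zero (⟨d - 1, by omega⟩ : Fin d)
      intro s
      simp only [Matrix.submatrix_apply, YP, Matrix.of_apply, id]
      rw [if_neg]
      rintro ⟨_, h2⟩
      have h3 := h2 (by simp only; omega)
      rw [hθι] at h3
      simp only [iota] at h3
      have := s.isLt
      omega
    · apply det_submatrix_eq_zero w θ (YP K (PIota w)) _ hθw
      intro l t hlt
      simp only [YP, Matrix.of_apply]
      rw [if_neg (fun h : PIota w l t => absurd h.1 (not_le.mpr hlt))]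
  rw [ker_evP_eq K (PIota w) hd w (fun l t h => h.1) hbad]
  apply le_antisymm
  · apply sup_le le_sup_left
    rw [Ideal.span_le, Set.singleton_subset_iff]
    apply Ideal.mem_sup_right
    apply Ideal.subset_span
    refine ⟨iota hdn, ?_, rfl⟩
    intro hall
    have := (hall ⟨d - 1, by omega⟩).2 (by simp only; omega)
    simp only [iota] at this
    omega
  · apply sup_le le_sup_left
    rw [Ideal.span_le]
    rintro f ⟨θ, hθ, rfl⟩
    by_cases hθw : θ ≤ w
    · have hlast : ∀ t : Fin d, t.val + 1 = d → (θ.1 t).val < d := by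
        intro t ht
        by_contra hcon
        apply hθ
        intro t'
        refine ⟨hθw t', fun ht' => ?_⟩
        have : t' = t := Fin.ext (by omega)
        rw [this]
        omega
      rw [eq_iota_of_last_lt hdn θ hlast]
      exact Ideal.mem_sup_right (Ideal.subset_span rfl)
    · exact Ideal.mem_sup_left (X_mem_schubert K w θ hθw)

theorem schubert_sup_iota_isPrime (hd : 0 < d) (hdn : d < n) (w : Idx d n) :
    (schubertVanishing K d n w ⊔ Ideal.span {X (iota hdn)}).IsPrime := by
  rw [schubert_sup_iota_eq_ker K hd hdn w]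
  exact ker_evP_isPrime K _

/-- A single Plücker coordinate `X θ` with `θ ≤ w` does not vanish on `X(w)`. -/
theorem X_notMem_schubert (hd : 0 < d) (w θ : Idx d n) (hθ : θ ≤ w) :
    X θ ∉ schubertVanishing K d n w := by
  intro hmem
  let c : Chain d n := ⟨1, ⟨fun _ => θ, fun _ _ _ => le_refl _⟩⟩
  have hcomb : comb K (Finsupp.single c (1 : K)) = X θ := by
    rw [comb, Finsupp.sum_single_index (by rw [zero_smul]), one_smul]
    simp [chainMon, c]
  have h := coeff_eq_zero_of_mem K hd w (Finsupp.single c (1 : K)) (by
    show comb K (Finsupp.single c (1 : K)) ∈ _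
    rw [hcomb]; exact hmem) c (fun _ => hθ)
  rw [Finsupp.single_eq_same] at h
  exact one_ne_zero h

/-- The least Plücker coordinate is a prime element of the coordinate ring of every Schubert cone. -/
theorem prime_mk_X_iota (hd : 0 < d) (hdn : d < n) (w : Idx d n) :
    Prime (Ideal.Quotient.mk (schubertVanishing K d n w) (X (iota hdn))) := by
  have hne : Ideal.Quotient.mk (schubertVanishing K d n w) (X (iota hdn)) ≠ 0 := by
    intro h
    rw [Ideal.Quotient.eq_zero_iff_mem] at h
    exact X_notMem_schubert K hd w (iota hdn) (iota_le hdn w) h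
  rw [← Ideal.span_singleton_prime hne]
  have hprime := schubert_sup_iota_isPrime K hd hdn w
  have hmap : Ideal.span {Ideal.Quotient.mk (schubertVanishing K d n w) (X (iota hdn))} =
      Ideal.map (Ideal.Quotient.mk (schubertVanishing K d n w))
        (schubertVanishing K d n w ⊔ Ideal.span {X (iota hdn)}) := by
    rw [Ideal.map_sup, Ideal.map_quotient_self, bot_sup_eq, Ideal.map_span, Set.image_singleton]
  rw [hmap]
  apply Ideal.map_isPrime_of_surjective Ideal.Quotient.mk_surjective
  rw [Ideal.mk_ker]
  exact le_sup_left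

end Prime

end Groth.Agent.Lib.Seat50.SchubertPrime
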