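import Mathlib
import Groth.Prelude.Def_W4bk4grassmannianPl
import Groth.Agent.Lib.Seat50Plucker
import Groth.Agent.Lib.Seat50SchubertPrime

/-!
# First fundamental theorem for `SL_d` acting on `n × d` matrices (helper50)
-/

namespace Groth.Agent.Lib.Seat50.FFT

open W4bk4grassmannian MvPolynomial

universe u

variable {d n : ℕ}

section Eval

variable (K : Type u) [CommRing K]

/-- Evaluation of matrix polynomials at a matrix. -/
noncomputable def evM (M : Matrix (Fin n) (Fin d) K) : MatRing K d n →ₐ[K] K :=
  aeval fun p : Fin n × Fin d => M p.1 p.2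

theorem evM_X (M : Matrix (Fin n) (Fin d) K) (l : Fin n) (t : Fin d) :
    evM K M (X (l, t)) = M l t := by
  rw [evM, aeval_X]

theorem evM_minor (M : Matrix (Fin n) (Fin d) K) (a : Fin d → Fin n) :
    evM K M (minor K d n a) = (M.submatrix a id).det := by
  rw [minor, AlgHom.map_det]
  congr 1
  ext s t
  simp [evM_X]

theorem evM_rightTranslate (M : Matrix (Fin n) (Fin d) K)
    (g : Matrix.SpecialLinearGroup (Fin d) K) (f : MatRing K d n) :
    evM K M (rightTranslate K d n g f) = evM K (M * (g : Matrix (Fin d) (Fin d) K)) f := by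
  have h : (evM K M).comp (rightTranslate K d n g) =
      evM K (M * (g : Matrix (Fin d) (Fin d) K)) := by
    apply MvPolynomial.algHom_ext
    rintro ⟨l, t⟩
    rw [AlgHom.comp_apply, rightTranslate, aeval_X, map_sum, evM_X, Matrix.mul_apply]
    refine Finset.sum_congr rfl (fun k _ => ?_)
    rw [map_mul, evM_X]
    congr 1
    exact (evM K M).commutes _
  exact congrArg (fun φ => φ f) h

theorem rightTranslate_minor (g : Matrix.SpecialLinearGroup (Fin d) K) (a : Fin d → Fin n) :
    rightTranslate K d n g (minor K d n a) = minor K d n a := by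
  rw [minor, AlgHom.map_det]
  have h : (rightTranslate K d n g).mapMatrix
      (Matrix.of fun s t : Fin d => (X (a s, t) : MatRing K d n)) =
      (Matrix.of fun s t : Fin d => (X (a s, t) : MatRing K d n)) *
        ((g : Matrix (Fin d) (Fin d) K).map (algebraMap K (MatRing K d n))) := by
    ext s t
    simp only [AlgHom.mapMatrix_apply, Matrix.map_apply, Matrix.of_apply, Matrix.mul_apply]
    rw [rightTranslate, aeval_X]
    rfl
  rw [h, Matrix.det_mul]
  have h2 : ((g : Matrix (Fin d) (Fin d) K).map (algebraMap K (MatRing K d n))).det = 1 := by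
    rw [← RingHom.mapMatrix_apply, ← RingHom.map_det, g.2, map_one]
  rw [h2, mul_one]

end Eval

section Subalg

variable (K : Type u) [Field K] [Infinite K]

/-- The subalgebra generated by the maximal minors, as the range of the Plücker comorphism. -/
noncomputable def Br : Subalgebra K (MatRing K d n) := (pluckerMap K d n).range

theorem adjoin_eq_Br :
    Algebra.adjoin K (Set.range fun θ : Idx d n => minor K d n θ.1) = Br K (d := d) (n := n) := by
  rw [Br, pluckerMap]
  exact Algebra.adjoin_range_eq_range_aeval K _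

omit [Infinite K] in
theorem minor_idx_mem (θ : Idx d n) : minor K d n θ.1 ∈ Br K (d := d) (n := n) :=
  ⟨X θ, by
    show pluckerMap K d n (X θ) = _
    rw [pluckerMap, aeval_X]⟩

omit [Infinite K] in
theorem minor_mem (a : Fin d → Fin n) : minor K d n a ∈ Br K (d := d) (n := n) := by
  by_cases ha : Function.Injective a
  · have h : (Finset.univ.image a).card = d := (Plucker.card_image_eq_iff a).mpr ha
    obtain ⟨ρ, hρ, -⟩ := Plucker.exists_perm_sort a h
    have h1 : minor K d n a =
        ((Equiv.Perm.sign ρ : ℤ) : MatRing K d n) * minor K d n (sortIdx d n a h).1 := by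
      rw [minor, minor, ← Matrix.det_permute]
      congr 1
      ext s t
      simp only [Matrix.submatrix_apply, Matrix.of_apply, id_eq]
      conv_lhs => rw [hρ]
      rfl
    rw [h1]
    exact Subalgebra.mul_mem _ (Subalgebra.intCast_mem _ _) (minor_idx_mem K _)
  · rw [Function.Injective] at ha
    push Not at ha
    obtain ⟨i, j, hij, hne⟩ := ha
    have h0 : minor K d n a = 0 := by
      rw [minor]
      apply Matrix.det_zero_of_row_eq hne
      funext c
      simp [hij]
    rw [h0]
    exact Subalgebra.zero_mem _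

omit [Infinite K] in
theorem evM_pluckerMap (M : Matrix (Fin n) (Fin d) K) (f : PlRing K d n) :
    evM K M (pluckerMap K d n f) = evalMinors K d n M f := by
  have h : (evM K M).comp (pluckerMap K d n) = evalMinors K d n M := by
    apply MvPolynomial.algHom_ext
    intro θ
    rw [AlgHom.comp_apply, pluckerMap, aeval_X, evalMinors, aeval_X, evM_minor]
  exact congrArg (fun φ => φ f) h

omit [Infinite K] in
theorem eval_eq_evM (x : Fin n × Fin d → K) (f : MatRing K d n) :
    eval x f = evM K (Matrix.of fun l t => x (l, t)) f := by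
  rw [evM, ← MvPolynomial.coe_aeval_eq_eval]
  rfl

theorem ker_pluckerMap : RingHom.ker (pluckerMap K d n).toRingHom = vanishing K d n := by
  ext f
  rw [RingHom.mem_ker, vanishing, Ideal.mem_iInf]
  constructor
  · intro hf M
    rw [RingHom.mem_ker]
    show evalMinors K d n M f = 0
    have hf' : pluckerMap K d n f = 0 := hf
    rw [← evM_pluckerMap, hf', map_zero]
  · intro hf
    show pluckerMap K d n f = 0
    apply MvPolynomial.funext
    intro x
    rw [eval_eq_evM, evM_pluckerMap, map_zero]
    exact RingHom.mem_ker.mp (hf _)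

/-- The largest element of `I(d,n)`. -/
def topIdx (hdn : d < n) : Idx d n :=
  ⟨fun t => ⟨n - d + t.val, by have := t.isLt; omega⟩, fun a b h => by
    have : a.val < b.val := h
    exact Fin.mk_lt_mk.mpr (by omega)⟩

theorem le_topIdx (hd : 0 < d) (hdn : d < n) (θ : Idx d n) : θ ≤ topIdx hdn := by
  intro t
  have h1 := SchubertPrime.val_add_le_of_strictMono θ.1 θ.2 t ⟨d - 1, by omega⟩
    (Fin.le_def.mpr (by have := t.isLt; simp; omega))
  have h2 := (θ.1 ⟨d - 1, by omega⟩).isLt
  simp only at h1
  exact Fin.le_def.mpr (by simp only [topIdx]; omega)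

omit [Infinite K] in
theorem vanishing_eq (hd : 0 < d) (hdn : d < n) :
    vanishing K d n = schubertVanishing K d n (topIdx hdn) := by
  rw [vanishing, schubertVanishing]
  congr 1
  funext A
  rw [iInf_pos (fun φ hφ => absurd (le_topIdx hd hdn φ) hφ)]

/-- `S/J(top) ≃ Br`. -/
noncomputable def eB (hd : 0 < d) (hdn : d < n) :
    (PlRing K d n ⧸ schubertVanishing K d n (topIdx hdn)) ≃ₐ[K] Br K (d := d) (n := n) :=
  (Ideal.quotientEquivAlgOfEq K ((vanishing_eq K hd hdn).symm.trans
    ((ker_pluckerMap K).symm.trans (AlgHom.ker_rangeRestrict (pluckerMap K d n)).symm))).trans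
    (Ideal.quotientKerAlgEquivOfSurjective (pluckerMap K d n).rangeRestrict_surjective)

theorem eB_mk (hd : 0 < d) (hdn : d < n) (f : PlRing K d n) :
    ((eB K hd hdn (Ideal.Quotient.mk _ f) : Br K (d := d) (n := n)) : MatRing K d n) =
      pluckerMap K d n f := by
  rfl

/-- The minor on the first `d` rows is a prime element of the algebra of minors. -/
theorem prime_iota (hd : 0 < d) (hdn : d < n) :
    Prime (⟨minor K d n (SchubertPrime.iota hdn).1, minor_idx_mem K _⟩ :
      Br K (d := d) (n := n)) := by
  have h := (MulEquiv.prime_iff (eB K hd hdn)).mpr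
    (SchubertPrime.prime_mk_X_iota K hd hdn (topIdx hdn))
  convert h using 1
  apply Subtype.ext
  rw [eB_mk, pluckerMap, aeval_X]

end Subalg

section Clearing

variable (K : Type u) [Field K] [Infinite K] (θ : Idx d n)

omit [Infinite K] in
/-- `M · adj(M_θ)` has the minors `p_{θ[t ↦ l]}(M)` as entries. -/
theorem mul_adjugate_apply (M : Matrix (Fin n) (Fin d) K) (l : Fin n) (t : Fin d) :
    (M * Matrix.adjugate (M.submatrix θ.1 id)) l t =
      evM K M (minor K d n (Function.update θ.1 t l)) := by
  rw [Matrix.mul_apply_eq_vecMul, ← Matrix.mulVec_transpose, Matrix.adjugate_transpose,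
    ← Matrix.cramer_eq_adjugate_mulVec, Matrix.cramer_transpose_apply, evM_minor]
  congr 1
  ext s c
  rw [Matrix.updateRow_apply, Matrix.submatrix_apply, Matrix.submatrix_apply, id_eq]
  by_cases hs : s = t
  · rw [if_pos hs, hs, Function.update_self]
  · rw [if_neg hs, Function.update_of_ne hs]

/-- The entries `q_{l,t}` as elements of the algebra of minors. -/
noncomputable def qq (l : Fin n) (t : Fin d) : Br K (d := d) (n := n) :=
  ⟨minor K d n (Function.update θ.1 t l), minor_mem K _⟩

/-- The substitution `x_{l,t} ↦ q_{l,t} · y^[t = 0]` into polynomials over the algebra of minors. -/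
noncomputable def Γ : MatRing K d n →ₐ[K] Polynomial (Br K (d := d) (n := n)) :=
  aeval fun p : Fin n × Fin d =>
    if p.2.val = 0 then Polynomial.C (qq K θ p.1 p.2) * Polynomial.X
    else Polynomial.C (qq K θ p.1 p.2)

/-- Evaluation of the algebra of minors at a matrix. -/
noncomputable def evB (M : Matrix (Fin n) (Fin d) K) : Br K (d := d) (n := n) →ₐ[K] K :=
  (evM K M).comp (Br K).val

/-- The column scaling. -/
def uu (s : K) : Fin d → K := fun t => if t.val = 0 then s else 1

omit [Infinite K] in
theorem ev_Γ (M : Matrix (Fin n) (Fin d) K) (s : K) (f : MatRing K d n) :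
    evM K (M * Matrix.adjugate (M.submatrix θ.1 id) * Matrix.diagonal (uu K s : Fin d → K)) f =
      Polynomial.eval s ((Γ K θ f).map (evB K M)) := by
  have h : evM K (M * Matrix.adjugate (M.submatrix θ.1 id) * Matrix.diagonal (uu K s : Fin d → K)) =
      (Polynomial.aeval s : Polynomial K →ₐ[K] K).comp
        ((Polynomial.mapAlgHom (evB K M)).comp (Γ K θ)) := by
    apply MvPolynomial.algHom_ext
    rintro ⟨l, t⟩
    rw [evM_X, Matrix.mul_diagonal, mul_adjugate_apply, AlgHom.comp_apply, AlgHom.comp_apply,
      Γ, aeval_X, Polynomial.coe_mapAlgHom, Polynomial.coe_aeval_eq_eval]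
    simp only [uu]
    split_ifs with ht
    · rw [Polynomial.map_mul, Polynomial.map_C, Polynomial.map_X, Polynomial.eval_mul,
        Polynomial.eval_C, Polynomial.eval_X]
      rfl
    · rw [Polynomial.map_C, Polynomial.eval_C, mul_one]
      rfl
  rw [h]
  rfl

omit [Infinite K] in
theorem minor_ne_zero : minor K d n θ.1 ≠ 0 := by
  intro h0
  have h1 := evM_minor K (Matrix.of fun l t => if l = θ.1 t then (1 : K) else 0) θ.1
  rw [h0, map_zero] at h1
  have h2 : (Matrix.of fun l t => if l = θ.1 t then (1 : K) else 0).submatrix θ.1 id = 1 := by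
    ext s t
    rw [Matrix.submatrix_apply, Matrix.of_apply, id_eq, Matrix.one_apply]
    by_cases hst : s = t
    · rw [if_pos hst, if_pos (by rw [hst])]
    · rw [if_neg hst, if_neg (fun h => hst (θ.2.injective h))]
  rw [h2, Matrix.det_one] at h1
  exact zero_ne_one h1

/-- Clearing denominators: an `SL_d`-invariant times a power of a maximal minor is a polynomial in the
maximal minors. -/
theorem exists_pow_mul_mem (hd : 0 < d) (f : MatRing K d n)
    (hf : ∀ g : Matrix.SpecialLinearGroup (Fin d) K, rightTranslate K d n g f = f) :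
    ∃ N : ℕ, minor K d n θ.1 ^ N * f ∈ Br K (d := d) (n := n) := by
  classical
  set P := Γ K θ f with hP
  set D := P.natDegree with hD
  set pB : Br K (d := d) (n := n) := ⟨minor K d n θ.1, minor_idx_mem K θ⟩ with hpB
  set F : Br K (d := d) (n := n) :=
    ∑ k ∈ Finset.range (D + 1), P.coeff k * pB ^ ((d - 1) * (D - k)) with hF
  refine ⟨(d - 1) * D, ?_⟩
  suffices h : minor K d n θ.1 ^ ((d - 1) * D) * f = (F : MatRing K d n) by
    rw [h]; exact F.2
  have hmain : minor K d n θ.1 * (minor K d n θ.1 ^ ((d - 1) * D) * f - (F : MatRing K d n)) = 0 := by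
    apply MvPolynomial.funext
    intro x
    rw [eval_eq_evM, eval_eq_evM, map_zero, map_mul]
    set M : Matrix (Fin n) (Fin d) K := Matrix.of fun l t => x (l, t) with hM
    set δ := (M.submatrix θ.1 id).det with hδ
    have hδ' : evM K M (minor K d n θ.1) = δ := evM_minor K M θ.1
    by_cases h0 : δ = 0
    · rw [hδ', h0, zero_mul]
    · have hε : δ ^ (d - 1) ≠ 0 := pow_ne_zero _ h0
      set s : K := (δ ^ (d - 1))⁻¹ with hs
      -- the special linear matrix
      have hdet : (Matrix.adjugate (M.submatrix θ.1 id) * Matrix.diagonal (uu K s : Fin d → K)).det = 1 := by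
        rw [Matrix.det_mul, Matrix.det_adjugate, Matrix.det_diagonal, Fintype.card_fin, ← hδ]
        have hprod : ∏ t : Fin d, uu K s t = s := by
          rw [Finset.prod_eq_single (⟨0, hd⟩ : Fin d)]
          · simp [uu]
          · intro t _ ht
            have : t.val ≠ 0 := fun h => ht (Fin.ext h)
            simp [uu, this]
          · intro h; exact absurd (Finset.mem_univ _) h
        rw [hprod, hs, mul_inv_cancel₀ hε]
      have hinv := hf (⟨_, hdet⟩ : Matrix.SpecialLinearGroup (Fin d) K)
      have h1 : evM K M f = Polynomial.eval s (P.map (evB K M)) := by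
        have e1 := evM_rightTranslate K M (⟨_, hdet⟩ : Matrix.SpecialLinearGroup (Fin d) K) f
        rw [hinv] at e1
        rw [e1]
        show evM K (M * (Matrix.adjugate (M.submatrix θ.1 id) * Matrix.diagonal (uu K s : Fin d → K))) f = _
        rw [← Matrix.mul_assoc, ev_Γ]
      have h2 : Polynomial.eval s (P.map (evB K M)) =
          ∑ k ∈ Finset.range (D + 1), evB K M (P.coeff k) * s ^ k := by
        rw [Polynomial.eval_eq_sum_range' (n := D + 1)
          (lt_of_le_of_lt (Polynomial.natDegree_map_le) (Nat.lt_succ_self _))]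
        refine Finset.sum_congr rfl (fun k _ => ?_)
        rw [Polynomial.coeff_map]
        rfl
      have h3 : evM K M (F : MatRing K d n) =
          ∑ k ∈ Finset.range (D + 1), evB K M (P.coeff k) * δ ^ ((d - 1) * (D - k)) := by
        have : evM K M (F : MatRing K d n) = evB K M F := rfl
        rw [this, hF, map_sum]
        refine Finset.sum_congr rfl (fun k _ => ?_)
        rw [map_mul, map_pow]
        congr 2
      have h4 : evM K M (minor K d n θ.1 ^ ((d - 1) * D) * f - (F : MatRing K d n)) = 0 := by
        rw [map_sub, map_mul, map_pow, hδ', h1, h2, h3, Finset.mul_sum, sub_eq_zero]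
        refine Finset.sum_congr rfl (fun k hk => ?_)
        have hk' : k ≤ D := Nat.lt_succ_iff.mp (Finset.mem_range.mp hk)
        rw [hs, inv_pow, pow_mul δ (d - 1) D, pow_mul δ (d - 1) (D - k), pow_sub₀ _ hε hk']
        ring
      rw [h4, mul_zero]
  rcases mul_eq_zero.mp hmain with h | h
  · exact absurd h (minor_ne_zero K θ)
  · exact sub_eq_zero.mp h

end Clearing

section Main

variable (K : Type u) [Field K] [Infinite K]

/-- The index `(0, …, d-2, d)`. -/
def tau1 (hdn : d < n) : Idx d n :=
  ⟨fun t => if t.val + 1 = d then ⟨d, hdn⟩ else ⟨t.val, lt_trans t.isLt hdn⟩, fun a b h => by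
    have hab : a.val < b.val := h
    have hb := b.isLt
    have ha : ¬ a.val + 1 = d := by omega
    simp only [if_neg ha]
    split_ifs with hb'
    · exact Fin.mk_lt_mk.mpr a.isLt
    · exact Fin.mk_lt_mk.mpr hab⟩

omit [Infinite K] in
theorem not_dvd (hd : 0 < d) (hdn : d < n) :
    ¬ (⟨minor K d n (SchubertPrime.iota hdn).1, minor_idx_mem K _⟩ : Br K (d := d) (n := n)) ∣
      ⟨minor K d n (tau1 hdn).1, minor_idx_mem K _⟩ := by
  rintro ⟨c, hc⟩
  have h1 : minor K d n (tau1 hdn).1 = minor K d n (SchubertPrime.iota hdn).1 * (c : MatRing K d n) :=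
    congrArg Subtype.val hc
  set M₁ : Matrix (Fin n) (Fin d) K :=
    Matrix.of fun l t => if l = (tau1 hdn).1 t then (1 : K) else 0 with hM₁
  have h2 := congrArg (evM K M₁) h1
  rw [map_mul, evM_minor, evM_minor] at h2
  have h3 : M₁.submatrix (tau1 hdn).1 id = 1 := by
    ext s t
    rw [Matrix.submatrix_apply, hM₁, Matrix.of_apply, id_eq, Matrix.one_apply]
    by_cases hst : s = t
    · rw [if_pos hst, if_pos (by rw [hst])]
    · rw [if_neg hst, if_neg (fun h => hst ((tau1 hdn).2.injective h))]
  have h4 : (M₁.submatrix (SchubertPrime.iota hdn).1 id).det = 0 := by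
    apply Matrix.det_eq_zero_of_row_eq_zero (⟨d - 1, by omega⟩ : Fin d)
    intro t
    rw [Matrix.submatrix_apply, hM₁, Matrix.of_apply, id_eq, if_neg]
    intro h
    have h5 := congrArg Fin.val h
    simp only [SchubertPrime.iota, tau1] at h5
    split_ifs at h5 with ht
    · simp only at h5; omega
    · simp only at h5; omega
  rw [h3, h4, Matrix.det_one, zero_mul] at h2
  exact one_ne_zero h2

theorem mem_Br_of_invariant (hd : 0 < d) (hdn : d < n) (f : MatRing K d n)
    (hf : ∀ g : Matrix.SpecialLinearGroup (Fin d) K, rightTranslate K d n g f = f) :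
    f ∈ Br K (d := d) (n := n) := by
  obtain ⟨N, hN⟩ := exists_pow_mul_mem K (SchubertPrime.iota hdn) hd f hf
  obtain ⟨M, hM⟩ := exists_pow_mul_mem K (tau1 hdn) hd f hf
  induction N with
  | zero => simpa using hN
  | succ N ih =>
    apply ih
    set pι : Br K (d := d) (n := n) :=
      ⟨minor K d n (SchubertPrime.iota hdn).1, minor_idx_mem K _⟩ with hpι
    set pτ : Br K (d := d) (n := n) := ⟨minor K d n (tau1 hdn).1, minor_idx_mem K _⟩ with hpτ
    set F₁ : Br K (d := d) (n := n) := ⟨_, hN⟩ with hF₁
    set F₂ : Br K (d := d) (n := n) := ⟨_, hM⟩ with hF₂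
    have hrel : pτ ^ M * F₁ = pι * (pι ^ N * F₂) := by
      apply Subtype.ext
      show minor K d n (tau1 hdn).1 ^ M * (minor K d n (SchubertPrime.iota hdn).1 ^ (N + 1) * f) =
        minor K d n (SchubertPrime.iota hdn).1 *
          (minor K d n (SchubertPrime.iota hdn).1 ^ N * (minor K d n (tau1 hdn).1 ^ M * f))
      ring
    have hdvd : pι ∣ pτ ^ M * F₁ := ⟨_, hrel⟩
    rcases (prime_iota K hd hdn).dvd_or_dvd hdvd with h | h
    · exact absurd ((prime_iota K hd hdn).dvd_of_dvd_pow h) (not_dvd K hd hdn)
    · obtain ⟨c, hc⟩ := h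
      have h1 : minor K d n (SchubertPrime.iota hdn).1 ^ (N + 1) * f =
          minor K d n (SchubertPrime.iota hdn).1 * (c : MatRing K d n) := congrArg Subtype.val hc
      have h2 : minor K d n (SchubertPrime.iota hdn).1 *
          (minor K d n (SchubertPrime.iota hdn).1 ^ N * f - (c : MatRing K d n)) = 0 := by
        rw [mul_sub, ← h1]; ring
      rcases mul_eq_zero.mp h2 with h0 | h0
      · exact absurd h0 (minor_ne_zero K _)
      · rw [sub_eq_zero.mp h0]; exact c.2

/-- **First fundamental theorem** for `SL_d` acting on `n × d` matrices by right multiplication. -/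
theorem fft (hd : 0 < d) (hdn : d < n) (f : MatRing K d n) :
    (∀ g : Matrix.SpecialLinearGroup (Fin d) K, rightTranslate K d n g f = f) ↔
      f ∈ Algebra.adjoin K (Set.range fun θ : Idx d n => minor K d n θ.1) := by
  rw [adjoin_eq_Br]
  constructor
  · exact mem_Br_of_invariant K hd hdn f
  · intro hf g
    obtain ⟨p, rfl⟩ := hf
    have h : (rightTranslate K d n g).comp (pluckerMap K d n) = pluckerMap K d n := by
      apply MvPolynomial.algHom_ext
      intro θ
      rw [AlgHom.comp_apply, pluckerMap, aeval_X, rightTranslate_minor]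
    exact congrArg (fun φ => φ p) h

end Main

end Groth.Agent.Lib.Seat50.FFT
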