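import Mathlib
import Groth.Prelude.Def_CAlgX
import Groth.Prelude.Def_W4bk4grassmannianPl
import Groth.Agent.Lib.Seat50CellMinor
import Groth.Agent.Lib.Seat50FFT
import Groth.Agent.Lib.Seat50SchubertPrime
import Groth.Agent.Lib.Seat50StdMon
import Groth.Agent.Lib.Seat50StdIndep2
import Groth.Agent.Lib.Seat50Shuffle
import Groth.Agent.Lib.Seat50Plucker

/-!
# The Second Fundamental Theorem for `GL_n` acting on pairs of matrices

The kernel of `y_{ij} ↦ Σ_k u_{ik} ξ_{kj}` is the ideal of `(n+1)`-minors of the generic matrix.  The hard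
inclusion is obtained from the standard monomial theory of Schubert varieties in the Grassmannian
`G(q, q + m)`: the determinantal variety is the opposite cell of a Schubert variety.
-/

namespace Groth.Agent.Lib.Seat50.SFT

open W4bk4grassmannian MvPolynomial Matrix

universe u

section Easy

/-- A product of an `(n+1) × n` and an `n × (n+1)` matrix has determinant zero. -/
theorem det_mul_eq_zero {R : Type*} [CommRing R] {n : ℕ} (A : Matrix (Fin (n + 1)) (Fin n) R)
    (B : Matrix (Fin n) (Fin (n + 1)) R) : (A * B).det = 0 := by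
  let A' : Matrix (Fin (n + 1)) (Fin (n + 1)) R :=
    Matrix.of fun i j => if h : j.val < n then A i ⟨j.val, h⟩ else 0
  let B' : Matrix (Fin (n + 1)) (Fin (n + 1)) R :=
    Matrix.of fun i j => if h : i.val < n then B ⟨i.val, h⟩ j else 0
  have h : A * B = A' * B' := by
    ext i j
    rw [Matrix.mul_apply, Matrix.mul_apply, Fin.sum_univ_castSucc]
    simp [A', B']
  rw [h, Matrix.det_mul, Matrix.det_eq_zero_of_column_eq_zero (A := A') (Fin.last n), zero_mul]
  intro i
  simp [A']

variable (K : Type u) [CommRing K] (n m q : ℕ)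

/-- The generic `m × n` matrix `U` over the pair ring. -/
noncomputable def UU : Matrix (Fin m) (Fin n) (PairRing K n m q) := Matrix.of fun i k => X (Sum.inl (i, k))

/-- The generic `n × q` matrix `W` over the pair ring. -/
noncomputable def WW : Matrix (Fin n) (Fin q) (PairRing K n m q) := Matrix.of fun k j => X (Sum.inr (k, j))

theorem map_genMatrix :
    (genMatrix K m q).map (pairingMap K n m q) = UU K n m q * WW K n m q := by
  ext i j
  simp [genMatrix, pairingMap, UU, WW, Matrix.mul_apply]

/-- The `(n+1)`-minors vanish on products `U W`. -/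
theorem minorIdeal_le_ker :
    CAlgX.minorIdeal (genMatrix K m q) (n + 1) ≤ RingHom.ker (pairingMap K n m q).toRingHom := by
  rw [CAlgX.minorIdeal, Ideal.span_le]
  rintro _ ⟨⟨f, g⟩, rfl⟩
  rw [SetLike.mem_coe, RingHom.mem_ker]
  show (pairingMap K n m q) (det ((genMatrix K m q).submatrix f g)) = 0
  rw [AlgHom.map_det]
  have h : (pairingMap K n m q).mapMatrix ((genMatrix K m q).submatrix f g) =
      ((UU K n m q).submatrix f id) * ((WW K n m q).submatrix id g) := by
    have h1 := map_genMatrix K n m q
    refine Matrix.ext (fun a b => ?_)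
    have h2 := congrFun (congrFun h1 (f a)) (g b)
    rw [Matrix.mul_apply] at h2
    rw [Matrix.mul_apply]
    exact h2
  rw [h, det_mul_eq_zero]

/-- Evaluating the pairing map at a pair of matrices is evaluation at the product. -/
theorem eval_pairingMap (u : Fin m × Fin n → K) (w : Fin n × Fin q → K)
    (f : MvPolynomial (Fin m × Fin q) K) :
    eval (Sum.elim u w) (pairingMap K n m q f) =
      eval (fun p : Fin m × Fin q => ∑ k : Fin n, u (p.1, k) * w (k, p.2)) f := by
  have h : (aeval (Sum.elim u w) : PairRing K n m q →ₐ[K] K).comp (pairingMap K n m q) =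
      aeval (fun p : Fin m × Fin q => ∑ k : Fin n, u (p.1, k) * w (k, p.2)) := by
    apply MvPolynomial.algHom_ext
    intro p
    simp [pairingMap]
  have := congrArg (fun g => g f) h
  simpa using this

theorem injective_of_le_left (h : m ≤ n) : Function.Injective (pairingMap K n m q) := by
  let σ : PairRing K n m q →ₐ[K] MvPolynomial (Fin m × Fin q) K :=
    aeval (Sum.elim (fun p : Fin m × Fin n => if p.1.val = p.2.val then 1 else 0)
      (fun p : Fin n × Fin q => if h : p.1.val < m then X (⟨p.1.val, h⟩, p.2) else 0))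
  have hσ : σ.comp (pairingMap K n m q) = AlgHom.id K _ := by
    apply MvPolynomial.algHom_ext
    rintro ⟨i, j⟩
    simp only [σ, pairingMap, AlgHom.comp_apply, aeval_X, map_sum, map_mul, Sum.elim_inl,
      Sum.elim_inr, AlgHom.id_apply]
    rw [Finset.sum_eq_single ⟨i.val, lt_of_lt_of_le i.isLt h⟩]
    · simp
    · intro k _ hk
      rw [if_neg, zero_mul]
      intro hik
      apply hk
      exact Fin.ext hik.symm
    · intro h'
      exact absurd (Finset.mem_univ _) h'
  intro x y hxy
  have hx := congrArg (fun φ => φ x) hσ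
  have hy := congrArg (fun φ => φ y) hσ
  simp only [AlgHom.comp_apply, AlgHom.id_apply] at hx hy
  rw [← hx, ← hy, hxy]

theorem injective_of_le_right (h : q ≤ n) : Function.Injective (pairingMap K n m q) := by
  let σ : PairRing K n m q →ₐ[K] MvPolynomial (Fin m × Fin q) K :=
    aeval (Sum.elim (fun p : Fin m × Fin n => if h : p.2.val < q then X (p.1, ⟨p.2.val, h⟩) else 0)
      (fun p : Fin n × Fin q => if p.1.val = p.2.val then 1 else 0))
  have hσ : σ.comp (pairingMap K n m q) = AlgHom.id K _ := by
    apply MvPolynomial.algHom_ext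
    rintro ⟨i, j⟩
    simp only [σ, pairingMap, AlgHom.comp_apply, aeval_X, map_sum, map_mul, Sum.elim_inl,
      Sum.elim_inr, AlgHom.id_apply]
    rw [Finset.sum_eq_single ⟨j.val, lt_of_lt_of_le j.isLt h⟩]
    · simp
    · intro k _ hk
      rw [if_neg, mul_zero]
      intro hik
      apply hk
      exact Fin.ext hik
    · intro h'
      exact absurd (Finset.mem_univ _) h'
  intro x y hxy
  have hx := congrArg (fun φ => φ x) hσ
  have hy := congrArg (fun φ => φ y) hσ
  simp only [AlgHom.comp_apply, AlgHom.id_apply] at hx hy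
  rw [← hx, ← hy, hxy]

end Easy

section Main

variable (K : Type u) [Field K] [Infinite K] (d r n : ℕ)

/-- The Schubert index whose opposite cell is the determinantal variety of rank `≤ n`. -/
def phi (hnd : n + 1 ≤ d) (hnr : n + 1 ≤ r) : Idx d (d + r) :=
  ⟨fun j => if h : j.val + (n + 1) ≤ d then ⟨n + j.val, by omega⟩
      else ⟨r + j.val, by have := j.isLt; omega⟩, by
    intro a b hab
    have hab' : a.val < b.val := hab
    by_cases ha : a.val + (n + 1) ≤ d <;> by_cases hb : b.val + (n + 1) ≤ d
    · simp only [dif_pos ha, dif_pos hb, Fin.mk_lt_mk]; omega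
    · simp only [dif_pos ha, dif_neg hb, Fin.mk_lt_mk]; omega
    · omega
    · simp only [dif_neg ha, dif_neg hb, Fin.mk_lt_mk]; omega⟩

theorem phi_val_of_le (hnd : n + 1 ≤ d) (hnr : n + 1 ≤ r) (j : Fin d) (h : j.val + (n + 1) ≤ d) :
    ((phi d r n hnd hnr).1 j).val = n + j.val := by
  simp only [phi, dif_pos h]

theorem phi_val_of_not_le (hnd : n + 1 ≤ d) (hnr : n + 1 ≤ r) (j : Fin d)
    (h : ¬ j.val + (n + 1) ≤ d) :
    ((phi d r n hnd hnr).1 j).val = r + j.val := by
  simp only [phi, dif_neg h]

theorem le_of_not_le_phi (hnd : n + 1 ≤ d) (hnr : n + 1 ≤ r) (θ : Idx d (d + r))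
    (hθ : ¬ θ ≤ phi d r n hnd hnr) :
    d ≤ (θ.1 ⟨d - (n + 1), Nat.sub_lt (by omega) (Nat.succ_pos n)⟩).val := by
  have hd : 0 < d := by omega
  have hdn : d < d + r := by omega
  have h1 : ¬ ∀ j, θ.1 j ≤ (phi d r n hnd hnr).1 j := hθ
  push Not at h1
  obtain ⟨j, hj⟩ := h1
  have hj' : ((phi d r n hnd hnr).1 j).val < (θ.1 j).val := hj
  by_cases h : j.val + (n + 1) ≤ d
  · rw [phi_val_of_le d r n hnd hnr j h] at hj'
    have h2 := SchubertPrime.val_add_le_of_strictMono θ.1 θ.2 j
      ⟨d - (n + 1), Nat.sub_lt (by omega) (Nat.succ_pos n)⟩ (Fin.le_def.mpr (by simp only; omega))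
    simp only at h2
    omega
  · rw [phi_val_of_not_le d r n hnd hnr j h] at hj'
    have h2 : (θ.1 j).val ≤ ((FFT.topIdx hdn).1 j).val := FFT.le_topIdx hd hdn θ j
    simp only [FFT.topIdx] at h2
    omega

/-- Restriction of Plücker polynomials to the opposite big cell. -/
noncomputable def Phi : PlRing K d (d + r) →ₐ[K] CellRing K d r := aeval (cellMinor K d r)

/-- The matrix `[I ; z]` of a point of the cell. -/
noncomputable def cellK (z : Fin r × Fin d → K) : Matrix (Fin (d + r)) (Fin d) K :=
  (cellMatrix K d r).map (eval z)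

omit [Infinite K] in
theorem eval_Phi (z : Fin r × Fin d → K) (g : PlRing K d (d + r)) :
    eval z (Phi K d r g) = evalMinors K d (d + r) (cellK K d r z) g := by
  have h : (aeval z : CellRing K d r →ₐ[K] K).comp (Phi K d r) =
      evalMinors K d (d + r) (cellK K d r z) := by
    apply MvPolynomial.algHom_ext
    intro θ
    rw [AlgHom.comp_apply, Phi, aeval_X, evalMinors, aeval_X, cellMinor]
    change (eval z) ((cellMatrix K d r).submatrix θ.1 id).det = _
    rw [RingHom.map_det]
    rfl
  have := congrArg (fun φ => φ g) h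
  simpa using this

theorem Phi_coord (a : Fin d → Fin (d + r)) :
    Phi K d r (coord K d (d + r) a) = ((cellMatrix K d r).submatrix a id).det := by
  apply MvPolynomial.funext
  intro z
  rw [eval_Phi, Shuffle.evalMinors_coord, RingHom.map_det]
  rfl

theorem Phi_shuffleRel (i j : Idx d (d + r)) (s : Fin d) :
    Phi K d r (shuffleRel K i j s) = 0 := by
  apply MvPolynomial.funext
  intro z
  rw [eval_Phi, Shuffle.evalMinors_shuffleRel, map_zero]

omit [Infinite K] in
theorem Phi_X (θ : Idx d (d + r)) : Phi K d r (X θ) = cellMinor K d r θ := by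
  rw [Phi, aeval_X]

theorem schubert_le_comap (hnd : n + 1 ≤ d) (hnr : n + 1 ≤ r) :
    schubertVanishing K d (d + r) (phi d r n hnd hnr) ≤
      Ideal.comap (Phi K d r) (CAlgX.minorIdeal (genMatrix K r d) (n + 1)) := by
  have hd : 0 < d := by omega
  rw [← StdMon.plIdeal_eq K hd, plIdeal, Ideal.span_le]
  rintro f (⟨i, j, s, -, rfl⟩ | ⟨θ, hθ, rfl⟩)
  · rw [SetLike.mem_coe, Ideal.mem_comap, Phi_shuffleRel]
    exact Ideal.zero_mem _
  · rw [SetLike.mem_coe, Ideal.mem_comap, Phi_X]
    exact CellMinor.span_le K d r (n + 1) hd (Nat.succ_pos n) hnd hnr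
      (Ideal.subset_span ⟨θ, le_of_not_le_phi d r n hnd hnr θ hθ, rfl⟩)

/-- The least index of `I(d, d + r)`. -/
abbrev io (hr : 0 < r) : Idx d (d + r) := SchubertPrime.iota (by omega : d < d + r)

/-- The section of `Phi`: `z_{ij} ↦ p_{ι[j ↦ d + i]}`. -/
noncomputable def Theta (hr : 0 < r) : CellRing K d r →ₐ[K] PlRing K d (d + r) :=
  aeval fun p : Fin r × Fin d =>
    coord K d (d + r) (Function.update (io d r hr).1 p.2 (Fin.natAdd d p.1))

theorem Phi_Theta (hr : 0 < r) (f : CellRing K d r) : Phi K d r (Theta K d r hr f) = f := by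
  have h : (Phi K d r).comp (Theta K d r hr) = AlgHom.id K _ := by
    apply MvPolynomial.algHom_ext
    rintro ⟨i, j⟩
    rw [AlgHom.comp_apply, Theta, aeval_X, Phi_coord, AlgHom.id_apply]
    have hM : (cellMatrix K d r).submatrix (Function.update (io d r hr).1 j (Fin.natAdd d i)) id =
        (1 : Matrix (Fin d) (Fin d) (CellRing K d r)).updateRow j (fun c => X (i, c)) := by
      refine Matrix.ext (fun s c => ?_)
      rw [Matrix.updateRow_apply, Matrix.submatrix_apply, id_eq]
      by_cases hs : s = j
      · rw [if_pos hs, hs, Function.update_self]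
        simp only [cellMatrix, Matrix.of_apply, Fin.val_natAdd]
        rw [dif_neg (by omega)]
        congr 2
        apply Fin.ext
        simp
      · rw [if_neg hs, Function.update_of_ne hs]
        simp only [cellMatrix, Matrix.of_apply, SchubertPrime.iota]
        rw [dif_pos s.isLt, Matrix.one_apply]
        simp only [Fin.ext_iff]
    rw [hM, Plucker.det_updateRow_one]
  have := congrArg (fun φ => φ f) h
  simpa using this

omit [Infinite K] in
theorem evalMinors_Theta (hr : 0 < r) (M : Matrix (Fin (d + r)) (Fin d) K) (g : CellRing K d r) :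
    evalMinors K d (d + r) M (Theta K d r hr g) =
      eval (fun p : Fin r × Fin d =>
        (M * Matrix.adjugate (M.submatrix (io d r hr).1 id)) (Fin.natAdd d p.1) p.2) g := by
  have h : (evalMinors K d (d + r) M).comp (Theta K d r hr) =
      aeval (fun p : Fin r × Fin d =>
        (M * Matrix.adjugate (M.submatrix (io d r hr).1 id)) (Fin.natAdd d p.1) p.2) := by
    apply MvPolynomial.algHom_ext
    intro p
    rw [AlgHom.comp_apply, Theta, aeval_X, aeval_X, Shuffle.evalMinors_coord,
      FFT.mul_adjugate_apply, FFT.evM_minor]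
  have := congrArg (fun φ => φ g) h
  simpa using this

/-- If `f` vanishes on all products `U W`, then `Theta f` vanishes on the Schubert variety. -/
theorem Theta_mem (hnd : n + 1 ≤ d) (hnr : n + 1 ≤ r) (f : CellRing K d r)
    (hf : pairingMap K n r d f = 0) :
    Theta K d r (by omega) f ∈ schubertVanishing K d (d + r) (phi d r n hnd hnr) := by
  have hd : 0 < d := by omega
  have hr : 0 < r := by omega
  rw [SchubertPrime.schubert_eq_ker K hd, RingHom.mem_ker]
  show StdIndep2.evP K (SchubertPrime.PSch (phi d r n hnd hnr)) (Theta K d r hr f) = 0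
  apply MvPolynomial.funext
  intro y
  rw [StdIndep2.eval_evP, map_zero, evalMinors_Theta]
  set M := (StdIndep2.YP K (SchubertPrime.PSch (phi d r n hnd hnr))).map (eval y) with hMdef
  set T := M.submatrix (io d r hr).1 id with hTdef
  have hM0 : ∀ (i : Fin r) (c : Fin d), c.val + (n + 1) ≤ d → M (Fin.natAdd d i) c = 0 := by
    intro i c hc
    simp only [hMdef, Matrix.map_apply, StdIndep2.YP, Matrix.of_apply]
    rw [if_neg, map_zero]
    intro hP
    have h1 : (Fin.natAdd d i).val ≤ ((phi d r n hnd hnr).1 c).val := hP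
    rw [phi_val_of_le d r n hnd hnr c hc, Fin.val_natAdd] at h1
    omega
  let e : Fin n → Fin d := fun k => ⟨d - n + k.val, by have := k.isLt; omega⟩
  have he : Function.Injective e := by
    intro a b hab
    have := congrArg Fin.val hab
    simp only [e] at this
    exact Fin.ext (by omega)
  have hQ : (fun p : Fin r × Fin d => (M * Matrix.adjugate T) (Fin.natAdd d p.1) p.2) =
      fun p : Fin r × Fin d => ∑ k : Fin n,
        (fun p' : Fin r × Fin n => M (Fin.natAdd d p'.1) (e p'.2)) (p.1, k) *
        (fun p' : Fin n × Fin d => Matrix.adjugate T (e p'.1) p'.2) (k, p.2) := by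
    funext p
    rw [Matrix.mul_apply]
    symm
    apply Fintype.sum_of_injective e he
    · intro c hc
      rw [hM0 _ _ ?_, zero_mul]
      by_contra hcon
      apply hc
      exact ⟨⟨c.val - (d - n), by have := c.isLt; omega⟩, Fin.ext (by simp only [e]; omega)⟩
    · intro k
      rfl
  rw [hQ]
  have h2 := eval_pairingMap K n r d (fun p' : Fin r × Fin n => M (Fin.natAdd d p'.1) (e p'.2))
    (fun p' : Fin n × Fin d => Matrix.adjugate T (e p'.1) p'.2) f
  rw [hf, map_zero] at h2
  exact h2.symm

/-- The hard inclusion in the non-degenerate range. -/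
theorem ker_le_minorIdeal (hnd : n + 1 ≤ d) (hnr : n + 1 ≤ r) :
    RingHom.ker (pairingMap K n r d).toRingHom ≤ CAlgX.minorIdeal (genMatrix K r d) (n + 1) := by
  intro f hf
  have hf' : pairingMap K n r d f = 0 := hf
  have h1 := schubert_le_comap K d r n hnd hnr (Theta_mem K d r n hnd hnr f hf')
  rw [Ideal.mem_comap, Phi_Theta] at h1
  exact h1

end Main

/-- **Second Fundamental Theorem** for `GL_n` acting on pairs of matrices. -/
theorem sft (K : Type u) [Field K] [Infinite K] (m n q : ℕ) :
    RingHom.ker (pairingMap K n m q).toRingHom = CAlgX.minorIdeal (genMatrix K m q) (n + 1) := by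
  apply le_antisymm _ (minorIdeal_le_ker K n m q)
  by_cases hq : n + 1 ≤ q
  · by_cases hm : n + 1 ≤ m
    · exact ker_le_minorIdeal K q m n hq hm
    · have hinj := injective_of_le_left K n m q (by omega)
      intro f hf
      have hf' : pairingMap K n m q f = 0 := hf
      have : f = 0 := hinj (by rw [hf', map_zero])
      rw [this]
      exact Ideal.zero_mem _
  · have hinj := injective_of_le_right K n m q (by omega)
    intro f hf
    have hf' : pairingMap K n m q f = 0 := hf
    have : f = 0 := hinj (by rw [hf', map_zero])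
    rw [this]
    exact Ideal.zero_mem _

end Groth.Agent.Lib.Seat50.SFT
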