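import Mathlib
import Groth.Prelude.Def_W4bk4grassmannianPl
import Groth.Agent.Lib.Seat50CellMinor
import Groth.Agent.Lib.Seat50SchubertPrime
import Groth.Agent.Lib.Seat50Plucker
import Groth.Agent.Lib.Seat50SFT

/-!
# Combinatorics of the correspondence between minors of an `r × d` matrix and Plücker indices in `I(d, d + r)`
-/

namespace Groth.Agent.Lib.Seat50.BitabComb

open W4bk4grassmannian

section Count

/-- The number of entries of `a` below the threshold `x`. -/
def cntLt {p n : ℕ} (a : Fin p → Fin n) (x : ℕ) : ℕ :=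
  (Finset.univ.filter fun i => (a i).val < x).card

theorem cntLt_le {p n : ℕ} (a : Fin p → Fin n) (x : ℕ) : cntLt a x ≤ p := by
  have := Finset.card_filter_le (Finset.univ : Finset (Fin p)) (fun i => (a i).val < x)
  rwa [Finset.card_univ, Fintype.card_fin] at this

theorem cntLt_of_ge {p n : ℕ} (a : Fin p → Fin n) (x : ℕ) (hx : n ≤ x) : cntLt a x = p := by
  rw [cntLt, Finset.filter_true_of_mem, Finset.card_univ, Fintype.card_fin]
  intro i _
  exact lt_of_lt_of_le (a i).isLt hx

theorem cntLt_le_self {p n : ℕ} (a : Fin p → Fin n) (ha : Function.Injective a) (x : ℕ) :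
    cntLt a x ≤ x := by
  rw [cntLt]
  have h : (Finset.univ.filter fun i => (a i).val < x).card ≤ (Finset.range x).card := by
    apply Finset.card_le_card_of_injOn (fun i => (a i).val)
    · intro i hi
      simp only [Finset.coe_filter, Finset.mem_univ, true_and, Set.mem_ofPred_eq] at hi
      simpa using hi
    · intro i _ j _ hij
      exact ha (Fin.ext hij)
  rwa [Finset.card_range] at h

/-- Entrywise domination of sorted tuples in terms of counting functions. -/
theorem dominance_iff {p p' n : ℕ} (a : Fin p → Fin n) (a' : Fin p' → Fin n)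
    (ha : StrictMono a) (ha' : StrictMono a') :
    (p ≤ p' ∧ ∀ (j : Fin p) (j' : Fin p'), j.val = j'.val → a' j' ≤ a j) ↔
      ∀ x : ℕ, cntLt a x ≤ cntLt a' x := by
  constructor
  · rintro ⟨hp, h⟩ x
    apply Finset.card_le_card_of_injOn (fun i => Fin.castLE hp i)
    · intro i hi
      simp only [Finset.coe_filter, Finset.mem_univ, true_and, Set.mem_ofPred_eq] at hi ⊢
      have h1 : a' (Fin.castLE hp i) ≤ a i := h i (Fin.castLE hp i) rfl
      exact lt_of_le_of_lt (Fin.le_def.mp h1) hi
    · intro i _ j _ hij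
      exact Fin.castLE_injective hp hij
  · intro h
    have hp : p ≤ p' := by
      have := h n
      rwa [cntLt_of_ge _ _ le_rfl, cntLt_of_ge _ _ le_rfl] at this
    refine ⟨hp, ?_⟩
    intro j j' hjj'
    by_contra hlt
    push Not at hlt
    have h1 : j.val + 1 ≤ cntLt a ((a j).val + 1) := by
      have hsub : Finset.Iic j ⊆ Finset.univ.filter fun i => (a i).val < (a j).val + 1 := by
        intro i hi
        rw [Finset.mem_Iic] at hi
        rw [Finset.mem_filter]
        refine ⟨Finset.mem_univ _, ?_⟩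
        have : a i ≤ a j := ha.monotone hi
        exact Nat.lt_succ_of_le (Fin.le_def.mp this)
      have := Finset.card_le_card hsub
      rwa [Fin.card_Iic] at this
    have h2 : cntLt a' ((a j).val + 1) ≤ j'.val := by
      have hsub : (Finset.univ.filter fun i => (a' i).val < (a j).val + 1) ⊆ Finset.Iio j' := by
        intro i hi
        rw [Finset.mem_filter] at hi
        rw [Finset.mem_Iio]
        have h3 : (a' i).val ≤ (a j).val := Nat.lt_succ_iff.mp hi.2
        have h4 : a' i < a' j' := lt_of_le_of_lt (Fin.le_def.mpr h3) hlt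
        exact ha'.lt_iff_lt.mp h4
      have := Finset.card_le_card hsub
      rwa [Fin.card_Iio] at this
    have h3 := h ((a j).val + 1)
    omega

theorem idx_le_iff {d n : ℕ} (θ θ' : Idx d n) :
    θ ≤ θ' ↔ ∀ x : ℕ, cntLt θ'.1 x ≤ cntLt θ.1 x := by
  rw [← dominance_iff θ'.1 θ.1 θ'.2 θ.2]
  constructor
  · intro h
    refine ⟨le_rfl, fun j j' hjj' => ?_⟩
    have : j' = j := Fin.ext hjj'.symm
    rw [this]
    exact h j
  · rintro ⟨-, h⟩ j
    exact h j j rfl

theorem minorGE_iff {m n : ℕ} (M M' : MinorIdx m n) :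
    MinorGE M M' ↔ (∀ x : ℕ, cntLt M.2.1.1 x ≤ cntLt M'.2.1.1 x) ∧
      (∀ x : ℕ, cntLt M.2.2.1 x ≤ cntLt M'.2.2.1 x) := by
  rw [← dominance_iff M.2.1.1 M'.2.1.1 M.2.1.2 M'.2.1.2,
    ← dominance_iff M.2.2.1 M'.2.2.1 M.2.2.2 M'.2.2.2]
  unfold MinorGE
  constructor
  · rintro ⟨hs, h⟩
    exact ⟨⟨by omega, fun j j' hjj' => (h j j' hjj').1⟩, ⟨by omega, fun j j' hjj' => (h j j' hjj').2⟩⟩
  · rintro ⟨⟨hs, h1⟩, ⟨-, h2⟩⟩
    exact ⟨by omega, fun j j' hjj' => ⟨h1 j j' hjj', h2 j j' hjj'⟩⟩

theorem minorGE_antisymm {m n : ℕ} (M M' : MinorIdx m n) (h : MinorGE M M') (h' : MinorGE M' M) :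
    M = M' := by
  obtain ⟨s, A, B⟩ := M
  obtain ⟨s', A', B'⟩ := M'
  have hs : s = s' := le_antisymm h.1 h'.1
  subst hs
  have hA : A = A' := by
    apply Subtype.ext
    funext j
    exact le_antisymm ((h'.2 j j rfl).1) ((h.2 j j rfl).1)
  have hB : B = B' := by
    apply Subtype.ext
    funext j
    exact le_antisymm ((h'.2 j j rfl).2) ((h.2 j j rfl).2)
  rw [hA, hB]

end Count

section Theta

open CellMinor

variable {d r : ℕ}

theorem size_le_left {m n : ℕ} (M : MinorIdx m n) : M.1 + 1 ≤ m := by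
  have := Fintype.card_le_of_injective _ M.2.1.2.injective
  simpa using this

theorem size_le_right {m n : ℕ} (M : MinorIdx m n) : M.1 + 1 ≤ n := by
  have := Fintype.card_le_of_injective _ M.2.2.2.injective
  simpa using this

theorem pos_of_minorIdx (M : MinorIdx r d) : 0 < d :=
  lt_of_lt_of_le (Nat.succ_pos _) (size_le_right M)

theorem exists_thetaOf (M : MinorIdx r d) :
    ∃ θ : Idx d (d + r),
      d ≤ (θ.1 ⟨d - (M.1 + 1), Nat.sub_lt (pos_of_minorIdx M) (Nat.succ_pos _)⟩).val ∧
      Set.range (col θ.1) = (Set.range M.2.2.1)ᶜ ∧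
      Set.range (row θ.1) = Set.range (Fin.rev ∘ M.2.1.1) :=
  exists_idx d r (M.1 + 1) (pos_of_minorIdx M) (Nat.succ_pos _) (size_le_right M)
    (Fin.rev ∘ M.2.1.1) M.2.2.1 (Fin.rev_injective.comp M.2.1.2.injective) M.2.2.2.injective

/-- The Plücker index of a minor `[A | B]`: the columns outside `B` and the reversed rows `A`. -/
noncomputable def thetaOf (M : MinorIdx r d) : Idx d (d + r) := Classical.choose (exists_thetaOf M)

theorem thetaOf_ge (M : MinorIdx r d) :
    d ≤ ((thetaOf M).1 ⟨d - (M.1 + 1), Nat.sub_lt (pos_of_minorIdx M) (Nat.succ_pos _)⟩).val :=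
  (Classical.choose_spec (exists_thetaOf M)).1

theorem thetaOf_col (M : MinorIdx r d) :
    Set.range (col (thetaOf M).1) = (Set.range M.2.2.1)ᶜ :=
  (Classical.choose_spec (exists_thetaOf M)).2.1

theorem thetaOf_row (M : MinorIdx r d) :
    Set.range (row (thetaOf M).1) = Set.range (Fin.rev ∘ M.2.1.1) :=
  (Classical.choose_spec (exists_thetaOf M)).2.2

theorem card_filter_image {p n : ℕ} (f : Fin p → Fin n) (hf : Function.Injective f)
    (P : Fin n → Prop) [DecidablePred P] :
    (Finset.univ.filter fun c : Fin n => c ∈ Finset.univ.image f ∧ P c).card =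
      (Finset.univ.filter fun i : Fin p => P (f i)).card := by
  symm
  apply Finset.card_bij (fun i _ => f i)
  · intro i hi
    rw [Finset.mem_filter] at hi ⊢
    exact ⟨Finset.mem_univ _, Finset.mem_image_of_mem _ (Finset.mem_univ _), hi.2⟩
  · intro i _ j _ hij
    exact hf hij
  · intro c hc
    rw [Finset.mem_filter] at hc
    obtain ⟨i, -, rfl⟩ := Finset.mem_image.mp hc.2.1
    exact ⟨i, Finset.mem_filter.mpr ⟨Finset.mem_univ _, hc.2.2⟩, rfl⟩

theorem cnt_split (θ : Fin d → Fin (d + r)) (x : ℕ) :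
    cntLt θ x = (Finset.univ.filter fun j => (θ j).val < x ∧ (θ j).val < d).card +
      (Finset.univ.filter fun j => (θ j).val < x ∧ ¬ (θ j).val < d).card := by
  rw [cntLt, ← Finset.filter_filter, ← Finset.filter_filter,
    Finset.card_filter_add_card_filter_not]

theorem count_top (M : MinorIdx r d) (x : ℕ) :
    (Finset.univ.filter fun j => ((thetaOf M).1 j).val < x ∧ ((thetaOf M).1 j).val < d).card =
      (Finset.univ.filter fun c : Fin d => c ∉ Finset.univ.image M.2.2.1 ∧ c.val < x).card := by
  have hcol := thetaOf_col M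
  apply Finset.card_bij (fun j hj => (⟨((thetaOf M).1 j).val, (Finset.mem_filter.mp hj).2.2⟩ : Fin d))
  · intro j hj
    have hj' := (Finset.mem_filter.mp hj).2
    rw [Finset.mem_filter]
    refine ⟨Finset.mem_univ _, ?_, hj'.1⟩
    intro hmem
    obtain ⟨i, -, hi⟩ := Finset.mem_image.mp hmem
    have h1 : col (thetaOf M).1 ⟨j, hj'.2⟩ ∈ Set.range (col (thetaOf M).1) := Set.mem_range_self _
    rw [hcol] at h1
    exact h1 ⟨i, hi⟩
  · intro j hj j' hj' h
    apply (thetaOf M).2.injective
    apply Fin.ext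
    have h1 := congrArg Fin.val h
    exact h1
  · intro c hc
    have hc' := (Finset.mem_filter.mp hc).2
    have h1 : c ∈ Set.range (col (thetaOf M).1) := by
      rw [hcol]
      rintro ⟨i, hi⟩
      exact hc'.1 (Finset.mem_image.mpr ⟨i, Finset.mem_univ _, hi⟩)
    obtain ⟨a, ha⟩ := h1
    have h2 : ((thetaOf M).1 a.1).val = c.val := congrArg Fin.val ha
    refine ⟨a.1, ?_, Fin.ext h2⟩
    rw [Finset.mem_filter]
    exact ⟨Finset.mem_univ _, by rw [h2]; exact hc'.2, a.2⟩

theorem count_bot (M : MinorIdx r d) (x : ℕ) :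
    (Finset.univ.filter fun j => ((thetaOf M).1 j).val < x ∧ ¬ ((thetaOf M).1 j).val < d).card =
      (Finset.univ.filter fun i : Fin (M.1 + 1) => d + (Fin.rev (M.2.1.1 i)).val < x).card := by
  have hrow := thetaOf_row M
  have hcf := card_filter_image (Fin.rev ∘ M.2.1.1) (Fin.rev_injective.comp M.2.1.2.injective)
    (fun ρ : Fin r => d + ρ.val < x)
  simp only [Function.comp_apply] at hcf
  rw [← hcf]
  apply Finset.card_bij (fun j hj => row (thetaOf M).1 ⟨j, (Finset.mem_filter.mp hj).2.2⟩)
  · intro j hj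
    have hj' := (Finset.mem_filter.mp hj).2
    rw [Finset.mem_filter]
    refine ⟨Finset.mem_univ _, ?_, ?_⟩
    · have h1 : row (thetaOf M).1 ⟨j, hj'.2⟩ ∈ Set.range (row (thetaOf M).1) := Set.mem_range_self _
      rw [hrow] at h1
      obtain ⟨i, hi⟩ := h1
      exact Finset.mem_image.mpr ⟨i, Finset.mem_univ _, hi⟩
    · simp only [row]
      have := hj'.1
      have := hj'.2
      omega
  · intro j hj j' hj' h
    have := row_injective (thetaOf M).1 (thetaOf M).2.injective h
    exact congrArg Subtype.val this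
  · intro ρ hρ
    have hρ' := (Finset.mem_filter.mp hρ).2
    have h1 : ρ ∈ Set.range (row (thetaOf M).1) := by
      rw [hrow]
      obtain ⟨i, -, hi⟩ := Finset.mem_image.mp hρ'.1
      exact ⟨i, hi⟩
    obtain ⟨b, hb⟩ := h1
    refine ⟨b.1, ?_, hb⟩
    rw [Finset.mem_filter]
    refine ⟨Finset.mem_univ _, ?_, b.2⟩
    have h2 : (row (thetaOf M).1 b).val = ρ.val := congrArg Fin.val hb
    simp only [row] at h2
    have := hρ'.2
    have := b.2
    omega

theorem card_not_mem_image {p n : ℕ} (f : Fin p → Fin n) (hf : Function.Injective f) (x : ℕ) :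
    (Finset.univ.filter fun c : Fin n => c ∉ Finset.univ.image f ∧ c.val < x).card =
      min n x - cntLt f x := by
  have h1 : (Finset.univ.filter fun c : Fin n => c.val < x).card = min n x := Fin.card_filter_val_lt
  have h2 := card_filter_image f hf (fun c => c.val < x)
  have h3 := Finset.card_filter_add_card_filter_not
    (s := Finset.univ.filter fun c : Fin n => c.val < x) (fun c => c ∈ Finset.univ.image f)
  rw [Finset.filter_filter, Finset.filter_filter, h1] at h3
  have e1 : (Finset.univ.filter fun c : Fin n => c.val < x ∧ c ∈ Finset.univ.image f) =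
      Finset.univ.filter fun c : Fin n => c ∈ Finset.univ.image f ∧ c.val < x :=
    Finset.filter_congr (fun c _ => and_comm)
  have e2 : (Finset.univ.filter fun c : Fin n => c.val < x ∧ c ∉ Finset.univ.image f) =
      Finset.univ.filter fun c : Fin n => c ∉ Finset.univ.image f ∧ c.val < x :=
    Finset.filter_congr (fun c _ => and_comm)
  rw [e1, e2, h2] at h3
  rw [cntLt]
  omega

theorem cnt_theta_low (M : MinorIdx r d) (x : ℕ) (hx : x ≤ d) :
    cntLt (thetaOf M).1 x = x - cntLt M.2.2.1 x := by
  rw [cnt_split, count_top, count_bot, card_not_mem_image _ M.2.2.2.injective]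
  have h0 : (Finset.univ.filter fun i : Fin (M.1 + 1) => d + (Fin.rev (M.2.1.1 i)).val < x).card = 0 := by
    rw [Finset.card_eq_zero, Finset.filter_eq_empty_iff]
    intro i _
    omega
  rw [h0, add_zero, min_eq_right hx]

theorem cnt_theta_high (M : MinorIdx r d) (x : ℕ) (hx : d < x) :
    cntLt (thetaOf M).1 x = d - cntLt M.2.1.1 (r - (x - d)) := by
  rw [cnt_split, count_top, count_bot, card_not_mem_image _ M.2.2.2.injective,
    cntLt_of_ge _ _ (le_of_lt hx), min_eq_left (le_of_lt hx)]
  have h1 : (Finset.univ.filter fun i : Fin (M.1 + 1) => d + (Fin.rev (M.2.1.1 i)).val < x) =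
      Finset.univ.filter fun i : Fin (M.1 + 1) => ¬ (M.2.1.1 i).val < r - (x - d) := by
    apply Finset.filter_congr
    intro i _
    rw [Fin.val_rev]
    have := (M.2.1.1 i).isLt
    omega
  have h2 := Finset.card_filter_add_card_filter_not (s := (Finset.univ : Finset (Fin (M.1 + 1))))
    (fun i => (M.2.1.1 i).val < r - (x - d))
  rw [Finset.card_univ, Fintype.card_fin] at h2
  rw [h1]
  have h3 := size_le_right M
  rw [cntLt]
  omega

/-- The correspondence between minors and Plücker indices is an order anti-isomorphism onto its image. -/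
theorem thetaOf_le_iff (M M' : MinorIdx r d) : thetaOf M ≤ thetaOf M' ↔ MinorGE M M' := by
  rw [idx_le_iff, minorGE_iff]
  have hB := cntLt_le_self M.2.2.1 M.2.2.2.injective
  have hB' := cntLt_le_self M'.2.2.1 M'.2.2.2.injective
  have hs := size_le_right M
  have hs' := size_le_right M'
  constructor
  · intro h
    have hBle : ∀ x : ℕ, cntLt M.2.2.1 x ≤ cntLt M'.2.2.1 x := by
      intro x
      by_cases hx : x ≤ d
      · have h1 := h x
        rw [cnt_theta_low M' x hx, cnt_theta_low M x hx] at h1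
        have := hB x
        have := hB' x
        omega
      · have h1 := h d
        rw [cnt_theta_low M' d le_rfl, cnt_theta_low M d le_rfl] at h1
        have := hB d
        have := hB' d
        rw [cntLt_of_ge _ _ (by omega : d ≤ x), cntLt_of_ge _ _ (by omega : d ≤ x)]
        rw [cntLt_of_ge _ _ le_rfl, cntLt_of_ge _ _ le_rfl] at h1
        omega
    refine ⟨?_, hBle⟩
    intro z
    by_cases hz : z < r
    · have h1 := h (d + (r - z))
      rw [cnt_theta_high M' _ (by omega), cnt_theta_high M _ (by omega)] at h1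
      have e : r - (d + (r - z) - d) = z := by omega
      rw [e] at h1
      have := cntLt_le M'.2.1.1 z
      have := cntLt_le M.2.1.1 z
      omega
    · have h1 := hBle d
      rw [cntLt_of_ge _ _ le_rfl, cntLt_of_ge _ _ le_rfl] at h1
      rw [cntLt_of_ge _ _ (by omega : r ≤ z), cntLt_of_ge _ _ (by omega : r ≤ z)]
      exact h1
  · rintro ⟨hA, hBle⟩ x
    by_cases hx : x ≤ d
    · rw [cnt_theta_low M' x hx, cnt_theta_low M x hx]
      have := hBle x
      omega
    · rw [cnt_theta_high M' x (by omega), cnt_theta_high M x (by omega)]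
      have := hA (r - (x - d))
      omega

theorem thetaOf_injective : Function.Injective (thetaOf (d := d) (r := r)) := by
  intro M M' h
  apply minorGE_antisymm
  · rw [← thetaOf_le_iff, h]
  · rw [← thetaOf_le_iff, h]

theorem mem_range_iff (θ : Fin d → Fin (d + r)) (x : Fin (d + r)) :
    x ∈ Set.range θ ↔ (∃ h : x.val < d, (⟨x.val, h⟩ : Fin d) ∈ Set.range (col θ)) ∨
      (∃ h : ¬ x.val < d, (⟨x.val - d, by have := x.isLt; omega⟩ : Fin r) ∈ Set.range (row θ)) := by
  constructor
  · rintro ⟨j, rfl⟩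
    by_cases h : (θ j).val < d
    · exact Or.inl ⟨h, ⟨⟨j, h⟩, rfl⟩⟩
    · exact Or.inr ⟨h, ⟨⟨j, h⟩, rfl⟩⟩
  · rintro (⟨h, a, ha⟩ | ⟨h, b, hb⟩)
    · refine ⟨a.1, Fin.ext ?_⟩
      have h1 := congrArg Fin.val ha
      exact h1
    · refine ⟨b.1, Fin.ext ?_⟩
      have h1 := congrArg Fin.val hb
      simp only [row] at h1
      have := b.2
      omega

theorem eq_of_col_row (θ₁ θ₂ : Idx d (d + r)) (hc : Set.range (col θ₁.1) = Set.range (col θ₂.1))
    (hr : Set.range (row θ₁.1) = Set.range (row θ₂.1)) : θ₁ = θ₂ := by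
  apply Subtype.ext
  apply (θ₁.2.range_inj θ₂.2).mp
  ext x
  rw [mem_range_iff, mem_range_iff, hc, hr]

/-- Every Plücker index other than the least one comes from a minor. -/
theorem exists_minor_of_ne_iota (hdn : d < d + r) (θ : Idx d (d + r))
    (hθ : θ ≠ SchubertPrime.iota hdn) : ∃ M : MinorIdx r d, thetaOf M = θ := by
  classical
  set RA : Finset (Fin r) := (Finset.univ : Finset (Bot θ.1)).image (Fin.rev ∘ row θ.1) with hRAdef
  set CB : Finset (Fin d) := ((Finset.univ : Finset (Top θ.1)).image (col θ.1))ᶜ with hCBdef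
  have hne : 1 ≤ Fintype.card (Bot θ.1) := by
    by_contra hcon
    have h0 : Fintype.card (Bot θ.1) = 0 := by omega
    have hempty : IsEmpty (Bot θ.1) := Fintype.card_eq_zero_iff.mp h0
    apply hθ
    apply SchubertPrime.eq_iota_of_last_lt hdn θ
    intro t _
    by_contra hlt
    exact hempty.false ⟨t, hlt⟩
  have hRA : RA.card = Fintype.card (Bot θ.1) := by
    rw [hRAdef, Finset.card_image_of_injective _
      (Fin.rev_injective.comp (row_injective θ.1 θ.2.injective)), Finset.card_univ]
  have hTB : Fintype.card (Top θ.1) + Fintype.card (Bot θ.1) = d := by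
    rw [Fintype.card_subtype, Fintype.card_subtype, Finset.card_filter_add_card_filter_not,
      Finset.card_univ, Fintype.card_fin]
  have hCB : CB.card = Fintype.card (Bot θ.1) := by
    rw [hCBdef, Finset.card_compl, Finset.card_image_of_injective _ (col_injective θ.1 θ.2.injective),
      Finset.card_univ, Fintype.card_fin]
    omega
  obtain ⟨s, hs⟩ : ∃ s, Fintype.card (Bot θ.1) = s + 1 := ⟨Fintype.card (Bot θ.1) - 1, by omega⟩
  have key : ∀ M : MinorIdx r d, Set.range M.2.2.1 = ↑CB → Set.range M.2.1.1 = ↑RA →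
      thetaOf M = θ := by
    intro M h1 h2
    apply eq_of_col_row
    · rw [thetaOf_col, h1, hCBdef]
      simp
    · rw [thetaOf_row, Set.range_comp, h2, hRAdef]
      ext ρ
      simp only [Finset.coe_image, Finset.coe_univ, Set.image_univ, Set.mem_image, Set.mem_range,
        Function.comp_apply]
      constructor
      · rintro ⟨_, ⟨b, rfl⟩, hb⟩
        rw [Fin.rev_rev] at hb
        exact ⟨b, hb⟩
      · rintro ⟨b, rfl⟩
        exact ⟨_, ⟨b, rfl⟩, Fin.rev_rev _⟩
  refine ⟨⟨s, Plucker.sortOf RA (hRA.trans hs), Plucker.sortOf CB (hCB.trans hs)⟩, key _ ?_ ?_⟩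
  · exact Finset.range_orderEmbOfFin CB (hCB.trans hs)
  · exact Finset.range_orderEmbOfFin RA (hRA.trans hs)

theorem thetaOf_ne_iota (hdn : d < d + r) (M : MinorIdx r d) :
    thetaOf M ≠ SchubertPrime.iota hdn := by
  intro h
  have h1 := thetaOf_ge M
  rw [h] at h1
  simp only [SchubertPrime.iota] at h1
  have := pos_of_minorIdx M
  omega

theorem lt_of_cnt {p n : ℕ} (a : Fin p → Fin n) (ha : StrictMono a) (j : Fin p) (x : ℕ)
    (h : j.val + 1 ≤ cntLt a x) : (a j).val < x := by
  by_contra hge
  push Not at hge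
  have hsub : (Finset.univ.filter fun i => (a i).val < x) ⊆ Finset.Iio j := by
    intro i hi
    rw [Finset.mem_filter] at hi
    rw [Finset.mem_Iio]
    by_contra hij
    push Not at hij
    have h1 : a j ≤ a i := ha.monotone hij
    have h2 : (a j).val ≤ (a i).val := h1
    omega
  have := Finset.card_le_card hsub
  rw [Fin.card_Iio] at this
  rw [cntLt] at h
  omega

/-- The minors of size at most `ν` correspond to the Plücker indices below `φ`. -/
theorem thetaOf_le_phi_iff (ν : ℕ) (hnd : ν + 1 ≤ d) (hnr : ν + 1 ≤ r) (M : MinorIdx r d) :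
    thetaOf M ≤ SFT.phi d r ν hnd hnr ↔ M.1 + 1 ≤ ν := by
  have hsd := size_le_right M
  constructor
  · intro h
    by_contra hlt
    push Not at hlt
    have h1 := thetaOf_ge M
    have h2 : ((thetaOf M).1 ⟨d - (M.1 + 1), Nat.sub_lt (pos_of_minorIdx M) (Nat.succ_pos _)⟩).val ≤
        ((SFT.phi d r ν hnd hnr).1 ⟨d - (M.1 + 1), Nat.sub_lt (pos_of_minorIdx M) (Nat.succ_pos _)⟩).val :=
      h _
    rw [SFT.phi_val_of_le d r ν hnd hnr _ (by simp only; omega)] at h2
    simp only at h2
    omega
  · intro hs j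
    apply Fin.le_def.mpr
    by_cases hj : j.val + (ν + 1) ≤ d
    · rw [SFT.phi_val_of_le d r ν hnd hnr j hj]
      have h1 : ((thetaOf M).1 j).val < ν + j.val + 1 := by
        apply lt_of_cnt _ (thetaOf M).2
        rw [cnt_theta_low M _ (by omega)]
        have := cntLt_le M.2.2.1 (ν + j.val + 1)
        omega
      omega
    · rw [SFT.phi_val_of_not_le d r ν hnd hnr j hj]
      have hd := pos_of_minorIdx M
      have h1 := SchubertPrime.val_add_le_of_strictMono (thetaOf M).1 (thetaOf M).2 j ⟨d - 1, by omega⟩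
        (Fin.le_def.mpr (by have := j.isLt; simp only; omega))
      have h2 := ((thetaOf M).1 ⟨d - 1, by omega⟩).isLt
      simp only at h1
      omega

end Theta

end Groth.Agent.Lib.Seat50.BitabComb
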