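import Mathlib
import Groth.Prelude.Def_CAlgX
import Groth.Prelude.Def_W4bk4grassmannianPl
import Groth.Agent.Lib.Seat50SFT

/-!
# The opposite-cell bridge: `K[Z]/I_{n+1} ≅ (S/J(φ))/(X_ι - 1)`
-/

namespace Groth.Agent.Lib.Seat50.CellBridge

open W4bk4grassmannian MvPolynomial Matrix Groth.Agent.Lib.Seat50.SFT

universe u

section Scaling

variable (K : Type u) [Field K] (d r : ℕ)

/-- The bottom block of `M · adj(M_ι)`. -/
noncomputable def QQ (hr : 0 < r) (M : Matrix (Fin (d + r)) (Fin d) K) : Fin r × Fin d → K :=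
  fun p => (M * Matrix.adjugate (M.submatrix (io d r hr).1 id)) (Fin.natAdd d p.1) p.2

/-- the row scaling factors -/
noncomputable def sc (δ : K) (l : Fin (d + r)) : K := if l.val < d then δ else 1

theorem mul_adjugate_eq (hr : 0 < r) (M : Matrix (Fin (d + r)) (Fin d) K) (l : Fin (d + r)) (c : Fin d) :
    (M * Matrix.adjugate (M.submatrix (io d r hr).1 id)) l c =
      sc K d r (M.submatrix (io d r hr).1 id).det l * cellK K d r (QQ K d r hr M) l c := by
  by_cases hl : l.val < d
  · have hl' : l = (io d r hr).1 ⟨l.val, hl⟩ := by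
      apply Fin.ext
      simp [SchubertPrime.iota]
    have h1 : (M * Matrix.adjugate (M.submatrix (io d r hr).1 id)) l c =
        (M.submatrix (io d r hr).1 id * Matrix.adjugate (M.submatrix (io d r hr).1 id)) ⟨l.val, hl⟩ c := by
      rw [Matrix.mul_apply, Matrix.mul_apply]
      refine Finset.sum_congr rfl (fun k _ => ?_)
      rw [Matrix.submatrix_apply, id_eq, ← hl']
    rw [h1, Matrix.mul_adjugate, Matrix.smul_apply, smul_eq_mul, sc, if_pos hl]
    congr 1
    simp only [cellK, Matrix.map_apply, cellMatrix, Matrix.of_apply, dif_pos hl, Matrix.one_apply]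
    by_cases hlc : l.val = c.val
    · rw [if_pos hlc, if_pos (Fin.ext hlc), map_one]
    · rw [if_neg hlc, if_neg (fun h => hlc (congrArg Fin.val h)), map_zero]
  · rw [sc, if_neg hl, one_mul]
    simp only [cellK, Matrix.map_apply, cellMatrix, Matrix.of_apply, dif_neg hl, eval_X, QQ]
    have hl2 : l = Fin.natAdd d ⟨l.val - d, by have := l.isLt; omega⟩ := by
      apply Fin.ext
      simp only [Fin.val_natAdd]
      omega
    rw [← hl2]

/-- The key identity: minors of `[I ; Q]` against minors of `M`. -/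
theorem scaling (hr : 0 < r) (M : Matrix (Fin (d + r)) (Fin d) K) (a : Fin d → Fin (d + r)) :
    (∏ j : Fin d, sc K d r (M.submatrix (io d r hr).1 id).det (a j)) *
        ((cellK K d r (QQ K d r hr M)).submatrix a id).det =
      (M.submatrix a id).det * (M.submatrix (io d r hr).1 id).det ^ (d - 1) := by
  set T := M.submatrix (io d r hr).1 id with hT
  have h1 : (M * Matrix.adjugate T).submatrix a id =
      Matrix.diagonal (fun j => sc K d r T.det (a j)) * (cellK K d r (QQ K d r hr M)).submatrix a id := by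
    refine Matrix.ext (fun j c => ?_)
    rw [Matrix.submatrix_apply, id_eq, mul_adjugate_eq, Matrix.diagonal_mul, Matrix.submatrix_apply, id_eq]
  have h2 : (M * Matrix.adjugate T).submatrix a id = M.submatrix a id * Matrix.adjugate T := by
    refine Matrix.ext (fun j c => ?_)
    rw [Matrix.submatrix_apply, id_eq, Matrix.mul_apply, Matrix.mul_apply]
    rfl
  have h3 := congrArg Matrix.det h1
  rw [h2, Matrix.det_mul, Matrix.det_mul, Matrix.det_diagonal, Matrix.det_adjugate, Fintype.card_fin] at h3
  exact h3.symm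

/-- number of rows of `a` in the identity block -/
def kk (a : Fin d → Fin (d + r)) : ℕ := (Finset.univ.filter fun j : Fin d => (a j).val < d).card

theorem prod_sc (δ : K) (a : Fin d → Fin (d + r)) :
    ∏ j : Fin d, sc K d r δ (a j) = δ ^ kk d r a := by
  simp only [sc]
  rw [Finset.prod_ite, Finset.prod_const, Finset.prod_const_one, mul_one, kk]

theorem vanishing_le_schubert (n : ℕ) (τ : Idx d n) : vanishing K d n ≤ schubertVanishing K d n τ := by
  intro f hf
  rw [vanishing, Ideal.mem_iInf] at hf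
  rw [schubertVanishing, Ideal.mem_iInf]
  intro A
  rw [Ideal.mem_iInf]
  intro _
  exact hf A

/-- `Θ Φ X_θ` and `X_θ` agree up to powers of `X_ι` modulo the Plücker relations. -/
theorem Theta_Phi_X (hr : 0 < r) (θ : Idx d (d + r)) :
    X (io d r hr) ^ kk d r θ.1 * Theta K d r hr (Phi K d r (X θ)) - X (io d r hr) ^ (d - 1) * X θ ∈
      vanishing K d (d + r) := by
  rw [vanishing, Ideal.mem_iInf]
  intro M
  rw [RingHom.mem_ker]
  show evalMinors K d (d + r) M _ = 0
  rw [map_sub, map_mul, map_mul, map_pow, map_pow, evalMinors_Theta, eval_Phi]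
  have hι : evalMinors K d (d + r) M (X (io d r hr)) = (M.submatrix (io d r hr).1 id).det := by
    rw [evalMinors, aeval_X]
  have hθ : ∀ (A : Matrix (Fin (d + r)) (Fin d) K), evalMinors K d (d + r) A (X θ) =
      (A.submatrix θ.1 id).det := by
    intro A
    rw [evalMinors, aeval_X]
  rw [hι, hθ, hθ]
  have h := scaling K d r hr M θ.1
  rw [prod_sc] at h
  rw [sub_eq_zero]
  rw [mul_comm ((M.submatrix (io d r hr).1 id).det ^ (d - 1))]
  exact h

end Scaling

section Bridge

variable (K : Type u) [Field K] [Infinite K] (d r n : ℕ) (hnd : n + 1 ≤ d) (hnr : n + 1 ≤ r)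

/-- The ideal of the Schubert cone `X(φ)`, dehomogenised at the least Plücker coordinate. -/
noncomputable def JJ : Ideal (PlRing K d (d + r)) :=
  schubertVanishing K d (d + r) (phi d r n hnd hnr) ⊔ Ideal.span {X (io d r (by omega)) - 1}

/-- The ideal of `(n+1)`-minors of the generic `r × d` matrix. -/
noncomputable abbrev II : Ideal (CellRing K d r) := CAlgX.minorIdeal (genMatrix K r d) (n + 1)

omit [Infinite K] in
theorem Phi_X_io (hr : 0 < r) : Phi K d r (X (io d r hr)) = 1 := by
  rw [Phi_X, cellMinor]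
  have h : (cellMatrix K d r).submatrix (io d r hr).1 id = 1 := by
    refine Matrix.ext (fun s c => ?_)
    rw [Matrix.submatrix_apply, id_eq]
    simp only [cellMatrix, Matrix.of_apply, SchubertPrime.iota]
    rw [dif_pos s.isLt, Matrix.one_apply]
    simp only [Fin.ext_iff]
  rw [h, Matrix.det_one]

theorem JJ_le_comap : JJ K d r n hnd hnr ≤ Ideal.comap (Phi K d r) (II K d r n) := by
  apply sup_le (schubert_le_comap K d r n hnd hnr)
  rw [Ideal.span_le]
  rintro _ rfl
  rw [SetLike.mem_coe, Ideal.mem_comap, map_sub, Phi_X_io, map_one, sub_self]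
  exact Ideal.zero_mem _

theorem Theta_mem_JJ (f : CellRing K d r) (hf : f ∈ II K d r n) :
    Theta K d r (by omega) f ∈ JJ K d r n hnd hnr := by
  rw [II, ← sft K r n d] at hf
  exact Ideal.mem_sup_left (Theta_mem K d r n hnd hnr f hf)

/-- From the dehomogenised Schubert cone to the determinantal ring. -/
noncomputable def toCell :
    (PlRing K d (d + r) ⧸ JJ K d r n hnd hnr) →ₐ[K] (CellRing K d r ⧸ II K d r n) :=
  Ideal.Quotient.liftₐ _ ((Ideal.Quotient.mkₐ K _).comp (Phi K d r)) (by
    intro a ha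
    rw [AlgHom.comp_apply, Ideal.Quotient.mkₐ_eq_mk, Ideal.Quotient.eq_zero_iff_mem]
    exact JJ_le_comap K d r n hnd hnr ha)

/-- From the determinantal ring to the dehomogenised Schubert cone. -/
noncomputable def ofCell :
    (CellRing K d r ⧸ II K d r n) →ₐ[K] (PlRing K d (d + r) ⧸ JJ K d r n hnd hnr) :=
  Ideal.Quotient.liftₐ _ ((Ideal.Quotient.mkₐ K _).comp (Theta K d r (by omega))) (by
    intro a ha
    rw [AlgHom.comp_apply, Ideal.Quotient.mkₐ_eq_mk, Ideal.Quotient.eq_zero_iff_mem]
    exact Theta_mem_JJ K d r n hnd hnr a ha)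

theorem toCell_mk (g : PlRing K d (d + r)) :
    toCell K d r n hnd hnr (Ideal.Quotient.mk _ g) = Ideal.Quotient.mk _ (Phi K d r g) := rfl

theorem ofCell_mk (f : CellRing K d r) :
    ofCell K d r n hnd hnr (Ideal.Quotient.mk _ f) = Ideal.Quotient.mk _ (Theta K d r (by omega) f) := rfl

omit [Infinite K] in
theorem mk_X_io : Ideal.Quotient.mk (JJ K d r n hnd hnr) (X (io d r (by omega))) = 1 := by
  rw [← map_one (Ideal.Quotient.mk (JJ K d r n hnd hnr)), Ideal.Quotient.eq]
  exact Ideal.mem_sup_right (Ideal.subset_span rfl)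

/-- **The opposite-cell bridge**: `(S/J(φ))/(X_ι - 1) ≅ K[Z]/I_{n+1}`. -/
noncomputable def cellEquiv :
    (PlRing K d (d + r) ⧸ JJ K d r n hnd hnr) ≃ₐ[K] (CellRing K d r ⧸ II K d r n) :=
  AlgEquiv.ofAlgHom (toCell K d r n hnd hnr) (ofCell K d r n hnd hnr)
    (by
      apply Ideal.Quotient.algHom_ext
      apply MvPolynomial.algHom_ext
      intro p
      simp only [AlgHom.comp_apply, Ideal.Quotient.mkₐ_eq_mk, AlgHom.id_apply]
      rw [ofCell_mk, toCell_mk, Phi_Theta])
    (by
      have hr : 0 < r := by omega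
      apply Ideal.Quotient.algHom_ext
      apply MvPolynomial.algHom_ext
      intro θ
      simp only [AlgHom.comp_apply, Ideal.Quotient.mkₐ_eq_mk, AlgHom.id_apply]
      rw [toCell_mk, ofCell_mk]
      have h1 := Theta_Phi_X K d r hr θ
      have h2 : X (io d r hr) ^ kk d r θ.1 * Theta K d r hr (Phi K d r (X θ)) -
          X (io d r hr) ^ (d - 1) * X θ ∈ JJ K d r n hnd hnr :=
        Ideal.mem_sup_left (vanishing_le_schubert K d (d + r) _ h1)
      rw [← Ideal.Quotient.eq, map_mul, map_mul, map_pow, map_pow, mk_X_io, one_pow, one_pow, one_mul,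
        one_mul] at h2
      exact h2)

theorem cellEquiv_mk (g : PlRing K d (d + r)) :
    cellEquiv K d r n hnd hnr (Ideal.Quotient.mk _ g) = Ideal.Quotient.mk _ (Phi K d r g) := rfl

theorem cellEquiv_symm_mk (f : CellRing K d r) :
    (cellEquiv K d r n hnd hnr).symm (Ideal.Quotient.mk _ f) =
      Ideal.Quotient.mk _ (Theta K d r (by omega) f) := rfl

end Bridge

end Groth.Agent.Lib.Seat50.CellBridge
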