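import Mathlib
import Groth.Prelude.Def_W4bk4grassmannianPl
import Groth.Agent.Lib.Seat50StdMon
import Groth.Agent.Lib.Seat50StdIndep2
import Groth.Agent.Lib.Seat50SchubertPrime
import Groth.Agent.Lib.Seat50FFT

/-!
# Standard monomial basis of the dehomogenised Schubert cone `S/(J(τ) + (X_ι - 1))`

The standard monomials on `X(τ)` not involving the least coordinate `X_ι` form a `K`-basis.
-/

namespace Groth.Agent.Lib.Seat50.DehomogBasis

open W4bk4grassmannian MvPolynomial StdIndep StdMon

universe u

variable {d n : ℕ}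

section Defs

variable (K : Type u) [Field K] (hdn : d < n) (τ : Idx d n)

/-- The ideal of the Schubert cone dehomogenised at `X_ι`. -/
noncomputable def JJ : Ideal (PlRing K d n) :=
  schubertVanishing K d n τ ⊔ Ideal.span {X (SchubertPrime.iota hdn) - 1}

/-- Standard chains on `X(τ)` avoiding `ι`. -/
abbrev IC : Type :=
  {c : Chain d n // (∀ k, c.2.1 k ≤ τ) ∧ ∀ k, c.2.1 k ≠ SchubertPrime.iota hdn}

/-- The classes of the `ι`-free standard monomials. -/
noncomputable def w (c : IC hdn τ) : PlRing K d n ⧸ JJ K hdn τ :=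
  Ideal.Quotient.mk _ (chainMon K c.1.2.1)

theorem mk_X_iota : Ideal.Quotient.mk (JJ K hdn τ) (X (SchubertPrime.iota hdn)) = 1 := by
  rw [← map_one (Ideal.Quotient.mk (JJ K hdn τ)), Ideal.Quotient.eq]
  exact Ideal.mem_sup_right (Ideal.subset_span rfl)

theorem mk_chainMon_mem_span : ∀ (k : ℕ) (c : Fin k → Idx d n), Antitone c →
    Ideal.Quotient.mk (JJ K hdn τ) (chainMon K c) ∈ Submodule.span K (Set.range (w K hdn τ)) := by
  intro k
  induction k with
  | zero =>
    intro c hc
    apply Submodule.subset_span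
    exact ⟨⟨⟨0, ⟨c, hc⟩⟩, fun k => k.elim0, fun k => k.elim0⟩, rfl⟩
  | succ k ih =>
    intro c hc
    by_cases hτ : ∀ i, c i ≤ τ
    · by_cases hlast : c (Fin.last k) = SchubertPrime.iota hdn
      · have h1 : chainMon K c = chainMon K (c ∘ Fin.castSucc) * X (SchubertPrime.iota hdn) := by
          rw [chainMon, Fin.prod_univ_castSucc, hlast]
          rfl
        rw [h1, map_mul, mk_X_iota, mul_one]
        exact ih _ (hc.comp_monotone Fin.strictMono_castSucc.monotone)
      · apply Submodule.subset_span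
        refine ⟨⟨⟨k + 1, ⟨c, hc⟩⟩, hτ, fun i hi => hlast ?_⟩, rfl⟩
        apply le_antisymm
        · have h2 : c (Fin.last k) ≤ c i := hc (Fin.le_last i)
          have h3 : c i = SchubertPrime.iota hdn := hi
          rw [h3] at h2
          exact h2
        · exact SchubertPrime.iota_le hdn _
    · have h1 : chainMon K c ∈ JJ K hdn τ :=
        Ideal.mem_sup_left (plIdeal_le K τ (chainMon_mem_plIdeal K τ c hτ))
      rw [Ideal.Quotient.eq_zero_iff_mem.mpr h1]
      exact Submodule.zero_mem _

/-- The `ι`-free standard monomials span the dehomogenised cone. -/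
theorem span_w : Submodule.span K (Set.range (w K hdn τ)) = ⊤ := by
  rw [Submodule.eq_top_iff']
  intro x
  obtain ⟨f, rfl⟩ := Ideal.Quotient.mk_surjective x
  obtain ⟨a, ha⟩ := exists_rep K f
  have h1 : f - comb K a ∈ JJ K hdn τ := Ideal.mem_sup_left (plIdealTop_le K τ ha)
  rw [← Ideal.Quotient.eq] at h1
  rw [h1, comb, Finsupp.sum, map_sum]
  refine Submodule.sum_mem _ (fun c _ => ?_)
  have h2 : Ideal.Quotient.mk (JJ K hdn τ) (a c • chainMon K c.2.1) =
      a c • Ideal.Quotient.mk (JJ K hdn τ) (chainMon K c.2.1) := rfl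
  rw [h2]
  exact Submodule.smul_mem _ _ (mk_chainMon_mem_span K hdn τ c.1 c.2.1 c.2.2)

end Defs

section Ext

variable (hdn : d < n) (τ : Idx d n)

/-- The `i`-th entry of a chain, `ι` beyond its length. -/
def entry (c : Chain d n) (i : ℕ) : Idx d n :=
  if h : i < c.1 then c.2.1 ⟨i, h⟩ else SchubertPrime.iota hdn

/-- Padding a chain by copies of `ι` to length at least `E`. -/
def ext (E : ℕ) (c : Chain d n) : Chain d n :=
  ⟨c.1 + (E - c.1), ⟨fun i => if h : i.val < c.1 then c.2.1 ⟨i.val, h⟩ else SchubertPrime.iota hdn, by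
    intro i j hij
    have hij' : i.val ≤ j.val := hij
    by_cases hj : j.val < c.1
    · have hi : i.val < c.1 := lt_of_le_of_lt hij' hj
      simp only [dif_pos hi, dif_pos hj]
      exact c.2.2 (Fin.mk_le_mk.mpr hij')
    · simp only [dif_neg hj]
      exact SchubertPrime.iota_le hdn _⟩⟩

theorem entry_ext (E : ℕ) (c : Chain d n) (i : ℕ) :
    entry hdn (ext hdn E c) i = entry hdn c i := by
  unfold entry
  by_cases h : i < c.1
  · have h' : i < (ext hdn E c).1 := by
      show i < c.1 + (E - c.1)
      omega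
    rw [dif_pos h', dif_pos h]
    show (if h : i < c.1 then c.2.1 ⟨i, h⟩ else SchubertPrime.iota hdn) = _
    rw [dif_pos h]
  · rw [dif_neg h]
    by_cases h' : i < (ext hdn E c).1
    · rw [dif_pos h']
      show (if h : i < c.1 then c.2.1 ⟨i, h⟩ else SchubertPrime.iota hdn) = _
      rw [dif_neg h]
    · rw [dif_neg h']

theorem ext_le (E : ℕ) (c : Chain d n) (hc : ∀ k, c.2.1 k ≤ τ) (k : Fin (ext hdn E c).1) :
    (ext hdn E c).2.1 k ≤ τ := by
  show (if h : k.val < c.1 then c.2.1 ⟨k.val, h⟩ else SchubertPrime.iota hdn) ≤ τ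
  split_ifs with h
  · exact hc _
  · exact SchubertPrime.iota_le hdn _

theorem chain_eq_of_entry (c c' : IC hdn τ) (h : ∀ i, entry hdn c.1 i = entry hdn c'.1 i) : c = c' := by
  obtain ⟨⟨k, ⟨f, hf⟩⟩, hle, hne⟩ := c
  obtain ⟨⟨k', ⟨f', hf'⟩⟩, hle', hne'⟩ := c'
  have hk : k = k' := by
    rcases lt_trichotomy k k' with hlt | heq | hgt
    · exfalso
      have h1 := h k
      unfold entry at h1
      simp only at h1
      rw [dif_neg (lt_irrefl k), dif_pos hlt] at h1
      exact hne' ⟨k, hlt⟩ h1.symm
    · exact heq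
    · exfalso
      have h1 := h k'
      unfold entry at h1
      simp only at h1
      rw [dif_neg (lt_irrefl k'), dif_pos hgt] at h1
      exact hne ⟨k', hgt⟩ h1
  subst hk
  have hff : f = f' := by
    funext i
    have h1 := h i.val
    unfold entry at h1
    simp only at h1
    rw [dif_pos i.isLt, dif_pos i.isLt] at h1
    exact h1
  subst hff
  rfl

theorem ext_injective (E : ℕ) : Function.Injective (fun c : IC hdn τ => ext hdn E c.1) := by
  intro c c' h
  apply chain_eq_of_entry
  intro i
  have h1 := congrArg (fun x => entry hdn x i) h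
  simp only [entry_ext] at h1
  exact h1

theorem chainMon_ext (K : Type u) [CommRing K] (E : ℕ) (c : Chain d n) :
    chainMon K (ext hdn E c).2.1 =
      X (SchubertPrime.iota hdn) ^ (E - c.1) * chainMon K c.2.1 := by
  have h1 : chainMon K (ext hdn E c).2.1 =
      ∏ i : Fin (c.1 + (E - c.1)), (X (if h : i.val < c.1 then c.2.1 ⟨i.val, h⟩
        else SchubertPrime.iota hdn) : PlRing K d n) := rfl
  rw [h1, Fin.prod_univ_add]
  have h2 : ∀ i : Fin c.1, (X (if h : (Fin.castAdd (E - c.1) i).val < c.1 then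
      c.2.1 ⟨(Fin.castAdd (E - c.1) i).val, h⟩ else SchubertPrime.iota hdn) : PlRing K d n) =
      X (c.2.1 i) := by
    intro i
    rw [dif_pos (by simp)]
    rfl
  have h3 : ∀ i : Fin (E - c.1), (X (if h : (Fin.natAdd c.1 i).val < c.1 then
      c.2.1 ⟨(Fin.natAdd c.1 i).val, h⟩ else SchubertPrime.iota hdn) : PlRing K d n) =
      X (SchubertPrime.iota hdn) := by
    intro i
    rw [dif_neg (by simp)]
  rw [Finset.prod_congr rfl (fun i _ => h2 i), Finset.prod_congr rfl (fun i _ => h3 i),
    Finset.prod_const, Finset.card_univ, Fintype.card_fin, mul_comm]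
  rfl

end Ext

section Scaling

variable (K : Type u) [Field K]

theorem prod_uu (hd : 0 < d) (s : K) : ∏ t : Fin d, FFT.uu K s t = s := by
  rw [Finset.prod_eq_single (⟨0, hd⟩ : Fin d)]
  · simp [FFT.uu]
  · intro t _ ht
    have : t.val ≠ 0 := fun h => ht (Fin.ext h)
    simp [FFT.uu, this]
  · intro h
    exact absurd (Finset.mem_univ _) h

theorem det_scale (hd : 0 < d) (A : Matrix (Fin n) (Fin d) K) (s : K) (a : Fin d → Fin n) :
    ((A * Matrix.diagonal (FFT.uu K s : Fin d → K)).submatrix a id).det =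
      s * (A.submatrix a id).det := by
  have h : (A * Matrix.diagonal (FFT.uu K s : Fin d → K)).submatrix a id =
      A.submatrix a id * Matrix.diagonal (FFT.uu K s : Fin d → K) := by
    refine Matrix.ext (fun i j => ?_)
    rw [Matrix.submatrix_apply, id_eq, Matrix.mul_apply, Matrix.mul_apply]
    rfl
  rw [h, Matrix.det_mul, Matrix.det_diagonal, prod_uu K hd, mul_comm]

theorem evalMinors_scale_chainMon (hd : 0 < d) (A : Matrix (Fin n) (Fin d) K) (s : K) {k : ℕ}
    (c : Fin k → Idx d n) :
    evalMinors K d n (A * Matrix.diagonal (FFT.uu K s : Fin d → K)) (chainMon K c) =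
      s ^ k * evalMinors K d n A (chainMon K c) := by
  rw [chainMon, map_prod, map_prod]
  have h : ∀ i : Fin k, evalMinors K d n (A * Matrix.diagonal (FFT.uu K s : Fin d → K)) (X (c i)) =
      s * evalMinors K d n A (X (c i)) := by
    intro i
    rw [evalMinors, aeval_X, evalMinors, aeval_X, det_scale K hd]
  rw [Finset.prod_congr rfl (fun i _ => h i), Finset.prod_mul_distrib, Finset.prod_const,
    Finset.card_univ, Fintype.card_fin]

end Scaling

section Indep

variable (K : Type u) [Field K] [Infinite K] (hdn : d < n) (τ : Idx d n)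

/-- Homogenising a relation among `ι`-free standard monomials modulo `X_ι - 1` gives a relation on the cone. -/
theorem homog_mem (hd : 0 < d) (l : IC hdn τ →₀ K)
    (hF : (l.sum fun c x => x • chainMon K c.1.2.1) ∈ JJ K hdn τ) (E : ℕ)
    (hE : ∀ c ∈ l.support, c.1.1 + 1 ≤ E) :
    (l.sum fun c x => x • (X (SchubertPrime.iota hdn) ^ (E - c.1.1) * chainMon K c.1.2.1)) ∈
      schubertVanishing K d n τ := by
  have hker := SchubertPrime.schubert_eq_ker K hd τ
  rw [hker, RingHom.mem_ker]
  show StdIndep2.evP K (SchubertPrime.PSch τ) _ = 0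
  apply MvPolynomial.funext
  intro y
  rw [StdIndep2.eval_evP, map_zero]
  set M := (StdIndep2.YP K (SchubertPrime.PSch τ)).map (eval y) with hMdef
  have hbad : ∀ φ : Idx d n, ¬ φ ≤ τ → (M.submatrix φ.1 id).det = 0 := by
    intro φ hφ
    have h3 : X φ ∈ schubertVanishing K d n τ := X_mem_schubert K τ φ hφ
    rw [hker, RingHom.mem_ker] at h3
    have h4 : StdIndep2.evP K (SchubertPrime.PSch τ) (X φ) = 0 := h3
    have h5 := congrArg (eval y) h4
    rw [StdIndep2.eval_evP, map_zero, evalMinors, aeval_X] at h5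
    exact h5
  set δ := (M.submatrix (SchubertPrime.iota hdn).1 id).det with hδdef
  have hι : evalMinors K d n M (X (SchubertPrime.iota hdn)) = δ := by
    rw [evalMinors, aeval_X]
  rw [Finsupp.sum, map_sum]
  have hterm : ∀ c ∈ l.support, evalMinors K d n M
      (l c • (X (SchubertPrime.iota hdn) ^ (E - c.1.1) * chainMon K c.1.2.1)) =
      l c * (δ ^ (E - c.1.1) * evalMinors K d n M (chainMon K c.1.2.1)) := by
    intro c _
    rw [map_smul, map_mul, map_pow, hι, smul_eq_mul]
  rw [Finset.sum_congr rfl hterm]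
  by_cases h0 : δ = 0
  · refine Finset.sum_eq_zero (fun c hc => ?_)
    have h1 : E - c.1.1 ≠ 0 := by have := hE c hc; omega
    rw [h0, zero_pow h1, zero_mul, mul_zero]
  · set s := δ⁻¹ with hs
    set Ms := M * Matrix.diagonal (FFT.uu K s : Fin d → K) with hMs
    obtain ⟨j, hj, b, hb, hjb⟩ := Submodule.mem_sup.mp hF
    obtain ⟨b', rfl⟩ := Ideal.mem_span_singleton'.mp hb
    have hj0 : evalMinors K d n Ms j = 0 := by
      rw [schubertVanishing, Ideal.mem_iInf] at hj
      have h1 := hj Ms
      rw [Ideal.mem_iInf] at h1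
      exact h1 (fun φ hφ => by rw [hMs, det_scale K hd, hbad φ hφ, mul_zero])
    have hb0 : evalMinors K d n Ms (b' * (X (SchubertPrime.iota hdn) - 1)) = 0 := by
      rw [map_mul, map_sub, map_one]
      have : evalMinors K d n Ms (X (SchubertPrime.iota hdn)) = 1 := by
        rw [evalMinors, aeval_X, hMs, det_scale K hd, ← hδdef, hs, inv_mul_cancel₀ h0]
      rw [this, sub_self, mul_zero]
    have hF0 := congrArg (evalMinors K d n Ms) hjb
    rw [map_add, hj0, hb0, add_zero, Finsupp.sum, map_sum] at hF0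
    have hterm2 : ∀ c ∈ l.support, evalMinors K d n Ms (l c • chainMon K c.1.2.1) =
        l c * (s ^ c.1.1 * evalMinors K d n M (chainMon K c.1.2.1)) := by
      intro c _
      rw [map_smul, hMs, evalMinors_scale_chainMon K hd, smul_eq_mul]
    rw [Finset.sum_congr rfl hterm2] at hF0
    have h2 : ∑ c ∈ l.support, l c * (δ ^ (E - c.1.1) * evalMinors K d n M (chainMon K c.1.2.1)) =
        δ ^ E * ∑ c ∈ l.support, l c * (s ^ c.1.1 * evalMinors K d n M (chainMon K c.1.2.1)) := by
      rw [Finset.mul_sum]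
      refine Finset.sum_congr rfl (fun c hc => ?_)
      have h3 : c.1.1 ≤ E := by have := hE c hc; omega
      rw [hs, inv_pow, pow_sub₀ _ h0 h3]
      ring
    rw [h2, ← hF0, mul_zero]

/-- The `ι`-free standard monomials are linearly independent in the dehomogenised cone. -/
theorem linearIndependent_w (hd : 0 < d) : LinearIndependent K (w K hdn τ) := by
  classical
  rw [linearIndependent_iff]
  intro l hl
  rw [Finsupp.linearCombination_apply] at hl
  have hF : (l.sum fun c x => x • chainMon K c.1.2.1) ∈ JJ K hdn τ := by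
    rw [← Ideal.Quotient.eq_zero_iff_mem, Finsupp.sum, map_sum]
    rw [Finsupp.sum] at hl
    rw [← hl]
    rfl
  set E := l.support.sup (fun c => c.1.1) + 1 with hEdef
  have hE : ∀ c ∈ l.support, c.1.1 + 1 ≤ E := by
    intro c hc
    have := Finset.le_sup (f := fun c : IC hdn τ => c.1.1) hc
    omega
  have hG := homog_mem K hdn τ hd l hF E hE
  set a' : Chain d n →₀ K := Finsupp.mapDomain (fun c : IC hdn τ => ext hdn E c.1) l with ha'
  have hcomb : (a'.sum fun c x => x • chainMon K c.2.1) =
      l.sum fun c x => x • (X (SchubertPrime.iota hdn) ^ (E - c.1.1) * chainMon K c.1.2.1) := by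
    rw [ha', Finsupp.sum_mapDomain_index (h := fun (c : Chain d n) (x : K) => x • chainMon K c.2.1)
      (fun c => zero_smul _ _) (fun c x y => add_smul _ _ _)]
    refine Finsupp.sum_congr (fun c _ => ?_)
    rw [chainMon_ext]
  ext c₀
  have h1 := coeff_eq_zero_of_mem K hd τ a' (by rw [hcomb]; exact hG) (ext hdn E c₀.1)
    (ext_le hdn τ E c₀.1 c₀.2.1)
  rw [ha', Finsupp.mapDomain_apply (ext_injective hdn τ E)] at h1
  rw [h1]
  rfl

end Indep

end Groth.Agent.Lib.Seat50.DehomogBasis
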