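import Mathlib
import Groth.Prelude.Def_CAlgX
import Groth.Prelude.Def_W4bk4grassmannianPl
import Groth.Agent.Lib.Seat50SFT
import Groth.Agent.Lib.Seat50CellBridge
import Groth.Agent.Lib.Seat50DehomogBasis
import Groth.Agent.Lib.Seat50BitabComb

/-!
# The standard bitableaux basis of a determinantal ring
-/

namespace Groth.Agent.Lib.Seat50.Bitableaux

open W4bk4grassmannian MvPolynomial Matrix
open Groth.Agent.Lib.Seat50.SFT Groth.Agent.Lib.Seat50.CellBridge Groth.Agent.Lib.Seat50.BitabComb
open Groth.Agent.Lib.Seat50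

universe u

section Units

variable {K : Type u} [Field K] {σ : Type*}

/-- Mutually divisible polynomials over a field differ by a nonzero constant. -/
theorem exists_unit_of_span_eq (a b : MvPolynomial σ K) (h1 : a ∈ Ideal.span {b})
    (h2 : b ∈ Ideal.span {a}) : ∃ u : Kˣ, b = C (u : K) * a := by
  obtain ⟨c, hc⟩ := Ideal.mem_span_singleton'.mp h1
  obtain ⟨c', hc'⟩ := Ideal.mem_span_singleton'.mp h2
  by_cases ha : a = 0
  · refine ⟨1, ?_⟩
    rw [← hc', ha, mul_zero, mul_zero]
  · have h3 : (1 - c * c') * a = 0 := by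
      rw [sub_mul, one_mul, mul_assoc, hc', hc, sub_self]
    have h4 : c * c' = 1 := by
      rcases mul_eq_zero.mp h3 with h | h
      · exact (sub_eq_zero.mp h).symm
      · exact absurd h ha
    have h5 : IsUnit c' := IsUnit.of_mul_eq_one_right c h4
    obtain ⟨r, hr, hcr⟩ := MvPolynomial.isUnit_iff_eq_C_of_isReduced.mp h5
    exact ⟨hr.unit, by rw [← hc', hcr]; rfl⟩

end Units

section Rho

variable (K : Type u) [CommRing K] (d r : ℕ)

/-- Reversal of the rows of the generic matrix. -/
noncomputable def rho : CellRing K d r →ₐ[K] CellRing K d r :=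
  rename (Prod.map Fin.rev id)

theorem rho_rho (f : CellRing K d r) : rho K d r (rho K d r f) = f := by
  rw [rho, rename_rename]
  have : (Prod.map Fin.rev id ∘ Prod.map Fin.rev id : Fin r × Fin d → Fin r × Fin d) = id := by
    funext p
    simp [Prod.map]
  rw [this, rename_id_apply]

theorem rho_det_submatrix {k : ℕ} (f : Fin k → Fin r) (g : Fin k → Fin d) :
    rho K d r ((genMatrix K r d).submatrix f g).det =
      ((genMatrix K r d).submatrix (Fin.rev ∘ f) g).det := by
  rw [AlgHom.map_det]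
  congr 1
  refine Matrix.ext (fun i j => ?_)
  simp [rho, genMatrix]

theorem rho_mem (t : ℕ) (f : CellRing K d r) (hf : f ∈ CAlgX.minorIdeal (genMatrix K r d) t) :
    rho K d r f ∈ CAlgX.minorIdeal (genMatrix K r d) t := by
  have h : CAlgX.minorIdeal (genMatrix K r d) t ≤
      Ideal.comap (rho K d r) (CAlgX.minorIdeal (genMatrix K r d) t) := by
    rw [CAlgX.minorIdeal, Ideal.span_le]
    rintro _ ⟨⟨f, g⟩, rfl⟩
    rw [SetLike.mem_coe, Ideal.mem_comap]
    show rho K d r ((genMatrix K r d).submatrix f g).det ∈ _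
    rw [rho_det_submatrix]
    exact Ideal.subset_span ⟨(Fin.rev ∘ f, g), rfl⟩
  exact h hf

/-- The row reversal on the determinantal ring. -/
noncomputable def rhoBar (t : ℕ) :
    (CellRing K d r ⧸ CAlgX.minorIdeal (genMatrix K r d) t) →ₐ[K]
      (CellRing K d r ⧸ CAlgX.minorIdeal (genMatrix K r d) t) :=
  Ideal.Quotient.liftₐ _ ((Ideal.Quotient.mkₐ K _).comp (rho K d r)) (by
    intro a ha
    rw [AlgHom.comp_apply, Ideal.Quotient.mkₐ_eq_mk, Ideal.Quotient.eq_zero_iff_mem]
    exact rho_mem K d r t a ha)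

theorem rhoBar_mk (t : ℕ) (f : CellRing K d r) :
    rhoBar K d r t (Ideal.Quotient.mk _ f) = Ideal.Quotient.mk _ (rho K d r f) := rfl

theorem rhoBar_rhoBar (t : ℕ) (x : CellRing K d r ⧸ CAlgX.minorIdeal (genMatrix K r d) t) :
    rhoBar K d r t (rhoBar K d r t x) = x := by
  obtain ⟨f, rfl⟩ := Ideal.Quotient.mk_surjective x
  rw [rhoBar_mk, rhoBar_mk, rho_rho]

theorem rhoBar_injective (t : ℕ) : Function.Injective (rhoBar K d r t) := by
  intro x y h
  rw [← rhoBar_rhoBar K d r t x, ← rhoBar_rhoBar K d r t y, h]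

end Rho

section Sign

variable (K : Type u) [Field K] {d r : ℕ}

/-- A minor of the generic matrix is, up to a nonzero constant and the row reversal, the Plücker coordinate
of its index on the cell. -/
theorem minorOf_eq (M : MinorIdx r d) :
    ∃ u : Kˣ, minorOf K M = C (u : K) * rho K d r (cellMinor K d r (thetaOf M)) := by
  classical
  obtain ⟨g', hg'inj, hg'range, hI⟩ := CellMinor.exists_cols K (thetaOf M).1 (thetaOf M).2.injective
  have hrow := thetaOf_row M
  have hcol := thetaOf_col M
  have hg'B : Set.range g' = Set.range M.2.2.1 := by rw [hg'range, hcol, compl_compl]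
  obtain ⟨σ₁, hσ₁⟩ := CellMinor.exists_equiv_of_range_eq (CellMinor.row (thetaOf M).1)
    (Fin.rev ∘ M.2.1.1) (CellMinor.row_injective _ (thetaOf M).2.injective)
    (Fin.rev_injective.comp M.2.1.2.injective) hrow
  obtain ⟨σ₂, hσ₂⟩ := CellMinor.exists_equiv_of_range_eq g' M.2.2.1 hg'inj M.2.2.2.injective hg'B
  have h : (genMatrix K r d).submatrix (CellMinor.row (thetaOf M).1) g' =
      ((genMatrix K r d).submatrix (Fin.rev ∘ M.2.1.1) M.2.2.1).submatrix σ₁ σ₂ := by
    rw [hσ₁, hσ₂]
    rfl
  have hI' : ∀ I : Ideal (CellRing K d r), cellMinor K d r (thetaOf M) ∈ I ↔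
      ((genMatrix K r d).submatrix (Fin.rev ∘ M.2.1.1) M.2.2.1).det ∈ I := by
    intro I
    rw [cellMinor, hI, h, CellMinor.det_submatrix_equiv_equiv_mem]
  obtain ⟨u, hu⟩ := exists_unit_of_span_eq (cellMinor K d r (thetaOf M))
    (((genMatrix K r d).submatrix (Fin.rev ∘ M.2.1.1) M.2.2.1).det)
    ((hI' _).mpr (Ideal.subset_span rfl)) ((hI' _).mp (Ideal.subset_span rfl))
  refine ⟨u, ?_⟩
  have h2 := congrArg (rho K d r) hu
  rw [rho_det_submatrix, map_mul] at h2
  have h3 : rho K d r (C (u : K)) = C (u : K) := by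
    rw [rho, rename_C]
  rw [h3] at h2
  rw [← h2, minorOf]
  congr 2
  funext i
  simp

/-- The chosen constant. -/
noncomputable def unitOf (M : MinorIdx r d) : Kˣ := Classical.choose (minorOf_eq K M)

theorem minorOf_eq_unitOf (M : MinorIdx r d) :
    minorOf K M = C (unitOf K M : K) * rho K d r (cellMinor K d r (thetaOf M)) :=
  Classical.choose_spec (minorOf_eq K M)

end Sign

section Bridge

variable (K : Type u) [Field K] [Infinite K] (d r : ℕ) (hr : 0 < r) (φ : Idx d (d + r))
  (I : Ideal (CellRing K d r))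
  (ha : schubertVanishing K d (d + r) φ ≤ Ideal.comap (Phi K d r) I)
  (hb : ∀ f ∈ I, Theta K d r hr f ∈ schubertVanishing K d (d + r) φ)

omit [Infinite K] in
include ha in
theorem JJ_le_comap' : DehomogBasis.JJ K (Nat.lt_add_of_pos_right hr) φ ≤ Ideal.comap (Phi K d r) I := by
  apply sup_le ha
  rw [Ideal.span_le]
  rintro _ rfl
  rw [SetLike.mem_coe, Ideal.mem_comap, map_sub, Phi_X_io K d r hr, map_one, sub_self]
  exact Ideal.zero_mem _

/-- From the dehomogenised Schubert cone to the quotient of the cell ring. -/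
noncomputable def toCell' :
    (PlRing K d (d + r) ⧸ DehomogBasis.JJ K (Nat.lt_add_of_pos_right hr) φ) →ₐ[K] (CellRing K d r ⧸ I) :=
  Ideal.Quotient.liftₐ _ ((Ideal.Quotient.mkₐ K _).comp (Phi K d r)) (by
    intro a ha'
    rw [AlgHom.comp_apply, Ideal.Quotient.mkₐ_eq_mk, Ideal.Quotient.eq_zero_iff_mem]
    exact JJ_le_comap' K d r hr φ I ha ha')

/-- From the quotient of the cell ring to the dehomogenised Schubert cone. -/
noncomputable def ofCell' :
    (CellRing K d r ⧸ I) →ₐ[K] (PlRing K d (d + r) ⧸ DehomogBasis.JJ K (Nat.lt_add_of_pos_right hr) φ) :=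
  Ideal.Quotient.liftₐ _ ((Ideal.Quotient.mkₐ K _).comp (Theta K d r hr)) (by
    intro a ha'
    rw [AlgHom.comp_apply, Ideal.Quotient.mkₐ_eq_mk, Ideal.Quotient.eq_zero_iff_mem]
    exact Ideal.mem_sup_left (hb a ha'))

/-- The general opposite-cell bridge. -/
noncomputable def bridge :
    (PlRing K d (d + r) ⧸ DehomogBasis.JJ K (Nat.lt_add_of_pos_right hr) φ) ≃ₐ[K] (CellRing K d r ⧸ I) :=
  AlgEquiv.ofAlgHom (toCell' K d r hr φ I ha) (ofCell' K d r hr φ I hb)
    (by
      apply Ideal.Quotient.algHom_ext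
      apply MvPolynomial.algHom_ext
      intro p
      simp only [AlgHom.comp_apply, Ideal.Quotient.mkₐ_eq_mk, AlgHom.id_apply]
      show Ideal.Quotient.mk _ (Phi K d r (Theta K d r hr (X p))) = _
      rw [Phi_Theta])
    (by
      apply Ideal.Quotient.algHom_ext
      apply MvPolynomial.algHom_ext
      intro θ
      simp only [AlgHom.comp_apply, Ideal.Quotient.mkₐ_eq_mk, AlgHom.id_apply]
      show Ideal.Quotient.mk _ (Theta K d r hr (Phi K d r (X θ))) = _
      have h1 := Theta_Phi_X K d r hr θ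
      have h2 : X (io d r hr) ^ kk d r θ.1 * Theta K d r hr (Phi K d r (X θ)) -
          X (io d r hr) ^ (d - 1) * X θ ∈ DehomogBasis.JJ K (Nat.lt_add_of_pos_right hr) φ :=
        Ideal.mem_sup_left (vanishing_le_schubert K d (d + r) _ h1)
      have hX : Ideal.Quotient.mk (DehomogBasis.JJ K (Nat.lt_add_of_pos_right hr) φ) (X (io d r hr)) = 1 :=
        DehomogBasis.mk_X_iota K _ φ
      rw [← Ideal.Quotient.eq, map_mul, map_mul, map_pow, map_pow, hX, one_pow, one_pow, one_mul,
        one_mul] at h2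
      exact h2)

theorem bridge_mk (g : PlRing K d (d + r)) :
    bridge K d r hr φ I ha hb (Ideal.Quotient.mk _ g) = Ideal.Quotient.mk _ (Phi K d r g) := rfl

end Bridge

section Beta

variable (d r ν : ℕ)

/-- Standard bitableaux with minors of size at most `ν`. -/
abbrev SB : Type := Σ k : ℕ, {c : Fin k → MinorIdx r d //
  (∀ i, (c i).1 + 1 ≤ ν) ∧ ∀ i j, i < j → MinorGE (c i) (c j)}

variable {d r ν} (hr : 0 < r) (φ : Idx d (d + r))
  (hsize : ∀ M : MinorIdx r d, thetaOf M ≤ φ ↔ M.1 + 1 ≤ ν)

/-- The chain of Plücker indices of a standard bitableau. -/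
noncomputable def beta (c : SB d r ν) : DehomogBasis.IC (Nat.lt_add_of_pos_right hr) φ :=
  ⟨⟨c.1, ⟨fun i => thetaOf (c.2.1 (Fin.rev i)), by
    intro i j hij
    rcases eq_or_lt_of_le hij with h | h
    · rw [h]
    · exact (thetaOf_le_iff _ _).mpr (c.2.2.2 _ _ (Fin.rev_lt_rev.mpr h))⟩⟩,
    fun k => (hsize _).mpr (c.2.2.1 _), fun k => thetaOf_ne_iota _ _⟩

theorem beta_injective : Function.Injective (beta hr φ hsize) := by
  rintro ⟨k, c, hs, hch⟩ ⟨k', c', hs', hch'⟩ h
  have hk : k = k' := congrArg (fun x : DehomogBasis.IC (Nat.lt_add_of_pos_right hr) φ => x.1.1) h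
  subst hk
  have h1 : (fun i : Fin k => thetaOf (c (Fin.rev i))) = fun i : Fin k => thetaOf (c' (Fin.rev i)) := by
    have h2 := congrArg Subtype.val h
    simp only [beta] at h2
    have h3 := eq_of_heq (Sigma.mk.inj h2).2
    exact congrArg Subtype.val h3
  have hc : c = c' := by
    funext i
    have h4 := congrFun h1 (Fin.rev i)
    rw [Fin.rev_rev] at h4
    exact thetaOf_injective h4
  subst hc
  rfl

theorem beta_surjective : Function.Surjective (beta hr φ hsize) := by
  rintro ⟨⟨k, ⟨f, hf⟩⟩, hle, hne⟩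
  have hex : ∀ i : Fin k, ∃ M : MinorIdx r d, thetaOf M = f i := fun i =>
    exists_minor_of_ne_iota (Nat.lt_add_of_pos_right hr) (f i) (hne i)
  choose Mf hMf using hex
  refine ⟨⟨k, ⟨fun i => Mf (Fin.rev i), ?_, ?_⟩⟩, ?_⟩
  · intro i
    rw [← hsize, hMf]
    exact hle _
  · intro i j hij
    rw [← thetaOf_le_iff, hMf, hMf]
    exact hf (Fin.rev_le_rev.mpr (le_of_lt hij))
  · apply Subtype.ext
    simp only [beta]
    congr 1
    apply Subtype.ext
    funext i
    simp only [Fin.rev_rev]
    exact hMf i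

end Beta

section Main

variable (K : Type u) [Field K] [Infinite K] {d r ν : ℕ} (hr : 0 < r) (hd : 0 < d) (t : ℕ)
  (φ : Idx d (d + r))
  (ha : schubertVanishing K d (d + r) φ ≤
    Ideal.comap (Phi K d r) (CAlgX.minorIdeal (genMatrix K r d) t))
  (hb : ∀ f ∈ CAlgX.minorIdeal (genMatrix K r d) t,
    Theta K d r hr f ∈ schubertVanishing K d (d + r) φ)
  (hsize : ∀ M : MinorIdx r d, thetaOf M ≤ φ ↔ M.1 + 1 ≤ ν)

/-- The family of standard bitableaux in the determinantal ring. -/
noncomputable def vfam (c : SB d r ν) : CellRing K d r ⧸ CAlgX.minorIdeal (genMatrix K r d) t :=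
  Ideal.Quotient.mk _ (∏ i, minorOf K (c.2.1 i))

/-- The constant by which a standard bitableau differs from the image of its standard monomial. -/
noncomputable def Ufam (c : SB d r ν) : Kˣ := ∏ i, unitOf K (c.2.1 i)

/-- The linear map transporting the Plücker side to the determinantal ring. -/
noncomputable def Lmap :
    (PlRing K d (d + r) ⧸ DehomogBasis.JJ K (Nat.lt_add_of_pos_right hr) φ) →ₗ[K]
      (CellRing K d r ⧸ CAlgX.minorIdeal (genMatrix K r d) t) :=
  (rhoBar K d r t).toLinearMap.comp (bridge K d r hr φ _ ha hb).toLinearMap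

theorem Lmap_injective : Function.Injective (Lmap K hr t φ ha hb) := by
  intro x y h
  have h1 : rhoBar K d r t (bridge K d r hr φ _ ha hb x) = rhoBar K d r t (bridge K d r hr φ _ ha hb y) := h
  exact (bridge K d r hr φ _ ha hb).injective (rhoBar_injective K d r t h1)

theorem Lmap_surjective : Function.Surjective (Lmap K hr t φ ha hb) := by
  intro x
  refine ⟨(bridge K d r hr φ _ ha hb).symm (rhoBar K d r t x), ?_⟩
  show rhoBar K d r t (bridge K d r hr φ _ ha hb ((bridge K d r hr φ _ ha hb).symm (rhoBar K d r t x))) = x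
  rw [AlgEquiv.apply_symm_apply, rhoBar_rhoBar]

theorem vfam_eq (c : SB d r ν) :
    vfam K t c = Ufam K c • Lmap K hr t φ ha hb (DehomogBasis.w K _ φ (beta hr φ hsize c)) := by
  have h1 : Lmap K hr t φ ha hb (DehomogBasis.w K _ φ (beta hr φ hsize c)) =
      Ideal.Quotient.mk _ (∏ i, rho K d r (cellMinor K d r (thetaOf (c.2.1 i)))) := by
    show rhoBar K d r t (bridge K d r hr φ _ ha hb (Ideal.Quotient.mk _
      (chainMon K (fun i => thetaOf (c.2.1 (Fin.rev i)))))) = _
    rw [bridge_mk, rhoBar_mk, chainMon, map_prod, map_prod]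
    congr 1
    rw [← Equiv.prod_comp Fin.revPerm (fun i => rho K d r (cellMinor K d r (thetaOf (c.2.1 i))))]
    refine Finset.prod_congr rfl (fun i _ => ?_)
    rw [Phi_X]
    rfl
  rw [h1, vfam, Units.smul_def, Ufam]
  have h2 : (∏ i, minorOf K (c.2.1 i)) =
      C ((∏ i, unitOf K (c.2.1 i) : Kˣ) : K) * ∏ i, rho K d r (cellMinor K d r (thetaOf (c.2.1 i))) := by
    rw [Units.coe_prod, map_prod, ← Finset.prod_mul_distrib]
    exact Finset.prod_congr rfl (fun i _ => minorOf_eq_unitOf K _)
  rw [h2, ← MvPolynomial.smul_eq_C_mul]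
  rfl

include hr hd φ ha hb hsize in
/-- **Standard bitableaux** form a basis of the determinantal ring (abstract form). -/
theorem main :
    LinearIndependent K (vfam K t (d := d) (r := r) (ν := ν)) ∧
      Submodule.span K (Set.range (vfam K t (d := d) (r := r) (ν := ν))) = ⊤ := by
  have hdn : d < d + r := Nat.lt_add_of_pos_right hr
  constructor
  · have h1 := DehomogBasis.linearIndependent_w K hdn φ hd
    have h2 := h1.comp (beta hr φ hsize) (beta_injective hr φ hsize)
    have h3 := h2.map' (Lmap K hr t φ ha hb) (LinearMap.ker_eq_bot.mpr (Lmap_injective K hr t φ ha hb))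
    have h4 := h3.units_smul (Ufam K (d := d) (r := r) (ν := ν))
    have h5 : vfam K t (d := d) (r := r) (ν := ν) =
        Ufam K (d := d) (r := r) (ν := ν) •
          (⇑(Lmap K hr t φ ha hb) ∘ DehomogBasis.w K hdn φ ∘ beta hr φ hsize) := by
      funext c
      rw [vfam_eq K hr t φ ha hb hsize c]
      rfl
    rw [h5]
    exact h4
  · rw [Submodule.eq_top_iff']
    intro x
    obtain ⟨y, rfl⟩ := Lmap_surjective K hr t φ ha hb x
    have hy : y ∈ Submodule.span K (Set.range (DehomogBasis.w K hdn φ)) := by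
      rw [DehomogBasis.span_w]
      exact Submodule.mem_top
    have h1 := Submodule.mem_map_of_mem (f := Lmap K hr t φ ha hb) hy
    rw [Submodule.map_span] at h1
    refine Submodule.span_le.mpr ?_ h1
    rintro _ ⟨_, ⟨c', rfl⟩, rfl⟩
    obtain ⟨c, rfl⟩ := beta_surjective hr φ hsize c'
    have h2 := vfam_eq K hr t φ ha hb hsize c
    have h3 : Lmap K hr t φ ha hb (DehomogBasis.w K hdn φ (beta hr φ hsize c)) =
        (Ufam K c)⁻¹ • vfam K t c := by
      rw [h2, smul_smul, inv_mul_cancel, one_smul]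
    rw [SetLike.mem_coe, h3]
    exact Submodule.smul_mem _ _ (Submodule.subset_span ⟨c, rfl⟩)

end Main

section Final

variable (K : Type u) [Field K] [Infinite K]

omit [Infinite K] in
theorem minorIdeal_eq_bot (m n t : ℕ) (h : min m n < t) :
    CAlgX.minorIdeal (genMatrix K m n) t = ⊥ := by
  rw [eq_bot_iff, CAlgX.minorIdeal, Ideal.span_le]
  rintro _ ⟨⟨f, g⟩, rfl⟩
  rw [SetLike.mem_coe, Ideal.mem_bot]
  simp only
  rcases le_total m n with hmn | hmn
  · have hmt : m < t := by rwa [min_eq_left hmn] at h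
    have hf : ¬ Function.Injective f := by
      intro hinj
      have := Fintype.card_le_of_injective f hinj
      simp only [Fintype.card_fin] at this
      omega
    rw [Function.Injective] at hf
    push Not at hf
    obtain ⟨i, j, hij, hne⟩ := hf
    apply Matrix.det_zero_of_row_eq hne
    funext c
    simp [hij]
  · have hnt : n < t := by rwa [min_eq_right hmn] at h
    have hg : ¬ Function.Injective g := by
      intro hinj
      have := Fintype.card_le_of_injective g hinj
      simp only [Fintype.card_fin] at this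
      omega
    rw [Function.Injective] at hg
    push Not at hg
    obtain ⟨i, j, hij, hne⟩ := hg
    apply Matrix.det_zero_of_column_eq hne
    intro c
    simp [hij]

/-- **Standard bitableaux basis** of the determinantal ring `K[x_{ij}]/I_t`, `1 ≤ t ≤ min(m, n) + 1`. -/
theorem bitableaux (m n t : ℕ) (hm : 0 < m) (hn : 0 < n) (ht : 1 ≤ t) (htmn : t ≤ min m n + 1) :
    LinearIndependent K (fun c : (Σ k : ℕ, {c : Fin k → MinorIdx m n //
        (∀ i, (c i).1 + 1 ≤ t - 1) ∧ ∀ i j, i < j → MinorGE (c i) (c j)}) =>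
        Ideal.Quotient.mk (CAlgX.minorIdeal (genMatrix K m n) t)
          (Finset.univ.prod fun i => minorOf K (c.2.1 i))) ∧
      Submodule.span K (Set.range fun c : (Σ k : ℕ, {c : Fin k → MinorIdx m n //
        (∀ i, (c i).1 + 1 ≤ t - 1) ∧ ∀ i j, i < j → MinorGE (c i) (c j)}) =>
        Ideal.Quotient.mk (CAlgX.minorIdeal (genMatrix K m n) t)
          (Finset.univ.prod fun i => minorOf K (c.2.1 i))) = ⊤ := by
  obtain ⟨ν, rfl⟩ : ∃ ν, t = ν + 1 := ⟨t - 1, by omega⟩
  have hdn : n < n + m := Nat.lt_add_of_pos_right hm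
  by_cases hlt : ν + 1 ≤ min m n
  · have hnd : ν + 1 ≤ n := le_trans hlt (min_le_right _ _)
    have hnr : ν + 1 ≤ m := le_trans hlt (min_le_left _ _)
    exact main K hm hn (ν + 1) (phi n m ν hnd hnr) (schubert_le_comap K n m ν hnd hnr)
      (fun f hf => by
        rw [← sft K m ν n] at hf
        exact Theta_mem K n m ν hnd hnr f hf)
      (fun M => by
        rw [thetaOf_le_phi_iff ν hnd hnr M]
        simp)
  · have hbot : CAlgX.minorIdeal (genMatrix K m n) (ν + 1) = ⊥ :=
      minorIdeal_eq_bot K m n (ν + 1) (by omega)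
    refine main K hm hn (ν + 1) (FFT.topIdx hdn) ?_ ?_ ?_
    · rw [← StdMon.plIdeal_eq K hn, plIdeal, Ideal.span_le]
      rintro f (⟨i, j, s, -, rfl⟩ | ⟨θ, hθ, rfl⟩)
      · rw [SetLike.mem_coe, Ideal.mem_comap, Phi_shuffleRel]
        exact Ideal.zero_mem _
      · exact absurd (FFT.le_topIdx hn hdn θ) hθ
    · intro f hf
      rw [hbot, Ideal.mem_bot] at hf
      rw [hf, map_zero]
      exact Ideal.zero_mem _
    · intro M
      have h1 := size_le_left M
      have h2 := size_le_right M
      constructor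
      · intro _
        have : M.1 + 1 ≤ min m n := le_min h1 h2
        omega
      · intro _
        exact FFT.le_topIdx hn hdn _

end Final

end Groth.Agent.Lib.Seat50.Bitableaux
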