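import Mathlib

set_option autoImplicit false
set_option linter.unusedSectionVars false
universe u
open scoped TensorProduct

namespace Groth.Agent.Lib.Seat50.ReesKoszul

section flatQuot
variable {A : Type u} [CommRing A] {P Q : Type u} [AddCommGroup P] [Module A P]
  [AddCommGroup Q] [Module A Q]

/-- the image of `P ⊗ J → P`. -/
theorem rid_lTensor_mem (J : Ideal A) (η : P ⊗[A] J) :
    TensorProduct.rid A P (LinearMap.lTensor P J.subtype η) ∈ (J • ⊤ : Submodule A P) := by
  induction η using TensorProduct.induction_on with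
  | zero => simp
  | tmul p j =>
    simp only [LinearMap.lTensor_tmul, Submodule.subtype_apply, TensorProduct.rid_tmul]
    exact Submodule.smul_mem_smul j.2 Submodule.mem_top
  | add x y hx hy =>
    rw [map_add, map_add]
    exact Submodule.add_mem _ hx hy

theorem exists_rid_lTensor_eq (J : Ideal A) (w : P) (hw : w ∈ (J • ⊤ : Submodule A P)) :
    ∃ ω : P ⊗[A] J, TensorProduct.rid A P (LinearMap.lTensor P J.subtype ω) = w := by
  refine Submodule.smul_induction_on hw ?_ ?_
  · intro j hj p _
    exact ⟨p ⊗ₜ ⟨j, hj⟩, by simp⟩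
  · intro x y hx hy
    obtain ⟨ωx, rfl⟩ := hx
    obtain ⟨ωy, rfl⟩ := hy
    exact ⟨ωx + ωy, by simp⟩

/-- A quotient `Q = P / m P` of a flat module by the image of an endomorphism `m` which stays
injective modulo every ideal is flat. -/
theorem flat_of_regular_mod_ideals [Module.Flat A P] (m : P →ₗ[A] P) (q : P →ₗ[A] Q)
    (hq : Function.Surjective q) (hex : Function.Exact m q)
    (hreg : ∀ (J : Ideal A) (w : P), m w ∈ (J • ⊤ : Submodule A P) → w ∈ (J • ⊤ : Submodule A P)) :
    Module.Flat A Q := by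
  rw [Module.Flat.iff_lTensor_injective']
  intro J
  rw [injective_iff_map_eq_zero]
  intro ξ hξ
  obtain ⟨η, rfl⟩ := LinearMap.rTensor_surjective J hq ξ
  -- the image of η in P
  set η' : P := TensorProduct.rid A P (LinearMap.lTensor P J.subtype η) with hη'
  have h1 : q η' = 0 := by
    have e : q η' = TensorProduct.rid A Q
        (LinearMap.lTensor Q J.subtype (LinearMap.rTensor J q η)) := by
      rw [hη']
      clear hξ hη'
      induction η using TensorProduct.induction_on with
      | zero => simp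
      | tmul p j => simp
      | add x y hx hy => simp only [map_add, hx, hy]
    rw [e, hξ, map_zero]
  obtain ⟨w, hw⟩ := (hex η').mp h1
  have h2 : m w ∈ (J • ⊤ : Submodule A P) := by
    rw [hw]
    exact rid_lTensor_mem J η
  obtain ⟨ω, hω⟩ := exists_rid_lTensor_eq J w (hreg J w h2)
  have h3 : η = LinearMap.rTensor J m ω := by
    have hinj : Function.Injective (LinearMap.lTensor P J.subtype) :=
      Module.Flat.lTensor_preserves_injective_linearMap _ Subtype.val_injective
    apply hinj
    apply (TensorProduct.rid A P).injective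
    rw [← hη', ← hw, ← hω]
    clear hω h2 hw h1 hξ hη'
    induction ω using TensorProduct.induction_on with
    | zero => simp
    | tmul p j => simp
    | add x y hx hy => simp only [map_add, hx, hy]
  rw [h3, ← LinearMap.comp_apply, ← LinearMap.rTensor_comp]
  have : q ∘ₗ m = 0 := by
    ext p
    exact (hex (m p)).mpr ⟨p, rfl⟩
  rw [this, LinearMap.rTensor_zero, LinearMap.zero_apply]

end flatQuot


section reg
open MvPolynomial

/-- `r x_i - c` is a nonzerodivisor of `R[x]` when `r` is a nonzerodivisor of `R`. -/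
theorem linear_regular {σ : Type*} {R : Type*} [CommRing R] (r c : R)
    (hr : ∀ x : R, r * x = 0 → x = 0) (i : σ) (w : MvPolynomial σ R)
    (h : (C r * X i - C c) * w = 0) : w = 0 := by
  classical
  by_contra hw
  have hne : w.support.Nonempty := by
    rwa [Finset.nonempty_iff_ne_empty, Ne, MvPolynomial.support_eq_empty]
  obtain ⟨m, hm, hmax⟩ := Finset.exists_max_image w.support (fun m => m i) hne
  have h0 : coeff (m + Finsupp.single i 1) w = 0 := by
    by_contra hc
    have := hmax _ (MvPolynomial.mem_support_iff.mpr hc)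
    simp at this
  have h1 := congrArg (coeff (m + Finsupp.single i 1)) h
  rw [sub_mul, coeff_sub, mul_assoc, coeff_C_mul, coeff_C_mul, h0, mul_zero, sub_zero,
    mul_comm (X i) w, coeff_mul_X, coeff_zero] at h1
  exact (MvPolynomial.mem_support_iff.mp hm) (hr _ h1)

end reg

section stab

/-- Noetherian stabilisation of the `u`-power torsion modulo an ideal. -/
theorem exists_pow_stab {R : Type*} [CommRing R] [IsNoetherianRing R] (L : Ideal R) (u : R) :
    ∃ e : ℕ, ∀ (z : R) (k : ℕ), u ^ k * z ∈ L → u ^ e * z ∈ L := by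
  let f : ℕ →o Submodule R R :=
    { toFun := fun k => Submodule.comap (LinearMap.mulLeft R (u ^ k)) L
      monotone' := by
        intro k k' hkk' z hz
        obtain ⟨d, rfl⟩ := Nat.exists_eq_add_of_le hkk'
        simp only [Submodule.mem_comap, LinearMap.mulLeft_apply] at hz ⊢
        rw [pow_add, mul_comm (u ^ k), mul_assoc]
        exact Ideal.mul_mem_left _ _ hz }
  obtain ⟨e, he⟩ := (monotone_stabilizes_iff_noetherian (R := R) (M := R)).mpr inferInstance f
  refine ⟨e, fun z k hz => ?_⟩
  rcases le_total k e with hk | hk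
  · obtain ⟨d, rfl⟩ := Nat.exists_eq_add_of_le hk
    rw [pow_add, mul_comm (u ^ k), mul_assoc]
    exact Ideal.mul_mem_left _ _ hz
  · have h1 : z ∈ f k := hz
    rw [← he k hk] at h1
    exact h1

end stab


section setup
open MvPolynomial

variable (A : Type u) [CommRing A] (t : ℕ)

/-- `A[u][x_1, …, x_t]`. -/
abbrev PP : Type u := MvPolynomial (Fin t) (Polynomial A)

/-- the variable `u`. -/
noncomputable def uu : PP A t := C Polynomial.X

variable {A t}

/-- `y_i = u x_i - a_i`. -/
noncomputable def yy (a : Fin t → A) (i : Fin t) : PP A t :=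
  C Polynomial.X * X i - C (Polynomial.C (a i))

/-- the ideal `(y_i : i < s)`. -/
noncomputable def LL (a : Fin t → A) (s : ℕ) : Ideal (PP A t) :=
  Ideal.span (yy a '' {i | i.val < s})

theorem yy_mem_LL (a : Fin t → A) (s : ℕ) (i : Fin t) (hi : i.val < s) : yy a i ∈ LL a s :=
  Ideal.subset_span ⟨i, hi, rfl⟩

theorem LL_mono (a : Fin t → A) {s s' : ℕ} (h : s ≤ s') : LL a s ≤ LL a s' :=
  Ideal.span_mono (Set.image_mono fun _ hi => lt_of_lt_of_le hi h)

theorem LL_succ (a : Fin t → A) (s : ℕ) (hs : s < t) :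
    LL a (s + 1) = Ideal.span {yy a ⟨s, hs⟩} ⊔ LL a s := by
  unfold LL
  rw [← Ideal.span_insert, ← Set.image_insert_eq]
  congr 2
  ext i
  simp only [Set.mem_ofPred_eq, Set.mem_insert_iff, Fin.ext_iff]
  omega

theorem X_mem_supported' (S : Set (Fin t)) {i : Fin t} (hi : i ∈ S) :
    (X i : PP A t) ∈ supported (Polynomial A) S := by
  rw [supported_eq_adjoin_X]
  exact Algebra.subset_adjoin ⟨i, hi, rfl⟩

theorem uu_mem_supported (S : Set (Fin t)) : uu A t ∈ supported (Polynomial A) S :=
  (supported (Polynomial A) S).algebraMap_mem Polynomial.X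

/-- **Homogenisation.** Modulo `(y_i : i < s)`, after multiplying by a power of `u`, every
polynomial only involves the variables `x_i`, `i ≥ s`. -/
theorem exists_homog (a : Fin t → A) (s : ℕ) (z : PP A t) :
    ∃ (d : ℕ) (z' : PP A t), z' ∈ supported (Polynomial A) {i : Fin t | s ≤ i.val} ∧
      uu A t ^ d * z - z' ∈ LL a s := by
  induction z using MvPolynomial.induction_on with
  | C p =>
    exact ⟨0, C p, (supported (Polynomial A) _).algebraMap_mem p, by simp⟩
  | add z1 z2 h1 h2 =>
    obtain ⟨d1, w1, hw1, hz1⟩ := h1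
    obtain ⟨d2, w2, hw2, hz2⟩ := h2
    refine ⟨d1 + d2, uu A t ^ d2 * w1 + uu A t ^ d1 * w2, ?_, ?_⟩
    · exact add_mem (mul_mem (pow_mem (uu_mem_supported _) _) hw1)
        (mul_mem (pow_mem (uu_mem_supported _) _) hw2)
    · have : uu A t ^ (d1 + d2) * (z1 + z2) - (uu A t ^ d2 * w1 + uu A t ^ d1 * w2) =
          uu A t ^ d2 * (uu A t ^ d1 * z1 - w1) + uu A t ^ d1 * (uu A t ^ d2 * z2 - w2) := by
        ring
      rw [this]
      exact add_mem (Ideal.mul_mem_left _ _ hz1) (Ideal.mul_mem_left _ _ hz2)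
  | mul_X z i h =>
    obtain ⟨d, w, hw, hz⟩ := h
    by_cases hi : s ≤ i.val
    · refine ⟨d, w * X i, mul_mem hw (X_mem_supported' _ hi), ?_⟩
      have : uu A t ^ d * (z * X i) - w * X i = (uu A t ^ d * z - w) * X i := by ring
      rw [this]
      exact Ideal.mul_mem_right _ _ hz
    · refine ⟨d + 1, w * C (Polynomial.C (a i)),
        mul_mem hw ((supported (Polynomial A) _).algebraMap_mem _), ?_⟩
      have : uu A t ^ (d + 1) * (z * X i) - w * C (Polynomial.C (a i)) =
          uu A t ^ d * z * yy a i + (uu A t ^ d * z - w) * C (Polynomial.C (a i)) := by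
        unfold yy uu
        ring
      rw [this]
      exact add_mem (Ideal.mul_mem_left _ _ (yy_mem_LL a s i (by omega)))
        (Ideal.mul_mem_right _ _ hz)

end setup


section laurent
open MvPolynomial

variable {A : Type u} [CommRing A] {t : ℕ}

theorem yy_mem_supported (a : Fin t → A) (S : Set (Fin t)) {i : Fin t} (hi : i ∈ S) :
    yy a i ∈ supported (Polynomial A) S :=
  sub_mem (mul_mem ((supported (Polynomial A) S).algebraMap_mem _) (X_mem_supported' S hi))
    ((supported (Polynomial A) S).algebraMap_mem _)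

/-- the evaluation `x_i ↦ a_i T⁻¹` (`i < s`), `u ↦ T`, keeping the `x_i` with `i ≥ s`. -/
noncomputable def phi (a : Fin t → A) (s : ℕ) :
    PP A t →+* MvPolynomial (Fin t) (LaurentPolynomial A) :=
  eval₂Hom ((C : LaurentPolynomial A →+* MvPolynomial (Fin t) (LaurentPolynomial A)).comp
      (Polynomial.toLaurent (R := A)))
    (fun i => if i.val < s then C (LaurentPolynomial.C (a i) * LaurentPolynomial.T (-1)) else X i)

theorem T_one_mul_C_mul_T_neg_one (r : A) :
    (LaurentPolynomial.T 1 : LaurentPolynomial A) *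
      (LaurentPolynomial.C r * LaurentPolynomial.T (-1)) = LaurentPolynomial.C r := by
  rw [← mul_assoc, mul_comm (LaurentPolynomial.T 1), mul_assoc, ← LaurentPolynomial.T_add]
  simp

theorem phi_yy (a : Fin t → A) (s : ℕ) (i : Fin t) (hi : i.val < s) : phi a s (yy a i) = 0 := by
  unfold phi yy
  rw [map_sub, map_mul, eval₂Hom_C, eval₂Hom_C, eval₂Hom_X']
  simp only [RingHom.comp_apply, if_pos hi, Polynomial.toLaurent_X, Polynomial.toLaurent_C]
  rw [← C_mul, T_one_mul_C_mul_T_neg_one, sub_self]

theorem LL_le_ker_phi (a : Fin t → A) (s : ℕ) : LL a s ≤ RingHom.ker (phi a s) := by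
  unfold LL
  rw [Ideal.span_le]
  rintro _ ⟨i, hi, rfl⟩
  exact phi_yy a s i hi

theorem phi_eq_map (a : Fin t → A) (s : ℕ) (z : PP A t)
    (hz : z ∈ supported (Polynomial A) {i : Fin t | s ≤ i.val}) :
    phi a s z = MvPolynomial.map (Polynomial.toLaurent (R := A)) z := by
  refine hom_congr_vars (f₁ := phi a s)
    (f₂ := MvPolynomial.map (Polynomial.toLaurent (R := A))) ?_ ?_ rfl
  · refine RingHom.ext fun p => ?_
    simp [phi]
  · intro i hi _
    have : s ≤ i.val := (mem_supported.mp hz) (by exact_mod_cast hi)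
    simp [phi, not_lt.mpr this]

theorem X_mul_eq_zero' (p : Polynomial A) (h : Polynomial.X * p = 0) : p = 0 :=
  (Polynomial.monic_X.mul_right_eq_zero_iff).mp h

/-- **Key lemma.** Modulo `(y_i : i < s)`, the kernel of `y_s` is killed by a fixed power of `u`. -/
theorem exists_pow_kill [IsNoetherianRing A] (a : Fin t → A) (s : ℕ) (hs : s < t) :
    ∃ e : ℕ, ∀ z : PP A t, yy a ⟨s, hs⟩ * z ∈ LL a s → uu A t ^ e * z ∈ LL a s := by
  obtain ⟨e, he⟩ := exists_pow_stab (LL a s) (uu A t)
  refine ⟨e, fun z hz => ?_⟩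
  obtain ⟨d, z', hz', hd⟩ := exists_homog a s z
  refine he z d ?_
  have h1 : yy a ⟨s, hs⟩ * z' ∈ LL a s := by
    have : yy a ⟨s, hs⟩ * z' =
        uu A t ^ d * (yy a ⟨s, hs⟩ * z) - yy a ⟨s, hs⟩ * (uu A t ^ d * z - z') := by ring
    rw [this]
    exact sub_mem (Ideal.mul_mem_left _ _ hz) (Ideal.mul_mem_left _ _ hd)
  have h2 : yy a ⟨s, hs⟩ * z' ∈ supported (Polynomial A) {i : Fin t | s ≤ i.val} := by
    have h0 : (⟨s, hs⟩ : Fin t) ∈ {i : Fin t | s ≤ i.val} := le_refl s
    exact mul_mem (yy_mem_supported a _ h0) hz'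
  have h3 : yy a ⟨s, hs⟩ * z' = 0 := by
    have := LL_le_ker_phi a s h1
    rw [RingHom.mem_ker, phi_eq_map a s _ h2] at this
    refine (map_injective _ Polynomial.toLaurent_injective) ?_
    rw [this, map_zero]
  have h4 : z' = 0 := by
    unfold yy at h3
    exact linear_regular (σ := Fin t) (R := Polynomial A) Polynomial.X (Polynomial.C (a ⟨s, hs⟩))
      X_mul_eq_zero' ⟨s, hs⟩ z' h3
  rw [h4, sub_zero] at hd
  exact hd

/-- the evaluation `x_i ↦ a_i T⁻¹`, `u ↦ T` onto the extended Rees algebra. -/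
noncomputable def piA (a : Fin t → A) : PP A t →ₐ[A] LaurentPolynomial A :=
  { eval₂Hom (Polynomial.toLaurent (R := A))
      (fun i => LaurentPolynomial.C (a i) * LaurentPolynomial.T (-1)) with
    commutes' := fun r => by
      change eval₂Hom _ _ (C (Polynomial.C r)) = _
      rw [eval₂Hom_C, Polynomial.toLaurent_C]
      rfl }

theorem piA_C (a : Fin t → A) (p : Polynomial A) : piA a (C p) = Polynomial.toLaurent p :=
  eval₂Hom_C _ _ _

theorem piA_X (a : Fin t → A) (i : Fin t) :
    piA a (X i) = LaurentPolynomial.C (a i) * LaurentPolynomial.T (-1) :=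
  eval₂Hom_X' _ _ _

theorem piA_uu (a : Fin t → A) : piA a (uu A t) = LaurentPolynomial.T 1 := by
  unfold uu
  rw [piA_C, Polynomial.toLaurent_X]

theorem piA_yy (a : Fin t → A) (i : Fin t) : piA a (yy a i) = 0 := by
  unfold yy
  rw [map_sub, map_mul, piA_C, piA_C, piA_X, Polynomial.toLaurent_X, Polynomial.toLaurent_C,
    T_one_mul_C_mul_T_neg_one, sub_self]

theorem LL_le_ker_piA (a : Fin t → A) (s : ℕ) : LL a s ≤ RingHom.ker (piA a) := by
  unfold LL
  rw [Ideal.span_le]
  rintro _ ⟨i, _, rfl⟩
  exact piA_yy a i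

/-- the kernel of `piA` modulo `(y_i : i < t)` is killed by a fixed power of `u`. -/
theorem exists_pow_kill_ker [IsNoetherianRing A] (a : Fin t → A) :
    ∃ e : ℕ, ∀ z : PP A t, piA a z = 0 → uu A t ^ e * z ∈ LL a t := by
  obtain ⟨e, he⟩ := exists_pow_stab (LL a t) (uu A t)
  refine ⟨e, fun z hz => ?_⟩
  obtain ⟨d, z', hz', hd⟩ := exists_homog a t z
  refine he z d ?_
  have h1 : piA a z' = 0 := by
    have := LL_le_ker_piA a t hd
    rw [RingHom.mem_ker, map_sub, map_mul, hz, mul_zero, zero_sub, neg_eq_zero] at this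
    exact this
  have h2 : {i : Fin t | t ≤ i.val} = ∅ := by
    ext i
    simp
  rw [h2, supported_empty] at hz'
  obtain ⟨p, rfl⟩ := hz'
  have h3 : p = 0 := by
    apply Polynomial.toLaurent_injective
    rw [map_zero, ← h1]
    exact (piA_C a p).symm
  rw [h3] at hd
  simpa using hd

end laurent


section flatQ1
open MvPolynomial

variable {A : Type u} [CommRing A] {t : ℕ}

theorem mem_smul_top_iff (J : Ideal A) (w : PP A t) :
    w ∈ (J • ⊤ : Submodule A (PP A t)) ↔
      MvPolynomial.map (Polynomial.mapRingHom (Ideal.Quotient.mk J)) w = 0 := by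
  rw [Ideal.smul_top_eq_map, Submodule.restrictScalars_mem, ← RingHom.mem_ker, MvPolynomial.ker_map,
    Polynomial.ker_mapRingHom, Ideal.mk_ker, Ideal.map_map]
  rfl

theorem LL_zero (a : Fin t → A) : LL a 0 = ⊥ := by
  unfold LL
  simp

theorem LL_one (a : Fin t → A) (ht : 0 < t) : LL a 1 = Ideal.span {yy a ⟨0, ht⟩} := by
  rw [LL_succ a 0 ht, LL_zero, sup_bot_eq]

/-- `A[u][x]/(u x_0 - a_0)` is flat over `A`. -/
theorem flat_quot_LL_one (a : Fin t → A) (ht : 0 < t) : Module.Flat A (PP A t ⧸ LL a 1) := by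
  refine flat_of_regular_mod_ideals (P := PP A t) (LinearMap.mulLeft A (yy a ⟨0, ht⟩))
    (Ideal.Quotient.mkₐ A (LL a 1)).toLinearMap Ideal.Quotient.mk_surjective ?_ ?_
  · intro z
    rw [AlgHom.toLinearMap_apply, Ideal.Quotient.mkₐ_eq_mk, Ideal.Quotient.eq_zero_iff_mem, LL_one a ht,
      Ideal.mem_span_singleton']
    constructor
    · rintro ⟨w, rfl⟩
      exact ⟨w, by rw [LinearMap.mulLeft_apply, mul_comm]⟩
    · rintro ⟨w, rfl⟩
      exact ⟨w, by rw [LinearMap.mulLeft_apply, mul_comm]⟩
  · intro J w hw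
    rw [mem_smul_top_iff] at hw ⊢
    rw [LinearMap.mulLeft_apply, map_mul] at hw
    unfold yy at hw
    rw [map_sub, map_mul, map_C, map_C, map_X, Polynomial.coe_mapRingHom, Polynomial.map_X,
      Polynomial.map_C] at hw
    exact linear_regular (σ := Fin t) (R := Polynomial (A ⧸ J)) Polynomial.X _ X_mul_eq_zero' _ _ hw

end flatQ1

section range
open MvPolynomial

variable {A : Type u} [CommRing A] {t : ℕ}

theorem C_mul_T_mem_range_of_mem_span (a : Fin t → A) (b : A)
    (hb : b ∈ Ideal.span (Set.range a)) :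
    LaurentPolynomial.C b * LaurentPolynomial.T (-1) ∈ (piA a).range := by
  refine Submodule.span_induction (p := fun b _ =>
    LaurentPolynomial.C b * LaurentPolynomial.T (-1) ∈ (piA a).range) ?_ ?_ ?_ ?_ hb
  · rintro _ ⟨i, rfl⟩
    exact ⟨X i, piA_X a i⟩
  · rw [map_zero, zero_mul]
    exact zero_mem _
  · intro x y _ _ hx hy
    rw [map_add, add_mul]
    exact add_mem hx hy
  · intro c x _ hx
    rw [smul_eq_mul, map_mul, mul_assoc]
    refine mul_mem ⟨C (Polynomial.C c), ?_⟩ hx
    show piA a _ = _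
    rw [piA_C, Polynomial.toLaurent_C]

/-- (a) `I^n T^{-n}` lies in the extended Rees algebra. -/
theorem C_mul_T_mem_range (a : Fin t → A) (n : ℕ) (r : A)
    (hr : r ∈ Ideal.span (Set.range a) ^ n) :
    LaurentPolynomial.C r * LaurentPolynomial.T (-(n : ℤ)) ∈ (piA a).range := by
  induction n generalizing r with
  | zero =>
    refine ⟨C (Polynomial.C r), ?_⟩
    show piA a _ = _
    rw [piA_C, Polynomial.toLaurent_C]
    simp
  | succ n ih =>
    rw [pow_succ] at hr
    refine Submodule.mul_induction_on hr ?_ ?_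
    · intro m hm b hb
      have : LaurentPolynomial.C (m * b) * LaurentPolynomial.T (-((n + 1 : ℕ) : ℤ)) =
          (LaurentPolynomial.C m * LaurentPolynomial.T (-(n : ℤ))) *
            (LaurentPolynomial.C b * LaurentPolynomial.T (-1)) := by
        have e : (-((n + 1 : ℕ) : ℤ)) = -(n : ℤ) + -1 := by push_cast; ring
        rw [e, LaurentPolynomial.T_add, map_mul]
        ring
      rw [this]
      exact mul_mem (ih m hm) (C_mul_T_mem_range_of_mem_span a b hb)
    · intro x y hx hy
      rw [map_add, add_mul]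
      exact add_mem hx hy

theorem coeff_toLaurent_neg (p : Polynomial A) (n : ℕ) :
    (Polynomial.toLaurent p).coeff (-((n + 1 : ℕ) : ℤ)) = 0 := by
  by_contra h
  have h1 : (-((n + 1 : ℕ) : ℤ)) ∈ (Polynomial.toLaurent p).coeff.support :=
    Finsupp.mem_support_iff.mpr h
  rw [LaurentPolynomial.support_coeff_toLaurent, Finset.mem_map] at h1
  obtain ⟨k, _, hk⟩ := h1
  simp only [Nat.castEmbedding_apply] at hk
  omega

/-- (b) the coefficient of `T^{-n}` of an element of the extended Rees algebra lies in `I^n`. -/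
theorem coeff_mem_pow_of_mem_range (a : Fin t → A) (I : Ideal A) (hI : ∀ i, a i ∈ I)
    (f : LaurentPolynomial A) (hf : f ∈ (piA a).range) (n : ℕ) :
    f.coeff (-(n : ℤ)) ∈ I ^ n := by
  rw [AlgHom.mem_range] at hf
  obtain ⟨z, rfl⟩ := hf
  induction z using MvPolynomial.induction_on generalizing n with
  | C p =>
    rw [piA_C]
    cases n with
    | zero => simp
    | succ n =>
      rw [coeff_toLaurent_neg]
      exact zero_mem _
  | add z1 z2 h1 h2 =>
    rw [map_add, AddMonoidAlgebra.coeff_add, Finsupp.add_apply]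
    exact add_mem (h1 n) (h2 n)
  | mul_X z i h =>
    rw [map_mul, piA_X, ← LaurentPolynomial.single_eq_C_mul_T, AddMonoidAlgebra.coeff_mul_single_apply]
    cases n with
    | zero => simp
    | succ n =>
      have e : (-((n + 1 : ℕ) : ℤ)) + - -1 = -(n : ℤ) := by push_cast; ring
      rw [e, pow_succ]
      exact Ideal.mul_mem_mul (h n) (hI i)

end range

end Groth.Agent.Lib.Seat50.ReesKoszul
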