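import Mathlib
import Groth.Prelude.Def_BlowUp2
import Groth.Agent.Lib.Seat50ReesKoszul

/-!
# Seat50BlowupAlg (helper50): the presentation `A[z_1..z_t]/(a_0 z_i - a_i)` of the affine blow-up
algebra `A[I/a_0]`, with the analogue of the key kernel lemma (`a_0`-power torsion).
-/

set_option autoImplicit false
set_option linter.unusedSectionVars false
universe u

namespace Groth.Agent.Lib.Seat50.BlowupAlg
open MvPolynomial Groth.Agent.Lib.Seat50.ReesKoszul

section ker
variable {A : Type u} [CommRing A]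

/-- elements of the kernel of `A[x] → A_{a}[x]` are killed by a power of `a`. -/
theorem exists_pow_mul_eq_zero_of_map_eq_zero {σ : Type*} (a0 : A) (z : MvPolynomial σ A)
    (hz : MvPolynomial.map (algebraMap A (Localization.Away a0)) z = 0) :
    ∃ d : ℕ, C a0 ^ d * z = 0 := by
  classical
  have h1 : ∀ m : σ →₀ ℕ, ∃ d : ℕ, a0 ^ d * coeff m z = 0 := by
    intro m
    have := congrArg (coeff m) hz
    rw [coeff_map, coeff_zero,
      IsLocalization.map_eq_zero_iff (Submonoid.powers a0) (Localization.Away a0)] at this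
    obtain ⟨⟨_, ⟨d, rfl⟩⟩, hd⟩ := this
    exact ⟨d, hd⟩
  choose d hd using h1
  refine ⟨z.support.sup d, ?_⟩
  ext m
  rw [← map_pow, coeff_C_mul, coeff_zero]
  by_cases hm : m ∈ z.support
  · obtain ⟨k, hk⟩ := Nat.exists_eq_add_of_le (Finset.le_sup (f := d) hm)
    rw [hk, pow_add, mul_comm (a0 ^ d m), mul_assoc, hd m, mul_zero]
  · rw [MvPolynomial.notMem_support_iff.mp hm, mul_zero]

theorem exists_pow_mul_eq_zero_of_algebraMap_eq_zero (a0 r : A)
    (hr : algebraMap A (Localization.Away a0) r = 0) : ∃ d : ℕ, a0 ^ d * r = 0 := by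
  rw [IsLocalization.map_eq_zero_iff (Submonoid.powers a0) (Localization.Away a0)] at hr
  obtain ⟨⟨_, ⟨d, rfl⟩⟩, hd⟩ := hr
  exact ⟨d, hd⟩

end ker

section setup
variable (A : Type u) [CommRing A] (t : ℕ)

/-- `A[z_1, …, z_t]`. -/
abbrev QQ : Type u := MvPolynomial (Fin t) A

variable {A t}

/-- the constant `a_0`. -/
noncomputable def vv (a : Fin (t + 1) → A) : QQ A t := C (a 0)

/-- `w_i = a_0 z_i - a_{i+1}`. -/
noncomputable def ww (a : Fin (t + 1) → A) (i : Fin t) : QQ A t :=
  C (a 0) * X i - C (a i.succ)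

/-- the ideal `(w_i : i < s)`. -/
noncomputable def MM (a : Fin (t + 1) → A) (s : ℕ) : Ideal (QQ A t) :=
  Ideal.span (ww a '' {i | i.val < s})

theorem ww_mem_MM (a : Fin (t + 1) → A) (s : ℕ) (i : Fin t) (hi : i.val < s) : ww a i ∈ MM a s :=
  Ideal.subset_span ⟨i, hi, rfl⟩

theorem MM_mono (a : Fin (t + 1) → A) {s s' : ℕ} (h : s ≤ s') : MM a s ≤ MM a s' :=
  Ideal.span_mono (Set.image_mono fun _ hi => lt_of_lt_of_le hi h)

theorem MM_succ (a : Fin (t + 1) → A) (s : ℕ) (hs : s < t) :
    MM a (s + 1) = Ideal.span {ww a ⟨s, hs⟩} ⊔ MM a s := by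
  unfold MM
  rw [← Ideal.span_insert, ← Set.image_insert_eq]
  congr 2
  ext i
  simp only [Set.mem_ofPred_eq, Set.mem_insert_iff, Fin.ext_iff]
  omega

theorem MM_zero (a : Fin (t + 1) → A) : MM a 0 = ⊥ := by
  unfold MM
  simp

theorem X_mem_supported'' (S : Set (Fin t)) {i : Fin t} (hi : i ∈ S) :
    (X i : QQ A t) ∈ supported A S := by
  rw [supported_eq_adjoin_X]
  exact Algebra.subset_adjoin ⟨i, hi, rfl⟩

theorem vv_mem_supported (a : Fin (t + 1) → A) (S : Set (Fin t)) : vv a ∈ supported A S :=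
  (supported A S).algebraMap_mem (a 0)

theorem ww_mem_supported (a : Fin (t + 1) → A) (S : Set (Fin t)) {i : Fin t} (hi : i ∈ S) :
    ww a i ∈ supported A S :=
  sub_mem (mul_mem ((supported A S).algebraMap_mem _) (X_mem_supported'' S hi))
    ((supported A S).algebraMap_mem _)

/-- **Homogenisation.** -/
theorem exists_homog (a : Fin (t + 1) → A) (s : ℕ) (z : QQ A t) :
    ∃ (d : ℕ) (z' : QQ A t), z' ∈ supported A {i : Fin t | s ≤ i.val} ∧
      vv a ^ d * z - z' ∈ MM a s := by
  induction z using MvPolynomial.induction_on with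
  | C p =>
    exact ⟨0, C p, (supported A _).algebraMap_mem p, by simp⟩
  | add z1 z2 h1 h2 =>
    obtain ⟨d1, w1, hw1, hz1⟩ := h1
    obtain ⟨d2, w2, hw2, hz2⟩ := h2
    refine ⟨d1 + d2, vv a ^ d2 * w1 + vv a ^ d1 * w2, ?_, ?_⟩
    · exact add_mem (mul_mem (pow_mem (vv_mem_supported a _) _) hw1)
        (mul_mem (pow_mem (vv_mem_supported a _) _) hw2)
    · have : vv a ^ (d1 + d2) * (z1 + z2) - (vv a ^ d2 * w1 + vv a ^ d1 * w2) =
          vv a ^ d2 * (vv a ^ d1 * z1 - w1) + vv a ^ d1 * (vv a ^ d2 * z2 - w2) := by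
        ring
      rw [this]
      exact add_mem (Ideal.mul_mem_left _ _ hz1) (Ideal.mul_mem_left _ _ hz2)
  | mul_X z i h =>
    obtain ⟨d, w, hw, hz⟩ := h
    by_cases hi : s ≤ i.val
    · refine ⟨d, w * X i, mul_mem hw (X_mem_supported'' _ hi), ?_⟩
      have : vv a ^ d * (z * X i) - w * X i = (vv a ^ d * z - w) * X i := by ring
      rw [this]
      exact Ideal.mul_mem_right _ _ hz
    · refine ⟨d + 1, w * C (a i.succ), mul_mem hw ((supported A _).algebraMap_mem _), ?_⟩
      have : vv a ^ (d + 1) * (z * X i) - w * C (a i.succ) =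
          vv a ^ d * z * ww a i + (vv a ^ d * z - w) * C (a i.succ) := by
        unfold ww vv
        ring
      rw [this]
      exact add_mem (Ideal.mul_mem_left _ _ (ww_mem_MM a s i (by omega)))
        (Ideal.mul_mem_right _ _ hz)

/-- the fraction `a_{i+1} / a_0`. -/
noncomputable def frac (a : Fin (t + 1) → A) (i : Fin t) : Localization.Away (a 0) :=
  IsLocalization.mk' (Localization.Away (a 0)) (a i.succ)
    (⟨a 0, Submonoid.mem_powers (a 0)⟩ : Submonoid.powers (a 0))

theorem algebraMap_mul_frac (a : Fin (t + 1) → A) (i : Fin t) :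
    algebraMap A (Localization.Away (a 0)) (a 0) * frac a i =
      algebraMap A (Localization.Away (a 0)) (a i.succ) :=
  IsLocalization.mk'_spec' (Localization.Away (a 0)) (a i.succ)
    (⟨a 0, Submonoid.mem_powers (a 0)⟩ : Submonoid.powers (a 0))

/-- the evaluation `z_i ↦ a_{i+1}/a_0` (`i < s`), keeping the `z_i` with `i ≥ s`. -/
noncomputable def phi (a : Fin (t + 1) → A) (s : ℕ) :
    QQ A t →+* MvPolynomial (Fin t) (Localization.Away (a 0)) :=
  eval₂Hom ((C : Localization.Away (a 0) →+* MvPolynomial (Fin t) (Localization.Away (a 0))).comp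
      (algebraMap A (Localization.Away (a 0))))
    (fun i => if i.val < s then C (frac a i) else X i)

theorem phi_ww (a : Fin (t + 1) → A) (s : ℕ) (i : Fin t) (hi : i.val < s) :
    phi a s (ww a i) = 0 := by
  unfold phi ww
  rw [map_sub, map_mul, eval₂Hom_C, eval₂Hom_C, eval₂Hom_X']
  simp only [RingHom.comp_apply, if_pos hi]
  rw [← C_mul, algebraMap_mul_frac, sub_self]

theorem MM_le_ker_phi (a : Fin (t + 1) → A) (s : ℕ) : MM a s ≤ RingHom.ker (phi a s) := by
  unfold MM
  rw [Ideal.span_le]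
  rintro _ ⟨i, hi, rfl⟩
  exact phi_ww a s i hi

theorem phi_eq_map (a : Fin (t + 1) → A) (s : ℕ) (z : QQ A t)
    (hz : z ∈ supported A {i : Fin t | s ≤ i.val}) :
    phi a s z = MvPolynomial.map (algebraMap A (Localization.Away (a 0))) z := by
  refine hom_congr_vars (f₁ := phi a s)
    (f₂ := MvPolynomial.map (algebraMap A (Localization.Away (a 0)))) ?_ ?_ rfl
  · refine RingHom.ext fun p => ?_
    simp [phi]
  · intro i hi _
    have : s ≤ i.val := (mem_supported.mp hz) (by exact_mod_cast hi)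
    simp [phi, not_lt.mpr this]

/-- **Key lemma** (blow-up chart version). -/
theorem exists_pow_kill [IsNoetherianRing A] (a : Fin (t + 1) → A) (s : ℕ) (hs : s < t) :
    ∃ e : ℕ, ∀ z : QQ A t, ww a ⟨s, hs⟩ * z ∈ MM a s → vv a ^ e * z ∈ MM a s := by
  obtain ⟨e, he⟩ := exists_pow_stab (MM a s) (vv a)
  refine ⟨e, fun z hz => ?_⟩
  obtain ⟨d, z', hz', hd⟩ := exists_homog a s z
  have h1 : ww a ⟨s, hs⟩ * z' ∈ MM a s := by
    have : ww a ⟨s, hs⟩ * z' =
        vv a ^ d * (ww a ⟨s, hs⟩ * z) - ww a ⟨s, hs⟩ * (vv a ^ d * z - z') := by ring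
    rw [this]
    exact sub_mem (Ideal.mul_mem_left _ _ hz) (Ideal.mul_mem_left _ _ hd)
  have h2 : ww a ⟨s, hs⟩ * z' ∈ supported A {i : Fin t | s ≤ i.val} := by
    have h0 : (⟨s, hs⟩ : Fin t) ∈ {i : Fin t | s ≤ i.val} := le_refl s
    exact mul_mem (ww_mem_supported a _ h0) hz'
  have h3 : MvPolynomial.map (algebraMap A (Localization.Away (a 0))) z' = 0 := by
    have := MM_le_ker_phi a s h1
    rw [RingHom.mem_ker, phi_eq_map a s _ h2, map_mul] at this
    unfold ww at this
    rw [map_sub, map_mul, map_C, map_C, map_X] at this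
    refine linear_regular (σ := Fin t) (R := Localization.Away (a 0)) _ _ ?_ _ _ this
    intro x hx
    exact (IsUnit.mul_right_eq_zero (IsLocalization.Away.algebraMap_isUnit (a 0))).mp hx
  obtain ⟨d', hd'⟩ := exists_pow_mul_eq_zero_of_map_eq_zero (a 0) z' h3
  refine he z (d' + d) ?_
  have : vv a ^ (d' + d) * z = vv a ^ d' * (vv a ^ d * z - z') + C (a 0) ^ d' * z' := by
    unfold vv
    ring
  rw [this, hd', add_zero]
  exact Ideal.mul_mem_left _ _ hd

/-- the evaluation `z_i ↦ a_{i+1}/a_0`. -/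
noncomputable def rho (a : Fin (t + 1) → A) : QQ A t →ₐ[A] Localization.Away (a 0) :=
  aeval (frac a)

theorem rho_ww (a : Fin (t + 1) → A) (i : Fin t) : rho a (ww a i) = 0 := by
  unfold rho ww
  rw [map_sub, map_mul, aeval_C, aeval_C, aeval_X, algebraMap_mul_frac, sub_self]

theorem MM_le_ker_rho (a : Fin (t + 1) → A) (s : ℕ) : MM a s ≤ RingHom.ker (rho a) := by
  unfold MM
  rw [Ideal.span_le]
  rintro _ ⟨i, _, rfl⟩
  exact rho_ww a i

/-- the kernel of `rho` modulo `(w_i)` is killed by a fixed power of `a_0`. -/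
theorem exists_pow_kill_ker [IsNoetherianRing A] (a : Fin (t + 1) → A) :
    ∃ e : ℕ, ∀ z : QQ A t, rho a z = 0 → vv a ^ e * z ∈ MM a t := by
  obtain ⟨e, he⟩ := exists_pow_stab (MM a t) (vv a)
  refine ⟨e, fun z hz => ?_⟩
  obtain ⟨d, z', hz', hd⟩ := exists_homog a t z
  have h1 : rho a z' = 0 := by
    have := MM_le_ker_rho a t hd
    rw [RingHom.mem_ker, map_sub, map_mul, hz, mul_zero, zero_sub, neg_eq_zero] at this
    exact this
  have h2 : {i : Fin t | t ≤ i.val} = ∅ := by
    ext i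
    simp
  rw [h2, supported_empty, Algebra.mem_bot] at hz'
  obtain ⟨r, rfl⟩ := hz'
  have h3 : algebraMap A (Localization.Away (a 0)) r = 0 := by
    rw [← h1]
    exact ((rho a).commutes r).symm
  obtain ⟨d', hd'⟩ := exists_pow_mul_eq_zero_of_algebraMap_eq_zero (a 0) r h3
  refine he z (d' + d) ?_
  have : vv a ^ (d' + d) * z =
      vv a ^ d' * (vv a ^ d * z - algebraMap A (QQ A t) r) + C (a 0 ^ d' * r) := by
    unfold vv
    rw [MvPolynomial.algebraMap_eq, map_mul, map_pow]
    ring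
  rw [this, hd', map_zero, add_zero]
  exact Ideal.mul_mem_left _ _ hd

end setup

section range
variable {A : Type u} [CommRing A] {t : ℕ}

/-- `x / a_0`. -/
noncomputable def fr (a0 x : A) : Localization.Away a0 :=
  IsLocalization.mk' (Localization.Away a0) x (⟨a0, Submonoid.mem_powers a0⟩ : Submonoid.powers a0)

theorem algebraMap_mul_fr (a0 x : A) :
    algebraMap A (Localization.Away a0) a0 * fr a0 x = algebraMap A (Localization.Away a0) x :=
  IsLocalization.mk'_spec' (Localization.Away a0) x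
    (⟨a0, Submonoid.mem_powers a0⟩ : Submonoid.powers a0)

theorem fr_eq (a0 x : A) : fr a0 x = algebraMap A (Localization.Away a0) x * fr a0 1 :=
  IsLocalization.mk'_eq_mul_mk'_one x _

theorem fr_mem_range_rho (a : Fin (t + 1) → A) (x : A) (hx : x ∈ Ideal.span (Set.range a)) :
    fr (a 0) x ∈ (rho a).range := by
  refine Submodule.span_induction (p := fun x _ => fr (a 0) x ∈ (rho a).range) ?_ ?_ ?_ ?_ hx
  · rintro _ ⟨j, rfl⟩
    refine Fin.cases ?_ (fun i => ?_) j
    · have : fr (a 0) (a 0) = 1 :=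
        IsLocalization.mk'_self' (Localization.Away (a 0))
          (x := (⟨a 0, Submonoid.mem_powers (a 0)⟩ : Submonoid.powers (a 0)))
      rw [this]
      exact one_mem _
    · refine ⟨X i, ?_⟩
      show rho a (X i) = _
      unfold rho
      rw [aeval_X]
      rfl
  · rw [fr_eq, map_zero, zero_mul]
    exact zero_mem _
  · intro x y _ _ hx hy
    rw [fr_eq, map_add, add_mul, ← fr_eq, ← fr_eq]
    exact add_mem hx hy
  · intro c x _ hx
    rw [fr_eq, smul_eq_mul, map_mul, mul_assoc, ← fr_eq, ← Algebra.smul_def]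
    exact Subalgebra.smul_mem _ hx c

theorem range_rho_eq (a : Fin (t + 1) → A) :
    (rho a).range = BlowUp.affineAlgebra A (Ideal.span (Set.range a)) (a 0) := by
  apply le_antisymm
  · unfold rho
    rw [← Algebra.adjoin_range_eq_range_aeval]
    refine Algebra.adjoin_mono ?_
    rintro _ ⟨i, rfl⟩
    exact ⟨a i.succ, Ideal.subset_span ⟨i.succ, rfl⟩, rfl⟩
  · unfold BlowUp.affineAlgebra
    rw [Algebra.adjoin_le_iff]
    rintro _ ⟨x, hx, rfl⟩
    exact fr_mem_range_rho a x hx

/-- for `x ∈ I^c`, `x = a_0^c b` with `b` in the affine blow-up algebra. -/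
theorem exists_mem_range_pow_smul (a : Fin (t + 1) → A) (c : ℕ) (x : A)
    (hx : x ∈ Ideal.span (Set.range a) ^ c) :
    ∃ b ∈ (rho a).range, (a 0) ^ c • b = algebraMap A (Localization.Away (a 0)) x := by
  induction c generalizing x with
  | zero =>
    exact ⟨algebraMap A _ x, Subalgebra.algebraMap_mem _ x, by simp⟩
  | succ c ih =>
    rw [pow_succ] at hx
    refine Submodule.mul_induction_on hx ?_ ?_
    · intro m hm g hg
      obtain ⟨b, hb, hbm⟩ := ih m hm
      refine ⟨b * fr (a 0) g, mul_mem hb (fr_mem_range_rho a g hg), ?_⟩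
      rw [map_mul, ← hbm, ← algebraMap_mul_fr (a 0) g, pow_succ, Algebra.smul_def, Algebra.smul_def,
        map_mul]
      ring
    · rintro x y ⟨b, hb, hbx⟩ ⟨b', hb', hby⟩
      exact ⟨b + b', add_mem hb hb', by rw [smul_add, hbx, hby, map_add]⟩

end range

end Groth.Agent.Lib.Seat50.BlowupAlg
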