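import Mathlib
import Groth.Agent.Lib.Helper13TorNat
import Groth.Agent.Lib.Helper13TorMore
import Groth.Agent.Lib.Helper13TorColim

/-!
# Seat50TorEndo (helper50): `Tor` in the second variable and endomorphisms

* `tor₂_right`: connecting-map chase for a short exact sequence (second variable) with two
  endomorphisms (uses helper13's natural balancing `exists_natural_iso` and `δ_naturality`).
* `tor_map_zero`: `Tor_i(M, 0) = 0`.
* `TorNil X u k c`: `Tor_i(M, u^c : X → X) = 0` for all `M`, `i ≥ k`; `mono_k`, `mono_c`,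
  `torNil_of_pow_eq_zero`, `torNil_of_flat`, `TorNil.right`, `TorNil.range`, `TorNil.step`
  (`X⁺ = X / yX`), `TorNil.coker_flat`, `TorNil.map_eq_zero`.
-/

set_option autoImplicit false
set_option linter.unusedSectionVars false
set_option linter.style.haveILetI false
universe u
open CategoryTheory CategoryTheory.Limits MonoidalCategory

namespace Groth.Agent.Lib.Seat50.TorEndo

open Groth.Agent.Helper13Tor

variable {A : Type u} [CommRing A]

/-- **Second-variable connecting-map chase with endomorphisms.** For a short exact sequence `S` (in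
the second variable of `Tor`) with two endomorphisms `φ ψ : S ⟶ S`: if `Tor_{n+1}(M, φ₂) = 0` and
`Tor_n(M, ψ₁) = 0`, then `Tor_{n+1}(M, ψ₃ ≫ φ₃) = 0`. -/
theorem tor₂_right (M : ModuleCat.{u} A) (S : ShortComplex (ModuleCat.{u} A)) (hS : S.ShortExact)
    (φ ψ : S ⟶ S) (n : ℕ)
    (h1 : ((Tor (ModuleCat.{u} A) (n + 1)).obj M).map φ.τ₂ = 0)
    (h2 : ((Tor (ModuleCat.{u} A) n).obj M).map ψ.τ₁ = 0) :
    ((Tor (ModuleCat.{u} A) (n + 1)).obj M).map (ψ.τ₃ ≫ φ.τ₃) = 0 := by
  let P := projectiveResolution M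
  obtain ⟨θ, hθ⟩ := exists_natural_iso M P n
  obtain ⟨θ', hθ'⟩ := exists_natural_iso M P (n + 1)
  have hT := tSC'_shortExact P.complex (fun j => P.projective j) S hS
  have hrel : (ComplexShape.down ℕ).Rel (n + 1) n := rfl
  have tc : ∀ {X Y Z : ModuleCat.{u} A} (f : X ⟶ Y) (g : Y ⟶ Z),
      tRmap P.complex f ≫ tRmap P.complex g = tRmap P.complex (f ≫ g) :=
    fun f g => ((tRF P.complex).map_comp f g).symm
  -- the endomorphism of the short exact sequence of complexes induced by ψ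
  let Ψ : tSC' P.complex S ⟶ tSC' P.complex S :=
    { τ₁ := tRmap P.complex ψ.τ₁
      τ₂ := tRmap P.complex ψ.τ₂
      τ₃ := tRmap P.complex ψ.τ₃
      comm₁₂ := by
        show tRmap P.complex ψ.τ₁ ≫ tRmap P.complex S.f = tRmap P.complex S.f ≫ tRmap P.complex ψ.τ₂
        rw [tc, tc, ψ.comm₁₂]
      comm₂₃ := by
        show tRmap P.complex ψ.τ₂ ≫ tRmap P.complex S.g = tRmap P.complex S.g ≫ tRmap P.complex ψ.τ₃
        rw [tc, tc, ψ.comm₂₃] }
  have hδnat := Groth.Agent.Helper13DeltaNat.δ_naturality Ψ hT hT (n + 1) n hrel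
  -- exactness of H_{n+1}(X₂) → H_{n+1}(X₃) → H_n(X₁)
  have hex := hT.homology_exact₃ (n + 1) n hrel
  -- ψ₃ on H_{n+1}(X₃) composed with δ vanishes
  have hz : HomologicalComplex.homologyMap (tRmap P.complex ψ.τ₃) (n + 1) ≫
      hT.δ (n + 1) n hrel = 0 := by
    have e : HomologicalComplex.homologyMap (tRmap P.complex ψ.τ₁) n = 0 := by
      have := hθ ψ.τ₁
      rw [h2, zero_comp] at this
      have h3 : (θ S.X₁).hom ≫ HomologicalComplex.homologyMap (tRmap P.complex ψ.τ₁) n = 0 :=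
        this.symm
      exact (cancel_epi (θ S.X₁).hom).1 (h3.trans comp_zero.symm)
    have := hδnat
    change hT.δ (n + 1) n hrel ≫ HomologicalComplex.homologyMap (tRmap P.complex ψ.τ₁) n =
      HomologicalComplex.homologyMap (tRmap P.complex ψ.τ₃) (n + 1) ≫ hT.δ (n + 1) n hrel at this
    rw [← this, e, comp_zero]
  -- φ₂ on H_{n+1}(X₂) vanishes
  have e2 : HomologicalComplex.homologyMap (tRmap P.complex φ.τ₂) (n + 1) = 0 := by
    have := hθ' φ.τ₂
    rw [h1, zero_comp] at this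
    have h3 : (θ' S.X₂).hom ≫ HomologicalComplex.homologyMap (tRmap P.complex φ.τ₂) (n + 1) = 0 :=
      this.symm
    exact (cancel_epi (θ' S.X₂).hom).1 (h3.trans comp_zero.symm)
  -- now the chase on homology
  have key : HomologicalComplex.homologyMap (tRmap P.complex ψ.τ₃) (n + 1) ≫
      HomologicalComplex.homologyMap (tRmap P.complex φ.τ₃) (n + 1) = 0 := by
    apply ModuleCat.hom_ext
    apply LinearMap.ext
    intro x
    have hx : (hT.δ (n + 1) n hrel).hom
        ((HomologicalComplex.homologyMap (tRmap P.complex ψ.τ₃) (n + 1)).hom x) = 0 := by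
      have := congr_arg (fun t => t.hom x) hz
      simpa using this
    obtain ⟨w, hw⟩ := (ShortComplex.moduleCat_exact_iff _).1 hex _ hx
    have hw' : (HomologicalComplex.homologyMap (tRmap P.complex S.g) (n + 1)).hom w =
        (HomologicalComplex.homologyMap (tRmap P.complex ψ.τ₃) (n + 1)).hom x := hw
    have hc : HomologicalComplex.homologyMap (tRmap P.complex S.g) (n + 1) ≫
        HomologicalComplex.homologyMap (tRmap P.complex φ.τ₃) (n + 1) =
        HomologicalComplex.homologyMap (tRmap P.complex φ.τ₂) (n + 1) ≫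
        HomologicalComplex.homologyMap (tRmap P.complex S.g) (n + 1) := by
      rw [← HomologicalComplex.homologyMap_comp, ← HomologicalComplex.homologyMap_comp,
        tc, tc, φ.comm₂₃]
    simp only [ModuleCat.hom_comp, LinearMap.comp_apply, ModuleCat.hom_zero, LinearMap.zero_apply]
    rw [← hw']
    have := congr_arg (fun t => t.hom w) hc
    simp only [ModuleCat.hom_comp, LinearMap.comp_apply] at this
    rw [this, e2]
    simp
  rw [Functor.map_comp]
  rw [← cancel_mono (θ' S.X₃).hom, Category.assoc, hθ' φ.τ₃, ← Category.assoc, hθ' ψ.τ₃,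
    Category.assoc, key, comp_zero, zero_comp]

theorem tRmap_zero (P : ChainComplex (ModuleCat.{u} A) ℕ) (N N' : ModuleCat.{u} A) :
    tRmap P (0 : N ⟶ N') = 0 := by
  refine HomologicalComplex.hom_ext _ _ fun j => ?_
  show ((tensoringRight (ModuleCat.{u} A)).map (0 : N ⟶ N')).app (P.X j) = 0
  simp

theorem tor_map_zero (M N N' : ModuleCat.{u} A) (i : ℕ) :
    ((Tor (ModuleCat.{u} A) i).obj M).map (0 : N ⟶ N') = 0 := by
  obtain ⟨θ, hθ⟩ := exists_natural_iso M (projectiveResolution M) i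
  have := hθ (0 : N ⟶ N')
  rw [tRmap_zero, HomologicalComplex.homologyMap_zero, comp_zero] at this
  exact (cancel_mono (θ N').hom).1 (this.trans zero_comp.symm)

/-! ### Modules with an endomorphism: uniform nilpotence of `Tor_i(M, u)` -/

section TorNil

/-- `Tor_i(M, u^c) = 0` for every `M` and every `i ≥ k`. -/
def TorNil (X : Type u) [AddCommGroup X] [Module A X] (ux : X →ₗ[A] X) (k c : ℕ) : Prop :=
  ∀ (M : ModuleCat.{u} A) (i : ℕ), k ≤ i →
    ((Tor (ModuleCat.{u} A) i).obj M).map (ModuleCat.ofHom (ux ^ c)) = 0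

variable {X' X X'' : Type u} [AddCommGroup X'] [Module A X'] [AddCommGroup X] [Module A X]
  [AddCommGroup X''] [Module A X'']

theorem TorNil.mono_k {ux : X →ₗ[A] X} {k k' c : ℕ} (h : TorNil X ux k c) (hk : k ≤ k') :
    TorNil X ux k' c := fun M i hi => h M i (hk.trans hi)

theorem TorNil.mono_c {ux : X →ₗ[A] X} {k c c' : ℕ} (h : TorNil X ux k c) (hc : c ≤ c') :
    TorNil X ux k c' := by
  intro M i hi
  obtain ⟨d, rfl⟩ := Nat.exists_eq_add_of_le hc
  have e : (ModuleCat.ofHom (ux ^ (c + d)) : ModuleCat.of A X ⟶ ModuleCat.of A X) =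
      ModuleCat.ofHom (ux ^ c) ≫ ModuleCat.ofHom (ux ^ d) := by
    rw [← ModuleCat.ofHom_comp, add_comm, pow_add]
  rw [e, Functor.map_comp, h M i hi, zero_comp]

theorem torNil_of_pow_eq_zero (ux : X →ₗ[A] X) (e : ℕ) (h : ux ^ e = 0) (k : ℕ) :
    TorNil X ux k e := by
  intro M i _
  rw [h]
  have : (ModuleCat.ofHom (0 : X →ₗ[A] X) : ModuleCat.of A X ⟶ ModuleCat.of A X) = 0 := rfl
  rw [this, tor_map_zero]

theorem torNil_of_flat [Module.Flat A X] (ux : X →ₗ[A] X) (c : ℕ) : TorNil X ux 1 c := by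
  intro M i hi
  haveI : Module.Flat A (ModuleCat.of A X) := inferInstanceAs (Module.Flat A X)
  exact (isZero_tor_of_flat_right M (ModuleCat.of A X) i (by omega)).eq_of_src _ _

theorem comp_pow_comm {f : X' →ₗ[A] X} {u' : X' →ₗ[A] X'} {ux : X →ₗ[A] X}
    (h : f ∘ₗ u' = ux ∘ₗ f) (n : ℕ) : f ∘ₗ (u' ^ n) = (ux ^ n) ∘ₗ f := by
  induction n with
  | zero => rfl
  | succ n ih =>
    rw [pow_succ, pow_succ, Module.End.mul_eq_comp, Module.End.mul_eq_comp,
      ← LinearMap.comp_assoc, ih, LinearMap.comp_assoc, h, ← LinearMap.comp_assoc]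

/-- The connecting-map chase. -/
theorem TorNil.right (f : X' →ₗ[A] X) (g : X →ₗ[A] X'') (hf : Function.Injective f)
    (hg : Function.Surjective g) (hfg : Function.Exact f g)
    (u' : X' →ₗ[A] X') (ux : X →ₗ[A] X) (u'' : X'' →ₗ[A] X'')
    (c1 : f ∘ₗ u' = ux ∘ₗ f) (c2 : g ∘ₗ ux = u'' ∘ₗ g) (k a b : ℕ)
    (hX : TorNil X ux (k + 1) a) (hX' : TorNil X' u' k b) : TorNil X'' u'' (k + 1) (a + b) := by
  intro M i hi
  obtain ⟨n, rfl⟩ : ∃ n, i = n + 1 := ⟨i - 1, by omega⟩
  let S : ShortComplex (ModuleCat.{u} A) :=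
    ShortComplex.mk (ModuleCat.ofHom f : ModuleCat.of A X' ⟶ ModuleCat.of A X)
      (ModuleCat.ofHom g : ModuleCat.of A X ⟶ ModuleCat.of A X'') (by
        apply ModuleCat.hom_ext
        apply LinearMap.ext
        intro y
        exact hfg.apply_apply_eq_zero y)
  have hS : S.ShortExact :=
    { exact := by
        rw [ShortComplex.ShortExact.moduleCat_exact_iff_function_exact]
        exact hfg
      mono_f := by
        rw [ModuleCat.mono_iff_injective]
        exact hf
      epi_g := by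
        rw [ModuleCat.epi_iff_surjective]
        exact hg }
  have mkEndo : ∀ m : ℕ, ∃ φ : S ⟶ S, φ.τ₁ = ModuleCat.ofHom (u' ^ m) ∧
      φ.τ₂ = ModuleCat.ofHom (ux ^ m) ∧ φ.τ₃ = ModuleCat.ofHom (u'' ^ m) := by
    intro m
    refine ⟨ShortComplex.homMk (ModuleCat.ofHom (u' ^ m)) (ModuleCat.ofHom (ux ^ m))
      (ModuleCat.ofHom (u'' ^ m)) ?_ ?_, rfl, rfl, rfl⟩
    · show ModuleCat.ofHom (u' ^ m) ≫ ModuleCat.ofHom f = ModuleCat.ofHom f ≫ ModuleCat.ofHom (ux ^ m)
      rw [← ModuleCat.ofHom_comp, ← ModuleCat.ofHom_comp, comp_pow_comm c1 m]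
    · show ModuleCat.ofHom (ux ^ m) ≫ ModuleCat.ofHom g = ModuleCat.ofHom g ≫ ModuleCat.ofHom (u'' ^ m)
      rw [← ModuleCat.ofHom_comp, ← ModuleCat.ofHom_comp, comp_pow_comm c2 m]
  obtain ⟨φ, hφ1, hφ2, hφ3⟩ := mkEndo a
  obtain ⟨ψ, hψ1, hψ2, hψ3⟩ := mkEndo b
  have := tor₂_right M S hS φ ψ n (by rw [hφ2]; exact hX M (n + 1) (by omega))
    (by rw [hψ1]; exact hX' M n (by omega))
  rw [hφ3, hψ3, ← ModuleCat.ofHom_comp] at this
  have e : (u'' ^ a) ∘ₗ (u'' ^ b) = u'' ^ (a + b) := by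
    rw [pow_add]; rfl
  rw [e] at this
  exact this

/-- kernel/range sequence of a map `g`, with endomorphisms: if `u^e` kills `ker g`, then nilpotence
passes from `X` to `range g`. -/
theorem TorNil.range (g : X →ₗ[A] X'') (ux : X →ₗ[A] X) (u'' : X'' →ₗ[A] X'')
    (c2 : g ∘ₗ ux = u'' ∘ₗ g) (e : ℕ) (he : ∀ x, g x = 0 → (ux ^ e) x = 0) (k c : ℕ)
    (hX : TorNil X ux (k + 1) c)
    (hstab : ∀ z ∈ LinearMap.range g, u'' z ∈ LinearMap.range g) :
    TorNil (LinearMap.range g) (u''.restrict hstab) (k + 1) (c + e) := by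
  have hk : ∀ x ∈ LinearMap.ker g, ux x ∈ LinearMap.ker g := by
    intro x hx
    rw [LinearMap.mem_ker] at hx ⊢
    have := LinearMap.congr_fun c2 x
    simp only [LinearMap.comp_apply] at this
    rw [this, hx, map_zero]
  have hpow : ∀ (n : ℕ) (x : LinearMap.ker g), (((ux.restrict hk) ^ n) x : X) = (ux ^ n) x := by
    intro n
    induction n with
    | zero => intro x; rfl
    | succ n ih =>
      intro x
      rw [pow_succ', pow_succ', Module.End.mul_apply, Module.End.mul_apply]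
      show ux _ = ux _
      congr 1
      exact ih x
  have hker : TorNil (LinearMap.ker g) (ux.restrict hk) k e := by
    apply torNil_of_pow_eq_zero
    apply LinearMap.ext
    intro x
    apply Subtype.ext
    rw [hpow e x, he x x.2]
    rfl
  refine TorNil.right (LinearMap.ker g).subtype g.rangeRestrict (Submodule.injective_subtype _)
    g.surjective_rangeRestrict ?_ (ux.restrict hk) ux (u''.restrict hstab) ?_ ?_ k c e hX hker
  · intro x
    constructor
    · intro hx
      refine ⟨⟨x, ?_⟩, rfl⟩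
      have := congr_arg Subtype.val hx
      exact this
    · rintro ⟨z, rfl⟩
      apply Subtype.ext
      exact z.2
  · ext x
    rfl
  · ext x
    have := LinearMap.congr_fun c2 x
    exact this

/-- **Step.** `X⁺ = X / y X` for an endomorphism `y` commuting with `u` whose kernel is killed by
`u ^ e`. -/
theorem TorNil.step (ux y : X →ₗ[A] X) (huy : ux ∘ₗ y = y ∘ₗ ux) (u'' : X'' →ₗ[A] X'')
    (g : X →ₗ[A] X'') (hg : Function.Surjective g) (hgu : g ∘ₗ ux = u'' ∘ₗ g)
    (hker : LinearMap.ker g = LinearMap.range y) (e : ℕ) (he : ∀ x, y x = 0 → (ux ^ e) x = 0)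
    (k c : ℕ) (hX : TorNil X ux (k + 1) c) : TorNil X'' u'' (k + 2) (c + (c + e)) := by
  have hstab : ∀ z ∈ LinearMap.range y, ux z ∈ LinearMap.range y := by
    rintro _ ⟨w, rfl⟩
    refine ⟨ux w, ?_⟩
    have := LinearMap.congr_fun huy w
    simp only [LinearMap.comp_apply] at this
    exact this.symm
  have h1 : TorNil (LinearMap.range y) (ux.restrict hstab) (k + 1) (c + e) :=
    TorNil.range y ux ux huy.symm e he k c hX hstab
  refine TorNil.right (LinearMap.range y).subtype g (Submodule.injective_subtype _) hg ?_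
    (ux.restrict hstab) ux u'' ?_ hgu (k + 1) c (c + e) (hX.mono_k (by omega)) h1
  · intro x
    rw [← LinearMap.mem_ker, hker]
    constructor
    · intro hx
      exact ⟨⟨x, hx⟩, rfl⟩
    · rintro ⟨z, rfl⟩
      exact z.2
  · ext x
    rfl

/-- **End.** For an equivariant map `g : X → F` into a flat module whose kernel is killed by `u^e`,
nilpotence passes (one degree up) to the cokernel. -/
theorem TorNil.coker_flat {F : Type u} [AddCommGroup F] [Module A F] [Module.Flat A F]
    (g : X →ₗ[A] F) (ux : X →ₗ[A] X) (uF : F →ₗ[A] F)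
    (c2 : g ∘ₗ ux = uF ∘ₗ g) (e : ℕ) (he : ∀ x, g x = 0 → (ux ^ e) x = 0) (k c : ℕ)
    (hX : TorNil X ux (k + 1) c)
    (hstab : LinearMap.range g ≤ (LinearMap.range g).comap uF) :
    TorNil (F ⧸ LinearMap.range g) ((LinearMap.range g).mapQ (LinearMap.range g) uF hstab)
      (k + 2) (c + e) := by
  have hstab' : ∀ z ∈ LinearMap.range g, uF z ∈ LinearMap.range g := fun z hz => hstab hz
  have h1 : TorNil (LinearMap.range g) (uF.restrict hstab') (k + 1) (c + e) :=
    TorNil.range g ux uF c2 e he k c hX hstab'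
  have h2 := TorNil.right (LinearMap.range g).subtype (LinearMap.range g).mkQ
    (Submodule.injective_subtype _) (Submodule.mkQ_surjective _) ?_
    (uF.restrict hstab') uF ((LinearMap.range g).mapQ (LinearMap.range g) uF hstab) ?_ ?_
    (k + 1) 0 (c + e) ((torNil_of_flat uF 0).mono_k (by omega)) h1
  · rwa [zero_add] at h2
  · intro x
    rw [Submodule.mkQ_apply, Submodule.Quotient.mk_eq_zero]
    constructor
    · intro hx
      exact ⟨⟨x, hx⟩, rfl⟩
    · rintro ⟨z, rfl⟩
      exact z.2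
  · ext x
    rfl
  · ext x
    rfl

/-- Extraction of a vanishing statement from `TorNil`. -/
theorem TorNil.map_eq_zero {Y Y' : Type u} [AddCommGroup Y] [Module A Y] [AddCommGroup Y']
    [Module A Y'] {ux : X →ₗ[A] X} {k c : ℕ} (h : TorNil X ux k c)
    (ι : Y →ₗ[A] X) (π : X →ₗ[A] Y') (j : Y →ₗ[A] Y') (hj : π ∘ₗ (ux ^ c) ∘ₗ ι = j)
    (M : ModuleCat.{u} A) (i : ℕ) (hi : k ≤ i) :
    ((Tor (ModuleCat.{u} A) i).obj M).map (ModuleCat.ofHom j) = 0 := by
  have e : (ModuleCat.ofHom j : ModuleCat.of A Y ⟶ ModuleCat.of A Y') =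
      ModuleCat.ofHom ι ≫ ModuleCat.ofHom (ux ^ c) ≫ ModuleCat.ofHom π := by
    rw [← ModuleCat.ofHom_comp, ← ModuleCat.ofHom_comp, ← hj]
  rw [e, Functor.map_comp, Functor.map_comp, h M i hi, zero_comp, comp_zero]

end TorNil

end Groth.Agent.Lib.Seat50.TorEndo
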