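import Mathlib
import Groth.Agent.Lib.Seat50TorEndo
import Groth.Agent.Lib.Seat50ReesKoszul

set_option autoImplicit false
set_option linter.unusedSectionVars false
set_option linter.style.haveILetI false
universe u
open CategoryTheory

namespace Groth.Agent.Lib.Seat50.TorUniform
open Groth.Agent.Lib.Seat50.TorEndo Groth.Agent.Lib.Seat50.ReesKoszul

variable {A : Type u} [CommRing A] {t : ℕ}

/-- multiplication by `u` on `Q_s = A[u][x]/(y_i : i < s)`. -/
noncomputable def uQ (a : Fin t → A) (s : ℕ) : (PP A t ⧸ LL a s) →ₗ[A] (PP A t ⧸ LL a s) :=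
  LinearMap.mulLeft A (Ideal.Quotient.mk (LL a s) (uu A t))

theorem uQ_apply_mk (a : Fin t → A) (s : ℕ) (z : PP A t) :
    uQ a s (Ideal.Quotient.mk (LL a s) z) = Ideal.Quotient.mk (LL a s) (uu A t * z) := by
  rw [uQ, LinearMap.mulLeft_apply, ← map_mul]

theorem uQ_pow_apply_mk (a : Fin t → A) (s : ℕ) (e : ℕ) (z : PP A t) :
    ((uQ a s) ^ e) (Ideal.Quotient.mk (LL a s) z) =
      Ideal.Quotient.mk (LL a s) (uu A t ^ e * z) := by
  induction e with
  | zero => simp
  | succ e ih =>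
    rw [pow_succ', Module.End.mul_apply, ih, uQ_apply_mk, pow_succ', mul_assoc]

/-- multiplication by `y_s` on `Q_s`. -/
noncomputable def yQ (a : Fin t → A) (s : ℕ) (hs : s < t) :
    (PP A t ⧸ LL a s) →ₗ[A] (PP A t ⧸ LL a s) :=
  LinearMap.mulLeft A (Ideal.Quotient.mk (LL a s) (yy a ⟨s, hs⟩))

theorem yQ_apply_mk (a : Fin t → A) (s : ℕ) (hs : s < t) (z : PP A t) :
    yQ a s hs (Ideal.Quotient.mk (LL a s) z) = Ideal.Quotient.mk (LL a s) (yy a ⟨s, hs⟩ * z) := by
  rw [yQ, LinearMap.mulLeft_apply, ← map_mul]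

/-- the projection `Q_s → Q_{s+1}`. -/
noncomputable def gQQ (a : Fin t → A) (s : ℕ) :
    (PP A t ⧸ LL a s) →ₗ[A] (PP A t ⧸ LL a (s + 1)) :=
  (Ideal.Quotient.factorₐ A (LL_mono a (Nat.le_succ s))).toLinearMap

theorem gQQ_apply_mk (a : Fin t → A) (s : ℕ) (z : PP A t) :
    gQQ a s (Ideal.Quotient.mk (LL a s) z) = Ideal.Quotient.mk (LL a (s + 1)) z := rfl

theorem torNil_step [IsNoetherianRing A] (a : Fin t → A) (k : ℕ) (hs : k + 1 < t) (c : ℕ)
    (hc : TorNil (PP A t ⧸ LL a (k + 1)) (uQ a (k + 1)) (k + 1) c) :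
    ∃ c', TorNil (PP A t ⧸ LL a (k + 1 + 1)) (uQ a (k + 1 + 1)) (k + 1 + 1) c' := by
  obtain ⟨e, he⟩ := exists_pow_kill a (k + 1) hs
  refine ⟨c + (c + e), ?_⟩
  refine TorNil.step (uQ a (k + 1)) (yQ a (k + 1) hs) ?_ (uQ a (k + 1 + 1)) (gQQ a (k + 1)) ?_ ?_ ?_ e
    ?_ k c hc
  · refine LinearMap.ext fun x => ?_
    obtain ⟨z, rfl⟩ := Ideal.Quotient.mk_surjective x
    simp only [LinearMap.comp_apply, uQ_apply_mk, yQ_apply_mk]
    rw [mul_left_comm]
  · intro x
    obtain ⟨z, rfl⟩ := Ideal.Quotient.mk_surjective x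
    exact ⟨Ideal.Quotient.mk _ z, rfl⟩
  · refine LinearMap.ext fun x => ?_
    obtain ⟨z, rfl⟩ := Ideal.Quotient.mk_surjective x
    simp only [LinearMap.comp_apply, uQ_apply_mk, gQQ_apply_mk]
  · ext x
    obtain ⟨z, rfl⟩ := Ideal.Quotient.mk_surjective x
    rw [LinearMap.mem_ker, gQQ_apply_mk, Ideal.Quotient.eq_zero_iff_mem, LL_succ a (k + 1) hs,
      Ideal.mem_span_singleton_sup, LinearMap.mem_range]
    constructor
    · rintro ⟨w, b, hb, rfl⟩
      refine ⟨Ideal.Quotient.mk _ w, ?_⟩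
      rw [yQ_apply_mk, Ideal.Quotient.mk_eq_mk_iff_sub_mem]
      have : yy a ⟨k + 1, hs⟩ * w - (w * yy a ⟨k + 1, hs⟩ + b) = -b := by ring
      rw [this]
      exact neg_mem hb
    · rintro ⟨x', hx'⟩
      obtain ⟨w, rfl⟩ := Ideal.Quotient.mk_surjective x'
      rw [yQ_apply_mk, Ideal.Quotient.mk_eq_mk_iff_sub_mem] at hx'
      refine ⟨w, z - w * yy a ⟨k + 1, hs⟩, ?_, by ring⟩
      have : z - w * yy a ⟨k + 1, hs⟩ = -(yy a ⟨k + 1, hs⟩ * w - z) := by ring
      rw [this]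
      exact neg_mem hx'
  · intro x hx
    obtain ⟨z, rfl⟩ := Ideal.Quotient.mk_surjective x
    rw [yQ_apply_mk, Ideal.Quotient.eq_zero_iff_mem] at hx
    rw [uQ_pow_apply_mk, Ideal.Quotient.eq_zero_iff_mem]
    exact he z hx

/-- the chain: `Tor_i(M, u^c on Q_s) = 0` for `i ≥ s`. -/
theorem exists_torNil [IsNoetherianRing A] (a : Fin t → A) (s : ℕ) (hs1 : 1 ≤ s) (hst : s ≤ t) :
    ∃ c, TorNil (PP A t ⧸ LL a s) (uQ a s) s c := by
  induction s, hs1 using Nat.le_induction with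
  | base =>
    have := flat_quot_LL_one a (by omega)
    exact ⟨0, torNil_of_flat _ 0⟩
  | succ s hs1 ih =>
    obtain ⟨c, hc⟩ := ih (by omega)
    obtain ⟨k, rfl⟩ : ∃ k, s = k + 1 := ⟨s - 1, by omega⟩
    exact torNil_step a k (by omega) c hc


/-- the induced map `Q_t → A[T, T⁻¹]`. -/
noncomputable def gQ (a : Fin t → A) : (PP A t ⧸ LL a t) →ₗ[A] LaurentPolynomial A :=
  (Ideal.Quotient.liftₐ (LL a t) (piA a) (fun _ hz => LL_le_ker_piA a t hz)).toLinearMap

theorem gQ_apply_mk (a : Fin t → A) (z : PP A t) :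
    gQ a (Ideal.Quotient.mk (LL a t) z) = piA a z := rfl

theorem mem_range_gQ (a : Fin t → A) (f : LaurentPolynomial A) :
    f ∈ LinearMap.range (gQ a) ↔ f ∈ (piA a).range := by
  rw [LinearMap.mem_range, AlgHom.mem_range]
  constructor
  · rintro ⟨x, rfl⟩
    obtain ⟨z, rfl⟩ := Ideal.Quotient.mk_surjective x
    exact ⟨z, rfl⟩
  · rintro ⟨z, rfl⟩
    exact ⟨Ideal.Quotient.mk _ z, rfl⟩

/-- multiplication by `T` on `A[T, T⁻¹]`. -/
noncomputable def uΛ (A : Type u) [CommRing A] : LaurentPolynomial A →ₗ[A] LaurentPolynomial A :=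
  LinearMap.mulLeft A (LaurentPolynomial.T 1)

theorem uΛ_pow_apply (c : ℕ) (f : LaurentPolynomial A) :
    ((uΛ A) ^ c) f = LaurentPolynomial.T (c : ℤ) * f := by
  induction c with
  | zero => simp
  | succ c ih =>
    rw [pow_succ', Module.End.mul_apply, ih, uΛ, LinearMap.mulLeft_apply, ← mul_assoc,
      ← LaurentPolynomial.T_add]
    congr 2
    push_cast
    ring

theorem range_gQ_stab (a : Fin t → A) :
    LinearMap.range (gQ a) ≤ (LinearMap.range (gQ a)).comap (uΛ A) := by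
  rintro _ ⟨x, rfl⟩
  obtain ⟨z, rfl⟩ := Ideal.Quotient.mk_surjective x
  refine ⟨Ideal.Quotient.mk _ (uu A t * z), ?_⟩
  rw [gQ_apply_mk, gQ_apply_mk, map_mul, piA_uu]
  rfl

/-- the extended Rees cokernel `A[T,T⁻¹]/A[u, I T⁻¹]` has uniformly `T`-nilpotent `Tor_i`, `i > t`. -/
theorem exists_torNil_coker [IsNoetherianRing A] (a : Fin t → A) (ht : 1 ≤ t) :
    ∃ c, TorNil (LaurentPolynomial A ⧸ LinearMap.range (gQ a))
      ((LinearMap.range (gQ a)).mapQ (LinearMap.range (gQ a)) (uΛ A) (range_gQ_stab a)) (t + 1) c := by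
  obtain ⟨c, hc⟩ := exists_torNil a t ht le_rfl
  obtain ⟨e, he⟩ := exists_pow_kill_ker a
  obtain ⟨k, rfl⟩ : ∃ k, t = k + 1 := ⟨t - 1, by omega⟩
  refine ⟨c + e, ?_⟩
  refine TorNil.coker_flat (gQ a) (uQ a (k + 1)) (uΛ A) ?_ e ?_ k c hc (range_gQ_stab a)
  · refine LinearMap.ext fun x => ?_
    obtain ⟨z, rfl⟩ := Ideal.Quotient.mk_surjective x
    simp only [LinearMap.comp_apply, uQ_apply_mk, gQ_apply_mk]
    rw [map_mul, piA_uu]
    rfl
  · intro x hx
    obtain ⟨z, rfl⟩ := Ideal.Quotient.mk_surjective x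
    rw [gQ_apply_mk] at hx
    rw [uQ_pow_apply_mk, Ideal.Quotient.eq_zero_iff_mem]
    exact he z hx

/-- the coefficient of `T^k`, as a linear map. -/
noncomputable def coeffL (A : Type u) [CommRing A] (k : ℤ) : LaurentPolynomial A →ₗ[A] A :=
  (Finsupp.lapply k) ∘ₗ (AddMonoidAlgebra.coeffLinearEquiv A).toLinearMap

theorem coeffL_apply (k : ℤ) (f : LaurentPolynomial A) : coeffL A k f = f.coeff k := rfl

/-- **Uniform vanishing**, general form. -/
theorem tor_map_eq_zero [IsNoetherianRing A] (a : Fin t → A) (ht : 1 ≤ t) :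
    ∃ c : ℕ, ∀ (n m k : ℕ) (_ : m + c = n + k) (r : A)
      (_ : r ∈ Ideal.span (Set.range a) ^ k)
      (j : (A ⧸ Ideal.span (Set.range a) ^ n) →ₗ[A] (A ⧸ Ideal.span (Set.range a) ^ m))
      (_ : ∀ x : A, j (Ideal.Quotient.mk _ x) = Ideal.Quotient.mk _ (r * x))
      (M : ModuleCat.{u} A) (i : ℕ), t + 1 ≤ i →
        ((Tor (ModuleCat.{u} A) i).obj M).map (ModuleCat.ofHom j) = 0 := by
  obtain ⟨c, hc⟩ := exists_torNil_coker a ht
  refine ⟨c, ?_⟩
  set I := Ideal.span (Set.range a) with hI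
  intro n m k hm r hr j hj M i hi
  have hIa : ∀ i, a i ∈ I := fun i => Ideal.subset_span ⟨i, rfl⟩
  -- ι_n
  have h1 : I ^ n ≤ (LinearMap.range (gQ a)).comap (AddMonoidAlgebra.lsingle (R := A) (-(n : ℤ))) := by
    intro x hx
    rw [Submodule.mem_comap, mem_range_gQ]
    have := C_mul_T_mem_range a n x hx
    rwa [← LaurentPolynomial.single_eq_C_mul_T] at this
  -- the element `r T^{-k}`
  have hw : (AddMonoidAlgebra.single (-(k : ℤ)) r : LaurentPolynomial A) ∈ (piA a).range := by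
    have := C_mul_T_mem_range a k r hr
    rwa [← LaurentPolynomial.single_eq_C_mul_T] at this
  have h2 : LinearMap.range (gQ a) ≤ Submodule.comap
      ((coeffL A (-(m : ℤ))) ∘ₗ LinearMap.mulLeft A (AddMonoidAlgebra.single (-(k : ℤ)) r))
      (I ^ m) := by
    intro f hf
    rw [mem_range_gQ] at hf
    rw [Submodule.mem_comap, LinearMap.comp_apply, LinearMap.mulLeft_apply, coeffL_apply]
    exact coeff_mem_pow_of_mem_range a I hIa _ (mul_mem hw hf) m
  refine hc.map_eq_zero (Submodule.mapQ (I ^ n) (LinearMap.range (gQ a)) _ h1)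
    (Submodule.mapQ (LinearMap.range (gQ a)) (I ^ m) _ h2) j ?_ M i hi
  refine LinearMap.ext fun x => ?_
  obtain ⟨x, rfl⟩ := Ideal.Quotient.mk_surjective x
  rw [hj, LinearMap.comp_apply, LinearMap.comp_apply, ← Submodule.mapQ_pow]
  show Submodule.mapQ _ _ _ h2 (Submodule.mapQ _ _ _ _ (Submodule.mapQ _ _ _ h1
    (Submodule.Quotient.mk x))) = Submodule.Quotient.mk (r * x)
  rw [Submodule.mapQ_apply, Submodule.mapQ_apply, Submodule.mapQ_apply, uΛ_pow_apply,
    LinearMap.comp_apply, LinearMap.mulLeft_apply, coeffL_apply]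
  congr 1
  show ((AddMonoidAlgebra.single (-(k : ℤ)) r : LaurentPolynomial A) *
    (LaurentPolynomial.T (c : ℤ) * AddMonoidAlgebra.single (-(n : ℤ)) x)).coeff (-(m : ℤ)) = r * x
  rw [LaurentPolynomial.T, AddMonoidAlgebra.single_mul_single, AddMonoidAlgebra.single_mul_single,
    one_mul]
  have e : -(k : ℤ) + ((c : ℤ) + -(n : ℤ)) = -(m : ℤ) := by
    have : (m : ℤ) + c = n + k := by exact_mod_cast hm
    linarith
  rw [e, AddMonoidAlgebra.coeff_single, Finsupp.single_eq_same]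


section linear
open Groth.Agent.Helper13Tor CategoryTheory.Limits MonoidalCategory

theorem tRmap_smul_id (P : ChainComplex (ModuleCat.{u} A) ℕ) (N : ModuleCat.{u} A) (r : A) :
    tRmap P (r • 𝟙 N) = r • 𝟙 (tR P N) := by
  refine HomologicalComplex.hom_ext _ _ fun j => ?_
  show ((tensoringRight (ModuleCat.{u} A)).map (r • 𝟙 N)).app (P.X j) = _
  simp
  rfl

theorem homologyMap_smul_id {C : Type*} [Category C] [Abelian C] [Linear A C]
    (K : ChainComplex C ℕ) (i : ℕ) (r : A) :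
    HomologicalComplex.homologyMap (r • 𝟙 K) i = r • 𝟙 _ := by
  have : (HomologicalComplex.shortComplexFunctor C _ i).map (r • 𝟙 K) = r • 𝟙 _ := by
    ext <;> simp <;> rfl
  unfold HomologicalComplex.homologyMap
  rw [this, ShortComplex.homologyMap_smul, ShortComplex.homologyMap_id]
  rfl

/-- `Tor_i(M, -)` is linear on scalar endomorphisms. -/
theorem tor_map_smul_id (M N : ModuleCat.{u} A) (i : ℕ) (r : A) :
    ((Tor (ModuleCat.{u} A) i).obj M).map (r • 𝟙 N) = r • 𝟙 _ := by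
  obtain ⟨θ, hθ⟩ := exists_natural_iso M (projectiveResolution M) i
  have h1 := hθ (r • 𝟙 N)
  rw [tRmap_smul_id, homologyMap_smul_id] at h1
  rw [← cancel_mono (θ N).hom, h1, Linear.comp_smul, Linear.smul_comp, Category.comp_id,
    Category.id_comp]

theorem tor_smul_apply (M N : ModuleCat.{u} A) (i : ℕ) (r : A)
    (x : ((Tor (ModuleCat.{u} A) i).obj M).obj N) :
    r • x = (((Tor (ModuleCat.{u} A) i).obj M).map (r • 𝟙 N)) x := by
  rw [tor_map_smul_id]
  simp


end linear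

section final
open Groth.Agent.Helper13Tor

theorem exists_gens (s : Finset A) (t : ℕ) (ht : s.card ≤ t) :
    ∃ a : Fin t → A, Ideal.span (Set.range a) = Ideal.span (s : Set A) := by
  classical
  refine ⟨fun i => s.toList.getD i.val 0, le_antisymm ?_ ?_⟩
  · rw [Ideal.span_le]
    rintro _ ⟨i, rfl⟩
    by_cases h : i.val < s.toList.length
    · simp only [List.getD_eq_getElem _ _ h]
      exact Ideal.subset_span (Finset.mem_toList.mp (List.getElem_mem h))
    · simp only [List.getD_eq_default _ _ (not_lt.mp h)]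
      exact zero_mem _
  · rw [Ideal.span_le]
    intro x hx
    have hx' : x ∈ s.toList := Finset.mem_toList.mpr hx
    obtain ⟨j, hj, rfl⟩ := List.mem_iff_getElem.mp hx'
    have hjt : j < t := by
      rw [Finset.length_toList] at hj
      omega
    refine Ideal.subset_span ⟨⟨j, hjt⟩, ?_⟩
    exact List.getD_eq_getElem _ _ hj

theorem flat_quot_of_bot_or_top (J : Ideal A) (hJ : J = ⊥ ∨ J = ⊤) : Module.Flat A (A ⧸ J) := by
  rcases hJ with rfl | rfl
  · exact Module.Flat.of_linearEquiv (Submodule.quotEquivOfEqBot _ rfl)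
  · haveI : Subsingleton (A ⧸ (⊤ : Ideal A)) := Ideal.Quotient.subsingleton_iff.mpr rfl
    haveI : Module.Free A (A ⧸ (⊤ : Ideal A)) := Module.Free.of_subsingleton A _
    infer_instance

theorem bot_pow_eq (q : ℕ) : (⊥ : Ideal A) ^ q = ⊥ ∨ (⊥ : Ideal A) ^ q = ⊤ := by
  cases q with
  | zero => right; simp
  | succ q => left; rw [← Ideal.zero_eq_bot, zero_pow (Nat.succ_ne_zero q)]

theorem span_eq_bot_of_card_le_zero (s : Finset A) (ht : s.card ≤ 0) :
    Ideal.span (s : Set A) = ⊥ := by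
  have : s = ∅ := Finset.card_eq_zero.mp (Nat.le_zero.mp ht)
  rw [this]
  simp

/-- **S0361.** -/
theorem tor_maps_vanish_uniformly [IsNoetherianRing A] (I : Ideal A) (t : ℕ) (s : Finset A)
    (hs : I = Ideal.span (s : Set A)) (ht : s.card ≤ t) :
    ∃ N c : ℕ, ∀ (M : Type u) [AddCommGroup M] [Module A M], ∀ n : ℕ, N ≤ n →
      (((Tor (ModuleCat.{u} A) (t + 1)).obj (ModuleCat.of A M)).map
        (ModuleCat.ofHom (Submodule.mapQ (I ^ n) (I ^ (n - c)) LinearMap.id
          (Ideal.pow_le_pow_right (Nat.sub_le n c))))) = 0 := by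
  rcases Nat.eq_zero_or_pos t with rfl | htpos
  · have hI : I = ⊥ := hs.trans (span_eq_bot_of_card_le_zero s ht)
    subst hI
    refine ⟨0, 0, fun M _ _ n _ => ?_⟩
    haveI : Module.Flat A (ModuleCat.of A (A ⧸ (⊥ : Ideal A) ^ n)) :=
      flat_quot_of_bot_or_top _ (bot_pow_eq n)
    exact (isZero_tor_of_flat_right (ModuleCat.of A M) (ModuleCat.of A (A ⧸ (⊥ : Ideal A) ^ n))
      (0 + 1) (by omega)).eq_of_src _ _
  · obtain ⟨a, ha⟩ := exists_gens s t ht
    have hI : I = Ideal.span (Set.range a) := hs.trans ha.symm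
    subst hI
    obtain ⟨c, hc⟩ := tor_map_eq_zero a htpos
    refine ⟨c, c, fun M _ _ n hn => ?_⟩
    refine hc n (n - c) 0 (by omega) 1 (by simp) _ ?_ (ModuleCat.of A M) (t + 1) le_rfl
    intro x
    rw [one_mul]
    rfl

/-- **S1739**, in terms of Mathlib's `Tor`. -/
theorem tor_annihilated_uniformly [IsNoetherianRing A] (I : Ideal A) (t : ℕ) (s : Finset A)
    (hs : I = Ideal.span (s : Set A)) (ht : s.card ≤ t) :
    ∃ c : ℕ, ∀ (M : Type u) [AddCommGroup M] [Module A M] (i q : ℕ), t < i → ∀ r ∈ I ^ c,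
      ∀ x : ((Tor (ModuleCat.{u} A) i).obj (ModuleCat.of A M)).obj (ModuleCat.of A (A ⧸ I ^ q)),
        r • x = 0 := by
  rcases Nat.eq_zero_or_pos t with rfl | htpos
  · have hI : I = ⊥ := hs.trans (span_eq_bot_of_card_le_zero s ht)
    subst hI
    refine ⟨0, fun M _ _ i q hi r _ x => ?_⟩
    haveI : Module.Flat A (ModuleCat.of A (A ⧸ (⊥ : Ideal A) ^ q)) :=
      flat_quot_of_bot_or_top _ (bot_pow_eq q)
    have hz := isZero_tor_of_flat_right (ModuleCat.of A M)
      (ModuleCat.of A (A ⧸ (⊥ : Ideal A) ^ q)) i (by omega)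
    haveI := (ModuleCat.isZero_iff_subsingleton.mp hz)
    exact Subsingleton.elim _ _
  · obtain ⟨a, ha⟩ := exists_gens s t ht
    have hI : I = Ideal.span (Set.range a) := hs.trans ha.symm
    subst hI
    obtain ⟨c, hc⟩ := tor_map_eq_zero a htpos
    refine ⟨c, fun M _ _ i q hi r hr x => ?_⟩
    have h0 := hc q q c rfl r hr (r • LinearMap.id) (fun x => by
      rw [LinearMap.smul_apply, LinearMap.id_apply]
      rfl) (ModuleCat.of A M) i (by omega)
    rw [tor_smul_apply]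
    have e : (r • 𝟙 (ModuleCat.of A (A ⧸ Ideal.span (Set.range a) ^ q))) =
        ModuleCat.ofHom (r • LinearMap.id) := rfl
    rw [e, h0]
    rfl

end final

end Groth.Agent.Lib.Seat50.TorUniform
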