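import Groth.Agent.Lib.Helper13KzTor

/-!
# Symmetry of `Tor` and the Tor Euler characteristic against a regular sequence (seat 66)

* `nonempty_tor_symm`: `Tor_n(M, N) ≅ Tor_n(N, M)` for Mathlib's `Tor` on `ModuleCat R`.
* `chi_symm`: `IntMult.chi A M N = IntMult.chi A N M`.
* `koszul_chi_of_isWeaklyRegular`: for `l` weakly regular on `M`, the Koszul Euler characteristic
  `chi l M` is the (truncated) length of `M/(l)M`.
* `intMult_chi_quot_quot`: for `l` weakly regular on `A` and on `A/I`,
  `IntMult.chi A (A/I) (A/(l)) = length (A/(I + (l)))`.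
-/

set_option autoImplicit false
set_option linter.style.haveILetI false
universe u

open CategoryTheory MonoidalCategory RingTheory.Sequence

namespace Groth.Agent.Lib.Seat66.TorSymm

open Groth.Agent.Helper13Tor Groth.Agent.Helper13Kz

section Symm

variable {R : Type u} [CommRing R]

/-- `Tor` is symmetric. -/
theorem nonempty_tor_symm (M N : ModuleCat.{u} R) (n : ℕ) :
    Nonempty (((Tor (ModuleCat.{u} R) n).obj M).obj N ≅
      ((Tor (ModuleCat.{u} R) n).obj N).obj M) := by
  let P : ProjectiveResolution M := ProjectiveResolution.of M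
  obtain ⟨e1⟩ := nonempty_tor_iso_homology M N P n
  let e2 := torIso P N n
  let β : tensorRight N ≅ tL N := (BraidedCategory.tensorLeftIsoTensorRight N).symm
  let e3 := (HomologicalComplex.homologyFunctor (ModuleCat.{u} R) (ComplexShape.down ℕ) n).mapIso
    ((NatIso.mapHomologicalComplex β (ComplexShape.down ℕ)).app P.complex)
  exact ⟨e1 ≪≫ e3 ≪≫ e2.symm⟩

end Symm

section Chi

variable (A : Type u) [CommRing A]

theorem chi_symm (M N : Type u) [AddCommGroup M] [Module A M] [AddCommGroup N] [Module A N] :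
    IntMult.chi A M N = IntMult.chi A N M := by
  unfold IntMult.chi
  congr 1
  funext i
  obtain ⟨e⟩ := nonempty_tor_symm (ModuleCat.of A M) (ModuleCat.of A N) i
  have h : Module.length A (DRing.Tor A i M N) = Module.length A (DRing.Tor A i N M) :=
    e.toLinearEquiv.length_eq
  rw [h]

variable {A}

/-- For a sequence `l` weakly regular on `M`, the Koszul Euler characteristic is the length of
`M/(l)M`. -/
theorem koszul_chi_of_isWeaklyRegular (l : List A) :
    ∀ (M : Type u) [AddCommGroup M] [Module A M], IsWeaklyRegular M l →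
      chi l M = ((Module.length A (M ⧸ Ideal.ofList l • (⊤ : Submodule A M))).toNat : ℤ) := by
  induction l with
  | nil =>
    intro M _ _ _
    rw [chi_nil]
    have e : (M ⧸ Ideal.ofList ([] : List A) • (⊤ : Submodule A M)) ≃ₗ[A] M :=
      Submodule.quotEquivOfEqBot _ (by rw [Ideal.ofList_nil, Submodule.bot_smul])
    rw [e.length_eq]
  | cons x l ih =>
    intro M _ _ h
    rw [isWeaklyRegular_cons_iff] at h
    rw [chi_cons_of_regular l x h.1, ih _ h.2]
    rw [(Submodule.quotOfListConsSMulTopEquivQuotSMulTopInner M x l).length_eq]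

/-- `(A/I)/(J • ⊤) ≃ A/(I ⊔ J)`. -/
noncomputable def quotQuotEquiv (I J : Ideal A) :
    ((A ⧸ I) ⧸ J • (⊤ : Submodule A (A ⧸ I))) ≃ₗ[A] (A ⧸ (I ⊔ J)) := by
  have h : J • (⊤ : Submodule A (A ⧸ I)) = (I ⊔ J : Submodule A A).map (Submodule.mkQ I) := by
    rw [Submodule.map_sup, Submodule.mkQ_map_self, bot_sup_eq]
    have h1 : (⊤ : Submodule A (A ⧸ I)) = (⊤ : Submodule A A).map (Submodule.mkQ I) := by
      rw [Submodule.map_top, Submodule.range_mkQ]
    rw [h1, ← Submodule.map_smul'']
    congr 1
    exact Ideal.mul_top J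
  exact (Submodule.quotEquivOfEq _ _ h).trans
    (Submodule.quotientQuotientEquivQuotient I (I ⊔ J) le_sup_left)

/-- The Tor Euler characteristic of `A/I` against `A/(l)`, for `l` weakly regular on `A` and on
`A/I`, is the length of `A/(I + (l))`. -/
theorem intMult_chi_quot_quot (I : Ideal A) (l : List A) (hA : IsWeaklyRegular A l)
    (hM : IsWeaklyRegular (A ⧸ I) l) :
    IntMult.chi A (A ⧸ I) (A ⧸ Ideal.ofList l) =
      ((Module.length A (A ⧸ (I ⊔ Ideal.ofList l))).toNat : ℤ) := by
  rw [chi_symm, intMult_chi_eq_chi l hA (A ⧸ I), koszul_chi_of_isWeaklyRegular l _ hM,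
    (quotQuotEquiv I (Ideal.ofList l)).length_eq]

end Chi

end Groth.Agent.Lib.Seat66.TorSymm
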