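import Mathlib
import Groth.Prelude.Def_DRing2
import Groth.Prelude.Def_BlowUp2
import Groth.Agent.Lib.Seat50TorEndo
import Groth.Agent.Lib.Seat50TorUniform
import Groth.Agent.Lib.Seat50BlowupAlg
import Groth.Agent.Lib.Seat66TorSymm

/-!
# Seat50BlowupTor (helper50): `I^c` kills `Tor_i^A(A[I/a_0], M)` for `i ≥ t + 1` (S8938)
-/

set_option autoImplicit false
set_option linter.unusedSectionVars false
set_option linter.style.haveILetI false
universe u
open CategoryTheory

namespace Groth.Agent.Lib.Seat50.BlowupTor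
open Groth.Agent.Lib.Seat50.TorEndo Groth.Agent.Lib.Seat50.BlowupAlg
  Groth.Agent.Lib.Seat50.TorUniform

variable {A : Type u} [CommRing A] {t : ℕ}

/-- multiplication by `a_0` on `X_s = A[z]/(w_i : i < s)`. -/
noncomputable def vQ (a : Fin (t + 1) → A) (s : ℕ) : (QQ A t ⧸ MM a s) →ₗ[A] (QQ A t ⧸ MM a s) :=
  LinearMap.mulLeft A (Ideal.Quotient.mk (MM a s) (vv a))

theorem vQ_apply_mk (a : Fin (t + 1) → A) (s : ℕ) (z : QQ A t) :
    vQ a s (Ideal.Quotient.mk (MM a s) z) = Ideal.Quotient.mk (MM a s) (vv a * z) := by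
  rw [vQ, LinearMap.mulLeft_apply, ← map_mul]

theorem vQ_pow_apply_mk (a : Fin (t + 1) → A) (s : ℕ) (e : ℕ) (z : QQ A t) :
    ((vQ a s) ^ e) (Ideal.Quotient.mk (MM a s) z) =
      Ideal.Quotient.mk (MM a s) (vv a ^ e * z) := by
  induction e with
  | zero => simp
  | succ e ih =>
    rw [pow_succ', Module.End.mul_apply, ih, vQ_apply_mk, pow_succ', mul_assoc]

/-- multiplication by `w_s` on `X_s`. -/
noncomputable def wQ (a : Fin (t + 1) → A) (s : ℕ) (hs : s < t) :
    (QQ A t ⧸ MM a s) →ₗ[A] (QQ A t ⧸ MM a s) :=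
  LinearMap.mulLeft A (Ideal.Quotient.mk (MM a s) (ww a ⟨s, hs⟩))

theorem wQ_apply_mk (a : Fin (t + 1) → A) (s : ℕ) (hs : s < t) (z : QQ A t) :
    wQ a s hs (Ideal.Quotient.mk (MM a s) z) = Ideal.Quotient.mk (MM a s) (ww a ⟨s, hs⟩ * z) := by
  rw [wQ, LinearMap.mulLeft_apply, ← map_mul]

/-- the projection `X_s → X_{s+1}`. -/
noncomputable def gXX (a : Fin (t + 1) → A) (s : ℕ) :
    (QQ A t ⧸ MM a s) →ₗ[A] (QQ A t ⧸ MM a (s + 1)) :=
  (Ideal.Quotient.factorₐ A (MM_mono a (Nat.le_succ s))).toLinearMap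

theorem gXX_apply_mk (a : Fin (t + 1) → A) (s : ℕ) (z : QQ A t) :
    gXX a s (Ideal.Quotient.mk (MM a s) z) = Ideal.Quotient.mk (MM a (s + 1)) z := rfl

theorem torNil_step [IsNoetherianRing A] (a : Fin (t + 1) → A) (k : ℕ) (hs : k < t) (c : ℕ)
    (hc : TorNil (QQ A t ⧸ MM a k) (vQ a k) (k + 1) c) :
    ∃ c', TorNil (QQ A t ⧸ MM a (k + 1)) (vQ a (k + 1)) (k + 1 + 1) c' := by
  obtain ⟨e, he⟩ := exists_pow_kill a k hs
  refine ⟨c + (c + e), ?_⟩
  refine TorNil.step (vQ a k) (wQ a k hs) ?_ (vQ a (k + 1)) (gXX a k) ?_ ?_ ?_ e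
    ?_ k c hc
  · refine LinearMap.ext fun x => ?_
    obtain ⟨z, rfl⟩ := Ideal.Quotient.mk_surjective x
    simp only [LinearMap.comp_apply, vQ_apply_mk, wQ_apply_mk]
    rw [mul_left_comm]
  · intro x
    obtain ⟨z, rfl⟩ := Ideal.Quotient.mk_surjective x
    exact ⟨Ideal.Quotient.mk _ z, rfl⟩
  · refine LinearMap.ext fun x => ?_
    obtain ⟨z, rfl⟩ := Ideal.Quotient.mk_surjective x
    simp only [LinearMap.comp_apply, vQ_apply_mk, gXX_apply_mk]
  · ext x
    obtain ⟨z, rfl⟩ := Ideal.Quotient.mk_surjective x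
    rw [LinearMap.mem_ker, gXX_apply_mk, Ideal.Quotient.eq_zero_iff_mem, MM_succ a k hs,
      Ideal.mem_span_singleton_sup, LinearMap.mem_range]
    constructor
    · rintro ⟨w, b, hb, rfl⟩
      refine ⟨Ideal.Quotient.mk _ w, ?_⟩
      rw [wQ_apply_mk, Ideal.Quotient.mk_eq_mk_iff_sub_mem]
      have : ww a ⟨k, hs⟩ * w - (w * ww a ⟨k, hs⟩ + b) = -b := by ring
      rw [this]
      exact neg_mem hb
    · rintro ⟨x', hx'⟩
      obtain ⟨w, rfl⟩ := Ideal.Quotient.mk_surjective x'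
      rw [wQ_apply_mk, Ideal.Quotient.mk_eq_mk_iff_sub_mem] at hx'
      refine ⟨w, z - w * ww a ⟨k, hs⟩, ?_, by ring⟩
      have : z - w * ww a ⟨k, hs⟩ = -(ww a ⟨k, hs⟩ * w - z) := by ring
      rw [this]
      exact neg_mem hx'
  · intro x hx
    obtain ⟨z, rfl⟩ := Ideal.Quotient.mk_surjective x
    rw [wQ_apply_mk, Ideal.Quotient.eq_zero_iff_mem] at hx
    rw [vQ_pow_apply_mk, Ideal.Quotient.eq_zero_iff_mem]
    exact he z hx

theorem flat_quot_bot (R : Type u) [CommRing R] [Algebra A R] [Module.Flat A R] :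
    Module.Flat A (R ⧸ (⊥ : Ideal R)) :=
  Module.Flat.of_linearEquiv
    ((Submodule.quotEquivOfEqBot (⊥ : Submodule R R) rfl).restrictScalars A)

theorem flat_quot_MM_zero (a : Fin (t + 1) → A) : Module.Flat A (QQ A t ⧸ MM a 0) := by
  rw [MM_zero]
  exact flat_quot_bot (QQ A t)

/-- the chain: `Tor_i(M, a_0^c on X_s) = 0` for `i ≥ s + 1`. -/
theorem exists_torNil [IsNoetherianRing A] (a : Fin (t + 1) → A) (s : ℕ) (hst : s ≤ t) :
    ∃ c, TorNil (QQ A t ⧸ MM a s) (vQ a s) (s + 1) c := by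
  induction s with
  | zero =>
    have := flat_quot_MM_zero a
    exact ⟨0, torNil_of_flat _ 0⟩
  | succ s ih =>
    obtain ⟨c, hc⟩ := ih (by omega)
    exact torNil_step a s (by omega) c hc

/-- the induced map `X_t → A_{a_0}`. -/
noncomputable def gB (a : Fin (t + 1) → A) : (QQ A t ⧸ MM a t) →ₗ[A] Localization.Away (a 0) :=
  (Ideal.Quotient.liftₐ (MM a t) (rho a) (fun _ hz => MM_le_ker_rho a t hz)).toLinearMap

theorem gB_apply_mk (a : Fin (t + 1) → A) (z : QQ A t) :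
    gB a (Ideal.Quotient.mk (MM a t) z) = rho a z := rfl

theorem mem_range_gB (a : Fin (t + 1) → A) (f : Localization.Away (a 0)) :
    f ∈ LinearMap.range (gB a) ↔ f ∈ (rho a).range := by
  rw [LinearMap.mem_range, AlgHom.mem_range]
  constructor
  · rintro ⟨x, rfl⟩
    obtain ⟨z, rfl⟩ := Ideal.Quotient.mk_surjective x
    exact ⟨z, rfl⟩
  · rintro ⟨z, rfl⟩
    exact ⟨Ideal.Quotient.mk _ z, rfl⟩

/-- multiplication by `a_0` on `A_{a_0}`. -/
noncomputable def uL (a0 : A) : Localization.Away a0 →ₗ[A] Localization.Away a0 :=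
  a0 • LinearMap.id

theorem uL_pow_apply (a0 : A) (c : ℕ) (f : Localization.Away a0) :
    ((uL a0) ^ c) f = a0 ^ c • f := by
  induction c with
  | zero => simp
  | succ c ih =>
    rw [pow_succ', Module.End.mul_apply, ih, uL, LinearMap.smul_apply, LinearMap.id_apply,
      smul_smul, pow_succ']

theorem range_gB_stab (a : Fin (t + 1) → A) :
    ∀ z ∈ LinearMap.range (gB a), uL (a 0) z ∈ LinearMap.range (gB a) := by
  intro z hz
  exact Submodule.smul_mem _ _ hz

theorem exists_torNil_range [IsNoetherianRing A] (a : Fin (t + 1) → A) :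
    ∃ c, TorNil (LinearMap.range (gB a)) ((uL (a 0)).restrict (range_gB_stab a)) (t + 1) c := by
  obtain ⟨c, hc⟩ := exists_torNil a t le_rfl
  obtain ⟨e, he⟩ := exists_pow_kill_ker a
  refine ⟨c + e, ?_⟩
  refine TorNil.range (gB a) (vQ a t) (uL (a 0)) ?_ e ?_ t c hc (range_gB_stab a)
  · refine LinearMap.ext fun x => ?_
    obtain ⟨z, rfl⟩ := Ideal.Quotient.mk_surjective x
    simp only [LinearMap.comp_apply, vQ_apply_mk, gB_apply_mk]
    rw [map_mul, uL, LinearMap.smul_apply, LinearMap.id_apply, Algebra.smul_def]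
    congr 1
    exact (rho a).commutes (a 0)
  · intro x hx
    obtain ⟨z, rfl⟩ := Ideal.Quotient.mk_surjective x
    rw [gB_apply_mk] at hx
    rw [vQ_pow_apply_mk, Ideal.Quotient.eq_zero_iff_mem]
    exact he z hx


/-- **S8938.** -/
theorem tor_blowup_annihilated [IsNoetherianRing A] (t : ℕ) (a : Fin (t + 1) → A) :
    ∃ c : ℕ, ∀ (M : Type u) [AddCommGroup M] [Module A M] (i : ℕ), t + 1 ≤ i →
      ∀ x ∈ Ideal.span (Set.range a) ^ c,
      ∀ y : DRing.Tor A i (BlowUp.affineAlgebra A (Ideal.span (Set.range a)) (a 0)) M,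
        x • y = 0 := by
  obtain ⟨c, hc⟩ := exists_torNil_range a
  refine ⟨c, fun M _ _ i hi x hx y => ?_⟩
  have hB : ∀ f : Localization.Away (a 0),
      f ∈ BlowUp.affineAlgebra A (Ideal.span (Set.range a)) (a 0) ↔
        f ∈ LinearMap.range (gB a) := by
    intro f
    rw [mem_range_gB, range_rho_eq]
  obtain ⟨b, hb, hbx⟩ := exists_mem_range_pow_smul a c x hx
  rw [range_rho_eq] at hb
  -- the comparison maps
  let ι : (BlowUp.affineAlgebra A (Ideal.span (Set.range a)) (a 0)) →ₗ[A]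
      LinearMap.range (gB a) :=
    { toFun := fun f => ⟨f.1, (hB f.1).mp f.2⟩
      map_add' := fun _ _ => rfl
      map_smul' := fun _ _ => rfl }
  let π : LinearMap.range (gB a) →ₗ[A]
      (BlowUp.affineAlgebra A (Ideal.span (Set.range a)) (a 0)) :=
    { toFun := fun f => ⟨b * f.1, mul_mem hb ((hB f.1).mpr f.2)⟩
      map_add' := fun f g => Subtype.ext (mul_add b f.1 g.1)
      map_smul' := fun r f => Subtype.ext (mul_smul_comm r b f.1) }
  have hj : π ∘ₗ (((uL (a 0)).restrict (range_gB_stab a)) ^ c) ∘ₗ ι =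
      x • (LinearMap.id : (BlowUp.affineAlgebra A (Ideal.span (Set.range a)) (a 0)) →ₗ[A] _) := by
    refine LinearMap.ext fun f => Subtype.ext ?_
    rw [LinearMap.comp_apply, LinearMap.comp_apply, Module.End.pow_restrict]
    show b * ((uL (a 0)) ^ c) f.1 = x • f.1
    rw [uL_pow_apply, mul_smul_comm, ← smul_mul_assoc, hbx, Algebra.smul_def]
  have h0 := hc.map_eq_zero ι π _ hj (ModuleCat.of A M) i hi
  obtain ⟨e⟩ := Groth.Agent.Lib.Seat66.TorSymm.nonempty_tor_symm
    (ModuleCat.of A (BlowUp.affineAlgebra A (Ideal.span (Set.range a)) (a 0))) (ModuleCat.of A M) i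
  have h1 : e.hom.hom (x • y) = 0 := by
    rw [map_smul]
    have := tor_smul_apply (ModuleCat.of A M)
      (ModuleCat.of A (BlowUp.affineAlgebra A (Ideal.span (Set.range a)) (a 0))) i x
      (e.hom.hom y)
    rw [this]
    have e' : (x • 𝟙 (ModuleCat.of A (BlowUp.affineAlgebra A (Ideal.span (Set.range a)) (a 0)))) =
        ModuleCat.ofHom (x • LinearMap.id) := rfl
    rw [e', h0]
    rfl
  have inj : Function.Injective e.hom.hom := (ModuleCat.mono_iff_injective e.hom).mp inferInstance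
  exact inj (h1.trans (map_zero _).symm)

end Groth.Agent.Lib.Seat50.BlowupTor
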