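import Mathlib
import Groth.Agent.Lib.Helper19ComplNoeth2

/-!
# Seat50ComplFlat (helper50)

`M → lim_B (B ⊗_A M)` is bijective for a finite module `M` over a Noetherian ring `A`, where `B`
ranges over the complete Noetherian local flat `A`-algebras (`TestAlg A`) and all `A`-algebra maps.

* `TestAlg A`, `complLoc C P hC` (completion of the localization of a flat Noetherian `A`-algebra
  `C` at a prime `P`), `hatAt 𝔭 = complLoc A 𝔭 _`.
* `tmul_one_eq_zero_iff`, `exists_eq_tmul_one`, `mem_map_of_mul_mem` (bridges `B ⊗ A/I` ↔ `B/IB`).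
* `exists_algHom_of_comap_eq`: universal `A`-algebra map `Â_𝔭 → T.B` when `𝔪_T ∩ A = 𝔭`.
* `mem_map_localization_of_mem_map_complLoc`, `exists_mul_mem_of_mem_map_complLoc`
  (faithfully flat contraction), `comap_maximalIdeal_complLoc(')`.
* `Family A M`, `AllConst A M`, `allConst_quotient_prime`, `allConst_of_exact`,
  `allConst_of_finite`, `eq_zero_of_forall_tmul_eq_zero`, `existsUnique_of_finite`.
-/

set_option autoImplicit false
set_option linter.style.haveILetI false
set_option linter.unusedSectionVars false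
universe u
open scoped TensorProduct
open IsLocalRing

namespace Groth.Agent.Lib.Seat50.ComplFlat

variable (A : Type u) [CommRing A]

/-- A test algebra: a complete Noetherian local flat `A`-algebra. -/
structure TestAlg where
  B : Type u
  [ring : CommRing B]
  [alg : Algebra A B]
  [noeth : IsNoetherianRing B]
  [loc : IsLocalRing B]
  complete : IsAdicComplete (IsLocalRing.maximalIdeal B) B
  flat : Module.Flat A B

attribute [instance] TestAlg.ring TestAlg.alg TestAlg.noeth TestAlg.loc

variable {A}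

section complLoc
variable (C : Type u) [CommRing C] [Algebra A C] [IsNoetherianRing C]
  (P : Ideal C) [P.IsPrime]

/-- The completion of the localization of a flat Noetherian `A`-algebra at a prime, as a test
algebra. -/
noncomputable def complLoc (hC : Module.Flat A C) : TestAlg A where
  B := AdicCompletion (maximalIdeal (Localization.AtPrime P)) (Localization.AtPrime P)
  noeth := Groth.Agent.Lib.Helper19.isNoetherianRing_adicCompletion_of_fg _ _
    (maximalIdeal (Localization.AtPrime P)).fg_of_isNoetherianRing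
  complete := inferInstance
  flat := by
    haveI := hC
    haveI : Module.Flat A (Localization.AtPrime P) := Module.Flat.trans A C _
    exact Module.Flat.trans A (Localization.AtPrime P) _

instance (hC : Module.Flat A C) : Algebra C (complLoc C P hC).B :=
  inferInstanceAs (Algebra C
    (AdicCompletion (maximalIdeal (Localization.AtPrime P)) (Localization.AtPrime P)))

instance (hC : Module.Flat A C) : Algebra (Localization.AtPrime P) (complLoc C P hC).B :=
  inferInstanceAs (Algebra (Localization.AtPrime P)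
    (AdicCompletion (maximalIdeal (Localization.AtPrime P)) (Localization.AtPrime P)))

end complLoc

section bridge
variable {B : Type*} [CommRing B] [Algebra A B]

theorem tmul_one_eq_zero_iff (I : Ideal A) (y : B) :
    y ⊗ₜ[A] (1 : A ⧸ I) = 0 ↔ y ∈ I.map (algebraMap A B) := by
  rw [← (TensorProduct.tensorQuotEquivQuotSMul B I).map_eq_zero_iff]
  have h1 : TensorProduct.tensorQuotEquivQuotSMul B I (y ⊗ₜ[A] (1 : A ⧸ I)) =
      Submodule.Quotient.mk y := by
    have := TensorProduct.tensorQuotEquivQuotSMul_tmul_mk (M := B) I y 1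
    simpa using this
  rw [h1, Submodule.Quotient.mk_eq_zero, Ideal.smul_top_eq_map]
  simp

theorem exists_eq_tmul_one (I : Ideal A) (z : B ⊗[A] (A ⧸ I)) :
    ∃ y : B, z = y ⊗ₜ[A] (1 : A ⧸ I) := by
  induction z using TensorProduct.induction_on with
  | zero => exact ⟨0, by simp⟩
  | tmul b m =>
    obtain ⟨a, rfl⟩ := Ideal.Quotient.mk_surjective m
    refine ⟨a • b, ?_⟩
    rw [TensorProduct.smul_tmul]
    congr 1
    rw [Algebra.smul_def, mul_one]
    rfl
  | add z₁ z₂ h₁ h₂ =>
    obtain ⟨y₁, rfl⟩ := h₁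
    obtain ⟨y₂, rfl⟩ := h₂
    exact ⟨y₁ + y₂, by rw [TensorProduct.add_tmul]⟩

theorem mem_map_of_mul_mem [Module.Flat A B] (𝔭 : Ideal A) [𝔭.IsPrime] (s : A) (hs : s ∉ 𝔭)
    (n : B) (h : algebraMap A B s * n ∈ 𝔭.map (algebraMap A B)) :
    n ∈ 𝔭.map (algebraMap A B) := by
  rw [← tmul_one_eq_zero_iff] at h ⊢
  let μ : (A ⧸ 𝔭) →ₗ[A] (A ⧸ 𝔭) := LinearMap.lsmul A (A ⧸ 𝔭) s
  have hμ : Function.Injective μ := by
    rw [← LinearMap.ker_eq_bot, LinearMap.ker_eq_bot']
    intro m hm
    obtain ⟨a, rfl⟩ := Ideal.Quotient.mk_surjective m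
    have : Ideal.Quotient.mk 𝔭 (s * a) = 0 := hm
    rw [Ideal.Quotient.eq_zero_iff_mem] at this ⊢
    exact (Ideal.IsPrime.mem_or_mem ‹_› this).resolve_left hs
  have hinj := Module.Flat.lTensor_preserves_injective_linearMap (M := B) μ hμ
  apply hinj
  rw [map_zero, LinearMap.lTensor_tmul, ← h]
  show n ⊗ₜ[A] (s • (1 : A ⧸ 𝔭)) = _
  rw [← TensorProduct.smul_tmul, Algebra.smul_def]

end bridge

section univ
variable [IsNoetherianRing A] (𝔭 : Ideal A) [𝔭.IsPrime]

/-- `Â_𝔭` as a test algebra. -/
noncomputable abbrev hatAt : TestAlg A := complLoc A 𝔭 (Module.Flat.self)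

theorem exists_algHom_of_comap_eq (T : TestAlg A)
    (h : (maximalIdeal T.B).comap (algebraMap A T.B) = 𝔭) :
    Nonempty ((hatAt 𝔭).B →ₐ[A] T.B) := by
  have hunit : ∀ y : 𝔭.primeCompl, IsUnit (algebraMap A T.B y) := by
    intro y
    by_contra hy
    have h1 : algebraMap A T.B y ∈ maximalIdeal T.B := (mem_maximalIdeal _).mpr hy
    have h2 : (y : A) ∈ (maximalIdeal T.B).comap (algebraMap A T.B) := h1
    exact y.2 (h.le h2)
  let g : Localization.AtPrime 𝔭 →ₐ[A] T.B :=
    IsLocalization.liftAlgHom (M := 𝔭.primeCompl) (f := Algebra.ofId A T.B) hunit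
  have hg : (maximalIdeal (Localization.AtPrime 𝔭)).map g.toRingHom ≤ maximalIdeal T.B := by
    rw [← Localization.AtPrime.map_eq_maximalIdeal, Ideal.map_map]
    have h1 : g.toRingHom.comp (algebraMap A (Localization.AtPrime 𝔭)) = algebraMap A T.B :=
      g.comp_algebraMap
    rw [h1, Ideal.map_le_iff_le_comap, h]
  have hgn : ∀ n, maximalIdeal (Localization.AtPrime 𝔭) ^ n ≤
      (maximalIdeal T.B ^ n).comap g := by
    intro n
    have h1 : maximalIdeal (Localization.AtPrime 𝔭) ≤ (maximalIdeal T.B).comap g.toRingHom :=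
      Ideal.map_le_iff_le_comap.mp hg
    exact (Ideal.pow_right_mono h1 n).trans (Ideal.le_comap_pow _ n)
  let f : (n : ℕ) → (hatAt 𝔭).B →ₐ[A] T.B ⧸ (maximalIdeal T.B) ^ n := fun n =>
    (Ideal.quotientMapₐ (maximalIdeal T.B ^ n) g (hgn n)).comp
      ((AdicCompletion.evalₐ (maximalIdeal (Localization.AtPrime 𝔭)) n).restrictScalars A)
  haveI := T.complete
  refine ⟨IsAdicComplete.liftAlgHom (maximalIdeal T.B) f ?_⟩
  intro m n hle
  apply AlgHom.ext
  intro x
  obtain ⟨c, rfl⟩ := AdicCompletion.mk_surjective (maximalIdeal (Localization.AtPrime 𝔭))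
    (Localization.AtPrime 𝔭) x
  have hfn : ∀ k, f k (AdicCompletion.mk _ _ c) = Ideal.Quotient.mk _ (g (c.1 k)) := by
    intro k
    show (Ideal.quotientMapₐ (maximalIdeal T.B ^ k) g (hgn k))
      (AdicCompletion.evalₐ (maximalIdeal (Localization.AtPrime 𝔭)) k
        (AdicCompletion.mk _ _ c)) = _
    rw [AdicCompletion.evalₐ_mk]
    rfl
  have e1 : ((Ideal.Quotient.factorₐ A (Ideal.pow_le_pow_right hle)).comp (f n))
      (AdicCompletion.mk _ _ c) =
      Ideal.Quotient.factorₐ A (Ideal.pow_le_pow_right hle) (f n (AdicCompletion.mk _ _ c)) := rfl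
  rw [e1, hfn, hfn]
  show Ideal.Quotient.mk _ (g (c.1 n)) = Ideal.Quotient.mk _ (g (c.1 m))
  rw [Ideal.Quotient.eq, ← map_sub]
  have hy := c.2 hle
  rw [SModEq.sub_mem] at hy
  simp only [smul_eq_mul, Ideal.mul_top] at hy
  have hy' : c.1 n - c.1 m ∈ maximalIdeal (Localization.AtPrime 𝔭) ^ m := by
    rw [← neg_sub]; exact Ideal.neg_mem_iff _ |>.mpr hy
  exact hgn m hy'

end univ

section contraction
variable (C : Type u) [CommRing C] [Algebra A C] [IsNoetherianRing C]
  (P : Ideal C) [P.IsPrime] (hC : Module.Flat A C)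

instance : IsScalarTower A C (complLoc C P hC).B :=
  inferInstanceAs (IsScalarTower A C
    (AdicCompletion (maximalIdeal (Localization.AtPrime P)) (Localization.AtPrime P)))

instance : IsScalarTower C (Localization.AtPrime P) (complLoc C P hC).B :=
  inferInstanceAs (IsScalarTower C (Localization.AtPrime P)
    (AdicCompletion (maximalIdeal (Localization.AtPrime P)) (Localization.AtPrime P)))

instance : IsLocalHom (algebraMap (Localization.AtPrime P) (complLoc C P hC).B) :=
  inferInstanceAs (IsLocalHom (algebraMap (Localization.AtPrime P)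
    (AdicCompletion (maximalIdeal (Localization.AtPrime P)) (Localization.AtPrime P))))

instance : Module.Flat (Localization.AtPrime P) (complLoc C P hC).B :=
  inferInstanceAs (Module.Flat (Localization.AtPrime P)
    (AdicCompletion (maximalIdeal (Localization.AtPrime P)) (Localization.AtPrime P)))

theorem mem_map_localization_of_mem_map_complLoc (J : Ideal C) (e : C)
    (h : algebraMap C (complLoc C P hC).B e ∈ J.map (algebraMap C (complLoc C P hC).B)) :
    algebraMap C (Localization.AtPrime P) e ∈ J.map (algebraMap C (Localization.AtPrime P)) := by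
  haveI : Module.FaithfullyFlat (Localization.AtPrime P) (complLoc C P hC).B :=
    Module.FaithfullyFlat.of_flat_of_isLocalHom
  rw [← Ideal.comap_map_eq_self_of_faithfullyFlat (B := (complLoc C P hC).B)
    (J.map (algebraMap C (Localization.AtPrime P))), Ideal.mem_comap, Ideal.map_map,
    ← IsScalarTower.algebraMap_eq, ← IsScalarTower.algebraMap_apply]
  exact h

theorem exists_mul_mem_of_mem_map_complLoc (J : Ideal C) (e : C)
    (h : algebraMap C (complLoc C P hC).B e ∈ J.map (algebraMap C (complLoc C P hC).B)) :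
    ∃ t : C, t ∉ P ∧ t * e ∈ J := by
  have h1 := mem_map_localization_of_mem_map_complLoc C P hC J e h
  rw [IsLocalization.mem_map_algebraMap_iff P.primeCompl] at h1
  obtain ⟨⟨j, t⟩, hjt⟩ := h1
  rw [← map_mul, IsLocalization.eq_iff_exists P.primeCompl] at hjt
  obtain ⟨c, hc⟩ := hjt
  refine ⟨(c : C) * (t : C), (c * t).2, ?_⟩
  have : (c : C) * (t : C) * e = c * (e * t) := by ring
  rw [this, hc]
  exact Ideal.mul_mem_left _ _ j.2

theorem comap_maximalIdeal_complLoc :
    (maximalIdeal (complLoc C P hC).B).comap (algebraMap C (complLoc C P hC).B) = P := by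
  rw [IsScalarTower.algebraMap_eq C (Localization.AtPrime P) (complLoc C P hC).B,
    ← Ideal.comap_comap, IsLocalRing.maximalIdeal_comap]
  exact IsLocalization.AtPrime.under_maximalIdeal (Localization.AtPrime P) P

theorem comap_maximalIdeal_complLoc' :
    (maximalIdeal (complLoc C P hC).B).comap (algebraMap A (complLoc C P hC).B) =
      P.comap (algebraMap A C) := by
  rw [IsScalarTower.algebraMap_eq A C (complLoc C P hC).B,
    ← Ideal.comap_comap, comap_maximalIdeal_complLoc]

end contraction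

section steps
variable [IsNoetherianRing A] (𝔭 : Ideal A) [𝔭.IsPrime]

theorem stepA_aux
    (y₀ : AdicCompletion (maximalIdeal (Localization.AtPrime 𝔭)) (Localization.AtPrime 𝔭)) :
    ∃ a b : A, b ∉ 𝔭 ∧
      algebraMap A (AdicCompletion (maximalIdeal (Localization.AtPrime 𝔭))
        (Localization.AtPrime 𝔭)) b * y₀ -
      algebraMap A (AdicCompletion (maximalIdeal (Localization.AtPrime 𝔭))
        (Localization.AtPrime 𝔭)) a ∈
      𝔭.map (algebraMap A (AdicCompletion (maximalIdeal (Localization.AtPrime 𝔭))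
        (Localization.AtPrime 𝔭))) := by
  have hmap : 𝔭.map (algebraMap A (AdicCompletion (maximalIdeal (Localization.AtPrime 𝔭))
        (Localization.AtPrime 𝔭))) =
      (maximalIdeal (Localization.AtPrime 𝔭)).map
        (algebraMap (Localization.AtPrime 𝔭) (AdicCompletion (maximalIdeal (Localization.AtPrime 𝔭))
        (Localization.AtPrime 𝔭))) := by
    rw [← Localization.AtPrime.map_eq_maximalIdeal, Ideal.map_map,
      ← IsScalarTower.algebraMap_eq]
  obtain ⟨r, hr⟩ := Ideal.Quotient.mk_surjective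
    (AdicCompletion.evalOneₐ (maximalIdeal (Localization.AtPrime 𝔭)) y₀)
  have hker : y₀ - algebraMap (Localization.AtPrime 𝔭) (AdicCompletion (maximalIdeal (Localization.AtPrime 𝔭))
        (Localization.AtPrime 𝔭)) r ∈
      (maximalIdeal (Localization.AtPrime 𝔭)).map
        (algebraMap (Localization.AtPrime 𝔭) (AdicCompletion (maximalIdeal (Localization.AtPrime 𝔭))
        (Localization.AtPrime 𝔭))) := by
    have h1 := AdicCompletion.ker_evalOneₐ_eq_map (maximalIdeal (Localization.AtPrime 𝔭))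
      (maximalIdeal (Localization.AtPrime 𝔭)).fg_of_isNoetherianRing
    rw [← h1, RingHom.mem_ker, map_sub, sub_eq_zero]
    exact hr.symm
  obtain ⟨⟨a, s⟩, hrs⟩ := IsLocalization.mk'_surjective 𝔭.primeCompl r
  refine ⟨a, s, s.2, ?_⟩
  rw [hmap]
  have h3 : algebraMap A (Localization.AtPrime 𝔭) s * r = algebraMap A (Localization.AtPrime 𝔭) a := by
    rw [← hrs, mul_comm]
    exact IsLocalization.mk'_spec _ a s
  have h4 : algebraMap A (AdicCompletion (maximalIdeal (Localization.AtPrime 𝔭))
        (Localization.AtPrime 𝔭)) s * y₀ - algebraMap A (AdicCompletion (maximalIdeal (Localization.AtPrime 𝔭))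
        (Localization.AtPrime 𝔭)) a =
      algebraMap A (AdicCompletion (maximalIdeal (Localization.AtPrime 𝔭))
        (Localization.AtPrime 𝔭)) s * (y₀ - algebraMap (Localization.AtPrime 𝔭) (AdicCompletion (maximalIdeal (Localization.AtPrime 𝔭))
        (Localization.AtPrime 𝔭)) r) := by
    rw [mul_sub, IsScalarTower.algebraMap_apply A (Localization.AtPrime 𝔭) (AdicCompletion (maximalIdeal (Localization.AtPrime 𝔭))
        (Localization.AtPrime 𝔭)) a, ← h3,
      map_mul, ← IsScalarTower.algebraMap_apply]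
  rw [h4]
  exact Ideal.mul_mem_left _ _ hker

theorem stepA (y₀ : (hatAt 𝔭).B) :
    ∃ a b : A, b ∉ 𝔭 ∧ algebraMap A (hatAt 𝔭).B b * y₀ - algebraMap A (hatAt 𝔭).B a ∈
      𝔭.map (algebraMap A (hatAt 𝔭).B) :=
  stepA_aux 𝔭 y₀

theorem stepB (y : ∀ T : TestAlg A, T.B)
    (hcompat : ∀ (T T' : TestAlg A) (g : T.B →ₐ[A] T'.B),
      g (y T) - y T' ∈ 𝔭.map (algebraMap A T'.B))
    (a b : A)
    (hab : algebraMap A (hatAt 𝔭).B b * y (hatAt 𝔭) - algebraMap A (hatAt 𝔭).B a ∈
      𝔭.map (algebraMap A (hatAt 𝔭).B))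
    (T : TestAlg A) :
    algebraMap A T.B b * y T - algebraMap A T.B a ∈ 𝔭.map (algebraMap A T.B) := by
  by_contra hne
  have hne' : (Ideal.Quotient.mk (𝔭.map (algebraMap A T.B))
      (algebraMap A T.B b * y T - algebraMap A T.B a) : T.B ⧸ 𝔭.map (algebraMap A T.B)) ≠ 0 := by
    rwa [Ne, Ideal.Quotient.eq_zero_iff_mem]
  obtain ⟨P, hP, hle⟩ := exists_le_isAssociatedPrime_of_isNoetherianRing (R := T.B)
    (M := T.B ⧸ 𝔭.map (algebraMap A T.B)) _ hne'
  rw [isAssociatedPrime_iff] at hP
  obtain ⟨hPprime, nbar, hPn⟩ := hP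
  obtain ⟨n, rfl⟩ := Ideal.Quotient.mk_surjective nbar
  have hmemP : ∀ t : T.B, t ∈ P ↔ t * n ∈ 𝔭.map (algebraMap A T.B) := by
    intro t
    rw [hPn, Submodule.mem_colon_singleton, Submodule.mem_bot, ← Ideal.Quotient.eq_zero_iff_mem,
      map_mul]
    rfl
  have hmemE : ∀ t : T.B, t * (algebraMap A T.B b * y T - algebraMap A T.B a) ∈
      𝔭.map (algebraMap A T.B) → t ∈ P := by
    intro t ht
    apply hle
    rw [Submodule.mem_colon_singleton, Submodule.mem_bot]
    rw [← Ideal.Quotient.eq_zero_iff_mem, map_mul] at ht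
    exact ht
  have hn : n ∉ 𝔭.map (algebraMap A T.B) := fun hn =>
    hPprime.ne_top ((Ideal.eq_top_iff_one _).mpr ((hmemP 1).mpr (by simpa using hn)))
  haveI := T.flat
  have hcomap : P.comap (algebraMap A T.B) = 𝔭 := by
    ext s
    rw [Ideal.mem_comap, hmemP]
    constructor
    · intro hs
      by_contra hsp
      exact hn (mem_map_of_mul_mem 𝔭 s hsp n hs)
    · intro hs
      exact Ideal.mul_mem_right _ _ (Ideal.mem_map_of_mem _ hs)
  have hT' : (maximalIdeal (complLoc T.B P T.flat).B).comap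
      (algebraMap A (complLoc T.B P T.flat).B) = 𝔭 := by
    rw [comap_maximalIdeal_complLoc', hcomap]
  obtain ⟨g₀⟩ := exists_algHom_of_comap_eq 𝔭 (complLoc T.B P T.flat) hT'
  have h₁ := hcompat T (complLoc T.B P T.flat)
    (IsScalarTower.toAlgHom A T.B (complLoc T.B P T.flat).B)
  have h₀ := hcompat (hatAt 𝔭) (complLoc T.B P T.flat) g₀
  have h₂ : g₀ (algebraMap A (hatAt 𝔭).B b * y (hatAt 𝔭) - algebraMap A (hatAt 𝔭).B a) ∈
      𝔭.map (algebraMap A (complLoc T.B P T.flat).B) := by
    have := Ideal.mem_map_of_mem g₀.toRingHom hab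
    rw [Ideal.map_map] at this
    have hc : g₀.toRingHom.comp (algebraMap A (hatAt 𝔭).B) =
        algebraMap A (complLoc T.B P T.flat).B := g₀.comp_algebraMap
    rw [hc] at this
    exact this
  rw [map_sub, map_mul, AlgHom.commutes, AlgHom.commutes] at h₂
  have h₃ : algebraMap T.B (complLoc T.B P T.flat).B
      (algebraMap A T.B b * y T - algebraMap A T.B a) ∈
      (𝔭.map (algebraMap A T.B)).map (algebraMap T.B (complLoc T.B P T.flat).B) := by
    rw [Ideal.map_map, ← IsScalarTower.algebraMap_eq, map_sub, map_mul,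
      ← IsScalarTower.algebraMap_apply, ← IsScalarTower.algebraMap_apply]
    have e : algebraMap A (complLoc T.B P T.flat).B b *
        algebraMap T.B (complLoc T.B P T.flat).B (y T) -
        algebraMap A (complLoc T.B P T.flat).B a =
        algebraMap A (complLoc T.B P T.flat).B b *
          (IsScalarTower.toAlgHom A T.B (complLoc T.B P T.flat).B (y T) -
            y (complLoc T.B P T.flat)) -
        algebraMap A (complLoc T.B P T.flat).B b *
          (g₀ (y (hatAt 𝔭)) - y (complLoc T.B P T.flat)) +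
        (algebraMap A (complLoc T.B P T.flat).B b * g₀ (y (hatAt 𝔭)) -
          algebraMap A (complLoc T.B P T.flat).B a) := by
      rw [IsScalarTower.coe_toAlgHom']
      ring
    rw [e]
    exact Ideal.add_mem _ (Ideal.sub_mem _ (Ideal.mul_mem_left _ _ h₁)
      (Ideal.mul_mem_left _ _ h₀)) h₂
  obtain ⟨t, htP, ht⟩ := exists_mul_mem_of_mem_map_complLoc T.B P T.flat _ _ h₃
  exact htP (hmemE t ht)

theorem stepC (y : ∀ T : TestAlg A, T.B) (a b : A)
    (hB : ∀ T : TestAlg A,
      algebraMap A T.B b * y T - algebraMap A T.B a ∈ 𝔭.map (algebraMap A T.B)) :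
    a ∈ 𝔭 ⊔ Ideal.span {b} := by
  apply Ideal.mem_of_localization_maximal
  intro 𝔮 h𝔮
  haveI := h𝔮.isPrime
  have h1 := hB (hatAt 𝔮)
  have h2 : algebraMap A (hatAt 𝔮).B a ∈
      (𝔭 ⊔ Ideal.span {b}).map (algebraMap A (hatAt 𝔮).B) := by
    have e : algebraMap A (hatAt 𝔮).B a = algebraMap A (hatAt 𝔮).B b * y (hatAt 𝔮) -
        (algebraMap A (hatAt 𝔮).B b * y (hatAt 𝔮) - algebraMap A (hatAt 𝔮).B a) := by ring
    rw [e]
    apply Ideal.sub_mem
    · apply Ideal.mul_mem_right
      apply Ideal.mem_map_of_mem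
      exact Ideal.mem_sup_right (Ideal.mem_span_singleton_self b)
    · exact Ideal.map_mono le_sup_left h1
  exact mem_map_localization_of_mem_map_complLoc A 𝔮 Module.Flat.self _ a h2

end steps

section main

variable (A) in
/-- A compatible family of elements of `T.B ⊗ M`, `T` ranging over test algebras. -/
structure Family (M : Type u) [AddCommGroup M] [Module A M] where
  x : ∀ T : TestAlg A, T.B ⊗[A] M
  compat : ∀ (T T' : TestAlg A) (g : T.B →ₐ[A] T'.B),
    LinearMap.rTensor M g.toLinearMap (x T) = x T'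

variable (A) in
/-- Every compatible family is constant. -/
def AllConst (M : Type u) [AddCommGroup M] [Module A M] : Prop :=
  ∀ F : Family A M, ∃ m : M, ∀ T : TestAlg A, F.x T = (1 : T.B) ⊗ₜ[A] m

variable [IsNoetherianRing A]

theorem allConst_quotient_prime (𝔭 : Ideal A) [𝔭.IsPrime] : AllConst A (A ⧸ 𝔭) := by
  intro F
  choose y hy using fun T : TestAlg A => exists_eq_tmul_one (B := T.B) 𝔭 (F.x T)
  have hcompat : ∀ (T T' : TestAlg A) (g : T.B →ₐ[A] T'.B),
      g (y T) - y T' ∈ 𝔭.map (algebraMap A T'.B) := by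
    intro T T' g
    rw [← tmul_one_eq_zero_iff, TensorProduct.sub_tmul, sub_eq_zero, ← hy T', ← F.compat T T' g,
      hy T]
    rfl
  obtain ⟨a, b, hb, hab⟩ := stepA 𝔭 (y (hatAt 𝔭))
  have hB := stepB 𝔭 y hcompat a b hab
  have hC := stepC 𝔭 y a b hB
  obtain ⟨p, hp, q, hq, rfl⟩ := Submodule.mem_sup.mp hC
  obtain ⟨m, rfl⟩ := Ideal.mem_span_singleton'.mp hq
  refine ⟨Ideal.Quotient.mk 𝔭 m, fun T => ?_⟩
  rw [hy T]
  have h0 : (1 : T.B) ⊗ₜ[A] (Ideal.Quotient.mk 𝔭 m) =
      (algebraMap A T.B m) ⊗ₜ[A] (1 : A ⧸ 𝔭) := by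
    rw [Algebra.algebraMap_eq_smul_one, TensorProduct.smul_tmul]
    congr 1
    rw [Algebra.smul_def, mul_one]
    rfl
  rw [h0, ← sub_eq_zero, ← TensorProduct.sub_tmul, tmul_one_eq_zero_iff]
  haveI := T.flat
  apply mem_map_of_mul_mem 𝔭 b hb
  have h1 := hB T
  have h2 : algebraMap A T.B p ∈ 𝔭.map (algebraMap A T.B) := Ideal.mem_map_of_mem _ hp
  have e : algebraMap A T.B b * (y T - algebraMap A T.B m) =
      (algebraMap A T.B b * y T - algebraMap A T.B (p + m * b)) + algebraMap A T.B p := by
    simp only [map_add, map_mul]; ring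
  rw [e]
  exact Ideal.add_mem _ h1 h2

theorem allConst_of_subsingleton (M : Type u) [AddCommGroup M] [Module A M] [Subsingleton M] :
    AllConst A M := by
  intro F
  refine ⟨0, fun T => ?_⟩
  exact Subsingleton.elim _ _

theorem allConst_of_exact (N₁ N₂ N₃ : Type u) [AddCommGroup N₁] [Module A N₁]
    [AddCommGroup N₂] [Module A N₂] [AddCommGroup N₃] [Module A N₃]
    (f : N₁ →ₗ[A] N₂) (g : N₂ →ₗ[A] N₃) (hf : Function.Injective f)
    (hg : Function.Surjective g) (hfg : Function.Exact f g)
    (h₁ : AllConst A N₁) (h₃ : AllConst A N₃) : AllConst A N₂ := by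
  intro F
  -- image family in N₃
  obtain ⟨m₃, hm₃⟩ := h₃
    { x := fun T => LinearMap.lTensor T.B g (F.x T)
      compat := fun T T' φ => by
        rw [← F.compat T T' φ]
        exact (LinearMap.congr_fun (LinearMap.rTensor_comp_lTensor (f := φ.toLinearMap) (g := g)) (F.x T)).trans
          (LinearMap.congr_fun (LinearMap.lTensor_comp_rTensor (f := φ.toLinearMap) (g := g)) (F.x T)).symm }
  obtain ⟨m₂, rfl⟩ := hg m₃
  replace hm₃ : ∀ T : TestAlg A, LinearMap.lTensor T.B g (F.x T) = (1 : T.B) ⊗ₜ[A] g m₂ := hm₃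
  -- the difference lies in the image of N₁
  have hker : ∀ T : TestAlg A, ∃ w : T.B ⊗[A] N₁,
      LinearMap.lTensor T.B f w = F.x T - (1 : T.B) ⊗ₜ[A] m₂ := by
    intro T
    have hex := lTensor_exact T.B hfg hg
    apply (hex _).mp
    rw [map_sub, hm₃ T, LinearMap.lTensor_tmul, sub_self]
  choose w hw using hker
  have hinj : ∀ T : TestAlg A, Function.Injective (LinearMap.lTensor T.B f) := fun T => by
    haveI := T.flat
    exact Module.Flat.lTensor_preserves_injective_linearMap f hf
  obtain ⟨m₁, hm₁⟩ := h₁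
    { x := w
      compat := fun T T' φ => by
        apply hinj T'
        rw [hw T']
        have h1 : LinearMap.lTensor T'.B f (LinearMap.rTensor N₁ φ.toLinearMap (w T)) =
            LinearMap.rTensor N₂ φ.toLinearMap (LinearMap.lTensor T.B f (w T)) :=
          (LinearMap.congr_fun (LinearMap.lTensor_comp_rTensor (f := φ.toLinearMap) (g := f)) (w T)).trans
            (LinearMap.congr_fun (LinearMap.rTensor_comp_lTensor (f := φ.toLinearMap) (g := f)) (w T)).symm
        rw [h1, hw T, map_sub, F.compat T T' φ, LinearMap.rTensor_tmul]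
        simp }
  replace hm₁ : ∀ T : TestAlg A, w T = (1 : T.B) ⊗ₜ[A] m₁ := hm₁
  refine ⟨m₂ + f m₁, fun T => ?_⟩
  have := hw T
  rw [hm₁ T, LinearMap.lTensor_tmul] at this
  rw [TensorProduct.tmul_add, this]
  abel

theorem allConst_of_finite (M : Type u) [AddCommGroup M] [Module A M] [hM : Module.Finite A M] :
    AllConst A M := by
  induction hM using IsNoetherianRing.induction_on_isQuotientEquivQuotientPrime A with
  | subsingleton N => exact allConst_of_subsingleton N
  | quotient N p e =>
    haveI := p.2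
    exact allConst_of_exact (A ⧸ p.1) N PUnit.{u + 1} e.symm.toLinearMap 0 e.symm.injective
      (Function.surjective_to_subsingleton _)
      ((e.symm.exact_zero_iff_surjective _).2 e.symm.surjective)
      (allConst_quotient_prime p.1) (allConst_of_subsingleton _)
  | exact N₁ N₂ N₃ f g hf hg hfg h₁ h₃ => exact allConst_of_exact N₁ N₂ N₃ f g hf hg hfg h₁ h₃

theorem one_mem_map_of_tmul_eq_zero (M : Type u) [AddCommGroup M] [Module A M] (d : M)
    (T : TestAlg A) (h : (1 : T.B) ⊗ₜ[A] d = 0) :
    (1 : T.B) ∈ Ideal.map (algebraMap A T.B)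
      (LinearMap.ker (LinearMap.toSpanSingleton A M d) : Ideal A) := by
  set I : Ideal A := LinearMap.ker (LinearMap.toSpanSingleton A M d) with hI
  let ι : (A ⧸ I) →ₗ[A] M := Submodule.liftQ I (LinearMap.toSpanSingleton A M d) le_rfl
  have hι : Function.Injective ι := by
    rw [← LinearMap.ker_eq_bot]
    exact Submodule.ker_liftQ_eq_bot _ _ _ le_rfl
  have hι1 : ι (1 : A ⧸ I) = d := by
    show ι (Submodule.Quotient.mk 1) = d
    rw [Submodule.liftQ_apply, LinearMap.toSpanSingleton_apply, one_smul]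
  rw [← tmul_one_eq_zero_iff]
  haveI := T.flat
  apply Module.Flat.lTensor_preserves_injective_linearMap (M := T.B) ι hι
  rw [map_zero, LinearMap.lTensor_tmul, hι1]
  exact h

theorem eq_zero_of_forall_tmul_eq_zero (M : Type u) [AddCommGroup M] [Module A M] (d : M)
    (h : ∀ T : TestAlg A, (1 : T.B) ⊗ₜ[A] d = 0) : d = 0 := by
  have h1 : (1 : A) ∈ (LinearMap.ker (LinearMap.toSpanSingleton A M d) : Ideal A) := by
    apply Ideal.mem_of_localization_maximal
    intro 𝔮 h𝔮
    haveI := h𝔮.isPrime
    have h2 := one_mem_map_of_tmul_eq_zero M d (hatAt 𝔮) (h (hatAt 𝔮))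
    apply mem_map_localization_of_mem_map_complLoc A 𝔮 Module.Flat.self _ 1
    rw [map_one]
    exact h2
  have h3 : LinearMap.toSpanSingleton A M d 1 = 0 := h1
  rwa [LinearMap.toSpanSingleton_apply, one_smul] at h3

/-- The main theorem in bundled form. -/
theorem existsUnique_of_finite (M : Type u) [AddCommGroup M] [Module A M] [Module.Finite A M]
    (F : Family A M) : ∃! m : M, ∀ T : TestAlg A, F.x T = (1 : T.B) ⊗ₜ[A] m := by
  obtain ⟨m, hm⟩ := allConst_of_finite M F
  refine ⟨m, hm, fun m' hm' => ?_⟩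
  rw [← sub_eq_zero]
  apply eq_zero_of_forall_tmul_eq_zero (A := A)
  intro T
  rw [TensorProduct.tmul_sub, ← hm T, ← hm' T, sub_self]

end main

end Groth.Agent.Lib.Seat50.ComplFlat
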