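import Mathlib

/-!
# Flat degeneration of an algebra with a weighted multiplicative basis (helper50)

Let `A` be a commutative algebra over a field `K` with a `K`-basis `b : C → A` and weights `ω : C → ℕ` such
that `1 ∈ G 0` and `b c * b c' ∈ G (ω c + ω c')`, where `G k` is the span of the basis vectors of weight
`≤ k`.  The Rees algebra `R = {p ∈ A[t] | coeff p k ∈ G k}` is a free `K[t]`-module with basis
`b c · t^(ω c)`, its fibre at `t = c₀ ≠ 0` is `A`, and its fibre at `t = 0` has the classes of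
`b c · t^(ω c)` as a `K`-basis.
-/

namespace Groth.Agent.Lib.Seat50.Degen

open Polynomial

universe u v

variable {K : Type u} [Field K] {A : Type u} [CommRing A] [Algebra K A] {C : Type v}
variable (b : Module.Basis C K A) (ω : C → ℕ)

/-- The span of the basis vectors of weight at most `k`. -/
def G (k : ℕ) : Submodule K A := Submodule.span K (b '' {c | ω c ≤ k})

theorem G_mono {k l : ℕ} (h : k ≤ l) : G b ω k ≤ G b ω l :=
  Submodule.span_mono (Set.image_mono (fun _ hc => le_trans hc h))

theorem b_mem_G (c : C) : b c ∈ G b ω (ω c) :=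
  Submodule.subset_span (Set.mem_image_of_mem b (Set.mem_setOf.mpr (le_refl (ω c))))

theorem repr_support_of_mem_G {x : A} {k : ℕ} (hx : x ∈ G b ω k) :
    ∀ c ∈ (b.repr x).support, ω c ≤ k := fun c hc =>
  (b.mem_span_image.mp hx) hc

/-- The multiplicativity hypotheses. -/
structure Hyp : Prop where
  one_mem : (1 : A) ∈ G b ω 0
  mul_mem : ∀ c c', b c * b c' ∈ G b ω (ω c + ω c')

variable {b ω}

theorem G_mul (h : Hyp b ω) {k l : ℕ} {x y : A} (hx : x ∈ G b ω k) (hy : y ∈ G b ω l) :
    x * y ∈ G b ω (k + l) := by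
  have hle : G b ω k * G b ω l ≤ G b ω (k + l) := by
    rw [G, G, Submodule.span_mul_span, Submodule.span_le]
    rintro _ ⟨_, ⟨c, hc, rfl⟩, _, ⟨c', hc', rfl⟩, rfl⟩
    exact G_mono b ω (add_le_add hc hc') (h.mul_mem c c')
  exact hle (Submodule.mul_mem_mul hx hy)

theorem algebraMap_mem_G (h : Hyp b ω) (r : K) (k : ℕ) : algebraMap K A r ∈ G b ω k := by
  rw [Algebra.algebraMap_eq_smul_one]
  exact G_mono b ω (Nat.zero_le k) (Submodule.smul_mem _ _ h.one_mem)

/-- The Rees algebra of the weight filtration. -/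
def rees (h : Hyp b ω) : Subalgebra K A[X] where
  carrier := {p | ∀ k, p.coeff k ∈ G b ω k}
  mul_mem' := by
    intro p q hp hq k
    rw [coeff_mul]
    refine Submodule.sum_mem _ (fun ij hij => ?_)
    have e : ij.1 + ij.2 = k := Finset.HasAntidiagonal.mem_antidiagonal.mp hij
    have := G_mul h (hp ij.1) (hq ij.2)
    rwa [e] at this
  one_mem' := by
    intro k
    rw [coeff_one]
    split_ifs with hk
    · subst hk; exact h.one_mem
    · exact zero_mem _
  add_mem' := fun hp hq k => by rw [coeff_add]; exact add_mem (hp k) (hq k)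
  zero_mem' := fun k => by rw [coeff_zero]; exact zero_mem _
  algebraMap_mem' := by
    intro r k
    rw [Polynomial.algebraMap_apply, coeff_C]
    split_ifs with hk
    · exact algebraMap_mem_G h r k
    · exact zero_mem _

theorem mem_rees (h : Hyp b ω) (p : A[X]) : p ∈ rees h ↔ ∀ k, p.coeff k ∈ G b ω k := Iff.rfl

/-- The structure map `K[t] → R`. -/
noncomputable def toR (h : Hyp b ω) : K[X] →+* rees h :=
  (Polynomial.mapRingHom (algebraMap K A)).codRestrict (rees h) (fun f k => by
    rw [coe_mapRingHom, coeff_map]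
    exact algebraMap_mem_G h _ k)

theorem coe_toR (h : Hyp b ω) (f : K[X]) : ((toR h f : rees h) : A[X]) = f.map (algebraMap K A) := rfl

/-- The `K[t]`-algebra structure of the Rees algebra. -/
@[reducible] noncomputable def algR (h : Hyp b ω) : Algebra K[X] (rees h) := (toR h).toAlgebra

theorem isScalarTower_R (h : Hyp b ω) :
    @IsScalarTower K K[X] (rees h) _ (algR h).toSMul _ := by
  letI := algR h
  apply IsScalarTower.of_algebraMap_eq
  intro r
  apply Subtype.ext
  show (algebraMap K A[X] r) = ((toR h (algebraMap K K[X] r) : rees h) : A[X])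
  rw [coe_toR, Polynomial.algebraMap_apply, Polynomial.algebraMap_apply, Algebra.algebraMap_self,
    RingHom.id_apply, map_C]

/-- The basis vectors `b c · t^(ω c)` of the Rees algebra. -/
noncomputable def β (h : Hyp b ω) (c : C) : rees h :=
  ⟨monomial (ω c) (b c), fun k => by
    rw [coeff_monomial]
    split_ifs with hk
    · subst hk; exact b_mem_G b ω c
    · exact zero_mem _⟩

theorem coe_β (h : Hyp b ω) (c : C) : ((β h c : rees h) : A[X]) = monomial (ω c) (b c) := rfl

section Basis

noncomputable instance instAlgR (h : Hyp b ω) : Algebra K[X] (rees h) := algR h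

instance instTowerR (h : Hyp b ω) : IsScalarTower K K[X] (rees h) := isScalarTower_R h

variable (h : Hyp b ω)

theorem algebraMap_R (f : K[X]) : algebraMap K[X] (rees h) f = toR h f := rfl

/-- The `K[t]`-linear map `(C →₀ K[t]) → R` with `single c 1 ↦ b c · t^(ω c)`. -/
noncomputable def S : (C →₀ K[X]) →ₗ[K[X]] rees h := Finsupp.linearCombination K[X] (β h)

theorem coe_smul_β (g : K[X]) (c : C) :
    ((g • β h c : rees h) : A[X]) = g.map (algebraMap K A) * monomial (ω c) (b c) := by
  rw [Algebra.smul_def, algebraMap_R]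
  rfl

theorem coe_S (f : C →₀ K[X]) :
    ((S h f : rees h) : A[X]) =
      ∑ c ∈ f.support, (f c).map (algebraMap K A) * monomial (ω c) (b c) := by
  rw [S, Finsupp.linearCombination_apply, Finsupp.sum, AddSubmonoidClass.coe_finset_sum]
  exact Finset.sum_congr rfl (fun c _ => coe_smul_β h (f c) c)

theorem coeff_map_mul_monomial (g : K[X]) (m k : ℕ) (a : A) :
    (g.map (algebraMap K A) * monomial m a).coeff k =
      if m ≤ k then (g.coeff (k - m)) • a else 0 := by
  rw [← C_mul_X_pow_eq_monomial, ← mul_assoc, coeff_mul_X_pow']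
  split_ifs with hmk
  · rw [coeff_mul_C, coeff_map, Algebra.smul_def]
  · rfl

/-- The `b`-coordinates of the `k`-th coefficient of `S f`. -/
noncomputable def Λ (k : ℕ) (f : C →₀ K[X]) : C →₀ K :=
  Finsupp.onFinset f.support (fun c => if ω c ≤ k then (f c).coeff (k - ω c) else 0) (by
    intro c hc
    rw [Finsupp.mem_support_iff]
    intro h0
    apply hc
    rw [h0]
    simp)

theorem Λ_apply (k : ℕ) (f : C →₀ K[X]) (c : C) :
    Λ (ω := ω) k f c = if ω c ≤ k then (f c).coeff (k - ω c) else 0 := rfl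

theorem coeff_S (f : C →₀ K[X]) (k : ℕ) :
    ((S h f : rees h) : A[X]).coeff k = Finsupp.linearCombination K b (Λ (ω := ω) k f) := by
  rw [coe_S, finset_sum_coeff, Finsupp.linearCombination_apply, Λ, Finsupp.onFinset_sum]
  · refine Finset.sum_congr rfl (fun c _ => ?_)
    rw [coeff_map_mul_monomial]
    split_ifs with hc
    · rfl
    · rw [zero_smul]
  · intro c; exact zero_smul _ _

theorem repr_coeff_S (f : C →₀ K[X]) (k : ℕ) :
    b.repr (((S h f : rees h) : A[X]).coeff k) = Λ (ω := ω) k f := by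
  rw [coeff_S, b.repr_linearCombination]

theorem S_injective : Function.Injective (S h) := by
  rw [injective_iff_map_eq_zero]
  intro f hf
  ext c j
  have h1 := repr_coeff_S h f (ω c + j)
  rw [hf] at h1
  have h2 := DFunLike.congr_fun h1 c
  rw [Λ_apply, if_pos (Nat.le_add_right _ _), Nat.add_sub_cancel_left] at h2
  rw [← h2]
  simp

theorem S_surjective : Function.Surjective (S h) := by
  classical
  rintro ⟨p, hp⟩
  refine ⟨∑ k ∈ p.support, ∑ c ∈ (b.repr (p.coeff k)).support,
    Finsupp.single c (monomial (k - ω c) (b.repr (p.coeff k) c)), ?_⟩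
  apply Subtype.ext
  rw [map_sum]
  rw [AddSubmonoidClass.coe_finset_sum]
  show _ = p
  conv_rhs => rw [p.as_sum_support]
  refine Finset.sum_congr rfl (fun k _ => ?_)
  rw [map_sum, AddSubmonoidClass.coe_finset_sum]
  have hterm : ∀ c ∈ (b.repr (p.coeff k)).support,
      ((S h (Finsupp.single c (monomial (k - ω c) (b.repr (p.coeff k) c))) : rees h) : A[X]) =
        monomial k ((b.repr (p.coeff k) c) • b c) := by
    intro c hc
    have hck : ω c ≤ k := repr_support_of_mem_G b ω (hp k) c hc
    rw [S, Finsupp.linearCombination_single, coe_smul_β, map_monomial, monomial_mul_monomial,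
      Nat.sub_add_cancel hck, Algebra.smul_def]
  rw [Finset.sum_congr rfl hterm, ← map_sum]
  congr 1
  have := b.linearCombination_repr (p.coeff k)
  rw [Finsupp.linearCombination_apply, Finsupp.sum] at this
  exact this

/-- The Rees algebra is free over `K[t]` on the `b c · t^(ω c)`. -/
noncomputable def SEquiv : (C →₀ K[X]) ≃ₗ[K[X]] rees h :=
  LinearEquiv.ofBijective (S h) ⟨S_injective h, S_surjective h⟩

theorem free_R : Module.Free K[X] (rees h) := Module.Free.of_equiv (SEquiv h)

section Elements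

/-- The element `a · t^k` of the Rees algebra, for `a ∈ G k`. -/
noncomputable def mkR (k : ℕ) (a : A) (ha : a ∈ G b ω k) : rees h :=
  ⟨monomial k a, fun l => by
    rw [coeff_monomial]
    split_ifs with hk
    · subst hk; exact ha
    · exact zero_mem _⟩

theorem coe_mkR (k : ℕ) (a : A) (ha : a ∈ G b ω k) :
    ((mkR h k a ha : rees h) : A[X]) = monomial k a := rfl

theorem β_eq_mkR (c : C) : β h c = mkR h (ω c) (b c) (b_mem_G b ω c) := rfl

theorem mkR_mul (k l : ℕ) (a a' : A) (ha : a ∈ G b ω k) (ha' : a' ∈ G b ω l) :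
    mkR h k a ha * mkR h l a' ha' = mkR h (k + l) (a * a') (G_mul h ha ha') :=
  Subtype.ext (monomial_mul_monomial k l a a')

theorem mkR_one : mkR h 0 1 h.one_mem = 1 := Subtype.ext rfl

theorem mkR_congr {k l : ℕ} {a a' : A} (hkl : k = l) (haa' : a = a') (ha : a ∈ G b ω k)
    (ha' : a' ∈ G b ω l) : mkR h k a ha = mkR h l a' ha' := by
  subst hkl; subst haa'; rfl

theorem mkR_sub (k : ℕ) (a a' : A) (ha : a ∈ G b ω k) (ha' : a' ∈ G b ω k) :
    mkR h k a ha - mkR h k a' ha' = mkR h k (a - a') (sub_mem ha ha') :=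
  Subtype.ext (by
    show monomial k a - monomial k a' = monomial k (a - a')
    rw [map_sub])

theorem X_mul_mkR (k : ℕ) (a : A) (ha : a ∈ G b ω k) :
    algebraMap K[X] (rees h) X * mkR h k a ha =
      mkR h (k + 1) a (G_mono b ω (Nat.le_succ k) ha) := by
  apply Subtype.ext
  show ((toR h X : rees h) : A[X]) * monomial k a = monomial (k + 1) a
  rw [coe_toR, map_X, X_mul_monomial]

/-- `a · t^(k+1)` lies in `t R` when `a ∈ G k`. -/
theorem mkR_succ_mem (k : ℕ) (a : A) (ha : a ∈ G b ω k) :
    mkR h (k + 1) a (G_mono b ω (Nat.le_succ k) ha) ∈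
      Ideal.span {algebraMap K[X] (rees h) X} := by
  rw [← X_mul_mkR h k a ha]
  exact Ideal.mul_mem_right _ _ (Ideal.subset_span rfl)

include h in
theorem prod_mem_G {ι : Type*} (F : Finset ι) (k : ι → ℕ) (a : ι → A)
    (ha : ∀ i, a i ∈ G b ω (k i)) : ∏ i ∈ F, a i ∈ G b ω (∑ i ∈ F, k i) := by
  classical
  induction F using Finset.induction_on with
  | empty => simp only [Finset.prod_empty, Finset.sum_empty]; exact h.one_mem
  | insert j F hj ih' =>
    rw [Finset.prod_insert hj, Finset.sum_insert hj]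
    exact G_mul h (ha j) ih'

theorem mkR_prod {ι : Type*} (F : Finset ι) (k : ι → ℕ) (a : ι → A)
    (ha : ∀ i, a i ∈ G b ω (k i)) :
    ∏ i ∈ F, mkR h (k i) (a i) (ha i) =
      mkR h (∑ i ∈ F, k i) (∏ i ∈ F, a i) (prod_mem_G h F k a ha) := by
  classical
  induction F using Finset.induction_on with
  | empty =>
    simp only [Finset.prod_empty]
    exact (mkR_one h).symm
  | insert i F hi ih =>
    rw [Finset.prod_insert hi, ih, mkR_mul]
    exact mkR_congr h (Finset.sum_insert hi).symm (Finset.prod_insert hi).symm _ _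

theorem mkR_zero (k : ℕ) : mkR h k 0 (zero_mem _) = 0 :=
  Subtype.ext (by
    show monomial k (0 : A) = 0
    rw [map_zero])

/-- `a · t^N` lies in `t R` when `a` is a combination of basis vectors of weight `< N`. -/
theorem mkR_mem_span_X (N : ℕ) (a : A) (ha : a ∈ Submodule.span K (b '' {c | ω c < N}))
    (ha' : a ∈ G b ω N) :
    mkR h N a ha' ∈ Ideal.span {algebraMap K[X] (rees h) X} := by
  cases N with
  | zero =>
    have h0 : a = 0 := by
      have hempty : {c | ω c < 0} = (∅ : Set C) := by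
        ext c; simp
      rw [hempty, Set.image_empty, Submodule.span_empty] at ha
      exact (Submodule.mem_bot K).mp ha
    subst h0
    rw [mkR_zero]
    exact zero_mem _
  | succ k =>
    have hk : a ∈ G b ω k := by
      refine Submodule.span_mono ?_ ha
      rintro _ ⟨c, hc, rfl⟩
      exact ⟨c, Nat.lt_succ_iff.mp hc, rfl⟩
    exact mkR_succ_mem h k a hk

end Elements

section FibreNonzero

variable (c₀ : K)

/-- Evaluation at `t = c₀`. -/
noncomputable def ev : rees h →ₐ[K] A :=
  ((Polynomial.aeval (R := A) (algebraMap K A c₀)).restrictScalars K).comp (rees h).val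

theorem ev_apply (p : rees h) : ev h c₀ p = (p : A[X]).eval (algebraMap K A c₀) := by
  show Polynomial.aeval (R := A) (algebraMap K A c₀) (p : A[X]) = _
  rw [Polynomial.coe_aeval_eq_eval]

theorem ev_mkR (k : ℕ) (a : A) (ha : a ∈ G b ω k) : ev h c₀ (mkR h k a ha) = (c₀ ^ k) • a := by
  rw [ev_apply, coe_mkR, eval_monomial, ← map_pow, Algebra.smul_def, mul_comm]

theorem ev_algebraMap (g : K[X]) : ev h c₀ (algebraMap K[X] (rees h) g) = algebraMap K A (g.eval c₀) := by
  rw [ev_apply]
  show ((toR h g : rees h) : A[X]).eval _ = _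
  rw [coe_toR, eval_map, eval₂_at_apply]

theorem ev_surjective (hc₀ : c₀ ≠ 0) : Function.Surjective (ev h c₀) := by
  have hb : ∀ c, b c ∈ LinearMap.range (ev h c₀).toLinearMap := by
    intro c
    refine ⟨(c₀⁻¹ ^ ω c) • β h c, ?_⟩
    rw [map_smul]
    show (c₀⁻¹ ^ ω c) • ev h c₀ (β h c) = b c
    rw [β_eq_mkR, ev_mkR, smul_smul, ← mul_pow, inv_mul_cancel₀ hc₀, one_pow, one_smul]
  have hr : LinearMap.range (ev h c₀).toLinearMap = ⊤ := by
    rw [eq_top_iff, ← b.span_eq, Submodule.span_le]
    rintro _ ⟨c, rfl⟩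
    exact hb c
  exact LinearMap.range_eq_top.mp hr

theorem mem_span_of_ev_eq_zero (hc₀ : c₀ ≠ 0) (p : rees h) (hp : ev h c₀ p = 0) :
    p ∈ Ideal.span {algebraMap K[X] (rees h) (X - Polynomial.C c₀)} := by
  obtain ⟨p, hpmem⟩ := p
  rw [ev_apply] at hp
  have hroot : (p : A[X]).IsRoot (algebraMap K A c₀) := hp
  obtain ⟨q, hq⟩ := Polynomial.dvd_iff_isRoot.mpr hroot
  have hc0 : ∀ k, p.coeff (k + 1) = q.coeff k - c₀ • q.coeff (k + 1) := by
    intro k
    rw [hq, sub_mul, coeff_sub, coeff_X_mul, coeff_C_mul, Algebra.smul_def]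
  have hc00 : p.coeff 0 = - (c₀ • q.coeff 0) := by
    rw [hq, sub_mul, coeff_sub, coeff_X_mul_zero, coeff_C_mul, Algebra.smul_def, zero_sub]
  have hqmem : ∀ k, q.coeff k ∈ G b ω k := by
    intro k
    induction k with
    | zero =>
      have h1 : q.coeff 0 = c₀⁻¹ • (- p.coeff 0) := by
        rw [hc00, neg_neg, smul_smul, inv_mul_cancel₀ hc₀, one_smul]
      rw [h1]
      exact Submodule.smul_mem _ _ (neg_mem (hpmem 0))
    | succ k ih =>
      have h1 : q.coeff (k + 1) = c₀⁻¹ • (q.coeff k - p.coeff (k + 1)) := by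
        rw [hc0 k, sub_sub_cancel, smul_smul, inv_mul_cancel₀ hc₀, one_smul]
      rw [h1]
      exact Submodule.smul_mem _ _ (sub_mem (G_mono b ω (Nat.le_succ k) ih) (hpmem (k + 1)))
  rw [Ideal.mem_span_singleton]
  refine ⟨⟨q, hqmem⟩, Subtype.ext ?_⟩
  show p = ((toR h (X - Polynomial.C c₀) : rees h) : A[X]) * q
  rw [coe_toR, Polynomial.map_sub, map_X, map_C, hq]

theorem ker_ev (hc₀ : c₀ ≠ 0) :
    Ideal.span {algebraMap K[X] (rees h) (X - Polynomial.C c₀)} = RingHom.ker (ev h c₀) := by
  apply le_antisymm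
  · rw [Ideal.span_le, Set.singleton_subset_iff]
    show ev h c₀ _ = 0
    rw [ev_algebraMap, eval_sub, eval_X, eval_C, sub_self, map_zero]
  · intro p hp
    exact mem_span_of_ev_eq_zero h c₀ hc₀ p hp

/-- The fibre of the Rees algebra at `t = c₀ ≠ 0` is `A`. -/
noncomputable def fibreEquiv (hc₀ : c₀ ≠ 0) :
    (rees h ⧸ Ideal.span {algebraMap K[X] (rees h) (X - Polynomial.C c₀)}) ≃ₐ[K] A :=
  (Ideal.quotientEquivAlgOfEq K (ker_ev h c₀ hc₀)).trans
    (Ideal.quotientKerAlgEquivOfSurjective (ev_surjective h c₀ hc₀))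

end FibreNonzero

section FibreZero

/-- The `K`-linear combination of the `b c · t^(ω c)`. -/
noncomputable def L : (C →₀ K) →ₗ[K] rees h := Finsupp.linearCombination K (β h)

theorem smul_β (r : K) (c : C) : r • β h c = (Polynomial.C r : K[X]) • β h c := by
  rw [← IsScalarTower.algebraMap_smul K[X] r (β h c), Polynomial.algebraMap_eq]

theorem L_eq_S (a : C →₀ K) : L h a = S h (a.mapRange Polynomial.C Polynomial.C_0) := by
  rw [L, S, Finsupp.linearCombination_apply, Finsupp.linearCombination_apply,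
    Finsupp.sum_mapRange_index (h := fun c (x : K[X]) => x • β h c) (fun c => zero_smul _ _)]
  exact Finsupp.sum_congr (fun c _ => smul_β h (a c) c)

theorem eq_zero_of_L_mem (a : C →₀ K)
    (ha : L h a ∈ Ideal.span {algebraMap K[X] (rees h) X}) : a = 0 := by
  rw [Ideal.mem_span_singleton] at ha
  obtain ⟨r, hr⟩ := ha
  ext c
  have h1 := repr_coeff_S h (a.mapRange Polynomial.C Polynomial.C_0) (ω c)
  rw [← L_eq_S, hr] at h1
  have h2 := DFunLike.congr_fun h1 c
  rw [Λ_apply, if_pos (le_refl _), Nat.sub_self, Finsupp.mapRange_apply, coeff_C_zero] at h2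
  rw [← h2, Finsupp.zero_apply]
  have h3 : ((algebraMap K[X] (rees h) X * r : rees h) : A[X]) = X * (r : A[X]) := by
    show ((toR h X : rees h) : A[X]) * (r : A[X]) = _
    rw [coe_toR, map_X]
  rw [h3]
  by_contra hne
  have hsupp : c ∈ (b.repr ((X * (r : A[X])).coeff (ω c))).support :=
    Finsupp.mem_support_iff.mpr hne
  rcases Nat.eq_zero_or_pos (ω c) with h0 | hpos
  · rw [h0, coeff_X_mul_zero, map_zero] at hsupp
    simp at hsupp
  · obtain ⟨k, hk⟩ : ∃ k, ω c = k + 1 := ⟨ω c - 1, by omega⟩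
    rw [hk, coeff_X_mul] at hsupp
    have := repr_support_of_mem_G b ω (r.2 k) c hsupp
    omega

theorem mk_smul_β (g : K[X]) (c : C) :
    Ideal.Quotient.mk (Ideal.span {algebraMap K[X] (rees h) X}) (g • β h c) =
      (g.coeff 0) • Ideal.Quotient.mk (Ideal.span {algebraMap K[X] (rees h) X}) (β h c) := by
  have h1 : g • β h c = algebraMap K[X] (rees h) X * (divX g • β h c) + (g.coeff 0) • β h c := by
    rw [smul_β, Algebra.smul_def, Algebra.smul_def, Algebra.smul_def, ← mul_assoc, ← map_mul,
      ← add_mul, ← map_add, mul_comm X, divX_mul_X_add]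
  rw [h1, map_add]
  have h2 : Ideal.Quotient.mk (Ideal.span {algebraMap K[X] (rees h) X})
      (algebraMap K[X] (rees h) X * (divX g • β h c)) = 0 :=
    Ideal.Quotient.eq_zero_iff_mem.mpr (Ideal.mul_mem_right _ _ (Ideal.subset_span rfl))
  rw [h2, zero_add]
  exact map_smul (Ideal.Quotient.mkₐ K _) (g.coeff 0) (β h c)

/-- A `K`-algebra spanned by a family `m₀` and mapping to the zero fibre with `m₀ c ↦ [b c t^(ω c)]` is
isomorphic to the zero fibre. -/
theorem fibre0_bijective {B₀ : Type*} [CommRing B₀] [Algebra K B₀] (m₀ : C → B₀)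
    (hspan : Submodule.span K (Set.range m₀) = ⊤)
    (Ψ : B₀ →ₐ[K] rees h ⧸ Ideal.span {algebraMap K[X] (rees h) X})
    (hΨ : ∀ c, Ψ (m₀ c) = Ideal.Quotient.mk _ (β h c)) : Function.Bijective Ψ := by
  have hΨL : ∀ a : C →₀ K, Ψ (Finsupp.linearCombination K m₀ a) =
      Ideal.Quotient.mk _ (L h a) := by
    intro a
    rw [L, Finsupp.linearCombination_apply, Finsupp.linearCombination_apply, Finsupp.sum,
      Finsupp.sum, map_sum, map_sum]
    refine Finset.sum_congr rfl (fun c _ => ?_)
    rw [map_smul, hΨ]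
    exact (map_smul (Ideal.Quotient.mkₐ K _) (a c) (β h c)).symm
  constructor
  · rw [injective_iff_map_eq_zero]
    intro x hx
    have hx' : x ∈ Submodule.span K (Set.range m₀) := by rw [hspan]; trivial
    rw [Finsupp.mem_span_range_iff_exists_finsupp] at hx'
    obtain ⟨a, rfl⟩ := hx'
    have h1 := hΨL a
    rw [Finsupp.linearCombination_apply] at h1
    rw [h1, Ideal.Quotient.eq_zero_iff_mem] at hx
    rw [eq_zero_of_L_mem h a hx]
    simp
  · intro y
    obtain ⟨r, rfl⟩ := Ideal.Quotient.mk_surjective y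
    obtain ⟨f, rfl⟩ := S_surjective h r
    refine ⟨Finsupp.linearCombination K m₀ (f.mapRange (fun g => g.coeff 0) (coeff_zero 0)), ?_⟩
    rw [Finsupp.linearCombination_apply,
      Finsupp.sum_mapRange_index (h := fun c (x : K) => x • m₀ c) (fun c => zero_smul _ _),
      S, Finsupp.linearCombination_apply, Finsupp.sum, Finsupp.sum, map_sum, map_sum]
    refine Finset.sum_congr rfl (fun c _ => ?_)
    rw [map_smul, hΨ, mk_smul_β]

end FibreZero

end Basis

end Groth.Agent.Lib.Seat50.Degen
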