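import Mathlib
import Groth.Prelude.Def_Exal2
import Groth.Agent.Lib.Helper7Exal
import Groth.Agent.Lib.Helper19PowerSeries

/-!
# Seat50: extensions of a quotient of a power series ring by a simple module

* `isNoetherianRing_E`: the middle ring of an extension of a Noetherian ring by a Noetherian module is Noetherian;
* `exists_lift`: for `P = Λ[[X_1..X_d]]`, `R = P/J` and `L` a simple `R`-module, the quotient map `P → R` lifts to every
  `Λ`-extension of `R` by `L` (fibre product trick `E ≅ E/I^n ×_{R/I_R^n} R`, using Krull's intersection theorem on `E`);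
* `smul_eq_zero_of_mem_varsIdeal`: the variables kill a simple `R`-module.
-/

set_option autoImplicit false
set_option linter.unusedSectionVars false
set_option linter.style.haveILetI false

open Exal

universe u

namespace Groth.Agent.Lib.Seat50.ExalPS

open Groth.Agent.Lib.Helper7.ExalLib Groth.Agent.Lib.Helper19

section Noeth

/-- a Noetherian module over a quotient ring is Noetherian over the ring -/
lemma isNoetherian_of_surj {E R M : Type*} [CommRing E] [CommRing R] [Algebra E R] [AddCommGroup M]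
    [Module R M] [Module E M] [IsScalarTower E R M] (h : Function.Surjective (algebraMap E R))
    [IsNoetherian R M] : IsNoetherian E M := by
  refine ⟨fun s => ?_⟩
  let s' : Submodule R M :=
    { carrier := s
      add_mem' := s.add_mem
      zero_mem' := s.zero_mem
      smul_mem' := fun r x hx => by
        obtain ⟨e, rfl⟩ := h r
        rw [algebraMap_smul]
        exact s.smul_mem e hx }
  have hs : s = s'.restrictScalars E := by
    ext x; rfl
  rw [hs]
  exact (IsNoetherian.noetherian s').restrictScalars_of_surjective h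

variable {A : Type*} {B L : Type u} [CommRing A] [CommRing B] [Algebra A B] [AddCommGroup L]
  [Module B L]

lemma isUnit_of_proj_isUnit (X : Ext A B L) (a : X.E) (h : IsUnit (X.proj a)) : IsUnit a := by
  obtain ⟨r, hr⟩ := h.exists_right_inv
  obtain ⟨b, rfl⟩ := X.isExtension.proj_surjective r
  have h0 : X.proj (a * b - 1) = 0 := by rw [map_sub, map_mul, hr, map_one, sub_self]
  obtain ⟨z, hz⟩ := (X.isExtension.exact _).1 h0
  have hab : a * b = 1 + X.incl z := by rw [hz]; ring
  have : a * (b * (1 - X.incl z)) = 1 := by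
    calc a * (b * (1 - X.incl z)) = (a * b) * (1 - X.incl z) := by ring
      _ = (1 + X.incl z) * (1 - X.incl z) := by rw [hab]
      _ = 1 - X.incl z * X.incl z := by ring
      _ = 1 := by rw [incl_mul_incl, sub_zero]
  exact IsUnit.of_mul_eq_one _ this

theorem isNoetherianRing_E [IsNoetherianRing B] [IsNoetherian B L] (X : Ext A B L) :
    IsNoetherianRing X.E := by
  letI : Algebra X.E B := X.proj.toRingHom.toAlgebra
  letI : Module X.E L := Module.compHom L X.proj.toRingHom
  haveI : IsScalarTower X.E B L := IsScalarTower.of_algebraMap_smul fun _ _ => rfl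
  have hs : Function.Surjective (algebraMap X.E B) := X.isExtension.proj_surjective
  haveI : IsNoetherian X.E L := isNoetherian_of_surj (R := B) hs
  haveI : IsNoetherian X.E B := isNoetherian_of_surj (R := B) hs
  let f : L →ₗ[X.E] X.E :=
    { toFun := X.incl
      map_add' := X.incl.map_add
      map_smul' := fun e z => by
        rw [RingHom.id_apply, smul_eq_mul, X.isExtension.mul_incl]
        rfl }
  let g : X.E →ₗ[X.E] B := Algebra.linearMap X.E B
  refine isNoetherian_of_range_eq_ker f g ?_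
  ext x
  rw [LinearMap.mem_range, LinearMap.mem_ker]
  exact ((X.isExtension.exact x).symm : x ∈ Set.range X.incl ↔ X.proj x = 0)

theorem exists_pow_inter_eq_bot [IsNoetherianRing B] [IsSimpleModule B L] (X : Ext A B L)
    (I : Ideal X.E) (hI : I ≤ Ideal.jacobson ⊥) : ∃ n : ℕ, ∀ z : L, X.incl z ∈ I ^ n → z = 0 := by
  haveI : IsNoetherian B L := isNoetherian_of_isNoetherianRing_of_finite B L
  haveI := isNoetherianRing_E X
  by_contra hcon
  push Not at hcon
  let N : ℕ → Submodule B L := fun n =>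
    { carrier := {z | X.incl z ∈ I ^ n}
      add_mem' := fun {a b} ha hb => by
        show X.incl (a + b) ∈ I ^ n
        rw [map_add]; exact Ideal.add_mem _ ha hb
      zero_mem' := by
        show X.incl 0 ∈ I ^ n
        rw [map_zero]; exact Ideal.zero_mem _
      smul_mem' := fun b z hz => by
        obtain ⟨e, rfl⟩ := X.isExtension.proj_surjective b
        show X.incl (X.proj e • z) ∈ I ^ n
        rw [← X.isExtension.mul_incl]
        exact Ideal.mul_mem_left _ _ hz }
  have hN : ∀ n, N n = ⊤ := fun n => by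
    obtain ⟨z, hz, hz0⟩ := hcon n
    rcases eq_bot_or_eq_top (N n) with h | h
    · exfalso
      apply hz0
      have hmem : z ∈ N n := hz
      rw [h] at hmem
      exact (Submodule.mem_bot _).1 hmem
    · exact h
  haveI : Nontrivial L := IsSimpleModule.nontrivial B L
  obtain ⟨z, hz⟩ := exists_ne (0 : L)
  apply hz
  apply X.isExtension.incl_injective
  rw [map_zero]
  have hK := Ideal.iInf_pow_smul_eq_bot_of_le_jacobson (M := X.E) I hI
  have hmem : X.incl z ∈ (⨅ i : ℕ, I ^ i • ⊤ : Submodule X.E X.E) := by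
    rw [Submodule.mem_iInf]
    intro i
    have hzi : z ∈ N i := by rw [hN i]; trivial
    rw [smul_eq_mul, Ideal.mul_top]
    exact hzi
  rw [hK] at hmem
  exact hmem

end Noeth

section Fibre

/-- abstract fibre product lifting: `E ≅ E/K ×_{R/π(K)} R` when `K ∩ ker π = 0`. -/
theorem exists_algHom_of_fibre {Λ P E R : Type*} [CommRing Λ] [CommRing P] [CommRing E] [CommRing R]
    [Algebra Λ P] [Algebra Λ E] [Algebra Λ R]
    (π : E →ₐ[Λ] R) (hπ : Function.Surjective π) (q : P →ₐ[Λ] R) (K : Ideal E)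
    (hK : ∀ a, π a = 0 → a ∈ K → a = 0)
    (v : P →ₐ[Λ] E ⧸ K)
    (hv : ∀ (p : P) (e₁ : E), Ideal.Quotient.mk K e₁ = v p → ∃ i ∈ K, π i = q p - π e₁) :
    ∃ u : P →ₐ[Λ] E, ∀ p, π (u p) = q p := by
  let φ : E →ₐ[Λ] (E ⧸ K) × R := (Ideal.Quotient.mkₐ Λ K).prod π
  have hφ : Function.Injective φ := by
    rw [injective_iff_map_eq_zero]
    intro a ha
    have h1 : Ideal.Quotient.mk K a = 0 := congrArg Prod.fst ha
    have h2 : π a = 0 := congrArg Prod.snd ha
    rw [Ideal.Quotient.eq_zero_iff_mem] at h1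
    exact hK a h2 h1
  let w : P →ₐ[Λ] (E ⧸ K) × R := v.prod q
  have hw : ∀ p, w p ∈ φ.range := by
    intro p
    obtain ⟨e₁, he₁⟩ := Ideal.Quotient.mk_surjective (v p)
    obtain ⟨i, hi, hi'⟩ := hv p e₁ he₁
    refine ⟨e₁ + i, ?_⟩
    apply Prod.ext
    · show Ideal.Quotient.mk K (e₁ + i) = v p
      rw [map_add, he₁, Ideal.Quotient.eq_zero_iff_mem.2 hi, add_zero]
    · show π (e₁ + i) = q p
      rw [map_add, hi']
      ring
  refine ⟨((AlgEquiv.ofInjective φ hφ).symm : φ.range →ₐ[Λ] E).comp (w.codRestrict φ.range hw),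
    fun p => ?_⟩
  set y : φ.range := w.codRestrict φ.range hw p with hy
  have h5 : φ ((AlgEquiv.ofInjective φ hφ).symm y) = (y : _ × _) := by
    have := (AlgEquiv.ofInjective φ hφ).apply_symm_apply y
    exact congrArg Subtype.val this
  have h6 : π ((AlgEquiv.ofInjective φ hφ).symm y) = (φ ((AlgEquiv.ofInjective φ hφ).symm y)).2 :=
    rfl
  change π ((AlgEquiv.ofInjective φ hφ).symm y) = _
  rw [h6, h5]
  rfl

end Fibre

section PS

variable {Λ : Type u} [CommRing Λ] {d : ℕ}

lemma isUnit_X_mul_add_one (s : Fin d) (q : MvPowerSeries (Fin d) Λ) :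
    IsUnit (MvPowerSeries.X s * q + 1) := by
  rw [MvPowerSeries.isUnit_iff_constantCoeff]
  simp

/-- two algebra maps from the power series ring to a ring `R`, agreeing on the variables and sending them into
an ideal `IR`, agree modulo `IR ^ n`. -/
theorem sub_mem_pow_of_X {R : Type*} [CommRing R] [Algebra Λ R] (IR : Ideal R) (n : ℕ)
    (f g : MvPowerSeries (Fin d) Λ →ₐ[Λ] R) (hf : ∀ s, f (MvPowerSeries.X s) ∈ IR)
    (hfg : ∀ s, f (MvPowerSeries.X s) = g (MvPowerSeries.X s)) (p : MvPowerSeries (Fin d) Λ) :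
    f p - g p ∈ IR ^ n := by
  have hcomp : (Ideal.Quotient.mkₐ Λ (IR ^ n)).comp f = (Ideal.Quotient.mkₐ Λ (IR ^ n)).comp g := by
    apply algHom_ext_of_X (IR.map (Ideal.Quotient.mk (IR ^ n))) n
      (by rw [← Ideal.map_pow, Ideal.map_quotient_self])
    · intro s
      rw [AlgHom.comp_apply]
      exact Ideal.mem_map_of_mem _ (hf s)
    · intro s
      rw [AlgHom.comp_apply, AlgHom.comp_apply, hfg]
  have h4 := AlgHom.congr_fun hcomp p
  rw [AlgHom.comp_apply, AlgHom.comp_apply, Ideal.Quotient.mkₐ_eq_mk, Ideal.Quotient.eq] at h4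
  exact h4

/-- comparison of a map to a nilpotent quotient of `E` with a map to `R`, modulo `IR ^ n`. -/
theorem sub_mem_pow_of_quot {E R : Type*} [CommRing E] [CommRing R] [Algebra Λ E] [Algebra Λ R]
    (π : E →ₐ[Λ] R) (I : Ideal E) (IR : Ideal R) (hIR : ∀ a ∈ I, π a ∈ IR) (n : ℕ)
    (v : MvPowerSeries (Fin d) Λ →ₐ[Λ] E ⧸ I ^ n) (q : MvPowerSeries (Fin d) Λ →ₐ[Λ] R)
    (e : Fin d → E) (heI : ∀ s, e s ∈ I)
    (hv : ∀ s, v (MvPowerSeries.X s) = Ideal.Quotient.mk (I ^ n) (e s))
    (hq : ∀ s, q (MvPowerSeries.X s) = π (e s))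
    (p : MvPowerSeries (Fin d) Λ) (e₁ : E) (he₁ : Ideal.Quotient.mk (I ^ n) e₁ = v p) :
    q p - π e₁ ∈ IR ^ n := by
  have hle : I.map (π : E →+* R) ≤ IR := by
    rw [Ideal.map_le_iff_le_comap]
    intro a ha
    exact hIR a ha
  have hkill : ∀ a ∈ I ^ n, ((Ideal.Quotient.mkₐ Λ (IR ^ n)).comp π) a = 0 := by
    intro a ha
    rw [AlgHom.comp_apply, Ideal.Quotient.mkₐ_eq_mk, Ideal.Quotient.eq_zero_iff_mem]
    have h1 : (π : E →+* R) a ∈ (I ^ n).map (π : E →+* R) := Ideal.mem_map_of_mem _ ha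
    rw [Ideal.map_pow] at h1
    exact Ideal.pow_right_mono hle n h1
  let ψ : (E ⧸ I ^ n) →ₐ[Λ] (R ⧸ IR ^ n) :=
    Ideal.Quotient.liftₐ (I ^ n) ((Ideal.Quotient.mkₐ Λ (IR ^ n)).comp π) hkill
  have hψ : ∀ a : E, ψ (Ideal.Quotient.mk (I ^ n) a) = Ideal.Quotient.mk (IR ^ n) (π a) :=
    fun a => rfl
  have hcomp : (Ideal.Quotient.mkₐ Λ (IR ^ n)).comp q = ψ.comp v := by
    apply algHom_ext_of_X (IR.map (Ideal.Quotient.mk (IR ^ n))) n
      (by rw [← Ideal.map_pow, Ideal.map_quotient_self])
    · intro s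
      rw [AlgHom.comp_apply, hq]
      exact Ideal.mem_map_of_mem _ (hIR _ (heI s))
    · intro s
      rw [AlgHom.comp_apply, AlgHom.comp_apply, hv, hψ, hq]
      rfl
  have h4 := AlgHom.congr_fun hcomp p
  rw [AlgHom.comp_apply, AlgHom.comp_apply, ← he₁, hψ, Ideal.Quotient.mkₐ_eq_mk,
    Ideal.Quotient.eq] at h4
  exact h4

theorem exists_mem_pow_of_quot {E R : Type*} [CommRing E] [CommRing R] [Algebra Λ E] [Algebra Λ R]
    (π : E →ₐ[Λ] R) (hπ : Function.Surjective π) (I : Ideal E) (n : ℕ)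
    (v : MvPowerSeries (Fin d) Λ →ₐ[Λ] E ⧸ I ^ n) (q : MvPowerSeries (Fin d) Λ →ₐ[Λ] R)
    (e : Fin d → E) (heI : ∀ s, e s ∈ I)
    (hv : ∀ s, v (MvPowerSeries.X s) = Ideal.Quotient.mk (I ^ n) (e s))
    (hq : ∀ s, q (MvPowerSeries.X s) = π (e s))
    (p : MvPowerSeries (Fin d) Λ) (e₁ : E) (he₁ : Ideal.Quotient.mk (I ^ n) e₁ = v p) :
    ∃ i ∈ I ^ n, π i = q p - π e₁ := by
  have h3 := sub_mem_pow_of_quot π I (I.map (π : E →+* R))
    (fun a ha => Ideal.mem_map_of_mem (π : E →+* R) ha) n v q e heI hv hq p e₁ he₁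
  rw [← Ideal.map_pow] at h3
  obtain ⟨i, hi, hi'⟩ := (Ideal.mem_map_iff_of_surjective (π : E →+* R) hπ).1 h3
  exact ⟨i, hi, hi'⟩

variable (J : Ideal (MvPowerSeries (Fin d) Λ))
  {L : Type u} [AddCommGroup L] [Module (MvPowerSeries (Fin d) Λ ⧸ J) L]

lemma mem_jacobson_of_proj_eq_X (X : Ext Λ (MvPowerSeries (Fin d) Λ ⧸ J) L) (s : Fin d) (e : X.E)
    (he : X.proj e = Ideal.Quotient.mk J (MvPowerSeries.X s)) :
    e ∈ Ideal.jacobson (⊥ : Ideal X.E) := by
  rw [Ideal.mem_jacobson_bot]
  intro y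
  apply isUnit_of_proj_isUnit
  obtain ⟨q, hq⟩ := Ideal.Quotient.mk_surjective (X.proj y)
  have h1 : X.proj (e * y + 1) = Ideal.Quotient.mk J (MvPowerSeries.X s * q + 1) := by
    rw [map_add, map_mul, map_one, he, ← hq, map_add, map_mul, map_one]
  rw [h1]
  exact (isUnit_X_mul_add_one s q).map _

/-- **Lifting**: the quotient map `P → P/J` lifts to any `Λ`-extension of `P/J` by a simple module. -/
theorem exists_lift [IsNoetherianRing Λ] [IsSimpleModule (MvPowerSeries (Fin d) Λ ⧸ J) L]
    (X : Ext Λ (MvPowerSeries (Fin d) Λ ⧸ J) L) :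
    ∃ u : MvPowerSeries (Fin d) Λ →ₐ[Λ] X.E, ∀ p, X.proj (u p) = Ideal.Quotient.mk J p := by
  classical
  choose e he using fun s : Fin d =>
    X.isExtension.proj_surjective (Ideal.Quotient.mk J (MvPowerSeries.X s))
  set I : Ideal X.E := Ideal.span (Set.range e) with hIdef
  have heI : ∀ s, e s ∈ I := fun s => Ideal.subset_span ⟨s, rfl⟩
  have hI : I ≤ Ideal.jacobson ⊥ := by
    rw [hIdef, Ideal.span_le]
    rintro _ ⟨s, rfl⟩
    exact mem_jacobson_of_proj_eq_X J X s (e s) (he s)
  obtain ⟨n, hn⟩ := exists_pow_inter_eq_bot X I hI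
  -- the nilpotent quotient
  have hnil : (I.map (Ideal.Quotient.mk (I ^ n))) ^ n = ⊥ := by
    rw [← Ideal.map_pow, Ideal.map_quotient_self]
  obtain ⟨v, hv⟩ := exists_algHom_X_eq (Λ := Λ) (I.map (Ideal.Quotient.mk (I ^ n))) n hnil
    (fun s => Ideal.Quotient.mk (I ^ n) (e s)) (fun s => Ideal.mem_map_of_mem _ (heI s))
  -- a set-theoretic section of the quotient map, to compare in `R`
  refine exists_algHom_of_fibre X.proj X.isExtension.proj_surjective (Ideal.Quotient.mkₐ Λ J) (I ^ n)
    (fun a ha haI => ?_) v (fun p e₁ he₁ => ?_)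
  · obtain ⟨z, rfl⟩ := (X.isExtension.exact a).1 ha
    rw [hn z haI, map_zero]
  · exact exists_mem_pow_of_quot X.proj X.isExtension.proj_surjective I n v (Ideal.Quotient.mkₐ Λ J)
      e heI hv (fun s => (he s).symm) p e₁ he₁

section Simple

variable [Module (MvPowerSeries (Fin d) Λ) L]
  [IsScalarTower (MvPowerSeries (Fin d) Λ) (MvPowerSeries (Fin d) Λ ⧸ J) L]

lemma mk_smul (p : MvPowerSeries (Fin d) Λ) (z : L) :
    Ideal.Quotient.mk J p • z = p • z := by
  rw [← Ideal.Quotient.algebraMap_eq, algebraMap_smul]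

variable [IsSimpleModule (MvPowerSeries (Fin d) Λ ⧸ J) L]

include J in
/-- the variables kill a simple module -/
lemma X_smul_eq_zero (s : Fin d) (z : L) : (MvPowerSeries.X s : MvPowerSeries (Fin d) Λ) • z = 0 := by
  by_contra h
  obtain ⟨r, hr⟩ := IsSimpleModule.toSpanSingleton_surjective (MvPowerSeries (Fin d) Λ ⧸ J) h z
  obtain ⟨q, rfl⟩ := Ideal.Quotient.mk_surjective r
  rw [LinearMap.toSpanSingleton_apply, mk_smul J, smul_smul] at hr
  have hu : IsUnit (MvPowerSeries.X s * (-q) + 1) := isUnit_X_mul_add_one s (-q)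
  have h1 : (MvPowerSeries.X s * (-q) + 1) • z = 0 := by
    rw [add_smul, one_smul, mul_neg, neg_smul, mul_comm, hr, neg_add_cancel]
  have h2 : z = 0 := by
    have := hu.smul_left_cancel.1 (h1.trans (smul_zero _).symm)
    exact this
  exact h (by rw [h2, smul_zero])

include J in
lemma smul_eq_zero_of_mem_varsIdeal (a : MvPowerSeries (Fin d) Λ)
    (ha : a ∈ Ideal.span (Set.range (MvPowerSeries.X : Fin d → MvPowerSeries (Fin d) Λ))) (z : L) :
    a • z = 0 := by
  induction ha using Submodule.span_induction with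
  | mem x hx =>
    obtain ⟨s, rfl⟩ := hx
    exact X_smul_eq_zero J s z
  | zero => rw [zero_smul]
  | add x y _ _ hx hy => rw [add_smul, hx, hy, add_zero]
  | smul c x _ hx => rw [smul_eq_mul, mul_smul, hx, smul_zero]

/-- an equivalence of extensions intertwines two lifts on the square of the ideal of variables -/
theorem equiv_lift_eq_of_mem_sq (X X' : Ext Λ (MvPowerSeries (Fin d) Λ ⧸ J) L) (e : X.Equiv X')
    (u : MvPowerSeries (Fin d) Λ →ₐ[Λ] X.E) (u' : MvPowerSeries (Fin d) Λ →ₐ[Λ] X'.E)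
    (hu : ∀ p, X.proj (u p) = Ideal.Quotient.mk J p)
    (hu' : ∀ p, X'.proj (u' p) = Ideal.Quotient.mk J p)
    (j : MvPowerSeries (Fin d) Λ)
    (hj : j ∈ Ideal.span (Set.range (MvPowerSeries.X : Fin d → MvPowerSeries (Fin d) Λ)) ^ 2) :
    e.toAlgEquiv (u j) = u' j := by
  have key : ∀ p, ∃ z, e.toAlgEquiv (u p) = u' p + X'.incl z := by
    intro p
    have h0 : X'.proj (e.toAlgEquiv (u p) - u' p) = 0 := by
      rw [map_sub, e.proj_apply, hu, hu', sub_self]
    obtain ⟨z, hz⟩ := (X'.isExtension.exact _).1 h0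
    exact ⟨z, by rw [hz]; ring⟩
  rw [pow_two] at hj
  refine Submodule.mul_induction_on hj ?_ ?_
  · intro a ha b hb
    obtain ⟨za, hza⟩ := key a
    obtain ⟨zb, hzb⟩ := key b
    have h1 : u' a * X'.incl zb = 0 := by
      rw [X'.isExtension.mul_incl, hu', mk_smul J, smul_eq_zero_of_mem_varsIdeal J a ha, map_zero]
    have h2 : u' b * X'.incl za = 0 := by
      rw [X'.isExtension.mul_incl, hu', mk_smul J, smul_eq_zero_of_mem_varsIdeal J b hb, map_zero]
    have h3 : X'.incl za * X'.incl zb = 0 := incl_mul_incl X' za zb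
    rw [map_mul, map_mul, hza, hzb, map_mul]
    calc (u' a + X'.incl za) * (u' b + X'.incl zb)
        = u' a * u' b + u' a * X'.incl zb + u' b * X'.incl za + X'.incl za * X'.incl zb := by ring
      _ = u' a * u' b := by rw [h1, h2, h3, add_zero, add_zero, add_zero]
  · intro x y hx hy
    rw [map_add, map_add, map_add, hx, hy]

end Simple

section PExt

/-- a `Λ`-extension with a lift of the quotient map, regarded as an extension over the power series ring -/
noncomputable def toPExt (X : Ext Λ (MvPowerSeries (Fin d) Λ ⧸ J) L) (u : MvPowerSeries (Fin d) Λ →ₐ[Λ] X.E)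
    (hu : ∀ p, X.proj (u p) = Ideal.Quotient.mk J p) :
    Ext (MvPowerSeries (Fin d) Λ) (MvPowerSeries (Fin d) Λ ⧸ J) L :=
  letI : Algebra (MvPowerSeries (Fin d) Λ) X.E := u.toRingHom.toAlgebra
  { E := X.E
    proj :=
      { toFun := fun x => X.proj x
        map_one' := map_one X.proj
        map_mul' := map_mul X.proj
        map_zero' := map_zero X.proj
        map_add' := map_add X.proj
        commutes' := fun p => hu p }
    incl := X.incl
    isExtension :=
      { proj_surjective := X.isExtension.proj_surjective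
        incl_injective := X.isExtension.incl_injective
        exact := X.isExtension.exact
        mul_incl := X.isExtension.mul_incl } }

variable [Module (MvPowerSeries (Fin d) Λ) L]
  [IsScalarTower (MvPowerSeries (Fin d) Λ) (MvPowerSeries (Fin d) Λ ⧸ J) L]

/-- two extensions with lifts having the same restriction to `J` are equivalent -/
theorem nonempty_equiv_of_restrict_eq (X X' : Ext Λ (MvPowerSeries (Fin d) Λ ⧸ J) L)
    (u : MvPowerSeries (Fin d) Λ →ₐ[Λ] X.E) (u' : MvPowerSeries (Fin d) Λ →ₐ[Λ] X'.E)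
    (hu : ∀ p, X.proj (u p) = Ideal.Quotient.mk J p)
    (hu' : ∀ p, X'.proj (u' p) = Ideal.Quotient.mk J p)
    (h : ∀ j ∈ J, ∃ z : L, X.incl z = u j ∧ X'.incl z = u' j) : Nonempty (X.Equiv X') := by
  have hcon : (toPExt J X u hu).conormalMap J = (toPExt J X' u' hu').conormalMap J := by
    apply LinearMap.ext
    intro c
    obtain ⟨z, rfl⟩ := J.toCotangent_surjective c
    rw [← idealToKer_eq, ← idealToKer_eq]
    obtain ⟨z0, h1, h2⟩ := h z z.2
    have e1 : (toPExt J X u hu).idealToKer J z = z0 := by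
      apply X.isExtension.incl_injective
      rw [h1]
      exact incl_idealToKer J (toPExt J X u hu) z
    have e2 : (toPExt J X' u' hu').idealToKer J z = z0 := by
      apply X'.isExtension.incl_injective
      rw [h2]
      exact incl_idealToKer J (toPExt J X' u' hu') z
    rw [e1, e2]
  let eP := equivOfConormalEq J (toPExt J X u hu) (toPExt J X' u' hu') hcon
  have hcomm : ∀ p : MvPowerSeries (Fin d) Λ, eP.toAlgEquiv (u p) = u' p := fun p =>
    eP.toAlgEquiv.commutes p
  let eΛ : X.E ≃ₐ[Λ] X'.E :=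
    { toFun := fun x => eP.toAlgEquiv x
      invFun := fun x => eP.toAlgEquiv.symm x
      left_inv := eP.toAlgEquiv.left_inv
      right_inv := eP.toAlgEquiv.right_inv
      map_mul' := map_mul eP.toAlgEquiv
      map_add' := map_add eP.toAlgEquiv
      commutes' := fun a => by
        have h1 : algebraMap Λ X.E a = u (algebraMap Λ _ a) := (u.commutes a).symm
        have h2 : algebraMap Λ X'.E a = u' (algebraMap Λ _ a) := (u'.commutes a).symm
        rw [h1, h2]
        exact hcomm _ }
  exact ⟨⟨eΛ, fun x => eP.proj_apply x, fun z => eP.apply_incl z⟩⟩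

/-- every linear map `J → L` is the restriction of a lift -/
theorem exists_ext_lift_of_linear (δ : J →ₗ[MvPowerSeries (Fin d) Λ] L) :
    ∃ (X : Ext Λ (MvPowerSeries (Fin d) Λ ⧸ J) L) (u : MvPowerSeries (Fin d) Λ →ₐ[Λ] X.E),
      (∀ p, X.proj (u p) = Ideal.Quotient.mk J p) ∧ ∀ j : J, X.incl (δ j) = u j := by
  let XP := extOfLinear J δ
  refine ⟨XP.restrictBase Λ,
    { toFun := fun p => algebraMap (MvPowerSeries (Fin d) Λ) XP.E p
      map_one' := map_one _
      map_mul' := map_mul _
      map_zero' := map_zero _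
      map_add' := map_add _
      commutes' := fun a => rfl }, ?_, ?_⟩
  · intro p
    exact XP.proj.commutes p
  · intro j
    have h1 := incl_idealToKer J XP j
    rw [idealToKer_extOfLinear] at h1
    exact h1

end PExt

end PS

end Groth.Agent.Lib.Seat50.ExalPS
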