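import Mathlib
import Groth.Prelude.Def_Exal2
import Groth.Agent.Lib.Helper7Exal
import Groth.Agent.Lib.Seat50ExalPS

/-!
# Seat50: extensions by a module over `B` and over a "completion-like" `B`-algebra `B'`

Abstract comparison: `B → B'` a ring map and `𝔫 ⊆ B` an ideal such that `B/𝔫^N → B'/𝔫^N B'` is bijective for all `N`
(hypotheses `hC2`, `hC3`), `L` a `B'`-module killed by `𝔫`.  Then pulling back extensions by `L` along `B → B'` is
injective and surjective on equivalence classes, as soon as the kernels are separated for the `𝔪`-adic topologies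
(hypotheses `H`).
-/

set_option autoImplicit false
set_option linter.unusedSectionVars false
set_option linter.style.haveILetI false

open Exal

universe u v

namespace Groth.Agent.Lib.Seat50.ExalCompl

open Groth.Agent.Lib.Helper7.ExalLib

section General

variable {A : Type u} {B L : Type v} [CommRing A] [CommRing B] [Algebra A B] [AddCommGroup L]
  [Module B L]

/-- the inverse image in the middle ring of an ideal of the base -/
def mI (Z : Ext A B L) (𝔫 : Ideal B) : Ideal Z.E := Ideal.comap (Z.proj : Z.E →+* B) 𝔫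

lemma mem_mI (Z : Ext A B L) (𝔫 : Ideal B) (x : Z.E) : x ∈ mI Z 𝔫 ↔ Z.proj x ∈ 𝔫 := Iff.rfl

lemma map_mI_pow (Z : Ext A B L) (𝔫 : Ideal B) (N : ℕ) :
    Ideal.map (Z.proj : Z.E →+* B) (mI Z 𝔫 ^ N) = 𝔫 ^ N := by
  have hs : Function.Surjective (Z.proj : Z.E →+* B) := Z.isExtension.proj_surjective
  rw [Ideal.map_pow, mI, Ideal.map_comap_of_surjective (Z.proj : Z.E →+* B) hs]

lemma proj_mem_pow (Z : Ext A B L) (𝔫 : Ideal B) (N : ℕ) (x : Z.E) (hx : x ∈ mI Z 𝔫 ^ N) :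
    Z.proj x ∈ 𝔫 ^ N := by
  rw [← map_mI_pow Z 𝔫 N]
  exact Ideal.mem_map_of_mem (Z.proj : Z.E →+* B) hx

lemma exists_mem_pow_proj_eq (Z : Ext A B L) (𝔫 : Ideal B) (N : ℕ) (c : B) (hc : c ∈ 𝔫 ^ N) :
    ∃ i ∈ mI Z 𝔫 ^ N, Z.proj i = c := by
  rw [← map_mI_pow Z 𝔫 N] at hc
  obtain ⟨i, hi, hi'⟩ :=
    (Ideal.mem_map_iff_of_surjective (Z.proj : Z.E →+* B) Z.isExtension.proj_surjective).1 hc
  exact ⟨i, hi, hi'⟩

/-- the separation property -/
def Sep (Z : Ext A B L) (𝔫 : Ideal B) (N : ℕ) : Prop := ∀ z : L, Z.incl z ∈ mI Z 𝔫 ^ N → z = 0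

lemma Sep.mono {Z : Ext A B L} {𝔫 : Ideal B} {N N' : ℕ} (h : Sep Z 𝔫 N) (hN : N ≤ N') :
    Sep Z 𝔫 N' := fun z hz => h z (Ideal.pow_le_pow_right hN hz)

lemma Sep.eq_zero {Z : Ext A B L} {𝔫 : Ideal B} {N : ℕ} (h : Sep Z 𝔫 N) (x : Z.E)
    (hx : x ∈ mI Z 𝔫 ^ N) (hp : Z.proj x = 0) : x = 0 := by
  obtain ⟨z, rfl⟩ := (Z.isExtension.exact x).1 hp
  rw [h z hx, map_zero]

theorem exists_sep [IsNoetherianRing B] [IsSimpleModule B L] (Z : Ext A B L) (𝔫 : Ideal B)
    (h𝔫 : 𝔫 ≤ Ideal.jacobson ⊥) : ∃ N₀ : ℕ, ∀ N ≥ N₀, Sep Z 𝔫 N := by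
  have hI : mI Z 𝔫 ≤ Ideal.jacobson ⊥ := by
    intro a ha
    rw [Ideal.mem_jacobson_bot]
    intro y
    apply Groth.Agent.Lib.Seat50.ExalPS.isUnit_of_proj_isUnit
    rw [map_add, map_mul, map_one]
    exact (Ideal.mem_jacobson_bot.1 (h𝔫 ha)) (Z.proj y)
  obtain ⟨n, hn⟩ := Groth.Agent.Lib.Seat50.ExalPS.exists_pow_inter_eq_bot Z (mI Z 𝔫) hI
  exact ⟨n, fun N hN => Sep.mono hn hN⟩

end General

section Compare

variable {A : Type u} {B B' L : Type v} [CommRing A] [CommRing B] [CommRing B'] [Algebra A B]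
  [Algebra A B'] [Algebra B B'] [IsScalarTower A B B'] [AddCommGroup L] [Module B' L] [Module B L]
  [IsScalarTower B B' L]

/-- the comparison hypotheses: `B/𝔫^N → B'/𝔫^N B'` is bijective and `𝔫` kills `L`. -/
structure Cmp (𝔫 : Ideal B) : Prop where
  inj : ∀ (N : ℕ) (b : B), algebraMap B B' b ∈ Ideal.map (algebraMap B B') (𝔫 ^ N) → b ∈ 𝔫 ^ N
  surj : ∀ (N : ℕ) (b' : B'), ∃ b : B, b' - algebraMap B B' b ∈ Ideal.map (algebraMap B B') (𝔫 ^ N)
  kill : ∀ a ∈ 𝔫, ∀ z : L, a • z = 0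

variable (B) in
/-- first projection from the pullback -/
noncomputable def fstP (X : Ext A B' L) : (X.pullback B).E →ₐ[A] X.E :=
  (AlgHom.fst A X.E B).comp (X.fiberProd B).val

lemma proj_fstP (X : Ext A B' L) (y : (X.pullback B).E) :
    X.proj (fstP B X y) = algebraMap B B' ((X.pullback B).proj y) := by
  have h := y.2
  change y.1 ∈ AlgHom.equalizer _ _ at h
  rw [AlgHom.mem_equalizer] at h
  exact h

lemma fstP_incl (X : Ext A B' L) (z : L) : fstP B X ((X.pullback B).incl z) = X.incl z := rfl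

lemma pullback_ext (X : Ext A B' L) (y y' : (X.pullback B).E) (h1 : fstP B X y = fstP B X y')
    (h2 : (X.pullback B).proj y = (X.pullback B).proj y') : y = y' :=
  Subtype.ext (Prod.ext h1 h2)

/-- an element of the pullback from its components -/
def mkP (X : Ext A B' L) (ξ : X.E) (b : B) (h : X.proj ξ = algebraMap B B' b) : (X.pullback B).E :=
  ⟨(ξ, b), by
    change (ξ, b) ∈ AlgHom.equalizer _ _
    rw [AlgHom.mem_equalizer]
    exact h⟩

lemma fstP_mkP (X : Ext A B' L) (ξ : X.E) (b : B) (h : X.proj ξ = algebraMap B B' b) :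
    fstP B X (mkP X ξ b h) = ξ := rfl

lemma proj_mkP (X : Ext A B' L) (ξ : X.E) (b : B) (h : X.proj ξ = algebraMap B B' b) :
    (X.pullback B).proj (mkP X ξ b h) = b := rfl

variable (𝔫 : Ideal B)

lemma fstP_mem_pow (X : Ext A B' L) (N : ℕ) (y : (X.pullback B).E)
    (hy : y ∈ mI (X.pullback B) 𝔫 ^ N) :
    fstP B X y ∈ mI X (Ideal.map (algebraMap B B') 𝔫) ^ N := by
  have h1 : Ideal.map (fstP B X : (X.pullback B).E →+* X.E) (mI (X.pullback B) 𝔫) ≤
      mI X (Ideal.map (algebraMap B B') 𝔫) := by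
    rw [Ideal.map_le_iff_le_comap]
    intro a ha
    rw [Ideal.mem_comap, mem_mI]
    change X.proj (fstP B X a) ∈ _
    rw [proj_fstP]
    exact Ideal.mem_map_of_mem _ ha
  have h2 : (fstP B X : (X.pullback B).E →+* X.E) y ∈
      Ideal.map (fstP B X : (X.pullback B).E →+* X.E) (mI (X.pullback B) 𝔫 ^ N) :=
    Ideal.mem_map_of_mem _ hy
  rw [Ideal.map_pow] at h2
  exact Ideal.pow_right_mono h1 N h2

variable {𝔫}

lemma mem_pow_of_fstP_mem (hc : Cmp (B' := B') (L := L) 𝔫) (X : Ext A B' L) (N : ℕ)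
    (hX : Sep X (Ideal.map (algebraMap B B') 𝔫) N) (y : (X.pullback B).E)
    (hy : fstP B X y ∈ mI X (Ideal.map (algebraMap B B') 𝔫) ^ N) :
    y ∈ mI (X.pullback B) 𝔫 ^ N := by
  have h1 : algebraMap B B' ((X.pullback B).proj y) ∈ Ideal.map (algebraMap B B') (𝔫 ^ N) := by
    rw [← proj_fstP, Ideal.map_pow]
    exact proj_mem_pow X _ N _ hy
  have h2 := hc.inj N _ h1
  obtain ⟨i, hi, hi'⟩ := exists_mem_pow_proj_eq (X.pullback B) 𝔫 N _ h2
  have h3 : (X.pullback B).proj (y - i) = 0 := by rw [map_sub, hi', sub_self]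
  have h4 : fstP B X (y - i) = 0 := by
    refine hX.eq_zero _ ?_ ?_
    · rw [map_sub]
      exact Ideal.sub_mem _ hy (fstP_mem_pow 𝔫 X N i hi)
    · rw [proj_fstP, h3, map_zero]
  have h5 : y - i = 0 := pullback_ext X _ _ (by rw [h4, map_zero]) (by rw [h3, map_zero])
  rw [sub_eq_zero] at h5
  rw [h5]
  exact hi

lemma exists_sub_fstP_mem (hc : Cmp (B' := B') (L := L) 𝔫) (X : Ext A B' L) (N : ℕ) (ξ : X.E) :
    ∃ y : (X.pullback B).E, ξ - fstP B X y ∈ mI X (Ideal.map (algebraMap B B') 𝔫) ^ N := by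
  obtain ⟨b, hb⟩ := hc.surj N (X.proj ξ)
  rw [Ideal.map_pow] at hb
  obtain ⟨i, hi, hi'⟩ := exists_mem_pow_proj_eq X _ N _ hb
  refine ⟨mkP X (ξ - i) b (by rw [map_sub, hi']; ring), ?_⟩
  rw [fstP_mkP, sub_sub_cancel]
  exact hi

section Inj

variable (𝔫)

lemma equiv_mem_pow {Y Y' : Ext A B L} (ε : Y.Equiv Y') (N : ℕ) (y : Y.E) (hy : y ∈ mI Y 𝔫 ^ N) :
    ε.toAlgEquiv y ∈ mI Y' 𝔫 ^ N := by
  have h1 : Ideal.map (ε.toAlgEquiv : Y.E →+* Y'.E) (mI Y 𝔫) ≤ mI Y' 𝔫 := by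
    rw [Ideal.map_le_iff_le_comap]
    intro a ha
    rw [Ideal.mem_comap, mem_mI]
    change Y'.proj (ε.toAlgEquiv a) ∈ _
    rw [ε.proj_apply]
    exact ha
  have h2 : (ε.toAlgEquiv : Y.E →+* Y'.E) y ∈
      Ideal.map (ε.toAlgEquiv : Y.E →+* Y'.E) (mI Y 𝔫 ^ N) := Ideal.mem_map_of_mem _ hy
  rw [Ideal.map_pow] at h2
  exact Ideal.pow_right_mono h1 N h2

/-- the graph relation of the induced equivalence -/
def Rel (X X' : Ext A B' L) (ε : (X.pullback B).Equiv (X'.pullback B)) (N : ℕ) (ξ : X.E)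
    (ξ' : X'.E) : Prop :=
  X.proj ξ = X'.proj ξ' ∧ ∃ y : (X.pullback B).E,
    ξ - fstP B X y ∈ mI X (Ideal.map (algebraMap B B') 𝔫) ^ N ∧
    ξ' - fstP B X' (ε.toAlgEquiv y) ∈ mI X' (Ideal.map (algebraMap B B') 𝔫) ^ N

variable {𝔫}

lemma Rel.swap {X X' : Ext A B' L} {ε : (X.pullback B).Equiv (X'.pullback B)} {N : ℕ} {ξ : X.E}
    {ξ' : X'.E} (h : Rel 𝔫 X X' ε N ξ ξ') : Rel 𝔫 X' X ε.symm N ξ' ξ := by
  obtain ⟨h1, y, h2, h3⟩ := h
  refine ⟨h1.symm, ε.toAlgEquiv y, h3, ?_⟩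
  have : ε.symm.toAlgEquiv (ε.toAlgEquiv y) = y := ε.toAlgEquiv.symm_apply_apply y
  rw [this]
  exact h2

lemma Rel.unique (hc : Cmp (B' := B') (L := L) 𝔫) {X X' : Ext A B' L}
    {ε : (X.pullback B).Equiv (X'.pullback B)} {N : ℕ}
    (hX : Sep X (Ideal.map (algebraMap B B') 𝔫) N) (hX' : Sep X' (Ideal.map (algebraMap B B') 𝔫) N)
    {ξ : X.E} {ξ' ξ'' : X'.E} (h : Rel 𝔫 X X' ε N ξ ξ') (h' : Rel 𝔫 X X' ε N ξ ξ'') : ξ' = ξ'' := by
  obtain ⟨h1, y₁, h2, h3⟩ := h
  obtain ⟨h1', y₂, h2', h3'⟩ := h'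
  have e1 : fstP B X (y₁ - y₂) ∈ mI X (Ideal.map (algebraMap B B') 𝔫) ^ N := by
    have : fstP B X (y₁ - y₂) = (ξ - fstP B X y₂) - (ξ - fstP B X y₁) := by
      rw [map_sub]; ring
    rw [this]
    exact Ideal.sub_mem _ h2' h2
  have e2 := mem_pow_of_fstP_mem hc X N hX _ e1
  have e3 := equiv_mem_pow 𝔫 ε N _ e2
  have e4 := fstP_mem_pow 𝔫 X' N _ e3
  rw [map_sub, map_sub] at e4
  have e5 : ξ' - ξ'' ∈ mI X' (Ideal.map (algebraMap B B') 𝔫) ^ N := by
    have : ξ' - ξ'' = (ξ' - fstP B X' (ε.toAlgEquiv y₁)) - (ξ'' - fstP B X' (ε.toAlgEquiv y₂)) +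
        (fstP B X' (ε.toAlgEquiv y₁) - fstP B X' (ε.toAlgEquiv y₂)) := by ring
    rw [this]
    exact Ideal.add_mem _ (Ideal.sub_mem _ h3 h3') e4
  have e6 : X'.proj (ξ' - ξ'') = 0 := by rw [map_sub, ← h1, ← h1', sub_self]
  exact sub_eq_zero.1 (hX'.eq_zero _ e5 e6)

lemma Rel.exists (hc : Cmp (B' := B') (L := L) 𝔫) (X X' : Ext A B' L)
    (ε : (X.pullback B).Equiv (X'.pullback B)) (N : ℕ) (ξ : X.E) :
    ∃ ξ' : X'.E, Rel 𝔫 X X' ε N ξ ξ' := by
  obtain ⟨y, hy⟩ := exists_sub_fstP_mem hc X N ξ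
  have h1 := proj_mem_pow X _ N _ hy
  obtain ⟨i', hi', hi''⟩ := exists_mem_pow_proj_eq X' _ N _ h1
  refine ⟨fstP B X' (ε.toAlgEquiv y) + i', ?_, y, hy, ?_⟩
  · rw [map_add, hi'', proj_fstP, ε.proj_apply, ← proj_fstP, map_sub]
    ring
  · rw [add_sub_cancel_left]
    exact hi'

/-- the graph as a subalgebra -/
def graph (X X' : Ext A B' L) (ε : (X.pullback B).Equiv (X'.pullback B)) (N : ℕ) :
    Subalgebra A (X.E × X'.E) where
  carrier := {p | Rel 𝔫 X X' ε N p.1 p.2}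
  mul_mem' := by
    rintro ⟨a, a'⟩ ⟨b, b'⟩ ⟨h1, y, h2, h3⟩ ⟨k1, w, k2, k3⟩
    refine ⟨?_, y * w, ?_, ?_⟩
    · change X.proj (a * b) = X'.proj (a' * b')
      rw [map_mul, map_mul, h1, k1]
    · change a * b - fstP B X (y * w) ∈ _
      have : a * b - fstP B X (y * w) = a * (b - fstP B X w) + (a - fstP B X y) * fstP B X w := by
        rw [map_mul]; ring
      rw [this]
      exact Ideal.add_mem _ (Ideal.mul_mem_left _ _ k2) (Ideal.mul_mem_right _ _ h2)
    · change a' * b' - fstP B X' (ε.toAlgEquiv (y * w)) ∈ _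
      have : a' * b' - fstP B X' (ε.toAlgEquiv (y * w)) =
          a' * (b' - fstP B X' (ε.toAlgEquiv w)) +
            (a' - fstP B X' (ε.toAlgEquiv y)) * fstP B X' (ε.toAlgEquiv w) := by
        rw [map_mul, map_mul]; ring
      rw [this]
      exact Ideal.add_mem _ (Ideal.mul_mem_left _ _ k3) (Ideal.mul_mem_right _ _ h3)
  one_mem' := by
    refine ⟨?_, 1, ?_, ?_⟩
    · change X.proj 1 = X'.proj 1
      rw [map_one, map_one]
    · change (1 : X.E) - fstP B X 1 ∈ _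
      rw [map_one, sub_self]; exact Ideal.zero_mem _
    · change (1 : X'.E) - fstP B X' (ε.toAlgEquiv 1) ∈ _
      rw [map_one, map_one, sub_self]; exact Ideal.zero_mem _
  add_mem' := by
    rintro ⟨a, a'⟩ ⟨b, b'⟩ ⟨h1, y, h2, h3⟩ ⟨k1, w, k2, k3⟩
    refine ⟨?_, y + w, ?_, ?_⟩
    · change X.proj (a + b) = X'.proj (a' + b')
      rw [map_add, map_add, h1, k1]
    · change a + b - fstP B X (y + w) ∈ _
      have : a + b - fstP B X (y + w) = (a - fstP B X y) + (b - fstP B X w) := by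
        rw [map_add]; ring
      rw [this]
      exact Ideal.add_mem _ h2 k2
    · change a' + b' - fstP B X' (ε.toAlgEquiv (y + w)) ∈ _
      have : a' + b' - fstP B X' (ε.toAlgEquiv (y + w)) =
          (a' - fstP B X' (ε.toAlgEquiv y)) + (b' - fstP B X' (ε.toAlgEquiv w)) := by
        rw [map_add, map_add]; ring
      rw [this]
      exact Ideal.add_mem _ h3 k3
  zero_mem' := by
    refine ⟨?_, 0, ?_, ?_⟩
    · change X.proj 0 = X'.proj 0
      rw [map_zero, map_zero]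
    · change (0 : X.E) - fstP B X 0 ∈ _
      rw [map_zero, sub_self]; exact Ideal.zero_mem _
    · change (0 : X'.E) - fstP B X' (ε.toAlgEquiv 0) ∈ _
      rw [map_zero, map_zero, sub_self]; exact Ideal.zero_mem _
  algebraMap_mem' := by
    intro r
    refine ⟨?_, algebraMap A _ r, ?_, ?_⟩
    · change X.proj (algebraMap A X.E r) = X'.proj (algebraMap A X'.E r)
      rw [AlgHom.commutes, AlgHom.commutes]
    · change algebraMap A X.E r - fstP B X (algebraMap A _ r) ∈ _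
      rw [AlgHom.commutes, sub_self]; exact Ideal.zero_mem _
    · change algebraMap A X'.E r - fstP B X' (ε.toAlgEquiv (algebraMap A _ r)) ∈ _
      rw [AlgEquiv.commutes, AlgHom.commutes, sub_self]; exact Ideal.zero_mem _

lemma Rel.of_swap {X X' : Ext A B' L} {ε : (X.pullback B).Equiv (X'.pullback B)} {N : ℕ} {ξ : X.E}
    {ξ' : X'.E} (h : Rel 𝔫 X' X ε.symm N ξ' ξ) : Rel 𝔫 X X' ε N ξ ξ' := by
  obtain ⟨h1, y', h2, h3⟩ := h
  refine ⟨h1.symm, ε.symm.toAlgEquiv y', h3, ?_⟩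
  have : ε.toAlgEquiv (ε.symm.toAlgEquiv y') = y' := ε.toAlgEquiv.apply_symm_apply y'
  rw [this]
  exact h2

lemma rel_incl (X X' : Ext A B' L) (ε : (X.pullback B).Equiv (X'.pullback B)) (N : ℕ) (z : L) :
    Rel 𝔫 X X' ε N (X.incl z) (X'.incl z) := by
  refine ⟨by rw [proj_incl, proj_incl], (X.pullback B).incl z, ?_, ?_⟩
  · rw [fstP_incl, sub_self]; exact Ideal.zero_mem _
  · rw [ε.apply_incl, fstP_incl, sub_self]; exact Ideal.zero_mem _

/-- **Injectivity** of pullback on classes. -/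
theorem nonempty_equiv_of_pullback_equiv (hc : Cmp (B' := B') (L := L) 𝔫) (X X' : Ext A B' L)
    (ε : (X.pullback B).Equiv (X'.pullback B)) (N : ℕ)
    (hX : Sep X (Ideal.map (algebraMap B B') 𝔫) N) (hX' : Sep X' (Ideal.map (algebraMap B B') 𝔫) N) :
    Nonempty (X.Equiv X') := by
  let Γ := graph (𝔫 := 𝔫) X X' ε N
  let p₁ : Γ →ₐ[A] X.E := (AlgHom.fst A X.E X'.E).comp Γ.val
  let p₂ : Γ →ₐ[A] X'.E := (AlgHom.snd A X.E X'.E).comp Γ.val
  have hΓ : ∀ g : Γ, Rel 𝔫 X X' ε N g.1.1 g.1.2 := fun g => g.2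
  have h₁ : Function.Bijective p₁ := by
    constructor
    · intro g g' hgg
      have e1 : g.1.1 = g'.1.1 := hgg
      have r1 := hΓ g
      have r2 := hΓ g'
      rw [← e1] at r2
      exact Subtype.ext (Prod.ext e1 (Rel.unique hc hX hX' r1 r2))
    · intro ξ
      obtain ⟨ξ', h⟩ := Rel.exists hc X X' ε N ξ
      exact ⟨⟨(ξ, ξ'), h⟩, rfl⟩
  have h₂ : Function.Bijective p₂ := by
    constructor
    · intro g g' hgg
      have e1 : g.1.2 = g'.1.2 := hgg
      have r1 := (hΓ g).swap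
      have r2 := (hΓ g').swap
      rw [← e1] at r2
      exact Subtype.ext (Prod.ext (Rel.unique hc hX' hX r1 r2) e1)
    · intro ξ'
      obtain ⟨ξ, h⟩ := Rel.exists hc X' X ε.symm N ξ'
      exact ⟨⟨(ξ, ξ'), h.of_swap⟩, rfl⟩
  let e : X.E ≃ₐ[A] X'.E := (AlgEquiv.ofBijective p₁ h₁).symm.trans (AlgEquiv.ofBijective p₂ h₂)
  have key : ∀ ξ, Rel 𝔫 X X' ε N ξ (e ξ) := by
    intro ξ
    set g := (AlgEquiv.ofBijective p₁ h₁).symm ξ with hg
    have e1 : g.1.1 = ξ := (AlgEquiv.ofBijective p₁ h₁).apply_symm_apply ξ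
    have e2 : e ξ = g.1.2 := rfl
    rw [e2, ← e1]
    exact hΓ g
  exact ⟨⟨e, fun ξ => (key ξ).1.symm, fun z => Rel.unique hc hX hX' (key _) (rel_incl X X' ε N z)⟩⟩

end Inj

section Surj

lemma smul_eq_zero_of_mem_map (hc : Cmp (B' := B') (L := L) 𝔫) (N : ℕ) (hN : 1 ≤ N) (c : B')
    (hcN : c ∈ Ideal.map (algebraMap B B') (𝔫 ^ N)) (z : L) : c • z = 0 := by
  have h1 : Ideal.map (algebraMap B B') (𝔫 ^ N) ≤ Ideal.map (algebraMap B B') 𝔫 :=
    Ideal.map_mono (Ideal.pow_le_self (by omega))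
  have h2 := h1 hcN
  clear hcN h1
  rw [Ideal.map] at h2
  induction h2 using Submodule.span_induction with
  | mem y hy =>
    obtain ⟨a, ha, rfl⟩ := hy
    rw [algebraMap_smul]
    exact hc.kill a ha z
  | zero => rw [zero_smul]
  | add y y' _ _ h1 h2 => rw [add_smul, h1, h2, add_zero]
  | smul b y _ h1 => rw [smul_eq_mul, mul_smul, h1, smul_zero]

variable (𝔫) (B')

/-- pairs `(y, b')` with `b' ≡ φ(π y)` modulo `𝔫^N B'` -/
def preS (Y : Ext A B L) (N : ℕ) : Subalgebra A (Y.E × B') where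
  carrier := {p | p.2 - algebraMap B B' (Y.proj p.1) ∈ Ideal.map (algebraMap B B') (𝔫 ^ N)}
  mul_mem' := by
    rintro ⟨a, a'⟩ ⟨b, b'⟩ h k
    change a' - algebraMap B B' (Y.proj a) ∈ Ideal.map (algebraMap B B') (𝔫 ^ N) at h
    change b' - algebraMap B B' (Y.proj b) ∈ Ideal.map (algebraMap B B') (𝔫 ^ N) at k
    change a' * b' - algebraMap B B' (Y.proj (a * b)) ∈ Ideal.map (algebraMap B B') (𝔫 ^ N)
    have : a' * b' - algebraMap B B' (Y.proj (a * b)) =
        a' * (b' - algebraMap B B' (Y.proj b)) +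
          (a' - algebraMap B B' (Y.proj a)) * algebraMap B B' (Y.proj b) := by
      rw [map_mul, map_mul]; ring
    rw [this]
    exact Ideal.add_mem _ (Ideal.mul_mem_left _ _ k) (Ideal.mul_mem_right _ _ h)
  one_mem' := by
    change (1 : B') - algebraMap B B' (Y.proj 1) ∈ Ideal.map (algebraMap B B') (𝔫 ^ N)
    rw [map_one, map_one, sub_self]; exact Ideal.zero_mem _
  add_mem' := by
    rintro ⟨a, a'⟩ ⟨b, b'⟩ h k
    change a' - algebraMap B B' (Y.proj a) ∈ Ideal.map (algebraMap B B') (𝔫 ^ N) at h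
    change b' - algebraMap B B' (Y.proj b) ∈ Ideal.map (algebraMap B B') (𝔫 ^ N) at k
    change a' + b' - algebraMap B B' (Y.proj (a + b)) ∈ Ideal.map (algebraMap B B') (𝔫 ^ N)
    have : a' + b' - algebraMap B B' (Y.proj (a + b)) =
        (a' - algebraMap B B' (Y.proj a)) + (b' - algebraMap B B' (Y.proj b)) := by
      rw [map_add, map_add]; ring
    rw [this]
    exact Ideal.add_mem _ h k
  zero_mem' := by
    change (0 : B') - algebraMap B B' (Y.proj 0) ∈ Ideal.map (algebraMap B B') (𝔫 ^ N)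
    rw [map_zero, map_zero, sub_self]; exact Ideal.zero_mem _
  algebraMap_mem' := by
    intro r
    change algebraMap A B' r - algebraMap B B' (Y.proj (algebraMap A Y.E r)) ∈
      Ideal.map (algebraMap B B') (𝔫 ^ N)
    rw [AlgHom.commutes, ← IsScalarTower.algebraMap_apply, sub_self]; exact Ideal.zero_mem _

lemma mem_preS (Y : Ext A B L) (N : ℕ) (p : Y.E × B') :
    p ∈ preS B' 𝔫 Y N ↔
      p.2 - algebraMap B B' (Y.proj p.1) ∈ Ideal.map (algebraMap B B') (𝔫 ^ N) := Iff.rfl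

/-- the ideal `{(i, 0) | i ∈ 𝔪^N}` -/
def preI (Y : Ext A B L) (N : ℕ) : Ideal (preS B' 𝔫 Y N) where
  carrier := {s | s.1.2 = 0 ∧ s.1.1 ∈ mI Y 𝔫 ^ N}
  add_mem' := by
    rintro s t ⟨h1, h2⟩ ⟨k1, k2⟩
    refine ⟨?_, ?_⟩
    · change s.1.2 + t.1.2 = 0
      rw [h1, k1, add_zero]
    · change s.1.1 + t.1.1 ∈ _
      exact Ideal.add_mem _ h2 k2
  zero_mem' := ⟨rfl, Ideal.zero_mem _⟩
  smul_mem' := by
    rintro c s ⟨h1, h2⟩
    refine ⟨?_, ?_⟩
    · change c.1.2 * s.1.2 = 0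
      rw [h1, mul_zero]
    · change c.1.1 * s.1.1 ∈ _
      exact Ideal.mul_mem_left _ _ h2

lemma mem_preI (Y : Ext A B L) (N : ℕ) (s : preS B' 𝔫 Y N) :
    s ∈ preI B' 𝔫 Y N ↔ s.1.2 = 0 ∧ s.1.1 ∈ mI Y 𝔫 ^ N := Iff.rfl

/-- the projection of the constructed extension -/
noncomputable def projX (Y : Ext A B L) (N : ℕ) : (preS B' 𝔫 Y N ⧸ preI B' 𝔫 Y N) →ₐ[A] B' :=
  Ideal.Quotient.liftₐ (preI B' 𝔫 Y N) ((AlgHom.snd A Y.E B').comp (preS B' 𝔫 Y N).val)
    (fun s hs => hs.1)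

lemma projX_mk (Y : Ext A B L) (N : ℕ) (s : preS B' 𝔫 Y N) :
    projX B' 𝔫 Y N (Ideal.Quotient.mk _ s) = s.1.2 := rfl

/-- an element of `preS` of the form `(incl z, 0)` -/
def inclS (Y : Ext A B L) (N : ℕ) (z : L) : preS B' 𝔫 Y N :=
  ⟨(Y.incl z, 0), by
    rw [mem_preS]
    change (0 : B') - algebraMap B B' (Y.proj (Y.incl z)) ∈ _
    rw [proj_incl, map_zero, sub_self]; exact Ideal.zero_mem _⟩

/-- the inclusion of the constructed extension -/
noncomputable def inclX (Y : Ext A B L) (N : ℕ) : L →+ (preS B' 𝔫 Y N ⧸ preI B' 𝔫 Y N) where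
  toFun z := Ideal.Quotient.mk _ (inclS B' 𝔫 Y N z)
  map_zero' := by
    rw [Ideal.Quotient.eq_zero_iff_mem, mem_preI]
    refine ⟨rfl, ?_⟩
    change Y.incl 0 ∈ _
    rw [map_zero]; exact Ideal.zero_mem _
  map_add' z z' := by
    rw [← map_add]
    congr 1
    apply Subtype.ext
    apply Prod.ext
    · change Y.incl (z + z') = Y.incl z + Y.incl z'
      rw [map_add]
    · change (0 : B') = 0 + 0
      rw [add_zero]

variable {𝔫} {B'}

/-- the extension of `B'` constructed from an extension of `B` -/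
noncomputable def extX (hc : Cmp (B' := B') (L := L) 𝔫) (Y : Ext A B L) (N : ℕ) (hN : 1 ≤ N)
    (hY : Sep Y 𝔫 N) : Ext A B' L where
  E := preS B' 𝔫 Y N ⧸ preI B' 𝔫 Y N
  proj := projX B' 𝔫 Y N
  incl := inclX B' 𝔫 Y N
  isExtension :=
    { proj_surjective := by
        intro b'
        obtain ⟨b, hb⟩ := hc.surj N b'
        obtain ⟨y, hy⟩ := Y.isExtension.proj_surjective b
        refine ⟨Ideal.Quotient.mk _ ⟨(y, b'), ?_⟩, rfl⟩
        rw [mem_preS]
        change b' - algebraMap B B' (Y.proj y) ∈ _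
        rw [hy]
        exact hb
      incl_injective := by
        intro z z' h
        have h1 : inclX B' 𝔫 Y N (z - z') = 0 := by rw [map_sub, h, sub_self]
        change Ideal.Quotient.mk _ (inclS B' 𝔫 Y N (z - z')) = 0 at h1
        rw [Ideal.Quotient.eq_zero_iff_mem, mem_preI] at h1
        exact sub_eq_zero.1 (hY _ h1.2)
      exact := by
        intro x
        obtain ⟨s, rfl⟩ := Ideal.Quotient.mk_surjective x
        rw [projX_mk]
        constructor
        · intro h0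
          obtain ⟨⟨y, b'⟩, hs⟩ := s
          change b' = 0 at h0
          subst h0
          rw [mem_preS] at hs
          change (0 : B') - algebraMap B B' (Y.proj y) ∈ _ at hs
          rw [zero_sub, neg_mem_iff] at hs
          have h1 := hc.inj N _ hs
          obtain ⟨i, hi, hi'⟩ := exists_mem_pow_proj_eq Y 𝔫 N _ h1
          have h2 : Y.proj (y - i) = 0 := by rw [map_sub, hi', sub_self]
          obtain ⟨z, hz⟩ := (Y.isExtension.exact _).1 h2
          refine ⟨z, ?_⟩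
          change Ideal.Quotient.mk _ (inclS B' 𝔫 Y N z) = Ideal.Quotient.mk _ _
          rw [Ideal.Quotient.eq, mem_preI]
          refine ⟨?_, ?_⟩
          · change (0 : B') - 0 = 0
            rw [sub_zero]
          · change Y.incl z - y ∈ _
            rw [hz, sub_sub_cancel_left]
            exact neg_mem hi
        · rintro ⟨z, hz⟩
          have := congrArg (projX B' 𝔫 Y N) hz
          rw [projX_mk] at this
          rw [← this]
          rfl
      mul_incl := by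
        intro x z
        obtain ⟨s, rfl⟩ := Ideal.Quotient.mk_surjective x
        rw [projX_mk]
        change Ideal.Quotient.mk _ s * Ideal.Quotient.mk _ (inclS B' 𝔫 Y N z) =
          Ideal.Quotient.mk _ (inclS B' 𝔫 Y N (s.1.2 • z))
        rw [← map_mul]
        congr 1
        apply Subtype.ext
        apply Prod.ext
        · change s.1.1 * Y.incl z = Y.incl (s.1.2 • z)
          rw [Y.isExtension.mul_incl]
          congr 1
          have h1 := smul_eq_zero_of_mem_map hc N hN _ s.2 z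
          rw [sub_smul, sub_eq_zero, algebraMap_smul] at h1
          exact h1.symm
        · change s.1.2 * 0 = 0
          rw [mul_zero] }

variable (𝔫) (B') in
/-- `y ↦ (y, φ(π y))` -/
noncomputable def toS (Y : Ext A B L) (N : ℕ) : Y.E →ₐ[A] preS B' 𝔫 Y N :=
  AlgHom.codRestrict ((AlgHom.id A Y.E).prod ((IsScalarTower.toAlgHom A B B').comp Y.proj))
    (preS B' 𝔫 Y N) (fun y => by
      rw [mem_preS]
      change algebraMap B B' (Y.proj y) - algebraMap B B' (Y.proj y) ∈ _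
      rw [sub_self]; exact Ideal.zero_mem _)

lemma toS_fst (Y : Ext A B L) (N : ℕ) (y : Y.E) : (toS B' 𝔫 Y N y).1.1 = y := rfl

lemma toS_snd (Y : Ext A B L) (N : ℕ) (y : Y.E) :
    (toS B' 𝔫 Y N y).1.2 = algebraMap B B' (Y.proj y) := rfl

/-- **Surjectivity** of pullback on classes. -/
theorem nonempty_pullback_extX_equiv (hc : Cmp (B' := B') (L := L) 𝔫) (Y : Ext A B L) (N : ℕ)
    (hN : 1 ≤ N) (hY : Sep Y 𝔫 N) : Nonempty (((extX hc Y N hN hY).pullback B).Equiv Y) := by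
  set Xc := extX hc Y N hN hY with hXc
  let toQ : Y.E →ₐ[A] Xc.E := (Ideal.Quotient.mkₐ A (preI B' 𝔫 Y N)).comp (toS B' 𝔫 Y N)
  have hproj : ∀ y, Xc.proj (toQ y) = algebraMap B B' (Y.proj y) := fun y => rfl
  let θ : Y.E →ₐ[A] (Xc.pullback B).E :=
    AlgHom.codRestrict (toQ.prod Y.proj) (Xc.fiberProd B) (fun y => by
      change _ ∈ AlgHom.equalizer _ _
      rw [AlgHom.mem_equalizer]
      exact hproj y)
  have hθ1 : ∀ y, fstP B Xc (θ y) = toQ y := fun y => rfl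
  have hθ2 : ∀ y, (Xc.pullback B).proj (θ y) = Y.proj y := fun y => rfl
  have hinj : Function.Injective θ := by
    rw [injective_iff_map_eq_zero]
    intro y hy
    have h1 : toQ y = 0 := by rw [← hθ1, hy, map_zero]
    have h2 : Y.proj y = 0 := by rw [← hθ2, hy, map_zero]
    change Ideal.Quotient.mk _ (toS B' 𝔫 Y N y) = 0 at h1
    rw [Ideal.Quotient.eq_zero_iff_mem, mem_preI, toS_fst] at h1
    exact hY.eq_zero y h1.2 h2
  have hsurj : Function.Surjective θ := by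
    intro w
    obtain ⟨s, hs⟩ := Ideal.Quotient.mk_surjective (fstP B Xc w)
    have h1 : s.1.2 = algebraMap B B' ((Xc.pullback B).proj w) := by
      rw [← proj_fstP, ← hs]
      rfl
    have h2 := s.2
    rw [mem_preS, h1, ← map_sub] at h2
    have h3 := hc.inj N _ h2
    obtain ⟨i, hi, hi'⟩ := exists_mem_pow_proj_eq Y 𝔫 N _ h3
    refine ⟨s.1.1 + i, ?_⟩
    apply pullback_ext
    · rw [hθ1, ← hs]
      change Ideal.Quotient.mk _ (toS B' 𝔫 Y N (s.1.1 + i)) = Ideal.Quotient.mk _ s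
      rw [Ideal.Quotient.eq, mem_preI]
      refine ⟨?_, ?_⟩
      · change algebraMap B B' (Y.proj (s.1.1 + i)) - s.1.2 = 0
        rw [map_add, hi', h1]
        simp
      · change s.1.1 + i - s.1.1 ∈ _
        rw [add_sub_cancel_left]
        exact hi
    · rw [hθ2, map_add, hi']
      ring
  let e : Y.E ≃ₐ[A] (Xc.pullback B).E := AlgEquiv.ofBijective θ ⟨hinj, hsurj⟩
  have hY' : Y.Equiv (Xc.pullback B) :=
    { toAlgEquiv := e
      proj_apply := fun y => hθ2 y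
      apply_incl := fun z => by
        change θ (Y.incl z) = (Xc.pullback B).incl z
        apply pullback_ext
        · rw [hθ1, fstP_incl]
          change Ideal.Quotient.mk _ (toS B' 𝔫 Y N (Y.incl z)) =
            Ideal.Quotient.mk _ (inclS B' 𝔫 Y N z)
          congr 1
          apply Subtype.ext
          apply Prod.ext
          · rfl
          · change algebraMap B B' (Y.proj (Y.incl z)) = 0
            rw [proj_incl, map_zero]
        · rw [hθ2, proj_incl, proj_incl] }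
  exact ⟨hY'.symm⟩

end Surj

end Compare

end Groth.Agent.Lib.Seat50.ExalCompl
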