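import Mathlib
import Groth.Prelude.Def_Exal2
import Groth.Agent.Lib.Helper7Exal

/-!
# Seat50: a uniform Artin–Rees bound for extensions of a Noetherian local ring by its residue field

* `exists_artinRees_vars`: for `x : Fin d → R` in a Noetherian ring there is `k` such that every polynomial `F ∈ (T)^(n+1)`
  (`n ≥ k`) with `F(x) = 0` is `∑ T_s G_s` with `G_s(x) = 0` (Artin–Rees for `ker (eval x)` and the ideal of variables);
* `eq_zero_of_mem_pow_of_proj_eq_zero`: in an extension `E` of `B` by a module killed by the `x_s`, with lifts `e_s` of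
  the `x_s`, the ideal `(e_s)^(n+1)` meets the kernel trivially for such `n`.
-/

set_option autoImplicit false
set_option linter.unusedSectionVars false
set_option linter.style.haveILetI false

open Exal MvPolynomial

universe u

namespace Groth.Agent.Lib.Seat50.ExalRees

open Groth.Agent.Lib.Helper7.ExalLib

section AR

variable {R : Type*} [CommRing R] [IsNoetherianRing R] {d : ℕ}

theorem exists_artinRees_vars (x : Fin d → R) :
    ∃ k : ℕ, ∀ n ≥ k, ∀ F : MvPolynomial (Fin d) R, F ∈ idealOfVars (Fin d) R ^ (n + 1) →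
      MvPolynomial.eval x F = 0 →
      ∃ G : Fin d → MvPolynomial (Fin d) R, (∀ s, MvPolynomial.eval x (G s) = 0) ∧
        F = ∑ s, X s * G s := by
  set T : Ideal (MvPolynomial (Fin d) R) := idealOfVars (Fin d) R with hT
  set Jk : Ideal (MvPolynomial (Fin d) R) := RingHom.ker (MvPolynomial.eval x) with hJk
  obtain ⟨k, hk⟩ := Ideal.exists_pow_inf_eq_pow_smul T (M := MvPolynomial (Fin d) R) Jk
  refine ⟨k, fun n hn F hF hF0 => ?_⟩
  have h1 : F ∈ (T ^ (n + 1) • ⊤ ⊓ Jk : Submodule _ (MvPolynomial (Fin d) R)) := by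
    refine ⟨?_, ?_⟩
    · rw [smul_eq_mul, Ideal.mul_top]
      exact hF
    · exact (RingHom.mem_ker).2 hF0
  rw [hk (n + 1) (by omega)] at h1
  have h2 : (T ^ (n + 1 - k) • (T ^ k • ⊤ ⊓ Jk) : Submodule _ (MvPolynomial (Fin d) R)) ≤
      Jk • T := by
    have e1 : n + 1 - k = (n - k) + 1 := by omega
    rw [e1, pow_succ, Submodule.mul_smul]
    refine le_trans Submodule.smul_le_right ?_
    have h3 : (T ^ k • ⊤ ⊓ Jk : Submodule _ (MvPolynomial (Fin d) R)) ≤ Jk := inf_le_right
    have h4 : T • (T ^ k • ⊤ ⊓ Jk : Submodule _ (MvPolynomial (Fin d) R)) ≤ T • Jk :=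
      Submodule.smul_mono le_rfl h3
    refine le_trans h4 ?_
    rw [smul_eq_mul, smul_eq_mul, mul_comm]
  have h5 := h2 h1
  rw [hT, idealOfVars, Ideal.span, Submodule.mem_ideal_smul_span_iff_exists_sum] at h5
  obtain ⟨a, ha, hsum⟩ := h5
  refine ⟨fun s => a s, fun s => (RingHom.mem_ker).1 (ha s), ?_⟩
  rw [← hsum, Finsupp.sum_fintype _ _ (fun i => by rw [zero_smul])]
  refine Finset.sum_congr rfl fun s _ => ?_
  rw [smul_eq_mul, mul_comm]

end AR

section Ext

variable {A : Type*} {B L : Type u} [CommRing A] [CommRing B] [Algebra A B] [AddCommGroup L]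
  [Module B L]

theorem eq_zero_of_mem_pow_of_proj_eq_zero (Y : Ext A B L) {d : ℕ} (x : Fin d → B)
    (hx : ∀ s (z : L), x s • z = 0) (e : Fin d → Y.E) (he : ∀ s, Y.proj (e s) = x s) (n : ℕ)
    (hn : ∀ F : MvPolynomial (Fin d) B, F ∈ idealOfVars (Fin d) B ^ (n + 1) →
      MvPolynomial.eval x F = 0 →
      ∃ G : Fin d → MvPolynomial (Fin d) B, (∀ s, MvPolynomial.eval x (G s) = 0) ∧
        F = ∑ s, X s * G s)
    (a : Y.E) (ha : a ∈ Ideal.span (Set.range e) ^ (n + 1)) (hpa : Y.proj a = 0) : a = 0 := by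
  classical
  set π : Y.E →+* B := (Y.proj : Y.E →+* B) with hπ
  have hπs : Function.Surjective π := Y.isExtension.proj_surjective
  -- the kernel is killed by the `e s`
  have hker : ∀ κ : Y.E, π κ = 0 → ∀ s, e s * κ = 0 := by
    intro κ hκ s
    obtain ⟨z, rfl⟩ := (Y.isExtension.exact κ).1 hκ
    rw [Y.isExtension.mul_incl, he, hx, map_zero]
  have hkerI : ∀ i ∈ Ideal.span (Set.range e), ∀ κ : Y.E, π κ = 0 → i * κ = 0 := by
    intro i hi κ hκ
    induction hi using Submodule.span_induction with
    | mem y hy =>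
      obtain ⟨s, rfl⟩ := hy
      exact hker κ hκ s
    | zero => rw [zero_mul]
    | add y y' _ _ h1 h2 => rw [add_mul, h1, h2, add_zero]
    | smul c y _ h1 => rw [smul_eq_mul, mul_assoc, h1, mul_zero]
  -- compatibility of evaluation
  have hcompat : ∀ G : MvPolynomial (Fin d) Y.E,
      π (MvPolynomial.eval e G) = MvPolynomial.eval x (MvPolynomial.map π G) := by
    intro G
    induction G using MvPolynomial.induction_on with
    | C c => simp
    | add p q hp hq => simp only [map_add, hp, hq]
    | mul_X p s hp =>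
      simp only [map_mul, hp, MvPolynomial.eval_X, MvPolynomial.map_X]
      rw [hπ]
      exact congrArg _ (he s)
  -- evaluation minus constant coefficient lies in the ideal of the `e s`
  have hA : ∀ G : MvPolynomial (Fin d) Y.E,
      MvPolynomial.eval e G - MvPolynomial.constantCoeff G ∈ Ideal.span (Set.range e) := by
    intro G
    induction G using MvPolynomial.induction_on with
    | C c => simp
    | add p q hp hq =>
      have : MvPolynomial.eval e (p + q) - MvPolynomial.constantCoeff (p + q) =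
          (MvPolynomial.eval e p - MvPolynomial.constantCoeff p) +
            (MvPolynomial.eval e q - MvPolynomial.constantCoeff q) := by
        simp only [map_add]; ring
      rw [this]
      exact Ideal.add_mem _ hp hq
    | mul_X p s hp =>
      simp only [map_mul, MvPolynomial.eval_X, MvPolynomial.constantCoeff_X, mul_zero, sub_zero]
      exact Ideal.mul_mem_left _ _ (Ideal.subset_span ⟨s, rfl⟩)
  -- on polynomials with coefficients in the kernel evaluation is the constant coefficient
  have hC : ∀ D ∈ Ideal.map (MvPolynomial.C : Y.E →+* MvPolynomial (Fin d) Y.E) (RingHom.ker π),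
      MvPolynomial.eval e D = MvPolynomial.constantCoeff D ∧ π (MvPolynomial.eval e D) = 0 := by
    intro D hD
    rw [Ideal.map] at hD
    induction hD using Submodule.span_induction with
    | mem y hy =>
      obtain ⟨κ, hκ, rfl⟩ := hy
      refine ⟨by simp, ?_⟩
      rw [MvPolynomial.eval_C]
      exact hκ
    | zero => simp
    | add y y' _ _ h1 h2 =>
      refine ⟨by rw [map_add, map_add, h1.1, h2.1], ?_⟩
      rw [map_add, map_add, h1.2, h2.2, add_zero]
    | smul c y _ h1 =>
      rw [smul_eq_mul]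
      refine ⟨?_, by rw [map_mul, map_mul, h1.2, mul_zero]⟩
      rw [map_mul, map_mul, ← h1.1, ← sub_eq_zero, ← sub_mul]
      exact hkerI _ (hA c) _ h1.2
  -- choose a polynomial representing `a`
  have hmapE : Ideal.map (MvPolynomial.eval e) (idealOfVars (Fin d) Y.E) =
      Ideal.span (Set.range e) := by
    have h0 : (⇑(MvPolynomial.eval e) ∘ (X : Fin d → MvPolynomial (Fin d) Y.E)) = e := by
      funext s
      simp
    rw [idealOfVars, Ideal.map_span, ← Set.range_comp, h0]
  have hsurjE : Function.Surjective (MvPolynomial.eval e) := fun b => ⟨C b, MvPolynomial.eval_C b⟩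
  rw [← hmapE, ← Ideal.map_pow] at ha
  obtain ⟨Ft, hFt, rfl⟩ := (Ideal.mem_map_iff_of_surjective _ hsurjE).1 ha
  -- its image over `B`
  have hmapB : Ideal.map (MvPolynomial.map π) (idealOfVars (Fin d) Y.E) = idealOfVars (Fin d) B := by
    have h0 : (⇑(MvPolynomial.map π) ∘ (X : Fin d → MvPolynomial (Fin d) Y.E)) =
        (X : Fin d → MvPolynomial (Fin d) B) := by
      funext s
      simp
    rw [idealOfVars, Ideal.map_span, ← Set.range_comp, h0]
  have hF : MvPolynomial.map π Ft ∈ idealOfVars (Fin d) B ^ (n + 1) := by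
    rw [← hmapB, ← Ideal.map_pow]
    exact Ideal.mem_map_of_mem _ hFt
  have hF0 : MvPolynomial.eval x (MvPolynomial.map π Ft) = 0 := by
    rw [← hcompat]
    exact hpa
  obtain ⟨G, hG0, hGsum⟩ := hn _ hF hF0
  choose Gt hGt using fun s => MvPolynomial.map_surjective π hπs (G s)
  set D : MvPolynomial (Fin d) Y.E := Ft - ∑ s, X s * Gt s with hD
  have hDker : D ∈ Ideal.map (MvPolynomial.C : Y.E →+* MvPolynomial (Fin d) Y.E) (RingHom.ker π) := by
    rw [← MvPolynomial.ker_map, RingHom.mem_ker, hD, map_sub, map_sum, hGsum, sub_eq_zero]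
    refine Finset.sum_congr rfl fun s _ => ?_
    rw [map_mul, MvPolynomial.map_X, hGt]
  have hcc : MvPolynomial.constantCoeff D = 0 := by
    have h1 : idealOfVars (Fin d) Y.E ≤ RingHom.ker (MvPolynomial.constantCoeff (R := Y.E)) := by
      rw [idealOfVars, Ideal.span_le]
      rintro _ ⟨s, rfl⟩
      exact (RingHom.mem_ker).2 (MvPolynomial.constantCoeff_X (R := Y.E) s)
    have h2 : MvPolynomial.constantCoeff Ft = 0 :=
      (RingHom.mem_ker).1 (h1 (Ideal.pow_le_self (Nat.succ_ne_zero n) hFt))
    rw [hD, map_sub, h2, map_sum, zero_sub, neg_eq_zero]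
    refine Finset.sum_eq_zero fun s _ => ?_
    rw [map_mul, MvPolynomial.constantCoeff_X, zero_mul]
  have hD0 : MvPolynomial.eval e D = 0 := by rw [(hC D hDker).1, hcc]
  have hFt' : Ft = D + ∑ s, X s * Gt s := by rw [hD]; ring
  rw [hFt', map_add, hD0, zero_add, map_sum]
  refine Finset.sum_eq_zero fun s _ => ?_
  rw [map_mul, MvPolynomial.eval_X]
  refine hker _ ?_ s
  rw [hcompat, hGt, hG0]

end Ext

end Groth.Agent.Lib.Seat50.ExalRees
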