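import Mathlib

/-!
# Maps to a flat module that are bijective modulo a nilpotent ideal are bijective
-/

namespace Groth.Agent.Lib.Seat50.FlatNilp

open TensorProduct

variable {A : Type*} [CommRing A] (I : Ideal A)

/-- Nakayama for a nilpotent ideal (no finiteness). -/
theorem eq_top_of_sup_smul_top_eq_top (hI : IsNilpotent I) {N : Type*} [AddCommGroup N]
    [Module A N] (N' : Submodule A N) (h : N' ⊔ I • (⊤ : Submodule A N) = ⊤) : N' = ⊤ := by
  have key : ∀ j : ℕ, N' ⊔ I ^ j • (⊤ : Submodule A N) = ⊤ := by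
    intro j
    induction j with
    | zero => simp
    | succ j ih =>
      rw [eq_top_iff]
      calc (⊤ : Submodule A N) = N' ⊔ I ^ j • (⊤ : Submodule A N) := ih.symm
        _ = N' ⊔ I ^ j • (N' ⊔ I • (⊤ : Submodule A N)) := by rw [h]
        _ = N' ⊔ (I ^ j • N' ⊔ I ^ j • (I • (⊤ : Submodule A N))) := by rw [Submodule.smul_sup]
        _ ≤ N' ⊔ I ^ (j + 1) • (⊤ : Submodule A N) := by
          rw [← mul_smul, ← pow_succ]
          refine sup_le le_sup_left (sup_le ?_ le_sup_right)
          exact le_trans Submodule.smul_le_right le_sup_left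
  obtain ⟨n, hn⟩ := hI
  have := key n
  rw [hn] at this
  simpa using this

theorem bijective_of_flat_of_nilpotent (hI : IsNilpotent I)
    {M N : Type*} [AddCommGroup M] [Module A M] [AddCommGroup N] [Module A N] [Module.Flat A N]
    (φ : M →ₗ[A] N)
    (hsurj : LinearMap.range φ ⊔ I • (⊤ : Submodule A N) = ⊤)
    (hinj : Submodule.comap φ (I • (⊤ : Submodule A N)) ≤ I • (⊤ : Submodule A M)) :
    Function.Bijective φ := by
  have hs : Function.Surjective φ := by
    rw [← LinearMap.range_eq_top]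
    exact eq_top_of_sup_smul_top_eq_top I hI _ hsurj
  refine ⟨?_, hs⟩
  rw [← LinearMap.ker_eq_bot]
  set K := LinearMap.ker φ with hK
  have hinjT : Function.Injective (K.subtype.lTensor (A ⧸ I)) :=
    LinearMap.lTensor_injective_of_exact_of_flat φ hs K.subtype K.subtype_injective
      (LinearMap.exact_subtype_ker_map φ) (A ⧸ I)
  have hKtop : (⊥ : Submodule A K) ⊔ I • (⊤ : Submodule A K) = ⊤ := by
    rw [bot_sup_eq, eq_top_iff]
    intro x _
    have hxM : (x : M) ∈ I • (⊤ : Submodule A M) := by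
      apply hinj
      rw [Submodule.mem_comap]
      have : φ (x : M) = 0 := x.2
      rw [this]
      exact Submodule.zero_mem _
    have h1 : K.subtype.lTensor (A ⧸ I) ((1 : A ⧸ I) ⊗ₜ[A] x) = 0 := by
      rw [LinearMap.lTensor_tmul]
      apply (TensorProduct.quotTensorEquivQuotSMul M I).injective
      rw [map_zero, TensorProduct.quotTensorEquivQuotSMul_mk_one_tmul]
      exact (Submodule.Quotient.mk_eq_zero _).mpr hxM
    have h2 : ((1 : A ⧸ I) ⊗ₜ[A] x : (A ⧸ I) ⊗[A] K) = 0 := hinjT (by rw [h1, map_zero])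
    have h3 := congrArg (TensorProduct.quotTensorEquivQuotSMul K I) h2
    rw [map_zero, TensorProduct.quotTensorEquivQuotSMul_mk_one_tmul] at h3
    exact (Submodule.Quotient.mk_eq_zero _).mp h3
  have hbt : (⊥ : Submodule A K) = ⊤ := eq_top_of_sup_smul_top_eq_top I hI _ hKtop
  rw [eq_bot_iff]
  intro x hx
  have : (⟨x, hx⟩ : K) ∈ (⊥ : Submodule A K) := by rw [hbt]; trivial
  rw [Submodule.mem_bot] at this
  rw [Submodule.mem_bot]
  exact congrArg Subtype.val this

end Groth.Agent.Lib.Seat50.FlatNilp
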