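import Mathlib
import Groth.Prelude.Def_CAlgX
import Groth.Prelude.Def_W4bk4grassmannianPl
import Groth.Agent.Lib.Seat50SFT
import Groth.Agent.Lib.Seat50CellBridge

/-!
# The First Fundamental Theorem for `GL_n` acting on pairs of matrices
-/

namespace Groth.Agent.Lib.Seat50.GLFFT

open W4bk4grassmannian MvPolynomial Matrix Groth.Agent.Lib.Seat50.SFT Groth.Agent.Lib.Seat50.CellBridge

universe u

section Div

variable (K : Type u) [Field K] [Infinite K] (d r n : ℕ)

omit [Infinite K] in
/-- If the bottom block of `M` vanishes in the first `d - n` columns, the bottom block of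
`M · adj(M_ι)` is a product of an `r × n` and an `n × d` matrix. -/
theorem QQ_eq_prod (hr : 0 < r) (hnd : n + 1 ≤ d) (M : Matrix (Fin (d + r)) (Fin d) K)
    (hM0 : ∀ (i : Fin r) (c : Fin d), c.val + (n + 1) ≤ d → M (Fin.natAdd d i) c = 0) :
    ∃ (u : Fin r × Fin n → K) (w : Fin n × Fin d → K),
      QQ K d r hr M = fun p => ∑ k : Fin n, u (p.1, k) * w (k, p.2) := by
  set T := M.submatrix (io d r hr).1 id with hTdef
  let e : Fin n → Fin d := fun k => ⟨d - n + k.val, by have := k.isLt; omega⟩
  have he : Function.Injective e := by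
    intro a b hab
    have := congrArg Fin.val hab
    simp only [e] at this
    exact Fin.ext (by omega)
  refine ⟨fun p' : Fin r × Fin n => M (Fin.natAdd d p'.1) (e p'.2),
    fun p' : Fin n × Fin d => Matrix.adjugate T (e p'.1) p'.2, ?_⟩
  funext p
  rw [QQ, Matrix.mul_apply]
  symm
  apply Fintype.sum_of_injective e he
  · intro c hc
    rw [hM0 _ _ ?_, zero_mul]
    by_contra hcon
    apply hc
    exact ⟨⟨c.val - (d - n), by have := c.isLt; omega⟩, Fin.ext (by simp only [e]; omega)⟩
  · intro k
    rfl

omit [Infinite K] in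
theorem pattern_zero (hnd : n + 1 ≤ d) (hnr : n + 1 ≤ r) (φ' : Idx d (d + r))
    (hφ' : φ' ≤ phi d r n hnd hnr) (y : StdIndep.Var d (d + r) → K) (i : Fin r) (c : Fin d)
    (hc : c.val + (n + 1) ≤ d) :
    ((StdIndep2.YP K (SchubertPrime.PSch φ')).map (eval y)) (Fin.natAdd d i) c = 0 := by
  simp only [Matrix.map_apply, StdIndep2.YP, Matrix.of_apply]
  rw [if_neg, map_zero]
  intro hP
  have h1 : (Fin.natAdd d i).val ≤ (φ'.1 c).val := hP
  have h2 : (φ'.1 c).val ≤ ((phi d r n hnd hnr).1 c).val := hφ' c
  rw [phi_val_of_le d r n hnd hnr c hc] at h2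
  rw [Fin.val_natAdd] at h1
  omega

/-- The divisibility lemma: if `π(y₀)` divides `π(g)` in the pair ring, it already does so in the image. -/
theorem exists_of_dvd (hn : 0 < n) (hnd : n + 1 ≤ d) (hnr : n + 1 ≤ r)
    (y₀ c₁ c₂ : CellRing K d r)
    (h₁ : y₀ = c₁ * cellMinor K d r (phi d r n hnd hnr))
    (h₂ : cellMinor K d r (phi d r n hnd hnr) = c₂ * y₀)
    (g : CellRing K d r) (hdvd : pairingMap K n r d y₀ ∣ pairingMap K n r d g) :
    ∃ g' : CellRing K d r, pairingMap K n r d g = pairingMap K n r d y₀ * pairingMap K n r d g' := by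
  have hd : 0 < d := by omega
  have hr : 0 < r := by omega
  obtain ⟨h, hh⟩ := hdvd
  set φ := phi d r n hnd hnr with hφdef
  have hlt : io d r hr < φ := by
    apply lt_of_le_of_ne (SchubertPrime.iota_le _ φ)
    intro heq
    have h1 := congrArg (fun θ : Idx d (d + r) => (θ.1 ⟨0, hd⟩).val) heq
    simp only [SchubertPrime.iota] at h1
    rw [hφdef, phi_val_of_le d r n hnd hnr ⟨0, hd⟩ (by simp only; omega)] at h1
    simp only at h1
    omega
  have key : Theta K d r hr g ∈ schubertVanishing K d (d + r) φ ⊔ Ideal.span {X φ} := by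
    rw [StdMon.schubert_sup_X K hd φ ⟨_, hlt⟩, Ideal.mem_iInf]
    intro φ'
    rw [Ideal.mem_iInf]
    intro hφ'
    have hφ'lt : φ' < φ := hφ'.1
    have hprime := SchubertPrime.schubert_isPrime K hd φ'
    have hmul : X (io d r hr) * Theta K d r hr g ∈ schubertVanishing K d (d + r) φ' := by
      rw [SchubertPrime.schubert_eq_ker K hd φ', RingHom.mem_ker]
      show StdIndep2.evP K (SchubertPrime.PSch φ') (X (io d r hr) * Theta K d r hr g) = 0
      apply MvPolynomial.funext
      intro y
      rw [StdIndep2.eval_evP, map_zero, map_mul]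
      set M := (StdIndep2.YP K (SchubertPrime.PSch φ')).map (eval y) with hMdef
      have hι : evalMinors K d (d + r) M (X (io d r hr)) = (M.submatrix (io d r hr).1 id).det := by
        rw [evalMinors, aeval_X]
      rw [hι]
      by_cases hδ : (M.submatrix (io d r hr).1 id).det = 0
      · rw [hδ, zero_mul]
      · have hφX : (M.submatrix φ.1 id).det = 0 := by
          have h3 : X φ ∈ schubertVanishing K d (d + r) φ' :=
            StdMon.X_mem_schubert K φ' φ (not_le_of_gt hφ'lt)
          rw [SchubertPrime.schubert_eq_ker K hd φ', RingHom.mem_ker] at h3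
          have h4 : StdIndep2.evP K (SchubertPrime.PSch φ') (X φ) = 0 := h3
          have h5 := congrArg (eval y) h4
          rw [StdIndep2.eval_evP, map_zero, evalMinors, aeval_X] at h5
          exact h5
        have hsc := scaling K d r hr M φ.1
        rw [hφX, zero_mul, prod_sc] at hsc
        have hcell : ((cellK K d r (QQ K d r hr M)).submatrix φ.1 id).det = 0 := by
          rcases mul_eq_zero.mp hsc with h6 | h6
          · exact absurd h6 (pow_ne_zero _ hδ)
          · exact h6
        obtain ⟨u, w, hQ⟩ := QQ_eq_prod K d r n hr hnd M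
          (fun i c hc => pattern_zero K d r n hnd hnr φ' (le_of_lt hφ'lt) y i c hc)
        have hT : evalMinors K d (d + r) M (Theta K d r hr g) = eval (QQ K d r hr M) g :=
          evalMinors_Theta K d r hr M g
        rw [hT]
        have h7 : eval (QQ K d r hr M) g = eval (QQ K d r hr M) y₀ * eval (Sum.elim u w) h := by
          rw [hQ, ← eval_pairingMap, hh, map_mul, eval_pairingMap]
        have h8 : eval (QQ K d r hr M) y₀ = 0 := by
          rw [h₁, map_mul]
          have h9 : eval (QQ K d r hr M) (cellMinor K d r φ) =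
              ((cellK K d r (QQ K d r hr M)).submatrix φ.1 id).det := by
            rw [← Phi_X, eval_Phi, evalMinors, aeval_X]
          rw [h9, hcell, mul_zero]
        rw [h7, h8, zero_mul, mul_zero]
    exact (hprime.mem_or_mem hmul).resolve_left
      (SchubertPrime.X_notMem_schubert K hd φ' _ (SchubertPrime.iota_le _ φ'))
  obtain ⟨j, hj, c, hc, hjc⟩ := Submodule.mem_sup.mp key
  obtain ⟨c', rfl⟩ := Ideal.mem_span_singleton'.mp hc
  have h3 := congrArg (Phi K d r) hjc
  rw [Phi_Theta, map_add, map_mul, Phi_X] at h3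
  have h4 : Phi K d r j ∈ CAlgX.minorIdeal (genMatrix K r d) (n + 1) :=
    schubert_le_comap K d r n hnd hnr hj
  rw [← sft K r n d] at h4
  have h5 : pairingMap K n r d (Phi K d r j) = 0 := h4
  refine ⟨Phi K d r c' * c₂, ?_⟩
  rw [← h3, map_add, h5, zero_add, map_mul, h₂, map_mul, map_mul]
  ring

omit [Infinite K] in
/-- The Plücker coordinate of `φ` on the cell is, up to a unit, an explicit `n`-minor of the generic matrix. -/
theorem exists_minor (hnd : n + 1 ≤ d) (hnr : n + 1 ≤ r) :
    ∃ (ρ : Fin n → Fin r) (γ : Fin n → Fin d), Function.Injective ρ ∧ Function.Injective γ ∧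
      ∀ I : Ideal (CellRing K d r), cellMinor K d r (phi d r n hnd hnr) ∈ I ↔
        ((genMatrix K r d).submatrix ρ γ).det ∈ I := by
  set φ := phi d r n hnd hnr with hφdef
  obtain ⟨g', hg'inj, -, hI⟩ := CellMinor.exists_cols K φ.1 φ.2.injective
  have hbot : ∀ j : Fin d, ¬ (φ.1 j).val < d ↔ d - n ≤ j.val := by
    intro j
    by_cases hj : j.val + (n + 1) ≤ d
    · rw [hφdef, phi_val_of_le d r n hnd hnr j hj]
      omega
    · rw [hφdef, phi_val_of_not_le d r n hnd hnr j hj]
      omega
  let e : CellMinor.Bot φ.1 ≃ Fin n :=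
    { toFun := fun b => ⟨b.1.val - (d - n), by
        have h1 := (hbot b.1).mp b.2
        have h2 := b.1.isLt
        omega⟩
      invFun := fun k => ⟨⟨d - n + k.val, by have := k.isLt; omega⟩, (hbot _).mpr (by simp only; omega)⟩
      left_inv := fun b => by
        have h1 := (hbot b.1).mp b.2
        apply Subtype.ext
        apply Fin.ext
        simp only
        omega
      right_inv := fun k => by
        apply Fin.ext
        simp only
        omega }
  refine ⟨CellMinor.row φ.1 ∘ e.symm, g' ∘ e.symm,
    (CellMinor.row_injective φ.1 φ.2.injective).comp e.symm.injective,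
    hg'inj.comp e.symm.injective, ?_⟩
  intro I
  rw [cellMinor, hI]
  have h : (genMatrix K r d).submatrix (CellMinor.row φ.1 ∘ e.symm) (g' ∘ e.symm) =
      ((genMatrix K r d).submatrix (CellMinor.row φ.1) g').submatrix e.symm e.symm := rfl
  rw [h, Matrix.det_submatrix_equiv_self]

end Div

section Clearing

variable (K : Type u) [Field K] (n m q : ℕ)

/-- Evaluation of a translate at a pair of matrices. -/
theorem eval_glTranslate (A : GL (Fin n) K) (u : Fin m × Fin n → K) (w : Fin n × Fin q → K)
    (f : PairRing K n m q) :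
    eval (Sum.elim u w) (glTranslate K n m q A f) =
      eval (Sum.elim
        (fun p : Fin m × Fin n => ∑ k, u (p.1, k) * ((A⁻¹ : GL (Fin n) K) : Matrix (Fin n) (Fin n) K) k p.2)
        (fun p : Fin n × Fin q => ∑ k, (A : Matrix (Fin n) (Fin n) K) p.1 k * w (k, p.2))) f := by
  have h : (aeval (Sum.elim u w) : PairRing K n m q →ₐ[K] K).comp (glTranslate K n m q A) =
      aeval (Sum.elim
        (fun p : Fin m × Fin n => ∑ k, u (p.1, k) * ((A⁻¹ : GL (Fin n) K) : Matrix (Fin n) (Fin n) K) k p.2)
        (fun p : Fin n × Fin q => ∑ k, (A : Matrix (Fin n) (Fin n) K) p.1 k * w (k, p.2))) := by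
    apply MvPolynomial.algHom_ext
    rintro (p | p)
    · simp [glTranslate]
    · simp [glTranslate]
  have := congrArg (fun g => g f) h
  simpa using this

variable (ρ : Fin n → Fin m) (γ : Fin n → Fin q)

/-- The chosen `n`-minor of the generic matrix. -/
noncomputable def y0 : MvPolynomial (Fin m × Fin q) K := ((genMatrix K m q).submatrix ρ γ).det

/-- The substitution `u ↦ (Y_{·γ} adj(Y_{ργ})) · s`, `ξ ↦ Y_{ρ·}`. -/
noncomputable def Gam : PairRing K n m q →ₐ[K] Polynomial (MvPolynomial (Fin m × Fin q) K) :=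
  aeval (Sum.elim
    (fun p : Fin m × Fin n => Polynomial.C
      (((genMatrix K m q).submatrix id γ * Matrix.adjugate ((genMatrix K m q).submatrix ρ γ)) p.1 p.2) *
        Polynomial.X)
    (fun p : Fin n × Fin q => Polynomial.C (genMatrix K m q (ρ p.1) p.2)))

theorem map_genMatrix_eval (Y₀ : Fin m × Fin q → K) :
    (genMatrix K m q).map (eval Y₀) = Matrix.of fun i j => Y₀ (i, j) := by
  ext i j
  simp [genMatrix]

theorem ev_Gam (Y₀ : Fin m × Fin q → K) (s : K) (f : PairRing K n m q) :
    Polynomial.eval s ((Gam K n m q ρ γ f).map (eval Y₀)) =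
      eval (Sum.elim
        (fun p : Fin m × Fin n => (((Matrix.of fun i j => Y₀ (i, j)).submatrix id γ *
          Matrix.adjugate ((Matrix.of fun i j => Y₀ (i, j)).submatrix ρ γ)) p.1 p.2) * s)
        (fun p : Fin n × Fin q => Y₀ (ρ p.1, p.2))) f := by
  have h : (Polynomial.aeval s : Polynomial K →ₐ[K] K).comp
      ((Polynomial.mapAlgHom (aeval Y₀ : MvPolynomial (Fin m × Fin q) K →ₐ[K] K)).comp (Gam K n m q ρ γ)) =
      aeval (Sum.elim
        (fun p : Fin m × Fin n => (((Matrix.of fun i j => Y₀ (i, j)).submatrix id γ *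
          Matrix.adjugate ((Matrix.of fun i j => Y₀ (i, j)).submatrix ρ γ)) p.1 p.2) * s)
        (fun p : Fin n × Fin q => Y₀ (ρ p.1, p.2))) := by
    apply MvPolynomial.algHom_ext
    rintro (p | p)
    · rw [AlgHom.comp_apply, AlgHom.comp_apply, Gam, aeval_X, aeval_X, Sum.elim_inl, Sum.elim_inl,
        Polynomial.coe_mapAlgHom, Polynomial.coe_aeval_eq_eval, Polynomial.map_mul, Polynomial.map_C,
        Polynomial.map_X, Polynomial.eval_mul, Polynomial.eval_C, Polynomial.eval_X]
      congr 1
      have h1 : ((aeval Y₀ : MvPolynomial (Fin m × Fin q) K →ₐ[K] K) : MvPolynomial (Fin m × Fin q) K →+* K) =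
          eval Y₀ := by
        ext <;> simp
      rw [h1, ← map_genMatrix_eval K m q Y₀]
      have h2 : ((genMatrix K m q).map (eval Y₀)).submatrix id γ *
          Matrix.adjugate (((genMatrix K m q).map (eval Y₀)).submatrix ρ γ) =
          ((genMatrix K m q).submatrix id γ * Matrix.adjugate ((genMatrix K m q).submatrix ρ γ)).map (eval Y₀) := by
        rw [Matrix.map_mul, ← RingHom.mapMatrix_apply (eval Y₀) (Matrix.adjugate _),
          RingHom.map_adjugate]
        rfl
      rw [h2]
      rfl
    · rw [AlgHom.comp_apply, AlgHom.comp_apply, Gam, aeval_X, aeval_X, Sum.elim_inr, Sum.elim_inr,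
        Polynomial.coe_mapAlgHom, Polynomial.coe_aeval_eq_eval, Polynomial.map_C, Polynomial.eval_C]
      simp [genMatrix]
  have := congrArg (fun g => g f) h
  simpa using this

/-- Clearing denominators: an invariant times a power of `π(y₀)` lies in the image of the pairing map. -/
theorem exists_pow_mul_eq [Infinite K] (f : PairRing K n m q)
    (hf : ∀ A : GL (Fin n) K, glTranslate K n m q A f = f)
    (hne : pairingMap K n m q (y0 K n m q ρ γ) ≠ 0) :
    ∃ (N : ℕ) (g : MvPolynomial (Fin m × Fin q) K),
      pairingMap K n m q (y0 K n m q ρ γ) ^ N * f = pairingMap K n m q g := by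
  classical
  set P := Gam K n m q ρ γ f with hP
  set D := P.natDegree with hD
  set g : MvPolynomial (Fin m × Fin q) K :=
    ∑ k ∈ Finset.range (D + 1), P.coeff k * y0 K n m q ρ γ ^ (D - k) with hg
  refine ⟨D, g, ?_⟩
  have hmain : pairingMap K n m q (y0 K n m q ρ γ) *
      (pairingMap K n m q (y0 K n m q ρ γ) ^ D * f - pairingMap K n m q g) = 0 := by
    apply MvPolynomial.funext
    intro x
    obtain ⟨u, w, rfl⟩ : ∃ u w, x = Sum.elim u w :=
      ⟨fun p => x (Sum.inl p), fun p => x (Sum.inr p), by ext (p | p) <;> rfl⟩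
    rw [map_zero, map_mul, map_sub, map_mul, map_pow]
    set Y₀ : Fin m × Fin q → K := fun p => ∑ k : Fin n, u (p.1, k) * w (k, p.2) with hY₀
    have hπ : ∀ h, eval (Sum.elim u w) (pairingMap K n m q h) = eval Y₀ h :=
      fun h => eval_pairingMap K n m q u w h
    rw [hπ, hπ]
    set U : Matrix (Fin m) (Fin n) K := Matrix.of fun i k => u (i, k) with hU
    set W : Matrix (Fin n) (Fin q) K := Matrix.of fun k j => w (k, j) with hW
    have hY₀mat : (Matrix.of fun i j => Y₀ (i, j)) = U * W := by
      ext i j
      simp [hY₀, hU, hW, Matrix.mul_apply]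
    set Uρ := U.submatrix ρ id with hUρ
    set Wγ := W.submatrix id γ with hWγ
    have hsq : (U * W).submatrix ρ γ = Uρ * Wγ := by
      ext i j
      simp [hUρ, hWγ, Matrix.mul_apply]
    have hcol : (U * W).submatrix id γ = U * Wγ := by
      ext i j
      simp [hWγ, Matrix.mul_apply]
    set δ := eval Y₀ (y0 K n m q ρ γ) with hδdef
    have hδ : δ = Uρ.det * Wγ.det := by
      rw [hδdef, y0, RingHom.map_det, ← Matrix.det_mul, ← hsq, ← hY₀mat, ← map_genMatrix_eval K m q Y₀]
      rfl
    by_cases h0 : δ = 0
    · rw [h0, zero_mul]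
    · have hUne : Uρ.det ≠ 0 := fun h => h0 (by rw [hδ, h, zero_mul])
      have hWne : Wγ.det ≠ 0 := fun h => h0 (by rw [hδ, h, mul_zero])
      set A := Matrix.GeneralLinearGroup.mkOfDetNeZero Uρ hUne with hA
      have e1 := eval_glTranslate K n m q A u w f
      rw [hf A] at e1
      have e2 := ev_Gam K n m q ρ γ Y₀ δ⁻¹ f
      have hAinv : ((A⁻¹ : GL (Fin n) K) : Matrix (Fin n) (Fin n) K) = Uρ.det⁻¹ • Matrix.adjugate Uρ := by
        rw [Matrix.coe_units_inv, Matrix.inv_def, Ring.inverse_eq_inv']
        rfl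
      have hfun : Sum.elim
          (fun p : Fin m × Fin n => ∑ k, u (p.1, k) * ((A⁻¹ : GL (Fin n) K) : Matrix (Fin n) (Fin n) K) k p.2)
          (fun p : Fin n × Fin q => ∑ k, (A : Matrix (Fin n) (Fin n) K) p.1 k * w (k, p.2)) =
          Sum.elim
          (fun p : Fin m × Fin n => (((Matrix.of fun i j => Y₀ (i, j)).submatrix id γ *
            Matrix.adjugate ((Matrix.of fun i j => Y₀ (i, j)).submatrix ρ γ)) p.1 p.2) * δ⁻¹)
          (fun p : Fin n × Fin q => Y₀ (ρ p.1, p.2)) := by
        funext x
        rcases x with p | p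
        · simp only [Sum.elim_inl]
          rw [hY₀mat, hsq, hcol, Matrix.adjugate_mul_distrib, hAinv]
          have h1 : U * Wγ * (Matrix.adjugate Wγ * Matrix.adjugate Uρ) =
              Wγ.det • (U * Matrix.adjugate Uρ) := by
            rw [Matrix.mul_assoc, ← Matrix.mul_assoc Wγ, Matrix.mul_adjugate, Matrix.smul_mul,
              Matrix.one_mul, Matrix.mul_smul]
          rw [h1, Matrix.smul_apply, Matrix.mul_apply, smul_eq_mul, hδ, Finset.mul_sum, Finset.sum_mul]
          refine Finset.sum_congr rfl (fun k _ => ?_)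
          rw [Matrix.smul_apply, smul_eq_mul]
          have : U p.1 k = u (p.1, k) := rfl
          rw [this]
          field_simp
        · simp only [Sum.elim_inr]
          rfl
      rw [hfun] at e1
      rw [← e1] at e2
      have h2 : Polynomial.eval δ⁻¹ (P.map (eval Y₀)) =
          ∑ k ∈ Finset.range (D + 1), eval Y₀ (P.coeff k) * δ⁻¹ ^ k := by
        rw [Polynomial.eval_eq_sum_range' (n := D + 1)
          (lt_of_le_of_lt (Polynomial.natDegree_map_le) (Nat.lt_succ_self _))]
        refine Finset.sum_congr rfl (fun k _ => ?_)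
        rw [Polynomial.coeff_map]
      have h3 : eval Y₀ g = ∑ k ∈ Finset.range (D + 1), eval Y₀ (P.coeff k) * δ ^ (D - k) := by
        rw [hg, map_sum]
        refine Finset.sum_congr rfl (fun k _ => ?_)
        rw [map_mul, map_pow]
      have h4 : δ ^ D * eval (Sum.elim u w) f - eval Y₀ g = 0 := by
        rw [← e2, h2, h3, Finset.mul_sum, sub_eq_zero]
        refine Finset.sum_congr rfl (fun k hk => ?_)
        have hk' : k ≤ D := Nat.lt_succ_iff.mp (Finset.mem_range.mp hk)
        rw [inv_pow, pow_sub₀ _ h0 hk']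
        ring
      rw [h4, mul_zero]
  rcases mul_eq_zero.mp hmain with h | h
  · exact absurd h hne
  · exact sub_eq_zero.mp h

theorem pairingMap_y0_ne_zero (hρ : Function.Injective ρ) (hγ : Function.Injective γ) :
    pairingMap K n m q (y0 K n m q ρ γ) ≠ 0 := by
  intro h
  have h1 := congrArg (eval (Sum.elim (fun p : Fin m × Fin n => if p.1 = ρ p.2 then (1 : K) else 0)
    (fun p : Fin n × Fin q => if p.2 = γ p.1 then (1 : K) else 0))) h
  rw [eval_pairingMap, map_zero, y0, RingHom.map_det] at h1
  have h2 : (eval fun p : Fin m × Fin q => ∑ k : Fin n,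
      (fun p : Fin m × Fin n => if p.1 = ρ p.2 then (1 : K) else 0) (p.1, k) *
      (fun p : Fin n × Fin q => if p.2 = γ p.1 then (1 : K) else 0) (k, p.2)).mapMatrix
      ((genMatrix K m q).submatrix ρ γ) = 1 := by
    refine Matrix.ext (fun a b => ?_)
    simp only [RingHom.mapMatrix_apply, Matrix.map_apply, Matrix.submatrix_apply, genMatrix,
      Matrix.of_apply, eval_X, Matrix.one_apply]
    rw [Finset.sum_eq_single a]
    · rw [if_pos rfl, one_mul]
      by_cases hab : a = b
      · rw [if_pos hab, if_pos (by rw [hab])]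
      · rw [if_neg hab, if_neg (fun h => hab (hγ h).symm)]
    · intro k _ hk
      rw [if_neg (fun h => hk (hρ h).symm), zero_mul]
    · intro h'
      exact absurd (Finset.mem_univ _) h'
  rw [h2, Matrix.det_one] at h1
  exact one_ne_zero h1

end Clearing

section Main

variable (K : Type u) [Field K] [Infinite K] (d r n : ℕ)

/-- The First Fundamental Theorem in the range `n + 1 ≤ d, r` and `0 < n`. -/
theorem fft_main (hn : 0 < n) (hnd : n + 1 ≤ d) (hnr : n + 1 ≤ r) (f : PairRing K n r d)
    (hf : ∀ A : GL (Fin n) K, glTranslate K n r d A f = f) : f ∈ (pairingMap K n r d).range := by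
  obtain ⟨ρ, γ, hρ, hγ, hI⟩ := exists_minor K d r n hnd hnr
  have hne := pairingMap_y0_ne_zero K n r d ρ γ hρ hγ
  obtain ⟨c₁, hc₁⟩ := Ideal.mem_span_singleton'.mp
    ((hI (Ideal.span {cellMinor K d r (phi d r n hnd hnr)})).mp (Ideal.subset_span rfl))
  obtain ⟨c₂, hc₂⟩ := Ideal.mem_span_singleton'.mp
    ((hI (Ideal.span {((genMatrix K r d).submatrix ρ γ).det})).mpr (Ideal.subset_span rfl))
  obtain ⟨N, g, hN⟩ := exists_pow_mul_eq K n r d ρ γ f hf hne
  induction N generalizing g with
  | zero => exact ⟨g, by simpa using hN.symm⟩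
  | succ N ih =>
    have hdvd : pairingMap K n r d (y0 K n r d ρ γ) ∣ pairingMap K n r d g :=
      ⟨pairingMap K n r d (y0 K n r d ρ γ) ^ N * f, by rw [← hN]; ring⟩
    obtain ⟨g', hg'⟩ := exists_of_dvd K d r n hn hnd hnr (y0 K n r d ρ γ) c₁ c₂ hc₁.symm hc₂.symm g hdvd
    apply ih g'
    have h1 : pairingMap K n r d (y0 K n r d ρ γ) *
        (pairingMap K n r d (y0 K n r d ρ γ) ^ N * f - pairingMap K n r d g') = 0 := by
      rw [mul_sub, ← hg', ← hN]
      ring
    rcases mul_eq_zero.mp h1 with h | h
    · exact absurd h hne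
    · exact sub_eq_zero.mp h

end Main

section Easy

variable (K : Type u) [CommRing K] (n m q : ℕ)

/-- Polynomials in the entries of `U W` are invariant. -/
theorem glTranslate_pairingMap (A : GL (Fin n) K) (g : MvPolynomial (Fin m × Fin q) K) :
    glTranslate K n m q A (pairingMap K n m q g) = pairingMap K n m q g := by
  have h : (glTranslate K n m q A).comp (pairingMap K n m q) = pairingMap K n m q := by
    apply MvPolynomial.algHom_ext
    rintro ⟨i, j⟩
    have hπ : pairingMap K n m q (X (i, j)) = (UU K n m q * WW K n m q) i j := by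
      simp [pairingMap, UU, WW, Matrix.mul_apply]
    rw [AlgHom.comp_apply, hπ]
    have h1 : (UU K n m q).map (glTranslate K n m q A).toRingHom =
        UU K n m q * ((A⁻¹ : GL (Fin n) K) : Matrix (Fin n) (Fin n) K).map
          (C : K →+* PairRing K n m q) := by
      refine Matrix.ext (fun i k => ?_)
      simp [UU, glTranslate, Matrix.mul_apply]
    have h2 : (WW K n m q).map (glTranslate K n m q A).toRingHom =
        (A : Matrix (Fin n) (Fin n) K).map (C : K →+* PairRing K n m q) * WW K n m q := by
      refine Matrix.ext (fun k j => ?_)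
      simp [WW, glTranslate, Matrix.mul_apply]
    have h3 : glTranslate K n m q A ((UU K n m q * WW K n m q) i j) =
        ((UU K n m q * WW K n m q).map (glTranslate K n m q A).toRingHom) i j := rfl
    have h4 : ((A⁻¹ : GL (Fin n) K) : Matrix (Fin n) (Fin n) K).map (C : K →+* PairRing K n m q) *
        (A : Matrix (Fin n) (Fin n) K).map (C : K →+* PairRing K n m q) = 1 := by
      rw [← Matrix.map_mul, Units.inv_mul, Matrix.map_one _ (map_zero _) (map_one _)]
    rw [h3, Matrix.map_mul, h1, h2, Matrix.mul_assoc, ← Matrix.mul_assoc (Matrix.map _ _), h4,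
      Matrix.one_mul]
  exact congrArg (fun φ => φ g) h

/-- For `n = 0` the pair ring is `K`. -/
theorem mem_range_of_zero (f : PairRing K 0 m q) : f ∈ (pairingMap K 0 m q).range := by
  have : IsEmpty ((Fin m × Fin 0) ⊕ (Fin 0 × Fin q)) := by
    constructor
    rintro (p | p)
    · exact p.2.elim0
    · exact p.1.elim0
  obtain ⟨c, rfl⟩ := MvPolynomial.C_surjective _ f
  exact ⟨C c, by simp⟩

end Easy

section Padding

variable (K : Type u) [CommRing K] (n m q m' q' : ℕ) (hm : m ≤ m') (hq : q ≤ q')

/-- Inclusion of a smaller pair ring. -/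
noncomputable def inc : PairRing K n m q →ₐ[K] PairRing K n m' q' :=
  rename (Sum.map (Prod.map (Fin.castLE hm) id) (Prod.map id (Fin.castLE hq)))

/-- Restriction to a smaller pair ring (the extra variables go to zero). -/
noncomputable def res : PairRing K n m' q' →ₐ[K] PairRing K n m q :=
  aeval (Sum.elim
    (fun p : Fin m' × Fin n => if h : p.1.val < m then X (Sum.inl (⟨p.1.val, h⟩, p.2)) else 0)
    (fun p : Fin n × Fin q' => if h : p.2.val < q then X (Sum.inr (p.1, ⟨p.2.val, h⟩)) else 0))

/-- Restriction of the generic matrix. -/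
noncomputable def resY : MvPolynomial (Fin m' × Fin q') K →ₐ[K] MvPolynomial (Fin m × Fin q) K :=
  aeval (fun p : Fin m' × Fin q' =>
    if h : p.1.val < m ∧ p.2.val < q then X (⟨p.1.val, h.1⟩, ⟨p.2.val, h.2⟩) else 0)

theorem res_inc (f : PairRing K n m q) : res K n m q m' q' (inc K n m q m' q' hm hq f) = f := by
  have h : (res K n m q m' q').comp (inc K n m q m' q' hm hq) = AlgHom.id K _ := by
    apply MvPolynomial.algHom_ext
    rintro (p | p)
    · simp [inc, res]
    · simp [inc, res]
  exact congrArg (fun φ => φ f) h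

theorem inc_glTranslate (A : GL (Fin n) K) (f : PairRing K n m q) :
    inc K n m q m' q' hm hq (glTranslate K n m q A f) =
      glTranslate K n m' q' A (inc K n m q m' q' hm hq f) := by
  have h : (inc K n m q m' q' hm hq).comp (glTranslate K n m q A) =
      (glTranslate K n m' q' A).comp (inc K n m q m' q' hm hq) := by
    apply MvPolynomial.algHom_ext
    rintro (p | p)
    · simp [inc, glTranslate]
    · simp [inc, glTranslate]
  exact congrArg (fun φ => φ f) h

theorem res_pairingMap (g : MvPolynomial (Fin m' × Fin q') K) :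
    res K n m q m' q' (pairingMap K n m' q' g) = pairingMap K n m q (resY K m q m' q' g) := by
  have h : (res K n m q m' q').comp (pairingMap K n m' q') =
      (pairingMap K n m q).comp (resY K m q m' q') := by
    apply MvPolynomial.algHom_ext
    rintro ⟨i, j⟩
    simp only [AlgHom.comp_apply, pairingMap, resY, res, aeval_X, map_sum, map_mul, Sum.elim_inl,
      Sum.elim_inr]
    by_cases hi : i.val < m
    · by_cases hj : j.val < q
      · simp [hi, hj]
      · simp [hi, hj]
    · simp [hi]
  exact congrArg (fun φ => φ g) h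

include hm hq in
/-- The theorem for `(m', q')` implies the theorem for smaller `(m, q)`. -/
theorem padding
    (H : ∀ f' : PairRing K n m' q', (∀ A : GL (Fin n) K, glTranslate K n m' q' A f' = f') →
      f' ∈ (pairingMap K n m' q').range)
    (f : PairRing K n m q) (hf : ∀ A : GL (Fin n) K, glTranslate K n m q A f = f) :
    f ∈ (pairingMap K n m q).range := by
  obtain ⟨g', hg'⟩ := H (inc K n m q m' q' hm hq f) (fun A => by
    rw [← inc_glTranslate, hf A])
  have hg'' : pairingMap K n m' q' g' = inc K n m q m' q' hm hq f := hg'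
  refine ⟨resY K m q m' q' g', ?_⟩
  have h1 := res_pairingMap K n m q m' q' g'
  change pairingMap K n m q (resY K m q m' q' g') = f
  rw [← h1, hg'', res_inc]

end Padding

/-- **First Fundamental Theorem** for `GL_n` acting on pairs of matrices. -/
theorem glfft (K : Type u) [Field K] [Infinite K] (m n q : ℕ) (f : PairRing K n m q) :
    (∀ A : GL (Fin n) K, glTranslate K n m q A f = f) ↔ f ∈ (pairingMap K n m q).range := by
  constructor
  · intro hf
    rcases Nat.eq_zero_or_pos n with hn | hn
    · subst hn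
      exact mem_range_of_zero K m q f
    · exact padding K n m q (max m (n + 1)) (max q (n + 1)) (le_max_left _ _) (le_max_left _ _)
        (fun f' hf' => fft_main K (max q (n + 1)) (max m (n + 1)) n hn (le_max_right _ _)
          (le_max_right _ _) f' hf') f hf
  · rintro ⟨g, rfl⟩ A
    exact glTranslate_pairingMap K n m q A g

end Groth.Agent.Lib.Seat50.GLFFT
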