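import Mathlib

/-!
# A finite graded module with prescribed degree-zero localization (helper50)

`S` an `ℕ`-graded `R`-algebra, `f ∈ S_1`, `e : S_(f) ≃+* R'`, `M` a finite `R'`-module.  We build a finite graded
`S`-module `N = ⨁ₖ Nₖ`, `Nₖ = Σᵢ (Sₖ/fᵏ)·mᵢ ⊆ M`, with `N_(f) ≅ M`.
-/

set_option autoImplicit false
set_option linter.unusedSectionVars false
set_option linter.unusedVariables false

open DirectSum

namespace Groth.Agent.Lib.Seat50.GrAway

universe u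

variable {R R' : Type u} [CommRing R] [CommRing R'] [Algebra R R']
  {S : Type u} [CommRing S] [Algebra R S] (𝒜 : ℕ → Submodule R S) [GradedAlgebra 𝒜]
  {f : S} (hf : f ∈ 𝒜 1)

/-- `s / f^k` for `s ∈ S_k`. -/
noncomputable def frac (k : ℕ) (s : S) (hs : s ∈ 𝒜 k) : HomogeneousLocalization.Away 𝒜 f :=
  HomogeneousLocalization.Away.mk 𝒜 hf k s (by simpa using hs)

theorem val_frac (k : ℕ) (s : S) (hs : s ∈ 𝒜 k) :
    (frac 𝒜 hf k s hs).val = Localization.mk s (⟨f ^ k, k, rfl⟩ : Submonoid.powers f) := rfl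

theorem frac_congr {k k' : ℕ} (h : k = k') {s s' : S} (hs : s ∈ 𝒜 k) (hs' : s' ∈ 𝒜 k') (h' : s = s') :
    frac 𝒜 hf k s hs = frac 𝒜 hf k' s' hs' := by
  subst h; subst h'; rfl

theorem frac_mul {j k : ℕ} {a s : S} (ha : a ∈ 𝒜 j) (hs : s ∈ 𝒜 k) :
    frac 𝒜 hf j a ha * frac 𝒜 hf k s hs = frac 𝒜 hf (j + k) (a * s) (SetLike.mul_mem_graded ha hs) := by
  apply HomogeneousLocalization.val_injective
  rw [HomogeneousLocalization.val_mul, val_frac, val_frac, val_frac, Localization.mk_mul]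
  congr 1
  ext
  simp [pow_add]

theorem frac_add {k : ℕ} {s s' : S} (hs : s ∈ 𝒜 k) (hs' : s' ∈ 𝒜 k) :
    frac 𝒜 hf k s hs + frac 𝒜 hf k s' hs' = frac 𝒜 hf k (s + s') (add_mem hs hs') := by
  apply HomogeneousLocalization.val_injective
  rw [HomogeneousLocalization.val_add, val_frac, val_frac, val_frac, Localization.add_mk_self]

theorem frac_zero (k : ℕ) : frac 𝒜 hf k 0 (zero_mem _) = 0 := by
  apply HomogeneousLocalization.val_injective
  rw [val_frac, HomogeneousLocalization.val_zero, Localization.mk_zero]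

theorem frac_one : frac 𝒜 hf 0 1 (SetLike.GradedOne.one_mem) = 1 := by
  apply HomogeneousLocalization.val_injective
  rw [val_frac, HomogeneousLocalization.val_one]
  simp

theorem frac_f : frac 𝒜 hf 1 f hf = 1 := by
  apply HomogeneousLocalization.val_injective
  rw [val_frac, HomogeneousLocalization.val_one]
  have : (⟨f ^ 1, 1, rfl⟩ : Submonoid.powers f) = ⟨f, 1, pow_one f⟩ := by ext; simp
  rw [this]
  exact Localization.mk_self (⟨f, 1, pow_one f⟩ : Submonoid.powers f)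

variable (e : HomogeneousLocalization.Away 𝒜 f ≃+* R')
  (he : ∀ r : R, (e.symm (algebraMap R R' r)).val =
    algebraMap S (Localization.Away f) (algebraMap R S r))

include he in
theorem e_frac_algebraMap (r : R) :
    e (frac 𝒜 hf 0 (algebraMap R S r) (SetLike.algebraMap_mem_graded 𝒜 r)) = algebraMap R R' r := by
  apply e.symm.injective
  rw [RingEquiv.symm_apply_apply]
  apply HomogeneousLocalization.val_injective
  rw [he r, val_frac]
  have : (⟨f ^ 0, 0, rfl⟩ : Submonoid.powers f) = 1 := by ext; simp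
  rw [this, Localization.mk_one_eq_algebraMap]

/-- `s ↦ e (s / f^k)` on `S_k`. -/
noncomputable def θ (k : ℕ) : 𝒜 k →ₗ[R] R' where
  toFun s := e (frac 𝒜 hf k s s.2)
  map_add' s s' := by
    rw [← map_add, frac_add]
    rfl
  map_smul' r s := by
    have h1 : frac 𝒜 hf k ((r • s : 𝒜 k) : S) (r • s).2 =
        frac 𝒜 hf 0 (algebraMap R S r) (SetLike.algebraMap_mem_graded 𝒜 r) * frac 𝒜 hf k s s.2 := by
      rw [frac_mul]
      exact frac_congr 𝒜 hf (zero_add k).symm _ _ (by simp [Algebra.smul_def])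
    rw [h1, map_mul, e_frac_algebraMap 𝒜 hf e he, RingHom.id_apply, Algebra.smul_def]

theorem θ_apply (k : ℕ) (s : 𝒜 k) : θ 𝒜 hf e he k s = e (frac 𝒜 hf k s s.2) := rfl

/-- dehomogenization on the external direct sum. -/
noncomputable def ψ₀ : (⨁ i, 𝒜 i) →ₐ[R] R' :=
  DirectSum.toAlgebra R (fun i => 𝒜 i) (θ 𝒜 hf e he)
    (by
      change e (frac 𝒜 hf 0 1 _) = 1
      rw [frac_one, map_one])
    (by
      intro i j a b
      change e (frac 𝒜 hf (i + j) ((a : S) * (b : S)) _) = e _ * e _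
      rw [← map_mul, frac_mul])

theorem ψ₀_of (k : ℕ) (s : 𝒜 k) : ψ₀ 𝒜 hf e he (DirectSum.of (fun i => 𝒜 i) k s) = θ 𝒜 hf e he k s := by
  exact DirectSum.toAddMonoid_of (fun i => (θ 𝒜 hf e he i).toAddMonoidHom) k s

/-- dehomogenization `S → R'`, `s ↦ Σ e (s_k / f^k)`. -/
noncomputable def ψ : S →ₐ[R] R' :=
  (ψ₀ 𝒜 hf e he).comp (decomposeAlgEquiv 𝒜).toAlgHom

theorem ψ_of_mem {k : ℕ} {s : S} (hs : s ∈ 𝒜 k) : ψ 𝒜 hf e he s = e (frac 𝒜 hf k s hs) := by
  change ψ₀ 𝒜 hf e he (decompose 𝒜 s) = _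
  rw [decompose_of_mem 𝒜 hs, ψ₀_of]
  rfl

theorem ψ_f : ψ 𝒜 hf e he f = 1 := by
  rw [ψ_of_mem 𝒜 hf e he hf, frac_f, map_one]

theorem ψ_f_pow (k : ℕ) : ψ 𝒜 hf e he (f ^ k) = 1 := by
  rw [map_pow, ψ_f, one_pow]

theorem exists_ψ_eq (a : R') : ∃ (k : ℕ) (s : S), s ∈ 𝒜 k ∧ ψ 𝒜 hf e he s = a := by
  obtain ⟨k, s, hs, h⟩ := HomogeneousLocalization.Away.mk_surjective 𝒜 hf (e.symm a)
  have hs' : s ∈ 𝒜 k := by simpa using hs
  refine ⟨k, s, hs', ?_⟩
  rw [ψ_of_mem 𝒜 hf e he hs']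
  have : frac 𝒜 hf k s hs' = e.symm a := h
  rw [this, RingEquiv.apply_symm_apply]

/-- `M` with the `S`-module structure through `ψ` (type synonym). -/
@[nolint unusedArguments]
def MS (𝒜 : ℕ → Submodule R S) [GradedAlgebra 𝒜] {f : S} (hf : f ∈ 𝒜 1)
    (e : HomogeneousLocalization.Away 𝒜 f ≃+* R')
    (_he : ∀ r : R, (e.symm (algebraMap R R' r)).val =
      algebraMap S (Localization.Away f) (algebraMap R S r)) (M : Type u) : Type u := M

section MS

variable (M : Type u) [AddCommGroup M] [Module R' M] [Module R M] [IsScalarTower R R' M]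

noncomputable instance : AddCommGroup (MS 𝒜 hf e he M) := inferInstanceAs (AddCommGroup M)
noncomputable instance : Module R' (MS 𝒜 hf e he M) := inferInstanceAs (Module R' M)
noncomputable instance : Module R (MS 𝒜 hf e he M) := inferInstanceAs (Module R M)
instance : IsScalarTower R R' (MS 𝒜 hf e he M) := inferInstanceAs (IsScalarTower R R' M)
noncomputable instance : Module S (MS 𝒜 hf e he M) :=
  Module.compHom M (ψ 𝒜 hf e he).toRingHom

variable {M}

theorem smul_def (s : S) (x : MS 𝒜 hf e he M) : s • x = (ψ 𝒜 hf e he s) • x := rfl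

instance : IsScalarTower R S (MS 𝒜 hf e he M) where
  smul_assoc r s x := by
    rw [smul_def, smul_def, map_smul, smul_assoc]

theorem f_pow_smul (k : ℕ) (x : MS 𝒜 hf e he M) : (f ^ k) • x = x := by
  rw [smul_def, ψ_f_pow, one_smul]

variable {r : ℕ} (m : Fin r → MS 𝒜 hf e he M)

/-- the `k`-th graded piece `Σᵢ (S_k / f^k) mᵢ ⊆ M`. -/
def Nk (k : ℕ) : Submodule R (MS 𝒜 hf e he M) where
  carrier := {x | ∃ s : Fin r → S, (∀ i, s i ∈ 𝒜 k) ∧ x = ∑ i, s i • m i}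
  add_mem' := by
    rintro _ _ ⟨s, hs, rfl⟩ ⟨s', hs', rfl⟩
    exact ⟨s + s', fun i => add_mem (hs i) (hs' i), by simp [add_smul, Finset.sum_add_distrib]⟩
  zero_mem' := ⟨0, fun i => zero_mem _, by simp⟩
  smul_mem' := by
    rintro c _ ⟨s, hs, rfl⟩
    exact ⟨c • s, fun i => Submodule.smul_mem _ c (hs i), by simp [Finset.smul_sum, smul_assoc]⟩

theorem mem_Nk {k : ℕ} {x : MS 𝒜 hf e he M} :
    x ∈ Nk 𝒜 hf e he m k ↔ ∃ s : Fin r → S, (∀ i, s i ∈ 𝒜 k) ∧ x = ∑ i, s i • m i := Iff.rfl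

theorem smul_mem_Nk {j k : ℕ} {a : S} (ha : a ∈ 𝒜 j) {x : MS 𝒜 hf e he M}
    (hx : x ∈ Nk 𝒜 hf e he m k) : a • x ∈ Nk 𝒜 hf e he m (j + k) := by
  obtain ⟨s, hs, rfl⟩ := hx
  exact ⟨fun i => a * s i, fun i => SetLike.mul_mem_graded ha (hs i), by
    simp [Finset.smul_sum, mul_smul]⟩

instance : SetLike.GradedSMul 𝒜 (Nk 𝒜 hf e he m) where
  smul_mem := fun {_ _ _ _} ha hx => smul_mem_Nk 𝒜 hf e he m ha hx

theorem m_mem_Nk_zero (i : Fin r) : m i ∈ Nk 𝒜 hf e he m 0 := by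
  classical
  refine ⟨fun j => if j = i then 1 else 0, fun j => ?_, ?_⟩
  · by_cases h : j = i
    · simp only [h, if_true]; exact SetLike.GradedOne.one_mem
    · simp only [h, if_false]; exact zero_mem _
  · simp [ite_smul]

theorem Nk_mono_succ (k : ℕ) : Nk 𝒜 hf e he m k ≤ Nk 𝒜 hf e he m (k + 1) := by
  intro x hx
  have := smul_mem_Nk 𝒜 hf e he m hf hx
  rw [smul_def, ψ_f, one_smul, add_comm] at this
  exact this

theorem Nk_mono {k l : ℕ} (h : k ≤ l) : Nk 𝒜 hf e he m k ≤ Nk 𝒜 hf e he m l :=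
  monotone_nat_of_le_succ (Nk_mono_succ 𝒜 hf e he m) h

/-- the graded module `N = ⨁ₖ Nₖ`. -/
abbrev NN : Type u := ⨁ k, Nk 𝒜 hf e he m k

noncomputable instance instModuleSNN : Module S (NN 𝒜 hf e he m) :=
  GradedModule.isModule 𝒜 (Nk 𝒜 hf e he m)

theorem smul_of {j k : ℕ} {a : S} (ha : a ∈ 𝒜 j) (x : Nk 𝒜 hf e he m k) :
    a • (DirectSum.of (fun k => Nk 𝒜 hf e he m k) k x : NN 𝒜 hf e he m) =
      DirectSum.of (fun k => Nk 𝒜 hf e he m k) (j + k)
        ⟨a • (x : MS 𝒜 hf e he M), smul_mem_Nk 𝒜 hf e he m ha x.2⟩ := by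
  change DirectSum.decompose 𝒜 a • (DirectSum.of (fun k => Nk 𝒜 hf e he m k) k x) = _
  rw [DirectSum.decompose_of_mem 𝒜 ha, DirectSum.Gmodule.of_smul_of]
  rfl

instance : IsScalarTower R S (NN 𝒜 hf e he m) := by
  apply IsScalarTower.of_algebraMap_smul
  intro c n
  induction n using DirectSum.induction_on with
  | zero => simp
  | of k x =>
    rw [smul_of 𝒜 hf e he m (SetLike.algebraMap_mem_graded 𝒜 c) x]
    rw [← DirectSum.lof_eq_of R, ← DirectSum.lof_eq_of R, ← map_smul, DirectSum.lof_eq_of R,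
      DirectSum.lof_eq_of R]
    apply DirectSum.of_eq_of_gradedMonoid_eq
    refine Sigma.subtype_ext (zero_add k) ?_
    change (algebraMap R S c) • (x : MS 𝒜 hf e he M) = ((c • x : Nk 𝒜 hf e he m k) : MS 𝒜 hf e he M)
    rw [Submodule.coe_smul, algebraMap_smul]
  | add x y hx hy => rw [smul_add, smul_add, hx, hy]

/-- the graded pieces of `NN`. -/
noncomputable def ℳ (k : ℕ) : Submodule R (NN 𝒜 hf e he m) :=
  LinearMap.range (DirectSum.lof R ℕ (fun k => Nk 𝒜 hf e he m k) k)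

theorem of_mem_ℳ (k : ℕ) (x : Nk 𝒜 hf e he m k) :
    DirectSum.of (fun k => Nk 𝒜 hf e he m k) k x ∈ ℳ 𝒜 hf e he m k :=
  ⟨x, DirectSum.lof_eq_of R _ _ _ _⟩

theorem mem_ℳ {k : ℕ} {n : NN 𝒜 hf e he m} :
    n ∈ ℳ 𝒜 hf e he m k ↔ ∃ x : Nk 𝒜 hf e he m k, n = DirectSum.of (fun k => Nk 𝒜 hf e he m k) k x := by
  constructor
  · rintro ⟨x, rfl⟩
    exact ⟨x, DirectSum.lof_eq_of R _ _ _ _⟩
  · rintro ⟨x, rfl⟩
    exact of_mem_ℳ 𝒜 hf e he m k x

/-- `lof k` as a map into `ℳ k`. -/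
noncomputable def toℳ (k : ℕ) : Nk 𝒜 hf e he m k →ₗ[R] ℳ 𝒜 hf e he m k :=
  LinearMap.codRestrict (ℳ 𝒜 hf e he m k) (DirectSum.lof R ℕ (fun k => Nk 𝒜 hf e he m k) k)
    (fun x => ⟨x, rfl⟩)

theorem coe_toℳ (k : ℕ) (x : Nk 𝒜 hf e he m k) :
    ((toℳ 𝒜 hf e he m k x : ℳ 𝒜 hf e he m k) : NN 𝒜 hf e he m) =
      DirectSum.lof R ℕ (fun k => Nk 𝒜 hf e he m k) k x := rfl

noncomputable instance : DirectSum.Decomposition (ℳ 𝒜 hf e he m) :=
  DirectSum.Decomposition.ofLinearMap (ℳ 𝒜 hf e he m)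
    (DirectSum.toModule R ℕ _ fun k =>
      (DirectSum.lof R ℕ (fun k => ℳ 𝒜 hf e he m k) k) ∘ₗ (toℳ 𝒜 hf e he m k))
    (by
      apply DirectSum.linearMap_ext
      intro k
      refine LinearMap.ext fun x => ?_
      rw [LinearMap.comp_apply, LinearMap.comp_apply, DirectSum.toModule_lof, LinearMap.comp_apply,
        DirectSum.lof_eq_of, DirectSum.coeLinearMap_of, coe_toℳ]
      rfl)
    (by
      apply DirectSum.linearMap_ext
      intro k
      refine LinearMap.ext fun y => ?_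
      obtain ⟨y, x, rfl⟩ := y
      rw [LinearMap.comp_apply, LinearMap.comp_apply, DirectSum.lof_eq_of R ℕ (fun k => ℳ 𝒜 hf e he m k),
        DirectSum.coeLinearMap_of, LinearMap.id_comp]
      change DirectSum.toModule R ℕ _ _ (DirectSum.lof R ℕ (fun k => Nk 𝒜 hf e he m k) k x) = _
      rw [DirectSum.toModule_lof, LinearMap.comp_apply]
      rfl)

instance : SetLike.GradedSMul 𝒜 (ℳ 𝒜 hf e he m) where
  smul_mem := by
    intro j k a n ha hn
    obtain ⟨x, rfl⟩ := (mem_ℳ 𝒜 hf e he m).1 hn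
    rw [smul_of 𝒜 hf e he m ha x]
    exact of_mem_ℳ 𝒜 hf e he m _ _

/-- the degree-zero generators. -/
noncomputable def gen (i : Fin r) : NN 𝒜 hf e he m :=
  DirectSum.of (fun k => Nk 𝒜 hf e he m k) 0 ⟨m i, m_mem_Nk_zero 𝒜 hf e he m i⟩

theorem of_mem_span_gen (k : ℕ) (x : Nk 𝒜 hf e he m k) :
    DirectSum.of (fun k => Nk 𝒜 hf e he m k) k x ∈
      Submodule.span S (Set.range (gen 𝒜 hf e he m)) := by
  obtain ⟨x, s, hs, rfl⟩ := x
  have key : DirectSum.of (fun k => Nk 𝒜 hf e he m k) k ⟨∑ i, s i • m i, ⟨s, hs, rfl⟩⟩ =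
      ∑ i, s i • gen 𝒜 hf e he m i := by
    have h1 : ∀ i, s i • gen 𝒜 hf e he m i = DirectSum.of (fun k => Nk 𝒜 hf e he m k) (k + 0)
        ⟨s i • m i, smul_mem_Nk 𝒜 hf e he m (hs i) (m_mem_Nk_zero 𝒜 hf e he m i)⟩ :=
      fun i => smul_of 𝒜 hf e he m (hs i) _
    simp_rw [h1]
    rw [← map_sum]
    apply DirectSum.of_eq_of_gradedMonoid_eq
    refine Sigma.subtype_ext (add_zero k).symm ?_
    exact (Submodule.coe_sum (Nk 𝒜 hf e he m (k + 0))
      (fun i => ⟨s i • m i, smul_mem_Nk 𝒜 hf e he m (hs i) (m_mem_Nk_zero 𝒜 hf e he m i)⟩)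
      Finset.univ).symm
  rw [key]
  exact Submodule.sum_mem _ fun i _ =>
    Submodule.smul_mem _ _ (Submodule.subset_span (Set.mem_range_self i))

instance finite_NN : Module.Finite S (NN 𝒜 hf e he m) := by
  classical
  refine ⟨⟨Finset.univ.image (gen 𝒜 hf e he m), ?_⟩⟩
  rw [Finset.coe_image, Finset.coe_univ, Set.image_univ, eq_top_iff]
  rintro n -
  induction n using DirectSum.induction_on with
  | zero => exact zero_mem _
  | of k x => exact of_mem_span_gen 𝒜 hf e he m k x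
  | add x y hx hy => exact add_mem hx hy

/-- the sum-of-components map `N → M`, `S`-linear. -/
noncomputable def σ : NN 𝒜 hf e he m →ₗ[S] MS 𝒜 hf e he M where
  toFun := DirectSum.coeLinearMap (Nk 𝒜 hf e he m)
  map_add' := map_add _
  map_smul' := by
    intro a n
    rw [RingHom.id_apply]
    induction a using DirectSum.Decomposition.inductionOn 𝒜 with
    | zero => simp
    | @homogeneous j a =>
      induction n using DirectSum.induction_on with
      | zero => simp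
      | of k x =>
        rw [smul_of 𝒜 hf e he m a.2 x, DirectSum.coeLinearMap_of, DirectSum.coeLinearMap_of]
      | add x y hx hy => rw [smul_add, map_add, hx, hy, map_add, smul_add]
    | add a b ha hb => rw [add_smul, map_add, ha, hb, add_smul]

theorem σ_of (k : ℕ) (x : Nk 𝒜 hf e he m k) :
    σ 𝒜 hf e he m (DirectSum.of (fun k => Nk 𝒜 hf e he m k) k x) = x :=
  DirectSum.coeLinearMap_of _ _ _

theorem isUnit_algebraMap_end (x : Submonoid.powers f) :
    IsUnit (algebraMap S (Module.End S (MS 𝒜 hf e he M)) x) := by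
  obtain ⟨_, k, rfl⟩ := x
  have : algebraMap S (Module.End S (MS 𝒜 hf e he M)) (f ^ k) = 1 := by
    ext y
    rw [Module.algebraMap_end_apply, f_pow_smul]
    rfl
  rw [this]
  exact isUnit_one

/-- the induced map on the localization. -/
noncomputable def σL : LocalizedModule (Submonoid.powers f) (NN 𝒜 hf e he m) →ₗ[S] MS 𝒜 hf e he M :=
  LocalizedModule.lift (Submonoid.powers f) (σ 𝒜 hf e he m) (isUnit_algebraMap_end 𝒜 hf e he)

theorem σL_mk_one (n : NN 𝒜 hf e he m) :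
    σL 𝒜 hf e he m (LocalizedModule.mk n 1) = σ 𝒜 hf e he m n :=
  LocalizedModule.lift_mk_one _ _ _ n

theorem σL_eq_of_smul {k : ℕ} {x : LocalizedModule (Submonoid.powers f) (NN 𝒜 hf e he m)}
    {n : NN 𝒜 hf e he m} (h : f ^ k • x = LocalizedModule.mk n 1) :
    σL 𝒜 hf e he m x = σ 𝒜 hf e he m n := by
  rw [← σL_mk_one, ← h, map_smul, f_pow_smul]

theorem smul_mem_ℳ {j k : ℕ} {a : S} (ha : a ∈ 𝒜 j) {n : NN 𝒜 hf e he m}
    (hn : n ∈ ℳ 𝒜 hf e he m k) : a • n ∈ ℳ 𝒜 hf e he m (j + k) := by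
  obtain ⟨x, rfl⟩ := (mem_ℳ 𝒜 hf e he m).1 hn
  rw [smul_of 𝒜 hf e he m ha x]
  exact of_mem_ℳ 𝒜 hf e he m _ _

end MS

end Groth.Agent.Lib.Seat50.GrAway
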