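import Groth.Agent.Lib.Seat50GrAway

/-!
# A finite graded module with prescribed degree-zero localization, part B (helper50)
-/

set_option autoImplicit false
set_option linter.unusedSectionVars false
set_option linter.unusedVariables false

open DirectSum

namespace Groth.Agent.Lib.Seat50.GrAway

universe u

variable {R R' : Type u} [CommRing R] [CommRing R'] [Algebra R R']
  {S : Type u} [CommRing S] [Algebra R S] (𝒜 : ℕ → Submodule R S) [GradedAlgebra 𝒜]
  {f : S} (hf : f ∈ 𝒜 1)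
  (e : HomogeneousLocalization.Away 𝒜 f ≃+* R')
  (he : ∀ r : R, (e.symm (algebraMap R R' r)).val =
    algebraMap S (Localization.Away f) (algebraMap R S r))

section MS

variable {M : Type u} [AddCommGroup M] [Module R' M] [Module R M] [IsScalarTower R R' M]
variable {r : ℕ} (m : Fin r → MS 𝒜 hf e he M)

include hf in
theorem f_pow_mem (k : ℕ) : f ^ k ∈ 𝒜 k := by
  simpa using SetLike.pow_mem_graded k hf

/-- the degree-zero part of the localization `N_f`. -/
noncomputable def Nf : Submodule R (LocalizedModule (Submonoid.powers f) (NN 𝒜 hf e he m)) where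
  carrier := {x | ∃ k : ℕ, ∃ n ∈ ℳ 𝒜 hf e he m k, f ^ k • x = LocalizedModule.mk n 1}
  add_mem' := by
    rintro x x' ⟨k, n, hn, hx⟩ ⟨k', n', hn', hx'⟩
    refine ⟨k + k', f ^ k' • n + f ^ k • n', add_mem ?_ ?_, ?_⟩
    · have := smul_mem_ℳ 𝒜 hf e he m (f_pow_mem 𝒜 hf k') hn
      rwa [add_comm] at this
    · exact smul_mem_ℳ 𝒜 hf e he m (f_pow_mem 𝒜 hf k) hn'
    · have h1 : f ^ (k + k') • x = f ^ k' • (f ^ k • x) := by rw [smul_smul, ← pow_add, add_comm]
      have h2 : f ^ (k + k') • x' = f ^ k • (f ^ k' • x') := by rw [smul_smul, ← pow_add]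
      rw [smul_add, h1, h2, hx, hx', LocalizedModule.smul'_mk, LocalizedModule.smul'_mk,
        ← LocalizedModule.mkLinearMap_apply, ← LocalizedModule.mkLinearMap_apply, ← map_add]
      rfl
  zero_mem' := ⟨0, 0, zero_mem _, by simp⟩
  smul_mem' := by
    rintro c x ⟨k, n, hn, hx⟩
    refine ⟨k, c • n, Submodule.smul_mem _ c hn, ?_⟩
    rw [smul_comm, hx, LocalizedModule.smul'_mk]

theorem mem_Nf {x : LocalizedModule (Submonoid.powers f) (NN 𝒜 hf e he m)} :
    x ∈ Nf 𝒜 hf e he m ↔ ∃ k : ℕ, ∃ n ∈ ℳ 𝒜 hf e he m k, f ^ k • x = LocalizedModule.mk n 1 :=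
  Iff.rfl

/-- `σL` as an `R`-linear map on `Nf`. -/
noncomputable def σN : Nf 𝒜 hf e he m →ₗ[R] MS 𝒜 hf e he M :=
  ((σL 𝒜 hf e he m).restrictScalars R).domRestrict (Nf 𝒜 hf e he m)

theorem σN_apply (x : Nf 𝒜 hf e he m) : σN 𝒜 hf e he m x = σL 𝒜 hf e he m x := rfl

theorem σN_injective : Function.Injective (σN 𝒜 hf e he m) := by
  rintro ⟨x, k, n, hn, hx⟩ ⟨x', k', n', hn', hx'⟩ h0
  rw [σN_apply, σN_apply] at h0
  change σL 𝒜 hf e he m x = σL 𝒜 hf e he m x' at h0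
  rw [σL_eq_of_smul 𝒜 hf e he m hx, σL_eq_of_smul 𝒜 hf e he m hx'] at h0
  obtain ⟨y, rfl⟩ := (mem_ℳ 𝒜 hf e he m).1 hn
  obtain ⟨y', rfl⟩ := (mem_ℳ 𝒜 hf e he m).1 hn'
  rw [σ_of, σ_of] at h0
  apply Subtype.ext
  change x = x'
  have hinj := IsLocalizedModule.smul_injective
    (LocalizedModule.mkLinearMap (Submonoid.powers f) (NN 𝒜 hf e he m))
    (⟨f ^ (k + k'), k + k', rfl⟩ : Submonoid.powers f)
  apply hinj
  change f ^ (k + k') • x = f ^ (k + k') • x'
  have h1 : f ^ (k + k') • x = f ^ k' • (f ^ k • x) := by rw [smul_smul, ← pow_add, add_comm]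
  have h2 : f ^ (k + k') • x' = f ^ k • (f ^ k' • x') := by rw [smul_smul, ← pow_add]
  rw [h1, h2, hx, hx', LocalizedModule.smul'_mk, LocalizedModule.smul'_mk,
    smul_of 𝒜 hf e he m (f_pow_mem 𝒜 hf k') y, smul_of 𝒜 hf e he m (f_pow_mem 𝒜 hf k) y']
  congr 1
  apply DirectSum.of_eq_of_gradedMonoid_eq
  refine Sigma.subtype_ext (add_comm k' k) ?_
  change f ^ k' • (y : MS 𝒜 hf e he M) = f ^ k • (y' : MS 𝒜 hf e he M)
  rw [f_pow_smul, f_pow_smul, h0]

theorem exists_mem_Nk (hm : Submodule.span R' (Set.range m) = ⊤) (x : MS 𝒜 hf e he M) :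
    ∃ k, x ∈ Nk 𝒜 hf e he m k := by
  have hx : x ∈ Submodule.span R' (Set.range m) := by rw [hm]; trivial
  induction hx using Submodule.span_induction with
  | mem x hx =>
    obtain ⟨i, rfl⟩ := hx
    exact ⟨0, m_mem_Nk_zero 𝒜 hf e he m i⟩
  | zero => exact ⟨0, zero_mem _⟩
  | add x y _ _ hx hy =>
    obtain ⟨k, hk⟩ := hx
    obtain ⟨l, hl⟩ := hy
    exact ⟨max k l, add_mem (Nk_mono 𝒜 hf e he m (le_max_left k l) hk)
      (Nk_mono 𝒜 hf e he m (le_max_right k l) hl)⟩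
  | smul a x _ hx =>
    obtain ⟨k, hk⟩ := hx
    obtain ⟨j, t, ht, rfl⟩ := exists_ψ_eq 𝒜 hf e he a
    exact ⟨j + k, smul_mem_Nk 𝒜 hf e he m ht hk⟩

theorem σN_surjective (hm : Submodule.span R' (Set.range m) = ⊤) :
    Function.Surjective (σN 𝒜 hf e he m) := by
  intro x
  obtain ⟨k, hk⟩ := exists_mem_Nk 𝒜 hf e he m hm x
  set n : NN 𝒜 hf e he m := DirectSum.of (fun k => Nk 𝒜 hf e he m k) k ⟨x, hk⟩ with hn
  set X : LocalizedModule (Submonoid.powers f) (NN 𝒜 hf e he m) :=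
    LocalizedModule.mk n (⟨f ^ k, k, rfl⟩ : Submonoid.powers f) with hX
  have hfX : f ^ k • X = LocalizedModule.mk n 1 := by
    rw [hX, LocalizedModule.smul'_mk]
    exact LocalizedModule.mk_cancel (⟨f ^ k, k, rfl⟩ : Submonoid.powers f) n
  refine ⟨⟨X, k, n, of_mem_ℳ 𝒜 hf e he m k _, hfX⟩, ?_⟩
  rw [σN_apply]
  change σL 𝒜 hf e he m X = x
  rw [σL_eq_of_smul 𝒜 hf e he m hfX, hn, σ_of]

/-- `N_(f) ≃ M`. -/
noncomputable def e' (hm : Submodule.span R' (Set.range m) = ⊤) : Nf 𝒜 hf e he m ≃ₗ[R] MS 𝒜 hf e he M :=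
  LinearEquiv.ofBijective (σN 𝒜 hf e he m) ⟨σN_injective 𝒜 hf e he m, σN_surjective 𝒜 hf e he m hm⟩

theorem e'_smul (hm : Submodule.span R' (Set.range m) = ⊤) (a : HomogeneousLocalization.Away 𝒜 f)
    (x y : Nf 𝒜 hf e he m)
    (h : a.val • (x : LocalizedModule (Submonoid.powers f) (NN 𝒜 hf e he m)) = y) :
    e' 𝒜 hf e he m hm y = e a • e' 𝒜 hf e he m hm x := by
  change σL 𝒜 hf e he m y = e a • σL 𝒜 hf e he m x
  obtain ⟨j, t, ht, hta⟩ := HomogeneousLocalization.Away.mk_surjective 𝒜 hf a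
  have ht' : t ∈ 𝒜 j := by simpa using ht
  have ha : a = frac 𝒜 hf j t ht' := hta.symm
  have hval : a.val = Localization.mk t (⟨f ^ j, j, rfl⟩ : Submonoid.powers f) := by
    rw [ha, val_frac]
  have key : f ^ j • (y : LocalizedModule (Submonoid.powers f) (NN 𝒜 hf e he m)) = t • (x : LocalizedModule (Submonoid.powers f) (NN 𝒜 hf e he m)) := by
    rw [← h, hval]
    induction (x : LocalizedModule (Submonoid.powers f) (NN 𝒜 hf e he m)) using LocalizedModule.induction_on with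
    | h n s =>
      rw [LocalizedModule.mk_smul_mk, LocalizedModule.smul'_mk, LocalizedModule.smul'_mk]
      have : f ^ j • t • n = (⟨f ^ j, j, rfl⟩ : Submonoid.powers f) • (t • n) := rfl
      rw [this, LocalizedModule.mk_cancel_common_left]
  have h1 : σL 𝒜 hf e he m (f ^ j • (y : LocalizedModule (Submonoid.powers f) (NN 𝒜 hf e he m))) = σL 𝒜 hf e he m y := by
    rw [map_smul, f_pow_smul]
  rw [← h1, key, map_smul, smul_def, ψ_of_mem 𝒜 hf e he ht', ← ha]

end MS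

section Main

variable (M : Type u) [AddCommGroup M] [Module R' M] [Module R M] [IsScalarTower R R' M]
  [Module.Finite R' M]

include hf he in
theorem main :
    ∃ (N : Type u) (_ : AddCommGroup N) (_ : Module S N) (_ : Module R N) (_ : IsScalarTower R S N)
      (ℳ : ℕ → Submodule R N) (_ : DirectSum.Decomposition ℳ) (_ : SetLike.GradedSMul 𝒜 ℳ)
      (Nf : Submodule R (LocalizedModule (Submonoid.powers f) N)) (e' : ↥Nf ≃ₗ[R] M),
      Module.Finite S N ∧
      (∀ x, x ∈ Nf ↔ ∃ k : ℕ, ∃ n ∈ ℳ k, f ^ k • x = LocalizedModule.mk n 1) ∧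
      (∀ (a : HomogeneousLocalization.Away 𝒜 f) (x y : ↥Nf),
        a.val • (x : LocalizedModule (Submonoid.powers f) N) = y → e' y = e a • e' x) := by
  obtain ⟨r, m, hm⟩ := Module.Finite.exists_fin (R := R') (M := M)
  let m' : Fin r → MS 𝒜 hf e he M := m
  exact ⟨NN 𝒜 hf e he m', inferInstance, inferInstance, inferInstance, inferInstance,
    ℳ 𝒜 hf e he m', inferInstance, inferInstance, Nf 𝒜 hf e he m', e' 𝒜 hf e he m' hm,
    inferInstance, fun x => mem_Nf 𝒜 hf e he m', e'_smul 𝒜 hf e he m' hm⟩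

end Main

end Groth.Agent.Lib.Seat50.GrAway
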