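import Mathlib
import Groth.Prelude.Def_W4bk4grassmannianPl
import Groth.Agent.Lib.Seat50StdMon
import Groth.Agent.Lib.Seat50Degen

/-!
# Flat degenerations of Schubert varieties in the Grassmannian (helper50)

Weighted straightening and the degeneration of the cone over a Schubert variety to the
Stanley–Reisner ring and to the Hibi ring of the lattice `H(w)`.
-/

namespace Groth.Agent.Lib.Seat50.SchubertDegen

open W4bk4grassmannian MvPolynomial StdIndep Straighten

universe u

variable {d n : ℕ}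

section FixedLength

variable (K : Type u) [CommRing K]

/-- The `K`-span of the standard monomials of degree `m` plus the ideal of the shuffle relations. -/
noncomputable def Wm (m : ℕ) : Submodule K (PlRing K d n) :=
  Submodule.span K {f | ∃ c : Fin m → Idx d n, Antitone c ∧ f = chainMon K c} ⊔
    (plIdealTop K (d := d) (n := n)).restrictScalars K

theorem chainMon_mem_Wm {m : ℕ} (T : Fin m → Idx d n) :
    chainMon K T ∈ Wm (d := d) (n := n) K m := by
  classical
  let R : (Fin m → Idx d n) → (Fin m → Idx d n) → Prop := fun T' T =>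
    toLex (fun k => wt (T k)) < toLex (fun k => wt (T' k))
  have : IsTrans _ R := ⟨fun a b c h1 h2 => lt_trans h2 h1⟩
  have : Std.Irrefl R := ⟨fun a => lt_irrefl _⟩
  have hwf : WellFounded R := Finite.wellFounded_of_trans_of_irrefl R
  refine hwf.induction (C := fun T => chainMon K T ∈ Wm (d := d) (n := n) K m) T ?_
  intro T ih
  rcases antitone_or_exists T with hT | ⟨k, k1, hk1, hnot⟩
  · exact Submodule.mem_sup_left (Submodule.subset_span ⟨T, hT, rfl⟩)
  · have hkk1 : k ≠ k1 := by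
      intro h; rw [h] at hk1; omega
    obtain ⟨r, hpiv⟩ := exists_pivot (T k) (T k1) hnot
    set rest : PlRing K d n := ∏ k' ∈ (Finset.univ.erase k).erase k1, X (T k') with hrest
    have hsplit : shuffleRel K (T k) (T k1) r = X (T k) * X (T k1) +
        ∑ S ∈ Finset.univ.erase (S0 r), shuffleTerm K (T k) (T k1) r S := by
      rw [shuffleRel, ← Finset.add_sum_erase _ _ (Finset.mem_univ (S0 r)), shuffleTerm_S0]
    have hrel : shuffleRel K (T k) (T k1) r ∈ plIdealTop K (d := d) (n := n) :=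
      Ideal.subset_span ⟨T k, T k1, r, hpiv, rfl⟩
    have hmain : chainMon K T = rest * shuffleRel K (T k) (T k1) r -
        ∑ S ∈ Finset.univ.erase (S0 r), rest * shuffleTerm K (T k) (T k1) r S := by
      rw [chainMon_split K T k k1 hkk1, hsplit, ← Finset.mul_sum]
      ring
    rw [hmain]
    refine Submodule.sub_mem _ ?_ (Submodule.sum_mem _ ?_)
    · exact Submodule.mem_sup_right (Ideal.mul_mem_left _ _ hrel)
    · intro S hS
      have hSne : S ≠ S0 r := (Finset.mem_erase.mp hS).1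
      rw [shuffleTerm]
      by_cases hcard : S.card = r.val + 1
      · rw [dif_pos hcard]
        rcases coord_cases' K (shuffleI (T k) (T k1) r S hcard) with hI | ⟨α, εI, hα, hI⟩
        · rw [hI]; simp
        rcases coord_cases' K (shuffleJ (T k) (T k1) r S hcard) with hJ | ⟨β, εJ, hβ, hJ⟩
        · rw [hJ]; simp
        rw [hI, hJ]
        have hform : rest * ((-1 : PlRing K d n) ^ shuffleSign r S * (C εI * X α) * (C εJ * X β)) =
            ((-1) ^ shuffleSign r S * εI * εJ : K) •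
              chainMon K (Function.update (Function.update T k α) k1 β) := by
          rw [chainMon_update K T k k1 hkk1, ← hrest, smul_eq_C_mul]
          simp only [map_mul, map_pow, map_neg, map_one]
          ring
        rw [hform]
        apply Submodule.smul_mem
        apply ih
        show toLex (fun k' => wt (T k')) <
          toLex (fun k' => wt (Function.update (Function.update T k α) k1 β k'))
        refine ⟨k, ?_, ?_⟩
        · intro k' hk'
          have h1 : k' ≠ k := ne_of_lt hk'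
          have h2 : k' ≠ k1 := by
            intro h
            have : k'.val < k.val := hk'
            rw [h] at this
            omega
          show wt (T k') = wt (Function.update (Function.update T k α) k1 β k')
          rw [Function.update_of_ne h2, Function.update_of_ne h1]
        · show wt (T k) < wt (Function.update (Function.update T k α) k1 β k)
          rw [Function.update_of_ne hkk1, Function.update_self, hα]
          exact tsum_shuffleI_gt (T k) (T k1) r hpiv.2 S hcard hSne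
      · rw [dif_neg hcard, mul_zero]
        exact Submodule.zero_mem _

/-- Antitone pairs. -/
abbrev Pair (d n : ℕ) : Type := {c : Fin 2 → Idx d n // Antitone c}

theorem chainMon_pair (c : Fin 2 → Idx d n) : chainMon K c = X (c 0) * X (c 1) := by
  rw [chainMon, Fin.prod_univ_two]

/-- The quadratic straightening relation: `X_i X_j` is, modulo the shuffle relations, a linear
combination of standard monomials of degree two. -/
theorem exists_rep2 (i j : Idx d n) :
    ∃ a : Pair d n →₀ K, X i * X j - (a.sum fun c r => r • chainMon K c.1) ∈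
      plIdealTop K (d := d) (n := n) := by
  have h := chainMon_mem_Wm K ![i, j]
  rw [Wm, Submodule.mem_sup] at h
  obtain ⟨g, hg, h', hh', hsum⟩ := h
  have hS : {f : PlRing K d n | ∃ c : Fin 2 → Idx d n, Antitone c ∧ f = chainMon K c} =
      Set.range (fun c : Pair d n => chainMon K c.1) := by
    ext x
    constructor
    · rintro ⟨c, hc, rfl⟩
      exact ⟨⟨c, hc⟩, rfl⟩
    · rintro ⟨⟨c, hc⟩, rfl⟩
      exact ⟨c, hc, rfl⟩
  rw [hS, Finsupp.mem_span_range_iff_exists_finsupp] at hg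
  obtain ⟨a, ha⟩ := hg
  refine ⟨a, ?_⟩
  have h2 : chainMon K ![i, j] = X i * X j := by
    rw [chainMon_pair]; rfl
  have : X i * X j - (a.sum fun c r => r • chainMon K c.1) = h' := by
    rw [ha, ← h2, ← hsum]; ring
  rw [this]
  exact hh'

end FixedLength

section Sums

@[to_additive]
theorem prod_split2 {M : Type*} [CommMonoid M] {ι : Type*} [Fintype ι] [DecidableEq ι]
    (g : ι → M) (k l : ι) (hkl : k ≠ l) :
    ∏ k', g k' = (∏ k' ∈ (Finset.univ.erase k).erase l, g k') * (g k * g l) := by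
  rw [← Finset.mul_prod_erase Finset.univ _ (Finset.mem_univ k),
    ← Finset.mul_prod_erase (Finset.univ.erase k) _
      (Finset.mem_erase.mpr ⟨hkl.symm, Finset.mem_univ l⟩),
    mul_comm (∏ k' ∈ (Finset.univ.erase k).erase l, g k'), mul_assoc]

@[to_additive]
theorem prod_update2 {M : Type*} [CommMonoid M] {ι : Type*} [Fintype ι] [DecidableEq ι]
    {X' : Type*} (f : X' → M) (s : ι → X') (k l : ι) (hkl : k ≠ l) (α β : X') :
    ∏ k', f (Function.update (Function.update s k α) l β k') =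
      (∏ k' ∈ (Finset.univ.erase k).erase l, f (s k')) * (f α * f β) := by
  rw [prod_split2 _ k l hkl, Function.update_self, Function.update_of_ne hkl,
    Function.update_self]
  congr 1
  refine Finset.prod_congr rfl (fun k' hk' => ?_)
  have h1 : k' ≠ l := (Finset.mem_erase.mp hk').1
  have h2 : k' ≠ k := (Finset.mem_erase.mp (Finset.mem_erase.mp hk').2).1
  rw [Function.update_of_ne h1, Function.update_of_ne h2]

end Sums

section Sorting

theorem wt_lt_of_lt {θ φ : Idx d n} (h : θ < φ) : wt θ < wt φ := by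
  have hle : ∀ t, θ.1 t ≤ φ.1 t := fun t => (le_of_lt h) t
  have hex : ∃ t, θ.1 t < φ.1 t := by
    by_contra hcon
    push Not at hcon
    exact (not_le_of_gt h) hcon
  obtain ⟨t, ht⟩ := hex
  exact Finset.sum_lt_sum (fun t _ => Fin.le_def.mp (hle t))
    ⟨t, Finset.mem_univ t, Fin.lt_def.mp ht⟩

theorem exists_perm_antitone {m : ℕ} (s : Fin m → Idx d n)
    (hcomp : ∀ k l, s k ≤ s l ∨ s l ≤ s k) : ∃ σ : Equiv.Perm (Fin m), Antitone (s ∘ σ) := by
  let f : Fin m → ℕᵒᵈ := fun k => OrderDual.toDual (wt (s k))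
  refine ⟨Tuple.sort f, ?_⟩
  intro k l hkl
  have hmono := Tuple.monotone_sort f hkl
  have hwt : wt (s (Tuple.sort f l)) ≤ wt (s (Tuple.sort f k)) := hmono
  show s (Tuple.sort f l) ≤ s (Tuple.sort f k)
  rcases hcomp (Tuple.sort f l) (Tuple.sort f k) with h | h
  · exact h
  · by_contra hnot
    have hlt : s (Tuple.sort f k) < s (Tuple.sort f l) := lt_of_le_not_ge h hnot
    have := wt_lt_of_lt hlt
    omega

end Sorting

section WS

variable {K : Type*} [CommRing K] {A' : Type*} [CommRing A'] [Algebra K A']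
variable (x : Idx d n → A') (w : Idx d n) (ω₁ ψ : Idx d n → ℕ)

/-- The monomial of a sequence of indices. -/
def mon {m : ℕ} (s : Fin m → Idx d n) : A' := ∏ k, x (s k)

/-- The total weight of a sequence of indices. -/
def T {m : ℕ} (s : Fin m → Idx d n) : ℕ := ∑ k, ω₁ (s k)

/-- The terms allowed in the straightening of `x_i x_j`. -/
def Good (i j α β : Idx d n) : Prop :=
  β ≤ α ∧ α ≤ w ∧ (ω₁ α + ω₁ β < ω₁ i + ω₁ j ∨
    (ω₁ α + ω₁ β = ω₁ i + ω₁ j ∧ ψ α + ψ β < ψ i + ψ j))

/-- The quadratic straightening law with weights. -/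
def SLQ : Prop := ∀ i j, i ≤ w → j ≤ w → ¬ i ≤ j → ¬ j ≤ i →
  x i * x j ∈ Submodule.span K {y | ∃ α β, Good w ω₁ ψ i j α β ∧ y = x α * x β}

/-- The span of the standard monomials of degree `m` on `X(w)` of weight at most `N`. -/
def Sp (m N : ℕ) : Submodule K A' :=
  Submodule.span K {y | ∃ c : Fin m → Idx d n, Antitone c ∧ (∀ k, c k ≤ w) ∧ T ω₁ c ≤ N ∧
    y = mon x c}

theorem Sp_mono (m : ℕ) {N N' : ℕ} (h : N ≤ N') : Sp (K := K) x w ω₁ m N ≤ Sp x w ω₁ m N' := by
  apply Submodule.span_mono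
  rintro y ⟨c, hc, hcw, hT, rfl⟩
  exact ⟨c, hc, hcw, le_trans hT h, rfl⟩

theorem mon_mem_aux (hslq : SLQ (K := K) x w ω₁ ψ) {m : ℕ} :
    ∀ (N M : ℕ) (s : Fin m → Idx d n), (∀ k, s k ≤ w) → T ω₁ s = N → T ψ s = M →
      mon x s ∈ Sp (K := K) x w ω₁ m N := by
  classical
  intro N
  induction N using Nat.strong_induction_on with
  | _ N ihN =>
  intro M
  induction M using Nat.strong_induction_on with
  | _ M ihM =>
  intro s hs hTs hΨs
  by_cases hcomp : ∀ k l, s k ≤ s l ∨ s l ≤ s k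
  · obtain ⟨σ, hσ⟩ := exists_perm_antitone s hcomp
    refine Submodule.subset_span ⟨s ∘ σ, hσ, fun k => hs _, ?_, ?_⟩
    · rw [← hTs, T, T]
      exact le_of_eq (Equiv.sum_comp σ (fun k => ω₁ (s k)))
    · rw [mon, mon]
      exact (Equiv.prod_comp σ (fun k => x (s k))).symm
  · push Not at hcomp
    obtain ⟨k, l, hkl1, hkl2⟩ := hcomp
    have hne : k ≠ l := by
      intro h; rw [h] at hkl1; exact hkl1 (le_refl _)
    set rest : A' := ∏ k' ∈ (Finset.univ.erase k).erase l, x (s k') with hrest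
    have hsplit : mon x s = rest * (x (s k) * x (s l)) := by
      rw [mon, prod_split2 (fun k' => x (s k')) k l hne]
    have hmem := hslq (s k) (s l) (hs k) (hs l) hkl1 hkl2
    rw [hsplit]
    have hle : Submodule.span K {y | ∃ α β, Good w ω₁ ψ (s k) (s l) α β ∧ y = x α * x β} ≤
        (Sp (K := K) x w ω₁ m N).comap (LinearMap.mulLeft K rest) := by
      rw [Submodule.span_le]
      rintro y ⟨α, β, ⟨hβα, hαw, hwt⟩, rfl⟩
      show rest * (x α * x β) ∈ Sp (K := K) x w ω₁ m N
      set s' := Function.update (Function.update s k α) l β with hs'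
      have hmon' : mon x s' = rest * (x α * x β) := by
        rw [mon, hs', prod_update2 x s k l hne α β]
      have hs'w : ∀ k', s' k' ≤ w := by
        intro k'
        rw [hs']
        by_cases h1 : k' = l
        · subst h1; rw [Function.update_self]; exact le_trans hβα hαw
        · rw [Function.update_of_ne h1]
          by_cases h2 : k' = k
          · subst h2; rw [Function.update_self]; exact hαw
          · rw [Function.update_of_ne h2]; exact hs k'
      have hT1 : T ω₁ s' = (∑ k' ∈ (Finset.univ.erase k).erase l, ω₁ (s k')) + (ω₁ α + ω₁ β) := by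
        rw [T, hs', sum_update2 ω₁ s k l hne α β]
      have hT2 : T ω₁ s = (∑ k' ∈ (Finset.univ.erase k).erase l, ω₁ (s k')) +
          (ω₁ (s k) + ω₁ (s l)) := by
        rw [T, sum_split2 (fun k' => ω₁ (s k')) k l hne]
      have hΨ1 : T ψ s' = (∑ k' ∈ (Finset.univ.erase k).erase l, ψ (s k')) + (ψ α + ψ β) := by
        rw [T, hs', sum_update2 ψ s k l hne α β]
      have hΨ2 : T ψ s = (∑ k' ∈ (Finset.univ.erase k).erase l, ψ (s k')) +
          (ψ (s k) + ψ (s l)) := by
        rw [T, sum_split2 (fun k' => ψ (s k')) k l hne]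
      rw [← hmon']
      rcases hwt with hlt | ⟨heq, hlt⟩
      · have hlt' : T ω₁ s' < N := by rw [← hTs, hT1, hT2]; omega
        exact Sp_mono x w ω₁ m (le_of_lt hlt') (ihN (T ω₁ s') hlt' (T ψ s') s' hs'w rfl rfl)
      · have heq' : T ω₁ s' = N := by rw [← hTs, hT1, hT2]; omega
        have hlt' : T ψ s' < M := by rw [← hΨs, hΨ1, hΨ2]; omega
        exact ihM (T ψ s') hlt' s' hs'w heq' rfl
    exact hle hmem

/-- **Weighted straightening.**  Every monomial in the `x_θ`, `θ ≤ w`, is a linear combination of standard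
monomials on `X(w)` of the same degree and of at most the same weight. -/
theorem mon_mem (hslq : SLQ (K := K) x w ω₁ ψ) {m : ℕ} (s : Fin m → Idx d n)
    (hs : ∀ k, s k ≤ w) : mon x s ∈ Sp (K := K) x w ω₁ m (T ω₁ s) :=
  mon_mem_aux x w ω₁ ψ hslq (T ω₁ s) (T ψ s) s hs rfl rfl

end WS

section Basis

variable (K : Type u) [Field K] [Infinite K] (w : Idx d n)

/-- Standard chains on `X(w)` of all lengths. -/
abbrev SC (w : Idx d n) : Type :=
  Σ m : ℕ, {c : Fin m → Idx d n // Antitone c ∧ ∀ k, c k ≤ w}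

/-- Forget the bound. -/
def SC.toChain {w : Idx d n} (c : SC w) : Chain d n := ⟨c.1, ⟨c.2.1, c.2.2.1⟩⟩

theorem SC.toChain_injective : Function.Injective (SC.toChain (w := w)) := by
  rintro ⟨m, c, hc⟩ ⟨m', c', hc'⟩ h
  simp only [SC.toChain, Sigma.mk.injEq] at h
  obtain ⟨rfl, h2⟩ := h
  have h3 := eq_of_heq h2
  simp only [Subtype.mk.injEq] at h3
  subst h3
  rfl

/-- The coordinate ring of the cone over `X(w)`. -/
abbrev AW : Type u := PlRing K d n ⧸ schubertVanishing K d n w

/-- The class of `X_θ`. -/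
noncomputable def xw (θ : Idx d n) : AW K w := Ideal.Quotient.mk _ (X θ)

theorem mk_chainMon {m : ℕ} (c : Fin m → Idx d n) :
    Ideal.Quotient.mk (schubertVanishing K d n w) (chainMon K c) = mon (xw K w) c := by
  rw [chainMon, map_prod]
  rfl

theorem xw_eq_zero (θ : Idx d n) (h : ¬ θ ≤ w) : xw K w θ = 0 :=
  Ideal.Quotient.eq_zero_iff_mem.mpr (StdMon.X_mem_schubert K w θ h)

theorem sc_indep (hd : 0 < d) :
    LinearIndependent K (fun c : SC w => mon (xw K w) c.2.1) := by
  rw [linearIndependent_iff]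
  intro l hl
  rw [Finsupp.linearCombination_apply] at hl
  set I := schubertVanishing K d n w with hI
  have h1 : (l.sum fun c a => a • mon (xw K w) c.2.1) =
      Ideal.Quotient.mk I (l.sum fun c a => a • chainMon K c.2.1) := by
    rw [Finsupp.sum, Finsupp.sum, map_sum]
    refine Finset.sum_congr rfl (fun c _ => ?_)
    rw [← mk_chainMon]
    exact (map_smul (Ideal.Quotient.mkₐ K I) (l c) (chainMon K c.2.1)).symm
  rw [h1, Ideal.Quotient.eq_zero_iff_mem] at hl
  have h2 : StdMon.comb K (l.mapDomain SC.toChain) = l.sum fun c a => a • chainMon K c.2.1 := by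
    rw [StdMon.comb, Finsupp.sum_mapDomain_index]
    · rfl
    · intro c; exact zero_smul _ _
    · intro c x y; exact add_smul _ _ _
  ext c
  have h3 : StdMon.comb K (l.mapDomain SC.toChain) ∈ schubertVanishing K d n w := by
    rw [h2]; exact hl
  have h4 := coeff_eq_zero_of_mem K hd w (l.mapDomain SC.toChain) h3 c.toChain c.2.2.2
  rw [Finsupp.mapDomain_apply (SC.toChain_injective w)] at h4
  exact h4

theorem sc_span : ⊤ ≤ Submodule.span K (Set.range fun c : SC w => mon (xw K w) c.2.1) := by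
  rintro x -
  have h := StdMon.span_of_le K (schubertVanishing K d n w) (StdMon.plIdealTop_le K w)
    (fun c => ∀ k, c.2.1 k ≤ w)
    (fun c hc => StdMon.plIdeal_le K w (StdMon.chainMon_mem_plIdeal K w c.2.1 hc)) x
  refine Submodule.span_mono ?_ h
  rintro y ⟨⟨c, hc⟩, rfl⟩
  exact ⟨⟨c.1, ⟨c.2.1, c.2.2, hc⟩⟩, (mk_chainMon K w c.2.1).symm⟩

/-- The basis of standard monomials of `S/J(w)`. -/
noncomputable def bW (hd : 0 < d) : Module.Basis (SC w) K (AW K w) :=
  Module.Basis.mk (sc_indep K w hd) (sc_span K w)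

theorem bW_apply (hd : 0 < d) (c : SC w) : bW K w hd c = mon (xw K w) c.2.1 :=
  Module.Basis.mk_apply _ _ c

end Basis

section Quadratic

variable (K : Type u) [Field K] [Infinite K] (w : Idx d n)

theorem xw_mul_eq (i j : Idx d n) (a : Pair d n →₀ K)
    (ha : X i * X j - (a.sum fun c r => r • chainMon K c.1) ∈ plIdealTop K (d := d) (n := n)) :
    xw K w i * xw K w j = a.sum fun c r => r • (xw K w (c.1 0) * xw K w (c.1 1)) := by
  have h1 : Ideal.Quotient.mk (schubertVanishing K d n w) (X i * X j) =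
      Ideal.Quotient.mk (schubertVanishing K d n w) (a.sum fun c r => r • chainMon K c.1) :=
    Ideal.Quotient.eq.mpr (StdMon.plIdealTop_le K w ha)
  rw [map_mul] at h1
  rw [xw, xw, h1, Finsupp.sum, Finsupp.sum, map_sum]
  refine Finset.sum_congr rfl (fun c _ => ?_)
  rw [chainMon_pair]
  show Ideal.Quotient.mk (schubertVanishing K d n w) (a c • (X (c.1 0) * X (c.1 1))) =
    a c • (Ideal.Quotient.mk (schubertVanishing K d n w) (X (c.1 0)) *
      Ideal.Quotient.mk (schubertVanishing K d n w) (X (c.1 1)))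
  rw [← map_mul]
  exact map_smul (Ideal.Quotient.mkₐ K (schubertVanishing K d n w)) (a c) _

/-- An antitone pair as a chain. -/
def pairChain (c : Pair d n) : Chain d n := ⟨2, c⟩

theorem pairChain_injective : Function.Injective (pairChain (d := d) (n := n)) :=
  @sigma_mk_injective ℕ (fun m => {c : Fin m → Idx d n // Antitone c}) 2

theorem comb_pair (a : Pair d n →₀ K) :
    StdMon.comb K (a.mapDomain pairChain) = a.sum fun c r => r • chainMon K c.1 := by
  rw [StdMon.comb, Finsupp.sum_mapDomain_index]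
  · rfl
  · intro c; exact zero_smul _ _
  · intro c x y; exact add_smul _ _ _

/-- The leading index of every term of the straightening of `X_i X_j` dominates `i` and `j`. -/
theorem le_of_mem_support (hd : 0 < d) (i j : Idx d n) (a : Pair d n →₀ K)
    (ha : X i * X j - (a.sum fun c r => r • chainMon K c.1) ∈ plIdealTop K (d := d) (n := n))
    (c : Pair d n) (hc : c ∈ a.support) : i ≤ c.1 0 ∧ j ≤ c.1 0 := by
  by_contra hcon
  have hX : X i * X j ∈ schubertVanishing K d n (c.1 0) := by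
    rw [not_and_or] at hcon
    rcases hcon with h | h
    · exact Ideal.mul_mem_right _ _ (StdMon.X_mem_schubert K _ _ h)
    · exact Ideal.mul_mem_left _ _ (StdMon.X_mem_schubert K _ _ h)
  have hmem : StdMon.comb K (a.mapDomain pairChain) ∈ schubertVanishing K d n (c.1 0) := by
    rw [comb_pair]
    have : (a.sum fun c r => r • chainMon K c.1) =
        X i * X j - (X i * X j - (a.sum fun c r => r • chainMon K c.1)) := by ring
    rw [this]
    exact Ideal.sub_mem _ hX (StdMon.plIdealTop_le K _ ha)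
  have h0 := coeff_eq_zero_of_mem K hd (c.1 0) (a.mapDomain pairChain) hmem (pairChain c)
    (fun (k : Fin 2) => c.2 (Fin.zero_le k))
  rw [Finsupp.mapDomain_apply pairChain_injective] at h0
  exact (Finsupp.mem_support_iff.mp hc) h0

/-- The weights of the Stanley–Reisner degeneration. -/
def ωS (θ : Idx d n) : ℕ := 3 ^ (n * d) - 3 ^ (wt θ)

theorem wt_le (θ : Idx d n) : wt θ ≤ n * d := by
  unfold wt
  calc ∑ t, (θ.1 t).val ≤ ∑ _t : Fin d, n :=
        Finset.sum_le_sum (fun t _ => le_of_lt (θ.1 t).isLt)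
    _ = n * d := by simp [mul_comm]

theorem ωS_lt {i j α : Idx d n} (β : Idx d n) (hi : i < α) (hj : j < α) :
    ωS α + ωS β < ωS i + ωS j := by
  unfold ωS
  have h1 : 3 ^ (wt i) * 3 ≤ 3 ^ (wt α) := by
    rw [← pow_succ]
    exact Nat.pow_le_pow_right (by norm_num) (wt_lt_of_lt hi)
  have h2 : 3 ^ (wt j) * 3 ≤ 3 ^ (wt α) := by
    rw [← pow_succ]
    exact Nat.pow_le_pow_right (by norm_num) (wt_lt_of_lt hj)
  have h3 : 3 ^ (wt α) ≤ 3 ^ (n * d) := Nat.pow_le_pow_right (by norm_num) (wt_le α)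
  have h4 : 3 ^ (wt β) ≤ 3 ^ (n * d) := Nat.pow_le_pow_right (by norm_num) (wt_le β)
  have h5 : 0 < 3 ^ (wt β) := by positivity
  have h6 : 0 < 3 ^ (wt i) := by positivity
  have h7 : 0 < 3 ^ (wt j) := by positivity
  omega

theorem slq_SR (hd : 0 < d) : SLQ (K := K) (xw K w) w ωS (fun _ => 0) := by
  intro i j _ _ hij hji
  obtain ⟨a, ha⟩ := exists_rep2 K i j
  rw [xw_mul_eq K w i j a ha, Finsupp.sum]
  refine Submodule.sum_mem _ (fun c hc => Submodule.smul_mem _ _ ?_)
  obtain ⟨h1, h2⟩ := le_of_mem_support K hd i j a ha c hc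
  by_cases hcw : c.1 0 ≤ w
  · have hi' : i < c.1 0 := lt_of_le_of_ne h1 (fun h => hji (h ▸ h2))
    have hj' : j < c.1 0 := lt_of_le_of_ne h2 (fun h => hij (h ▸ h1))
    exact Submodule.subset_span ⟨c.1 0, c.1 1, ⟨c.2 (Fin.zero_le 1), hcw,
      Or.inl (ωS_lt (c.1 1) hi' hj')⟩, rfl⟩
  · rw [xw_eq_zero K w _ hcw, zero_mul]
    exact Submodule.zero_mem _

end Quadratic

section HypSection

variable (K : Type u) [Field K] [Infinite K] (w : Idx d n) (ω₁ ψ : Idx d n → ℕ)

/-- The weight of a standard chain. -/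
def ωC (c : SC w) : ℕ := T ω₁ c.2.1

theorem Sp_le_G (hd : 0 < d) (m N : ℕ) :
    Sp (K := K) (xw K w) w ω₁ m N ≤ Degen.G (bW K w hd) (ωC w ω₁) N := by
  rw [Sp, Submodule.span_le]
  rintro y ⟨c, hc, hcw, hT, rfl⟩
  exact Submodule.subset_span ⟨⟨m, ⟨c, hc, hcw⟩⟩, hT, bW_apply K w hd _⟩

theorem mon_append {A' : Type*} [CommRing A'] (x : Idx d n → A') {m m' : ℕ}
    (c : Fin m → Idx d n) (c' : Fin m' → Idx d n) :
    mon x (Fin.append c c') = mon x c * mon x c' := by
  rw [mon, mon, mon, Fin.prod_univ_add]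
  simp only [Fin.append_left, Fin.append_right]

theorem T_append {m m' : ℕ} (c : Fin m → Idx d n) (c' : Fin m' → Idx d n) :
    T ω₁ (Fin.append c c') = T ω₁ c + T ω₁ c' := by
  rw [T, T, T, Fin.sum_univ_add]
  simp only [Fin.append_left, Fin.append_right]

theorem hyp (hd : 0 < d) (hslq : SLQ (K := K) (xw K w) w ω₁ ψ) :
    Degen.Hyp (bW K w hd) (ωC w ω₁) where
  one_mem := by
    refine Submodule.subset_span ⟨⟨0, ⟨fun k => k.elim0, fun k => k.elim0, fun k => k.elim0⟩⟩,
      ?_, ?_⟩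
    · show ωC w ω₁ _ ≤ 0
      simp [ωC, T]
    · rw [bW_apply]
      simp [mon]
  mul_mem := by
    intro c c'
    rw [bW_apply, bW_apply, ← mon_append]
    have h1 := mon_mem (K := K) (xw K w) w ω₁ ψ hslq (Fin.append c.2.1 c'.2.1) (by
      intro k
      refine Fin.addCases (fun k => ?_) (fun k => ?_) k
      · rw [Fin.append_left]; exact c.2.2.2 k
      · rw [Fin.append_right]; exact c'.2.2.2 k)
    have h2 := Sp_le_G K w ω₁ hd _ _ h1
    rw [T_append] at h2
    exact h2

end HypSection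

section FibreZeroSetup

variable (K : Type u) [Field K] [Infinite K] (w : Idx d n) (ω₁ : Idx d n → ℕ)

/-- The one-element chain. -/
def single (θ : Below w) : SC w := ⟨1, ⟨fun _ => θ.1, fun _ _ _ => le_refl _, fun _ => θ.2⟩⟩

theorem ωC_single (θ : Below w) : ωC w ω₁ (single w θ) = ω₁ θ.1 := by
  show ∑ _k : Fin 1, ω₁ θ.1 = ω₁ θ.1
  simp

theorem bW_single (hd : 0 < d) (θ : Below w) : bW K w hd (single w θ) = xw K w θ.1 := by
  rw [bW_apply]
  show ∏ _k : Fin 1, xw K w θ.1 = xw K w θ.1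
  simp

/-- The two-element chain. -/
def pairSC (α β : Idx d n) (hβα : β ≤ α) (hα : α ≤ w) : SC w :=
  ⟨2, ⟨![α, β], Fin.antitone_iff_succ_le.mpr (fun i => by
    fin_cases i
    exact hβα), fun k => by
    fin_cases k
    · exact hα
    · exact le_trans hβα hα⟩⟩

theorem strict_mem (hd : 0 < d) (N : ℕ) (y : AW K w)
    (hy : y ∈ Submodule.span K {y | ∃ α β : Idx d n, β ≤ α ∧ α ≤ w ∧ ω₁ α + ω₁ β < N ∧
      y = xw K w α * xw K w β}) :
    y ∈ Submodule.span K ((bW K w hd) '' {c | ωC w ω₁ c < N}) := by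
  refine Submodule.span_mono ?_ hy
  rintro _ ⟨α, β, hβα, hα, hlt, rfl⟩
  refine ⟨pairSC w α β hβα hα, ?_, ?_⟩
  · show ωC w ω₁ (pairSC w α β hβα hα) < N
    show ∑ k : Fin 2, ω₁ (![α, β] k) < N
    rw [Fin.sum_univ_two]
    exact hlt
  · rw [bW_apply]
    show ∏ k : Fin 2, xw K w (![α, β] k) = xw K w α * xw K w β
    rw [Fin.prod_univ_two]
    rfl

variable (hd : 0 < d) (h : Degen.Hyp (bW K w hd) (ωC w ω₁))

/-- The class of `X_θ t^(ω₁ θ)` in the zero fibre. -/
noncomputable def ξ (θ : Below w) :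
    Degen.rees h ⧸ Ideal.span {algebraMap (Polynomial K) (Degen.rees h) Polynomial.X} :=
  Ideal.Quotient.mk _ (Degen.β h (single w θ))

theorem ξ_mul (a b : Below w)
    (hmem : xw K w a.1 * xw K w b.1 ∈ Degen.G (bW K w hd) (ωC w ω₁) (ω₁ a.1 + ω₁ b.1)) :
    ξ K w ω₁ hd h a * ξ K w ω₁ hd h b =
      Ideal.Quotient.mk _ (Degen.mkR h (ω₁ a.1 + ω₁ b.1) (xw K w a.1 * xw K w b.1) hmem) := by
  rw [ξ, ξ, ← map_mul, Degen.β_eq_mkR, Degen.β_eq_mkR, Degen.mkR_mul]
  congr 1
  exact Degen.mkR_congr h (by rw [ωC_single, ωC_single]) (by rw [bW_single, bW_single]) _ _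

include h in
theorem xw_mul_mem_G (a b : Below w) :
    xw K w a.1 * xw K w b.1 ∈ Degen.G (bW K w hd) (ωC w ω₁) (ω₁ a.1 + ω₁ b.1) := by
  have := h.mul_mem (single w a) (single w b)
  rwa [bW_single, bW_single, ωC_single, ωC_single] at this

variable (I₀ : Ideal (MvPolynomial (Below w) K))

open Classical in
/-- The class of `x_θ` in the candidate zero fibre (zero if `θ ≰ w`). -/
noncomputable def x₀ (θ : Idx d n) : MvPolynomial (Below w) K ⧸ I₀ :=
  if h : θ ≤ w then Ideal.Quotient.mk I₀ (X ⟨θ, h⟩) else 0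

theorem x₀_of_le (θ : Below w) : x₀ K w I₀ θ.1 = Ideal.Quotient.mk I₀ (X θ) := by
  rw [x₀, dif_pos θ.2]

theorem mon_snoc {A' : Type*} [CommRing A'] (x : Idx d n → A') {m : ℕ}
    (c : Fin m → Idx d n) (θ : Idx d n) :
    mon x (Fin.snoc (α := fun _ => Idx d n) c θ : Fin (m + 1) → Idx d n) = mon x c * x θ := by
  rw [mon, mon, Fin.prod_univ_castSucc]
  simp only [Fin.snoc_castSucc, Fin.snoc_last]

theorem span_m₀ (ω₁' ψ' : Idx d n → ℕ) (hslq₀ : SLQ (K := K) (x₀ K w I₀) w ω₁' ψ') :
    Submodule.span K (Set.range fun c : SC w => mon (x₀ K w I₀) c.2.1) = ⊤ := by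
  rw [eq_top_iff]
  rintro y -
  obtain ⟨f, rfl⟩ := Ideal.Quotient.mk_surjective y
  set M := Submodule.span K (Set.range fun c : SC w => mon (x₀ K w I₀) c.2.1) with hM
  have hSp : ∀ m N, Sp (K := K) (x₀ K w I₀) w ω₁' m N ≤ M := by
    intro m N
    rw [Sp, Submodule.span_le]
    rintro y ⟨c, hc, hcw, -, rfl⟩
    exact Submodule.subset_span ⟨⟨m, ⟨c, hc, hcw⟩⟩, rfl⟩
  induction f using MvPolynomial.induction_on with
  | C a =>
    have h1 : Ideal.Quotient.mk I₀ (C a) =
        a • mon (x₀ K w I₀) (fun k : Fin 0 => k.elim0) := by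
      rw [mon, Finset.univ_eq_empty, Finset.prod_empty]
      exact Algebra.algebraMap_eq_smul_one (A := MvPolynomial (Below w) K ⧸ I₀) a
    rw [h1]
    exact Submodule.smul_mem _ _ (Submodule.subset_span
      ⟨⟨0, ⟨fun k => k.elim0, fun k => k.elim0, fun k => k.elim0⟩⟩, rfl⟩)
  | add p q hp hq => rw [map_add]; exact Submodule.add_mem _ hp hq
  | mul_X p θ hp =>
    rw [map_mul]
    have hle : M ≤ M.comap (LinearMap.mulRight K (Ideal.Quotient.mk I₀ (X θ))) := by
      rw [hM, Submodule.span_le]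
      rintro y ⟨c, rfl⟩
      show mon (x₀ K w I₀) c.2.1 * Ideal.Quotient.mk I₀ (X θ) ∈ M
      rw [← x₀_of_le, ← mon_snoc]
      refine hSp _ _ (mon_mem (K := K) (x₀ K w I₀) w ω₁' ψ' hslq₀ _ ?_)
      intro k
      refine Fin.lastCases ?_ (fun k => ?_) k
      · rw [Fin.snoc_last]; exact θ.2
      · rw [Fin.snoc_castSucc]; exact c.2.2.2 k
    exact hle hp

variable (hker : ∀ f ∈ I₀, aeval (ξ K w ω₁ hd h) f = 0)

/-- The comparison map from the candidate zero fibre. -/
noncomputable def Ψ₀ : (MvPolynomial (Below w) K ⧸ I₀) →ₐ[K]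
    Degen.rees h ⧸ Ideal.span {algebraMap (Polynomial K) (Degen.rees h) Polynomial.X} :=
  Ideal.Quotient.liftₐ I₀ (aeval (ξ K w ω₁ hd h)) hker

theorem Ψ₀_x₀ (θ : Below w) : Ψ₀ K w ω₁ hd h I₀ hker (x₀ K w I₀ θ.1) = ξ K w ω₁ hd h θ := by
  rw [x₀_of_le, Ψ₀, Ideal.Quotient.liftₐ_apply]
  exact aeval_X _ θ

theorem Ψ₀_mon (c : SC w) : Ψ₀ K w ω₁ hd h I₀ hker (mon (x₀ K w I₀) c.2.1) =
    Ideal.Quotient.mk _ (Degen.β h c) := by
  rw [mon, map_prod]
  have h1 : ∀ k, Ψ₀ K w ω₁ hd h I₀ hker (x₀ K w I₀ (c.2.1 k)) =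
      Ideal.Quotient.mk _ (Degen.β h (single w ⟨c.2.1 k, c.2.2.2 k⟩)) :=
    fun k => Ψ₀_x₀ K w ω₁ hd h I₀ hker ⟨c.2.1 k, c.2.2.2 k⟩
  rw [Finset.prod_congr rfl (fun k _ => h1 k), ← map_prod]
  congr 1
  simp only [Degen.β_eq_mkR]
  rw [Degen.mkR_prod h Finset.univ (fun k => ωC w ω₁ (single w ⟨c.2.1 k, c.2.2.2 k⟩))
    (fun k => bW K w hd (single w ⟨c.2.1 k, c.2.2.2 k⟩)) (fun k => Degen.b_mem_G _ _ _)]
  refine Degen.mkR_congr h ?_ ?_ _ _
  · simp only [ωC_single]
    rfl
  · simp only [bW_single]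
    rw [bW_apply]
    rfl

/-- The candidate zero fibre is isomorphic to the zero fibre of the Rees algebra. -/
theorem Ψ₀_bijective (ω₁' ψ' : Idx d n → ℕ) (hslq₀ : SLQ (K := K) (x₀ K w I₀) w ω₁' ψ') :
    Function.Bijective (Ψ₀ K w ω₁ hd h I₀ hker) :=
  Degen.fibre0_bijective h (fun c : SC w => mon (x₀ K w I₀) c.2.1)
    (span_m₀ K w I₀ ω₁' ψ' hslq₀) _ (Ψ₀_mon K w ω₁ hd h I₀ hker)

end FibreZeroSetup

section SR

variable (K : Type u) [Field K] [Infinite K] (w : Idx d n)

theorem sr_strict (hd : 0 < d) (a b : Below w) (h1 : ¬ a ≤ b) (h2 : ¬ b ≤ a) :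
    xw K w a.1 * xw K w b.1 ∈
      Submodule.span K ((bW K w hd) '' {c | ωC w ωS c < ωS a.1 + ωS b.1}) := by
  apply strict_mem
  have := slq_SR K w hd a.1 b.1 a.2 b.2 h1 h2
  refine Submodule.span_mono ?_ this
  rintro y ⟨α, β, ⟨hβα, hα, hwt⟩, rfl⟩
  rcases hwt with hlt | ⟨_, hlt⟩
  · exact ⟨α, β, hβα, hα, hlt, rfl⟩
  · exact absurd hlt (by simp)

theorem sr_hker (hd : 0 < d) (h : Degen.Hyp (bW K w hd) (ωC w ωS)) :
    ∀ f ∈ srIdeal K w, aeval (ξ K w ωS hd h) f = 0 := by
  intro f hf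
  have hle : srIdeal K w ≤ RingHom.ker (aeval (ξ K w ωS hd h)).toRingHom := by
    rw [srIdeal, Ideal.span_le]
    rintro f ⟨a, b, h1, h2, rfl⟩
    rw [SetLike.mem_coe, RingHom.mem_ker]
    show aeval (ξ K w ωS hd h) (X a * X b) = 0
    rw [map_mul, aeval_X, aeval_X, ξ_mul K w ωS hd h a b (xw_mul_mem_G K w ωS hd h a b)]
    exact Ideal.Quotient.eq_zero_iff_mem.mpr
      (Degen.mkR_mem_span_X h _ _ (sr_strict K w hd a b h1 h2) _)
  exact hle hf

theorem sr_slq₀ : SLQ (K := K) (x₀ K w (srIdeal K w)) w (fun _ => 0) (fun _ => 0) := by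
  intro i j hi hj hij hji
  have h0 : x₀ K w (srIdeal K w) i * x₀ K w (srIdeal K w) j = 0 := by
    rw [x₀_of_le K w _ ⟨i, hi⟩, x₀_of_le K w _ ⟨j, hj⟩, ← map_mul]
    exact Ideal.Quotient.eq_zero_iff_mem.mpr
      (Ideal.subset_span ⟨⟨i, hi⟩, ⟨j, hj⟩, hij, hji, rfl⟩)
  rw [h0]
  exact Submodule.zero_mem _

/-- The cone over a Schubert variety degenerates flatly to the Stanley–Reisner ring of `H(w)`. -/
theorem exists_family_SR (hd : 0 < d) :
    ∃ (R : Type u) (_ : CommRing R) (_ : Algebra K R) (_ : Algebra (Polynomial K) R)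
      (_ : IsScalarTower K (Polynomial K) R),
      Module.Free (Polynomial K) R ∧
      Nonempty ((R ⧸ Ideal.span {algebraMap (Polynomial K) R Polynomial.X}) ≃ₐ[K]
        (MvPolynomial (Below w) K ⧸ srIdeal K w)) ∧
      ∀ c : K, c ≠ 0 →
        Nonempty ((R ⧸ Ideal.span {algebraMap (Polynomial K) R
            (Polynomial.X - Polynomial.C c)}) ≃ₐ[K]
          (PlRing K d n ⧸ schubertVanishing K d n w)) := by
  have h : Degen.Hyp (bW K w hd) (ωC w ωS) := hyp K w ωS (fun _ => 0) hd (slq_SR K w hd)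
  refine ⟨Degen.rees h, inferInstance, inferInstance, Degen.instAlgR h, Degen.instTowerR h,
    Degen.free_R h, ⟨?_⟩, fun c hc => ⟨Degen.fibreEquiv h c hc⟩⟩
  exact (AlgEquiv.ofBijective _ (Ψ₀_bijective K w ωS hd h (srIdeal K w) (sr_hker K w hd h)
    _ _ (sr_slq₀ K w))).symm

end SR

end Groth.Agent.Lib.Seat50.SchubertDegen
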