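import Mathlib
import Groth.Prelude.Def_W4bk4grassmannianPl
import Groth.Agent.Lib.Seat50SchubertDegen

/-!
# Toric degeneration of Schubert varieties to Hibi rings (helper50)
-/

namespace Groth.Agent.Lib.Seat50.HibiDegen

open W4bk4grassmannian MvPolynomial StdIndep Straighten SchubertDegen
open scoped MonomialOrder

universe u

variable {d n : ℕ}

section LexWeight

variable {ι : Type*} [Fintype ι] [LinearOrder ι]

/-- The number of elements above `v`. -/
noncomputable def rk (v : ι) : ℕ := (Finset.univ.filter (fun v' => v < v')).card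

theorem rk_lt {v v' : ι} (h : v < v') : rk v' < rk v := by
  apply Finset.card_lt_card
  rw [Finset.ssubset_iff_of_subset]
  · exact ⟨v', Finset.mem_filter.mpr ⟨Finset.mem_univ _, h⟩,
      fun h' => lt_irrefl _ (Finset.mem_filter.mp h').2⟩
  · intro x hx
    exact Finset.mem_filter.mpr ⟨Finset.mem_univ _, lt_trans h (Finset.mem_filter.mp hx).2⟩

/-- The `B`-adic weight of an exponent vector. -/
noncomputable def wgt (B : ℕ) (e : ι →₀ ℕ) : ℕ := ∑ v, e v * B ^ rk v

theorem wgt_add (B : ℕ) (e e' : ι →₀ ℕ) : wgt B (e + e') = wgt B e + wgt B e' := by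
  simp [wgt, add_mul, Finset.sum_add_distrib]

theorem wgt_zero (B : ℕ) : wgt B (0 : ι →₀ ℕ) = 0 := by
  simp [wgt]

theorem wgt_single (B : ℕ) (v : ι) : wgt B (Finsupp.single v 1) = B ^ rk v := by
  classical
  rw [wgt, Finset.sum_eq_single v]
  · simp
  · intro v' _ hv'
    rw [Finsupp.single_apply, if_neg (Ne.symm hv'), zero_mul]
  · intro h; exact absurd (Finset.mem_univ v) h

theorem wgt_sum {κ : Type*} (B : ℕ) (F : Finset κ) (f : κ → ι →₀ ℕ) :
    wgt B (∑ k ∈ F, f k) = ∑ k ∈ F, wgt B (f k) := by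
  classical
  induction F using Finset.induction_on with
  | empty => simp [wgt_zero]
  | insert k F hk ih => rw [Finset.sum_insert hk, Finset.sum_insert hk, wgt_add, ih]

theorem wgt_lt_of_lex (B D : ℕ) (hDB : D < B) (e e' : ι →₀ ℕ) (hdeg : ∑ v, e v ≤ D)
    (hlt : toLex e < toLex e') : wgt B e < wgt B e' := by
  classical
  obtain ⟨v₀, heq, hv₀⟩ := Finsupp.Lex.lt_iff.mp hlt
  have heq' : ∀ j, j < v₀ → e j = e' j := heq
  have hv₀' : e v₀ < e' v₀ := hv₀
  have hB : 0 < B := by omega
  have hdecomp : ∀ f : ι →₀ ℕ, wgt B f = (∑ v, if v < v₀ then f v * B ^ rk v else 0) +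
      f v₀ * B ^ rk v₀ + (∑ v, if v₀ < v then f v * B ^ rk v else 0) := by
    intro f
    rw [wgt]
    have hpt : ∀ v, f v * B ^ rk v = (if v < v₀ then f v * B ^ rk v else 0) +
        (if v = v₀ then f v * B ^ rk v else 0) + (if v₀ < v then f v * B ^ rk v else 0) := by
      intro v
      rcases lt_trichotomy v v₀ with h | h | h
      · rw [if_pos h, if_neg (ne_of_lt h), if_neg (not_lt.mpr (le_of_lt h))]; simp
      · subst h; simp
      · rw [if_neg (not_lt.mpr (le_of_lt h)), if_neg (ne_of_gt h), if_pos h]; simp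
    rw [Finset.sum_congr rfl (fun v _ => hpt v), Finset.sum_add_distrib, Finset.sum_add_distrib,
      Finset.sum_ite_eq' Finset.univ v₀ (fun v => f v * B ^ rk v), if_pos (Finset.mem_univ _)]
  have hC : B * (∑ v, if v₀ < v then e v * B ^ rk v else 0) ≤ D * B ^ rk v₀ := by
    rw [Finset.mul_sum]
    calc ∑ v, B * (if v₀ < v then e v * B ^ rk v else 0) ≤ ∑ v, e v * B ^ rk v₀ := by
          refine Finset.sum_le_sum (fun v _ => ?_)
          split_ifs with h
          · have h1 : B * B ^ rk v ≤ B ^ rk v₀ := by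
              rw [← pow_succ']
              exact Nat.pow_le_pow_right hB (rk_lt h)
            calc B * (e v * B ^ rk v) = e v * (B * B ^ rk v) := by ring
              _ ≤ e v * B ^ rk v₀ := Nat.mul_le_mul_left _ h1
          · simp
      _ = (∑ v, e v) * B ^ rk v₀ := by rw [Finset.sum_mul]
      _ ≤ D * B ^ rk v₀ := Nat.mul_le_mul_right _ hdeg
  have hC' : (∑ v, if v₀ < v then e v * B ^ rk v else 0) < B ^ rk v₀ := by
    have hg : 0 < B ^ rk v₀ := pow_pos hB _
    by_contra hcon
    push Not at hcon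
    have h1 : B * B ^ rk v₀ ≤ D * B ^ rk v₀ := le_trans (Nat.mul_le_mul_left B hcon) hC
    have h2 := Nat.le_of_mul_le_mul_right h1 hg
    omega
  rw [hdecomp e, hdecomp e']
  have hA : (∑ v, if v < v₀ then e v * B ^ rk v else 0) =
      ∑ v, if v < v₀ then e' v * B ^ rk v else 0 := by
    refine Finset.sum_congr rfl (fun v _ => ?_)
    split_ifs with h
    · rw [heq' v h]
    · rfl
  rw [hA]
  have h1 : (e v₀ + 1) * B ^ rk v₀ ≤ e' v₀ * B ^ rk v₀ := Nat.mul_le_mul_right _ hv₀'
  have h2 : (e v₀ + 1) * B ^ rk v₀ = e v₀ * B ^ rk v₀ + B ^ rk v₀ := by ring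
  omega

end LexWeight

section MonicCompare

variable {σ : Type*} {K : Type*} [CommRing K] (m : MonomialOrder σ)

/-- If a combination of monic polynomials with pairwise distinct degrees has no terms of degree `≽ D`,
then every polynomial occurring in it has degree `≺ D`. -/
theorem degree_lt_of_sum_monic {ι : Type*} (F : Finset ι) (P : ι → MvPolynomial σ K)
    (hP : ∀ c ∈ F, m.Monic (P c))
    (hinj : ∀ c ∈ F, ∀ c' ∈ F, m.degree (P c) = m.degree (P c') → c = c')
    (a : ι → K) (Q : MvPolynomial σ K) (D : σ →₀ ℕ)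
    (hQ : ∀ e, D ≼[m] e → coeff e Q = 0)
    (hsum : ∑ c ∈ F, a c • P c = Q) : ∀ c ∈ F, a c ≠ 0 → m.degree (P c) ≺[m] D := by
  classical
  intro c₀ hc₀F hc₀
  set G := F.filter fun c => a c ≠ 0 with hG
  have hGne : G.Nonempty := ⟨c₀, Finset.mem_filter.mpr ⟨hc₀F, hc₀⟩⟩
  obtain ⟨c₁, hc₁G, hmax⟩ := Finset.exists_max_image G (fun c => m.toSyn (m.degree (P c))) hGne
  have hc₁F : c₁ ∈ F := (Finset.mem_filter.mp hc₁G).1
  have hc₁a : a c₁ ≠ 0 := (Finset.mem_filter.mp hc₁G).2
  have hcoeff := congrArg (MvPolynomial.coeff (m.degree (P c₁))) hsum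
  rw [MvPolynomial.coeff_sum] at hcoeff
  rw [Finset.sum_eq_single c₁] at hcoeff
  · rw [MvPolynomial.coeff_smul, (hP c₁ hc₁F).coeff_degree, smul_eq_mul, mul_one] at hcoeff
    have hlt₁ : m.degree (P c₁) ≺[m] D := by
      by_contra hcon
      exact hc₁a (hcoeff.trans (hQ _ (not_lt.mp hcon)))
    exact lt_of_le_of_lt (hmax c₀ (Finset.mem_filter.mpr ⟨hc₀F, hc₀⟩)) hlt₁
  · intro c hcF hcc₁
    rw [MvPolynomial.coeff_smul]
    by_cases hac : a c = 0
    · rw [hac, zero_smul]
    · have hcG : c ∈ G := Finset.mem_filter.mpr ⟨hcF, hac⟩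
      have hle := hmax c hcG
      have hne' : m.toSyn (m.degree (P c)) ≠ m.toSyn (m.degree (P c₁)) := by
        intro h
        exact hcc₁ (hinj c hcF c₁ hc₁F (m.toSyn.injective h))
      have hlt : m.degree (P c) ≺[m] m.degree (P c₁) := lt_of_le_of_ne hle hne'
      rw [m.coeff_eq_zero_of_lt hlt, smul_zero]
  · intro h; exact absurd hc₁F h

end MonicCompare

section HibiWeights

/-- The weights of the Hibi degeneration: the `(2d+1)`-adic weight of the diagonal monomial. -/
noncomputable def ωH (θ : Idx d n) : ℕ := wgt (2 * d + 1) (Dexp θ.1)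

theorem inf_le_sup' (i j : Idx d n) : W4bk4grassmannian.inf i j ≤ W4bk4grassmannian.sup i j :=
  fun t => le_trans (min_le_left _ _) (le_max_left _ _)

theorem Dexp_sup_inf (i j : Idx d n) :
    Dexp (W4bk4grassmannian.sup i j).1 + Dexp (W4bk4grassmannian.inf i j).1 =
      Dexp i.1 + Dexp j.1 := by
  ext v
  obtain ⟨l, t, rfl⟩ : ∃ l t, v = toLex (l, t) := ⟨(ofLex v).1, (ofLex v).2, rfl⟩
  rw [Finsupp.add_apply, Finsupp.add_apply, Dexp_apply, Dexp_apply, Dexp_apply, Dexp_apply]
  show (if max (i.1 t) (j.1 t) = l then 1 else 0) + (if min (i.1 t) (j.1 t) = l then 1 else 0) = _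
  rcases le_total (i.1 t) (j.1 t) with h | h
  · rw [max_eq_right h, min_eq_left h, add_comm]
  · rw [max_eq_left h, min_eq_right h]

theorem ωH_sup_inf (i j : Idx d n) :
    ωH (W4bk4grassmannian.sup i j) + ωH (W4bk4grassmannian.inf i j) = ωH i + ωH j := by
  rw [ωH, ωH, ωH, ωH, ← wgt_add, ← wgt_add, Dexp_sup_inf]

theorem sum_Dexp (f : Fin d → Fin n) : ∑ v, Dexp f v = d := by
  rw [← Finsupp.degree_eq_sum, Dexp, map_sum]
  simp [Finsupp.degree_single]

theorem Dchain_two (c : Fin 2 → Idx d n) : Dchain c = Dexp (c 0).1 + Dexp (c 1).1 := by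
  rw [Dchain, Fin.sum_univ_two]

theorem sum_Dchain_two (c : Fin 2 → Idx d n) : ∑ v, Dchain c v ≤ 2 * d := by
  rw [Dchain_two]
  simp only [Finsupp.add_apply]
  rw [Finset.sum_add_distrib, sum_Dexp, sum_Dexp]
  omega

theorem wgt_Dchain_two (c : Fin 2 → Idx d n) :
    wgt (2 * d + 1) (Dchain c) = ωH (c 0) + ωH (c 1) := by
  rw [Dchain_two, wgt_add]
  rfl

end HibiWeights

section Shape

variable (K : Type u) [Field K] [Infinite K] (w : Idx d n)

/-- The pair `(i ∨ j, i ∧ j)`. -/
def cstar (i j : Idx d n) : Pair d n :=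
  ⟨![W4bk4grassmannian.sup i j, W4bk4grassmannian.inf i j],
    Fin.antitone_iff_succ_le.mpr (fun k => by
      fin_cases k
      exact inf_le_sup' i j)⟩

theorem hibi_coeffs (hd : 0 < d) (i j : Idx d n) (hi : i ≤ w) (hj : j ≤ w) (a : Pair d n →₀ K)
    (ha : X i * X j - (a.sum fun c r => r • chainMon K c.1) ∈ plIdealTop K (d := d) (n := n)) :
    a (cstar i j) = 1 ∧ ∀ c ∈ a.support, (∀ k, c.1 k ≤ w) → c ≠ cstar i j →
      toLex (Dchain c.1) < toLex (Dchain (cstar i j).1) := by
  classical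
  set F := a.support.filter (fun c : Pair d n => ∀ k, c.1 k ≤ w) with hF
  obtain ⟨cs, hcs⟩ : ∃ cs, cs = cstar i j := ⟨_, rfl⟩
  rw [← hcs]
  have hsupw : W4bk4grassmannian.sup i j ≤ w := fun t => max_le (hi t) (hj t)
  have hinfw : W4bk4grassmannian.inf i j ≤ w := le_trans (inf_le_sup' i j) hsupw
  have hcsw : ∀ k, cs.1 k ≤ w := by
    intro k
    rw [hcs]
    fin_cases k
    · exact hsupw
    · exact hinfw
  let PP : Pair d n → MvPolynomial (Var d n) K := fun c => ∏ k, pmin K w (c.1 k).1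
  have hev : pmin K w i.1 * pmin K w j.1 = ∑ c ∈ F, a c • PP c := by
    have h0 := evτ_eq_zero_of_mem K w _ (StdMon.plIdealTop_le K w ha)
    rw [map_sub, map_mul, sub_eq_zero] at h0
    have hX : ∀ θ : Idx d n, evτ K w (X θ) = pmin K w θ.1 := fun θ => by rw [evτ, aeval_X]
    rw [hX, hX] at h0
    rw [h0, Finsupp.sum, map_sum, hF, Finset.sum_filter]
    refine Finset.sum_congr rfl (fun c _ => ?_)
    rw [map_smul]
    by_cases hc : ∀ k, c.1 k ≤ w
    · rw [if_pos hc, evτ_chainMon]
    · rw [if_neg hc, evτ_chainMon_eq_zero K w _ hc, smul_zero]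
  let a'' : Pair d n → K := fun c => a c - if c = cs then 1 else 0
  have hsum : ∑ c ∈ insert cs F, a'' c • PP c = pmin K w i.1 * pmin K w j.1 - PP cs := by
    simp only [a'', sub_smul, Finset.sum_sub_distrib]
    congr 1
    · rw [hev]
      symm
      apply Finset.sum_subset (Finset.subset_insert _ _)
      intro c hc hcF
      have hccs : c = cs := by
        rcases Finset.mem_insert.mp hc with h | h
        · exact h
        · exact absurd h hcF
      have h0 : a c = 0 := by
        by_contra hne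
        apply hcF
        rw [hF]
        exact Finset.mem_filter.mpr ⟨Finsupp.mem_support_iff.mpr hne, hccs ▸ hcsw⟩
      rw [h0, zero_smul]
    · rw [Finset.sum_eq_single cs]
      · rw [if_pos rfl, one_smul]
      · intro c _ hc
        rw [if_neg hc, zero_smul]
      · intro h; exact absurd (Finset.mem_insert_self _ _) h
  have hmonic : ∀ c ∈ insert cs F, (MonomialOrder.lex).Monic (PP c) ∧
      (MonomialOrder.lex).degree (PP c) = Dchain c.1 := by
    intro c hc
    apply chain_monic K w c.1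
    rcases Finset.mem_insert.mp hc with h | h
    · rw [h]; exact hcsw
    · rw [hF] at h; exact (Finset.mem_filter.mp h).2
  have hij : ∀ k, (![i, j] : Fin 2 → Idx d n) k ≤ w := by
    intro k
    fin_cases k
    · exact hi
    · exact hj
  have hP' := chain_monic K w ![i, j] hij
  have hprod : ∏ k, pmin K w ((![i, j] : Fin 2 → Idx d n) k).1 =
      pmin K w i.1 * pmin K w j.1 := by
    rw [Fin.prod_univ_two]; rfl
  rw [hprod] at hP'
  have hD : Dchain (![i, j] : Fin 2 → Idx d n) = Dchain cs.1 := by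
    rw [Dchain_two, Dchain_two, hcs]
    exact (Dexp_sup_inf i j).symm
  have hcsmonic := chain_monic K w cs.1 hcsw
  have hQ : ∀ e, Dchain cs.1 ≼[MonomialOrder.lex] e →
      coeff e (pmin K w i.1 * pmin K w j.1 - PP cs) = 0 := by
    intro e he
    rw [coeff_sub]
    rcases he.eq_or_lt with heq | hlt
    · have heq' : Dchain cs.1 = e := (MonomialOrder.lex).toSyn.injective heq
      have c1 : coeff e (pmin K w i.1 * pmin K w j.1) = 1 := by
        have := hP'.1.coeff_degree
        rwa [hP'.2, hD, heq'] at this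
      have c2 : coeff e (PP cs) = 1 := by
        have := hcsmonic.1.coeff_degree
        rwa [hcsmonic.2, heq'] at this
      rw [c1, c2, sub_self]
    · have c1 : coeff e (pmin K w i.1 * pmin K w j.1) = 0 := by
        apply (MonomialOrder.lex).coeff_eq_zero_of_lt
        rw [hP'.2, hD]; exact hlt
      have c2 : coeff e (PP cs) = 0 := by
        apply (MonomialOrder.lex).coeff_eq_zero_of_lt
        rw [hcsmonic.2]; exact hlt
      rw [c1, c2, sub_self]
  have key := degree_lt_of_sum_monic (MonomialOrder.lex) (insert cs F) PP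
    (fun c hc => (hmonic c hc).1)
    (fun c hc c' hc' hdeg => by
      rw [(hmonic c hc).2, (hmonic c' hc').2] at hdeg
      exact pairChain_injective (Dchain_injective hd (pairChain c) (pairChain c') hdeg))
    a'' _ (Dchain cs.1) hQ hsum
  constructor
  · by_contra hne
    have h1 : a'' cs ≠ 0 := by
      show a cs - (if cs = cs then 1 else 0) ≠ 0
      rw [if_pos rfl]
      exact sub_ne_zero.mpr hne
    have h2 := key cs (Finset.mem_insert_self _ _) h1
    rw [(hmonic cs (Finset.mem_insert_self _ _)).2] at h2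
    exact lt_irrefl _ h2
  · intro c hc hcw hne
    have hcF : c ∈ insert cs F :=
      Finset.mem_insert_of_mem (by rw [hF]; exact Finset.mem_filter.mpr ⟨hc, hcw⟩)
    have h1 : a'' c ≠ 0 := by
      show a c - (if c = cs then 1 else 0) ≠ 0
      rw [if_neg hne, sub_zero]
      exact Finsupp.mem_support_iff.mp hc
    have h2 := key c hcF h1
    rw [(hmonic c hcF).2] at h2
    exact MonomialOrder.lex_lt_iff.mp h2

/-- **Shape of the straightening relations** on `X(w)`: `x_i x_j - x_{i∨j} x_{i∧j}` is a combination of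
standard monomials of strictly smaller weight. -/
theorem hibi_shape (hd : 0 < d) (i j : Idx d n) (hi : i ≤ w) (hj : j ≤ w) :
    xw K w i * xw K w j - xw K w (W4bk4grassmannian.sup i j) * xw K w (W4bk4grassmannian.inf i j) ∈
      Submodule.span K {y | ∃ α β : Idx d n, β ≤ α ∧ α ≤ w ∧ ωH α + ωH β < ωH i + ωH j ∧
        y = xw K w α * xw K w β} := by
  classical
  obtain ⟨a, ha⟩ := exists_rep2 K i j
  obtain ⟨h1, h2⟩ := hibi_coeffs K w hd i j hi hj a ha
  have hcs_mem : cstar i j ∈ a.support := by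
    rw [Finsupp.mem_support_iff, h1]; exact one_ne_zero
  rw [xw_mul_eq K w i j a ha, Finsupp.sum, ← Finset.add_sum_erase _ _ hcs_mem, h1, one_smul]
  have hcs0 : (cstar i j).1 0 = W4bk4grassmannian.sup i j := rfl
  have hcs1 : (cstar i j).1 1 = W4bk4grassmannian.inf i j := rfl
  rw [hcs0, hcs1, add_sub_cancel_left]
  refine Submodule.sum_mem _ (fun c hc => Submodule.smul_mem _ _ ?_)
  by_cases hcw : c.1 0 ≤ w
  · have hcw' : ∀ k, c.1 k ≤ w := fun k => le_trans (c.2 (Fin.zero_le k)) hcw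
    have hlex := h2 c (Finset.mem_of_mem_erase hc) hcw' (Finset.ne_of_mem_erase hc)
    have hw := wgt_lt_of_lex (2 * d + 1) (2 * d) (by omega) _ _ (sum_Dchain_two c.1) hlex
    rw [wgt_Dchain_two, wgt_Dchain_two, hcs0, hcs1, ωH_sup_inf] at hw
    exact Submodule.subset_span ⟨c.1 0, c.1 1, c.2 (Fin.zero_le 1), hcw, hw, rfl⟩
  · rw [xw_eq_zero K w _ hcw, zero_mul]
    exact Submodule.zero_mem _

end Shape

section HibiFamily

variable (K : Type u) [Field K] [Infinite K] (w : Idx d n)

theorem lt_sup_left {i j : Idx d n} (hji : ¬ j ≤ i) : i < W4bk4grassmannian.sup i j := by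
  refine lt_of_le_of_ne (fun t => le_max_left _ _) (fun h => hji ?_)
  intro t
  have h1 : (W4bk4grassmannian.sup i j).1 t = i.1 t := by rw [← h]
  have h2 : max (i.1 t) (j.1 t) = i.1 t := h1
  exact h2 ▸ le_max_right _ _

theorem lt_sup_right {i j : Idx d n} (hij : ¬ i ≤ j) : j < W4bk4grassmannian.sup i j := by
  refine lt_of_le_of_ne (fun t => le_max_right _ _) (fun h => hij ?_)
  intro t
  have h1 : (W4bk4grassmannian.sup i j).1 t = j.1 t := by rw [← h]
  have h2 : max (i.1 t) (j.1 t) = j.1 t := h1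
  exact h2 ▸ le_max_left _ _

theorem slq_Hibi (hd : 0 < d) : SLQ (K := K) (xw K w) w ωH ωS := by
  intro i j hi hj hij hji
  have h := hibi_shape K w hd i j hi hj
  have hsplit : xw K w i * xw K w j =
      xw K w (W4bk4grassmannian.sup i j) * xw K w (W4bk4grassmannian.inf i j) +
        (xw K w i * xw K w j -
          xw K w (W4bk4grassmannian.sup i j) * xw K w (W4bk4grassmannian.inf i j)) := by ring
  rw [hsplit]
  refine Submodule.add_mem _ ?_ ?_
  · exact Submodule.subset_span ⟨W4bk4grassmannian.sup i j, W4bk4grassmannian.inf i j,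
      ⟨inf_le_sup' i j, fun t => max_le (hi t) (hj t),
        Or.inr ⟨ωH_sup_inf i j, ωS_lt _ (lt_sup_left hji) (lt_sup_right hij)⟩⟩, rfl⟩
  · refine Submodule.span_mono ?_ h
    rintro y ⟨α, β, hβα, hα, hlt, rfl⟩
    exact ⟨α, β, ⟨hβα, hα, Or.inl hlt⟩, rfl⟩

theorem hibi_hker (hd : 0 < d) (h : Degen.Hyp (bW K w hd) (ωC w ωH)) :
    ∀ f ∈ hibiIdeal K w, aeval (ξ K w ωH hd h) f = 0 := by
  intro f hf
  have hle : hibiIdeal K w ≤ RingHom.ker (aeval (ξ K w ωH hd h)).toRingHom := by
    rw [hibiIdeal, Ideal.span_le]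
    rintro f ⟨a, b, rfl⟩
    rw [SetLike.mem_coe, RingHom.mem_ker]
    show aeval (ξ K w ωH hd h) (X a * X b - X (Below.sup a b) * X (Below.inf a b)) = 0
    rw [map_sub, map_mul, map_mul, aeval_X, aeval_X, aeval_X, aeval_X,
      ξ_mul K w ωH hd h a b (xw_mul_mem_G K w ωH hd h a b),
      ξ_mul K w ωH hd h (Below.sup a b) (Below.inf a b)
        (xw_mul_mem_G K w ωH hd h (Below.sup a b) (Below.inf a b)), ← map_sub]
    have hN : ωH (Below.sup a b).1 + ωH (Below.inf a b).1 = ωH a.1 + ωH b.1 :=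
      ωH_sup_inf a.1 b.1
    have hmem' : xw K w (Below.sup a b).1 * xw K w (Below.inf a b).1 ∈
        Degen.G (bW K w hd) (ωC w ωH) (ωH a.1 + ωH b.1) := by
      rw [← hN]; exact xw_mul_mem_G K w ωH hd h (Below.sup a b) (Below.inf a b)
    rw [Degen.mkR_congr h hN rfl _ hmem', Degen.mkR_sub]
    exact Ideal.Quotient.eq_zero_iff_mem.mpr
      (Degen.mkR_mem_span_X h _ _
        (strict_mem K w ωH hd _ _ (hibi_shape K w hd a.1 b.1 a.2 b.2)) _)
  exact hle hf

theorem hibi_slq₀ : SLQ (K := K) (x₀ K w (hibiIdeal K w)) w (fun _ => 0) ωS := by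
  intro i j hi hj hij hji
  have hsupw : W4bk4grassmannian.sup i j ≤ w := fun t => max_le (hi t) (hj t)
  have hinfw : W4bk4grassmannian.inf i j ≤ w := le_trans (inf_le_sup' i j) hsupw
  have h0 : x₀ K w (hibiIdeal K w) i * x₀ K w (hibiIdeal K w) j =
      x₀ K w (hibiIdeal K w) (W4bk4grassmannian.sup i j) *
        x₀ K w (hibiIdeal K w) (W4bk4grassmannian.inf i j) := by
    rw [x₀_of_le K w _ ⟨i, hi⟩, x₀_of_le K w _ ⟨j, hj⟩,
      x₀_of_le K w _ ⟨W4bk4grassmannian.sup i j, hsupw⟩,
      x₀_of_le K w _ ⟨W4bk4grassmannian.inf i j, hinfw⟩, ← map_mul, ← map_mul]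
    exact Ideal.Quotient.eq.mpr (Ideal.subset_span ⟨⟨i, hi⟩, ⟨j, hj⟩, rfl⟩)
  rw [h0]
  exact Submodule.subset_span ⟨W4bk4grassmannian.sup i j, W4bk4grassmannian.inf i j,
    ⟨inf_le_sup' i j, hsupw, Or.inr ⟨rfl, ωS_lt _ (lt_sup_left hji) (lt_sup_right hij)⟩⟩, rfl⟩

/-- The cone over a Schubert variety degenerates flatly to the Hibi ring of `H(w)`. -/
theorem exists_family_Hibi (hd : 0 < d) :
    ∃ (R : Type u) (_ : CommRing R) (_ : Algebra K R) (_ : Algebra (Polynomial K) R)
      (_ : IsScalarTower K (Polynomial K) R),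
      Module.Free (Polynomial K) R ∧
      Nonempty ((R ⧸ Ideal.span {algebraMap (Polynomial K) R Polynomial.X}) ≃ₐ[K]
        (MvPolynomial (Below w) K ⧸ hibiIdeal K w)) ∧
      ∀ c : K, c ≠ 0 →
        Nonempty ((R ⧸ Ideal.span {algebraMap (Polynomial K) R
            (Polynomial.X - Polynomial.C c)}) ≃ₐ[K]
          (PlRing K d n ⧸ schubertVanishing K d n w)) := by
  have h : Degen.Hyp (bW K w hd) (ωC w ωH) := hyp K w ωH ωS hd (slq_Hibi K w hd)
  refine ⟨Degen.rees h, inferInstance, inferInstance, Degen.instAlgR h, Degen.instTowerR h,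
    Degen.free_R h, ⟨?_⟩, fun c hc => ⟨Degen.fibreEquiv h c hc⟩⟩
  exact (AlgEquiv.ofBijective _ (Ψ₀_bijective K w ωH hd h (hibiIdeal K w) (hibi_hker K w hd h)
    _ _ (hibi_slq₀ K w))).symm

end HibiFamily

end Groth.Agent.Lib.Seat50.HibiDegen
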