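import Mathlib

/-!
# Nagata's criterion (one prime element) via Kaplansky's criterion
-/

namespace Groth.Agent.Lib.Seat50.Nagata

open UniqueFactorizationMonoid

/-- If `s` is prime, does not divide `a'`, and `s ^ m * x = a' * c`, then `a' ∣ x`. -/
theorem dvd_of_pow_mul_eq {R : Type*} [CommRing R] [IsDomain R] {s a' : R} (hp : Prime s)
    (hsa : ¬ s ∣ a') : ∀ (m : ℕ) (x c : R), s ^ m * x = a' * c → a' ∣ x := by
  intro m
  induction m with
  | zero =>
    intro x c h
    exact ⟨c, by simpa using h⟩
  | succ m ih =>
    intro x c h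
    have h1 : s ∣ a' * c := ⟨s ^ m * x, by rw [← h]; ring⟩
    rcases hp.dvd_or_dvd h1 with h2 | h2
    · exact absurd h2 hsa
    · obtain ⟨c', rfl⟩ := h2
      apply ih x c'
      have : s * (s ^ m * x) = s * (a' * c') := by
        rw [← mul_assoc, ← pow_succ', h]; ring
      exact mul_left_cancel₀ hp.ne_zero this

/-- Nagata's criterion for a single prime element: if `s` is a prime element of a domain `R`
satisfying the divisor chain condition and `R[1/s]` is a UFD, then `R` is a UFD. -/
theorem ufm_of_ufm_away {R : Type*} [CommRing R] [IsDomain R] [WfDvdMonoid R]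
    (s : R) (hp : Prime s) (S : Type*) [CommRing S] [IsDomain S] [Algebra R S]
    [IsLocalization.Away s S] [UniqueFactorizationMonoid S] : UniqueFactorizationMonoid R := by
  rw [iff_exists_prime_mem_of_isPrime]
  intro I hI0 hI
  by_cases hsI : s ∈ I
  · exact ⟨s, hsI, hp⟩
  have hle : Submonoid.powers s ≤ nonZeroDivisors R :=
    Submonoid.powers_le.mpr (mem_nonZeroDivisors_of_ne_zero hp.ne_zero)
  have hinj : Function.Injective (algebraMap R S) := IsLocalization.injective S hle
  have hdisj : Disjoint (Submonoid.powers s : Set R) (I : Set R) := by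
    rw [Set.disjoint_left]
    rintro _ ⟨n, rfl⟩ hn
    exact hsI (hI.mem_of_pow_mem n hn)
  have hJprime : (I.map (algebraMap R S)).IsPrime :=
    IsLocalization.isPrime_of_isPrime_disjoint (Submonoid.powers s) S I hI hdisj
  have hJ0 : I.map (algebraMap R S) ≠ ⊥ := by
    intro h
    apply hI0
    rw [eq_bot_iff]
    intro x hx
    have : algebraMap R S x ∈ I.map (algebraMap R S) := Ideal.mem_map_of_mem _ hx
    rw [h, Ideal.mem_bot] at this
    rw [Ideal.mem_bot]
    exact hinj (by rw [this, map_zero])
  obtain ⟨π, hπJ, hπ⟩ :=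
    (iff_exists_prime_mem_of_isPrime (R := S)).mp inferInstance _ hJ0 hJprime
  obtain ⟨⟨a, t⟩, hat⟩ := IsLocalization.surj (Submonoid.powers s) π
  simp only at hat
  have htunit : IsUnit (algebraMap R S (t : R)) := IsLocalization.map_units S t
  have haprime : Prime (algebraMap R S a) := by
    rw [← hat]
    exact (Associated.prime_iff (associated_mul_unit_right π _ htunit)).mp hπ
  have haJ : algebraMap R S a ∈ I.map (algebraMap R S) := by
    rw [← hat]
    exact Ideal.mul_mem_right _ _ hπJ
  have haI : a ∈ I := by
    have h := IsLocalization.under_map_of_isPrime_disjoint (Submonoid.powers s) S hI hdisj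
    rw [← h]
    exact haJ
  have ha0 : a ≠ 0 := by
    rintro rfl
    exact haprime.ne_zero (map_zero _)
  have hfin : FiniteMultiplicity s a := FiniteMultiplicity.of_not_isUnit hp.not_isUnit ha0
  obtain ⟨a', ha', hsa'⟩ := hfin.exists_eq_pow_mul_and_not_dvd
  set k := multiplicity s a with hk
  have ha'I : a' ∈ I := by
    rw [ha'] at haI
    rcases hI.mem_or_mem haI with h | h
    · exact absurd (hI.mem_of_pow_mem _ h) hsI
    · exact h
  have hskunit : IsUnit (algebraMap R S (s ^ k)) :=
    IsLocalization.map_units S (⟨s ^ k, k, rfl⟩ : Submonoid.powers s)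
  have ha'prime : Prime (algebraMap R S a') := by
    have : algebraMap R S a = algebraMap R S (s ^ k) * algebraMap R S a' := by
      rw [← map_mul, ← ha']
    rw [this] at haprime
    exact (Associated.prime_iff (associated_unit_mul_left _ _ hskunit)).mp haprime
  refine ⟨a', ha'I, ?_, ?_, ?_⟩
  · rintro rfl
    exact ha'prime.ne_zero (map_zero _)
  · intro hu
    exact ha'prime.not_isUnit (hu.map (algebraMap R S))
  · intro x y hxy
    have key : ∀ z : R, algebraMap R S a' ∣ algebraMap R S z → a' ∣ z := by
      intro z hz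
      obtain ⟨w, hw⟩ := hz
      obtain ⟨⟨c, u⟩, hcu⟩ := IsLocalization.surj (Submonoid.powers s) w
      simp only at hcu
      obtain ⟨m, hm⟩ := u.2
      have hm' : s ^ m = (u : R) := hm
      have h1 : algebraMap R S (s ^ m * z) = algebraMap R S (a' * c) := by
        rw [map_mul, map_mul, hw, ← hcu, hm']
        ring
      exact dvd_of_pow_mul_eq hp hsa' m z c (hinj h1)
    have h2 : algebraMap R S a' ∣ algebraMap R S x * algebraMap R S y := by
      rw [← map_mul]
      exact map_dvd (algebraMap R S) hxy
    rcases ha'prime.dvd_or_dvd h2 with h | h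
    · exact Or.inl (key x h)
    · exact Or.inr (key y h)

end Groth.Agent.Lib.Seat50.Nagata
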