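import Mathlib

/-!
# Normality descends from `A[1/x]` when `A/xA` is reduced (helper50)

`isIntegrallyClosed_of_away`: for a domain `A` and `x ≠ 0` with `(x)` a radical ideal, if the
localization `A[1/x]` is integrally closed then so is `A`.
-/

namespace Groth.Agent.Lib.Seat50.NormalAway

open Polynomial

variable {A : Type*} [CommRing A] [IsDomain A]

/-- If `y / x` is integral over `A` and `(x)` is radical, then `x ∣ y`. -/
theorem mem_span_of_isIntegral_div (x : A) (hx : x ≠ 0) (hrad : (Ideal.span {x}).IsRadical)
    (y : A) (h : IsIntegral A (algebraMap A (FractionRing A) y / algebraMap A (FractionRing A) x)) :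
    y ∈ Ideal.span {x} := by
  obtain ⟨p, hp, hroot⟩ := h
  have hinj : Function.Injective (algebraMap A (FractionRing A)) :=
    IsFractionRing.injective A (FractionRing A)
  have h0 := scaleRoots_eval₂_eq_zero_of_eval₂_div_eq_zero hinj hroot
    (mem_nonZeroDivisors_of_ne_zero hx)
  rw [eval₂_at_apply] at h0
  have h1 : eval y (scaleRoots p x) = 0 := hinj (by rw [h0, map_zero])
  rw [eval_eq_sum_range, natDegree_scaleRoots, Finset.sum_range_succ, coeff_scaleRoots_natDegree,
    hp.leadingCoeff, one_mul] at h1
  have hmem : ∑ i ∈ Finset.range p.natDegree, (scaleRoots p x).coeff i * y ^ i ∈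
      Ideal.span {x} := by
    refine Ideal.sum_mem _ (fun i hi => ?_)
    rw [coeff_scaleRoots]
    have hi' : i < p.natDegree := Finset.mem_range.mp hi
    obtain ⟨k, hk⟩ : ∃ k, p.natDegree - i = k + 1 := ⟨p.natDegree - i - 1, by omega⟩
    rw [hk, pow_succ]
    apply Ideal.mul_mem_right
    apply Ideal.mul_mem_left
    apply Ideal.mul_mem_left
    exact Ideal.subset_span rfl
  have hpow : y ^ p.natDegree ∈ Ideal.span {x} := by
    have : y ^ p.natDegree = - ∑ i ∈ Finset.range p.natDegree, (scaleRoots p x).coeff i * y ^ i :=
      eq_neg_of_add_eq_zero_right h1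
    rw [this]
    exact (Ideal.neg_mem_iff _).mpr hmem
  exact hrad ⟨p.natDegree, hpow⟩

theorem exists_of_isIntegral_div_pow (x : A) (hx : x ≠ 0) (hrad : (Ideal.span {x}).IsRadical)
    (k : ℕ) (a : A)
    (h : IsIntegral A
      (algebraMap A (FractionRing A) a / (algebraMap A (FractionRing A) x) ^ k)) :
    ∃ y : A, algebraMap A (FractionRing A) y =
      algebraMap A (FractionRing A) a / (algebraMap A (FractionRing A) x) ^ k := by
  have hx' : algebraMap A (FractionRing A) x ≠ 0 := by
    intro h0
    exact hx ((IsFractionRing.injective A (FractionRing A)) (by rw [h0, map_zero]))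
  induction k generalizing a with
  | zero => exact ⟨a, by rw [pow_zero, div_one]⟩
  | succ k ih =>
    have h1 : IsIntegral A (algebraMap A (FractionRing A) a / algebraMap A (FractionRing A) x) := by
      have : algebraMap A (FractionRing A) a / algebraMap A (FractionRing A) x =
          algebraMap A (FractionRing A) (x ^ k) *
            (algebraMap A (FractionRing A) a / (algebraMap A (FractionRing A) x) ^ (k + 1)) := by
        rw [map_pow]
        field_simp
        ring
      rw [this]
      exact IsIntegral.mul isIntegral_algebraMap h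
    have h2 := mem_span_of_isIntegral_div x hx hrad a h1
    obtain ⟨a', ha'⟩ := Ideal.mem_span_singleton'.mp h2
    have h3 : algebraMap A (FractionRing A) a / (algebraMap A (FractionRing A) x) ^ (k + 1) =
        algebraMap A (FractionRing A) a' / (algebraMap A (FractionRing A) x) ^ k := by
      rw [← ha', map_mul]
      field_simp
      ring
    rw [h3] at h ⊢
    exact ih a' h

/-- Normality descends from `A[1/x]` to `A` when `(x)` is a radical ideal. -/
theorem isIntegrallyClosed_of_away (x : A) (hx : x ≠ 0) (hrad : (Ideal.span {x}).IsRadical)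
    (B : Type*) [CommRing B] [Algebra A B] [IsLocalization.Away x B] [IsIntegrallyClosed B] :
    IsIntegrallyClosed A := by
  have hle : Submonoid.powers x ≤ nonZeroDivisors A :=
    Submonoid.powers_le.mpr (mem_nonZeroDivisors_of_ne_zero hx)
  have hBdom : IsDomain B := IsLocalization.isDomain_of_le_nonZeroDivisors B hle
  have hx' : algebraMap A (FractionRing A) x ≠ 0 := by
    intro h0
    exact hx ((IsFractionRing.injective A (FractionRing A)) (by rw [h0, map_zero]))
  have hunit : IsUnit (algebraMap A (FractionRing A) x) := isUnit_iff_ne_zero.mpr hx'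
  letI : Algebra B (FractionRing A) := (IsLocalization.Away.lift x hunit).toAlgebra
  have htower : IsScalarTower A B (FractionRing A) :=
    IsScalarTower.of_algebraMap_eq (fun a => (IsLocalization.Away.lift_eq x hunit a).symm)
  have hfrac : IsFractionRing B (FractionRing A) :=
    IsFractionRing.isFractionRing_of_isDomain_of_isLocalization (Submonoid.powers x) B
      (FractionRing A)
  rw [isIntegrallyClosed_iff (FractionRing A)]
  intro z hz
  have hzB : IsIntegral B z := hz.tower_top
  obtain ⟨b, hb⟩ := (isIntegrallyClosed_iff (FractionRing A)).mp (inferInstance : IsIntegrallyClosed B) hzB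
  obtain ⟨k, a, hka⟩ := IsLocalization.Away.surj x b
  -- b * x^k = a in B, so z * x^k = a in Frac A
  have hz_eq : z = algebraMap A (FractionRing A) a / (algebraMap A (FractionRing A) x) ^ k := by
    have h1 := congrArg (algebraMap B (FractionRing A)) hka
    rw [map_mul, map_pow, hb, ← IsScalarTower.algebraMap_apply,
      ← IsScalarTower.algebraMap_apply] at h1
    rw [← h1]
    field_simp
  rw [hz_eq] at hz ⊢
  exact exists_of_isIntegral_div_pow x hx hrad k a hz

end Groth.Agent.Lib.Seat50.NormalAway
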