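import Mathlib

/-!
# Seat50PerfAlg (helper50): rings on which the `p`-th power map is bijective (perfect rings without
`CharP` instances), flatness of `rad(f)`, reducedness of tensor products, injectivity of
`rad(f) ⊗ C → A' ⊗ C`, perfectness of monoid algebras.
-/

set_option autoImplicit false
set_option linter.unusedSectionVars false
universe u
open scoped TensorProduct

namespace Groth.Agent.Lib.Seat50.PerfAlg

/-- the `p`-th power map is bijective. -/
def PowBij (p : ℕ) (R : Type*) [Monoid R] : Prop := Function.Bijective (fun x : R => x ^ p)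

section monoid
variable {p : ℕ} {R : Type*} [CommMonoid R]

theorem PowBij.iterate (h : PowBij p R) (n : ℕ) : Function.Bijective (fun x : R => x ^ p ^ n) := by
  induction n with
  | zero =>
    have : (fun x : R => x ^ p ^ 0) = id := by funext x; simp
    rw [this]
    exact Function.bijective_id
  | succ n ih =>
    have : (fun x : R => x ^ p ^ (n + 1)) = (fun x : R => x ^ p) ∘ (fun x : R => x ^ p ^ n) := by
      funext x
      simp [pow_succ, pow_mul]
    rw [this]
    exact h.comp ih

/-- the `p^n`-th root. -/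
noncomputable def PowBij.rtn (h : PowBij p R) (n : ℕ) (x : R) : R :=
  (Equiv.ofBijective _ (h.iterate n)).symm x

theorem PowBij.rtn_pow (h : PowBij p R) (n : ℕ) (x : R) : h.rtn n x ^ p ^ n = x :=
  (Equiv.ofBijective _ (h.iterate n)).apply_symm_apply x

theorem PowBij.pow_inj (h : PowBij p R) (n : ℕ) {x y : R} (hxy : x ^ p ^ n = y ^ p ^ n) : x = y :=
  (h.iterate n).injective hxy

theorem PowBij.rtn_succ_pow (h : PowBij p R) (n : ℕ) (x : R) : h.rtn (n + 1) x ^ p = h.rtn n x := by
  apply h.pow_inj n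
  rw [← pow_mul, ← pow_succ', h.rtn_pow, h.rtn_pow]

theorem PowBij.rtn_mul (h : PowBij p R) (n : ℕ) (x y : R) :
    h.rtn n (x * y) = h.rtn n x * h.rtn n y := by
  apply h.pow_inj n
  rw [mul_pow, h.rtn_pow, h.rtn_pow, h.rtn_pow]

theorem PowBij.rtn_of_pow (h : PowBij p R) (n : ℕ) (x : R) : h.rtn n (x ^ p ^ n) = x := by
  apply h.pow_inj n
  rw [h.rtn_pow]

end monoid

section ring
variable {p : ℕ} {R : Type*} [CommRing R]

theorem add_pow_prime' (hp : p.Prime) (hp0 : (p : R) = 0) (x y : R) :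
    (x + y) ^ p = x ^ p + y ^ p := by
  obtain ⟨r, hr⟩ := exists_add_pow_prime_eq hp x y
  rw [hr, hp0]
  ring

theorem sum_pow_prime' (hp : p.Prime) (hp0 : (p : R) = 0) {ι : Type*} (s : Finset ι) (f : ι → R) :
    (∑ i ∈ s, f i) ^ p = ∑ i ∈ s, f i ^ p := by
  classical
  induction s using Finset.induction_on with
  | empty => simp [hp.ne_zero]
  | insert a s ha ih => rw [Finset.sum_insert ha, Finset.sum_insert ha, add_pow_prime' hp hp0, ih]

theorem PowBij.eq_zero_of_pow_eq_zero (h : PowBij p R) (hp : p.Prime) {x : R} {n : ℕ}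
    (hx : x ^ n = 0) : x = 0 := by
  have h1 : x ^ p ^ n = 0 := by
    have hle : n ≤ p ^ n := (Nat.lt_pow_self hp.one_lt).le
    obtain ⟨k, hk⟩ := Nat.exists_eq_add_of_le hle
    rw [hk, pow_add, hx, zero_mul]
  apply h.pow_inj n
  rw [h1, zero_pow (pow_ne_zero _ hp.ne_zero)]

theorem PowBij.rtn_add (h : PowBij p R) (hp : p.Prime) (hp0 : (p : R) = 0) (x y : R) :
    h.rtn 1 (x + y) = h.rtn 1 x + h.rtn 1 y := by
  apply h.pow_inj 1
  rw [pow_one, add_pow_prime' hp hp0]
  have := h.rtn_pow 1
  simp only [pow_one] at this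
  rw [this, this, this]

theorem PowBij.rtn_zero (h : PowBij p R) (hp : p.Prime) (n : ℕ) : h.rtn n (0 : R) = 0 := by
  apply h.pow_inj n
  rw [h.rtn_pow, zero_pow (pow_ne_zero _ hp.ne_zero)]

/-- elements of `rad(f)` are multiples of the `p^n`-th roots of `f`. -/
theorem PowBij.mem_radical_span_singleton (h : PowBij p R) (hp : p.Prime) (f x : R)
    (hx : x ∈ (Ideal.span {f}).radical) : ∃ n c, x = c * h.rtn n f := by
  obtain ⟨m, hm⟩ := hx
  obtain ⟨c, hc⟩ := Ideal.mem_span_singleton.mp hm
  have hmle : m ≤ p ^ m := (Nat.lt_pow_self hp.one_lt).le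
  refine ⟨m, h.rtn m (x ^ (p ^ m - m) * c), ?_⟩
  apply h.pow_inj m
  rw [mul_pow, h.rtn_pow, h.rtn_pow, mul_assoc, mul_comm c f, ← hc, ← pow_add,
    Nat.sub_add_cancel hmle]

theorem PowBij.rtn_mem_radical (h : PowBij p R) (f : R) (n : ℕ) :
    h.rtn n f ∈ (Ideal.span {f}).radical :=
  ⟨p ^ n, by rw [h.rtn_pow]; exact Ideal.subset_span rfl⟩

theorem PowBij.rtn_eq_mul_succ (h : PowBij p R) (hp : p.Prime) (f : R) (n : ℕ) :
    h.rtn n f = h.rtn (n + 1) f ^ (p - 1) * h.rtn (n + 1) f := by
  rw [← pow_succ, Nat.sub_add_cancel hp.one_le, h.rtn_succ_pow]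

theorem PowBij.exists_mul_rtn_of_le (h : PowBij p R) (hp : p.Prime) (f x : R) {n m : ℕ}
    (hnm : n ≤ m) (hx : ∃ c, x = c * h.rtn n f) : ∃ c, x = c * h.rtn m f := by
  induction m, hnm using Nat.le_induction with
  | base => exact hx
  | succ m _ ih =>
    obtain ⟨c, rfl⟩ := ih
    exact ⟨c * h.rtn (m + 1) f ^ (p - 1), by rw [mul_assoc, ← h.rtn_eq_mul_succ hp]⟩

theorem PowBij.mul_rtn_succ_eq_zero (h : PowBij p R) (hp : p.Prime) (f s : R) (n : ℕ)
    (hs : s * h.rtn n f = 0) : s * h.rtn (n + 1) f = 0 := by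
  apply h.eq_zero_of_pow_eq_zero hp (n := p)
  rw [mul_pow, h.rtn_succ_pow]
  have : s ^ p = s ^ (p - 1) * s := by rw [← pow_succ, Nat.sub_add_cancel hp.one_le]
  rw [this, mul_assoc, hs, mul_zero]

/-- `rad(f)` is flat over a ring with bijective `p`-th power map. -/
theorem PowBij.flat_radical_span_singleton (h : PowBij p R) (hp : p.Prime) (f : R) :
    Module.Flat R ((Ideal.span {f}).radical) := by
  classical
  apply Module.Flat.of_forall_isTrivialRelation
  intro l a x hax
  have hx : ∀ i, ∃ n c, (x i : R) = c * h.rtn n f :=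
    fun i => h.mem_radical_span_singleton hp f _ (x i).2
  choose n c hc using hx
  set N := Finset.univ.sup n with hN
  have hx' : ∀ i, ∃ c', (x i : R) = c' * h.rtn N f := fun i =>
    h.exists_mul_rtn_of_le hp f _ (Finset.le_sup (Finset.mem_univ i)) ⟨c i, hc i⟩
  choose c' hc' using hx'
  have hs : (∑ i, a i * c' i) * h.rtn N f = 0 := by
    have := congrArg (Submodule.subtype _) hax
    simp only [map_sum, map_smul, Submodule.subtype_apply, map_zero, smul_eq_mul] at this
    rw [Finset.sum_mul, ← this]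
    apply Finset.sum_congr rfl
    intro i _
    rw [hc' i, mul_assoc]
  have hs' := h.mul_rtn_succ_eq_zero hp f _ _ hs
  refine ⟨1, fun i _ => c' i * h.rtn (N + 1) f ^ (p - 1),
    fun _ => ⟨h.rtn (N + 1) f, h.rtn_mem_radical f _⟩, ?_, ?_⟩
  · intro i
    apply Subtype.ext
    rw [Fin.sum_univ_one]
    show (x i : R) = (c' i * h.rtn (N + 1) f ^ (p - 1)) * h.rtn (N + 1) f
    rw [mul_assoc, ← h.rtn_eq_mul_succ hp, hc' i]
  · intro _
    obtain ⟨q, hq⟩ : ∃ q, p = q + 2 := ⟨p - 2, by have := hp.two_le; omega⟩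
    have : ∀ i, a i * (c' i * h.rtn (N + 1) f ^ (p - 1)) =
        (a i * c' i) * h.rtn (N + 1) f ^ (p - 1) := fun i => (mul_assoc _ _ _).symm
    simp only [this]
    rw [← Finset.sum_mul]
    have h2 : p - 1 = q + 1 := by omega
    rw [h2, pow_succ', ← mul_assoc, hs', zero_mul]

end ring


section tensor
variable {p : ℕ} {A A' C : Type*} [CommRing A] [CommRing A'] [CommRing C] [Algebra A A']
  [Algebra A C]

theorem natCast_eq_zero_of_algebra (hp0 : (p : A) = 0) (R : Type*) [CommRing R] [Algebra A R] :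
    (p : R) = 0 := by
  rw [← map_natCast (algebraMap A R), hp0, map_zero]

theorem PowBij.rtn_one_algebraMap (hA : PowBij p A) (hA' : PowBij p A') (a : A) :
    hA'.rtn 1 (algebraMap A A' a) = algebraMap A A' (hA.rtn 1 a) := by
  apply hA'.pow_inj 1
  rw [hA'.rtn_pow, ← map_pow, hA.rtn_pow]

/-- the additive "inverse Frobenius" on `A' ⊗[A] C`. -/
noncomputable def invFrobTensor (hp : p.Prime) (hp0 : (p : A) = 0) (hA : PowBij p A)
    (hA' : PowBij p A') (hC : PowBij p C) : A' ⊗[A] C →+ A' ⊗[A] C :=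
  TensorProduct.liftAddHom
    { toFun := fun a' =>
        { toFun := fun c => hA'.rtn 1 a' ⊗ₜ[A] hC.rtn 1 c
          map_zero' := by rw [hC.rtn_zero hp, TensorProduct.tmul_zero]
          map_add' := fun c c' => by
            rw [hC.rtn_add hp (natCast_eq_zero_of_algebra hp0 C), TensorProduct.tmul_add] }
      map_zero' := by
        ext c
        show hA'.rtn 1 0 ⊗ₜ[A] hC.rtn 1 c = 0
        rw [hA'.rtn_zero hp, TensorProduct.zero_tmul]
      map_add' := fun a' b' => by
        ext c
        show hA'.rtn 1 (a' + b') ⊗ₜ[A] hC.rtn 1 c = _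
        rw [hA'.rtn_add hp (natCast_eq_zero_of_algebra hp0 A'), TensorProduct.add_tmul]
        rfl }
    (by
      intro a a' c
      show hA'.rtn 1 (a • a') ⊗ₜ[A] hC.rtn 1 c = hA'.rtn 1 a' ⊗ₜ[A] hC.rtn 1 (a • c)
      rw [Algebra.smul_def, Algebra.smul_def, hA'.rtn_mul, hC.rtn_mul,
        hA.rtn_one_algebraMap hA', hA.rtn_one_algebraMap hC, ← Algebra.smul_def, ← Algebra.smul_def,
        TensorProduct.smul_tmul])

theorem invFrobTensor_tmul (hp : p.Prime) (hp0 : (p : A) = 0) (hA : PowBij p A)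
    (hA' : PowBij p A') (hC : PowBij p C) (a' : A') (c : C) :
    invFrobTensor hp hp0 hA hA' hC (a' ⊗ₜ c) = hA'.rtn 1 a' ⊗ₜ[A] hC.rtn 1 c := rfl

theorem invFrobTensor_pow (hp : p.Prime) (hp0 : (p : A) = 0) (hA : PowBij p A)
    (hA' : PowBij p A') (hC : PowBij p C) (y : A' ⊗[A] C) :
    invFrobTensor hp hp0 hA hA' hC (y ^ p) = y := by
  induction y using TensorProduct.induction_on with
  | zero => rw [zero_pow hp.ne_zero, map_zero]
  | tmul a' c =>
    rw [Algebra.TensorProduct.tmul_pow, invFrobTensor_tmul]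
    have h1 := hA'.rtn_of_pow 1 a'
    have h2 := hC.rtn_of_pow 1 c
    rw [pow_one] at h1 h2
    rw [h1, h2]
  | add x y hx hy =>
    rw [add_pow_prime' hp (natCast_eq_zero_of_algebra hp0 (A' ⊗[A] C)), map_add, hx, hy]

/-- `A' ⊗[A] C` is reduced. -/
theorem tensor_eq_zero_of_pow_eq_zero (hp : p.Prime) (hp0 : (p : A) = 0) (hA : PowBij p A)
    (hA' : PowBij p A') (hC : PowBij p C) (y : A' ⊗[A] C) (n : ℕ) (hy : y ^ n = 0) : y = 0 := by
  have key : ∀ z : A' ⊗[A] C, z ^ p = 0 → z = 0 := fun z hz => by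
    rw [← invFrobTensor_pow hp hp0 hA hA' hC z, hz, map_zero]
  have h1 : y ^ p ^ n = 0 := by
    have hle : n ≤ p ^ n := (Nat.lt_pow_self hp.one_lt).le
    obtain ⟨k, hk⟩ := Nat.exists_eq_add_of_le hle
    rw [hk, pow_add, hy, zero_mul]
  clear hy
  induction n generalizing y with
  | zero => simpa using h1
  | succ n ih =>
    apply ih
    apply key
    rw [← pow_mul, ← pow_succ, h1]

end tensor


section inj
variable {p : ℕ} {A A' C : Type*} [CommRing A] [CommRing A'] [CommRing C] [Algebra A A']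
  [Algebra A C]

/-- multiplication by the `p^n`-th root of `f`, as a map `A' → rad(f)`. -/
noncomputable def muRt (hA' : PowBij p A') (f : A') (n : ℕ) :
    A' →ₗ[A] ((Ideal.span {f}).radical) where
  toFun a' := ⟨a' * hA'.rtn n f, Ideal.mul_mem_left _ _ (hA'.rtn_mem_radical f n)⟩
  map_add' x y := Subtype.ext (add_mul x y _)
  map_smul' r x := Subtype.ext (by
    show r • x * hA'.rtn n f = r • (x * hA'.rtn n f)
    rw [smul_mul_assoc])

theorem muRt_succ (hp : p.Prime) (hA' : PowBij p A') (f : A') (n : ℕ) (a' : A') :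
    muRt (A := A) hA' f n a' = muRt (A := A) hA' f (n + 1) (a' * hA'.rtn (n + 1) f ^ (p - 1)) := by
  apply Subtype.ext
  show a' * hA'.rtn n f = a' * hA'.rtn (n + 1) f ^ (p - 1) * hA'.rtn (n + 1) f
  rw [mul_assoc, ← hA'.rtn_eq_mul_succ hp]

theorem rTensor_mulLeft_eq (x : A') (w : A' ⊗[A] C) :
    (LinearMap.mulRight A x).rTensor C w = w * (x ⊗ₜ[A] (1 : C)) := by
  induction w using TensorProduct.induction_on with
  | zero => simp
  | tmul a' c =>
    rw [LinearMap.rTensor_tmul, LinearMap.mulRight_apply, Algebra.TensorProduct.tmul_mul_tmul,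
      mul_one]
  | add x y hx hy => rw [map_add, hx, hy, add_mul]

theorem muRt_rTensor_succ (hp : p.Prime) (hA' : PowBij p A') (f : A') (n : ℕ) (w : A' ⊗[A] C) :
    (muRt (A := A) hA' f n).rTensor C w =
      (muRt (A := A) hA' f (n + 1)).rTensor C (w * ((hA'.rtn (n + 1) f ^ (p - 1)) ⊗ₜ[A] (1 : C))) := by
  rw [← rTensor_mulLeft_eq, ← LinearMap.comp_apply, ← LinearMap.rTensor_comp]
  congr 2
  ext a'
  exact congrArg Subtype.val (muRt_succ (A := A) hp hA' f n a')

theorem exists_muRt_rTensor_of_le (hp : p.Prime) (hA' : PowBij p A') (f : A') {n m : ℕ}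
    (hnm : n ≤ m) (w : A' ⊗[A] C) :
    ∃ w' : A' ⊗[A] C, (muRt (A := A) hA' f n).rTensor C w = (muRt (A := A) hA' f m).rTensor C w' := by
  induction m, hnm using Nat.le_induction with
  | base => exact ⟨w, rfl⟩
  | succ m _ ih =>
    obtain ⟨w', hw'⟩ := ih
    exact ⟨_, hw'.trans (muRt_rTensor_succ hp hA' f m w')⟩

theorem exists_muRt_rTensor (hp : p.Prime) (hA' : PowBij p A') (f : A')
    (z : ((Ideal.span {f}).radical) ⊗[A] C) :
    ∃ (n : ℕ) (w : A' ⊗[A] C), z = (muRt (A := A) hA' f n).rTensor C w := by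
  induction z using TensorProduct.induction_on with
  | zero => exact ⟨0, 0, by simp⟩
  | tmul j c =>
    obtain ⟨n, c', hc'⟩ := hA'.mem_radical_span_singleton hp f _ j.2
    refine ⟨n, c' ⊗ₜ c, ?_⟩
    rw [LinearMap.rTensor_tmul]
    congr 1
    exact Subtype.ext hc'
  | add x y hx hy =>
    obtain ⟨n, w, rfl⟩ := hx
    obtain ⟨m, w', rfl⟩ := hy
    obtain ⟨v, hv⟩ := exists_muRt_rTensor_of_le (A := A) (C := C) hp hA' f (le_max_left n m) w
    obtain ⟨v', hv'⟩ := exists_muRt_rTensor_of_le (A := A) (C := C) hp hA' f (le_max_right n m) w'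
    exact ⟨max n m, v + v', by rw [hv, hv', map_add]⟩

/-- **Key injectivity.** For rings with bijective `p`-th power maps (`p = 0`), the map
`rad(f) ⊗[A] C → A' ⊗[A] C` is injective. -/
theorem rTensor_radical_injective (hp : p.Prime) (hp0 : (p : A) = 0) (hA : PowBij p A)
    (hA' : PowBij p A') (hC : PowBij p C) (f : A') :
    Function.Injective
      ((((Ideal.span {f}).radical).subtype.restrictScalars A).rTensor C) := by
  rw [injective_iff_map_eq_zero]
  intro z hz
  obtain ⟨n, w, rfl⟩ := exists_muRt_rTensor (A := A) (C := C) hp hA' f z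
  rw [← LinearMap.comp_apply, ← LinearMap.rTensor_comp] at hz
  have e : (((Ideal.span {f}).radical).subtype.restrictScalars A) ∘ₗ muRt (A := A) hA' f n =
      LinearMap.mulRight A (hA'.rtn n f) := by
    ext a'
    rfl
  rw [e, rTensor_mulLeft_eq] at hz
  -- reducedness
  have h1 : w * ((hA'.rtn (n + 1) f) ⊗ₜ[A] (1 : C)) = 0 := by
    apply tensor_eq_zero_of_pow_eq_zero hp hp0 hA hA' hC _ p
    rw [mul_pow, Algebra.TensorProduct.tmul_pow, one_pow, hA'.rtn_succ_pow]
    have : w ^ p = w ^ (p - 1) * w := by rw [← pow_succ, Nat.sub_add_cancel hp.one_le]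
    rw [this, mul_assoc, hz, mul_zero]
  rw [muRt_rTensor_succ hp hA' f n w]
  have h2 : w * ((hA'.rtn (n + 1) f ^ (p - 1)) ⊗ₜ[A] (1 : C)) = 0 := by
    obtain ⟨q, hq⟩ : ∃ q, p - 1 = q + 1 := ⟨p - 2, by have := hp.two_le; omega⟩
    have : (hA'.rtn (n + 1) f ^ (p - 1)) ⊗ₜ[A] (1 : C) =
        ((hA'.rtn (n + 1) f) ⊗ₜ[A] (1 : C)) * ((hA'.rtn (n + 1) f ^ q) ⊗ₜ[A] (1 : C)) := by
      rw [Algebra.TensorProduct.tmul_mul_tmul, mul_one, hq, pow_succ']
    rw [this, ← mul_assoc, h1, zero_mul]
  rw [h2, map_zero]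

end inj


section monoidAlgebra
variable {p : ℕ} {A : Type*} [CommRing A] {M : Type*} [CommMonoid M]

/-- the ring endomorphism `∑ a_m m ↦ ∑ a_m^p m^p` of the monoid algebra. -/
noncomputable def frobMA (hp : p.Prime) (hp0 : (p : A) = 0) : MonoidAlgebra A M →+* MonoidAlgebra A M :=
  (MonoidAlgebra.mapDomainRingHom A (powMonoidHom p : M →* M)).comp
    (MonoidAlgebra.mapRingHom M
      ({ toFun := fun a => a ^ p
         map_one' := one_pow p
         map_mul' := fun x y => mul_pow x y p
         map_zero' := zero_pow hp.ne_zero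
         map_add' := fun x y => add_pow_prime' hp hp0 x y } : A →+* A))

theorem frobMA_single (hp : p.Prime) (hp0 : (p : A) = 0) (m : M) (a : A) :
    frobMA (M := M) hp hp0 (MonoidAlgebra.single m a) = MonoidAlgebra.single (m ^ p) (a ^ p) := by
  simp [frobMA]

theorem frobMA_eq_pow (hp : p.Prime) (hp0 : (p : A) = 0) (x : MonoidAlgebra A M) :
    frobMA hp hp0 x = x ^ p := by
  induction x using MonoidAlgebra.induction_on with
  | of m =>
    rw [MonoidAlgebra.of_apply, frobMA_single, MonoidAlgebra.single_pow]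
  | add x y hx hy =>
    have h0 : (p : MonoidAlgebra A M) = 0 := natCast_eq_zero_of_algebra hp0 _
    rw [map_add, hx, hy, add_pow_prime' hp h0]
  | smul r x hx =>
    rw [Algebra.smul_def, map_mul, hx, mul_pow]
    congr 1
    rw [MonoidAlgebra.coe_algebraMap, Function.comp_apply, Algebra.algebraMap_self_apply,
      frobMA_single, MonoidAlgebra.single_pow]

theorem powBij_monoidAlgebra (hp : p.Prime) (hp0 : (p : A) = 0) (hA : PowBij p A) (hM : PowBij p M) :
    PowBij p (MonoidAlgebra A M) := by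
  have h1 : (fun x : MonoidAlgebra A M => x ^ p) = frobMA hp hp0 := by
    funext x
    exact (frobMA_eq_pow hp hp0 x).symm
  unfold PowBij
  rw [h1]
  -- the inverse
  let eA : A ≃+* A := RingEquiv.ofBijective
    ({ toFun := fun a => a ^ p
       map_one' := one_pow p
       map_mul' := fun x y => mul_pow x y p
       map_zero' := zero_pow hp.ne_zero
       map_add' := fun x y => add_pow_prime' hp hp0 x y } : A →+* A) hA
  let eM : M ≃* M := MulEquiv.ofBijective (powMonoidHom p : M →* M) hM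
  let G : MonoidAlgebra A M →+* MonoidAlgebra A M :=
    (MonoidAlgebra.mapRingHom M (eA.symm : A →+* A)).comp
      (MonoidAlgebra.mapDomainRingHom A (eM.symm : M →* M))
  have hGF : ∀ x, G (frobMA hp hp0 x) = x := by
    intro x
    induction x using MonoidAlgebra.induction_on with
    | of m =>
      rw [MonoidAlgebra.of_apply, frobMA_single]
      simp only [G, RingHom.comp_apply, MonoidAlgebra.mapDomainRingHom_apply,
        MonoidAlgebra.mapDomain_single, MonoidAlgebra.mapRingHom_single]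
      congr 1
      · exact eM.symm_apply_apply m
      · exact eA.symm_apply_apply 1
    | add x y hx hy => rw [map_add, map_add, hx, hy]
    | smul r x hx =>
      rw [Algebra.smul_def, map_mul, map_mul, hx]
      congr 1
      rw [MonoidAlgebra.coe_algebraMap, Function.comp_apply, Algebra.algebraMap_self_apply,
        frobMA_single]
      simp only [G, RingHom.comp_apply, MonoidAlgebra.mapDomainRingHom_apply,
        MonoidAlgebra.mapDomain_single, MonoidAlgebra.mapRingHom_single]
      congr 1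
      · rw [one_pow]; exact map_one _
      · exact eA.symm_apply_apply r
  have hFG : ∀ x, frobMA hp hp0 (G x) = x := by
    intro x
    induction x using MonoidAlgebra.induction_on with
    | of m =>
      rw [MonoidAlgebra.of_apply]
      simp only [G, RingHom.comp_apply, MonoidAlgebra.mapDomainRingHom_apply,
        MonoidAlgebra.mapDomain_single, MonoidAlgebra.mapRingHom_single]
      rw [frobMA_single]
      congr 1
      · exact eM.apply_symm_apply m
      · exact eA.apply_symm_apply 1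
    | add x y hx hy => rw [map_add, map_add, hx, hy]
    | smul r x hx =>
      rw [Algebra.smul_def, map_mul, map_mul, hx]
      congr 1
      rw [MonoidAlgebra.coe_algebraMap, Function.comp_apply, Algebra.algebraMap_self_apply]
      simp only [G, RingHom.comp_apply, MonoidAlgebra.mapDomainRingHom_apply,
        MonoidAlgebra.mapDomain_single, MonoidAlgebra.mapRingHom_single]
      rw [frobMA_single]
      congr 1
      · rw [map_one, one_pow]
      · exact eA.apply_symm_apply r
  exact ⟨fun x y hxy => by rw [← hGF x, ← hGF y, hxy], fun y => ⟨G y, hFG y⟩⟩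

end monoidAlgebra

end Groth.Agent.Lib.Seat50.PerfAlg
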