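import Mathlib

/-!
# Compactness in the category of perfect `B`-algebras, unbundled

`DirSys p B J` is a directed system (indexed by a preorder `J`) of perfect `B`-algebras of
characteristic `p`; `DirCocone` is a cocone on it which is a colimit "by elements" (jointly
surjective, and elements dying in the cocone point die at a later stage).
`Compact p B A` says every such presentation of `A` admits a section at some finite stage.
`compact_of_isFinitelyPresentable` derives it from finite presentability in the full subcategory of
`Under B` on the perfect algebras.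
-/

open CategoryTheory Limits

universe u

namespace Groth.Agent.Lib.Seat50.PerfCompact

/-- A directed system of perfect `B`-algebras. -/
structure DirSys (p : ℕ) (B : Type u) [CommRing B] (J : Type u) [Preorder J] where
  R : J → Type u
  [ring : ∀ j, CommRing (R j)]
  [alg : ∀ j, Algebra B (R j)]
  p0 : ∀ j, (p : R j) = 0
  bij : ∀ j, Function.Bijective (fun x : R j => x ^ p)
  f : ∀ {i j : J}, i ≤ j → R i →ₐ[B] R j
  f_id : ∀ (i : J) (x : R i), f (le_refl i) x = x
  f_comp : ∀ {i j k : J} (hij : i ≤ j) (hjk : j ≤ k) (x : R i),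
    f hjk (f hij x) = f (hij.trans hjk) x

attribute [instance] DirSys.ring DirSys.alg

/-- A cocone on a directed system which is a colimit "by elements". -/
structure DirCocone {p : ℕ} {B : Type u} [CommRing B] {J : Type u} [Preorder J]
    (D : DirSys p B J) (A : Type u) [CommRing A] [Algebra B A] where
  c : ∀ j, D.R j →ₐ[B] A
  c_f : ∀ {i j : J} (hij : i ≤ j) (x : D.R i), c j (D.f hij x) = c i x
  surj : ∀ a : A, ∃ j x, c j x = a
  ker : ∀ j (x : D.R j), c j x = 0 → ∃ (j' : J) (h : j ≤ j'), D.f h x = 0

namespace DirCocone

variable {p : ℕ} {B : Type u} [CommRing B] {J : Type u} [Preorder J] [IsDirected J (· ≤ ·)]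
  [Nonempty J] {D : DirSys p B J} {A : Type u} [CommRing A] [Algebra B A] (C : DirCocone D A)
  {Z : Type u} [CommRing Z] [Algebra B Z] (s : ∀ j, D.R j →ₐ[B] Z)
  (hs : ∀ {i j : J} (h : i ≤ j) (x : D.R i), s j (D.f h x) = s i x)

include hs in
theorem eq_of_c_eq {i j : J} (x : D.R i) (y : D.R j) (h : C.c i x = C.c j y) :
    s i x = s j y := by
  obtain ⟨k, hik, hjk⟩ := exists_ge_ge i j
  have h0 : C.c k (D.f hik x - D.f hjk y) = 0 := by
    rw [map_sub, C.c_f, C.c_f, h, sub_self]
  obtain ⟨l, hkl, hl⟩ := C.ker k _ h0
  rw [map_sub, sub_eq_zero, D.f_comp, D.f_comp] at hl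
  rw [← hs (hik.trans hkl) x, ← hs (hjk.trans hkl) y, hl]

/-- The underlying function of the induced map. -/
noncomputable def liftFun (a : A) : Z :=
  s (C.surj a).choose (C.surj a).choose_spec.choose

include hs in
theorem liftFun_c (j : J) (x : D.R j) : C.liftFun s (C.c j x) = s j x :=
  C.eq_of_c_eq s hs _ _ (C.surj _).choose_spec.choose_spec

/-- The map induced on the cocone point by a compatible family. -/
noncomputable def lift : A →ₐ[B] Z where
  toFun := C.liftFun s
  map_one' := by
    have := C.liftFun_c s hs (Classical.arbitrary J) 1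
    simpa using this
  map_zero' := by
    have := C.liftFun_c s hs (Classical.arbitrary J) 0
    simpa using this
  map_mul' a b := by
    obtain ⟨i, x, rfl⟩ := C.surj a
    obtain ⟨j, y, rfl⟩ := C.surj b
    obtain ⟨k, hik, hjk⟩ := exists_ge_ge i j
    rw [← C.c_f hik x, ← C.c_f hjk y, ← map_mul, C.liftFun_c s hs, C.liftFun_c s hs,
      C.liftFun_c s hs, map_mul]
  map_add' a b := by
    obtain ⟨i, x, rfl⟩ := C.surj a
    obtain ⟨j, y, rfl⟩ := C.surj b
    obtain ⟨k, hik, hjk⟩ := exists_ge_ge i j
    rw [← C.c_f hik x, ← C.c_f hjk y, ← map_add, C.liftFun_c s hs, C.liftFun_c s hs,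
      C.liftFun_c s hs, map_add]
  commutes' b := by
    have := C.liftFun_c s hs (Classical.arbitrary J) (algebraMap B _ b)
    simpa using this

theorem lift_c (j : J) (x : D.R j) : C.lift s hs (C.c j x) = s j x :=
  C.liftFun_c s hs j x

include hs in
theorem lift_unique (φ : A →ₐ[B] Z) (hφ : ∀ j x, φ (C.c j x) = s j x) : φ = C.lift s hs := by
  ext a
  obtain ⟨j, x, rfl⟩ := C.surj a
  rw [hφ, lift_c]

end DirCocone

/-- Unbundled compactness of a perfect `B`-algebra. -/
def Compact (p : ℕ) (B : Type u) [CommRing B] (A : Type u) [CommRing A] [Algebra B A] : Prop :=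
  ∀ (J : Type u) [Preorder J] [IsDirected J (· ≤ ·)] [Nonempty J] (D : DirSys p B J)
    (C : DirCocone D A), ∃ (j : J) (g : A →ₐ[B] D.R j), ∀ a, C.c j (g a) = a

section cat
variable {p : ℕ} {B : CommRingCat.{u}} {J : Type u} [Preorder J]

/-- the property -/
abbrev PerfP (p : ℕ) (B : CommRingCat.{u}) : ObjectProperty (Under B) :=
  fun Y : Under B => (p : Y.right) = 0 ∧ Function.Bijective fun y : Y.right => y ^ p

noncomputable def DirSys.obj (D : DirSys p B J) (j : J) : (PerfP p B).FullSubcategory :=
  ⟨Under.mk (Y := CommRingCat.of (D.R j)) (CommRingCat.ofHom (algebraMap B (D.R j))), D.p0 j, D.bij j⟩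

noncomputable def mkHom {X Y : (PerfP p B).FullSubcategory} (g : X.obj.right →+* Y.obj.right)
    (hg : g.comp X.obj.hom.hom = Y.obj.hom.hom) : X ⟶ Y :=
  ObjectProperty.homMk (Under.homMk (CommRingCat.ofHom g) (by
    ext b
    exact RingHom.congr_fun hg b))

@[simp] theorem mkHom_apply {X Y : (PerfP p B).FullSubcategory} (g : X.obj.right →+* Y.obj.right)
    (hg : g.comp X.obj.hom.hom = Y.obj.hom.hom) (x : X.obj.right) :
    (mkHom g hg).hom.right.hom x = g x := rfl

theorem hom_ext' {X Y : (PerfP p B).FullSubcategory} {f g : X ⟶ Y}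
    (h : ∀ x : X.obj.right, f.hom.right.hom x = g.hom.right.hom x) : f = g := by
  apply ObjectProperty.hom_ext
  apply Under.UnderMorphism.ext
  ext x
  exact h x

theorem hom_w {X Y : (PerfP p B).FullSubcategory} (f : X ⟶ Y) (b : B) :
    f.hom.right.hom (X.obj.hom.hom b) = Y.obj.hom.hom b := by
  have := Under.w f.hom
  exact congrArg (fun k => k.hom b) this

theorem comp_apply' {X Y Z : (PerfP p B).FullSubcategory} (f : X ⟶ Y) (g : Y ⟶ Z) (x : X.obj.right) :
    (f ≫ g).hom.right.hom x = g.hom.right.hom (f.hom.right.hom x) := rfl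

theorem id_apply' {X : (PerfP p B).FullSubcategory} (x : X.obj.right) :
    (𝟙 X : X ⟶ X).hom.right.hom x = x := rfl

/-- The functor attached to a directed system. -/
noncomputable def DirSys.functor (D : DirSys p B J) : J ⥤ (PerfP p B).FullSubcategory where
  obj j := D.obj j
  map {i j} h := mkHom (X := D.obj i) (Y := D.obj j) (D.f h.le).toRingHom (by
    ext b
    exact (D.f h.le).commutes b)
  map_id i := by
    apply hom_ext'
    intro x
    exact D.f_id i x
  map_comp {i j k} f g := by
    apply hom_ext'
    intro x
    exact (D.f_comp f.le g.le x).symm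

theorem DirSys.functor_map_apply (D : DirSys p B J) {i j : J} (h : i ⟶ j) (x : D.R i) :
    (D.functor.map h).hom.right.hom x = D.f h.le x := rfl

variable (A : (PerfP p B).FullSubcategory)

/-- algebra structure on the underlying ring of an object. -/
@[reducible] def algOf (A : (PerfP p B).FullSubcategory) : Algebra B A.obj.right :=
  A.obj.hom.hom.toAlgebra

/-- The cocone attached to a `DirCocone`. -/
noncomputable def DirCocone.cocone {D : DirSys p B J}
    (C : @DirCocone p B _ J _ D A.obj.right _ (algOf A)) : Cocone D.functor where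
  pt := A
  ι :=
    { app := fun j => mkHom (X := D.obj j) (Y := A) (C.c j).toRingHom (by
        ext b
        let _ := algOf A
        exact (C.c j).commutes b)
      naturality := fun i j h => by
        apply hom_ext'
        intro x
        exact C.c_f h.le x }

/-- ring hom underlying a morphism, as an algebra hom. -/
noncomputable def toAlgHom {X Y : (PerfP p B).FullSubcategory} (f : X ⟶ Y) :
    @AlgHom B X.obj.right Y.obj.right _ _ _ (algOf X) (algOf Y) :=
  letI := algOf X
  letI := algOf Y
  { toRingHom := f.hom.right.hom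
    commutes' := fun b => hom_w f b }

/-- morphisms out of a stage of the system, as algebra homs. -/
noncomputable def fromObj {D : DirSys p B J} {j : J} {Y : (PerfP p B).FullSubcategory}
    (f : D.obj j ⟶ Y) : @AlgHom B (D.R j) Y.obj.right _ _ _ _ (algOf Y) :=
  letI := algOf Y
  { toRingHom := f.hom.right.hom
    commutes' := fun b => hom_w f b }

/-- morphisms into a stage of the system, as algebra homs. -/
noncomputable def toObj {D : DirSys p B J} {j : J} {X : (PerfP p B).FullSubcategory}
    (f : X ⟶ D.obj j) : @AlgHom B X.obj.right (D.R j) _ _ _ (algOf X) _ :=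
  letI := algOf X
  { toRingHom := f.hom.right.hom
    commutes' := fun b => hom_w f b }

variable [IsDirected J (· ≤ ·)] [Nonempty J]

/-- algebra homs as morphisms. -/
noncomputable def ofAlgHom {X Y : (PerfP p B).FullSubcategory}
    (φ : @AlgHom B X.obj.right Y.obj.right _ _ _ (algOf X) (algOf Y)) : X ⟶ Y :=
  mkHom (@AlgHom.toRingHom B X.obj.right Y.obj.right _ _ _ (algOf X) (algOf Y) φ) (by
    ext b
    exact @AlgHom.commutes B X.obj.right Y.obj.right _ _ _ (algOf X) (algOf Y) φ b)

/-- the induced algebra hom out of the cocone point. -/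
noncomputable def DirCocone.descHom {D : DirSys p B J}
    (C : @DirCocone p B _ J _ D A.obj.right _ (algOf A)) (s : Cocone D.functor) :
    @AlgHom B A.obj.right s.pt.obj.right _ _ _ (algOf A) (algOf s.pt) :=
  letI := algOf A
  letI := algOf s.pt
  C.lift (fun j => fromObj (s.ι.app j))
    (fun {i j} h x => by
      have := s.w (homOfLE h)
      exact congrArg (fun k => k.hom.right.hom x) this)

theorem DirCocone.descHom_c {D : DirSys p B J}
    (C : @DirCocone p B _ J _ D A.obj.right _ (algOf A)) (s : Cocone D.functor) (j : J)
    (x : D.R j) :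
    @DFunLike.coe _ _ _ (@AlgHom.funLike B A.obj.right s.pt.obj.right _ _ _ (algOf A) (algOf s.pt))
      (C.descHom A s) (@DFunLike.coe _ _ _ (@AlgHom.funLike B (D.R j) A.obj.right _ _ _ _ (algOf A))
        (C.c j) x) = (s.ι.app j).hom.right.hom x := by
  let _ := algOf A
  let _ := algOf s.pt
  exact C.lift_c (fun j => fromObj (s.ι.app j))
    (fun {i j} h x => by
      have := s.w (homOfLE h)
      exact congrArg (fun k => k.hom.right.hom x) this) j x

/-- The cocone attached to a `DirCocone` is a colimit. -/
noncomputable def DirCocone.isColimit {D : DirSys p B J}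
    (C : @DirCocone p B _ J _ D A.obj.right _ (algOf A)) : IsColimit (C.cocone A) where
  desc := fun s => ofAlgHom (C.descHom A s)
  fac := fun s j => by
    apply hom_ext'
    intro x
    exact C.descHom_c A s j x
  uniq := fun s m hm => by
    let _ := algOf A
    let _ := algOf s.pt
    apply hom_ext'
    intro a
    have key := C.lift_unique (fun j => fromObj (s.ι.app j))
        (fun {i j} h x => by
          have := s.w (homOfLE h)
          exact congrArg (fun k => k.hom.right.hom x) this) (toAlgHom m)
        (fun j x => by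
          have := hm j
          exact congrArg (fun k => k.hom.right.hom x) this)
    exact congrArg (fun k => k a) key

/-- Finite presentability in the category of perfect `B`-algebras gives unbundled compactness. -/
theorem compact_of_isFinitelyPresentable [IsFinitelyPresentable.{u} A] :
    @Compact p B _ A.obj.right _ (algOf A) := by
  let _ := algOf A
  intro J _ _ _ D C
  obtain ⟨j, g, hg⟩ := IsFinitelyPresentable.exists_hom_of_isColimit (C.isColimit A) (𝟙 A)
  refine ⟨j, toObj g, fun a => ?_⟩
  exact congrArg (fun k => k.hom.right.hom a) hg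

end cat
end Groth.Agent.Lib.Seat50.PerfCompact
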