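import Mathlib
import Groth.Agent.Lib.Seat50PerfCompact
import Groth.Agent.Lib.Seat50PerfAlg

/-!
# A compact perfect algebra is perfectly finitely presented

Pure commutative algebra (unbundled).  `Compact p B A` (see `Seat50PerfCompact`) for a perfect
`B`-algebra `A` of characteristic `p` implies: `A` is the perfection of a finitely presented
`B`-algebra.
-/

open Groth.Agent.Lib.Seat50.PerfAlg Groth.Agent.Lib.Seat50.PerfCompact

universe u

namespace Groth.Agent.Lib.Seat50.PerfModel

section basics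

variable {p : ℕ} {R : Type*} [CommRing R]

theorem add_pow_prime_pow' (hp : p.Prime) (hp0 : (p : R) = 0) (n : ℕ) (x y : R) :
    (x + y) ^ p ^ n = x ^ p ^ n + y ^ p ^ n := by
  induction n with
  | zero => simp
  | succ n ih => rw [pow_succ, pow_mul, ih, add_pow_prime' hp hp0, ← pow_mul, ← pow_mul]

theorem sub_pow_prime_pow' (hp : p.Prime) (hp0 : (p : R) = 0) (n : ℕ) (x y : R) :
    (x - y) ^ p ^ n = x ^ p ^ n - y ^ p ^ n := by
  have := add_pow_prime_pow' hp hp0 n (x - y) y
  rw [sub_add_cancel] at this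
  rw [this, add_sub_cancel_right]

theorem pow_pow_add (x : R) (n m : ℕ) : x ^ p ^ (n + m) = (x ^ p ^ n) ^ p ^ m := by
  rw [pow_add, pow_mul]

theorem pow_pow_add' (x : R) (n m : ℕ) : x ^ p ^ (n + m) = (x ^ p ^ m) ^ p ^ n := by
  rw [add_comm, pow_pow_add]

end basics

section step1

variable {p : ℕ} {B : Type u} [CommRing B] {A : Type u} [CommRing A] [Algebra B A]

/-- The perfect closure inside `A` of the subalgebra generated by `S`. -/
def perfSub (hp : p.Prime) (hp0 : (p : A) = 0) (S : Set A) : Subalgebra B A where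
  carrier := {a | ∃ n : ℕ, a ^ p ^ n ∈ Algebra.adjoin B S}
  mul_mem' := by
    rintro a b ⟨n, ha⟩ ⟨m, hb⟩
    refine ⟨n + m, ?_⟩
    rw [mul_pow, pow_pow_add a n m, pow_pow_add' b n m]
    exact mul_mem (pow_mem ha _) (pow_mem hb _)
  add_mem' := by
    rintro a b ⟨n, ha⟩ ⟨m, hb⟩
    refine ⟨n + m, ?_⟩
    rw [add_pow_prime_pow' hp hp0, pow_pow_add a n m, pow_pow_add' b n m]
    exact add_mem (pow_mem ha _) (pow_mem hb _)
  algebraMap_mem' b := ⟨0, by simpa using Subalgebra.algebraMap_mem _ b⟩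

theorem mem_perfSub (hp : p.Prime) (hp0 : (p : A) = 0) (S : Set A) (a : A) :
    a ∈ perfSub (B := B) hp hp0 S ↔ ∃ n : ℕ, a ^ p ^ n ∈ Algebra.adjoin B S := Iff.rfl

theorem perfSub_mono (hp : p.Prime) (hp0 : (p : A) = 0) {S T : Set A} (h : S ⊆ T) :
    perfSub (B := B) hp hp0 S ≤ perfSub hp hp0 T := by
  rintro a ⟨n, ha⟩
  exact ⟨n, Algebra.adjoin_mono h ha⟩

theorem perfSub_p0 (hp : p.Prime) (hp0 : (p : A) = 0) (S : Set A) :
    (p : perfSub (B := B) hp hp0 S) = 0 := by
  apply Subtype.ext
  have h1 : ((p : perfSub (B := B) hp hp0 S) : A) = (p : A) := by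
    simp
  rw [h1, hp0]
  rfl

theorem perfSub_bij (hp : p.Prime) (hp0 : (p : A) = 0) (hA : PowBij p A) (S : Set A) :
    Function.Bijective (fun x : perfSub (B := B) hp hp0 S => x ^ p) := by
  constructor
  · intro x y hxy
    apply Subtype.ext
    apply hA.1
    have := congrArg Subtype.val hxy
    simpa using this
  · intro x
    obtain ⟨y, hy⟩ := hA.2 (x : A)
    obtain ⟨n, hn⟩ := x.2
    have hy' : y ^ p = (x : A) := hy
    refine ⟨⟨y, n + 1, ?_⟩, Subtype.ext ?_⟩
    · rw [pow_succ', pow_mul, hy']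
      exact hn
    · simpa using hy'

/-- The directed system attached to a monotone family of perfect subalgebras. -/
noncomputable def sysSub {J : Type u} [Preorder J] (K : J → Subalgebra B A)
    (hK : ∀ i j, i ≤ j → K i ≤ K j) (h0 : ∀ j, (p : K j) = 0)
    (hbij : ∀ j, Function.Bijective (fun x : K j => x ^ p)) : DirSys p B J where
  R j := K j
  p0 j := h0 j
  bij j := hbij j
  f h := Subalgebra.inclusion (hK _ _ h)
  f_id j x := by
    exact congrFun (congrArg DFunLike.coe (Subalgebra.inclusion_self (S := K j))) x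
  f_comp h h' x := Subalgebra.inclusion_inclusion _ _ x

/-- its cocone. -/
noncomputable def coconeSub {J : Type u} [Preorder J] (K : J → Subalgebra B A)
    (hK : ∀ i j, i ≤ j → K i ≤ K j) (h0 : ∀ j, (p : K j) = 0)
    (hbij : ∀ j, Function.Bijective (fun x : K j => x ^ p)) (hsurj : ∀ a : A, ∃ j, a ∈ K j) :
    DirCocone (sysSub K hK h0 hbij) A where
  c j := (K j).val
  c_f h x := rfl
  surj a := by
    obtain ⟨j, hj⟩ := hsurj a
    exact ⟨j, ⟨a, hj⟩, rfl⟩
  ker j x hx := by
    refine ⟨j, le_refl j, ?_⟩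
    have hx0 : x = 0 := Subtype.ext hx
    rw [hx0, map_zero]

theorem exists_mem_of_compact {J : Type u} [Preorder J] [IsDirected J (· ≤ ·)] [Nonempty J]
    (K : J → Subalgebra B A)
    (hK : ∀ i j, i ≤ j → K i ≤ K j) (h0 : ∀ j, (p : K j) = 0)
    (hbij : ∀ j, Function.Bijective (fun x : K j => x ^ p)) (hsurj : ∀ a : A, ∃ j, a ∈ K j)
    (hc : Compact p B A) : ∃ j, ∀ a : A, a ∈ K j := by
  obtain ⟨j, g, hg⟩ := hc J (sysSub K hK h0 hbij) (coconeSub K hK h0 hbij hsurj)
  refine ⟨j, fun a => ?_⟩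
  have h0 : ∀ y : K j, (K j).val y ∈ K j := fun y => y.2
  have h1 : (K j).val (g a) ∈ K j := h0 (g a)
  have h2 : (K j).val (g a) = a := hg a
  rw [h2] at h1
  exact h1

theorem exists_finset_of_compact (hp : p.Prime) (hp0 : (p : A) = 0) (hA : PowBij p A)
    (hc : Compact p B A) :
    ∃ S : Finset A, ∀ a : A, ∃ n : ℕ, a ^ p ^ n ∈ Algebra.adjoin B (S : Set A) := by
  classical
  exact exists_mem_of_compact (fun S : Finset A => perfSub (B := B) hp hp0 (S : Set A))
    (fun i j h => perfSub_mono hp hp0 (Finset.coe_subset.mpr h))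
    (fun S => perfSub_p0 hp hp0 _) (fun S => perfSub_bij hp hp0 hA _)
    (fun a => ⟨{a}, 0, Algebra.subset_adjoin (by simp)⟩) hc

end step1

section quot

variable {p : ℕ} {B : Type u} [CommRing B] {A : Type u} [CommRing A] [Algebra B A]
  {P : Type u} [CommRing P] [Algebra B P]

/-- The directed system of quotients attached to a monotone family of ideals. -/
noncomputable def sysQuot {J : Type u} [Preorder J] (I : J → Ideal P)
    (hI : ∀ i j, i ≤ j → I i ≤ I j) (h0 : ∀ j, (p : P ⧸ I j) = 0)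
    (hbij : ∀ j, Function.Bijective (fun x : P ⧸ I j => x ^ p)) : DirSys p B J where
  R j := P ⧸ I j
  p0 j := h0 j
  bij j := hbij j
  f h := Ideal.Quotient.factorₐ B (hI _ _ h)
  f_id j x := by
    obtain ⟨y, rfl⟩ := Ideal.Quotient.mk_surjective x
    rfl
  f_comp h h' x := by
    obtain ⟨y, rfl⟩ := Ideal.Quotient.mk_surjective x
    rfl

/-- its cocone. -/
noncomputable def coconeQuot {J : Type u} [Preorder J] [IsDirected J (· ≤ ·)] [Nonempty J]
    (I : J → Ideal P)
    (hI : ∀ i j, i ≤ j → I i ≤ I j) (h0 : ∀ j, (p : P ⧸ I j) = 0)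
    (hbij : ∀ j, Function.Bijective (fun x : P ⧸ I j => x ^ p))
    (π : P →ₐ[B] A) (hπ : ∀ j (y : P), y ∈ I j → π y = 0) (hsurj : Function.Surjective π)
    (hker : ∀ y : P, π y = 0 → ∃ j, y ∈ I j) :
    DirCocone (sysQuot (B := B) I hI h0 hbij) A where
  c j := Ideal.Quotient.liftₐ (I j) π (hπ j)
  c_f h x := by
    obtain ⟨y, rfl⟩ := Ideal.Quotient.mk_surjective x
    rfl
  surj a := by
    obtain ⟨y, rfl⟩ := hsurj a
    exact ⟨Classical.arbitrary J, Ideal.Quotient.mk _ y, rfl⟩
  ker j x hx := by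
    obtain ⟨y, rfl⟩ := Ideal.Quotient.mk_surjective x
    have hy : π y = 0 := hx
    obtain ⟨j', hj'⟩ := hker y hy
    obtain ⟨k, hjk, hj'k⟩ := exists_ge_ge j j'
    refine ⟨k, hjk, ?_⟩
    have : Ideal.Quotient.mk (I k) y = 0 := Ideal.Quotient.eq_zero_iff_mem.mpr (hI _ _ hj'k hj')
    exact this

theorem exists_section_of_compact {J : Type u} [Preorder J] [IsDirected J (· ≤ ·)] [Nonempty J]
    (I : J → Ideal P)
    (hI : ∀ i j, i ≤ j → I i ≤ I j) (h0 : ∀ j, (p : P ⧸ I j) = 0)
    (hbij : ∀ j, Function.Bijective (fun x : P ⧸ I j => x ^ p))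
    (π : P →ₐ[B] A) (hπ : ∀ j (y : P), y ∈ I j → π y = 0) (hsurj : Function.Surjective π)
    (hker : ∀ y : P, π y = 0 → ∃ j, y ∈ I j) (hc : Compact p B A) :
    ∃ (j : J) (g : A →ₐ[B] P ⧸ I j), ∀ a, Ideal.Quotient.liftₐ (I j) π (hπ j) (g a) = a :=
  hc J (sysQuot I hI h0 hbij) (coconeQuot I hI h0 hbij π hπ hsurj hker)

end quot

section quotrad

variable {p : ℕ} {P : Type*} [CommRing P]

theorem quot_p0 (hp0 : (p : P) = 0) (I : Ideal P) : (p : P ⧸ I) = 0 := by
  have : (p : P ⧸ I) = Ideal.Quotient.mk I (p : P) := by simp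
  rw [this, hp0, map_zero]

theorem quot_radical_bij (hp : p.Prime) (hp0 : (p : P) = 0) (hP : PowBij p P) (I : Ideal P) :
    Function.Bijective (fun x : P ⧸ I.radical => x ^ p) := by
  constructor
  · intro x y hxy
    obtain ⟨a, rfl⟩ := Ideal.Quotient.mk_surjective x
    obtain ⟨b, rfl⟩ := Ideal.Quotient.mk_surjective y
    have h1 : Ideal.Quotient.mk I.radical (a ^ p) = Ideal.Quotient.mk I.radical (b ^ p) := by
      simpa using hxy
    rw [Ideal.Quotient.eq] at h1 ⊢
    have h2 : a ^ p - b ^ p = (a - b) ^ p := by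
      have := sub_pow_prime_pow' hp hp0 1 a b
      simpa using this.symm
    rw [h2] at h1
    obtain ⟨n, hn⟩ := h1
    exact ⟨p * n, by rw [pow_mul]; exact hn⟩
  · intro x
    obtain ⟨a, rfl⟩ := Ideal.Quotient.mk_surjective x
    obtain ⟨b, hb⟩ := hP.2 a
    exact ⟨Ideal.Quotient.mk _ b, by simp only at hb; rw [← hb]; simp⟩

end quotrad

section pc

variable {p : ℕ} [Fact p.Prime] {B : Type u} [CommRing B] [CharP B p] {σ : Type u}

/-- The `B`-algebra structure on the perfect closure of a polynomial ring. -/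
noncomputable instance instAlgebraPC : Algebra B (PerfectClosure (MvPolynomial σ B) p) :=
  ((PerfectClosure.of (MvPolynomial σ B) p).comp (algebraMap B (MvPolynomial σ B))).toAlgebra

/-- `PerfectClosure.of` as an algebra hom. -/
noncomputable def ofA : MvPolynomial σ B →ₐ[B] PerfectClosure (MvPolynomial σ B) p where
  toRingHom := PerfectClosure.of (MvPolynomial σ B) p
  commutes' _ := rfl

@[simp] theorem ofA_apply (r : MvPolynomial σ B) :
    (ofA (p := p) r) = PerfectClosure.of (MvPolynomial σ B) p r := rfl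

theorem exists_pow_eq_of (y : PerfectClosure (MvPolynomial σ B) p) :
    ∃ (n : ℕ) (r : MvPolynomial σ B), y ^ p ^ n = PerfectClosure.of (MvPolynomial σ B) p r := by
  induction y using PerfectClosure.induction_on with
  | _ x =>
    obtain ⟨n, r⟩ := x
    refine ⟨n, r, ?_⟩
    rw [← iterate_frobenius, PerfectClosure.iterate_frobenius_mk]

theorem pc_p0 : (p : PerfectClosure (MvPolynomial σ B) p) = 0 := CharP.cast_eq_zero _ p

theorem pc_powBij : PowBij p (PerfectClosure (MvPolynomial σ B) p) := by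
  have := (PerfectRing.bijective_frobenius (R := PerfectClosure (MvPolynomial σ B) p) (p := p))
  exact this

/-- ring homs out of the perfect closure into a ring with injective `p^n`-th powers are determined
on the image of `of`. -/
theorem hom_ext_of_perfect {T : Type*} [CommRing T]
    (hT : ∀ n : ℕ, Function.Injective (fun x : T => x ^ p ^ n))
    (φ ψ : PerfectClosure (MvPolynomial σ B) p →+* T)
    (h : ∀ r, φ (PerfectClosure.of _ p r) = ψ (PerfectClosure.of _ p r)) (y) : φ y = ψ y := by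
  obtain ⟨n, r, hr⟩ := exists_pow_eq_of y
  apply hT n
  simp only
  rw [← map_pow, ← map_pow, hr, h]

variable {A : Type u} [CommRing A] [Algebra B A] [CharP A p] [PerfectRing A p] (v : σ → A)

/-- The canonical map from the perfect closure of the polynomial ring. -/
noncomputable def piHom : PerfectClosure (MvPolynomial σ B) p →ₐ[B] A where
  toRingHom := PerfectClosure.lift (MvPolynomial σ B) p A (MvPolynomial.aeval v).toRingHom
  commutes' b := by
    have h1 : algebraMap B (PerfectClosure (MvPolynomial σ B) p) b =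
      PerfectClosure.of _ p (algebraMap B (MvPolynomial σ B) b) := rfl
    have h2 := (PerfectClosure.lift (MvPolynomial σ B) p A).symm_apply_apply
      (MvPolynomial.aeval v).toRingHom
    have h3 := RingHom.congr_fun h2 (algebraMap B (MvPolynomial σ B) b)
    simp only [RingHom.toFun_eq_coe]
    rw [h1]
    refine h3.trans ?_
    simp

theorem piHom_of (r : MvPolynomial σ B) :
    piHom (p := p) v (PerfectClosure.of _ p r) = MvPolynomial.aeval v r := by
  have h2 := (PerfectClosure.lift (MvPolynomial σ B) p A).symm_apply_apply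
      (MvPolynomial.aeval v).toRingHom
  exact RingHom.congr_fun h2 r

theorem powBij_of_perfectRing : PowBij p A := by
  have := (PerfectRing.bijective_frobenius (R := A) (p := p))
  exact this

theorem piHom_surjective
    (hv : ∀ a : A, ∃ n : ℕ, a ^ p ^ n ∈ Algebra.adjoin B (Set.range v)) :
    Function.Surjective (piHom (p := p) (B := B) v) := by
  intro a
  obtain ⟨n, hn⟩ := hv a
  rw [Algebra.adjoin_range_eq_range_aeval] at hn
  obtain ⟨r, hr⟩ := hn
  obtain ⟨y, hy⟩ := ((pc_powBij (p := p) (B := B) (σ := σ)).iterate n).2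
    (PerfectClosure.of _ p r)
  refine ⟨y, ?_⟩
  apply ((powBij_of_perfectRing (p := p) (A := A)).iterate n).1
  simp only at hy ⊢
  rw [← map_pow, hy, piHom_of]
  exact hr

end pc

section step2

variable {p : ℕ} [Fact p.Prime] {B : Type u} [CommRing B] [CharP B p] {σ : Type u} [Finite σ]
  {A : Type u} [CommRing A] [Algebra B A] [CharP A p] [PerfectRing A p] (v : σ → A)

theorem exists_fg_radical
    (hv : ∀ a : A, ∃ n : ℕ, a ^ p ^ n ∈ Algebra.adjoin B (Set.range v)) (hc : Compact p B A) :
    ∃ I' : Ideal (PerfectClosure (MvPolynomial σ B) p), I'.FG ∧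
      ∀ y, piHom (p := p) (B := B) v y = 0 ↔ y ∈ I'.radical := by
  classical
  have hp : p.Prime := Fact.out
  set π := piHom (p := p) (B := B) v with hπdef
  have hAbij : PowBij p A := powBij_of_perfectRing
  have hPbij : PowBij p (PerfectClosure (MvPolynomial σ B) p) := pc_powBij
  have hP0 : (p : PerfectClosure (MvPolynomial σ B) p) = 0 := pc_p0
  have hrad : ∀ I : Ideal (PerfectClosure (MvPolynomial σ B) p), (∀ y ∈ I, π y = 0) →
      ∀ y ∈ I.radical, π y = 0 := by
    rintro I hI y ⟨n, hn⟩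
    have := hI _ hn
    rw [map_pow] at this
    exact hAbij.eq_zero_of_pow_eq_zero hp this
  let J : Type u := {I : Ideal (PerfectClosure (MvPolynomial σ B) p) // I.FG ∧ ∀ y ∈ I, π y = 0}
  haveI : IsDirected J (· ≤ ·) := ⟨fun a b => ⟨⟨a.1 ⊔ b.1, Submodule.FG.sup a.2.1 b.2.1, by
      intro y hy
      have hle : a.1 ⊔ b.1 ≤ RingHom.ker π.toRingHom :=
        sup_le (fun y hy => a.2.2 y hy) (fun y hy => b.2.2 y hy)
      exact hle hy⟩, Subtype.coe_le_coe.mp (le_sup_left : a.1 ≤ a.1 ⊔ b.1),
        Subtype.coe_le_coe.mp (le_sup_right : b.1 ≤ a.1 ⊔ b.1)⟩⟩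
  haveI : Nonempty J := ⟨⟨⊥, Submodule.fg_bot, by
    intro y hy
    rw [Ideal.mem_bot] at hy
    rw [hy, map_zero]⟩⟩
  obtain ⟨⟨I, hIfg, hIK⟩, g, hg⟩ := exists_section_of_compact (B := B) (p := p)
    (fun I : J => I.1.radical)
    (fun i j h => Ideal.radical_mono h) (fun j => quot_p0 hP0 _)
    (fun j => quot_radical_bij hp hP0 hPbij _)
    π (fun j y hy => hrad j.1 j.2.2 y hy) (piHom_surjective v hv)
    (fun y hy => ⟨⟨Ideal.span {y}, ⟨{y}, by simp⟩, by
        intro z hz
        obtain ⟨c, rfl⟩ := Ideal.mem_span_singleton'.mp hz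
        rw [map_mul, hy, mul_zero]⟩, Ideal.le_radical (Ideal.subset_span rfl)⟩) hc
  have hmk : ∀ s : σ, ∃ e : PerfectClosure (MvPolynomial σ B) p,
      Ideal.Quotient.mk I.radical e = g (π (PerfectClosure.of _ p (MvPolynomial.X s))) :=
    fun s => Ideal.Quotient.mk_surjective _
  choose e he using hmk
  have hπe : ∀ s, π (e s) = π (PerfectClosure.of _ p (MvPolynomial.X s)) := by
    intro s
    have := hg (π (PerfectClosure.of _ p (MvPolynomial.X s)))
    rw [← he s] at this
    exact this
  let d : σ → PerfectClosure (MvPolynomial σ B) p :=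
    fun s => e s - PerfectClosure.of _ p (MvPolynomial.X s)
  have hd : ∀ s, π (d s) = 0 := by
    intro s
    simp only [d, map_sub, hπe, sub_self]
  have hI'K : I ⊔ Ideal.span (Set.range d) ≤ RingHom.ker π.toRingHom :=
    sup_le (fun z hz => hIK z hz) (Ideal.span_le.mpr (by
      rintro _ ⟨s, rfl⟩
      exact hd s))
  refine ⟨I ⊔ Ideal.span (Set.range d),
    Submodule.FG.sup hIfg ⟨(Set.finite_range d).toFinset, by simp⟩, fun y => ⟨fun hy => ?_, fun hy => ?_⟩⟩
  · have hle : I.radical ≤ (I ⊔ Ideal.span (Set.range d)).radical :=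
      Ideal.radical_mono le_sup_left
    have hT : ∀ n, Function.Injective
        (fun x : PerfectClosure (MvPolynomial σ B) p ⧸ (I ⊔ Ideal.span (Set.range d)).radical =>
          x ^ p ^ n) := fun n =>
      (PowBij.iterate (quot_radical_bij hp hP0 hPbij (I ⊔ Ideal.span (Set.range d))) n).1
    let q' : PerfectClosure (MvPolynomial σ B) p →ₐ[B]
        PerfectClosure (MvPolynomial σ B) p ⧸ (I ⊔ Ideal.span (Set.range d)).radical :=
      Ideal.Quotient.mkₐ B _
    let q'' : PerfectClosure (MvPolynomial σ B) p →ₐ[B]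
        PerfectClosure (MvPolynomial σ B) p ⧸ (I ⊔ Ideal.span (Set.range d)).radical :=
      (Ideal.Quotient.factorₐ B hle).comp (g.comp π)
    have hagree : q'.comp ofA = q''.comp ofA := by
      apply MvPolynomial.algHom_ext
      intro s
      show Ideal.Quotient.mk (I ⊔ Ideal.span (Set.range d)).radical
          (PerfectClosure.of _ p (MvPolynomial.X s)) =
        Ideal.Quotient.factor hle (g (π (PerfectClosure.of _ p (MvPolynomial.X s))))
      rw [← he s, Ideal.Quotient.factor_mk, eq_comm, Ideal.Quotient.eq]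
      exact Ideal.le_radical (Ideal.mem_sup_right (Ideal.subset_span ⟨s, rfl⟩))
    have hall := hom_ext_of_perfect hT q'.toRingHom q''.toRingHom
      (fun r => AlgHom.congr_fun hagree r) y
    have h1 : q''.toRingHom y = 0 := by
      show Ideal.Quotient.factor hle (g (π y)) = 0
      rw [hy, map_zero, map_zero]
    have h2 : Ideal.Quotient.mk (I ⊔ Ideal.span (Set.range d)).radical y = 0 := hall.trans h1
    exact Ideal.Quotient.eq_zero_iff_mem.mp h2
  · exact hrad _ (fun z hz => hI'K hz) y hy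

end step2

section step3

variable {p : ℕ} [Fact p.Prime] {B : Type u} [CommRing B] [CharP B p] {σ : Type u}
  {A : Type u} [CommRing A] [Algebra B A] [CharP A p] [PerfectRing A p] (v : σ → A)

theorem exists_polyIdeal (I' : Ideal (PerfectClosure (MvPolynomial σ B) p)) (hFG : I'.FG)
    (hI' : ∀ y, piHom (p := p) (B := B) v y = 0 ↔ y ∈ I'.radical) :
    ∃ I₀ : Ideal (MvPolynomial σ B), I₀.FG ∧ (∀ r ∈ I₀, MvPolynomial.aeval v r = 0) ∧
      ∀ r, MvPolynomial.aeval v r = 0 → ∃ n : ℕ, r ^ p ^ n ∈ I₀ := by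
  classical
  have hp : p.Prime := Fact.out
  have hR0 : (p : MvPolynomial σ B) = 0 := CharP.cast_eq_zero _ p
  have hP0 : (p : PerfectClosure (MvPolynomial σ B) p) = 0 := pc_p0
  have hAbij : PowBij p A := powBij_of_perfectRing
  obtain ⟨T, rfl⟩ := hFG
  have hch : ∀ t : PerfectClosure (MvPolynomial σ B) p, ∃ (n : ℕ) (r : MvPolynomial σ B),
      t ^ p ^ n = PerfectClosure.of _ p r := exists_pow_eq_of
  choose nn rr hrr using hch
  refine ⟨Ideal.span ((T.image rr : Finset _) : Set (MvPolynomial σ B)), ⟨T.image rr, rfl⟩, ?_, ?_⟩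
  · intro r hr
    have hle : Ideal.span ((T.image rr : Finset _) : Set (MvPolynomial σ B)) ≤
        RingHom.ker (MvPolynomial.aeval v : MvPolynomial σ B →ₐ[B] A).toRingHom := by
      rw [Ideal.span_le]
      intro r hr
      simp only [Finset.coe_image, Set.mem_image, Finset.mem_coe] at hr
      obtain ⟨t, ht, rfl⟩ := hr
      show MvPolynomial.aeval v (rr t) = 0
      rw [← piHom_of (p := p), ← hrr t, map_pow]
      have : piHom (p := p) (B := B) v t = 0 :=
        (hI' t).mpr (Ideal.le_radical (Ideal.subset_span ht))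
      rw [this, zero_pow (pow_ne_zero _ hp.ne_zero)]
    exact hle hr
  · intro r hr
    have h1 : PerfectClosure.of _ p r ∈ (Ideal.span (T : Set (PerfectClosure (MvPolynomial σ B) p))).radical := by
      rw [← hI', piHom_of, hr]
    obtain ⟨N, hN⟩ := h1
    -- key claim
    have key : ∀ y ∈ Ideal.span (T : Set (PerfectClosure (MvPolynomial σ B) p)),
        ∃ (n : ℕ) (w : MvPolynomial σ B),
          w ∈ Ideal.span ((T.image rr : Finset _) : Set (MvPolynomial σ B)) ∧
            y ^ p ^ n = PerfectClosure.of _ p w := by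
      intro y hy
      induction hy using Submodule.span_induction with
      | mem t ht =>
        exact ⟨nn t, rr t, Ideal.subset_span (by
          simp only [Finset.coe_image, Set.mem_image, Finset.mem_coe]
          exact ⟨t, ht, rfl⟩), hrr t⟩
      | zero =>
        exact ⟨0, 0, Ideal.zero_mem _, by simp⟩
      | add y z _ _ ihy ihz =>
        obtain ⟨n, w, hw, hyw⟩ := ihy
        obtain ⟨m, w', hw', hzw⟩ := ihz
        refine ⟨n + m, w ^ p ^ m + w' ^ p ^ n,
          Ideal.add_mem _ (Ideal.pow_mem_of_mem _ hw _ (pow_pos hp.pos _))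
            (Ideal.pow_mem_of_mem _ hw' _ (pow_pos hp.pos _)), ?_⟩
        rw [add_pow_prime_pow' hp hP0, pow_pow_add y n m, pow_pow_add' z n m, hyw, hzw, map_add,
          map_pow, map_pow]
      | smul a y _ ihy =>
        obtain ⟨n, w, hw, hyw⟩ := ihy
        obtain ⟨m, z, hz⟩ := exists_pow_eq_of a
        refine ⟨n + m, z ^ p ^ n * w ^ p ^ m,
          Ideal.mul_mem_left _ _ (Ideal.pow_mem_of_mem _ hw _ (pow_pos hp.pos _)), ?_⟩
        rw [smul_eq_mul, mul_pow, pow_pow_add' a n m, pow_pow_add y n m, hz, hyw, map_mul,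
          map_pow, map_pow]
    obtain ⟨n, w, hw, hyw⟩ := key _ hN
    rw [← map_pow, ← map_pow, PerfectClosure.of_apply, PerfectClosure.of_apply,
      PerfectClosure.mk_eq_iff] at hyw
    obtain ⟨z, hz⟩ := hyw
    simp only [zero_add, iterate_frobenius] at hz
    -- hz : ((r ^ N) ^ p ^ n) ^ p ^ z = w ^ p ^ z
    have hmem : ((r ^ N) ^ p ^ n) ^ p ^ z ∈
        Ideal.span ((T.image rr : Finset _) : Set (MvPolynomial σ B)) := by
      rw [hz]
      exact Ideal.pow_mem_of_mem _ hw _ (pow_pos hp.pos _)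
    rw [← pow_mul, ← pow_mul] at hmem
    set L := N * (p ^ n * p ^ z) with hL
    have hLle : L ≤ p ^ L := (Nat.lt_pow_self hp.one_lt).le
    obtain ⟨k, hk⟩ := Nat.exists_eq_add_of_le hLle
    exact ⟨L, by rw [hk, pow_add]; exact Ideal.mul_mem_right _ _ hmem⟩

end step3

section final

variable {p : ℕ} [Fact p.Prime] {B : Type u} [CommRing B] [CharP B p]
  {A : Type u} [CommRing A] [Algebra B A]

theorem exists_model_of_compact (hp0 : (p : A) = 0)
    (hA : Function.Bijective (fun x : A => x ^ p)) (hc : Compact p B A) :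
    ∃ (A₀ : Type u) (_ : CommRing A₀) (_ : Algebra B A₀) (_ : Algebra.FinitePresentation B A₀)
      (k : A₀ →ₐ[B] A), IsPRadical k.toRingHom p := by
  classical
  have hp : p.Prime := Fact.out
  rcases subsingleton_or_nontrivial A with hsub | hnon
  · -- the zero ring
    have hfg : (⊤ : Ideal B).FG := ⟨{1}, by simp⟩
    haveI : Subsingleton (B ⧸ (⊤ : Ideal B)) := Ideal.Quotient.subsingleton_iff.mpr rfl
    refine ⟨B ⧸ (⊤ : Ideal B), inferInstance, inferInstance,
      Algebra.FinitePresentation.quotient hfg,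
      Ideal.Quotient.liftₐ ⊤ (Algebra.ofId B A) (fun a _ => Subsingleton.elim _ _), ?_⟩
    exact
      { pow_mem' := fun x => ⟨0, 0, Subsingleton.elim _ _⟩
        ker_le' := fun x _ => by
          rw [Subsingleton.elim x 0]
          exact zero_mem _ }
  · haveI : CharP A p := by
      have h1 : ringChar A ∣ p := ringChar.dvd hp0
      rcases (Nat.dvd_prime hp).mp h1 with h | h
      · exact absurd h (CharP.ringChar_ne_one)
      · exact ringChar.of_eq h
    haveI : PerfectRing A p := ⟨hA⟩
    obtain ⟨S, hS⟩ := exists_finset_of_compact (B := B) hp hp0 hA hc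
    let v : {x // x ∈ S} → A := Subtype.val
    have hv : ∀ a : A, ∃ n : ℕ, a ^ p ^ n ∈ Algebra.adjoin B (Set.range v) := by
      intro a
      obtain ⟨n, hn⟩ := hS a
      refine ⟨n, ?_⟩
      have : Set.range v = (S : Set A) := Subtype.range_coe
      rw [this]
      exact hn
    obtain ⟨I', hFG, hI'⟩ := exists_fg_radical (p := p) (B := B) v hv hc
    obtain ⟨I₀, hI₀fg, hI₀ker, hI₀rad⟩ := exists_polyIdeal (p := p) (B := B) v I' hFG hI'
    refine ⟨MvPolynomial {x // x ∈ S} B ⧸ I₀, inferInstance, inferInstance,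
      Algebra.FinitePresentation.quotient hI₀fg,
      Ideal.Quotient.liftₐ I₀ (MvPolynomial.aeval v) hI₀ker, ?_⟩
    exact
      { pow_mem' := fun a => by
          obtain ⟨n, hn⟩ := hv a
          rw [Algebra.adjoin_range_eq_range_aeval] at hn
          obtain ⟨r, hr⟩ := hn
          exact ⟨n, Ideal.Quotient.mk I₀ r, hr⟩
        ker_le' := fun x hx => by
          obtain ⟨r, rfl⟩ := Ideal.Quotient.mk_surjective x
          have h1 : MvPolynomial.aeval v r = 0 := hx
          obtain ⟨n, hn⟩ := hI₀rad r h1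
          rw [mem_pNilradical]
          refine ⟨n, ?_⟩
          rw [← map_pow]
          exact Ideal.Quotient.eq_zero_iff_mem.mpr hn }

end final

end Groth.Agent.Lib.Seat50.PerfModel
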