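import Mathlib
import Groth.Agent.Lib.Helper13Tor
import Groth.Agent.Lib.Helper13TorNat
import Groth.Agent.Lib.Helper1TorDim
import Groth.Agent.Lib.Seat50PerfAlg

/-!
# Seat50PerfTor (helper50): `Tor_i^A(B, C) = 0` (`i > 0`) for perfect rings (S14252)
-/

set_option autoImplicit false
set_option linter.unusedSectionVars false
set_option linter.style.haveILetI false
universe u
open CategoryTheory CategoryTheory.Limits MonoidalCategory
open scoped TensorProduct

namespace Groth.Agent.Lib.Seat50.PerfTor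
open Groth.Agent.Helper13Tor Groth.Agent.Lib.Helper1.TorDim Groth.Agent.Lib.Seat50.PerfAlg

section general
variable (A : Type u) [CommRing A] (C : Type u) [AddCommGroup C] [Module A C]

/-- `Tor_i(X, C) = 0` for all `i > 0`. -/
def TV (X : Type u) [AddCommGroup X] [Module A X] : Prop :=
  ∀ i : ℕ, 0 < i →
    IsZero (((Tor (ModuleCat.{u} A) i).obj (ModuleCat.of A X)).obj (ModuleCat.of A C))

variable {A C}
variable {X X' X'' : Type u} [AddCommGroup X] [Module A X] [AddCommGroup X'] [Module A X']
  [AddCommGroup X''] [Module A X'']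

theorem TV.of_flat [Module.Flat A X] : TV A C X := by
  intro i hi
  haveI : Module.Flat A (ModuleCat.of A X) := inferInstanceAs (Module.Flat A X)
  exact isZero_tor_of_flat (ModuleCat.of A C) (ModuleCat.of A X) i hi

theorem TV.of_iso (e : X ≃ₗ[A] X') (h : TV A C X) : TV A C X' := by
  intro i hi
  exact (h i hi).of_iso (((Tor (ModuleCat.{u} A) i).mapIso e.toModuleIso).app (ModuleCat.of A C)).symm

theorem TV.of_flat_algebra {A' : Type u} [CommRing A'] [Algebra A A'] (F : Type u) [AddCommGroup F]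
    [Module A F] [Module A' F] [IsScalarTower A A' F] [Module.Flat A' F] (h : TV A C A') :
    TV A C F := by
  intro i hi
  obtain ⟨q, rfl⟩ : ∃ q, i = q + 1 := ⟨i - 1, by omega⟩
  let P := ProjectiveResolution.of (ModuleCat.of A C)
  have h1 : Subsingleton (DRing.Tor A (q + 1) A' C) :=
    ModuleCat.subsingleton_of_isZero (h (q + 1) hi)
  have h2 : Subsingleton (DRing.Tor A (q + 1) F C) :=
    (subsingleton_tor_iff F C P q).2
      (exact_lTensor_of_flat_algebra F _ _ ((subsingleton_tor_iff A' C P q).1 h1))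
  exact ModuleCat.isZero_of_subsingleton _

theorem TV.of_ses (f : X' →ₗ[A] X) (g : X →ₗ[A] X'') (hf : Function.Injective f)
    (hg : Function.Surjective g) (hfg : Function.Exact f g) (h' : TV A C X') (h : TV A C X)
    (hinj : Function.Injective (f.rTensor C)) : TV A C X'' := by
  intro i hi
  obtain ⟨n, rfl⟩ : ∃ n, i = n + 1 := ⟨i - 1, by omega⟩
  let S : ShortComplex (ModuleCat.{u} A) :=
    ShortComplex.mk (ModuleCat.ofHom f : ModuleCat.of A X' ⟶ ModuleCat.of A X)
      (ModuleCat.ofHom g : ModuleCat.of A X ⟶ ModuleCat.of A X'') (by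
        apply ModuleCat.hom_ext
        apply LinearMap.ext
        intro y
        exact hfg.apply_apply_eq_zero y)
  have hS : S.ShortExact :=
    { exact := by
        rw [ShortComplex.ShortExact.moduleCat_exact_iff_function_exact]
        exact hfg
      mono_f := by
        rw [ModuleCat.mono_iff_injective]
        exact hf
      epi_g := by
        rw [ModuleCat.epi_iff_surjective]
        exact hg }
  cases n with
  | zero =>
    obtain ⟨δ, w₁, w₂, e1, e2⟩ := exists_δ S hS (ModuleCat.of A C) 0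
    -- `Tor_0(X', C) ⟶ Tor_0(X, C)` is a monomorphism
    have hnat := congrArg (fun t => t.app (ModuleCat.of A C)) (torZeroIso.hom.naturality S.f)
    simp only [NatTrans.comp_app] at hnat
    have hm : Mono (((tensoringLeft (ModuleCat.{u} A)).map S.f).app (ModuleCat.of A C)) := by
      rw [ModuleCat.mono_iff_injective]
      exact hinj
    let i1 := (torZeroIso.app S.X₁).app (ModuleCat.of A C)
    let i2 := (torZeroIso.app S.X₂).app (ModuleCat.of A C)
    have hnat' : ((Tor (ModuleCat.{u} A) 0).map S.f).app (ModuleCat.of A C) ≫ i2.hom =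
        i1.hom ≫ ((tensoringLeft (ModuleCat.{u} A)).map S.f).app (ModuleCat.of A C) := hnat
    have hm2 : Mono (((Tor (ModuleCat.{u} A) 0).map S.f).app (ModuleCat.of A C)) := by
      have e : ((Tor (ModuleCat.{u} A) 0).map S.f).app (ModuleCat.of A C) =
          i1.hom ≫ (((tensoringLeft (ModuleCat.{u} A)).map S.f).app (ModuleCat.of A C) ≫
            i2.inv) := by
        rw [← Category.assoc, ← hnat', Category.assoc, Iso.hom_inv_id, Category.comp_id]
      rw [e]
      haveI : Mono (((tensoringLeft (ModuleCat.{u} A)).map S.f).app (ModuleCat.of A C) ≫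
          i2.inv) := mono_comp _ _
      exact mono_comp _ _
    have hδ : δ = 0 := (cancel_mono _).1 (w₂.trans zero_comp.symm)
    have hepi : Epi (((Tor (ModuleCat.{u} A) (0 + 1)).map S.g).app (ModuleCat.of A C)) :=
      e1.epi_f hδ
    exact IsZero.of_epi (((Tor (ModuleCat.{u} A) (0 + 1)).map S.g).app (ModuleCat.of A C))
      (h (0 + 1) (by omega))
  | succ n =>
    exact isZero_tor_X₃ S hS (ModuleCat.of A C) (n + 1) (h (n + 1 + 1) (by omega))
      (h' (n + 1) (by omega))


section union
variable {ι : Type*} [Nonempty ι] [Preorder ι] [IsDirected ι (· ≤ ·)]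

theorem exists_rTensor_inclusion_eq (K : ι → Submodule A X) (hK : Monotone K) {M : Type*}
    [AddCommGroup M] [Module A M] (w : (↥(⨆ i, K i)) ⊗[A] M) :
    ∃ (i : ι) (wi : (↥(K i)) ⊗[A] M),
      (Submodule.inclusion (le_iSup K i)).rTensor M wi = w := by
  induction w using TensorProduct.induction_on with
  | zero => exact ⟨Classical.arbitrary ι, 0, by simp⟩
  | tmul k m =>
    obtain ⟨i, hi⟩ := (Submodule.mem_iSup_of_directed K hK.directed_le).mp k.2
    refine ⟨i, (⟨k.1, hi⟩ : K i) ⊗ₜ m, ?_⟩
    rw [LinearMap.rTensor_tmul]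
    rfl
  | add x y hx hy =>
    obtain ⟨i, wi, rfl⟩ := hx
    obtain ⟨j, wj, rfl⟩ := hy
    obtain ⟨l, hil, hjl⟩ := exists_ge_ge i j
    refine ⟨l, (Submodule.inclusion (hK hil)).rTensor M wi +
      (Submodule.inclusion (hK hjl)).rTensor M wj, ?_⟩
    rw [map_add, ← LinearMap.comp_apply, ← LinearMap.comp_apply, ← LinearMap.rTensor_comp,
      ← LinearMap.rTensor_comp]
    rfl

theorem exact_lTensor_quot_iSup (K : ι → Submodule A X) (hK : Monotone K) {M2 M1 M0 : Type*}
    [AddCommGroup M2] [Module A M2] [AddCommGroup M1] [Module A M1] [AddCommGroup M0] [Module A M0]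
    (d2 : M2 →ₗ[A] M1) (d1 : M1 →ₗ[A] M0) (hd : d1 ∘ₗ d2 = 0)
    (h : ∀ i, Function.Exact (d2.lTensor (X ⧸ K i)) (d1.lTensor (X ⧸ K i))) :
    Function.Exact (d2.lTensor (X ⧸ ⨆ i, K i)) (d1.lTensor (X ⧸ ⨆ i, K i)) := by
  intro y
  constructor
  · intro hy
    obtain ⟨y', rfl⟩ := LinearMap.rTensor_surjective M1 (Submodule.mkQ_surjective (⨆ i, K i)) y
    have h1 : ((⨆ i, K i).mkQ.rTensor M0) (d1.lTensor X y') = 0 := by
      rw [← LinearMap.comp_apply, LinearMap.rTensor_comp_lTensor, ← LinearMap.lTensor_comp_rTensor,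
        LinearMap.comp_apply]
      exact hy
    have hex := rTensor_exact M0 (LinearMap.exact_subtype_mkQ (⨆ i, K i))
      (Submodule.mkQ_surjective (⨆ i, K i))
    obtain ⟨w, hw⟩ := (hex _).1 h1
    obtain ⟨i, wi, rfl⟩ := exists_rTensor_inclusion_eq K hK w
    have h2 : d1.lTensor (X ⧸ K i) ((K i).mkQ.rTensor M1 y') = 0 := by
      rw [← LinearMap.comp_apply, LinearMap.lTensor_comp_rTensor, ← LinearMap.rTensor_comp_lTensor,
        LinearMap.comp_apply, ← hw, ← LinearMap.comp_apply, ← LinearMap.comp_apply,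
        ← LinearMap.rTensor_comp, ← LinearMap.rTensor_comp]
      have : ((K i).mkQ ∘ₗ (⨆ i, K i).subtype) ∘ₗ Submodule.inclusion (le_iSup K i) = 0 := by
        ext x
        simp [Submodule.inclusion]
      rw [this, LinearMap.rTensor_zero, LinearMap.zero_apply]
    obtain ⟨xi, hxi⟩ := (h i _).1 h2
    refine ⟨(Submodule.mapQ (K i) (⨆ i, K i) LinearMap.id (le_iSup K i)).rTensor M2 xi, ?_⟩
    rw [← LinearMap.comp_apply, LinearMap.lTensor_comp_rTensor, ← LinearMap.rTensor_comp_lTensor,
      LinearMap.comp_apply, hxi, ← LinearMap.comp_apply, ← LinearMap.rTensor_comp]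
    rfl
  · rintro ⟨x, rfl⟩
    rw [← LinearMap.comp_apply, ← LinearMap.lTensor_comp, hd, LinearMap.lTensor_zero,
      LinearMap.zero_apply]

theorem TV.quot_iSup {ι : Type u} [Nonempty ι] [Preorder ι] [IsDirected ι (· ≤ ·)]
    (K : ι → Submodule A X) (hK : Monotone K) (h : ∀ i, TV A C (X ⧸ K i)) :
    TV A C (X ⧸ ⨆ i, K i) := by
  intro i hi
  obtain ⟨q, rfl⟩ : ∃ q, i = q + 1 := ⟨i - 1, by omega⟩
  let P := ProjectiveResolution.of (ModuleCat.of A C)
  have h2 : Subsingleton (DRing.Tor A (q + 1) (X ⧸ ⨆ i, K i) C) := by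
    rw [subsingleton_tor_iff _ C P q]
    refine exact_lTensor_quot_iSup K hK _ _ ?_ ?_
    · have := P.complex.d_comp_d (q + 2) (q + 1) q
      have h3 := congrArg ModuleCat.Hom.hom this
      exact h3
    · intro j
      rw [← subsingleton_tor_iff _ C P q]
      exact ModuleCat.subsingleton_of_isZero (h j (q + 1) hi)
  exact ModuleCat.isZero_of_subsingleton _

end union

end general


section perfect
variable {p : ℕ} {A : Type u} [CommRing A] {C : Type u} [CommRing C] [Algebra A C]
  {A₀ : Type u} [CommRing A₀] [Algebra A A₀]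

theorem sub_pow_prime' {R : Type*} [CommRing R] (hp : p.Prime) (hp0 : (p : R) = 0) (x y : R) :
    (x - y) ^ p = x ^ p - y ^ p := by
  have := add_pow_prime' hp hp0 (x - y) y
  rw [sub_add_cancel] at this
  rw [this, add_sub_cancel_right]

/-- the quotient by a radical ideal still has bijective `p`-th power map. -/
theorem powBij_quotient (hp : p.Prime) (hp0 : (p : A₀) = 0) (h₀ : PowBij p A₀) (K : Ideal A₀)
    (hK : K.IsRadical) : PowBij p (A₀ ⧸ K) := by
  constructor
  · intro x y hxy
    obtain ⟨x, rfl⟩ := Ideal.Quotient.mk_surjective x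
    obtain ⟨y, rfl⟩ := Ideal.Quotient.mk_surjective y
    simp only [← map_pow] at hxy
    rw [Ideal.Quotient.mk_eq_mk_iff_sub_mem, ← sub_pow_prime' hp hp0] at hxy
    rw [Ideal.Quotient.mk_eq_mk_iff_sub_mem]
    exact hK ⟨p, hxy⟩
  · intro y
    obtain ⟨y, rfl⟩ := Ideal.Quotient.mk_surjective y
    obtain ⟨x, hx⟩ := h₀.2 y
    exact ⟨Ideal.Quotient.mk K x, by
      show Ideal.Quotient.mk K x ^ p = _
      rw [← map_pow]
      exact congrArg _ hx⟩

theorem TV.of_ideal_eq {K K' : Ideal A₀} (h : K = K') (hTV : TV A C (A₀ ⧸ K)) : TV A C (A₀ ⧸ K') := by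
  subst h
  exact hTV

/-- **Step.** Adding one more element to a radical ideal. -/
theorem TV.step (hp : p.Prime) (hp0 : (p : A) = 0) (hA : PowBij p A) (hC : PowBij p C)
    (h₀ : PowBij p A₀) (K : Ideal A₀) (hK : K.IsRadical) (hTV : TV A C (A₀ ⧸ K)) (f : A₀) :
    TV A C (A₀ ⧸ (K ⊔ Ideal.span {f}).radical) := by
  have hp0' : (p : A₀) = 0 := natCast_eq_zero_of_algebra hp0 A₀
  have hA' : PowBij p (A₀ ⧸ K) := powBij_quotient hp hp0' h₀ K hK
  set f' : A₀ ⧸ K := Ideal.Quotient.mk K f with hf'
  have hle : K ≤ (K ⊔ Ideal.span {f}).radical := le_sup_left.trans Ideal.le_radical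
  haveI : Module.Flat (A₀ ⧸ K) ((Ideal.span {f'}).radical) :=
    hA'.flat_radical_span_singleton hp f'
  have hTVJ : TV A C ((Ideal.span {f'}).radical) :=
    TV.of_flat_algebra (A' := A₀ ⧸ K) ((Ideal.span {f'}).radical) hTV
  refine TV.of_ses (((Ideal.span {f'}).radical).subtype.restrictScalars A)
    (Ideal.Quotient.factorₐ A hle).toLinearMap ?_ ?_ ?_ hTVJ hTV
    (rTensor_radical_injective hp hp0 hA hA' hC f')
  · exact Subtype.val_injective
  · intro x
    obtain ⟨z, rfl⟩ := Ideal.Quotient.mk_surjective x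
    exact ⟨Ideal.Quotient.mk K z, rfl⟩
  · intro x
    obtain ⟨z, rfl⟩ := Ideal.Quotient.mk_surjective x
    have key : Ideal.Quotient.mk K z ∈ (Ideal.span {f'}).radical ↔
        z ∈ (K ⊔ Ideal.span {f}).radical := by
      have h1 : (Ideal.span {f'}).radical.comap (Ideal.Quotient.mk K) =
          (K ⊔ Ideal.span {f}).radical := by
        rw [Ideal.comap_radical, hf', ← Set.image_singleton, ← Ideal.map_span,
          Ideal.comap_map_of_surjective _ Ideal.Quotient.mk_surjective, ← RingHom.ker_eq_comap_bot,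
          Ideal.mk_ker, sup_comm]
      rw [← h1, Ideal.mem_comap]
    constructor
    · intro hx
      have hx' : Ideal.Quotient.mk (K ⊔ Ideal.span {f}).radical z = 0 := hx
      rw [Ideal.Quotient.eq_zero_iff_mem, ← key] at hx'
      exact ⟨⟨_, hx'⟩, rfl⟩
    · rintro ⟨w, hw⟩
      have hw' : (w : A₀ ⧸ K) = Ideal.Quotient.mk K z := hw
      have hz : z ∈ (K ⊔ Ideal.span {f}).radical := key.mp (hw' ▸ w.2)
      show Ideal.Quotient.mk (K ⊔ Ideal.span {f}).radical z = 0
      rwa [Ideal.Quotient.eq_zero_iff_mem]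

theorem radical_span_insert (f : A₀) (S : Set A₀) :
    (Ideal.span (insert f S)).radical = ((Ideal.span S).radical ⊔ Ideal.span {f}).radical := by
  rw [Ideal.span_insert, sup_comm]
  apply le_antisymm
  · exact Ideal.radical_mono (sup_le_sup_right Ideal.le_radical _)
  · rw [Ideal.radical_le_radical_iff]
    exact sup_le (Ideal.radical_mono le_sup_left) (le_sup_right.trans Ideal.le_radical)

theorem TV.finset [Module.Flat A A₀] (hp : p.Prime) (hp0 : (p : A) = 0) (hA : PowBij p A)
    (hC : PowBij p C) (h₀ : PowBij p A₀) (S : Finset A₀) :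
    TV A C (A₀ ⧸ (Ideal.span (S : Set A₀)).radical) := by
  classical
  induction S using Finset.induction_on with
  | empty =>
    have hbot : (Ideal.span ((∅ : Finset A₀) : Set A₀)).radical = ⊥ := by
      rw [Finset.coe_empty, Ideal.span_empty, eq_bot_iff]
      rintro x ⟨n, hn⟩
      exact h₀.eq_zero_of_pow_eq_zero hp hn
    refine TV.of_ideal_eq hbot.symm ?_
    exact TV.of_iso ((Submodule.quotEquivOfEqBot (⊥ : Submodule A₀ A₀) rfl).restrictScalars A).symm
      TV.of_flat
  | insert f S _ ih =>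
    rw [Finset.coe_insert]
    refine TV.of_ideal_eq (radical_span_insert f (S : Set A₀)).symm ?_
    exact TV.step hp hp0 hA hC h₀ _ (Ideal.radical_isRadical _) ih f

end perfect


/-- **S14252.** -/
theorem isZero_tor_of_perfect (p : ℕ) [Fact p.Prime] (A B C : Type u) [CommRing A] [CommRing B]
    [CommRing C] [CharP A p] [Algebra A B] [Algebra A C]
    (hA : Function.Bijective fun a : A => a ^ p) (hB : Function.Bijective fun b : B => b ^ p)
    (hC : Function.Bijective fun c : C => c ^ p) (i : ℕ) (hi : 0 < i) :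
    Limits.IsZero (((Tor (ModuleCat.{u} A) i).obj (ModuleCat.of A B)).obj (ModuleCat.of A C)) := by
  classical
  have hp : p.Prime := Fact.out
  have hp0 : (p : A) = 0 := CharP.cast_eq_zero A p
  have hB' : PowBij p B := hB
  have h₀ : PowBij p (MonoidAlgebra A B) := powBij_monoidAlgebra hp hp0 hA hB'
  let π : MonoidAlgebra A B →ₐ[A] B := MonoidAlgebra.lift A B B (MonoidHom.id B)
  have hπ : Function.Surjective π := fun b => ⟨MonoidAlgebra.single b 1, by simp [π]⟩
  haveI : Module.Flat A (MonoidAlgebra A B) := inferInstance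
  -- the directed family of finitely generated radical ideals inside the kernel
  let ι : Type u := {S : Finset (MonoidAlgebra A B) // ∀ x ∈ S, π x = 0}
  haveI : Nonempty ι := ⟨⟨∅, by simp⟩⟩
  haveI : IsDirected ι (· ≤ ·) := ⟨fun S T => ⟨⟨S.1 ∪ T.1, fun x hx => by
    rcases Finset.mem_union.mp hx with h | h
    · exact S.2 x h
    · exact T.2 x h⟩, Finset.subset_union_left, Finset.subset_union_right⟩⟩
  let K : ι → Submodule A (MonoidAlgebra A B) := fun S =>
    ((Ideal.span ((S.1 : Finset (MonoidAlgebra A B)) : Set (MonoidAlgebra A B))).radical).restrictScalars A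
  have hKmono : Monotone K := by
    intro S T hST x hx
    exact Ideal.radical_mono (Ideal.span_mono (Finset.coe_subset.mpr hST)) hx
  have hTVK : ∀ S, TV A C (MonoidAlgebra A B ⧸ K S) := fun S =>
    TV.of_iso (Submodule.Quotient.restrictScalarsEquiv A _).symm
      (TV.finset hp hp0 hA hC h₀ S.1)
  have hsup : ⨆ S, K S = LinearMap.ker π.toLinearMap := by
    ext x
    rw [Submodule.mem_iSup_of_directed _ hKmono.directed_le, LinearMap.mem_ker]
    constructor
    · rintro ⟨S, n, hn⟩
      have h1 : Ideal.span ((S.1 : Finset (MonoidAlgebra A B)) : Set (MonoidAlgebra A B)) ≤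
          RingHom.ker π.toRingHom := by
        rw [Ideal.span_le]
        intro y hy
        exact S.2 y hy
      have h2 : π (x ^ n) = 0 := h1 hn
      rw [map_pow] at h2
      exact hB'.eq_zero_of_pow_eq_zero hp h2
    · intro hx
      refine ⟨⟨{x}, fun y hy => by rw [Finset.mem_singleton.mp hy]; exact hx⟩, ?_⟩
      exact Ideal.le_radical (Ideal.subset_span (by simp))
  have h1 : TV A C (MonoidAlgebra A B ⧸ ⨆ S, K S) := TV.quot_iSup K hKmono hTVK
  have h2 : TV A C B :=
    TV.of_iso ((Submodule.quotEquivOfEq _ _ hsup).trans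
      (π.toLinearMap.quotKerEquivOfSurjective hπ)) h1
  exact h2 i hi

end Groth.Agent.Lib.Seat50.PerfTor
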