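import Mathlib
import Groth.Prelude.Def_W4bk4grassmannianPl
import Groth.Agent.Lib.Seat50SchubertPrime
import Groth.Agent.Lib.Seat50NormalAway

/-!
# The big cell of a Schubert cone (helper50)

For `τ ∈ I(d,n)` the localization of `S/J(τ)` at the class of `X_τ` is the localization of a polynomial
ring at one variable (`isLocalization_away_cell`): Plücker coordinates are evaluated at the echelon matrices
`E(z,u)` of the cell of `τ` (rows `τ` the identity, the first column scaled by `u`).
-/

namespace Groth.Agent.Lib.Seat50.SchubertCell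

open W4bk4grassmannian MvPolynomial StdIndep StdMon StdIndep2 SchubertPrime

universe u

variable {d n : ℕ}

section Defs

variable (K : Type u) [Field K] (τ : Idx d n)

/-- The free coordinates of the cell of `τ`. -/
abbrev Z (τ : Idx d n) : Type := {p : Fin n × Fin d // p.1 < τ.1 p.2 ∧ p.1 ∉ Set.range τ.1}

/-- The polynomial ring of the cone over the cell: the cell coordinates and the scaling variable `none`. -/
abbrev PR : Type u := MvPolynomial (Option (Z τ)) K

open Classical in
/-- The echelon matrix of the cell of `τ` (rows `τ` form the identity). -/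
noncomputable def E1 : Matrix (Fin n) (Fin d) (PR K τ) := Matrix.of fun l s =>
  if l = τ.1 s then 1
  else if h : (l < τ.1 s ∧ l ∉ Set.range τ.1) then X (some ⟨(l, s), h⟩) else 0

/-- Scaling of the first column by the variable `none`. -/
noncomputable def Dg : Matrix (Fin d) (Fin d) (PR K τ) :=
  Matrix.diagonal fun s => if s.val = 0 then X none else 1

/-- The scaled echelon matrix. -/
noncomputable def E : Matrix (Fin n) (Fin d) (PR K τ) := E1 K τ * Dg K τ

theorem det_Dg (hd : 0 < d) : (Dg K τ).det = X none := by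
  rw [Dg, Matrix.det_diagonal, Finset.prod_eq_single (⟨0, hd⟩ : Fin d)]
  · simp
  · intro s _ hs
    rw [if_neg]
    intro h
    exact hs (Fin.ext h)
  · intro h; exact absurd (Finset.mem_univ _) h

theorem E1_tau (s' s : Fin d) : E1 K τ (τ.1 s') s = if s' = s then 1 else 0 := by
  classical
  simp only [E1, Matrix.of_apply]
  by_cases h : s' = s
  · subst h; rw [if_pos rfl, if_pos rfl]
  · rw [if_neg h, if_neg (fun h' => h (τ.2.injective h')), dif_neg]
    rintro ⟨_, h2⟩
    exact h2 ⟨s', rfl⟩

theorem E1_free (p : Z τ) : E1 K τ p.1.1 p.1.2 = X (some p) := by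
  classical
  simp only [E1, Matrix.of_apply]
  rw [if_neg (ne_of_lt p.2.1), dif_pos p.2]

theorem E1_zero (l : Fin n) (s : Fin d) (h : τ.1 s < l) : E1 K τ l s = 0 := by
  classical
  simp only [E1, Matrix.of_apply]
  rw [if_neg (ne_of_gt h), dif_neg]
  rintro ⟨h1, _⟩
  exact absurd h1 (not_lt.mpr (le_of_lt h))

theorem E_zero (l : Fin n) (s : Fin d) (h : τ.1 s < l) : E K τ l s = 0 := by
  rw [E, Dg, Matrix.mul_diagonal, E1_zero K τ l s h, zero_mul]

theorem submatrix_mul_id {R : Type*} [CommRing R] (A : Matrix (Fin n) (Fin d) R)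
    (M : Matrix (Fin d) (Fin d) R) (a : Fin d → Fin n) :
    (A * M).submatrix a id = A.submatrix a id * M := by
  ext i j
  simp [Matrix.mul_apply]

theorem E1_submatrix_tau : (E1 K τ).submatrix τ.1 id = 1 := by
  ext s' s
  rw [Matrix.submatrix_apply, id, E1_tau, Matrix.one_apply]

theorem det_E_tau (hd : 0 < d) : ((E K τ).submatrix τ.1 id).det = X none := by
  rw [E, submatrix_mul_id, E1_submatrix_tau, one_mul, det_Dg K τ hd]

theorem det_E_update (hd : 0 < d) (p : Z τ) :
    ((E K τ).submatrix (Function.update τ.1 p.1.2 p.1.1) id).det = X (some p) * X none := by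
  have h1 : (E1 K τ).submatrix (Function.update τ.1 p.1.2 p.1.1) id =
      (1 : Matrix (Fin d) (Fin d) (PR K τ)).updateRow p.1.2 (E1 K τ p.1.1) := by
    ext s' c
    rw [Matrix.submatrix_apply, id, Matrix.updateRow_apply]
    by_cases h : s' = p.1.2
    · rw [if_pos h, h, Function.update_self]
    · rw [if_neg h, Function.update_of_ne h, E1_tau, Matrix.one_apply]
  rw [E, submatrix_mul_id, Matrix.det_mul, h1, Plucker.det_updateRow_one, det_Dg K τ hd, E1_free]

end Defs

section Eval

variable (K : Type u) [Field K] (τ : Idx d n)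

/-- Evaluation of Plücker polynomials at the minors of a matrix over a `K`-algebra. -/
noncomputable def evM {R : Type*} [CommRing R] [Algebra K R] (M : Matrix (Fin n) (Fin d) R) :
    PlRing K d n →ₐ[K] R :=
  aeval fun θ : Idx d n => (M.submatrix θ.1 id).det

theorem evM_coord {R : Type*} [CommRing R] [Algebra K R] (M : Matrix (Fin n) (Fin d) R)
    (a : Fin d → Fin n) : evM K M (coord K d n a) = (M.submatrix a id).det := by
  have hpc := Plucker.pc_minors M (fun θ : Idx d n => (M.submatrix θ.1 id).det) (fun _ => rfl) a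
  by_cases h : (Finset.univ.image a).card = d
  · rw [coord, dif_pos h, map_mul, map_pow, map_neg, map_one, evM, aeval_X, ← hpc,
      Plucker.pc_of_injective _ a h]
  · rw [coord, dif_neg h, map_zero, ← hpc]
    rw [Plucker.pc_of_not_injective]
    intro hinj
    exact h ((Plucker.card_image_eq_iff a).mpr hinj)

theorem evM_X {R : Type*} [CommRing R] [Algebra K R] (M : Matrix (Fin n) (Fin d) R) (θ : Idx d n) :
    evM K M (X θ) = (M.submatrix θ.1 id).det := by
  rw [evM, aeval_X]

theorem eval_evM {ι : Type*} (M : Matrix (Fin n) (Fin d) (MvPolynomial ι K)) (y : ι → K)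
    (f : PlRing K d n) :
    eval y (evM K M f) = evalMinors K d n (M.map (eval y)) f := by
  have h : (aeval y : MvPolynomial ι K →ₐ[K] K).comp (evM K M) =
      evalMinors K d n (M.map (eval y)) := by
    apply MvPolynomial.algHom_ext
    intro θ
    rw [AlgHom.comp_apply, evM_X, evalMinors, aeval_X]
    change (eval y) (M.submatrix θ.1 id).det = _
    rw [RingHom.map_det]
    rfl
  have := congrArg (fun g => g f) h
  simpa using this

theorem evM_eq_zero_of_mem [Infinite K] {ι : Type*} (M : Matrix (Fin n) (Fin d) (MvPolynomial ι K))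
    (hM : ∀ l s, τ.1 s < l → M l s = 0) (f : PlRing K d n)
    (hf : f ∈ schubertVanishing K d n τ) : evM K M f = 0 := by
  apply MvPolynomial.funext
  intro y
  rw [eval_evM, map_zero]
  have h1 := Ideal.mem_iInf.mp hf (M.map (eval y))
  have h2 := Ideal.mem_iInf.mp h1 (fun φ hφ => by
    apply det_submatrix_eq_zero τ φ _ _ hφ
    intro l t hlt
    rw [Matrix.map_apply, hM l t hlt, map_zero])
  exact h2

/-- The substitution of the minors of the scaled echelon matrix. -/
noncomputable def evE : PlRing K d n →ₐ[K] PR K τ := evM K (E K τ)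

theorem evE_eq_zero_of_mem [Infinite K] (f : PlRing K d n)
    (hf : f ∈ schubertVanishing K d n τ) : evE K τ f = 0 :=
  evM_eq_zero_of_mem K τ (E K τ) (E_zero K τ) f hf

theorem evE_X_tau (hd : 0 < d) : evE K τ (X τ) = X none := by
  rw [evE, evM_X, det_E_tau K τ hd]

theorem evE_coord_update (hd : 0 < d) (p : Z τ) :
    evE K τ (coord K d n (Function.update τ.1 p.1.2 p.1.1)) = X (some p) * X none := by
  rw [evE, evM_coord, det_E_update K τ hd]

/-- Every polynomial in the cell coordinates becomes, after multiplication by a power of the scaling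
variable, the image of a Plücker polynomial. -/
theorem exists_evE_eq (hd : 0 < d) (g : PR K τ) :
    ∃ (k : ℕ) (a : PlRing K d n), evE K τ a = (X none) ^ k * g := by
  induction g using MvPolynomial.induction_on with
  | C c => exact ⟨0, C c, by rw [pow_zero, one_mul]; exact (evE K τ).commutes c⟩
  | add p q hp hq =>
    obtain ⟨k₁, a₁, h₁⟩ := hp
    obtain ⟨k₂, a₂, h₂⟩ := hq
    refine ⟨k₁ + k₂, X τ ^ k₂ * a₁ + X τ ^ k₁ * a₂, ?_⟩
    rw [map_add, map_mul, map_mul, map_pow, map_pow, evE_X_tau K τ hd, h₁, h₂]
    ring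
  | mul_X p i hp =>
    obtain ⟨k, a, h⟩ := hp
    cases i with
    | none =>
      refine ⟨k, a * X τ, ?_⟩
      rw [map_mul, evE_X_tau K τ hd, h]
      ring
    | some z =>
      refine ⟨k + 1, a * coord K d n (Function.update τ.1 z.1.2 z.1.1), ?_⟩
      rw [map_mul, evE_coord_update K τ hd, h]
      ring

end Eval

section Reduction

variable (K : Type u) [Field K] (τ : Idx d n)

theorem wt_le_of_le {θ τ : Idx d n} (h : θ ≤ τ) : Straighten.wt θ ≤ Straighten.wt τ :=
  Finset.sum_le_sum (fun t _ => Fin.le_def.mp (h t))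

theorem tsum_update_gt (s : Fin d) (l : Fin n) (h : τ.1 s < l) :
    Straighten.wt τ < Straighten.tsum (Function.update τ.1 s l) := by
  unfold Straighten.wt Straighten.tsum
  apply Finset.sum_lt_sum
  · intro t _
    by_cases ht : t = s
    · subst ht; rw [Function.update_self]; exact le_of_lt h
    · rw [Function.update_of_ne ht]
  · exact ⟨s, Finset.mem_univ _, by rw [Function.update_self]; exact h⟩

theorem det_update_eq_zero (A : Matrix (Fin n) (Fin d) K)
    (hA : ∀ φ : Idx d n, ¬ φ ≤ τ → (A.submatrix φ.1 id).det = 0) (s : Fin d) (l : Fin n)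
    (h : τ.1 s < l) : (A.submatrix (Function.update τ.1 s l) id).det = 0 := by
  rw [← Shuffle.evalMinors_coord]
  rcases Straighten.coord_cases' K (Function.update τ.1 s l) with h0 | ⟨θ, ε, hθ, hc⟩
  · rw [h0, map_zero]
  · rw [hc, map_mul]
    have hnot : ¬ θ ≤ τ := by
      intro hle
      have h1 := wt_le_of_le hle
      rw [hθ] at h1
      exact absurd (tsum_update_gt τ s l h) (not_lt.mpr h1)
    have h2 : evalMinors K d n A (X θ) = 0 := by
      rw [evalMinors, aeval_X]; exact hA θ hnot
    rw [h2, mul_zero]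

/-- A matrix satisfying the Schubert condition of `τ` with non-vanishing `τ`-minor has the Plücker
coordinates of a point of the cone over the cell. -/
theorem exists_point (hd : 0 < d) (A : Matrix (Fin n) (Fin d) K)
    (hA : ∀ φ : Idx d n, ¬ φ ≤ τ → (A.submatrix φ.1 id).det = 0)
    (hδ : (A.submatrix τ.1 id).det ≠ 0) :
    ∃ q : Option (Z τ) → K, ∀ a : Fin d → Fin n,
      (A.submatrix a id).det = eval q ((E K τ).submatrix a id).det := by
  classical
  obtain ⟨N, hN⟩ : ∃ N : Matrix (Fin d) (Fin d) K, N = A.submatrix τ.1 id := ⟨_, rfl⟩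
  have hunit : IsUnit N.det := by rw [hN]; exact isUnit_iff_ne_zero.mpr hδ
  obtain ⟨B, hB⟩ : ∃ B : Matrix (Fin n) (Fin d) K, B = A * N⁻¹ := ⟨_, rfl⟩
  have hBsub : ∀ a : Fin d → Fin n, B.submatrix a id = A.submatrix a id * N⁻¹ := by
    intro a; rw [hB, submatrix_mul_id]
  have hBτ : B.submatrix τ.1 id = 1 := by
    rw [hBsub, ← hN, Matrix.mul_nonsing_inv N hunit]
  have hBτ' : ∀ s' s : Fin d, B (τ.1 s') s = if s' = s then 1 else 0 := by
    intro s' s
    have := congrFun (congrFun hBτ s') s
    rw [Matrix.submatrix_apply, id, Matrix.one_apply] at this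
    exact this
  have hBupd : ∀ (s : Fin d) (l : Fin n),
      (B.submatrix (Function.update τ.1 s l) id).det = B l s := by
    intro s l
    have h1 : B.submatrix (Function.update τ.1 s l) id =
        (1 : Matrix (Fin d) (Fin d) K).updateRow s (B l) := by
      ext s' c
      rw [Matrix.submatrix_apply, id, Matrix.updateRow_apply]
      by_cases h : s' = s
      · rw [if_pos h, h, Function.update_self]
      · rw [if_neg h, Function.update_of_ne h, hBτ', Matrix.one_apply]
    rw [h1, Plucker.det_updateRow_one]
  have hBzero : ∀ (l : Fin n) (s : Fin d), τ.1 s < l → B l s = 0 := by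
    intro l s h
    rw [← hBupd s l, hBsub, Matrix.det_mul, det_update_eq_zero K τ A hA s l h, zero_mul]
  obtain ⟨q, hq⟩ : ∃ q : Option (Z τ) → K, q = fun o => match o with
      | none => N.det
      | some p => B p.1.1 p.1.2 := ⟨_, rfl⟩
  have hqn : q none = N.det := by rw [hq]
  have hqs : ∀ p : Z τ, q (some p) = B p.1.1 p.1.2 := by intro p; rw [hq]
  have hE1 : (E1 K τ).map (eval q) = B := by
    ext l s
    rw [Matrix.map_apply]
    simp only [E1, Matrix.of_apply]
    by_cases h1 : l = τ.1 s
    · rw [if_pos h1, map_one, h1, hBτ', if_pos rfl]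
    · rw [if_neg h1]
      by_cases h2 : l < τ.1 s ∧ l ∉ Set.range τ.1
      · rw [dif_pos h2, eval_X, hqs]
      · rw [dif_neg h2, map_zero]
        by_cases h3 : τ.1 s < l
        · exact (hBzero l s h3).symm
        · have hlt : l < τ.1 s := lt_of_le_of_ne (not_lt.mp h3) h1
          have hrange : l ∈ Set.range τ.1 := by
            by_contra hnr
            exact h2 ⟨hlt, hnr⟩
          obtain ⟨s', hs'⟩ := hrange
          rw [← hs', hBτ', if_neg]
          intro hss'
          rw [hss'] at hs'
          exact h1 hs'.symm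
  have hDg : (Dg K τ).map (eval q) =
      Matrix.diagonal fun s : Fin d => if s.val = 0 then N.det else 1 := by
    rw [Dg, Matrix.diagonal_map (map_zero _)]
    congr 1
    funext s
    by_cases hs : s.val = 0
    · rw [if_pos hs, if_pos hs, eval_X, hqn]
    · rw [if_neg hs, if_neg hs, map_one]
  have hdetD : (Matrix.diagonal fun s : Fin d => if s.val = 0 then N.det else 1).det = N.det := by
    rw [Matrix.det_diagonal, Finset.prod_eq_single (⟨0, hd⟩ : Fin d)]
    · simp
    · intro s _ hs
      rw [if_neg]
      intro h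
      exact hs (Fin.ext h)
    · intro h; exact absurd (Finset.mem_univ _) h
  refine ⟨q, fun a => ?_⟩
  have h1 : eval q ((E K τ).submatrix a id).det =
      (((E K τ).map (eval q)).submatrix a id).det := by
    rw [RingHom.map_det]
    rfl
  rw [h1, E, Matrix.map_mul, hE1, hDg, submatrix_mul_id, Matrix.det_mul, hdetD, hBsub,
    Matrix.det_mul, Matrix.det_nonsing_inv, Ring.inverse_eq_inv', mul_assoc,
    inv_mul_cancel₀ (by rw [hN]; exact hδ), mul_one]

theorem mem_of_evE_eq_zero [Infinite K] (hd : 0 < d) (f : PlRing K d n) (hf : evE K τ f = 0) :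
    f ∈ schubertVanishing K d n τ := by
  have hprime := schubert_isPrime K hd τ
  have hX : X τ ∉ schubertVanishing K d n τ := X_notMem_schubert K hd τ τ le_rfl
  have hmul : X τ * f ∈ schubertVanishing K d n τ := by
    rw [schubertVanishing]
    refine Ideal.mem_iInf.mpr fun A => Ideal.mem_iInf.mpr fun hA => ?_
    rw [RingHom.mem_ker]
    show evalMinors K d n A (X τ * f) = 0
    rw [map_mul]
    by_cases hδ : (A.submatrix τ.1 id).det = 0
    · have : evalMinors K d n A (X τ) = 0 := by rw [evalMinors, aeval_X]; exact hδ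
      rw [this, zero_mul]
    · obtain ⟨q, hq⟩ := exists_point K τ hd A hA hδ
      have hcomp : evalMinors K d n A = (aeval q : PR K τ →ₐ[K] K).comp (evE K τ) := by
        apply MvPolynomial.algHom_ext
        intro θ
        rw [AlgHom.comp_apply, evE, evM_X, evalMinors, aeval_X, hq θ.1]
        rfl
      have : evalMinors K d n A f = 0 := by
        rw [hcomp, AlgHom.comp_apply, hf, map_zero]
      rw [this, mul_zero]
  exact (hprime.mem_or_mem hmul).resolve_left hX

end Reduction

section Localization

variable (K : Type u) [Field K] [Infinite K] (τ : Idx d n)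

/-- The Laurent-type ring of the cone over the cell. -/
abbrev LR : Type u := Localization.Away (X none : PR K τ)

/-- The map from the Schubert coordinate ring to the ring of the cone over the cell. -/
noncomputable def toL : (PlRing K d n ⧸ schubertVanishing K d n τ) →+* LR K τ :=
  Ideal.Quotient.lift (schubertVanishing K d n τ)
    ((algebraMap (PR K τ) (LR K τ)).comp (evE K τ).toRingHom)
    (fun f hf => by
      show (algebraMap (PR K τ) (LR K τ)) (evE K τ f) = 0
      rw [evE_eq_zero_of_mem K τ f hf, map_zero])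

theorem toL_mk (f : PlRing K d n) :
    toL K τ (Ideal.Quotient.mk _ f) = algebraMap (PR K τ) (LR K τ) (evE K τ f) := rfl

theorem algebraMap_LR_injective : Function.Injective (algebraMap (PR K τ) (LR K τ)) := by
  apply IsLocalization.injective (LR K τ) (M := Submonoid.powers (X none : PR K τ))
  exact Submonoid.powers_le.mpr (mem_nonZeroDivisors_of_ne_zero (X_ne_zero _))

theorem toL_injective (hd : 0 < d) : Function.Injective (toL K τ) := by
  rw [injective_iff_map_eq_zero]
  intro a ha
  obtain ⟨f, rfl⟩ := Ideal.Quotient.mk_surjective a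
  rw [toL_mk] at ha
  have h0 : evE K τ f = 0 := algebraMap_LR_injective K τ (by rw [ha, map_zero])
  exact Ideal.Quotient.eq_zero_iff_mem.mpr (mem_of_evE_eq_zero K τ hd f h0)

/-- `S/J(τ)` localized at the class of `X_τ` is the localization of a polynomial ring at a variable. -/
theorem isLocalization_cell (hd : 0 < d) :
    @IsLocalization (PlRing K d n ⧸ schubertVanishing K d n τ) _
      (Submonoid.powers (Ideal.Quotient.mk (schubertVanishing K d n τ) (X τ))) (LR K τ) _
      (toL K τ).toAlgebra := by
  letI : Algebra (PlRing K d n ⧸ schubertVanishing K d n τ) (LR K τ) := (toL K τ).toAlgebra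
  have halg : ∀ a, algebraMap (PlRing K d n ⧸ schubertVanishing K d n τ) (LR K τ) a = toL K τ a :=
    fun a => rfl
  have hXτ : toL K τ (Ideal.Quotient.mk _ (X τ)) = algebraMap (PR K τ) (LR K τ) (X none) := by
    rw [toL_mk, evE_X_tau K τ hd]
  rw [isLocalization_iff]
  refine ⟨?_, ?_, ?_⟩
  · rintro ⟨y, k, rfl⟩
    simp only
    rw [halg, map_pow, hXτ]
    exact (IsLocalization.Away.algebraMap_isUnit (X none : PR K τ)).pow k
  · intro z
    obtain ⟨⟨g, ⟨_, m, rfl⟩⟩, hg⟩ := IsLocalization.surj (Submonoid.powers (X none : PR K τ)) z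
    simp only at hg
    obtain ⟨k, a, ha⟩ := exists_evE_eq K τ hd g
    refine ⟨(Ideal.Quotient.mk _ a,
      ⟨(Ideal.Quotient.mk _ (X τ)) ^ (m + k), m + k, rfl⟩), ?_⟩
    simp only
    rw [halg, halg, map_pow, hXτ, toL_mk, ha, map_mul, ← hg, map_pow, pow_add, map_pow]
    ring
  · intro a b hab
    rw [halg, halg] at hab
    exact ⟨1, by rw [toL_injective K τ hd hab]⟩

end Localization

section Normal

variable (K : Type u) [Field K] [Infinite K]

theorem radical_sup_X (hd : 0 < d) (hdn : d < n) (τ : Idx d n) :
    (schubertVanishing K d n τ ⊔ Ideal.span {X τ}).IsRadical := by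
  by_cases hτ : ∃ φ : Idx d n, φ < τ
  · rw [schubert_sup_X K hd τ hτ]
    rintro f ⟨k, hk⟩
    refine Ideal.mem_iInf.mpr fun φ => Ideal.mem_iInf.mpr fun hφ => ?_
    exact schubert_isRadical K φ ⟨k, Ideal.mem_iInf.mp (Ideal.mem_iInf.mp hk φ) hφ⟩
  · have hτι : τ = iota hdn := by
      by_contra hne
      exact hτ ⟨iota hdn, lt_of_le_of_ne (iota_le hdn τ) (Ne.symm hne)⟩
    rw [hτι]
    exact (schubert_sup_iota_isPrime K hd hdn (iota hdn)).isRadical

theorem span_mk_eq_map (τ : Idx d n) :
    Ideal.span {Ideal.Quotient.mk (schubertVanishing K d n τ) (X τ)} =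
      Ideal.map (Ideal.Quotient.mk (schubertVanishing K d n τ))
        (schubertVanishing K d n τ ⊔ Ideal.span {X τ}) := by
  rw [Ideal.map_sup, Ideal.map_quotient_self, bot_sup_eq, Ideal.map_span, Set.image_singleton]

theorem radical_span_mk (hd : 0 < d) (hdn : d < n) (τ : Idx d n) :
    (Ideal.span {Ideal.Quotient.mk (schubertVanishing K d n τ) (X τ)}).IsRadical := by
  have h := radical_sup_X K hd hdn τ
  rintro a ⟨k, hk⟩
  obtain ⟨f, rfl⟩ := Ideal.Quotient.mk_surjective a
  rw [span_mk_eq_map] at hk ⊢
  rw [← map_pow] at hk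
  have hmem : f ^ k ∈ schubertVanishing K d n τ ⊔ Ideal.span {X τ} := by
    have h1 := Ideal.mem_comap.mpr hk
    rw [Ideal.comap_map_of_surjective _ Ideal.Quotient.mk_surjective, ← RingHom.ker_eq_comap_bot,
      Ideal.mk_ker, sup_eq_left.mpr le_sup_left] at h1
    exact h1
  exact Ideal.mem_map_of_mem _ (h ⟨k, hmem⟩)

theorem isDomain_schubert (hd : 0 < d) (τ : Idx d n) :
    IsDomain (PlRing K d n ⧸ schubertVanishing K d n τ) := by
  haveI := schubert_isPrime K hd τ
  exact Ideal.Quotient.isDomain _

/-- The coordinate ring of the cone over a Schubert variety is integrally closed. -/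
theorem isIntegrallyClosed_schubert (hd : 0 < d) (hdn : d < n) (τ : Idx d n) :
    IsIntegrallyClosed (PlRing K d n ⧸ schubertVanishing K d n τ) := by
  haveI := isDomain_schubert K hd τ
  letI : Algebra (PlRing K d n ⧸ schubertVanishing K d n τ) (LR K τ) := (toL K τ).toAlgebra
  haveI : IsLocalization.Away (Ideal.Quotient.mk (schubertVanishing K d n τ) (X τ)) (LR K τ) :=
    isLocalization_cell K τ hd
  haveI : IsDomain (LR K τ) :=
    IsLocalization.isDomain_of_le_nonZeroDivisors (LR K τ)
      (M := Submonoid.powers (X none : PR K τ))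
      (Submonoid.powers_le.mpr (mem_nonZeroDivisors_of_ne_zero (X_ne_zero _)))
  haveI : IsIntegrallyClosed (LR K τ) := inferInstance
  have hne : Ideal.Quotient.mk (schubertVanishing K d n τ) (X τ) ≠ 0 := by
    intro h
    rw [Ideal.Quotient.eq_zero_iff_mem] at h
    exact X_notMem_schubert K hd τ τ le_rfl h
  exact NormalAway.isIntegrallyClosed_of_away _ hne (radical_span_mk K hd hdn τ) (LR K τ)

end Normal

end Groth.Agent.Lib.Seat50.SchubertCell
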