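import Mathlib
import Groth.Prelude.Def_W4bk4grassmannianPl
import Groth.Agent.Lib.Seat50SchubertCell
import Groth.Agent.Lib.Seat50Nagata

/-!
# Factoriality of Schubert cones (helper50)
-/

namespace Groth.Agent.Lib.Seat50.SchubertUFD

open W4bk4grassmannian MvPolynomial StdIndep StdMon StdIndep2 SchubertPrime SchubertCell

universe u

variable {d n : ℕ}

section UFD

variable (K : Type u) [Field K] [Infinite K] (τ : Idx d n)

/-- The embedding of the Schubert coordinate ring into the polynomial ring of the cone over the cell. -/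
noncomputable def evA : (PlRing K d n ⧸ schubertVanishing K d n τ) →+* PR K τ :=
  Ideal.Quotient.lift (schubertVanishing K d n τ) (evE K τ).toRingHom
    (fun f hf => evE_eq_zero_of_mem K τ f hf)

theorem evA_mk (f : PlRing K d n) : evA K τ (Ideal.Quotient.mk _ f) = evE K τ f := rfl

theorem evA_injective (hd : 0 < d) : Function.Injective (evA K τ) := by
  rw [injective_iff_map_eq_zero]
  intro a ha
  obtain ⟨f, rfl⟩ := Ideal.Quotient.mk_surjective a
  rw [evA_mk] at ha
  exact Ideal.Quotient.eq_zero_iff_mem.mpr (mem_of_evE_eq_zero K τ hd f ha)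

theorem isUnit_of_isUnit_evA (hd : 0 < d) (a : PlRing K d n ⧸ schubertVanishing K d n τ)
    (h : IsUnit (evA K τ a)) : IsUnit a := by
  rw [MvPolynomial.isUnit_iff_eq_C_of_isReduced] at h
  obtain ⟨c, hc, hac⟩ := h
  have : a = Ideal.Quotient.mk _ (C c) := by
    apply evA_injective K τ hd
    rw [hac, evA_mk]
    exact ((evE K τ).commutes c).symm
  rw [this]
  exact (hc.map C).map (Ideal.Quotient.mk _)

theorem irreducible_mk_X (hd : 0 < d) :
    Irreducible (Ideal.Quotient.mk (schubertVanishing K d n τ) (X τ)) := by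
  have hX : MvPolynomial.optionEquivLeft K (Z τ) (evA K τ (Ideal.Quotient.mk _ (X τ))) =
      Polynomial.X := by
    rw [evA_mk, evE_X_tau K τ hd, MvPolynomial.optionEquivLeft_X_none]
  rw [irreducible_iff]
  constructor
  · intro hu
    have h1 := (hu.map (evA K τ)).map (MvPolynomial.optionEquivLeft K (Z τ))
    rw [hX] at h1
    exact Polynomial.not_isUnit_X h1
  · intro a b hab
    have h1 := congrArg (fun x => MvPolynomial.optionEquivLeft K (Z τ) (evA K τ x)) hab
    simp only [map_mul] at h1
    rw [hX] at h1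
    set P := MvPolynomial.optionEquivLeft K (Z τ) (evA K τ a) with hP
    set Q := MvPolynomial.optionEquivLeft K (Z τ) (evA K τ b) with hQ
    have hP0 : P ≠ 0 := by
      intro h; rw [h, zero_mul] at h1; exact Polynomial.X_ne_zero h1
    have hQ0 : Q ≠ 0 := by
      intro h; rw [h, mul_zero] at h1; exact Polynomial.X_ne_zero h1
    have hdeg : P.natDegree + Q.natDegree = 1 := by
      rw [← Polynomial.natDegree_mul hP0 hQ0, ← h1, Polynomial.natDegree_X]
    have key : ∀ (P' Q' : Polynomial (MvPolynomial (Z τ) K)), Polynomial.X = P' * Q' →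
        P'.natDegree = 0 → IsUnit P' := by
      intro P' Q' h hd0
      rw [Polynomial.eq_C_of_natDegree_eq_zero hd0] at h ⊢
      have hlc := congrArg Polynomial.leadingCoeff h
      rw [Polynomial.leadingCoeff_X, Polynomial.leadingCoeff_mul, Polynomial.leadingCoeff_C] at hlc
      exact Polynomial.isUnit_C.mpr (IsUnit.of_mul_eq_one _ hlc.symm)
    have hback : ∀ (c : PlRing K d n ⧸ schubertVanishing K d n τ),
        IsUnit (MvPolynomial.optionEquivLeft K (Z τ) (evA K τ c)) → IsUnit c := by
      intro c hc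
      apply isUnit_of_isUnit_evA K τ hd
      have := hc.map (MvPolynomial.optionEquivLeft K (Z τ)).symm
      simpa using this
    rcases Nat.eq_zero_or_pos P.natDegree with h0 | hpos
    · left
      exact hback a (key P Q h1 h0)
    · right
      have h0 : Q.natDegree = 0 := by omega
      exact hback b (key Q P (by rw [h1, mul_comm]) h0)

/-- (1) ⇔ (2): the Schubert cone is factorial iff the class of `X_τ` is prime. -/
theorem ufm_iff_prime (hd : 0 < d) :
    UniqueFactorizationMonoid (PlRing K d n ⧸ schubertVanishing K d n τ) ↔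
      Prime (Ideal.Quotient.mk (schubertVanishing K d n τ) (X τ)) := by
  haveI := isDomain_schubert K hd τ
  constructor
  · intro h
    exact UniqueFactorizationMonoid.irreducible_iff_prime.mp (irreducible_mk_X K τ hd)
  · intro hp
    letI : Algebra (PlRing K d n ⧸ schubertVanishing K d n τ) (LR K τ) := (toL K τ).toAlgebra
    haveI : IsLocalization.Away (Ideal.Quotient.mk (schubertVanishing K d n τ) (X τ)) (LR K τ) :=
      isLocalization_cell K τ hd
    haveI : IsDomain (LR K τ) :=
      IsLocalization.isDomain_of_le_nonZeroDivisors (LR K τ)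
        (M := Submonoid.powers (X none : PR K τ))
        (Submonoid.powers_le.mpr (mem_nonZeroDivisors_of_ne_zero (X_ne_zero _)))
    exact Nagata.ufm_of_ufm_away _ hp (LR K τ)

end UFD

section Divisors

theorem eq_of_le_of_codeg_eq {φ ψ : Idx d n} (h : φ ≤ ψ) (hc : codeg φ = codeg ψ) : φ = ψ := by
  have hle : ∀ t ∈ (Finset.univ : Finset (Fin d)), (φ.1 t).val - t.val ≤ (ψ.1 t).val - t.val := by
    intro t _
    have : (φ.1 t).val ≤ (ψ.1 t).val := Fin.le_def.mp (h t)
    omega
  have heq := (Finset.sum_eq_sum_iff_of_le hle).mp hc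
  apply Subtype.ext
  funext t
  apply Fin.ext
  have h1 := heq t (Finset.mem_univ t)
  have h2 := val_le_of_strictMono φ.1 φ.2 t
  have h3 := val_le_of_strictMono ψ.1 ψ.2 t
  omega

theorem not_le_of_mem_divisors {τ φ₁ φ₂ : Idx d n} (h1 : φ₁ ∈ divisors τ) (h2 : φ₂ ∈ divisors τ)
    (hne : φ₁ ≠ φ₂) : ¬ φ₁ ≤ φ₂ := by
  intro hle
  apply hne
  apply eq_of_le_of_codeg_eq hle
  have e1 := h1.2
  have e2 := h2.2
  omega

end Divisors

section PrimeDiv

variable (K : Type u) [Field K] [Infinite K] (τ : Idx d n)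

theorem prime_mk_iff (hd : 0 < d) :
    Prime (Ideal.Quotient.mk (schubertVanishing K d n τ) (X τ)) ↔
      (schubertVanishing K d n τ ⊔ Ideal.span {X τ}).IsPrime := by
  have hne : Ideal.Quotient.mk (schubertVanishing K d n τ) (X τ) ≠ 0 := by
    intro h
    rw [Ideal.Quotient.eq_zero_iff_mem] at h
    exact X_notMem_schubert K hd τ τ le_rfl h
  rw [← Ideal.span_singleton_prime hne, span_mk_eq_map]
  constructor
  · intro h
    have h1 : (Ideal.comap (Ideal.Quotient.mk (schubertVanishing K d n τ))
        (Ideal.map (Ideal.Quotient.mk (schubertVanishing K d n τ))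
          (schubertVanishing K d n τ ⊔ Ideal.span {X τ}))).IsPrime := Ideal.comap_isPrime _ _
    rw [Ideal.comap_map_of_surjective _ Ideal.Quotient.mk_surjective, ← RingHom.ker_eq_comap_bot,
      Ideal.mk_ker, sup_eq_left.mpr le_sup_left] at h1
    exact h1
  · intro h
    apply Ideal.map_isPrime_of_surjective Ideal.Quotient.mk_surjective
    rw [Ideal.mk_ker]
    exact le_sup_left

/-- (2) ⇔ (3). -/
theorem prime_iff_subsingleton (hd : 0 < d) (hdn : d < n) :
    Prime (Ideal.Quotient.mk (schubertVanishing K d n τ) (X τ)) ↔ (divisors τ).Subsingleton := by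
  by_cases hτ : ∃ φ : Idx d n, φ < τ
  · rw [prime_mk_iff K τ hd, schubert_sup_X K hd τ hτ]
    constructor
    · intro hP φ₁ h1 φ₂ h2
      by_contra hne
      have hab : X φ₁ * X φ₂ ∈ ⨅ φ ∈ divisors τ, schubertVanishing K d n φ := by
        refine Ideal.mem_iInf.mpr fun φ => Ideal.mem_iInf.mpr fun hφ => ?_
        by_cases hφ1 : φ = φ₁
        · rw [hφ1]
          exact Ideal.mul_mem_left _ _
            (X_mem_schubert K φ₁ φ₂ (not_le_of_mem_divisors h2 h1 (Ne.symm hne)))
        · exact Ideal.mul_mem_right _ _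
            (X_mem_schubert K φ φ₁ (not_le_of_mem_divisors h1 hφ (Ne.symm hφ1)))
      rcases hP.mem_or_mem hab with h | h
      · exact X_notMem_schubert K hd φ₁ φ₁ le_rfl
          (Ideal.mem_iInf.mp (Ideal.mem_iInf.mp h φ₁) h1)
      · exact X_notMem_schubert K hd φ₂ φ₂ le_rfl
          (Ideal.mem_iInf.mp (Ideal.mem_iInf.mp h φ₂) h2)
    · intro hsub
      obtain ⟨φ₀', hφ₀'⟩ := hτ
      obtain ⟨φ₀, hφ₀, _⟩ := exists_divisor φ₀' τ hφ₀'
      have heq : (⨅ φ ∈ divisors τ, schubertVanishing K d n φ) = schubertVanishing K d n φ₀ := by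
        apply le_antisymm
        · exact iInf₂_le φ₀ hφ₀
        · refine le_iInf₂ fun φ hφ => ?_
          rw [hsub hφ hφ₀]
      rw [heq]
      exact schubert_isPrime K hd φ₀
  · have hτι : τ = iota hdn := by
      by_contra hne
      exact hτ ⟨iota hdn, lt_of_le_of_ne (iota_le hdn τ) (Ne.symm hne)⟩
    constructor
    · intro _ φ₁ h1
      exact absurd ⟨φ₁, h1.1⟩ hτ
    · intro _
      rw [hτι]
      exact prime_mk_X_iota K hd hdn (iota hdn)

end PrimeDiv

section Comb

theorem divisor_shape {τ φ : Idx d n} (h : φ ∈ divisors τ) :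
    ∃ p : Fin d, (φ.1 p).val + 1 = (τ.1 p).val ∧ ∀ t, t ≠ p → φ.1 t = τ.1 t := by
  obtain ⟨hlt, hc⟩ := h
  have hle : ∀ t, (φ.1 t).val ≤ (τ.1 t).val := fun t => Fin.le_def.mp ((le_of_lt hlt) t)
  have hsum : ∑ t : Fin d, ((τ.1 t).val - (φ.1 t).val) = 1 := by
    have h1 : ∀ t : Fin d, (τ.1 t).val - t.val =
        ((φ.1 t).val - t.val) + ((τ.1 t).val - (φ.1 t).val) := by
      intro t
      have := val_le_of_strictMono φ.1 φ.2 t
      have := hle t
      omega
    unfold codeg at hc
    rw [Finset.sum_congr rfl (fun t _ => h1 t), Finset.sum_add_distrib] at hc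
    omega
  have hex : ∃ p : Fin d, 1 ≤ (τ.1 p).val - (φ.1 p).val := by
    by_contra hcon
    push Not at hcon
    have : ∑ t : Fin d, ((τ.1 t).val - (φ.1 t).val) = 0 :=
      Finset.sum_eq_zero (fun t _ => by have := hcon t; omega)
    omega
  obtain ⟨p, hp⟩ := hex
  rw [← Finset.add_sum_erase Finset.univ _ (Finset.mem_univ p)] at hsum
  have hrest : ∑ t ∈ Finset.univ.erase p, ((τ.1 t).val - (φ.1 t).val) = 0 := by omega
  refine ⟨p, by have := hle p; omega, fun t ht => ?_⟩
  have := (Finset.sum_eq_zero_iff.mp hrest) t (Finset.mem_erase.mpr ⟨ht, Finset.mem_univ t⟩)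
  exact Fin.ext (by have := hle t; omega)

theorem exists_divisor_at (τ : Idx d n) (p : Fin d) (h1 : 1 ≤ (τ.1 p).val)
    (h2 : ∀ t, t < p → (τ.1 t).val + 1 < (τ.1 p).val) :
    ∃ φ ∈ divisors τ, (φ.1 p).val + 1 = (τ.1 p).val ∧ ∀ t, t ≠ p → φ.1 t = τ.1 t := by
  have hpos : (τ.1 p).val - 1 < n := by have := (τ.1 p).isLt; omega
  obtain ⟨x, hx⟩ : ∃ x : Fin n, x.val = (τ.1 p).val - 1 := ⟨⟨(τ.1 p).val - 1, hpos⟩, rfl⟩
  have hxlt : x < τ.1 p := Fin.lt_def.mpr (by omega)
  have hmono : StrictMono (Function.update τ.1 p x) := by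
    intro a b hab
    by_cases ha : a = p
    · subst ha
      have hb : b ≠ a := ne_of_gt hab
      rw [Function.update_self, Function.update_of_ne hb]
      exact lt_trans hxlt (τ.2 hab)
    · rw [Function.update_of_ne ha]
      by_cases hb : b = p
      · subst hb
        rw [Function.update_self]
        have := h2 a hab
        exact Fin.lt_def.mpr (by omega)
      · rw [Function.update_of_ne hb]
        exact τ.2 hab
  refine ⟨⟨Function.update τ.1 p x, hmono⟩, ⟨⟨?_, ?_⟩, ?_⟩, ?_, ?_⟩
  · intro t
    show Function.update τ.1 p x t ≤ τ.1 t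
    by_cases ht : t = p
    · subst ht; rw [Function.update_self]; exact le_of_lt hxlt
    · rw [Function.update_of_ne ht]
  · intro hcon
    have h3 : τ.1 p ≤ Function.update τ.1 p x p := hcon p
    rw [Function.update_self] at h3
    exact absurd h3 (not_le.mpr hxlt)
  · unfold codeg
    rw [← Finset.add_sum_erase Finset.univ _ (Finset.mem_univ p),
      ← Finset.add_sum_erase Finset.univ (fun t => (τ.1 t).val - t.val) (Finset.mem_univ p)]
    have hrest : ∑ t ∈ Finset.univ.erase p,
        ((Function.update τ.1 p x t).val - t.val) =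
        ∑ t ∈ Finset.univ.erase p, ((τ.1 t).val - t.val) := by
      refine Finset.sum_congr rfl (fun t ht => ?_)
      rw [Function.update_of_ne (Finset.ne_of_mem_erase ht)]
    simp only
    rw [hrest, Function.update_self]
    have hge := val_le_of_strictMono _ hmono p
    rw [Function.update_self] at hge
    omega
  · show (Function.update τ.1 p x p).val + 1 = (τ.1 p).val
    rw [Function.update_self]
    omega
  · intro t ht
    show Function.update τ.1 p x t = τ.1 t
    rw [Function.update_of_ne ht]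

/-- (3) ⇔ (4). -/
theorem subsingleton_iff (τ : Idx d n) :
    (divisors τ).Subsingleton ↔
      ∃ s : ℕ, (∀ t : Fin d, t.val < s → (τ.1 t).val = t.val) ∧
        ∀ t t' : Fin d, s ≤ t.val → t.val + 1 = t'.val → (τ.1 t).val + 1 = (τ.1 t').val := by
  classical
  constructor
  · intro hsub
    by_cases hex : ∃ t : Fin d, (τ.1 t).val ≠ t.val
    · -- s₀ = least index with τ ≠ id
      obtain ⟨P, hPdef⟩ : ∃ P : Finset (Fin d),
          P = Finset.univ.filter (fun t => (τ.1 t).val ≠ t.val) := ⟨_, rfl⟩
      have hP : P.Nonempty := by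
        obtain ⟨t, ht⟩ := hex
        exact ⟨t, by rw [hPdef]; exact Finset.mem_filter.mpr ⟨Finset.mem_univ _, ht⟩⟩
      obtain ⟨s₀, hs₀def⟩ : ∃ s₀, s₀ = P.min' hP := ⟨_, rfl⟩
      have hall : ∀ t ∈ P, (τ.1 t).val ≠ t.val := by
        intro t ht
        rw [hPdef] at ht
        exact (Finset.mem_filter.mp ht).2
      have hs₀ : (τ.1 s₀).val ≠ s₀.val := by
        rw [hs₀def]; exact hall _ (P.min'_mem hP)
      have hbelow : ∀ t, t < s₀ → (τ.1 t).val = t.val := by
        intro t ht
        by_contra hne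
        have hmem : t ∈ P := by rw [hPdef]; exact Finset.mem_filter.mpr ⟨Finset.mem_univ _, hne⟩
        have := P.min'_le t hmem
        rw [← hs₀def] at this
        exact absurd this (not_le.mpr ht)
      have hs₀gt : s₀.val < (τ.1 s₀).val :=
        lt_of_le_of_ne (val_le_of_strictMono τ.1 τ.2 s₀) (Ne.symm hs₀)
      obtain ⟨φ, hφ, hφp, hφo⟩ := exists_divisor_at τ s₀ (by omega) (by
        intro t ht
        rw [hbelow t ht]
        have : t.val < s₀.val := ht
        omega)
      refine ⟨s₀.val, fun t ht => hbelow t (Fin.lt_def.mpr ht), ?_⟩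
      intro t t' hst htt'
      by_contra hne
      have hlt : (τ.1 t).val < (τ.1 t').val := Fin.lt_def.mp (τ.2 (Fin.lt_def.mpr (by omega)))
      have hgap : (τ.1 t).val + 1 < (τ.1 t').val := by omega
      obtain ⟨ψ, hψ, hψp, hψo⟩ := exists_divisor_at τ t' (by omega) (by
        intro t'' ht''
        have h1 : t''.val < t'.val := ht''
        have h2 : t'' ≤ t := Fin.le_def.mpr (by omega)
        have h3 : (τ.1 t'').val ≤ (τ.1 t).val := Fin.le_def.mp (τ.2.monotone h2)
        omega)
      have hne' : s₀ ≠ t' := by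
        intro h
        rw [h] at hst
        omega
      have heq := hsub hφ hψ
      have h1 : φ.1 t' = τ.1 t' := hφo t' (Ne.symm hne')
      rw [heq] at h1
      rw [h1] at hψp
      omega
    · push Not at hex
      refine ⟨d, fun t _ => hex t, ?_⟩
      intro t _ h _
      have := t.isLt
      omega
  · rintro ⟨s, hs1, hs2⟩ φ hφ ψ hψ
    have key : ∀ {χ : Idx d n}, χ ∈ divisors τ → ∀ p : Fin d,
        (χ.1 p).val + 1 = (τ.1 p).val → (∀ t, t ≠ p → χ.1 t = τ.1 t) → p.val = s := by
      intro χ hχ p hp ho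
      by_contra hne
      rcases Nat.lt_or_gt_of_ne hne with hlt | hgt
      · have h1 := hs1 p hlt
        have h2 := val_le_of_strictMono χ.1 χ.2 p
        omega
      · have hp1 : p.val - 1 < d := by have := p.isLt; omega
        have h1 := hs2 ⟨p.val - 1, hp1⟩ p (by simp only; omega) (by simp only; omega)
        have hne' : (⟨p.val - 1, hp1⟩ : Fin d) ≠ p := by
          intro h
          have := congrArg Fin.val h
          simp only at this
          omega
        have h2 := ho ⟨p.val - 1, hp1⟩ hne'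
        have h3 : χ.1 ⟨p.val - 1, hp1⟩ < χ.1 p := χ.2 (Fin.lt_def.mpr (by simp only; omega))
        have h4 : (χ.1 ⟨p.val - 1, hp1⟩).val < (χ.1 p).val := h3
        rw [h2] at h4
        omega
    obtain ⟨p, hp, hpo⟩ := divisor_shape hφ
    obtain ⟨p', hp', hpo'⟩ := divisor_shape hψ
    have hpp' : p = p' := Fin.ext (by rw [key hφ p hp hpo, key hψ p' hp' hpo'])
    subst hpp'
    apply Subtype.ext
    funext t
    by_cases ht : t = p
    · subst ht
      exact Fin.ext (by omega)
    · rw [hpo t ht, hpo' t ht]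

end Comb

end Groth.Agent.Lib.Seat50.SchubertUFD
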