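import Mathlib

/-!
# Serre's lemma on closed subgroups of `GL₂(ℤ_p)` (helper50)

A continuous homomorphism from a compact group to `GL₂(ℤ_p)` is surjective as soon as it is
surjective modulo `p` and its image contains, for each `n ≥ 1`, an element
`1 + pⁿ [[a, pb],[pc, pd]]` with `a` a unit.
-/

set_option autoImplicit false

open Matrix

namespace Groth.Agent.Lib.Seat50.SerreGL2

variable (p : ℕ) [Fact p.Prime]

/-- 2 × 2 matrices over `ℤ_p`. -/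
abbrev M2 := Matrix (Fin 2) (Fin 2) ℤ_[p]

variable {p}

theorem isUnit_of_toZMod_ne_zero (x : ℤ_[p]) (h : PadicInt.toZMod x ≠ 0) : IsUnit x := by
  by_contra hx
  apply h
  have : x ∈ IsLocalRing.maximalIdeal ℤ_[p] := (IsLocalRing.mem_maximalIdeal x).2 hx
  rw [← PadicInt.ker_toZMod] at this
  exact this

theorem exists_mul_of_toZMod_eq (x y : ℤ_[p]) (h : PadicInt.toZMod x = PadicInt.toZMod y) :
    ∃ w : ℤ_[p], x = y + (p : ℤ_[p]) * w := by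
  have h1 : x - y ∈ RingHom.ker (PadicInt.toZMod (p := p)) := by
    rw [RingHom.mem_ker, map_sub, h, sub_self]
  rw [PadicInt.ker_toZMod, PadicInt.maximalIdeal_eq_span_p, Ideal.mem_span_singleton'] at h1
  obtain ⟨w, hw⟩ := h1
  exact ⟨w, by rw [mul_comm, hw]; ring⟩

theorem exists_smul_of_toZMod_eq (X Y : M2 p)
    (h : ∀ i j, PadicInt.toZMod (X i j) = PadicInt.toZMod (Y i j)) :
    ∃ W : M2 p, X = Y + (p : ℤ_[p]) • W := by
  choose W hW using fun i j => exists_mul_of_toZMod_eq (X i j) (Y i j) (h i j)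
  refine ⟨Matrix.of W, ?_⟩
  ext i j
  simp [hW i j]

theorem exists_GL_lift (Ū : GL (Fin 2) (ZMod p)) :
    ∃ U : GL (Fin 2) ℤ_[p], Matrix.GeneralLinearGroup.map (PadicInt.toZMod (p := p)) U = Ū := by
  have hs : Function.Surjective (PadicInt.toZMod (p := p)) := ZMod.ringHom_surjective _
  choose f hf using fun i j => hs ((Ū : Matrix (Fin 2) (Fin 2) (ZMod p)) i j)
  have hmap : (PadicInt.toZMod (p := p)).mapMatrix (Matrix.of f) =
      (Ū : Matrix (Fin 2) (Fin 2) (ZMod p)) := by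
    ext i j
    simp [hf i j]
  have hdet : IsUnit (Matrix.of f : M2 p).det := by
    apply isUnit_of_toZMod_ne_zero
    rw [RingHom.map_det, hmap]
    exact Matrix.GeneralLinearGroup.det_ne_zero Ū
  refine ⟨Matrix.GeneralLinearGroup.mk'' _ hdet, ?_⟩
  apply Matrix.GeneralLinearGroup.ext
  intro i j
  rw [Matrix.GeneralLinearGroup.map_apply]
  exact hf i j


section Main

variable {𝔊 : Type*} [Group 𝔊] (ϕ : 𝔊 →* GL (Fin 2) ℤ_[p])

/-- the matrix of `ϕ g`. -/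
noncomputable def Mϕ (g : 𝔊) : M2 p := ((ϕ g : GL (Fin 2) ℤ_[p]) : Matrix (Fin 2) (Fin 2) ℤ_[p])

theorem Mϕ_mul (g h : 𝔊) : Mϕ ϕ (g * h) = Mϕ ϕ g * Mϕ ϕ h := by
  simp [Mϕ]

theorem Mϕ_one : Mϕ ϕ 1 = 1 := by
  simp [Mϕ]

theorem Mϕ_mul_inv (g : 𝔊) : Mϕ ϕ g * Mϕ ϕ g⁻¹ = 1 := by
  rw [← Mϕ_mul, mul_inv_cancel, Mϕ_one]

theorem Mϕ_inv_mul (g : 𝔊) : Mϕ ϕ g⁻¹ * Mϕ ϕ g = 1 := by
  rw [← Mϕ_mul, inv_mul_cancel, Mϕ_one]

/-- `1 + p^N Y` is in the image of `ϕ` modulo `p^(N+1)`. -/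
def Good (N : ℕ) (Y : M2 p) : Prop :=
  ∃ (g : 𝔊) (Z : M2 p), Mϕ ϕ g = 1 + ((p : ℤ_[p]) ^ N) • Y + ((p : ℤ_[p]) ^ (N + 1)) • Z

variable {ϕ}

theorem good_congr {N : ℕ} {Y Y' : M2 p} (W : M2 p) (h : Y' = Y + (p : ℤ_[p]) • W)
    (hY : Good ϕ N Y) : Good ϕ N Y' := by
  obtain ⟨g, Z, hg⟩ := hY
  refine ⟨g, Z - W, ?_⟩
  rw [hg, h, pow_succ]
  module

theorem good_zero (N : ℕ) : Good ϕ N 0 := ⟨1, 0, by simp [Mϕ_one]⟩

theorem good_add {N : ℕ} (hN : 1 ≤ N) {Y Y' : M2 p} (hY : Good ϕ N Y) (hY' : Good ϕ N Y') :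
    Good ϕ N (Y + Y') := by
  obtain ⟨g, Z, hg⟩ := hY
  obtain ⟨g', Z', hg'⟩ := hY'
  obtain ⟨M, rfl⟩ : ∃ M, N = M + 1 := ⟨N - 1, by omega⟩
  refine ⟨g * g', Z + Z' + ((p : ℤ_[p]) ^ M) • (Y * Y') + ((p : ℤ_[p]) ^ (M + 1)) • (Y * Z' + Z * Y')
    + ((p : ℤ_[p]) ^ (M + 2)) • (Z * Z'), ?_⟩
  rw [Mϕ_mul, hg, hg']
  simp only [mul_add, add_mul, smul_mul_assoc, mul_smul_comm, smul_smul, mul_one, one_mul, smul_add]
  module

theorem good_nsmul {N : ℕ} (hN : 1 ≤ N) {Y : M2 p} (hY : Good ϕ N Y) (m : ℕ) :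
    Good ϕ N (m • Y) := by
  induction m with
  | zero => simpa using good_zero N
  | succ m ih => rw [succ_nsmul]; exact good_add hN ih hY

/-- hypothesis (i): surjectivity modulo `p`. -/
def SurjModP (ϕ : 𝔊 →* GL (Fin 2) ℤ_[p]) : Prop :=
  Function.Surjective ((Matrix.GeneralLinearGroup.map (n := Fin 2) (PadicInt.toZMod (p := p))).comp ϕ)

theorem exists_mod_p (h1 : SurjModP ϕ) (U : GL (Fin 2) ℤ_[p]) :
    ∃ (g : 𝔊) (W : M2 p), Mϕ ϕ g = (U : M2 p) + (p : ℤ_[p]) • W := by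
  obtain ⟨g, hg⟩ := h1 (Matrix.GeneralLinearGroup.map (PadicInt.toZMod (p := p)) U)
  obtain ⟨W, hW⟩ := exists_smul_of_toZMod_eq (Mϕ ϕ g) (U : M2 p) (by
    intro i j
    have := congrArg (fun A : GL (Fin 2) (ZMod p) => (A : Matrix (Fin 2) (Fin 2) (ZMod p)) i j) hg
    simpa [Matrix.GeneralLinearGroup.map_apply, Mϕ] using this)
  exact ⟨g, W, hW⟩

theorem good_conj (h1 : SurjModP ϕ) {N : ℕ} {Y : M2 p} (hY : Good ϕ N Y) (U V : M2 p)
    (hUV : U * V = 1) (hVU : V * U = 1) : Good ϕ N (U * Y * V) := by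
  obtain ⟨gu, W, hW⟩ := exists_mod_p h1 (⟨U, V, hUV, hVU⟩ : GL (Fin 2) ℤ_[p])
  change Mϕ ϕ gu = U + (p : ℤ_[p]) • W at hW
  obtain ⟨g, Z, hg⟩ := hY
  set u := Mϕ ϕ gu with hu
  set u' := Mϕ ϕ gu⁻¹ with hu'
  have huu' : u * u' = 1 := Mϕ_mul_inv ϕ gu
  have hu'u : u' * u = 1 := Mϕ_inv_mul ϕ gu
  -- u' = V + p • W'
  obtain ⟨W', hW'⟩ : ∃ W' : M2 p, u' = V + (p : ℤ_[p]) • W' := by
    have e1 : u' * U * V = u' := by rw [mul_assoc, hUV, mul_one]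
    have e2 : u' * u * V = V := by rw [hu'u, one_mul]
    have e3 : u' * u * V = u' * U * V + (p : ℤ_[p]) • (u' * W * V) := by
      rw [hW]
      simp only [mul_add, add_mul, smul_mul_assoc, mul_smul_comm]
    rw [e2, e1] at e3
    refine ⟨-(u' * W * V), ?_⟩
    calc u' = (u' + (p : ℤ_[p]) • (u' * W * V)) - (p : ℤ_[p]) • (u' * W * V) := by abel
      _ = V - (p : ℤ_[p]) • (u' * W * V) := by rw [← e3]
      _ = V + (p : ℤ_[p]) • (-(u' * W * V)) := by module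
  have hgood : Good ϕ N (u * Y * u') := by
    refine ⟨gu * g * gu⁻¹, u * Z * u', ?_⟩
    rw [Mϕ_mul, Mϕ_mul, hg]
    simp only [mul_add, add_mul, smul_mul_assoc, mul_smul_comm, mul_one]
    rw [huu']
  refine good_congr (W := -(W * Y * V + U * Y * W' + (p : ℤ_[p]) • (W * Y * W'))) ?_ hgood
  rw [hW', hW]
  simp only [mul_add, add_mul, smul_mul_assoc, mul_smul_comm, smul_smul, smul_add]
  module

/-- hypothesis (ii): congruence elements. -/
def HasCongr (ϕ : 𝔊 →* GL (Fin 2) ℤ_[p]) : Prop :=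
  ∀ n : ℕ, 1 ≤ n → ∃ (g : 𝔊) (a b c d : ℤ_[p]), ¬ ((p : ℤ_[p]) ∣ a) ∧
    ((ϕ g : GL (Fin 2) ℤ_[p]) : Matrix (Fin 2) (Fin 2) ℤ_[p]) =
      !![1 + (p : ℤ_[p]) ^ n * a, (p : ℤ_[p]) ^ (n + 1) * b;
         (p : ℤ_[p]) ^ (n + 1) * c, 1 + (p : ℤ_[p]) ^ (n + 1) * d]

theorem good_E11 (h2 : HasCongr ϕ) {N : ℕ} (hN : 1 ≤ N) (x : ℤ_[p]) :
    Good ϕ N (x • (!![1, 0; 0, 0] : M2 p)) := by
  obtain ⟨g, a, b, c, d, ha, hg⟩ := h2 N hN
  have hga : Good ϕ N (a • (!![1, 0; 0, 0] : M2 p)) := by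
    refine ⟨g, !![0, b; c, d], ?_⟩
    change _ = _ at hg
    rw [Mϕ, hg]
    ext i j
    fin_cases i <;> fin_cases j <;> simp
  have hza : PadicInt.toZMod a ≠ 0 := by
    intro h0
    apply ha
    have : a ∈ RingHom.ker (PadicInt.toZMod (p := p)) := h0
    rw [PadicInt.ker_toZMod, PadicInt.maximalIdeal_eq_span_p, Ideal.mem_span_singleton] at this
    exact this
  set m : ℕ := (PadicInt.toZMod x / PadicInt.toZMod a).val with hm
  have hmx : PadicInt.toZMod x = PadicInt.toZMod ((m : ℤ_[p]) * a) := by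
    rw [map_mul, map_natCast, hm, ZMod.natCast_zmod_val, div_mul_cancel₀ _ hza]
  obtain ⟨w, hw⟩ := exists_mul_of_toZMod_eq _ _ hmx
  refine good_congr (W := w • (!![1, 0; 0, 0] : M2 p)) ?_ (good_nsmul hN hga m)
  rw [hw]
  ext i j
  fin_cases i <;> fin_cases j <;> simp

theorem good_all (h1 : SurjModP ϕ) (h2 : HasCongr ϕ) {N : ℕ} (hN : 1 ≤ N) (Y : M2 p) :
    Good ϕ N Y := by
  have e22 : ∀ x : ℤ_[p], Good ϕ N (x • (!![0, 0; 0, 1] : M2 p)) := by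
    intro x
    have := good_conj h1 (good_E11 h2 hN x) !![0, 1; 1, 0] !![0, 1; 1, 0]
      (by ext i j; fin_cases i <;> fin_cases j <;> simp)
      (by ext i j; fin_cases i <;> fin_cases j <;> simp)
    convert this using 1
    ext i j; fin_cases i <;> fin_cases j <;> simp
  have e21 : ∀ x : ℤ_[p], Good ϕ N (x • (!![1, 0; 1, 0] : M2 p)) := by
    intro x
    have := good_conj h1 (good_E11 h2 hN x) !![1, 0; 1, 1] !![1, 0; -1, 1]
      (by ext i j; fin_cases i <;> fin_cases j <;> simp)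
      (by ext i j; fin_cases i <;> fin_cases j <;> simp)
    convert this using 1
    ext i j; fin_cases i <;> fin_cases j <;> simp
  have e12 : ∀ x : ℤ_[p], Good ϕ N (x • (!![1, -1; 0, 0] : M2 p)) := by
    intro x
    have := good_conj h1 (good_E11 h2 hN x) !![1, 1; 0, 1] !![1, -1; 0, 1]
      (by ext i j; fin_cases i <;> fin_cases j <;> simp)
      (by ext i j; fin_cases i <;> fin_cases j <;> simp)
    convert this using 1
    ext i j; fin_cases i <;> fin_cases j <;> simp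
  have := good_add hN (good_add hN (good_add hN (good_E11 h2 hN (Y 0 0 + Y 0 1 - Y 1 0))
    (e22 (Y 1 1))) (e21 (Y 1 0))) (e12 (-(Y 0 1)))
  convert this using 1
  ext i j; fin_cases i <;> fin_cases j <;> simp

theorem exists_approx (h1 : SurjModP ϕ) (h2 : HasCongr ϕ) (X : GL (Fin 2) ℤ_[p]) (N : ℕ) :
    ∃ (g : 𝔊) (Z : M2 p), Mϕ ϕ g = (X : M2 p) + ((p : ℤ_[p]) ^ (N + 1)) • Z := by
  induction N with
  | zero =>
    obtain ⟨g, W, hW⟩ := exists_mod_p h1 X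
    exact ⟨g, W, by rw [hW]; simp⟩
  | succ N ih =>
    obtain ⟨g, Z, hg⟩ := ih
    set h := Mϕ ϕ g with hh
    set h' := Mϕ ϕ g⁻¹ with hh'
    have hhh' : h * h' = 1 := Mϕ_mul_inv ϕ g
    obtain ⟨g₂, Z₂, hg₂⟩ := good_all h1 h2 (N := N + 1) (by omega) (-(h' * Z))
    refine ⟨g * g₂, h * Z₂, ?_⟩
    have hX : (X : M2 p) = h - ((p : ℤ_[p]) ^ (N + 1)) • Z := by rw [hg]; abel
    rw [Mϕ_mul, hg₂, ← hh, hX]
    simp only [mul_add, mul_smul_comm, mul_neg, mul_one, ← mul_assoc, hhh', one_mul]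
    module

theorem tendsto_of_approx (X : M2 p) (A : ℕ → M2 p) (Z : ℕ → M2 p)
    (hA : ∀ N, A N = X + ((p : ℤ_[p]) ^ (N + 1)) • Z N) :
    Filter.Tendsto A Filter.atTop (nhds X) := by
  suffices key : ∀ i j, Filter.Tendsto (fun N => A N i j) Filter.atTop (nhds (X i j)) from
    tendsto_pi_nhds.2 fun i => tendsto_pi_nhds.2 fun j => key i j
  intro i j
  rw [tendsto_iff_norm_sub_tendsto_zero]
  have hp1 : ‖(p : ℤ_[p])‖ < 1 := by
    rw [PadicInt.norm_p]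
    exact inv_lt_one_of_one_lt₀ (by exact_mod_cast (Fact.out : p.Prime).one_lt)
  have hlim : Filter.Tendsto (fun N : ℕ => ‖(p : ℤ_[p])‖ ^ (N + 1)) Filter.atTop (nhds 0) :=
    (tendsto_pow_atTop_nhds_zero_of_lt_one (norm_nonneg _) hp1).comp (Filter.tendsto_add_atTop_nat 1)
  refine squeeze_zero (fun _ => norm_nonneg _) (fun N => ?_) hlim
  have : A N i j - X i j = (p : ℤ_[p]) ^ (N + 1) * Z N i j := by
    rw [hA N]; simp
  rw [this, norm_mul, norm_pow]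
  exact mul_le_of_le_one_right (pow_nonneg (norm_nonneg _) _) (PadicInt.norm_le_one _)

variable [TopologicalSpace 𝔊] [CompactSpace 𝔊]

theorem surjective_of (h1 : SurjModP ϕ) (h2 : HasCongr ϕ)
    (hϕ : Continuous fun g => ((ϕ g : GL (Fin 2) ℤ_[p]) : Matrix (Fin 2) (Fin 2) ℤ_[p])) :
    Function.Surjective ϕ := by
  intro X
  have hcl : IsClosed (Set.range (Mϕ ϕ)) := (isCompact_range hϕ).isClosed
  choose g Z hgZ using exists_approx h1 h2 X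
  have hmem : (X : M2 p) ∈ Set.range (Mϕ ϕ) :=
    hcl.mem_of_tendsto (tendsto_of_approx (X : M2 p) (fun N => Mϕ ϕ (g N)) Z hgZ)
      (Filter.Eventually.of_forall fun N => Set.mem_range_self _)
  obtain ⟨g₀, hg₀⟩ := hmem
  exact ⟨g₀, Units.ext hg₀⟩

omit [TopologicalSpace 𝔊] [CompactSpace 𝔊] in
theorem surjModP_of_surjective (hs : Function.Surjective ϕ) : SurjModP ϕ := by
  intro Ū
  obtain ⟨U, hU⟩ := exists_GL_lift Ū
  obtain ⟨g, hg⟩ := hs U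
  exact ⟨g, by simp [hg, hU]⟩

omit [TopologicalSpace 𝔊] [CompactSpace 𝔊] in
theorem hasCongr_of_surjective (hs : Function.Surjective ϕ) : HasCongr ϕ := by
  intro n hn
  have hdet : IsUnit (!![1 + (p : ℤ_[p]) ^ n, 0; 0, 1] : M2 p).det := by
    apply isUnit_of_toZMod_ne_zero
    have hp0 : PadicInt.toZMod (p : ℤ_[p]) = 0 := by
      rw [map_natCast]; exact ZMod.natCast_self p
    have hn0 : n ≠ 0 := by omega
    simp [Matrix.det_fin_two_of, hp0, hn0]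
  obtain ⟨g, hg⟩ := hs (Matrix.GeneralLinearGroup.mk'' _ hdet)
  refine ⟨g, 1, 0, 0, 0, ?_, ?_⟩
  · intro h
    exact PadicInt.p_nonunit (isUnit_of_dvd_one h)
  · rw [hg]
    change (!![1 + (p : ℤ_[p]) ^ n, 0; 0, 1] : M2 p) = _
    simp

end Main

end Groth.Agent.Lib.Seat50.SerreGL2
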