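import Mathlib
import Groth.Prelude.Def_W4bk4grassmannianPl
import Groth.Agent.Lib.Seat50HibiDegen
import Groth.Agent.Lib.Seat50FFT

/-!
# Shape of the straightening relation of a skew pair (helper50)
-/

namespace Groth.Agent.Lib.Seat50.Shape

open W4bk4grassmannian MvPolynomial StdIndep Straighten SchubertDegen HibiDegen

universe u

variable {d n : ℕ}

section Reversal

/-- The order-reversing involution of `I(d,n)`. -/
def revIdx (θ : Idx d n) : Idx d n :=
  ⟨fun t => Fin.rev (θ.1 (Fin.rev t)), fun _ _ h =>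
    Fin.rev_lt_rev.mpr (θ.2 (Fin.rev_lt_rev.mpr h))⟩

theorem revIdx_revIdx (θ : Idx d n) : revIdx (revIdx θ) = θ := by
  apply Subtype.ext
  funext t
  simp [revIdx, Fin.rev_rev]

theorem revIdx_injective : Function.Injective (revIdx (d := d) (n := n)) :=
  Function.LeftInverse.injective revIdx_revIdx

theorem revIdx_le {θ φ : Idx d n} : revIdx θ ≤ revIdx φ ↔ φ ≤ θ := by
  constructor
  · intro h t
    have := h (Fin.rev t)
    have h2 : Fin.rev (θ.1 (Fin.rev (Fin.rev t))) ≤ Fin.rev (φ.1 (Fin.rev (Fin.rev t))) := this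
    rw [Fin.rev_rev] at h2
    exact Fin.rev_le_rev.mp h2
  · intro h t
    exact Fin.rev_le_rev.mpr (h (Fin.rev t))

theorem rev_max (a b : Fin n) : Fin.rev (max a b) = min (Fin.rev a) (Fin.rev b) := by
  rcases le_total a b with h | h
  · rw [max_eq_right h, min_eq_right (Fin.rev_le_rev.mpr h)]
  · rw [max_eq_left h, min_eq_left (Fin.rev_le_rev.mpr h)]

theorem rev_min (a b : Fin n) : Fin.rev (min a b) = max (Fin.rev a) (Fin.rev b) := by
  rcases le_total a b with h | h
  · rw [min_eq_left h, max_eq_left (Fin.rev_le_rev.mpr h)]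
  · rw [min_eq_right h, max_eq_right (Fin.rev_le_rev.mpr h)]

theorem revIdx_sup (i j : Idx d n) :
    revIdx (W4bk4grassmannian.sup i j) = W4bk4grassmannian.inf (revIdx i) (revIdx j) := by
  apply Subtype.ext
  funext t
  exact rev_max _ _

theorem revIdx_inf (i j : Idx d n) :
    revIdx (W4bk4grassmannian.inf i j) = W4bk4grassmannian.sup (revIdx i) (revIdx j) := by
  apply Subtype.ext
  funext t
  exact rev_min _ _

variable (K : Type u) [CommRing K]

theorem evalMinors_rename (A : Matrix (Fin n) (Fin d) K) (f : PlRing K d n) :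
    evalMinors K d n A (rename revIdx f) =
      evalMinors K d n (A.submatrix Fin.rev Fin.rev) f := by
  have h : (evalMinors K d n A).comp (rename revIdx) =
      evalMinors K d n (A.submatrix Fin.rev Fin.rev) := by
    apply MvPolynomial.algHom_ext
    intro θ
    rw [AlgHom.comp_apply, rename_X, evalMinors, aeval_X, evalMinors, aeval_X]
    have h1 : A.submatrix (revIdx θ).1 id =
        ((A.submatrix Fin.rev Fin.rev).submatrix θ.1 id).submatrix Fin.revPerm Fin.revPerm := by
      ext s t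
      simp [revIdx, Fin.revPerm_apply, Fin.rev_rev]
    rw [h1, Matrix.det_submatrix_equiv_self]
  exact congrArg (fun φ => φ f) h

theorem vanishing_rename (f : PlRing K d n) (hf : f ∈ vanishing K d n) :
    rename revIdx f ∈ vanishing K d n := by
  rw [vanishing, Ideal.mem_iInf] at hf ⊢
  intro A
  rw [RingHom.mem_ker]
  show evalMinors K d n A (rename revIdx f) = 0
  rw [evalMinors_rename]
  exact RingHom.mem_ker.mp (hf _)

end Reversal

section LexMono

/-- The diagonal monomials are strictly antitone for the lexicographic order. -/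
theorem Dexp_lt_of_lt {β γ : Idx d n} (h : β < γ) : toLex (Dexp γ.1) < toLex (Dexp β.1) := by
  classical
  have hle : ∀ t, β.1 t ≤ γ.1 t := fun t => (le_of_lt h) t
  have hex : ∃ t, β.1 t < γ.1 t := by
    by_contra hcon
    push Not at hcon
    exact (not_le_of_gt h) hcon
  obtain ⟨P, hPdef⟩ : ∃ P : Finset (Fin d), P = Finset.univ.filter (fun t => β.1 t < γ.1 t) :=
    ⟨_, rfl⟩
  have hP : P.Nonempty := by
    obtain ⟨t, ht⟩ := hex
    exact ⟨t, by rw [hPdef]; exact Finset.mem_filter.mpr ⟨Finset.mem_univ _, ht⟩⟩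
  obtain ⟨t₀, ht₀def⟩ : ∃ t₀, t₀ = P.min' hP := ⟨_, rfl⟩
  have ht₀ : β.1 t₀ < γ.1 t₀ := by
    have := P.min'_mem hP
    rw [← ht₀def, hPdef] at this
    exact (Finset.mem_filter.mp this).2
  have heq : ∀ t, t < t₀ → β.1 t = γ.1 t := by
    intro t ht
    by_contra hne
    have hlt : β.1 t < γ.1 t := lt_of_le_of_ne (hle t) hne
    have hmem : t ∈ P := by rw [hPdef]; exact Finset.mem_filter.mpr ⟨Finset.mem_univ _, hlt⟩
    have := P.min'_le t hmem
    rw [← ht₀def] at this
    exact absurd this (not_le.mpr ht)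
  rw [Finsupp.Lex.lt_iff]
  refine ⟨toLex (β.1 t₀, t₀), ?_, ?_⟩
  · intro j hj
    obtain ⟨l, t, rfl⟩ : ∃ l t, j = toLex (l, t) := ⟨(ofLex j).1, (ofLex j).2, rfl⟩
    show (Dexp γ.1) (toLex (l, t)) = (Dexp β.1) (toLex (l, t))
    rw [Dexp_apply, Dexp_apply]
    rw [Prod.Lex.toLex_lt_toLex] at hj
    by_cases htt : t < t₀
    · rw [heq t htt]
    · have hl : l < β.1 t₀ := by
        rcases hj with hj | ⟨_, hj2⟩
        · exact hj
        · exact absurd hj2 htt
      have h1 : β.1 t₀ ≤ β.1 t := β.2.monotone (not_lt.mp htt)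
      rw [if_neg (fun h' => absurd (h' ▸ lt_of_lt_of_le hl (le_trans h1 (hle t))) (lt_irrefl _)),
        if_neg (fun h' => absurd (h' ▸ lt_of_lt_of_le hl h1) (lt_irrefl _))]
  · show (Dexp γ.1) (toLex (β.1 t₀, t₀)) < (Dexp β.1) (toLex (β.1 t₀, t₀))
    rw [Dexp_apply, Dexp_apply, if_pos rfl, if_neg (ne_of_gt ht₀)]
    exact Nat.zero_lt_one

end LexMono

section Main

variable (K : Type u) [Field K] [Infinite K]

theorem vanishing_le_plIdealTop (hd : 0 < d) (hdn : d < n) :
    vanishing K d n ≤ plIdealTop K (d := d) (n := n) := by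
  rw [FFT.vanishing_eq K hd hdn, ← StdMon.plIdeal_eq K hd, plIdeal, Ideal.span_le]
  rintro f (⟨i, j, r, hp, rfl⟩ | ⟨φ, hφ, rfl⟩)
  · exact Ideal.subset_span ⟨i, j, r, hp, rfl⟩
  · exact absurd (FFT.le_topIdx hd hdn φ) hφ

omit [Infinite K] in
theorem plIdealTop_le_vanishing (hd : 0 < d) (hdn : d < n) :
    plIdealTop K (d := d) (n := n) ≤ vanishing K d n := by
  rw [FFT.vanishing_eq K hd hdn]
  exact StdMon.plIdealTop_le K _

/-- The dual of an antitone pair. -/
def revPair (c : Pair d n) : Pair d n :=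
  ⟨![revIdx (c.1 1), revIdx (c.1 0)], Fin.antitone_iff_succ_le.mpr (fun k => by
    fin_cases k
    exact revIdx_le.mpr (c.2 (Fin.zero_le 1)))⟩

theorem pair_ext {c c' : Pair d n} (h0 : c.1 0 = c'.1 0) (h1 : c.1 1 = c'.1 1) : c = c' := by
  apply Subtype.ext
  funext k
  fin_cases k
  · exact h0
  · exact h1

theorem revPair_revPair (c : Pair d n) : revPair (revPair c) = c :=
  pair_ext (revIdx_revIdx _) (revIdx_revIdx _)

theorem revPair_injective : Function.Injective (revPair (d := d) (n := n)) :=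
  Function.LeftInverse.injective revPair_revPair

theorem revPair_cstar (τ φ : Idx d n) :
    revPair (cstar τ φ) = cstar (revIdx τ) (revIdx φ) :=
  pair_ext (revIdx_inf τ φ) (revIdx_sup τ φ)

omit [Infinite K] in
theorem chainMon_revPair (c : Pair d n) :
    chainMon K (revPair c).1 = rename revIdx (chainMon K c.1) := by
  rw [chainMon_pair, chainMon_pair, map_mul, rename_X, rename_X, mul_comm]
  rfl

theorem dual_rep (hd : 0 < d) (hdn : d < n) (τ φ : Idx d n) (a : Pair d n →₀ K)
    (ha : X τ * X φ - (a.sum fun c r => r • chainMon K c.1) ∈ plIdealTop K (d := d) (n := n)) :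
    X (revIdx τ) * X (revIdx φ) - ((a.mapDomain revPair).sum fun c r => r • chainMon K c.1) ∈
      plIdealTop K (d := d) (n := n) := by
  apply vanishing_le_plIdealTop K hd hdn
  have h1 := vanishing_rename K _ (plIdealTop_le_vanishing K hd hdn ha)
  convert h1 using 1
  rw [map_sub, map_mul, rename_X, rename_X,
    Finsupp.sum_mapDomain_index (h := fun (c : Pair d n) (r : K) => r • chainMon K c.1)
      (fun c => zero_smul _ _) (fun c x y => add_smul _ _ _),
    Finsupp.sum, Finsupp.sum, map_sum]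
  congr 1
  refine Finset.sum_congr rfl (fun c _ => ?_)
  rw [chainMon_revPair, map_smul]

theorem sup_le_of_mem (hd : 0 < d) (τ φ : Idx d n) (a : Pair d n →₀ K)
    (ha : X τ * X φ - (a.sum fun c r => r • chainMon K c.1) ∈ plIdealTop K (d := d) (n := n))
    (c : Pair d n) (hc : c ∈ a.support) : W4bk4grassmannian.sup τ φ ≤ c.1 0 := by
  obtain ⟨h1, h2⟩ := le_of_mem_support K hd τ φ a ha c hc
  exact fun t => max_le (h1 t) (h2 t)

theorem ne_sup_of_ne (hd : 0 < d) (hdn : d < n) (τ φ : Idx d n) (a : Pair d n →₀ K)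
    (ha : X τ * X φ - (a.sum fun c r => r • chainMon K c.1) ∈ plIdealTop K (d := d) (n := n))
    (hinf : ∀ c ∈ a.support, c.1 1 ≤ W4bk4grassmannian.inf τ φ)
    (c : Pair d n) (hc : c ∈ a.support) (hne : c ≠ cstar τ φ) :
    c.1 0 ≠ W4bk4grassmannian.sup τ φ := by
  intro h0
  obtain ⟨-, h2⟩ := hibi_coeffs K (FFT.topIdx hdn) hd τ φ (FFT.le_topIdx hd hdn τ)
    (FFT.le_topIdx hd hdn φ) a ha
  have hlex := h2 c hc (fun k => FFT.le_topIdx hd hdn _) hne
  have h1 : c.1 1 ≠ W4bk4grassmannian.inf τ φ := fun h1 => hne (pair_ext h0 h1)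
  have hlt : c.1 1 < W4bk4grassmannian.inf τ φ := lt_of_le_of_ne (hinf c hc) h1
  have hD := Dexp_lt_of_lt hlt
  rw [Dchain_two, Dchain_two, h0] at hlex
  have hcs0 : (cstar τ φ).1 0 = W4bk4grassmannian.sup τ φ := rfl
  have hcs1 : (cstar τ φ).1 1 = W4bk4grassmannian.inf τ φ := rfl
  rw [hcs0, hcs1] at hlex
  have h3 : toLex (Dexp (W4bk4grassmannian.sup τ φ).1) + toLex (Dexp (W4bk4grassmannian.inf τ φ).1) <
      toLex (Dexp (W4bk4grassmannian.sup τ φ).1) + toLex (Dexp (c.1 1).1) :=
    add_lt_add_right hD _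
  exact lt_asymm hlex h3

/-- **Shape of the straightening relation** of a pair in the Grassmannian. -/
theorem shape (hd : 0 < d) (hdn : d < n) (τ φ : Idx d n) :
    ∃ g ∈ Submodule.span K {f : PlRing K d n | ∃ α β : Idx d n,
        β ≤ α ∧ W4bk4grassmannian.sup τ φ < α ∧ β < W4bk4grassmannian.inf τ φ ∧
          f = X α * X β},
      X τ * X φ - X (W4bk4grassmannian.sup τ φ) * X (W4bk4grassmannian.inf τ φ) - g ∈
        vanishing K d n := by
  classical
  obtain ⟨a, ha⟩ := exists_rep2 K τ φ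
  have ha' := dual_rep K hd hdn τ φ a ha
  have hmem' : ∀ c ∈ a.support, revPair c ∈ (a.mapDomain revPair).support := by
    intro c hc
    rw [Finsupp.mem_support_iff, Finsupp.mapDomain_apply revPair_injective]
    exact Finsupp.mem_support_iff.mp hc
  have hsup : ∀ c ∈ a.support, W4bk4grassmannian.sup τ φ ≤ c.1 0 :=
    fun c hc => sup_le_of_mem K hd τ φ a ha c hc
  have hinf : ∀ c ∈ a.support, c.1 1 ≤ W4bk4grassmannian.inf τ φ := by
    intro c hc
    have h := sup_le_of_mem K hd (revIdx τ) (revIdx φ) _ ha' (revPair c) (hmem' c hc)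
    rw [← revIdx_inf] at h
    exact revIdx_le.mp h
  have h1 := (hibi_coeffs K (FFT.topIdx hdn) hd τ φ (FFT.le_topIdx hd hdn τ)
    (FFT.le_topIdx hd hdn φ) a ha).1
  have hne0 : ∀ c ∈ a.support, c ≠ cstar τ φ → c.1 0 ≠ W4bk4grassmannian.sup τ φ :=
    fun c hc hne => ne_sup_of_ne K hd hdn τ φ a ha hinf c hc hne
  have hinf' : ∀ c' ∈ (a.mapDomain revPair).support,
      c'.1 1 ≤ W4bk4grassmannian.inf (revIdx τ) (revIdx φ) := by
    intro c' hc'
    obtain ⟨c'', hc'', rfl⟩ := Finset.mem_image.mp (Finsupp.mapDomain_support hc')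
    rw [← revIdx_sup]
    exact revIdx_le.mpr (hsup c'' hc'')
  have hne1 : ∀ c ∈ a.support, c ≠ cstar τ φ → c.1 1 ≠ W4bk4grassmannian.inf τ φ := by
    intro c hc hne h1'
    have hne' : revPair c ≠ cstar (revIdx τ) (revIdx φ) := by
      intro h
      apply hne
      apply revPair_injective
      rw [h, revPair_cstar]
    have h := ne_sup_of_ne K hd hdn (revIdx τ) (revIdx φ) _ ha' hinf' (revPair c) (hmem' c hc) hne'
    apply h
    show revIdx (c.1 1) = _
    rw [h1', revIdx_inf]
  have hcs_mem : cstar τ φ ∈ a.support := by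
    rw [Finsupp.mem_support_iff, h1]; exact one_ne_zero
  refine ⟨∑ c ∈ a.support.erase (cstar τ φ), a c • (X (c.1 0) * X (c.1 1)), ?_, ?_⟩
  · refine Submodule.sum_mem _ (fun c hc => Submodule.smul_mem _ _ (Submodule.subset_span ?_))
    have hc' := Finset.mem_of_mem_erase hc
    have hne := Finset.ne_of_mem_erase hc
    exact ⟨c.1 0, c.1 1, c.2 (Fin.zero_le 1),
      lt_of_le_of_ne (hsup c hc') (Ne.symm (hne0 c hc' hne)),
      lt_of_le_of_ne (hinf c hc') (hne1 c hc' hne), rfl⟩
  · apply plIdealTop_le_vanishing K hd hdn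
    convert ha using 1
    rw [Finsupp.sum, ← Finset.add_sum_erase _ _ hcs_mem, h1, one_smul]
    simp only [chainMon_pair]
    have hcs0 : (cstar τ φ).1 0 = W4bk4grassmannian.sup τ φ := rfl
    have hcs1 : (cstar τ φ).1 1 = W4bk4grassmannian.inf τ φ := rfl
    rw [hcs0, hcs1]
    ring

end Main

end Groth.Agent.Lib.Seat50.Shape
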