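import Mathlib
import Groth.Agent.Lib.Seat50FlatNilp

/-!
# Lifting automorphisms along a small extension for a flat algebra with formally smooth closed fibre
-/

namespace Groth.Agent.Lib.Seat50.SmallExtAut

open TensorProduct IsLocalRing

universe u

variable {k : Type u} [Field k]
  {A : Type u} [CommRing A] [Algebra k A] [IsLocalRing A] [IsArtinianRing A]
  {B : Type u} [CommRing B] [Algebra A B] [Algebra k B] [IsScalarTower k A B]

omit [Algebra k A] in
theorem isNilpotent_maximalIdeal : IsNilpotent (maximalIdeal A) := by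
  have h := IsArtinianRing.isNilpotent_jacobson_bot (R := A)
  rwa [IsLocalRing.jacobson_eq_maximalIdeal ⊥ bot_ne_top] at h

omit [Algebra k A] [Algebra k B] [IsScalarTower k A B] in
theorem isNilpotent_map : IsNilpotent ((maximalIdeal A).map (algebraMap A B)) := by
  obtain ⟨n, hn⟩ := isNilpotent_maximalIdeal (A := A)
  refine ⟨n, ?_⟩
  rw [← Ideal.map_pow, hn]
  exact Ideal.map_bot

omit [Algebra k A] [Algebra k B] [IsScalarTower k A B] [IsLocalRing A] [IsArtinianRing A] in
theorem mem_smul_top_iff (I : Ideal A) (b : B) :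
    b ∈ I • (⊤ : Submodule A B) ↔ b ∈ I.map (algebraMap A B) := by
  rw [Ideal.smul_top_eq_map]
  rfl

/-- The closed fibre. -/
abbrev Fib (A B : Type u) [CommRing A] [IsLocalRing A] [CommRing B] [Algebra A B] : Type u :=
  B ⧸ (maximalIdeal A).map (algebraMap A B)

/-- `B` is the trivial deformation `A ⊗ B₀` of its closed fibre, hence formally smooth over `A`. -/
theorem formallySmooth_of_fibre [Module.Flat A B]
    (hres : ∀ a : A, ∃ c : k, a - algebraMap k A c ∈ maximalIdeal A)
    (hsm : Algebra.FormallySmooth k (Fib A B)) : Algebra.FormallySmooth A B := by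
  set mB := (maximalIdeal A).map (algebraMap A B) with hmB
  have hnil : IsNilpotent mB := isNilpotent_map
  let s : Fib A B →ₐ[k] B := Algebra.FormallySmooth.lift mB hnil (AlgHom.id k (Fib A B))
  have hs : ∀ x : Fib A B, Ideal.Quotient.mk mB (s x) = x := fun x =>
    Algebra.FormallySmooth.mk_lift mB hnil (AlgHom.id k (Fib A B)) x
  let φ : A ⊗[k] Fib A B →ₐ[A] B :=
    Algebra.TensorProduct.productLeftAlgHom (Algebra.ofId A B) s
  have hφ : ∀ (a : A) (x : Fib A B), φ (a ⊗ₜ x) = algebraMap A B a * s x := fun a x => by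
    simp [φ, Algebra.ofId_apply]
  have hmkφ : ∀ y : A ⊗[k] Fib A B,
      y - (1 : A) ⊗ₜ[k] (Ideal.Quotient.mk mB (φ y)) ∈
        (maximalIdeal A) • (⊤ : Submodule A (A ⊗[k] Fib A B)) := by
    intro y
    induction y using TensorProduct.induction_on with
    | zero => simp
    | tmul a x =>
      obtain ⟨c, hc⟩ := hres a
      set μ := a - algebraMap k A c with hμ
      have ha : a = algebraMap k A c + μ := by rw [hμ]; ring
      have h1 : Ideal.Quotient.mk mB (φ (a ⊗ₜ x)) = c • x := by
        rw [hφ, map_mul, hs, ha, map_add, map_add, add_mul]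
        have h2 : Ideal.Quotient.mk mB (algebraMap A B μ) = 0 :=
          Ideal.Quotient.eq_zero_iff_mem.mpr (Ideal.mem_map_of_mem _ hc)
        rw [h2, zero_mul, add_zero, ← IsScalarTower.algebraMap_apply k A B,
          Algebra.smul_def]
        rfl
      rw [h1]
      have h3 : a ⊗ₜ[k] x - (1 : A) ⊗ₜ[k] (c • x) = μ • ((1 : A) ⊗ₜ[k] x) := by
        rw [ha, TensorProduct.add_tmul, TensorProduct.tmul_smul, TensorProduct.smul_tmul',
          TensorProduct.smul_tmul', Algebra.algebraMap_eq_smul_one]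
        simp
      rw [h3]
      exact Submodule.smul_mem_smul hc Submodule.mem_top
    | add y z hy hz =>
      have : y + z - (1 : A) ⊗ₜ[k] (Ideal.Quotient.mk mB (φ (y + z))) =
          (y - (1 : A) ⊗ₜ[k] (Ideal.Quotient.mk mB (φ y))) +
          (z - (1 : A) ⊗ₜ[k] (Ideal.Quotient.mk mB (φ z))) := by
        rw [map_add, map_add, TensorProduct.tmul_add]
        abel
      rw [this]
      exact Submodule.add_mem _ hy hz
  have hbij : Function.Bijective φ.toLinearMap := by
    apply FlatNilp.bijective_of_flat_of_nilpotent (maximalIdeal A) isNilpotent_maximalIdeal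
    · rw [eq_top_iff]
      intro b _
      have h1 : b - s (Ideal.Quotient.mk mB b) ∈ (maximalIdeal A) • (⊤ : Submodule A B) := by
        rw [mem_smul_top_iff, ← Ideal.Quotient.eq_zero_iff_mem, map_sub, hs, sub_self]
      have h2 : s (Ideal.Quotient.mk mB b) ∈ LinearMap.range φ.toLinearMap :=
        ⟨(1 : A) ⊗ₜ[k] (Ideal.Quotient.mk mB b), by
          rw [AlgHom.toLinearMap_apply, hφ, map_one, one_mul]⟩
      have : b = s (Ideal.Quotient.mk mB b) + (b - s (Ideal.Quotient.mk mB b)) := by ring
      rw [this]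
      exact Submodule.add_mem_sup h2 h1
    · intro y hy
      rw [Submodule.mem_comap, mem_smul_top_iff, ← Ideal.Quotient.eq_zero_iff_mem] at hy
      have h1 := hmkφ y
      have h2 : Ideal.Quotient.mk mB (φ y) = 0 := hy
      rw [h2, TensorProduct.tmul_zero, sub_zero] at h1
      exact h1
  let e : A ⊗[k] Fib A B ≃ₐ[A] B := AlgEquiv.ofBijective φ hbij
  exact Algebra.FormallySmooth.of_equiv e

omit [Algebra k A] [Algebra k B] [IsScalarTower k A B] in
/-- Lifting an automorphism of `B/It` to `B` when `B` is formally smooth and flat over the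
Artinian local ring `A` and `It` is a nilpotent ideal contained in `m B`. -/
theorem exists_algEquiv_lift_ideal [Module.Flat A B] [Algebra.FormallySmooth A B]
    (It : Ideal B) (hItnil : IsNilpotent It)
    (hItle : It ≤ (maximalIdeal A).map (algebraMap A B))
    (σ : (B ⧸ It) ≃ₐ[A] (B ⧸ It)) :
    ∃ τ : B ≃ₐ[A] B, ∀ b : B,
      Ideal.Quotient.mk It (τ b) = σ (Ideal.Quotient.mk It b) := by
  let g : B →ₐ[A] B ⧸ It := σ.toAlgHom.comp (Ideal.Quotient.mkₐ A It)
  let τ₀ : B →ₐ[A] B := Algebra.FormallySmooth.lift It hItnil g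
  have hτ₀ : ∀ b, Ideal.Quotient.mk It (τ₀ b) = σ (Ideal.Quotient.mk It b) := fun b =>
    Algebra.FormallySmooth.mk_lift It hItnil g b
  -- `mk` maps `m • ⊤` into `m • ⊤`
  have hmk : ∀ b : B, b ∈ (maximalIdeal A) • (⊤ : Submodule A B) →
      Ideal.Quotient.mk It b ∈ (maximalIdeal A) • (⊤ : Submodule A (B ⧸ It)) := by
    intro b hb
    have h1 : (Ideal.Quotient.mkₐ A It).toLinearMap b ∈
        ((maximalIdeal A) • (⊤ : Submodule A B)).map (Ideal.Quotient.mkₐ A It).toLinearMap :=
      Submodule.mem_map_of_mem hb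
    rw [Submodule.map_smul''] at h1
    exact Submodule.smul_mono le_rfl le_top h1
  have hmk' : ∀ b : B, Ideal.Quotient.mk It b ∈ (maximalIdeal A) • (⊤ : Submodule A (B ⧸ It)) →
      b ∈ (maximalIdeal A) • (⊤ : Submodule A B) := by
    intro b hb
    have htop : (⊤ : Submodule A (B ⧸ It)) =
        (⊤ : Submodule A B).map (Ideal.Quotient.mkₐ A It).toLinearMap := by
      rw [Submodule.map_top, eq_comm, LinearMap.range_eq_top]
      exact Ideal.Quotient.mk_surjective
    rw [htop, ← Submodule.map_smul''] at hb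
    obtain ⟨b', hb', hbb'⟩ := hb
    have h2 : b - b' ∈ It := by
      rw [← Ideal.Quotient.eq_zero_iff_mem, map_sub]
      have : Ideal.Quotient.mk It b' = Ideal.Quotient.mk It b := hbb'
      rw [this, sub_self]
    have h3 : b - b' ∈ (maximalIdeal A) • (⊤ : Submodule A B) := by
      rw [mem_smul_top_iff]
      exact hItle h2
    have : b = b' + (b - b') := by ring
    rw [this]
    exact Submodule.add_mem _ hb' h3
  have hσmem : ∀ (e : (B ⧸ It) ≃ₐ[A] (B ⧸ It)) (x : B ⧸ It),
      x ∈ (maximalIdeal A) • (⊤ : Submodule A (B ⧸ It)) →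
      e x ∈ (maximalIdeal A) • (⊤ : Submodule A (B ⧸ It)) := by
    intro e x hx
    have h1 : e.toLinearMap x ∈
        ((maximalIdeal A) • (⊤ : Submodule A (B ⧸ It))).map e.toLinearMap :=
      Submodule.mem_map_of_mem hx
    rw [Submodule.map_smul''] at h1
    exact Submodule.smul_mono le_rfl le_top h1
  have hbij : Function.Bijective τ₀.toLinearMap := by
    apply FlatNilp.bijective_of_flat_of_nilpotent (maximalIdeal A) isNilpotent_maximalIdeal
    · rw [eq_top_iff]
      intro b _
      obtain ⟨x, hx⟩ := σ.surjective (Ideal.Quotient.mk It b)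
      obtain ⟨b', rfl⟩ := Ideal.Quotient.mk_surjective x
      have h1 : τ₀ b' - b ∈ It := by
        rw [← Ideal.Quotient.eq_zero_iff_mem, map_sub, hτ₀, hx, sub_self]
      have h2 : b - τ₀ b' ∈ (maximalIdeal A) • (⊤ : Submodule A B) := by
        rw [mem_smul_top_iff]
        apply hItle
        have : b - τ₀ b' = -(τ₀ b' - b) := by ring
        rw [this]
        exact It.neg_mem h1
      have h3 : τ₀ b' ∈ LinearMap.range τ₀.toLinearMap := ⟨b', rfl⟩
      have : b = τ₀ b' + (b - τ₀ b') := by ring
      rw [this]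
      exact Submodule.add_mem_sup h3 h2
    · intro b hb
      rw [Submodule.mem_comap] at hb
      have h1 := hmk _ hb
      have h1' : Ideal.Quotient.mk It (τ₀ b) ∈ (maximalIdeal A) • (⊤ : Submodule A (B ⧸ It)) := h1
      rw [hτ₀] at h1'
      have h2 := hσmem σ.symm _ h1'
      rw [AlgEquiv.symm_apply_apply] at h2
      exact hmk' b h2
  exact ⟨AlgEquiv.ofBijective τ₀ hbij, fun b => hτ₀ b⟩

omit [Algebra k A] [Algebra k B] [IsScalarTower k A B] in
theorem exists_algEquiv_lift [Module.Flat A B] [Algebra.FormallySmooth A B]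
    (t : A) (ht : t ∈ maximalIdeal A) (htm : ∀ a ∈ maximalIdeal A, a * t = 0)
    (σ : (B ⧸ Ideal.span {algebraMap A B t}) ≃ₐ[A] (B ⧸ Ideal.span {algebraMap A B t})) :
    ∃ τ : B ≃ₐ[A] B, ∀ b : B,
      Ideal.Quotient.mk (Ideal.span {algebraMap A B t}) (τ b) =
        σ (Ideal.Quotient.mk (Ideal.span {algebraMap A B t}) b) := by
  apply exists_algEquiv_lift_ideal
  · refine ⟨2, ?_⟩
    rw [Ideal.span_singleton_pow, ← map_pow, pow_two, htm t ht, map_zero]
    simp
  · rw [Ideal.span_singleton_le_iff_mem]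
    exact Ideal.mem_map_of_mem _ ht

end Groth.Agent.Lib.Seat50.SmallExtAut
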