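import Groth.Prelude.Def_W4bk4grossh111Obs

/-!
# The trivial square-zero extension `A ⊕ M` as a rational `G`-algebra

For a rational action of `G` on a `k`-algebra `A` by automorphisms and a compatible rational action on an `A`-module `M`,
the trivial square-zero extension `A ⊕ M` carries a multiplicative rational action.  Consequence: finite generation of
invariants of algebras gives finite generation of `M^G` over `A^G`.
-/

universe u

noncomputable section

open CategoryTheory MonObj AlgebraicGeometry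
open scoped TensorProduct

namespace Groth.Agent.Lib.Seat50.TrivExtGMod

variable {k : Type u} [Field k]
variable {A : Type u} [CommRing A] [Algebra k A] {M : Type u} [AddCommGroup M] [Module A M] [Module k M]
  [IsScalarTower k A M]

/-- right action of `Aᵐᵒᵖ` on `M` equal to the left action (commutative ring) -/
@[reducible] def opModule (A : Type u) [CommRing A] (M : Type u) [AddCommGroup M] [Module A M] : Module Aᵐᵒᵖ M :=
  Module.compHom M ((RingHom.id A).fromOpposite (fun a b => mul_comm a b))

attribute [local instance] opModule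

instance : IsCentralScalar A M := ⟨fun _ _ => rfl⟩

instance : IsScalarTower k Aᵐᵒᵖ M := ⟨fun c a m => by
  change (MulOpposite.unop (c • a)) • m = c • (MulOpposite.unop a • m)
  rw [MulOpposite.unop_smul, smul_assoc]⟩

/-- The ring `A ⊕ M`. -/
abbrev R (A : Type u) [CommRing A] (M : Type u) [AddCommGroup M] [Module A M] : Type u := TrivSqZeroExt A M

example : CommRing (R A M) := inferInstance
example : Algebra k (R A M) := inferInstance
example : Algebra A (R A M) := inferInstance

section Equiv

variable (k A M) (B : Type u) [CommRing B] [Algebra k B]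

/-- `B ⊗ (A ⊕ M) ≃ (B ⊗ A) × (B ⊗ M)` -/
def e : B ⊗[k] R A M ≃ₗ[B] (B ⊗[k] A) × (B ⊗[k] M) :=
  TensorProduct.prodRight k B B A M

variable {k A M B}

@[simp] theorem e_tmul (b : B) (r : R A M) : e k A M B (b ⊗ₜ[k] r) = (b ⊗ₜ[k] r.fst, b ⊗ₜ[k] r.snd) :=
  TensorProduct.prodRight_tmul k B B A M b r

theorem e_symm_tmul_inl (b : B) (a : A) :
    (e k A M B).symm (b ⊗ₜ[k] a, 0) = b ⊗ₜ[k] (TrivSqZeroExt.inl a : R A M) := by
  rw [LinearEquiv.symm_apply_eq, e_tmul]
  simp

theorem e_one : e k A M B (1 : B ⊗[k] R A M) = (1, 0) := by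
  rw [Algebra.TensorProduct.one_def, e_tmul]
  simp [Algebra.TensorProduct.one_def]

theorem e_Wmap {B' : Type u} [CommRing B'] [Algebra k B'] (φ : B →ₐ[k] B') (x : B ⊗[k] R A M) :
    e k A M B' (VecGrp.Wmap φ x) =
      (VecGrp.Wmap φ (e k A M B x).1, VecGrp.Wmap φ (e k A M B x).2) := by
  induction x using TensorProduct.induction_on with
  | zero => simp; rfl
  | tmul b r => simp
  | add x y hx hy => simp only [map_add, hx, hy, Prod.fst_add, Prod.snd_add, Prod.mk_add_mk]

theorem e_mul (x y : B ⊗[k] R A M) :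
    e k A M B (x * y) =
      ((e k A M B x).1 * (e k A M B y).1,
        VecGrp.GMod.smulW k A M B (e k A M B x).1 (e k A M B y).2 +
          VecGrp.GMod.smulW k A M B (e k A M B y).1 (e k A M B x).2) := by
  induction x using TensorProduct.induction_on with
  | zero => simp; rfl
  | add x x' hx hx' =>
    rw [add_mul, map_add, hx, hx']
    simp only [map_add, Prod.fst_add, Prod.snd_add, Prod.mk_add_mk, add_mul, LinearMap.add_apply]
    congr 1
    abel
  | tmul b r =>
    induction y using TensorProduct.induction_on with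
    | zero => simp; rfl
    | add y y' hy hy' =>
      rw [mul_add, map_add, hy, hy']
      simp only [map_add, Prod.fst_add, Prod.snd_add, Prod.mk_add_mk, mul_add, LinearMap.add_apply]
      congr 1
      abel
    | tmul b' r' =>
      rw [Algebra.TensorProduct.tmul_mul_tmul, e_tmul, e_tmul, e_tmul]
      simp only [Algebra.TensorProduct.tmul_mul_tmul, TrivSqZeroExt.fst_mul, TrivSqZeroExt.snd_mul]
      refine Prod.ext rfl ?_
      simp only [VecGrp.GMod.smulW, TensorProduct.map₂_apply_tmul, TensorProduct.tmul_add]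
      congr 1
      rw [TensorProduct.map_tmul, mul_comm b b']
      rfl

end Equiv

section GModStr

variable {G : Over (Spec (CommRingCat.of k))} [GrpObj G]
variable (ρA : VecGrp.GMod G A) (ρM : VecGrp.GMod G M)

/-- the action on `B ⊗ (A ⊕ M)` -/
def act (B : Type u) [CommRing B] [Algebra k B] (g : VecGrp.pt k B ⟶ G) :
    (B ⊗[k] R A M) ≃ₗ[B] (B ⊗[k] R A M) :=
  ((e k A M B).trans ((ρA.ρ B g).prodCongr (ρM.ρ B g))).trans (e k A M B).symm

theorem e_act (B : Type u) [CommRing B] [Algebra k B] (g : VecGrp.pt k B ⟶ G) (x : B ⊗[k] R A M) :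
    e k A M B (act ρA ρM B g x) = (ρA.ρ B g (e k A M B x).1, ρM.ρ B g (e k A M B x).2) := by
  simp [act]

/-- The `G`-module structure on `A ⊕ M`. -/
def gmod : VecGrp.GMod G (R A M) where
  ρ B _ _ :=
    { toFun := fun g => act ρA ρM B g
      map_one' := by
        refine LinearEquiv.ext fun x => (e k A M B).injective ?_
        rw [e_act]
        simp
      map_mul' := fun g g' => by
        refine LinearEquiv.ext fun x => (e k A M B).injective ?_
        rw [e_act, LinearEquiv.mul_apply, e_act, e_act]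
        simp }
  naturality φ g x := by
    rename_i B B' _ _ _ _
    refine (e k A M B').injective ?_
    change e k A M B' (VecGrp.Wmap φ (act ρA ρM B g x)) =
      e k A M B' (act ρA ρM B' (VecGrp.ptMap φ ≫ g) (VecGrp.Wmap φ x))
    rw [e_act, e_Wmap, e_Wmap, e_act, ρA.naturality, ρM.naturality]

theorem e_gmod (B : Type u) [CommRing B] [Algebra k B] (g : VecGrp.pt k B ⟶ G) (x : B ⊗[k] R A M) :
    e k A M B ((gmod ρA ρM).ρ B g x) = (ρA.ρ B g (e k A M B x).1, ρM.ρ B g (e k A M B x).2) :=
  e_act ρA ρM B g x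

variable {ρA ρM}

theorem isMult_gmod (hρ : ρA.IsMult) (hc : VecGrp.GMod.IsCompat ρA ρM) : (gmod ρA ρM).IsMult := by
  intro B _ _ g
  refine ⟨fun x y => (e k A M B).injective ?_, (e k A M B).injective ?_⟩
  · rw [e_gmod, e_mul, e_mul, e_gmod, e_gmod]
    simp only [map_add]
    rw [(hρ B g).1, hc B g, hc B g]
  · rw [e_gmod, e_one]
    simp only [map_zero]
    rw [(hρ B g).2]

theorem mem_fixedUnder_gmod {H : Over (Spec (CommRingCat.of k))} [GrpObj H] (i : H ⟶ G) (r : R A M) :
    r ∈ (gmod ρA ρM).fixedUnder i ↔ r.fst ∈ ρA.fixedUnder i ∧ r.snd ∈ ρM.fixedUnder i := by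
  constructor
  · intro h
    refine ⟨fun B _ _ g => ?_, fun B _ _ g => ?_⟩
    · have := congrArg (fun z => (e k A M B z).1) (h B g)
      simpa [e_gmod] using this
    · have := congrArg (fun z => (e k A M B z).2) (h B g)
      simpa [e_gmod] using this
  · rintro ⟨h1, h2⟩ B _ _ g
    refine (e k A M B).injective ?_
    rw [e_gmod, e_tmul, h1 B g, h2 B g]

theorem finiteType_R [Algebra.FiniteType k A] [Module.Finite A M] : Algebra.FiniteType k (R A M) := by
  haveI : Module.Finite A (R A M) := inferInstanceAs (Module.Finite A (A × M))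
  haveI : Algebra.FiniteType A (R A M) := inferInstance
  exact Algebra.FiniteType.trans (S := A) inferInstance inferInstance

theorem main (hG : VecGrp.IsReductiveGrp k G) (thmA : VecGrp.ReductiveInvariantsFG k)
    [Algebra.FiniteType k A] [Module.Finite A M] (hρ : ρA.IsMult) (hc : VecGrp.GMod.IsCompat ρA ρM) :
    ∃ s : Finset M, (↑s : Set M) ⊆ ρM.fixedUnder (𝟙 G) ∧
      ρM.fixedUnder (𝟙 G) ≤
        (Submodule.span ↥(ρA.fixedSubalgebra hρ (𝟙 G)) (↑s : Set M)).restrictScalars k := by
  classical
  obtain ⟨t, ht, hadj⟩ := thmA G hG (R A M) (gmod ρA ρM) (isMult_gmod hρ hc) finiteType_R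
  refine ⟨t.image TrivSqZeroExt.snd, ?_, ?_⟩
  · intro m hm
    obtain ⟨r, hr, rfl⟩ := Finset.mem_image.mp (Finset.mem_coe.mp hm)
    exact ((mem_fixedUnder_gmod (𝟙 G) r).mp (ht (Finset.mem_coe.mpr hr))).2
  · have key : ∀ r ∈ Algebra.adjoin k (↑t : Set (R A M)),
        r.fst ∈ ρA.fixedSubalgebra hρ (𝟙 G) ∧
          r.snd ∈ Submodule.span ↥(ρA.fixedSubalgebra hρ (𝟙 G))
            (↑(t.image TrivSqZeroExt.snd) : Set M) := by
      intro r hr
      induction hr using Algebra.adjoin_induction with
      | mem r hr =>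
        refine ⟨((mem_fixedUnder_gmod (𝟙 G) r).mp (ht hr)).1, Submodule.subset_span ?_⟩
        exact Finset.mem_coe.mpr (Finset.mem_image.mpr ⟨r, Finset.mem_coe.mp hr, rfl⟩)
      | algebraMap c =>
        refine ⟨?_, ?_⟩
        · rw [TrivSqZeroExt.algebraMap_eq_inl', TrivSqZeroExt.fst_inl]
          exact Subalgebra.algebraMap_mem _ c
        · rw [TrivSqZeroExt.algebraMap_eq_inl', TrivSqZeroExt.snd_inl]
          exact Submodule.zero_mem _
      | add x y _ _ hx hy =>
        exact ⟨by rw [TrivSqZeroExt.fst_add]; exact Subalgebra.add_mem _ hx.1 hy.1,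
          by rw [TrivSqZeroExt.snd_add]; exact Submodule.add_mem _ hx.2 hy.2⟩
      | mul x y _ _ hx hy =>
        refine ⟨by rw [TrivSqZeroExt.fst_mul]; exact Subalgebra.mul_mem _ hx.1 hy.1, ?_⟩
        rw [TrivSqZeroExt.snd_mul]
        refine Submodule.add_mem _ ?_ ?_
        · exact Submodule.smul_mem _ (⟨x.fst, hx.1⟩ : ↥(ρA.fixedSubalgebra hρ (𝟙 G))) hy.2
        · exact Submodule.smul_mem _ (⟨y.fst, hy.1⟩ : ↥(ρA.fixedSubalgebra hρ (𝟙 G))) hx.2
    intro m hm
    have hr : (TrivSqZeroExt.inr m : R A M) ∈ (gmod ρA ρM).fixedUnder (𝟙 G) := by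
      rw [mem_fixedUnder_gmod]
      exact ⟨by rw [TrivSqZeroExt.fst_inr]; exact Submodule.zero_mem _, by rwa [TrivSqZeroExt.snd_inr]⟩
    have := (key _ (hadj hr)).2
    rwa [TrivSqZeroExt.snd_inr] at this

end GModStr

end Groth.Agent.Lib.Seat50.TrivExtGMod
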