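import Mathlib

/-!
# Veronese-type finiteness for ℕ-graded rings of finite type over their degree-zero part

For a commutative ring `A` graded by additive subgroups `𝒜 : ℕ → AddSubgroup A`, of finite type over `𝒜 0`:
there is `d₀ > 0` such that for every positive multiple `d` of `d₀`, `𝒜 (n d) = (𝒜 d)^n` for all `n > 0`
(as `ℤ`-submodules of `A`), and every `𝒜 d` is `𝒜 0 · span ℤ T` for a finite `T ⊆ 𝒜 d`.
-/

namespace Groth.Agent.Lib.Seat50.Veronese

open scoped Pointwise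

variable {A : Type*} [CommRing A] (𝒜 : ℕ → AddSubgroup A) [GradedRing 𝒜]

/-- The degree-`n` part as a `ℤ`-submodule. -/
abbrev P (n : ℕ) : Submodule ℤ A := AddSubgroup.toIntSubmodule (𝒜 n)

theorem mem_P {n : ℕ} {a : A} : a ∈ P 𝒜 n ↔ a ∈ 𝒜 n := Iff.rfl

omit [GradedRing 𝒜] in
theorem mul_mono' {X X' Y Y' : Submodule ℤ A} (h1 : X ≤ X') (h2 : Y ≤ Y') : X * Y ≤ X' * Y' :=
  Submodule.mul_le.mpr fun _ ha _ hb => Submodule.mul_mem_mul (h1 ha) (h2 hb)

omit [GradedRing 𝒜] in
theorem pow_mono' {X Y : Submodule ℤ A} (h : X ≤ Y) (n : ℕ) : X ^ n ≤ Y ^ n := by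
  induction n with
  | zero => rw [pow_zero, pow_zero]
  | succ n ih => rw [pow_succ, pow_succ]; exact mul_mono' ih h

theorem P_mul_le (m n : ℕ) : P 𝒜 m * P 𝒜 n ≤ P 𝒜 (m + n) := by
  rw [Submodule.mul_le]
  intro a ha b hb
  exact SetLike.mul_mem_graded (A := 𝒜) ha hb

theorem P_pow_le (m n : ℕ) : (P 𝒜 m) ^ n ≤ P 𝒜 (n * m) := by
  induction n with
  | zero =>
    rw [pow_zero, Nat.zero_mul, Submodule.one_le]
    exact SetLike.one_mem_graded 𝒜
  | succ n ih =>
    rw [pow_succ, Nat.succ_mul]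
    exact (mul_mono' ih le_rfl).trans (P_mul_le 𝒜 _ _)

section Monomials

variable (s : Finset A) (deg : A → ℕ)

/-- monomial in the elements of `s` -/
def mon (α : A → ℕ) : A := ∏ x ∈ s, x ^ α x

/-- weight of a monomial -/
def wt (α : A → ℕ) : ℕ := ∑ x ∈ s, α x * deg x

theorem mon_add (α β : A → ℕ) : mon s (α + β) = mon s α * mon s β := by
  unfold mon
  rw [← Finset.prod_mul_distrib]
  exact Finset.prod_congr rfl fun x _ => by rw [Pi.add_apply, pow_add]

theorem wt_add (α β : A → ℕ) : wt s deg (α + β) = wt s deg α + wt s deg β := by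
  unfold wt
  rw [← Finset.sum_add_distrib]
  exact Finset.sum_congr rfl fun x _ => by rw [Pi.add_apply, add_mul]

open Classical in
theorem mon_single {x : A} (hx : x ∈ s) (k : ℕ) : mon s (Pi.single x k) = x ^ k := by
  unfold mon
  rw [Finset.prod_eq_single_of_mem x hx]
  · rw [Pi.single_eq_same]
  · intro y _ hy
    rw [Pi.single_eq_of_ne hy, pow_zero]

open Classical in
theorem wt_single {x : A} (hx : x ∈ s) (k : ℕ) : wt s deg (Pi.single x k) = k * deg x := by
  unfold wt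
  rw [Finset.sum_eq_single_of_mem x hx]
  · rw [Pi.single_eq_same]
  · intro y _ hy
    rw [Pi.single_eq_of_ne hy, Nat.zero_mul]

variable {s deg}

theorem mon_mem (hdeg : ∀ x ∈ s, x ∈ 𝒜 (deg x)) (α : A → ℕ) : mon s α ∈ 𝒜 (wt s deg α) := by
  unfold mon wt
  refine SetLike.prod_mem_graded (A := 𝒜) (fun x => α x * deg x) (fun x => x ^ α x) ?_
  intro x hx
  have := SetLike.pow_mem_graded (A := 𝒜) (α x) (hdeg x hx)
  simpa [smul_eq_mul] using this

/-- Key projection lemma: if all `c * mon α` with `c` of degree zero and `wt α = n` lie in `Q`, then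
`𝒜 n ≤ Q`. -/
theorem le_of_forall_mon (hdeg : ∀ x ∈ s, x ∈ 𝒜 (deg x))
    (hs : Algebra.adjoin (𝒜 0) (s : Set A) = ⊤) (n : ℕ) (Q : Submodule ℤ A)
    (h : ∀ c ∈ 𝒜 0, ∀ α : A → ℕ, wt s deg α = n → c * mon s α ∈ Q) : P 𝒜 n ≤ Q := by
  classical
  have key : ∀ a : A, ((DirectSum.decompose 𝒜 a n : 𝒜 n) : A) ∈ Q := by
    intro a
    have hspan : a ∈ Submodule.span (𝒜 0) (Submonoid.closure (s : Set A) : Set A) := by
      rw [← Algebra.adjoin_eq_span, hs]
      trivial
    induction hspan using Submodule.closure_induction with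
    | zero => simp
    | add x y _ _ hx hy =>
      rw [DirectSum.decompose_add, DirectSum.add_apply, AddSubgroup.coe_add]
      exact Q.add_mem hx hy
    | smul_mem c x hx =>
      obtain ⟨α, -, rfl⟩ := Submonoid.mem_closure_finset.mp hx
      have hmem : c • (∏ a ∈ s, a ^ α a) ∈ 𝒜 (wt s deg α) := by
        have h1 : (c : A) * mon s α ∈ 𝒜 (0 + wt s deg α) :=
          SetLike.mul_mem_graded (A := 𝒜) c.2 (mon_mem 𝒜 hdeg α)
        rw [zero_add] at h1
        exact h1
      by_cases hw : wt s deg α = n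
      · subst hw
        rw [DirectSum.decompose_of_mem_same 𝒜 hmem]
        exact h c c.2 α rfl
      · rw [DirectSum.decompose_of_mem_ne 𝒜 hmem hw]
        exact Q.zero_mem
  intro a ha
  have := key a
  rwa [DirectSum.decompose_of_mem_same 𝒜 ha] at this

/-- Step: for `n ≥ card s * q`, `𝒜 (n + q) ≤ 𝒜 q * 𝒜 n`. -/
theorem step (hdeg : ∀ x ∈ s, x ∈ 𝒜 (deg x))
    (hs : Algebra.adjoin (𝒜 0) (s : Set A) = ⊤) (q : ℕ) (hq : ∀ x ∈ s, deg x ∣ q)
    (hdeg0 : ∀ x ∈ s, deg x ≠ 0) (hq0 : 0 < q)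
    (n : ℕ) (hn : s.card * q ≤ n) : P 𝒜 (n + q) ≤ P 𝒜 q * P 𝒜 n := by
  classical
  refine le_of_forall_mon 𝒜 hdeg hs (n + q) _ ?_
  intro c hc α hα
  -- pigeonhole
  have hex : ∃ x ∈ s, q / deg x ≤ α x := by
    by_contra hcon
    push Not at hcon
    have hle : wt s deg α ≤ s.card * q := by
      unfold wt
      rw [← smul_eq_mul, ← Finset.sum_const]
      refine Finset.sum_le_sum fun x hx => ?_
      have h1 := hcon x hx
      have h2 : α x * deg x ≤ (q / deg x) * deg x := Nat.mul_le_mul_right _ h1.le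
      rwa [Nat.div_mul_cancel (hq x hx)] at h2
    omega
  obtain ⟨x, hx, hxα⟩ := hex
  set k := q / deg x with hk
  have hkq : k * deg x = q := Nat.div_mul_cancel (hq x hx)
  set α' : A → ℕ := fun y => if y = x then α x - k else α y with hα'
  have hsplit : α = α' + Pi.single x k := by
    funext y
    by_cases hy : y = x
    · subst hy
      simp only [hα', Pi.add_apply, Pi.single_eq_same, if_true]
      omega
    · simp only [hα', Pi.add_apply, Pi.single_eq_of_ne hy, if_neg hy, add_zero]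
  have hw : wt s deg α' = n := by
    have := wt_add s deg α' (Pi.single x k)
    rw [← hsplit, wt_single s deg hx, hkq, hα] at this
    omega
  have hm : mon s α = x ^ k * mon s α' := by
    conv_lhs => rw [hsplit]
    rw [mon_add, mon_single s hx, mul_comm]
  have e : c * mon s α = x ^ k * (c * mon s α') := by rw [hm]; ring
  rw [e]
  refine Submodule.mul_mem_mul ?_ ?_
  · have := SetLike.pow_mem_graded (A := 𝒜) k (hdeg x hx)
    rw [smul_eq_mul, hkq] at this
    exact this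
  · have h1 : c * mon s α' ∈ 𝒜 (0 + wt s deg α') :=
      SetLike.mul_mem_graded (A := 𝒜) hc (mon_mem 𝒜 hdeg α')
    rw [zero_add, hw] at h1
    exact h1

/-- Each graded piece is `𝒜 0 · span ℤ T` for a finite set `T` of elements of the piece. -/
theorem exists_finset_piece (hdeg : ∀ x ∈ s, x ∈ 𝒜 (deg x))
    (hs : Algebra.adjoin (𝒜 0) (s : Set A) = ⊤) (hdeg0 : ∀ x ∈ s, deg x ≠ 0) (d : ℕ) :
    ∃ T : Finset A, (↑T : Set A) ⊆ (𝒜 d : Set A) ∧
      P 𝒜 d = P 𝒜 0 * Submodule.span ℤ (↑T : Set A) := by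
  classical
  let T0 : Finset A := (Finset.univ : Finset (s → Fin (d + 1))).image
    (fun β => ∏ x : s, (x : A) ^ (β x : ℕ))
  let T : Finset A := T0.filter (fun m => m ∈ 𝒜 d)
  have hT : (↑T : Set A) ⊆ (𝒜 d : Set A) := by
    intro m hm
    exact (Finset.mem_filter.mp (Finset.mem_coe.mp hm)).2
  refine ⟨T, hT, le_antisymm ?_ ?_⟩
  · refine le_of_forall_mon 𝒜 hdeg hs d _ ?_
    intro c hc α hα
    refine Submodule.mul_mem_mul hc (Submodule.subset_span ?_)
    have hmem : mon s α ∈ 𝒜 d := hα ▸ mon_mem 𝒜 hdeg α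
    have hbound : ∀ x ∈ s, α x < d + 1 := by
      intro x hx
      have h1 : α x * deg x ≤ wt s deg α :=
        Finset.single_le_sum (f := fun x => α x * deg x) (fun _ _ => Nat.zero_le _) hx
      have h2 : α x ≤ α x * deg x := Nat.le_mul_of_pos_right _ (Nat.pos_of_ne_zero (hdeg0 x hx))
      omega
    rw [Finset.mem_coe, Finset.mem_filter]
    refine ⟨?_, hmem⟩
    rw [Finset.mem_image]
    refine ⟨fun x => ⟨α x.1, hbound x.1 x.2⟩, Finset.mem_univ _, ?_⟩
    unfold mon
    exact Finset.prod_coe_sort s (fun x => x ^ α x)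
  · have h1 : Submodule.span ℤ (↑T : Set A) ≤ P 𝒜 d := Submodule.span_le.mpr hT
    have h2 := P_mul_le 𝒜 0 d
    rw [zero_add] at h2
    exact (mul_mono' le_rfl h1).trans h2

end Monomials

/-- Main theorem. -/
theorem main [Algebra.FiniteType (𝒜 0) A] :
    ∃ d₀ : ℕ, 0 < d₀ ∧ ∀ t : ℕ, 0 < t →
      (∀ n : ℕ, 0 < n → P 𝒜 (n * (t * d₀)) = P 𝒜 (t * d₀) ^ n) ∧
      ∃ T : Finset A, (↑T : Set A) ⊆ (𝒜 (t * d₀) : Set A) ∧
        P 𝒜 (t * d₀) = P 𝒜 0 * Submodule.span ℤ (↑T : Set A) := by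
  classical
  obtain ⟨s, hs, hhom⟩ := GradedAlgebra.exists_finset_adjoin_eq_top_and_homogeneous_ne_zero 𝒜
  choose! deg hdeg using hhom
  have hdegm : ∀ x ∈ s, x ∈ 𝒜 (deg x) := fun x hx => (hdeg x hx).2
  have hdeg0 : ∀ x ∈ s, deg x ≠ 0 := fun x hx => (hdeg x hx).1
  set q : ℕ := ∏ x ∈ s, deg x with hq
  have hq0 : 0 < q := Finset.prod_pos fun x hx => Nat.pos_of_ne_zero (hdeg0 x hx)
  have hqd : ∀ x ∈ s, deg x ∣ q := fun x hx => Finset.dvd_prod_of_mem deg hx
  set r := s.card with hr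
  refine ⟨(r + 1) * q, Nat.mul_pos (Nat.succ_pos _) hq0, ?_⟩
  intro t ht
  set k' := t * (r + 1) with hk'
  have hk'0 : 0 < k' := Nat.mul_pos ht (Nat.succ_pos _)
  set d' := t * ((r + 1) * q) with hd'
  have hd'k : d' = k' * q := by rw [hd', hk', mul_assoc]
  have hN : r * q ≤ d' := by
    rw [hd'k]
    refine Nat.mul_le_mul_right _ ?_
    calc r ≤ r + 1 := Nat.le_succ _
      _ ≤ t * (r + 1) := Nat.le_mul_of_pos_left _ ht
  refine ⟨?_, exists_finset_piece 𝒜 hdegm hs hdeg0 d'⟩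
  -- iterate the step
  have iter : ∀ j : ℕ, P 𝒜 (d' + j * q) ≤ P 𝒜 q ^ j * P 𝒜 d' := by
    intro j
    induction j with
    | zero => rw [Nat.zero_mul, add_zero, pow_zero, one_mul]
    | succ j ih =>
      have e : d' + (j + 1) * q = (d' + j * q) + q := by ring
      rw [e, pow_succ', mul_assoc]
      refine (step 𝒜 hdegm hs q hqd hdeg0 hq0 (d' + j * q) ?_).trans (mul_mono' le_rfl ih)
      exact hN.trans (Nat.le_add_right _ _)
  have hqk : P 𝒜 q ^ k' ≤ P 𝒜 d' := by
    have := P_pow_le 𝒜 q k'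
    rwa [← hd'k] at this
  intro n hn
  refine le_antisymm ?_ (P_pow_le 𝒜 d' n)
  obtain ⟨m, rfl⟩ : ∃ m, n = m + 1 := ⟨n - 1, by omega⟩
  have e : (m + 1) * d' = d' + (m * k') * q := by rw [hd'k]; ring
  rw [e]
  refine (iter (m * k')).trans ?_
  rw [pow_succ, mul_comm m k', pow_mul]
  exact mul_mono' (pow_mono' hqk m) le_rfl

/-- Finite type over a ring mapping into degree zero implies finite type over the degree-zero subring. -/
theorem finiteType_gradeZero {R : Type*} [CommRing R] (φ : R →+* A) (hφ : ∀ r, φ r ∈ 𝒜 0)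
    (h : φ.FiniteType) : Algebra.FiniteType (𝒜 0) A := by
  letI := φ.toAlgebra
  let ψ : R →+* (𝒜 0) :=
    { toFun := fun r => ⟨φ r, hφ r⟩
      map_one' := Subtype.ext (map_one _)
      map_mul' := fun a b => Subtype.ext (map_mul _ a b)
      map_zero' := Subtype.ext (map_zero _)
      map_add' := fun a b => Subtype.ext (map_add _ a b) }
  letI : Algebra R (𝒜 0) := ψ.toAlgebra
  haveI : IsScalarTower R (𝒜 0) A := IsScalarTower.of_algebraMap_eq (fun r => rfl)
  haveI : Algebra.FiniteType R A := h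
  exact Algebra.FiniteType.of_restrictScalars_finiteType R (𝒜 0) A

end Groth.Agent.Lib.Seat50.Veronese
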