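import Mathlib
import Groth.Prelude.Def_QuotSh
import Groth.Prelude.Def_W4bk4git07Quot
import Groth.Agent.Lib.Helper12Act
import Groth.Agent.Lib.Helper12QuotSh

/-!
# Sheaf quotients of group actions: from the sheaf quotient to local conditions

For a group object `G` of `Over S` acting on `X`, and a precoverage `K`, a morphism `q : X ⟶ Y` with
`QuotSh.IsQuotient K a.act (snd G X) q` satisfies:
* `q` is invariant;
* every `T`-point of `Y` lifts to `X` locally on `T` (for the topology generated by `K`);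
* two `T`-points of `X` with the same image in `Y` are, locally on `T`, in the same `G(T)`-orbit.
No freeness of the action is needed.
-/

set_option autoImplicit false
universe u

open CategoryTheory Limits MonoidalCategory CartesianMonoidalCategory MonObj AlgebraicGeometry Opposite

namespace Groth.Agent.Lib.Seat51.FppfQuot

variable {S : Scheme.{u}} {G X : Over S} [GrpObj G] (a : AlgGrp.Action G X)

/-- the orbit relation on `T`-points of `X` -/
def orbRel (T : Over S) (x₁ x₂ : ULift.{u + 1} (T ⟶ X)) : Prop :=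
  ∃ g : T ⟶ G, lift g x₂.down ≫ a.act = x₁.down

lemma orbRel_equivalence (T : Over S) : Equivalence (orbRel a T) where
  refl x := ⟨1, Groth.Agent.Lib.Helper12.act_one a _⟩
  symm := by
    rintro x y ⟨g, hg⟩
    refine ⟨g⁻¹, ?_⟩
    rw [← hg, ← Groth.Agent.Lib.Helper12.act_mul, inv_mul_cancel,
      Groth.Agent.Lib.Helper12.act_one]
  trans := by
    rintro x y z ⟨g, hg⟩ ⟨h, hh⟩
    refine ⟨g * h, ?_⟩
    rw [Groth.Agent.Lib.Helper12.act_mul, hh, hg]

/-- the orbit setoid on `T`-points of `X` -/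
def orbSetoid (T : Over S) : Setoid (ULift.{u + 1} (T ⟶ X)) := ⟨orbRel a T, orbRel_equivalence a T⟩

lemma orbRel_comp {T T' : Over S} (f : T' ⟶ T) {x₁ x₂ : ULift.{u + 1} (T ⟶ X)}
    (h : orbRel a T x₁ x₂) : orbRel a T' ⟨f ≫ x₁.down⟩ ⟨f ≫ x₂.down⟩ := by
  obtain ⟨g, hg⟩ := h
  refine ⟨f ≫ g, ?_⟩
  change lift (f ≫ g) (f ≫ x₂.down) ≫ a.act = f ≫ x₁.down
  rw [← hg, ← comp_lift, Category.assoc]

/-- the presheaf quotient `T ↦ X(T)/G(T)` -/
def orbPre : (Over S)ᵒᵖ ⥤ Type (u + 1) where
  obj T := Quotient (orbSetoid a T.unop)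
  map {T T'} f := ↾(Quotient.map (sa := orbSetoid a T.unop) (sb := orbSetoid a T'.unop)
    (fun x => ⟨f.unop ≫ x.down⟩) (fun _ _ h => orbRel_comp a f.unop h))
  map_id T := by
    ext x
    induction x using Quotient.inductionOn with
    | h x => exact congrArg _ (ULift.ext _ _ (Category.id_comp _))
  map_comp f g := by
    ext x
    induction x using Quotient.inductionOn with
    | h x => exact congrArg _ (ULift.ext _ _ (Category.assoc _ _ _))

/-- the representable presheaf of `V`, lifted one universe -/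
abbrev pre (V : Over S) : (Over S)ᵒᵖ ⥤ Type (u + 1) := yoneda.obj V ⋙ uliftFunctor.{u + 1, u}

/-- the map of representable presheaves induced by `g` -/
abbrev preMap {V W : Over S} (g : V ⟶ W) : pre V ⟶ pre W :=
  Functor.whiskerRight (yoneda.map g) uliftFunctor.{u + 1, u}

/-- the quotient map `h_X ⟶ X/G` of presheaves -/
def orbπ : pre X ⟶ orbPre a where
  app T := ↾(fun x => Quotient.mk (orbSetoid a T.unop) x)
  naturality _ _ _ := rfl

lemma orb_condition : preMap a.act ≫ orbπ a = preMap (snd G X) ≫ orbπ a := by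
  ext T r
  refine Quotient.sound (s := orbSetoid a T.unop) ?_
  refine ⟨r.down ≫ fst G X, ?_⟩
  change lift (r.down ≫ fst G X) (r.down ≫ snd G X) ≫ a.act = r.down ≫ a.act
  rw [lift_comp_fst_snd]

/-- the map `X/G ⟶ h_Y` of presheaves induced by an invariant morphism -/
def orbDesc {Y : Over S} (q : X ⟶ Y) (w : a.act ≫ q = snd G X ≫ q) : orbPre a ⟶ pre Y where
  app T := ↾(Quotient.lift (s := orbSetoid a T.unop)
    (fun x => (⟨x.down ≫ q⟩ : ULift.{u + 1} (T.unop ⟶ Y))) (by
      rintro x₁ x₂ ⟨g, hg⟩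
      apply ULift.ext
      change x₁.down ≫ q = x₂.down ≫ q
      rw [← hg, Category.assoc, w, ← Category.assoc, lift_snd]))
  naturality T T' f := by
    ext x
    induction x using Quotient.inductionOn with
    | h x =>
      apply ULift.ext
      change (f.unop ≫ x.down) ≫ q = f.unop ≫ (x.down ≫ q)
      exact Category.assoc _ _ _

lemma orbπ_orbDesc {Y : Over S} (q : X ⟶ Y) (w : a.act ≫ q = snd G X ≫ q) :
    orbπ a ≫ orbDesc a q w = preMap q := rfl

/-- `X/G` is the coequalizer of `h_{G × X} ⇉ h_X` in presheaves -/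
noncomputable def orbIsColimit : IsColimit (Cofork.ofπ (orbπ a) (orb_condition a)) :=
  Cofork.IsColimit.mk _
    (fun s =>
      { app := fun T => ↾(Quotient.lift (s := orbSetoid a T.unop) (fun x => s.π.app T x) (by
          rintro x₁ x₂ ⟨g, hg⟩
          have h1 : (preMap a.act ≫ s.π).app T (⟨lift g x₂.down⟩ : ULift.{u + 1} (T.unop ⟶ G ⊗ X)) =
              (preMap (snd G X) ≫ s.π).app T ⟨lift g x₂.down⟩ := by
            rw [s.condition]
          have e1 : (⟨lift g x₂.down ≫ a.act⟩ : ULift.{u + 1} (T.unop ⟶ X)) = x₁ :=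
            ULift.ext _ _ hg
          have e2 : (⟨lift g x₂.down ≫ snd G X⟩ : ULift.{u + 1} (T.unop ⟶ X)) = x₂ :=
            ULift.ext _ _ (lift_snd _ _)
          change s.π.app T x₁ = s.π.app T x₂
          exact ((congrArg (s.π.app T) e1).symm.trans h1).trans (congrArg (s.π.app T) e2)))
        naturality := fun T T' f => by
          ext x
          induction x using Quotient.inductionOn with
          | h x => exact ConcreteCategory.congr_hom (s.π.naturality f) x })
    (fun s => rfl)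
    (fun s m hm => by
      ext T x
      induction x using Quotient.inductionOn with
      | h x =>
        have h2 : (orbπ a ≫ m).app T x = s.π.app T x := by rw [← hm]; rfl
        exact h2)

variable (K : Precoverage Scheme.{u})

/-- if `q` is the sheaf quotient, then `X/G ⟶ h_Y` is locally injective -/
lemma isLocallyInjective_orbDesc {Y : Over S} (q : X ⟶ Y)
    (hq : QuotSh.IsQuotient K a.act (snd G X) q) :
    Presheaf.IsLocallyInjective (QuotSh.J K S) (orbDesc a q hq.1) := by
  obtain ⟨w, hiso⟩ := hq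
  let F := presheafToSheaf (QuotSh.J K S) (Type (u + 1))
  have hc : IsColimit (Cofork.ofπ (F.map (orbπ a))
      (by rw [← F.map_comp, ← F.map_comp, orb_condition]) :
      Cofork (F.map (preMap a.act)) (F.map (preMap (snd G X)))) :=
    (isColimitMapCoconeCoforkEquiv F (orb_condition a)) (isColimitOfPreserves F (orbIsColimit a))
  let e := (coequalizerIsCoequalizer (F.map (preMap a.act))
    (F.map (preMap (snd G X)))).coconePointUniqueUpToIso hc
  have he : coequalizer.π _ _ ≫ e.hom = F.map (orbπ a) :=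
    IsColimit.comp_coconePointUniqueUpToIso_hom (coequalizerIsCoequalizer (F.map (preMap a.act))
      (F.map (preMap (snd G X)))) hc WalkingParallelPair.one
  have hfac : QuotSh.quotDesc K q w = e.hom ≫ F.map (orbDesc a q w) := by
    apply coequalizer.hom_ext
    rw [QuotSh.quotDesc, coequalizer.π_desc, ← Category.assoc, he, ← F.map_comp, orbπ_orbDesc]
  have hiso' : IsIso (F.map (orbDesc a q w)) := by
    have : F.map (orbDesc a q w) = e.inv ≫ QuotSh.quotDesc K q w := by
      rw [hfac, Iso.inv_hom_id_assoc]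
    rw [this]
    exact IsIso.comp_isIso' (Iso.isIso_inv e) hiso
  exact (Presheaf.isLocallyInjective_presheafToSheaf_map_iff _ _).1 inferInstance

/-- if `q` is the sheaf quotient, then `h_X ⟶ h_Y` is locally surjective -/
lemma isLocallySurjective_preMap {Y : Over S} (q : X ⟶ Y)
    (hq : QuotSh.IsQuotient K a.act (snd G X) q) :
    Presheaf.IsLocallySurjective (QuotSh.J K S) (preMap q) := by
  obtain ⟨w, hiso⟩ := hq
  have hepi : Epi (QuotSh.repMap K q) := by
    have hπ : QuotSh.quotπ K a.act (snd G X) ≫ QuotSh.quotDesc K q w = QuotSh.repMap K q :=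
      coequalizer.π_desc _ _
    rw [← hπ]
    have : Epi (QuotSh.quotπ K a.act (snd G X)) := coequalizer.π_epi
    infer_instance
  have h1 : Sheaf.IsLocallySurjective (QuotSh.repMap K q) :=
    (Sheaf.isLocallySurjective_iff_epi _).mpr hepi
  exact (Presheaf.isLocallySurjective_presheafToSheaf_map_iff _ _).1 h1

/-- The concrete local form of "`q` is the quotient of `X` by `G` for the topology of `K`". -/
structure IsLocQuot (a : AlgGrp.Action G X) {Y : Over S} (q : X ⟶ Y) : Prop where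
  inv : GIT.IsInvariant a q
  locSurj : ∀ {T : Over S} (y : T ⟶ Y), ∃ R ∈ QuotSh.J K S T,
    ∀ ⦃W : Over S⦄ (f : W ⟶ T), R f → ∃ x : W ⟶ X, x ≫ q = f ≫ y
  locInj : ∀ {T : Over S} (x₁ x₂ : T ⟶ X), x₁ ≫ q = x₂ ≫ q → ∃ R ∈ QuotSh.J K S T,
    ∀ ⦃W : Over S⦄ (f : W ⟶ T), R f → ∃ g : W ⟶ G, lift g (f ≫ x₂) ≫ a.act = f ≫ x₁

/-- a sheaf quotient is a local quotient -/
theorem isLocQuot_of_isQuotient {Y : Over S} (q : X ⟶ Y)
    (hq : QuotSh.IsQuotient K a.act (snd G X) q) : IsLocQuot K a q where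
  inv := hq.1
  locSurj {T} y := by
    have := isLocallySurjective_preMap a K q hq
    refine ⟨_, Presheaf.imageSieve_mem (QuotSh.J K S) (preMap q) (U := op T)
      (⟨y⟩ : ULift.{u + 1} (T ⟶ Y)), ?_⟩
    rintro W f ⟨t, ht⟩
    exact ⟨t.down, congrArg ULift.down ht⟩
  locInj {T} x₁ x₂ h := by
    have := isLocallyInjective_orbDesc a K q hq
    refine ⟨_, Presheaf.equalizerSieve_mem (QuotSh.J K S) (orbDesc a q hq.1) (X := op T)
      (Quotient.mk (orbSetoid a T) ⟨x₁⟩) (Quotient.mk (orbSetoid a T) ⟨x₂⟩)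
      (ULift.ext (⟨x₁ ≫ q⟩ : ULift.{u + 1} (T ⟶ Y)) ⟨x₂ ≫ q⟩ h), ?_⟩
    intro W f hf
    exact Quotient.exact (s := orbSetoid a W) hf

variable {a K}

/-- local quotients are stable under base change -/
theorem IsLocQuot.bc {Y X' Y' : Over S} {q : X ⟶ Y} (h : IsLocQuot K a q) (pr : X' ⟶ X)
    (q' : X' ⟶ Y') (g : Y' ⟶ Y) (hpb : IsPullback pr q' q g) (a' : AlgGrp.Action G X')
    (heq : a'.act ≫ pr = (G ◁ pr) ≫ a.act) (hinv : GIT.IsInvariant a' q') :
    IsLocQuot K a' q' where
  inv := hinv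
  locSurj {T} y := by
    obtain ⟨R, hR, hl⟩ := h.locSurj (y ≫ g)
    refine ⟨R, hR, fun W f hf => ?_⟩
    obtain ⟨x, hx⟩ := hl f hf
    exact ⟨hpb.lift x (f ≫ y) (by rw [hx, Category.assoc]), hpb.lift_snd _ _ _⟩
  locInj {T} x₁ x₂ hx := by
    obtain ⟨R, hR, hl⟩ := h.locInj (x₁ ≫ pr) (x₂ ≫ pr)
      (by rw [Category.assoc, Category.assoc, hpb.w, ← Category.assoc, hx, Category.assoc])
    refine ⟨R, hR, fun W f hf => ?_⟩
    obtain ⟨c, hc⟩ := hl f hf
    refine ⟨c, hpb.hom_ext ?_ ?_⟩
    · rw [Category.assoc, heq, ← Category.assoc, lift_whiskerLeft, Category.assoc, hc,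
        Category.assoc]
    · rw [Category.assoc, hinv, ← Category.assoc, lift_snd, Category.assoc, Category.assoc, hx]

/-- two points of `X` with the same image in `Y` have the same image under any invariant map to a
separated presheaf-representing object -/
lemma IsLocQuot.comp_eq_of_comp_eq [(QuotSh.J K S).Subcanonical] {Y Z : Over S} {q : X ⟶ Y}
    (h : IsLocQuot K a q) (ψ : X ⟶ Z) (hψ : GIT.IsInvariant a ψ) {T : Over S} (x₁ x₂ : T ⟶ X)
    (hx : x₁ ≫ q = x₂ ≫ q) : x₁ ≫ ψ = x₂ ≫ ψ := by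
  have hsh : Presieve.IsSheaf (QuotSh.J K S) (yoneda.obj Z) :=
    GrothendieckTopology.Subcanonical.isSheaf_of_isRepresentable _
  obtain ⟨R, hR, hl⟩ := h.locInj x₁ x₂ hx
  refine (hsh R hR).isSeparatedFor.ext fun W f hf => ?_
  obtain ⟨c, hc⟩ := hl f hf
  change f ≫ x₁ ≫ ψ = f ≫ x₂ ≫ ψ
  rw [← Category.assoc, ← hc, Category.assoc, hψ, ← Category.assoc, lift_snd, Category.assoc]

/-- a local quotient for a subcanonical topology is a categorical quotient -/
theorem IsLocQuot.isCatQuot [(QuotSh.J K S).Subcanonical] {Y : Over S} {q : X ⟶ Y}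
    (h : IsLocQuot K a q) : GIT.IsCatQuot a q := by
  refine ⟨h.inv, fun Z ψ hψ => ?_⟩
  have hsh : Presieve.IsSheaf (QuotSh.J K S) (yoneda.obj Z) :=
    GrothendieckTopology.Subcanonical.isSheaf_of_isRepresentable _
  obtain ⟨R, hR, hl⟩ := h.locSurj (𝟙 Y)
  choose x hx using hl
  have hcompat : Presieve.FamilyOfElements.Compatible (P := yoneda.obj Z) (R := R.arrows)
      (fun W f hf => x f hf ≫ ψ) := by
    intro Y₁ Y₂ W g₁ g₂ f₁ f₂ h₁ h₂ hcomm
    change g₁ ≫ x f₁ h₁ ≫ ψ = g₂ ≫ x f₂ h₂ ≫ ψ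
    rw [← Category.assoc, ← Category.assoc]
    apply h.comp_eq_of_comp_eq ψ hψ
    rw [Category.assoc, Category.assoc, hx, hx, Category.comp_id, Category.comp_id, hcomm]
  have hχ : ∀ ⦃W : Over S⦄ (f : W ⟶ Y) (hf : R f),
      f ≫ (hsh R hR).amalgamate _ hcompat = x f hf ≫ ψ :=
    fun W f hf => (hsh R hR).valid_glue hcompat f hf
  refine ⟨(hsh R hR).amalgamate _ hcompat, ?_, ?_⟩
  · refine (hsh (R.pullback q) ((QuotSh.J K S).pullback_stable q hR)).isSeparatedFor.ext
      fun W f hf => ?_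
    have hf' : R (f ≫ q) := hf
    change f ≫ q ≫ _ = f ≫ ψ
    rw [← Category.assoc, hχ (f ≫ q) hf']
    apply h.comp_eq_of_comp_eq ψ hψ
    exact (hx _ hf').trans (Category.comp_id _)
  · intro χ' hχ'
    refine (hsh R hR).isSeparatedFor.ext fun W f hf => ?_
    change f ≫ χ' = f ≫ _
    rw [hχ f hf, ← hχ', ← Category.assoc, hx, Category.comp_id]

/-- a local quotient for a subcanonical topology is a universal categorical quotient -/
theorem IsLocQuot.isUnivCatQuot [(QuotSh.J K S).Subcanonical] {Y : Over S} {q : X ⟶ Y}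
    (h : IsLocQuot K a q) : GIT.IsUnivCatQuot a q :=
  ⟨h.isCatQuot, fun _ _ pr q' g _ hpb a' heq hinv => (h.bc pr q' g hpb a' heq hinv).isCatQuot⟩

end Groth.Agent.Lib.Seat51.FppfQuot
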