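import Mathlib
import Groth.Prelude.Def_ChGrp
import Groth.Prelude.Def_W4bk4git07Quot
import Groth.Agent.Lib.Seat51FppfQuot
import Groth.Agent.Lib.Seat51GITBC

/-!
# Balanced products `G ×^H Z` (torsor form) and categorical quotients
-/

set_option autoImplicit false
universe u

open CategoryTheory Limits MonoidalCategory CartesianMonoidalCategory MonObj AlgebraicGeometry Opposite

namespace Groth.Agent.Lib.Seat51.BalProd

open Groth.Agent.Lib.Seat51.FppfQuot

variable {S : Scheme.{u}} (K : Precoverage Scheme.{u})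

/-- `q` has sections locally for the topology of `K` (sieve form, on every test object) -/
def HasLocSections {X Y : Over S} (q : X ⟶ Y) : Prop :=
  ∀ {T : Over S} (y : T ⟶ Y), ∃ R ∈ QuotSh.J K S T,
    ∀ ⦃W : Over S⦄ (f : W ⟶ T), R f → ∃ x : W ⟶ X, x ≫ q = f ≫ y

lemma hasLocSections_of_isLocallyTrivialFor {X Y : Over S} (q : X ⟶ Y)
    (h : NonAbH1.IsLocallyTrivialFor K (Over.mk q.left : Over Y.left)) : HasLocSections K q := by
  obtain ⟨R, hR, hs⟩ := h
  intro T y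
  refine ⟨(Sieve.overEquiv T).symm (Sieve.pullback y.left (Sieve.generate R)), ?_, ?_⟩
  · rw [GrothendieckTopology.mem_over_iff, OrderIso.apply_symm_apply]
    exact GrothendieckTopology.pullback_stable _ _ (Precoverage.generate_mem_toGrothendieck hR)
  · intro W f hf
    rw [Sieve.overEquiv_symm_iff] at hf
    obtain ⟨V, a, r, hr, har⟩ := hf
    obtain ⟨s, hs'⟩ := hs r hr
    change s ≫ q.left = r at hs'
    refine ⟨Over.homMk (a ≫ s) ?_, ?_⟩
    · rw [← Over.w q, Category.assoc, ← Category.assoc s, hs', ← Category.assoc, har,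
        Category.assoc, Over.w y, Over.w f]
    · apply Over.OverMorphism.ext
      change (a ≫ s) ≫ q.left = f.left ≫ y.left
      rw [Category.assoc, hs', har]

variable {K}

lemma HasLocSections.epi [(QuotSh.J K S).Subcanonical] {X Y : Over S} {q : X ⟶ Y}
    (h : HasLocSections K q) : Epi q := by
  constructor
  intro Z h₁ h₂ e
  have hsh : Presieve.IsSheaf (QuotSh.J K S) (yoneda.obj Z) :=
    GrothendieckTopology.Subcanonical.isSheaf_of_isRepresentable _
  obtain ⟨R, hR, hl⟩ := h (𝟙 Y)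
  refine (hsh R hR).isSeparatedFor.ext fun W f hf => ?_
  obtain ⟨x, hx⟩ := hl f hf
  change f ≫ h₁ = f ≫ h₂
  rw [Category.comp_id] at hx
  rw [← hx, Category.assoc, e, Category.assoc]

lemma HasLocSections.of_isPullback {X Y X' Y' : Over S} {q : X ⟶ Y} (h : HasLocSections K q)
    {pr : X' ⟶ X} {q' : X' ⟶ Y'} {g : Y' ⟶ Y} (hpb : IsPullback pr q' q g) :
    HasLocSections K q' := by
  intro T y
  obtain ⟨R, hR, hl⟩ := h (y ≫ g)
  refine ⟨R, hR, fun W f hf => ?_⟩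
  obtain ⟨x, hx⟩ := hl f hf
  exact ⟨hpb.lift x (f ≫ y) (by rw [hx, Category.assoc]), hpb.lift_snd _ _ _⟩

section BalProd

variable {G H Z Y : Over S} [GrpObj G] [GrpObj H] (i : H ⟶ G) [IsMonHom i]
  (aZ : AlgGrp.Action H Z) (aY : AlgGrp.Action G Y) (j : G ⊗ Z ⟶ Y)

/-- the torsor `G × Z ⟶ G ×^H Z` is a local quotient for the twisted action -/
theorem isLocQuot_twist (hY : ChGrp.IsBalProd K i aZ aY j) :
    IsLocQuot K (ChGrp.twist i aZ) j where
  inv := hY.2.1.w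
  locSurj := hasLocSections_of_isLocallyTrivialFor K j hY.2.2
  locInj {T} x₁ x₂ hx := by
    refine ⟨⊤, (QuotSh.J K S).top_mem _, fun W f _ => ?_⟩
    have hw : (f ≫ x₁) ≫ j = (f ≫ x₂) ≫ j := by rw [Category.assoc, Category.assoc, hx]
    refine ⟨hY.2.1.lift (f ≫ x₁) (f ≫ x₂) hw ≫ fst H (G ⊗ Z), ?_⟩
    have h1 := hY.2.1.lift_fst (f ≫ x₁) (f ≫ x₂) hw
    have h2 := hY.2.1.lift_snd (f ≫ x₁) (f ≫ x₂) hw
    have e : lift (hY.2.1.lift (f ≫ x₁) (f ≫ x₂) hw ≫ fst H (G ⊗ Z)) (f ≫ x₂) =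
        hY.2.1.lift (f ≫ x₁) (f ≫ x₂) hw := by
      apply CartesianMonoidalCategory.hom_ext
      · rw [lift_fst]
      · rw [lift_snd, h2]
    rw [e, h1]

variable {i aZ aY j}

/-- point form of the `G`-equivariance of `j` -/
lemma lift_mul_comp_j (hY : ChGrp.IsBalProd K i aZ aY j) {T : Over S} (g' g : T ⟶ G)
    (z : T ⟶ Z) : lift (g' * g) z ≫ j = lift g' (lift g z ≫ j) ≫ aY.act := by
  have h : ((NonAbH1.trivialAction G).prod (AlgGrp.Action.trivial G Z)).act ≫ j =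
      (G ◁ j) ≫ aY.act := hY.1
  have h2 := lift g' (lift g z) ≫= h
  rw [AlgGrp.Action.lift_prod_act_assoc, lift_whiskerLeft_assoc,
    AlgGrp.Action.lift_trivial_act] at h2
  have e : lift g' g ≫ (NonAbH1.trivialAction G).act = g' * g := by
    change lift g' g ≫ μ[G] = g' * g
    rw [Hom.mul_def]
  rw [e] at h2
  exact h2

/-- point form of the invariance of `j` under the twisted action -/
lemma twist_inv_point (hY : ChGrp.IsBalProd K i aZ aY j) {T : Over S} (h : T ⟶ H) (g : T ⟶ G)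
    (z : T ⟶ Z) : lift (g * (h ≫ i)⁻¹) (lift h z ≫ aZ.act) ≫ j = lift g z ≫ j := by
  have h2 := lift h (lift g z) ≫= hY.2.1.w
  rw [ChGrp.lift_twist_act_assoc, lift_snd_assoc] at h2
  exact h2

lemma comp_unitSection {T : Over S} (z : T ⟶ Z) :
    z ≫ lift (toUnit Z ≫ η[G]) (𝟙 Z) = lift (1 : T ⟶ G) z := by
  rw [comp_lift, Category.comp_id, Hom.one_def, ← Category.assoc, toUnit_unique (z ≫ toUnit Z)]

lemma lift_fst_snd_comp {A B T : Over S} (p : T ⟶ A ⊗ B) : lift (p ≫ fst A B) (p ≫ snd A B) = p := by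
  apply CartesianMonoidalCategory.hom_ext
  · rw [lift_fst]
  · rw [lift_snd]

/-- `Y // G ≅ Z // H` for the balanced product `Y = G ×^H Z` -/
theorem exists_iso_catQuot [(QuotSh.J K S).Subcanonical] (hY : ChGrp.IsBalProd K i aZ aY j)
    {P Q : Over S} (πZ : Z ⟶ P) (hP : GIT.IsCatQuot aZ πZ) (πY : Y ⟶ Q)
    (hQ : GIT.IsCatQuot aY πY) :
    ∃ (φ : P ⟶ Q) (χ : Q ⟶ P), φ ≫ χ = 𝟙 P ∧ χ ≫ φ = 𝟙 Q ∧
      πZ ≫ φ = lift (toUnit Z ≫ η[G]) (𝟙 Z) ≫ j ≫ πY ∧ j ≫ πY ≫ χ = snd G Z ≫ πZ := by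
  have hL := isLocQuot_twist i aZ aY j hY
  have hcat : GIT.IsCatQuot (ChGrp.twist i aZ) j := hL.isCatQuot
  have hepij : Epi j := HasLocSections.epi (K := K) hL.locSurj
  have hepiGj : Epi (G ◁ j) :=
    HasLocSections.epi (K := K) (HasLocSections.of_isPullback (K := K) hL.locSurj
      (GITBC.isPullback_whiskerLeft' G j).flip)
  have hQinv : aY.act ≫ πY = snd G Y ≫ πY := hQ.1
  have hPinv : aZ.act ≫ πZ = snd H Z ≫ πZ := hP.1
  -- `πY ∘ j` does not depend on the `G`-coordinate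
  have key0 : ∀ {T : Over S} (g : T ⟶ G) (z : T ⟶ Z),
      lift g z ≫ j ≫ πY = lift 1 z ≫ j ≫ πY := by
    intro T g z
    have h1 := lift_mul_comp_j hY g 1 z
    rw [_root_.mul_one] at h1
    rw [← Category.assoc, h1, Category.assoc, hQinv, lift_snd_assoc, Category.assoc]
  -- the map `P ⟶ Q`
  have hψ₀ : GIT.IsInvariant aZ (lift (toUnit Z ≫ η[G]) (𝟙 Z) ≫ j ≫ πY) := by
    unfold GIT.IsInvariant
    apply AlgGrp.Action.hom_ext_lift₂
    intro T h z
    have h1 := twist_inv_point hY h (h ≫ i) z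
    rw [mul_inv_cancel] at h1
    calc lift h z ≫ aZ.act ≫ lift (toUnit Z ≫ η[G]) (𝟙 Z) ≫ j ≫ πY
        = ((lift h z ≫ aZ.act) ≫ lift (toUnit Z ≫ η[G]) (𝟙 Z)) ≫ j ≫ πY := by
          simp only [Category.assoc]
      _ = lift 1 (lift h z ≫ aZ.act) ≫ j ≫ πY := by rw [comp_unitSection]
      _ = (lift (h ≫ i) z ≫ j) ≫ πY := by rw [← Category.assoc, h1]
      _ = lift 1 z ≫ j ≫ πY := by rw [Category.assoc, key0]
      _ = (z ≫ lift (toUnit Z ≫ η[G]) (𝟙 Z)) ≫ j ≫ πY := by rw [comp_unitSection]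
      _ = lift h z ≫ snd H Z ≫ lift (toUnit Z ≫ η[G]) (𝟙 Z) ≫ j ≫ πY := by
          rw [lift_snd_assoc, Category.assoc]
  obtain ⟨φ, hφ, -⟩ := hP.2 Q _ hψ₀
  -- the map `Y ⟶ P`
  have hinv2 : GIT.IsInvariant (ChGrp.twist i aZ) (snd G Z ≫ πZ) := by
    unfold GIT.IsInvariant
    apply AlgGrp.Action.hom_ext_lift₂
    intro T h p
    rw [← lift_fst_snd_comp p, ChGrp.lift_twist_act_assoc, lift_snd_assoc, lift_snd_assoc,
      lift_snd_assoc, Category.assoc, hPinv, lift_snd_assoc]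
  obtain ⟨ψ, hψ, -⟩ := hcat.2 P _ hinv2
  have hψinv : GIT.IsInvariant aY ψ := by
    unfold GIT.IsInvariant
    rw [← cancel_epi (G ◁ j)]
    apply AlgGrp.Action.hom_ext_lift₂
    intro T g' p
    rw [← lift_fst_snd_comp p, lift_whiskerLeft_assoc, lift_whiskerLeft_assoc, lift_snd_assoc,
      ← Category.assoc, ← lift_mul_comp_j hY, Category.assoc, Category.assoc, hψ, lift_snd_assoc,
      lift_snd_assoc]
  obtain ⟨χ, hχ, -⟩ := hQ.2 P ψ hψinv
  refine ⟨φ, χ, ?_, ?_, hφ, ?_⟩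
  · obtain ⟨_, -, hu⟩ := hP.2 P πZ hP.1
    have h1 : πZ ≫ φ ≫ χ = πZ := by
      rw [← Category.assoc, hφ, Category.assoc, Category.assoc, hχ, hψ, lift_snd_assoc,
        Category.id_comp]
    exact (hu _ h1).trans (hu _ (Category.comp_id _)).symm
  · obtain ⟨_, -, hu⟩ := hQ.2 Q πY hQ.1
    have h1 : πY ≫ χ ≫ φ = πY := by
      rw [← Category.assoc, hχ, ← cancel_epi j, ← Category.assoc, hψ, Category.assoc, hφ]
      apply AlgGrp.Action.hom_ext_lift₂
      intro T g z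
      rw [lift_snd_assoc, ← Category.assoc, comp_unitSection]
      exact (key0 g z).symm
    exact (hu _ h1).trans (hu _ (Category.comp_id _)).symm
  · rw [hχ, hψ]

end BalProd

end Groth.Agent.Lib.Seat51.BalProd
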