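import Mathlib
import Groth.Prelude.Def_ChGrp
import Groth.Agent.Lib.Seat51BalProd

/-!
# Closed invariant subschemes of a balanced product are balanced products
-/

set_option autoImplicit false
universe u

open CategoryTheory Limits MonoidalCategory CartesianMonoidalCategory MonObj AlgebraicGeometry Opposite

namespace Groth.Agent.Lib.Seat51.BalProdSub

open Groth.Agent.Lib.Seat51.BalProd

variable {S : Scheme.{u}} {K : Precoverage Scheme.{u}} {G H Z Y Y' : Over S} [GrpObj G] [GrpObj H]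
  {i : H ⟶ G} [IsMonHom i] {aZ : AlgGrp.Action H Z} {aY : AlgGrp.Action G Y} {j : G ⊗ Z ⟶ Y}
  (hY : ChGrp.IsBalProd K i aZ aY j) (c : Y' ⟶ Y) (aY' : AlgGrp.Action G Y')
  (hc : AlgGrp.Action.IsEquivariant aY' aY c)

/-- the map `z ↦ j(e, z)` -/
noncomputable def jE (j : G ⊗ Z ⟶ Y) : Z ⟶ Y := lift (toUnit Z ≫ η[G]) (𝟙 Z) ≫ j

lemma comp_jE {T : Over S} (z : T ⟶ Z) : z ≫ jE j = lift 1 z ≫ j := by
  rw [jE, ← Category.assoc, comp_unitSection]

include hc in
lemma act_comp_c {T : Over S} (g : T ⟶ G) (y' : T ⟶ Y') :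
    lift g y' ≫ aY'.act ≫ c = lift g (y' ≫ c) ≫ aY.act := by
  have h : aY'.act ≫ c = (G ◁ c) ≫ aY.act := hc
  rw [h, lift_whiskerLeft_assoc]

include hY in
lemma lift_comp_j {T : Over S} (g : T ⟶ G) (z : T ⟶ Z) :
    lift g z ≫ j = lift g (z ≫ jE j) ≫ aY.act := by
  have h1 := lift_mul_comp_j hY g 1 z
  rw [_root_.mul_one] at h1
  rw [h1, comp_jE]

include hY in
lemma act_comp_jE {T : Over S} (h : T ⟶ H) (z : T ⟶ Z) :
    (lift h z ≫ aZ.act) ≫ jE j = lift (h ≫ i) (z ≫ jE j) ≫ aY.act := by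
  have h1 := twist_inv_point hY h (h ≫ i) z
  rw [mul_inv_cancel] at h1
  rw [comp_jE, h1, lift_comp_j hY]

/-- the closed subscheme `Z'` of `Z` -/
noncomputable abbrev Z' (j : G ⊗ Z ⟶ Y) (c : Y' ⟶ Y) : Over S := pullback (jE j) c

/-- `Z' ⟶ Z` -/
noncomputable abbrev c' (j : G ⊗ Z ⟶ Y) (c : Y' ⟶ Y) : Z' j c ⟶ Z := pullback.fst (jE j) c

/-- `Z' ⟶ Y'` -/
noncomputable abbrev d (j : G ⊗ Z ⟶ Y) (c : Y' ⟶ Y) : Z' j c ⟶ Y' := pullback.snd (jE j) c

lemma c'_jE : c' j c ≫ jE j = d j c ≫ c := pullback.condition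

include hY hc in
lemma act'_aux : ((H ◁ c' j c) ≫ aZ.act) ≫ jE j =
    ((H ◁ d j c) ≫ (i ▷ Y') ≫ aY'.act) ≫ c := by
  apply AlgGrp.Action.hom_ext_lift₂
  intro T h z
  rw [Category.assoc, lift_whiskerLeft_assoc, ← Category.assoc, act_comp_jE hY,
    Category.assoc, Category.assoc, lift_whiskerLeft_assoc, Category.assoc,
    lift_whiskerRight_assoc, act_comp_c c aY' hc, Category.assoc, c'_jE]

variable [Mono c]

/-- the induced action of `H` on `Z'` -/
noncomputable def aZ' : AlgGrp.Action H (Z' j c) where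
  act := pullback.lift ((H ◁ c' j c) ≫ aZ.act) ((H ◁ d j c) ≫ (i ▷ Y') ≫ aY'.act)
    (act'_aux hY c aY' hc)
  one_act := by
    rw [← cancel_mono (c' j c), Category.assoc, pullback.lift_fst, ← Category.assoc,
      ← whisker_exchange, Category.assoc, aZ.one_act, leftUnitor_naturality]
  mul_act := by
    rw [← cancel_mono (c' j c)]
    simp only [Category.assoc]
    rw [pullback.lift_fst, ← Category.assoc, ← whisker_exchange, Category.assoc, aZ.mul_act,
      ← Category.assoc (H ◁ _), ← MonoidalCategory.whiskerLeft_comp, pullback.lift_fst,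
      MonoidalCategory.whiskerLeft_comp, Category.assoc, ← Category.assoc,
      associator_naturality_right, Category.assoc]

lemma aZ'_equivariant :
    AlgGrp.Action.IsEquivariant (aZ' hY c aY' hc) aZ (c' j c) :=
  pullback.lift_fst _ _ _

lemma aZ'_act_d : (aZ' hY c aY' hc).act ≫ d j c = (H ◁ d j c) ≫ (i ▷ Y') ≫ aY'.act :=
  pullback.lift_snd _ _ _

/-- the torsor map `G × Z' ⟶ Y'` -/
noncomputable def j' (j : G ⊗ Z ⟶ Y) (c : Y' ⟶ Y) (aY' : AlgGrp.Action G Y') :
    G ⊗ Z' j c ⟶ Y' := (G ◁ d j c) ≫ aY'.act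

omit [Mono c] in
lemma lift_comp_j' {T : Over S} (g : T ⟶ G) (z : T ⟶ Z' j c) :
    lift g z ≫ j' j c aY' = lift g (z ≫ d j c) ≫ aY'.act := by
  rw [j', lift_whiskerLeft_assoc]

omit [Mono c] in
include hY hc in
lemma j'_comp_c : j' j c aY' ≫ c = (G ◁ c' j c) ≫ j := by
  apply AlgGrp.Action.hom_ext_lift₂
  intro T g z
  rw [← Category.assoc, lift_comp_j', Category.assoc, act_comp_c c aY' hc, lift_whiskerLeft_assoc,
    lift_comp_j hY, Category.assoc, Category.assoc, c'_jE]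

omit [Mono c] in
lemma j'_equivariant :
    AlgGrp.Action.IsEquivariant
      ((NonAbH1.trivialAction G).prod (AlgGrp.Action.trivial G (Z' j c))) aY' (j' j c aY') := by
  unfold AlgGrp.Action.IsEquivariant
  apply AlgGrp.Action.hom_ext_lift₂
  intro T g' p
  have e : ∀ g : T ⟶ G, lift g' g ≫ (NonAbH1.trivialAction G).act = g' * g := by
    intro g
    change lift g' g ≫ μ[G] = g' * g
    rw [Hom.mul_def]
  rw [← lift_fst_snd_comp p, AlgGrp.Action.lift_prod_act_assoc, AlgGrp.Action.lift_trivial_act, e,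
    lift_comp_j', lift_whiskerLeft_assoc, lift_comp_j', AlgGrp.Action.lift_mul_act]

lemma mono_whiskerLeft {A B : Over S} (f : A ⟶ B) [Mono f] (W : Over S) : Mono (W ◁ f) := by
  constructor
  intro T p q hpq
  apply CartesianMonoidalCategory.hom_ext
  · have := hpq =≫ fst W B
    simpa using this
  · have := hpq =≫ snd W B
    rw [Category.assoc, Category.assoc, whiskerLeft_snd, ← Category.assoc, ← Category.assoc,
      cancel_mono] at this
    exact this

lemma twist_equivariant :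
    (ChGrp.twist i (aZ' hY c aY' hc)).act ≫ (G ◁ c' j c) =
      (H ◁ (G ◁ c' j c)) ≫ (ChGrp.twist i aZ).act := by
  apply AlgGrp.Action.hom_ext_lift₂
  intro T h p
  have he : (aZ' hY c aY' hc).act ≫ c' j c = (H ◁ c' j c) ≫ aZ.act := aZ'_equivariant hY c aY' hc
  rw [← lift_fst_snd_comp p, ChGrp.lift_twist_act_assoc, lift_whiskerLeft, Category.assoc, he,
    lift_whiskerLeft_assoc, lift_whiskerLeft_assoc, lift_whiskerLeft, ChGrp.lift_twist_act]

lemma isPullback_of_exists_unique' {C : Type*} [Category C] {P A B D : C} {p₁ : P ⟶ A}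
    {p₂ : P ⟶ B} {f : A ⟶ D} {g : B ⟶ D} (w : p₁ ≫ f = p₂ ≫ g)
    (hex : ∀ {W : C} (a : W ⟶ A) (b : W ⟶ B), a ≫ f = b ≫ g → ∃ l : W ⟶ P, l ≫ p₁ = a ∧ l ≫ p₂ = b)
    (huniq : ∀ {W : C} (l l' : W ⟶ P), l ≫ p₁ = l' ≫ p₁ → l ≫ p₂ = l' ≫ p₂ → l = l') :
    IsPullback p₁ p₂ f g :=
  IsPullback.of_isLimit' ⟨w⟩ (PullbackCone.IsLimit.mk _
    (fun s => (hex s.fst s.snd s.condition).choose)
    (fun s => (hex s.fst s.snd s.condition).choose_spec.1)
    (fun s => (hex s.fst s.snd s.condition).choose_spec.2)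
    (fun s m h₁ h₂ => huniq _ _
      (h₁.trans (hex s.fst s.snd s.condition).choose_spec.1.symm)
      (h₂.trans (hex s.fst s.snd s.condition).choose_spec.2.symm)))

include hY hc in
lemma isPullback_j' :
    IsPullback (ChGrp.twist i (aZ' hY c aY' hc)).act (snd H (G ⊗ Z' j c)) (j' j c aY')
      (j' j c aY') := by
  have hm : Mono (G ◁ c' j c) := mono_whiskerLeft _ _
  have hm2 : Mono (H ◁ (G ◁ c' j c)) := mono_whiskerLeft _ _
  have hP := hY.2.1
  have hw : (ChGrp.twist i (aZ' hY c aY' hc)).act ≫ j' j c aY' =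
      snd H (G ⊗ Z' j c) ≫ j' j c aY' := by
    rw [← cancel_mono c, Category.assoc, Category.assoc, j'_comp_c hY c aY' hc,
      ← Category.assoc, twist_equivariant, Category.assoc, hP.w, ← Category.assoc,
      whiskerLeft_snd, Category.assoc]
  refine isPullback_of_exists_unique' hw ?_ ?_
  · intro W p₁ p₂ h12
    have h12' : (p₁ ≫ (G ◁ c' j c)) ≫ j = (p₂ ≫ (G ◁ c' j c)) ≫ j := by
      rw [Category.assoc, Category.assoc, ← j'_comp_c hY c aY' hc, ← Category.assoc,
        ← Category.assoc, h12]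
    obtain ⟨r₀, h1, h2⟩ : ∃ r₀ : W ⟶ H ⊗ (G ⊗ Z),
        r₀ ≫ (ChGrp.twist i aZ).act = p₁ ≫ (G ◁ c' j c) ∧
          r₀ ≫ snd H (G ⊗ Z) = p₂ ≫ (G ◁ c' j c) :=
      ⟨hP.lift _ _ h12', hP.lift_fst _ _ h12', hP.lift_snd _ _ h12'⟩
    refine ⟨lift (r₀ ≫ fst H (G ⊗ Z)) p₂, ?_, lift_snd _ _⟩
    have e : lift (r₀ ≫ fst H (G ⊗ Z)) (p₂ ≫ (G ◁ c' j c)) = r₀ := by
      apply CartesianMonoidalCategory.hom_ext
      · rw [lift_fst]
      · rw [lift_snd, h2]
    rw [← cancel_mono (G ◁ c' j c), Category.assoc, twist_equivariant, lift_whiskerLeft_assoc,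
      e, h1]
  · intro W l l' e1 e2
    rw [← cancel_mono (H ◁ (G ◁ c' j c))]
    apply hP.hom_ext
    · rw [Category.assoc, Category.assoc, ← twist_equivariant hY c aY' hc, ← Category.assoc,
        ← Category.assoc, e1]
    · rw [Category.assoc, Category.assoc, whiskerLeft_snd, ← Category.assoc, ← Category.assoc, e2]

omit [Mono c] in
include hY hc in
lemma isLocallyTrivialFor_j' [K.IsStableUnderBaseChange] :
    NonAbH1.IsLocallyTrivialFor K (Over.mk (j' j c aY').left : Over Y'.left) := by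
  obtain ⟨R, hR, hs⟩ := hY.2.2
  obtain ⟨I, V, f, rfl⟩ := Presieve.exists_eq_ofArrows R
  refine ⟨Presieve.ofArrows (fun k => pullback c.left (f k))
    (fun k => pullback.fst c.left (f k)), ?_, ?_⟩
  · exact Precoverage.IsStableUnderBaseChange.mem_coverings_of_isPullback f hR c.left _ _
      (fun k => IsPullback.of_hasPullback _ _)
  · rintro V' r' ⟨k⟩
    obtain ⟨s, hs'⟩ := hs (f k) ⟨k⟩
    change s ≫ j.left = f k at hs'
    let T : Over S := Over.mk (pullback.fst c.left (f k) ≫ Y'.hom)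
    let y' : T ⟶ Y' := Over.homMk (pullback.fst c.left (f k)) rfl
    have htw : (pullback.snd c.left (f k) ≫ s) ≫ (G ⊗ Z).hom = T.hom := by
      change _ = pullback.fst c.left (f k) ≫ Y'.hom
      rw [← Over.w j, Category.assoc, ← Category.assoc s, hs', ← Category.assoc,
        ← pullback.condition, Category.assoc, Over.w c]
    let t : T ⟶ G ⊗ Z := Over.homMk (pullback.snd c.left (f k) ≫ s) htw
    have ht : t ≫ j = y' ≫ c := by
      apply Over.OverMorphism.ext
      change (pullback.snd c.left (f k) ≫ s) ≫ j.left = pullback.fst c.left (f k) ≫ c.left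
      rw [Category.assoc, hs', pullback.condition]
    have hz : (t ≫ snd G Z) ≫ jE j = (lift (t ≫ fst G Z)⁻¹ y' ≫ aY'.act) ≫ c := by
      have e1 : (lift (t ≫ fst G Z)⁻¹ y' ≫ aY'.act) ≫ c =
          lift (t ≫ fst G Z)⁻¹ (y' ≫ c) ≫ aY.act := by
        rw [Category.assoc, act_comp_c c aY' hc]
      have e2 : t ≫ j = lift (t ≫ fst G Z) ((t ≫ snd G Z) ≫ jE j) ≫ aY.act := by
        conv_lhs => rw [← lift_fst_snd_comp t]
        exact lift_comp_j hY _ _
      rw [e1, ← ht, e2, ← AlgGrp.Action.lift_mul_act, inv_mul_cancel,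
        AlgGrp.Action.lift_one_act]
    refine ⟨(lift (t ≫ fst G Z) (pullback.lift (t ≫ snd G Z)
      (lift (t ≫ fst G Z)⁻¹ y' ≫ aY'.act) hz : T ⟶ Z' j c)).left, ?_⟩
    change (lift (t ≫ fst G Z) (pullback.lift (t ≫ snd G Z)
      (lift (t ≫ fst G Z)⁻¹ y' ≫ aY'.act) hz : T ⟶ Z' j c)).left ≫ (j' j c aY').left =
      pullback.fst c.left (f k)
    rw [← Over.comp_left, lift_comp_j', pullback.lift_snd, ← AlgGrp.Action.lift_mul_act,
      mul_inv_cancel, AlgGrp.Action.lift_one_act]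
    rfl

include hY hc in
/-- a closed invariant subscheme of a balanced product is a balanced product -/
theorem isBalProd_sub [K.IsStableUnderBaseChange] :
    ChGrp.IsBalProd K i (aZ' hY c aY' hc) aY' (j' j c aY') :=
  ⟨j'_equivariant c aY', isPullback_j' hY c aY' hc, isLocallyTrivialFor_j' hY c aY' hc⟩

end Groth.Agent.Lib.Seat51.BalProdSub
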