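import Groth.Agent.Lib.Seat58DescEff
import Groth.Agent.Lib.Seat58DescOne
import Groth.Agent.Lib.Helper12DescFF

/-!
# Descent data relative to morphisms with (local) sections (seat 51)

* `exists_iso_of_section`: every descent datum relative to a morphism admitting a section is effective.
* `exists_iso_of_zariski_sections`: every descent datum relative to an fpqc morphism admitting sections Zariski
  locally on the base is effective.
-/

set_option autoImplicit false
set_option backward.isDefEq.respectTransparency false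
set_option backward.isDefEq.respectTransparency.types false
universe u
open CategoryTheory CategoryTheory.Limits AlgebraicGeometry Desc

namespace Groth.Agent.Lib.Seat51.DescSection

open Groth.Agent.Lib.Helper12.DescFF Groth.Agent.Lib.Seat58

/-- every descent datum relative to a morphism admitting a section is effective -/
theorem exists_iso_of_section {X₁ S₂ : Scheme.{u}} (q : X₁ ⟶ S₂) (σ : S₂ ⟶ X₁) (hσ : σ ≫ q = 𝟙 S₂)
    (D₀ : SchDD q) : ∃ U : Over S₂, Nonempty ((toDD q).obj U ≅ D₀) := by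
  have w : ∀ _ : PUnit.{u + 1}, σ ≫ q = 𝟙 S₂ ≫ 𝟙 S₂ := fun _ => by rw [hσ, Category.id_comp]
  have hc : ∀ j : PUnit.{u + 1}, facSieve (fun _ : PUnit.{u + 1} => 𝟙 S₂)
      (fun _ : PUnit.{u + 1} => q) j ∈ Scheme.fpqcTopology X₁ := by
    intro j
    have : facSieve (fun _ : PUnit.{u + 1} => 𝟙 S₂) (fun _ : PUnit.{u + 1} => q) j = ⊤ := by
      ext T t
      simp only [Sieve.top_apply, iff_true]
      exact ⟨PUnit.unit, t ≫ q, by rw [Category.comp_id]⟩
    rw [this]
    exact Scheme.fpqcTopology.top_mem _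
  have hfull : (pullDDFam (f := fun _ : PUnit.{u + 1} => q) (f' := fun _ : PUnit.{u + 1} => 𝟙 S₂)
      (α := fun _ => PUnit.unit) (p' := fun _ => σ) w).Full := full_of_cov _ hc
  have hfaith : (pullDDFam (f := fun _ : PUnit.{u + 1} => q) (f' := fun _ : PUnit.{u + 1} => 𝟙 S₂)
      (α := fun _ => PUnit.unit) (p' := fun _ => σ) w).Faithful :=
    faithful_of_sep _ (sep_of_cov hc)
  have hE : ((SchDDFam.ofSchDD q).obj D₀).IsEffective :=
    DescEff.isEffective_of_pull (f := fun _ : PUnit.{u + 1} => q) (f' := fun _ : PUnit.{u + 1} => 𝟙 S₂)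
      (α := fun _ => PUnit.unit) (p' := fun _ => σ) w _ (DescEff.isEffective_of_id _)
  obtain ⟨Z, ⟨e⟩⟩ := hE
  exact ⟨Z, ⟨(SchDDFam.toSchDD q).mapIso e⟩⟩

lemma exists_iso_of_eq_section {X₁ S₂ : Scheme.{u}} (q q' : X₁ ⟶ S₂) (hq : q = q') (σ : S₂ ⟶ X₁)
    (hσ : σ ≫ q' = 𝟙 S₂) (D₀ : SchDD q) : ∃ U : Over S₂, Nonempty ((toDD q).obj U ≅ D₀) := by
  subst hq
  exact exists_iso_of_section q σ hσ D₀

instance unique_idx {S : Scheme.{u}} (a : S) :
    Unique (DescTwoStep.Idx (Prod.fst : S × PUnit.{u + 1} → S) a) where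
  default := ⟨(a, PUnit.unit), rfl⟩
  uniq := by
    rintro ⟨⟨a', ⟨⟩⟩, h⟩
    obtain rfl : a' = a := h
    rfl

/-- every descent datum relative to an fpqc morphism admitting sections Zariski locally on the base is
effective -/
theorem exists_iso_of_zariski_sections {S' S : Scheme.{u}} (g : S' ⟶ S) [Flat g] [Surjective g]
    [QuasiCompact g]
    (hsec : ∀ a : S, ∃ (W : S.Opens) (s : (W : Scheme.{u}) ⟶ S'), a ∈ W ∧ s ≫ g = W.ι)
    (D : SchDD g) : ∃ U : Over S, Nonempty ((toDD g).obj U ≅ D) := by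
  choose S₁ σ ha hσ using hsec
  let s : ∀ a : S, (S₁ a).toScheme ⟶ S := fun a => (S₁ a).ι
  have hs : Presieve.ofArrows (fun a : S => (S₁ a).toScheme) s ∈ Scheme.zariskiPrecoverage S := by
    rw [Scheme.ofArrows_mem_precoverage_iff]
    refine ⟨fun x => ⟨x, ?_⟩, fun a => inferInstance⟩
    rw [Scheme.Opens.range_ι]
    exact ha x
  have hu : Presieve.ofArrows (fun _ : PUnit.{u + 1} => S') (fun _ => g) ∈
      Scheme.fpqcPrecoverage S := by
    rw [Presieve.ofArrows_pUnit]
    exact g.singleton_mem_fpqcPrecoverage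
  have hE : ((SchDDFam.ofSchDD g).obj D).IsEffective := by
    refine DescEff.isEffective_of_zariski_local (fun _ : PUnit.{u + 1} => g) s hu hs _ (fun a => ?_)
    apply DescOne.isEffective_of_single
    exact exists_iso_of_eq_section _ (pullback.snd g (s a))
      (DescTwoStep.g'_self _ _ ((a, PUnit.unit) : S × PUnit.{u + 1}))
      (pullback.lift (σ a) (𝟙 _) (by rw [hσ a, Category.id_comp]))
      (pullback.lift_snd _ _ _) _
  obtain ⟨Z, ⟨e⟩⟩ := hE
  exact ⟨Z, ⟨(SchDDFam.toSchDD g).mapIso e⟩⟩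

end Groth.Agent.Lib.Seat51.DescSection
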