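import Mathlib

/-!
# Seat51FibreIso: morphisms all of whose fibres are trivial (helper51)

* `isIso_fiber_of_isPullback`: "every fibre `f⁻¹(x) ⟶ Spec κ(x)` is an isomorphism" is stable under
  base change.
* `isIso_of_section`: a separated injective morphism from a reduced scheme which has a section is an
  isomorphism.
* `universallyInjective_of_isIso_fiber`: trivial fibres imply universally injective.
* `surjective_of_fiber_surjective` (Nakayama), `isClosedImmersion_of_isFinite_of_isIso_fiber`:
  a finite morphism with trivial fibres is a closed immersion.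
-/

set_option autoImplicit false
set_option linter.style.haveILetI false
universe u
open CategoryTheory AlgebraicGeometry Limits TensorProduct

namespace Groth.Agent.Lib.Seat51.FibreIso


/-- triviality of all fibres is stable under base change -/
lemma isIso_fiber_of_isPullback {P X Y Z : Scheme.{u}} {fst : P ⟶ X} {snd : P ⟶ Y} {f : X ⟶ Z}
    {g : Y ⟶ Z} (h : IsPullback fst snd f g)
    (hf : ∀ z, IsIso (f.fiberToSpecResidueField z)) (y : Y) :
    IsIso (snd.fiberToSpecResidueField y) := by
  have h1 := isPullback_fiberToSpecResidueField_of_isPullback h y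
  exact h1.isIso_snd_of_isIso (hf (g y))

/-- a reduced scheme over a field with a rational point, separated and injective over the field,
is the spectrum of the field -/
lemma isIso_of_section {B Y : Scheme.{u}} (f : Y ⟶ B) (e : B ⟶ Y)
    (he : e ≫ f = 𝟙 _) [IsSeparated f] [IsReduced Y] (hinj : Function.Injective f) : IsIso f := by
  haveI : IsClosedImmersion (e ≫ f) := by rw [he]; infer_instance
  haveI : IsClosedImmersion e := IsClosedImmersion.of_comp e f
  haveI : Surjective e := by
    constructor
    intro y
    refine ⟨f y, hinj ?_⟩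
    rw [← Scheme.Hom.comp_apply, he]
    rfl
  haveI : IsIso e := isIso_of_isClosedImmersion_of_surjective e
  have h2 : f = inv e := by
    rw [← cancel_epi e, he, IsIso.hom_inv_id]
  rw [h2]
  infer_instance

/-- a morphism all of whose fibres are trivial is universally injective -/
lemma universallyInjective_of_isIso_fiber {Y X : Scheme.{u}} (f : Y ⟶ X)
    (hf : ∀ x, IsIso (f.fiberToSpecResidueField x)) : UniversallyInjective f := by
  have h01 := (tfae_universallyInjective f).out 0 1
  rw [h01]
  intro K _ g₁ g₂ hg
  have hg' : g₁ ≫ f = g₂ ≫ f := hg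
  have hφ := Scheme.descResidueField_stalkClosedPointTo_fromSpecResidueField K X (g₁ ≫ f)
  haveI := hf ((g₁ ≫ f) (IsLocalRing.closedPoint K))
  have h1 : pullback.lift g₁ _ hφ.symm ≫
        f.fiberToSpecResidueField ((g₁ ≫ f) (IsLocalRing.closedPoint K)) =
      pullback.lift g₂ _ (hg'.symm.trans hφ.symm) ≫
        f.fiberToSpecResidueField ((g₁ ≫ f) (IsLocalRing.closedPoint K)) :=
    (pullback.lift_snd _ _ _).trans (pullback.lift_snd _ _ _).symm
  have h2 := (cancel_mono (f.fiberToSpecResidueField _)).1 h1
  calc g₁ = pullback.lift g₁ _ hφ.symm ≫ pullback.fst _ _ := (pullback.lift_fst _ _ _).symm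
    _ = pullback.lift g₂ _ (hg'.symm.trans hφ.symm) ≫ pullback.fst _ _ := by rw [h2]
    _ = g₂ := pullback.lift_fst _ _ _



/-- Nakayama: a finite ring map which is surjective on all fibres is surjective -/
lemma surjective_of_fiber_surjective {R S : Type u} [CommRing R] [CommRing S] [Algebra R S]
    [Module.Finite R S]
    (h : ∀ p : PrimeSpectrum R,
      Function.Surjective (algebraMap p.asIdeal.ResidueField (p.asIdeal.Fiber S))) :
    Function.Surjective (algebraMap R S) := by
  let f : R →ₗ[R] S := Algebra.linearMap R S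
  have hM : Subsingleton (S ⧸ LinearMap.range f) := by
    rw [← Module.support_eq_empty_iff (R := R), Set.eq_empty_iff_forall_notMem]
    intro p hp
    rw [Module.mem_support_iff_nontrivial_residueField_tensorProduct] at hp
    have : Subsingleton (p.asIdeal.ResidueField ⊗[R] (S ⧸ LinearMap.range f)) := by
      refine subsingleton_of_forall_eq 0 fun z => ?_
      obtain ⟨w, rfl⟩ := LinearMap.lTensor_surjective p.asIdeal.ResidueField
        (Submodule.mkQ_surjective (LinearMap.range f)) z
      obtain ⟨a, rfl⟩ := h p w
      rw [Algebra.TensorProduct.algebraMap_apply, LinearMap.lTensor_tmul]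
      have h1 : (LinearMap.range f).mkQ (1 : S) = 0 := by
        rw [Submodule.mkQ_apply, Submodule.Quotient.mk_eq_zero]
        exact ⟨1, by simp [f]⟩
      rw [h1, tmul_zero]
    exact not_subsingleton _ this
  intro s
  have h2 : (LinearMap.range f).mkQ s = 0 := Subsingleton.elim _ _
  rw [Submodule.mkQ_apply, Submodule.Quotient.mk_eq_zero] at h2
  obtain ⟨r, hr⟩ := h2
  exact ⟨r, hr⟩


lemma isClosedImmersion_SpecMap_of_isIso_fiber {R S : CommRingCat.{u}} (φ : R ⟶ S)
    [IsFinite (Spec.map φ)]
    (hf : ∀ x, IsIso ((Spec.map φ).fiberToSpecResidueField x)) :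
    IsClosedImmersion (Spec.map φ) := by
  apply IsClosedImmersion.spec_of_surjective
  have hfin : φ.hom.Finite := (IsFinite.SpecMap_iff φ).1 inferInstance
  algebraize [φ.hom]
  have hs := surjective_of_fiber_surjective (R := R) (S := S) ?_
  · exact hs
  intro p
  have e := Spec.fiberToSpecResidueFieldIso R S p
  have h0 : CommRingCat.ofHom (algebraMap R S) = φ := rfl
  rw [h0] at e
  have h1 := (MorphismProperty.arrow_mk_iso_iff (MorphismProperty.isomorphisms Scheme) e).1 (hf p)
  have h2 : IsIso (Spec.map (CommRingCat.ofHom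
      (algebraMap p.asIdeal.ResidueField (p.asIdeal.Fiber S)))) := h1
  exact (isIso_SpecMap_iff.1 h2).2

lemma isClosedImmersion_of_isFinite_of_isIso_fiber_aux {Y : Scheme.{u}} {R : CommRingCat.{u}}
    (f : Y ⟶ Spec R) [IsFinite f]
    (hf : ∀ x, IsIso (f.fiberToSpecResidueField x)) : IsClosedImmersion f := by
  haveI : IsAffine Y := isAffine_of_isAffineHom f
  rw [← MorphismProperty.cancel_left_of_respectsIso @IsClosedImmersion Y.isoSpec.inv f]
  have hpb : IsPullback Y.isoSpec.inv (Y.isoSpec.inv ≫ f) f (𝟙 _) :=
    IsPullback.of_horiz_isIso ⟨by simp⟩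
  have hf' := isIso_fiber_of_isPullback hpb hf
  haveI : IsFinite (Y.isoSpec.inv ≫ f) := inferInstance
  generalize Y.isoSpec.inv ≫ f = f' at hf' this ⊢
  obtain ⟨φ, rfl⟩ := Spec.homEquiv.symm.surjective f'
  haveI : IsFinite (Spec.map φ) := this
  exact isClosedImmersion_SpecMap_of_isIso_fiber φ hf'

lemma isClosedImmersion_of_isFinite_of_isIso_fiber {Y X : Scheme.{u}} (f : Y ⟶ X) [IsFinite f]
    (hf : ∀ x, IsIso (f.fiberToSpecResidueField x)) : IsClosedImmersion f := by
  rw [IsZariskiLocalAtTarget.iff_of_openCover (P := @IsClosedImmersion) X.affineCover]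
  intro i
  have hf' := isIso_fiber_of_isPullback (IsPullback.of_hasPullback f (X.affineCover.f i)) hf
  haveI : IsFinite (Scheme.Cover.pullbackHom X.affineCover f i) :=
    inferInstanceAs (IsFinite (pullback.snd f (X.affineCover.f i)))
  exact @isClosedImmersion_of_isFinite_of_isIso_fiber_aux _ _ _ this hf'

end Groth.Agent.Lib.Seat51.FibreIso
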