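import Mathlib
import Groth.Prelude.Def_DRing3
import Groth.Agent.Lib.Helper1ExtCech3
import Groth.Agent.S11313

/-!
# `I~` is flasque for an injective module over a Noetherian ring (seat 51): algebraic gluing
-/

set_option autoImplicit false
universe u

namespace Groth.Agent.Lib.Seat51.Flasque

variable {A : Type u} [CommRing A] [IsNoetherianRing A]

/-- elementwise form of: `I → I_f` is surjective for an injective module `I` -/
lemma exists_lift (I : Type u) [AddCommGroup I] [Module A I] [Module.Injective A I] (f : A)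
    (x : I) (k : ℕ) : ∃ t : I, ∃ m : ℕ, f ^ m • (f ^ k • t - x) = 0 := by
  obtain ⟨t, ht⟩ := Groth.Agent.S11313.result A I f
    (LocalizedModule.mk x ⟨f ^ k, k, rfl⟩)
  rw [LocalizedModule.mkLinearMap_apply, LocalizedModule.mk_eq] at ht
  obtain ⟨⟨_, m, rfl⟩, hu⟩ := ht
  refine ⟨t, m, ?_⟩
  simp only [Submonoid.smul_def, one_smul] at hu
  rw [smul_sub, hu, sub_self]

omit [IsNoetherianRing A] in
lemma mem_torsionSub_of_pow_smul (I : Type u) [AddCommGroup I] [Module A I] (f : A) (z : I)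
    (M : ℕ) (h : f ^ M • z = 0) : z ∈ DRing.torsionSub (Ideal.span {f}) I := by
  refine ⟨M, fun a ha => ?_⟩
  rw [Ideal.span_singleton_pow, Ideal.mem_span_singleton'] at ha
  obtain ⟨c, rfl⟩ := ha
  rw [mul_smul, h, smul_zero]

omit [IsNoetherianRing A] in
lemma exists_pow_smul_of_mem_torsionSub (I : Type u) [AddCommGroup I] [Module A I] (f : A) (z : I)
    (h : z ∈ DRing.torsionSub (Ideal.span {f}) I) : ∃ M : ℕ, f ^ M • z = 0 := by
  obtain ⟨n, hn⟩ := h
  exact ⟨n, hn _ (Ideal.pow_mem_pow (Ideal.mem_span_singleton_self f) n)⟩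

/-- gluing compatible local sections of `I~` over a finite union of basic opens, in elementwise
form: `x i / f i ^ k i` are compatible on overlaps, then they come from a global `t` -/
theorem exists_glue : ∀ (n : ℕ) (I : Type u) [AddCommGroup I] [Module A I] [Module.Injective A I]
    (f : Fin n → A) (x : Fin n → I) (k : Fin n → ℕ),
    (∀ i j, ∃ N : ℕ, (f i * f j) ^ N • ((f j) ^ (k j) • x i - (f i) ^ (k i) • x j) = 0) →
    ∃ t : I, ∀ i, ∃ m : ℕ, (f i) ^ m • ((f i) ^ (k i) • t - x i) = 0 := by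
  intro n
  induction n with
  | zero =>
    intro I _ _ _ f x k _
    exact ⟨0, fun i => i.elim0⟩
  | succ n ih =>
    intro I _ _ _ f x k hc
    -- lift the first section
    obtain ⟨t₀, m₀, hm₀⟩ := exists_lift I (f 0) (x 0) (k 0)
    -- the corrected sections
    have hN : ∀ i : Fin n, ∃ N : ℕ, (f i.succ * f 0) ^ N •
        ((f 0) ^ (k 0) • x i.succ - (f i.succ) ^ (k i.succ) • x 0) = 0 := fun i => hc i.succ 0
    choose N hN using hN
    have hz : ∀ i : Fin n, (f 0) ^ (N i + m₀ + k 0) •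
        ((f i.succ) ^ (N i) • (x i.succ - (f i.succ) ^ (k i.succ) • t₀)) = 0 := by
      intro i
      have h1 : (f 0) ^ (N i + m₀ + k 0) •
          ((f i.succ) ^ (N i) • (x i.succ - (f i.succ) ^ (k i.succ) • t₀)) =
          (f 0) ^ m₀ • ((f i.succ * f 0) ^ (N i) •
            ((f 0) ^ (k 0) • x i.succ - (f i.succ) ^ (k i.succ) • x 0)) -
          ((f i.succ * f 0) ^ (N i) * (f i.succ) ^ (k i.succ)) •
            ((f 0) ^ m₀ • ((f 0) ^ (k 0) • t₀ - x 0)) := by
        simp only [smul_sub, smul_smul, mul_pow, pow_add]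
        have e1 : f 0 ^ N i * f 0 ^ m₀ * f 0 ^ k 0 * f i.succ ^ N i =
            f 0 ^ m₀ * (f i.succ ^ N i * f 0 ^ N i * f 0 ^ k 0) := by ring
        have e2 : f 0 ^ N i * f 0 ^ m₀ * f 0 ^ k 0 * (f i.succ ^ N i * f i.succ ^ k i.succ) =
            f i.succ ^ N i * f 0 ^ N i * f i.succ ^ k i.succ * (f 0 ^ m₀ * f 0 ^ k 0) := by ring
        have e3 : f 0 ^ m₀ * (f i.succ ^ N i * f 0 ^ N i * f i.succ ^ k i.succ) =
            f i.succ ^ N i * f 0 ^ N i * f i.succ ^ k i.succ * f 0 ^ m₀ := by ring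
        rw [e1, e2, e3]
        abel
      rw [h1, hN i, hm₀, smul_zero, smul_zero, sub_zero]
    -- the new family in `J = Γ_{f 0}(I)`
    have : Module.Injective A (DRing.torsionSub (Ideal.span {f 0}) I) :=
      Groth.Agent.Lib.Helper1.ExtCech.injective_torsionSub (Ideal.span {f 0}) I
    let x' : Fin n → DRing.torsionSub (Ideal.span {f 0}) I := fun i =>
      ⟨(f i.succ) ^ (N i) • (x i.succ - (f i.succ) ^ (k i.succ) • t₀),
        mem_torsionSub_of_pow_smul I (f 0) _ _ (hz i)⟩
    have hc' : ∀ i j : Fin n, ∃ N' : ℕ, (f i.succ * f j.succ) ^ N' •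
        ((f j.succ) ^ (k j.succ + N j) • x' i - (f i.succ) ^ (k i.succ + N i) • x' j) = 0 := by
      intro i j
      obtain ⟨N', hN'⟩ := hc i.succ j.succ
      refine ⟨N', ?_⟩
      apply Subtype.ext
      simp only [Submodule.coe_smul, Submodule.coe_sub, Submodule.coe_zero, x']
      have h1 : (f j.succ) ^ (k j.succ + N j) •
            ((f i.succ) ^ (N i) • (x i.succ - (f i.succ) ^ (k i.succ) • t₀)) -
          (f i.succ) ^ (k i.succ + N i) •
            ((f j.succ) ^ (N j) • (x j.succ - (f j.succ) ^ (k j.succ) • t₀)) =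
          ((f i.succ) ^ (N i) * (f j.succ) ^ (N j)) •
            ((f j.succ) ^ (k j.succ) • x i.succ - (f i.succ) ^ (k i.succ) • x j.succ) := by
        simp only [smul_sub, smul_smul, pow_add]
        have e1 : f j.succ ^ k j.succ * f j.succ ^ N j * f i.succ ^ N i =
            f i.succ ^ N i * f j.succ ^ N j * f j.succ ^ k j.succ := by ring
        have e2 : f j.succ ^ k j.succ * f j.succ ^ N j * (f i.succ ^ N i * f i.succ ^ k i.succ) =
            f i.succ ^ k i.succ * f i.succ ^ N i * (f j.succ ^ N j * f j.succ ^ k j.succ) := by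
          ring
        have e3 : f i.succ ^ k i.succ * f i.succ ^ N i * f j.succ ^ N j =
            f i.succ ^ N i * f j.succ ^ N j * f i.succ ^ k i.succ := by ring
        rw [e1, e2, e3]
        abel
      rw [h1, smul_comm, hN', smul_zero]
    obtain ⟨t', ht'⟩ := ih (DRing.torsionSub (Ideal.span {f 0}) I) (fun i => f i.succ) x'
      (fun i => k i.succ + N i) hc'
    obtain ⟨M, hM⟩ := exists_pow_smul_of_mem_torsionSub I (f 0) (t' : I) t'.2
    refine ⟨t₀ + t', ?_⟩
    intro i
    refine Fin.cases ?_ (fun i => ?_) i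
    · refine ⟨m₀ + M, ?_⟩
      have : (f 0) ^ (m₀ + M) • ((f 0) ^ (k 0) • (t₀ + (t' : I)) - x 0) =
          (f 0) ^ M • ((f 0) ^ m₀ • ((f 0) ^ (k 0) • t₀ - x 0)) +
            ((f 0) ^ m₀ * (f 0) ^ (k 0)) • ((f 0) ^ M • (t' : I)) := by
        simp only [smul_sub, smul_add, smul_smul, pow_add]
        have e1 : f 0 ^ m₀ * f 0 ^ M * f 0 ^ k 0 = f 0 ^ M * (f 0 ^ m₀ * f 0 ^ k 0) := by ring
        have e2 : f 0 ^ m₀ * f 0 ^ k 0 * f 0 ^ M = f 0 ^ M * (f 0 ^ m₀ * f 0 ^ k 0) := by ring
        have e3 : f 0 ^ m₀ * f 0 ^ M = f 0 ^ M * f 0 ^ m₀ := by ring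
        rw [e1, e2, e3]
        abel
      rw [this, hm₀, hM, smul_zero, smul_zero, add_zero]
    · obtain ⟨m, hm⟩ := ht' i
      have hm' := congrArg Subtype.val hm
      simp only [Submodule.coe_smul, Submodule.coe_sub, Submodule.coe_zero, x'] at hm'
      refine ⟨m + N i, ?_⟩
      have : (f i.succ) ^ (m + N i) • ((f i.succ) ^ (k i.succ) • (t₀ + (t' : I)) - x i.succ) =
          (f i.succ) ^ m • ((f i.succ) ^ (k i.succ + N i) • (t' : I) -
            (f i.succ) ^ (N i) • (x i.succ - (f i.succ) ^ (k i.succ) • t₀)) := by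
        simp only [smul_sub, smul_add, smul_smul, pow_add]
        have e1 : f i.succ ^ m * f i.succ ^ N i * f i.succ ^ k i.succ =
            f i.succ ^ m * (f i.succ ^ N i * f i.succ ^ k i.succ) := by ring
        have e2 : f i.succ ^ m * (f i.succ ^ k i.succ * f i.succ ^ N i) =
            f i.succ ^ m * (f i.succ ^ N i * f i.succ ^ k i.succ) := by ring
        have e3 : f i.succ ^ m * f i.succ ^ N i = f i.succ ^ m * f i.succ ^ N i := rfl
        rw [e1, e2]
        abel
      rw [this]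
      exact hm'

end Groth.Agent.Lib.Seat51.Flasque
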