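import Mathlib
import Groth.Agent.Lib.Seat51Flasque

/-!
# `I~` is flasque for an injective module over a Noetherian ring (seat 51): sheaf part
-/

set_option autoImplicit false
universe u

namespace Groth.Agent.Lib.Seat51.Flasque

open CategoryTheory AlgebraicGeometry TopologicalSpace

lemma exists_finite_basicOpen_cover (A : Type u) [CommRing A] [IsNoetherianRing A]
    (U : Opens (PrimeSpectrum A)) :
    ∃ (n : ℕ) (f : Fin n → A), U = ⨆ i, PrimeSpectrum.basicOpen (f i) := by
  obtain ⟨s, hs⟩ := (PrimeSpectrum.isOpen_iff (U : Set (PrimeSpectrum A))).mp U.2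
  obtain ⟨T, hT⟩ := (IsNoetherian.noetherian (Ideal.span s) : (Ideal.span s).FG)
  refine ⟨T.card, fun i => ((T.equivFin).symm i : A), ?_⟩
  ext x
  simp only [Opens.mem_iSup, SetLike.mem_coe]
  have h1 : x ∈ (U : Set (PrimeSpectrum A)) ↔ x ∉ PrimeSpectrum.zeroLocus s := by
    rw [← hs]; simp
  rw [← SetLike.mem_coe, h1, ← PrimeSpectrum.zeroLocus_span s, ← hT, PrimeSpectrum.zeroLocus_span,
    PrimeSpectrum.mem_zeroLocus, Set.not_subset]
  constructor
  · rintro ⟨t, ht, hx⟩
    refine ⟨T.equivFin ⟨t, ht⟩, ?_⟩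
    rw [PrimeSpectrum.mem_basicOpen]
    simpa using hx
  · rintro ⟨i, hi⟩
    rw [PrimeSpectrum.mem_basicOpen] at hi
    exact ⟨_, ((T.equivFin).symm i).2, hi⟩

section Res

variable {R : CommRingCat.{u}} (M : ModuleCat.{u} R)

/-- restriction maps of `M~` as `R`-linear maps -/
noncomputable def res {U V : (Spec R).Opens} (h : U ≤ V) :
    ↑((modulesSpecToSheaf.obj (tilde M)).presheaf.obj (Opposite.op V)) →ₗ[R]
      ↑((modulesSpecToSheaf.obj (tilde M)).presheaf.obj (Opposite.op U)) :=
  ((modulesSpecToSheaf.obj (tilde M)).presheaf.map (homOfLE h).op).hom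

lemma res_res {U V W : (Spec R).Opens} (h₁ : U ≤ V) (h₂ : V ≤ W)
    (s : ↑((modulesSpecToSheaf.obj (tilde M)).presheaf.obj (Opposite.op W))) :
    res M h₁ (res M h₂ s) = res M (h₁.trans h₂) s := by
  unfold res
  rw [← ModuleCat.comp_apply, ← Functor.map_comp]
  rfl

lemma res_toOpen {U V : (Spec R).Opens} (h : U ≤ V) (x : M) :
    res M h ((tilde.toOpen M V).hom x) = (tilde.toOpen M U).hom x := rfl

/-- basic opens, typed as opens of the scheme `Spec R` -/
def bo (g : R) : (Spec R).Opens := PrimeSpectrum.basicOpen g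

instance (g : R) : IsLocalizedModule (Submonoid.powers g) (tilde.toOpen M (bo g)).hom :=
  inferInstanceAs (IsLocalizedModule.Away g (tilde.toOpen M (PrimeSpectrum.basicOpen g)).hom)

lemma bo_mul_le_left (g h : R) : bo (g * h) ≤ bo g := PrimeSpectrum.basicOpen_mul_le_left _ _

lemma bo_mul_le_right (g h : R) : bo (g * h) ≤ bo h := PrimeSpectrum.basicOpen_mul_le_right _ _

lemma isSMulRegular_bo (g : R) {W : (Spec R).Opens} (h : W ≤ bo g) :
    IsSMulRegular ↑((modulesSpecToSheaf.obj (tilde M)).presheaf.obj (Opposite.op W)) g :=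
  Scheme.Modules.isSMulRegular_of_le_basicOpen (M := tilde M) h

end Res

/-- the restriction maps of `M~` are surjective for an injective module `M` over a Noetherian
ring -/
theorem tilde_restrict_surjective' (R : CommRingCat.{u}) [IsNoetherianRing R] (M : ModuleCat.{u} R)
    [Module.Injective R M] (U V : (Spec R).Opens) (hUV : U ≤ V) :
    Function.Surjective (res M hUV) := by
  intro s
  obtain ⟨n, f, hf⟩ : ∃ (n : ℕ) (f : Fin n → R), U = ⨆ i, bo (f i) :=
    exists_finite_basicOpen_cover R U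
  have hD : ∀ i, bo (f i) ≤ U := fun i => by
    rw [hf]; exact le_iSup (fun i => bo (f i)) i
  -- local representatives
  have hloc : ∀ i, ∃ (x : M) (k : ℕ),
      (f i) ^ k • res M (hD i) s = (tilde.toOpen M (bo (f i))).hom x := by
    intro i
    obtain ⟨⟨x, ⟨_, k, rfl⟩⟩, hx⟩ := IsLocalizedModule.surj (Submonoid.powers (f i))
      (tilde.toOpen M (bo (f i))).hom (res M (hD i) s)
    exact ⟨x, k, hx⟩
  choose x k hxk using hloc
  -- compatibility on overlaps
  have hcompat : ∀ i j, ∃ N : ℕ,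
      (f i * f j) ^ N • ((f j) ^ (k j) • x i - (f i) ^ (k i) • x j) = 0 := by
    intro i j
    have hWi : bo (f i * f j) ≤ bo (f i) := bo_mul_le_left _ _
    have hWj : bo (f i * f j) ≤ bo (f j) := bo_mul_le_right _ _
    have hi := congrArg (res M hWi) (hxk i)
    have hj := congrArg (res M hWj) (hxk j)
    rw [map_smul, res_res, res_toOpen] at hi hj
    have hzero : (tilde.toOpen M (bo (f i * f j))).hom
        ((f j) ^ (k j) • x i - (f i) ^ (k i) • x j) = 0 := by
      rw [map_sub, map_smul, map_smul, ← hi, ← hj, smul_comm, sub_self]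
    obtain ⟨⟨_, N, rfl⟩, hN⟩ := (IsLocalizedModule.eq_zero_iff (Submonoid.powers (f i * f j))
      (tilde.toOpen M (bo (f i * f j))).hom).mp hzero
    exact ⟨N, hN⟩
  obtain ⟨t, ht⟩ := exists_glue n M f x k hcompat
  refine ⟨(tilde.toOpen M V).hom t, ?_⟩
  rw [res_toOpen]
  -- check on the cover
  apply TopCat.Sheaf.eq_of_locally_eq' (modulesSpecToSheaf.obj (tilde M)) (fun i => bo (f i)) U
    (fun i => homOfLE (hD i)) hf.le
  intro i
  change res M (hD i) ((tilde.toOpen M U).hom t) = res M (hD i) s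
  rw [res_toOpen]
  obtain ⟨m, hm⟩ := ht i
  have hreg : IsSMulRegular ↑((modulesSpecToSheaf.obj (tilde M)).presheaf.obj
      (Opposite.op (bo (f i)))) ((f i) ^ (m + k i)) :=
    (isSMulRegular_bo M (f i) le_rfl).pow _
  apply hreg
  change (f i) ^ (m + k i) • (tilde.toOpen M (bo (f i))).hom t =
    (f i) ^ (m + k i) • res M (hD i) s
  have h1 : (f i) ^ m • (f i) ^ (k i) • t = (f i) ^ m • x i := by
    rw [smul_sub, sub_eq_zero] at hm
    exact hm
  rw [pow_add, mul_smul, mul_smul, hxk i, ← map_smul, ← map_smul, ← map_smul, h1]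

end Groth.Agent.Lib.Seat51.Flasque
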