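import Mathlib
import Groth.Agent.Lib.Seat51FppfQuot
import Groth.Agent.Lib.Seat51GITBC

/-!
# fppf quotients of group actions are geometric quotients
-/

set_option autoImplicit false
universe u

open CategoryTheory Limits MonoidalCategory CartesianMonoidalCategory MonObj AlgebraicGeometry Opposite

namespace Groth.Agent.Lib.Seat51.FppfQuot

/-- a morphism admitting sections locally for a jointly surjective family of universally open
morphisms is universally submersive -/
lemma isUnivSubmersive_of_local_sections {X Y : Scheme.{u}} (q : X ⟶ Y) {I : Type*}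
    (Z : I → Scheme.{u}) (φ : ∀ i, Z i ⟶ Y) [∀ i, UniversallyOpen (φ i)]
    (hsurj : ∀ y : Y, ∃ i, y ∈ Set.range (φ i).base) (l : ∀ i, Z i ⟶ X)
    (hl : ∀ i, l i ≫ q = φ i) : GIT.IsUnivSubmersive q := by
  intro X' Y' i₁ i₂ q' hpb
  -- local sections of `q'`
  have hs : ∀ i, ∃ s : pullback i₂ (φ i) ⟶ X', s ≫ q' = pullback.fst i₂ (φ i) := fun i =>
    ⟨hpb.lift (pullback.fst i₂ (φ i)) (pullback.snd i₂ (φ i) ≫ l i)
      (by rw [pullback.condition, Category.assoc, hl]), hpb.lift_fst _ _ _⟩
  choose s hs using hs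
  have hsurj' : ∀ y' : Y', ∃ i, y' ∈ Set.range (pullback.fst i₂ (φ i)).base := by
    intro y'
    obtain ⟨i, z, hz⟩ := hsurj (i₂.base y')
    obtain ⟨w, hw, -⟩ := Scheme.Pullback.exists_preimage_pullback y' z hz.symm
    exact ⟨i, w, hw⟩
  change Topology.IsQuotientMap q'.base
  have hq'surj : Function.Surjective q'.base := by
    intro y'
    obtain ⟨i, w, hw⟩ := hsurj' y'
    refine ⟨(s i).base w, ?_⟩
    rw [← Scheme.Hom.comp_apply, hs]
    exact hw
  refine (Topology.isQuotientMap_iff _).2 ⟨Topology.isCoinducing_iff.2 fun V =>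
    ⟨fun hV => ?_, fun hV => hV.preimage q'.continuous⟩, hq'surj⟩
  have hV' : V = ⋃ i, (pullback.fst i₂ (φ i)).base '' ((s i).base ⁻¹' (q'.base ⁻¹' V)) := by
    ext y'
    simp only [Set.mem_iUnion, Set.mem_image, Set.mem_preimage]
    constructor
    · intro hy'
      obtain ⟨i, w, hw⟩ := hsurj' y'
      refine ⟨i, w, ?_, hw⟩
      rw [← Scheme.Hom.comp_apply, hs, hw]
      exact hy'
    · rintro ⟨i, w, hw, rfl⟩
      rw [← Scheme.Hom.comp_apply, hs] at hw
      exact hw
  rw [hV']
  refine isOpen_iUnion fun i => ?_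
  exact (pullback.fst i₂ (φ i)).isOpenMap _ ((hV.preimage (s i).continuous))

variable {S : Scheme.{u}}

/-- a covering sieve for the topology generated by a (nice) precoverage `K` on `Over S` contains a
`K`-covering family -/
lemma exists_presieve_of_mem_J (K : Precoverage Scheme.{u}) [K.IsStableUnderComposition]
    [K.IsStableUnderBaseChange] [K.HasIsos] {T : Over S} (R : Sieve T)
    (hR : R ∈ QuotSh.J K S T) :
    ∃ R' ∈ K T.left, ∀ ⦃V : Scheme.{u}⦄ (g : V ⟶ T.left), R' g →
      R (Over.homMk g rfl : Over.mk (g ≫ T.hom) ⟶ T) := by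
  rw [GrothendieckTopology.mem_over_iff,
    Precoverage.mem_toGrothendieck_iff_of_isStableUnderComposition] at hR
  obtain ⟨R', hR', hle⟩ := hR
  refine ⟨R', hR', fun V g hg => ?_⟩
  have h4 := hle _ _ hg
  rw [Sieve.overEquiv_iff] at h4
  exact h4

open Groth.Agent.Lib.Helper12.QuotShLib in
/-- fppf covering family extracted from a covering sieve -/
lemma exists_fppf_family {T : Over S} (R : Sieve T)
    (hR : R ∈ QuotSh.J Scheme.fppfPrecoverage S T) :
    ∃ (I : Type (u + 1)) (Z : I → Scheme.{u}) (φ : ∀ i, Z i ⟶ T.left),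
      (∀ t : T.left, ∃ i, t ∈ Set.range (φ i).base) ∧
      (∀ i, Flat (φ i) ∧ LocallyOfFinitePresentation (φ i)) ∧
      ∀ i, R (Over.homMk (φ i) rfl : Over.mk (φ i ≫ T.hom) ⟶ T) := by
  obtain ⟨R', hR', hle⟩ := exists_presieve_of_mem_J Scheme.fppfPrecoverage R hR
  obtain ⟨I, Z, φ, rfl⟩ := Presieve.exists_eq_ofArrows R'
  have h1 := (Scheme.presieve₀_mem_precoverage_iff
    (P := @Flat ⊓ @LocallyOfFinitePresentation) (⟨I, Z, φ⟩ : PreZeroHypercover T.left)).1 hR'
  exact ⟨I, Z, φ, h1.1, fun i => h1.2 i, fun i => hle _ ⟨i⟩⟩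

variable {G X Y : Over S} [GrpObj G] {a : AlgGrp.Action G X} {q : X ⟶ Y}

/-- an fppf-local quotient has surjective orbit map -/
theorem IsLocQuot.orbit (h : IsLocQuot Scheme.fppfPrecoverage a q) :
    Function.Surjective (GIT.PsiY a q h.inv).base := by
  intro z
  have hcond : (pullback.snd q.left q.left) ≫ X.hom = (pullback.fst q.left q.left) ≫ X.hom := by
    rw [← Over.w q, ← Category.assoc, ← Category.assoc, pullback.condition]
  obtain ⟨j, hj⟩ : ∃ j : Spec ((pullback q.left q.left).residueField z) ⟶ pullback q.left q.left,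
      j = (pullback q.left q.left).fromSpecResidueField z := ⟨_, rfl⟩
  let T : Over S := Over.mk (j ≫ pullback.fst q.left q.left ≫ X.hom)
  let x₁ : T ⟶ X := Over.homMk (j ≫ pullback.fst q.left q.left) (Category.assoc _ _ _)
  let x₂ : T ⟶ X := Over.homMk (j ≫ pullback.snd q.left q.left)
    ((Category.assoc _ _ _).trans (congrArg (fun k => j ≫ k) hcond))
  have hx : x₁ ≫ q = x₂ ≫ q := by
    apply Over.OverMorphism.ext
    change (j ≫ pullback.fst q.left q.left) ≫ q.left = (j ≫ pullback.snd q.left q.left) ≫ q.left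
    rw [Category.assoc, Category.assoc, pullback.condition]
  obtain ⟨R, hR, hl⟩ := h.locInj x₁ x₂ hx
  obtain ⟨I, Z, φ, hsurj, -, hφ⟩ := exists_fppf_family R hR
  have hne : Nonempty ↥(Spec ((pullback q.left q.left).residueField z)) := inferInstance
  obtain ⟨i, w, -⟩ := hsurj hne.some
  obtain ⟨c, hc⟩ := hl _ (hφ i)
  refine ⟨(lift c ((Over.homMk (φ i) rfl : Over.mk (φ i ≫ T.hom) ⟶ T) ≫ x₂)).left.base w, ?_⟩
  have key : (lift c ((Over.homMk (φ i) rfl : Over.mk (φ i ≫ T.hom) ⟶ T) ≫ x₂)).left ≫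
      GIT.PsiY a q h.inv = φ i ≫ j := by
    apply pullback.hom_ext
    · rw [Category.assoc, GIT.PsiY, pullback.lift_fst, ← Over.comp_left, hc, Category.assoc]
      rfl
    · rw [Category.assoc, GIT.PsiY, pullback.lift_snd, ← Over.comp_left, lift_snd,
        Category.assoc]
      rfl
  rw [← Scheme.Hom.comp_apply, key, Scheme.Hom.comp_apply]
  have hmem : j.base ((φ i).base w) ∈ Set.range j.base := ⟨_, rfl⟩
  rw [hj, Scheme.range_fromSpecResidueField] at hmem
  rw [hj]
  exact hmem

/-- an fppf-local quotient is universally submersive -/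
theorem IsLocQuot.subm (h : IsLocQuot Scheme.fppfPrecoverage a q) :
    GIT.IsUnivSubmersive q.left := by
  obtain ⟨R, hR, hl⟩ := h.locSurj (𝟙 Y)
  obtain ⟨I, Z, φ, hsurj, hprop, hφ⟩ := exists_fppf_family R hR
  have : ∀ i, UniversallyOpen (φ i) := fun i =>
    have := (hprop i).1
    have := (hprop i).2
    inferInstance
  choose x hx using fun i => hl _ (hφ i)
  refine isUnivSubmersive_of_local_sections q.left Z φ hsurj (fun i => (x i).left) (fun i => ?_)
  have := congrArg CommaMorphism.left (hx i)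
  rw [Category.comp_id] at this
  exact this

/-- an fppf-local quotient is a geometric quotient -/
theorem IsLocQuot.isGeomQuot (h : IsLocQuot Scheme.fppfPrecoverage a q) : GIT.IsGeomQuot a q where
  inv := h.inv
  surj := GITBC.surjective_of_isUnivCatQuot a q h.isUnivCatQuot
  orbit := h.orbit
  subm := h.subm
  sections U := GITBC.sections_of_isUnivCatQuot a q h.isUnivCatQuot U

/-- an fppf quotient is a geometric quotient -/
theorem isGeomQuot_of_isQuotient_fppf (a : AlgGrp.Action G X) (q : X ⟶ Y)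
    (hq : QuotSh.IsQuotient Scheme.fppfPrecoverage a.act (snd G X) q) : GIT.IsGeomQuot a q :=
  (isLocQuot_of_isQuotient a Scheme.fppfPrecoverage q hq).isGeomQuot

end Groth.Agent.Lib.Seat51.FppfQuot
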