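import Mathlib
import Groth.Prelude.Def_W4bk4git07Quot
import Groth.Prelude.Def_NonAbH2

/-!
# Morphisms with sections fpqc-locally on the target are universally submersive (seat 51)

* `isOpen_of_forall_isOpen_preimage`: a subset of a scheme is open as soon as its preimages under the members of a
  flat quasi-compact covering family are open.
* `isUnivSubmersive_of_fpqc_sections`: a morphism acquiring sections over the members of an fpqc covering family of
  its target is universally submersive (`GIT.IsUnivSubmersive`).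
-/

set_option autoImplicit false
universe v u
open CategoryTheory AlgebraicGeometry Topology Limits TopologicalSpace

namespace Groth.Agent.Lib.Seat51.FpqcSubm

/-- a subset is open if its preimages under the members of a flat quasi-compact cover are -/
lemma isOpen_of_forall_isOpen_preimage {S' : Scheme.{u}} (𝒱 : PreZeroHypercover.{v} S')
    [QuasiCompactCover 𝒱] (hflat : ∀ i, Flat (𝒱.f i)) (s : Set S')
    (hs : ∀ i, IsOpen ((𝒱.f i) ⁻¹' s)) : IsOpen s := by
  rw [isOpen_iff_forall_mem_open]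
  intro x hx
  obtain ⟨W, hW, hxW⟩ : ∃ W : S'.Opens, IsAffineOpen W ∧ x ∈ W := by
    obtain ⟨W, hW, hxW, -⟩ := Opens.isBasis_iff_nbhd.mp S'.isBasis_affineOpens
      (Opens.mem_top x)
    exact ⟨W, hW, hxW⟩
  refine ⟨s ∩ W, Set.inter_subset_left, ?_, ⟨hx, hxW⟩⟩
  obtain ⟨n, f, V, hV, hVW⟩ := QuasiCompactCover.exists_isAffineOpen_of_isCompact 𝒱 hW.isCompact
  have hle : ∀ i, V i ≤ (𝒱.f (f i)) ⁻¹ᵁ W := fun i v hv => by
    show 𝒱.f (f i) v ∈ (W : Set S')
    rw [← hVW]
    exact Set.mem_iUnion.mpr ⟨i, v, hv, rfl⟩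
  let p : ∐ (fun i : Fin n => (V i).toScheme) ⟶ W.toScheme :=
    Sigma.desc (fun i => (𝒱.f (f i)).resLE W (V i) (hle i))
  have : IsAffine W.toScheme := hW
  have : ∀ i, IsAffine (V i).toScheme := hV
  have hpι : ∀ i, Sigma.ι (fun i : Fin n => (V i).toScheme) i ≫ p ≫ W.ι = (V i).ι ≫ 𝒱.f (f i) := by
    intro i
    rw [← Category.assoc, Sigma.ι_desc, Scheme.Hom.resLE_comp_ι]
  have hflatp : Flat p := inferInstance
  have hsurj : Surjective p := by
    refine ⟨fun w => ?_⟩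
    have hw : W.ι w ∈ (W : Set S') := by
      rw [← Scheme.Opens.range_ι]
      exact ⟨w, rfl⟩
    rw [← hVW] at hw
    obtain ⟨i, v, hv, hvw⟩ := Set.mem_iUnion.mp hw
    obtain ⟨v', rfl⟩ : ∃ v' : (V i).toScheme, (V i).ι v' = v := by
      have : v ∈ Set.range (V i).ι := by rw [Scheme.Opens.range_ι]; exact hv
      exact this
    refine ⟨Sigma.ι (fun i : Fin n => (V i).toScheme) i v', ?_⟩
    apply W.ι.isOpenEmbedding.injective
    have h1 : W.ι (p (Sigma.ι (fun i : Fin n => (V i).toScheme) i v')) =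
        (Sigma.ι (fun i : Fin n => (V i).toScheme) i ≫ p ≫ W.ι) v' := by
      simp only [Scheme.Hom.comp_apply]
    rw [h1, hpι i, Scheme.Hom.comp_apply]
    exact hvw
  have hqc : QuasiCompact p := inferInstance
  have hq := Flat.isQuotientMap_of_surjective p
  have hopen : IsOpen (W.ι ⁻¹' s) := by
    rw [← hq.isOpen_preimage]
    let 𝒲 := sigmaOpenCover (fun i : Fin n => (V i).toScheme)
    rw [𝒲.isOpenCover_opensRange.isOpen_iff_inter]
    intro i
    rw [Scheme.Hom.coe_opensRange, ← Set.image_preimage_eq_inter_range]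
    apply (𝒲.f i).isOpenEmbedding.isOpenMap
    revert i
    intro (i : Fin n)
    have : (𝒲.f i) ⁻¹' (p ⁻¹' (W.ι ⁻¹' s)) = (V i).ι ⁻¹' ((𝒱.f (f i)) ⁻¹' s) := by
      ext v
      simp only [Set.mem_preimage]
      have h1 : W.ι (p (𝒲.f i v)) =
          (Sigma.ι (fun i : Fin n => (V i).toScheme) i ≫ p ≫ W.ι) v := by
        rfl
      rw [h1, hpι i]
      rfl
    rw [this]
    exact (hs (f i)).preimage (V i).ι.continuous
  have himg : s ∩ W = W.ι '' (W.ι ⁻¹' s) := by
    rw [Set.image_preimage_eq_inter_range, Scheme.Opens.range_ι]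
  rw [himg]
  exact W.ι.isOpenEmbedding.isOpenMap _ hopen

/-- a morphism with sections over the members of an fpqc covering family is universally
submersive -/
theorem isUnivSubmersive_of_fpqc_sections {X₀ Y₀ : Scheme.{u}} (φ₀ : X₀ ⟶ Y₀)
    (hloc : NonAbH1.IsLocallyTrivialFor Scheme.fpqcPrecoverage (Over.mk φ₀ : Over Y₀)) :
    GIT.IsUnivSubmersive φ₀ := by
  obtain ⟨R, hR, hsec⟩ := hloc
  obtain ⟨𝒰, hqc, rfl⟩ := Scheme.mem_propQCPrecoverage_iff_exists_quasiCompactCover.mp hR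
  intro X' Y' i₁ i₂ f' hpb
  have hs : ∀ i : 𝒰.I₀, ∃ s : 𝒰.X i ⟶ X₀, s ≫ φ₀ = 𝒰.f i := fun i => hsec (𝒰.f i) ⟨i⟩
  choose s hs using hs
  let 𝒱 := 𝒰.toPreZeroHypercover.pullback₁ i₂
  have hflat : ∀ i, Flat (𝒱.f i) := fun (i : 𝒰.I₀) => by
    have : Flat (𝒰.f i) := 𝒰.map_prop i
    show Flat (pullback.fst i₂ (𝒰.f i))
    infer_instance
  have ht : ∀ i : 𝒰.I₀, ∃ t : pullback i₂ (𝒰.f i) ⟶ X', t ≫ f' = pullback.fst i₂ (𝒰.f i) :=
    fun i => ⟨hpb.lift (pullback.fst i₂ (𝒰.f i)) (pullback.snd i₂ (𝒰.f i) ≫ s i)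
      (by rw [Category.assoc, hs i, pullback.condition]), hpb.lift_fst _ _ _⟩
  choose t ht using ht
  show IsQuotientMap f'.base
  rw [isQuotientMap_iff]
  refine ⟨.of_isOpen_preimage_iff_isOpen fun s' => ⟨fun h => ?_, fun h => h.preimage f'.continuous⟩,
    fun y' => ?_⟩
  · refine isOpen_of_forall_isOpen_preimage 𝒱 hflat s' fun (i : 𝒰.I₀) => ?_
    have : (pullback.fst i₂ (𝒰.f i)) ⁻¹' s' = (t i) ⁻¹' (f' ⁻¹' s') := by
      rw [← ht i]
      rfl
    show IsOpen ((pullback.fst i₂ (𝒰.f i)) ⁻¹' s')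
    rw [this]
    exact h.preimage (t i).continuous
  · have hJ : Scheme.JointlySurjective (Scheme.precoverage @Flat.{u}) :=
      Scheme.instJointlySurjectivePrecoverage
    obtain ⟨i, y, hy⟩ := 𝒰.exists_eq (i₂ y')
    obtain ⟨z, hz, -⟩ := Scheme.Pullback.exists_preimage_pullback (f := i₂) (g := 𝒰.f i) y' y
      hy.symm
    refine ⟨t i z, ?_⟩
    rw [← hz, ← ht i]
    rfl

end Groth.Agent.Lib.Seat51.FpqcSubm
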