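import Mathlib
import Groth.Prelude.Def_W4bk4git07Quot
import Groth.Agent.Lib.Seat51GITBC

/-!
# fpqc descent of geometric quotients
-/

set_option autoImplicit false
universe u

open CategoryTheory Limits MonoidalCategory CartesianMonoidalCategory MonObj AlgebraicGeometry Opposite

namespace Groth.Agent.Lib.Seat51.GITDescent

section SchemeLemmas

/-- a flat surjective morphism is injective on sections -/
lemma app_injective_of_flat_of_surjective {P Q : Scheme.{u}} (f : P ⟶ Q) [Flat f] [Surjective f]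
    (U : Q.Opens) : Function.Injective (f.app U) := by
  rw [injective_iff_map_eq_zero]
  intro s hs
  refine TopCat.Presheaf.section_ext Q.sheaf U s 0 fun y hy => ?_
  obtain ⟨x, rfl⟩ := f.surjective y
  have hinj : Function.Injective (f.stalkMap x) := by
    algebraize [(f.stalkMap x).hom]
    have : Module.FaithfullyFlat (Q.presheaf.stalk (f x)) (P.presheaf.stalk x) :=
      @Module.FaithfullyFlat.of_flat_of_isLocalHom _ _ _ _ _ _ _
        (Flat.stalkMap f x) (f.toLRSHom.prop x)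
    exact ‹RingHom.FaithfullyFlat _›.injective
  apply hinj
  change f.stalkMap x (Q.presheaf.germ U (f x) hy s) = f.stalkMap x (Q.presheaf.germ U (f x) hy 0)
  rw [Scheme.Hom.germ_stalkMap_apply, Scheme.Hom.germ_stalkMap_apply, hs, map_zero, map_zero,
    map_zero]

/-- a morphism injective on sections over all (affine) opens is scheme-theoretically dominant -/
lemma isSchemeTheoreticallyDominant_of_app_injective {P Q : Scheme.{u}} (f : P ⟶ Q)
    (h : ∀ U : Q.Opens, Function.Injective (f.app U)) : IsSchemeTheoreticallyDominant f := by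
  refine ⟨Scheme.IdealSheafData.ext (funext fun U => ?_)⟩
  rw [Scheme.IdealSheafData.ideal_bot, Pi.bot_apply, eq_bot_iff]
  refine (f.ideal_ker_le U).trans ?_
  rw [(RingHom.injective_iff_ker_eq_bot _).1 (h U.1)]

/-- fpqc descent of global functions -/
lemma exists_appTop_eq_of_flat {P Q : Scheme.{u}} (π : P ⟶ Q) [Flat π] [Surjective π]
    [QuasiCompact π] (s : Γ(P, ⊤))
    (hs : (pullback.fst π π).appTop s = (pullback.snd π π).appTop s) :
    ∃ t : Γ(Q, ⊤), π.appTop t = s := by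
  let g : P ⟶ 𝔸(PUnit.{u + 1}; Q) := AffineSpace.homOfVector π (fun _ => s)
  have hg : ∀ {W : Scheme.{u}} (g₁ g₂ : W ⟶ P), g₁ ≫ π = g₂ ≫ π → g₁ ≫ g = g₂ ≫ g := by
    intro W g₁ g₂ h12
    have e1 : g₁ = pullback.lift g₁ g₂ h12 ≫ pullback.fst π π := (pullback.lift_fst _ _ _).symm
    have e2 : g₂ = pullback.lift g₁ g₂ h12 ≫ pullback.snd π π := (pullback.lift_snd _ _ _).symm
    have key : pullback.fst π π ≫ g = pullback.snd π π ≫ g := by
      apply AffineSpace.hom_ext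
      · rw [Category.assoc, Category.assoc, AffineSpace.homOfVector_over, pullback.condition]
      · intro i
        rw [Scheme.Hom.comp_appTop, Scheme.Hom.comp_appTop, CommRingCat.comp_apply,
          CommRingCat.comp_apply, AffineSpace.homOfVector_appTop_coord, hs]
    rw [e1, Category.assoc, key, ← Category.assoc, ← e2]
  refine ⟨(EffectiveEpi.desc π g hg).appTop (AffineSpace.coord Q PUnit.unit), ?_⟩
  rw [← CommRingCat.comp_apply, ← Scheme.Hom.comp_appTop, EffectiveEpi.fac,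
    AffineSpace.homOfVector_appTop_coord]

open Groth.Agent.Lib.Seat51.GITBC Groth.Agent.Lib.Seat51.GITQuot in
/-- fpqc descent of functions on an open -/
lemma exists_app_eq_of_flat {P Q : Scheme.{u}} (π : P ⟶ Q) [Flat π] [Surjective π]
    [QuasiCompact π] (U : Q.Opens) (s : Γ(P, π ⁻¹ᵁ U))
    (h2 : pullback.fst π π ⁻¹ᵁ π ⁻¹ᵁ U ≤ pullback.snd π π ⁻¹ᵁ π ⁻¹ᵁ U)
    (hs : (pullback.fst π π).appLE (π ⁻¹ᵁ U) (pullback.fst π π ⁻¹ᵁ π ⁻¹ᵁ U) le_rfl s =
      (pullback.snd π π).appLE (π ⁻¹ᵁ U) (pullback.fst π π ⁻¹ᵁ π ⁻¹ᵁ U) h2 s) :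
    ∃ t : Γ(Q, U), π.app U t = s := by
  have hπ' : π.resLE U (π ⁻¹ᵁ U) le_rfl ≫ U.ι = (π ⁻¹ᵁ U).ι ≫ π := Scheme.Hom.resLE_comp_ι _ _
  have hmr : π.resLE U (π ⁻¹ᵁ U) le_rfl = π ∣_ U := Scheme.Hom.resLE_eq_morphismRestrict _
  have : Flat (π.resLE U (π ⁻¹ᵁ U) le_rfl) := by rw [hmr]; infer_instance
  have : Surjective (π.resLE U (π ⁻¹ᵁ U) le_rfl) := by
    rw [hmr]; exact IsZariskiLocalAtTarget.restrict ‹_› U
  have : QuasiCompact (π.resLE U (π ⁻¹ᵁ U) le_rfl) := by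
    rw [hmr]; infer_instance
  obtain ⟨π', hπ'def⟩ : ∃ π', π' = π.resLE U (π ⁻¹ᵁ U) le_rfl := ⟨_, rfl⟩
  rw [← hπ'def] at hπ'
  have : Flat π' := hπ'def ▸ ‹_›
  have : Surjective π' := hπ'def ▸ ‹_›
  have : QuasiCompact π' := hπ'def ▸ ‹_›
  have ej : (⊤ : (π ⁻¹ᵁ U).toScheme.Opens) ≤ (π ⁻¹ᵁ U).ι ⁻¹ᵁ (π ⁻¹ᵁ U) := by
    intro x _; exact x.2
  have ei : (⊤ : U.toScheme.Opens) ≤ U.ι ⁻¹ᵁ U := by
    intro x _; exact x.2
  have hbj := appLE_top_bijective (π ⁻¹ᵁ U).ι (π ⁻¹ᵁ U) (Scheme.Opens.ι_image_top _) ej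
  have hbi := appLE_top_bijective U.ι U (Scheme.Opens.ι_image_top _) ei
  let κ : pullback π' π' ⟶ pullback π π :=
    pullback.map π' π' π π (π ⁻¹ᵁ U).ι (π ⁻¹ᵁ U).ι U.ι hπ' hπ'
  have hκ1 : κ ≫ pullback.fst π π = pullback.fst π' π' ≫ (π ⁻¹ᵁ U).ι := pullback.lift_fst _ _ _
  have hκ2 : κ ≫ pullback.snd π π = pullback.snd π' π' ≫ (π ⁻¹ᵁ U).ι := pullback.lift_snd _ _ _
  have eκ : (⊤ : (pullback π' π').Opens) ≤ κ ⁻¹ᵁ (pullback.fst π π ⁻¹ᵁ π ⁻¹ᵁ U) := by
    intro x _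
    change (κ ≫ pullback.fst π π).base x ∈ π ⁻¹ᵁ U
    rw [hκ1]
    exact ((pullback.fst π' π').base x).2
  have hfst : (pullback.fst π' π').appTop ((π ⁻¹ᵁ U).ι.appLE (π ⁻¹ᵁ U) ⊤ ej s) =
      κ.appLE _ ⊤ eκ ((pullback.fst π π).appLE (π ⁻¹ᵁ U) _ le_rfl s) := by
    rw [appTop_appLE _ _ _ _ (by intro x _; exact ((pullback.fst π' π').base x).2),
      appLE_appLE _ _ _ _ _ _ _ (by
        intro x _
        change (κ ≫ pullback.fst π π).base x ∈ π ⁻¹ᵁ U
        rw [hκ1]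
        exact ((pullback.fst π' π').base x).2)]
    exact ConcreteCategory.congr_hom (appLE_congr_hom hκ1.symm _ _ _ _) s
  have hsnd : (pullback.snd π' π').appTop ((π ⁻¹ᵁ U).ι.appLE (π ⁻¹ᵁ U) ⊤ ej s) =
      κ.appLE _ ⊤ eκ ((pullback.snd π π).appLE (π ⁻¹ᵁ U) _ h2 s) := by
    rw [appTop_appLE _ _ _ _ (by intro x _; exact ((pullback.snd π' π').base x).2),
      appLE_appLE _ _ _ _ _ _ _ (by
        intro x _
        change (κ ≫ pullback.snd π π).base x ∈ π ⁻¹ᵁ U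
        rw [hκ2]
        exact ((pullback.snd π' π').base x).2)]
    exact ConcreteCategory.congr_hom (appLE_congr_hom hκ2.symm _ _ _ _) s
  obtain ⟨t', ht'⟩ := exists_appTop_eq_of_flat π' ((π ⁻¹ᵁ U).ι.appLE (π ⁻¹ᵁ U) ⊤ ej s)
    (by rw [hfst, hsnd, hs])
  obtain ⟨t, ht⟩ := hbi.2 t'
  refine ⟨t, hbj.1 ?_⟩
  rw [← ht', ← ht, appTop_appLE _ _ _ _ (by intro x _; exact (π'.base x).2),
    Scheme.Hom.app_eq_appLE,
    appLE_appLE _ _ _ _ _ _ _ (by intro x _; exact x.2)]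
  exact ConcreteCategory.congr_hom (appLE_congr_hom hπ'.symm _ _ _ _) t

end SchemeLemmas

section Descent

variable {S : Scheme.{u}} {G X Y X' Y' : Over S} [GrpObj G]
  (a : AlgGrp.Action G X) (φ : X ⟶ Y) (hinv : GIT.IsInvariant a φ)
  (α : Y' ⟶ Y) (pr : X' ⟶ X) (φ' : X' ⟶ Y') (hpb : IsPullback pr φ' φ α)
  (a' : AlgGrp.Action G X') (heq : a'.act ≫ pr = (G ◁ pr) ≫ a.act)
  (hinv' : GIT.IsInvariant a' φ')

include hpb in
/-- descent of surjectivity of the quotient map -/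
lemma surj_descent [Surjective α.left] (hs : Function.Surjective φ'.left.base) :
    Function.Surjective φ.left.base := by
  intro y
  obtain ⟨y', rfl⟩ := α.left.surjective y
  obtain ⟨x', rfl⟩ := hs y'
  refine ⟨pr.left.base x', ?_⟩
  rw [← Scheme.Hom.comp_apply, ← Scheme.Hom.comp_apply, ← Over.comp_left, ← Over.comp_left,
    hpb.w]

include hpb heq in
/-- descent of surjectivity of the orbit map -/
lemma orbit_descent [Surjective α.left]
    (ho : Function.Surjective (GIT.PsiY a' φ' hinv').base) :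
    Function.Surjective (GIT.PsiY a φ hinv).base := by
  have hpb' : IsPullback pr.left φ'.left φ.left α.left := hpb.map (Over.forget S)
  have hP : IsPullback (G ◁ pr).left (snd G X').left (snd G X).left pr.left :=
    (GITBC.isPullback_whiskerLeft' G pr).map (Over.forget S)
  have hσ : a'.act.left ≫ pr.left = (G ◁ pr).left ≫ a.act.left := by
    rw [← Over.comp_left, heq, Over.comp_left]
  have H := GITBC.isPullback_orbit_aux hpb' hσ hP hinv.left hinv'.left
  -- the comparison map of fibre squares is surjective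
  have hprs : Surjective pr.left :=
    MorphismProperty.of_isPullback (P := @Surjective) hpb'.flip inferInstance
  have hA : IsPullback
      (pullback.map φ'.left φ'.left φ.left φ.left pr.left pr.left α.left hpb'.w.symm hpb'.w.symm)
      (pullback.snd φ'.left φ'.left) (pullback.snd φ.left φ.left) pr.left := by
    have h1 : IsPullback (pullback.fst φ'.left φ'.left ≫ pr.left) (pullback.snd φ'.left φ'.left)
        φ.left (φ'.left ≫ α.left) :=
      (IsPullback.of_hasPullback φ'.left φ'.left).paste_horiz hpb'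
    rw [← hpb'.w, ← pullback.lift_fst (f := φ.left) (g := φ.left)
      (pullback.fst φ'.left φ'.left ≫ pr.left) (pullback.snd φ'.left φ'.left ≫ pr.left)
      (by rw [Category.assoc, Category.assoc, hpb'.w, pullback.condition_assoc])] at h1
    exact h1.of_right (pullback.lift_snd _ _ _) (IsPullback.of_hasPullback φ.left φ.left)
  have hms : Surjective
      (pullback.map φ'.left φ'.left φ.left φ.left pr.left pr.left α.left hpb'.w.symm hpb'.w.symm) :=
    MorphismProperty.of_isPullback (P := @Surjective) hA.flip hprs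
  intro z
  obtain ⟨z', rfl⟩ := hms.surj z
  obtain ⟨p', rfl⟩ := ho z'
  refine ⟨(G ◁ pr).left.base p', ?_⟩
  rw [← Scheme.Hom.comp_apply, ← Scheme.Hom.comp_apply]
  exact congrArg (fun k => k.base p') H.w.symm

include hpb in
/-- descent of universal submersiveness along an fpqc morphism -/
lemma subm_descent [Flat α.left] [Surjective α.left] [QuasiCompact α.left]
    (hsub : GIT.IsUnivSubmersive φ'.left) : GIT.IsUnivSubmersive φ.left := by
  have hpb' : IsPullback pr.left φ'.left φ.left α.left := hpb.map (Over.forget S)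
  intro X₁ Y₁ i₁ i₂ φ₁ hsq
  -- `hsq : IsPullback φ₁ i₁ i₂ φ.left`
  have hβ : Topology.IsQuotientMap (pullback.fst i₂ α.left).base :=
    Flat.isQuotientMap_of_surjective _
  -- the base change of `φ₁` along `β` is a base change of `φ'`
  have hw : (pullback.fst φ₁ (pullback.fst i₂ α.left) ≫ i₁) ≫ φ.left =
      (pullback.snd φ₁ (pullback.fst i₂ α.left) ≫ pullback.snd i₂ α.left) ≫ α.left := by
    rw [Category.assoc, ← hsq.w, pullback.condition_assoc, Category.assoc, pullback.condition]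
  have hbig : IsPullback (pullback.fst φ₁ (pullback.fst i₂ α.left) ≫ i₁)
      (pullback.snd φ₁ (pullback.fst i₂ α.left)) φ.left (pullback.fst i₂ α.left ≫ i₂) :=
    (IsPullback.of_hasPullback φ₁ (pullback.fst i₂ α.left)).paste_horiz hsq.flip
  have hbig' : IsPullback (hpb'.lift _ _ hw ≫ pr.left)
      (pullback.snd φ₁ (pullback.fst i₂ α.left)) φ.left (pullback.snd i₂ α.left ≫ α.left) := by
    rw [hpb'.lift_fst, ← pullback.condition]
    exact hbig
  have hleft : IsPullback (hpb'.lift _ _ hw) (pullback.snd φ₁ (pullback.fst i₂ α.left))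
      φ'.left (pullback.snd i₂ α.left) :=
    hbig'.of_right (hpb'.lift_snd _ _ hw) hpb'
  have hq' : Topology.IsQuotientMap (pullback.snd φ₁ (pullback.fst i₂ α.left)).base :=
    hsub _ _ _ hleft.flip
  have hcomp : Topology.IsQuotientMap
      (φ₁.base ∘ (pullback.fst φ₁ (pullback.fst i₂ α.left)).base) := by
    have e : φ₁.base ∘ (pullback.fst φ₁ (pullback.fst i₂ α.left)).base =
        (pullback.fst i₂ α.left).base ∘ (pullback.snd φ₁ (pullback.fst i₂ α.left)).base := by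
      ext x
      change (pullback.fst φ₁ (pullback.fst i₂ α.left) ≫ φ₁).base x =
        (pullback.snd φ₁ (pullback.fst i₂ α.left) ≫ pullback.fst i₂ α.left).base x
      rw [pullback.condition]
    rw [e]
    exact hβ.comp hq'
  exact Topology.IsQuotientMap.of_comp (pullback.fst φ₁ (pullback.fst i₂ α.left)).continuous
    φ₁.continuous hcomp

open Groth.Agent.Lib.Seat51.GITBC Groth.Agent.Lib.Seat51.GITQuot in
include heq in
/-- the pull back of an invariant section along an equivariant morphism is invariant -/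
lemma isInvSection_pullback (U : Y.left.Opens) (U' : Y'.left.Opens)
    (f : Γ(X.left, φ.left ⁻¹ᵁ U)) (hf : GIT.IsInvSection a φ U f)
    (e : φ'.left ⁻¹ᵁ U' ≤ pr.left ⁻¹ᵁ (φ.left ⁻¹ᵁ U)) :
    GIT.IsInvSection a' φ' U' (pr.left.appLE (φ.left ⁻¹ᵁ U) (φ'.left ⁻¹ᵁ U') e f) := by
  have hσ : a'.act.left ≫ pr.left = (G ◁ pr).left ≫ a.act.left := by
    rw [← Over.comp_left, heq, Over.comp_left]
  have hτ : (snd G X').left ≫ pr.left = (G ◁ pr).left ≫ (snd G X).left := by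
    rw [← Over.comp_left, ← Over.comp_left, whiskerLeft_snd]
  have eN : a'.act.left ⁻¹ᵁ (φ'.left ⁻¹ᵁ U') ⊓ (snd G X').left ⁻¹ᵁ (φ'.left ⁻¹ᵁ U') ≤
      (G ◁ pr).left ⁻¹ᵁ (a.act.left ⁻¹ᵁ (φ.left ⁻¹ᵁ U) ⊓ (snd G X).left ⁻¹ᵁ (φ.left ⁻¹ᵁ U)) := by
    rintro p ⟨hp1, hp2⟩
    refine ⟨?_, ?_⟩
    · change ((G ◁ pr).left ≫ a.act.left).base p ∈ φ.left ⁻¹ᵁ U
      rw [← hσ]
      exact e hp1
    · change ((G ◁ pr).left ≫ (snd G X).left).base p ∈ φ.left ⁻¹ᵁ U
      rw [← hτ]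
      exact e hp2
  unfold GIT.IsInvSection at hf ⊢
  rw [appLE_appLE _ _ _ _ _ _ _ (inf_le_left.trans (by
        intro p hp
        exact e hp)),
    appLE_appLE _ _ _ _ _ _ _ (inf_le_right.trans (by
        intro p hp
        exact e hp))]
  have h1 := appLE_appLE (G ◁ pr).left a.act.left (φ.left ⁻¹ᵁ U) _ _ inf_le_left eN
    (eN.trans (by intro p hp; exact hp.1)) f
  have h2 := appLE_appLE (G ◁ pr).left (snd G X).left (φ.left ⁻¹ᵁ U) _ _ inf_le_right eN
    (eN.trans (by intro p hp; exact hp.2)) f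
  rw [ConcreteCategory.congr_hom (appLE_congr_hom hσ _ _ _ (eN.trans (by intro p hp; exact hp.1))) f,
    ConcreteCategory.congr_hom (appLE_congr_hom hτ _ _ _ (eN.trans (by intro p hp; exact hp.2))) f,
    ← h1, ← h2, hf]

/-- preimages along equal composites agree -/
lemma preimage_preimage_eq {A B C D : Scheme.{u}} {f : A ⟶ B} {g : B ⟶ D} {f' : A ⟶ C}
    {g' : C ⟶ D} (h : f ≫ g = f' ≫ g') (U : D.Opens) : f ⁻¹ᵁ g ⁻¹ᵁ U = f' ⁻¹ᵁ g' ⁻¹ᵁ U := by
  rw [← Scheme.Hom.comp_preimage, ← Scheme.Hom.comp_preimage, h]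

open Groth.Agent.Lib.Seat51.GITBC Groth.Agent.Lib.Seat51.GITQuot in
include hpb heq hinv in
/-- descent of the description of functions on the quotient along an fpqc morphism -/
lemma sections_descent [Flat α.left] [Surjective α.left] [QuasiCompact α.left]
    [QuasiCompact φ.left]
    (hsec : ∀ U' : Y'.left.Opens, Function.Injective (φ'.left.app U') ∧
      Set.range (φ'.left.app U') = {f | GIT.IsInvSection a' φ' U' f})
    (U : Y.left.Opens) :
    Function.Injective (φ.left.app U) ∧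
      Set.range (φ.left.app U) = {f | GIT.IsInvSection a φ U f} := by
  have hpb' : IsPullback pr.left φ'.left φ.left α.left := hpb.map (Over.forget S)
  have hprs : Surjective pr.left :=
    MorphismProperty.of_isPullback (P := @Surjective) hpb'.flip inferInstance
  have hprf : Flat pr.left :=
    MorphismProperty.of_isPullback (P := @Flat) hpb'.flip inferInstance
  have hφ'qc : QuasiCompact φ'.left :=
    MorphismProperty.of_isPullback (P := @QuasiCompact) hpb' inferInstance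
  have hφ'dom : IsSchemeTheoreticallyDominant φ'.left :=
    isSchemeTheoreticallyDominant_of_app_injective _ fun U' => (hsec U').1
  -- the opens
  have hV : φ'.left ⁻¹ᵁ (α.left ⁻¹ᵁ U) = pr.left ⁻¹ᵁ (φ.left ⁻¹ᵁ U) :=
    preimage_preimage_eq hpb'.w.symm U
  have e : φ'.left ⁻¹ᵁ (α.left ⁻¹ᵁ U) ≤ pr.left ⁻¹ᵁ (φ.left ⁻¹ᵁ U) := hV.le
  -- injectivity of the pull back along `pr`
  have hprinj : Function.Injective
      (pr.left.appLE (φ.left ⁻¹ᵁ U) (φ'.left ⁻¹ᵁ (α.left ⁻¹ᵁ U)) e) := by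
    intro s₁ s₂ h12
    apply app_injective_of_flat_of_surjective pr.left (φ.left ⁻¹ᵁ U)
    have := congrArg (X'.left.presheaf.map (homOfLE hV.ge).op) h12
    rw [← CommRingCat.comp_apply, ← CommRingCat.comp_apply, Scheme.Hom.appLE_map] at this
    rw [Scheme.Hom.app_eq_appLE]
    exact this
  -- the basic compatibility
  have hcomp : ∀ t : Γ(Y.left, U),
      pr.left.appLE (φ.left ⁻¹ᵁ U) (φ'.left ⁻¹ᵁ (α.left ⁻¹ᵁ U)) e (φ.left.app U t) =
        φ'.left.app (α.left ⁻¹ᵁ U) (α.left.app U t) := by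
    intro t
    have k1 := appLE_appLE pr.left φ.left U (φ.left ⁻¹ᵁ U) (φ'.left ⁻¹ᵁ (α.left ⁻¹ᵁ U)) le_rfl e
      (by rw [Scheme.Hom.comp_preimage]; exact e) t
    have k2 := appLE_appLE φ'.left α.left U (α.left ⁻¹ᵁ U) (φ'.left ⁻¹ᵁ (α.left ⁻¹ᵁ U)) le_rfl
      le_rfl (by rw [Scheme.Hom.comp_preimage]) t
    have k3 := ConcreteCategory.congr_hom (appLE_congr_hom hpb'.w U
      (φ'.left ⁻¹ᵁ (α.left ⁻¹ᵁ U)) (by rw [Scheme.Hom.comp_preimage]; exact e)
      (by rw [Scheme.Hom.comp_preimage])) t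
    rw [Scheme.Hom.app_eq_appLE, Scheme.Hom.app_eq_appLE, Scheme.Hom.app_eq_appLE, k1, k3, ← k2]
  refine ⟨?_, ?_⟩
  · intro t₁ t₂ h12
    apply app_injective_of_flat_of_surjective α.left U
    apply (hsec (α.left ⁻¹ᵁ U)).1
    rw [← hcomp, ← hcomp, h12]
  · apply Set.Subset.antisymm
    · rintro _ ⟨t, rfl⟩
      have := isInvSection_appLE a φ φ hinv U U le_rfl t
      rw [← Scheme.Hom.app_eq_appLE] at this
      exact this
    · intro f hf
      have hf₁ := isInvSection_pullback a φ pr φ' a' heq U (α.left ⁻¹ᵁ U) f hf e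
      have hf₁' : pr.left.appLE (φ.left ⁻¹ᵁ U) (φ'.left ⁻¹ᵁ (α.left ⁻¹ᵁ U)) e f ∈
          Set.range (φ'.left.app (α.left ⁻¹ᵁ U)) := by
        rw [(hsec (α.left ⁻¹ᵁ U)).2]
        exact hf₁
      replace hf₁ := hf₁'
      obtain ⟨f', hf'⟩ := hf₁
      -- descent of `f'`
      have h2 : pullback.fst α.left α.left ⁻¹ᵁ α.left ⁻¹ᵁ U ≤
          pullback.snd α.left α.left ⁻¹ᵁ α.left ⁻¹ᵁ U :=
        (preimage_preimage_eq pullback.condition U).le
      -- the base change of `φ'` to `Y' ×_Y Y'`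
      set p₁ := pullback.fst α.left α.left with hp₁def
      set p₂ := pullback.snd α.left α.left with hp₂def
      have c2 : p₁ ≫ α.left = p₂ ≫ α.left := pullback.condition
      have hw₂inj := Scheme.Hom.app_injective (pullback.snd φ'.left p₁) (p₁ ⁻¹ᵁ α.left ⁻¹ᵁ U)
      have c1 : pullback.fst φ'.left p₁ ≫ φ'.left = pullback.snd φ'.left p₁ ≫ p₁ :=
        pullback.condition
      set w₁ := pullback.fst φ'.left p₁ with hw₁def
      set w₂ := pullback.snd φ'.left p₁ with hw₂def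
      have hvw : (w₁ ≫ pr.left) ≫ φ.left = (w₂ ≫ p₂) ≫ α.left := by
        rw [Category.assoc, hpb'.w, ← Category.assoc, c1, Category.assoc, c2, Category.assoc]
      have hv1 : hpb'.lift _ _ hvw ≫ pr.left = w₁ ≫ pr.left := hpb'.lift_fst _ _ _
      have hv2 : hpb'.lift _ _ hvw ≫ φ'.left = w₂ ≫ p₂ := hpb'.lift_snd _ _ _
      set v := hpb'.lift _ _ hvw with hvdef
      have eA : w₂ ⁻¹ᵁ p₁ ⁻¹ᵁ α.left ⁻¹ᵁ U ≤ w₁ ⁻¹ᵁ (φ'.left ⁻¹ᵁ (α.left ⁻¹ᵁ U)) :=
        (preimage_preimage_eq c1 _).ge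
      have eB : w₂ ⁻¹ᵁ p₁ ⁻¹ᵁ α.left ⁻¹ᵁ U ≤ v ⁻¹ᵁ (φ'.left ⁻¹ᵁ (α.left ⁻¹ᵁ U)) := by
        rw [preimage_preimage_eq hv2]
        exact Scheme.Hom.preimage_mono _ h2
      have hs : p₁.appLE (α.left ⁻¹ᵁ U) (p₁ ⁻¹ᵁ α.left ⁻¹ᵁ U) le_rfl f' =
          p₂.appLE (α.left ⁻¹ᵁ U) (p₁ ⁻¹ᵁ α.left ⁻¹ᵁ U) h2 f' := by
        apply hw₂inj
        rw [Scheme.Hom.app_eq_appLE]
        -- left side
        have l1 := appLE_appLE w₂ p₁ (α.left ⁻¹ᵁ U) (p₁ ⁻¹ᵁ α.left ⁻¹ᵁ U)
          (w₂ ⁻¹ᵁ p₁ ⁻¹ᵁ α.left ⁻¹ᵁ U) le_rfl le_rfl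
          (by rw [Scheme.Hom.comp_preimage]) f'
        have l2 := ConcreteCategory.congr_hom (appLE_congr_hom c1.symm (α.left ⁻¹ᵁ U)
          (w₂ ⁻¹ᵁ p₁ ⁻¹ᵁ α.left ⁻¹ᵁ U) (by rw [Scheme.Hom.comp_preimage])
          (by rw [Scheme.Hom.comp_preimage]; exact eA)) f'
        have l3 := appLE_appLE w₁ φ'.left (α.left ⁻¹ᵁ U) (φ'.left ⁻¹ᵁ (α.left ⁻¹ᵁ U))
          (w₂ ⁻¹ᵁ p₁ ⁻¹ᵁ α.left ⁻¹ᵁ U) le_rfl eA
          (by rw [Scheme.Hom.comp_preimage]; exact eA) f'
        have l4 := appLE_appLE w₁ pr.left (φ.left ⁻¹ᵁ U) (φ'.left ⁻¹ᵁ (α.left ⁻¹ᵁ U))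
          (w₂ ⁻¹ᵁ p₁ ⁻¹ᵁ α.left ⁻¹ᵁ U) e eA
          (by rw [Scheme.Hom.comp_preimage, ← hV]; exact eA) f
        -- right side
        have r1 := appLE_appLE w₂ p₂ (α.left ⁻¹ᵁ U) (p₁ ⁻¹ᵁ α.left ⁻¹ᵁ U)
          (w₂ ⁻¹ᵁ p₁ ⁻¹ᵁ α.left ⁻¹ᵁ U) h2 le_rfl
          (by rw [Scheme.Hom.comp_preimage]; exact Scheme.Hom.preimage_mono _ h2) f'
        have r2 := ConcreteCategory.congr_hom (appLE_congr_hom hv2.symm (α.left ⁻¹ᵁ U)
          (w₂ ⁻¹ᵁ p₁ ⁻¹ᵁ α.left ⁻¹ᵁ U)
          (by rw [Scheme.Hom.comp_preimage]; exact Scheme.Hom.preimage_mono _ h2)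
          (by rw [Scheme.Hom.comp_preimage]; exact eB)) f'
        have r3 := appLE_appLE v φ'.left (α.left ⁻¹ᵁ U) (φ'.left ⁻¹ᵁ (α.left ⁻¹ᵁ U))
          (w₂ ⁻¹ᵁ p₁ ⁻¹ᵁ α.left ⁻¹ᵁ U) le_rfl eB
          (by rw [Scheme.Hom.comp_preimage]; exact eB) f'
        have r4 := appLE_appLE v pr.left (φ.left ⁻¹ᵁ U) (φ'.left ⁻¹ᵁ (α.left ⁻¹ᵁ U))
          (w₂ ⁻¹ᵁ p₁ ⁻¹ᵁ α.left ⁻¹ᵁ U) e eB
          (by rw [Scheme.Hom.comp_preimage, ← hV]; exact eB) f
        have r5 := ConcreteCategory.congr_hom (appLE_congr_hom hv1 (φ.left ⁻¹ᵁ U)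
          (w₂ ⁻¹ᵁ p₁ ⁻¹ᵁ α.left ⁻¹ᵁ U)
          (by rw [Scheme.Hom.comp_preimage, ← hV]; exact eB)
          (by rw [Scheme.Hom.comp_preimage, ← hV]; exact eA)) f
        rw [Scheme.Hom.app_eq_appLE] at hf'
        rw [l1, l2, ← l3, hf', l4, r1, r2, ← r3, hf', r4, r5]
      obtain ⟨f₀, hf₀⟩ := exists_app_eq_of_flat α.left U f' h2 hs
      refine ⟨f₀, hprinj ?_⟩
      rw [hcomp, hf₀, hf']

include hinv hpb heq hinv' in
/-- fpqc descent of geometric quotients -/
theorem isGeomQuot_descent [Flat α.left] [Surjective α.left] [QuasiCompact α.left]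
    [QuasiCompact φ.left] (h : GIT.IsGeomQuot a' φ') : GIT.IsGeomQuot a φ where
  inv := hinv
  surj := surj_descent φ α pr φ' hpb h.surj
  orbit := orbit_descent a φ hinv α pr φ' hpb a' heq hinv' h.orbit
  subm := subm_descent φ α pr φ' hpb h.subm
  sections := sections_descent a φ hinv α pr φ' hpb a' heq h.sections

include hinv hpb heq hinv' in
/-- fpqc descent of universal geometric quotients -/
theorem isUnivGeomQuot_descent [Flat α.left] [Surjective α.left] [QuasiCompact α.left]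
    [QuasiCompact φ.left] (h : GIT.IsUnivGeomQuot a' φ') : GIT.IsUnivGeomQuot a φ := by
  refine ⟨isGeomQuot_descent a φ hinv α pr φ' hpb a' heq hinv' h.1, ?_⟩
  intro X₁ Y₁ pr₁ φ₁ g _ hpb₁ a₁ heq₁ hinv₁
  -- the base change of the covering
  have sq₁ := IsPullback.of_hasPullback g α
  have sq₁' : IsPullback (pullback.snd g α).left (pullback.fst g α).left α.left g.left :=
    (sq₁.map (Over.forget S)).flip
  have : Flat (pullback.fst g α).left :=
    MorphismProperty.of_isPullback (P := @Flat) sq₁' inferInstance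
  have : Surjective (pullback.fst g α).left :=
    MorphismProperty.of_isPullback (P := @Surjective) sq₁' inferInstance
  have : QuasiCompact (pullback.fst g α).left :=
    MorphismProperty.of_isPullback (P := @QuasiCompact) sq₁' inferInstance
  have hpb₁' : IsPullback pr₁.left φ₁.left φ.left g.left := hpb₁.map (Over.forget S)
  have : QuasiCompact φ₁.left :=
    MorphismProperty.of_isPullback (P := @QuasiCompact) hpb₁' inferInstance
  have sq₂ := IsPullback.of_hasPullback φ₁ (pullback.fst g α)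
  -- the comparison with `X'`
  have hkw : (pullback.fst φ₁ (pullback.fst g α) ≫ pr₁) ≫ φ =
      (pullback.snd φ₁ (pullback.fst g α) ≫ pullback.snd g α) ≫ α := by
    rw [Category.assoc, hpb₁.w, ← Category.assoc, sq₂.w, Category.assoc, sq₁.w, Category.assoc]
  obtain ⟨k, hk1, hk2⟩ : ∃ k, k ≫ pr = pullback.fst φ₁ (pullback.fst g α) ≫ pr₁ ∧
      k ≫ φ' = pullback.snd φ₁ (pullback.fst g α) ≫ pullback.snd g α :=
    ⟨hpb.lift _ _ hkw, hpb.lift_fst _ _ _, hpb.lift_snd _ _ _⟩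
  have hbig : IsPullback (pullback.fst φ₁ (pullback.fst g α) ≫ pr₁)
      (pullback.snd φ₁ (pullback.fst g α)) φ (pullback.fst g α ≫ g) := sq₂.paste_horiz hpb₁
  have hbig' : IsPullback (k ≫ pr) (pullback.snd φ₁ (pullback.fst g α)) φ
      (pullback.snd g α ≫ α) := by
    rw [hk1, ← sq₁.w]
    exact hbig
  have hleft : IsPullback k (pullback.snd φ₁ (pullback.fst g α)) φ'
      (pullback.snd g α) := hbig'.of_right hk2 hpb
  -- the induced action
  have heqk : (GITBC.bcAct a₁ hinv₁ sq₂).act ≫ k = (G ◁ k) ≫ a'.act := by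
    apply hpb.hom_ext
    · rw [Category.assoc, hk1, ← Category.assoc, GITBC.bcAct_equivariant, Category.assoc, heq₁,
        ← Category.assoc, ← MonoidalCategory.whiskerLeft_comp, ← hk1,
        MonoidalCategory.whiskerLeft_comp, Category.assoc, Category.assoc, heq]
    · rw [Category.assoc, hk2, ← Category.assoc, GITBC.bcAct_invariant a₁ hinv₁ sq₂,
        Category.assoc, Category.assoc, hinv', whiskerLeft_snd_assoc, hk2]
  have hG : GIT.IsGeomQuot (GITBC.bcAct a₁ hinv₁ sq₂) (pullback.snd φ₁ (pullback.fst g α)) :=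
    h.2 _ _ _ trivial hleft _ heqk (GITBC.bcAct_invariant a₁ hinv₁ sq₂)
  exact isGeomQuot_descent a₁ φ₁ hinv₁ (pullback.fst g α) _ _ sq₂ _
    (GITBC.bcAct_equivariant a₁ hinv₁ sq₂) (GITBC.bcAct_invariant a₁ hinv₁ sq₂) hG

end Descent

end Groth.Agent.Lib.Seat51.GITDescent
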