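import Mathlib
import Groth.Prelude.Def_ChGrp
import Groth.Prelude.Def_W4c6nonredquotmfGoodQuot
import Groth.Agent.Lib.Helper11HomSm
import Groth.Agent.Lib.Helper11KPts
import Groth.Agent.Lib.Seat51StabFinite

/-!
# Good quotients: orbits of rational points (seat 51)

* `isInvariantSet_range_orbitMap`, `isInvariantSet_closure`: orbits and closures of invariant sets are invariant;
* `inter_nonempty_of_image_inter_nonempty`: two invariant closed sets whose images meet, meet;
* `exists_act_eq_of_mem_range`: a rational point lying in the orbit of a rational point is a translate of it by a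
  rational point of the group;
* `exists_point_mem`: a nonempty closed subset of a scheme locally of finite type over an algebraically closed field
  contains a rational point.
-/

set_option autoImplicit false
universe u
open CategoryTheory MonoidalCategory CartesianMonoidalCategory MonObj AlgebraicGeometry Topology Limits
open Groth.Agent.Lib.Seat51.StabFinite

namespace Groth.Agent.Lib.Seat51.GoodQuot

section General

variable {S : Scheme.{u}} {G X Y : Over S} [GrpObj G]

lemma exists_preimage_of_isPullback {P A B C : Scheme.{u}} {p₁ : P ⟶ A} {p₂ : P ⟶ B} {f : A ⟶ C}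
    {g : B ⟶ C} (h : IsPullback p₁ p₂ f g) (x : A) (y : B) (hxy : f x = g y) :
    ∃ z : P, p₁ z = x ∧ p₂ z = y := by
  obtain ⟨z, hz1, hz2⟩ := Scheme.Pullback.exists_preimage_pullback x y hxy
  refine ⟨h.isoPullback.inv z, ?_, ?_⟩
  · rw [← Scheme.Hom.comp_apply, h.isoPullback_inv_fst, hz1]
  · rw [← Scheme.Hom.comp_apply, h.isoPullback_inv_snd, hz2]

lemma isPullback_whiskerLeft (G : Over S) {A B : Over S} (o : A ⟶ B) :
    IsPullback (G ◁ o) (snd G A) (snd G B) o := by
  refine ⟨⟨by simp⟩, ⟨PullbackCone.IsLimit.mk _ (fun s => lift (s.fst ≫ fst G B) s.snd) ?_ ?_ ?_⟩⟩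
  · intro s
    apply CartesianMonoidalCategory.hom_ext
    · simp
    · simp [s.condition]
  · intro s
    simp
  · intro s m hm1 hm2
    apply CartesianMonoidalCategory.hom_ext
    · rw [lift_fst, ← hm1]
      simp
    · rw [lift_snd, ← hm2]

/-- `g • (h • x) = (g h) • x` for the orbit map -/
lemma whiskerLeft_orbitMap_act (a : AlgGrp.Action G X) (x : 𝟙_ (Over S) ⟶ X) :
    (G ◁ a.orbitMap x) ≫ a.act = μ[G] ≫ a.orbitMap x := by
  have h1 : μ[G] = fst G G * snd G G := by
    rw [Hom.mul_def, lift_fst_snd, Category.id_comp]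
  have h2 : G ◁ a.orbitMap x = lift (fst G G) (snd G G ≫ a.orbitMap x) := by
    apply CartesianMonoidalCategory.hom_ext <;> simp
  rw [AlgGrp.Action.comp_orbitMap, h1, AlgGrp.Action.lift_mul_act, ← AlgGrp.Action.comp_orbitMap, h2]

/-- orbits of sections are invariant -/
theorem isInvariantSet_range_orbitMap (a : AlgGrp.Action G X) (x : 𝟙_ (Over S) ⟶ X) :
    NRQuot.IsInvariantSet a (Set.range (a.orbitMap x).left.base) := by
  rintro p ⟨g₀, hg₀⟩
  have hpb : IsPullback (G ◁ a.orbitMap x).left (snd G G).left (snd G X).left (a.orbitMap x).left :=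
    (isPullback_whiskerLeft G (a.orbitMap x)).map (Over.forget _)
  obtain ⟨q, hq1, -⟩ := exists_preimage_of_isPullback hpb p g₀ hg₀.symm
  refine ⟨(μ[G] : G ⊗ G ⟶ G).left q, ?_⟩
  rw [← hq1, ← Scheme.Hom.comp_apply, ← Scheme.Hom.comp_apply, ← Over.comp_left, ← Over.comp_left,
    whiskerLeft_orbitMap_act]

/-- closures of invariant sets are invariant, when the projection `G × X → X` is open -/
theorem isInvariantSet_closure (a : AlgGrp.Action G X) (W : Set ↥X.left)
    (hW : NRQuot.IsInvariantSet a W) (hopen : IsOpenMap (snd G X).left.base) :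
    NRQuot.IsInvariantSet a (closure W) := by
  intro p hp
  have h1 : p ∈ closure ((snd G X).left.base ⁻¹' W) :=
    hopen.preimage_closure_subset_closure_preimage hp
  have h2 : a.act.left.base p ∈ closure (a.act.left.base '' ((snd G X).left.base ⁻¹' W)) :=
    image_closure_subset_closure_image a.act.left.continuous ⟨p, h1, rfl⟩
  refine closure_mono ?_ h2
  rintro _ ⟨q, hq, rfl⟩
  exact hW q hq

/-- two closed invariant sets whose images under a good quotient meet, meet -/
theorem inter_nonempty_of_image_inter_nonempty {a : AlgGrp.Action G X} {φ : X ⟶ Y}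
    (h : NRQuot.IsGoodQuot a φ) (W₁ W₂ : Set ↥X.left) (hc₁ : IsClosed W₁) (hc₂ : IsClosed W₂)
    (hi₁ : NRQuot.IsInvariantSet a W₁) (hi₂ : NRQuot.IsInvariantSet a W₂) (y : ↥Y.left)
    (hy₁ : y ∈ φ.left.base '' W₁) (hy₂ : y ∈ φ.left.base '' W₂) : (W₁ ∩ W₂).Nonempty := by
  have key := h.inter (ULift.{u} Bool) (fun i => cond i.down W₁ W₂)
    (by rintro ⟨_ | _⟩ <;> assumption) (by rintro ⟨_ | _⟩ <;> assumption)
  have hy : y ∈ ⋂ i : ULift.{u} Bool, φ.left.base '' (cond i.down W₁ W₂) := by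
    rw [Set.mem_iInter]
    rintro ⟨_ | _⟩ <;> assumption
  rw [← key] at hy
  obtain ⟨w, hw, -⟩ := hy
  rw [Set.mem_iInter] at hw
  exact ⟨w, hw ⟨true⟩, hw ⟨false⟩⟩

end General

section Sections

open IsLocalRing

theorem specMap_apply_asIdeal {A : CommRingCat.{u}} {K : Type u} [Field K]
    (φ : A ⟶ CommRingCat.of K) (t : PrimeSpectrum K) :
    (PrimeSpectrum.comap φ.hom t).asIdeal = RingHom.ker φ.hom := by
  change Ideal.comap φ.hom t.asIdeal = _
  rw [Ideal.eq_bot_of_prime t.asIdeal]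
  rfl

/-- the image point of a section of a scheme over a field is closed -/
theorem isClosed_singleton_of_section {k : Type u} [Field k] {Y : Scheme.{u}}
    (q : Y ⟶ Spec (CommRingCat.of k)) (f : Spec (CommRingCat.of k) ⟶ Y) (hf : f ≫ q = 𝟙 _)
    (t : ↥(Spec (CommRingCat.of k))) : IsClosed ({f t} : Set Y) := by
  apply isClosed_of_closure_subset
  intro η' hη'
  rw [← specializes_iff_mem_closure] at hη'
  obtain ⟨V, hV, hη'V, -⟩ := exists_isAffineOpen_mem_and_subset (x := η') (U := (⊤ : Y.Opens)) trivial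
  have hηV : f t ∈ V := hη'.mem_open V.isOpen hη'V
  have hsub : Subsingleton ↥(Spec (CommRingCat.of k)) :=
    inferInstanceAs (Subsingleton (PrimeSpectrum k))
  have hrange : Set.range f ⊆ Set.range hV.fromSpec := by
    rintro _ ⟨s, rfl⟩
    rw [hV.range_fromSpec, hsub.elim s t]
    exact hηV
  obtain ⟨f', hf'⟩ : ∃ f' : Spec (CommRingCat.of k) ⟶ Spec Γ(Y, V), f' ≫ hV.fromSpec = f :=
    ⟨IsOpenImmersion.lift hV.fromSpec f hrange, IsOpenImmersion.lift_fac _ _ _⟩
  obtain ⟨ψ, rfl⟩ : ∃ ψ : Γ(Y, V) ⟶ CommRingCat.of k, Spec.map ψ = f' :=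
    ⟨Spec.preimage f', Spec.map_preimage f'⟩
  obtain ⟨cc, hcc⟩ : ∃ cc : CommRingCat.of k ⟶ Γ(Y, V), Spec.map cc = hV.fromSpec ≫ q :=
    ⟨Spec.preimage _, Spec.map_preimage _⟩
  have hccψ : cc ≫ ψ = 𝟙 _ := by
    apply Spec.map_injective
    rw [Spec.map_comp, hcc, ← Category.assoc, hf', hf, Spec.map_id]
  have hsurj : Function.Surjective ψ.hom := by
    intro c
    refine ⟨cc.hom c, ?_⟩
    have := congrArg (fun m => m.hom c) hccψ
    simpa using this
  have hmax : (RingHom.ker ψ.hom).IsMaximal := RingHom.ker_isMaximal_of_surjective ψ.hom hsurj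
  obtain ⟨ζ, hζdef⟩ : ∃ ζ : ↥(Spec Γ(Y, V)), ζ = (Spec.map ψ) t := ⟨_, rfl⟩
  have hζ : IsClosed ({ζ} : Set ↥(Spec Γ(Y, V))) := by
    have h0 : IsClosed ({PrimeSpectrum.comap ψ.hom t} : Set (PrimeSpectrum Γ(Y, V))) :=
      (PrimeSpectrum.isClosed_singleton_iff_isMaximal _).mpr
        (Eq.mpr (congrArg Ideal.IsMaximal (specMap_apply_asIdeal ψ t)) hmax)
    rw [hζdef]
    exact h0
  have hpt : hV.fromSpec ζ = f t := by rw [hζdef, ← hf', Scheme.Hom.comp_apply]
  obtain ⟨ζ', hζ'⟩ : η' ∈ Set.range hV.fromSpec := by rw [hV.range_fromSpec]; exact hη'V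
  have hspec : ζ ⤳ ζ' := by
    rw [← hV.fromSpec.isOpenEmbedding.isInducing.specializes_iff, hζ', hpt]
    exact hη'
  have : ζ' ∈ ({ζ} : Set (Spec Γ(Y, V))) := by
    rw [← hζ.closure_eq, ← specializes_iff_mem_closure]
    exact hspec
  rw [Set.mem_singleton_iff] at this
  rw [Set.mem_singleton_iff, ← hζ', this, hpt]

/-- sections of a scheme over a field with the same image point are equal -/
theorem section_ext {k : Type u} [Field k] {Y : Scheme.{u}}
    (q : Y ⟶ Spec (CommRingCat.of k)) (f₁ f₂ : Spec (CommRingCat.of k) ⟶ Y) (h₁ : f₁ ≫ q = 𝟙 _)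
    (h₂ : f₂ ≫ q = 𝟙 _) (e : f₁ (closedPoint k) = f₂ (closedPoint k)) : f₁ = f₂ := by
  obtain ⟨ψ₁, hψ₁⟩ : ∃ ψ₁ : Y.residueField (f₁ (closedPoint k)) ⟶ CommRingCat.of k,
      Spec.map ψ₁ ≫ Y.fromSpecResidueField (f₁ (closedPoint k)) = f₁ :=
    ⟨_, Scheme.descResidueField_stalkClosedPointTo_fromSpecResidueField k Y f₁⟩
  obtain ⟨η₂, ψ₂, hψ₂, e'⟩ : ∃ (η₂ : Y) (ψ₂ : Y.residueField η₂ ⟶ CommRingCat.of k),
      Spec.map ψ₂ ≫ Y.fromSpecResidueField η₂ = f₂ ∧ f₁ (closedPoint k) = η₂ :=
    ⟨_, _, Scheme.descResidueField_stalkClosedPointTo_fromSpecResidueField k Y f₂, e⟩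
  subst e'
  obtain ⟨cc, hcc⟩ : ∃ cc : CommRingCat.of k ⟶ Y.residueField (f₁ (closedPoint k)),
      Spec.map cc = Y.fromSpecResidueField (f₁ (closedPoint k)) ≫ q :=
    ⟨Spec.preimage _, Spec.map_preimage _⟩
  have hcc₁ : cc ≫ ψ₁ = 𝟙 _ := by
    apply Spec.map_injective
    rw [Spec.map_comp, hcc, ← Category.assoc, hψ₁, h₁, Spec.map_id]
  have hcc₂ : cc ≫ ψ₂ = 𝟙 _ := by
    apply Spec.map_injective
    rw [Spec.map_comp, hcc, ← Category.assoc, hψ₂, h₂, Spec.map_id]
  have hψ : ψ₁ = ψ₂ := by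
    ext a
    have hinj : Function.Injective ψ₁.hom := RingHom.injective _
    have h3 : ∀ c : k, ψ₁.hom (cc.hom c) = c := fun c => by
      have := congrArg (fun m => m.hom c) hcc₁
      simpa using this
    have h4 : ∀ c : k, ψ₂.hom (cc.hom c) = c := fun c => by
      have := congrArg (fun m => m.hom c) hcc₂
      simpa using this
    have h5 : cc.hom (ψ₁.hom a) = a := hinj (h3 _)
    calc ψ₁.hom a = ψ₂.hom (cc.hom (ψ₁.hom a)) := (h4 _).symm
      _ = ψ₂.hom a := by rw [h5]
  rw [← hψ₁, ← hψ₂, hψ]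

end Sections

section Field

variable {k : Type u} [Field k] {G X Y : Over (Spec (CommRingCat.of k))} [GrpObj G]

omit [GrpObj G] in
lemma isOpenMap_snd : IsOpenMap (snd G X).left.base := by
  have : UniversallyOpen G.hom := inferInstance
  show IsOpenMap (pullback.snd G.hom X.hom).base
  exact (pullback.snd G.hom X.hom).isOpenMap

lemma toUnit_unit : toUnit (𝟙_ (Over (Spec (CommRingCat.of k)))) = 𝟙 _ := toUnit_unique _ _

/-- the unit section lies on its orbit -/
lemma one_comp_orbitMap (a : AlgGrp.Action G X) (x : 𝟙_ (Over (Spec (CommRingCat.of k))) ⟶ X) :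
    (1 : 𝟙_ (Over (Spec (CommRingCat.of k))) ⟶ G) ≫ a.orbitMap x = x := by
  rw [AlgGrp.Action.comp_orbitMap, toUnit_unit, Category.id_comp, AlgGrp.Action.lift_one_act]

lemma mem_range_orbitMap (a : AlgGrp.Action G X) (x : 𝟙_ (Over (Spec (CommRingCat.of k))) ⟶ X)
    (t : ↥(𝟙_ (Over (Spec (CommRingCat.of k)))).left) :
    x.left.base t ∈ Set.range (a.orbitMap x).left.base := by
  refine ⟨(1 : 𝟙_ (Over (Spec (CommRingCat.of k))) ⟶ G).left.base t, ?_⟩
  change ((1 : 𝟙_ (Over (Spec (CommRingCat.of k))) ⟶ G).left ≫ (a.orbitMap x).left) t = _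
  rw [← Over.comp_left, one_comp_orbitMap]

lemma subsingleton_unit : Subsingleton ↥(𝟙_ (Over (Spec (CommRingCat.of k)))).left :=
  inferInstanceAs (Subsingleton (PrimeSpectrum k))

lemma nonempty_unit : Nonempty ↥(𝟙_ (Over (Spec (CommRingCat.of k)))).left :=
  inferInstanceAs (Nonempty (PrimeSpectrum k))

omit [GrpObj G] in
/-- rational points are closed points -/
theorem isClosed_singleton_point (y : 𝟙_ (Over (Spec (CommRingCat.of k))) ⟶ Y)
    (t : ↥(𝟙_ (Over (Spec (CommRingCat.of k)))).left) : IsClosed ({y.left.base t} : Set ↥Y.left) :=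
  isClosed_singleton_of_section Y.hom y.left (Over.w y) t

omit [GrpObj G] in
/-- rational points with the same underlying point are equal -/
theorem point_ext (y₁ y₂ : 𝟙_ (Over (Spec (CommRingCat.of k))) ⟶ Y)
    (t : ↥(𝟙_ (Over (Spec (CommRingCat.of k)))).left) (e : y₁.left.base t = y₂.left.base t) :
    y₁ = y₂ := by
  ext1
  refine section_ext Y.hom y₁.left y₂.left (Over.w y₁) (Over.w y₂) ?_
  have h := subsingleton_unit (k := k)
  rw [h.elim (IsLocalRing.closedPoint k) t]
  exact e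

/-- an invariant morphism is constant on orbits -/
lemma orbitMap_comp (a : AlgGrp.Action G X) (φ : X ⟶ Y) (hinv : GIT.IsInvariant a φ)
    (x : 𝟙_ (Over (Spec (CommRingCat.of k))) ⟶ X) : a.orbitMap x ≫ φ = toUnit G ≫ x ≫ φ := by
  unfold AlgGrp.Action.orbitMap
  have hinv' : a.act ≫ φ = snd G X ≫ φ := hinv
  rw [Category.assoc, hinv', ← Category.assoc, lift_snd, Category.assoc]

/-- a good quotient contracts orbit closures of rational points to points -/
theorem image_closure_orbit_subset (a : AlgGrp.Action G X) (φ : X ⟶ Y) (hinv : GIT.IsInvariant a φ)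
    (x : 𝟙_ (Over (Spec (CommRingCat.of k))) ⟶ X)
    (t : ↥(𝟙_ (Over (Spec (CommRingCat.of k)))).left) :
    φ.left.base '' closure (Set.range (a.orbitMap x).left.base) ⊆ {(x ≫ φ).left.base t} := by
  refine (image_closure_subset_closure_image φ.left.continuous).trans ?_
  rw [← (isClosed_singleton_point (x ≫ φ) t).closure_eq]
  apply closure_mono
  rintro _ ⟨_, ⟨g₀, rfl⟩, rfl⟩
  have h1 : φ.left.base ((a.orbitMap x).left.base g₀) = (a.orbitMap x ≫ φ).left.base g₀ := rfl
  rw [h1, orbitMap_comp a φ hinv]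
  have h := subsingleton_unit (k := k)
  show (x ≫ φ).left.base ((toUnit G).left.base g₀) = _
  rw [h.elim ((toUnit G).left.base g₀) t]

variable [IsAlgClosed k]

/-- a nonempty closed subset of a scheme locally of finite type over an algebraically closed field contains a
rational point -/
theorem exists_point_mem [LocallyOfFiniteType X.hom] (W : Set ↥X.left) (hW : IsClosed W)
    (hne : W.Nonempty) :
    ∃ z : 𝟙_ (Over (Spec (CommRingCat.of k))) ⟶ X, ∀ t, z.left.base t ∈ W := by
  have hJ : JacobsonSpace ↥X.left := LocallyOfFiniteType.jacobsonSpace X.hom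
  obtain ⟨w, hw1, hw2⟩ := nonempty_inter_closedPoints hne hW.isLocallyClosed
  obtain ⟨p, hp1, hp2⟩ := Groth.Agent.Lib.Helper11KPts.exists_point_of_closedPoint (K := k) X.hom w hw2
  have hid : Spec.map (CommRingCat.ofHom (algebraMap k k)) = 𝟙 (Spec (CommRingCat.of k)) := by
    rw [Algebra.algebraMap_self]
    exact Spec.map_id _
  refine ⟨Over.homMk p (by rw [hp1, hid]; rfl), fun t => ?_⟩
  change p t ∈ W
  rw [hp2]
  exact hw1

/-- a rational point lying on the orbit of a rational point is a translate of it -/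
theorem exists_act_eq_of_mem_range [LocallyOfFiniteType G.hom] (a : AlgGrp.Action G X)
    (x z : 𝟙_ (Over (Spec (CommRingCat.of k))) ⟶ X)
    (hz : ∃ t, z.left.base t ∈ Set.range (a.orbitMap x).left.base) :
    ∃ g : 𝟙_ (Over (Spec (CommRingCat.of k))) ⟶ G, lift g x ≫ a.act = z := by
  obtain ⟨t, g₀, hg₀⟩ := hz
  have hlft : LocallyOfFiniteType (a.orbitMap x).left := by
    have : LocallyOfFiniteType ((a.orbitMap x).left ≫ X.hom) := by rw [Over.w]; infer_instance
    exact locallyOfFiniteType_of_comp (a.orbitMap x).left X.hom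
  have hsub : Subsingleton ↥(Spec (CommRingCat.of k)) :=
    inferInstanceAs (Subsingleton (PrimeSpectrum k))
  have hsurj : Surjective (pullback.snd (a.orbitMap x).left z.left) := by
    obtain ⟨w, -, hw2⟩ := Scheme.Pullback.exists_preimage_pullback g₀ t hg₀
    exact ⟨fun s => ⟨w, hsub.elim _ _⟩⟩
  obtain ⟨g', hg'⟩ := Groth.Agent.Lib.Helper11HomSm.exists_lift_point
    (pullback.snd (a.orbitMap x).left z.left) (𝟙 (Spec (CommRingCat.of k)))
  have h1 : (g' ≫ pullback.fst (a.orbitMap x).left z.left) ≫ (a.orbitMap x).left = z.left := by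
    rw [Category.assoc, pullback.condition, ← Category.assoc, hg']
    exact Category.id_comp _
  have h0 : (g' ≫ pullback.fst (a.orbitMap x).left z.left) ≫ G.hom =
      (𝟙_ (Over (Spec (CommRingCat.of k)))).hom := by
    rw [← Over.w (a.orbitMap x), ← Category.assoc, h1]
    exact Over.w z
  obtain ⟨g, hg⟩ : ∃ g : 𝟙_ (Over (Spec (CommRingCat.of k))) ⟶ G,
      g.left = g' ≫ pullback.fst (a.orbitMap x).left z.left := ⟨Over.homMk _ h0, rfl⟩
  have h2 : g ≫ a.orbitMap x = z := by
    ext1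
    rw [Over.comp_left, hg]
    exact h1
  rw [AlgGrp.Action.comp_orbitMap, toUnit_unit, Category.id_comp] at h2
  exact ⟨g, h2⟩

end Field

end Groth.Agent.Lib.Seat51.GoodQuot
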