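import Mathlib
import Groth.Agent.Lib.Helper25OrbitLC
import Groth.Agent.Lib.Seat51GoodQuot

/-!
# Good quotients: closed orbits in fibres (seat 51)

* `isLocallyClosed_range_orbitMap_of_subset`: the orbit of a rational point contained in an affine open is locally
  closed (no quasi-compactness of the ambient scheme);
-/

set_option autoImplicit false
universe u
open CategoryTheory MonoidalCategory CartesianMonoidalCategory MonObj AlgebraicGeometry Topology Limits

namespace Groth.Agent.Lib.Seat51.GoodQuot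

open Groth.Agent.Lib.Helper25.OrbitLC Groth.Agent.Lib.Helper25.TopGrp

section LC

variable {k : Type u} [Field k] {G X : Over (Spec (CommRingCat.of k))} [GrpObj G]

/-- the orbit of a rational point is locally closed as soon as it is contained in an affine open -/
theorem isLocallyClosed_range_orbitMap_of_subset [IsAffine G.left] [LocallyOfFiniteType G.hom]
    [LocallyOfFiniteType X.hom] (a : AlgGrp.Action G X)
    (x : 𝟙_ (Over (Spec (CommRingCat.of k))) ⟶ X) (U : X.left.Opens) (hU : IsAffineOpen U)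
    (hOU : Set.range (a.orbitMap x).left.base ⊆ (U : Set ↥X.left)) :
    IsLocallyClosed (Set.range (a.orbitMap x).left.base) := by
  have hrange : Set.range (a.orbitMap x).left ⊆ Set.range U.ι := by
    rw [Scheme.Opens.range_ι]; exact hOU
  obtain ⟨o', ho'⟩ : ∃ o' : G.left ⟶ U.toScheme, o' ≫ U.ι = (a.orbitMap x).left :=
    ⟨IsOpenImmersion.lift U.ι _ hrange, IsOpenImmersion.lift_fac _ _ _⟩
  have hUaff : IsAffine U.toScheme := hU
  have hlftU : LocallyOfFiniteType (U.ι ≫ X.hom) := inferInstance
  have hnU : IsLocallyNoetherian U.toScheme := LocallyOfFiniteType.isLocallyNoetherian (U.ι ≫ X.hom)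
  have hlft : LocallyOfFiniteType o' := by
    have : LocallyOfFiniteType (o' ≫ (U.ι ≫ X.hom)) := by
      rw [← Category.assoc, ho', Over.w]; infer_instance
    exact locallyOfFiniteType_of_comp o' (U.ι ≫ X.hom)
  have hlfp : LocallyOfFinitePresentation o' := inferInstance
  have hqc : QuasiCompact o' := inferInstance
  have hcons : Topology.IsConstructible (Set.range o') := by
    rw [← Set.image_univ]
    exact o'.isConstructible_image Topology.IsConstructible.univ
  have hne : (Set.range o').Nonempty := by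
    have : Nonempty G.left := ⟨η[G].left (IsLocalRing.closedPoint k)⟩
    exact Set.range_nonempty _
  obtain ⟨V, hV, hVne, hVsub⟩ := (IsFinLC.of_isConstructible hcons).exists_isOpen hne
  have hOeq : Set.range (a.orbitMap x).left = U.ι '' Set.range o' := by
    rw [← Set.range_comp, ← ho']
    rfl
  have hemb : IsOpenEmbedding U.ι := U.ι.isOpenEmbedding
  have hcl : closure (Set.range (a.orbitMap x).left) ∩ Set.range U.ι =
      U.ι '' closure (Set.range o') := by
    rw [hOeq, hemb.isInducing.closure_eq_preimage_closure_image, Set.image_preimage_eq_inter_range]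
  refine isLocallyClosed_range_orbitMap_of_exists_isOpen a x (fun s s' => Subsingleton.elim _ _)
    (U.ι '' V) (hemb.isOpenMap _ hV) ?_ ?_
  · obtain ⟨v, hvV, hvc⟩ := hVne
    refine ⟨U.ι v, ⟨v, hvV, rfl⟩, ?_⟩
    have : U.ι v ∈ U.ι '' closure (Set.range o') := ⟨v, hvc, rfl⟩
    rw [← hcl] at this
    exact this.1
  · rintro _ ⟨⟨v, hvV, rfl⟩, hvc⟩
    have h1 : U.ι v ∈ closure (Set.range (a.orbitMap x).left) ∩ Set.range U.ι := ⟨hvc, v, rfl⟩
    rw [hcl] at h1
    obtain ⟨v', hv'c, hv'⟩ := h1
    have : v' = v := hemb.injective hv'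
    subst this
    rw [hOeq]
    exact ⟨v', hVsub ⟨hvV, hv'c⟩, rfl⟩

end LC

section Minimal

variable {S : Scheme.{u}} {G X Y : Over S} [GrpObj G]

/-- a good quotient is surjective -/
theorem surjective_of_goodQuot {a : AlgGrp.Action G X} {φ : X ⟶ Y} (h : NRQuot.IsGoodQuot a φ) :
    Function.Surjective φ.left.base := by
  have hs := h.inter PEmpty.{u + 1} (fun i => i.elim) (fun i => i.elim) (fun i => i.elim)
  rw [Set.iInter_of_empty, Set.iInter_of_empty, Set.image_univ] at hs
  exact Set.range_eq_univ.mp hs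

/-- a nonempty compact closed invariant set contains a minimal nonempty closed invariant set -/
theorem exists_minimal_invariant (a : AlgGrp.Action G X) (F : Set ↥X.left) (hFcl : IsClosed F)
    (hFc : IsCompact F) (hFinv : NRQuot.IsInvariantSet a F) (hFne : F.Nonempty) :
    ∃ W : Set ↥X.left, IsClosed W ∧ NRQuot.IsInvariantSet a W ∧ W.Nonempty ∧ W ⊆ F ∧
      ∀ W' : Set ↥X.left, IsClosed W' → NRQuot.IsInvariantSet a W' → W'.Nonempty → W' ⊆ W →
        W' = W := by
  have hZ : ∀ c ⊆ {W : Set ↥X.left | IsClosed W ∧ NRQuot.IsInvariantSet a W ∧ W.Nonempty ∧ W ⊆ F},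
      IsChain (· ⊆ ·) c → c.Nonempty →
      ∃ lb ∈ {W : Set ↥X.left | IsClosed W ∧ NRQuot.IsInvariantSet a W ∧ W.Nonempty ∧ W ⊆ F},
        ∀ s ∈ c, lb ⊆ s := by
    intro c hc hchain hcne
    refine ⟨⋂₀ c, ⟨isClosed_sInter fun W hW => (hc hW).1, ?_, ?_, ?_⟩,
      fun s hs => Set.sInter_subset_of_mem hs⟩
    · intro p hp
      rw [Set.mem_sInter] at hp ⊢
      exact fun W hW => (hc hW).2.1 p (hp W hW)
    · have : Nonempty c := hcne.to_subtype
      have hdir : DirectedOn (· ⊇ ·) c := by
        intro A hA B hB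
        rcases hchain.total hA hB with h | h
        · exact ⟨A, hA, subset_rfl, h⟩
        · exact ⟨B, hB, h, subset_rfl⟩
      refine IsCompact.nonempty_sInter_of_directed_nonempty_isCompact_isClosed
        hdir (fun W hW => (hc hW).2.2.1)
        (fun W hW => hFc.of_isClosed_subset (hc hW).1 (hc hW).2.2.2) (fun W hW => (hc hW).1)
    · obtain ⟨W₀, hW₀⟩ := hcne
      exact (Set.sInter_subset_of_mem hW₀).trans (hc hW₀).2.2.2
  obtain ⟨W, -, hW⟩ := zorn_superset_nonempty
    {W : Set ↥X.left | IsClosed W ∧ NRQuot.IsInvariantSet a W ∧ W.Nonempty ∧ W ⊆ F} hZ F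
    ⟨hFcl, hFinv, hFne, subset_rfl⟩
  obtain ⟨⟨h1, h2, h3, h4⟩, hmin⟩ := hW
  refine ⟨W, h1, h2, h3, h4, fun W' h1' h2' h3' hsub => ?_⟩
  exact le_antisymm hsub (hmin ⟨h1', h2', h3', hsub.trans h4⟩ hsub)

end Minimal

section Exists

variable {k : Type u} [Field k] {G X Y : Over (Spec (CommRingCat.of k))} [GrpObj G]

/-- the orbit of a rational point of an invariant set stays in the set -/
lemma range_orbitMap_subset (a : AlgGrp.Action G X) (W : Set ↥X.left)
    (hW : NRQuot.IsInvariantSet a W) (x : 𝟙_ (Over (Spec (CommRingCat.of k))) ⟶ X)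
    (t : ↥(𝟙_ (Over (Spec (CommRingCat.of k)))).left) (hx : x.left.base t ∈ W) :
    Set.range (a.orbitMap x).left.base ⊆ W := by
  rintro _ ⟨g₀, rfl⟩
  have h1 : (a.orbitMap x).left.base g₀ =
      a.act.left.base ((lift (𝟙 G) (toUnit G ≫ x)).left.base g₀) := rfl
  rw [h1]
  apply hW
  have h2 : (snd G X).left.base ((lift (𝟙 G) (toUnit G ≫ x)).left.base g₀) =
      (lift (𝟙 G) (toUnit G ≫ x) ≫ snd G X).left.base g₀ := rfl
  rw [h2, lift_snd]
  show x.left.base ((toUnit G).left.base g₀) ∈ W
  rw [(subsingleton_unit (k := k)).elim ((toUnit G).left.base g₀) t]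
  exact hx

variable [IsAlgClosed k] [IsAffine G.left] [LocallyOfFiniteType G.hom] [LocallyOfFiniteType X.hom]

/-- every fibre of a good quotient over a rational point contains a closed orbit of a rational point -/
theorem exists_closed_orbit (a : AlgGrp.Action G X) (φ : X ⟶ Y) (h : NRQuot.IsGoodQuot a φ)
    (y : 𝟙_ (Over (Spec (CommRingCat.of k))) ⟶ Y) :
    ∃ x : 𝟙_ (Over (Spec (CommRingCat.of k))) ⟶ X, x ≫ φ = y ∧
      IsClosed (Set.range (a.orbitMap x).left.base) := by
  obtain ⟨t⟩ := nonempty_unit (k := k)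
  have hη : IsClosed ({y.left.base t} : Set ↥Y.left) := isClosed_singleton_point y t
  obtain ⟨VY, hVY, hηVY, -⟩ := exists_isAffineOpen_mem_and_subset (x := y.left.base t)
    (U := (⊤ : Y.left.Opens)) trivial
  have haff : IsAffineHom φ.left := h.affine
  have hU : IsAffineOpen (φ.left ⁻¹ᵁ VY) := hVY.preimage φ.left
  have hFcl : IsClosed (φ.left.base ⁻¹' {y.left.base t}) := hη.preimage φ.left.continuous
  have hFU : φ.left.base ⁻¹' {y.left.base t} ⊆ ((φ.left ⁻¹ᵁ VY : X.left.Opens) : Set ↥X.left) := by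
    intro p hp
    have hp' : φ.left.base p = y.left.base t := hp
    show φ.left.base p ∈ VY
    rw [hp']
    exact hηVY
  have hFc : IsCompact (φ.left.base ⁻¹' {y.left.base t}) :=
    hU.isCompact.of_isClosed_subset hFcl hFU
  have hFinv : NRQuot.IsInvariantSet a (φ.left.base ⁻¹' {y.left.base t}) := by
    intro p hp
    have hp' : φ.left.base ((snd G X).left.base p) = y.left.base t := hp
    show φ.left.base (a.act.left.base p) = y.left.base t
    have hinv : a.act ≫ φ = snd G X ≫ φ := h.inv
    have h3 : φ.left.base (a.act.left.base p) = φ.left.base ((snd G X).left.base p) :=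
      congrArg (fun m => m.left.base p) hinv
    rw [h3, hp']
  have hFne : (φ.left.base ⁻¹' {y.left.base t}).Nonempty := by
    obtain ⟨p, hp⟩ := surjective_of_goodQuot h (y.left.base t)
    exact ⟨p, hp⟩
  obtain ⟨W, hWcl, hWinv, hWne, hWF, hWmin⟩ := exists_minimal_invariant a _ hFcl hFc hFinv hFne
  obtain ⟨x, hx⟩ := exists_point_mem W hWcl hWne
  have hOW : Set.range (a.orbitMap x).left.base ⊆ W := range_orbitMap_subset a W hWinv x t (hx t)
  have hcl : closure (Set.range (a.orbitMap x).left.base) = W :=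
    hWmin _ isClosed_closure
      (isInvariantSet_closure a _ (isInvariantSet_range_orbitMap a x) isOpenMap_snd)
      ⟨x.left.base t, subset_closure (mem_range_orbitMap a x t)⟩ (closure_minimal hOW hWcl)
  have hxφ : x ≫ φ = y := point_ext _ _ t (hWF (hx t))
  have hlc : ∀ x' : 𝟙_ (Over (Spec (CommRingCat.of k))) ⟶ X,
      x'.left.base t ∈ φ.left.base ⁻¹' {y.left.base t} →
      IsLocallyClosed (Set.range (a.orbitMap x').left.base) := fun x' hx' =>
    isLocallyClosed_range_orbitMap_of_subset a x' _ hU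
      ((range_orbitMap_subset a _ hFinv x' t hx').trans hFU)
  refine ⟨x, hxφ, ?_⟩
  by_contra hncl
  have hB : IsClosed (W \ Set.range (a.orbitMap x).left.base) := by
    have h4 := (hlc x (hWF (hx t))).isOpen_coborder
    rw [coborder, hcl] at h4
    exact isOpen_compl_iff.mp h4
  have hBne : (W \ Set.range (a.orbitMap x).left.base).Nonempty := by
    rw [Set.nonempty_iff_ne_empty]
    intro h0
    apply hncl
    rw [Set.sdiff_eq_empty] at h0
    have : Set.range (a.orbitMap x).left.base = W := le_antisymm hOW h0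
    rw [this]
    exact hWcl
  obtain ⟨x', hx'⟩ := exists_point_mem _ hB hBne
  have hx'W : x'.left.base t ∈ W := (hx' t).1
  have hO'W : Set.range (a.orbitMap x').left.base ⊆ W :=
    range_orbitMap_subset a W hWinv x' t hx'W
  have hdisj : Set.range (a.orbitMap x').left.base ∩ Set.range (a.orbitMap x).left.base = ∅ := by
    by_contra hne
    have hJ : JacobsonSpace ↥X.left := LocallyOfFiniteType.jacobsonSpace X.hom
    obtain ⟨w, hw, hwc⟩ := nonempty_inter_closedPoints (Set.nonempty_iff_ne_empty.mpr hne)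
      ((hlc x' (hWF hx'W)).inter (hlc x (hWF (hx t))))
    obtain ⟨z, hz⟩ := exists_point_mem {w} hwc ⟨w, rfl⟩
    have hzw : z.left.base t = w := hz t
    obtain ⟨g₁, hg₁⟩ := exists_act_eq_of_mem_range a x' z ⟨t, by rw [hzw]; exact hw.1⟩
    obtain ⟨g₂, hg₂⟩ := exists_act_eq_of_mem_range a x z ⟨t, by rw [hzw]; exact hw.2⟩
    have hx'eq : lift (g₁⁻¹ * g₂) x ≫ a.act = x' := by
      rw [AlgGrp.Action.lift_mul_act, hg₂, ← hg₁, ← AlgGrp.Action.lift_mul_act, inv_mul_cancel,
        AlgGrp.Action.lift_one_act]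
    apply (hx' t).2
    rw [← hx'eq]
    refine ⟨(g₁⁻¹ * g₂).left.base t, ?_⟩
    have h5 : (a.orbitMap x).left.base ((g₁⁻¹ * g₂).left.base t) =
        ((g₁⁻¹ * g₂) ≫ a.orbitMap x).left.base t := rfl
    rw [h5, AlgGrp.Action.comp_orbitMap, toUnit_unit, Category.id_comp]
  have hO'B : Set.range (a.orbitMap x').left.base ⊆ W \ Set.range (a.orbitMap x).left.base := by
    intro p hp
    refine ⟨hO'W hp, fun hp2 => ?_⟩
    have : p ∈ Set.range (a.orbitMap x').left.base ∩ Set.range (a.orbitMap x).left.base := ⟨hp, hp2⟩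
    rw [hdisj] at this
    exact this
  have hcl' : closure (Set.range (a.orbitMap x').left.base) = W :=
    hWmin _ isClosed_closure
      (isInvariantSet_closure a _ (isInvariantSet_range_orbitMap a x') isOpenMap_snd)
      ⟨x'.left.base t, subset_closure (mem_range_orbitMap a x' t)⟩ (closure_minimal hO'W hWcl)
  have h6 : W ⊆ W \ Set.range (a.orbitMap x).left.base := by
    have h7 := closure_minimal hO'B hB
    rwa [hcl'] at h7
  exact (h6 (hx t)).2 (mem_range_orbitMap a x t)

end Exists

end Groth.Agent.Lib.Seat51.GoodQuot
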