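import Mathlib
import Groth.Prelude.Def_ChGrp
import Groth.Prelude.Def_W4c6nonredquotmfGoodQuot
import Groth.Agent.Lib.Seat51GoodQuot

/-!
# Translates of a closed set stable under a subgroup with proper quotient (seat 51)

`G` a group scheme over `S` acting on `X`, `i : H ⟶ G` a subgroup, `π : G ⟶ Y` a universally open surjection
whose kernel pair is `G × H ⇉ G` (`(g, h) ↦ g`, `(g, h) ↦ g i(h)`), `Y` universally closed over `S`.  For a closed
subset `Z` of `X` stable under `H`, the set `G · Z` is closed (`isClosed_act_image`).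

* `theta a : G ⊗ X ⟶ X`, `(g, y) ↦ g⁻¹ y`, with `shear_theta`, `shearInv_act`;
* `act_image_eq` : `G · Z = snd '' θ⁻¹ Z`;
* `isPullback_whiskerRight_of_isPullback` : `- ⊗ X` preserves pullback squares;
* `saturated_preimage_theta` : `θ⁻¹ Z` is saturated for `π ▷ X`;
* `isClosed_image_of_saturated` : images of saturated closed sets under open surjections are closed.
-/

set_option autoImplicit false
universe u
open CategoryTheory MonoidalCategory CartesianMonoidalCategory MonObj GrpObj AlgebraicGeometry Topology Limits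

namespace Groth.Agent.Lib.Seat51.OrbitSat

open Groth.Agent.Lib.Seat51.GoodQuot

section Top

/-- images of saturated closed sets under open surjections are closed -/
lemma isClosed_image_of_saturated {A B : Type*} [TopologicalSpace A] [TopologicalSpace B] (P : A → B)
    (hopen : IsOpenMap P) (hsurj : Function.Surjective P) (M : Set A) (hM : IsClosed M)
    (hsat : ∀ p p' : A, P p = P p' → p ∈ M → p' ∈ M) : IsClosed (P '' M) := by
  have h : (P '' M)ᶜ = P '' Mᶜ := by
    ext y
    constructor
    · intro hy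
      obtain ⟨p, rfl⟩ := hsurj y
      exact ⟨p, fun hp => hy ⟨p, hp, rfl⟩, rfl⟩
    · rintro ⟨p, hp, rfl⟩ ⟨p', hp', e⟩
      exact hp (hsat p' p e hp')
  rw [← isOpen_compl_iff, h]
  exact hopen _ hM.isOpen_compl

end Top

section Cat

variable {C : Type*} [Category C] [CartesianMonoidalCategory C]

/-- `- ⊗ X` preserves pullback squares -/
lemma isPullback_whiskerRight_of_isPullback {P A B D : C} {p₁ : P ⟶ A} {p₂ : P ⟶ B} {f : A ⟶ D}
    {g : B ⟶ D} (h : IsPullback p₁ p₂ f g) (X : C) :
    IsPullback (p₁ ▷ X) (p₂ ▷ X) (f ▷ X) (g ▷ X) := by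
  refine ⟨⟨by rw [← comp_whiskerRight, ← comp_whiskerRight, h.w]⟩,
    ⟨PullbackCone.IsLimit.mk _
      (fun s => lift (h.lift (s.fst ≫ fst A X) (s.snd ≫ fst B X) (by
        have := congrArg (fun m => m ≫ fst D X) s.condition
        simpa using this)) (s.fst ≫ snd A X)) ?_ ?_ ?_⟩⟩
  · intro s
    apply CartesianMonoidalCategory.hom_ext
    · simp
    · simp
  · intro s
    apply CartesianMonoidalCategory.hom_ext
    · simp
    · have := congrArg (fun m => m ≫ snd D X) s.condition
      simpa using this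
  · intro s m hm1 hm2
    apply CartesianMonoidalCategory.hom_ext
    · apply h.hom_ext
      · rw [lift_fst, h.lift_fst, ← hm1]
        simp
      · rw [lift_fst, h.lift_snd, ← hm2]
        simp
    · rw [lift_snd, ← hm1]
      simp

end Cat

variable {S : Scheme.{u}} {G H X Y : Over S} [GrpObj G] [GrpObj H]

/-- `(g, y) ↦ g⁻¹ y` -/
noncomputable def theta (a : AlgGrp.Action G X) : G ⊗ X ⟶ X :=
  lift ((fst G X)⁻¹) (snd G X) ≫ a.act

lemma lift_theta (a : AlgGrp.Action G X) {T : Over S} (g : T ⟶ G) (y : T ⟶ X) :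
    lift g y ≫ theta a = lift g⁻¹ y ≫ a.act := by
  unfold theta
  rw [comp_lift_assoc, GrpObj.comp_inv, lift_fst, lift_snd]

/-- `g⁻¹ (g y) = y` -/
lemma shear_theta (a : AlgGrp.Action G X) : lift (fst G X) a.act ≫ theta a = snd G X := by
  apply AlgGrp.Action.hom_ext_lift₂
  intro T g y
  rw [comp_lift_assoc, lift_fst, lift_theta, ← AlgGrp.Action.lift_mul_act, inv_mul_cancel,
    AlgGrp.Action.lift_one_act, lift_snd]

/-- `g (g⁻¹ y) = y` -/
lemma shearInv_act (a : AlgGrp.Action G X) : lift (fst G X) (theta a) ≫ a.act = snd G X := by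
  apply AlgGrp.Action.hom_ext_lift₂
  intro T g y
  rw [comp_lift_assoc, lift_fst, lift_theta, ← AlgGrp.Action.lift_mul_act, mul_inv_cancel,
    AlgGrp.Action.lift_one_act, lift_snd]

/-- `G · Z` is the projection of `{(g, y) | g⁻¹ y ∈ Z}` -/
lemma act_image_eq (a : AlgGrp.Action G X) (Z : Set ↥X.left) :
    a.act.left.base '' ((snd G X).left.base ⁻¹' Z) =
      (snd G X).left.base '' ((theta a).left.base ⁻¹' Z) := by
  ext w
  constructor
  · rintro ⟨p, hp, rfl⟩
    refine ⟨(lift (fst G X) a.act).left.base p, ?_, ?_⟩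
    · change ((lift (fst G X) a.act).left ≫ (theta a).left) p ∈ Z
      rw [← Over.comp_left, shear_theta]
      exact hp
    · change ((lift (fst G X) a.act).left ≫ (snd G X).left) p = _
      rw [← Over.comp_left, lift_snd]
  · rintro ⟨q, hq, rfl⟩
    refine ⟨(lift (fst G X) (theta a)).left.base q, ?_, ?_⟩
    · change ((lift (fst G X) (theta a)).left ≫ (snd G X).left) q ∈ Z
      rw [← Over.comp_left, lift_snd]
      exact hq
    · change ((lift (fst G X) (theta a)).left ≫ a.act.left) q = _
      rw [← Over.comp_left, shearInv_act]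

/-- `(g, h, y) ↦ (h⁻¹, g⁻¹ y)` -/
noncomputable def rho (a : AlgGrp.Action G X) : (G ⊗ H) ⊗ X ⟶ H ⊗ X :=
  lift ((fst (G ⊗ H) X ≫ snd G H)⁻¹) ((fst G H ▷ X) ≫ theta a)

lemma rho_snd (a : AlgGrp.Action G X) :
    (rho (H := H) a) ≫ snd H X = (fst G H ▷ X) ≫ theta a := lift_snd _ _

/-- `(g i(h))⁻¹ y = i(h⁻¹) (g⁻¹ y)` -/
lemma rho_act (a : AlgGrp.Action G X) (i : H ⟶ G) [IsMonHom i] :
    rho a ≫ (a.restrict i).act = (((G ◁ i) ≫ μ[G]) ▷ X) ≫ theta a := by
  apply AlgGrp.Action.hom_ext_lift₃
  intro T g h y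
  have h1 : lift (lift g h) y ≫ rho a = lift h⁻¹ (lift g⁻¹ y ≫ a.act) := by
    unfold rho
    rw [comp_lift, GrpObj.comp_inv, lift_fst_assoc, lift_snd, lift_whiskerRight_assoc, lift_fst,
      lift_theta]
  have h2 : lift g h ≫ (G ◁ i) ≫ μ[G] = g * (h ≫ i) := by
    rw [lift_whiskerLeft_assoc, Hom.mul_def]
  rw [reassoc_of% h1, AlgGrp.Action.lift_restrict_act, ← AlgGrp.Action.lift_mul_act,
    lift_whiskerRight_assoc, h2, lift_theta, _root_.mul_inv_rev, GrpObj.inv_comp]

section Main

variable (a : AlgGrp.Action G X) (i : H ⟶ G) [IsMonHom i] (π : G ⟶ Y)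

/-- `θ⁻¹ Z` is saturated for `π ▷ X` when `Z` is `H`-stable -/
lemma saturated_preimage_theta (hπ : IsPullback (fst G H) ((G ◁ i) ≫ μ[G]) π π) (Z : Set ↥X.left)
    (hZ : NRQuot.IsInvariantSet (a.restrict i) Z) (p p' : ↥(G ⊗ X).left)
    (e : (π ▷ X).left.base p = (π ▷ X).left.base p')
    (hp : p ∈ (theta a).left.base ⁻¹' Z) : p' ∈ (theta a).left.base ⁻¹' Z := by
  have hpb : IsPullback (fst G H ▷ X).left (((G ◁ i) ≫ μ[G]) ▷ X).left (π ▷ X).left (π ▷ X).left :=
    (isPullback_whiskerRight_of_isPullback hπ X).map (Over.forget _)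
  obtain ⟨r, hr1, hr2⟩ := exists_preimage_of_isPullback hpb p p' e
  have h1 : (snd H X).left.base ((rho a).left.base r) ∈ Z := by
    change ((rho (H := H) a).left ≫ (snd H X).left) r ∈ Z
    rw [← Over.comp_left, rho_snd, Over.comp_left, Scheme.Hom.comp_apply, hr1]
    exact hp
  have h2 := hZ _ h1
  change ((rho a).left ≫ (a.restrict i).act.left) r ∈ Z at h2
  rw [← Over.comp_left, rho_act, Over.comp_left, Scheme.Hom.comp_apply, hr2] at h2
  exact h2

/-- `G · Z` is closed for `Z` closed and `H`-stable, when `G/H` is universally closed over the base -/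
theorem isClosed_act_image [UniversallyOpen π.left] [Surjective π.left] [UniversallyClosed Y.hom]
    (hπ : IsPullback (fst G H) ((G ◁ i) ≫ μ[G]) π π) (Z : Set ↥X.left) (hZc : IsClosed Z)
    (hZ : NRQuot.IsInvariantSet (a.restrict i) Z) :
    IsClosed (a.act.left.base '' ((snd G X).left.base ⁻¹' Z)) := by
  rw [act_image_eq]
  have hsnd : snd G X = (π ▷ X) ≫ snd Y X := (whiskerRight_snd _ _).symm
  have hM : IsClosed ((theta a).left.base ⁻¹' Z) := hZc.preimage (theta a).left.continuous
  have hopen : UniversallyOpen (π ▷ X).left :=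
    MorphismProperty.of_isPullback (P := @UniversallyOpen)
      ((Groth.Agent.Lib.Helper12.isPullback_whiskerRight X π).map (Over.forget _)).flip ‹_›
  have hsurj : Surjective (π ▷ X).left :=
    MorphismProperty.of_isPullback (P := @Surjective)
      ((Groth.Agent.Lib.Helper12.isPullback_whiskerRight X π).map (Over.forget _)).flip ‹_›
  have h1 : IsClosed ((π ▷ X).left.base '' ((theta a).left.base ⁻¹' Z)) :=
    isClosed_image_of_saturated _ (π ▷ X).left.isOpenMap (π ▷ X).left.surjective _ hM
      (saturated_preimage_theta a i π hπ Z hZ)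
  have hcl : UniversallyClosed (snd Y X).left := by
    show UniversallyClosed (pullback.snd Y.hom X.hom)
    infer_instance
  have h2 := (snd Y X).left.isClosedMap _ h1
  rw [← Set.image_comp] at h2
  have h3 : (snd Y X).left.base ∘ (π ▷ X).left.base = (snd G X).left.base := by
    rw [hsnd]
    rfl
  rw [h3] at h2
  exact h2

end Main

end Groth.Agent.Lib.Seat51.OrbitSat
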