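import Mathlib

/-!
# Pulling apart a punctual ideal (helper51)

For a `k`-algebra domain `A`, elements `y g : A` and an ideal `𝔟`, the family
`fam y g 𝔟 = (X - C y) · 𝔟[X] + (g) ⊆ A[X]`.

* `mem_fam`, `map_eval_fam` : membership and fibres of the family.
* `fam_torsionFree` : `A[X] ⧸ fam` is torsion-free over `k[X]`.
* `fam_flat_finite` : `A[X] ⧸ fam` is flat and finite over `k[X]` (under hypotheses on `A ⧸ (g)` over `k[y]`).
-/

set_option autoImplicit false

open Polynomial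

namespace Seat51PullApart

variable {k A : Type*} [Field k] [CommRing A] [Algebra k A]

/-- the family `(X - C y) · 𝔟[X] + (g)` -/
noncomputable def fam (y g : A) (𝔟 : Ideal A) : Ideal A[X] :=
  Ideal.span {X - C y} * Ideal.map C 𝔟 ⊔ Ideal.span {C g}

lemma mem_fam {y g : A} {𝔟 : Ideal A} {F : A[X]} :
    F ∈ fam y g 𝔟 ↔ ∃ b ∈ Ideal.map C 𝔟, ∃ u, F = (X - C y) * b + u * C g := by
  unfold fam
  rw [Submodule.mem_sup]
  constructor
  · rintro ⟨p, hp, q, hq, rfl⟩
    obtain ⟨b, hb, rfl⟩ := Ideal.mem_span_singleton_mul.mp hp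
    obtain ⟨u, rfl⟩ := Ideal.mem_span_singleton'.mp hq
    exact ⟨b, hb, u, rfl⟩
  · rintro ⟨b, hb, u, rfl⟩
    exact ⟨_, Ideal.mem_span_singleton_mul.mpr ⟨b, hb, rfl⟩, _,
      Ideal.mem_span_singleton'.mpr ⟨u, rfl⟩, rfl⟩

lemma map_eval_fam (y g : A) (𝔟 : Ideal A) (a : A) :
    Ideal.map (evalRingHom a) (fam y g 𝔟) = Ideal.span {a - y} * 𝔟 ⊔ Ideal.span {g} := by
  unfold fam
  rw [Ideal.map_sup, Ideal.map_mul, Ideal.map_span, Ideal.map_span, Ideal.map_map]
  have : (evalRingHom a).comp C = RingHom.id A := by ext; simp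
  rw [this, Ideal.map_id]
  simp

/-- `A[X] ⧸ 𝔟[X]` is torsion-free over `k[X]`. -/
lemma mapC_torsionFree (𝔟 : Ideal A) {p : k[X]} (hp : p ≠ 0) {F : A[X]}
    (h : p.map (algebraMap k A) * F ∈ Ideal.map C 𝔟) : F ∈ Ideal.map C 𝔟 := by
  have hker : ∀ G : A[X], G ∈ Ideal.map C 𝔟 ↔ G.map (Ideal.Quotient.mk 𝔟) = 0 := by
    intro G
    have := Polynomial.ker_mapRingHom (Ideal.Quotient.mk 𝔟)
    rw [Ideal.mk_ker] at this
    rw [← this, RingHom.mem_ker, coe_mapRingHom]
  rw [hker] at h ⊢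
  by_cases htriv : Nontrivial (A ⧸ 𝔟)
  · set q : k[X] := p * C (p.leadingCoeff⁻¹) with hq
    have hqm : q.Monic := Polynomial.monic_mul_leadingCoeff_inv hp
    have hqm' : ((q.map (algebraMap k A)).map (Ideal.Quotient.mk 𝔟)).Monic := (hqm.map _).map _
    have h2 : (q.map (algebraMap k A)).map (Ideal.Quotient.mk 𝔟) * F.map (Ideal.Quotient.mk 𝔟) = 0 := by
      have : q.map (algebraMap k A) = p.map (algebraMap k A) * C (algebraMap k A (p.leadingCoeff⁻¹)) := by
        rw [hq, Polynomial.map_mul, Polynomial.map_C]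
      rw [this, Polynomial.map_mul, mul_right_comm, ← Polynomial.map_mul, h, zero_mul]
    exact (hqm'.mul_right_eq_zero_iff).mp h2
  · rw [not_nontrivial_iff_subsingleton] at htriv
    exact Subsingleton.elim _ _

variable [IsDomain A]

/-- the colon `(fam : (X - C y)) ⊆ 𝔟[X]`. -/
lemma colon_fam {y g : A} {𝔟 : Ideal A} (hg0 : g ≠ 0) (hg𝔟 : g ∈ 𝔟) {H : A[X]}
    (h : (X - C y) * H ∈ fam y g 𝔟) : H ∈ Ideal.map C 𝔟 := by
  obtain ⟨b, hb, u, hu⟩ := mem_fam.mp h
  have hev : u.eval y * g = 0 := by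
    have := congrArg (Polynomial.eval y) hu
    simp only [eval_mul, eval_sub, eval_X, eval_C, sub_self, zero_mul, eval_add, zero_add] at this
    exact this.symm
  have hu0 : u.eval y = 0 := by
    rcases mul_eq_zero.mp hev with h | h
    · exact h
    · exact absurd h hg0
  obtain ⟨u', rfl⟩ : (X - C y) ∣ u := Polynomial.dvd_iff_isRoot.mpr hu0
  have hne : (X - C y : A[X]) ≠ 0 := Polynomial.X_sub_C_ne_zero y
  have : H = b + u' * C g := by
    apply mul_left_cancel₀ hne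
    rw [hu]; ring
  rw [this]
  exact Ideal.add_mem _ hb (Ideal.mul_mem_left _ _ (Ideal.mem_map_of_mem C hg𝔟))

/-- `A[X] ⧸ fam` is torsion-free over `k[X]`. -/
lemma fam_torsionFree {y g : A} {𝔟 : Ideal A} (hg0 : g ≠ 0) (hg𝔟 : g ∈ 𝔟)
    (Htf : ∀ p : k[X], p ≠ 0 → ∀ f : A, aeval y p * f ∈ Ideal.span {g} → f ∈ Ideal.span {g})
    {p : k[X]} (hp : p ≠ 0) {F : A[X]}
    (h : p.map (algebraMap k A) * F ∈ fam y g 𝔟) : F ∈ fam y g 𝔟 := by
  obtain ⟨b, hb, u, hu⟩ := mem_fam.mp h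
  have hev : aeval y p * F.eval y = u.eval y * g := by
    have := congrArg (Polynomial.eval y) hu
    simp only [eval_mul, eval_sub, eval_X, eval_C, sub_self, zero_mul, eval_add, zero_add] at this
    rw [← this, Polynomial.eval_map_algebraMap]
  have hFy : F.eval y ∈ Ideal.span {g} := by
    apply Htf p hp
    rw [hev]
    exact Ideal.mul_mem_left _ _ (Ideal.subset_span rfl)
  obtain ⟨w, hw⟩ := Ideal.mem_span_singleton'.mp hFy
  obtain ⟨F', hF'⟩ : (X - C y) ∣ F - C w * C g := by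
    rw [Polynomial.dvd_iff_isRoot]
    simp [hw]
  have hF : F = (X - C y) * F' + C w * C g := by linear_combination hF'
  have h3 : (X - C y) * (p.map (algebraMap k A) * F') ∈ fam y g 𝔟 := by
    have : (X - C y) * (p.map (algebraMap k A) * F') =
        p.map (algebraMap k A) * F - (p.map (algebraMap k A) * C w) * C g := by
      rw [hF]; ring
    rw [this]
    refine Ideal.sub_mem _ h ?_
    exact mem_fam.mpr ⟨0, Ideal.zero_mem _, p.map (algebraMap k A) * C w, by ring⟩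
  have h4 := mapC_torsionFree 𝔟 hp (colon_fam hg0 hg𝔟 h3)
  rw [hF]
  exact mem_fam.mpr ⟨F', h4, C w, rfl⟩


attribute [local instance] Polynomial.algebra

omit [IsDomain A] in
lemma smul_mk (I : Ideal A[X]) (p : k[X]) (F : A[X]) :
    p • (Ideal.Quotient.mk I F) = Ideal.Quotient.mk I (p.map (algebraMap k A) * F) := by
  rw [← Ideal.Quotient.mk_eq_mk, ← Submodule.Quotient.mk_smul, Algebra.smul_def]
  rfl

theorem fam_flat {y g : A} {𝔟 : Ideal A} (hg0 : g ≠ 0) (hg𝔟 : g ∈ 𝔟)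
    (Htf : ∀ p : k[X], p ≠ 0 → ∀ f : A, aeval y p * f ∈ Ideal.span {g} → f ∈ Ideal.span {g}) :
    ((Ideal.Quotient.mk (fam y g 𝔟)).comp (mapRingHom (algebraMap k A))).Flat := by
  have h1 : Module.IsTorsionFree k[X] (A[X] ⧸ fam y g 𝔟) := by
    apply Module.IsTorsionFree.of_smul_eq_zero
    intro p m hpm
    by_cases hp : p = 0
    · exact Or.inl hp
    · right
      obtain ⟨F, rfl⟩ := Ideal.Quotient.mk_surjective m
      rw [Ideal.Quotient.eq_zero_iff_mem]
      apply fam_torsionFree hg0 hg𝔟 Htf hp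
      rw [← Ideal.Quotient.eq_zero_iff_mem, ← smul_mk]
      exact hpm
  have h2 : Module.Flat k[X] (A[X] ⧸ fam y g 𝔟) := inferInstance
  exact RingHom.flat_algebraMap_iff.mpr h2

omit [IsDomain A] in
lemma finite_mapC (𝔟 : Ideal A) [Module.Finite k (A ⧸ 𝔟)] :
    Module.Finite k[X] (A[X] ⧸ Ideal.map C 𝔟) := by
  classical
  obtain ⟨S, hS⟩ := (Module.Finite.fg_top : (⊤ : Submodule k (A ⧸ 𝔟)).FG)
  let θ : A ⧸ 𝔟 →+* A[X] ⧸ Ideal.map C 𝔟 :=
    Ideal.quotientMap (Ideal.map C 𝔟) C Ideal.le_comap_map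
  have hθ : ∀ a : A, θ (Ideal.Quotient.mk 𝔟 a) = Ideal.Quotient.mk _ (C a) := fun a => by
    simp [θ]
  refine ⟨⟨S.image θ, ?_⟩⟩
  rw [eq_top_iff]
  rintro m -
  obtain ⟨F, rfl⟩ := Ideal.Quotient.mk_surjective m
  induction F using Polynomial.induction_on' with
  | add p q hp hq => rw [map_add]; exact Submodule.add_mem _ hp hq
  | monomial n a =>
    have h1 : Ideal.Quotient.mk (Ideal.map C 𝔟) (monomial n a) =
        (X ^ n : k[X]) • θ (Ideal.Quotient.mk 𝔟 a) := by
      rw [hθ, smul_mk, Polynomial.map_pow, Polynomial.map_X, ← C_mul_X_pow_eq_monomial, mul_comm]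
    rw [h1]
    apply Submodule.smul_mem
    have h2 : Ideal.Quotient.mk 𝔟 a ∈ Submodule.span k (S : Set (A ⧸ 𝔟)) := by rw [hS]; trivial
    have key : ∀ z ∈ Submodule.span k (S : Set (A ⧸ 𝔟)),
        θ z ∈ Submodule.span k[X] ((S.image θ : Finset _) : Set (A[X] ⧸ Ideal.map C 𝔟)) := by
      intro z hz
      induction hz using Submodule.span_induction with
      | mem x hx => exact Submodule.subset_span (by simpa using ⟨x, hx, rfl⟩)
      | zero => rw [map_zero]; exact Submodule.zero_mem _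
      | add x z _ _ hx hz => rw [map_add]; exact Submodule.add_mem _ hx hz
      | smul c x _ hx =>
        obtain ⟨x', rfl⟩ := Ideal.Quotient.mk_surjective x
        have : θ (c • Ideal.Quotient.mk 𝔟 x') = (C c : k[X]) • θ (Ideal.Quotient.mk 𝔟 x') := by
          rw [hθ, smul_mk, Polynomial.map_C, ← C_mul, ← Algebra.smul_def, ← hθ]
          rfl
        rw [this]
        exact Submodule.smul_mem _ _ hx
    exact key _ h2

omit [IsDomain A] in
theorem fam_finite {y g : A} {𝔟 : Ideal A} [Module.Finite k (A ⧸ 𝔟)]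
    (Hfin : ((Ideal.Quotient.mk (Ideal.span {g})).comp
      (aeval y : k[X] →ₐ[k] A).toRingHom).Finite) :
    ((Ideal.Quotient.mk (fam y g 𝔟)).comp (mapRingHom (algebraMap k A))).Finite := by
  letI : Algebra k[X] (A ⧸ Ideal.span {g}) :=
    ((Ideal.Quotient.mk (Ideal.span {g})).comp (aeval y : k[X] →ₐ[k] A).toRingHom).toAlgebra
  haveI : Module.Finite k[X] (A ⧸ Ideal.span {g}) := Hfin
  haveI := finite_mapC (k := k) 𝔟
  have hsm : ∀ (p : k[X]) (z : A ⧸ Ideal.span {g}),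
      p • z = Ideal.Quotient.mk (Ideal.span {g}) (aeval y p) * z := fun p z => by
    rw [Algebra.smul_def]; rfl
  let f0 : (A[X] ⧸ Ideal.map C 𝔟) →ₗ[A[X]] (A[X] ⧸ fam y g 𝔟) :=
    Submodule.mapQ (Ideal.map C 𝔟) (fam y g 𝔟) (LinearMap.mulLeft A[X] (X - C y)) (by
      intro b hb
      simp only [Submodule.mem_comap, LinearMap.mulLeft_apply]
      exact mem_fam.mpr ⟨b, hb, 0, by ring⟩)
  let f : (A[X] ⧸ Ideal.map C 𝔟) →ₗ[k[X]] (A[X] ⧸ fam y g 𝔟) := f0.restrictScalars k[X]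
  have hf : ∀ F : A[X], f (Ideal.Quotient.mk _ F) = Ideal.Quotient.mk _ ((X - C y) * F) := fun F => rfl
  let g0 : (A[X] ⧸ fam y g 𝔟) →+* (A ⧸ Ideal.span {g}) :=
    Ideal.Quotient.lift (fam y g 𝔟) ((Ideal.Quotient.mk (Ideal.span {g})).comp (evalRingHom y)) (by
      intro F hF
      obtain ⟨b, hb, u, rfl⟩ := mem_fam.mp hF
      simp only [RingHom.comp_apply, coe_evalRingHom, eval_add, eval_mul, eval_sub, eval_X, eval_C,
        sub_self, zero_mul, zero_add]
      rw [Ideal.Quotient.eq_zero_iff_mem]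
      exact Ideal.mul_mem_left _ _ (Ideal.subset_span rfl))
  have hg0 : ∀ F : A[X], g0 (Ideal.Quotient.mk _ F) = Ideal.Quotient.mk _ (F.eval y) := fun F => rfl
  let g1 : (A[X] ⧸ fam y g 𝔟) →ₗ[k[X]] (A ⧸ Ideal.span {g}) :=
    { toFun := g0
      map_add' := map_add g0
      map_smul' := by
        intro p m
        obtain ⟨F, rfl⟩ := Ideal.Quotient.mk_surjective m
        rw [smul_mk, RingHom.id_apply, hg0, hg0, hsm, eval_mul, map_mul, Polynomial.eval_map_algebraMap] }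
  have hg1 : ∀ F : A[X], g1 (Ideal.Quotient.mk _ F) = Ideal.Quotient.mk _ (F.eval y) := fun F => rfl
  have hexact : Function.Exact f g1 := by
    intro m
    obtain ⟨F, rfl⟩ := Ideal.Quotient.mk_surjective m
    rw [hg1, Ideal.Quotient.eq_zero_iff_mem]
    constructor
    · intro h
      obtain ⟨w, hw⟩ := Ideal.mem_span_singleton'.mp h
      obtain ⟨F', hF'⟩ : (X - C y) ∣ F - C w * C g := by
        rw [Polynomial.dvd_iff_isRoot]
        simp [hw]
      refine ⟨Ideal.Quotient.mk _ F', ?_⟩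
      rw [hf, Ideal.Quotient.eq]
      have : (X - C y) * F' - F = - (C w * C g) := by rw [← hF']; ring
      rw [this]
      exact mem_fam.mpr ⟨0, Ideal.zero_mem _, - C w, by ring⟩
    · rintro ⟨m', hm'⟩
      obtain ⟨F', rfl⟩ := Ideal.Quotient.mk_surjective m'
      rw [hf] at hm'
      have := congrArg g1 hm'
      rw [hg1, hg1] at this
      rw [← Ideal.Quotient.eq_zero_iff_mem, ← this]
      simp
  have hsurj : Function.Surjective g1 := by
    intro z
    obtain ⟨a, rfl⟩ := Ideal.Quotient.mk_surjective z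
    exact ⟨Ideal.Quotient.mk _ (C a), by rw [hg1, eval_C]⟩
  have : Module.Finite k[X] (A[X] ⧸ fam y g 𝔟) := Module.Finite.of_exact hexact hsurj
  exact RingHom.finite_algebraMap.mpr this


section PolyPoly

variable {k : Type*} [Field k]

/-- `k[y][x] ⧸ (G)` is torsion-free over `k[y]` for monic `G`. -/
lemma mem_span_of_C_mul_mem {G : k[X][X]} (hG : G.Monic) {p : k[X]} (hp : p ≠ 0) {f : k[X][X]}
    (h : C p * f ∈ Ideal.span {G}) : f ∈ Ideal.span {G} := by
  rw [Ideal.mem_span_singleton] at h ⊢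
  rw [← Polynomial.modByMonic_eq_zero_iff_dvd hG] at h ⊢
  rw [← Polynomial.smul_eq_C_mul, Polynomial.smul_modByMonic] at h
  exact (smul_eq_zero.mp h).resolve_left hp

/-- `k[y][x] ⧸ (G)` is finite over `k[y]` for monic `G`. -/
lemma finite_mk_comp_C {G : k[X][X]} (hG : G.Monic) :
    RingHom.Finite (A := k[X]) (B := k[X][X] ⧸ Ideal.span {G})
      ((Ideal.Quotient.mk (Ideal.span {G})).comp (C : k[X] →+* k[X][X])) := by
  have : Module.Finite k[X] (AdjoinRoot G) := hG.finite_adjoinRoot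
  exact RingHom.finite_algebraMap.mpr this

lemma exists_root_map [IsAlgClosed k] {G : k[X][X]} (hG : G.Monic) (hdeg : G.natDegree ≠ 0) (c : k) :
    ∃ ξ : k, (G.map (evalRingHom c)).eval ξ = 0 := by
  apply IsAlgClosed.exists_root
  rw [hG.degree_map, Polynomial.degree_eq_natDegree hG.ne_zero]
  exact_mod_cast hdeg

/-- In `k[y][x]`, an ideal modulo which `y` is nilpotent and which contains a power of `x` contains a
monic `G` generating it modulo `y`. -/
lemma exists_monic_gen (𝔞 : Ideal k[X][X]) {K N : ℕ} (hy : (C X : k[X][X]) ^ K ∈ 𝔞)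
    (hx : (X : k[X][X]) ^ N ∈ 𝔞) :
    ∃ G ∈ 𝔞, G.Monic ∧ 𝔞 ≤ Ideal.span {G} ⊔ Ideal.span {C X} := by
  classical
  set ψ : k[X][X] →+* k[X] := mapRingHom (evalRingHom (0:k)) with hψ
  set σ : k[X] →+* k[X][X] := mapRingHom C with hσ
  have hψσ : ∀ q, ψ (σ q) = q := by
    intro q
    simp only [hψ, hσ, coe_mapRingHom, Polynomial.map_map]
    have : (evalRingHom (0:k)).comp C = RingHom.id k := by ext; simp
    rw [this, Polynomial.map_id]
  have hψsurj : Function.Surjective ψ := fun q => ⟨σ q, hψσ q⟩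
  have hker : ∀ f, ψ f = 0 → ∃ f', f = C X * f' := by
    intro f hf
    have h1 : f ∈ RingHom.ker ψ := hf
    rw [hψ, Polynomial.ker_mapRingHom, Polynomial.ker_evalRingHom, Ideal.map_span,
      Set.image_singleton] at h1
    obtain ⟨f', hf'⟩ := Ideal.mem_span_singleton'.mp h1
    exact ⟨f', by rw [← hf']; simp [mul_comm]⟩
  set I : Ideal k[X] := 𝔞.map ψ with hI
  have hImem : ∀ q, q ∈ I ↔ ∃ f ∈ 𝔞, ψ f = q :=
    fun q => Ideal.mem_map_iff_of_surjective ψ hψsurj
  obtain ⟨h0, hh0⟩ : ∃ h0, I = Ideal.span {h0} := (IsPrincipalIdealRing.principal I).principal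
  have hh0ne : h0 ≠ 0 := by
    rintro rfl
    have h1 : (X : k[X]) ^ N ∈ I := (hImem _).mpr ⟨X ^ N, hx, by simp [hψ]⟩
    rw [hh0, Ideal.mem_span_singleton, zero_dvd_iff] at h1
    exact pow_ne_zero N Polynomial.X_ne_zero h1
  set h : k[X] := h0 * C (h0.leadingCoeff⁻¹) with hh
  have hmonic : h.Monic := Polynomial.monic_mul_leadingCoeff_inv hh0ne
  have hIh : I = Ideal.span {h} := by
    rw [hh0, hh, Ideal.span_singleton_mul_right_unit]
    exact Polynomial.isUnit_C.mpr (IsUnit.mk0 _ (inv_ne_zero (leadingCoeff_ne_zero.mpr hh0ne)))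
  set m : ℕ := h.natDegree with hm
  obtain ⟨g0, hg0mem, hg0⟩ : ∃ g0 ∈ 𝔞, ψ g0 = h :=
    (hImem h).mp (by rw [hIh]; exact Ideal.subset_span rfl)
  have BF : ∀ f : k[X][X], ∃ r f' : k[X][X], r.degree < (m : WithBot ℕ) ∧
      f - r - C X * f' ∈ 𝔞 := by
    intro f
    set q := ψ f /ₘ h with hq
    set rr := ψ f %ₘ h with hrr'
    have hrr : rr.degree < (m : WithBot ℕ) := by
      have := Polynomial.degree_modByMonic_lt (ψ f) hmonic
      rwa [Polynomial.degree_eq_natDegree hmonic.ne_zero] at this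
    have hz : ψ (f - σ q * g0 - σ rr) = 0 := by
      rw [map_sub, map_sub, map_mul, hψσ, hψσ, hg0]
      have := Polynomial.modByMonic_add_div (ψ f) h
      linear_combination -this
    obtain ⟨f', hf'⟩ := hker _ hz
    refine ⟨σ rr, f', lt_of_le_of_lt (Polynomial.degree_map_le) hrr, ?_⟩
    have : f - σ rr - C X * f' = σ q * g0 := by rw [← hf']; ring
    rw [this]; exact Ideal.mul_mem_left _ _ hg0mem
  have IT : ∀ l : ℕ, ∀ f : k[X][X], ∃ r f' : k[X][X], r.degree < (m : WithBot ℕ) ∧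
      f - r - (C X) ^ l * f' ∈ 𝔞 := by
    intro l
    induction l with
    | zero => intro f; exact ⟨0, f, by simp, by simp⟩
    | succ l ih =>
      intro f
      obtain ⟨r, f', hr, h1⟩ := ih f
      obtain ⟨r', f'', hr', h2⟩ := BF f'
      refine ⟨r + (C X) ^ l * r', f'', ?_, ?_⟩
      · refine lt_of_le_of_lt (Polynomial.degree_add_le _ _) (max_lt hr ?_)
        rw [← C_pow, ← Polynomial.smul_eq_C_mul]
        exact lt_of_le_of_lt (Polynomial.degree_smul_le _ _) hr'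
      · have : f - (r + (C X) ^ l * r') - (C X) ^ (l + 1) * f'' =
            (f - r - (C X) ^ l * f') + (C X) ^ l * (f' - r' - C X * f'') := by ring
        rw [this]
        exact Ideal.add_mem _ h1 (Ideal.mul_mem_left _ _ h2)
  obtain ⟨r, f', hr, h1⟩ := IT K (X ^ m)
  have hGmem : X ^ m - r ∈ 𝔞 := by
    have : X ^ m - r = (X ^ m - r - (C X) ^ K * f') + f' * (C X) ^ K := by ring
    rw [this]; exact Ideal.add_mem _ h1 (Ideal.mul_mem_left _ _ hy)
  have hr' : (-r).degree < (m : WithBot ℕ) := by rwa [degree_neg]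
  have hGm : (X ^ m - r).Monic := by
    rw [sub_eq_add_neg]
    exact Polynomial.monic_X_pow_add hr'
  have hGdeg : (X ^ m - r).natDegree = m := by
    apply Polynomial.natDegree_eq_of_degree_eq_some
    rw [sub_eq_add_neg, Polynomial.degree_add_eq_left_of_degree_lt, degree_X_pow]
    rwa [degree_X_pow]
  refine ⟨X ^ m - r, hGmem, hGm, ?_⟩
  have hψG : ψ (X ^ m - r) = h := by
    have hm1 : (ψ (X ^ m - r)).Monic := hGm.map _
    have hd1 : (ψ (X ^ m - r)).natDegree = m := by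
      rw [hψ, coe_mapRingHom, hGm.natDegree_map, hGdeg]
    have hdvd : h ∣ ψ (X ^ m - r) := by
      rw [← Ideal.mem_span_singleton, ← hIh]
      exact (hImem _).mpr ⟨_, hGmem, rfl⟩
    exact Polynomial.eq_of_monic_of_dvd_of_natDegree_le hmonic hm1 hdvd (le_of_eq hd1)
  intro f hf
  have h2 : ψ f ∈ I := (hImem _).mpr ⟨f, hf, rfl⟩
  rw [hIh] at h2
  obtain ⟨u, hu⟩ := Ideal.mem_span_singleton'.mp h2
  have hz : ψ (f - σ u * (X ^ m - r)) = 0 := by
    rw [map_sub, map_mul, hψσ, hψG, hu, sub_self]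
  obtain ⟨f', hf'⟩ := hker _ hz
  have : f = σ u * (X ^ m - r) + f' * C X := by rw [mul_comm f', ← hf']; ring
  rw [this]
  exact Submodule.add_mem_sup (Ideal.mul_mem_left _ _ (Ideal.subset_span rfl))
    (Ideal.mul_mem_left _ _ (Ideal.subset_span rfl))

end PolyPoly

section Iso

variable {k : Type*} [Field k]

/-- `k[x₀,x₁] → k[y][x]`, `X i ↦ y`, the other variable `↦ x`. -/
noncomputable def fwd (i : Fin 2) : MvPolynomial (Fin 2) k →ₐ[k] k[X][X] :=
  MvPolynomial.aeval (fun l => if l = i then (C X : k[X][X]) else X)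

/-- `k[y][x] → k[x₀,x₁]`, `y ↦ X i`, `x ↦ X j`. -/
noncomputable def bwd (i j : Fin 2) : k[X][X] →ₐ[k] MvPolynomial (Fin 2) k :=
  Polynomial.aevalTower
    (Polynomial.aeval (MvPolynomial.X i) : k[X] →ₐ[k] MvPolynomial (Fin 2) k) (MvPolynomial.X j)

lemma fwd_X_self (i : Fin 2) : fwd (k := k) i (MvPolynomial.X i) = C X := by
  simp [fwd]

lemma fwd_X_other {i j : Fin 2} (hij : i ≠ j) : fwd (k := k) i (MvPolynomial.X j) = X := by
  simp [fwd, hij.symm]

lemma bwd_C_X (i j : Fin 2) : bwd (k := k) i j (C X) = MvPolynomial.X i := by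
  simp [bwd]

lemma bwd_X (i j : Fin 2) : bwd (k := k) i j X = MvPolynomial.X j := by
  simp [bwd]

lemma fin2_other : ∀ i j l : Fin 2, i ≠ j → l ≠ i → l = j := by decide

/-- the isomorphism `k[x₀,x₁] ≃ k[y][x]`. -/
noncomputable def eqv (i j : Fin 2) (hij : i ≠ j) : MvPolynomial (Fin 2) k ≃ₐ[k] k[X][X] :=
  AlgEquiv.ofAlgHom (fwd i) (bwd i j)
    (by
      apply AlgHom.coe_ringHom_injective
      apply Polynomial.ringHom_ext'
      · apply Polynomial.ringHom_ext'
        · ext a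
          simp [bwd, fwd]
        · simp [bwd_C_X, fwd_X_self]
      · simp [bwd_X, fwd_X_other hij])
    (by
      apply MvPolynomial.algHom_ext
      intro l
      by_cases hl : l = i
      · subst hl
        simp [fwd_X_self, bwd_C_X]
      · have := fin2_other i j l hij hl
        subst this
        simp [fwd_X_other hij, bwd_X])

lemma eqv_X_self {i j : Fin 2} (hij : i ≠ j) : eqv (k := k) i j hij (MvPolynomial.X i) = C X :=
  fwd_X_self i

lemma eqv_X_other {i j : Fin 2} (hij : i ≠ j) : eqv (k := k) i j hij (MvPolynomial.X j) = X :=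
  fwd_X_other hij

lemma eqv_symm_C_X {i j : Fin 2} (hij : i ≠ j) :
    (eqv (k := k) i j hij).symm (C X) = MvPolynomial.X i := bwd_C_X i j

lemma eqv_symm_X {i j : Fin 2} (hij : i ≠ j) :
    (eqv (k := k) i j hij).symm X = MvPolynomial.X j := bwd_X i j

lemma eqv_C {i j : Fin 2} (hij : i ≠ j) (a : k) :
    eqv (k := k) i j hij (MvPolynomial.C a) = C (C a) := by
  simp [eqv, fwd]

lemma eval_eq {i j : Fin 2} (hij : i ≠ j) (pt : Fin 2 → k) (f : MvPolynomial (Fin 2) k) :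
    MvPolynomial.eval pt f = ((eqv i j hij f).map (evalRingHom (pt i))).eval (pt j) := by
  have : (MvPolynomial.eval pt) = (evalRingHom (pt j)).comp
      ((mapRingHom (evalRingHom (pt i))).comp (eqv (k := k) i j hij).toAlgHom.toRingHom) := by
    apply MvPolynomial.ringHom_ext
    · intro a
      simp [eqv_C hij]
    · intro l
      by_cases hl : l = i
      · subst hl
        simp [eqv_X_self hij]
      · have := fin2_other i j l hij hl
        subst this
        simp [eqv_X_other hij]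
  rw [this]
  rfl

end Iso

section Transport

variable {k A : Type*} [Field k] [CommRing A] [Algebra k A]

lemma equiv_aeval (e : A ≃ₐ[k] k[X][X]) {y : A} (hy : e y = C X) (p : k[X]) :
    e (aeval y p) = C p := by
  have h1 : e (aeval y p) = aeval (e y) p :=
    (Polynomial.aeval_algHom_apply e.toAlgHom y p).symm
  rw [h1, hy]
  have h2 := Polynomial.aeval_algHom_apply (Polynomial.CAlgHom (R := k) (A := k[X])) X p
  simp only [CAlgHom_apply, aeval_X_left_apply] at h2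
  exact h2

lemma Htf_of_equiv (e : A ≃ₐ[k] k[X][X]) {y g : A} (hy : e y = C X) (hG : (e g).Monic) :
    ∀ p : k[X], p ≠ 0 → ∀ f : A, aeval y p * f ∈ Ideal.span {g} → f ∈ Ideal.span {g} := by
  intro p hp f h
  rw [Ideal.mem_span_singleton] at h ⊢
  rw [← map_dvd_iff e] at h ⊢
  rw [map_mul, equiv_aeval e hy] at h
  rw [← Ideal.mem_span_singleton] at h ⊢
  exact mem_span_of_C_mul_mem hG hp h

lemma Hfin_of_equiv (e : A ≃ₐ[k] k[X][X]) {y g : A} (hy : e y = C X) (hG : (e g).Monic) :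
    RingHom.Finite (A := k[X]) (B := A ⧸ Ideal.span {g})
      ((Ideal.Quotient.mk (Ideal.span {g})).comp (aeval y : k[X] →ₐ[k] A).toRingHom) := by
  have hy' : e.symm (C X) = y := by rw [← hy, AlgEquiv.symm_apply_apply]
  let ρ : (k[X][X] ⧸ Ideal.span {e g}) →+* (A ⧸ Ideal.span {g}) :=
    Ideal.Quotient.lift (Ideal.span {e g})
      ((Ideal.Quotient.mk (Ideal.span {g})).comp (e.symm : k[X][X] →+* A)) (by
        intro x hx
        obtain ⟨u, rfl⟩ := Ideal.mem_span_singleton'.mp hx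
        show Ideal.Quotient.mk (Ideal.span {g}) (e.symm (u * e g)) = 0
        rw [map_mul, AlgEquiv.symm_apply_apply, Ideal.Quotient.eq_zero_iff_mem]
        exact Ideal.mul_mem_left _ _ (Ideal.subset_span rfl))
  have hρ : ∀ x, ρ (Ideal.Quotient.mk _ x) = Ideal.Quotient.mk _ (e.symm x) := fun x => rfl
  have hρs : Function.Surjective ρ := by
    intro z
    obtain ⟨a, rfl⟩ := Ideal.Quotient.mk_surjective z
    exact ⟨Ideal.Quotient.mk _ (e a), by rw [hρ, AlgEquiv.symm_apply_apply]⟩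
  have heq : ((Ideal.Quotient.mk (Ideal.span {g})).comp (aeval y : k[X] →ₐ[k] A).toRingHom) =
      ρ.comp ((Ideal.Quotient.mk (Ideal.span {e g})).comp (C : k[X] →+* k[X][X])) := by
    apply Polynomial.ringHom_ext'
    · ext a
      simp only [RingHom.comp_apply, hρ]
      have : e.symm (C (C a)) = algebraMap k A a := by
        rw [← AlgEquiv.commutes e.symm a]
        rfl
      rw [this]
      simp
    · simp only [RingHom.comp_apply, hρ, hy']
      simp
  rw [heq]
  have h1 : RingHom.Finite (A := k[X][X] ⧸ Ideal.span {e g}) (B := A ⧸ Ideal.span {g}) ρ :=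
    RingHom.Finite.of_surjective (A := k[X][X] ⧸ Ideal.span {e g}) (B := A ⧸ Ideal.span {g}) ρ hρs
  have h2 := finite_mk_comp_C hG
  exact RingHom.Finite.comp h1 h2

end Transport

section Plane

variable {k : Type*} [Field k]

lemma sub_C_eval_mem {σ : Type*} (pt : σ → k) (f : MvPolynomial σ k) :
    f - MvPolynomial.C (MvPolynomial.eval pt f) ∈
      Ideal.span (Set.range fun l => (MvPolynomial.X l - MvPolynomial.C (pt l) : MvPolynomial σ k)) := by
  set 𝔪 := Ideal.span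
    (Set.range fun l => (MvPolynomial.X l - MvPolynomial.C (pt l) : MvPolynomial σ k)) with h𝔪
  have : (Ideal.Quotient.mk 𝔪) =
      ((Ideal.Quotient.mk 𝔪).comp MvPolynomial.C).comp (MvPolynomial.eval pt) := by
    apply MvPolynomial.ringHom_ext
    · intro a; simp
    · intro l
      simp only [RingHom.comp_apply, MvPolynomial.eval_X]
      rw [Ideal.Quotient.eq]
      exact Ideal.subset_span ⟨l, rfl⟩
  rw [← Ideal.Quotient.eq]
  exact RingHom.congr_fun this f

lemma span_pair_eq : (Ideal.span {MvPolynomial.X 0, MvPolynomial.X 1} : Ideal (MvPolynomial (Fin 2) k)) =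
    Ideal.span (Set.range fun l : Fin 2 =>
      (MvPolynomial.X l - MvPolynomial.C ((0 : Fin 2 → k) l) : MvPolynomial (Fin 2) k)) := by
  congr 1
  ext f
  simp only [Set.mem_insert_iff, Set.mem_singleton_iff, Pi.zero_apply, map_zero, sub_zero,
    Set.mem_range, Fin.exists_fin_two]
  tauto

lemma mem_pair_of_eval_zero {f : MvPolynomial (Fin 2) k} (h : MvPolynomial.eval (0 : Fin 2 → k) f = 0) :
    f ∈ (Ideal.span {MvPolynomial.X 0, MvPolynomial.X 1} : Ideal (MvPolynomial (Fin 2) k)) := by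
  have := sub_C_eval_mem (0 : Fin 2 → k) f
  rw [h, map_zero, sub_zero, ← span_pair_eq] at this
  exact this

lemma X_mem_pair (i : Fin 2) : (MvPolynomial.X i : MvPolynomial (Fin 2) k) ∈
    (Ideal.span {MvPolynomial.X 0, MvPolynomial.X 1} : Ideal (MvPolynomial (Fin 2) k)) :=
  mem_pair_of_eval_zero (by simp)

lemma exists_X_not_mem (𝔞 : Ideal (MvPolynomial (Fin 2) k))
    (hn : 2 ≤ Module.finrank k (MvPolynomial (Fin 2) k ⧸ 𝔞)) :
    ∃ i : Fin 2, (MvPolynomial.X i : MvPolynomial (Fin 2) k) ∉ 𝔞 := by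
  by_contra hcon
  simp only [not_exists, not_not] at hcon
  have h𝔪 : (Ideal.span {MvPolynomial.X 0, MvPolynomial.X 1} : Ideal (MvPolynomial (Fin 2) k)) ≤ 𝔞 := by
    rw [Ideal.span_le]
    rintro _ (rfl | rfl)
    · exact hcon 0
    · exact hcon 1
  have : Module.finrank k (MvPolynomial (Fin 2) k ⧸ 𝔞) ≤ 1 := by
    apply finrank_le_one (1 : MvPolynomial (Fin 2) k ⧸ 𝔞)
    intro w
    obtain ⟨f, rfl⟩ := Ideal.Quotient.mk_surjective w
    refine ⟨MvPolynomial.eval (0 : Fin 2 → k) f, ?_⟩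
    have h1 : (MvPolynomial.eval (0 : Fin 2 → k) f) • (1 : MvPolynomial (Fin 2) k ⧸ 𝔞) =
        Ideal.Quotient.mk 𝔞 (MvPolynomial.C (MvPolynomial.eval (0 : Fin 2 → k) f)) := by
      rw [← map_one (Ideal.Quotient.mk 𝔞), ← Ideal.Quotient.mkₐ_eq_mk k, ← map_smul,
        MvPolynomial.smul_eq_C_mul, mul_one]
    rw [h1]
    symm
    rw [Ideal.Quotient.eq]
    apply h𝔪
    rw [span_pair_eq]
    exact sub_C_eval_mem _ f
  omega

/-- the colon ideal `(𝔞 : y)` -/
def colonIdeal {A : Type*} [CommRing A] (𝔞 : Ideal A) (y : A) : Ideal A where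
  carrier := {f | y * f ∈ 𝔞}
  add_mem' := by
    intro a b ha hb
    show y * (a + b) ∈ 𝔞
    rw [mul_add]; exact 𝔞.add_mem ha hb
  zero_mem' := by show y * 0 ∈ 𝔞; simp
  smul_mem' := by
    intro c f hf
    show y * (c * f) ∈ 𝔞
    rw [mul_left_comm]; exact 𝔞.mul_mem_left _ hf

lemma mem_colonIdeal {A : Type*} [CommRing A] {𝔞 : Ideal A} {y f : A} :
    f ∈ colonIdeal 𝔞 y ↔ y * f ∈ 𝔞 := Iff.rfl

lemma le_colonIdeal {A : Type*} [CommRing A] (𝔞 : Ideal A) (y : A) : 𝔞 ≤ colonIdeal 𝔞 y :=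
  fun _ hf => mem_colonIdeal.mpr (𝔞.mul_mem_left _ hf)

lemma finite_quot_of_le {A : Type*} [CommRing A] [Algebra k A] {𝔞 𝔟 : Ideal A} (h : 𝔞 ≤ 𝔟)
    [Module.Finite k (A ⧸ 𝔞)] : Module.Finite k (A ⧸ 𝔟) := by
  let φ : (A ⧸ 𝔞) →ₐ[k] (A ⧸ 𝔟) := Ideal.Quotient.liftₐ 𝔞 (Ideal.Quotient.mkₐ k 𝔟) (by
    intro a ha
    simp only [Ideal.Quotient.mkₐ_eq_mk]
    exact Ideal.Quotient.eq_zero_iff_mem.mpr (h ha))
  apply Module.Finite.of_surjective φ.toLinearMap
  intro z
  obtain ⟨a, rfl⟩ := Ideal.Quotient.mk_surjective z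
  exact ⟨Ideal.Quotient.mk 𝔞 a, rfl⟩

lemma colonIdeal_le_pair (𝔞 : Ideal (MvPolynomial (Fin 2) k))
    (hsupp : 𝔞.radical = Ideal.span {MvPolynomial.X 0, MvPolynomial.X 1})
    {i : Fin 2} (hi : (MvPolynomial.X i : MvPolynomial (Fin 2) k) ∉ 𝔞) :
    colonIdeal 𝔞 (MvPolynomial.X i) ≤ Ideal.span {MvPolynomial.X 0, MvPolynomial.X 1} := by
  intro f hf
  by_contra hfm
  set c := MvPolynomial.eval (0 : Fin 2 → k) f with hc
  have hc0 : c ≠ 0 := fun h0 => hfm (mem_pair_of_eval_zero h0)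
  have hh : f - MvPolynomial.C c ∈ 𝔞.radical := by
    rw [hsupp, span_pair_eq]
    exact sub_C_eval_mem _ f
  obtain ⟨N, hN⟩ := hh
  have hnil : IsNilpotent (Ideal.Quotient.mk 𝔞 (f - MvPolynomial.C c)) :=
    ⟨N, by rw [← map_pow]; exact Ideal.Quotient.eq_zero_iff_mem.mpr hN⟩
  have hunit : IsUnit (Ideal.Quotient.mk 𝔞 (MvPolynomial.C c)) := by
    refine IsUnit.of_mul_eq_one (Ideal.Quotient.mk 𝔞 (MvPolynomial.C c⁻¹)) ?_
    rw [← map_mul, ← map_mul, mul_inv_cancel₀ hc0, map_one, map_one]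
  have hfu : IsUnit (Ideal.Quotient.mk 𝔞 f) := by
    have := hnil.isUnit_add_left_of_commute hunit (Commute.all _ _)
    rwa [← map_add, add_sub_cancel] at this
  have h0 : Ideal.Quotient.mk 𝔞 (MvPolynomial.X i) * Ideal.Quotient.mk 𝔞 f = 0 := by
    rw [← map_mul]; exact Ideal.Quotient.eq_zero_iff_mem.mpr (mem_colonIdeal.mp hf)
  have := (hfu.mul_left_eq_zero).mp h0
  exact hi (Ideal.Quotient.eq_zero_iff_mem.mp this)

lemma exists_g (𝔞 : Ideal (MvPolynomial (Fin 2) k))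
    (hsupp : 𝔞.radical = Ideal.span {MvPolynomial.X 0, MvPolynomial.X 1})
    {i j : Fin 2} (hij : i ≠ j) (hi : (MvPolynomial.X i : MvPolynomial (Fin 2) k) ∉ 𝔞) :
    ∃ g ∈ 𝔞, (eqv i j hij g).Monic ∧ (eqv i j hij g).natDegree ≠ 0 ∧
      𝔞 ≤ Ideal.span {g} ⊔ Ideal.span {MvPolynomial.X i} := by
  set e := eqv (k := k) i j hij with he
  have hrad : ∀ l : Fin 2, ∃ N : ℕ, (MvPolynomial.X l : MvPolynomial (Fin 2) k) ^ N ∈ 𝔞 := by
    intro l
    have : (MvPolynomial.X l : MvPolynomial (Fin 2) k) ∈ 𝔞.radical := by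
      rw [hsupp]; exact X_mem_pair l
    exact this
  obtain ⟨K, hK⟩ := hrad i
  obtain ⟨N, hN⟩ := hrad j
  set 𝔞P : Ideal k[X][X] := Ideal.comap (e.symm : k[X][X] →+* MvPolynomial (Fin 2) k) 𝔞 with h𝔞P
  have hmemP : ∀ x, x ∈ 𝔞P ↔ e.symm x ∈ 𝔞 := fun x => Iff.rfl
  have hy : (C X : k[X][X]) ^ K ∈ 𝔞P := by
    rw [hmemP, map_pow, he, eqv_symm_C_X hij]; exact hK
  have hx : (X : k[X][X]) ^ N ∈ 𝔞P := by
    rw [hmemP, map_pow, he, eqv_symm_X hij]; exact hN
  obtain ⟨G, hGmem, hGm, hGle⟩ := exists_monic_gen 𝔞P hy hx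
  refine ⟨e.symm G, (hmemP G).mp hGmem, ?_, ?_, ?_⟩
  · rw [AlgEquiv.apply_symm_apply]; exact hGm
  · rw [AlgEquiv.apply_symm_apply]
    intro h0
    have h1 : G = 1 := hGm.natDegree_eq_zero.mp h0
    have h2 : (1 : MvPolynomial (Fin 2) k) ∈ 𝔞 := by
      have := (hmemP G).mp hGmem
      rwa [h1, map_one] at this
    exact hi (by have := 𝔞.mul_mem_left (MvPolynomial.X i) h2; rwa [mul_one] at this)
  · intro f hf
    have h1 : e f ∈ 𝔞P := by rw [hmemP, AlgEquiv.symm_apply_apply]; exact hf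
    obtain ⟨a, ha, b, hb, hab⟩ := Submodule.mem_sup.mp (hGle h1)
    obtain ⟨u, rfl⟩ := Ideal.mem_span_singleton'.mp ha
    obtain ⟨v, rfl⟩ := Ideal.mem_span_singleton'.mp hb
    have h2 : f = e.symm u * e.symm G + e.symm v * MvPolynomial.X i := by
      have := congrArg e.symm hab
      rw [AlgEquiv.symm_apply_apply, map_add, map_mul, map_mul, he, eqv_symm_C_X hij] at this
      exact this.symm
    rw [h2]
    exact Submodule.add_mem_sup (Ideal.mul_mem_left _ _ (Ideal.subset_span rfl))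
      (Ideal.mul_mem_left _ _ (Ideal.subset_span rfl))

end Plane

end Seat51PullApart
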