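import Groth.Agent.Lib.Seat87GrpLim2

/-!
# Closed subgroups over a cofiltered limit (helper87)

* `subGrpObj`, `isMonHom_sub`: a monomorphism `i : H ⟶ G` into a group object whose images on
  points are subgroups makes `H` a group object with `i` a homomorphism.
* `Factors q m u`: `q^* m` factors through `q^* u`; transfer along base change and descent from
  the limit of a cofiltered system to a stage.
* `exists_subgroup_of_limit`, `exists_normal_subgroup_of_limit`: if `q^* H₀ ⊆ q^* G₀` is a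
  (normal) subgroup over the limit then it is one at some stage.
-/

set_option autoImplicit false
set_option backward.isDefEq.respectTransparency false
set_option backward.defeqAttrib.useBackward true
universe u

open CategoryTheory CategoryTheory.Limits AlgebraicGeometry MonoidalCategory
  CartesianMonoidalCategory MonObj GrpObj Opposite

namespace Groth.Agent.Lib.Seat87.GrpLim

open Groth.Agent.Lib.Seat87.NilpSolv

section SubgroupObj
variable {C : Type*} [Category C] [CartesianMonoidalCategory C] {G H : C} [GrpObj G] (i : H ⟶ G)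
variable (K : ∀ X : C, Subgroup (X ⟶ G))
  (hK : ∀ (X : C) (g : X ⟶ G), g ∈ K X ↔ ∃ h : X ⟶ H, h ≫ i = g)

/-- restriction of precomposition to the subgroups -/
noncomputable def subMap {X Y : C} (f : Y ⟶ X) : K X →* K Y :=
  ((precomp G f).comp (K X).subtype).codRestrict (K Y) (by
    intro x
    obtain ⟨h, hh⟩ := (hK _ _).1 x.2
    exact (hK _ _).2 ⟨f ≫ h, by rw [Category.assoc, hh]; rfl⟩)

lemma subMap_coe {X Y : C} (f : Y ⟶ X) (x : K X) : (subMap i K hK f x : Y ⟶ G) = f ≫ (x : X ⟶ G) := rfl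

/-- presheaf of groups of points of `H` -/
noncomputable def subFunctor : Cᵒᵖ ⥤ GrpCat where
  obj X := GrpCat.of (K X.unop)
  map {X Y} f := GrpCat.ofHom (subMap i K hK f.unop)
  map_id X := by
    ext x
    change (𝟙 X).unop ≫ (x : X.unop ⟶ G) = (x : X.unop ⟶ G)
    simp
  map_comp f g := by
    ext x
    change (f ≫ g).unop ≫ (x : _ ⟶ G) = g.unop ≫ f.unop ≫ (x : _ ⟶ G)
    simp

variable [Mono i]

/-- `H` represents it -/
noncomputable def subRep : (subFunctor i K hK ⋙ forget _).RepresentableBy H where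
  homEquiv {X} := Equiv.ofBijective (fun h => (⟨h ≫ i, (hK _ _).2 ⟨h, rfl⟩⟩ : K X))
    ⟨fun a b hab => (cancel_mono i).1 (congrArg Subtype.val hab),
     fun x => by
      obtain ⟨h, hh⟩ := (hK _ _).1 x.2
      exact ⟨h, Subtype.ext hh⟩⟩
  homEquiv_comp f g := by
    apply Subtype.ext
    change (f ≫ g) ≫ i = f ≫ (g ≫ i)
    exact Category.assoc _ _ _

/-- the induced group structure on `H` -/
@[instance_reducible]
noncomputable def subGrpObj : GrpObj H :=
  GrpObj.ofRepresentableBy H (subFunctor i K hK) (subRep i K hK)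

lemma subRep_homEquiv_coe {X : C} (h : X ⟶ H) :
    ((show K X from (subRep i K hK).homEquiv' h) : X ⟶ G) = h ≫ i := rfl

lemma isMonHom_sub : @IsMonHom _ _ _ H G (subGrpObj i K hK).toMonObj _ i := by
  let _ := subGrpObj i K hK
  refine ⟨?_, ?_⟩
  · have h1 : (show K (𝟙_ C) from (subRep i K hK).homEquiv' (η[H])) = 1 :=
      Equiv.apply_symm_apply (subRep i K hK).homEquiv' _
    have := congrArg (fun x : K (𝟙_ C) => (x : 𝟙_ C ⟶ G)) h1
    rw [MonObj.one_eq_one (M := G)]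
    exact this
  · have h1 : (show K (H ⊗ H) from (subRep i K hK).homEquiv' (μ[H])) =
        (show K (H ⊗ H) from (subRep i K hK).homEquiv' (fst H H)) *
          (show K (H ⊗ H) from (subRep i K hK).homEquiv' (snd H H)) :=
      Equiv.apply_symm_apply (subRep i K hK).homEquiv' _
    have := congrArg (fun x : K (H ⊗ H) => (x : H ⊗ H ⟶ G)) h1
    have e : μ[H] ≫ i = (fst H H ≫ i) * (snd H H ≫ i) := this
    rw [e, Hom.mul_def]
    congr 1
    ext <;> simp

end SubgroupObj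

section Factor

variable {S T T' : Scheme.{u}} (q : T ⟶ S) (r : T' ⟶ T) (q' : T' ⟶ S) (hq : r ≫ q = q')
  {X G H : Over S} (m : X ⟶ G) (uj : H ⟶ G)

/-- `q^* m` factors through `q^* uj`. -/
def Factors : Prop :=
  ∃ z : Red.bc q X ⟶ Red.bc q H, (Over.pullback q).map m = z ≫ (Over.pullback q).map uj

include hq in
lemma factors_transfer (h : Factors q m uj) : Factors q' m uj := by
  obtain ⟨ν, hν⟩ := h
  refine ⟨bcMap q r q' hq ν, ?_⟩
  rw [← bcMap_map q r q' hq m, hν, bcMap_comp, bcMap_map]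

end Factor

section FactorLimit

variable {I : Type u} [SmallCategory I] (D : I ⥤ Scheme.{u}) (c : Cone D)
  [IsCofiltered I] [∀ (i i' : I) (f : i ⟶ i'), IsAffineHom (D.map f)]
  (hc : IsLimit c) (j : I) [CompactSpace (D.obj j)] [QuasiSeparatedSpace (D.obj j)]
  {X Gj Hj : Over (D.obj j)} (m : X ⟶ Gj) (uj : Hj ⟶ Gj)

include hc in
/-- A factorization over the limit descends to a stage. -/
lemma exists_factors_of_limit [QuasiCompact X.hom] [QuasiSeparated X.hom]
    [LocallyOfFinitePresentation Hj.hom] [LocallyOfFiniteType Gj.hom]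
    (h : Factors (c.π.app j) m uj) : ∃ k : Over j, Factors (D.map k.hom) m uj := by
  obtain ⟨ν, hν⟩ := h
  obtain ⟨k, g, hg1, hg2⟩ := exists_map_of_limit D c hc j X Hj.hom
    (ν.left ≫ pullback.fst Hj.hom (c.π.app j)) (bc_hom_left_fst_comp _ ν)
  set νk : Red.bc (D.map k.hom) X ⟶ Red.bc (D.map k.hom) Hj :=
    ofMap (D.map k.hom) g hg2 with hνk
  set A := (Over.pullback (D.map k.hom)).map m with hA
  set B := νk ≫ (Over.pullback (D.map k.hom)).map uj with hB
  have hν' : bcMap (D.map k.hom) (c.π.app k.left) (c.π.app j) (c.w k.hom) νk = ν := by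
    apply bc_hom_ext
    rw [bcMap_left_fst, hνk, ofMap_left_fst]
    exact hg1
  have hAB : bcMap (D.map k.hom) (c.π.app k.left) (c.π.app j) (c.w k.hom) A =
      bcMap (D.map k.hom) (c.π.app k.left) (c.π.app j) (c.w k.hom) B := by
    rw [hA, hB, bcMap_map, bcMap_comp, bcMap_map, hν', hν]
  have hk : pbProj D c j X k ≫ (A.left ≫ pullback.fst Gj.hom (D.map k.hom)) =
      pbProj D c j X k ≫ (B.left ≫ pullback.fst Gj.hom (D.map k.hom)) := by
    have := congrArg (fun z => z.left ≫ pullback.fst Gj.hom (c.π.app j)) hAB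
    simp only [bcMap_left_fst] at this
    exact this
  obtain ⟨k', τ, hτ⟩ := exists_map_comp_eq D c hc j X Gj.hom k _ _
    (bc_hom_left_fst_comp _ A) (bc_hom_left_fst_comp _ B) hk
  have hq' : D.map τ.left ≫ D.map k.hom = D.map k'.hom := by rw [← D.map_comp, Over.w τ]
  refine ⟨k', bcMap (D.map k.hom) (D.map τ.left) (D.map k'.hom) hq' νk, ?_⟩
  have hAB' : bcMap (D.map k.hom) (D.map τ.left) (D.map k'.hom) hq' A =
      bcMap (D.map k.hom) (D.map τ.left) (D.map k'.hom) hq' B := by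
    apply bc_hom_ext
    rw [bcMap_left_fst, bcMap_left_fst]
    exact hτ
  rwa [hA, hB, bcMap_map, bcMap_comp, bcMap_map] at hAB'

omit [IsCofiltered I] [∀ (i i' : I) (f : i ⟶ i'), IsAffineHom (D.map f)]
  [CompactSpace (D.obj j)] [QuasiSeparatedSpace (D.obj j)] in
lemma factors_stage {k k' : Over j} (τ : k' ⟶ k) (h : Factors (D.map k.hom) m uj) :
    Factors (D.map k'.hom) m uj :=
  factors_transfer (D.map k.hom) (D.map τ.left) (D.map k'.hom)
    (by rw [← D.map_comp, Over.w τ]) m uj h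

end FactorLimit

section SubgroupBC

variable {S T : Scheme.{u}} (q : T ⟶ S) {G₀ H₀ : Over S} [GrpObj G₀] (ι₀ : H₀ ⟶ G₀)

/-- the unit section, as a morphism from the unit object -/
noncomputable def m₁ (G₀ : Over S) [GrpObj G₀] : 𝟙_ (Over S) ⟶ G₀ := 1

/-- `(a, b) ↦ ι a * ι b` -/
noncomputable def m₂ : H₀ ⊗ H₀ ⟶ G₀ := (fst H₀ H₀ ≫ ι₀) * (snd H₀ H₀ ≫ ι₀)

/-- `a ↦ (ι a)⁻¹` -/
noncomputable def m₃ : H₀ ⟶ G₀ := ι₀⁻¹

/-- `(g, n) ↦ g (ι n) g⁻¹` -/
noncomputable def m₄ : G₀ ⊗ H₀ ⟶ G₀ := fst G₀ H₀ * (snd G₀ H₀ ≫ ι₀) * (fst G₀ H₀)⁻¹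

/-- The three closure conditions for `q^* H₀ ⊆ q^* G₀` to be a subgroup. -/
def SubConds : Prop :=
  Factors q (m₁ G₀) ι₀ ∧ Factors q (m₂ ι₀) ι₀ ∧ Factors q (m₃ ι₀) ι₀

lemma subConds_of_grpObj (inst : GrpObj (Red.bc q H₀))
    (hmon : IsMonHom ((Over.pullback q).map ι₀)) : SubConds q ι₀ := by
  refine ⟨⟨1, ?_⟩, ⟨(Over.pullback q).map (fst H₀ H₀) * (Over.pullback q).map (snd H₀ H₀), ?_⟩,
    ⟨(𝟙 (Red.bc q H₀))⁻¹, ?_⟩⟩
  · rw [MonObj.one_comp, m₁, Functor.map_one]
  · rw [MonObj.mul_comp, m₂, Functor.map_mul, Functor.map_comp, Functor.map_comp]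
  · rw [GrpObj.inv_comp, Category.id_comp, m₃, Functor.map_inv']

/-- The subgroup of points of `q^* G₀` coming from `q^* H₀`, under the closure conditions. -/
noncomputable def ptsSubgroup (h : SubConds q ι₀) (X : Over T) : Subgroup (X ⟶ Red.bc q G₀) where
  carrier := {g | ∃ a : X ⟶ Red.bc q H₀, a ≫ (Over.pullback q).map ι₀ = g}
  mul_mem' := by
    rintro _ _ ⟨a, rfl⟩ ⟨b, rfl⟩
    obtain ⟨z, hz⟩ := h.2.1
    obtain ⟨t, rfl, rfl⟩ := exists_point q a b
    refine ⟨t ≫ z, ?_⟩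
    rw [Category.assoc, ← hz, m₂, Functor.map_mul, Functor.map_comp, Functor.map_comp,
      MonObj.comp_mul, Category.assoc, Category.assoc]
  one_mem' := by
    obtain ⟨z, hz⟩ := h.1
    refine ⟨toUnit X ≫ Functor.LaxMonoidal.ε (Over.pullback q) ≫ z, ?_⟩
    rw [Category.assoc, Category.assoc, ← hz, m₁, Functor.map_one, MonObj.comp_one,
      MonObj.comp_one]
  inv_mem' := by
    rintro _ ⟨a, rfl⟩
    obtain ⟨z, hz⟩ := h.2.2
    refine ⟨a ≫ z, ?_⟩
    rw [Category.assoc, ← hz, m₃, Functor.map_inv', GrpObj.comp_inv]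

lemma mem_ptsSubgroup (h : SubConds q ι₀) (X : Over T) (g : X ⟶ Red.bc q G₀) :
    g ∈ ptsSubgroup q ι₀ h X ↔ ∃ a : X ⟶ Red.bc q H₀, a ≫ (Over.pullback q).map ι₀ = g :=
  Iff.rfl

lemma exists_grpObj_of_subConds [Mono ((Over.pullback q).map ι₀)] (h : SubConds q ι₀) :
    ∃ inst : GrpObj (Red.bc q H₀), IsMonHom ((Over.pullback q).map ι₀) :=
  ⟨subGrpObj ((Over.pullback q).map ι₀) (ptsSubgroup q ι₀ h) (mem_ptsSubgroup q ι₀ h),
    isMonHom_sub ((Over.pullback q).map ι₀) (ptsSubgroup q ι₀ h) (mem_ptsSubgroup q ι₀ h)⟩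

/-- normality in terms of a factorization, for any group structure on `q^* H₀` -/
lemma normal_iff_factors (inst : GrpObj (Red.bc q H₀)) :
    AlgGrp.IsNormalHom ((Over.pullback q).map ι₀) ↔ Factors q (m₄ ι₀) ι₀ := by
  have e1 : (Over.pullback q).map (m₄ ι₀) = (Over.pullback q).map (fst G₀ H₀) *
      ((Over.pullback q).map (snd G₀ H₀) ≫ (Over.pullback q).map ι₀) *
        ((Over.pullback q).map (fst G₀ H₀))⁻¹ := by
    rw [m₄, Functor.map_mul, Functor.map_mul, Functor.map_comp, Functor.map_inv']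
  constructor
  · intro h
    obtain ⟨ν, hν⟩ := h _ ((Over.pullback q).map (fst G₀ H₀)) ((Over.pullback q).map (snd G₀ H₀))
    exact ⟨ν, by rw [e1, hν]⟩
  · rintro ⟨ν, hν⟩ X g n
    obtain ⟨t, rfl, rfl⟩ := exists_point q g n
    refine ⟨t ≫ ν, ?_⟩
    have := congrArg (fun z => t ≫ z) hν
    simp only [e1, MonObj.comp_mul, GrpObj.comp_inv] at this
    rw [Category.assoc]
    exact this

end SubgroupBC

section Main

variable {I : Type u} [SmallCategory I] (D : I ⥤ Scheme.{u}) (c : Cone D)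
  [IsCofiltered I] [∀ (i i' : I) (f : i ⟶ i'), IsAffineHom (D.map f)]
  (hc : IsLimit c) (j : I) [CompactSpace (D.obj j)] [QuasiSeparatedSpace (D.obj j)]
  {G₀ H₀ : Over (D.obj j)} [GrpObj G₀] (ι₀ : H₀ ⟶ G₀) [Mono ι₀]
  [QuasiCompact G₀.hom] [QuasiSeparated G₀.hom] [LocallyOfFiniteType G₀.hom]
  [QuasiCompact H₀.hom] [QuasiSeparated H₀.hom] [LocallyOfFinitePresentation H₀.hom]

include hc in
lemma exists_subConds_of_limit (h : SubConds (c.π.app j) ι₀) :
    ∃ k : Over j, SubConds (D.map k.hom) ι₀ := by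
  have hq1 : QuasiCompact (𝟙_ (Over (D.obj j))).hom := by
    change QuasiCompact (𝟙 (D.obj j)); infer_instance
  have hq2 : QuasiSeparated (𝟙_ (Over (D.obj j))).hom := by
    change QuasiSeparated (𝟙 (D.obj j)); infer_instance
  have hq3 : QuasiSeparated (H₀ ⊗ H₀).hom := by
    rw [Over.tensorObj_hom]; infer_instance
  obtain ⟨k₁, h₁⟩ := exists_factors_of_limit D c hc j (m₁ G₀) ι₀ h.1
  obtain ⟨k₂, h₂⟩ := exists_factors_of_limit D c hc j (m₂ ι₀) ι₀ h.2.1
  obtain ⟨k₃, h₃⟩ := exists_factors_of_limit D c hc j (m₃ ι₀) ι₀ h.2.2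
  refine ⟨IsCofiltered.min (IsCofiltered.min k₁ k₂) k₃,
    factors_stage D j _ ι₀ (IsCofiltered.minToLeft _ k₃ ≫ IsCofiltered.minToLeft k₁ k₂) h₁,
    factors_stage D j _ ι₀ (IsCofiltered.minToLeft _ k₃ ≫ IsCofiltered.minToRight k₁ k₂) h₂,
    factors_stage D j _ ι₀ (IsCofiltered.minToRight _ k₃) h₃⟩

include hc in
/-- A subgroup structure over the limit descends to a stage. -/
theorem exists_subgroup_of_limit
    (hH : ∃ _ : GrpObj (Red.bc (c.π.app j) H₀), IsMonHom ((Over.pullback (c.π.app j)).map ι₀)) :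
    ∃ (k : Over j) (_ : GrpObj (Red.bc (D.map k.hom) H₀)),
      IsMonHom ((Over.pullback (D.map k.hom)).map ι₀) := by
  obtain ⟨inst, hmon⟩ := hH
  obtain ⟨k, hk⟩ := exists_subConds_of_limit D c hc j ι₀ (subConds_of_grpObj _ ι₀ inst hmon)
  exact ⟨k, exists_grpObj_of_subConds _ ι₀ hk⟩

include hc in
/-- A normal subgroup structure over the limit descends to a stage. -/
theorem exists_normal_subgroup_of_limit
    (hH : ∃ (_ : GrpObj (Red.bc (c.π.app j) H₀))
      (_ : IsMonHom ((Over.pullback (c.π.app j)).map ι₀)),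
      AlgGrp.IsNormalHom ((Over.pullback (c.π.app j)).map ι₀)) :
    ∃ (k : Over j) (_ : GrpObj (Red.bc (D.map k.hom) H₀))
      (_ : IsMonHom ((Over.pullback (D.map k.hom)).map ι₀)),
      AlgGrp.IsNormalHom ((Over.pullback (D.map k.hom)).map ι₀) := by
  obtain ⟨inst, hmon, hn⟩ := hH
  obtain ⟨k₁, hk₁⟩ := exists_subConds_of_limit D c hc j ι₀ (subConds_of_grpObj _ ι₀ inst hmon)
  have hq3 : QuasiSeparated (G₀ ⊗ H₀).hom := by
    rw [Over.tensorObj_hom]; infer_instance
  obtain ⟨k₂, hk₂⟩ := exists_factors_of_limit D c hc j (m₄ ι₀) ι₀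
    ((normal_iff_factors _ ι₀ inst).1 hn)
  have hk : SubConds (D.map (IsCofiltered.min k₁ k₂).hom) ι₀ :=
    ⟨factors_stage D j _ ι₀ (IsCofiltered.minToLeft k₁ k₂) hk₁.1,
      factors_stage D j _ ι₀ (IsCofiltered.minToLeft k₁ k₂) hk₁.2.1,
      factors_stage D j _ ι₀ (IsCofiltered.minToLeft k₁ k₂) hk₁.2.2⟩
  obtain ⟨inst', hmon'⟩ := exists_grpObj_of_subConds _ ι₀ hk
  exact ⟨IsCofiltered.min k₁ k₂, inst', hmon', (normal_iff_factors _ ι₀ inst').2
    (factors_stage D j _ ι₀ (IsCofiltered.minToRight k₁ k₂) hk₂)⟩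

end Main

end Groth.Agent.Lib.Seat87.GrpLim
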