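import Groth.Agent.Lib.Seat51StabFinite
import Groth.Agent.Lib.Seat51FibreIso
import Groth.Agent.Lib.Seat87GrpLim3
import Groth.Agent.Lib.Helper25Cartier
import Groth.Prelude.Def_ActBC

/-!
# Seat51StabGrp: the stabilizer group scheme of an action (helper51)

For an action `a` of an `S`-group `G` on `X`, the stabilizer `𝒮 = (G × X) ×_{X × X} X ⟶ X`
(`stabP a`, the pullback of `Ψ = (σ, p₂)` along the diagonal).

* `grpObjStab a : GrpObj (Over.mk (stabP a))`: the stabilizer is an `X`-group scheme, a subgroup
  of `G_X = Red.bc X.hom G` (`stabι`, via `Seat87GrpLim.subGrpObj`).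
* `mono_psi_of_mono_stabP`: trivial stabilizer (`stabP` a monomorphism) implies `Ψ` a monomorphism.
* `locallyOfFiniteType_stabP`, `isSeparated_stabP`, `formallyUnramified_stabP`,
  `mono_stabP_of_etale`.
* `isIso_fiber_of_isReduced`, `isReduced_fiber_of_charZero`, `isIso_fiber_of_charZero`,
  `isIso_fiber_of_etale`: triviality of the fibres of a universally injective stabilizer.
-/

set_option autoImplicit false
set_option linter.style.haveILetI false
universe u
open CategoryTheory MonoidalCategory CartesianMonoidalCategory MonObj GrpObj AlgebraicGeometry Limits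
open Groth.Agent.Lib.Seat51.GITSep Groth.Agent.Lib.Seat51.StabFinite
open Groth.Agent.Lib.Seat51.FibreIso

namespace Groth.Agent.Lib.Seat51.StabGrp


variable {S : Scheme.{u}} {G X : Over S} [GrpObj G] (a : AlgGrp.Action G X)

/-- structure map of the stabilizer group scheme -/
noncomputable abbrev stabP :
    pullback (GIT.psi a (𝟙 X)).left (lift (𝟙 X) (𝟙 X)).left ⟶ X.left :=
  pullback.snd _ _

/-- the adjunction bijection on points is multiplicative -/
noncomputable def heMul (T : Over X.left) :
    ((Over.map X.hom).obj T ⟶ G) ≃* (T ⟶ Red.bc X.hom G) :=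
  MulEquiv.mk' ((Over.mapPullbackAdj X.hom).homEquiv T G) (AlgGrp.Action.homEquiv_mul X.hom)

/-- the tautological point -/
noncomputable def tau (T : Over X.left) : (Over.map X.hom).obj T ⟶ X := Over.homMk T.hom rfl

lemma heMul_symm_left (T : Over X.left) (t : T ⟶ Red.bc X.hom G) :
    ((heMul (G := G) T).symm t).left = t.left ≫ pullback.fst G.hom X.hom := by
  rfl

/-- points of `G_X` stabilising the tautological point -/
noncomputable def stabSub (T : Over X.left) : Subgroup (T ⟶ Red.bc X.hom G) where
  carrier := {t | (heMul T).symm t ∈ StabPts a (tau T)}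
  mul_mem' := by
    intro t t' ht ht'
    simp only [Set.mem_ofPred_eq, mem_stabPts_iff] at ht ht' ⊢
    rw [map_mul, mul_smulPt, ht', ht]
  one_mem' := by
    simp only [Set.mem_ofPred_eq, mem_stabPts_iff]
    rw [map_one, one_smulPt]
  inv_mem' := by
    intro t ht
    simp only [Set.mem_ofPred_eq, mem_stabPts_iff] at ht ⊢
    rw [map_inv]
    exact inv_smulPt a _ _ ht

lemma lift_psi_id {T : Over S} (g : T ⟶ G) (x : T ⟶ X) :
    lift g x ≫ GIT.psi a (𝟙 X) = lift (lift g x ≫ a.act) x := by
  apply CartesianMonoidalCategory.hom_ext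
  · rw [Category.assoc, psi_id_fst, lift_fst]
  · rw [Category.assoc, psi_snd, lift_snd, lift_snd]

lemma lift_heMul_symm_left (T : Over X.left) (t : T ⟶ Red.bc X.hom G) :
    (lift ((heMul (G := G) T).symm t) (tau T)).left = t.left := by
  apply pullback.hom_ext
  · have h1 : (lift ((heMul (G := G) T).symm t) (tau T)).left ≫ pullback.fst G.hom X.hom =
        (lift ((heMul (G := G) T).symm t) (tau T) ≫ fst G X).left := rfl
    rw [h1, lift_fst, heMul_symm_left]
  · have h1 : (lift ((heMul (G := G) T).symm t) (tau T)).left ≫ pullback.snd G.hom X.hom =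
        (lift ((heMul (G := G) T).symm t) (tau T) ≫ snd G X).left := rfl
    rw [h1, lift_snd]
    exact (Over.w t).symm

lemma mem_stabSub_iff (T : Over X.left) (t : T ⟶ Red.bc X.hom G) :
    t ∈ stabSub a T ↔
      t.left ≫ (GIT.psi a (𝟙 X)).left = T.hom ≫ (lift (𝟙 X) (𝟙 X)).left := by
  have e1 : t.left ≫ (GIT.psi a (𝟙 X)).left =
      (lift ((heMul (G := G) T).symm t) (tau T) ≫ GIT.psi a (𝟙 X)).left := by
    rw [Over.comp_left, lift_heMul_symm_left]
  have e2 : T.hom ≫ (lift (𝟙 X) (𝟙 X)).left = (tau T ≫ lift (𝟙 X) (𝟙 X)).left := rfl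
  rw [e1, e2, lift_psi_id, comp_lift, Category.comp_id]
  constructor
  · intro h
    have h' : lift ((heMul (G := G) T).symm t) (tau T) ≫ a.act = tau T := h
    rw [h']
  · intro h
    have h2 := Over.OverMorphism.ext h
    have h3 := congrArg (· ≫ fst X X) h2
    simp only [lift_fst] at h3
    exact h3

/-- the stabilizer as an object over `X` -/
noncomputable abbrev stabObj : Over X.left := Over.mk (stabP a)

lemma stab_fst_snd :
    pullback.fst (GIT.psi a (𝟙 X)).left (lift (𝟙 X) (𝟙 X)).left ≫ pullback.snd G.hom X.hom =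
      stabP a := by
  have h1 : (GIT.psi a (𝟙 X)).left ≫ (snd X X).left = pullback.snd G.hom X.hom := by
    rw [← Over.comp_left, psi_snd]; rfl
  have h2 : (lift (𝟙 X) (𝟙 X)).left ≫ (snd X X).left = 𝟙 _ := by
    rw [← Over.comp_left, lift_snd]; rfl
  rw [← h1, ← Category.assoc, pullback.condition, Category.assoc, h2, Category.comp_id]

/-- the inclusion of the stabilizer in `G_X` -/
noncomputable def stabι : stabObj a ⟶ Red.bc X.hom G :=
  Over.homMk (pullback.fst (GIT.psi a (𝟙 X)).left (lift (𝟙 X) (𝟙 X)).left) (stab_fst_snd a)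

instance : Mono (lift (𝟙 X) (𝟙 X)).left := by
  have h2 : (lift (𝟙 X) (𝟙 X)).left ≫ (snd X X).left = 𝟙 _ := by
    rw [← Over.comp_left, lift_snd]; rfl
  exact (SplitMono.mk _ h2).mono

instance : Mono (stabι a) := by
  haveI : Mono (stabι a).left :=
    inferInstanceAs (Mono (pullback.fst (GIT.psi a (𝟙 X)).left (lift (𝟙 X) (𝟙 X)).left))
  exact Over.mono_of_mono_left _

lemma mem_stabSub_iff_exists (T : Over X.left) (t : T ⟶ Red.bc X.hom G) :
    t ∈ stabSub a T ↔ ∃ h : T ⟶ stabObj a, h ≫ stabι a = t := by
  rw [mem_stabSub_iff]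
  constructor
  · intro h
    refine ⟨Over.homMk (pullback.lift t.left T.hom h) (pullback.lift_snd _ _ _), ?_⟩
    ext1
    exact pullback.lift_fst _ _ _
  · rintro ⟨h, rfl⟩
    have h1 : (h ≫ stabι a).left = h.left ≫ pullback.fst _ _ := rfl
    have h2 : T.hom = h.left ≫ pullback.snd _ _ := (Over.w h).symm
    rw [h1, h2, Category.assoc, Category.assoc, pullback.condition]

/-- the group structure on the stabilizer -/
@[instance_reducible]
noncomputable def grpObjStab : GrpObj (stabObj a) :=
  Groth.Agent.Lib.Seat87.GrpLim.subGrpObj (stabι a) (stabSub a) (mem_stabSub_iff_exists a)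

/-- if the stabilizer is a monomorphism then so is `Ψ = (σ, p₂)` -/
lemma mono_psi_of_mono_stabP [Mono (stabP a)] : Mono (GIT.psi a (𝟙 X)) := by
  constructor
  intro T u v huv
  have hx : u ≫ snd G X = v ≫ snd G X := by
    have := congrArg (· ≫ snd X X) huv
    simpa only [Category.assoc, psi_snd] using this
  have hu : u = lift (u ≫ fst G X) (u ≫ snd G X) := by
    apply CartesianMonoidalCategory.hom_ext <;> simp
  have hv : v = lift (v ≫ fst G X) (u ≫ snd G X) := by
    apply CartesianMonoidalCategory.hom_ext <;> simp [hx]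
  have hact : smulPt a (u ≫ fst G X) (u ≫ snd G X) = smulPt a (v ≫ fst G X) (u ≫ snd G X) := by
    have := congrArg (· ≫ fst X X) huv
    simp only [Category.assoc, psi_id_fst] at this
    unfold smulPt
    rw [← hu, ← hv]
    exact this
  set g₁ := u ≫ fst G X with hg₁
  set g₂ := v ≫ fst G X with hg₂
  set x := u ≫ snd G X with hx'
  have hstab : smulPt a (g₂⁻¹ * g₁) x = x := by
    rw [mul_smulPt, hact, ← mul_smulPt, inv_mul_cancel, one_smulPt]
  have c1 : (lift (g₂⁻¹ * g₁) x).left ≫ (GIT.psi a (𝟙 X)).left =
      x.left ≫ (lift (𝟙 X) (𝟙 X)).left := by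
    rw [← Over.comp_left, ← Over.comp_left, lift_psi_id, comp_lift, Category.comp_id]
    have : lift (g₂⁻¹ * g₁) x ≫ a.act = x := hstab
    rw [this]
  have c2 : (lift (1 : T ⟶ G) x).left ≫ (GIT.psi a (𝟙 X)).left =
      x.left ≫ (lift (𝟙 X) (𝟙 X)).left := by
    rw [← Over.comp_left, ← Over.comp_left, lift_psi_id, comp_lift, Category.comp_id]
    have : lift (1 : T ⟶ G) x ≫ a.act = x := one_smulPt a x
    rw [this]
  have h1 : pullback.lift _ _ c1 = pullback.lift _ _ c2 := by
    rw [← cancel_mono (stabP a), pullback.lift_snd, pullback.lift_snd]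
  have h2 := congrArg (· ≫ pullback.fst _ _) h1
  simp only [pullback.lift_fst] at h2
  have h3 : lift (g₂⁻¹ * g₁) x = lift (1 : T ⟶ G) x := Over.OverMorphism.ext h2
  have h4 : g₂⁻¹ * g₁ = 1 := by
    have := congrArg (· ≫ fst G X) h3
    simpa only [lift_fst] using this
  have h5 : g₁ = g₂ := by
    have := congrArg (g₂ * ·) h4
    simpa using this
  rw [hu, hv, h5]

lemma mono_psi_left_of_mono_stabP [Mono (stabP a)] : Mono (GIT.psi a (𝟙 X)).left := by
  haveI := mono_psi_of_mono_stabP a
  infer_instance

lemma psi_left_snd : (GIT.psi a (𝟙 X)).left ≫ (snd X X).left = pullback.snd G.hom X.hom := by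
  rw [← Over.comp_left, psi_snd]; rfl

lemma diag_left : (lift (𝟙 X) (𝟙 X)).left = pullback.diagonal X.hom := by
  apply pullback.hom_ext
  · have : (lift (𝟙 X) (𝟙 X)).left ≫ pullback.fst X.hom X.hom = (lift (𝟙 X) (𝟙 X) ≫ fst X X).left := rfl
    rw [this, lift_fst, pullback.diagonal_fst]; rfl
  · have : (lift (𝟙 X) (𝟙 X)).left ≫ pullback.snd X.hom X.hom = (lift (𝟙 X) (𝟙 X) ≫ snd X X).left := rfl
    rw [this, lift_snd, pullback.diagonal_snd]; rfl

lemma locallyOfFiniteType_psi [LocallyOfFiniteType G.hom] :
    LocallyOfFiniteType (GIT.psi a (𝟙 X)).left := by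
  haveI : LocallyOfFiniteType ((GIT.psi a (𝟙 X)).left ≫ (snd X X).left) := by
    rw [psi_left_snd]; infer_instance
  exact locallyOfFiniteType_of_comp _ (snd X X).left

lemma isSeparated_psi [IsSeparated G.hom] : IsSeparated (GIT.psi a (𝟙 X)).left := by
  haveI : IsSeparated ((GIT.psi a (𝟙 X)).left ≫ (snd X X).left) := by
    rw [psi_left_snd]; infer_instance
  exact IsSeparated.of_comp _ (snd X X).left

lemma locallyOfFiniteType_stabP [LocallyOfFiniteType G.hom] : LocallyOfFiniteType (stabP a) := by
  haveI := locallyOfFiniteType_psi a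
  infer_instance

lemma isSeparated_stabP [IsSeparated G.hom] : IsSeparated (stabP a) := by
  haveI := isSeparated_psi a
  infer_instance

lemma isClosedImmersion_stab_fst [IsSeparated X.hom] :
    IsClosedImmersion (pullback.fst (GIT.psi a (𝟙 X)).left (lift (𝟙 X) (𝟙 X)).left) := by
  haveI : IsClosedImmersion (lift (𝟙 X) (𝟙 X)).left := by
    rw [diag_left]; infer_instance
  infer_instance

lemma formallyUnramified_stabP [IsSeparated X.hom] [Etale G.hom] : FormallyUnramified (stabP a) := by
  haveI := isClosedImmersion_stab_fst a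
  haveI : IsIso (pullback.diagonal
      (pullback.fst (GIT.psi a (𝟙 X)).left (lift (𝟙 X) (𝟙 X)).left)) :=
    (pullback.isIso_diagonal_iff _).2 inferInstance
  haveI : FormallyUnramified (pullback.fst (GIT.psi a (𝟙 X)).left (lift (𝟙 X) (𝟙 X)).left) :=
    inferInstance
  rw [← stab_fst_snd]
  exact MorphismProperty.comp_mem @FormallyUnramified _ _ inferInstance inferInstance

lemma mono_stabP_of_etale [IsSeparated X.hom] [Etale G.hom] [UniversallyInjective (stabP a)] :
    Mono (stabP a) := by
  haveI := formallyUnramified_stabP a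
  haveI : LocallyOfFiniteType (stabP a) := locallyOfFiniteType_stabP a
  haveI : Surjective (pullback.diagonal (stabP a)) :=
    (UniversallyInjective.iff_diagonal (stabP a)).1 inferInstance
  haveI : IsIso (pullback.diagonal (stabP a)) :=
    (isIso_iff_isOpenImmersion_and_surjective _).mpr ⟨inferInstance, inferInstance⟩
  exact (pullback.isIso_diagonal_iff _).1 inferInstance


section Fibre

/-- the fibre of the stabilizer over `x`, as an object over `Spec κ(x)` -/
noncomputable abbrev fibObj (x : X.left) : Over (Spec (X.left.residueField x)) :=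
  Over.mk (pullback.snd (stabP a) (X.left.fromSpecResidueField x))

/-- the fibre of the stabilizer is a `κ(x)`-group -/
@[instance_reducible]
noncomputable def grpObjFib (x : X.left) : GrpObj (fibObj a x) :=
  letI := grpObjStab a
  Over.grpObjMkPullbackSnd (f := stabP a) (g := X.left.fromSpecResidueField x)

/-- a universally injective stabilizer with reduced fibre at `x` has trivial fibre at `x` -/
lemma isIso_fiber_of_isReduced [IsSeparated G.hom] [UniversallyInjective (stabP a)] (x : X.left)
    [IsReduced ((stabP a).fiber x)] : IsIso ((stabP a).fiberToSpecResidueField x) := by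
  letI := grpObjFib a x
  haveI := isSeparated_stabP a
  haveI : IsSeparated ((stabP a).fiberToSpecResidueField x) :=
    inferInstanceAs (IsSeparated (pullback.snd (stabP a) (X.left.fromSpecResidueField x)))
  haveI : UniversallyInjective ((stabP a).fiberToSpecResidueField x) :=
    MorphismProperty.of_isPullback (P := @UniversallyInjective)
      (IsPullback.of_hasPullback (stabP a) (X.left.fromSpecResidueField x)) inferInstance
  have he : (η[fibObj a x]).left ≫ (stabP a).fiberToSpecResidueField x = 𝟙 _ :=
    Over.w (η[fibObj a x])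
  exact isIso_of_section ((stabP a).fiberToSpecResidueField x) (η[fibObj a x]).left he
    ((stabP a).fiberToSpecResidueField x).injective

end Fibre

section Field

variable {k : Type u} [Field k] {G X : Over (Spec (CommRingCat.of k))} [GrpObj G]
  (a : AlgGrp.Action G X)

omit [GrpObj G] in
lemma charZero_residueField [CharZero k] (x : X.left) : CharZero (X.left.residueField x) := by
  let φ : CommRingCat.of k ⟶ X.left.residueField x :=
    Spec.preimage (X.left.fromSpecResidueField x ≫ X.hom)
  exact charZero_of_injective_ringHom φ.hom.injective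

/-- Cartier: in characteristic zero the fibres of the stabilizer are reduced -/
lemma isReduced_fiber_of_charZero [CharZero k] [LocallyOfFiniteType G.hom] (x : X.left) :
    IsReduced ((stabP a).fiber x) := by
  haveI := charZero_residueField (k := k) x
  letI := grpObjFib a x
  haveI : LocallyOfFiniteType (fibObj a x).hom := by
    haveI := locallyOfFiniteType_stabP a
    exact inferInstanceAs
      (LocallyOfFiniteType (pullback.snd (stabP a) (X.left.fromSpecResidueField x)))
  exact Groth.Agent.Lib.Helper25.Cart.isReduced_of_charZero (K := X.left.residueField x)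
    (fibObj a x)

/-- in characteristic zero a universally injective stabilizer has trivial fibres -/
lemma isIso_fiber_of_charZero [CharZero k] [LocallyOfFiniteType G.hom] [IsSeparated G.hom]
    [UniversallyInjective (stabP a)] (x : X.left) :
    IsIso ((stabP a).fiberToSpecResidueField x) := by
  haveI := isReduced_fiber_of_charZero a x
  exact isIso_fiber_of_isReduced a x

end Field

/-- for an étale group a universally injective stabilizer has trivial fibres -/
lemma isIso_fiber_of_etale [IsSeparated X.hom] [Etale G.hom]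
    [UniversallyInjective (stabP a)] (x : X.left) :
    IsIso ((stabP a).fiberToSpecResidueField x) := by
  haveI := mono_stabP_of_etale a
  letI := grpObjFib a x
  haveI : Mono ((stabP a).fiberToSpecResidueField x) :=
    inferInstanceAs (Mono (pullback.snd (stabP a) (X.left.fromSpecResidueField x)))
  have he : (η[fibObj a x]).left ≫ (stabP a).fiberToSpecResidueField x = 𝟙 _ :=
    Over.w (η[fibObj a x])
  haveI : IsSplitEpi ((stabP a).fiberToSpecResidueField x) := ⟨⟨⟨_, he⟩⟩⟩
  exact isIso_of_mono_of_isSplitEpi _

end Groth.Agent.Lib.Seat51.StabGrp
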