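import Mathlib
import Groth.Prelude.Def_GLinSh
import Groth.Prelude.Def_NonAbH2
import Groth.Prelude.Def_ChGrp
import Groth.Agent.Lib.Seat51StabFinite
import Groth.Agent.Lib.Seat51FpqcSubm

/-!
# Closed orbits with finite stabilisers and torsors under a normal subgroup (seat 51)

`G` acts on `X`, `φ : X → Y` is a torsor under a subgroup `N → G` (cartesian action square, fpqc-local sections),
`H = G / N` acts on `Y` compatibly.  Then for a geometric point `x` of `X`: the `G`-orbit of `x` is closed iff the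
`H`-orbit of `φ(x)` is closed, and the stabiliser of `x` in `G` is finite iff that of `φ(x)` in `H` is.
-/

set_option autoImplicit false
universe u
open CategoryTheory MonoidalCategory CartesianMonoidalCategory MonObj AlgebraicGeometry Topology Limits
open Groth.Agent.Lib.Seat51.GITSep Groth.Agent.Lib.Seat51.GITBC
open Groth.Agent.Lib.Seat51.ClosedOrbitQuot Groth.Agent.Lib.Seat51.StabFinite

namespace Groth.Agent.Lib.Seat51.StabTorsor

variable {S : Scheme.{u}} {H N Q X Y : Over S} [GrpObj H] [GrpObj N] [GrpObj Q]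

section Sat

variable (i : N ⟶ H) (a : AlgGrp.Action H X) (aN : AlgGrp.Action N X)
  (haN : aN.act = (i ▷ X) ≫ a.act) (π : X ⟶ Y) (hinv : GIT.IsInvariant aN π)
  (horb : Function.Surjective (GIT.PsiY aN π hinv).base)

/-- the induced action of `N` on `X ⊗ T` -/
noncomputable def actT' (T : Over S) : AlgGrp.Action N (X ⊗ T) :=
  bcAct aN hinv (isPullback_whiskerRight' T π)

lemma actT'_fst (T : Over S) : (actT' aN π hinv T).act ≫ fst X T = (N ◁ fst X T) ≫ aN.act :=
  bcAct_equivariant aN hinv (isPullback_whiskerRight' T π)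

lemma actT'_inv (T : Over S) : GIT.IsInvariant (actT' aN π hinv T) (π ▷ T) :=
  bcAct_invariant aN hinv (isPullback_whiskerRight' T π)

lemma actT'_snd (T : Over S) :
    (actT' aN π hinv T).act ≫ snd X T = snd N (X ⊗ T) ≫ snd X T := by
  have h := actT'_inv aN π hinv T
  unfold GIT.IsInvariant at h
  have h2 := congrArg (· ≫ snd Y T) h
  simp only [Category.assoc, whiskerRight_snd] at h2
  exact h2

include haN in
lemma whisker_psi_actT' (T : Over S) (f : T ⟶ X) :
    (N ◁ GIT.psi a f) ≫ (actT' aN π hinv T).act = mulT i T ≫ GIT.psi a f := by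
  apply CartesianMonoidalCategory.hom_ext
  · have hP : (N ◁ (H ◁ f)) ≫ (i ▷ (H ⊗ X)) =
        (α_ N H T).inv ≫ ((N ⊗ H) ◁ f) ≫ ((i ▷ H) ▷ X) ≫ (α_ H H X).hom := by
      apply CartesianMonoidalCategory.hom_ext
      · simp
      · apply CartesianMonoidalCategory.hom_ext
        · simp
        · simp
    have hL : ((N ◁ GIT.psi a f) ≫ (actT' aN π hinv T).act) ≫ fst X T =
        ((N ◁ (H ◁ f)) ≫ (i ▷ (H ⊗ X))) ≫ (H ◁ a.act) ≫ a.act := by
      rw [Category.assoc, actT'_fst, ← Category.assoc, ← MonoidalCategory.whiskerLeft_comp, psi_fst,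
        haN, MonoidalCategory.whiskerLeft_comp, Category.assoc, Category.assoc,
        ← Category.assoc (N ◁ a.act), whisker_exchange, Category.assoc]
    have hR : (mulT i T ≫ GIT.psi a f) ≫ fst X T =
        ((α_ N H T).inv ≫ ((N ⊗ H) ◁ f) ≫ ((i ▷ H) ▷ X) ≫ (α_ H H X).hom) ≫
          (H ◁ a.act) ≫ a.act := by
      rw [Category.assoc, psi_fst, mulT, Category.assoc, ← Category.assoc (_ ▷ T),
        ← whisker_exchange, Category.assoc, MonoidalCategory.comp_whiskerRight, Category.assoc,
        a.mul_act]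
      simp only [Category.assoc]
    rw [hL, hR, hP]
  · rw [Category.assoc, actT'_snd, ← Category.assoc, whiskerLeft_snd, Category.assoc, psi_snd,
      Category.assoc, psi_snd, mulT]
    simp

include haN horb in
/-- orbits are saturated for `π` -/
lemma mem_range_of_eq' (T : Over S) (f : T ⟶ X) (z z' : (X ⊗ T).left)
    (hzz' : (π ▷ T).left.base z = (π ▷ T).left.base z')
    (hz' : z' ∈ Set.range (GIT.psi a f).left.base) :
    z ∈ Set.range (GIT.psi a f).left.base := by
  obtain ⟨w', rfl⟩ := hz'
  have horb' := orbit_surjective_bc aN π hinv (fst X T) (π ▷ T) (fst Y T)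
    (isPullback_whiskerRight' T π) (actT' aN π hinv T) (actT'_fst aN π hinv T)
    (actT'_inv aN π hinv T) horb
  obtain ⟨p, hp1, hp2⟩ := Scheme.Pullback.exists_preimage_pullback (f := (π ▷ T).left)
    (g := (π ▷ T).left) z ((GIT.psi a f).left.base w') hzz'
  obtain ⟨u, hu⟩ := horb' p
  have e1 : GIT.PsiY (actT' aN π hinv T) (π ▷ T) (actT'_inv aN π hinv T) ≫ pullback.fst _ _ =
      (actT' aN π hinv T).act.left := pullback.lift_fst _ _ _
  have e2 : GIT.PsiY (actT' aN π hinv T) (π ▷ T) (actT'_inv aN π hinv T) ≫ pullback.snd _ _ =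
      (snd N (X ⊗ T)).left := pullback.lift_snd _ _ _
  have hu1 : (actT' aN π hinv T).act.left.base u = z := by
    rw [← hp1, ← hu, ← Scheme.Hom.comp_apply, e1]
  have hu2 : (snd N (X ⊗ T)).left.base u = (GIT.psi a f).left.base w' := by
    rw [← hp2, ← hu, ← Scheme.Hom.comp_apply, e2]
  have hpbN : IsPullback (N ◁ GIT.psi a f).left (snd N (H ⊗ T)).left (snd N (X ⊗ T)).left
      (GIT.psi a f).left := (isPullback_whiskerLeft' N (GIT.psi a f)).map (Over.forget S)
  obtain ⟨v, hv1, hv2⟩ := Scheme.exists_preimage_of_isPullback hpbN u w' hu2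
  refine ⟨(mulT i T).left.base v, ?_⟩
  rw [← hu1, ← hv1, ← Scheme.Hom.comp_apply, ← Scheme.Hom.comp_apply, ← Over.comp_left,
    ← Over.comp_left, whisker_psi_actT' i a aN haN π hinv T f]

end Sat

section Range

variable (i : N ⟶ H) (q : H ⟶ Q)
  (a : AlgGrp.Action H X) (aN : AlgGrp.Action N X) (haN : aN.act = (i ▷ X) ≫ a.act)
  (π : X ⟶ Y) (hinv : GIT.IsInvariant aN π)
  (horb : Function.Surjective (GIT.PsiY aN π hinv).base)
  (aQ : AlgGrp.Action Q Y) (hequiv : (q ⊗ₘ π) ≫ aQ.act = a.act ≫ π)

include haN horb hequiv in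
/-- the `H`-orbit of `f` is the preimage of the `Q`-orbit of `π ∘ f` -/
lemma range_psi_eq_preimage' [Surjective q.left] (T : Over S) (f : T ⟶ X) :
    Set.range (GIT.psi a f).left.base =
      (π ▷ T).left.base ⁻¹' Set.range (GIT.psi aQ (f ≫ π)).left.base := by
  have hcomp := psi_comp q a π aQ hequiv T f
  have hsq : IsPullback (fst H T).left (q ▷ T).left q.left (fst Q T).left :=
    (isPullback_whiskerRight' T q).map (Over.forget S)
  have hqT : Surjective (q ▷ T).left := MorphismProperty.of_isPullback hsq inferInstance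
  apply Set.Subset.antisymm
  · rintro _ ⟨w, rfl⟩
    refine ⟨(q ▷ T).left.base w, ?_⟩
    rw [← Scheme.Hom.comp_apply, ← Scheme.Hom.comp_apply, ← Over.comp_left, ← Over.comp_left, hcomp]
  · rintro z ⟨w₀, hw₀⟩
    obtain ⟨w, rfl⟩ := (q ▷ T).left.surjective w₀
    refine mem_range_of_eq' i a aN haN π hinv horb T f z ((GIT.psi a f).left.base w) ?_ ⟨w, rfl⟩
    rw [← hw₀, ← Scheme.Hom.comp_apply, ← Scheme.Hom.comp_apply, ← Over.comp_left, ← Over.comp_left,
      hcomp]

include haN horb hequiv in
/-- closedness of the orbit passes between `f` and `π ∘ f` -/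
lemma isClosed_range_psi_iff [Surjective q.left] (hsub : GIT.IsUnivSubmersive π.left)
    (T : Over S) (f : T ⟶ X) :
    IsClosed (Set.range (GIT.psi a f).left.base) ↔
      IsClosed (Set.range (GIT.psi aQ (f ≫ π)).left.base) := by
  rw [range_psi_eq_preimage' i q a aN haN π hinv horb aQ hequiv T f]
  have hsq : IsPullback (π ▷ T).left (fst X T).left (fst Y T).left π.left :=
    ((isPullback_whiskerRight' T π).map (Over.forget S)).flip
  have hquot : IsQuotientMap (π ▷ T).left.base := hsub _ _ _ hsq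
  exact hquot.isClosed_preimage

end Range

section QC

variable {G X T : Over S} [GrpObj G]

/-- the stabiliser of a geometric point is a Noetherian scheme, whatever `X` is -/
lemma quasiCompact_stabTo {Ω : Type u} [Field Ω] (a : AlgGrp.Action G X)
    [LocallyOfFiniteType G.hom] [QuasiCompact G.hom]
    (e : T.left ≅ Spec (CommRingCat.of Ω)) (f : T ⟶ X) : QuasiCompact (GLinSh.stabTo a f) := by
  have hN1 : IsLocallyNoetherian T.left := isLocallyNoetherian_of_isOpenImmersion e.hom
  have h1 : LocallyOfFiniteType (snd G T).left := by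
    show LocallyOfFiniteType (pullback.snd G.hom T.hom)
    infer_instance
  have h2 : QuasiCompact (snd G T).left := by
    show QuasiCompact (pullback.snd G.hom T.hom)
    infer_instance
  have hN2 : IsLocallyNoetherian (G ⊗ T).left :=
    LocallyOfFiniteType.isLocallyNoetherian (snd G T).left
  have hA : IsAffine T.left := .of_isIso e.hom
  have hC : CompactSpace (G ⊗ T).left := QuasiCompact.compactSpace_of_compactSpace (snd G T).left
  have hN3 : IsNoetherian (G ⊗ T).left := {}
  have hsec : (lift f (𝟙 T)).left ≫ (snd X T).left = 𝟙 _ := by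
    rw [← Over.comp_left, lift_snd]
    rfl
  have hI : IsImmersion (lift f (𝟙 T)).left := by
    have : IsImmersion ((lift f (𝟙 T)).left ≫ (snd X T).left) := by
      rw [hsec]
      infer_instance
    exact IsImmersion.of_comp _ (snd X T).left
  have hI2 : IsImmersion (pullback.fst (GIT.psi a f).left (lift f (𝟙 T)).left) :=
    MorphismProperty.of_isPullback (P := @IsImmersion)
      (IsPullback.of_hasPullback (GIT.psi a f).left (lift f (𝟙 T)).left).flip hI
  have hNS : TopologicalSpace.NoetherianSpace (GLinSh.stab a f) :=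
    (pullback.fst (GIT.psi a f).left (lift f (𝟙 T)).left).isEmbedding.isInducing.noetherianSpace
  exact quasiCompact_of_noetherianSpace_source _

/-- the stabiliser of a geometric point is finite iff it has finitely many points (no hypothesis
on `X`) -/
theorem isFinite_stabTo_iff' {Ω : Type u} [Field Ω] [IsAlgClosed Ω] (a : AlgGrp.Action G X)
    [LocallyOfFiniteType G.hom] [QuasiCompact G.hom]
    (e : T.left ≅ Spec (CommRingCat.of Ω)) (f : T ⟶ X) :
    IsFinite (GLinSh.stabTo a f) ↔ (StabPts a f).Finite := by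
  have h1 : LocallyOfFiniteType (snd G T).left := by
    show LocallyOfFiniteType (pullback.snd G.hom T.hom)
    infer_instance
  have hw : (GIT.psi a f).left ≫ (snd X T).left = (snd G T).left := by
    rw [← Over.comp_left, psi_snd]
  have h4 : LocallyOfFiniteType (GIT.psi a f).left := by
    have : LocallyOfFiniteType ((GIT.psi a f).left ≫ (snd X T).left) := by rw [hw]; exact h1
    exact locallyOfFiniteType_of_comp _ (snd X T).left
  have h6 : LocallyOfFiniteType (GLinSh.stabTo a f) :=
    MorphismProperty.of_isPullback (P := @LocallyOfFiniteType)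
      (IsPullback.of_hasPullback (GIT.psi a f).left (lift f (𝟙 T)).left) h4
  have h7 : QuasiCompact (GLinSh.stabTo a f) := quasiCompact_stabTo a e f
  have hE : {s : T.left ⟶ GLinSh.stab a f // s ≫ GLinSh.stabTo a f = 𝟙 T.left} ≃ StabPts a f :=
    (secPullbackEquiv (GIT.psi a f).left (lift f (𝟙 T)).left).trans
      ((overLiftEquiv (GIT.psi a f) (lift f (𝟙 T))).trans (liftEquivStabPts a f))
  constructor
  · intro h
    have := finite_sec_of_isFinite (GLinSh.stabTo a f) e
    exact Set.finite_coe_iff.mp (Finite.of_equiv _ hE)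
  · intro h
    have : Finite (StabPts a f) := Set.finite_coe_iff.mpr h
    exact isFinite_of_finite_sec (GLinSh.stabTo a f) e (Finite.of_equiv _ hE.symm)

end QC

section Torsor

variable {T : Over S} (i : N ⟶ H) (q : H ⟶ Q) [IsMonHom q] (hker : AlgGrp.IsKernel i q)
  (a : AlgGrp.Action H X) (aN : AlgGrp.Action N X) (haN : aN.act = (i ▷ X) ≫ a.act)
  (π : X ⟶ Y) (hcart : IsPullback aN.act (snd N X) π π)
  (aQ : AlgGrp.Action Q Y) (hequiv : (q ⊗ₘ π) ≫ aQ.act = a.act ≫ π)

include hcart in
lemma psiY_surjective : Function.Surjective (GIT.PsiY aN π hcart.w).base := by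
  have hpb : IsPullback aN.act.left (snd N X).left π.left π.left := hcart.map (Over.forget S)
  have h : GIT.PsiY aN π hcart.w = hpb.isoPullback.hom := by
    apply pullback.hom_ext
    · rw [hpb.isoPullback_hom_fst]
      exact pullback.lift_fst _ _ _
    · rw [hpb.isoPullback_hom_snd]
      exact pullback.lift_snd _ _ _
  rw [h]
  exact hpb.isoPullback.hom.homeomorph.surjective

include hcart in
/-- a torsor has trivial stabilisers -/
lemma stabPts_subset_one (x : T ⟶ X) : StabPts aN x ⊆ {1} := by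
  intro n hn
  rw [mem_stabPts_iff] at hn
  have h1 : lift n x = lift (1 : T ⟶ N) x := by
    apply hcart.hom_ext
    · rw [show lift n x ≫ aN.act = x from hn]
      exact (one_smulPt aN x).symm
    · rw [lift_snd, lift_snd]
  have h2 := congrArg (· ≫ fst N X) h1
  simp only [lift_fst] at h2
  exact h2

include hcart in
/-- the group acts transitively on the points of a fibre of a torsor -/
lemma exists_smulPt_eq_of_cart (z₁ z₂ : T ⟶ X) (hz : z₁ ≫ π = z₂ ≫ π) :
    ∃ n : T ⟶ N, smulPt aN n z₂ = z₁ := by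
  refine ⟨hcart.lift z₁ z₂ hz ≫ fst N X, ?_⟩
  have h2 : hcart.lift z₁ z₂ hz ≫ snd N X = z₂ := hcart.lift_snd _ _ _
  have h1 : hcart.lift z₁ z₂ hz ≫ aN.act = z₁ := hcart.lift_fst _ _ _
  unfold smulPt
  conv_rhs => rw [← h1]
  congr 1
  apply CartesianMonoidalCategory.hom_ext
  · simp
  · simp [h2]

include hker haN hequiv in
/-- the stabiliser of `π(x)` is the image of the stabiliser of `x` -/
lemma stabPts_subset_image' {Ω : Type u} [Field Ω] [IsAlgClosed Ω] [LocallyOfFiniteType q.left]
    [Surjective q.left] (e : T.left ≅ Spec (CommRingCat.of Ω)) (x : T ⟶ X)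
    (htrans : ∀ z₁ z₂ : T ⟶ X, z₁ ≫ π = z₂ ≫ π → ∃ n : T ⟶ N, smulPt aN n z₂ = z₁) :
    StabPts aQ (x ≫ π) ⊆ (fun h : T ⟶ H => h ≫ q) '' StabPts a x := by
  intro g hg
  rw [mem_stabPts_iff] at hg
  obtain ⟨h₀, hh₀⟩ : ∃ h₀ : T ⟶ H, h₀ ≫ q = g := by
    obtain ⟨w₀, hw₀⟩ := Groth.Agent.Lib.Helper11HomSm.exists_lift_point (K := Ω) q.left
      (e.inv ≫ g.left)
    have hw : (e.hom ≫ w₀) ≫ H.hom = T.hom := by
      rw [← Over.w q, Category.assoc, reassoc_of% hw₀, Iso.hom_inv_id_assoc, Over.w g]
    refine ⟨Over.homMk (e.hom ≫ w₀) hw, ?_⟩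
    ext1
    show (e.hom ≫ w₀) ≫ q.left = g.left
    rw [Category.assoc, hw₀, Iso.hom_inv_id_assoc]
  have h1 : x ≫ π = smulPt a h₀ x ≫ π := by
    rw [← smulPt_equivariant q a π aQ hequiv, hh₀, hg]
  obtain ⟨n, hn⟩ := htrans x (smulPt a h₀ x) h1
  refine ⟨(n ≫ i) * h₀, ?_, ?_⟩
  · rw [mem_stabPts_iff, mul_smulPt, ← smulPt_restrict i a aN haN, hn]
  · show ((n ≫ i) * h₀) ≫ q = g
    rw [mul_comp', comp_i_q i q hker, _root_.one_mul, hh₀]

include hker haN hcart hequiv in
/-- finiteness of stabilisers passes between `x` and `π(x)` for a torsor -/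
theorem isFinite_stab_iff_of_cart {Ω : Type u} [Field Ω] [IsAlgClosed Ω]
    [LocallyOfFiniteType H.hom] [QuasiCompact H.hom]
    [LocallyOfFiniteType Q.hom] [QuasiCompact Q.hom] [Surjective q.left]
    (e : T.left ≅ Spec (CommRingCat.of Ω)) (x : T ⟶ X) :
    IsFinite (GLinSh.stabTo aQ (x ≫ π)) ↔ IsFinite (GLinSh.stabTo a x) := by
  have hlft : LocallyOfFiniteType (q.left ≫ Q.hom) := by rw [Over.w]; infer_instance
  have hlft' : LocallyOfFiniteType q.left := locallyOfFiniteType_of_comp q.left Q.hom
  rw [isFinite_stabTo_iff' aQ e, isFinite_stabTo_iff' a e]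
  constructor
  · exact stabPts_finite_of_finite i q hker a aN haN π aQ hequiv x
      ((Set.finite_singleton 1).subset (stabPts_subset_one aN π hcart x))
  · intro h
    exact (h.image _).subset (stabPts_subset_image' i q hker a aN haN π aQ hequiv e x
      (exists_smulPt_eq_of_cart aN π hcart))

end Torsor

end Groth.Agent.Lib.Seat51.StabTorsor
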