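import Groth.Agent.Lib.Seat37NilIso
import Groth.Agent.Lib.Helper22ThickAffine
import Groth.Agent.Lib.Helper6SmRegSch3

/-!
# Deformations of smooth affine schemes over local Artinian bases are trivial (helper51)

* `core`: ring-level statement: `B'` flat over `A`, `B' → B` surjective with kernel inside `I B'`
  (`I = ker (e : A → k)` nilpotent), `B` formally smooth over `k`; then `A ⊗[k] B ≃ₐ[A] B'`.
-/

set_option autoImplicit false

universe u

namespace Seat51TrivDef

open TensorProduct

theorem core {k A B B' : Type u} [Field k] [CommRing A] [Algebra k A] [CommRing B] [Algebra k B]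
    [CommRing B'] [Algebra A B'] [Algebra k B'] [IsScalarTower k A B'] [Module.Flat A B']
    [Algebra.FormallySmooth k B]
    (e : A →ₐ[k] k) (hnil : IsNilpotent (RingHom.ker e.toRingHom))
    (π : B' →ₐ[k] B) (hπ : Function.Surjective π)
    (hπe : ∀ a : A, π (algebraMap A B' a) = algebraMap k B (e a))
    (hker : RingHom.ker π.toRingHom ≤ (RingHom.ker e.toRingHom).map (algebraMap A B')) :
    ∃ (s : B →ₐ[k] B') (Φ : A ⊗[k] B ≃ₐ[A] B'), ∀ b, Φ (1 ⊗ₜ b) = s b := by
  set I := RingHom.ker e.toRingHom with hI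
  have hkn : IsNilpotent (RingHom.ker (π : B' →+* B)) := by
    obtain ⟨n, hn⟩ := hnil
    refine ⟨n, ?_⟩
    rw [Ideal.zero_eq_bot, eq_bot_iff]
    calc (RingHom.ker (π : B' →+* B)) ^ n ≤ (I.map (algebraMap A B')) ^ n := Ideal.pow_right_mono hker n
      _ = (I ^ n).map (algebraMap A B') := (Ideal.map_pow _ _ _).symm
      _ = ⊥ := by rw [hn, Ideal.zero_eq_bot, Ideal.map_bot]
  let s : B →ₐ[k] B' := Algebra.FormallySmooth.liftOfSurjective (AlgHom.id k B) π hπ hkn
  have hs : ∀ b, π (s b) = b := fun b =>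
    Algebra.FormallySmooth.liftOfSurjective_apply (AlgHom.id k B) π hπ hkn b
  let φ₀ : A ⊗[k] B →ₐ[A] B' :=
    Algebra.TensorProduct.lift (Algebra.ofId A B') s (fun _ _ => Commute.all _ _)
  have hφ₀ : ∀ a b, φ₀ (a ⊗ₜ b) = algebraMap A B' a * s b := fun a b => by
    simp [φ₀, Algebra.ofId_apply]
  have hχ : ∀ c : A ⊗[k] B, (Algebra.TensorProduct.lid k B)
      (Algebra.TensorProduct.map e (AlgHom.id k B) c) = π (φ₀ c) := by
    intro c
    induction c using TensorProduct.induction_on with
    | zero => simp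
    | tmul a b =>
      rw [hφ₀, map_mul, hπe, hs]
      simp [Algebra.smul_def]
    | add x y hx hy => simp only [map_add, hx, hy]
  have hbij : Function.Bijective φ₀ := by
    refine Groth.Agent.Lib.Seat37.NilIso.bijective_of_mod_nilpotent I hnil φ₀ ?_ ?_
    · intro d
      refine ⟨1 ⊗ₜ π d, hker ?_⟩
      rw [RingHom.mem_ker, hφ₀]
      simp [hs]
    · intro c hc
      have h1 : Algebra.TensorProduct.map e (AlgHom.id k B) c = 0 := by
        apply (Algebra.TensorProduct.lid k B).injective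
        rw [hχ, hc, map_zero, map_zero]
      have h2 : c ∈ RingHom.ker (Algebra.TensorProduct.map e (AlgHom.id k B)) := h1
      have hes : Function.Surjective e := fun c => ⟨algebraMap k A c, by simp⟩
      rw [Algebra.TensorProduct.rTensor_ker e hes] at h2
      have h3 : (algebraMap A (A ⊗[k] B)) =
          ((Algebra.TensorProduct.includeLeft : A →ₐ[k] A ⊗[k] B) : A →+* A ⊗[k] B) := by
        ext a
        simp [Algebra.TensorProduct.algebraMap_apply]
      rw [h3]
      exact h2
  refine ⟨s, AlgEquiv.ofBijective φ₀ hbij, fun b => ?_⟩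
  rw [AlgEquiv.coe_ofBijective, hφ₀, map_one, one_mul]


open AlgebraicGeometry CategoryTheory Limits

/-- a morphism from an affine scheme to `Spec R` in terms of global sections -/
lemma eq_isoSpec_hom_comp {Y : Scheme.{u}} [IsAffine Y] {R : CommRingCat.{u}} (f : Y ⟶ Spec R) :
    f = Y.isoSpec.hom ≫ Spec.map ((Scheme.ΓSpecIso R).inv ≫ f.appTop) := by
  rw [Spec.map_comp, Scheme.isoSpec_hom_naturality_assoc, Scheme.isoSpec_Spec_hom, ← Spec.map_comp,
    Iso.inv_hom_id, Spec.map_id, Category.comp_id]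

lemma isNilpotent_ker_of_artinian {k A : Type u} [Field k] [CommRing A] [IsLocalRing A]
    [IsArtinianRing A] [Algebra k A] (e : A →ₐ[k] k) : IsNilpotent (RingHom.ker e.toRingHom) := by
  have hne : RingHom.ker e.toRingHom ≠ ⊤ := RingHom.ker_ne_top _
  have hle : RingHom.ker e.toRingHom ≤ IsLocalRing.maximalIdeal A := IsLocalRing.le_maximalIdeal hne
  have hj : IsNilpotent (IsLocalRing.maximalIdeal A) := by
    have := IsArtinianRing.isNilpotent_jacobson_bot (R := A)
    rwa [IsLocalRing.jacobson_eq_maximalIdeal _ bot_ne_top] at this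
  obtain ⟨n, hn⟩ := hj
  refine ⟨n, ?_⟩
  rw [Ideal.zero_eq_bot, eq_bot_iff]
  calc (RingHom.ker e.toRingHom) ^ n ≤ (IsLocalRing.maximalIdeal A) ^ n := Ideal.pow_right_mono hle n
    _ = ⊥ := by rw [hn, Ideal.zero_eq_bot]

lemma surjective_Spec_map_of_nilpotent_ker {R S : Type u} [CommRing R] [CommRing S] (f : R →+* S)
    (hf : Function.Surjective f) (hI : IsNilpotent (RingHom.ker f)) :
    Surjective (Spec.map (CommRingCat.ofHom f)) := by
  rw [surjective_iff]
  intro p
  have h1 : Set.range (PrimeSpectrum.comap f) = PrimeSpectrum.zeroLocus (RingHom.ker f) :=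
    _root_.range_comap_of_surjective _ _ hf
  have h2 : PrimeSpectrum.zeroLocus (RingHom.ker f : Set R) = Set.univ := by
    rw [PrimeSpectrum.zeroLocus_eq_univ_iff]
    intro x hx
    obtain ⟨n, hn⟩ := hI
    refine ⟨n, ?_⟩
    have : x ^ n ∈ (RingHom.ker f) ^ n := Ideal.pow_mem_pow hx n
    rw [hn] at this
    exact this
  rw [h2] at h1
  have : p ∈ Set.range (PrimeSpectrum.comap f) := by rw [h1]; trivial
  obtain ⟨q, hq⟩ := this
  exact ⟨q, hq⟩


lemma smooth_of_regular (k : Type u) [Field k] [IsAlgClosed k] (X : Scheme.{u})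
    (hX : X ⟶ Spec (CommRingCat.of k)) [IsAffine X]
    [LocallyOfFiniteType hX] (hreg : ∀ x : X, IsRegularLocalRing (X.presheaf.stalk x)) :
    RingHom.Smooth ((hX.appTop).hom.comp (Scheme.ΓSpecIso (CommRingCat.of k)).inv.hom) := by
  have hfp : LocallyOfFinitePresentation hX :=
    LocallyOfFinitePresentation.iff_locallyOfFiniteType.mpr inferInstance
  have hsm : hX.smoothLocus = ⊤ := by
    rw [← top_le_iff]
    rintro x -
    exact (Groth.Agent.Lib.Helper6.SmRegSch3.mem_smoothLocus_iff_isRegularLocalRing k X hX x).mpr (hreg x)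
  have hS : Smooth hX := Scheme.Hom.smoothLocus_eq_top_iff.mp hsm
  have h1 : RingHom.Smooth (hX.appTop).hom :=
    (HasRingHomProperty.iff_of_isAffine (P := @Smooth)).mp hS
  have h2 : RingHom.Smooth (Scheme.ΓSpecIso (CommRingCat.of k)).inv.hom :=
    RingHom.Smooth.of_bijective (ConcreteCategory.bijective_of_isIso _)
  exact h2.comp h1

lemma ker_le_of_isPullback {k A : Type u} [Field k] [CommRing A] [Algebra k A] (e : A →ₐ[k] k)
    {X X' : Scheme.{u}} [IsAffine X'] (hX : X ⟶ Spec (CommRingCat.of k))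
    (g : X' ⟶ Spec (CommRingCat.of A)) (i : X ⟶ X')
    (hsq : IsPullback i hX g (Spec.map (CommRingCat.ofHom e.toRingHom))) :
    RingHom.ker i.appTop.hom ≤ (RingHom.ker e.toRingHom).map
      ((g.appTop).hom.comp (Scheme.ΓSpecIso (CommRingCat.of A)).inv.hom) := by
  set φA : A →+* Γ(X', ⊤) := (g.appTop).hom.comp (Scheme.ΓSpecIso (CommRingCat.of A)).inv.hom
    with hφA
  set J := (RingHom.ker e.toRingHom).map φA with hJ
  let mkJ : Γ(X', ⊤) ⟶ CommRingCat.of (Γ(X', ⊤) ⧸ J) := CommRingCat.ofHom (Ideal.Quotient.mk J)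
  let zX' : Spec (CommRingCat.of (Γ(X', ⊤) ⧸ J)) ⟶ X' := Spec.map mkJ ≫ X'.isoSpec.inv
  let zk : Spec (CommRingCat.of (Γ(X', ⊤) ⧸ J)) ⟶ Spec (CommRingCat.of k) :=
    Spec.map (CommRingCat.ofHom ((Ideal.Quotient.mk J).comp (φA.comp (algebraMap k A))))
  have hring : (Ideal.Quotient.mk J).comp φA =
      ((Ideal.Quotient.mk J).comp (φA.comp (algebraMap k A))).comp e.toRingHom := by
    ext a
    simp only [RingHom.comp_apply]
    rw [Ideal.Quotient.eq, ← map_sub]
    apply Ideal.mem_map_of_mem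
    rw [RingHom.mem_ker, map_sub]
    simp
  have w : zX' ≫ g = zk ≫ Spec.map (CommRingCat.ofHom e.toRingHom) := by
    have hg := eq_isoSpec_hom_comp g
    calc zX' ≫ g = zX' ≫ (X'.isoSpec.hom ≫
          Spec.map ((Scheme.ΓSpecIso (CommRingCat.of A)).inv ≫ g.appTop)) := congrArg _ hg
      _ = Spec.map (((Scheme.ΓSpecIso (CommRingCat.of A)).inv ≫ g.appTop) ≫ mkJ) := by
        simp only [zX', Category.assoc, Iso.inv_hom_id_assoc, ← Spec.map_comp]
      _ = Spec.map (CommRingCat.ofHom e.toRingHom ≫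
            CommRingCat.ofHom ((Ideal.Quotient.mk J).comp (φA.comp (algebraMap k A)))) := by
        congr 1
        ext a
        exact RingHom.congr_fun hring a
      _ = zk ≫ Spec.map (CommRingCat.ofHom e.toRingHom) := Spec.map_comp _ _
  let l := hsq.lift zX' zk w
  have hl : l ≫ i = zX' := hsq.lift_fst _ _ _
  have key : mkJ ≫ (Scheme.ΓSpecIso (CommRingCat.of (Γ(X', ⊤) ⧸ J))).inv = zX'.appTop := by
    have h1 : Spec.map mkJ = zX' ≫ X'.isoSpec.hom := by simp [zX']
    rw [Scheme.ΓSpecIso_inv_naturality, h1, Scheme.Hom.comp_appTop, Scheme.isoSpec_hom,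
      Scheme.toSpecΓ_appTop, Iso.inv_hom_id_assoc]
  intro b hb
  have h2 : zX'.appTop b = 0 := by
    rw [← hl, Scheme.Hom.comp_appTop]
    simp only [CommRingCat.hom_comp, RingHom.comp_apply]
    rw [show i.appTop.hom b = 0 from hb, map_zero]
  rw [← key] at h2
  have h3 : (Ideal.Quotient.mk J) b = 0 := by
    have hinj : Function.Injective (Scheme.ΓSpecIso (CommRingCat.of (Γ(X', ⊤) ⧸ J))).inv.hom :=
      (ConcreteCategory.bijective_of_isIso _).1
    apply hinj
    rw [map_zero]
    exact h2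
  exact Ideal.Quotient.eq_zero_iff_mem.mp h3

theorem main (k : Type u) [Field k] [IsAlgClosed k] (X : Scheme.{u})
    (hX : X ⟶ Spec (CommRingCat.of k)) [IsAffine X]
    [LocallyOfFiniteType hX] (hreg : ∀ x : X, IsRegularLocalRing (X.presheaf.stalk x))
    (A : Type u) [CommRing A] [IsLocalRing A] [IsArtinianRing A] [Algebra k A] (e : A →ₐ[k] k)
    (X' : Scheme.{u}) (g : X' ⟶ Spec (CommRingCat.of A)) [Flat g] (i : X ⟶ X')
    (hsq : IsPullback i hX g (Spec.map (CommRingCat.ofHom e.toRingHom))) :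
    ∃ φ : X' ≅ pullback hX (Spec.map (CommRingCat.ofHom (algebraMap k A))),
      φ.hom ≫ pullback.snd hX (Spec.map (CommRingCat.ofHom (algebraMap k A))) = g := by
  have hnil := isNilpotent_ker_of_artinian e
  have hes : Function.Surjective e.toRingHom := fun c => ⟨algebraMap k A c, by simp⟩
  -- `i` is a surjective closed immersion, so `X'` is affine
  have hci : IsClosedImmersion (Spec.map (CommRingCat.ofHom e.toRingHom)) :=
    IsClosedImmersion.spec_of_surjective _ hes
  have hsj : Surjective (Spec.map (CommRingCat.ofHom e.toRingHom)) :=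
    surjective_Spec_map_of_nilpotent_ker _ hes hnil
  have hi1 : IsClosedImmersion i := MorphismProperty.of_isPullback hsq.flip hci
  have hi2 : Surjective i := MorphismProperty.of_isPullback hsq.flip hsj
  have hX'aff : IsAffine X' :=
    Groth.Agent.Lib.Helper22.ThickAffine.isAffine_of_thickening i i.surjective
  -- ring-level data
  set φA : A →+* Γ(X', ⊤) := (g.appTop).hom.comp (Scheme.ΓSpecIso (CommRingCat.of A)).inv.hom
    with hφA
  set φk : k →+* Γ(X, ⊤) := (hX.appTop).hom.comp (Scheme.ΓSpecIso (CommRingCat.of k)).inv.hom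
    with hφk
  letI algA : Algebra A Γ(X', ⊤) := φA.toAlgebra
  letI algk : Algebra k Γ(X, ⊤) := φk.toAlgebra
  letI algk' : Algebra k Γ(X', ⊤) := (φA.comp (algebraMap k A)).toAlgebra
  haveI : IsScalarTower k A Γ(X', ⊤) := IsScalarTower.of_algebraMap_eq (fun _ => rfl)
  have hflat : Module.Flat A Γ(X', ⊤) := by
    have h1 : RingHom.Flat (g.appTop).hom :=
      (HasRingHomProperty.iff_of_isAffine (P := @Flat)).mp inferInstance
    have h2 : RingHom.Flat (Scheme.ΓSpecIso (CommRingCat.of A)).inv.hom :=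
      RingHom.Flat.of_bijective (ConcreteCategory.bijective_of_isIso _)
    exact h2.comp h1
  have hsmooth : Algebra.FormallySmooth k Γ(X, ⊤) := by
    have : Algebra.Smooth k Γ(X, ⊤) := smooth_of_regular k X hX hreg
    infer_instance
  have hπe : ∀ a : A, i.appTop.hom (φA a) = φk (e a) := by
    intro a
    have h1 := congrArg (fun f => f.appTop) hsq.w
    simp only [Scheme.Hom.comp_appTop] at h1
    have h2 : (Scheme.ΓSpecIso (CommRingCat.of A)).inv ≫ g.appTop ≫ i.appTop =
        CommRingCat.ofHom e.toRingHom ≫ (Scheme.ΓSpecIso (CommRingCat.of k)).inv ≫ hX.appTop := by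
      rw [h1, ← Category.assoc, ← Scheme.ΓSpecIso_inv_naturality, Category.assoc]
    exact congrArg (fun f => f.hom a) h2
  let π : Γ(X', ⊤) →ₐ[k] Γ(X, ⊤) :=
    { i.appTop.hom with
      commutes' := fun c => by
        show i.appTop.hom (φA (algebraMap k A c)) = φk c
        rw [hπe]
        simp }
  have hπ : Function.Surjective π := (IsClosedImmersion.isAffine_surjective_of_isAffine i).2
  have hker : RingHom.ker π.toRingHom ≤ (RingHom.ker e.toRingHom).map (algebraMap A Γ(X', ⊤)) :=
    ker_le_of_isPullback e hX g i hsq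
  obtain ⟨s, Φ, hΦ⟩ := core e hnil π hπ hπe hker
  -- the pushout square of rings
  have hpo : IsPushout (CommRingCat.ofHom (algebraMap k A)) (CommRingCat.ofHom (algebraMap k Γ(X, ⊤)))
      (CommRingCat.ofHom (algebraMap A Γ(X', ⊤))) (CommRingCat.ofHom s.toRingHom) := by
    refine (CommRingCat.isPushout_tensorProduct k A Γ(X, ⊤)).of_iso (Iso.refl _) (Iso.refl _)
      (Iso.refl _) Φ.toRingEquiv.toCommRingCatIso (by simp) (by simp) ?_ ?_
    · ext a
      simp only [Iso.refl_hom, Category.id_comp]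
      show Φ (a ⊗ₜ 1) = algebraMap A Γ(X', ⊤) a
      rw [← Φ.commutes a]
      rfl
    · ext b
      simp only [Iso.refl_hom, Category.id_comp]
      show Φ (1 ⊗ₜ b) = s b
      exact hΦ b
  have pb := isPullback_SpecMap_of_isPushout _ _ _ _ hpo.flip
  let r : X' ⟶ X := X'.isoSpec.hom ≫ Spec.map (CommRingCat.ofHom s.toRingHom) ≫ X.isoSpec.inv
  have final : IsPullback r g hX (Spec.map (CommRingCat.ofHom (algebraMap k A))) := by
    refine pb.of_iso X'.isoSpec.symm X.isoSpec.symm (Iso.refl _) (Iso.refl _) ?_ ?_ ?_ ?_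
    · simp [r]
    · simp only [Iso.refl_hom, Category.comp_id, Iso.symm_hom]
      rw [Iso.eq_inv_comp]
      exact (eq_isoSpec_hom_comp g).symm
    · simp only [Iso.refl_hom, Category.comp_id, Iso.symm_hom]
      rw [Iso.eq_inv_comp]
      exact (eq_isoSpec_hom_comp hX).symm
    · simp
  exact ⟨final.isoPullback, final.isoPullback_hom_snd⟩

end Seat51TrivDef
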