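import Groth.Agent.Lib.Seat51TrivDef

/-!
# Trivial deformations with marked points (helper51)

* `bijective_of_section`: the map `A ⊗[k] B → B'` attached to a section `s` of `B' → B` is bijective.
* `marked_section`: first-order case; the section can be chosen compatible with finitely many marked points.
-/

set_option autoImplicit false

universe u v

namespace Seat51TrivDef

open TensorProduct

theorem bijective_of_section {k A B B' : Type u} [Field k] [CommRing A] [Algebra k A] [CommRing B]
    [Algebra k B] [CommRing B'] [Algebra A B'] [Algebra k B'] [IsScalarTower k A B']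
    [Module.Flat A B']
    (e : A →ₐ[k] k) (hnil : IsNilpotent (RingHom.ker e.toRingHom))
    (π : B' →ₐ[k] B)
    (hπe : ∀ a : A, π (algebraMap A B' a) = algebraMap k B (e a))
    (hker : RingHom.ker π.toRingHom ≤ (RingHom.ker e.toRingHom).map (algebraMap A B'))
    (s : B →ₐ[k] B') (hs : ∀ b, π (s b) = b) :
    Function.Bijective
      (Algebra.TensorProduct.lift (Algebra.ofId A B') s (fun _ _ => Commute.all _ _)) := by
  set I := RingHom.ker e.toRingHom with hI
  set φ₀ : A ⊗[k] B →ₐ[A] B' :=
    Algebra.TensorProduct.lift (Algebra.ofId A B') s (fun _ _ => Commute.all _ _) with hφ₀def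
  have hφ₀ : ∀ a b, φ₀ (a ⊗ₜ b) = algebraMap A B' a * s b := fun a b => by
    simp [φ₀, Algebra.ofId_apply]
  have hχ : ∀ c : A ⊗[k] B, (Algebra.TensorProduct.lid k B)
      (Algebra.TensorProduct.map e (AlgHom.id k B) c) = π (φ₀ c) := by
    intro c
    induction c using TensorProduct.induction_on with
    | zero => simp
    | tmul a b =>
      rw [hφ₀, map_mul, hπe, hs]
      simp [Algebra.smul_def]
    | add x y hx hy => simp only [map_add, hx, hy]
  refine Groth.Agent.Lib.Seat37.NilIso.bijective_of_mod_nilpotent I hnil φ₀ ?_ ?_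
  · intro d
    refine ⟨1 ⊗ₜ π d, hker ?_⟩
    rw [RingHom.mem_ker, hφ₀]
    simp [hs]
  · intro c hc
    have h1 : Algebra.TensorProduct.map e (AlgHom.id k B) c = 0 := by
      apply (Algebra.TensorProduct.lid k B).injective
      rw [hχ, hc, map_zero, map_zero]
    have h2 : c ∈ RingHom.ker (Algebra.TensorProduct.map e (AlgHom.id k B)) := h1
    have hes : Function.Surjective e := fun c => ⟨algebraMap k A c, by simp⟩
    rw [Algebra.TensorProduct.rTensor_ker e hes] at h2
    have h3 : (algebraMap A (A ⊗[k] B)) =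
        ((Algebra.TensorProduct.includeLeft : A →ₐ[k] A ⊗[k] B) : A →+* A ⊗[k] B) := by
      ext a
      simp [Algebra.TensorProduct.algebraMap_apply]
    rw [h3]
    exact h2

lemma isNilpotent_ker_fstHom (k : Type u) [Field k] :
    IsNilpotent (RingHom.ker (TrivSqZeroExt.fstHom k k k).toRingHom) := by
  refine ⟨2, ?_⟩
  have h2 : ∀ J : Ideal (TrivSqZeroExt k k), J ^ 2 = J * J := fun J => pow_two J
  rw [Ideal.zero_eq_bot, eq_bot_iff, h2, Ideal.mul_le]
  intro x hx y hy
  have hx' : TrivSqZeroExt.fst x = 0 := hx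
  have hy' : TrivSqZeroExt.fst y = 0 := hy
  rw [Ideal.mem_bot]
  apply TrivSqZeroExt.ext
  · simp [hx', hy']
  · simp [hx', hy']


open DualNumber in
theorem marked_section {k B B' : Type u} [Field k] [CommRing B] [Algebra k B]
    [Algebra.FormallySmooth k B]
    [CommRing B'] [Algebra k B'] (φ : DualNumber k →ₐ[k] B')
    (π : B' →ₐ[k] B) (hπ : Function.Surjective π)
    (hπe : ∀ a : DualNumber k, π (φ a) = algebraMap k B (TrivSqZeroExt.fst a))
    (hker : RingHom.ker π.toRingHom ≤
      (RingHom.ker (TrivSqZeroExt.fstHom k k k).toRingHom).map φ.toRingHom)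
    {ι : Type v} [Finite ι] (q : ι → (B →ₐ[k] k)) (hq : Function.Injective q)
    (q' : ι → (B' →ₐ[k] DualNumber k)) (hq'φ : ∀ j a, q' j (φ a) = a)
    (hqq' : ∀ j b', TrivSqZeroExt.fst (q' j b') = q j (π b')) :
    ∃ s : B →ₐ[k] B', (∀ b, π (s b) = b) ∧
      ∀ j b, q' j (s b) = algebraMap k (DualNumber k) (q j b) := by
  classical
  -- an arbitrary section
  have hkn : IsNilpotent (RingHom.ker (π : B' →+* B)) := by
    obtain ⟨n, hn⟩ := isNilpotent_ker_fstHom k
    refine ⟨n, ?_⟩
    rw [Ideal.zero_eq_bot, eq_bot_iff]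
    calc (RingHom.ker (π : B' →+* B)) ^ n
        ≤ ((RingHom.ker (TrivSqZeroExt.fstHom k k k).toRingHom).map φ.toRingHom) ^ n :=
          Ideal.pow_right_mono hker n
      _ = ((RingHom.ker (TrivSqZeroExt.fstHom k k k).toRingHom) ^ n).map φ.toRingHom :=
          (Ideal.map_pow _ _ _).symm
      _ = ⊥ := by rw [hn, Ideal.zero_eq_bot, Ideal.map_bot]
  let s₀ : B →ₐ[k] B' := Algebra.FormallySmooth.liftOfSurjective (AlgHom.id k B) π hπ hkn
  have hs₀ : ∀ b, π (s₀ b) = b := fun b =>
    Algebra.FormallySmooth.liftOfSurjective_apply (AlgHom.id k B) π hπ hkn b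
  -- the `B`-module `ι → k`
  letI modN : Module B (ι → k) := Module.compHom (ι → k) (RingHom.pi fun j => (q j : B →+* k))
  have hsmul : ∀ (b : B) (f : ι → k) (j : ι), (b • f) j = q j b * f j := fun b f j => rfl
  haveI : IsScalarTower k B (ι → k) := ⟨fun c b f => by
    funext j
    rw [hsmul, Pi.smul_apply, hsmul, map_smul, smul_mul_assoc]⟩
  have hfst : ∀ j b, TrivSqZeroExt.fst (q' j (s₀ b)) = q j b := fun j b => by rw [hqq', hs₀]
  let V : Derivation k B (ι → k) := Derivation.mk'
    { toFun := fun b j => - TrivSqZeroExt.snd (q' j (s₀ b))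
      map_add' := fun a b => by
        funext j
        simp only [map_add, TrivSqZeroExt.snd_add, Pi.add_apply, neg_add]
      map_smul' := fun c b => by
        funext j
        simp only [map_smul, TrivSqZeroExt.snd_smul, RingHom.id_apply, Pi.smul_apply,
          smul_eq_mul, mul_neg] }
    (fun a b => by
      funext j
      simp only [LinearMap.coe_mk, AddHom.coe_mk, Pi.add_apply, hsmul, map_mul, DualNumber.snd_mul,
        hfst]
      ring)
  have hV : ∀ b j, V b j = - TrivSqZeroExt.snd (q' j (s₀ b)) := fun b j => rfl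
  -- `B → ι → k` is surjective (Chinese remainder theorem)
  let ρ : B →ₗ[B] (ι → k) := LinearMap.toSpanSingleton B (ι → k) (1 : ι → k)
  have hρ : ∀ b j, ρ b j = q j b := fun b j => by
    show (b • (1 : ι → k)) j = q j b
    rw [hsmul, Pi.one_apply, mul_one]
  have hρs : Function.Surjective ρ := by
    intro f
    have hmax : ∀ j, (RingHom.ker (q j : B →+* k)).IsMaximal := fun j =>
      RingHom.ker_isMaximal_of_surjective _ (fun c => ⟨algebraMap k B c, by simp⟩)
    have hne : ∀ j l, j ≠ l → RingHom.ker (q j : B →+* k) ≠ RingHom.ker (q l : B →+* k) := by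
      intro j l hjl hker
      apply hjl
      apply hq
      ext b
      have h1 : b - algebraMap k B (q j b) ∈ RingHom.ker (q j : B →+* k) := by
        rw [RingHom.mem_ker]; simp
      rw [hker, RingHom.mem_ker] at h1
      have h2 : q l b - q j b = 0 := by simpa using h1
      exact (sub_eq_zero.mp h2).symm
    have hcop : Pairwise (Function.onFun IsCoprime fun j => RingHom.ker (q j : B →+* k)) := by
      intro j l hjl
      rw [Function.onFun, Ideal.isCoprime_iff_sup_eq]
      exact Ideal.IsMaximal.coprime_of_ne (hmax j) (hmax l) (hne j l hjl)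
    obtain ⟨y, hy⟩ := Ideal.exists_forall_sub_mem_ideal hcop (fun j => algebraMap k B (f j))
    refine ⟨y, ?_⟩
    funext j
    rw [hρ]
    have := hy j
    rw [RingHom.mem_ker] at this
    have h2 : q j y - f j = 0 := by simpa using this
    exact sub_eq_zero.mp h2
  -- lift the derivation
  obtain ⟨h, hh⟩ := Module.projective_lifting_property ρ V.liftKaehlerDifferential hρs
  let D : Derivation k B B := h.compDer (KaehlerDifferential.D k B)
  have hD : ∀ b j, q j (D b) = V b j := by
    intro b j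
    rw [← hρ]
    show (ρ ∘ₗ h) (KaehlerDifferential.D k B b) j = V b j
    rw [hh, Derivation.liftKaehlerDifferential_comp_D]
  -- the corrected section
  set εB : B' := φ (ε : DualNumber k) with hεB
  have hεε : εB * εB = 0 := by
    rw [hεB, ← map_mul, DualNumber.eps_mul_eps, map_zero]
  have hπε : π εB = 0 := by
    rw [hεB, hπe, DualNumber.fst_eps, map_zero]
  let s : B →ₐ[k] B' :=
    { toFun := fun b => s₀ b + εB * s₀ (D b)
      map_one' := by simp
      map_mul' := fun a b => by
        simp only [map_mul, Derivation.leibniz, map_add, smul_eq_mul]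
        have : (s₀ a + εB * s₀ (D a)) * (s₀ b + εB * s₀ (D b)) =
            s₀ a * s₀ b + εB * (s₀ a * s₀ (D b) + s₀ b * s₀ (D a)) +
              (εB * εB) * (s₀ (D a) * s₀ (D b)) := by ring
        rw [this, hεε, zero_mul, add_zero]
      map_zero' := by simp
      map_add' := fun a b => by
        simp only [map_add]
        ring
      commutes' := fun c => by simp }
  have hsdef : ∀ b, s b = s₀ b + εB * s₀ (D b) := fun b => rfl
  refine ⟨s, fun b => ?_, fun j b => ?_⟩
  · rw [hsdef, map_add, map_mul, hπε, zero_mul, add_zero, hs₀]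
  · rw [hsdef, map_add, map_mul, hεB, hq'φ]
    apply TrivSqZeroExt.ext
    · simp only [TrivSqZeroExt.fst_add, TrivSqZeroExt.fst_mul, DualNumber.fst_eps,
        zero_mul, add_zero, hfst]
      rfl
    · simp only [TrivSqZeroExt.snd_add, DualNumber.snd_mul, DualNumber.fst_eps,
        zero_mul, DualNumber.snd_eps, one_mul, zero_add, hfst, hD, hV]
      rw [add_neg_cancel]
      rfl


open AlgebraicGeometry CategoryTheory Limits

lemma isAffine_of_isPullback {k A : Type u} [Field k] [CommRing A] [Algebra k A] (e : A →ₐ[k] k)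
    (hnil : IsNilpotent (RingHom.ker e.toRingHom))
    {X X' : Scheme.{u}} [IsAffine X] (hX : X ⟶ Spec (CommRingCat.of k))
    (g : X' ⟶ Spec (CommRingCat.of A)) (i : X ⟶ X')
    (hsq : IsPullback i hX g (Spec.map (CommRingCat.ofHom e.toRingHom))) :
    IsClosedImmersion i ∧ IsAffine X' := by
  have hes : Function.Surjective e.toRingHom := fun c => ⟨algebraMap k A c, by simp⟩
  have hci : IsClosedImmersion (Spec.map (CommRingCat.ofHom e.toRingHom)) :=
    IsClosedImmersion.spec_of_surjective _ hes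
  have hsj : Surjective (Spec.map (CommRingCat.ofHom e.toRingHom)) :=
    surjective_Spec_map_of_nilpotent_ker _ hes hnil
  have hi1 : IsClosedImmersion i := MorphismProperty.of_isPullback hsq.flip hci
  have hi2 : Surjective i := MorphismProperty.of_isPullback hsq.flip hsj
  exact ⟨hi1, Groth.Agent.Lib.Helper22.ThickAffine.isAffine_of_thickening i i.surjective⟩

lemma appTop_retraction {X X' : Scheme.{u}} [IsAffine X] [IsAffine X'] (θ : Γ(X, ⊤) ⟶ Γ(X', ⊤)) :
    (X'.isoSpec.hom ≫ Spec.map θ ≫ X.isoSpec.inv).appTop = θ := by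
  apply Spec.map_injective
  have := Scheme.isoSpec_hom_naturality (X'.isoSpec.hom ≫ Spec.map θ ≫ X.isoSpec.inv)
  rw [Category.assoc, Category.assoc, Iso.inv_hom_id, Category.comp_id] at this
  exact (cancel_epi X'.isoSpec.hom).mp this

lemma comp_retraction {X X' : Scheme.{u}} [IsAffine X] [IsAffine X'] (i : X ⟶ X')
    (θ : Γ(X, ⊤) ⟶ Γ(X', ⊤)) (h : θ ≫ i.appTop = 𝟙 _) :
    i ≫ X'.isoSpec.hom ≫ Spec.map θ ≫ X.isoSpec.inv = 𝟙 X := by
  rw [← Scheme.isoSpec_hom_naturality_assoc, ← Spec.map_comp_assoc, h, Spec.map_id,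
    Category.id_comp, Iso.hom_inv_id]

theorem isPullback_of_section (k : Type u) [Field k] (X : Scheme.{u})
    (hX : X ⟶ Spec (CommRingCat.of k)) [IsAffine X]
    (A : Type u) [CommRing A] [Algebra k A] (e : A →ₐ[k] k)
    (hnil : IsNilpotent (RingHom.ker e.toRingHom))
    (X' : Scheme.{u}) [IsAffine X'] (g : X' ⟶ Spec (CommRingCat.of A)) [Flat g] (i : X ⟶ X')
    (hsq : IsPullback i hX g (Spec.map (CommRingCat.ofHom e.toRingHom)))
    (s : Γ(X, ⊤) →+* Γ(X', ⊤))
    (hs1 : ∀ b, i.appTop.hom (s b) = b)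
    (hs2 : ∀ c : k, s ((hX.appTop).hom ((Scheme.ΓSpecIso (CommRingCat.of k)).inv.hom c)) =
        (g.appTop).hom ((Scheme.ΓSpecIso (CommRingCat.of A)).inv.hom (algebraMap k A c))) :
    IsPullback (X'.isoSpec.hom ≫ Spec.map (CommRingCat.ofHom s) ≫ X.isoSpec.inv) g hX
      (Spec.map (CommRingCat.ofHom (algebraMap k A))) := by
  set φA : A →+* Γ(X', ⊤) := (g.appTop).hom.comp (Scheme.ΓSpecIso (CommRingCat.of A)).inv.hom
    with hφA
  set φk : k →+* Γ(X, ⊤) := (hX.appTop).hom.comp (Scheme.ΓSpecIso (CommRingCat.of k)).inv.hom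
    with hφk
  letI algA : Algebra A Γ(X', ⊤) := φA.toAlgebra
  letI algk : Algebra k Γ(X, ⊤) := φk.toAlgebra
  letI algk' : Algebra k Γ(X', ⊤) := (φA.comp (algebraMap k A)).toAlgebra
  haveI : IsScalarTower k A Γ(X', ⊤) := IsScalarTower.of_algebraMap_eq (fun _ => rfl)
  have hflat : Module.Flat A Γ(X', ⊤) := by
    have h1 : RingHom.Flat (g.appTop).hom :=
      (HasRingHomProperty.iff_of_isAffine (P := @Flat)).mp inferInstance
    have h2 : RingHom.Flat (Scheme.ΓSpecIso (CommRingCat.of A)).inv.hom :=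
      RingHom.Flat.of_bijective (ConcreteCategory.bijective_of_isIso _)
    exact h2.comp h1
  have hπe : ∀ a : A, i.appTop.hom (φA a) = φk (e a) := by
    intro a
    have h1 := congrArg (fun f => f.appTop) hsq.w
    simp only [Scheme.Hom.comp_appTop] at h1
    have h2 : (Scheme.ΓSpecIso (CommRingCat.of A)).inv ≫ g.appTop ≫ i.appTop =
        CommRingCat.ofHom e.toRingHom ≫ (Scheme.ΓSpecIso (CommRingCat.of k)).inv ≫ hX.appTop := by
      rw [h1, ← Category.assoc, ← Scheme.ΓSpecIso_inv_naturality, Category.assoc]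
    exact congrArg (fun f => f.hom a) h2
  let π : Γ(X', ⊤) →ₐ[k] Γ(X, ⊤) :=
    { i.appTop.hom with
      commutes' := fun c => by
        show i.appTop.hom (φA (algebraMap k A c)) = φk c
        rw [hπe]
        simp }
  let sa : Γ(X, ⊤) →ₐ[k] Γ(X', ⊤) := { s with commutes' := fun c => hs2 c }
  have hker : RingHom.ker π.toRingHom ≤ (RingHom.ker e.toRingHom).map (algebraMap A Γ(X', ⊤)) :=
    ker_le_of_isPullback e hX g i hsq
  have hbij := bijective_of_section e hnil π hπe hker sa hs1
  let Φ : A ⊗[k] Γ(X, ⊤) ≃ₐ[A] Γ(X', ⊤) := AlgEquiv.ofBijective _ hbij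
  have hΦ1 : ∀ b, Φ (1 ⊗ₜ b) = s b := fun b => by
    show (Algebra.TensorProduct.lift (Algebra.ofId A Γ(X', ⊤)) sa
      (fun _ _ => Commute.all _ _)) (1 ⊗ₜ b) = s b
    rw [Algebra.TensorProduct.lift_tmul, map_one, one_mul]
    rfl
  have hpo : IsPushout (CommRingCat.ofHom (algebraMap k A))
      (CommRingCat.ofHom (algebraMap k Γ(X, ⊤)))
      (CommRingCat.ofHom (algebraMap A Γ(X', ⊤))) (CommRingCat.ofHom s) := by
    refine (CommRingCat.isPushout_tensorProduct k A Γ(X, ⊤)).of_iso (Iso.refl _) (Iso.refl _)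
      (Iso.refl _) Φ.toRingEquiv.toCommRingCatIso (by simp) (by simp) ?_ ?_
    · ext a
      simp only [Iso.refl_hom, Category.id_comp]
      show Φ (a ⊗ₜ 1) = algebraMap A Γ(X', ⊤) a
      rw [← Φ.commutes a]
      rfl
    · ext b
      simp only [Iso.refl_hom, Category.id_comp]
      show Φ (1 ⊗ₜ b) = s b
      exact hΦ1 b
  have pb := isPullback_SpecMap_of_isPushout _ _ _ _ hpo.flip
  refine pb.of_iso X'.isoSpec.symm X.isoSpec.symm (Iso.refl _) (Iso.refl _) ?_ ?_ ?_ ?_
  · simp
  · simp only [Iso.refl_hom, Category.comp_id, Iso.symm_hom]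
    rw [Iso.eq_inv_comp]
    exact (eq_isoSpec_hom_comp g).symm
  · simp only [Iso.refl_hom, Category.comp_id, Iso.symm_hom]
    rw [Iso.eq_inv_comp]
    exact (eq_isoSpec_hom_comp hX).symm
  · simp

theorem marked_main (k : Type u) [Field k] (X : Scheme.{u}) (hX : X ⟶ Spec (CommRingCat.of k))
    [IsAffine X] [Smooth hX]
    {ι : Type v} [Finite ι] (p : ι → (Spec (CommRingCat.of k) ⟶ X)) (hp : ∀ j, p j ≫ hX = 𝟙 _)
    (hinj : Function.Injective p)
    (X' : Scheme.{u}) (g : X' ⟶ Spec (CommRingCat.of (DualNumber k))) [Flat g] (i : X ⟶ X')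
    (hsq : IsPullback i hX g
      (Spec.map (CommRingCat.ofHom (TrivSqZeroExt.fstHom k k k).toRingHom)))
    (p' : ι → (Spec (CommRingCat.of (DualNumber k)) ⟶ X')) (hp' : ∀ j, p' j ≫ g = 𝟙 _)
    (hpp' : ∀ j, p j ≫ i =
      Spec.map (CommRingCat.ofHom (TrivSqZeroExt.fstHom k k k).toRingHom) ≫ p' j) :
    ∃ φ : X' ≅ pullback hX (Spec.map (CommRingCat.ofHom (algebraMap k (DualNumber k)))),
      φ.hom ≫ pullback.snd hX (Spec.map (CommRingCat.ofHom (algebraMap k (DualNumber k)))) = g ∧
        i ≫ φ.hom ≫ pullback.fst hX (Spec.map (CommRingCat.ofHom (algebraMap k (DualNumber k)))) =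
          𝟙 X ∧
          ∀ j, p' j ≫ φ.hom ≫
              pullback.fst hX (Spec.map (CommRingCat.ofHom (algebraMap k (DualNumber k)))) =
            Spec.map (CommRingCat.ofHom (algebraMap k (DualNumber k))) ≫ p j := by
  set e : DualNumber k →ₐ[k] k := TrivSqZeroExt.fstHom k k k with he
  have hnil := isNilpotent_ker_fstHom k
  obtain ⟨hci, hX'aff⟩ := isAffine_of_isPullback e hnil hX g i hsq
  set φA : DualNumber k →+* Γ(X', ⊤) :=
    (g.appTop).hom.comp (Scheme.ΓSpecIso (CommRingCat.of (DualNumber k))).inv.hom with hφA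
  set φk : k →+* Γ(X, ⊤) := (hX.appTop).hom.comp (Scheme.ΓSpecIso (CommRingCat.of k)).inv.hom
    with hφk
  letI algk : Algebra k Γ(X, ⊤) := φk.toAlgebra
  letI algk' : Algebra k Γ(X', ⊤) := (φA.comp (algebraMap k (DualNumber k))).toAlgebra
  have hsmooth : Algebra.FormallySmooth k Γ(X, ⊤) := by
    have h1 : RingHom.Smooth (hX.appTop).hom :=
      (HasRingHomProperty.iff_of_isAffine (P := @Smooth)).mp inferInstance
    have h2 : RingHom.Smooth (Scheme.ΓSpecIso (CommRingCat.of k)).inv.hom :=
      RingHom.Smooth.of_bijective (ConcreteCategory.bijective_of_isIso _)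
    have : Algebra.Smooth k Γ(X, ⊤) := h2.comp h1
    infer_instance
  have hπe : ∀ a : DualNumber k, i.appTop.hom (φA a) = φk (e a) := by
    intro a
    have h1 := congrArg (fun f => f.appTop) hsq.w
    simp only [Scheme.Hom.comp_appTop] at h1
    have h2 : (Scheme.ΓSpecIso (CommRingCat.of (DualNumber k))).inv ≫ g.appTop ≫ i.appTop =
        CommRingCat.ofHom e.toRingHom ≫ (Scheme.ΓSpecIso (CommRingCat.of k)).inv ≫ hX.appTop := by
      rw [h1, ← Category.assoc, ← Scheme.ΓSpecIso_inv_naturality, Category.assoc]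
    exact congrArg (fun f => f.hom a) h2
  let π : Γ(X', ⊤) →ₐ[k] Γ(X, ⊤) :=
    { i.appTop.hom with
      commutes' := fun c => by
        show i.appTop.hom (φA (algebraMap k (DualNumber k) c)) = φk c
        rw [hπe]
        simp [he] }
  let φ : DualNumber k →ₐ[k] Γ(X', ⊤) := { φA with commutes' := fun c => rfl }
  have hπ : Function.Surjective π := (IsClosedImmersion.isAffine_surjective_of_isAffine i).2
  have hker : RingHom.ker π.toRingHom ≤ (RingHom.ker e.toRingHom).map φ.toRingHom :=
    ker_le_of_isPullback e hX g i hsq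
  -- the marked points
  have hq0 : ∀ j (c : k), (Scheme.ΓSpecIso (CommRingCat.of k)).hom.hom ((p j).appTop.hom (φk c)) = c := by
    intro j c
    have h1 := congrArg (fun f => f.appTop) (hp j)
    simp only [Scheme.Hom.comp_appTop, Scheme.Hom.id_appTop] at h1
    have h2 : (Scheme.ΓSpecIso (CommRingCat.of k)).inv ≫ (hX.appTop ≫ (p j).appTop) ≫
        (Scheme.ΓSpecIso (CommRingCat.of k)).hom = 𝟙 _ := by
      rw [h1, Category.id_comp, Iso.inv_hom_id]
    exact congrArg (fun f => f.hom c) h2
  let q : ι → (Γ(X, ⊤) →ₐ[k] k) := fun j =>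
    { (Scheme.ΓSpecIso (CommRingCat.of k)).hom.hom.comp (p j).appTop.hom with
      commutes' := fun c => hq0 j c }
  have hq'0 : ∀ j (a : DualNumber k),
      (Scheme.ΓSpecIso (CommRingCat.of (DualNumber k))).hom.hom ((p' j).appTop.hom (φA a)) = a := by
    intro j a
    have h1 := congrArg (fun f => f.appTop) (hp' j)
    simp only [Scheme.Hom.comp_appTop, Scheme.Hom.id_appTop] at h1
    have h2 : (Scheme.ΓSpecIso (CommRingCat.of (DualNumber k))).inv ≫ (g.appTop ≫ (p' j).appTop) ≫
        (Scheme.ΓSpecIso (CommRingCat.of (DualNumber k))).hom = 𝟙 _ := by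
      rw [h1, Category.id_comp, Iso.inv_hom_id]
    exact congrArg (fun f => f.hom a) h2
  let q' : ι → (Γ(X', ⊤) →ₐ[k] DualNumber k) := fun j =>
    { (Scheme.ΓSpecIso (CommRingCat.of (DualNumber k))).hom.hom.comp (p' j).appTop.hom with
      commutes' := fun c => hq'0 j _ }
  have hq'φ : ∀ j a, q' j (φ a) = a := fun j a => hq'0 j a
  have hqq' : ∀ j b', TrivSqZeroExt.fst (q' j b') = q j (π b') := by
    intro j b'
    have h1 := congrArg (fun f => f.appTop) (hpp' j)
    simp only [Scheme.Hom.comp_appTop] at h1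
    have h2 : (i.appTop ≫ (p j).appTop) ≫ (Scheme.ΓSpecIso (CommRingCat.of k)).hom =
        ((p' j).appTop ≫ (Scheme.ΓSpecIso (CommRingCat.of (DualNumber k))).hom) ≫
          CommRingCat.ofHom e.toRingHom := by
      rw [h1, Category.assoc, Scheme.ΓSpecIso_naturality, Category.assoc]
    exact (congrArg (fun f => f.hom b') h2).symm
  have hq : Function.Injective q := by
    intro j l hjl
    apply hinj
    apply ext_of_isAffine
    rw [← cancel_mono (Scheme.ΓSpecIso (CommRingCat.of k)).hom]
    ext b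
    exact congrArg (fun f => f b) hjl
  obtain ⟨s, hs1, hs3⟩ := marked_section φ π hπ hπe hker q hq q' hq'φ hqq'
  have final := isPullback_of_section k X hX (DualNumber k) e hnil X' g i hsq s.toRingHom hs1
    (fun c => s.commutes c)
  refine ⟨final.isoPullback, final.isoPullback_hom_snd, ?_, fun j => ?_⟩
  · rw [final.isoPullback_hom_fst]
    apply comp_retraction
    ext b
    exact hs1 b
  · rw [final.isoPullback_hom_fst]
    apply ext_of_isAffine
    rw [Scheme.Hom.comp_appTop, appTop_retraction, Scheme.Hom.comp_appTop,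
      ← cancel_mono (Scheme.ΓSpecIso (CommRingCat.of (DualNumber k))).hom, Category.assoc,
      Category.assoc, Scheme.ΓSpecIso_naturality]
    refine CommRingCat.hom_ext (RingHom.ext fun b => ?_)
    exact hs3 j b

end Seat51TrivDef
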