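import Groth.Agent.Lib.Seat52RPowSat
import Groth.Agent.Lib.Helper19ComplNoeth
import Groth.Agent.Lib.Helper17AdicFlat

/-!
# helper52: finiteness over algebras topologically of finite type over a base ring of class (N)/(V)

Core consequences of `Seat52SatFG.fg_of_saturated` for `AdicRing.IsBase`.
-/

set_option autoImplicit false
set_option linter.style.haveILetI false
universe u

namespace Groth.Agent.Lib.Seat52.AdicBase

open AdicRing

section ClassV

/-- `R⟨ζ⟩` is `t`-adically complete. -/
lemma isAdicComplete_rpow_span (R : Type u) [CommRing R] (t : R) (n : ℕ) :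
    IsAdicComplete (Ideal.span {algebraMap R (RPow R (Ideal.span {t}) n) t})
      (RPow R (Ideal.span {t}) n) := by
  have h := RPowSat.isAdicComplete_rpow R (Ideal.span {t}) n ⟨{t}, by simp⟩
  have e : ∀ (T : Type u) [CommRing T] [Algebra R T],
      (Ideal.span {t}).map (algebraMap R T) = Ideal.span {algebraMap R T t} := by
    intro T _ _
    rw [Ideal.map_span, Set.image_singleton]
  rw [e] at h
  exact h

variable (R : Type u) [CommRing R] [IsDomain R] [PreValuationRing R] [Ring.KrullDimLE 1 R]
  (t : R) (ht : t ≠ 0) [IsAdicComplete (Ideal.span {t}) R] (n : ℕ)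

include ht in
/-- class (V): `t`-saturated submodules of `R⟨ζ⟩^s` are finitely generated. -/
theorem fg_of_saturated_rpow (s : ℕ)
    (N : Submodule (RPow R (Ideal.span {t}) n) (Fin s → RPow R (Ideal.span {t}) n))
    (hsat : ∀ x : Fin s → RPow R (Ideal.span {t}) n,
      algebraMap R (RPow R (Ideal.span {t}) n) t • x ∈ N → x ∈ N) : N.FG := by
  haveI : ValuationRing R := {}
  haveI := isAdicComplete_rpow_span R t n
  exact SatFG.fg_of_saturated R t ht (RPow R (Ideal.span {t}) n)
    (RPowSat.haus_of_isAdicComplete _) (RPowSat.compl_of_isAdicComplete _) n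
    (RPowSat.phi R (Ideal.span {t}) n) (RPowSat.phi_surjective R (Ideal.span {t}) n ⟨{t}, by simp⟩)
    s N hsat

end ClassV

section Semilinear

variable {R : Type u} [CommRing R] {T A : Type u} [CommRing T] [CommRing A] [Algebra R T]
  [Algebra R A] (φ : T →ₐ[R] A)
  {M : Type u} [AddCommGroup M] [Module A M]

/-- the `φ`-semilinear map `T^s → M` attached to a family of elements of the `A`-module `M`. -/
noncomputable def piMap {s : ℕ} (m : Fin s → M) : (Fin s → T) →ₛₗ[(φ : T →+* A)] M where
  toFun x := ∑ i, φ (x i) • m i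
  map_add' x y := by simp [add_smul, Finset.sum_add_distrib]
  map_smul' c x := by simp [Finset.smul_sum, mul_smul]

lemma piMap_apply {s : ℕ} (m : Fin s → M) (x : Fin s → T) :
    piMap φ m x = ∑ i, φ (x i) • m i := rfl

lemma piMap_surjective (hφ : Function.Surjective φ) {s : ℕ} (m : Fin s → M)
    (hm : Submodule.span A (Set.range m) = ⊤) : Function.Surjective (piMap φ m) := by
  intro y
  have hy : y ∈ Submodule.span A (Set.range m) := hm ▸ Submodule.mem_top
  obtain ⟨c, rfl⟩ := (Submodule.mem_span_range_iff_exists_fun A).mp hy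
  choose x hx using fun i => hφ (c i)
  exact ⟨x, by simp [piMap_apply, hx]⟩

lemma piMap_algebraMap_smul [Module R M] [IsScalarTower R A M] {s : ℕ} (m : Fin s → M) (r : R)
    (x : Fin s → T) : piMap φ m (algebraMap R T r • x) = r • piMap φ m x := by
  rw [LinearMap.map_smulₛₗ]
  change φ (algebraMap R T r) • _ = _
  rw [AlgHom.commutes, algebraMap_smul]

end Semilinear

section Noeth

lemma isNoetherianRing_rpow (R : Type u) [CommRing R] [IsNoetherianRing R] (I : Ideal R) (n : ℕ) :
    IsNoetherianRing (RPow R I n) :=
  Groth.Agent.Lib.Helper19.isNoetherianRing_adicCompletion _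

lemma isNoetherianRing_of_tft (R : Type u) [CommRing R] [IsNoetherianRing R] (I : Ideal R)
    (A : Type u) [CommRing A] [Algebra R A] (hA : TopFiniteType R I A) : IsNoetherianRing A := by
  obtain ⟨n, φ, hφ⟩ := hA
  haveI := isNoetherianRing_rpow R I n
  exact isNoetherianRing_of_surjective _ _ φ.toRingHom hφ

end Noeth

section Main

/-- Saturated submodules of finite modules over an algebra topologically of finite type over a
base ring of class (N) or (V) are finitely generated. -/
theorem fg_of_sat (R : Type u) [CommRing R] (I : Ideal R) (hR : AdicRing.IsBase R I)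
    (A : Type u) [CommRing A] [Algebra R A] (hA : AdicRing.TopFiniteType R I A)
    (M : Type u) [AddCommGroup M] [Module A M] [Module R M] [IsScalarTower R A M]
    [Module.Finite A M] (N : Submodule A M)
    (hsat : ∀ (x : M) (n : ℕ), (∀ a ∈ I ^ n, a • x ∈ N) → x ∈ N) :
    N.FG := by
  obtain ⟨hc, h | h⟩ := hR
  · obtain ⟨hN, -⟩ := h
    haveI := isNoetherianRing_of_tft R I A hA
    haveI : IsNoetherian A M := isNoetherian_of_isNoetherianRing_of_finite A M
    exact IsNoetherian.noetherian N
  · obtain ⟨hD, hV, hK, t, ht, rfl⟩ := h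
    obtain ⟨n, φ, hφ⟩ := hA
    obtain ⟨s, m, hm⟩ := Module.Finite.exists_fin (R := A) (M := M)
    haveI : RingHomSurjective (φ : RPow R (Ideal.span {t}) n →+* A) := ⟨hφ⟩
    have hfg : (N.comap (piMap φ m)).FG := by
      refine fg_of_saturated_rpow R t ht n s _ ?_
      intro x hx
      rw [Submodule.mem_comap] at hx ⊢
      rw [piMap_algebraMap_smul] at hx
      apply hsat _ 1
      intro a ha
      rw [pow_one, Ideal.mem_span_singleton] at ha
      obtain ⟨c, rfl⟩ := ha
      rw [mul_comm, mul_smul, ← algebraMap_smul A c]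
      exact N.smul_mem _ hx
    have h2 := hfg.map (piMap φ m)
    rwa [Submodule.map_comap_eq_of_surjective (piMap_surjective φ hφ m hm)] at h2

end Main

end Groth.Agent.Lib.Seat52.AdicBase
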