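import Groth.Agent.Lib.Seat52AdicBase
import Groth.Agent.Lib.Helper19Restricted2
import Groth.Agent.S3866

/-!
# helper52: consequences of `fg_of_sat` (Bosch FRG §7.3)

finite presentation of torsion-free finite modules, tft + no torsion ⇒ tfp, coherence.
-/

set_option autoImplicit false
set_option linter.style.haveILetI false
universe u

namespace Groth.Agent.Lib.Seat52.AdicBase

open AdicRing

/-- `R⟨ζ⟩` is topologically of finite type over `R`. -/
lemma tft_rpow (R : Type u) [CommRing R] (I : Ideal R) (n : ℕ) :
    TopFiniteType R I (RPow R I n) :=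
  ⟨n, AlgHom.id R _, Function.surjective_id⟩

/-- A finite module without `I`-power torsion over an algebra topologically of finite type is
finitely presented. -/
theorem finitePresentation_of_noPowTorsion
    (R : Type u) [CommRing R] (I : Ideal R) (hR : AdicRing.IsBase R I)
    (A : Type u) [CommRing A] [Algebra R A] (hA : AdicRing.TopFiniteType R I A)
    (M : Type u) [AddCommGroup M] [Module A M] [Module R M] [IsScalarTower R A M]
    [Module.Finite A M] (hM : NoPowTorsion I M) :
    Module.FinitePresentation A M := by
  obtain ⟨s, m, hm⟩ := Module.Finite.exists_fin (R := A) (M := M)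
  have hρ : Function.Surjective (Fintype.linearCombination A m) := by
    rw [← LinearMap.range_eq_top, Fintype.range_linearCombination, hm]
  refine Module.finitePresentation_of_surjective (Fintype.linearCombination A m) hρ ?_
  refine fg_of_sat R I hR A hA (Fin s → A) (LinearMap.ker (Fintype.linearCombination A m)) ?_
  intro x k hx
  rw [LinearMap.mem_ker]
  apply hM _ k
  intro a ha
  have h1 := hx a ha
  rw [LinearMap.mem_ker] at h1
  rw [← h1, ← algebraMap_smul A a x, map_smul, algebraMap_smul]

/-- S11524: finite modules flat over the base are finitely presented. -/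
theorem finitePresentation_of_flat
    (R : Type u) [CommRing R] (I : Ideal R) (hR : AdicRing.IsBase R I)
    (A : Type u) [CommRing A] [Algebra R A] (hA : AdicRing.TopFiniteType R I A)
    (M : Type u) [AddCommGroup M] [Module A M] [Module R M] [IsScalarTower R A M]
    [Module.Finite A M] [Module.Flat R M] :
    Module.FinitePresentation A M := by
  have hR' := hR
  obtain ⟨hc, h | h⟩ := hR
  · obtain ⟨hN, -⟩ := h
    haveI := isNoetherianRing_of_tft R I A hA
    exact Module.finitePresentation_of_finite A M
  · obtain ⟨hD, hV, hK, t, ht, rfl⟩ := h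
    apply finitePresentation_of_noPowTorsion R _ hR' A hA M
    intro x k hx
    have h1 := hx (t ^ k) (Ideal.pow_mem_pow (Ideal.mem_span_singleton_self t) k)
    have hreg : IsSMulRegular M (t ^ k) :=
      Module.Flat.isSMulRegular_of_nonZeroDivisors
        (mem_nonZeroDivisors_of_ne_zero (pow_ne_zero k ht))
    exact hreg (by simp only [h1, smul_zero])

/-- S11525: tft without `I`-power torsion implies tfp. -/
theorem tfp_of_tft_of_noPowTorsion
    (R : Type u) [CommRing R] (I : Ideal R) (hR : AdicRing.IsBase R I)
    (A : Type u) [CommRing A] [Algebra R A] (hA : AdicRing.TopFiniteType R I A)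
    (hT : AdicRing.NoPowTorsion I A) :
    AdicRing.TopFinitePresentation R I A := by
  obtain ⟨n, φ, hφ⟩ := hA
  refine ⟨n, φ, hφ, ?_⟩
  refine fg_of_sat R I hR (RPow R I n) (tft_rpow R I n) (RPow R I n) (RingHom.ker φ.toRingHom) ?_
  intro x k hx
  rw [RingHom.mem_ker]
  apply hT _ k
  intro a ha
  have h1 := hx a ha
  rw [RingHom.mem_ker] at h1
  rw [← h1]
  exact (map_smul φ a x).symm

/-- S11526: algebras topologically of finite presentation are coherent. -/
theorem finitePresentation_ideal_of_tfp
    (R : Type u) [CommRing R] (I : Ideal R) (hR : AdicRing.IsBase R I)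
    (A : Type u) [CommRing A] [Algebra R A] (hA : AdicRing.TopFinitePresentation R I A)
    (J : Ideal A) (hJ : J.FG) :
    Module.FinitePresentation A J := by
  obtain ⟨n, φ, hφ, hker⟩ := hA
  have hA' : TopFiniteType R I A := ⟨n, φ, hφ⟩
  have hR' := hR
  obtain ⟨hc, h | h⟩ := hR
  · obtain ⟨hN, -⟩ := h
    haveI := isNoetherianRing_of_tft R I A hA'
    haveI : Module.Finite A J := Module.Finite.iff_fg.mpr hJ
    exact Module.finitePresentation_of_finite A J
  · obtain ⟨hD, hV, hK, t, ht, rfl⟩ := h
    obtain ⟨s, j, hj⟩ := Submodule.fg_iff_exists_fin_generating_family.mp hJ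
    obtain ⟨r, a, ha⟩ := Submodule.fg_iff_exists_fin_generating_family.mp hker
    choose j' hj' using fun i => hφ (j i)
    -- the relation module upstairs
    let Θ : ((Fin s → RPow R (Ideal.span {t}) n) × (Fin r → RPow R (Ideal.span {t}) n)) →ₗ[
        RPow R (Ideal.span {t}) n] RPow R (Ideal.span {t}) n :=
      (Fintype.linearCombination _ j').coprod (Fintype.linearCombination _ a)
    have hΘ : ∀ z, Θ z = ∑ i, z.1 i * j' i + ∑ l, z.2 l * a l := by
      intro z
      simp [Θ, Fintype.linearCombination_apply]
    have hK' : (LinearMap.ker Θ).FG := by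
      refine fg_of_sat R _ hR' (RPow R (Ideal.span {t}) n) (tft_rpow R _ n) _ (LinearMap.ker Θ) ?_
      intro x k hx
      rw [LinearMap.mem_ker]
      have h1 := hx (t ^ k) (Ideal.pow_mem_pow (Ideal.mem_span_singleton_self t) k)
      rw [LinearMap.mem_ker, ← algebraMap_smul (RPow R (Ideal.span {t}) n) (t ^ k) x, map_smul,
        algebraMap_smul] at h1
      exact Groth.Agent.Lib.Helper17.Adic.torsionFree_rpow_aux R t ht n k _ h1
    -- the presentation downstairs
    have hρ0 : ∀ x, Fintype.linearCombination A j x ∈ J := by
      intro x
      rw [← hj, ← Fintype.range_linearCombination]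
      exact LinearMap.mem_range_self _ x
    have hρ : Function.Surjective ((Fintype.linearCombination A j).codRestrict J hρ0) := by
      rintro ⟨y, hy⟩
      have hy' : y ∈ LinearMap.range (Fintype.linearCombination A j) := by
        rw [Fintype.range_linearCombination, hj]
        exact hy
      obtain ⟨x, hx⟩ := hy'
      exact ⟨x, Subtype.ext hx⟩
    refine Module.finitePresentation_of_surjective _ hρ ?_
    rw [LinearMap.ker_codRestrict]
    haveI : RingHomSurjective (φ : RPow R (Ideal.span {t}) n →+* A) := ⟨hφ⟩
    let proj : ((Fin s → RPow R (Ideal.span {t}) n) × (Fin r → RPow R (Ideal.span {t}) n)) →ₛₗ[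
        (φ : RPow R (Ideal.span {t}) n →+* A)] (Fin s → A) :=
      { toFun := fun z i => φ (z.1 i)
        map_add' := fun z w => by
          funext i
          simp
        map_smul' := fun c z => by
          funext i
          simp }
    have hproj : ∀ z i, proj z i = φ (z.1 i) := fun _ _ => rfl
    have hakey : ∀ l, φ (a l) = 0 := by
      intro l
      have : a l ∈ RingHom.ker φ.toRingHom := by
        rw [← ha]
        exact Submodule.subset_span ⟨l, rfl⟩
      exact this
    have hkey : LinearMap.ker (Fintype.linearCombination A j) = (LinearMap.ker Θ).map proj := by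
      apply le_antisymm
      · intro x hx
        rw [LinearMap.mem_ker, Fintype.linearCombination_apply] at hx
        choose z hz using fun i => hφ (x i)
        have h1 : ∑ i, z i * j' i ∈ RingHom.ker φ.toRingHom := by
          rw [RingHom.mem_ker]
          change φ _ = 0
          rw [map_sum, ← hx]
          refine Finset.sum_congr rfl fun i _ => ?_
          rw [map_mul, hz, hj', smul_eq_mul]
        rw [← ha] at h1
        obtain ⟨c, hc⟩ := (Submodule.mem_span_range_iff_exists_fun _).mp h1
        refine ⟨(z, fun l => - c l), ?_, ?_⟩
        · change Θ _ = 0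
          rw [hΘ]
          simp only [neg_mul, Finset.sum_neg_distrib]
          rw [← hc]
          simp only [smul_eq_mul]
          exact add_neg_cancel _
        · funext i
          rw [hproj, hz]
      · rintro _ ⟨z, hz, rfl⟩
        rw [SetLike.mem_coe, LinearMap.mem_ker, hΘ] at hz
        rw [LinearMap.mem_ker, Fintype.linearCombination_apply]
        have h2 := congrArg φ hz
        rw [map_add, map_sum, map_sum, map_zero] at h2
        have h3 : ∑ l, φ (z.2 l * a l) = 0 :=
          Finset.sum_eq_zero fun l _ => by rw [map_mul, hakey, mul_zero]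
        rw [h3, add_zero] at h2
        rw [← h2]
        refine Finset.sum_congr rfl fun i _ => ?_
        rw [map_mul, hj', hproj, smul_eq_mul]
    rw [hkey]
    exact hK'.map proj

end Groth.Agent.Lib.Seat52.AdicBase
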