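import Groth.Agent.Lib.Seat52AdicBase2

/-!
# helper52: Artin–Rees and completeness of finite modules over algebras topologically of finite type
(Bosch FRG §7.3, Lemma 7 and Proposition 8)
-/

set_option autoImplicit false
set_option linter.style.haveILetI false
set_option linter.unusedSectionVars false
universe u

namespace Groth.Agent.Lib.Seat52.AdicBase

open AdicRing

section Principal

variable {R : Type*} [CommRing R] (t : R) {M : Type*} [AddCommGroup M] [Module R M]

lemma mem_span_pow_smul_top_iff (k : ℕ) (x : M) :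
    x ∈ ((Ideal.span {t}) ^ k • ⊤ : Submodule R M) ↔ ∃ y : M, x = t ^ k • y := by
  rw [Ideal.span_singleton_pow, Submodule.ideal_span_singleton_smul,
    Submodule.mem_smul_pointwise_iff_exists]
  constructor
  · rintro ⟨y, -, rfl⟩
    exact ⟨y, rfl⟩
  · rintro ⟨y, rfl⟩
    exact ⟨y, trivial, rfl⟩

lemma isHausdorff_of_sep (h : ∀ y : M, (∀ k : ℕ, ∃ w : M, y = t ^ k • w) → y = 0) :
    IsHausdorff (Ideal.span {t}) M := by
  refine ⟨fun x hx => h x fun k => ?_⟩
  have := hx k
  rw [SModEq.zero] at this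
  exact (mem_span_pow_smul_top_iff t k x).mp this

lemma isPrecomplete_of_pre
    (h : ∀ z : ℕ → M, ∃ L : M, ∀ k : ℕ, ∃ w : M,
      L - ∑ i ∈ Finset.range k, t ^ i • z i = t ^ k • w) :
    IsPrecomplete (Ideal.span {t}) M := by
  refine ⟨fun f hf => ?_⟩
  have h1 : ∀ k, ∃ z : M, f (k + 1) - f k = t ^ k • z := by
    intro k
    have := hf (Nat.le_succ k)
    rw [SModEq.comm, SModEq.sub_mem] at this
    exact (mem_span_pow_smul_top_iff t k _).mp this
  choose z hz using h1
  have h2 : ∀ k, f k = f 0 + ∑ i ∈ Finset.range k, t ^ i • z i := by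
    intro k
    induction k with
    | zero => simp
    | succ k ih =>
      rw [Finset.sum_range_succ, ← add_assoc, ← ih, ← hz k]
      abel
  obtain ⟨L, hL⟩ := h z
  refine ⟨f 0 + L, fun k => ?_⟩
  obtain ⟨w, hw⟩ := hL k
  rw [SModEq.comm, SModEq.sub_mem, mem_span_pow_smul_top_iff]
  refine ⟨w, ?_⟩
  rw [← hw, h2 k]
  abel

end Principal

section ClassV

variable (R : Type u) [CommRing R] [IsDomain R] [PreValuationRing R] [Ring.KrullDimLE 1 R]
  (t : R) (ht : t ≠ 0) [IsAdicComplete (Ideal.span {t}) R]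

include ht in
lemma isBase_V : IsBase R (Ideal.span {t}) :=
  ⟨inferInstance, Or.inr ⟨inferInstance, inferInstance, inferInstance, t, ht, rfl⟩⟩

variable (A : Type u) [CommRing A] [Algebra R A] (hA : AdicRing.TopFiniteType R (Ideal.span {t}) A)
  (M : Type u) [AddCommGroup M] [Module A M] [Module R M] [IsScalarTower R A M]
  [Module.Finite A M]

include ht hA in
/-- class (V): the `t`-saturation of a submodule `N` of a finite module is reached after
multiplication with a fixed power of `t`. -/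
theorem exists_pow_smul_mem_of_sat (N : Submodule A M) :
    ∃ n₀ : ℕ, ∀ x : M, (∃ k : ℕ, t ^ k • x ∈ N) → t ^ n₀ • x ∈ N := by
  have smulR_mem : ∀ (c : R) {y : M}, y ∈ N → c • y ∈ N := by
    intro c y hy
    rw [← algebraMap_smul A c y]
    exact N.smul_mem _ hy
  let Nsat : Submodule A M :=
    { carrier := {x | ∃ k : ℕ, t ^ k • x ∈ N}
      add_mem' := by
        rintro x y ⟨k, hk⟩ ⟨l, hl⟩
        refine ⟨k + l, ?_⟩
        rw [smul_add]
        refine N.add_mem ?_ ?_
        · rw [pow_add, mul_comm, mul_smul]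
          exact smulR_mem _ hk
        · rw [pow_add, mul_smul]
          exact smulR_mem _ hl
      zero_mem' := ⟨0, by simp⟩
      smul_mem' := by
        rintro c x ⟨k, hk⟩
        exact ⟨k, by rw [smul_comm]; exact N.smul_mem c hk⟩ }
  have hmem : ∀ x, x ∈ Nsat ↔ ∃ k : ℕ, t ^ k • x ∈ N := fun _ => Iff.rfl
  have hfg : Nsat.FG := by
    refine fg_of_sat R _ (isBase_V R t ht) A hA M Nsat ?_
    intro x n hx
    obtain ⟨k, hk⟩ := (hmem _).mp
      (hx (t ^ n) (Ideal.pow_mem_pow (Ideal.mem_span_singleton_self t) n))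
    exact ⟨k + n, by rw [pow_add, mul_smul]; exact hk⟩
  have hfin : ∀ S : Finset M, (∀ g ∈ S, g ∈ Nsat) → ∃ n₀ : ℕ, ∀ g ∈ S, t ^ n₀ • g ∈ N := by
    classical
    intro S
    induction S using Finset.induction_on with
    | empty => intro _; exact ⟨0, by simp⟩
    | insert g S hg ih =>
      intro h
      obtain ⟨n₁, hn₁⟩ := ih (fun g' hg' => h g' (Finset.mem_insert_of_mem hg'))
      obtain ⟨k, hk⟩ := h g (Finset.mem_insert_self g S)
      refine ⟨n₁ + k, fun g' hg' => ?_⟩
      rcases Finset.mem_insert.mp hg' with rfl | hg''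
      · rw [pow_add, mul_smul]
        exact smulR_mem _ hk
      · rw [pow_add, mul_comm, mul_smul]
        exact smulR_mem _ (hn₁ g' hg'')
  obtain ⟨S, hS⟩ := hfg
  obtain ⟨n₀, hn₀⟩ := hfin S (fun g hg => hS ▸ Submodule.subset_span hg)
  refine ⟨n₀, fun x hx => ?_⟩
  have hx' : x ∈ Submodule.span A (S : Set M) := by
    rw [hS]
    exact hx
  have key : ∀ x, x ∈ Submodule.span A (S : Set M) → t ^ n₀ • x ∈ N := by
    intro x hx
    induction hx using Submodule.span_induction with
    | mem g hg => exact hn₀ g hg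
    | zero => simp
    | add x y _ _ hx hy => rw [smul_add]; exact N.add_mem hx hy
    | smul c x _ hx => rw [smul_comm]; exact N.smul_mem c hx
  exact key x hx'

end ClassV

section ArtinRees

/-- S11528: uniform Artin–Rees. -/
theorem artinRees
    (R : Type u) [CommRing R] (I : Ideal R) (hR : AdicRing.IsBase R I)
    (A : Type u) [CommRing A] [Algebra R A] (hA : AdicRing.TopFiniteType R I A)
    (M : Type u) [AddCommGroup M] [Module A M] [Module R M] [IsScalarTower R A M]
    [Module.Finite A M] (N : Submodule A M) :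
    ∃ n₀ : ℕ, ∀ m : ℕ,
      (I ^ (m + n₀) • (⊤ : Submodule R M)) ⊓ N.restrictScalars R ≤ I ^ m • N.restrictScalars R := by
  obtain ⟨hc, h | h⟩ := hR
  · obtain ⟨hN, -⟩ := h
    haveI := isNoetherianRing_of_tft R I A hA
    obtain ⟨k, hk⟩ := Ideal.exists_pow_inf_eq_pow_smul (I.map (algebraMap R A)) N
    refine ⟨k, fun m => ?_⟩
    have h1 := hk (m + k) (Nat.le_add_left k m)
    rw [Nat.add_sub_cancel] at h1
    have e1 : ∀ (j : ℕ) (P : Submodule A M),
        ((I.map (algebraMap R A)) ^ j • P).restrictScalars R = I ^ j • P.restrictScalars R := by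
      intro j P
      rw [← Ideal.map_pow, Ideal.smul_restrictScalars]
    intro x hx
    have hx1 : x ∈ ((I.map (algebraMap R A)) ^ (m + k) • (⊤ : Submodule A M)) ⊓ N := by
      refine ⟨?_, hx.2⟩
      have h2 := hx.1
      rw [← Submodule.restrictScalars_top R A M, ← e1] at h2
      exact h2
    rw [h1] at hx1
    have hx2 : x ∈ (I.map (algebraMap R A)) ^ m • N :=
      Submodule.smul_mono le_rfl inf_le_right hx1
    have hx3 : x ∈ ((I.map (algebraMap R A)) ^ m • N).restrictScalars R := hx2
    rwa [e1] at hx3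
  · obtain ⟨hD, hV, hK, t, ht, rfl⟩ := h
    obtain ⟨n₀, hn₀⟩ := exists_pow_smul_mem_of_sat R t ht A hA M N
    refine ⟨n₀, fun m x hx => ?_⟩
    obtain ⟨hx1, hx2⟩ := hx
    obtain ⟨y, rfl⟩ := (mem_span_pow_smul_top_iff t _ x).mp hx1
    have hy := hn₀ y ⟨m + n₀, hx2⟩
    rw [pow_add, mul_smul]
    exact Submodule.smul_mem_smul (Ideal.pow_mem_pow (Ideal.mem_span_singleton_self t) m) hy

end ArtinRees

end Groth.Agent.Lib.Seat52.AdicBase
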