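import Groth.Agent.Lib.Seat52AdicBase3

/-!
# helper52: finite modules over algebras topologically of finite type are adically complete
(Bosch FRG §7.3, Proposition 8)
-/

set_option autoImplicit false
set_option linter.style.haveILetI false
set_option linter.unusedSectionVars false
universe u

namespace Groth.Agent.Lib.Seat52.AdicBase

open AdicRing

section ClassV

variable (R : Type u) [CommRing R] [IsDomain R] [PreValuationRing R] [Ring.KrullDimLE 1 R]
  (t : R) (ht : t ≠ 0) [IsAdicComplete (Ideal.span {t}) R]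
  (A : Type u) [CommRing A] [Algebra R A] (hA : AdicRing.TopFiniteType R (Ideal.span {t}) A)
  (M : Type u) [AddCommGroup M] [Module A M] [Module R M] [IsScalarTower R A M]
  [Module.Finite A M]

include hA in
/-- class (V): finite modules are `t`-adically precomplete (elementwise form). -/
theorem pre_of_finite (z : ℕ → M) :
    ∃ L : M, ∀ k : ℕ, ∃ w : M, L - ∑ i ∈ Finset.range k, t ^ i • z i = t ^ k • w := by
  obtain ⟨n, φ, hφ⟩ := hA
  obtain ⟨s, m, hm⟩ := Module.Finite.exists_fin (R := A) (M := M)
  have hπ := piMap_surjective φ hφ m hm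
  choose u hu using fun i => hπ (z i)
  haveI := isAdicComplete_rpow_span R t n
  have hc : ∀ j : Fin s, ∃ L : RPow R (Ideal.span {t}) n, ∀ k : ℕ,
      algebraMap R (RPow R (Ideal.span {t}) n) t ^ k ∣
        L - ∑ i ∈ Finset.range k, algebraMap R (RPow R (Ideal.span {t}) n) t ^ i * u i j :=
    fun j => RPowSat.compl_of_isAdicComplete _ (fun i => u i j)
  choose L hL using hc
  choose w hw using fun k j => hL j k
  have h2 : ∀ (c : ℕ) (x : Fin s → RPow R (Ideal.span {t}) n),
      piMap φ m (algebraMap R (RPow R (Ideal.span {t}) n) t ^ c • x) = t ^ c • piMap φ m x := by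
    intro c x
    rw [← map_pow, piMap_algebraMap_smul]
  refine ⟨piMap φ m L, fun k => ⟨piMap φ m (w k), ?_⟩⟩
  have h1 : L - ∑ i ∈ Finset.range k, algebraMap R (RPow R (Ideal.span {t}) n) t ^ i • u i =
      algebraMap R (RPow R (Ideal.span {t}) n) t ^ k • w k := by
    funext j
    simp only [Pi.sub_apply, Finset.sum_apply, Pi.smul_apply, smul_eq_mul]
    exact hw k j
  calc piMap φ m L - ∑ i ∈ Finset.range k, t ^ i • z i
      = piMap φ m (L - ∑ i ∈ Finset.range k,
          algebraMap R (RPow R (Ideal.span {t}) n) t ^ i • u i) := by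
        rw [map_sub, map_sum]
        congr 1
        refine Finset.sum_congr rfl fun i _ => ?_
        rw [h2, hu]
    _ = t ^ k • piMap φ m (w k) := by rw [h1, h2]

include ht hA in
/-- class (V): finite modules without `t`-torsion are `t`-adically separated. -/
theorem sep_of_finite_of_torsionFree (htf : ∀ (k : ℕ) (y : M), t ^ k • y = 0 → y = 0)
    (y : M) (hy : ∀ k : ℕ, ∃ w : M, y = t ^ k • w) : y = 0 := by
  obtain ⟨n, φ, hφ⟩ := hA
  obtain ⟨s, m, hm⟩ := Module.Finite.exists_fin (R := A) (M := M)
  have hπ := piMap_surjective φ hφ m hm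
  haveI := isAdicComplete_rpow_span R t n
  have h2 : ∀ (c : ℕ) (x : Fin s → RPow R (Ideal.span {t}) n),
      piMap φ m (algebraMap R (RPow R (Ideal.span {t}) n) t ^ c • x) = t ^ c • piMap φ m x := by
    intro c x
    rw [← map_pow, piMap_algebraMap_smul]
  have hKsat : ∀ (c : ℕ) (x : Fin s → RPow R (Ideal.span {t}) n),
      algebraMap R (RPow R (Ideal.span {t}) n) t ^ c • x ∈ LinearMap.ker (piMap φ m) →
      x ∈ LinearMap.ker (piMap φ m) := by
    intro c x hx
    rw [LinearMap.mem_ker] at hx ⊢
    rw [h2] at hx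
    exact htf c _ hx
  have hKfg : (LinearMap.ker (piMap φ m)).FG :=
    fg_of_saturated_rpow R t ht n s _ (fun x hx => hKsat 1 x (by rwa [pow_one]))
  haveI : Module.Finite (RPow R (Ideal.span {t}) n) (LinearMap.ker (piMap φ m)) :=
    Module.Finite.iff_fg.mpr hKfg
  choose w hw using hy
  obtain ⟨x, hx⟩ := hπ y
  choose u hu using fun k => hπ (w k)
  have hκ : ∀ k, x - algebraMap R (RPow R (Ideal.span {t}) n) t ^ k • u k ∈
      LinearMap.ker (piMap φ m) := by
    intro k
    rw [LinearMap.mem_ker, map_sub, h2, hx, hu, ← hw k, sub_self]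
  have hv : ∀ k, u k - algebraMap R (RPow R (Ideal.span {t}) n) t • u (k + 1) ∈
      LinearMap.ker (piMap φ m) := by
    intro k
    apply hKsat k
    have : algebraMap R (RPow R (Ideal.span {t}) n) t ^ k •
        (u k - algebraMap R (RPow R (Ideal.span {t}) n) t • u (k + 1)) =
        (x - algebraMap R (RPow R (Ideal.span {t}) n) t ^ (k + 1) • u (k + 1)) -
          (x - algebraMap R (RPow R (Ideal.span {t}) n) t ^ k • u k) := by
      rw [smul_sub, smul_smul, ← pow_succ]
      abel
    rw [this]
    exact Submodule.sub_mem _ (hκ (k + 1)) (hκ k)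
  obtain ⟨L, hL⟩ := pre_of_finite R t (RPow R (Ideal.span {t}) n) (tft_rpow R _ n)
    (LinearMap.ker (piMap φ m)) (fun k => ⟨_, hv k⟩)
  have hsm : ∀ (c : R) (v : Fin s → RPow R (Ideal.span {t}) n),
      c • v = algebraMap R (RPow R (Ideal.span {t}) n) c • v :=
    fun c v => (algebraMap_smul (RPow R (Ideal.span {t}) n) c v).symm
  have hfinal : u 0 - (L : Fin s → RPow R (Ideal.span {t}) n) = 0 := by
    funext j
    apply RPowSat.haus_of_isAdicComplete (algebraMap R (RPow R (Ideal.span {t}) n) t)
    intro k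
    obtain ⟨w', hw'⟩ := hL k
    have hw'' : (L : Fin s → RPow R (Ideal.span {t}) n) -
        ∑ i ∈ Finset.range k, algebraMap R (RPow R (Ideal.span {t}) n) t ^ i •
          (u i - algebraMap R (RPow R (Ideal.span {t}) n) t • u (i + 1)) =
        algebraMap R (RPow R (Ideal.span {t}) n) t ^ k •
          (w' : Fin s → RPow R (Ideal.span {t}) n) := by
      have h3 := congrArg Subtype.val hw'
      simp only [Submodule.coe_sub, Submodule.coe_sum, Submodule.coe_smul_of_tower, hsm,
        map_pow] at h3
      exact h3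
    have htel : ∀ k : ℕ, ∑ i ∈ Finset.range k, algebraMap R (RPow R (Ideal.span {t}) n) t ^ i •
          (u i - algebraMap R (RPow R (Ideal.span {t}) n) t • u (i + 1)) =
        u 0 - algebraMap R (RPow R (Ideal.span {t}) n) t ^ k • u k := by
      intro k
      induction k with
      | zero => simp
      | succ k ih =>
        rw [Finset.sum_range_succ, ih, smul_sub, smul_smul, ← pow_succ]
        abel
    rw [htel k] at hw''
    have h4 : u 0 - (L : Fin s → RPow R (Ideal.span {t}) n) =
        algebraMap R (RPow R (Ideal.span {t}) n) t ^ k • (u k - w') := by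
      rw [smul_sub, ← hw'']
      abel
    rw [h4]
    exact ⟨(u k - w') j, rfl⟩
  have hxK : x ∈ LinearMap.ker (piMap φ m) := by
    have h5 : x = (x - algebraMap R (RPow R (Ideal.span {t}) n) t ^ 0 • u 0) + L := by
      rw [pow_zero, one_smul, ← sub_eq_zero.mp hfinal]
      abel
    rw [h5]
    exact Submodule.add_mem _ (hκ 0) L.2
  rw [← hx]
  exact hxK

include ht hA in
/-- class (V): finite modules are `t`-adically separated. -/
theorem sep_of_finite (y : M) (hy : ∀ k : ℕ, ∃ w : M, y = t ^ k • w) : y = 0 := by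
  obtain ⟨n₁, hn₁⟩ := exists_pow_smul_mem_of_sat R t ht A hA M ⊥
  have smul0 : ∀ (c : R) {y : M}, y = 0 → c • y = 0 := by
    intro c y hy
    rw [hy, smul_zero]
  let Mtors : Submodule A M :=
    { carrier := {x | ∃ k : ℕ, t ^ k • x = 0}
      add_mem' := by
        rintro x y ⟨k, hk⟩ ⟨l, hl⟩
        refine ⟨k + l, ?_⟩
        have h1 : t ^ (k + l) • x = 0 := by rw [pow_add, mul_comm, mul_smul, hk, smul_zero]
        have h2 : t ^ (k + l) • y = 0 := by rw [pow_add, mul_smul, hl, smul_zero]
        rw [smul_add, h1, h2, add_zero]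
      zero_mem' := ⟨0, by simp⟩
      smul_mem' := by
        rintro c x ⟨k, hk⟩
        exact ⟨k, by rw [smul_comm, hk, smul_zero]⟩ }
  have hmem : ∀ x, x ∈ Mtors ↔ ∃ k : ℕ, t ^ k • x = 0 := fun _ => Iff.rfl
  have hq : ∀ (k : ℕ) (z : M ⧸ Mtors), t ^ k • z = 0 → z = 0 := by
    intro k z h
    obtain ⟨y', rfl⟩ := Submodule.Quotient.mk_surjective _ z
    rw [← Submodule.Quotient.mk_smul, Submodule.Quotient.mk_eq_zero] at h
    rw [Submodule.Quotient.mk_eq_zero]
    obtain ⟨l, hl⟩ := (hmem _).mp h
    exact ⟨l + k, by rw [pow_add, mul_smul]; exact hl⟩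
  have h0 : (Submodule.Quotient.mk y : M ⧸ Mtors) = 0 := by
    refine sep_of_finite_of_torsionFree R t ht A hA (M ⧸ Mtors) hq _ (fun k => ?_)
    obtain ⟨w, hw⟩ := hy k
    exact ⟨Submodule.Quotient.mk w, by rw [hw, Submodule.Quotient.mk_smul]⟩
  rw [Submodule.Quotient.mk_eq_zero] at h0
  obtain ⟨l, hl⟩ := (hmem _).mp h0
  obtain ⟨w, hw⟩ := hy n₁
  have h1 : t ^ n₁ • w ∈ (⊥ : Submodule A M) := by
    apply hn₁
    refine ⟨l + n₁, ?_⟩
    rw [Submodule.mem_bot, pow_add, mul_smul, ← hw]
    exact hl
  rw [hw]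
  exact (Submodule.mem_bot A).mp h1

end ClassV

section Main

/-- S11529: finite modules over algebras topologically of finite type are complete and separated
for the `I`-adic topology. -/
theorem isAdicComplete_of_finite
    (R : Type u) [CommRing R] (I : Ideal R) (hR : AdicRing.IsBase R I)
    (A : Type u) [CommRing A] [Algebra R A] (hA : AdicRing.TopFiniteType R I A)
    (M : Type u) [AddCommGroup M] [Module A M] [Module R M] [IsScalarTower R A M]
    [Module.Finite A M] :
    IsAdicComplete I M := by
  obtain ⟨hc, h | h⟩ := hR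
  · obtain ⟨hN, -⟩ := h
    obtain ⟨n, φ, hφ⟩ := hA
    haveI := isNoetherianRing_rpow R I n
    haveI hTc : IsAdicComplete (I.map (algebraMap R (RPow R I n))) (RPow R I n) :=
      RPowSat.isAdicComplete_rpow R I n (IsNoetherian.noetherian I)
    letI : Module (RPow R I n) M := Module.compHom M (φ : RPow R I n →+* A)
    have hsmul : ∀ (c : RPow R I n) (x : M), c • x = φ c • x := fun _ _ => rfl
    haveI : IsScalarTower R (RPow R I n) M := ⟨fun r c x => by
      rw [hsmul, hsmul, map_smul, smul_assoc]⟩
    haveI : Module.Finite (RPow R I n) M := by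
      obtain ⟨s, m, hm⟩ := Module.Finite.exists_fin (R := A) (M := M)
      refine Module.Finite.of_surjective (Fintype.linearCombination (RPow R I n) m) ?_
      intro y
      obtain ⟨x, hx⟩ := piMap_surjective φ hφ m hm y
      refine ⟨x, ?_⟩
      rw [← hx, Fintype.linearCombination_apply, piMap_apply]
      rfl
    have := Groth.Agent.S3866.result (RPow R I n) (I.map (algebraMap R (RPow R I n))) M
    exact (IsAdicComplete.map_algebraMap_iff (R := R) (S := RPow R I n) (I := I) (M := M)).mp this
  · obtain ⟨hD, hV, hK, t, ht, rfl⟩ := h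
    haveI := isHausdorff_of_sep t (sep_of_finite R t ht A hA M)
    haveI := isPrecomplete_of_pre t (pre_of_finite R t A hA M)
    exact {}

end Main

end Groth.Agent.Lib.Seat52.AdicBase
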