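import Groth.Agent.Lib.Seat52AdicBase4
import Groth.Agent.Lib.Helper5LocalFlat3
import Groth.Agent.Lib.Helper5FlatReg

/-!
# helper52: flatness criterion over algebras topologically of finite type (Bosch FRG §7.3)
-/

set_option autoImplicit false
set_option linter.style.haveILetI false
set_option linter.unusedSectionVars false
universe u

namespace Groth.Agent.Lib.Seat52.AdicBase

open AdicRing TensorProduct

/-- S11531 (nontrivial direction): levelwise flatness implies flatness. -/
theorem flat_of_flat_trunc
    (R : Type u) [CommRing R] (I : Ideal R) (hR : AdicRing.IsBase R I)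
    (A : Type u) [CommRing A] [Algebra R A] (hA : AdicRing.TopFiniteType R I A)
    (B : Type u) [CommRing B] [Algebra R B] [Algebra A B] [IsScalarTower R A B]
    (hB : AdicRing.TopFiniteType R I B)
    (M : Type u) [AddCommGroup M] [Module B M] [Module A M] [IsScalarTower A B M]
    [Module.Finite B M]
    (h : ∀ n : ℕ, Module.Flat (AdicRing.trunc A I n) ((AdicRing.trunc A I n) ⊗[A] M)) :
    Module.Flat A M := by
  rw [Module.Flat.iff_lTensor_injective]
  intro J hJ
  rw [injective_iff_map_eq_zero]
  intro z hz
  haveI : Module.Finite A J := Module.Finite.iff_fg.mpr hJ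
  haveI hfin : Module.Finite B (M ⊗[A] J) :=
    Groth.Agent.Lib.Helper5.finite_tensorProduct_of_finite M J
  letI : Module R (M ⊗[A] J) := Module.compHom _ (algebraMap R B)
  have hsmul : ∀ (r : R) (x : M ⊗[A] J), r • x = algebraMap R B r • x := fun _ _ => rfl
  haveI : IsScalarTower R B (M ⊗[A] J) := ⟨fun r b x => by
    change (r • b) • x = algebraMap R B r • (b • x)
    rw [Algebra.smul_def, mul_smul]⟩
  have hcompl := isAdicComplete_of_finite R I hR B hB (M ⊗[A] J)
  apply IsHausdorff.haus hcompl.toIsHausdorff z
  intro m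
  rw [SModEq.zero]
  obtain ⟨n₀, hn₀⟩ := artinRees R I hR A hA A J
  by_cases hm : m = 0
  · subst hm
    rw [pow_zero, Ideal.one_eq_top, Submodule.top_smul]
    trivial
  · obtain ⟨k, hk⟩ : ∃ k, m + n₀ = k + 1 := ⟨m + n₀ - 1, by omega⟩
    -- elements of `J ∩ I^(k+1) A` lie in `I^m • J`
    have hle : ∀ y : ↥(Submodule.comap J.subtype ((I ^ (k + 1)).map (algebraMap R A))),
        (y : ↥J) ∈ (I ^ m • (⊤ : Submodule R ↥J)) := by
      intro y
      have h1 : ((y : ↥J) : A) ∈ (I ^ (m + n₀) • (⊤ : Submodule R A)) ⊓ J.restrictScalars R := by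
        refine ⟨?_, (y : ↥J).2⟩
        rw [hk, Ideal.smul_top_eq_map]
        exact y.2
      have h2 := hn₀ m h1
      have h3 : I ^ m • J.restrictScalars R =
          Submodule.map ((J.subtype).restrictScalars R) (I ^ m • (⊤ : Submodule R ↥J)) := by
        rw [Submodule.map_smul'', Submodule.map_top]
        congr 1
        ext a
        simp
      rw [h3] at h2
      obtain ⟨y', hy', hy'eq⟩ := h2
      have : y' = (y : ↥J) := Subtype.ext hy'eq
      rw [← this]
      exact hy'
    have key : ∀ w : M ⊗[A] ↥(Submodule.comap J.subtype ((I ^ (k + 1)).map (algebraMap R A))),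
        ((Submodule.comap J.subtype ((I ^ (k + 1)).map (algebraMap R A))).subtype.lTensor M) w ∈
          (I ^ m • ⊤ : Submodule R (M ⊗[A] J)) := by
      intro w
      induction w with
      | zero => rw [map_zero]; exact Submodule.zero_mem _
      | add a b ha hb => rw [map_add]; exact Submodule.add_mem _ ha hb
      | tmul x y =>
        rw [LinearMap.lTensor_tmul, Submodule.subtype_apply]
        refine Submodule.smul_induction_on (hle y) ?_ ?_
        · intro c hc j _
          have : x ⊗ₜ[A] (c • j) = c • (x ⊗ₜ[A] j) := by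
            rw [hsmul, TensorProduct.smul_tmul', ← algebraMap_smul A c j, TensorProduct.tmul_smul,
              TensorProduct.smul_tmul', IsScalarTower.algebraMap_apply R A B,
              algebraMap_smul B (algebraMap R A c) x]
          rw [this]
          exact Submodule.smul_mem_smul hc trivial
        · intro j₁ j₂ h₁ h₂
          rw [TensorProduct.tmul_add]
          exact Submodule.add_mem _ h₁ h₂
    obtain ⟨w, rfl⟩ := Groth.Agent.Lib.Helper5.mem_range_lTensor_comap_of_flat_baseChange M
      ((I ^ (k + 1)).map (algebraMap R A)) J (h k) z hz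
    exact key w

/-- S11531. -/
theorem flat_iff_flat_trunc
    (R : Type u) [CommRing R] (I : Ideal R) (hR : AdicRing.IsBase R I)
    (A : Type u) [CommRing A] [Algebra R A] (hA : AdicRing.TopFiniteType R I A)
    (B : Type u) [CommRing B] [Algebra R B] [Algebra A B] [IsScalarTower R A B]
    (hB : AdicRing.TopFiniteType R I B)
    (M : Type u) [AddCommGroup M] [Module B M] [Module A M] [IsScalarTower A B M]
    [Module.Finite B M] :
    Module.Flat A M ↔
      ∀ n : ℕ, Module.Flat (AdicRing.trunc A I n) ((AdicRing.trunc A I n) ⊗[A] M) :=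
  ⟨fun _ _ => inferInstance, flat_of_flat_trunc R I hR A hA B hB M⟩

/-- S11532. -/
theorem faithfullyFlat_iff_faithfullyFlat_trunc
    (R : Type u) [CommRing R] (I : Ideal R) (hR : AdicRing.IsBase R I)
    (A : Type u) [CommRing A] [Algebra R A] (hA : AdicRing.TopFiniteType R I A)
    (B : Type u) [CommRing B] [Algebra R B] [Algebra A B] [IsScalarTower R A B]
    (hB : AdicRing.TopFiniteType R I B)
    (M : Type u) [AddCommGroup M] [Module B M] [Module A M] [IsScalarTower A B M]
    [Module.Finite B M] :
    Module.FaithfullyFlat A M ↔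
      ∀ n : ℕ, Module.FaithfullyFlat (AdicRing.trunc A I n) ((AdicRing.trunc A I n) ⊗[A] M) := by
  constructor
  · intro _ n
    infer_instance
  · intro h
    haveI : Module.Flat A M :=
      flat_of_flat_trunc R I hR A hA B hB M (fun n => (h n).toFlat)
    refine ⟨fun 𝔪 h𝔪 htop => ?_⟩
    haveI hAc : IsAdicComplete I A := isAdicComplete_of_finite R I hR A hA A
    haveI hAc' : IsAdicComplete (I.map (algebraMap R A)) A :=
      (IsAdicComplete.map_algebraMap_iff (R := R) (S := A) (I := I) (M := A)).mpr hAc
    have hle : I.map (algebraMap R A) ≤ 𝔪 :=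
      (IsAdicComplete.le_jacobson_bot (I.map (algebraMap R A))).trans
        (sInf_le ⟨bot_le, h𝔪⟩)
    have hK : (I ^ (0 + 1)).map (algebraMap R A) ≤ 𝔪 := by
      refine le_trans (Ideal.map_mono ?_) hle
      rw [zero_add, pow_one]
    have hne : 𝔪.map (Ideal.Quotient.mk ((I ^ (0 + 1)).map (algebraMap R A))) ≠ ⊤ := by
      intro htop'
      have h1 := Ideal.comap_map_of_surjective
        (Ideal.Quotient.mk ((I ^ (0 + 1)).map (algebraMap R A))) Ideal.Quotient.mk_surjective 𝔪
      rw [htop', Ideal.comap_top] at h1
      have h2 : Ideal.comap (Ideal.Quotient.mk ((I ^ (0 + 1)).map (algebraMap R A))) ⊥ ≤ 𝔪 := by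
        intro a ha
        rw [Ideal.mem_comap, Ideal.mem_bot, Ideal.Quotient.eq_zero_iff_mem] at ha
        exact hK ha
      rw [sup_eq_left.mpr h2] at h1
      exact h𝔪.ne_top h1.symm
    have hff := ((Module.FaithfullyFlat.iff_flat_and_proper_ideal (AdicRing.trunc A I 0)
      ((AdicRing.trunc A I 0) ⊗[A] M)).mp (h 0)).2 _ hne
    apply hff
    rw [eq_top_iff]
    intro x hx
    clear hx
    induction x with
    | zero => exact Submodule.zero_mem _
    | add a b ha hb => exact Submodule.add_mem _ ha hb
    | tmul a y =>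
      have hy : y ∈ 𝔪 • (⊤ : Submodule A M) := by
        rw [htop]
        trivial
      refine Submodule.smul_induction_on hy ?_ ?_
      · intro c hc y' _
        have : a ⊗ₜ[A] (c • y') =
            (Ideal.Quotient.mk ((I ^ (0 + 1)).map (algebraMap R A)) c) • (a ⊗ₜ[A] y') := by
          rw [TensorProduct.tmul_smul, TensorProduct.smul_tmul', TensorProduct.smul_tmul']
          congr 1
        rw [this]
        exact Submodule.smul_mem_smul (Ideal.mem_map_of_mem _ hc) trivial
      · intro y₁ y₂ h₁ h₂
        rw [TensorProduct.tmul_add]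
        exact Submodule.add_mem _ h₁ h₂

end Groth.Agent.Lib.Seat52.AdicBase
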