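import Groth.Agent.Lib.Seat52AdicBase4
import Groth.Agent.Lib.Seat17AdicQuot
import Groth.Agent.Lib.Helper19Restricted
import Mathlib.RingTheory.FinitePresentation

/-!
# helper52: truncations of algebras topologically of finite presentation (Bosch FRG §7.3)

`A` complete: `A` is tfp iff all `A/I^(n+1)A` are of finite presentation over `R/I^(n+1)`.
-/

set_option autoImplicit false
set_option linter.style.haveILetI false
set_option linter.unusedSectionVars false
universe u

namespace Groth.Agent.Lib.Seat52.AdicTrunc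

open AdicRing

section Level

variable (R : Type u) [CommRing R] (I : Ideal R) (hI : I.FG) (d : ℕ)

lemma map_pow_eq (k : ℕ) :
    ((I.map (MvPolynomial.C : R →+* MvPolynomial (Fin d) R)).map
      (algebraMap (MvPolynomial (Fin d) R) (RPow R I d))) ^ k =
    (I ^ k).map (algebraMap R (RPow R I d)) := by
  rw [Ideal.map_map, ← Ideal.map_pow]
  congr 1

include hI in
/-- (F1) every restricted power series is a polynomial modulo `I^k`. -/
lemma exists_poly_sub_mem (k : ℕ) (x : RPow R I d) :
    ∃ p : MvPolynomial (Fin d) R,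
      x - algebraMap (MvPolynomial (Fin d) R) (RPow R I d) p ∈
        (I ^ k).map (algebraMap R (RPow R I d)) := by
  obtain ⟨p, hp⟩ := Ideal.Quotient.mk_surjective
    (AdicCompletion.evalₐ (I.map (MvPolynomial.C : R →+* MvPolynomial (Fin d) R)) k x)
  refine ⟨p, ?_⟩
  rw [← map_pow_eq, ← Groth.Agent.Lib.Seat17.AdicQuot.ker_evalₐ_eq _ (hI.map _) k,
    RingHom.mem_ker]
  change AdicCompletion.evalₐ _ k (x - _) = 0
  rw [map_sub, AdicCompletion.algebraMap_apply, Algebra.algebraMap_self, RingHom.id_apply,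
    AdicCompletion.evalₐ_of, hp, sub_self]

include hI in
/-- (F2) a polynomial lying in `I^k R⟨ζ⟩` lies in `I^k R[ζ]`. -/
lemma mem_of_algebraMap_mem (k : ℕ) (p : MvPolynomial (Fin d) R)
    (h : algebraMap (MvPolynomial (Fin d) R) (RPow R I d) p ∈
      (I ^ k).map (algebraMap R (RPow R I d))) :
    p ∈ (I ^ k).map (MvPolynomial.C : R →+* MvPolynomial (Fin d) R) := by
  rw [← map_pow_eq, ← Groth.Agent.Lib.Seat17.AdicQuot.ker_evalₐ_eq _ (hI.map _) k,
    RingHom.mem_ker] at h
  change AdicCompletion.evalₐ _ k _ = 0 at h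
  rw [AdicCompletion.algebraMap_apply, Algebra.algebraMap_self, RingHom.id_apply,
    AdicCompletion.evalₐ_of, Ideal.Quotient.eq_zero_iff_mem, ← Ideal.map_pow] at h
  exact h

end Level

section Psi

variable {R : Type u} [CommRing R] (I : Ideal R) (hI : I.FG) {A : Type u} [CommRing A] [Algebra R A]
  {d : ℕ} (φ : RPow R I d →ₐ[R] A) (hφ : Function.Surjective φ) (n : ℕ)

/-- the induced map `R/I^(n+1) → A/I^(n+1)A` -/
noncomputable abbrev fn : R ⧸ I ^ (n + 1) →+* A ⧸ (I ^ (n + 1)).map (algebraMap R A) :=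
  Ideal.quotientMap ((I ^ (n + 1)).map (algebraMap R A)) (algebraMap R A) Ideal.le_comap_map

/-- the presentation `(R/I^(n+1))[ζ] → A/I^(n+1)A` induced by `φ : R⟨ζ⟩ → A` -/
noncomputable def psi :
    MvPolynomial (Fin d) (R ⧸ I ^ (n + 1)) →+* A ⧸ (I ^ (n + 1)).map (algebraMap R A) :=
  MvPolynomial.eval₂Hom (fn (A := A) I n) (fun i => Ideal.Quotient.mk _
    (φ (algebraMap (MvPolynomial (Fin d) R) (RPow R I d) (MvPolynomial.X i))))

lemma psi_comp_C : (psi I φ n).comp MvPolynomial.C = fn (A := A) I n := by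
  ext x
  simp [psi]

lemma psi_map (p : MvPolynomial (Fin d) R) :
    psi I φ n (MvPolynomial.map (Ideal.Quotient.mk (I ^ (n + 1))) p) =
      Ideal.Quotient.mk _ (φ (algebraMap (MvPolynomial (Fin d) R) (RPow R I d) p)) := by
  induction p using MvPolynomial.induction_on with
  | C a =>
    have h1 : algebraMap (MvPolynomial (Fin d) R) (RPow R I d) (MvPolynomial.C a) =
        algebraMap R (RPow R I d) a := by
      rw [IsScalarTower.algebraMap_apply R (MvPolynomial (Fin d) R) (RPow R I d)]
      rfl
    rw [MvPolynomial.map_C, psi, MvPolynomial.eval₂Hom_C, Ideal.quotientMap_mk, h1,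
      AlgHom.commutes]
  | add p q hp hq => rw [map_add, map_add, hp, hq, map_add, map_add, map_add]
  | mul_X p i hp =>
    rw [map_mul, map_mul, hp, MvPolynomial.map_X, map_mul, map_mul, map_mul]
    congr 1
    rw [psi, MvPolynomial.eval₂Hom_X']

lemma map_phi_mem {k : ℕ} {x : RPow R I d} (hx : x ∈ (I ^ k).map (algebraMap R (RPow R I d))) :
    φ x ∈ (I ^ k).map (algebraMap R A) := by
  have h1 : φ x ∈ ((I ^ k).map (algebraMap R (RPow R I d))).map (φ : RPow R I d →+* A) :=
    Ideal.mem_map_of_mem _ hx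
  rw [Ideal.map_map] at h1
  have h2 : (φ : RPow R I d →+* A).comp (algebraMap R (RPow R I d)) = algebraMap R A := by
    ext r
    exact φ.commutes r
  rwa [h2] at h1

include hφ in
lemma exists_phi_eq {k : ℕ} {a : A} (ha : a ∈ (I ^ k).map (algebraMap R A)) :
    ∃ u ∈ (I ^ k).map (algebraMap R (RPow R I d)), φ u = a := by
  have h2 : (φ : RPow R I d →+* A).comp (algebraMap R (RPow R I d)) = algebraMap R A := by
    ext r
    exact φ.commutes r
  rw [← h2, ← Ideal.map_map] at ha
  exact (Ideal.mem_map_iff_of_surjective (φ : RPow R I d →+* A) hφ).mp ha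

include hI hφ in
lemma psi_surjective : Function.Surjective (psi I φ n) := by
  intro y
  obtain ⟨a, rfl⟩ := Ideal.Quotient.mk_surjective y
  obtain ⟨x, rfl⟩ := hφ a
  obtain ⟨p, hp⟩ := exists_poly_sub_mem R I hI d (n + 1) x
  refine ⟨MvPolynomial.map (Ideal.Quotient.mk (I ^ (n + 1))) p, ?_⟩
  rw [psi_map, Ideal.Quotient.eq, ← map_sub, ← Ideal.neg_mem_iff, ← map_neg, neg_sub]
  exact map_phi_mem I φ hp

lemma map_mk_eq_zero_of_mem {q : MvPolynomial (Fin d) R}
    (hq : q ∈ (I ^ (n + 1)).map (MvPolynomial.C : R →+* MvPolynomial (Fin d) R)) :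
    MvPolynomial.map (Ideal.Quotient.mk (I ^ (n + 1))) q = 0 := by
  have := MvPolynomial.ker_map (σ := Fin d) (Ideal.Quotient.mk (I ^ (n + 1)))
  rw [Ideal.mk_ker] at this
  rw [← this] at hq
  exact hq

lemma mem_of_map_mk_eq_zero {q : MvPolynomial (Fin d) R}
    (hq : MvPolynomial.map (Ideal.Quotient.mk (I ^ (n + 1))) q = 0) :
    q ∈ (I ^ (n + 1)).map (MvPolynomial.C : R →+* MvPolynomial (Fin d) R) := by
  have := MvPolynomial.ker_map (σ := Fin d) (Ideal.Quotient.mk (I ^ (n + 1)))
  rw [Ideal.mk_ker] at this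
  rw [← this]
  exact hq

lemma algebraMap_mem_of_mem {k : ℕ} {q : MvPolynomial (Fin d) R}
    (hq : q ∈ (I ^ k).map (MvPolynomial.C : R →+* MvPolynomial (Fin d) R)) :
    algebraMap (MvPolynomial (Fin d) R) (RPow R I d) q ∈
      (I ^ k).map (algebraMap R (RPow R I d)) := by
  have h1 := Ideal.mem_map_of_mem (algebraMap (MvPolynomial (Fin d) R) (RPow R I d)) hq
  rw [Ideal.map_map] at h1
  exact h1

include hI hφ in
/-- (L3) if `ker φ` is finitely generated then so is `ker ψ`. -/
lemma ker_psi_fg (hker : (RingHom.ker φ.toRingHom).FG) : (RingHom.ker (psi I φ n)).FG := by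
  obtain ⟨r, a, ha⟩ := Submodule.fg_iff_exists_fin_generating_family.mp hker
  have hamem : ∀ i, φ (a i) = 0 := by
    intro i
    have : a i ∈ RingHom.ker φ.toRingHom := by
      rw [← ha]
      exact Submodule.subset_span ⟨i, rfl⟩
    exact this
  choose p hp using fun i => exists_poly_sub_mem R I hI d (n + 1) (a i)
  have hspan : RingHom.ker (psi I φ n) =
      Ideal.span (Set.range fun i => MvPolynomial.map (Ideal.Quotient.mk (I ^ (n + 1))) (p i)) := by
    apply le_antisymm
    · intro qb hqb
      obtain ⟨q, rfl⟩ := MvPolynomial.map_surjective (Ideal.Quotient.mk (I ^ (n + 1)))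
        Ideal.Quotient.mk_surjective qb
      rw [RingHom.mem_ker, psi_map, Ideal.Quotient.eq_zero_iff_mem] at hqb
      obtain ⟨u, hu, hu'⟩ := exists_phi_eq I φ hφ hqb
      have h1 : algebraMap (MvPolynomial (Fin d) R) (RPow R I d) q - u ∈
          RingHom.ker φ.toRingHom := by
        rw [RingHom.mem_ker]
        change φ _ = 0
        rw [map_sub, hu', sub_self]
      rw [← ha] at h1
      obtain ⟨c, hc⟩ := (Submodule.mem_span_range_iff_exists_fun _).mp h1
      choose e he using fun i => exists_poly_sub_mem R I hI d (n + 1) (c i)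
      have h2 : algebraMap (MvPolynomial (Fin d) R) (RPow R I d) (q - ∑ i, e i * p i) ∈
          (I ^ (n + 1)).map (algebraMap R (RPow R I d)) := by
        have h3 : algebraMap (MvPolynomial (Fin d) R) (RPow R I d) (q - ∑ i, e i * p i) =
            u + ∑ i, ((c i - algebraMap _ (RPow R I d) (e i)) * a i +
              algebraMap _ (RPow R I d) (e i) * (a i - algebraMap _ (RPow R I d) (p i))) := by
          have h4 : algebraMap (MvPolynomial (Fin d) R) (RPow R I d) q = u + ∑ i, c i • a i := by
            rw [hc]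
            ring
          rw [map_sub, map_sum, h4, add_sub_assoc, ← Finset.sum_sub_distrib]
          congr 1
          refine Finset.sum_congr rfl fun i _ => ?_
          rw [map_mul, smul_eq_mul]
          ring
        rw [h3]
        refine Ideal.add_mem _ hu (Ideal.sum_mem _ fun i _ => Ideal.add_mem _ ?_ ?_)
        · exact Ideal.mul_mem_right _ _ (he i)
        · exact Ideal.mul_mem_left _ _ (hp i)
      have h5 := map_mk_eq_zero_of_mem I n (mem_of_algebraMap_mem R I hI d (n + 1) _ h2)
      rw [map_sub, sub_eq_zero] at h5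
      rw [h5, map_sum]
      refine Ideal.sum_mem _ fun i _ => ?_
      rw [map_mul]
      exact Ideal.mul_mem_left _ _ (Ideal.subset_span ⟨i, rfl⟩)
    · rw [Ideal.span_le]
      rintro _ ⟨i, rfl⟩
      rw [SetLike.mem_coe, RingHom.mem_ker, psi_map, Ideal.Quotient.eq_zero_iff_mem]
      have h1 : φ (algebraMap (MvPolynomial (Fin d) R) (RPow R I d) (p i)) =
          - φ (a i - algebraMap (MvPolynomial (Fin d) R) (RPow R I d) (p i)) := by
        rw [map_sub, hamem, zero_sub, neg_neg]
      rw [h1, Ideal.neg_mem_iff]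
      exact map_phi_mem I φ (hp i)
  rw [hspan]
  exact Submodule.fg_span (Set.finite_range _)

include hI hφ in
/-- (L4) if `ker ψ` is finitely generated then `ker φ` is finitely generated modulo `I^(n+1)`. -/
lemma exists_ker_le (hker : (RingHom.ker (psi I φ n)).FG) :
    ∃ (r : ℕ) (a : Fin r → RPow R I d), (∀ i, φ (a i) = 0) ∧
      RingHom.ker φ.toRingHom ≤
        Ideal.span (Set.range a) ⊔ (I ^ (n + 1)).map (algebraMap R (RPow R I d)) := by
  obtain ⟨r, qb, hqb⟩ := Submodule.fg_iff_exists_fin_generating_family.mp hker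
  choose q hq using fun i => MvPolynomial.map_surjective (Ideal.Quotient.mk (I ^ (n + 1)))
    Ideal.Quotient.mk_surjective (qb i)
  have hq0 : ∀ i, φ (algebraMap (MvPolynomial (Fin d) R) (RPow R I d) (q i)) ∈
      (I ^ (n + 1)).map (algebraMap R A) := by
    intro i
    have : qb i ∈ RingHom.ker (psi I φ n) := by
      rw [← hqb]
      exact Submodule.subset_span ⟨i, rfl⟩
    rw [RingHom.mem_ker, ← hq, psi_map, Ideal.Quotient.eq_zero_iff_mem] at this
    exact this
  choose u hu hu' using fun i => exists_phi_eq I φ hφ (hq0 i)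
  refine ⟨r, fun i => algebraMap (MvPolynomial (Fin d) R) (RPow R I d) (q i) - u i, ?_, ?_⟩
  · intro i
    rw [map_sub, hu', sub_self]
  · intro x hx
    rw [RingHom.mem_ker] at hx
    change φ x = 0 at hx
    obtain ⟨p, hp⟩ := exists_poly_sub_mem R I hI d (n + 1) x
    have h1 : MvPolynomial.map (Ideal.Quotient.mk (I ^ (n + 1))) p ∈ RingHom.ker (psi I φ n) := by
      rw [RingHom.mem_ker, psi_map, Ideal.Quotient.eq_zero_iff_mem]
      have h2 : φ (algebraMap (MvPolynomial (Fin d) R) (RPow R I d) p) =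
          - φ (x - algebraMap (MvPolynomial (Fin d) R) (RPow R I d) p) := by
        rw [map_sub, hx, zero_sub, neg_neg]
      rw [h2, Ideal.neg_mem_iff]
      exact map_phi_mem I φ hp
    rw [← hqb] at h1
    obtain ⟨cb, hcb⟩ := (Submodule.mem_span_range_iff_exists_fun _).mp h1
    choose c hc using fun i => MvPolynomial.map_surjective (Ideal.Quotient.mk (I ^ (n + 1)))
      Ideal.Quotient.mk_surjective (cb i)
    have h3 : MvPolynomial.map (Ideal.Quotient.mk (I ^ (n + 1))) (p - ∑ i, c i * q i) = 0 := by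
      rw [map_sub, map_sum, ← hcb, sub_eq_zero]
      refine (Finset.sum_congr rfl fun i _ => ?_).symm
      rw [map_mul, hc, hq, smul_eq_mul]
    have h4 := algebraMap_mem_of_mem I (mem_of_map_mk_eq_zero I n h3)
    have h5 : x = ∑ i, algebraMap (MvPolynomial (Fin d) R) (RPow R I d) (c i) *
          (algebraMap (MvPolynomial (Fin d) R) (RPow R I d) (q i) - u i) +
        ((x - algebraMap (MvPolynomial (Fin d) R) (RPow R I d) p) +
          algebraMap (MvPolynomial (Fin d) R) (RPow R I d) (p - ∑ i, c i * q i) +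
          ∑ i, algebraMap (MvPolynomial (Fin d) R) (RPow R I d) (c i) * u i) := by
      rw [map_sub, map_sum]
      simp only [map_mul, mul_sub, Finset.sum_sub_distrib]
      ring
    rw [h5]
    refine Submodule.add_mem_sup ?_ ?_
    · exact Ideal.sum_mem _ fun i _ => Ideal.mul_mem_left _ _ (Ideal.subset_span ⟨i, rfl⟩)
    · refine Ideal.add_mem _ (Ideal.add_mem _ hp h4) (Ideal.sum_mem _ fun i _ => ?_)
      exact Ideal.mul_mem_left _ _ (hu i)

end Psi

section Main

open Groth.Agent.Lib.Seat52.AdicBase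

lemma fg_of_isBase {R : Type u} [CommRing R] {I : Ideal R} (hR : IsBase R I) : I.FG := by
  obtain ⟨hc, ⟨hN, -⟩ | ⟨-, -, -, t, -, rfl⟩⟩ := hR
  · exact IsNoetherian.noetherian I
  · exact ⟨{t}, by simp⟩

/-- a surjective ring homomorphism of finite presentation has finitely generated kernel -/
lemma ker_fg_of_surjective_of_finitePresentation {B C : Type*} [CommRing B] [CommRing C]
    (g : B →+* C) (hg : Function.Surjective g) (h : g.FinitePresentation) :
    (RingHom.ker g).FG := by
  algebraize [g]
  exact Algebra.FinitePresentation.ker_fG_of_surjective (Algebra.ofId B C) hg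

/-- successive approximation for ideals -/
lemma ideal_le_span_of_le_span_sup_smul {T : Type*} [CommRing T] (τ : T)
    (hT_haus : ∀ x : T, (∀ k : ℕ, τ ^ k ∣ x) → x = 0)
    (hT_compl : ∀ a : ℕ → T, ∃ L : T, ∀ k : ℕ, τ ^ k ∣ L - ∑ i ∈ Finset.range k, τ ^ i * a i)
    (𝔞 : Ideal T) {r : ℕ} (g : Fin r → T)
    (h : ∀ x ∈ 𝔞, ∃ (c : Fin r → T) (y : T), y ∈ 𝔞 ∧ x = ∑ i, c i * g i + τ * y) :
    𝔞 ≤ Ideal.span (Set.range g) := by
  have key := Groth.Agent.Lib.Seat52.SatFG.le_span_of_le_span_sup_smul τ hT_haus hT_compl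
    (Submodule.comap (LinearMap.proj 0 : (Fin 1 → T) →ₗ[T] T) 𝔞) (fun i _ => g i) (by
      intro x hx
      obtain ⟨c, y, hy, hxy⟩ := h (x 0) hx
      refine ⟨c, fun _ => y, hy, ?_⟩
      funext j
      rw [Fin.fin_one_eq_zero j, hxy]
      simp [Finset.sum_apply])
  intro x hx
  have h1 : (fun _ => x : Fin 1 → T) ∈
      Submodule.comap (LinearMap.proj 0 : (Fin 1 → T) →ₗ[T] T) 𝔞 := hx
  have h2 := Submodule.mem_map_of_mem (f := (LinearMap.proj 0 : (Fin 1 → T) →ₗ[T] T)) (key h1)
  rw [Submodule.map_span, ← Set.range_comp] at h2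
  exact h2

lemma mem_map_span_pow_iff {R : Type*} [CommRing R] (t : R) (T : Type*) [CommRing T] [Algebra R T]
    (k : ℕ) (v : T) :
    v ∈ ((Ideal.span {t}) ^ k).map (algebraMap R T) ↔ ∃ y : T, v = algebraMap R T (t ^ k) * y := by
  rw [Ideal.span_singleton_pow, Ideal.map_span, Set.image_singleton, Ideal.mem_span_singleton]
  exact Iff.rfl

/-- S11530. -/
theorem tfp_iff_trunc
    (R : Type u) [CommRing R] (I : Ideal R) (hR : AdicRing.IsBase R I)
    (A : Type u) [CommRing A] [Algebra R A] [IsAdicComplete (I.map (algebraMap R A)) A] :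
    AdicRing.TopFinitePresentation R I A ↔
      ∀ n : ℕ, (Ideal.quotientMap ((I ^ (n + 1)).map (algebraMap R A)) (algebraMap R A)
        Ideal.le_comap_map).FinitePresentation := by
  have hI := fg_of_isBase hR
  have hC : ∀ n : ℕ, ∀ d : ℕ, (MvPolynomial.C : R ⧸ I ^ (n + 1) →+*
      MvPolynomial (Fin d) (R ⧸ I ^ (n + 1))).FinitePresentation := by
    intro n d
    rw [← MvPolynomial.algebraMap_eq]
    exact RingHom.finitePresentation_algebraMap.mpr inferInstance
  constructor
  · rintro ⟨d, φ, hφ, hker⟩ n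
    have h1 := RingHom.FinitePresentation.comp_surjective (hC n d) (psi_surjective I hI φ hφ n)
      (ker_psi_fg I hI φ hφ n hker)
    rw [psi_comp_C] at h1
    exact h1
  · intro h
    have hft : (Ideal.quotientMap (I.map (algebraMap R A)) (algebraMap R A)
        Ideal.le_comap_map).FiniteType := by
      have h0 := RingHom.FiniteType.of_finitePresentation (h 0)
      have e : ∀ (K : Ideal R), K = I → (Ideal.quotientMap (K.map (algebraMap R A))
          (algebraMap R A) Ideal.le_comap_map).FiniteType →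
          (Ideal.quotientMap (I.map (algebraMap R A)) (algebraMap R A)
            Ideal.le_comap_map).FiniteType := by
        intro K hK hft
        subst hK
        exact hft
      exact e _ (by rw [zero_add, pow_one]) h0
    obtain ⟨d, φ, hφ⟩ := Groth.Agent.Lib.Helper19.exists_surjective_restricted R I hI A hft
    refine ⟨d, φ, hφ, ?_⟩
    obtain ⟨hc, hh | hh⟩ := hR
    · obtain ⟨hN, -⟩ := hh
      haveI := isNoetherianRing_rpow R I d
      exact IsNoetherian.noetherian _
    · obtain ⟨hD, hV, hK, t, ht, rfl⟩ := hh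
      obtain ⟨n₀, hn₀⟩ := exists_pow_smul_mem_of_sat R t ht (RPow R (Ideal.span {t}) d)
        (tft_rpow R _ d) (RPow R (Ideal.span {t}) d) (RingHom.ker φ.toRingHom)
      have hψ : (RingHom.ker (psi (Ideal.span {t}) φ n₀)).FG := by
        apply ker_fg_of_surjective_of_finitePresentation _ (psi_surjective _ hI φ hφ n₀)
        have h1 : ((psi (Ideal.span {t}) φ n₀).comp MvPolynomial.C).FinitePresentation := by
          rw [psi_comp_C]
          exact h n₀
        exact RingHom.FinitePresentation.of_comp_finiteType _ h1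
          (RingHom.FiniteType.of_finitePresentation (hC n₀ d))
      obtain ⟨r, a, ha0, hle⟩ := exists_ker_le _ hI φ hφ n₀ hψ
      haveI := isAdicComplete_rpow_span R t d
      have hle2 : RingHom.ker φ.toRingHom ≤ Ideal.span (Set.range a) := by
        apply ideal_le_span_of_le_span_sup_smul (algebraMap R (RPow R (Ideal.span {t}) d) t)
          (RPowSat.haus_of_isAdicComplete _) (RPowSat.compl_of_isAdicComplete _)
        intro x hx
        obtain ⟨s, hs, v, hv, rfl⟩ := Submodule.mem_sup.mp (hle hx)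
        obtain ⟨c, hc⟩ := Ideal.mem_span_range_iff_exists_fun.mp hs
        obtain ⟨y, rfl⟩ := (mem_map_span_pow_iff t _ _ v).mp hv
        have hsmem : s ∈ RingHom.ker φ.toRingHom := by
          rw [← hc]
          refine Ideal.sum_mem _ fun i _ => Ideal.mul_mem_left _ _ ?_
          exact ha0 i
        have hv' : (algebraMap R (RPow R (Ideal.span {t}) d)) (t ^ (n₀ + 1)) * y ∈
            RingHom.ker φ.toRingHom := by
          have := Ideal.sub_mem _ hx hsmem
          rwa [add_sub_cancel_left] at this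
        have hy : t ^ n₀ • y ∈ RingHom.ker φ.toRingHom := by
          apply hn₀
          refine ⟨n₀ + 1, ?_⟩
          rw [Algebra.smul_def]
          exact hv'
        refine ⟨c, t ^ n₀ • y, hy, ?_⟩
        rw [hc, Algebra.smul_def, ← mul_assoc, ← map_mul, ← pow_succ']
      have heq : RingHom.ker φ.toRingHom = Ideal.span (Set.range a) := by
        apply le_antisymm hle2
        rw [Ideal.span_le]
        rintro _ ⟨i, rfl⟩
        exact ha0 i
      rw [heq]
      exact Submodule.fg_span (Set.finite_range _)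

end Main

end Groth.Agent.Lib.Seat52.AdicTrunc
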