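import Groth.Agent.Lib.Seat52AdmFinite
import Mathlib.RingTheory.Polynomial.ScaleRoots

/-!
# helper52: universal property of `A[f_1, …, f_n] ⊆ A ⊗ K` (Bosch FRG §8, formal blowing-up charts)
-/

set_option autoImplicit false
set_option linter.style.haveILetI false
set_option linter.unusedSectionVars false
universe u

namespace Groth.Agent.Lib.Seat52.AdmBlowup

open AdicRing TensorProduct Groth.Agent.Lib.Seat52.AdicBase

section Unit

/-- the unit extracted from an integral equation -/
lemma isUnit_of_sum_eq_zero {D : Type*} [CommRing D] (γ d : D) (hreg : ∀ x, γ * x = 0 → x = 0)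
    (m : ℕ) (p : ℕ → D) (hp : p m = 1)
    (h : ∑ i ∈ Finset.range (m + 1), p i * (γ * d) ^ (m - i) * γ ^ i = 0) : IsUnit d := by
  have hregk : ∀ (k : ℕ) (x : D), γ ^ k * x = 0 → x = 0 := by
    intro k
    induction k with
    | zero => intro x hx; simpa using hx
    | succ k ih =>
      intro x hx
      rw [pow_succ, mul_assoc] at hx
      exact hreg x (ih _ hx)
  have h1 : ∑ i ∈ Finset.range (m + 1), p i * (γ * d) ^ (m - i) * γ ^ i =
      γ ^ m * ∑ i ∈ Finset.range (m + 1), p i * d ^ (m - i) := by
    rw [Finset.mul_sum]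
    refine Finset.sum_congr rfl fun i hi => ?_
    have hi' : i ≤ m := Nat.lt_succ_iff.mp (Finset.mem_range.mp hi)
    have h2 : γ ^ m = γ ^ (m - i) * γ ^ i := by rw [← pow_add, Nat.sub_add_cancel hi']
    rw [mul_pow, h2]
    ring
  rw [h1] at h
  have h3 := hregk m _ h
  rw [Finset.sum_range_succ, Nat.sub_self, pow_zero, mul_one, hp] at h3
  have h4 : ∑ i ∈ Finset.range m, p i * d ^ (m - i) =
      d * ∑ i ∈ Finset.range m, p i * d ^ (m - i - 1) := by
    rw [Finset.mul_sum]
    refine Finset.sum_congr rfl fun i hi => ?_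
    have hi' : i < m := Finset.mem_range.mp hi
    have h5 : m - i = (m - i - 1) + 1 := by omega
    rw [h5, pow_succ, Nat.add_sub_cancel]
    ring
  rw [h4] at h3
  refine IsUnit.of_mul_eq_one (-∑ i ∈ Finset.range m, p i * d ^ (m - i - 1)) ?_
  rw [mul_neg, neg_eq_iff_eq_neg]
  exact eq_neg_of_add_eq_zero_left h3

end Unit

section ValK

variable (R : Type u) [CommRing R] [IsDomain R] [ValuationRing R]
  (t : R) [IsAdicComplete (Ideal.span {t}) R]

lemma smul_eq_zero_of_noPowTorsion {D : Type*} [AddCommGroup D] [Module R D]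
    (hD : NoPowTorsion (Ideal.span {t}) D) {a : R} (ha : a ≠ 0) {x : D} (h : a • x = 0) :
    x = 0 := by
  obtain ⟨k, b, hk⟩ := Groth.Agent.Lib.Seat52.ValRing.exists_dvd_pow R t ha
  apply hD x k
  intro r hr
  rw [Ideal.span_singleton_pow, Ideal.mem_span_singleton] at hr
  obtain ⟨e, rfl⟩ := hr
  rw [hk, mul_assoc, mul_comm, mul_smul, h, smul_zero]

lemma includeLeft_injective {D : Type u} [CommRing D] [Algebra R D]
    (hD : NoPowTorsion (Ideal.span {t}) D) :
    Function.Injective (Algebra.TensorProduct.includeLeft : D →ₐ[R] D ⊗[R] FractionRing R) := by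
  haveI : Module.Flat R D := by
    rw [Module.Flat.flat_iff_torsion_eq_bot_of_isBezout, Submodule.eq_bot_iff]
    intro x hx
    rw [Submodule.mem_torsion_iff] at hx
    obtain ⟨a, ha⟩ := hx
    exact smul_eq_zero_of_noPowTorsion R t hD (nonZeroDivisors.coe_ne_zero a) ha
  have h1 := Module.Flat.lTensor_preserves_injective_linearMap (M := D)
    (Algebra.linearMap R (FractionRing R)) (IsFractionRing.injective R (FractionRing R))
  intro x y hxy
  apply (TensorProduct.rid R D).symm.injective
  apply h1
  simpa using hxy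

omit [IsDomain R] [ValuationRing R] [IsAdicComplete (Ideal.span {t}) R] in
lemma smul_tensor_eq {D : Type u} [CommRing D] [Algebra R D] (K : Type u) [CommRing K]
    [Algebra R K] (c : R) (y : D ⊗[R] K) :
    c • y = (algebraMap D (D ⊗[R] K) (algebraMap R D c)) * y := by
  induction y using TensorProduct.induction_on with
  | zero => rw [smul_zero, mul_zero]
  | add y z hy hz => rw [smul_add, mul_add, hy, hz]
  | tmul a b =>
    rw [Algebra.TensorProduct.algebraMap_apply, Algebra.TensorProduct.tmul_mul_tmul, one_mul,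
      TensorProduct.smul_tmul', Algebra.smul_def, Algebra.algebraMap_self, RingHom.id_apply]

omit [ValuationRing R] [IsAdicComplete (Ideal.span {t}) R] in
lemma smul_tensor_eq_zero {D : Type u} [CommRing D] [Algebra R D] {c : R} (hc : c ≠ 0)
    (y : D ⊗[R] FractionRing R) (h : c • y = 0) : y = 0 := by
  have hunit : IsUnit (algebraMap R (FractionRing R) c) := by
    rw [isUnit_iff_ne_zero]
    intro h0
    exact hc ((IsFractionRing.injective R (FractionRing R)) (h0.trans (map_zero _).symm))
  obtain ⟨u, hu⟩ := hunit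
  have h4 : ∀ z : D ⊗[R] FractionRing R,
      ((1 : D) ⊗ₜ[R] ((u⁻¹ : (FractionRing R)ˣ) : FractionRing R)) * (c • z) = z := by
    intro z
    induction z using TensorProduct.induction_on with
    | zero => rw [smul_zero, mul_zero]
    | add y z hy hz => rw [smul_add, mul_add, hy, hz]
    | tmul a b =>
      rw [TensorProduct.smul_tmul', Algebra.TensorProduct.tmul_mul_tmul, one_mul,
        TensorProduct.smul_tmul, Algebra.smul_def, ← hu, ← mul_assoc, Units.mul_inv, one_mul]
  rw [← h4 y, h, mul_zero]

end ValK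

section Main

/-- S13353 -/
theorem extension_adjoin
    (R : Type u) [CommRing R] [IsDomain R] [ValuationRing R] [Ring.KrullDimLE 1 R]
    (t : R) (ht : t ≠ 0) [IsAdicComplete (Ideal.span {t}) R]
    (A : Type u) [CommRing A] [Algebra R A] (hA : AdicRing.Admissible R (Ideal.span {t}) A)
    (n : ℕ) (f : Fin n → A ⊗[R] FractionRing R) (hf : ∀ i, IsIntegral A (f i))
    (c : R) (hc : c ≠ 0) (g : Fin n → A)
    (hg : ∀ i, algebraMap A (A ⊗[R] FractionRing R) (g i) = c • f i)
    (D : Type u) [CommRing D] [Algebra R D] (hD : AdicRing.Admissible R (Ideal.span {t}) D)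
    (φ : A →ₐ[R] D)
    (hgen : (Ideal.span (insert (algebraMap R A c) (Set.range g))).map φ =
          Ideal.span {algebraMap R D c} ∨
      ∃ i, (Ideal.span (insert (algebraMap R A c) (Set.range g))).map φ = Ideal.span {φ (g i)}) :
    (Ideal.span (insert (algebraMap R A c) (Set.range g))).map φ = Ideal.span {algebraMap R D c} ∧
      ∃! ψ : ↥(Algebra.adjoin A (Set.range f)) →ₐ[R] D,
        ψ.comp (IsScalarTower.toAlgHom R A ↥(Algebra.adjoin A (Set.range f))) = φ := by
  have hcD : ∀ x : D, algebraMap R D c * x = 0 → x = 0 := fun x hx =>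
    smul_eq_zero_of_noPowTorsion R t hD.2 hc (by rw [Algebra.smul_def]; exact hx)
  have hφc : φ (algebraMap R A c) = algebraMap R D c := φ.commutes c
  have hcmem : algebraMap R D c ∈
      (Ideal.span (insert (algebraMap R A c) (Set.range g))).map φ := by
    rw [← hφc]
    exact Ideal.mem_map_of_mem _ (Ideal.subset_span (Set.mem_insert _ _))
  have hgmem : ∀ j, φ (g j) ∈ (Ideal.span (insert (algebraMap R A c) (Set.range g))).map φ :=
    fun j => Ideal.mem_map_of_mem _ (Ideal.subset_span (Set.mem_insert_of_mem _ ⟨j, rfl⟩))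
  -- Step 1
  have h1 : (Ideal.span (insert (algebraMap R A c) (Set.range g))).map φ =
      Ideal.span {algebraMap R D c} := by
    rcases hgen with h | ⟨i, hi⟩
    · exact h
    · have h2 : algebraMap R D c ∈ Ideal.span {φ (g i)} := hi ▸ hcmem
      obtain ⟨d, hd⟩ := Ideal.mem_span_singleton'.mp h2
      have hγ : ∀ x, φ (g i) * x = 0 → x = 0 := by
        intro x hx
        apply hcD
        rw [← hd, mul_assoc, hx, mul_zero]
      obtain ⟨P, hPm, hP⟩ := hf i
      have hQ := Polynomial.scaleRoots_eval₂_eq_zero (algebraMap A (A ⊗[R] FractionRing R))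
        (s := algebraMap R A c) hP
      have hcf : algebraMap A (A ⊗[R] FractionRing R) (algebraMap R A c) * f i =
          algebraMap A (A ⊗[R] FractionRing R) (g i) := by
        rw [hg, smul_tensor_eq R]
      rw [hcf, Polynomial.eval₂_at_apply] at hQ
      have hQ0 : Polynomial.eval (g i) (P.scaleRoots (algebraMap R A c)) = 0 := by
        apply includeLeft_injective R t hA.2
        rw [map_zero]
        exact hQ
      rw [Polynomial.eval_eq_sum_range, Polynomial.natDegree_scaleRoots] at hQ0
      have hQ1 := congrArg φ hQ0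
      rw [map_sum, map_zero] at hQ1
      have hunit : IsUnit d := by
        refine isUnit_of_sum_eq_zero (φ (g i)) d hγ P.natDegree (fun j => φ (P.coeff j))
          (by simp [hPm.coeff_natDegree]) ?_
        rw [← hQ1]
        refine Finset.sum_congr rfl fun j _ => ?_
        rw [Polynomial.coeff_scaleRoots, map_mul, map_mul, map_pow, map_pow, hφc, ← hd]
        ring
      rw [hi]
      apply le_antisymm
      · rw [Ideal.span_singleton_le_span_singleton]
        obtain ⟨u, hu⟩ := hunit
        refine ⟨(u⁻¹ : Dˣ), ?_⟩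
        rw [← hd, ← hu, mul_comm (u : D), mul_assoc, Units.mul_inv, mul_one]
      · rw [Ideal.span_singleton_le_span_singleton]
        exact ⟨d, by rw [← hd, mul_comm]⟩
  refine ⟨h1, ?_⟩
  have hdj : ∀ j, ∃ dj : D, φ (g j) = algebraMap R D c * dj := by
    intro j
    have h2 : φ (g j) ∈ Ideal.span {algebraMap R D c} := h1 ▸ hgmem j
    obtain ⟨dj, hdj⟩ := Ideal.mem_span_singleton'.mp h2
    exact ⟨dj, by rw [← hdj, mul_comm]⟩
  choose dd hdd using hdj
  have hιD : Function.Injective
      (Algebra.TensorProduct.includeLeft : D →ₐ[R] D ⊗[R] FractionRing R) :=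
    includeLeft_injective R t hD.2
  have hφK_incl : ∀ a : A, (Algebra.TensorProduct.map φ (AlgHom.id R (FractionRing R)))
      (algebraMap A (A ⊗[R] FractionRing R) a) =
      (Algebra.TensorProduct.includeLeft : D →ₐ[R] D ⊗[R] FractionRing R) (φ a) := by
    intro a
    rw [Algebra.TensorProduct.algebraMap_apply, Algebra.TensorProduct.map_tmul]
    simp
  have hφK_f : ∀ j, (Algebra.TensorProduct.map φ (AlgHom.id R (FractionRing R))) (f j) =
      (Algebra.TensorProduct.includeLeft : D →ₐ[R] D ⊗[R] FractionRing R) (dd j) := by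
    intro j
    apply sub_eq_zero.mp
    apply smul_tensor_eq_zero R hc
    rw [smul_sub, ← map_smul, ← hg, hφK_incl, hdd, ← map_smul, Algebra.smul_def, sub_self]
  have hrange : ∀ x ∈ Algebra.adjoin A (Set.range f),
      (Algebra.TensorProduct.map φ (AlgHom.id R (FractionRing R))) x ∈
        (Algebra.TensorProduct.includeLeft : D →ₐ[R] D ⊗[R] FractionRing R).range := by
    intro x hx
    induction hx using Algebra.adjoin_induction with
    | mem y hy =>
      obtain ⟨j, rfl⟩ := hy
      exact ⟨dd j, (hφK_f j).symm⟩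
    | algebraMap a => exact ⟨φ a, (hφK_incl a).symm⟩
    | add x y _ _ hx hy => rw [map_add]; exact Subalgebra.add_mem _ hx hy
    | mul x y _ _ hx hy => rw [map_mul]; exact Subalgebra.mul_mem _ hx hy
  let ψ0 : ↥(Algebra.adjoin A (Set.range f)) →ₐ[R]
      (Algebra.TensorProduct.includeLeft : D →ₐ[R] D ⊗[R] FractionRing R).range :=
    ((Algebra.TensorProduct.map φ (AlgHom.id R (FractionRing R))).comp
      ((Algebra.adjoin A (Set.range f)).val.restrictScalars R)).codRestrict _
        (fun x => hrange x x.2)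
  let e := AlgEquiv.ofInjective
    (Algebra.TensorProduct.includeLeft : D →ₐ[R] D ⊗[R] FractionRing R) hιD
  let ψ : ↥(Algebra.adjoin A (Set.range f)) →ₐ[R] D := (e.symm : _ →ₐ[R] D).comp ψ0
  have hψ : ∀ x : ↥(Algebra.adjoin A (Set.range f)),
      (Algebra.TensorProduct.includeLeft : D →ₐ[R] D ⊗[R] FractionRing R) (ψ x) =
        (Algebra.TensorProduct.map φ (AlgHom.id R (FractionRing R))) (x : A ⊗[R] FractionRing R) := by
    intro x
    have h2 := e.apply_symm_apply (ψ0 x)
    exact congrArg Subtype.val h2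
  have hψa : ∀ a : A, ψ (algebraMap A ↥(Algebra.adjoin A (Set.range f)) a) = φ a := by
    intro a
    apply hιD
    rw [hψ]
    exact hφK_incl a
  refine ⟨ψ, ?_, ?_⟩
  · ext a
    exact hψa a
  · intro ψ' hψ'
    have hψ'a : ∀ a : A, ψ' (algebraMap A ↥(Algebra.adjoin A (Set.range f)) a) = φ a :=
      fun a => AlgHom.congr_fun hψ' a
    have e1 : ∀ (χ : ↥(Algebra.adjoin A (Set.range f)) →ₐ[R] D),
        (∀ a, χ (algebraMap A ↥(Algebra.adjoin A (Set.range f)) a) = φ a) →
        ∀ (j : Fin n) (hj : f j ∈ Algebra.adjoin A (Set.range f)),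
          algebraMap R D c * χ ⟨f j, hj⟩ = φ (g j) := by
      intro χ hχ j hj
      rw [← hχ (g j), ← Algebra.smul_def, ← map_smul]
      congr 1
      apply Subtype.ext
      exact (hg j).symm
    have key : ∀ (y : A ⊗[R] FractionRing R) (hy : y ∈ Algebra.adjoin A (Set.range f)),
        ψ' ⟨y, hy⟩ = ψ ⟨y, hy⟩ := by
      intro y hy
      induction hy using Algebra.adjoin_induction with
      | mem y hy =>
        obtain ⟨j, rfl⟩ := hy
        apply sub_eq_zero.mp
        apply hcD
        rw [mul_sub, e1 ψ' hψ'a, e1 ψ hψa, sub_self]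
      | algebraMap a => exact (hψ'a a).trans (hψa a).symm
      | add x y hx hy hx' hy' =>
        have h3 : (⟨x + y, Subalgebra.add_mem _ hx hy⟩ : ↥(Algebra.adjoin A (Set.range f))) =
            ⟨x, hx⟩ + ⟨y, hy⟩ := rfl
        rw [h3, map_add, map_add, hx', hy']
      | mul x y hx hy hx' hy' =>
        have h3 : (⟨x * y, Subalgebra.mul_mem _ hx hy⟩ : ↥(Algebra.adjoin A (Set.range f))) =
            ⟨x, hx⟩ * ⟨y, hy⟩ := rfl
        rw [h3, map_mul, map_mul, hx', hy']
    ext ⟨y, hy⟩
    exact key y hy

end Main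

end Groth.Agent.Lib.Seat52.AdmBlowup
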