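import Groth.Agent.Lib.Seat52CLoc2
import Mathlib.RingTheory.IntegralClosure.IsIntegral.Basic

/-!
# helper52: algebras finite over an admissible algebra (Bosch FRG §8)
-/

set_option autoImplicit false
set_option linter.style.haveILetI false
set_option linter.unusedSectionVars false
universe u

namespace Groth.Agent.Lib.Seat52.AdmFinite

open AdicRing TensorProduct Groth.Agent.Lib.Seat52.AdicTrunc Groth.Agent.Lib.Seat52.AdicBase
  Groth.Agent.Lib.Seat52.CLocLib

section FT

variable (R : Type u) [CommRing R] (I : Ideal R) (hI : I.FG) (A : Type u) [CommRing A]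
  [Algebra R A] (hA : TopFiniteType R I A)
  (B : Type u) [CommRing B] [Algebra R B] [Algebra A B] [IsScalarTower R A B]

include hI hA in
/-- If `A` is tft over `R`, `J ⊇ I B` and `B/J` is of finite type over `A`, then `B/J` is of finite
type over `R`. -/
theorem finiteType_quot_of_tft (J : Ideal B) (hJ : I.map (algebraMap R B) ≤ J)
    [hft : Algebra.FiniteType A (B ⧸ J)] : Algebra.FiniteType R (B ⧸ J) := by
  classical
  obtain ⟨d, φ, hφ⟩ := hA
  obtain ⟨s, hs⟩ := hft.out
  let α : Fin d → B ⧸ J := fun i => Ideal.Quotient.mk J (algebraMap A B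
    (φ (algebraMap (MvPolynomial (Fin d) R) (RPow R I d) (MvPolynomial.X i))))
  let S : Subalgebra R (B ⧸ J) := Algebra.adjoin R (Set.range α ∪ (s : Set (B ⧸ J)))
  have hpoly : ∀ p : MvPolynomial (Fin d) R, Ideal.Quotient.mk J (algebraMap A B
      (φ (algebraMap (MvPolynomial (Fin d) R) (RPow R I d) p))) ∈ S := by
    intro p
    induction p using MvPolynomial.induction_on with
    | C a =>
      have h1 : algebraMap (MvPolynomial (Fin d) R) (RPow R I d) (MvPolynomial.C a) =
          algebraMap R (RPow R I d) a := by
        rw [IsScalarTower.algebraMap_apply R (MvPolynomial (Fin d) R) (RPow R I d)]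
        rfl
      rw [h1, AlgHom.commutes, ← IsScalarTower.algebraMap_apply R A B]
      exact S.algebraMap_mem a
    | add p r hp hr =>
      rw [map_add, map_add, map_add, map_add]
      exact S.add_mem hp hr
    | mul_X p i hp =>
      rw [map_mul, map_mul, map_mul, map_mul]
      exact S.mul_mem hp (Algebra.subset_adjoin (Or.inl ⟨i, rfl⟩))
  have hAmem : ∀ a : A, algebraMap A (B ⧸ J) a ∈ S := by
    intro a
    obtain ⟨z, rfl⟩ := hφ a
    obtain ⟨p, hp⟩ := exists_poly_sub_mem R I hI d 1 z
    have h1 : algebraMap A B (φ (z - algebraMap (MvPolynomial (Fin d) R) (RPow R I d) p)) ∈ J := by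
      have h2 := map_phi_mem I φ hp
      rw [pow_one] at h2
      have h3 := Ideal.mem_map_of_mem (algebraMap A B) h2
      rw [Ideal.map_map, ← IsScalarTower.algebraMap_eq] at h3
      exact hJ h3
    have h2 : algebraMap A (B ⧸ J) (φ z) = Ideal.Quotient.mk J (algebraMap A B
        (φ (algebraMap (MvPolynomial (Fin d) R) (RPow R I d) p))) := by
      rw [IsScalarTower.algebraMap_apply A B (B ⧸ J), Ideal.Quotient.algebraMap_eq,
        ← sub_eq_zero, ← map_sub, ← map_sub, ← map_sub]
      exact Ideal.Quotient.eq_zero_iff_mem.mpr h1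
    rw [h2]
    exact hpoly p
  have htop : S = ⊤ := by
    rw [eq_top_iff]
    intro x hx0
    clear hx0
    have hx : x ∈ Algebra.adjoin A (s : Set (B ⧸ J)) := by
      rw [hs]
      trivial
    induction hx using Algebra.adjoin_induction with
    | mem x hx => exact Algebra.subset_adjoin (Or.inr hx)
    | algebraMap a => exact hAmem a
    | add x y _ _ hx hy => exact S.add_mem hx hy
    | mul x y _ _ hx hy => exact S.mul_mem hx hy
  refine ⟨⟨(Finset.univ.image α) ∪ s, ?_⟩⟩
  rw [← htop]
  congr 1
  ext x
  simp

end FT

section Finite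

variable (R : Type u) [CommRing R] (I : Ideal R) (hR : AdicRing.IsBase R I) (A : Type u)
  [CommRing A] [Algebra R A] (hA : TopFiniteType R I A)
  (B : Type u) [CommRing B] [Algebra R B] [Algebra A B] [IsScalarTower R A B]

include hR hA in
/-- An algebra finite over an algebra topologically of finite type is topologically of finite
type. -/
theorem tft_of_finite [Module.Finite A B] : TopFiniteType R I B := by
  have hI := fg_of_isBase hR
  haveI h1 : IsAdicComplete I B := isAdicComplete_of_finite R I hR A hA B
  haveI h2 : IsAdicComplete (I.map (algebraMap R B)) B :=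
    (IsAdicComplete.map_algebraMap_iff (R := R) (S := B) (I := I) (M := B)).mpr h1
  haveI : Algebra.FiniteType A (B ⧸ I.map (algebraMap R B)) := inferInstance
  have hB := finiteType_quot_of_tft R I hI A hA B _ le_rfl
  obtain ⟨r, Φ, hΦ⟩ := Groth.Agent.Lib.Helper19.exists_surjective_restricted' R I hI B hB
  exact ⟨r, Φ, hΦ⟩

include hR hA in
/-- A finite algebra without `I`-power torsion over an algebra topologically of finite type is
admissible. -/
theorem admissible_of_finite [Module.Finite A B] (htor : NoPowTorsion I B) : Admissible R I B :=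
  ⟨tfp_of_tft_of_noPowTorsion R I hR B (tft_of_finite R I hR A hA B) htor, htor⟩

end Finite

section Adjoin

/-- S13352 -/
theorem admissible_adjoin
    (R : Type u) [CommRing R] [IsDomain R] [ValuationRing R] [Ring.KrullDimLE 1 R]
    (t : R) (ht : t ≠ 0) [IsAdicComplete (Ideal.span {t}) R]
    (A : Type u) [CommRing A] [Algebra R A] (hA : AdicRing.Admissible R (Ideal.span {t}) A)
    (n : ℕ) (f : Fin n → A ⊗[R] FractionRing R) (hf : ∀ i, IsIntegral A (f i)) :
    AdicRing.Admissible R (Ideal.span {t}) ↥(Algebra.adjoin A (Set.range f)) ∧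
      Module.Finite A ↥(Algebra.adjoin A (Set.range f)) := by
  haveI hfin : Module.Finite A ↥(Algebra.adjoin A (Set.range f)) :=
    Algebra.finite_adjoin_of_finite_of_isIntegral (Set.finite_range f)
      (by rintro _ ⟨i, rfl⟩; exact hf i)
  refine ⟨?_, hfin⟩
  have hR : IsBase R (Ideal.span {t}) := isBase_V R t ht
  apply admissible_of_finite R _ hR A (tft_of_tfp R _ hA.1)
  intro x k hx
  have h1 := hx (t ^ k) (Ideal.pow_mem_pow (Ideal.mem_span_singleton_self t) k)
  have h2 : (t ^ k) • (x : A ⊗[R] FractionRing R) = 0 := by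
    have := congrArg Subtype.val h1
    simpa using this
  have hunit : IsUnit (algebraMap R (FractionRing R) (t ^ k)) := by
    rw [isUnit_iff_ne_zero]
    intro h0
    exact pow_ne_zero k ht ((IsFractionRing.injective R (FractionRing R))
      (h0.trans (map_zero _).symm))
  obtain ⟨u, hu⟩ := hunit
  apply Subtype.ext
  change (x : A ⊗[R] FractionRing R) = 0
  have h4 : ((1 : A) ⊗ₜ[R] ((u⁻¹ : (FractionRing R)ˣ) : FractionRing R)) *
      ((t ^ k) • (x : A ⊗[R] FractionRing R)) = (x : A ⊗[R] FractionRing R) := by
    generalize (x : A ⊗[R] FractionRing R) = y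
    induction y using TensorProduct.induction_on with
    | zero => rw [smul_zero, mul_zero]
    | add y z hy hz => rw [smul_add, mul_add, hy, hz]
    | tmul a b =>
      rw [TensorProduct.smul_tmul', Algebra.TensorProduct.tmul_mul_tmul, one_mul,
        TensorProduct.smul_tmul, Algebra.smul_def, ← hu, ← mul_assoc, Units.mul_inv, one_mul]
  rw [← h4, h2, mul_zero]

end Adjoin

end Groth.Agent.Lib.Seat52.AdmFinite
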