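import Mathlib
import Groth.Agent.Lib.Helper3FlatDescA

/-!
# Seat 52: base change of polynomial vectors versus tensor products

For an `R`-algebra `R₁`, a module `N` over `P = R[X₁,…,Xₙ]` and a `P`-linear map
`π : P^s → N`, we construct the `R₁`-linear map
`Θ : R₁[X]^s → R₁ ⊗[R] N`, `r • Fmap v ↦ r ⊗ π v`, and record its kernel.

Namespace `Groth.Agent.Lib.Seat52.BlowFlatB`.
-/

set_option autoImplicit false
set_option linter.style.haveILetI false
universe u

namespace Groth.Agent.Lib.Seat52.BlowFlatB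

open TensorProduct MvPolynomial Groth.Agent.Lib.Helper3.FlatDesc

attribute [local instance] MvPolynomial.algebraMvPolynomial

variable {R : Type u} [CommRing R] (R₁ : Type u) [CommRing R₁] [Algebra R R₁] {n s : ℕ}

/-- `R₁ ⊗[R] R[X]^s ≃ R₁[X]^s`. -/
noncomputable def Xi : R₁ ⊗[R] (Fin s → MvPolynomial (Fin n) R) ≃ₗ[R₁]
    (Fin s → MvPolynomial (Fin n) R₁) :=
  (TensorProduct.piRight R R₁ R₁ (fun _ : Fin s => MvPolynomial (Fin n) R)) ≪≫ₗ
    LinearEquiv.piCongrRight (fun _ => (MvPolynomial.algebraTensorAlgEquiv R R₁).toLinearEquiv)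

theorem Xi_tmul (r : R₁) (v : Fin s → MvPolynomial (Fin n) R) :
    Xi R₁ (r ⊗ₜ[R] v) = r • Fmap (MvPolynomial (Fin n) R) (MvPolynomial (Fin n) R₁) (Fin s) v := by
  ext i : 1
  simp only [Xi, LinearEquiv.trans_apply, LinearEquiv.piCongrRight_apply, Pi.smul_apply,
    Fmap_apply]
  rw [TensorProduct.piRight_apply, TensorProduct.piRightHom_tmul]
  show MvPolynomial.algebraTensorAlgEquiv R R₁ (r ⊗ₜ[R] v i) = _
  rw [MvPolynomial.algebraTensorAlgEquiv_tmul, MvPolynomial.algebraMap_def]

variable {N : Type u} [AddCommGroup N] [Module (MvPolynomial (Fin n) R) N] [Module R N]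
  [IsScalarTower R (MvPolynomial (Fin n) R) N]
  (π : (Fin s → MvPolynomial (Fin n) R) →ₗ[MvPolynomial (Fin n) R] N)

/-- `Θ : R₁[X]^s → R₁ ⊗[R] N`. -/
noncomputable def Theta : (Fin s → MvPolynomial (Fin n) R₁) →ₗ[R₁] R₁ ⊗[R] N :=
  ((π.restrictScalars R).baseChange R₁) ∘ₗ (Xi R₁).symm.toLinearMap

theorem Theta_smul_Fmap (r : R₁) (v : Fin s → MvPolynomial (Fin n) R) :
    Theta R₁ π (r • Fmap (MvPolynomial (Fin n) R) (MvPolynomial (Fin n) R₁) (Fin s) v) =
      r ⊗ₜ[R] π v := by
  rw [← Xi_tmul]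
  simp [Theta]

theorem Theta_Fmap (v : Fin s → MvPolynomial (Fin n) R) :
    Theta R₁ π (Fmap (MvPolynomial (Fin n) R) (MvPolynomial (Fin n) R₁) (Fin s) v) =
      1 ⊗ₜ[R] π v := by
  have := Theta_smul_Fmap R₁ π 1 v
  rwa [one_smul] at this

theorem Theta_surjective (hπ : Function.Surjective π) : Function.Surjective (Theta R₁ π) := by
  intro z
  have h1 : Function.Surjective ((π.restrictScalars R).baseChange R₁) := by
    rw [LinearMap.baseChange_eq_ltensor]
    exact LinearMap.lTensor_surjective R₁ hπ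
  obtain ⟨y, rfl⟩ := h1 z
  exact ⟨Xi R₁ y, by simp [Theta]⟩

theorem mem_span_of_Theta_eq_zero (hπ : Function.Surjective π)
    (x : Fin s → MvPolynomial (Fin n) R₁) (hx : Theta R₁ π x = 0) :
    x ∈ Submodule.span R₁ (Fmap (MvPolynomial (Fin n) R) (MvPolynomial (Fin n) R₁) (Fin s) ''
      (LinearMap.ker π : Set (Fin s → MvPolynomial (Fin n) R))) := by
  obtain ⟨z, rfl⟩ := (Xi R₁ (n := n) (s := s) (R := R)).surjective x
  have hz : (π.restrictScalars R).lTensor R₁ z = 0 := by
    have : Theta R₁ π (Xi R₁ z) = (π.restrictScalars R).baseChange R₁ z := by simp [Theta]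
    rw [this, LinearMap.baseChange_eq_ltensor] at hx
    exact hx
  have hex : Function.Exact ((LinearMap.ker (π.restrictScalars R)).subtype)
      (π.restrictScalars R) := LinearMap.exact_subtype_ker_map _
  obtain ⟨z', rfl⟩ := (lTensor_exact R₁ hex hπ z).mp hz
  clear hx hz
  induction z' using TensorProduct.induction_on with
  | zero =>
    rw [map_zero, map_zero]
    exact Submodule.zero_mem _
  | tmul r κ =>
    rw [LinearMap.lTensor_tmul, Xi_tmul]
    refine Submodule.smul_mem _ _ (Submodule.subset_span ⟨κ.1, ?_, rfl⟩)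
    exact κ.2
  | add a b ha hb =>
    rw [map_add, map_add]
    exact Submodule.add_mem _ ha hb

theorem Theta_smul_Fmap_ker (g : MvPolynomial (Fin n) R₁) :
    ∀ κ : Fin s → MvPolynomial (Fin n) R, π κ = 0 →
      Theta R₁ π (g • Fmap (MvPolynomial (Fin n) R) (MvPolynomial (Fin n) R₁) (Fin s) κ) = 0 := by
  induction g using MvPolynomial.induction_on with
  | C r =>
    intro κ hκ
    have : (C r : MvPolynomial (Fin n) R₁) •
        Fmap (MvPolynomial (Fin n) R) (MvPolynomial (Fin n) R₁) (Fin s) κ =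
        r • Fmap (MvPolynomial (Fin n) R) (MvPolynomial (Fin n) R₁) (Fin s) κ := by
      ext i : 1
      simp [MvPolynomial.C_mul']
    rw [this, Theta_smul_Fmap, hκ, TensorProduct.tmul_zero]
  | add p q hp hq =>
    intro κ hκ
    rw [add_smul, map_add, hp κ hκ, hq κ hκ, add_zero]
  | mul_X p i hp =>
    intro κ hκ
    have : (p * X i) • Fmap (MvPolynomial (Fin n) R) (MvPolynomial (Fin n) R₁) (Fin s) κ =
        p • Fmap (MvPolynomial (Fin n) R) (MvPolynomial (Fin n) R₁) (Fin s)
          ((X i : MvPolynomial (Fin n) R) • κ) := by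
      have hX : ∀ w : MvPolynomial (Fin n) R₁, (X i : MvPolynomial (Fin n) R) • w = X i * w :=
        fun w => by rw [Algebra.smul_def, MvPolynomial.algebraMap_def, MvPolynomial.map_X]
      rw [mul_smul, map_smul]
      congr 1
      ext j : 1
      rw [Pi.smul_apply, Pi.smul_apply, hX, smul_eq_mul]
    rw [this]
    exact hp _ (by rw [map_smul, hκ, smul_zero])

/-- The kernel of `Θ` is stable under multiplication by polynomials. -/
theorem Theta_smul_eq_zero (hπ : Function.Surjective π) (g : MvPolynomial (Fin n) R₁)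
    (x : Fin s → MvPolynomial (Fin n) R₁) (hx : Theta R₁ π x = 0) :
    Theta R₁ π (g • x) = 0 := by
  have h := mem_span_of_Theta_eq_zero R₁ π hπ x hx
  clear hx
  induction h using Submodule.span_induction with
  | mem y hy =>
    obtain ⟨κ, hκ, rfl⟩ := hy
    exact Theta_smul_Fmap_ker R₁ π g κ hκ
  | zero => simp
  | add a b _ _ ha hb => rw [smul_add, map_add, ha, hb, add_zero]
  | smul r a _ ha =>
    rw [smul_comm, map_smul, ha, smul_zero]

end Groth.Agent.Lib.Seat52.BlowFlatB
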