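import Groth.Agent.Lib.Seat52PolySat3
import Mathlib.RingTheory.LocalRing.Module
import Mathlib.RingTheory.Flat.TorsionFree
import Mathlib.RingTheory.Polynomial.Basic
import Mathlib.Algebra.Module.FinitePresentation
import Mathlib.RingTheory.Nakayama

/-!
# helper52: Raynaud–Gruson over an arbitrary valuation ring, polynomial case

For a valuation ring `A` (any rank) a submodule `N ⊆ A[X₁..Xₘ]^s` with `A`-torsion-free quotient
is finitely generated: homogenize, reduce modulo the maximal ideal (Hilbert's basis theorem over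
the residue field) and apply Nakayama degree by degree.
-/

set_option autoImplicit false
set_option linter.style.haveILetI false
set_option linter.unusedSectionVars false
universe u

namespace Groth.Agent.Lib.Seat52.ValRG

open MvPolynomial IsLocalRing Groth.Agent.Lib.Seat52.PolySat

section Dom

variable {A : Type*} [CommRing A] [IsDomain A] [ValuationRing A]

/-- elements of `𝔪 M` are of the form `a • y` with `a ∈ 𝔪` -/
lemma exists_eq_smul_of_mem_smul_top {M : Type*} [AddCommGroup M] [Module A M] (x : M)
    (hx : x ∈ (maximalIdeal A) • (⊤ : Submodule A M)) :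
    ∃ a ∈ maximalIdeal A, ∃ y : M, x = a • y := by
  refine Submodule.smul_induction_on hx (fun a ha y _ => ⟨a, ha, y, rfl⟩) ?_
  rintro _ _ ⟨a, ha, g, rfl⟩ ⟨a', ha', g', rfl⟩
  rcases ValuationRing.dvd_total a a' with ⟨e, rfl⟩ | ⟨e, rfl⟩
  · exact ⟨a, ha, g + e • g', by rw [smul_add, mul_smul]⟩
  · exact ⟨a', ha', e • g + g', by rw [smul_add, mul_smul]⟩

end Dom

section Red

variable {A : Type u} [CommRing A] [IsLocalRing A] {σ : Type*} {s : ℕ}

/-- reduction of polynomials modulo the maximal ideal -/
noncomputable abbrev ρ : MvPolynomial σ A →+* MvPolynomial σ (A ⧸ maximalIdeal A) :=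
  MvPolynomial.map (Ideal.Quotient.mk (maximalIdeal A))

lemma ρ_surjective : Function.Surjective (ρ (A := A) (σ := σ)) :=
  MvPolynomial.map_surjective _ Ideal.Quotient.mk_surjective

instance : RingHomSurjective (ρ (A := A) (σ := σ)) := ⟨ρ_surjective⟩

/-- componentwise reduction, semilinear over `ρ` -/
noncomputable def redS : (Fin s → MvPolynomial σ A) →ₛₗ[ρ (A := A) (σ := σ)]
    (Fin s → MvPolynomial σ (A ⧸ maximalIdeal A)) where
  toFun x j := ρ (x j)
  map_add' x y := by funext j; simp
  map_smul' p x := by funext j; simp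

lemma redS_apply (x : Fin s → MvPolynomial σ A) (j : Fin s) : redS x j = ρ (x j) := rfl

/-- a vector reducing to zero lies in `𝔪 • ⊤` -/
lemma mem_smul_top_of_redS_eq_zero (x : Fin s → MvPolynomial σ A) (hx : redS x = 0) :
    x ∈ (maximalIdeal A) • (⊤ : Submodule A (Fin s → MvPolynomial σ A)) := by
  classical
  have hcoeff : ∀ j mon, (x j).coeff mon ∈ maximalIdeal A := by
    intro j mon
    have h1 : ρ (x j) = 0 := congrFun hx j
    have h2 := congrArg (MvPolynomial.coeff mon) h1
    rw [MvPolynomial.coeff_map, MvPolynomial.coeff_zero] at h2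
    exact Ideal.Quotient.eq_zero_iff_mem.mp h2
  have hx' : x = ∑ j, ∑ mon ∈ (x j).support,
      (x j).coeff mon • (Pi.single j (monomial mon 1) : Fin s → MvPolynomial σ A) := by
    funext i
    rw [Finset.sum_apply]
    simp only [Finset.sum_apply, Pi.smul_apply, Pi.single_apply]
    rw [Finset.sum_eq_single i]
    · simp only [if_true]
      conv_lhs => rw [(x i).as_sum]
      refine Finset.sum_congr rfl fun mon _ => ?_
      rw [smul_monomial, smul_eq_mul, mul_one]
    · intro j _ hji
      refine Finset.sum_eq_zero fun mon _ => ?_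
      rw [if_neg hji.symm, smul_zero]
    · intro h; exact absurd (Finset.mem_univ i) h
  rw [hx']
  refine Submodule.sum_mem _ fun j _ => Submodule.sum_mem _ fun mon _ => ?_
  exact Submodule.smul_mem_smul (hcoeff j mon) Submodule.mem_top

end Red

section Sat

variable {A : Type u} [CommRing A] [IsDomain A] [ValuationRing A]

/-- over a valuation ring, a saturated submodule of a finitely generated module is finitely
generated (the quotient is finite torsion-free, hence free) -/
lemma fg_of_saturated_le {V : Type u} [AddCommGroup V] [Module A V] (H N : Submodule A V)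
    (hH : H.FG) (hle : N ≤ H) (hsat : ∀ a : A, a ≠ 0 → ∀ x ∈ H, a • x ∈ N → x ∈ N) : N.FG := by
  haveI : Module.Finite A H := Module.Finite.iff_fg.mpr hH
  set N' : Submodule A H := N.comap H.subtype with hN'
  haveI : Module.Finite A (H ⧸ N') := inferInstance
  haveI : Module.Flat A (H ⧸ N') := by
    rw [Module.Flat.flat_iff_torsion_eq_bot_of_isBezout, Submodule.eq_bot_iff]
    intro q hq
    rw [Submodule.mem_torsion_iff] at hq
    obtain ⟨a, ha⟩ := hq
    obtain ⟨x, rfl⟩ := Submodule.Quotient.mk_surjective _ q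
    rw [← Submodule.Quotient.mk_smul, Submodule.Quotient.mk_eq_zero] at ha
    rw [Submodule.Quotient.mk_eq_zero]
    exact hsat a (nonZeroDivisors.coe_ne_zero a) x x.2 ha
  haveI : Module.Free A (H ⧸ N') := Module.free_of_flat_of_isLocalRing
  haveI : Module.FinitePresentation A (H ⧸ N') := Module.finitePresentation_of_projective _ _
  have h1 : (LinearMap.ker N'.mkQ).FG :=
    Module.FinitePresentation.fg_ker N'.mkQ (Submodule.mkQ_surjective _)
  rw [Submodule.ker_mkQ] at h1
  have h2 := h1.map H.subtype
  rwa [hN', Submodule.map_comap_subtype, inf_eq_right.mpr hle] at h2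

end Sat

section Main

variable (A : Type u) [CommRing A] [IsDomain A] [ValuationRing A]

/-- Raynaud–Gruson over a valuation ring, polynomial case: a submodule of `A[X]^s` with
torsion-free quotient is finitely generated. -/
theorem fg_of_saturated (m s : ℕ)
    (N : Submodule (MvPolynomial (Fin m) A) (Fin s → MvPolynomial (Fin m) A))
    (hsat : ∀ a : A, a ≠ 0 → ∀ x : Fin s → MvPolynomial (Fin m) A,
      (C a : MvPolynomial (Fin m) A) • x ∈ N → x ∈ N) : N.FG := by
  classical
  set Nh := homSub N with hNh
  have hsat' : ∀ a : A, a ≠ 0 → ∀ x : Fin s → MvPolynomial (Option (Fin m)) A,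
      (C a : MvPolynomial (Option (Fin m)) A) • x ∈ Nh → x ∈ Nh :=
    fun a ha => homSub_sat N a (hsat a ha)
  letI : Field (A ⧸ maximalIdeal A) := Ideal.Quotient.field _
  haveI : IsNoetherianRing (MvPolynomial (Option (Fin m)) (A ⧸ maximalIdeal A)) := inferInstance
  haveI : IsNoetherian (MvPolynomial (Option (Fin m)) (A ⧸ maximalIdeal A))
      (Fin s → MvPolynomial (Option (Fin m)) (A ⧸ maximalIdeal A)) := inferInstance
  have hfg' : (Nh.map (redS (A := A) (σ := Option (Fin m)) (s := s))).FG :=
    IsNoetherian.noetherian _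
  obtain ⟨r, ub, hub⟩ := Submodule.fg_iff_exists_fin_generating_family.mp hfg'
  have hmem : ∀ i, ub i ∈ Nh.map (redS (A := A) (σ := Option (Fin m)) (s := s)) := fun i => by
    rw [← hub]; exact Submodule.subset_span ⟨i, rfl⟩
  choose nn hnn hnnu using hmem
  have hstep : ∀ x ∈ Nh, ∃ (c : Fin r → MvPolynomial (Option (Fin m)) A) (a : A)
      (y : Fin s → MvPolynomial (Option (Fin m)) A), a ∈ maximalIdeal A ∧ y ∈ Nh ∧
        x = ∑ i, c i • nn i + a • y := by
    intro x hx
    have hx' : redS x ∈ Submodule.span (MvPolynomial (Option (Fin m)) (A ⧸ maximalIdeal A))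
        (Set.range ub) := by
      rw [hub]; exact Submodule.mem_map_of_mem hx
    obtain ⟨cb, hcb⟩ := (Submodule.mem_span_range_iff_exists_fun _).mp hx'
    choose c hc using fun i => ρ_surjective (A := A) (σ := Option (Fin m)) (cb i)
    have hz : redS (x - ∑ i, c i • nn i) = 0 := by
      rw [map_sub, map_sum, ← hcb, sub_eq_zero]
      refine Finset.sum_congr rfl fun i _ => ?_
      rw [map_smulₛₗ, hc, hnnu]
    have hzN : x - ∑ i, c i • nn i ∈ Nh :=
      Nh.sub_mem hx (Nh.sum_mem fun i _ => Nh.smul_mem _ (hnn i))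
    obtain ⟨a, ha, y, hay⟩ := exists_eq_smul_of_mem_smul_top _
      (mem_smul_top_of_redS_eq_zero _ hz)
    by_cases ha0 : a = 0
    · refine ⟨c, a, 0, ha, Nh.zero_mem, ?_⟩
      rw [smul_zero, add_zero]
      rw [ha0, zero_smul, sub_eq_zero] at hay
      exact hay
    · refine ⟨c, a, y, ha, ?_, ?_⟩
      · apply hsat' a ha0
        rw [C_smul_eq, ← hay]
        exact hzN
      · rw [← hay]; abel
  -- degree bound for the `nn i`
  obtain ⟨D, hD⟩ : ∃ D : ℕ, ∀ i j, (nn i j).totalDegree ≤ D := by
    refine ⟨Finset.univ.sup fun i => Finset.univ.sup fun j => (nn i j).totalDegree, fun i j => ?_⟩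
    exact le_trans (Finset.le_sup (f := fun j => (nn i j).totalDegree) (Finset.mem_univ j))
      (Finset.le_sup (f := fun i => Finset.univ.sup fun j => (nn i j).totalDegree)
        (Finset.mem_univ i))
  let g : Fin r × Fin (D + 1) → (Fin s → MvPolynomial (Option (Fin m)) A) :=
    fun k => piHc (k.2 : ℕ) (nn k.1)
  have hgN : ∀ k, g k ∈ Nh := fun k => piHc_mem N (hnn k.1) _
  have hgH : ∀ k, IsHom (k.2 : ℕ) (g k) := fun k => isHom_piHc _ _
  have hnn_sum : ∀ i, nn i = ∑ e : Fin (D + 1), g (i, e) := by
    intro i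
    rw [← Finset.sum_range (fun e => piHc e (nn i))]
    exact (sum_piHc (nn i) (hD i)).symm
  have hstep2 : ∀ x ∈ Nh, ∃ (c : Fin r → MvPolynomial (Option (Fin m)) A) (a : A)
      (y : Fin s → MvPolynomial (Option (Fin m)) A), a ∈ maximalIdeal A ∧ y ∈ Nh ∧
        x = ∑ i, ∑ e : Fin (D + 1), c i • g (i, e) + a • y := by
    intro x hx
    obtain ⟨c, a, y, ha, hy, hxy⟩ := hstep x hx
    refine ⟨c, a, y, ha, hy, ?_⟩
    rw [hxy]
    congr 1
    refine Finset.sum_congr rfl fun i _ => ?_
    rw [← Finset.smul_sum, ← hnn_sum]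
  -- the homogeneous pieces
  have hkey : ∀ d : ℕ, ∀ x ∈ Nh, IsHom d x →
      x ∈ Submodule.span (MvPolynomial (Option (Fin m)) A) (Set.range g) := by
    intro d
    let Nd : Submodule A (Fin s → MvPolynomial (Option (Fin m)) A) :=
      { carrier := {x | x ∈ Nh ∧ IsHom d x}
        add_mem' := fun {x y} hx hy => ⟨Nh.add_mem hx.1 hy.1, fun j => (hx.2 j).add (hy.2 j)⟩
        zero_mem' := ⟨Nh.zero_mem, fun j => isHomogeneous_zero _ _ _⟩
        smul_mem' := fun a x hx => by
          refine ⟨?_, fun j => ?_⟩
          · rw [← C_smul_eq]; exact Nh.smul_mem _ hx.1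
          · rw [Pi.smul_apply, smul_eq_C_mul]; exact (hx.2 j).C_mul a }
    let Hd : Submodule A (Fin s → MvPolynomial (Option (Fin m)) A) :=
      Submodule.pi Set.univ (fun _ => homogeneousSubmodule (Option (Fin m)) A d)
    have hHd : ∀ x, x ∈ Hd ↔ IsHom d x := by
      intro x
      simp only [Hd, Submodule.mem_pi, Set.mem_univ, true_implies, mem_homogeneousSubmodule]
      rfl
    have hHdfg : Hd.FG := Submodule.fg_pi fun _ => homogeneousSubmodule_fg (Option (Fin m)) A d
    have hNdfg : Nd.FG := by
      refine fg_of_saturated_le Hd Nd hHdfg (fun x hx => (hHd x).mpr hx.2) ?_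
      intro a ha x hxH hax
      refine ⟨hsat' a ha x ?_, (hHd x).mp hxH⟩
      rw [C_smul_eq]
      exact hax.1
    let ψ : Fin r × Fin (D + 1) →
        MvPolynomial (Option (Fin m)) A →ₗ[A] (Fin s → MvPolynomial (Option (Fin m)) A) :=
      fun k => (LinearMap.toSpanSingleton (MvPolynomial (Option (Fin m)) A) _
        (g k)).restrictScalars A
    let M0 : Submodule A (Fin s → MvPolynomial (Option (Fin m)) A) :=
      ⨆ k : Fin r × Fin (D + 1),
        (homogeneousSubmodule (Option (Fin m)) A (d - (k.2 : ℕ))).map (ψ k)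
    have hM0le : ∀ x ∈ M0,
        x ∈ Submodule.span (MvPolynomial (Option (Fin m)) A) (Set.range g) := by
      intro x hx
      have : M0 ≤ (Submodule.span (MvPolynomial (Option (Fin m)) A)
          (Set.range g)).restrictScalars A := by
        refine iSup_le fun k => ?_
        rintro _ ⟨p, -, rfl⟩
        exact Submodule.smul_mem _ p (Submodule.subset_span ⟨k, rfl⟩)
      exact this hx
    have hle : Nd ≤ M0 := by
      apply Submodule.le_of_le_smul_of_le_jacobson_bot (I := maximalIdeal A) hNdfg
        (IsLocalRing.maximalIdeal_le_jacobson _)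
      intro x hx
      obtain ⟨c, a, y, ha, hy, hxy⟩ := hstep2 x hx.1
      have hx1 : x = piHc d x := by rw [piHc_of_isHom hx.2, if_pos rfl]
      have hm0 : ∑ i, ∑ e : Fin (D + 1), piHc d (c i • g (i, e)) ∈ M0 := by
        refine Submodule.sum_mem _ fun i _ => Submodule.sum_mem _ fun e _ => ?_
        rw [piHc_smul_of_isHom (c i) (hgH (i, e))]
        split_ifs
        · refine Submodule.mem_iSup_of_mem (i, e) ?_
          exact ⟨_, homogeneousComponent_mem _ _, rfl⟩
        · exact Submodule.zero_mem _
      have hyd : piHc d y ∈ Nd := ⟨piHc_mem N hy d, isHom_piHc d y⟩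
      rw [hx1, hxy, map_add, map_sum, map_smul]
      refine Submodule.add_mem_sup ?_ (Submodule.smul_mem_smul ha hyd)
      convert hm0 using 1
      refine Finset.sum_congr rfl fun i _ => ?_
      rw [map_sum]
    intro x hx hxd
    exact hM0le x (hle ⟨hx, hxd⟩)
  have hNh' : Nh = Submodule.span (MvPolynomial (Option (Fin m)) A) (Set.range g) := by
    apply le_antisymm
    · intro x hx
      obtain ⟨Dx, hDx⟩ := exists_bound x
      rw [← sum_piHc x hDx]
      exact Submodule.sum_mem _ fun d _ => hkey d _ (piHc_mem N hx d) (isHom_piHc d x)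
    · rw [Submodule.span_le]
      rintro _ ⟨k, rfl⟩
      exact hgN k
  have hfgNh : Nh.FG := by
    rw [hNh']
    exact Submodule.fg_span (Set.finite_range g)
  have := hfgNh.map (dehomS (T := A) (σ := Fin m) (s := s))
  rwa [map_homSub] at this

end Main

end Groth.Agent.Lib.Seat52.ValRG
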