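import Mathlib
import Groth.Agent.Lib.Helper3FlatDescA
import Groth.Agent.Lib.Helper3FlatDescB
import Groth.Agent.Lib.Helper3FlatDescE
import Groth.Agent.Lib.Seat52ValRG

/-!
# Seat 52: saturation of a module of relations over a valuation ring

`R` a domain with fraction field `K`, `A ⊆ K` a valuation ring containing `R`.  For a submodule
`K_R ⊆ R[X]^s` we define its saturation `Sat ⊆ A[X]^s` (vectors a nonzero `R`-multiple of which
comes from `K_R`), prove it is finitely generated (Raynaud–Gruson over a valuation ring) and that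
`A[X]^s / Sat` is flat over `A`.

Namespace `Groth.Agent.Lib.Seat52.BlowFlatC`.
-/

set_option autoImplicit false
set_option linter.style.haveILetI false
set_option linter.unusedSectionVars false
universe u

namespace Groth.Agent.Lib.Seat52.BlowFlatC

open TensorProduct MvPolynomial Groth.Agent.Lib.Helper3.FlatDesc Groth.Agent.Lib.Helper3.FlatOpen

attribute [local instance] MvPolynomial.algebraMvPolynomial

section Basic

variable (R K A : Type u) [CommRing R] [IsDomain R] [Field K] [Algebra R K] [IsFractionRing R K]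
  [CommRing A] [IsDomain A] [Algebra A K] [IsFractionRing A K] [Algebra R A]
  [IsScalarTower R A K]

include K in
theorem algebraMap_injective : Function.Injective (algebraMap R A) := by
  have h : Function.Injective (algebraMap R K) := IsFractionRing.injective R K
  rw [IsScalarTower.algebraMap_eq R A K] at h
  exact Function.Injective.of_comp h

include K in
/-- every element of `A` has a nonzero denominator in `R`. -/
theorem exists_denom (y : A) : ∃ c : R, c ≠ 0 ∧ ∃ r : R, algebraMap R A c * y = algebraMap R A r := by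
  obtain ⟨⟨r, c⟩, h⟩ := IsLocalization.surj (nonZeroDivisors R) (algebraMap A K y)
  refine ⟨c.1, nonZeroDivisors.ne_zero c.2, r, ?_⟩
  apply IsFractionRing.injective A K
  rw [map_mul, ← IsScalarTower.algebraMap_apply, ← IsScalarTower.algebraMap_apply, mul_comm]
  exact h

include K in
/-- every polynomial over `A` has a nonzero denominator in `R`. -/
theorem exists_denom_poly {σ : Type*} (g : MvPolynomial σ A) :
    ∃ c : R, c ≠ 0 ∧ ∃ g₀ : MvPolynomial σ R,
      (C (algebraMap R A c) : MvPolynomial σ A) * g = MvPolynomial.map (algebraMap R A) g₀ := by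
  induction g using MvPolynomial.induction_on with
  | C a =>
    obtain ⟨c, hc, r, hr⟩ := exists_denom R K A a
    exact ⟨c, hc, C r, by rw [← C_mul, hr, MvPolynomial.map_C]⟩
  | add p q hp hq =>
    obtain ⟨c, hc, p₀, hp₀⟩ := hp
    obtain ⟨d, hd, q₀, hq₀⟩ := hq
    refine ⟨c * d, mul_ne_zero hc hd, C d * p₀ + C c * q₀, ?_⟩
    rw [map_mul, C_mul, map_add, map_mul, map_mul, MvPolynomial.map_C, MvPolynomial.map_C,
      ← hp₀, ← hq₀]
    ring
  | mul_X p i hp =>
    obtain ⟨c, hc, p₀, hp₀⟩ := hp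
    exact ⟨c, hc, p₀ * X i, by rw [map_mul, MvPolynomial.map_X, ← hp₀, mul_assoc]⟩

end Basic

section Smul

variable {R₀ R₁ : Type u} [CommRing R₀] [CommRing R₁] [Algebra R₀ R₁] {n s : ℕ}

theorem smul_eq_map_smul (g : MvPolynomial (Fin n) R₀) (w : Fin s → MvPolynomial (Fin n) R₁) :
    g • w = (MvPolynomial.map (algebraMap R₀ R₁) g) • w := by
  ext i : 1
  rw [Pi.smul_apply, Pi.smul_apply, Algebra.smul_def, MvPolynomial.algebraMap_def, smul_eq_mul]

theorem Fmap_smul_poly (g : MvPolynomial (Fin n) R₀) (v : Fin s → MvPolynomial (Fin n) R₀) :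
    Fmap (MvPolynomial (Fin n) R₀) (MvPolynomial (Fin n) R₁) (Fin s) (g • v) =
      (MvPolynomial.map (algebraMap R₀ R₁) g) •
        Fmap (MvPolynomial (Fin n) R₀) (MvPolynomial (Fin n) R₁) (Fin s) v := by
  rw [map_smul, smul_eq_map_smul]

theorem Fmap_C_smul (c : R₀) (v : Fin s → MvPolynomial (Fin n) R₀) :
    Fmap (MvPolynomial (Fin n) R₀) (MvPolynomial (Fin n) R₁) (Fin s)
        ((C c : MvPolynomial (Fin n) R₀) • v) =
      (C (algebraMap R₀ R₁ c) : MvPolynomial (Fin n) R₁) •
        Fmap (MvPolynomial (Fin n) R₀) (MvPolynomial (Fin n) R₁) (Fin s) v := by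
  rw [Fmap_smul_poly, MvPolynomial.map_C]

theorem Fmap_injective (h : Function.Injective (algebraMap R₀ R₁)) :
    Function.Injective (Fmap (MvPolynomial (Fin n) R₀) (MvPolynomial (Fin n) R₁) (Fin s)) := by
  intro x y hxy
  ext i : 1
  have := congrFun hxy i
  rw [Fmap_apply, Fmap_apply, MvPolynomial.algebraMap_def] at this
  exact MvPolynomial.map_injective _ h this

end Smul

section Sat

variable (R K A : Type u) [CommRing R] [IsDomain R] [Field K] [Algebra R K] [IsFractionRing R K]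
  [CommRing A] [IsDomain A] [Algebra A K] [IsFractionRing A K] [Algebra R A]
  [IsScalarTower R A K] {n s : ℕ}
  (KR : Submodule (MvPolynomial (Fin n) R) (Fin s → MvPolynomial (Fin n) R))

/-- The saturation in `A[X]^s` of the image of `KR ⊆ R[X]^s`. -/
def Sat : Submodule (MvPolynomial (Fin n) A) (Fin s → MvPolynomial (Fin n) A) where
  carrier := {v | ∃ c : R, c ≠ 0 ∧ ∃ κ ∈ KR,
    (C (algebraMap R A c) : MvPolynomial (Fin n) A) • v =
      Fmap (MvPolynomial (Fin n) R) (MvPolynomial (Fin n) A) (Fin s) κ}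
  zero_mem' := ⟨1, one_ne_zero, 0, KR.zero_mem, by simp⟩
  add_mem' := by
    rintro v₁ v₂ ⟨c₁, hc₁, κ₁, hκ₁, h₁⟩ ⟨c₂, hc₂, κ₂, hκ₂, h₂⟩
    refine ⟨c₁ * c₂, mul_ne_zero hc₁ hc₂, (C c₂ : MvPolynomial (Fin n) R) • κ₁ +
      (C c₁ : MvPolynomial (Fin n) R) • κ₂,
      KR.add_mem (KR.smul_mem _ hκ₁) (KR.smul_mem _ hκ₂), ?_⟩
    rw [map_add, Fmap_C_smul, Fmap_C_smul, ← h₁, ← h₂, smul_add, smul_smul, smul_smul,
      map_mul, C_mul, mul_comm (C (algebraMap R A c₂))]
  smul_mem' := by
    rintro g v ⟨c, hc, κ, hκ, h⟩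
    obtain ⟨e, he, g₀, hg₀⟩ := exists_denom_poly R K A g
    refine ⟨e * c, mul_ne_zero he hc, g₀ • κ, KR.smul_mem _ hκ, ?_⟩
    rw [Fmap_smul_poly, ← hg₀, ← h, smul_smul, smul_smul, map_mul, C_mul]
    congr 1
    ring

variable {R K A}

theorem mem_Sat {v : Fin s → MvPolynomial (Fin n) A} :
    v ∈ Sat R K A KR ↔ ∃ c : R, c ≠ 0 ∧ ∃ κ ∈ KR,
      (C (algebraMap R A c) : MvPolynomial (Fin n) A) • v =
        Fmap (MvPolynomial (Fin n) R) (MvPolynomial (Fin n) A) (Fin s) κ := Iff.rfl

theorem Fmap_mem_Sat {κ : Fin s → MvPolynomial (Fin n) R} (hκ : κ ∈ KR) :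
    Fmap (MvPolynomial (Fin n) R) (MvPolynomial (Fin n) A) (Fin s) κ ∈ Sat R K A KR :=
  ⟨1, one_ne_zero, κ, hκ, by simp⟩

theorem Sat_saturated (a : A) (ha : a ≠ 0) (x : Fin s → MvPolynomial (Fin n) A)
    (hx : (C a : MvPolynomial (Fin n) A) • x ∈ Sat R K A KR) : x ∈ Sat R K A KR := by
  obtain ⟨c, hc, κ, hκ, h⟩ := hx
  obtain ⟨e, he, r, hr⟩ := exists_denom R K A a
  have hr0 : r ≠ 0 := by
    rintro rfl
    rw [map_zero] at hr
    rcases mul_eq_zero.mp hr with h0 | h0
    · exact he ((map_eq_zero_iff _ (algebraMap_injective R K A)).mp h0)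
    · exact ha h0
  refine ⟨c * r, mul_ne_zero hc hr0, (C e : MvPolynomial (Fin n) R) • κ, KR.smul_mem _ hκ, ?_⟩
  rw [Fmap_C_smul, ← h, smul_smul, smul_smul, map_mul, ← hr, C_mul, C_mul]
  congr 1
  ring

theorem Sat_fg [ValuationRing A] : (Sat R K A KR).FG :=
  Groth.Agent.Lib.Seat52.ValRG.fg_of_saturated A n s _
    (fun a ha x hx => Sat_saturated KR a ha x hx)

theorem flat_quotient_Sat [ValuationRing A] :
    Module.Flat A ((Fin s → MvPolynomial (Fin n) A) ⧸ Sat R K A KR) := by
  rw [Module.Flat.flat_iff_torsion_eq_bot_of_isBezout, Submodule.eq_bot_iff]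
  intro x hx
  obtain ⟨⟨a, ha⟩, hax⟩ := (Submodule.mem_torsion_iff x).mp hx
  obtain ⟨v, rfl⟩ := Submodule.Quotient.mk_surjective _ x
  have ha0 : a ≠ 0 := nonZeroDivisors.ne_zero ha
  have h1 : (C a : MvPolynomial (Fin n) A) • v ∈ Sat R K A KR := by
    rw [← Submodule.Quotient.mk_eq_zero, ← MvPolynomial.algebraMap_eq, algebraMap_smul]
    exact hax
  exact (Submodule.Quotient.mk_eq_zero _).mpr (Sat_saturated KR a ha0 v h1)

end Sat

section Aux

theorem exists_ringHom_lift {T R₁ A : Type*} [CommRing T] [CommRing R₁] [CommRing A]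
    (j : R₁ →+* A) (hj : Function.Injective j) (ι : T →+* A) (h : ∀ t, ι t ∈ Set.range j) :
    ∃ f : T →+* R₁, ∀ t, j (f t) = ι t := by
  choose g hg using h
  refine ⟨{ toFun := g
            map_one' := hj (by rw [hg, map_one, map_one])
            map_mul' := fun x y => hj (by rw [hg, map_mul, map_mul, hg, hg])
            map_zero' := hj (by rw [hg, map_zero, map_zero])
            map_add' := fun x y => hj (by rw [hg, map_add, map_add, hg, hg]) }, hg⟩

theorem injective_of_isBaseChange_of_flat {R₁ A M M' : Type*} [CommRing R₁] [CommRing A]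
    [Algebra R₁ A] (hinj : Function.Injective (algebraMap R₁ A)) [AddCommGroup M] [Module R₁ M]
    [Module.Flat R₁ M] [AddCommGroup M'] [Module R₁ M'] [Module A M'] [IsScalarTower R₁ A M']
    (f : M →ₗ[R₁] M') (hf : IsBaseChange A f) : Function.Injective f := by
  have h1 : Function.Injective (LinearMap.rTensor M (Algebra.linearMap R₁ A)) :=
    Module.Flat.rTensor_preserves_injective_linearMap _ hinj
  intro x y hxy
  have h2 : hf.equiv ((1 : A) ⊗ₜ[R₁] x) = hf.equiv ((1 : A) ⊗ₜ[R₁] y) := by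
    rw [hf.equiv_tmul, hf.equiv_tmul, one_smul, one_smul, hxy]
  have h3 : (1 : A) ⊗ₜ[R₁] x = (1 : A) ⊗ₜ[R₁] y := hf.equiv.injective h2
  have h4 : (1 : R₁) ⊗ₜ[R₁] x = (1 : R₁) ⊗ₜ[R₁] y := by
    apply h1
    rw [LinearMap.rTensor_tmul, LinearMap.rTensor_tmul, Algebra.linearMap_apply, map_one]
    exact h3
  have h5 := congrArg (TensorProduct.lid R₁ M) h4
  simpa using h5

end Aux

section Model

variable {A : Type u} [CommRing A] {n s : ℕ}

/-- A finitely generated submodule of `A[X]^s` is the module of relations `KT w` of a matrix `w`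
with coefficients in a finitely generated subring. -/
theorem exists_model_of_fg (S : Submodule (MvPolynomial (Fin n) A) (Fin s → MvPolynomial (Fin n) A))
    (hS : S.FG) :
    ∃ (m : ℕ) (Λ : Subalgebra ℤ A) (_ : Λ.FG) (cs : Finset A) (_ : Λ = Algebra.adjoin ℤ (cs : Set A))
      (w : Fin m → Fin s → MvPolynomial (Fin n) Λ),
      KT w (MvPolynomial (Fin n) A) = S := by
  classical
  obtain ⟨m, k, hk⟩ := Submodule.fg_iff_exists_fin_generating_family.mp hS
  let cs : Finset A := Finset.univ.biUnion fun j => Finset.univ.biUnion fun i => (k j i).coeffs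
  let Λ : Subalgebra ℤ A := Algebra.adjoin ℤ (cs : Set A)
  have hw : ∀ j i, ∃ f : MvPolynomial (Fin n) Λ,
      MvPolynomial.map (algebraMap Λ A) f = k j i := by
    intro j i
    apply MvPolynomial.mem_range_map_iff_coeffs_subset.mpr
    intro c hc
    refine ⟨⟨c, Algebra.subset_adjoin ?_⟩, rfl⟩
    exact Finset.mem_biUnion.mpr ⟨j, Finset.mem_univ j,
      Finset.mem_biUnion.mpr ⟨i, Finset.mem_univ i, hc⟩⟩
  choose w hw using hw
  have hwT : wT w (MvPolynomial (Fin n) A) = k := by
    ext j i : 2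
    exact hw j i
  refine ⟨m, Λ, Subalgebra.fg_adjoin_finset cs, cs, rfl, w, ?_⟩
  rw [KT, WT, Fintype.range_linearCombination, hwT, hk]

end Model

end Groth.Agent.Lib.Seat52.BlowFlatC
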