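import Mathlib
import Groth.Agent.Lib.Helper3FlatDescD
import Groth.Agent.Lib.Helper3FlatDescE
import Groth.Agent.Lib.Helper3FlatBC
import Groth.Agent.Lib.Seat52BlowFlatB
import Groth.Agent.Lib.Seat52BlowFlatC

/-!
# Seat 52: flattening of the torsion-free quotient at a finite stage below a valuation ring

`R` a domain with fraction field `K`, `A ⊆ K` a valuation ring containing `R`, `N` a finite module
over `R[X₁,…,Xₙ]` with a surjection `π : R[X]^s → N`.  There is a finite subset `F ⊆ A` such that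
for every `R`-algebra `R₁` embedded in `A` and containing `F`, the quotient of `R₁ ⊗[R] N` by its
`R₁`-torsion is flat over `R₁`, the torsion is killed by a single nonzero element of `R`, and the
preimage of the torsion in `R₁[X]^s` is a finitely generated `R₁[X]`-module.

Namespace `Groth.Agent.Lib.Seat52.BlowFlatD`.
-/

set_option autoImplicit false
set_option linter.style.haveILetI false
set_option linter.unusedSectionVars false
universe u

namespace Groth.Agent.Lib.Seat52.BlowFlatD

open TensorProduct MvPolynomial Groth.Agent.Lib.Helper3.FlatDesc Groth.Agent.Lib.Helper3.FlatOpen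
  Groth.Agent.Lib.Helper3.FlatLoc Groth.Agent.Lib.Seat52.BlowFlatB Groth.Agent.Lib.Seat52.BlowFlatC

attribute [local instance] MvPolynomial.algebraMvPolynomial

variable {R K A : Type u} [CommRing R] [IsDomain R] [Field K] [Algebra R K] [IsFractionRing R K]
  [CommRing A] [IsDomain A] [ValuationRing A] [Algebra A K] [IsFractionRing A K] [Algebra R A]
  [IsScalarTower R A K]
  {n s : ℕ} {N : Type u} [AddCommGroup N] [Module (MvPolynomial (Fin n) R) N] [Module R N]
  [IsScalarTower R (MvPolynomial (Fin n) R) N]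

set_option maxHeartbeats 1600000 in
include K in
theorem core (π : (Fin s → MvPolynomial (Fin n) R) →ₗ[MvPolynomial (Fin n) R] N)
    (hπ : Function.Surjective π) :
    ∃ (F : Finset A) (b : R), b ≠ 0 ∧ ∀ (R₁ : Type u) [CommRing R₁] [Algebra R R₁] (j : R₁ →ₐ[R] A),
      Function.Injective j → ((F : Set A) ⊆ Set.range j) →
      Module.Flat R₁ ((R₁ ⊗[R] N) ⧸ Submodule.torsion R₁ (R₁ ⊗[R] N)) ∧
      (∀ z ∈ Submodule.torsion R₁ (R₁ ⊗[R] N), b • z = 0) ∧
      ∃ 𝒦 : Submodule (MvPolynomial (Fin n) R₁) (Fin s → MvPolynomial (Fin n) R₁), 𝒦.FG ∧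
        ∀ v, v ∈ 𝒦 ↔ Theta R₁ π v ∈ Submodule.torsion R₁ (R₁ ⊗[R] N) := by
  classical
  set KR := LinearMap.ker π with hKR
  obtain ⟨m, Λ, hΛ, cs, hΛcs, w, hw⟩ := exists_model_of_fg (Sat R K A KR) (Sat_fg KR)
  haveI : Algebra.FiniteType ℤ Λ := (Subalgebra.fg_iff_finiteType Λ).mp hΛ
  haveI : IsNoetherianRing Λ := Algebra.FiniteType.isNoetherianRing ℤ Λ
  have hflatA : Module.Flat A ((Fin s → MvPolynomial (Fin n) A) ⧸
      KT w (MvPolynomial (Fin n) A)) := by
    rw [hw]
    exact flat_quotient_Sat KR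
  obtain ⟨A'', hA''fg, -, hA''flat⟩ := exists_fg_subalgebra_flat_global w hflatA ∅
  obtain ⟨t, ht⟩ := hA''fg
  -- uniform denominators for the generators
  have hgenA : ∀ i : Fin m, ∃ c : R, c ≠ 0 ∧ ∃ κ ∈ KR,
      (C (algebraMap R A c) : MvPolynomial (Fin n) A) • wT w (MvPolynomial (Fin n) A) i =
        Fmap (MvPolynomial (Fin n) R) (MvPolynomial (Fin n) A) (Fin s) κ := by
    intro i
    have h := wT_mem_KT w (MvPolynomial (Fin n) A) i
    rw [hw] at h
    exact h
  choose c hc κ hκ hcκ using hgenA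
  refine ⟨cs ∪ t, ∏ i, c i, Finset.prod_ne_zero_iff.mpr fun i _ => hc i, ?_⟩
  intro R₁ _ _ j hj hF
  haveI : IsDomain R₁ := hj.isDomain j.toRingHom
  -- `Λ ⊆ range j`
  have hΛr : ∀ l : Λ, algebraMap Λ A l ∈ Set.range j := by
    have hle : Λ ≤ subalgebraOfSubring j.toRingHom.range := by
      rw [hΛcs]
      refine Algebra.adjoin_le fun c hc => ?_
      exact hF (by simp [Finset.mem_coe.mp hc])
    intro l
    exact hle l.2
  obtain ⟨fΛ, hfΛ⟩ := exists_ringHom_lift j.toRingHom hj (algebraMap Λ A) hΛr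
  letI : Algebra Λ R₁ := fΛ.toAlgebra
  letI : Algebra R₁ A := j.toRingHom.toAlgebra
  haveI : IsScalarTower Λ R₁ A := IsScalarTower.of_algebraMap_eq (fun l => (hfΛ l).symm)
  haveI : IsScalarTower R R₁ A := IsScalarTower.of_algebraMap_eq (fun r => (j.commutes r).symm)
  have hjA : Function.Injective (algebraMap R₁ A) := hj
  -- `A'' ⊆ range j`
  have hA''r : ∀ x : A'', algebraMap A'' A x ∈ Set.range j := by
    have key : ∀ x ∈ Algebra.adjoin Λ (t : Set A), x ∈ Set.range j := by
      intro x hx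
      induction hx using Algebra.adjoin_induction with
      | mem y hy => exact hF (by simp [Finset.mem_coe.mp hy])
      | algebraMap l => exact hΛr l
      | add a b _ _ ha hb =>
        obtain ⟨a', rfl⟩ := ha
        obtain ⟨b', rfl⟩ := hb
        exact ⟨a' + b', map_add j _ _⟩
      | mul a b _ _ ha hb =>
        obtain ⟨a', rfl⟩ := ha
        obtain ⟨b', rfl⟩ := hb
        exact ⟨a' * b', map_mul j _ _⟩
    rintro ⟨x, hx⟩
    exact key x (ht ▸ hx)
  obtain ⟨f'', hf''⟩ := exists_ringHom_lift j.toRingHom hj (algebraMap A'' A) hA''r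
  let ψ : A'' →ₐ[Λ] R₁ :=
    { f'' with
      commutes' := fun l => hj (by
        show j (f'' (algebraMap Λ A'' l)) = j (fΛ l)
        have h1 := hf'' (algebraMap Λ A'' l)
        have h2 := hfΛ l
        simp only [AlgHom.toRingHom_eq_coe, RingHom.coe_coe] at h1 h2
        rw [h1, h2]
        rfl) }
  have hflat₁ : Module.Flat R₁ ((Fin s → MvPolynomial (Fin n) R₁) ⧸
      KT w (MvPolynomial (Fin n) R₁)) := flat_model_of_algHom w ψ hA''flat
  -- injectivity of the comparison map to level `A`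
  haveI := isScalarTower_mvPolynomial (σ := Fin n) Λ R₁ A
  haveI := isScalarTower_mvPolynomial (σ := Fin n) R R₁ A
  have hb : IsBaseChange A ((Mmap w (MvPolynomial (Fin n) R₁)
      (MvPolynomial (Fin n) A)).restrictScalars R₁) :=
    isBaseChange_restrictScalars_of_isPushout _ (isBaseChange_Mmap w _ _)
  have hMinj : Function.Injective (Mmap w (MvPolynomial (Fin n) R₁) (MvPolynomial (Fin n) A)) :=
    injective_of_isBaseChange_of_flat (R₁ := R₁) (A := A) hjA _ hb
  have hFF : ∀ κ : Fin s → MvPolynomial (Fin n) R,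
      Fmap (MvPolynomial (Fin n) R₁) (MvPolynomial (Fin n) A) (Fin s)
        (Fmap (MvPolynomial (Fin n) R) (MvPolynomial (Fin n) R₁) (Fin s) κ) =
      Fmap (MvPolynomial (Fin n) R) (MvPolynomial (Fin n) A) (Fin s) κ :=
    fun κ => Fmap_Fmap _ _ _ _ κ
  have hK₁ : ∀ v : Fin s → MvPolynomial (Fin n) R₁, v ∈ KT w (MvPolynomial (Fin n) R₁) ↔
      Fmap (MvPolynomial (Fin n) R₁) (MvPolynomial (Fin n) A) (Fin s) v ∈ Sat R K A KR := by
    intro v
    constructor
    · intro hv
      rw [← hw]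
      exact Fmap_mem_KT w _ _ hv
    · intro hv
      rw [← hw, ← Submodule.Quotient.mk_eq_zero, ← Mmap_mk] at hv
      have := hMinj (hv.trans (map_zero _).symm)
      exact (Submodule.Quotient.mk_eq_zero _).mp this
  have hCsm : ∀ (r : R₁) (v : Fin s → MvPolynomial (Fin n) R₁),
      r • v = (C r : MvPolynomial (Fin n) R₁) • v := by
    intro r v
    rw [← MvPolynomial.algebraMap_eq, algebraMap_smul]
  -- a nonzero multiple of an element of `𝒦` comes from `KR`
  have hstar : ∀ v ∈ KT w (MvPolynomial (Fin n) R₁), ∃ c : R, c ≠ 0 ∧ ∃ κ ∈ KR,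
      (C (algebraMap R R₁ c) : MvPolynomial (Fin n) R₁) • v =
        Fmap (MvPolynomial (Fin n) R) (MvPolynomial (Fin n) R₁) (Fin s) κ := by
    intro v hv
    obtain ⟨c, hc, κ, hκ, h⟩ := (hK₁ v).mp hv
    refine ⟨c, hc, κ, hκ, ?_⟩
    apply Fmap_injective (R₀ := R₁) (R₁ := A) hjA
    rw [Fmap_C_smul, hFF, ← h, ← IsScalarTower.algebraMap_apply]
  have hc0 : ∀ c : R, c ≠ 0 → algebraMap R R₁ c ≠ 0 := by
    intro c hc h0
    have : algebraMap R A c = 0 := by
      rw [IsScalarTower.algebraMap_apply R R₁ A, h0, map_zero]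
    exact hc ((map_eq_zero_iff _ (algebraMap_injective R K A)).mp this)
  have hT : ∀ v : Fin s → MvPolynomial (Fin n) R₁, v ∈ KT w (MvPolynomial (Fin n) R₁) ↔
      Theta R₁ π v ∈ Submodule.torsion R₁ (R₁ ⊗[R] N) := by
    intro v
    constructor
    · intro hv
      obtain ⟨c, hc, κ, hκ, h⟩ := hstar v hv
      rw [Submodule.mem_torsion_iff]
      refine ⟨⟨algebraMap R R₁ c, mem_nonZeroDivisors_of_ne_zero (hc0 c hc)⟩, ?_⟩
      show algebraMap R R₁ c • Theta R₁ π v = 0
      rw [← map_smul, hCsm, h, Theta_Fmap]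
      have : π κ = 0 := hκ
      rw [this, TensorProduct.tmul_zero]
    · intro hv
      rw [hK₁]
      obtain ⟨⟨r₁, hr₁⟩, hr⟩ := (Submodule.mem_torsion_iff _).mp hv
      have h0 : Theta R₁ π (r₁ • v) = 0 := by
        rw [map_smul]
        exact hr
      have h1 := mem_span_of_Theta_eq_zero R₁ π hπ _ h0
      have h2 : ∀ x ∈ Submodule.span R₁
          (Fmap (MvPolynomial (Fin n) R) (MvPolynomial (Fin n) R₁) (Fin s) ''
            (LinearMap.ker π : Set (Fin s → MvPolynomial (Fin n) R))),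
          Fmap (MvPolynomial (Fin n) R₁) (MvPolynomial (Fin n) A) (Fin s) x ∈ Sat R K A KR := by
        intro x hx
        induction hx using Submodule.span_induction with
        | mem y hy =>
          obtain ⟨κ, hκ, rfl⟩ := hy
          rw [hFF]
          exact Fmap_mem_Sat KR hκ
        | zero =>
          rw [map_zero]
          exact zero_mem _
        | add a b _ _ ha hb =>
          rw [map_add]
          exact add_mem ha hb
        | smul r a _ ha =>
          rw [hCsm, Fmap_C_smul]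
          exact Submodule.smul_mem _ _ ha
      have h3 := h2 _ h1
      rw [hCsm, Fmap_C_smul] at h3
      refine Sat_saturated KR _ ?_ _ h3
      intro h0'
      exact (nonZeroDivisors.ne_zero hr₁) (hjA (h0'.trans (map_zero _).symm))
  refine ⟨?_, ?_, KT w (MvPolynomial (Fin n) R₁), ?_, hT⟩
  · -- flatness
    let Θb : (Fin s → MvPolynomial (Fin n) R₁) →ₗ[R₁]
        (R₁ ⊗[R] N) ⧸ Submodule.torsion R₁ (R₁ ⊗[R] N) :=
      (Submodule.mkQ _) ∘ₗ Theta R₁ π
    have hsurj : Function.Surjective Θb :=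
      (Submodule.mkQ_surjective _).comp (Theta_surjective R₁ π hπ)
    have hker : LinearMap.ker Θb = (KT w (MvPolynomial (Fin n) R₁)).restrictScalars R₁ := by
      ext v
      rw [LinearMap.mem_ker, Submodule.restrictScalars_mem, hT]
      show Submodule.Quotient.mk (Theta R₁ π v) = 0 ↔ _
      rw [Submodule.Quotient.mk_eq_zero]
    let e : ((Fin s → MvPolynomial (Fin n) R₁) ⧸ KT w (MvPolynomial (Fin n) R₁)) ≃ₗ[R₁]
        (R₁ ⊗[R] N) ⧸ Submodule.torsion R₁ (R₁ ⊗[R] N) :=
      (Submodule.Quotient.restrictScalarsEquiv R₁ (KT w (MvPolynomial (Fin n) R₁))).symm ≪≫ₗ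
        (Submodule.quotEquivOfEq _ _ hker.symm) ≪≫ₗ Θb.quotKerEquivOfSurjective hsurj
    exact Module.Flat.of_linearEquiv e.symm
  · -- a uniform denominator
    have hcΘ : ∀ i : Fin m,
        Theta R₁ π ((C (algebraMap R R₁ (c i)) : MvPolynomial (Fin n) R₁) •
          wT w (MvPolynomial (Fin n) R₁) i) = 0 := by
      intro i
      have h : (C (algebraMap R R₁ (c i)) : MvPolynomial (Fin n) R₁) •
          wT w (MvPolynomial (Fin n) R₁) i =
          Fmap (MvPolynomial (Fin n) R) (MvPolynomial (Fin n) R₁) (Fin s) (κ i) := by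
        apply Fmap_injective (R₀ := R₁) (R₁ := A) hjA
        rw [Fmap_C_smul, hFF, Fmap_wT, ← hcκ i, ← IsScalarTower.algebraMap_apply]
      rw [h, Theta_Fmap]
      have : π (κ i) = 0 := hκ i
      rw [this, TensorProduct.tmul_zero]
    intro z hz
    obtain ⟨v, rfl⟩ := Theta_surjective R₁ π hπ z
    obtain ⟨a, rfl⟩ := (hT v).mpr hz
    rw [← algebraMap_smul R₁ (∏ i, c i) (Theta R₁ π _), ← map_smul, WT_apply, Finset.smul_sum,
      map_sum]
    refine Finset.sum_eq_zero fun i _ => ?_
    have h1 : algebraMap R R₁ (∏ i, c i) • a i • wT w (MvPolynomial (Fin n) R₁) i =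
        (a i * C (algebraMap R R₁ (∏ k ∈ Finset.univ.erase i, c k))) •
          ((C (algebraMap R R₁ (c i)) : MvPolynomial (Fin n) R₁) •
            wT w (MvPolynomial (Fin n) R₁) i) := by
      rw [hCsm, smul_smul, smul_smul]
      congr 1
      rw [← Finset.mul_prod_erase Finset.univ c (Finset.mem_univ i), map_mul, C_mul]
      ring
    rw [h1]
    exact Theta_smul_eq_zero R₁ π hπ _ _ (hcΘ i)
  · -- finite generation
    rw [KT, LinearMap.range_eq_map]
    exact Submodule.FG.map _ Module.Finite.fg_top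

end Groth.Agent.Lib.Seat52.BlowFlatD
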