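import Mathlib
import Groth.Prelude.Def_BlowUp2

/-!
# The affine blow-up algebra `A[I/a]`: pure algebra (seat 82)

Namespace `Groth.Agent.Lib.Seat82.BlowUpAlg`.  `B = BlowUp.affineAlgebra A I a ⊆ A_a`.
* `frac I a x hx : B`, the fraction `x/a` for `x ∈ I`; `frac_mul : x/a * a = x`.
* `algebraMap_mem_nonZeroDivisors`: `a` is a nonzerodivisor of `B`.
* `map_eq_span`: `I·B = (a)` when `a ∈ I`.
* `existsUnique_lift`: universal property: a ring map `ψ : A → C` with `ψ a` a nonzerodivisor dividing `ψ x` for all
  `x ∈ I` extends uniquely to `B`.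
* `ringHom_ext`: ring maps out of `B` are determined by their restriction to `A` when `a` goes to a nonzerodivisor.
* `mapSurj`, `mapSurj_surjective`: for a surjection `π : A → A'`, the induced `A[I/a] → A'[I A'/π a]` is surjective.
-/

set_option autoImplicit false
universe u v
open nonZeroDivisors

namespace Groth.Agent.Lib.Seat82.BlowUpAlg

variable {A : Type u} [CommRing A] (I : Ideal A) (a : A)

/-- the fraction `x/a` of `A[I/a]`, for `x ∈ I`. -/
noncomputable def frac (x : A) (hx : x ∈ I) : BlowUp.affineAlgebra A I a :=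
  ⟨IsLocalization.mk' (Localization.Away a) x ⟨a, Submonoid.mem_powers a⟩,
    Algebra.subset_adjoin ⟨x, hx, rfl⟩⟩

theorem frac_mul (x : A) (hx : x ∈ I) :
    frac I a x hx * algebraMap A (BlowUp.affineAlgebra A I a) a =
      algebraMap A (BlowUp.affineAlgebra A I a) x := by
  apply Subtype.ext
  show IsLocalization.mk' (Localization.Away a) x ⟨a, Submonoid.mem_powers a⟩ *
    algebraMap A (Localization.Away a) a = algebraMap A (Localization.Away a) x
  exact IsLocalization.mk'_spec (Localization.Away a) x ⟨a, Submonoid.mem_powers a⟩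

theorem algebraMap_mem_nonZeroDivisors :
    algebraMap A (BlowUp.affineAlgebra A I a) a ∈ (BlowUp.affineAlgebra A I a)⁰ := by
  rw [mem_nonZeroDivisors_iff_right]
  intro z hz
  apply Subtype.ext
  have h : (z : Localization.Away a) * algebraMap A (Localization.Away a) a = 0 :=
    congrArg Subtype.val hz
  have hu : IsUnit (algebraMap A (Localization.Away a) a) :=
    IsLocalization.Away.algebraMap_isUnit a
  exact (hu.mul_left_eq_zero).mp h

theorem map_eq_span (ha : a ∈ I) :
    Ideal.map (algebraMap A (BlowUp.affineAlgebra A I a)) I =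
      Ideal.span {algebraMap A (BlowUp.affineAlgebra A I a) a} := by
  apply le_antisymm
  · rw [Ideal.map_le_iff_le_comap]
    intro x hx
    rw [Ideal.mem_comap, Ideal.mem_span_singleton']
    exact ⟨frac I a x hx, frac_mul I a x hx⟩
  · rw [Ideal.span_le, Set.singleton_subset_iff]
    exact Ideal.mem_map_of_mem _ ha

/-- induction principle for `A[I/a]`. -/
theorem induction_on {P : BlowUp.affineAlgebra A I a → Prop}
    (hfrac : ∀ x (hx : x ∈ I), P (frac I a x hx))
    (halg : ∀ r : A, P (algebraMap A _ r))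
    (hadd : ∀ x y, P x → P y → P (x + y)) (hmul : ∀ x y, P x → P y → P (x * y))
    (b : BlowUp.affineAlgebra A I a) : P b := by
  obtain ⟨b, hb⟩ := b
  induction hb using Algebra.adjoin_induction with
  | mem x hx =>
    obtain ⟨y, hy, rfl⟩ := hx
    exact hfrac y hy
  | algebraMap r => exact halg r
  | add x y hx hy hPx hPy => exact hadd ⟨x, hx⟩ ⟨y, hy⟩ hPx hPy
  | mul x y hx hy hPx hPy => exact hmul ⟨x, hx⟩ ⟨y, hy⟩ hPx hPy

theorem ringHom_ext {C : Type v} [CommRing C] (η η' : BlowUp.affineAlgebra A I a →+* C)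
    (hnz : η (algebraMap A _ a) ∈ C⁰)
    (h : η.comp (algebraMap A _) = η'.comp (algebraMap A _)) : η = η' := by
  have hA : ∀ r : A, η (algebraMap A _ r) = η' (algebraMap A _ r) :=
    fun r => RingHom.congr_fun h r
  ext b
  induction b using induction_on I a with
  | hfrac x hx =>
    have h1 : η (frac I a x hx) * η (algebraMap A _ a) = η (algebraMap A _ x) := by
      rw [← map_mul, frac_mul]
    have h2 : η' (frac I a x hx) * η (algebraMap A _ a) = η (algebraMap A _ x) := by
      rw [hA a, ← map_mul, frac_mul, hA x]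
    have h3 : (η (frac I a x hx) - η' (frac I a x hx)) * η (algebraMap A _ a) = 0 := by
      rw [sub_mul, h1, h2, sub_self]
    exact sub_eq_zero.mp ((mem_nonZeroDivisors_iff_right.mp hnz) _ h3)
  | halg r => exact hA r
  | hadd x y hx hy => rw [map_add, map_add, hx, hy]
  | hmul x y hx hy => rw [map_mul, map_mul, hx, hy]

/-- Universal property of the affine blow-up algebra. -/
theorem existsUnique_lift {C : Type u} [CommRing C] (ψ : A →+* C) (hnz : ψ a ∈ C⁰)
    (hI : ∀ x ∈ I, ∃ t : C, t * ψ a = ψ x) :
    ∃! η : BlowUp.affineAlgebra A I a →+* C, η.comp (algebraMap A _) = ψ := by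
  let C' := Localization.Away (ψ a)
  let ι : C →+* C' := algebraMap C C'
  have hinj : Function.Injective ι :=
    IsLocalization.injective C' (M := Submonoid.powers (ψ a))
      (Submonoid.powers_le.mpr hnz)
  let φ : Localization.Away a →+* C' :=
    IsLocalization.Away.map (Localization.Away a) C' ψ a
  have hφ : ∀ r : A, φ (algebraMap A _ r) = ι (ψ r) := fun r => IsLocalization.map_eq _ r
  have hmem : ∀ b : BlowUp.affineAlgebra A I a, ∃ c : C, ι c = φ b.1 := by
    intro b
    induction b using induction_on I a with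
    | hfrac x hx =>
      obtain ⟨t, ht⟩ := hI x hx
      refine ⟨t, ?_⟩
      show ι t = φ (IsLocalization.mk' (Localization.Away a) x ⟨a, Submonoid.mem_powers a⟩)
      have h1 : φ (IsLocalization.mk' (Localization.Away a) x ⟨a, Submonoid.mem_powers a⟩) *
          ι (ψ a) = ι (ψ x) := by
        rw [← hφ a, ← map_mul, IsLocalization.mk'_spec, hφ]
      have hu : IsUnit (ι (ψ a)) := IsLocalization.Away.algebraMap_isUnit (ψ a)
      apply hu.mul_left_injective
      show ι t * ι (ψ a) = _ * ι (ψ a)
      rw [h1, ← map_mul, ht]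
    | halg r => exact ⟨ψ r, (hφ r).symm⟩
    | hadd x y hx hy =>
      obtain ⟨c, hc⟩ := hx
      obtain ⟨d, hd⟩ := hy
      exact ⟨c + d, by rw [map_add, hc, hd]; exact (map_add φ _ _).symm⟩
    | hmul x y hx hy =>
      obtain ⟨c, hc⟩ := hx
      obtain ⟨d, hd⟩ := hy
      exact ⟨c * d, by rw [map_mul, hc, hd]; exact (map_mul φ _ _).symm⟩
  choose η hη using hmem
  let η' : BlowUp.affineAlgebra A I a →+* C :=
    { toFun := η
      map_one' := hinj (by rw [hη, map_one]; exact map_one φ)
      map_mul' := fun x y => hinj (by rw [hη, map_mul, hη, hη]; exact map_mul φ _ _)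
      map_zero' := hinj (by rw [hη, map_zero]; exact map_zero φ)
      map_add' := fun x y => hinj (by rw [hη, map_add, hη, hη]; exact map_add φ _ _) }
  have hη' : η'.comp (algebraMap A _) = ψ := by
    ext r
    apply hinj
    show ι (η (algebraMap A _ r)) = ι (ψ r)
    rw [hη]
    exact hφ r
  refine ⟨η', hη', fun η'' h'' => ?_⟩
  apply ringHom_ext I a
  · have : η'' (algebraMap A _ a) = ψ a := RingHom.congr_fun h'' a
    rw [this]; exact hnz
  · rw [h'', hη']

section Surj

variable {A' : Type u} [CommRing A'] (π : A →+* A') (hπ : Function.Surjective π)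

/-- the map `A[I/a] → A'[I A'/π a]` induced by `π : A → A'`. -/
noncomputable def mapSurj :
    BlowUp.affineAlgebra A I a →+* BlowUp.affineAlgebra A' (I.map π) (π a) :=
  (existsUnique_lift I a ((algebraMap A' (BlowUp.affineAlgebra A' (I.map π) (π a))).comp π)
    (algebraMap_mem_nonZeroDivisors (I.map π) (π a))
    (fun x hx => ⟨frac (I.map π) (π a) (π x) (Ideal.mem_map_of_mem π hx),
      frac_mul (I.map π) (π a) (π x) _⟩)).exists.choose

theorem mapSurj_algebraMap (r : A) :
    mapSurj I a π (algebraMap A _ r) = algebraMap A' _ (π r) :=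
  RingHom.congr_fun (existsUnique_lift I a
    ((algebraMap A' (BlowUp.affineAlgebra A' (I.map π) (π a))).comp π)
    (algebraMap_mem_nonZeroDivisors (I.map π) (π a))
    (fun x hx => ⟨frac (I.map π) (π a) (π x) (Ideal.mem_map_of_mem π hx),
      frac_mul (I.map π) (π a) (π x) _⟩)).exists.choose_spec r

theorem mapSurj_frac (x : A) (hx : x ∈ I) :
    mapSurj I a π (frac I a x hx) = frac (I.map π) (π a) (π x) (Ideal.mem_map_of_mem π hx) := by
  have hnz := algebraMap_mem_nonZeroDivisors (I.map π) (π a)
  have h1 : mapSurj I a π (frac I a x hx) * algebraMap A' _ (π a) = algebraMap A' _ (π x) := by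
    rw [← mapSurj_algebraMap, ← map_mul, frac_mul, mapSurj_algebraMap]
  have h2 := frac_mul (I.map π) (π a) (π x) (Ideal.mem_map_of_mem π hx)
  have h3 : (mapSurj I a π (frac I a x hx) -
      frac (I.map π) (π a) (π x) (Ideal.mem_map_of_mem π hx)) * algebraMap A' _ (π a) = 0 := by
    rw [sub_mul, h1, h2, sub_self]
  exact sub_eq_zero.mp ((mem_nonZeroDivisors_iff_right.mp hnz) _ h3)

include hπ in
theorem mapSurj_surjective : Function.Surjective (mapSurj I a π) := by
  intro b
  induction b using induction_on (I.map π) (π a) with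
  | hfrac y hy =>
    obtain ⟨x, hx, rfl⟩ := (Ideal.mem_map_iff_of_surjective π hπ).mp hy
    exact ⟨frac I a x hx, mapSurj_frac I a π x hx⟩
  | halg r =>
    obtain ⟨r, rfl⟩ := hπ r
    exact ⟨algebraMap A _ r, mapSurj_algebraMap I a π r⟩
  | hadd x y hx hy =>
    obtain ⟨c, rfl⟩ := hx
    obtain ⟨d, rfl⟩ := hy
    exact ⟨c + d, map_add _ _ _⟩
  | hmul x y hx hy =>
    obtain ⟨c, rfl⟩ := hx
    obtain ⟨d, rfl⟩ := hy
    exact ⟨c * d, map_mul _ _ _⟩

end Surj

end Groth.Agent.Lib.Seat82.BlowUpAlg
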