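import Mathlib
import Groth.Prelude.Def_BlowUp2
import Groth.Agent.Lib.Seat82BlowUpAlg
import Groth.Agent.Lib.Seat52BlowFlatC

/-!
# Seat 52: affine blow-up algebras of a local domain inside a dominating valuation ring

`R` a local domain with fraction field `K`, `A ⊆ K` a ring containing `R` with fraction field `K`.
A pair `(I, a)` is *admissible* if `I ⊆ 𝔪` is finitely generated, `0 ≠ a ∈ I` and `I ⊆ a A`.

* `exists_pair`: every finite subset of `A` consists of fractions `x / a`, `x ∈ I`, for some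
  admissible pair (if `𝔪 ≠ 0`).
* `Adm.smul`: `(bI, ba)` is admissible if `(I, a)` is, with the same fractions.
* `exists_algHom`: for an admissible pair, `R[I/a]` embeds into `A`, the image containing the
  fractions `x / a`.

Namespace `Groth.Agent.Lib.Seat52.BlowFlatE`.
-/

set_option autoImplicit false
set_option linter.style.haveILetI false
set_option linter.unusedSectionVars false
universe u

namespace Groth.Agent.Lib.Seat52.BlowFlatE

open Groth.Agent.Lib.Seat52.BlowFlatC Groth.Agent.Lib.Seat82.BlowUpAlg nonZeroDivisors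

variable (R K A : Type u) [CommRing R] [IsDomain R] [Field K] [Algebra R K] [IsFractionRing R K]
  [CommRing A] [IsDomain A] [Algebra A K] [IsFractionRing A K] [Algebra R A]
  [IsScalarTower R A K]

/-- the ideal of elements of `R` divisible by `a` in `A`. -/
def divIdeal (a : R) : Ideal R where
  carrier := {x | ∃ y : A, y * algebraMap R A a = algebraMap R A x}
  zero_mem' := ⟨0, by simp⟩
  add_mem' := by
    rintro x₁ x₂ ⟨y₁, h₁⟩ ⟨y₂, h₂⟩
    exact ⟨y₁ + y₂, by rw [add_mul, h₁, h₂, map_add]⟩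
  smul_mem' := by
    rintro r x ⟨y, h⟩
    exact ⟨algebraMap R A r * y, by rw [mul_assoc, h, smul_eq_mul, map_mul]⟩

variable {R A}

theorem mem_divIdeal {a x : R} :
    x ∈ divIdeal R A a ↔ ∃ y : A, y * algebraMap R A a = algebraMap R A x := Iff.rfl

variable (A) in
/-- admissible pairs -/
def Adm [IsLocalRing R] (I : Ideal R) (a : R) : Prop :=
  I.FG ∧ I ≤ IsLocalRing.maximalIdeal R ∧ a ∈ I ∧ a ≠ 0 ∧ I ≤ divIdeal R A a

variable (A) in
/-- the fraction `y` is of the form `x / a` with `x ∈ I`. -/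
def IsFrac (I : Ideal R) (a : R) (y : A) : Prop :=
  ∃ x ∈ I, y * algebraMap R A a = algebraMap R A x

theorem Adm.smul [IsLocalRing R] {I : Ideal R} {a : R} (h : Adm A I a) {b : R} (hb : b ≠ 0) :
    Adm A (Ideal.span {b} * I) (b * a) := by
  obtain ⟨hfg, hle, ha, ha0, hdiv⟩ := h
  refine ⟨Submodule.FG.mul (Submodule.fg_span_singleton b) hfg, Ideal.mul_le_right.trans hle,
    Ideal.mul_mem_mul (Ideal.mem_span_singleton_self b) ha, mul_ne_zero hb ha0, ?_⟩
  rw [Ideal.mul_le]
  intro p hp q hq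
  obtain ⟨u, rfl⟩ := Ideal.mem_span_singleton'.mp hp
  obtain ⟨y, hy⟩ := hdiv hq
  refine ⟨algebraMap R A u * y, ?_⟩
  rw [map_mul, map_mul, map_mul, ← hy]
  ring

theorem IsFrac.smul {I : Ideal R} {a : R} {y : A} (h : IsFrac A I a y) (b : R) :
    IsFrac A (Ideal.span {b} * I) (b * a) y := by
  obtain ⟨x, hx, hy⟩ := h
  refine ⟨b * x, Ideal.mul_mem_mul (Ideal.mem_span_singleton_self b) hx, ?_⟩
  rw [map_mul, map_mul, ← hy]
  ring

include K in
theorem exists_pair [IsLocalRing R] (hm : IsLocalRing.maximalIdeal R ≠ ⊥) (F : Finset A) :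
    ∃ (I : Ideal R) (a : R), Adm A I a ∧ ∀ y ∈ F, IsFrac A I a y := by
  classical
  induction F using Finset.induction_on with
  | empty =>
    obtain ⟨t, ht, ht0⟩ := Submodule.exists_mem_ne_zero_of_ne_bot hm
    refine ⟨Ideal.span {t}, t, ⟨Submodule.fg_span_singleton t, ?_, Ideal.mem_span_singleton_self t,
      ht0, ?_⟩, by simp⟩
    · rw [Ideal.span_le, Set.singleton_subset_iff]
      exact ht
    · rw [Ideal.span_le, Set.singleton_subset_iff]
      exact ⟨1, by simp⟩
  | insert y₀ F _ ih =>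
    obtain ⟨I, a, hadm, hF⟩ := ih
    obtain ⟨c, hc, r, hr⟩ := exists_denom R K A y₀
    have hadm' := hadm.smul (b := c) hc
    obtain ⟨hfg, hle, ha, ha0, hdiv⟩ := hadm'
    have hra : r * a ∈ divIdeal R A (c * a) := ⟨y₀, by rw [map_mul, map_mul, ← hr]; ring⟩
    refine ⟨Ideal.span {c} * I ⊔ Ideal.span {r * a}, c * a,
      ⟨Submodule.FG.sup hfg (Submodule.fg_span_singleton _), sup_le hle ?_,
        Ideal.mem_sup_left ha, ha0, sup_le hdiv ?_⟩, ?_⟩
    · rw [Ideal.span_le, Set.singleton_subset_iff]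
      exact Ideal.mul_mem_left _ _ (hadm.2.1 hadm.2.2.1)
    · rw [Ideal.span_le, Set.singleton_subset_iff]
      exact hra
    · intro y hy
      rcases Finset.mem_insert.mp hy with rfl | hy
      · exact ⟨r * a, Ideal.mem_sup_right (Ideal.mem_span_singleton_self _), by
          rw [map_mul, map_mul, ← hr]; ring⟩
      · obtain ⟨x, hx, hxy⟩ := (hF y hy).smul c
        exact ⟨x, Ideal.mem_sup_left hx, hxy⟩

theorem exists_pow_mul_eq (I : Ideal R) (a : R) (z : BlowUp.affineAlgebra R I a) :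
    ∃ (k : ℕ) (r : R), z * (algebraMap R (BlowUp.affineAlgebra R I a) a) ^ k =
      algebraMap R (BlowUp.affineAlgebra R I a) r := by
  induction z using induction_on I a with
  | hfrac x hx => exact ⟨1, x, by rw [pow_one, frac_mul]⟩
  | halg r => exact ⟨0, r, by rw [pow_zero, mul_one]⟩
  | hadd z₁ z₂ h₁ h₂ =>
    obtain ⟨k₁, r₁, h₁⟩ := h₁
    obtain ⟨k₂, r₂, h₂⟩ := h₂
    refine ⟨k₁ + k₂, r₁ * a ^ k₂ + r₂ * a ^ k₁, ?_⟩
    rw [map_add, map_mul, map_mul, map_pow, map_pow, ← h₁, ← h₂, pow_add]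
    ring
  | hmul z₁ z₂ h₁ h₂ =>
    obtain ⟨k₁, r₁, h₁⟩ := h₁
    obtain ⟨k₂, r₂, h₂⟩ := h₂
    refine ⟨k₁ + k₂, r₁ * r₂, ?_⟩
    rw [map_mul, ← h₁, ← h₂, pow_add]
    ring

include K in
theorem exists_algHom [IsLocalRing R] {I : Ideal R} {a : R} (h : Adm A I a) :
    ∃ η : BlowUp.affineAlgebra R I a →ₐ[R] A, Function.Injective η ∧
      ∀ y : A, IsFrac A I a y → y ∈ Set.range η := by
  have hinjRA := algebraMap_injective R K A
  have ha0A : algebraMap R A a ≠ 0 := fun h0 => h.2.2.2.1 ((map_eq_zero_iff _ hinjRA).mp h0)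
  have hnz : algebraMap R A a ∈ A⁰ := mem_nonZeroDivisors_of_ne_zero ha0A
  obtain ⟨η, hη, -⟩ := existsUnique_lift I a (algebraMap R A) hnz (fun x hx => h.2.2.2.2 hx)
  have hηr : ∀ r : R, η (algebraMap R _ r) = algebraMap R A r := fun r => RingHom.congr_fun hη r
  let η' : BlowUp.affineAlgebra R I a →ₐ[R] A := { η with commutes' := hηr }
  have hη' : ∀ z, η' z = η z := fun _ => rfl
  refine ⟨η', ?_, ?_⟩
  · rw [injective_iff_map_eq_zero]
    intro z hz
    obtain ⟨k, r, hk⟩ := exists_pow_mul_eq I a z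
    have h1 : algebraMap R A r = 0 := by
      rw [← hηr, ← hk, map_mul, ← hη', hz, zero_mul]
    have h2 : r = 0 := (map_eq_zero_iff _ hinjRA).mp h1
    rw [h2, map_zero] at hk
    have hnzk := pow_mem (algebraMap_mem_nonZeroDivisors I a) k
    exact (mem_nonZeroDivisors_iff_right.mp hnzk) z hk
  · rintro y ⟨x, hx, hy⟩
    refine ⟨frac I a x hx, ?_⟩
    have h1 : η (frac I a x hx) * algebraMap R A a = algebraMap R A x := by
      rw [← hηr a, ← map_mul, frac_mul, hηr]
    rw [hη']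
    exact mul_right_cancel₀ ha0A (h1.trans hy.symm)

end Groth.Agent.Lib.Seat52.BlowFlatE
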