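import Mathlib
import Groth.Prelude.Def_BlowUp2
import Groth.Prelude.Def_FlatCA
import Groth.Agent.Lib.Seat52BlowFlatD
import Groth.Agent.Lib.Seat52BlowFlatE

/-!
# Seat 52: flattening by an affine blow-up along a valuation ring (S6930)

Namespace `Groth.Agent.Lib.Seat52.BlowFlatF`.
-/

set_option autoImplicit false
set_option linter.style.haveILetI false
set_option linter.unusedSectionVars false
universe u

namespace Groth.Agent.Lib.Seat52.BlowFlatF

open TensorProduct MvPolynomial Groth.Agent.Lib.Helper3.FlatDesc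
  Groth.Agent.Lib.Seat52.BlowFlatB Groth.Agent.Lib.Seat52.BlowFlatC
  Groth.Agent.Lib.Seat52.BlowFlatD Groth.Agent.Lib.Seat52.BlowFlatE

attribute [local instance] MvPolynomial.algebraMvPolynomial

section PowTorsion

theorem mem_powTorsion {S : Type u} [CommRing S] (x : S) {M : Type u} [AddCommGroup M] [Module S M]
    (z : M) : z ∈ FlatCA.powTorsion S x M ↔ ∃ k : ℕ, x ^ k • z = 0 := by
  unfold FlatCA.powTorsion
  rw [Submodule.mem_iSup_of_directed]
  · simp only [Submodule.mem_torsionBy_iff]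
  · intro k l
    refine ⟨k + l, ?_, ?_⟩
    · intro z hz
      rw [Submodule.mem_torsionBy_iff] at hz ⊢
      rw [pow_add, mul_comm, mul_smul, hz, smul_zero]
    · intro z hz
      rw [Submodule.mem_torsionBy_iff] at hz ⊢
      rw [pow_add, mul_smul, hz, smul_zero]

theorem powTorsion_eq_torsion {R R₁ X : Type u} [CommRing R] [CommRing R₁] [IsDomain R₁]
    [Algebra R R₁] [AddCommGroup X] [Module R X] [Module R₁ X] [IsScalarTower R R₁ X]
    (a : R) (ha : algebraMap R R₁ a ≠ 0) (hkill : ∀ z ∈ Submodule.torsion R₁ X, a • z = 0) :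
    FlatCA.powTorsion R₁ (algebraMap R R₁ a) X = Submodule.torsion R₁ X := by
  ext z
  rw [mem_powTorsion]
  constructor
  · rintro ⟨k, hk⟩
    rw [Submodule.mem_torsion_iff]
    exact ⟨⟨_, mem_nonZeroDivisors_of_ne_zero (pow_ne_zero k ha)⟩, hk⟩
  · intro hz
    refine ⟨1, ?_⟩
    rw [pow_one, algebraMap_smul]
    exact hkill z hz

end PowTorsion

set_option maxHeartbeats 1600000 in
theorem main (R K : Type u) [CommRing R] [IsDomain R] [IsLocalRing R] [Field K]
    [Algebra R K] [IsFractionRing R K] (S : Type u) [CommRing S] [Algebra R S] [Algebra.FiniteType R S] (M : Type u)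
    [AddCommGroup M] [Module S M] [Module R M] [IsScalarTower R S M] [Module.Finite S M]
    (A : Type u) [CommRing A] [IsDomain A] [ValuationRing A] [Algebra A K] [IsFractionRing A K] [Algebra R A]
    [IsScalarTower R A K] [IsLocalHom (algebraMap R A)] (hm : IsLocalRing.maximalIdeal R ≠ ⊥) :
    ∃ (I : Ideal R) (a : R), I.FG ∧ I ≤ IsLocalRing.maximalIdeal R ∧ a ∈ I ∧ a ≠ 0 ∧
      (∀ x ∈ I, ∃ y : A, algebraMap A K y * algebraMap R K a = algebraMap R K x) ∧
      ∀ (R₁ : Type u) [CommRing R₁] [Algebra R R₁] (e : R₁ ≃ₐ[R] ↥(BlowUp.affineAlgebra R I a)),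
        (IsLocalRing.maximalIdeal R).map (algebraMap R R₁) ≠ ⊤ ∧
        Module.Flat R₁ ((R₁ ⊗[R] S) ⧸ FlatCA.powTorsion (R₁ ⊗[R] S) (algebraMap R (R₁ ⊗[R] S) a) (R₁ ⊗[R] S)) ∧
        Algebra.FinitePresentation R₁
          ((R₁ ⊗[R] S) ⧸ FlatCA.powTorsion (R₁ ⊗[R] S) (algebraMap R (R₁ ⊗[R] S) a) (R₁ ⊗[R] S)) ∧
        Module.Flat R₁ ((R₁ ⊗[R] M) ⧸ FlatCA.powTorsion R₁ (algebraMap R R₁ a) (R₁ ⊗[R] M)) := by
  classical
  obtain ⟨n, φ, hφ⟩ := Algebra.FiniteType.iff_quotient_mvPolynomial''.mp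
    (inferInstance : Algebra.FiniteType R S)
  letI algPS : Algebra (MvPolynomial (Fin n) R) S := φ.toRingHom.toAlgebra
  haveI : IsScalarTower R (MvPolynomial (Fin n) R) S :=
    IsScalarTower.of_algebraMap_eq' φ.comp_algebraMap.symm
  letI modPM : Module (MvPolynomial (Fin n) R) M := Module.compHom M φ.toRingHom
  haveI : IsScalarTower (MvPolynomial (Fin n) R) S M :=
    ⟨fun p s m => by
      change (φ p * s) • m = φ p • (s • m)
      rw [mul_smul]⟩
  haveI : IsScalarTower R (MvPolynomial (Fin n) R) M :=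
    ⟨fun r p m => by
      change φ (r • p) • m = r • (φ p • m)
      rw [map_smul, smul_assoc]⟩
  haveI : Module.Finite (MvPolynomial (Fin n) R) S :=
    Module.Finite.of_surjective (Algebra.linearMap (MvPolynomial (Fin n) R) S) hφ
  haveI : Module.Finite (MvPolynomial (Fin n) R) M := Module.Finite.trans S M
  let πS : (Fin 1 → MvPolynomial (Fin n) R) →ₗ[MvPolynomial (Fin n) R] S :=
    (Algebra.linearMap (MvPolynomial (Fin n) R) S) ∘ₗ (LinearMap.proj 0)
  have hπS : Function.Surjective πS := fun x => by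
    obtain ⟨p, rfl⟩ := hφ x
    exact ⟨fun _ => p, rfl⟩
  obtain ⟨sM, πM, hπM⟩ := Module.Finite.exists_fin' (MvPolynomial (Fin n) R) M
  obtain ⟨FS, bS, hbS, hS⟩ := core (K := K) (A := A) πS hπS
  obtain ⟨FM, bM, hbM, hM⟩ := core (K := K) (A := A) πM hπM
  obtain ⟨I₀, a₀, hadm₀, hfrac₀⟩ := exists_pair (K := K) hm (FS ∪ FM)
  have hb : bS * bM ≠ 0 := mul_ne_zero hbS hbM
  have hadm := hadm₀.smul hb
  refine ⟨Ideal.span {bS * bM} * I₀, bS * bM * a₀, hadm.1, hadm.2.1, hadm.2.2.1, hadm.2.2.2.1,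
    ?_, ?_⟩
  · intro x hx
    obtain ⟨y, hy⟩ := hadm.2.2.2.2 hx
    refine ⟨y, ?_⟩
    rw [IsScalarTower.algebraMap_apply R A K, IsScalarTower.algebraMap_apply R A K, ← map_mul, hy]
  intro R₁ _ _ e
  obtain ⟨η, hηinj, hηfrac⟩ := exists_algHom (K := K) hadm
  let j : R₁ →ₐ[R] A := η.comp e.toAlgHom
  have hj : Function.Injective j := hηinj.comp e.injective
  have hrange : ∀ y ∈ FS ∪ FM, y ∈ Set.range j := by
    intro y hy
    obtain ⟨z, hz⟩ := hηfrac y ((hfrac₀ y hy).smul _)
    exact ⟨e.symm z, by simp [j, hz]⟩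
  obtain ⟨hflatS, hkillS, 𝒦, h𝒦fg, h𝒦⟩ :=
    hS R₁ j hj (fun y hy => hrange y (Finset.mem_union_left _ hy))
  obtain ⟨hflatM, hkillM, -⟩ := hM R₁ j hj (fun y hy => hrange y (Finset.mem_union_right _ hy))
  haveI : IsDomain R₁ := hj.isDomain j.toRingHom
  have hinjR₁ : Function.Injective (algebraMap R R₁) := by
    have h0 : Function.Injective (algebraMap R A) := algebraMap_injective R K A
    have h1 : (algebraMap R A : R → A) = j ∘ algebraMap R R₁ := by
      funext r
      exact (j.commutes r).symm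
    rw [h1] at h0
    exact Function.Injective.of_comp h0
  have ha1 : algebraMap R R₁ (bS * bM * a₀) ≠ 0 := fun h0 =>
    hadm.2.2.2.1 ((map_eq_zero_iff _ hinjR₁).mp h0)
  have hkillS' : ∀ z ∈ Submodule.torsion R₁ (R₁ ⊗[R] S), (bS * bM * a₀) • z = 0 := by
    intro z hz
    rw [show bS * bM * a₀ = (bM * a₀) * bS by ring, mul_smul, hkillS z hz, smul_zero]
  have hkillM' : ∀ z ∈ Submodule.torsion R₁ (R₁ ⊗[R] M), (bS * bM * a₀) • z = 0 := by
    intro z hz
    rw [show bS * bM * a₀ = (bS * a₀) * bM by ring, mul_smul, hkillM z hz, smul_zero]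
  have h𝔗 : (FlatCA.powTorsion (R₁ ⊗[R] S) (algebraMap R (R₁ ⊗[R] S) (bS * bM * a₀))
      (R₁ ⊗[R] S)).restrictScalars R₁ = Submodule.torsion R₁ (R₁ ⊗[R] S) := by
    rw [← powTorsion_eq_torsion (bS * bM * a₀) ha1 hkillS']
    ext z
    rw [Submodule.restrictScalars_mem, mem_powTorsion, mem_powTorsion]
    have hsm : ∀ k : ℕ, (algebraMap R (R₁ ⊗[R] S) (bS * bM * a₀)) ^ k • z =
        (algebraMap R R₁ (bS * bM * a₀)) ^ k • z := by
      intro k
      rw [← map_pow, ← map_pow, algebraMap_smul, algebraMap_smul]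
    constructor
    · rintro ⟨k, hk⟩
      exact ⟨k, by rw [← hsm]; exact hk⟩
    · rintro ⟨k, hk⟩
      exact ⟨k, by rw [hsm]; exact hk⟩
  refine ⟨?_, ?_, ?_, ?_⟩
  · intro htop
    have h1 : Ideal.map (algebraMap R A) (IsLocalRing.maximalIdeal R) ≤
        IsLocalRing.maximalIdeal A :=
      ((IsLocalRing.local_hom_TFAE (algebraMap R A)).out 0 2).mp ‹IsLocalHom (algebraMap R A)›
    have h2 : Ideal.map j.toRingHom (Ideal.map (algebraMap R R₁) (IsLocalRing.maximalIdeal R)) =
        Ideal.map (algebraMap R A) (IsLocalRing.maximalIdeal R) := by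
      rw [Ideal.map_map]
      congr 1
      exact j.comp_algebraMap
    rw [htop, Ideal.map_top] at h2
    have h3 : (⊤ : Ideal A) ≤ IsLocalRing.maximalIdeal A := by
      rw [h2]
      exact h1
    exact (IsLocalRing.maximalIdeal.isMaximal A).ne_top (top_le_iff.mp h3)
  · let e' : ((R₁ ⊗[R] S) ⧸ FlatCA.powTorsion (R₁ ⊗[R] S)
        (algebraMap R (R₁ ⊗[R] S) (bS * bM * a₀)) (R₁ ⊗[R] S)) ≃ₗ[R₁]
        (R₁ ⊗[R] S) ⧸ Submodule.torsion R₁ (R₁ ⊗[R] S) :=
      (Submodule.Quotient.restrictScalarsEquiv R₁ _).symm ≪≫ₗ Submodule.quotEquivOfEq _ _ h𝔗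
    exact Module.Flat.of_linearEquiv e'
  · let Φ : MvPolynomial (Fin n) R₁ →ₐ[R₁] R₁ ⊗[R] S :=
      MvPolynomial.aeval (fun i => (1 : R₁) ⊗ₜ[R] φ (X i))
    have hmono : ∀ (α : Fin n →₀ ℕ) (r : R₁),
        (fun _ : Fin 1 => (monomial α r : MvPolynomial (Fin n) R₁)) =
          r • Fmap (MvPolynomial (Fin n) R) (MvPolynomial (Fin n) R₁) (Fin 1)
            (fun _ => (monomial α 1 : MvPolynomial (Fin n) R)) := by
      intro α r
      ext i : 1
      rw [Pi.smul_apply, Fmap_apply, MvPolynomial.algebraMap_def, MvPolynomial.map_monomial,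
        map_one, MvPolynomial.smul_monomial, smul_eq_mul, mul_one]
    have hΦΘ : ∀ g : MvPolynomial (Fin n) R₁, Φ g = Theta R₁ πS (fun _ => g) := by
      intro g
      induction g using MvPolynomial.induction_on' with
      | monomial α r =>
        rw [hmono, Theta_smul_Fmap]
        have h1 : (monomial α r : MvPolynomial (Fin n) R₁) =
            r • MvPolynomial.map (algebraMap R R₁) (monomial α 1) := by
          rw [MvPolynomial.map_monomial, map_one, MvPolynomial.smul_monomial, smul_eq_mul, mul_one]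
        rw [h1, map_smul]
        have h2 : Φ (MvPolynomial.map (algebraMap R R₁) (monomial α 1)) =
            (1 : R₁) ⊗ₜ[R] φ (monomial α 1) := by
          show MvPolynomial.aeval (fun i => (1 : R₁) ⊗ₜ[R] φ (X i))
            (MvPolynomial.map (algebraMap R R₁) (monomial α 1)) = _
          rw [MvPolynomial.aeval_map_algebraMap, MvPolynomial.aeval_one_tmul]
          congr 1
          exact (DFunLike.congr_fun (MvPolynomial.aeval_unique φ) _).symm
        rw [h2, TensorProduct.smul_tmul', smul_eq_mul, mul_one]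
        rfl
      | add p q hp hq =>
        rw [map_add, hp, hq, ← map_add]
        rfl
    have hΦsurj : Function.Surjective Φ := by
      intro z
      obtain ⟨v, rfl⟩ := Theta_surjective R₁ πS hπS z
      refine ⟨v 0, ?_⟩
      rw [hΦΘ]
      congr 1
      funext i
      rw [Fin.fin_one_eq_zero i]
    let Φb : MvPolynomial (Fin n) R₁ →ₐ[R₁] (R₁ ⊗[R] S) ⧸
        FlatCA.powTorsion (R₁ ⊗[R] S) (algebraMap R (R₁ ⊗[R] S) (bS * bM * a₀)) (R₁ ⊗[R] S) :=
      (Ideal.Quotient.mkₐ R₁ _).comp Φ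
    have hΦbsurj : Function.Surjective Φb :=
      (Ideal.Quotient.mkₐ_surjective R₁ _).comp hΦsurj
    have hker : (RingHom.ker Φb.toRingHom).FG := by
      have hk : RingHom.ker Φb.toRingHom =
          𝒦.map (LinearEquiv.funUnique (Fin 1) (MvPolynomial (Fin n) R₁)
            (MvPolynomial (Fin n) R₁)).toLinearMap := by
        ext g
        have h1 : g ∈ RingHom.ker Φb.toRingHom ↔ (fun _ : Fin 1 => g) ∈ 𝒦 := by
          rw [RingHom.mem_ker, h𝒦, ← hΦΘ, ← h𝔗, Submodule.restrictScalars_mem]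
          exact Ideal.Quotient.eq_zero_iff_mem
        rw [h1, Submodule.mem_map]
        constructor
        · intro hg
          exact ⟨_, hg, rfl⟩
        · rintro ⟨v, hv, rfl⟩
          have : v = fun _ : Fin 1 => v default := by
            funext i
            rw [Subsingleton.elim i default]
          rw [this] at hv
          exact hv
      rw [hk]
      exact Submodule.FG.map _ h𝒦fg
    exact Algebra.FinitePresentation.of_surjective hΦbsurj hker
  · rw [powTorsion_eq_torsion (bS * bM * a₀) ha1 hkillM']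
    exact hflatM

end Groth.Agent.Lib.Seat52.BlowFlatF
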