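import Groth.Agent.Lib.Seat52AdicFlat
import Groth.Agent.Lib.Seat52AdicTrunc

/-!
# helper52: complete localizations `A⟨f⁻¹⟩` of algebras topologically of finite type
-/

set_option autoImplicit false
set_option linter.style.haveILetI false
set_option linter.unusedSectionVars false
universe u

namespace Groth.Agent.Lib.Seat52.CLocLib

open AdicRing TensorProduct

section Generic

variable (R : Type u) [CommRing R] (I : Ideal R) (hI : I.FG) (S : Type u) [CommRing S] [Algebra R S]

/-- the `I`-adic completion of an `R`-algebra -/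
abbrev Compl : Type u := AdicCompletion (I.map (algebraMap R S)) S

include hI in
lemma isAdicComplete_compl :
    IsAdicComplete (I.map (algebraMap R (Compl R I S))) (Compl R I S) := by
  have h1 : IsAdicComplete (I.map (algebraMap R S)) (Compl R I S) :=
    AdicCompletion.isAdicComplete (hI.map _)
  have h2 : IsAdicComplete I (Compl R I S) :=
    (IsAdicComplete.map_algebraMap_iff (R := R) (S := S) (I := I) (M := Compl R I S)).mp h1
  exact (IsAdicComplete.map_algebraMap_iff (R := R) (S := Compl R I S) (I := I)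
      (M := Compl R I S)).mpr h2

lemma map_pow_eq' (k : ℕ) :
    ((I.map (algebraMap R S)).map (algebraMap S (Compl R I S))) ^ k =
    (I ^ k).map (algebraMap R (Compl R I S)) := by
  rw [Ideal.map_map, ← Ideal.map_pow]
  congr 1

include hI in
lemma exists_sub_mem (k : ℕ) (x : Compl R I S) :
    ∃ s : S, x - algebraMap S (Compl R I S) s ∈ (I ^ k).map (algebraMap R (Compl R I S)) := by
  obtain ⟨p, hp⟩ := Ideal.Quotient.mk_surjective
    (AdicCompletion.evalₐ (I.map (algebraMap R S)) k x)
  refine ⟨p, ?_⟩
  rw [← map_pow_eq', ← Groth.Agent.Lib.Seat17.AdicQuot.ker_evalₐ_eq _ (hI.map _) k,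
    RingHom.mem_ker]
  change AdicCompletion.evalₐ _ k (x - _) = 0
  rw [map_sub, AdicCompletion.algebraMap_apply, Algebra.algebraMap_self, RingHom.id_apply,
    AdicCompletion.evalₐ_of, hp, sub_self]

include hI in
lemma mem_of_algebraMap_mem' (k : ℕ) (s : S)
    (h : algebraMap S (Compl R I S) s ∈ (I ^ k).map (algebraMap R (Compl R I S))) :
    s ∈ (I ^ k).map (algebraMap R S) := by
  rw [← map_pow_eq', ← Groth.Agent.Lib.Seat17.AdicQuot.ker_evalₐ_eq _ (hI.map _) k,
    RingHom.mem_ker] at h
  change AdicCompletion.evalₐ _ k _ = 0 at h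
  rw [AdicCompletion.algebraMap_apply, Algebra.algebraMap_self, RingHom.id_apply,
    AdicCompletion.evalₐ_of, Ideal.Quotient.eq_zero_iff_mem, ← Ideal.map_pow] at h
  exact h

end Generic

section TFT

open Groth.Agent.Lib.Seat52.AdicTrunc

variable (R : Type u) [CommRing R] (I : Ideal R) (hI : I.FG) (A : Type u) [CommRing A]
  [Algebra R A] (f : A)

instance : IsScalarTower R A (CLoc I f) := inferInstance

lemma algebraMap_cLoc_mem {k : ℕ} {a : A} (ha : a ∈ (I ^ k).map (algebraMap R A)) :
    algebraMap A (CLoc I f) a ∈ (I ^ k).map (algebraMap R (CLoc I f)) := by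
  have h1 := Ideal.mem_map_of_mem (algebraMap A (CLoc I f)) ha
  rw [Ideal.map_map, ← IsScalarTower.algebraMap_eq] at h1
  exact h1

include hI in
/-- complete localizations of algebras topologically of finite type are topologically of finite
type -/
theorem tft_cLoc (hA : TopFiniteType R I A) : TopFiniteType R I (CLoc I f) := by
  classical
  obtain ⟨d, φ, hφ⟩ := hA
  haveI := isAdicComplete_compl R I hI (Localization.Away f)
  suffices hB : Algebra.FiniteType R (CLoc I f ⧸ I.map (algebraMap R (CLoc I f))) by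
    obtain ⟨r, Φ, hΦ⟩ := Groth.Agent.Lib.Helper19.exists_surjective_restricted' R I hI (CLoc I f) hB
    exact ⟨r, Φ, hΦ⟩
  let q := Ideal.Quotient.mk (I.map (algebraMap R (CLoc I f)))
  let g : Option (Fin d) → CLoc I f ⧸ I.map (algebraMap R (CLoc I f)) := fun o =>
    match o with
    | some i => q (algebraMap A (CLoc I f)
        (φ (algebraMap (MvPolynomial (Fin d) R) (RPow R I d) (MvPolynomial.X i))))
    | none => q (algebraMap (Localization.Away f) (CLoc I f) (IsLocalization.Away.invSelf f))
  let Φ : MvPolynomial (Option (Fin d)) R →ₐ[R] CLoc I f ⧸ I.map (algebraMap R (CLoc I f)) :=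
    MvPolynomial.aeval g
  -- polynomials
  have hpoly : ∀ p : MvPolynomial (Fin d) R,
      q (algebraMap A (CLoc I f) (φ (algebraMap (MvPolynomial (Fin d) R) (RPow R I d) p))) =
        Φ (MvPolynomial.rename some p) := by
    intro p
    induction p using MvPolynomial.induction_on with
    | C a =>
      have h1 : algebraMap (MvPolynomial (Fin d) R) (RPow R I d) (MvPolynomial.C a) =
          algebraMap R (RPow R I d) a := by
        rw [IsScalarTower.algebraMap_apply R (MvPolynomial (Fin d) R) (RPow R I d)]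
        rfl
      rw [h1, AlgHom.commutes, ← IsScalarTower.algebraMap_apply R A (CLoc I f),
        MvPolynomial.rename_C, ← MvPolynomial.algebraMap_eq, AlgHom.commutes]
      rfl
    | add p r hp hr => rw [map_add, map_add, map_add, map_add, hp, hr, map_add, map_add]
    | mul_X p i hp =>
      rw [map_mul, map_mul, map_mul, map_mul, hp, map_mul, map_mul, MvPolynomial.rename_X]
      congr 1
      simp only [Φ, MvPolynomial.aeval_X, g]
  have hA_mem : ∀ a : A, q (algebraMap A (CLoc I f) a) ∈ Φ.range := by
    intro a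
    obtain ⟨z, rfl⟩ := hφ a
    obtain ⟨p, hp⟩ := exists_poly_sub_mem R I hI d 1 z
    have h1 := algebraMap_cLoc_mem R I A f (map_phi_mem I φ hp)
    rw [pow_one] at h1
    have h2 : q (algebraMap A (CLoc I f) (φ z)) = q (algebraMap A (CLoc I f)
        (φ (algebraMap (MvPolynomial (Fin d) R) (RPow R I d) p))) := by
      rw [← sub_eq_zero, ← map_sub, ← map_sub, ← map_sub]
      exact Ideal.Quotient.eq_zero_iff_mem.mpr h1
    rw [h2, hpoly]
    exact (AlgHom.mem_range Φ).mpr ⟨_, rfl⟩
  have hinv_mem : q (algebraMap (Localization.Away f) (CLoc I f)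
      (IsLocalization.Away.invSelf f)) ∈ Φ.range := by
    refine (AlgHom.mem_range Φ).mpr ⟨MvPolynomial.X none, ?_⟩
    simp only [Φ, MvPolynomial.aeval_X, g]
  have hL_mem : ∀ l : Localization.Away f,
      q (algebraMap (Localization.Away f) (CLoc I f) l) ∈ Φ.range := by
    intro l
    obtain ⟨⟨a, ⟨_, k, rfl⟩⟩, hl⟩ := IsLocalization.surj (Submonoid.powers f) l
    simp only at hl
    have h1 : l = algebraMap A (Localization.Away f) a * IsLocalization.Away.invSelf f ^ k := by
      rw [← hl, mul_assoc, map_pow, ← mul_pow, IsLocalization.Away.mul_invSelf, one_pow, mul_one]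
    rw [h1, map_mul, map_mul, map_pow, map_pow,
      ← IsScalarTower.algebraMap_apply A (Localization.Away f) (CLoc I f)]
    exact Subalgebra.mul_mem _ (hA_mem a) (Subalgebra.pow_mem _ hinv_mem k)
  have hsurj : Function.Surjective Φ := by
    intro y
    obtain ⟨x, rfl⟩ := Ideal.Quotient.mk_surjective y
    obtain ⟨l, hl⟩ := exists_sub_mem R I hI (Localization.Away f) 1 x
    rw [pow_one, ← Ideal.Quotient.eq] at hl
    change q x = q _ at hl
    obtain ⟨w, hw⟩ := (AlgHom.mem_range Φ).mp (hL_mem l)
    exact ⟨w, by rw [hw]; exact hl.symm⟩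
  exact Algebra.FiniteType.of_surjective Φ hsurj

end TFT

section Flat

open Groth.Agent.Lib.Seat52.AdicTrunc Groth.Agent.Lib.Seat52.AdicBase

lemma mem_smul_top_iff {R : Type u} [CommRing R] (I : Ideal R) {A : Type u} [CommRing A]
    [Algebra R A] (X : Type u) [CommRing X] [Algebra R X] [Algebra A X] [IsScalarTower R A X]
    (k : ℕ) (x : X) :
    x ∈ (((I ^ k).map (algebraMap R A)) • ⊤ : Submodule A X) ↔
      x ∈ (I ^ k).map (algebraMap R X) := by
  rw [Ideal.smul_top_eq_map, Ideal.map_map, ← IsScalarTower.algebraMap_eq]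
  exact Iff.rfl

variable (R : Type u) [CommRing R] (I : Ideal R) (hR : AdicRing.IsBase R I) (A : Type u)
  [CommRing A] [Algebra R A] (hA : TopFiniteType R I A) (f : A)

include hR in
/-- the canonical map `A_n ⊗ A[1/f] → A_n ⊗ A⟨1/f⟩` is bijective -/
lemma lTensor_bijective (n : ℕ) :
    Function.Bijective (LinearMap.lTensor (AdicRing.trunc A I n)
      ((Algebra.linearMap (Localization.Away f) (CLoc I f)).restrictScalars A)) := by
  have hI := fg_of_isBase hR
  set K : Ideal A := (I ^ (n + 1)).map (algebraMap R A) with hK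
  set g : Localization.Away f →ₗ[A] CLoc I f :=
    (Algebra.linearMap (Localization.Away f) (CLoc I f)).restrictScalars A with hg
  have hgapp : ∀ l, g l = algebraMap (Localization.Away f) (CLoc I f) l := fun _ => rfl
  constructor
  · rw [injective_iff_map_eq_zero]
    intro x hx
    obtain ⟨l, hl⟩ := Submodule.Quotient.mk_surjective _
      (TensorProduct.quotTensorEquivQuotSMul (Localization.Away f) K x)
    have hx' : x = (1 : A ⧸ K) ⊗ₜ[A] l := by
      rw [← TensorProduct.quotTensorEquivQuotSMul_symm_mk, hl, LinearEquiv.symm_apply_apply]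
    rw [hx', LinearMap.lTensor_tmul] at hx
    have h1 := congrArg (TensorProduct.quotTensorEquivQuotSMul (CLoc I f) K) hx
    rw [TensorProduct.quotTensorEquivQuotSMul_mk_one_tmul, map_zero,
      Submodule.Quotient.mk_eq_zero, mem_smul_top_iff, hgapp] at h1
    have h2 := mem_of_algebraMap_mem' R I hI (Localization.Away f) (n + 1) l h1
    rw [← mem_smul_top_iff (A := A) I (Localization.Away f), ← Submodule.Quotient.mk_eq_zero] at h2
    rw [hx', ← TensorProduct.quotTensorEquivQuotSMul_symm_mk, h2, map_zero]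
  · intro w
    obtain ⟨b, hb⟩ := Submodule.Quotient.mk_surjective _
      (TensorProduct.quotTensorEquivQuotSMul (CLoc I f) K w)
    obtain ⟨l, hl⟩ := exists_sub_mem R I hI (Localization.Away f) (n + 1) b
    refine ⟨(1 : A ⧸ K) ⊗ₜ[A] l, ?_⟩
    apply (TensorProduct.quotTensorEquivQuotSMul (CLoc I f) K).injective
    rw [LinearMap.lTensor_tmul, TensorProduct.quotTensorEquivQuotSMul_mk_one_tmul, ← hb, hgapp]
    symm
    rw [Submodule.Quotient.eq, mem_smul_top_iff]
    exact hl

include hR hA in
/-- S11533, first part: complete localizations are flat. -/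
theorem flat_cLoc : Module.Flat A (CLoc I f) := by
  have hI := fg_of_isBase hR
  have hB := tft_cLoc R I hI A f hA
  apply flat_of_flat_trunc R I hR A hA (CLoc I f) hB (CLoc I f)
  intro n
  haveI : Module.Flat A (Localization.Away f) := IsLocalization.flat _ (Submonoid.powers f)
  haveI h1 : Module.Flat (trunc A I n) (trunc A I n ⊗[A] Localization.Away f) := inferInstance
  have hbij : Function.Bijective (LinearMap.baseChange (trunc A I n)
      ((Algebra.linearMap (Localization.Away f) (CLoc I f)).restrictScalars A)) :=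
    lTensor_bijective R I hR A f n
  exact Module.Flat.of_linearEquiv (LinearEquiv.ofBijective _ hbij).symm

end Flat

section FaithfullyFlat

open Groth.Agent.Lib.Seat52.AdicTrunc Groth.Agent.Lib.Seat52.AdicBase

variable (R : Type u) [CommRing R] (I : Ideal R) (hR : AdicRing.IsBase R I) (A : Type u)
  [CommRing A] [Algebra R A] (hA : TopFiniteType R I A)

include hR hA in
/-- S11533, second part: the complete localizations at a partition of unity are jointly
faithfully flat. -/
theorem faithfullyFlat_pi_cLoc (r : ℕ) (f : Fin r → A) (hf : Ideal.span (Set.range f) = ⊤) :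
    Module.FaithfullyFlat A (∀ i, CLoc I (f i)) := by
  classical
  have hI := fg_of_isBase hR
  haveI : ∀ i, Module.Flat A (CLoc I (f i)) := fun i => flat_cLoc R I hR A hA (f i)
  haveI : Module.Flat A (∀ i, CLoc I (f i)) :=
    Module.Flat.of_linearEquiv
      (DFinsupp.linearEquivFunOnFintype (R := A) (M := fun i => CLoc I (f i))).symm
  refine ⟨fun 𝔪 h𝔪 htop => ?_⟩
  haveI hAc : IsAdicComplete I A := isAdicComplete_of_finite R I hR A hA A
  haveI hAc' : IsAdicComplete (I.map (algebraMap R A)) A :=
    (IsAdicComplete.map_algebraMap_iff (R := R) (S := A) (I := I) (M := A)).mpr hAc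
  have hle : I.map (algebraMap R A) ≤ 𝔪 :=
    (IsAdicComplete.le_jacobson_bot (I.map (algebraMap R A))).trans (sInf_le ⟨bot_le, h𝔪⟩)
  obtain ⟨i, hi⟩ : ∃ i, f i ∉ 𝔪 := by
    by_contra hcon
    push Not at hcon
    have h1 : Ideal.span (Set.range f) ≤ 𝔪 :=
      Ideal.span_le.mpr (by rintro _ ⟨i, rfl⟩; exact hcon i)
    rw [hf] at h1
    exact h𝔪.ne_top (top_le_iff.mp h1)
  have hunit : IsUnit (Ideal.Quotient.mk 𝔪 (f i)) := by
    letI := Ideal.Quotient.field 𝔪
    exact isUnit_iff_ne_zero.mpr (fun h => hi (Ideal.Quotient.eq_zero_iff_mem.mp h))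
  let χ₀ : Localization.Away (f i) →+* A ⧸ 𝔪 := IsLocalization.Away.lift (f i) hunit
  have hχ₀ : ∀ a, χ₀ (algebraMap A _ a) = Ideal.Quotient.mk 𝔪 a :=
    IsLocalization.Away.lift_eq _ hunit
  have hker : ∀ x ∈ I.map (algebraMap R (Localization.Away (f i))), χ₀ x = 0 := by
    intro x hx
    rw [IsScalarTower.algebraMap_eq R A (Localization.Away (f i)), ← Ideal.map_map] at hx
    have h1 : (I.map (algebraMap R A)).map (algebraMap A (Localization.Away (f i))) ≤
        RingHom.ker χ₀ := by
      rw [Ideal.map_le_iff_le_comap]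
      intro a ha
      rw [Ideal.mem_comap, RingHom.mem_ker, hχ₀]
      exact Ideal.Quotient.eq_zero_iff_mem.mpr (hle ha)
    exact h1 hx
  let χ₁ : (Localization.Away (f i) ⧸ I.map (algebraMap R (Localization.Away (f i)))) →+* A ⧸ 𝔪 :=
    Ideal.Quotient.lift _ χ₀ hker
  have hχ : ∀ a : A, χ₁ (AdicCompletion.evalOneₐ _ (algebraMap A (CLoc I (f i)) a)) =
      Ideal.Quotient.mk 𝔪 a := by
    intro a
    rw [AdicCompletion.algebraMap_apply, AdicCompletion.evalOneₐ_of, Ideal.Quotient.lift_mk, hχ₀]
  have h1 : (fun _ => 1 : ∀ j, CLoc I (f j)) ∈ 𝔪 • (⊤ : Submodule A (∀ j, CLoc I (f j))) := by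
    rw [htop]
    trivial
  have h2 : ∀ y ∈ 𝔪 • (⊤ : Submodule A (∀ j, CLoc I (f j))),
      χ₁ (AdicCompletion.evalOneₐ _ (y i)) = 0 := by
    intro y hy
    refine Submodule.smul_induction_on hy ?_ ?_
    · intro c hc z _
      rw [Pi.smul_apply, Algebra.smul_def, map_mul, map_mul, hχ,
        Ideal.Quotient.eq_zero_iff_mem.mpr hc, zero_mul]
    · intro y z hy hz
      rw [Pi.add_apply, map_add, map_add, hy, hz, add_zero]
  have h3 := h2 _ h1
  simp only [map_one] at h3
  haveI := Ideal.Quotient.nontrivial_iff.mpr h𝔪.ne_top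
  exact one_ne_zero h3

end FaithfullyFlat

end Groth.Agent.Lib.Seat52.CLocLib
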