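import Groth.Agent.Lib.Seat52CLoc
import Mathlib.RingTheory.RingHom.FinitePresentation
import Mathlib.RingTheory.RingHom.FiniteType

/-!
# helper52: topological finiteness conditions are local for complete localizations
(Bosch FRG §7.3: tft / tfp / admissible are local on `Spf A`)
-/

set_option autoImplicit false
set_option linter.style.haveILetI false
set_option linter.unusedSectionVars false
universe u

namespace Groth.Agent.Lib.Seat52.CLocLib

open AdicRing TensorProduct Groth.Agent.Lib.Seat52.AdicTrunc Groth.Agent.Lib.Seat52.AdicBase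

section Trunc

variable (R : Type u) [CommRing R] (I : Ideal R) (hI : I.FG) (A : Type u) [CommRing A]
  [Algebra R A] (f : A) (k : ℕ)

/-- the map `A/I^k A → A⟨1/f⟩ / I^k A⟨1/f⟩` -/
noncomputable def truncMap :
    A ⧸ (I ^ k).map (algebraMap R A) →+*
      CLoc I f ⧸ (I ^ k).map (algebraMap R (CLoc I f)) :=
  Ideal.quotientMap _ (algebraMap A (CLoc I f))
    (fun _ ha => algebraMap_cLoc_mem R I A f ha)

lemma truncMap_mk (a : A) :
    truncMap R I A f k (Ideal.Quotient.mk _ a) = Ideal.Quotient.mk _ (algebraMap A (CLoc I f) a) :=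
  rfl

lemma truncMap_comp :
    (truncMap R I A f k).comp (Ideal.quotientMap ((I ^ k).map (algebraMap R A)) (algebraMap R A)
      Ideal.le_comap_map) =
    Ideal.quotientMap ((I ^ k).map (algebraMap R (CLoc I f))) (algebraMap R (CLoc I f))
      Ideal.le_comap_map := by
  apply Ideal.Quotient.ringHom_ext
  ext x
  simp only [RingHom.comp_apply, Ideal.quotientMap_mk, truncMap_mk]
  rw [← IsScalarTower.algebraMap_apply R A (CLoc I f)]

include hI in
/-- `A⟨1/f⟩ / I^k` is the localization of `A / I^k` at `f`. -/
lemma isLocalization_trunc :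
    letI := (truncMap R I A f k).toAlgebra
    IsLocalization.Away (Ideal.Quotient.mk ((I ^ k).map (algebraMap R A)) f)
      (CLoc I f ⧸ (I ^ k).map (algebraMap R (CLoc I f))) := by
  letI := (truncMap R I A f k).toAlgebra
  simp only [IsLocalization.Away, ← Submonoid.map_powers]
  refine IsLocalization.of_surjective (Submonoid.powers f) (Localization.Away f)
    (Ideal.Quotient.mk ((I ^ k).map (algebraMap R A))) Ideal.Quotient.mk_surjective
    ((Ideal.Quotient.mk ((I ^ k).map (algebraMap R (CLoc I f)))).comp
      (algebraMap (Localization.Away f) (CLoc I f))) ?_ ?_ ?_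
  · intro y
    obtain ⟨b, rfl⟩ := Ideal.Quotient.mk_surjective y
    obtain ⟨l, hl⟩ := exists_sub_mem R I hI (Localization.Away f) k b
    refine ⟨l, ?_⟩
    rw [RingHom.comp_apply]
    symm
    rw [Ideal.Quotient.eq]
    exact hl
  · ext a
    simp only [RingHom.comp_apply]
    rw [← IsScalarTower.algebraMap_apply A (Localization.Away f) (CLoc I f)]
    rfl
  · intro x hx
    rw [RingHom.mem_ker, RingHom.comp_apply, Ideal.Quotient.eq_zero_iff_mem] at hx
    have h1 := mem_of_algebraMap_mem' R I hI (Localization.Away f) k x hx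
    rw [Ideal.mk_ker, Ideal.map_map, ← IsScalarTower.algebraMap_eq]
    exact h1

include hI in
/-- Zariski descent along complete localizations for truncations. -/
theorem descent_trunc
    (P : ∀ {R S : Type u} [CommRing R] [CommRing S], (R →+* S) → Prop)
    (hP : RingHom.OfLocalizationSpanTarget @P) (hP' : RingHom.RespectsIso @P)
    (r : ℕ) (g : Fin r → A) (hg : Ideal.span (Set.range g) = ⊤)
    (h : ∀ i, P (Ideal.quotientMap ((I ^ k).map (algebraMap R (CLoc I (g i))))
      (algebraMap R (CLoc I (g i))) Ideal.le_comap_map)) :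
    P (Ideal.quotientMap ((I ^ k).map (algebraMap R A)) (algebraMap R A) Ideal.le_comap_map) := by
  refine hP.ofIsLocalization hP' _
    (Set.range fun i => Ideal.Quotient.mk ((I ^ k).map (algebraMap R A)) (g i)) ?_ ?_
  · have h1 : Ideal.map (Ideal.Quotient.mk ((I ^ k).map (algebraMap R A)))
        (Ideal.span (Set.range g)) = ⊤ := by
      rw [hg, Ideal.map_top]
    rw [Ideal.map_span, ← Set.range_comp] at h1
    exact h1
  · rintro ⟨_, i, rfl⟩
    refine ⟨CLoc I (g i) ⧸ (I ^ k).map (algebraMap R (CLoc I (g i))), inferInstance,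
      (truncMap R I A (g i) k).toAlgebra, isLocalization_trunc R I hI A (g i) k, ?_⟩
    have h2 := truncMap_comp R I A (g i) k
    have h3 : @algebraMap _ _ _ _ (truncMap R I A (g i) k).toAlgebra = truncMap R I A (g i) k :=
      rfl
    rw [h3, h2]
    exact h i

end Trunc

section Local

variable (R : Type u) [CommRing R] (I : Ideal R)

lemma finiteType_of_pow_one {A : Type u} [CommRing A] [Algebra R A]
    (h : (Ideal.quotientMap ((I ^ (0 + 1)).map (algebraMap R A)) (algebraMap R A)
      Ideal.le_comap_map).FiniteType) :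
    (Ideal.quotientMap (I.map (algebraMap R A)) (algebraMap R A)
      Ideal.le_comap_map).FiniteType := by
  have e : ∀ (K : Ideal R), K = I → (Ideal.quotientMap (K.map (algebraMap R A))
      (algebraMap R A) Ideal.le_comap_map).FiniteType →
      (Ideal.quotientMap (I.map (algebraMap R A)) (algebraMap R A)
        Ideal.le_comap_map).FiniteType := by
    intro K hK hft
    subst hK
    exact hft
  exact e _ (by rw [zero_add, pow_one]) h

lemma finiteType_trunc_of_tft (hI : I.FG) {B : Type u} [CommRing B] [Algebra R B]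
    (hB : TopFiniteType R I B) (n : ℕ) :
    (Ideal.quotientMap ((I ^ (n + 1)).map (algebraMap R B)) (algebraMap R B)
      Ideal.le_comap_map).FiniteType := by
  obtain ⟨d, φ, hφ⟩ := hB
  have hC : (MvPolynomial.C : R ⧸ I ^ (n + 1) →+*
      MvPolynomial (Fin d) (R ⧸ I ^ (n + 1))).FiniteType := by
    rw [← MvPolynomial.algebraMap_eq]
    exact RingHom.finiteType_algebraMap.mpr inferInstance
  have h1 := RingHom.FiniteType.comp_surjective hC (psi_surjective I hI φ hφ n)
  rw [psi_comp_C] at h1
  exact h1

lemma tft_of_tfp {A : Type u} [CommRing A] [Algebra R A] (h : TopFinitePresentation R I A) :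
    TopFiniteType R I A := by
  obtain ⟨d, φ, hφ, -⟩ := h
  exact ⟨d, φ, hφ⟩

/-- flat base change preserves absence of `I`-power torsion -/
lemma noPowTorsion_of_flat (hI : I.FG) {A : Type u} [CommRing A] [Algebra R A]
    (htor : NoPowTorsion I A) (B : Type u) [CommRing B] [Algebra R B] [Algebra A B]
    [IsScalarTower R A B] [Module.Flat A B] : NoPowTorsion I B := by
  intro x k hx
  obtain ⟨m, a, ha⟩ := Submodule.fg_iff_exists_fin_generating_family.mp (hI.pow (n := k))
  have hamem : ∀ j, a j ∈ I ^ k := fun j => ha ▸ Submodule.subset_span ⟨j, rfl⟩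
  let μ : A →ₗ[A] (Fin m → A) :=
    LinearMap.pi (fun j => (algebraMap R A (a j)) • (LinearMap.id : A →ₗ[A] A))
  have hμapp : ∀ y j, μ y j = algebraMap R A (a j) * y := fun _ _ => rfl
  have hμ : Function.Injective μ := by
    rw [injective_iff_map_eq_zero]
    intro y hy
    apply htor y k
    intro c hc
    rw [← ha] at hc
    obtain ⟨d, rfl⟩ := (Submodule.mem_span_range_iff_exists_fun R).mp hc
    rw [Finset.sum_smul]
    refine Finset.sum_eq_zero fun j _ => ?_
    have h1 : algebraMap R A (a j) * y = 0 := by
      rw [← hμapp, hy]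
      rfl
    rw [smul_assoc, Algebra.smul_def (a j) y, h1, smul_zero]
  have hinj := Module.Flat.lTensor_preserves_injective_linearMap (M := B) μ hμ
  have h0 : (μ.lTensor B) (x ⊗ₜ[A] (1 : A)) = 0 := by
    rw [LinearMap.lTensor_tmul]
    have h1 : μ 1 = ∑ j, (algebraMap R A (a j)) • (Pi.single j (1 : A) : Fin m → A) := by
      funext i
      rw [hμapp, mul_one, Finset.sum_apply]
      simp [Pi.single_apply]
    rw [h1, TensorProduct.tmul_sum]
    refine Finset.sum_eq_zero fun j _ => ?_
    rw [TensorProduct.tmul_smul, TensorProduct.smul_tmul', algebraMap_smul, hx _ (hamem j),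
      TensorProduct.zero_tmul]
  have h2 : x ⊗ₜ[A] (1 : A) = 0 := hinj (h0.trans (map_zero _).symm)
  have h3 := congrArg (TensorProduct.rid A B) h2
  simpa using h3

variable (hR : AdicRing.IsBase R I) (A : Type u) [CommRing A] [Algebra R A]
  [IsAdicComplete (I.map (algebraMap R A)) A] (r : ℕ) (f : Fin r → A)
  (hf : Ideal.span (Set.range f) = ⊤)

include hR hf in
/-- S11534 -/
theorem tft_iff_cLoc :
    AdicRing.TopFiniteType R I A ↔ ∀ i, AdicRing.TopFiniteType R I (AdicRing.CLoc I (f i)) := by
  have hI := fg_of_isBase hR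
  constructor
  · intro hA i
    exact tft_cLoc R I hI A (f i) hA
  · intro h
    have h1 := descent_trunc R I hI A (0 + 1) @RingHom.FiniteType
      RingHom.finiteType_ofLocalizationSpanTarget RingHom.finiteType_respectsIso r f hf
      (fun i => finiteType_trunc_of_tft R I hI (h i) 0)
    obtain ⟨d, φ, hφ⟩ := Groth.Agent.Lib.Helper19.exists_surjective_restricted R I hI A
      (finiteType_of_pow_one R I h1)
    exact ⟨d, φ, hφ⟩

include hR hf in
/-- S11535 -/
theorem tfp_iff_cLoc :
    AdicRing.TopFinitePresentation R I A ↔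
      ∀ i, AdicRing.TopFinitePresentation R I (AdicRing.CLoc I (f i)) := by
  have hI := fg_of_isBase hR
  constructor
  · intro hA i
    haveI := isAdicComplete_compl R I hI (Localization.Away (f i))
    rw [tfp_iff_trunc R I hR (CLoc I (f i))]
    intro n
    have h1 := (tfp_iff_trunc R I hR A).mp hA n
    rw [← truncMap_comp R I A (f i) (n + 1)]
    refine RingHom.FinitePresentation.comp ?_ h1
    letI := (truncMap R I A (f i) (n + 1)).toAlgebra
    haveI := isLocalization_trunc R I hI A (f i) (n + 1)
    have h2 := IsLocalization.Away.finitePresentation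
      (Ideal.Quotient.mk ((I ^ (n + 1)).map (algebraMap R A)) (f i))
      (S := CLoc I (f i) ⧸ (I ^ (n + 1)).map (algebraMap R (CLoc I (f i))))
    exact RingHom.finitePresentation_algebraMap.mpr h2
  · intro h
    rw [tfp_iff_trunc R I hR A]
    intro n
    refine descent_trunc R I hI A (n + 1) @RingHom.FinitePresentation
      RingHom.finitePresentation_ofLocalizationSpanTarget RingHom.finitePresentation_respectsIso
      r f hf (fun i => ?_)
    haveI := isAdicComplete_compl R I hI (Localization.Away (f i))
    exact (tfp_iff_trunc R I hR (CLoc I (f i))).mp (h i) n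

include hR hf in
/-- S11536 -/
theorem admissible_iff_cLoc :
    AdicRing.Admissible R I A ↔ ∀ i, AdicRing.Admissible R I (AdicRing.CLoc I (f i)) := by
  have hI := fg_of_isBase hR
  constructor
  · rintro ⟨hfp, htor⟩ i
    refine ⟨(tfp_iff_cLoc R I hR A r f hf).mp hfp i, ?_⟩
    have hA : TopFiniteType R I A := tft_of_tfp R I hfp
    haveI := flat_cLoc R I hR A hA (f i)
    exact noPowTorsion_of_flat R I hI htor (CLoc I (f i))
  · intro h
    have hfp := (tfp_iff_cLoc R I hR A r f hf).mpr (fun i => (h i).1)
    refine ⟨hfp, ?_⟩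
    have hA := tft_of_tfp R I hfp
    haveI := faithfullyFlat_pi_cLoc R I hR A hA r f hf
    have hinj : Function.Injective (algebraMap A (∀ i, CLoc I (f i))) :=
      FaithfulSMul.algebraMap_injective A (∀ i, CLoc I (f i))
    intro x k hx
    apply hinj
    rw [map_zero]
    funext i
    apply (h i).2 _ k
    intro a ha
    rw [Pi.algebraMap_apply, ← algebraMap_smul A a (algebraMap A (CLoc I (f i)) x),
      Algebra.smul_def, ← map_mul, ← Algebra.smul_def, hx a ha, map_zero]

end Local

end Groth.Agent.Lib.Seat52.CLocLib
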