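import Groth.Agent.Lib.Seat52ChainGroebner
import Mathlib.Algebra.Module.FinitePresentation
import Mathlib.RingTheory.Flat.EquationalCriterion
import Mathlib.Algebra.MvPolynomial.Variables
import Mathlib.Algebra.MvPolynomial.Rename

set_option autoImplicit false

namespace Groth.Agent.Lib.Seat52.ChainFP

open MvPolynomial IsLocalRing

section Structure

variable {B : Type*} [CommRing B] (s n : ℕ)

/-- weight one on the first `s` variables, zero on the last `n`. -/
def wt : Fin (s + n) → ℕ := Fin.addCases (fun _ => 1) (fun _ => 0)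

@[simp] lemma wt_castAdd (j : Fin s) : wt s n (Fin.castAdd n j) = 1 := by
  simp [wt]

@[simp] lemma wt_natAdd (i : Fin n) : wt s n (Fin.natAdd s i) = 0 := by
  simp [wt]

/-- inclusion of the polynomial ring in the last `n` variables -/
noncomputable def ren : MvPolynomial (Fin n) B →ₐ[B] MvPolynomial (Fin (s + n)) B :=
  rename (Fin.natAdd s)

lemma ren_mem (p : MvPolynomial (Fin n) B) :
    ren s n p ∈ weightedHomogeneousSubmodule B (wt s n) 0 := by
  rw [mem_weightedHomogeneousSubmodule]
  induction p using MvPolynomial.induction_on with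
  | C a => rw [ren, rename_C]; exact isWeightedHomogeneous_C _ _
  | add p q hp hq => rw [map_add]; exact hp.add hq
  | mul_X p i hp =>
    rw [map_mul, ren, rename_X]
    have := hp.mul (isWeightedHomogeneous_X B (wt s n) (Fin.natAdd s i))
    rwa [wt_natAdd, add_zero] at this

lemma exists_ren_eq (p : MvPolynomial (Fin (s + n)) B)
    (hp : p ∈ weightedHomogeneousSubmodule B (wt s n) 0) : ∃ p', ren s n p' = p := by
  refine exists_rename_eq_of_vars_subset_range p (Fin.natAdd s) (Fin.natAdd_injective n s) ?_
  intro i hi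
  rw [Finset.mem_coe, mem_vars_iff_mem_support] at hi
  obtain ⟨d, hd, hid⟩ := hi
  have hw : Finsupp.weight (wt s n) d = 0 :=
    (mem_weightedHomogeneousSubmodule B _ 0 p).mp hp (mem_support_iff.mp hd)
  have hdi : d i ≠ 0 := Finsupp.mem_support_iff.mp hid
  induction i using Fin.addCases with
  | left j =>
    exfalso
    have := Finsupp.le_weight (wt s n) (s := Fin.castAdd n j) (by simp) d
    omega
  | right i => exact ⟨i, rfl⟩

/-- The embedding of `P^s` as the weight-one part. -/
noncomputable def iota :
    (Fin s → MvPolynomial (Fin n) B) →ₗ[B] MvPolynomial (Fin (s + n)) B where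
  toFun a := ∑ j, ren s n (a j) * X (Fin.castAdd n j)
  map_add' a b := by
    simp only [Pi.add_apply, map_add, add_mul, Finset.sum_add_distrib]
  map_smul' c a := by
    simp only [Pi.smul_apply, map_smul, RingHom.id_apply, Finset.smul_sum, smul_mul_assoc]

lemma iota_apply (a : Fin s → MvPolynomial (Fin n) B) :
    iota s n a = ∑ j, ren s n (a j) * X (Fin.castAdd n j) := rfl

lemma iota_smul (p : MvPolynomial (Fin n) B) (a : Fin s → MvPolynomial (Fin n) B) :
    iota s n (p • a) = ren s n p * iota s n a := by
  simp only [iota_apply, Pi.smul_apply, smul_eq_mul, map_mul, Finset.mul_sum, mul_assoc]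

lemma iota_mem (a : Fin s → MvPolynomial (Fin n) B) :
    iota s n a ∈ weightedHomogeneousSubmodule B (wt s n) 1 := by
  rw [iota_apply]
  refine Submodule.sum_mem _ fun j _ => ?_
  rw [mem_weightedHomogeneousSubmodule]
  have h1 := (mem_weightedHomogeneousSubmodule B _ 0 _).mp (ren_mem s n (a j))
  have := h1.mul (isWeightedHomogeneous_X B (wt s n) (Fin.castAdd n j))
  rwa [wt_castAdd, zero_add] at this

/-- extraction of the `j₀`-th component -/
noncomputable def ev (j₀ : Fin s) : MvPolynomial (Fin (s + n)) B →ₐ[B] MvPolynomial (Fin n) B :=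
  aeval (Fin.addCases (fun j => if j = j₀ then 1 else 0) (fun i => X i))

lemma ev_ren (j₀ : Fin s) (p : MvPolynomial (Fin n) B) : ev s n j₀ (ren s n p) = p := by
  rw [ev, ren, aeval_rename]
  have : (Fin.addCases (fun j => if j = j₀ then (1 : MvPolynomial (Fin n) B) else 0)
      (fun i => X i)) ∘ (Fin.natAdd s) = X := by
    funext i; simp
  rw [this, aeval_X_left, AlgHom.id_apply]

lemma ev_iota (j₀ : Fin s) (a : Fin s → MvPolynomial (Fin n) B) :
    ev s n j₀ (iota s n a) = a j₀ := by
  classical
  rw [iota_apply, map_sum]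
  simp only [map_mul, ev_ren]
  have : ∀ j, ev s n j₀ (X (Fin.castAdd n j) : MvPolynomial (Fin (s + n)) B) =
      if j = j₀ then 1 else 0 := by
    intro j; rw [ev, aeval_X]; simp
  simp only [this, mul_ite, mul_one, mul_zero, Finset.sum_ite_eq', Finset.mem_univ, if_true]

lemma iota_injective : Function.Injective (iota (B := B) s n) := by
  intro a b h
  funext j
  rw [← ev_iota s n j a, ← ev_iota s n j b, h]

lemma exists_iota_eq (r : MvPolynomial (Fin (s + n)) B)
    (hr : r ∈ weightedHomogeneousSubmodule B (wt s n) 1) : ∃ a, iota s n a = r := by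
  classical
  suffices h : r ∈ LinearMap.range (iota (B := B) s n) from h
  rw [← MvPolynomial.support_sum_monomial_coeff r]
  refine Submodule.sum_mem _ fun d hd => ?_
  have hw : Finsupp.weight (wt s n) d = 1 :=
    (mem_weightedHomogeneousSubmodule B _ 1 r).mp hr (mem_support_iff.mp hd)
  -- some first-block variable occurs
  obtain ⟨j, hj⟩ : ∃ j : Fin s, d (Fin.castAdd n j) ≠ 0 := by
    by_contra hcon
    push Not at hcon
    have : Finsupp.weight (wt s n) d = 0 := by
      rw [Finsupp.weight_apply, Finsupp.sum]
      refine Finset.sum_eq_zero fun i _ => ?_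
      induction i using Fin.addCases with
      | left j => rw [hcon j, zero_smul]
      | right i => rw [wt_natAdd, smul_zero]
    omega
  have hw' := Finsupp.weight_sub_single_add (w := wt s n) hj
  rw [wt_castAdd, hw] at hw'
  have hw0 : Finsupp.weight (wt s n) (d - Finsupp.single (Fin.castAdd n j) 1) = 0 := by omega
  have hmem0 : monomial (d - Finsupp.single (Fin.castAdd n j) 1) (coeff d r) ∈
      weightedHomogeneousSubmodule B (wt s n) 0 := by
    rw [mem_weightedHomogeneousSubmodule]
    exact isWeightedHomogeneous_monomial _ _ _ hw0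
  obtain ⟨p', hp'⟩ := exists_ren_eq s n _ hmem0
  refine ⟨Pi.single j p', ?_⟩
  rw [iota_apply, Finset.sum_eq_single j]
  · rw [Pi.single_eq_same, hp', X, monomial_mul, mul_one,
      Finsupp.sub_add_single_one_cancel hj]
  · intro j' _ hj'
    rw [Pi.single_eq_of_ne hj', map_zero, zero_mul]
  · intro h; exact absurd (Finset.mem_univ j) h

end Structure

section Main

universe v

variable {B : Type v} [CommRing B] [IsLocalRing B]

/-- Over a local chain ring `B` whose non-units are nilpotent, a finite module over `B[ζ₁..ζₙ]`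
which is flat over `B` is finitely presented. -/
theorem finitePresentation_of_flat (hchain : ∀ a b : B, a ∣ b ∨ b ∣ a)
    (hnil : ∀ a ∈ maximalIdeal B, IsNilpotent a) (n : ℕ)
    (Q : Type*) [AddCommGroup Q] [Module B Q] [Module (MvPolynomial (Fin n) B) Q]
    [IsScalarTower B (MvPolynomial (Fin n) B) Q] [Module.Finite (MvPolynomial (Fin n) B) Q]
    (hQ : ∀ (c : B) (x : Q), c • x = 0 → ∃ (k : ℕ) (e : Fin k → B) (y : Fin k → Q),
      x = ∑ j, e j • y j ∧ ∀ j, c * e j = 0) :
    Module.FinitePresentation (MvPolynomial (Fin n) B) Q := by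
  classical
  obtain ⟨s, q, hq⟩ := Module.Finite.exists_fin (R := MvPolynomial (Fin n) B) (M := Q)
  set l : (Fin s → MvPolynomial (Fin n) B) →ₗ[MvPolynomial (Fin n) B] Q :=
    Fintype.linearCombination (MvPolynomial (Fin n) B) q with hl
  have hlsurj : Function.Surjective l := by
    rw [← LinearMap.range_eq_top, hl, Fintype.range_linearCombination, hq]
  set K := LinearMap.ker l with hK
  set 𝒩 : Submodule B (MvPolynomial (Fin (s + n)) B) :=
    Submodule.map (iota s n) (K.restrictScalars B) with h𝒩
  have hmem𝒩 : ∀ a, iota s n a ∈ 𝒩 ↔ a ∈ K := by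
    intro a
    constructor
    · rintro ⟨a', ha', h⟩
      rw [← iota_injective s n h]; exact ha'
    · intro ha; exact ⟨a, ha, rfl⟩
  have h1 : 𝒩 ≤ weightedHomogeneousSubmodule B (wt s n) 1 := by
    rintro _ ⟨a, -, rfl⟩
    exact iota_mem s n a
  have h2 : ∀ p ∈ weightedHomogeneousSubmodule B (wt s n) 0, ∀ f ∈ 𝒩, p * f ∈ 𝒩 := by
    rintro p hp _ ⟨a, ha, rfl⟩
    obtain ⟨p', rfl⟩ := exists_ren_eq s n p hp
    rw [← iota_smul, hmem𝒩]
    exact K.smul_mem p' ha
  have h3 : ∀ (c : B) (r' : MvPolynomial (Fin (s + n)) B),
      r' ∈ weightedHomogeneousSubmodule B (wt s n) 1 →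
      c • r' ∈ 𝒩 → ∃ n' ∈ 𝒩, ∀ d, c * coeff d (r' - n') = 0 := by
    intro c r' hr' hcr'
    obtain ⟨a', rfl⟩ := exists_iota_eq s n r' hr'
    rw [← map_smul, hmem𝒩] at hcr'
    have hzero : c • l a' = 0 := by
      rw [hK, LinearMap.mem_ker] at hcr'
      rw [← hcr']
      rw [← IsScalarTower.algebraMap_smul (MvPolynomial (Fin n) B) c a', map_smul,
        IsScalarTower.algebraMap_smul]
    obtain ⟨k, e, y, hy0, he'⟩ := hQ c (l a') hzero
    choose b hb using fun j => hlsurj (y j)
    refine ⟨iota s n (a' - ∑ j, e j • b j), ?_, ?_⟩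
    · rw [hmem𝒩, hK, LinearMap.mem_ker, map_sub, sub_eq_zero, hy0, map_sum]
      refine Finset.sum_congr rfl fun j _ => ?_
      rw [← IsScalarTower.algebraMap_smul (MvPolynomial (Fin n) B) (e j) (b j), map_smul,
        IsScalarTower.algebraMap_smul, hb]
    · intro d
      rw [← map_sub, sub_sub_cancel, map_sum, coeff_sum, Finset.mul_sum]
      refine Finset.sum_eq_zero fun j _ => ?_
      rw [map_smul, coeff_smul, smul_eq_mul, ← mul_assoc, he', zero_mul]
  obtain ⟨ι, hιfin, g, hg, hgen⟩ := ChainGroebner.exists_finite_generators (wt s n)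
    (MonomialOrder.lex) hchain hnil 𝒩 h1 h2 h3
  · -- conclude
    choose a ha using fun i => (Submodule.mem_map.mp (hg i))
    have hKfg : K.FG := by
      have : Fintype ι := Fintype.ofFinite ι
      refine ⟨Finset.univ.image a, le_antisymm ?_ ?_⟩
      · rw [Submodule.span_le]
        intro x hx
        obtain ⟨i, -, rfl⟩ := Finset.mem_image.mp hx
        exact (ha i).1
      · intro x hx
        obtain ⟨qq, hqq0, hqq⟩ := hgen (iota s n x) ((hmem𝒩 x).mpr hx)
        choose p' hp' using fun i => exists_ren_eq s n (qq i) (hqq0 i)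
        have hx' : x = ∑ i ∈ qq.support, p' i • a i := by
          apply iota_injective s n
          rw [hqq, map_sum, Finsupp.sum]
          refine Finset.sum_congr rfl fun i _ => ?_
          rw [iota_smul, hp', (ha i).2]
        rw [hx']
        refine Submodule.sum_mem _ fun i _ => Submodule.smul_mem _ _ (Submodule.subset_span ?_)
        exact Finset.mem_coe.mpr (Finset.mem_image_of_mem _ (Finset.mem_univ i))
    exact Module.finitePresentation_of_free_of_surjective l hlsurj hKfg

/-- Version for a `B`-algebra `S'` generated by finitely many elements. -/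
theorem finitePresentation_of_flat_of_surjective (hchain : ∀ a b : B, a ∣ b ∨ b ∣ a)
    (hnil : ∀ a ∈ maximalIdeal B, IsNilpotent a) {S' : Type*} [CommRing S'] [Algebra B S']
    (n : ℕ) (φ : MvPolynomial (Fin n) B →ₐ[B] S') (hφ : Function.Surjective φ)
    (Q : Type*) [AddCommGroup Q] [Module B Q] [Module S' Q] [IsScalarTower B S' Q]
    [Module.Finite S' Q]
    (hQ : ∀ (c : B) (x : Q), c • x = 0 → ∃ (k : ℕ) (e : Fin k → B) (y : Fin k → Q),
      x = ∑ j, e j • y j ∧ ∀ j, c * e j = 0) : Module.FinitePresentation S' Q := by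
  classical
  let _ : Module (MvPolynomial (Fin n) B) Q := Module.compHom Q φ.toRingHom
  have hsmul : ∀ (p : MvPolynomial (Fin n) B) (x : Q), p • x = φ p • x := fun _ _ => rfl
  have : IsScalarTower B (MvPolynomial (Fin n) B) Q := ⟨fun b p x => by
    rw [hsmul, hsmul, map_smul, smul_assoc]⟩
  obtain ⟨s, q, hq⟩ := Module.Finite.exists_fin (R := S') (M := Q)
  have hspan : Submodule.span (MvPolynomial (Fin n) B) (Set.range q) = ⊤ := by
    have key : ∀ x, x ∈ Submodule.span S' (Set.range q) →
        x ∈ Submodule.span (MvPolynomial (Fin n) B) (Set.range q) := by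
      intro x hx
      induction hx using Submodule.span_induction with
      | mem x hx => exact Submodule.subset_span hx
      | zero => exact Submodule.zero_mem _
      | add x y _ _ hx hy => exact Submodule.add_mem _ hx hy
      | smul a x _ hx =>
        obtain ⟨p, rfl⟩ := hφ a
        rw [← hsmul]
        exact Submodule.smul_mem _ p hx
    rw [eq_top_iff]
    intro x _
    exact key x (by rw [hq]; trivial)
  have : Module.Finite (MvPolynomial (Fin n) B) Q := ⟨⟨Finset.univ.image q, by
    rw [Finset.coe_image, Finset.coe_univ, Set.image_univ, hspan]⟩⟩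
  have := finitePresentation_of_flat hchain hnil n Q hQ
  -- kernel over `B[ζ]`
  set lP : (Fin s → MvPolynomial (Fin n) B) →ₗ[MvPolynomial (Fin n) B] Q :=
    Fintype.linearCombination (MvPolynomial (Fin n) B) q with hlP
  have hlPsurj : Function.Surjective lP := by
    rw [← LinearMap.range_eq_top, hlP, Fintype.range_linearCombination, hspan]
  obtain ⟨G, hG⟩ := Module.FinitePresentation.fg_ker lP hlPsurj
  set lS : (Fin s → S') →ₗ[S'] Q := Fintype.linearCombination S' q with hlS
  have hlSsurj : Function.Surjective lS := by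
    rw [← LinearMap.range_eq_top, hlS, Fintype.range_linearCombination, hq]
  have hcomp : ∀ a : Fin s → MvPolynomial (Fin n) B, lS (fun j => φ (a j)) = lP a := by
    intro a
    simp only [hlS, hlP, Fintype.linearCombination_apply, hsmul]
  refine Module.finitePresentation_of_free_of_surjective lS hlSsurj
    ⟨G.image (fun a j => φ (a j)), le_antisymm ?_ ?_⟩
  · rw [Submodule.span_le]
    intro x hx
    obtain ⟨a, ha, rfl⟩ := Finset.mem_image.mp hx
    have : a ∈ LinearMap.ker lP := by rw [← hG]; exact Submodule.subset_span ha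
    rw [SetLike.mem_coe, LinearMap.mem_ker, hcomp]
    exact this
  · intro x hx
    have hlift : ∃ a : Fin s → MvPolynomial (Fin n) B, (fun j => φ (a j)) = x := by
      choose a ha using fun j => hφ (x j)
      exact ⟨a, funext ha⟩
    obtain ⟨a, rfl⟩ := hlift
    have ha : a ∈ Submodule.span (MvPolynomial (Fin n) B)
        (G : Set (Fin s → MvPolynomial (Fin n) B)) := by
      rw [hG, LinearMap.mem_ker, ← hcomp]; exact hx
    have key2 : ∀ a : Fin s → MvPolynomial (Fin n) B,
        a ∈ Submodule.span (MvPolynomial (Fin n) B)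
          (G : Set (Fin s → MvPolynomial (Fin n) B)) →
        (fun j => φ (a j)) ∈
          Submodule.span S' (↑(G.image (fun a j => φ (a j))) : Set (Fin s → S')) := by
      intro a ha
      induction ha using Submodule.span_induction with
      | mem a ha =>
        exact Submodule.subset_span (Finset.mem_coe.mpr (Finset.mem_image_of_mem _ ha))
      | zero =>
        have : (fun j => φ ((0 : Fin s → MvPolynomial (Fin n) B) j)) = 0 := by
          funext j; simp
        rw [this]; exact Submodule.zero_mem _
      | add a b _ _ ha hb =>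
        have : (fun j => φ ((a + b) j)) = (fun j => φ (a j)) + fun j => φ (b j) := by
          funext j; simp
        rw [this]; exact Submodule.add_mem _ ha hb
      | smul p a _ ha =>
        have : (fun j => φ ((p • a) j)) = φ p • fun j => φ (a j) := by
          funext j; simp
        rw [this]; exact Submodule.smul_mem _ _ ha
    exact key2 a ha

end Main

end Groth.Agent.Lib.Seat52.ChainFP
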