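import Groth.Agent.Lib.Seat52NilDiv
import Mathlib.RingTheory.MvPolynomial.WeightedHomogeneous
import Mathlib.Data.Finsupp.PWO
import Mathlib.Order.WellFoundedSet
import Mathlib.RingTheory.LocalRing.ResidueField.Basic
import Mathlib.RingTheory.GradedAlgebra.Basic
import Mathlib.RingTheory.Nilpotent.Lemmas
import Mathlib.RingTheory.Noetherian.Nilpotent
import Mathlib.RingTheory.Finiteness.Ideal

set_option autoImplicit false

namespace Groth.Agent.Lib.Seat52.ChainGroebner

open MvPolynomial IsLocalRing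

/-- Dickson's lemma in the form: every set of exponents has a finite subset of lower bounds. -/
theorem dickson {σ : Type*} [Finite σ] (D : Set (σ →₀ ℕ)) :
    ∃ D₀ : Set (σ →₀ ℕ), D₀.Finite ∧ D₀ ⊆ D ∧ ∀ a ∈ D, ∃ b ∈ D₀, b ≤ a := by
  have hpwo : D.IsPWO := Set.isPWO_of_wellQuasiOrderedLE D
  refine ⟨{b | Minimal (· ∈ D) b}, ?_, fun b hb => hb.1, ?_⟩
  · have hanti : IsAntichain (· ≤ ·) {b | Minimal (· ∈ D) b} := by
      intro a ha b hb hab hle
      exact hab (le_antisymm hle (hb.2 ha.1 hle))
    exact hanti.finite_of_partiallyWellOrderedOn (hpwo.mono fun b hb => hb.1)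
  · intro a ha
    obtain ⟨b, hba, hb⟩ := hpwo.exists_le_minimal ha
    exact ⟨b, hb, hba⟩

/-- In a chain ring, a nonempty finite set has an element dividing all others. -/
theorem exists_dvd_all {B : Type*} [CommRing B] (hchain : ∀ a b : B, a ∣ b ∨ b ∣ a)
    (s : Finset B) (hs : s.Nonempty) : ∃ a ∈ s, ∀ b ∈ s, a ∣ b := by
  classical
  induction hs using Finset.Nonempty.cons_induction with
  | singleton a => exact ⟨a, Finset.mem_singleton_self a, fun b hb => by
      rw [Finset.mem_singleton.mp hb]⟩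
  | cons a s ha hs ih =>
    obtain ⟨a₀, ha₀, h₀⟩ := ih
    rcases hchain a a₀ with h | h
    · refine ⟨a, Finset.mem_cons_self a s, fun b hb => ?_⟩
      rcases Finset.mem_cons.mp hb with rfl | hb
      · exact dvd_rfl
      · exact h.trans (h₀ b hb)
    · refine ⟨a₀, Finset.mem_cons.mpr (Or.inr ha₀), fun b hb => ?_⟩
      rcases Finset.mem_cons.mp hb with rfl | hb
      · exact h
      · exact h₀ b hb

section UnitPart

variable {ρ : Type*} (m : MonomialOrder ρ) {B : Type*} [CommRing B] [IsLocalRing B]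

/-- The part of a polynomial consisting of the terms with unit coefficients. -/
noncomputable def unitPart (g : MvPolynomial ρ B) : MvPolynomial ρ B :=
  ∑ d ∈ (MvPolynomial.map (residue B) g).support, monomial d (coeff d g)

lemma coeff_unitPart [DecidableEq ρ] (g : MvPolynomial ρ B) (d : ρ →₀ ℕ) :
    coeff d (unitPart g) =
      if d ∈ (MvPolynomial.map (residue B) g).support then coeff d g else 0 := by
  classical
  rw [unitPart, coeff_sum]
  simp only [coeff_monomial]
  rw [Finset.sum_ite_eq']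

lemma support_unitPart (g : MvPolynomial ρ B) :
    (unitPart g).support = (MvPolynomial.map (residue B) g).support := by
  classical
  ext d
  rw [mem_support_iff, coeff_unitPart]
  constructor
  · intro h
    by_contra hd
    rw [if_neg hd] at h
    exact h rfl
  · intro hd
    rw [if_pos hd]
    intro h0
    rw [mem_support_iff, coeff_map, h0, map_zero] at hd
    exact hd rfl

lemma degree_unitPart (g : MvPolynomial ρ B) :
    m.degree (unitPart g) = m.degree (MvPolynomial.map (residue B) g) := by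
  rw [MonomialOrder.degree, MonomialOrder.degree, support_unitPart]

lemma isUnit_leadingCoeff_unitPart (g : MvPolynomial ρ B)
    (hg : MvPolynomial.map (residue B) g ≠ 0) : IsUnit (m.leadingCoeff (unitPart g)) := by
  classical
  rw [MonomialOrder.leadingCoeff, degree_unitPart, coeff_unitPart]
  have hmem : m.degree (MvPolynomial.map (residue B) g) ∈
      (MvPolynomial.map (residue B) g).support := m.degree_mem_support hg
  rw [if_pos hmem]
  rw [mem_support_iff, coeff_map] at hmem
  exact (IsLocalRing.residue_ne_zero_iff_isUnit _).mp hmem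

lemma coeff_sub_unitPart_mem (g : MvPolynomial ρ B) (d : ρ →₀ ℕ) :
    coeff d (g - unitPart g) ∈ maximalIdeal B := by
  classical
  rw [coeff_sub, coeff_unitPart]
  by_cases hd : d ∈ (MvPolynomial.map (residue B) g).support
  · rw [if_pos hd, sub_self]; exact Submodule.zero_mem _
  · rw [if_neg hd, sub_zero]
    rw [mem_support_iff, not_not, coeff_map] at hd
    exact (IsLocalRing.residue_eq_zero_iff _).mp hd

end UnitPart

section Weighted

attribute [local instance] MvPolynomial.weightedGradedAlgebra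

lemma whc_mul_of_mem {ρ : Type*} {B : Type*} [CommRing B] (w : ρ → ℕ) (q g : MvPolynomial ρ B)
    (hg : g ∈ weightedHomogeneousSubmodule B w 1) :
    weightedHomogeneousComponent w 1 (q * g) = weightedHomogeneousComponent w 0 q * g := by
  classical
  have h := DirectSum.coe_decompose_mul_of_right_mem_of_le
    (𝒜 := weightedHomogeneousSubmodule B w) (a := q) (b := g) (i := 1) (n := 1) hg le_rfl
  have e1 : ∀ (φ : MvPolynomial ρ B) (k : ℕ),
      (DirectSum.decompose (weightedHomogeneousSubmodule B w) φ k : MvPolynomial ρ B) =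
        weightedHomogeneousComponent w k φ := fun φ k =>
    weightedDecomposition.decompose'_apply B w φ k
  rw [e1, e1] at h
  exact h

end Weighted

section Main

universe u v

variable {ρ : Type u} [Finite ρ] (w : ρ → ℕ) {B : Type v} [CommRing B]
  [IsLocalRing B]

/-- Key finiteness theorem over a chain ring with nil maximal ideal: a `B`-submodule `𝒩` of the
weight-one part of `B[ρ]`, stable under multiplication by the weight-zero part and with flat
cokernel (expressed through the equational criterion), is generated by finitely many elements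
over the weight-zero part. -/
theorem exists_finite_generators (m : MonomialOrder ρ) (hchain : ∀ a b : B, a ∣ b ∨ b ∣ a)
    (hnil : ∀ a ∈ maximalIdeal B, IsNilpotent a)
    (𝒩 : Submodule B (MvPolynomial ρ B))
    (h𝒩L : 𝒩 ≤ weightedHomogeneousSubmodule B w 1)
    (hmul : ∀ p ∈ weightedHomogeneousSubmodule B w 0, ∀ f ∈ 𝒩, p * f ∈ 𝒩)
    (hflat : ∀ (c : B) (r' : MvPolynomial ρ B), r' ∈ weightedHomogeneousSubmodule B w 1 →
      c • r' ∈ 𝒩 → ∃ n ∈ 𝒩, ∀ d, c * coeff d (r' - n) = 0) :
    ∃ (ι : Type u) (_ : Finite ι) (g : ι → MvPolynomial ρ B), (∀ i, g i ∈ 𝒩) ∧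
      ∀ f ∈ 𝒩, ∃ q : ι →₀ MvPolynomial ρ B,
        (∀ i, q i ∈ weightedHomogeneousSubmodule B w 0) ∧ f = q.sum fun i a => a * g i := by
  classical
  set π := MvPolynomial.map (σ := ρ) (residue B) with hπ
  set D : Set (ρ →₀ ℕ) := {d | ∃ f ∈ 𝒩, π f ≠ 0 ∧ m.degree (π f) = d} with hD
  obtain ⟨D₀, hD₀fin, hD₀sub, hD₀⟩ := dickson D
  have hsel : ∀ d : D₀, ∃ g ∈ 𝒩, π g ≠ 0 ∧ m.degree (π g) = d.1 := fun d => hD₀sub d.2
  choose g hg𝒩 hgne hgdeg using hsel
  have : Finite D₀ := hD₀fin
  set bp : D₀ → MvPolynomial ρ B := fun d => unitPart (g d) with hbp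
  set bm : D₀ → MvPolynomial ρ B := fun d => g d - unitPart (g d) with hbm
  have hb : ∀ i, IsUnit (m.leadingCoeff (bp i)) := fun i =>
    isUnit_leadingCoeff_unitPart m (g i) (hgne i)
  have hdegbp : ∀ i, m.degree (bp i) = i.1 := fun i => by
    rw [hbp]; simp only; rw [degree_unitPart, ← hgdeg i]
  set 𝔠 : Ideal B := Ideal.span (⋃ d : D₀, Set.range (fun e => coeff e (bm d))) with h𝔠
  have h𝔠fg : 𝔠.FG := by
    refine Submodule.fg_span (Set.finite_iUnion fun d => ?_)
    refine Set.Finite.subset ((bm d).support.finite_toSet.image (fun e => coeff e (bm d))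
      |>.insert 0) ?_
    rintro _ ⟨e, rfl⟩
    by_cases he : e ∈ (bm d).support
    · exact Set.mem_insert_of_mem _ ⟨e, he, rfl⟩
    · rw [mem_support_iff, not_not] at he
      simp only [he]
      exact Set.mem_insert _ _
  have h𝔠le : 𝔠 ≤ maximalIdeal B := by
    rw [h𝔠, Ideal.span_le]
    intro x hx
    obtain ⟨d, hd⟩ := Set.mem_iUnion.mp hx
    obtain ⟨e, rfl⟩ := hd
    exact coeff_sub_unitPart_mem (g d) e
  have h𝔠nil : IsNilpotent 𝔠 := by
    rw [Ideal.FG.isNilpotent_iff_le_nilradical h𝔠fg]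
    intro x hx
    exact mem_nilradical.mpr (hnil x (h𝔠le hx))
  have hbm𝔠 : ∀ i e, coeff e (bm i) ∈ 𝔠 := fun i e =>
    Ideal.subset_span (Set.mem_iUnion.mpr ⟨i, e, rfl⟩)
  refine ⟨D₀, inferInstance, g, hg𝒩, ?_⟩
  intro f hf
  obtain ⟨q, r, hfqr, hr⟩ := NilDiv.div_nilpotent m bp bm hb 𝔠 h𝔠nil hbm𝔠 f
  have hbpm : (fun i => bp i + bm i) = g := by
    funext i; simp only [hbp, hbm]; ring
  rw [hbpm] at hfqr
  set q₀ : D₀ →₀ MvPolynomial ρ B :=
    q.mapRange (weightedHomogeneousComponent w 0) (map_zero _) with hq₀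
  set r₁ := weightedHomogeneousComponent w 1 r with hr₁
  have hfL := h𝒩L hf
  have hdecomp : f = (q₀.sum fun i a => a * g i) + r₁ := by
    have h1 := congrArg (weightedHomogeneousComponent w 1) hfqr
    rw [weightedHomogeneousComponent_eq_self hfL, map_add, Finsupp.linearCombination_apply,
      Finsupp.sum, map_sum] at h1
    rw [h1, hq₀, Finsupp.sum_mapRange_index (fun i => by simp)]
    congr 1
    refine Finset.sum_congr rfl fun i _ => ?_
    rw [smul_eq_mul, whc_mul_of_mem w (q i) (g i) (h𝒩L (hg𝒩 i))]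
  have hq₀mem : ∀ i, q₀ i ∈ weightedHomogeneousSubmodule B w 0 := fun i => by
    rw [hq₀, Finsupp.mapRange_apply]
    exact weightedHomogeneousComponent_mem w _ 0
  refine ⟨q₀, hq₀mem, ?_⟩
  suffices hr₁0 : r₁ = 0 by rw [hdecomp, hr₁0, add_zero]
  by_contra hr₁ne
  -- `r₁ ∈ 𝒩`
  have hr₁𝒩 : r₁ ∈ 𝒩 := by
    have : r₁ = f - q₀.sum fun i a => a * g i := by rw [hdecomp]; ring
    rw [this]
    refine 𝒩.sub_mem hf (𝒩.sum_mem fun i _ => hmul _ (hq₀mem i) _ (hg𝒩 i))
  have hr₁L : r₁ ∈ weightedHomogeneousSubmodule B w 1 := weightedHomogeneousComponent_mem w r 1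
  have hsupp : r₁.support ⊆ r.support := by
    rw [hr₁, support_weightedHomogeneousComponent]
    exact Finset.filter_subset _ _
  -- the coefficient dividing all the others
  have hsne : (r₁.support.image fun d => coeff d r₁).Nonempty := by
    rw [Finset.image_nonempty]
    exact MvPolynomial.support_nonempty.mpr hr₁ne
  obtain ⟨c, hc, hcdvd⟩ := exists_dvd_all hchain _ hsne
  obtain ⟨d₁, hd₁, rfl⟩ := Finset.mem_image.mp hc
  have hdvd : ∀ d ∈ r₁.support, coeff d₁ r₁ ∣ coeff d r₁ := fun d hd =>
    hcdvd _ (Finset.mem_image_of_mem _ hd)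
  have hc0 : coeff d₁ r₁ ≠ 0 := mem_support_iff.mp hd₁
  set e : (ρ →₀ ℕ) → B := fun d =>
    if d = d₁ then 1 else if h : d ∈ r₁.support then Classical.choose (hdvd d h) else 0 with he
  have he_spec : ∀ d ∈ r₁.support, coeff d r₁ = coeff d₁ r₁ * e d := by
    intro d hd
    by_cases hdd : d = d₁
    · simp only [he, hdd, if_true, mul_one]
    · simp only [he, if_neg hdd, dif_pos hd]
      exact Classical.choose_spec (hdvd d hd)
  set r' : MvPolynomial ρ B := ∑ d ∈ r₁.support, monomial d (e d) with hr'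
  have hcoeff' : ∀ d, coeff d r' = if d ∈ r₁.support then e d else 0 := by
    intro d
    rw [hr', coeff_sum]
    simp only [coeff_monomial]
    rw [Finset.sum_ite_eq']
  have hcr' : coeff d₁ r₁ • r' = r₁ := by
    ext d
    rw [coeff_smul, hcoeff', smul_eq_mul]
    by_cases hd : d ∈ r₁.support
    · rw [if_pos hd, ← he_spec d hd]
    · rw [if_neg hd, mul_zero]
      rw [mem_support_iff, not_not] at hd
      exact hd.symm
  have hr'supp : r'.support ⊆ r₁.support := by
    intro d hd
    rw [mem_support_iff, hcoeff'] at hd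
    by_contra h
    rw [if_neg h] at hd
    exact hd rfl
  have hr'L : r' ∈ weightedHomogeneousSubmodule B w 1 := by
    rw [mem_weightedHomogeneousSubmodule]
    intro d hd
    have hd' : d ∈ r₁.support := hr'supp (mem_support_iff.mpr hd)
    exact (mem_weightedHomogeneousSubmodule B w 1 r₁).mp hr₁L (mem_support_iff.mp hd')
  obtain ⟨n, hn𝒩, hn⟩ := hflat (coeff d₁ r₁) r' hr'L (by rw [hcr']; exact hr₁𝒩)
  have hnmax : ∀ d, coeff d (r' - n) ∈ maximalIdeal B := by
    intro d
    rw [mem_maximalIdeal, mem_nonunits_iff]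
    intro hu
    apply hc0
    have := hn d
    rwa [hu.mul_left_eq_zero] at this
  have hπeq : π n = π r' := by
    ext d
    rw [hπ, coeff_map, coeff_map]
    have := (IsLocalRing.residue_eq_zero_iff _).mpr (hnmax d)
    rw [coeff_sub, map_sub, sub_eq_zero] at this
    exact this.symm
  have hπr'ne : π r' ≠ 0 := by
    intro h0
    have := congrArg (coeff d₁) h0
    rw [hπ, coeff_map, hcoeff', if_pos hd₁] at this
    simp only [he, if_true, map_one, coeff_zero] at this
    exact one_ne_zero this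
  have hDmem : m.degree (π n) ∈ D := ⟨n, hn𝒩, by rw [hπeq]; exact hπr'ne, rfl⟩
  obtain ⟨d₀, hd₀, hd₀le⟩ := hD₀ _ hDmem
  have hdegmem : m.degree (π r') ∈ r.support := by
    have h1 : m.degree (π r') ∈ (π r').support := m.degree_mem_support hπr'ne
    exact hsupp (hr'supp (MvPolynomial.support_map_subset _ _ h1))
  apply hr _ hdegmem ⟨d₀, hd₀⟩
  rw [hdegbp, ← hπeq]
  exact hd₀le

end Main

end Groth.Agent.Lib.Seat52.ChainGroebner
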