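import Groth.Agent.Lib.Seat52FTCompl
import Groth.Agent.Lib.Seat52CLoc2
import Mathlib.RingTheory.Flat.EquationalCriterion

/-!
# helper52: chart algebras of admissible formal blowing-ups (Bosch FRG §8.2)

`I`-power torsion of the completed chart `C_i` equals its `f_i`-power torsion (S11540).
-/

set_option autoImplicit false
set_option linter.style.haveILetI false
set_option linter.unusedSectionVars false
universe u

namespace Groth.Agent.Lib.Seat52.Chart

open AdicRing MvPolynomial

section Flat

/-- Consequence of the equational criterion: in a flat module, an element killed by finitely many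
ring elements is a combination with coefficients killed by these elements. -/
lemma exists_of_flat_of_smul_eq_zero {B M : Type*} [CommRing B] [AddCommGroup M] [Module B M]
    [Module.Flat B M] {p : ℕ} (a : Fin p → B) (x : M) (h : ∀ l, a l • x = 0) :
    ∃ (k : ℕ) (c : Fin k → B) (y : Fin k → M), x = ∑ j, c j • y j ∧ ∀ j l, a l * c j = 0 := by
  classical
  let f : (Fin p → B) →ₗ[B] B := Fintype.linearCombination B a
  let xl : B →ₗ[B] M := LinearMap.toSpanSingleton B M x
  have hxf : xl ∘ₗ f = 0 := by
    apply LinearMap.ext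
    intro v
    simp only [LinearMap.comp_apply, LinearMap.zero_apply, f, xl, Fintype.linearCombination_apply,
      LinearMap.toSpanSingleton_apply, Finset.sum_smul, smul_eq_mul, mul_smul, h, smul_zero,
      Finset.sum_const_zero]
  obtain ⟨k, α, y, hy, hα⟩ := Module.Flat.exists_factorization_of_comp_eq_zero_of_free hxf
  refine ⟨k, fun j => α 1 j, fun j => y (Finsupp.single j 1), ?_, ?_⟩
  · have h1 : x = xl 1 := by simp [xl]
    rw [h1, hy, LinearMap.comp_apply]
    conv_lhs => rw [← Finsupp.univ_sum_single (α 1)]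
    rw [map_sum]
    refine Finset.sum_congr rfl fun j _ => ?_
    rw [← Finsupp.smul_single_one, map_smul]
  · intro j l
    have h2 := LinearMap.congr_fun hα (Pi.single l 1)
    simp only [LinearMap.comp_apply, LinearMap.zero_apply, f, Fintype.linearCombination_apply] at h2
    rw [Finset.sum_eq_single l (by intro b _ hb; simp [Pi.single_eq_of_ne hb])
      (by intro hl; exact absurd (Finset.mem_univ l) hl)] at h2
    simp only [Pi.single_eq_same, one_smul] at h2
    have h3 : α (a l) = a l • α 1 := by
      rw [← map_smul, smul_eq_mul, mul_one]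
    rw [h3] at h2
    have := DFunLike.congr_fun h2 j
    simpa using this

end Flat

section Alg

variable {A : Type u} [CommRing A] {ι : Type} (f : ι → A) (i : ι)

/-- the relations ideal of the chart algebra -/
noncomputable abbrev rel : Ideal (MvPolynomial {j : ι // j ≠ i} A) :=
  Ideal.span (Set.range fun j : {j : ι // j ≠ i} =>
    MvPolynomial.C (f i) * MvPolynomial.X j - MvPolynomial.C (f j.1))

lemma algebraMap_f_mem (j : ι) :
    algebraMap A (chartAlg f i) (f j) ∈
      Ideal.span {algebraMap A (chartAlg f i) (f i)} := by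
  by_cases h : j = i
  · subst h
    exact Ideal.mem_span_singleton_self _
  · rw [Ideal.mem_span_singleton]
    refine ⟨Ideal.Quotient.mk _ (X ⟨j, h⟩), ?_⟩
    change Ideal.Quotient.mk (rel f i) (C (f j)) =
      Ideal.Quotient.mk (rel f i) (C (f i)) * Ideal.Quotient.mk _ (X ⟨j, h⟩)
    rw [← map_mul, eq_comm, Ideal.Quotient.eq]
    exact Ideal.subset_span ⟨⟨j, h⟩, rfl⟩

/-- evaluation `ζ_j ↦ f_j / f_i` on the polynomial ring -/
noncomputable def ev₀ : MvPolynomial {j : ι // j ≠ i} A →ₐ[A] Localization.Away (f i) :=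
  aeval (fun j => algebraMap A _ (f j.1) * IsLocalization.Away.invSelf (f i))

lemma ev₀_rel (p : MvPolynomial {j : ι // j ≠ i} A) (hp : p ∈ rel f i) : ev₀ f i p = 0 := by
  have : rel f i ≤ RingHom.ker (ev₀ f i).toRingHom := by
    rw [Ideal.span_le]
    rintro _ ⟨j, rfl⟩
    change ev₀ f i _ = 0
    rw [map_sub, map_mul, ev₀, aeval_C, aeval_C, aeval_X]
    have := IsLocalization.Away.mul_invSelf (S := Localization.Away (f i)) (f i)
    calc algebraMap A (Localization.Away (f i)) (f i) *
          (algebraMap A _ (f j.1) * IsLocalization.Away.invSelf (f i)) - algebraMap A _ (f j.1)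
        = algebraMap A _ (f j.1) * (algebraMap A (Localization.Away (f i)) (f i) *
            IsLocalization.Away.invSelf (f i)) - algebraMap A _ (f j.1) := by ring
      _ = 0 := by rw [this, mul_one, sub_self]
  exact this hp

/-- evaluation `ζ_j ↦ f_j / f_i` on the chart algebra -/
noncomputable def ev : chartAlg f i →ₐ[A] Localization.Away (f i) :=
  Ideal.Quotient.liftₐ (rel f i) (ev₀ f i) (ev₀_rel f i)

lemma ev_mk (p : MvPolynomial {j : ι // j ≠ i} A) :
    ev f i (Ideal.Quotient.mk (rel f i) p) = ev₀ f i p := rfl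

lemma key (p : MvPolynomial {j : ι // j ≠ i} A) :
    ∃ (d : ℕ) (q : A), C (f i) ^ d * p - C q ∈ rel f i ∧
      algebraMap A (Localization.Away (f i)) q =
        algebraMap A (Localization.Away (f i)) (f i) ^ d * ev₀ f i p := by
  induction p using MvPolynomial.induction_on with
  | C a =>
    refine ⟨0, a, by simp, ?_⟩
    rw [pow_zero, one_mul, ev₀, aeval_C]
  | add p₁ p₂ h₁ h₂ =>
    obtain ⟨d₁, q₁, hr₁, he₁⟩ := h₁
    obtain ⟨d₂, q₂, hr₂, he₂⟩ := h₂
    refine ⟨d₁ + d₂, f i ^ d₂ * q₁ + f i ^ d₁ * q₂, ?_, ?_⟩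
    · have : C (f i) ^ (d₁ + d₂) * (p₁ + p₂) - C (f i ^ d₂ * q₁ + f i ^ d₁ * q₂) =
          C (f i) ^ d₂ * (C (f i) ^ d₁ * p₁ - C q₁) + C (f i) ^ d₁ * (C (f i) ^ d₂ * p₂ - C q₂) := by
        simp only [map_add, map_mul, map_pow]
        ring
      rw [this]
      exact Ideal.add_mem _ (Ideal.mul_mem_left _ _ hr₁) (Ideal.mul_mem_left _ _ hr₂)
    · rw [map_add, map_mul, map_mul, map_pow, map_pow, he₁, he₂, map_add]
      ring
  | mul_X p j h =>
    obtain ⟨d, q, hr, he⟩ := h
    refine ⟨d + 1, q * f j.1, ?_, ?_⟩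
    · have : C (f i) ^ (d + 1) * (p * X j) - C (q * f j.1) =
          (C (f i) ^ d * p) * (C (f i) * X j - C (f j.1)) + C (f j.1) * (C (f i) ^ d * p - C q) := by
        simp only [map_mul]
        ring
      rw [this]
      exact Ideal.add_mem _ (Ideal.mul_mem_left _ _ (Ideal.subset_span ⟨j, rfl⟩))
        (Ideal.mul_mem_left _ _ hr)
    · rw [map_mul, he, map_mul, ev₀, aeval_X]
      have := IsLocalization.Away.mul_invSelf (S := Localization.Away (f i)) (f i)
      calc algebraMap A (Localization.Away (f i)) (f i) ^ d * (aeval fun j : {j : ι // j ≠ i} =>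
              algebraMap A (Localization.Away (f i)) (f j.1) *
                IsLocalization.Away.invSelf (f i)) p * algebraMap A _ (f j.1)
          = algebraMap A (Localization.Away (f i)) (f i) ^ d * (aeval fun j : {j : ι // j ≠ i} =>
              algebraMap A (Localization.Away (f i)) (f j.1) *
                IsLocalization.Away.invSelf (f i)) p * algebraMap A _ (f j.1) *
              (algebraMap A (Localization.Away (f i)) (f i) *
                IsLocalization.Away.invSelf (f i)) := by rw [this, mul_one]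
        _ = _ := by ring

/-- the kernel of the evaluation consists of `f_i`-power torsion -/
lemma exists_pow_mul_eq_zero_of_ev_eq_zero (x : chartAlg f i) (hx : ev f i x = 0) :
    ∃ N : ℕ, algebraMap A (chartAlg f i) (f i) ^ N * x = 0 := by
  obtain ⟨p, rfl⟩ := Ideal.Quotient.mk_surjective x
  obtain ⟨d, q, hr, he⟩ := key f i p
  rw [ev_mk] at hx
  rw [hx, mul_zero] at he
  obtain ⟨⟨_, M, rfl⟩, hM⟩ :=
    (IsLocalization.map_eq_zero_iff (Submonoid.powers (f i)) (Localization.Away (f i)) q).mp he
  refine ⟨M + d, ?_⟩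
  change Ideal.Quotient.mk (rel f i) (C (f i)) ^ (M + d) * Ideal.Quotient.mk (rel f i) p = 0
  rw [← map_pow, ← map_mul, Ideal.Quotient.eq_zero_iff_mem]
  have : C (f i) ^ (M + d) * p = C (f i) ^ M * (C (f i) ^ d * p - C q) + C (f i ^ M * q) := by
    simp only [map_mul, map_pow]
    ring
  rw [this]
  simp only at hM
  rw [hM, map_zero, add_zero]
  exact Ideal.mul_mem_left _ _ hr

end Alg

section Main

variable (R : Type u) [CommRing R] (I : Ideal R) (hR : AdicRing.IsBase R I)
    (A : Type u) [CommRing A] [Algebra R A] (hA : AdicRing.Admissible R I A)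
    (r : ℕ) (f : Fin (r + 1) → A) (i : Fin (r + 1))

include hR hA in
/-- `I`-power torsion in the (uncompleted) chart algebra is `f_i`-power torsion -/
lemma exists_pow_mul_eq_zero_of_powTorsion (x : chartAlg f i) (n : ℕ)
    (hx : ∀ a ∈ I ^ n, a • x = 0) :
    ∃ N : ℕ, algebraMap A (chartAlg f i) (f i) ^ N * x = 0 := by
  apply exists_pow_mul_eq_zero_of_ev_eq_zero
  have hI := AdicTrunc.fg_of_isBase hR
  haveI : Module.Flat A (Localization.Away (f i)) :=
    IsLocalization.flat _ (Submonoid.powers (f i))
  have htor : NoPowTorsion I (Localization.Away (f i)) :=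
    CLocLib.noPowTorsion_of_flat R I hI hA.2 _
  apply htor _ n
  intro a ha
  rw [← algebraMap_smul A a (ev f i x), ← map_smul, algebraMap_smul, hx a ha, map_zero]

include hR hA in
theorem powTorsion_iff (k : ℕ)
    (hopen : (I ^ k).map (algebraMap R A) ≤ Ideal.span (Set.range f))
    (x : chartCompl I f i) :
    (∃ n : ℕ, ∀ a ∈ I ^ n, a • x = 0) ↔
      ∃ n : ℕ, algebraMap A (chartCompl I f i) (f i) ^ n * x = 0 := by
  have hI := AdicTrunc.fg_of_isBase hR
  have hAt : TopFiniteType R I A := CLocLib.tft_of_tfp R I hA.1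
  have hsm : ∀ (c : chartAlg f i) (y : chartCompl I f i),
      c • y = algebraMap (chartAlg f i) (chartCompl I f i) c * y := by
    intro c y
    exact Algebra.smul_def c y
  have hg : algebraMap A (chartCompl I f i) (f i) =
      algebraMap (chartAlg f i) (chartCompl I f i) (algebraMap A (chartAlg f i) (f i)) := rfl
  constructor
  · rintro ⟨n, hx⟩
    haveI : Module.Flat (chartAlg f i) (chartCompl I f i) :=
      FTCompl.flat_adicCompletion R I hR A hAt (chartAlg f i)
    obtain ⟨p, b, hb⟩ := Submodule.fg_iff_exists_fin_generating_family.mp (hI.pow (n := n))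
    have hbmem : ∀ l, b l ∈ I ^ n := fun l => hb ▸ Submodule.subset_span ⟨l, rfl⟩
    obtain ⟨m, c, y, hxy, hc⟩ := exists_of_flat_of_smul_eq_zero
      (fun l => algebraMap R (chartAlg f i) (b l)) x (fun l => by
        rw [algebraMap_smul]
        exact hx _ (hbmem l))
    have hcj : ∀ j, ∃ N : ℕ, algebraMap A (chartAlg f i) (f i) ^ N * c j = 0 := by
      intro j
      apply exists_pow_mul_eq_zero_of_powTorsion R I hR A hA r f i (c j) n
      intro a ha
      rw [← hb] at ha
      induction ha using Submodule.span_induction with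
      | mem a ha =>
        obtain ⟨l, rfl⟩ := ha
        exact (Algebra.smul_def _ _).trans (hc j l)
      | zero => rw [zero_smul]
      | add a a' _ _ h h' => rw [add_smul, h, h', add_zero]
      | smul s a _ h => rw [smul_assoc, h, smul_zero]
    choose Nj hNj using hcj
    refine ⟨Finset.univ.sup Nj, ?_⟩
    rw [hxy, Finset.mul_sum]
    refine Finset.sum_eq_zero fun j _ => ?_
    rw [hg, hsm, ← mul_assoc, ← map_pow, ← map_mul]
    have hle : Nj j ≤ Finset.univ.sup Nj := Finset.le_sup (Finset.mem_univ j)
    have : algebraMap A (chartAlg f i) (f i) ^ (Finset.univ.sup Nj) * c j = 0 := by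
      rw [← Nat.sub_add_cancel hle, pow_add, mul_assoc, hNj j, mul_zero]
    rw [this, map_zero, zero_mul]
  · rintro ⟨n, hx⟩
    refine ⟨k * n, fun a ha => ?_⟩
    -- `I^k C⁰ ⊆ f_i C⁰`
    have h1 : (I ^ k).map (algebraMap R (chartAlg f i)) ≤
        Ideal.span {algebraMap A (chartAlg f i) (f i)} := by
      rw [IsScalarTower.algebraMap_eq R A (chartAlg f i), ← Ideal.map_map]
      refine le_trans (Ideal.map_mono hopen) ?_
      rw [Ideal.map_span, Ideal.span_le]
      rintro _ ⟨_, ⟨j, rfl⟩, rfl⟩
      exact algebraMap_f_mem f i j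
    have h2 : algebraMap R (chartAlg f i) a ∈
        Ideal.span {algebraMap A (chartAlg f i) (f i) ^ n} := by
      rw [← Ideal.span_singleton_pow]
      refine Ideal.pow_right_mono h1 n ?_
      rw [← Ideal.map_pow, ← pow_mul]
      exact Ideal.mem_map_of_mem _ ha
    obtain ⟨e, he⟩ := Ideal.mem_span_singleton.mp h2
    rw [← algebraMap_smul (chartAlg f i) a x, he, hsm, map_mul, map_pow, ← hg, mul_comm _
      (algebraMap (chartAlg f i) (chartCompl I f i) e), mul_assoc, hx, mul_zero]

end Main

end Groth.Agent.Lib.Seat52.Chart
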