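import Mathlib.RingTheory.AdicCompletion.AsTensorProduct
import Mathlib.RingTheory.Flat.Basic

/-!
# helper52: exactness of adic completion from an Artin–Rees hypothesis

Copies of the Mathlib proofs of `AdicCompletion.map_injective`, `AdicCompletion.map_exact`,
`AdicCompletion.ofTensorProduct_bijective_of_finite_of_isNoetherian` and
`AdicCompletion.flat_of_isNoetherian`, with the Noetherian hypothesis replaced by the Artin–Rees
property that is actually used.
-/

set_option autoImplicit false
universe u

namespace Groth.Agent.Lib.Seat52.ComplAR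

open LinearMap AdicCompletion TensorProduct

variable {R : Type u} [CommRing R] (I : Ideal R)
variable {M : Type u} [AddCommGroup M] [Module R M]
variable {N : Type u} [AddCommGroup N] [Module R N]
variable {P : Type u} [AddCommGroup P] [Module R P]

/-- Adic completion preserves injectivity, given Artin–Rees for the image. -/
theorem map_injective_of_ar {f : M →ₗ[R] N} (hf : Function.Injective f) {k : ℕ}
    (hk : ∀ n ≥ k, I ^ n • ⊤ ⊓ LinearMap.range f =
      I ^ (n - k) • (I ^ k • ⊤ ⊓ LinearMap.range f)) :
    Function.Injective (map I f) := by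
  rw [← LinearMap.ker_eq_bot, LinearMap.ker_eq_bot']
  intro x
  apply AdicCompletion.induction_on I M x (fun a ↦ ?_)
  intro hx
  refine AdicCompletion.mk_zero_of _ _ _ ⟨42, fun n _ ↦ ⟨n + k, by lia, n, by lia, ?_⟩⟩
  rw [← Submodule.comap_map_eq_of_injective hf (I ^ n • ⊤ : Submodule R M),
    Submodule.map_smul'', Submodule.map_top]
  apply (smul_mono_right _ inf_le_right : I ^ n • (I ^ k • ⊤ ⊓ (range f)) ≤ _)
  nth_rw 1 [show n = n + k - k by lia]
  rw [← hk (n + k) (show n + k ≥ k by lia)]
  exact ⟨by simpa using congrArg (fun x ↦ x.val (n + k)) hx, ⟨a (n + k), rfl⟩⟩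

section

variable {I}
variable {f : M →ₗ[R] N} {g : N →ₗ[R] P} (hf : Function.Injective f)
  (hfg : Function.Exact f g) (hg : Function.Surjective g)

section

variable {k : ℕ}
  (hkn : ∀ n ≥ k, I ^ n • ⊤ ⊓ LinearMap.range f = I ^ (n - k) • (I ^ k • ⊤ ⊓ LinearMap.range f))
  (x : AdicCauchySequence I N) (hker : ∀ (n : ℕ), g (x n) ∈ (I ^ n • ⊤ : Submodule R P))

/-- In each step, a preimage is constructed from the preimage of the previous step by
adding this delta. -/
noncomputable def mapExactAuxDelta {n : ℕ} {d : N}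
    (hdmem : d ∈ (I ^ (k + n + 1) • ⊤ : Submodule R N)) {y yₙ : M}
    (hd : f y = x (k + n + 1) - d) (hyₙ : f yₙ - x (k + n) ∈ (I ^ (k + n) • ⊤ : Submodule R N)) :
    { d : (I ^ n • ⊤ : Submodule R M)
      | f (yₙ + d) - x (k + n + 1) ∈ (I ^ (k + n + 1) • ⊤ : Submodule R N) } :=
  have h : f (y - yₙ) ∈ (I ^ (k + n) • ⊤ : Submodule R N) := by
    simp only [map_sub, hd]
    convert_to x (k + n + 1) - x (k + n) - d - (f yₙ - x (k + n)) ∈ I ^ (k + n) • ⊤
    · abel
    · refine Submodule.sub_mem _ (Submodule.sub_mem _ ?_ ?_) hyₙ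
      · rw [← Submodule.Quotient.eq]
        exact AdicCauchySequence.mk_eq_mk (by lia) _
      · exact (Submodule.smul_mono_left (Ideal.pow_le_pow_right (by lia))) hdmem
  have hincl : I ^ (k + n - k) • (I ^ k • ⊤ ⊓ range f) ≤ I ^ (k + n - k) • (range f) :=
    smul_mono_right _ inf_le_right
  have hyyₙ : y - yₙ ∈ (I ^ n • ⊤ : Submodule R M) := by
    convert_to y - yₙ ∈ (I ^ (k + n - k) • ⊤ : Submodule R M)
    · simp
    · rw [← Submodule.comap_map_eq_of_injective hf (I ^ (k + n - k) • ⊤ : Submodule R M),
        Submodule.map_smul'', Submodule.map_top]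
      apply hincl
      rw [← hkn (k + n) (by lia)]
      exact ⟨h, ⟨y - yₙ, rfl⟩⟩
  ⟨⟨y - yₙ, hyyₙ⟩, by simpa [hd, Nat.succ_eq_add_one, Nat.add_assoc]⟩

open Submodule

include hfg in
/-- Inductively construct preimage of Cauchy sequence in kernel of `g.adicCompletion I`. -/
noncomputable def mapExactAux :
    (n : ℕ) → { a : M | f a - x (k + n) ∈ (I ^ (k + n) • ⊤ : Submodule R N) }
  | .zero =>
    let d := (h2 0).choose
    let y := (h2 0).choose_spec.choose
    have hdy : f y = x (k + 0) - d := (h2 0).choose_spec.choose_spec.right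
    have hdmem := (h2 0).choose_spec.choose_spec.left
    ⟨y, by simpa [hdy]⟩
  | .succ n =>
    let d := (h2 <| n + 1).choose
    let y := (h2 <| n + 1).choose_spec.choose
    have hdy : f y = x (k + (n + 1)) - d := (h2 <| n + 1).choose_spec.choose_spec.right
    have hdmem := (h2 <| n + 1).choose_spec.choose_spec.left
    let ⟨yₙ, (hyₙ : f yₙ - x (k + n) ∈ (I ^ (k + n) • ⊤ : Submodule R N))⟩ :=
      mapExactAux n
    let ⟨d, hd⟩ := mapExactAuxDelta hf hkn x hdmem hdy hyₙ
    ⟨yₙ + d, hd⟩
where
  h1 (n : ℕ) : g (x (k + n)) ∈ Submodule.map g (I ^ (k + n) • ⊤ : Submodule R N) := by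
    rw [map_smul'', Submodule.map_top, range_eq_top.mpr hg]
    exact hker (k + n)
  h2 (n : ℕ) : ∃ (d : N) (y : M),
      d ∈ (I ^ (k + n) • ⊤ : Submodule R N) ∧ f y = x (k + n) - d := by
    obtain ⟨d, hdmem, hd⟩ := h1 n
    obtain ⟨y, hdy⟩ := (hfg (x (k + n) - d)).mp (by simp [hd])
    exact ⟨d, y, hdmem, hdy⟩

end

include hf hfg hg in
/-- `AdicCompletion` is exact on a short exact sequence satisfying Artin–Rees. -/
theorem map_exact_of_ar {k : ℕ}
    (hk : ∀ n ≥ k, I ^ n • ⊤ ⊓ LinearMap.range f =
      I ^ (n - k) • (I ^ k • ⊤ ⊓ LinearMap.range f)) :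
    Function.Exact (map I f) (map I g) := by
  refine LinearMap.exact_of_comp_eq_zero_of_ker_le_range ?_ (fun y ↦ ?_)
  · rw [AdicCompletion.map_comp, hfg.linearMap_comp_eq_zero, AdicCompletion.map_zero]
  · apply AdicCompletion.induction_on I N y (fun b ↦ ?_)
    intro hz
    have hb (n : ℕ) : g (b n) ∈ (I ^ n • ⊤ : Submodule R P) := by
      simpa using congrArg (fun x ↦ x.val n) hz
    let a := mapExactAux hf hfg hg hk b hb
    refine ⟨AdicCompletion.mk I M (AdicCauchySequence.mk I M (fun n ↦ (a n : M)) ?_), ?_⟩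
    · refine fun n ↦ SModEq.symm ?_
      simp [a, mapExactAux, SModEq]
    · ext n
      suffices h : Submodule.Quotient.mk (p := (I ^ n • ⊤ : Submodule R N)) (f (a n)) =
            Submodule.Quotient.mk (p := (I ^ n • ⊤ : Submodule R N)) (b (k + n)) by
        simp [h, AdicCauchySequence.mk_eq_mk (show n ≤ k + n by lia)]
      rw [Submodule.Quotient.eq]
      have hle : (I ^ (k + n) • ⊤ : Submodule R N) ≤ (I ^ n • ⊤ : Submodule R N) :=
        Submodule.smul_mono_left (Ideal.pow_le_pow_right (by lia))
      exact hle (a n).property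

end


section Approx

variable {K₀ K : Type u} [AddCommGroup K₀] [Module R K₀] [AddCommGroup K] [Module R K]

/-- If `j : K₀ → K` is injective with `I^c K ⊆ j(K₀)`, every element of the completion of `K`
is the sum of an element of `K` and an element coming from the completion of `K₀`. -/
theorem exists_of_add_map (j : K₀ →ₗ[R] K) (hj : Function.Injective j) (c : ℕ)
    (hc : (I ^ c • ⊤ : Submodule R K) ≤ LinearMap.range j) (y : AdicCompletion I K) :
    ∃ (k : K) (y' : AdicCompletion I K₀), y = of I K k + map I j y' := by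
  revert y
  intro y
  apply AdicCompletion.induction_on I K y (fun a ↦ ?_)
  have h1 : ∀ n : ℕ, (a (n + c) - a c : K) ∈ (I ^ c • ⊤ : Submodule R K) := by
    intro n
    rw [← Submodule.Quotient.eq]
    exact AdicCauchySequence.mk_eq_mk (by lia) a
  choose b hb using fun n => hc (h1 n)
  have hb2 : ∀ n : ℕ, b n ≡ b (n + 1) [SMOD (I ^ n • ⊤ : Submodule R K₀)] := by
    intro n
    rw [SModEq.sub_mem]
    rw [← Submodule.comap_map_eq_of_injective hj (I ^ n • ⊤ : Submodule R K₀),
      Submodule.map_smul'', Submodule.map_top, Submodule.mem_comap, map_sub, hb, hb]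
    have h2 : (a (n + c) - a c - (a (n + 1 + c) - a c) : K) ∈
        (I ^ (n + c) • ⊤ : Submodule R K) := by
      rw [sub_sub_sub_cancel_right, ← Submodule.Quotient.eq]
      exact (AdicCauchySequence.mk_eq_mk (by lia) a).symm
    have h3 : (I ^ (n + c) • ⊤ : Submodule R K) ≤ I ^ n • LinearMap.range j := by
      rw [pow_add, mul_smul]
      exact smul_mono_right _ hc
    exact h3 h2
  refine ⟨a c, AdicCompletion.mk I K₀ (AdicCauchySequence.mk I K₀ b hb2), ?_⟩
  ext n
  simp only [mk_apply_coe, val_add, of_apply, map_mk, Submodule.mkQ_apply, Pi.add_apply]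
  change Submodule.Quotient.mk (a n) = Submodule.Quotient.mk (a c) +
    Submodule.Quotient.mk (j (b n))
  rw [hb, ← Submodule.Quotient.mk_add, add_sub_cancel]
  exact (AdicCauchySequence.mk_eq_mk (by lia) a).symm

/-- `ofTensorProduct` is surjective for a module `K` which contains a finite submodule `K₀`
with `I^c K ⊆ K₀`. -/
theorem ofTensorProduct_surjective_of_le (j : K₀ →ₗ[R] K) (hj : Function.Injective j)
    [Module.Finite R K₀] (c : ℕ)
    (hc : (I ^ c • ⊤ : Submodule R K) ≤ LinearMap.range j) :
    Function.Surjective (ofTensorProduct I K) := by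
  intro y
  obtain ⟨k, y', rfl⟩ := exists_of_add_map I j hj c hc y
  obtain ⟨z', rfl⟩ := ofTensorProduct_surjective_of_finite I K₀ y'
  refine ⟨(1 : AdicCompletion I R) ⊗ₜ[R] k +
    AlgebraTensorModule.map (LinearMap.id : AdicCompletion I R →ₗ[AdicCompletion I R] _) j z', ?_⟩
  rw [map_add, ofTensorProduct_tmul, one_smul]
  congr 1
  have := LinearMap.congr_fun (ofTensorProduct_naturality I j) z'
  simpa using this.symm

end Approx


section Five

variable (M)
variable {ι : Type} [Finite ι] (f : (ι → R) →ₗ[R] M) (hf : Function.Surjective f)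

include hf in
theorem ofTensorProduct_bijective_of_ar {k : ℕ}
    (hk : ∀ n ≥ k, I ^ n • ⊤ ⊓ LinearMap.range (LinearMap.ker f).subtype =
      I ^ (n - k) • (I ^ k • ⊤ ⊓ LinearMap.range (LinearMap.ker f).subtype))
    (hsurj : Function.Surjective (ofTensorProduct I (LinearMap.ker f))) :
    Function.Bijective (ofTensorProduct I M) :=
  LinearMap.bijective_of_surjective_of_bijective_of_bijective_of_injective
    (AlgebraTensorModule.map (LinearMap.id : AdicCompletion I R →ₗ[AdicCompletion I R] _)
      (LinearMap.ker f).subtype)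
    (AlgebraTensorModule.map (LinearMap.id : AdicCompletion I R →ₗ[AdicCompletion I R] _) f)
    (0 : AdicCompletion I R ⊗[R] M →ₗ[AdicCompletion I R] Unit)
    (0 : _ →ₗ[AdicCompletion I R] Unit)
    (map I <| (LinearMap.ker f).subtype)
    (map I f)
    (0 : _ →ₗ[AdicCompletion I R] Unit)
    (0 : _ →ₗ[AdicCompletion I R] Unit)
    (ofTensorProduct I (LinearMap.ker f))
    (ofTensorProduct I (ι → R))
    (ofTensorProduct I M)
    0
    0
    (ofTensorProduct_naturality I <| (LinearMap.ker f).subtype)
    (ofTensorProduct_naturality I f)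
    rfl
    rfl
    (lTensor_exact (AdicCompletion I R) (f.exact_subtype_ker_map) hf)
    ((LinearMap.exact_zero_iff_surjective _ _).mpr <|
      LinearMap.lTensor_surjective (AdicCompletion I R) hf)
    ((LinearMap.exact_zero_iff_surjective _ _).mpr <| Function.surjective_to_subsingleton _)
    (map_exact_of_ar (Submodule.injective_subtype _) (f.exact_subtype_ker_map) hf hk)
    ((LinearMap.exact_zero_iff_surjective _ _).mpr <| map_surjective I hf)
    ((LinearMap.exact_zero_iff_surjective _ _).mpr <| Function.surjective_to_subsingleton _)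
    hsurj
    (ofTensorProduct_bijective_of_pi_of_fintype I ι)
    (Function.bijective_of_subsingleton _)
    (Function.injective_of_subsingleton _)

end Five

section Good

/-- The Artin–Rees-type properties of a pair `(R, I)` from which exactness of completion on
finite modules follows. -/
structure GoodAR (R : Type u) [CommRing R] (I : Ideal R) : Prop where
  ar : ∀ (M : Type u) [AddCommGroup M] [Module R M] [Module.Finite R M] (N : Submodule R M),
    ∃ k : ℕ, ∀ n ≥ k, I ^ n • ⊤ ⊓ N = I ^ (n - k) • (I ^ k • ⊤ ⊓ N)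
  approx : ∀ (M : Type u) [AddCommGroup M] [Module R M] [Module.Finite R M] (K : Submodule R M),
    ∃ K₀ : Submodule R M, K₀ ≤ K ∧ K₀.FG ∧ ∃ c : ℕ, I ^ c • K ≤ K₀

variable {I}

theorem GoodAR.ofTensorProduct_bijective (h : GoodAR R I) (M : Type u) [AddCommGroup M]
    [Module R M] [Module.Finite R M] : Function.Bijective (ofTensorProduct I M) := by
  obtain ⟨n, f, hf⟩ := Module.Finite.exists_fin' R M
  obtain ⟨k, hk⟩ := h.ar (Fin n → R) (LinearMap.ker f)
  obtain ⟨K₀, hle, hfg, c, hc⟩ := h.approx (Fin n → R) (LinearMap.ker f)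
  refine ofTensorProduct_bijective_of_ar I M f hf (k := k)
    (by simpa only [Submodule.range_subtype] using hk) ?_
  haveI : Module.Finite R K₀ := Module.Finite.iff_fg.mpr hfg
  refine ofTensorProduct_surjective_of_le I (Submodule.inclusion hle)
    (Submodule.inclusion_injective hle) c ?_
  intro z hz
  have hz' : (z : Fin n → R) ∈ I ^ c • LinearMap.ker f := by
    have := Submodule.mem_map_of_mem (f := (LinearMap.ker f).subtype) hz
    rwa [Submodule.map_smul'', Submodule.map_top, Submodule.range_subtype] at this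
  exact ⟨⟨z, hc hz'⟩, Subtype.ext rfl⟩

theorem GoodAR.map_injective (h : GoodAR R I) {M N : Type u} [AddCommGroup M] [Module R M]
    [AddCommGroup N] [Module R N] [Module.Finite R N] {f : M →ₗ[R] N}
    (hf : Function.Injective f) : Function.Injective (map I f) := by
  obtain ⟨k, hk⟩ := h.ar N (LinearMap.range f)
  exact map_injective_of_ar I hf hk

theorem GoodAR.flat (h : GoodAR R I) : Module.Flat R (AdicCompletion I R) := by
  refine Module.Flat.iff_lTensor_injective.mpr fun J hJ => ?_
  haveI : Module.Finite R J := Module.Finite.iff_fg.mpr hJ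
  have hbJ := h.ofTensorProduct_bijective J
  have hinj : Function.Injective (map I J.subtype) :=
    h.map_injective (Submodule.injective_subtype J)
  have hnat := ofTensorProduct_naturality I J.subtype
  have hcomp : Function.Injective (ofTensorProduct I R ∘ₗ
      AlgebraTensorModule.map (LinearMap.id : AdicCompletion I R →ₗ[AdicCompletion I R] _)
        J.subtype) := by
    rw [← hnat]
    exact hinj.comp hbJ.injective
  exact Function.Injective.of_comp hcomp

end Good

end Groth.Agent.Lib.Seat52.ComplAR
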