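import Groth.Agent.Lib.Seat52PolySat3
import Groth.Agent.Lib.Seat52ComplAR
import Groth.Agent.Lib.Seat52AdicBase3

/-!
# helper52: completions of finite-type algebras over algebras topologically of finite type
(Bosch FRG §7.3, Lemma 7.3/7 for `C` of finite type over `A`, and the consequences
`Ĉ ⊗ M ≅ M̂`, `Ĉ` flat over `C`.)
-/

set_option autoImplicit false
set_option linter.style.haveILetI false
set_option linter.unusedSectionVars false
universe u

namespace Groth.Agent.Lib.Seat52.FTCompl

open AdicRing AdicBase PolySat ComplAR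

section Sat

variable {B : Type*} [CommRing B] (τ : B) {M : Type*} [AddCommGroup M] [Module B M]

/-- the `τ`-saturation of a submodule -/
def satSub (N : Submodule B M) : Submodule B M where
  carrier := {x | ∃ k : ℕ, τ ^ k • x ∈ N}
  add_mem' := by
    rintro x y ⟨k, hk⟩ ⟨l, hl⟩
    refine ⟨k + l, ?_⟩
    rw [smul_add]
    refine N.add_mem ?_ ?_
    · rw [pow_add, mul_comm, mul_smul]
      exact N.smul_mem _ hk
    · rw [pow_add, mul_smul]
      exact N.smul_mem _ hl
  zero_mem' := ⟨0, by simp⟩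
  smul_mem' := by
    rintro c x ⟨k, hk⟩
    exact ⟨k, by rw [smul_comm]; exact N.smul_mem c hk⟩

lemma mem_satSub {N : Submodule B M} {x : M} : x ∈ satSub τ N ↔ ∃ k : ℕ, τ ^ k • x ∈ N := Iff.rfl

lemma le_satSub (N : Submodule B M) : N ≤ satSub τ N := fun x hx => ⟨0, by simpa using hx⟩

lemma satSub_sat (N : Submodule B M) (x : M) (hx : τ • x ∈ satSub τ N) : x ∈ satSub τ N := by
  obtain ⟨k, hk⟩ := hx
  exact ⟨k + 1, by rwa [pow_succ, mul_smul]⟩

theorem exists_pow_smul_mem_of_fg (N : Submodule B M) (hfg : (satSub τ N).FG) :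
    ∃ n₀ : ℕ, ∀ x ∈ satSub τ N, τ ^ n₀ • x ∈ N := by
  have hfin : ∀ S : Finset M, (∀ g ∈ S, g ∈ satSub τ N) → ∃ n₀ : ℕ, ∀ g ∈ S, τ ^ n₀ • g ∈ N := by
    classical
    intro S
    induction S using Finset.induction_on with
    | empty => intro _; exact ⟨0, by simp⟩
    | insert g S hg ih =>
      intro h
      obtain ⟨n₁, hn₁⟩ := ih (fun g' hg' => h g' (Finset.mem_insert_of_mem hg'))
      obtain ⟨k, hk⟩ := h g (Finset.mem_insert_self g S)
      refine ⟨n₁ + k, fun g' hg' => ?_⟩
      rcases Finset.mem_insert.mp hg' with rfl | hg''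
      · rw [pow_add, mul_smul]
        exact N.smul_mem _ hk
      · rw [pow_add, mul_comm, mul_smul]
        exact N.smul_mem _ (hn₁ g' hg'')
  obtain ⟨S, hS⟩ := hfg
  obtain ⟨n₀, hn₀⟩ := hfin S (fun g hg => hS ▸ Submodule.subset_span hg)
  refine ⟨n₀, fun x hx => ?_⟩
  have hx' : x ∈ Submodule.span B (S : Set M) := by
    rw [hS]
    exact hx
  have key : ∀ x, x ∈ Submodule.span B (S : Set M) → τ ^ n₀ • x ∈ N := by
    intro x hx
    induction hx using Submodule.span_induction with
    | mem g hg => exact hn₀ g hg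
    | zero => simp
    | add x y _ _ hx hy => rw [smul_add]; exact N.add_mem hx hy
    | smul c x _ hx => rw [smul_comm]; exact N.smul_mem c hx
  exact key x hx'

theorem ar_strong (N : Submodule B M) (n₀ : ℕ) (h : ∀ x ∈ satSub τ N, τ ^ n₀ • x ∈ N) :
    ∀ n ≥ n₀, (Ideal.span {τ}) ^ n • (⊤ : Submodule B M) ⊓ N =
      (Ideal.span {τ}) ^ (n - n₀) • ((Ideal.span {τ}) ^ n₀ • (⊤ : Submodule B M) ⊓ N) := by
  intro n hn
  apply le_antisymm
  · rintro x ⟨hx1, hx2⟩
    obtain ⟨y, rfl⟩ := (mem_span_pow_smul_top_iff τ n x).mp hx1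
    have hy : τ ^ n₀ • y ∈ N := h y ⟨n, hx2⟩
    have e : τ ^ n • y = τ ^ (n - n₀) • (τ ^ n₀ • y) := by
      rw [smul_smul, ← pow_add, Nat.sub_add_cancel hn]
    rw [e]
    refine Submodule.smul_mem_smul (Ideal.pow_mem_pow (Ideal.mem_span_singleton_self τ) _) ⟨?_, hy⟩
    exact (mem_span_pow_smul_top_iff τ n₀ _).mpr ⟨y, rfl⟩
  · refine le_inf ?_ ?_
    · refine le_trans (smul_mono_right _ inf_le_left) ?_
      rw [← mul_smul, ← pow_add, Nat.sub_add_cancel hn]
    · exact le_trans (smul_mono_right _ inf_le_right) Submodule.smul_le_right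

theorem approx (K : Submodule B M) (hfg : (satSub τ K).FG) :
    ∃ K₀ : Submodule B M, K₀ ≤ K ∧ K₀.FG ∧ ∃ c : ℕ, (Ideal.span {τ}) ^ c • K ≤ K₀ := by
  obtain ⟨n₀, hn₀⟩ := exists_pow_smul_mem_of_fg τ K hfg
  refine ⟨(satSub τ K).map (LinearMap.lsmul B M (τ ^ n₀)), ?_, hfg.map _, n₀, ?_⟩
  · rintro _ ⟨y, hy, rfl⟩
    exact hn₀ y hy
  · rw [Submodule.smul_le]
    intro r hr x hx
    rw [Ideal.span_singleton_pow, Ideal.mem_span_singleton'] at hr
    obtain ⟨b, rfl⟩ := hr
    refine ⟨b • x, le_satSub τ K (K.smul_mem b hx), ?_⟩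
    rw [LinearMap.lsmul_apply, smul_smul, mul_comm]

end Sat

section Good

theorem goodAR_of_sat_fg {B : Type u} [CommRing B] (τ : B)
    (hfg : ∀ (M : Type u) [AddCommGroup M] [Module B M] [Module.Finite B M] (N : Submodule B M),
      (∀ x : M, τ • x ∈ N → x ∈ N) → N.FG) : GoodAR B (Ideal.span {τ}) where
  ar := by
    intro M _ _ _ N
    obtain ⟨n₀, hn₀⟩ := exists_pow_smul_mem_of_fg τ N (hfg M _ (satSub_sat τ N))
    exact ⟨n₀, ar_strong τ N n₀ hn₀⟩
  approx := by
    intro M _ _ _ K
    exact approx τ K (hfg M _ (satSub_sat τ K))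

end Good

section FT

/-- class (V): saturated submodules of finite modules over a finite type algebra over an algebra
topologically of finite type are finitely generated. -/
theorem fg_of_sat_finiteType_V
    (R : Type u) [CommRing R] [IsDomain R] [PreValuationRing R] [Ring.KrullDimLE 1 R]
    (t : R) (ht : t ≠ 0) [IsAdicComplete (Ideal.span {t}) R]
    (A : Type u) [CommRing A] [Algebra R A] (hA : TopFiniteType R (Ideal.span {t}) A)
    (C : Type u) [CommRing C] [Algebra R C] [Algebra A C] [IsScalarTower R A C]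
    [Algebra.FiniteType A C]
    (M : Type u) [AddCommGroup M] [Module C M] [Module.Finite C M] (N : Submodule C M)
    (hsat : ∀ x : M, algebraMap R C t • x ∈ N → x ∈ N) : N.FG := by
  haveI : ValuationRing R := {}
  obtain ⟨n, φ, hφ⟩ := hA
  obtain ⟨m, ψ, hψ⟩ := Algebra.FiniteType.iff_quotient_mvPolynomial''.mp
    (inferInstance : Algebra.FiniteType A C)
  let Φ : MvPolynomial (Fin m) (RPow R (Ideal.span {t}) n) →ₐ[R] C :=
    (ψ.restrictScalars R).comp (MvPolynomial.mapAlgHom φ)
  have hΦ : Function.Surjective Φ := by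
    have : ⇑Φ = ⇑ψ ∘ ⇑(MvPolynomial.map (φ : RPow R (Ideal.span {t}) n →+* A)) := rfl
    rw [this]
    exact hψ.comp (MvPolynomial.map_surjective _ hφ)
  obtain ⟨s, mg, hmg⟩ := Module.Finite.exists_fin (R := C) (M := M)
  haveI : RingHomSurjective (Φ : MvPolynomial (Fin m) (RPow R (Ideal.span {t}) n) →+* C) := ⟨hΦ⟩
  haveI := isAdicComplete_rpow_span R t n
  have hfg : (N.comap (piMap Φ mg)).FG := by
    refine fg_of_saturated_mvPolynomial R t ht (RPow R (Ideal.span {t}) n)
      (RPowSat.haus_of_isAdicComplete _) (RPowSat.compl_of_isAdicComplete _) n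
      (RPowSat.phi R (Ideal.span {t}) n)
      (RPowSat.phi_surjective R (Ideal.span {t}) n ⟨{t}, by simp⟩) m s _ ?_
    intro x hx
    rw [Submodule.mem_comap] at hx ⊢
    rw [LinearMap.map_smulₛₗ] at hx
    apply hsat
    have e : (Φ : MvPolynomial (Fin m) (RPow R (Ideal.span {t}) n) →+* C)
        (algebraMap R _ t) = algebraMap R C t := Φ.commutes t
    rwa [e] at hx
  have h2 := hfg.map (piMap Φ mg)
  rwa [Submodule.map_comap_eq_of_surjective (piMap_surjective Φ hΦ mg hmg)] at h2

theorem goodAR_finiteType_V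
    (R : Type u) [CommRing R] [IsDomain R] [PreValuationRing R] [Ring.KrullDimLE 1 R]
    (t : R) (ht : t ≠ 0) [IsAdicComplete (Ideal.span {t}) R]
    (A : Type u) [CommRing A] [Algebra R A] (hA : TopFiniteType R (Ideal.span {t}) A)
    (C : Type u) [CommRing C] [Algebra R C] [Algebra A C] [IsScalarTower R A C]
    [Algebra.FiniteType A C] :
    GoodAR C ((Ideal.span {t}).map (algebraMap R C)) := by
  rw [Ideal.map_span, Set.image_singleton]
  exact goodAR_of_sat_fg (algebraMap R C t) fun M _ _ _ N hN =>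
    fg_of_sat_finiteType_V R t ht A hA C M N hN

/-- S11537. -/
theorem ofTensorProduct_bijective
    (R : Type u) [CommRing R] (I : Ideal R) (hR : AdicRing.IsBase R I)
    (A : Type u) [CommRing A] [Algebra R A] (hA : AdicRing.TopFiniteType R I A)
    (B : Type u) [CommRing B] [Algebra R B] [Algebra A B] [IsScalarTower R A B]
    [Algebra.FiniteType A B]
    (M : Type u) [AddCommGroup M] [Module B M] [Module.Finite B M] :
    Function.Bijective
      (AdicCompletion.ofTensorProduct (I.map (algebraMap R B)) M) := by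
  obtain ⟨hc, h | h⟩ := hR
  · obtain ⟨hN, -⟩ := h
    haveI := isNoetherianRing_of_tft R I A hA
    haveI : IsNoetherianRing B := Algebra.FiniteType.isNoetherianRing A B
    exact AdicCompletion.ofTensorProduct_bijective_of_finite_of_isNoetherian _ M
  · obtain ⟨hD, hV, hK, t, ht, rfl⟩ := h
    exact (goodAR_finiteType_V R t ht A hA B).ofTensorProduct_bijective M

/-- S11539. -/
theorem flat_adicCompletion
    (R : Type u) [CommRing R] (I : Ideal R) (hR : AdicRing.IsBase R I)
    (A : Type u) [CommRing A] [Algebra R A] (hA : AdicRing.TopFiniteType R I A)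
    (C : Type u) [CommRing C] [Algebra R C] [Algebra A C] [IsScalarTower R A C]
    [Algebra.FiniteType A C] :
    Module.Flat C (AdicCompletion (I.map (algebraMap R C)) C) := by
  obtain ⟨hc, h | h⟩ := hR
  · obtain ⟨hN, -⟩ := h
    haveI := isNoetherianRing_of_tft R I A hA
    haveI : IsNoetherianRing C := Algebra.FiniteType.isNoetherianRing A C
    exact AdicCompletion.flat_of_isNoetherian _
  · obtain ⟨hD, hV, hK, t, ht, rfl⟩ := h
    exact (goodAR_finiteType_V R t ht A hA C).flat

end FT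

end Groth.Agent.Lib.Seat52.FTCompl
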