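import Mathlib.RingTheory.AdjoinRoot
import Mathlib.RingTheory.IntegralClosure.IsIntegral.Basic
import Mathlib.LinearAlgebra.FreeModule.Finite.Basic

/-!
# helper52: a finite free algebra mapping onto finitely many integral elements

Given finitely many elements `z i` of an `R`-algebra `K` which are integral over `R`, there is a
finite free `R`-algebra `F` (an iterated `AdjoinRoot` of monic polynomials) with elements `x i`
and an `R`-algebra homomorphism `F → K` sending `x i` to `z i`.
-/

set_option autoImplicit false
universe u v

namespace Groth.Agent.Lib.Seat52.FinFree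

open Polynomial

theorem exists_finite_free_algebra (R : Type u) [CommRing R] (K : Type v) [CommRing K]
    [Algebra R K] :
    ∀ (n : ℕ) (z : Fin n → K), (∀ i, IsIntegral R (z i)) →
      ∃ (F : Type u) (_ : CommRing F) (_ : Algebra R F) (_ : Module.Free R F)
        (_ : Module.Finite R F) (x : Fin n → F) (ε : F →ₐ[R] K), ∀ i, ε (x i) = z i := by
  intro n
  induction n with
  | zero =>
    intro z _
    exact ⟨R, inferInstance, inferInstance, inferInstance, inferInstance, Fin.elim0,
      Algebra.ofId R K, fun i => i.elim0⟩
  | succ n ih =>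
    intro z hz
    obtain ⟨F, _, _, hfree, hfin, x, ε, hx⟩ := ih (fun i => z i.castSucc) (fun i => hz _)
    obtain ⟨H, hH, hH0⟩ := hz (Fin.last n)
    set H' : F[X] := H.map (algebraMap R F) with hH'
    have hH'm : H'.Monic := hH.map _
    haveI : Module.Free F (AdjoinRoot H') := hH'm.free_adjoinRoot
    haveI : Module.Finite F (AdjoinRoot H') := hH'm.finite_adjoinRoot
    haveI : Module.Free R (AdjoinRoot H') := Module.Free.trans (R := R) (S := F)
    haveI : Module.Finite R (AdjoinRoot H') := Module.Finite.trans F _
    have h0 : H'.eval₂ (ε : F →+* K) (z (Fin.last n)) = 0 := by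
      rw [hH', Polynomial.eval₂_map]
      have : (ε : F →+* K).comp (algebraMap R F) = algebraMap R K := by
        ext r; exact ε.commutes r
      rw [this]
      exact hH0
    refine ⟨AdjoinRoot H', inferInstance, inferInstance, inferInstance, inferInstance,
      Fin.snoc (fun i => AdjoinRoot.of H' (x i)) (AdjoinRoot.root H'),
      AdjoinRoot.liftAlgHom H' ε (z (Fin.last n)) h0, ?_⟩
    intro i
    refine Fin.lastCases ?_ (fun j => ?_) i
    · rw [Fin.snoc_last, AdjoinRoot.liftAlgHom_root]
    · rw [Fin.snoc_castSucc, AdjoinRoot.liftAlgHom_of, hx]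

end Groth.Agent.Lib.Seat52.FinFree
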