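import Mathlib
import Groth.Agent.Lib.Helper19RegSecA
import Groth.Agent.Lib.Helper5RLR3

/-!
# helper52: quotients by sequences regular on the closed fibre of a flat local homomorphism are flat
-/

set_option autoImplicit false
set_option linter.style.haveILetI false
set_option linter.unusedSectionVars false
universe u v

open RingTheory.Sequence IsLocalRing

namespace Groth.Agent.Lib.Seat52.FlatRegQuot

section

variable {R S : Type u} [CommRing R] [CommRing S] [IsLocalRing R] [IsLocalRing S]
  [IsNoetherianRing R] [IsNoetherianRing S] [Algebra R S] [IsLocalHom (algebraMap R S)]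

/-- If a sequence `l` of `S` is weakly regular on the closed fibre `N / 𝔪_R N` of a finite `S`-module
`N` that is flat over `R`, then `N / (l) N` is flat over `R`. -/
theorem flat_quotient_ofList_smul_top (l : List S) :
    ∀ (N : Type v) [AddCommGroup N] [Module S N] [Module R N] [IsScalarTower R S N]
      [Module.Finite S N] [Module.Flat R N],
      IsWeaklyRegular (N ⧸ ((maximalIdeal R).map (algebraMap R S) • ⊤ : Submodule S N)) l →
      Module.Flat R (N ⧸ (Ideal.ofList l • ⊤ : Submodule S N)) := by
  induction l with
  | nil =>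
    intro N _ _ _ _ _ _ _
    have h0 : (Ideal.ofList ([] : List S) • ⊤ : Submodule S N) = ⊥ := by
      rw [Ideal.ofList_nil, Submodule.bot_smul]
    have e : (N ⧸ (Ideal.ofList ([] : List S) • ⊤ : Submodule S N)) ≃ₗ[S] N :=
      (Submodule.quotEquivOfEq _ _ h0).trans (Submodule.quotEquivOfEqBot ⊥ rfl)
    exact Module.Flat.of_linearEquiv (e.restrictScalars R)
  | cons y l ih =>
    intro N _ _ _ _ _ _ h
    rw [isWeaklyRegular_cons_iff] at h
    obtain ⟨h1, h2⟩ := h
    haveI : Module.Flat R (QuotSMulTop y N) :=
      Groth.Agent.Lib.Helper28.flat_quotSMulTop_of_isSMulRegular_quotient (R := R) y h1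
    have h3 : IsWeaklyRegular (QuotSMulTop y N ⧸
        ((maximalIdeal R).map (algebraMap R S) • ⊤ : Submodule S (QuotSMulTop y N))) l :=
      (LinearEquiv.isWeaklyRegular_congr
        (Groth.Agent.Lib.Helper28.quotSMulTopQuotEquiv y _) l).mpr h2
    have h4 := ih (QuotSMulTop y N) h3
    exact Module.Flat.of_linearEquiv
      ((Submodule.quotOfListConsSMulTopEquivQuotSMulTopInner N y l).restrictScalars R)

/-- Ring version: if the image of `l` in the closed fibre `S ⧸ 𝔪_R S` of a flat local homomorphism
`R → S` is weakly regular, then `S ⧸ (l)` is flat over `R`. -/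
theorem flat_quotient_ofList [Module.Flat R S] (l : List S)
    (h : IsWeaklyRegular (S ⧸ (maximalIdeal R).map (algebraMap R S))
      (l.map (Ideal.Quotient.mk ((maximalIdeal R).map (algebraMap R S))))) :
    Module.Flat R (S ⧸ Ideal.ofList l) := by
  have h1 : IsWeaklyRegular (S ⧸ (maximalIdeal R).map (algebraMap R S)) l :=
    (isWeaklyRegular_map_algebraMap_iff (S ⧸ (maximalIdeal R).map (algebraMap R S))
      (S ⧸ (maximalIdeal R).map (algebraMap R S)) l).mp h
  have e : ((maximalIdeal R).map (algebraMap R S) • ⊤ : Submodule S S) =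
      (maximalIdeal R).map (algebraMap R S) := by
    rw [smul_eq_mul, Ideal.mul_top]
  have h2 : IsWeaklyRegular (S ⧸ ((maximalIdeal R).map (algebraMap R S) • ⊤ : Submodule S S)) l :=
    (LinearEquiv.isWeaklyRegular_congr (Submodule.quotEquivOfEq _ _ e) l).mpr h1
  have h3 := flat_quotient_ofList_smul_top (R := R) l S h2
  have e' : (Ideal.ofList l • ⊤ : Submodule S S) = Ideal.ofList l := by
    rw [smul_eq_mul, Ideal.mul_top]
  exact Module.Flat.of_linearEquiv
    ((Submodule.quotEquivOfEq _ _ e').symm.restrictScalars R)

end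

end Groth.Agent.Lib.Seat52.FlatRegQuot
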