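import Groth.Agent.Lib.Seat52SpecPoint
import Mathlib.Algebra.MvPolynomial.Nilpotent

/-!
# helper52: primitive parts in `R⟨ζ⟩` over a complete valuation ring of height one

* `exists_eq_mul_of_mem_map_maximalIdeal`: elements of `𝔪_R T` are of the form `a * g`, `a ∈ 𝔪_R`.
* `coeff_mem_of_algebraMap_mem`: a polynomial lying in `𝔪_R R⟨ζ⟩` has all coefficients in `𝔪_R`.
* `exists_primitive_part`: every nonzero `f ∈ R⟨ζ⟩` is `a • f'` with `a ≠ 0` and
  `f' ∉ 𝔪_R R⟨ζ⟩`.
-/

set_option autoImplicit false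
set_option linter.style.haveILetI false
set_option linter.unusedSectionVars false
universe u

namespace Groth.Agent.Lib.Seat52.Gauss

open AdicRing IsLocalRing Groth.Agent.Lib.Seat52.AdicBase Groth.Agent.Lib.Seat52

section Dom

variable {R : Type*} [CommRing R] [IsDomain R] [ValuationRing R]

/-- elements of `𝔪_R T` are of the form `a * g` with `a ∈ 𝔪_R` -/
lemma exists_eq_mul_of_mem_map_maximalIdeal {T : Type*} [CommRing T] [Algebra R T] (x : T)
    (hx : x ∈ (maximalIdeal R).map (algebraMap R T)) :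
    ∃ a ∈ maximalIdeal R, ∃ g : T, x = algebraMap R T a * g := by
  rw [Ideal.map] at hx
  induction hx using Submodule.span_induction with
  | mem x hx =>
    obtain ⟨a, ha, rfl⟩ := hx
    exact ⟨a, ha, 1, (mul_one _).symm⟩
  | zero => exact ⟨0, Ideal.zero_mem _, 0, by simp⟩
  | add x y _ _ hx hy =>
    obtain ⟨a, ha, g, rfl⟩ := hx
    obtain ⟨a', ha', g', rfl⟩ := hy
    rcases ValuationRing.dvd_total a a' with ⟨e, rfl⟩ | ⟨e, rfl⟩
    · exact ⟨a, ha, g + algebraMap R T e * g', by rw [map_mul]; ring⟩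
    · exact ⟨a', ha', algebraMap R T e * g + g', by rw [map_mul]; ring⟩
  | smul c x _ hx =>
    obtain ⟨a, ha, g, rfl⟩ := hx
    exact ⟨a, ha, c * g, by rw [smul_eq_mul]; ring⟩

end Dom

section RPow

variable (R : Type u) [CommRing R] [IsDomain R] [ValuationRing R] [Ring.KrullDimLE 1 R]
  (t : R) (ht : t ≠ 0) [IsAdicComplete (Ideal.span {t}) R] (n : ℕ)

omit [IsDomain R] [ValuationRing R] [Ring.KrullDimLE 1 R] [IsAdicComplete (Ideal.span {t}) R] in
/-- a polynomial whose image in `R⟨ζ⟩` lies in `I R⟨ζ⟩` has coefficients in `I` -/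
lemma mem_map_C_of_algebraMap_mem (I : Ideal R) (hI : I.FG) (q : MvPolynomial (Fin n) R)
    (hq : algebraMap (MvPolynomial (Fin n) R) (RPow R I n) q ∈
      I.map (algebraMap R (RPow R I n))) :
    q ∈ I.map (MvPolynomial.C : R →+* MvPolynomial (Fin n) R) := by
  set J := I.map (MvPolynomial.C : R →+* MvPolynomial (Fin n) R) with hJ
  have h2 : Ideal.map (algebraMap (MvPolynomial (Fin n) R) (RPow R I n)) J =
      Ideal.map (algebraMap R (RPow R I n)) I := by
    rw [hJ, Ideal.map_map]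
    congr 1
  rw [← h2, ← AdicCompletion.ker_evalOneₐ_eq_map (I := J) (hI.map _), RingHom.mem_ker] at hq
  have h3 : AdicCompletion.evalOneₐ J (algebraMap (MvPolynomial (Fin n) R) (RPow R I n) q) =
      Ideal.Quotient.mk J q := by
    rw [AdicCompletion.algebraMap_apply, Algebra.algebraMap_self, RingHom.id_apply,
      AdicCompletion.evalOneₐ_of]
  have h4 : Ideal.Quotient.mk J q = 0 := h3.symm.trans hq
  exact Ideal.Quotient.eq_zero_iff_mem.mp h4

include ht in
/-- a polynomial lying in `𝔪_R R⟨ζ⟩` has all its coefficients in `𝔪_R` -/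
lemma coeff_mem_of_algebraMap_mem (q : MvPolynomial (Fin n) R)
    (hq : algebraMap (MvPolynomial (Fin n) R) (RPow R (Ideal.span {t}) n) q ∈
      (maximalIdeal R).map (algebraMap R (RPow R (Ideal.span {t}) n)))
    (j : Fin n →₀ ℕ) : q.coeff j ∈ maximalIdeal R := by
  classical
  have hIfg : (Ideal.span {t}).FG := ⟨{t}, by simp⟩
  obtain ⟨a, ha, g, hag⟩ := exists_eq_mul_of_mem_map_maximalIdeal _ hq
  obtain ⟨k, c, hk⟩ := ValRing.exists_pow_dvd R t ht ((mem_maximalIdeal a).mp ha)
  have h1 : algebraMap (MvPolynomial (Fin n) R) (RPow R (Ideal.span {t}) n) (q ^ k) ∈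
      (Ideal.span {t}).map (algebraMap R (RPow R (Ideal.span {t}) n)) := by
    rw [map_pow, hag, mul_pow, ← map_pow, hk, map_mul, mul_assoc]
    exact Ideal.mul_mem_right _ _ (Ideal.mem_map_of_mem _ (Ideal.mem_span_singleton_self t))
  have h2 := mem_map_C_of_algebraMap_mem R n (Ideal.span {t}) hIfg (q ^ k) h1
  have h3 : MvPolynomial.map (Ideal.Quotient.mk (Ideal.span {t})) (q ^ k) = 0 := by
    have := MvPolynomial.ker_map (σ := Fin n) (Ideal.Quotient.mk (Ideal.span {t}))
    rw [Ideal.mk_ker] at this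
    rw [← this] at h2
    exact h2
  rw [map_pow] at h3
  have h4 : IsNilpotent (MvPolynomial.map (Ideal.Quotient.mk (Ideal.span {t})) q) := ⟨k, h3⟩
  obtain ⟨N, hN⟩ := MvPolynomial.isNilpotent_iff.mp h4 j
  rw [MvPolynomial.coeff_map, ← map_pow, Ideal.Quotient.eq_zero_iff_mem,
    Ideal.mem_span_singleton] at hN
  have htm : t ∈ maximalIdeal R := (mem_maximalIdeal t).mpr (ValRing.not_isUnit R t)
  have h5 : q.coeff j ^ N ∈ maximalIdeal R := by
    obtain ⟨e, he⟩ := hN
    rw [he]
    exact Ideal.mul_mem_right _ _ htm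
  exact (Ideal.IsMaximal.isPrime (maximalIdeal.isMaximal R)).mem_of_pow_mem N h5

omit [IsDomain R] [ValuationRing R] [Ring.KrullDimLE 1 R] [IsAdicComplete (Ideal.span {t}) R] in
lemma algebraMap_C (I : Ideal R) (a : R) :
    algebraMap (MvPolynomial (Fin n) R) (RPow R I n) (MvPolynomial.C a) =
      algebraMap R (RPow R I n) a := by
  rw [IsScalarTower.algebraMap_apply R (MvPolynomial (Fin n) R) (RPow R I n)]
  rfl

include ht in
/-- every nonzero element of `R⟨ζ⟩` is a nonzero constant times a primitive element -/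
theorem exists_primitive_part (f : RPow R (Ideal.span {t}) n) (hf : f ≠ 0) :
    ∃ (a : R) (f' : RPow R (Ideal.span {t}) n), a ≠ 0 ∧
      f = algebraMap R (RPow R (Ideal.span {t}) n) a * f' ∧
      f' ∉ (maximalIdeal R).map (algebraMap R (RPow R (Ideal.span {t}) n)) := by
  classical
  have hIfg : (Ideal.span {t}).FG := ⟨{t}, by simp⟩
  haveI := isAdicComplete_rpow_span R t n
  -- `f` is not divisible by some power of `t`
  obtain ⟨k, hk⟩ : ∃ k : ℕ, ¬ algebraMap R (RPow R (Ideal.span {t}) n) t ^ k ∣ f := by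
    by_contra hcon
    push Not at hcon
    exact hf (RPowSat.haus_of_isAdicComplete _ f hcon)
  obtain ⟨p, hp⟩ := AdicTrunc.exists_poly_sub_mem R (Ideal.span {t}) hIfg n k f
  have hmapk : ∀ (T' : Type u) [CommRing T'] [Algebra R T'],
      ((Ideal.span {t}) ^ k).map (algebraMap R T') = Ideal.span {algebraMap R T' t ^ k} := by
    intro T' _ _
    rw [Ideal.span_singleton_pow, Ideal.map_span, Set.image_singleton, map_pow]
  rw [hmapk, Ideal.mem_span_singleton] at hp
  obtain ⟨h, hh⟩ := hp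
  -- some coefficient of `p` is not divisible by `t ^ k`
  have hex : ∃ j, ¬ t ^ k ∣ p.coeff j := by
    by_contra hcon
    push Not at hcon
    obtain ⟨p', hp'⟩ := (MvPolynomial.C_dvd_iff_dvd_coeff (t ^ k) p).mpr hcon
    apply hk
    refine ⟨algebraMap _ _ p' + h, ?_⟩
    have : f = algebraMap (MvPolynomial (Fin n) R) (RPow R (Ideal.span {t}) n) p +
        algebraMap R (RPow R (Ideal.span {t}) n) t ^ k * h := by rw [← hh]; ring
    rw [this, hp', map_mul, algebraMap_C, map_pow]
    ring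
  obtain ⟨j1, hj1⟩ := hex
  have hsupp : p.support.Nonempty := ⟨j1, by
    rw [MvPolynomial.mem_support_iff]
    intro h0
    exact hj1 (h0 ▸ dvd_zero _)⟩
  obtain ⟨j0, hj0, hmin⟩ := RigPoint.exists_max_of_total
    (fun j i : Fin n →₀ ℕ => p.coeff i ∣ p.coeff j) (fun i => dvd_refl _)
    (fun i j l hij hjl => dvd_trans hjl hij) (fun i j => ValuationRing.dvd_total _ _)
    p.support hsupp
  set c0 := p.coeff j0 with hc0
  have hc0ne : c0 ≠ 0 := MvPolynomial.mem_support_iff.mp hj0
  have hdvd : ∀ j, c0 ∣ p.coeff j := by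
    intro j
    by_cases hj : j ∈ p.support
    · exact hmin j hj
    · rw [MvPolynomial.notMem_support_iff.mp hj]; exact dvd_zero _
  have hnd : ¬ t ^ k ∣ c0 := fun hd => hj1 (dvd_trans hd (hdvd j1))
  obtain ⟨e, he⟩ := (ValuationRing.dvd_total c0 (t ^ k)).resolve_right hnd
  have henu : ¬ IsUnit e := by
    intro hu
    apply hnd
    obtain ⟨u, rfl⟩ := hu
    exact ⟨(↑u⁻¹ : R), by rw [he, mul_assoc, Units.mul_inv, mul_one]⟩
  obtain ⟨p', hp'⟩ := (MvPolynomial.C_dvd_iff_dvd_coeff c0 p).mpr hdvd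
  have hcoeff : p'.coeff j0 = 1 := by
    have h1 : p.coeff j0 = c0 * p'.coeff j0 := by rw [hp', MvPolynomial.coeff_C_mul]
    rw [← hc0] at h1
    exact (mul_left_cancel₀ hc0ne (by rw [mul_one]; exact h1)).symm
  refine ⟨c0, algebraMap _ _ p' + algebraMap R _ e * h, hc0ne, ?_, ?_⟩
  · have : f = algebraMap (MvPolynomial (Fin n) R) (RPow R (Ideal.span {t}) n) p +
        algebraMap R (RPow R (Ideal.span {t}) n) t ^ k * h := by rw [← hh]; ring
    rw [this, hp', map_mul, algebraMap_C, ← map_pow, he, map_mul]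
    ring
  · intro hmem
    have h2 : algebraMap (MvPolynomial (Fin n) R) (RPow R (Ideal.span {t}) n) p' ∈
        (maximalIdeal R).map (algebraMap R (RPow R (Ideal.span {t}) n)) := by
      have h3 : algebraMap R (RPow R (Ideal.span {t}) n) e * h ∈
          (maximalIdeal R).map (algebraMap R (RPow R (Ideal.span {t}) n)) :=
        Ideal.mul_mem_right _ _ (Ideal.mem_map_of_mem _ ((mem_maximalIdeal e).mpr henu))
      have := Ideal.sub_mem _ hmem h3
      rwa [add_sub_cancel_right] at this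
    have h4 := coeff_mem_of_algebraMap_mem R t ht n p' h2 j0
    rw [hcoeff] at h4
    exact (mem_maximalIdeal (1 : R)).mp h4 isUnit_one

end RPow

end Groth.Agent.Lib.Seat52.Gauss
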