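import Groth.Agent.Lib.Seat52SatFG
import Groth.Prelude.Def_W4bk4boschfrg79
import Mathlib.RingTheory.AdicCompletion.Completeness

set_option autoImplicit false
universe u

namespace Groth.Agent.Lib.Seat52.RPowSat

open AdicRing

section Complete

variable {T : Type*} [CommRing T] (τ : T) [IsAdicComplete (Ideal.span {τ}) T]

lemma haus_of_isAdicComplete (x : T) (h : ∀ k : ℕ, τ ^ k ∣ x) : x = 0 := by
  apply IsHausdorff.haus (I := Ideal.span {τ}) inferInstance
  intro k
  rw [SModEq.zero, Ideal.smul_eq_mul, Ideal.mul_top, Ideal.span_singleton_pow,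
    Ideal.mem_span_singleton]
  exact h k

lemma compl_of_isAdicComplete (a : ℕ → T) :
    ∃ L : T, ∀ k : ℕ, τ ^ k ∣ L - ∑ i ∈ Finset.range k, τ ^ i * a i := by
  obtain ⟨L, hL⟩ := IsPrecomplete.prec (I := Ideal.span {τ}) inferInstance
    (f := fun k => ∑ i ∈ Finset.range k, τ ^ i * a i) (by
      intro m n hmn
      rw [SModEq.sub_mem, Ideal.smul_eq_mul, Ideal.mul_top, Ideal.span_singleton_pow,
        Ideal.mem_span_singleton]
      rw [← Finset.sum_range_add_sum_Ico _ hmn, sub_add_cancel_left]
      apply Dvd.dvd.neg_right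
      apply Finset.dvd_sum
      intro i hi
      exact Dvd.dvd.mul_right (pow_dvd_pow τ (Finset.mem_Ico.mp hi).1) _)
  refine ⟨L, fun k => ?_⟩
  have := hL k
  rw [SModEq.sub_mem, Ideal.smul_eq_mul, Ideal.mul_top, Ideal.span_singleton_pow,
    Ideal.mem_span_singleton] at this
  rw [← neg_sub]
  exact Dvd.dvd.neg_right this

end Complete

section RPow

variable (R : Type u) [CommRing R] (I : Ideal R) (n : ℕ)

lemma isAdicComplete_rpow (hI : I.FG) :
    IsAdicComplete (I.map (algebraMap R (RPow R I n))) (RPow R I n) := by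
  have h1 : IsAdicComplete (I.map (MvPolynomial.C : R →+* MvPolynomial (Fin n) R))
      (RPow R I n) := AdicCompletion.isAdicComplete (hI.map _)
  have h2 : IsAdicComplete I (RPow R I n) :=
    (IsAdicComplete.map_algebraMap_iff (R := R) (S := MvPolynomial (Fin n) R) (I := I)
      (M := RPow R I n)).mp h1
  exact (IsAdicComplete.map_algebraMap_iff (R := R) (S := RPow R I n) (I := I)
      (M := RPow R I n)).mpr h2

/-- the canonical map `(R/I)[ζ] → R⟨ζ⟩ / I R⟨ζ⟩` -/
noncomputable def phi : MvPolynomial (Fin n) (R ⧸ I) →ₐ[R ⧸ I]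
    (RPow R I n ⧸ I.map (algebraMap R (RPow R I n))) :=
  MvPolynomial.aeval (fun i => Ideal.Quotient.mk _
    (algebraMap (MvPolynomial (Fin n) R) (RPow R I n) (MvPolynomial.X i)))

lemma phi_map (p : MvPolynomial (Fin n) R) :
    phi R I n (MvPolynomial.map (Ideal.Quotient.mk I) p) =
      Ideal.Quotient.mk _ (algebraMap (MvPolynomial (Fin n) R) (RPow R I n) p) := by
  induction p using MvPolynomial.induction_on with
  | C a =>
    rw [MvPolynomial.map_C, phi, MvPolynomial.aeval_C,
      Ideal.Quotient.algebraMap_quotient_map_quotient,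
      IsScalarTower.algebraMap_apply R (MvPolynomial (Fin n) R) (RPow R I n)]
    rfl
  | add p q hp hq => rw [map_add, map_add, hp, hq, map_add, map_add]
  | mul_X p i hp =>
    rw [map_mul, map_mul, hp, MvPolynomial.map_X, map_mul, map_mul]
    congr 1
    rw [phi, MvPolynomial.aeval_X]

lemma phi_surjective (hI : I.FG) : Function.Surjective (phi R I n) := by
  intro x
  obtain ⟨x, rfl⟩ := Ideal.Quotient.mk_surjective x
  set J := I.map (MvPolynomial.C : R →+* MvPolynomial (Fin n) R) with hJ
  obtain ⟨p, hp⟩ := Ideal.Quotient.mk_surjective (AdicCompletion.evalOneₐ J x)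
  refine ⟨MvPolynomial.map (Ideal.Quotient.mk I) p, ?_⟩
  rw [phi_map, eq_comm, Ideal.Quotient.eq]
  have hker : x - algebraMap (MvPolynomial (Fin n) R) (RPow R I n) p ∈
      RingHom.ker (AdicCompletion.evalOneₐ J).toRingHom := by
    rw [RingHom.mem_ker]
    change AdicCompletion.evalOneₐ J (x - _) = 0
    rw [map_sub, AdicCompletion.algebraMap_apply, Algebra.algebraMap_self, RingHom.id_apply,
      AdicCompletion.evalOneₐ_of, hp, sub_self]
  have hk := AdicCompletion.ker_evalOneₐ_eq_map (I := J) (hI.map _)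
  rw [hk] at hker
  have h2 : Ideal.map (algebraMap (MvPolynomial (Fin n) R) (RPow R I n)) J =
      Ideal.map (algebraMap R (RPow R I n)) I := by
    rw [hJ, Ideal.map_map]
    congr 1
  rw [← h2]
  exact hker

end RPow

end Groth.Agent.Lib.Seat52.RPowSat
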