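import Groth.Agent.Lib.Seat52PolySat1
import Groth.Agent.Lib.Seat52RPowSat

/-!
# helper52: topological Nakayama along a ring homomorphism
-/

set_option autoImplicit false
set_option linter.style.haveILetI false
universe u

namespace Groth.Agent.Lib.Seat52.TopNak

/-- topological Nakayama: `T` is `τ`-adically complete, `Φ : T →+* B`, `B` is `Φ τ`-adically
separated, and `B = Σ Φ(T) β_i + Φ(τ) B`; then `B = Σ Φ(T) β_i`. -/
theorem exists_sum_of_forall_exists {T B : Type*} [CommRing T] [CommRing B] (τ : T)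
    [IsAdicComplete (Ideal.span {τ}) T]
    (Φ : T →+* B) (hsep : ∀ x : B, (∀ k : ℕ, Φ τ ^ k ∣ x) → x = 0) {r : ℕ} (β : Fin r → B)
    (h : ∀ x : B, ∃ (c : Fin r → T) (y : B), x = ∑ i, Φ (c i) * β i + Φ τ * y) :
    ∀ x : B, ∃ c : Fin r → T, x = ∑ i, Φ (c i) * β i := by
  letI : Module T B := Module.compHom B Φ
  have hsmul : ∀ (c : T) (b : B), c • b = Φ c * b := fun _ _ => rfl
  have hle := PolySat.le_span_of_le_span_sup_smul_module τ
    (RPowSat.compl_of_isAdicComplete τ) (W := B) (by
      intro x hx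
      apply hsep
      intro k
      obtain ⟨y, hy⟩ := hx k
      exact ⟨y, by rw [hy, hsmul, map_pow]⟩) ⊤ β (by
      intro x _
      obtain ⟨c, y, hxy⟩ := h x
      exact ⟨c, y, trivial, by simp only [hsmul]; exact hxy⟩)
  intro x
  have hx : x ∈ Submodule.span T (Set.range β) := hle trivial
  obtain ⟨c, hc⟩ := (Submodule.mem_span_range_iff_exists_fun T).mp hx
  exact ⟨c, by rw [← hc]; simp only [hsmul]⟩

end Groth.Agent.Lib.Seat52.TopNak
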