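import Groth.Agent.Lib.Seat52Gauss
import Groth.Agent.Lib.Seat52TopNak
import Mathlib.RingTheory.NoetherNormalization

/-!
# helper52: an admissible domain whose generic fibre is a field is finite over `R`
(the Nullstellensatz for rig-points, Bosch FRG §8.3)

Noether normalization of the special fibre `B/𝔪_R B` is lifted to a finite injective map
`R⟨y⟩ → B`; lying over for the prime `ker (R⟨y⟩ → R)` then forces `R⟨y⟩ ≅ R`.
-/

set_option autoImplicit false
set_option linter.style.haveILetI false
set_option linter.unusedSectionVars false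
universe u

namespace Groth.Agent.Lib.Seat52.GenField

open AdicRing IsLocalRing Groth.Agent.Lib.Seat52.AdicBase Groth.Agent.Lib.Seat52 Polynomial

section Basic

variable (R : Type u) [CommRing R] [IsDomain R] [ValuationRing R] [Ring.KrullDimLE 1 R]
  (t : R) (ht : t ≠ 0) [IsAdicComplete (Ideal.span {t}) R]
  (B : Type u) [CommRing B] [Algebra R B]

include ht in
/-- `B` is `t`-adically separated -/
lemma sep (hB : TopFiniteType R (Ideal.span {t}) B) (x : B)
    (hx : ∀ k : ℕ, algebraMap R B t ^ k ∣ x) : x = 0 := by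
  haveI : IsAdicComplete (Ideal.span {t}) B :=
    isAdicComplete_of_finite R _ (isBase_V R t ht) B hB B
  apply IsHausdorff.haus (I := Ideal.span {t}) (M := B) inferInstance
  intro k
  rw [SModEq.zero, mem_span_pow_smul_top_iff]
  obtain ⟨w, hw⟩ := hx k
  exact ⟨w, by rw [hw, Algebra.smul_def, map_pow]⟩

include ht in
/-- an element of `𝔪_R B` has a power in `t B` -/
lemma exists_pow_mem_of_mem_map_maximalIdeal (x : B)
    (hx : x ∈ (maximalIdeal R).map (algebraMap R B)) :
    ∃ N : ℕ, x ^ N ∈ Ideal.span {algebraMap R B t} := by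
  obtain ⟨a, ha, g, rfl⟩ := Gauss.exists_eq_mul_of_mem_map_maximalIdeal x hx
  obtain ⟨N, c, hN⟩ := ValRing.exists_pow_dvd R t ht ((mem_maximalIdeal a).mp ha)
  refine ⟨N, ?_⟩
  rw [mul_pow, ← map_pow, hN, map_mul, mul_assoc]
  exact Ideal.mul_mem_right _ _ (Ideal.mem_span_singleton_self _)

include ht in
/-- `𝔪_R B` is a proper ideal -/
lemma map_maximalIdeal_ne_top [Nontrivial B] (hB : TopFiniteType R (Ideal.span {t}) B) :
    (maximalIdeal R).map (algebraMap R B) ≠ ⊤ := by
  intro htop
  have h1 : (1 : B) ∈ (maximalIdeal R).map (algebraMap R B) := htop ▸ Submodule.mem_top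
  obtain ⟨N, hN⟩ := exists_pow_mem_of_mem_map_maximalIdeal R t ht B 1 h1
  rw [one_pow, Ideal.mem_span_singleton] at hN
  obtain ⟨u, hu⟩ := hN
  apply one_ne_zero (α := B)
  apply sep R t ht B hB
  intro k
  refine ⟨u ^ k, ?_⟩
  rw [← mul_pow, ← hu, one_pow]

include ht in
/-- integrality modulo `𝔪_R B` implies integrality modulo `t B` -/
lemma isIntegral_mod_t {P : Type*} [CommRing P] (ψ : P →+* B)
    (h : ((Ideal.Quotient.mk ((maximalIdeal R).map (algebraMap R B))).comp ψ).IsIntegral) :
    ((Ideal.Quotient.mk (Ideal.span {algebraMap R B t})).comp ψ).IsIntegral := by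
  intro x
  obtain ⟨β, rfl⟩ := Ideal.Quotient.mk_surjective x
  obtain ⟨Q, hQ, hQ0⟩ := h (Ideal.Quotient.mk _ β)
  rw [← Polynomial.hom_eval₂, Ideal.Quotient.eq_zero_iff_mem] at hQ0
  obtain ⟨N, hN⟩ := exists_pow_mem_of_mem_map_maximalIdeal R t ht B _ hQ0
  refine ⟨Q ^ N, hQ.pow N, ?_⟩
  rw [← Polynomial.hom_eval₂, Polynomial.eval₂_pow, Ideal.Quotient.eq_zero_iff_mem]
  exact hN

end Basic

section Lift

variable (R : Type u) [CommRing R] [IsDomain R] [ValuationRing R] [Ring.KrullDimLE 1 R]
  (t : R) (ht : t ≠ 0) [IsAdicComplete (Ideal.span {t}) R]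
  (B : Type u) [CommRing B] [Algebra R B]
  (hB : TopFiniteType R (Ideal.span {t}) B)
  (d : ℕ) (b : Fin d → B)
  (g : MvPolynomial (Fin d) (R ⧸ maximalIdeal R) →ₐ[R ⧸ maximalIdeal R]
    B ⧸ (maximalIdeal R).map (algebraMap R B))
  (hgX : ∀ i, g (MvPolynomial.X i) = Ideal.Quotient.mk _ (b i))

include hgX in
/-- the reduction of `aeval b` modulo `𝔪_R` is `g` -/
lemma comp_eq :
    (g : MvPolynomial (Fin d) (R ⧸ maximalIdeal R) →+* _).comp
      (MvPolynomial.map (Ideal.Quotient.mk (maximalIdeal R))) =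
    (Ideal.Quotient.mk ((maximalIdeal R).map (algebraMap R B))).comp
      (MvPolynomial.aeval b : MvPolynomial (Fin d) R →ₐ[R] B).toRingHom := by
  apply MvPolynomial.ringHom_ext
  · intro a
    simp only [RingHom.comp_apply, MvPolynomial.map_C]
    have h1 : (MvPolynomial.aeval b : MvPolynomial (Fin d) R →ₐ[R] B).toRingHom
        (MvPolynomial.C a) = algebraMap R B a := MvPolynomial.aeval_C b a
    rw [h1]
    have h2 : (g : MvPolynomial (Fin d) (R ⧸ maximalIdeal R) →+* _)
        (MvPolynomial.C (Ideal.Quotient.mk (maximalIdeal R) a)) =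
        algebraMap (R ⧸ maximalIdeal R) (B ⧸ (maximalIdeal R).map (algebraMap R B))
          (Ideal.Quotient.mk (maximalIdeal R) a) := by
      rw [← MvPolynomial.algebraMap_eq]
      exact g.commutes _
    rw [h2]
    rfl
  · intro i
    simp only [RingHom.comp_apply, MvPolynomial.map_X]
    have h1 : (MvPolynomial.aeval b : MvPolynomial (Fin d) R →ₐ[R] B).toRingHom
        (MvPolynomial.X i) = b i := MvPolynomial.aeval_X b i
    rw [h1]
    exact hgX i

include ht hB hgX in
/-- if `g` is finite then `B` is finite over `R⟨y⟩` -/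
theorem exists_finite_lift (hgfin : g.toRingHom.Finite)
    (Φ : RPow R (Ideal.span {t}) d →ₐ[R] B)
    (hΦ : ∀ p : MvPolynomial (Fin d) R,
      Φ (algebraMap (MvPolynomial (Fin d) R) (RPow R (Ideal.span {t}) d) p) =
        MvPolynomial.aeval b p) :
    ∃ (r : ℕ) (β : Fin r → B), ∀ x : B, ∃ c : Fin r → RPow R (Ideal.span {t}) d,
      x = ∑ i, Φ (c i) * β i := by
  classical
  have hIfg : (Ideal.span {t}).FG := ⟨{t}, by simp⟩
  set ψ : MvPolynomial (Fin d) R →+* B :=
    (MvPolynomial.aeval b : MvPolynomial (Fin d) R →ₐ[R] B).toRingHom with hψ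
  set tB := algebraMap R B t with htB
  -- integrality modulo `𝔪_R B`
  have hint1 : ((Ideal.Quotient.mk ((maximalIdeal R).map (algebraMap R B))).comp ψ).IsIntegral := by
    rw [hψ, ← comp_eq R B d b g hgX]
    exact RingHom.IsIntegral.trans _ _
      (RingHom.isIntegral_of_surjective _
        (MvPolynomial.map_surjective _ Ideal.Quotient.mk_surjective))
      (RingHom.IsIntegral.of_finite hgfin)
  have hint2 := isIntegral_mod_t R t ht B ψ hint1
  -- finite type
  haveI : Algebra.FiniteType B (B ⧸ Ideal.span {tB}) := inferInstance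
  haveI hft : Algebra.FiniteType R (B ⧸ Ideal.span {tB}) :=
    AdmFinite.finiteType_quot_of_tft R (Ideal.span {t}) hIfg B hB B (Ideal.span {tB})
      (by rw [Ideal.map_span, Set.image_singleton])
  have hft2 : ((Ideal.Quotient.mk (Ideal.span {tB})).comp ψ).FiniteType := by
    have h1 : ((Ideal.Quotient.mk (Ideal.span {tB})).comp ψ).comp
        (MvPolynomial.C : R →+* MvPolynomial (Fin d) R) =
        algebraMap R (B ⧸ Ideal.span {tB}) := by
      ext a
      simp only [RingHom.comp_apply]
      have h1 : ψ (MvPolynomial.C a) = algebraMap R B a := MvPolynomial.aeval_C b a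
      rw [h1]
      rfl
    have h2 : (algebraMap R (B ⧸ Ideal.span {tB})).FiniteType :=
      RingHom.finiteType_algebraMap.mpr hft
    rw [← h1] at h2
    exact h2.of_comp_finiteType
  have hfin : ((Ideal.Quotient.mk (Ideal.span {tB})).comp ψ).Finite :=
    RingHom.IsIntegral.to_finite hint2 hft2
  letI := ((Ideal.Quotient.mk (Ideal.span {tB})).comp ψ).toAlgebra
  haveI : Module.Finite (MvPolynomial (Fin d) R) (B ⧸ Ideal.span {tB}) := hfin
  obtain ⟨r, q, hq⟩ := Module.Finite.exists_fin (R := MvPolynomial (Fin d) R)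
    (M := B ⧸ Ideal.span {tB})
  choose β hβ using fun i => Ideal.Quotient.mk_surjective (q i)
  refine ⟨r, β, ?_⟩
  haveI := isAdicComplete_rpow_span R t d
  have hΦt : Φ.toRingHom (algebraMap R (RPow R (Ideal.span {t}) d) t) = tB := Φ.commutes t
  refine TopNak.exists_sum_of_forall_exists (algebraMap R (RPow R (Ideal.span {t}) d) t)
    Φ.toRingHom ?_ β ?_
  · intro x hx
    rw [hΦt] at hx
    exact sep R t ht B hB x hx
  · intro x
    have hx : Ideal.Quotient.mk (Ideal.span {tB}) x ∈
        Submodule.span (MvPolynomial (Fin d) R) (Set.range q) := by rw [hq]; trivial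
    obtain ⟨c, hc⟩ := (Submodule.mem_span_range_iff_exists_fun _).mp hx
    have h4 : x - ∑ i, ψ (c i) * β i ∈ Ideal.span {tB} := by
      rw [← Ideal.Quotient.eq_zero_iff_mem, map_sub, ← hc, map_sum, sub_eq_zero]
      refine Finset.sum_congr rfl fun i _ => ?_
      rw [← hβ i, Algebra.smul_def, map_mul]
      rfl
    obtain ⟨y, hy⟩ := Ideal.mem_span_singleton.mp h4
    refine ⟨fun i => algebraMap _ _ (c i), y, ?_⟩
    rw [hΦt, ← hy]
    have h5 : ∀ i, Φ.toRingHom (algebraMap (MvPolynomial (Fin d) R)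
        (RPow R (Ideal.span {t}) d) (c i)) = ψ (c i) := fun i => hΦ (c i)
    simp only [h5]
    ring

end Lift

section Main

variable (R : Type u) [CommRing R] [IsDomain R] [ValuationRing R] [Ring.KrullDimLE 1 R]
  (t : R) (ht : t ≠ 0) [IsAdicComplete (Ideal.span {t}) R]
  (B : Type u) [CommRing B] [Algebra R B] [IsDomain B]
  (hB : TopFiniteType R (Ideal.span {t}) B) (ht0 : algebraMap R B t ≠ 0)

include ht0 in
lemma algebraMap_ne_zero {a : R} (ha : a ≠ 0) : algebraMap R B a ≠ 0 := by
  obtain ⟨k, e, hk⟩ := ValRing.exists_dvd_pow R t ha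
  intro h0
  apply pow_ne_zero k ht0
  rw [← map_pow, hk, map_mul, h0, zero_mul]

include ht ht0 in
/-- if `g` is injective then so is the lift `R⟨y⟩ → B` -/
theorem injective_lift (d : ℕ) (b : Fin d → B)
    (g : MvPolynomial (Fin d) (R ⧸ maximalIdeal R) →ₐ[R ⧸ maximalIdeal R]
      B ⧸ (maximalIdeal R).map (algebraMap R B))
    (hgX : ∀ i, g (MvPolynomial.X i) = Ideal.Quotient.mk _ (b i))
    (hginj : Function.Injective g)
    (Φ : RPow R (Ideal.span {t}) d →ₐ[R] B)
    (hΦ : ∀ p : MvPolynomial (Fin d) R,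
      Φ (algebraMap (MvPolynomial (Fin d) R) (RPow R (Ideal.span {t}) d) p) =
        MvPolynomial.aeval b p) :
    Function.Injective Φ := by
  classical
  have hIfg : (Ideal.span {t}).FG := ⟨{t}, by simp⟩
  have htm : Ideal.span {t} ≤ maximalIdeal R := by
    rw [Ideal.span_le, Set.singleton_subset_iff]
    exact (mem_maximalIdeal t).mpr (ValRing.not_isUnit R t)
  rw [injective_iff_map_eq_zero]
  intro f hf0
  by_contra hf
  obtain ⟨a, f', ha, hff', hf'⟩ := Gauss.exists_primitive_part R t ht d f hf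
  have h1 : Φ f' = 0 := by
    rw [hff', map_mul, AlgHom.commutes] at hf0
    exact (mul_eq_zero.mp hf0).resolve_left (algebraMap_ne_zero R t B ht0 ha)
  obtain ⟨p, hp⟩ := AdicTrunc.exists_poly_sub_mem R (Ideal.span {t}) hIfg d 1 f'
  rw [pow_one] at hp
  have hpbar : MvPolynomial.map (Ideal.Quotient.mk (maximalIdeal R)) p ≠ 0 := by
    intro h0
    apply hf'
    have h2 : p ∈ (maximalIdeal R).map (MvPolynomial.C : R →+* MvPolynomial (Fin d) R) := by
      have := MvPolynomial.ker_map (σ := Fin d) (Ideal.Quotient.mk (maximalIdeal R))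
      rw [Ideal.mk_ker] at this
      rw [← this]
      exact h0
    have h3 : algebraMap (MvPolynomial (Fin d) R) (RPow R (Ideal.span {t}) d) p ∈
        (maximalIdeal R).map (algebraMap R (RPow R (Ideal.span {t}) d)) := by
      have h := Ideal.mem_map_of_mem
        (algebraMap (MvPolynomial (Fin d) R) (RPow R (Ideal.span {t}) d)) h2
      rw [Ideal.map_map] at h
      exact h
    have h4 : f' - algebraMap (MvPolynomial (Fin d) R) (RPow R (Ideal.span {t}) d) p ∈
        (maximalIdeal R).map (algebraMap R (RPow R (Ideal.span {t}) d)) :=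
      Ideal.map_mono htm hp
    have := Ideal.add_mem _ h4 h3
    rwa [sub_add_cancel] at this
  apply hpbar
  apply hginj
  rw [map_zero]
  have h5 := congrArg (fun h => h p) (comp_eq R B d b g hgX)
  simp only [RingHom.comp_apply] at h5
  have h6 : (MvPolynomial.aeval b : MvPolynomial (Fin d) R →ₐ[R] B).toRingHom p =
      - Φ (f' - algebraMap (MvPolynomial (Fin d) R) (RPow R (Ideal.span {t}) d) p) := by
    rw [map_sub, h1, hΦ]
    simp
  have h7 : Φ (f' - algebraMap (MvPolynomial (Fin d) R) (RPow R (Ideal.span {t}) d) p) ∈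
      (maximalIdeal R).map (algebraMap R B) := by
    have h := Ideal.mem_map_of_mem Φ.toRingHom hp
    rw [Ideal.map_map] at h
    have h8 : Φ.toRingHom.comp (algebraMap R (RPow R (Ideal.span {t}) d)) = algebraMap R B :=
      Φ.comp_algebraMap
    rw [h8] at h
    exact Ideal.map_mono htm h
  refine Eq.trans h5 ?_
  rw [h6, Ideal.Quotient.eq_zero_iff_mem]
  exact (Ideal.neg_mem_iff _).mpr h7

include ht hB ht0 in
/-- An admissible domain whose generic fibre is a field is finite over `R`. -/
theorem finite_of_generic_field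
    (hfield : ∀ x : B, x ≠ 0 → ∃ (c : B) (k : ℕ), x * c = algebraMap R B t ^ k) :
    Module.Finite R B := by
  classical
  have hIfg : (Ideal.span {t}).FG := ⟨{t}, by simp⟩
  have htm : Ideal.span {t} ≤ maximalIdeal R := by
    rw [Ideal.span_le, Set.singleton_subset_iff]
    exact (mem_maximalIdeal t).mpr (ValRing.not_isUnit R t)
  letI : Field (R ⧸ maximalIdeal R) := Ideal.Quotient.field _
  haveI : Nontrivial (B ⧸ (maximalIdeal R).map (algebraMap R B)) :=
    Ideal.Quotient.nontrivial_iff.mpr (map_maximalIdeal_ne_top R t ht B hB)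
  haveI : Algebra.FiniteType B (B ⧸ (maximalIdeal R).map (algebraMap R B)) := inferInstance
  haveI hft : Algebra.FiniteType R (B ⧸ (maximalIdeal R).map (algebraMap R B)) :=
    AdmFinite.finiteType_quot_of_tft R (Ideal.span {t}) hIfg B hB B _ (Ideal.map_mono htm)
  haveI : Algebra.FiniteType (R ⧸ maximalIdeal R)
      (B ⧸ (maximalIdeal R).map (algebraMap R B)) :=
    Algebra.FiniteType.of_restrictScalars_finiteType R _ _
  obtain ⟨d, g, hginj, hgfin⟩ := exists_finite_inj_algHom_of_fg (R ⧸ maximalIdeal R)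
    (B ⧸ (maximalIdeal R).map (algebraMap R B))
  choose b hb using fun i => Ideal.Quotient.mk_surjective (g (MvPolynomial.X i))
  have hgX : ∀ i, g (MvPolynomial.X i) = Ideal.Quotient.mk _ (b i) := fun i => (hb i).symm
  haveI hBc : IsAdicComplete (Ideal.span {t}) B :=
    isAdicComplete_of_finite R _ (isBase_V R t ht) B hB B
  haveI hBc' : IsAdicComplete ((Ideal.span {t}).map (algebraMap R B)) B :=
    (IsAdicComplete.map_algebraMap_iff (R := R) (S := B) (I := Ideal.span {t}) (M := B)).mpr hBc
  obtain ⟨Φ, hΦ⟩ := RPowLift.exists_algHom_of_aeval R (Ideal.span {t}) B d b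
  obtain ⟨r, β, hβ⟩ := exists_finite_lift R t ht B hB d b g hgX hgfin Φ hΦ
  have hΦinj := injective_lift R t ht B ht0 d b g hgX hginj Φ hΦ
  haveI : IsAdicComplete ((Ideal.span {t}).map (algebraMap R R)) R := by
    rw [Algebra.algebraMap_self, Ideal.map_id]; infer_instance
  obtain ⟨σ, -⟩ := RPowLift.exists_algHom_of_aeval R (Ideal.span {t}) R d (fun _ => 0)
  -- lying over
  letI : Algebra (RPow R (Ideal.span {t}) d) B := Φ.toRingHom.toAlgebra
  have halg : ∀ c : RPow R (Ideal.span {t}) d, algebraMap (RPow R (Ideal.span {t}) d) B c = Φ c :=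
    fun _ => rfl
  haveI : Module.Finite (RPow R (Ideal.span {t}) d) B := by
    refine ⟨⟨Finset.univ.image β, ?_⟩⟩
    rw [Finset.coe_image, Finset.coe_univ, Set.image_univ, eq_top_iff]
    intro x _
    obtain ⟨c, hc⟩ := hβ x
    rw [hc]
    refine Submodule.sum_mem _ fun i _ => ?_
    rw [← halg, ← Algebra.smul_def]
    exact Submodule.smul_mem _ _ (Submodule.subset_span ⟨i, rfl⟩)
  haveI : Algebra.IsIntegral (RPow R (Ideal.span {t}) d) B := Algebra.IsIntegral.of_finite _ _
  haveI : (RingHom.ker σ.toRingHom).IsPrime := RingHom.ker_isPrime _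
  obtain ⟨Q, hQp, hQ⟩ := Ideal.exists_ideal_over_prime_of_isIntegral_of_isDomain (S := B)
    (RingHom.ker σ.toRingHom) (by
      intro c hc
      rw [RingHom.mem_ker, halg] at hc
      rw [hΦinj (hc.trans (map_zero Φ).symm)]
      exact Ideal.zero_mem _)
  have htQ : algebraMap R B t ∉ Q := by
    intro h
    have h1 : algebraMap R (RPow R (Ideal.span {t}) d) t ∈ Q.comap (algebraMap _ B) := by
      rw [Ideal.mem_comap, halg, AlgHom.commutes]
      exact h
    rw [hQ, RingHom.mem_ker] at h1
    have h2 : σ (algebraMap R (RPow R (Ideal.span {t}) d) t) = t := σ.commutes t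
    exact ht (h2.symm.trans h1)
  have hQbot : Q = ⊥ := by
    rw [eq_bot_iff]
    intro x hx
    rw [Ideal.mem_bot]
    by_contra hx0
    obtain ⟨c, k, hck⟩ := hfield x hx0
    apply htQ
    apply hQp.mem_of_pow_mem k
    rw [← hck]
    exact Ideal.mul_mem_right _ _ hx
  have hσinj : Function.Injective σ := by
    rw [injective_iff_map_eq_zero]
    intro c hc
    have h1 : c ∈ Q.comap (algebraMap _ B) := by
      rw [hQ, RingHom.mem_ker]
      exact hc
    rw [hQbot, Ideal.mem_comap, Ideal.mem_bot, halg] at h1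
    exact hΦinj (h1.trans (map_zero Φ).symm)
  refine ⟨⟨Finset.univ.image β, ?_⟩⟩
  rw [Finset.coe_image, Finset.coe_univ, Set.image_univ, eq_top_iff]
  intro x _
  obtain ⟨c, hc⟩ := hβ x
  rw [hc]
  refine Submodule.sum_mem _ fun i _ => ?_
  have h3 : c i = algebraMap R (RPow R (Ideal.span {t}) d) (σ (c i)) := by
    apply hσinj
    rw [AlgHom.commutes]
    rfl
  rw [h3, AlgHom.commutes, ← Algebra.smul_def]
  exact Submodule.smul_mem _ _ (Submodule.subset_span ⟨i, rfl⟩)

end Main

end Groth.Agent.Lib.Seat52.GenField
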