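import Mathlib.RingTheory.MvPolynomial.Groebner
import Mathlib.RingTheory.Polynomial.Basic
import Mathlib.RingTheory.Nilpotent.Lemmas

set_option autoImplicit false

namespace Groth.Agent.Lib.Seat52.NilDiv

open MvPolynomial

variable {σ : Type*} (m : MonomialOrder σ) {B : Type*} [CommRing B]

/-- The `B`-submodule of polynomials all of whose monomials are "standard", i.e. not divisible
by any of the given exponents. -/
def standard {ι : Type*} (d : ι → σ →₀ ℕ) : Submodule B (MvPolynomial σ B) where
  carrier := {r | ∀ c ∈ r.support, ∀ i, ¬ (d i ≤ c)}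
  zero_mem' := by simp
  add_mem' := by
    intro a b ha hb c hc i
    classical
    rcases Finset.mem_union.mp (MvPolynomial.support_add hc) with h | h
    · exact ha c h i
    · exact hb c h i
  smul_mem' := by
    intro a r hr c hc i
    exact hr c (MvPolynomial.support_smul hc) i

lemma mem_standard {ι : Type*} (d : ι → σ →₀ ℕ) (r : MvPolynomial σ B) :
    r ∈ standard (B := B) d ↔ ∀ c ∈ r.support, ∀ i, ¬ (d i ≤ c) := Iff.rfl

/-- Division with remainder by polynomials `bp i + bm i` where `bp i` has unit leading coefficient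
and `bm i` has all coefficients in a nilpotent ideal. -/
theorem div_nilpotent {ι : Type*} (bp bm : ι → MvPolynomial σ B)
    (hb : ∀ i, IsUnit (m.leadingCoeff (bp i))) (𝔠 : Ideal B) (h𝔠 : IsNilpotent 𝔠)
    (hbm : ∀ i d, (bm i).coeff d ∈ 𝔠) (f : MvPolynomial σ B) :
    ∃ (g : ι →₀ MvPolynomial σ B) (r : MvPolynomial σ B),
      f = Finsupp.linearCombination _ (fun i => bp i + bm i) g + r ∧
        ∀ c ∈ r.support, ∀ i, ¬ (m.degree (bp i) ≤ c) := by
  classical
  set N' : Submodule B (MvPolynomial σ B) :=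
    (Ideal.span (Set.range fun i => bp i + bm i)).restrictScalars B with hN'
  set S : Submodule B (MvPolynomial σ B) := standard (fun i => m.degree (bp i)) with hS
  have hbm' : ∀ i, bm i ∈ 𝔠.map (C : B →+* MvPolynomial σ B) := fun i =>
    MvPolynomial.mem_map_C_iff.mpr (hbm i)
  have hlin : ∀ G : ι →₀ MvPolynomial σ B,
      Finsupp.linearCombination _ (fun i => bp i + bm i) G =
        Finsupp.linearCombination _ bp G + Finsupp.linearCombination _ bm G := by
    intro G
    simp only [Finsupp.linearCombination_apply, Finsupp.sum, smul_add, Finset.sum_add_distrib]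
  have htop : ∀ (j : ℕ) (x : MvPolynomial σ B),
      x ∈ (𝔠 ^ j • ⊤ : Submodule B (MvPolynomial σ B)) ↔
        x ∈ (𝔠 ^ j).map (C : B →+* MvPolynomial σ B) := by
    intro j x
    rw [Ideal.smul_top_eq_map]
    rfl
  have step : ∀ j : ℕ, (𝔠 ^ j • ⊤ : Submodule B (MvPolynomial σ B)) ≤
      N' ⊔ S ⊔ (𝔠 ^ (j + 1) • ⊤ : Submodule B (MvPolynomial σ B)) := by
    intro j
    rw [Submodule.smul_le]
    intro c hc f₀ _
    obtain ⟨g, r, hf₀, -, hr⟩ := m.div hb f₀
    have h1 : c • f₀ = (Finsupp.linearCombination _ (fun i => bp i + bm i)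
          ((C c : MvPolynomial σ B) • g)) + c • r -
        Finsupp.linearCombination _ bm ((C c : MvPolynomial σ B) • g) := by
      rw [hlin, hf₀, smul_add, map_smul, smul_eq_mul, MvPolynomial.C_mul']
      abel
    rw [h1]
    refine Submodule.sub_mem _ (Submodule.mem_sup_left (Submodule.add_mem _
      (Submodule.mem_sup_left ?_) (Submodule.mem_sup_right ?_))) (Submodule.mem_sup_right ?_)
    · rw [hN', Submodule.restrictScalars_mem]
      rw [Finsupp.linearCombination_apply]
      refine Submodule.sum_mem _ fun i _ => ?_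
      exact Ideal.mul_mem_left _ _ (Ideal.subset_span ⟨i, rfl⟩)
    · exact S.smul_mem c hr
    · rw [htop, Finsupp.linearCombination_apply]
      refine Submodule.sum_mem _ fun i _ => ?_
      change (C c • g) i • bm i ∈ _
      rw [Finsupp.coe_smul, Pi.smul_apply, smul_eq_mul, smul_eq_mul, pow_succ, Ideal.map_mul,
        mul_assoc, mul_comm (g i)]
      rw [← mul_assoc]
      exact Ideal.mul_mem_right _ _ (Ideal.mul_mem_mul (Ideal.mem_map_of_mem _ hc) (hbm' i))
  have hall : ∀ j : ℕ, (⊤ : Submodule B (MvPolynomial σ B)) ≤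
      N' ⊔ S ⊔ (𝔠 ^ j • ⊤ : Submodule B (MvPolynomial σ B)) := by
    intro j
    induction j with
    | zero => rw [pow_zero, Ideal.one_eq_top, Submodule.top_smul]; exact le_sup_right
    | succ j ih =>
      refine ih.trans (sup_le le_sup_left ?_)
      exact step j
  obtain ⟨M, hM⟩ := h𝔠
  have hfin := hall M (Submodule.mem_top (x := f))
  rw [hM, Ideal.zero_eq_bot, Submodule.bot_smul, sup_bot_eq] at hfin
  obtain ⟨n, hn, r, hr, rfl⟩ := Submodule.mem_sup.mp hfin
  rw [hN', Submodule.restrictScalars_mem, Finsupp.mem_ideal_span_range_iff_exists_finsupp] at hn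
  obtain ⟨g, hg⟩ := hn
  refine ⟨g, r, ?_, hr⟩
  rw [← hg, Finsupp.linearCombination_apply]
  rfl

end Groth.Agent.Lib.Seat52.NilDiv
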