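import Groth.Agent.Lib.Seat52PolySat1
import Mathlib.RingTheory.MvPolynomial.Homogeneous
import Mathlib.RingTheory.GradedAlgebra.Basic
import Mathlib.RingTheory.Polynomial.Quotient

/-!
# helper52: homogenization of submodules of `T[ζ]^s`

Generic (ring-theoretic) part: componentwise homogeneous components, dehomogenization,
homogenization of a submodule.
-/

set_option autoImplicit false
universe u

namespace Groth.Agent.Lib.Seat52.PolySat

open MvPolynomial

section Generic

variable {T : Type*} [CommRing T] {σ : Type*} {s : ℕ}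

attribute [local instance] MvPolynomial.gradedAlgebra

lemma hc_mul_of_left_mem {a b : MvPolynomial σ T} {i : ℕ}
    (ha : a ∈ homogeneousSubmodule σ T i) (n : ℕ) :
    homogeneousComponent n (a * b) =
      if i ≤ n then a * homogeneousComponent (n - i) b else 0 := by
  have h := DirectSum.coe_decompose_mul_of_left_mem (homogeneousSubmodule σ T) n ha (b := b)
  have e : ∀ (p : MvPolynomial σ T) (k : ℕ),
      (DirectSum.decompose (homogeneousSubmodule σ T) p k : MvPolynomial σ T) =
        homogeneousComponent k p := fun p k => decomposition.decompose'_apply p k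
  rw [e, e] at h
  exact h

lemma sum_hc_of_le (p : MvPolynomial σ T) {D : ℕ} (h : p.totalDegree ≤ D) :
    ∑ i ∈ Finset.range (D + 1), homogeneousComponent i p = p := by
  conv_rhs => rw [← sum_homogeneousComponent p]
  symm
  apply Finset.sum_subset
  · intro i hi
    simp only [Finset.mem_range] at hi ⊢
    omega
  · intro i _ hi
    apply homogeneousComponent_eq_zero
    simp only [Finset.mem_range, not_lt] at hi
    omega

/-- componentwise homogeneous component on `T[ζ]^s` -/
noncomputable def piHc (d : ℕ) :
    (Fin s → MvPolynomial σ T) →ₗ[T] (Fin s → MvPolynomial σ T) :=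
  (homogeneousComponent d).compLeft (Fin s)

lemma piHc_apply (d : ℕ) (x : Fin s → MvPolynomial σ T) (j : Fin s) :
    piHc d x j = homogeneousComponent d (x j) := rfl

/-- vectors whose entries are all homogeneous of degree `d` -/
def IsHom (d : ℕ) (x : Fin s → MvPolynomial σ T) : Prop := ∀ j, (x j).IsHomogeneous d

lemma isHom_piHc (d : ℕ) (x : Fin s → MvPolynomial σ T) : IsHom d (piHc d x) :=
  fun j => homogeneousComponent_isHomogeneous d (x j)

lemma piHc_of_isHom {d e : ℕ} {x : Fin s → MvPolynomial σ T} (hx : IsHom e x) :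
    piHc d x = if d = e then x else 0 := by
  funext j
  rw [piHc_apply, homogeneousComponent_of_mem (hx j)]
  split_ifs <;> rfl

lemma piHc_smul_of_isHomogeneous {p : MvPolynomial σ T} {i : ℕ} (hp : p.IsHomogeneous i)
    (x : Fin s → MvPolynomial σ T) (d : ℕ) :
    piHc d (p • x) = if i ≤ d then p • piHc (d - i) x else 0 := by
  funext j
  rw [piHc_apply, Pi.smul_apply, smul_eq_mul, hc_mul_of_left_mem hp]
  split_ifs <;> rfl

lemma piHc_smul_of_isHom (p : MvPolynomial σ T) {e : ℕ} {g : Fin s → MvPolynomial σ T}
    (hg : IsHom e g) (d : ℕ) :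
    piHc d (p • g) = if e ≤ d then homogeneousComponent (d - e) p • g else 0 := by
  funext j
  rw [piHc_apply, Pi.smul_apply, smul_eq_mul, mul_comm, hc_mul_of_left_mem (hg j)]
  split_ifs
  · rw [Pi.smul_apply, smul_eq_mul, mul_comm]
  · rfl

lemma exists_bound (x : Fin s → MvPolynomial σ T) : ∃ D : ℕ, ∀ j, (x j).totalDegree ≤ D :=
  ⟨Finset.univ.sup fun j => (x j).totalDegree, fun j =>
    Finset.le_sup (f := fun j => (x j).totalDegree) (Finset.mem_univ j)⟩

lemma sum_piHc (x : Fin s → MvPolynomial σ T) {D : ℕ} (hD : ∀ j, (x j).totalDegree ≤ D) :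
    ∑ d ∈ Finset.range (D + 1), piHc d x = x := by
  funext j
  rw [Finset.sum_apply]
  simp only [piHc_apply]
  exact sum_hc_of_le _ (hD j)

/-- dehomogenization `ζ₀ ↦ 1` -/
noncomputable def dehom : MvPolynomial (Option σ) T →ₐ[T] MvPolynomial σ T :=
  aeval (fun o => Option.elim o 1 X)

lemma dehom_rename (p : MvPolynomial σ T) : dehom (rename some p) = p := by
  rw [dehom, aeval_rename]
  have : ((fun o : Option σ => Option.elim o (1 : MvPolynomial σ T) X) ∘ some) = X := rfl
  rw [this, aeval_X_left, AlgHom.id_apply]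

lemma dehom_X_none : dehom (X none : MvPolynomial (Option σ) T) = 1 := by
  rw [dehom, aeval_X]; rfl

lemma dehom_C (a : T) : dehom (C a : MvPolynomial (Option σ) T) = C a := by
  rw [dehom, aeval_C]; rfl

lemma dehom_surjective : Function.Surjective (dehom : MvPolynomial (Option σ) T → _) :=
  fun p => ⟨rename some p, dehom_rename p⟩

instance : RingHomSurjective ((dehom : MvPolynomial (Option σ) T →ₐ[T] MvPolynomial σ T) :
    MvPolynomial (Option σ) T →+* MvPolynomial σ T) := ⟨dehom_surjective⟩

/-- componentwise dehomogenization, semilinear over `dehom` -/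
noncomputable def dehomS : (Fin s → MvPolynomial (Option σ) T) →ₛₗ[
    ((dehom : MvPolynomial (Option σ) T →ₐ[T] MvPolynomial σ T) :
      MvPolynomial (Option σ) T →+* MvPolynomial σ T)] (Fin s → MvPolynomial σ T) where
  toFun x j := dehom (x j)
  map_add' x y := by funext j; simp
  map_smul' p x := by funext j; simp

lemma dehomS_apply (x : Fin s → MvPolynomial (Option σ) T) (j : Fin s) :
    dehomS x j = dehom (x j) := rfl

/-- homogenization in degree `D` -/
noncomputable def homog (D : ℕ) (y : Fin s → MvPolynomial σ T) :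
    Fin s → MvPolynomial (Option σ) T :=
  fun j => ∑ e ∈ Finset.range (D + 1),
    X none ^ (D - e) * rename some (homogeneousComponent e (y j))

lemma isHom_homog (D : ℕ) (y : Fin s → MvPolynomial σ T) : IsHom D (homog D y) := by
  intro j
  apply IsHomogeneous.sum
  intro e he
  have he' : e ≤ D := by
    have := Finset.mem_range.mp he
    omega
  have h1 : (X none ^ (D - e) : MvPolynomial (Option σ) T).IsHomogeneous (D - e) :=
    isHomogeneous_X_pow _ _
  have h2 : (rename (some : σ → Option σ) (homogeneousComponent e (y j))).IsHomogeneous e :=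
    (homogeneousComponent_isHomogeneous e (y j)).rename_isHomogeneous
  have := h1.mul h2
  rwa [Nat.sub_add_cancel he'] at this

lemma dehomS_homog {D : ℕ} {y : Fin s → MvPolynomial σ T} (hD : ∀ j, (y j).totalDegree ≤ D) :
    dehomS (homog D y) = y := by
  funext j
  rw [dehomS_apply, homog, map_sum]
  simp only [map_mul, map_pow, dehom_X_none, one_pow, one_mul, dehom_rename]
  exact sum_hc_of_le _ (hD j)

/-- The homogenization of a submodule `N ⊆ T[ζ]^s`: the vectors all of whose homogeneous
components dehomogenize into `N`. -/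
def homSub (N : Submodule (MvPolynomial σ T) (Fin s → MvPolynomial σ T)) :
    Submodule (MvPolynomial (Option σ) T) (Fin s → MvPolynomial (Option σ) T) where
  carrier := {x | ∀ d, dehomS (piHc d x) ∈ N}
  add_mem' := by
    intro x y hx hy d
    rw [map_add, map_add]
    exact N.add_mem (hx d) (hy d)
  zero_mem' := by
    intro d
    rw [map_zero, map_zero]
    exact N.zero_mem
  smul_mem' := by
    intro p x hx d
    have hp : p • x = ∑ i ∈ Finset.range (p.totalDegree + 1), homogeneousComponent i p • x := by
      rw [← Finset.sum_smul, sum_homogeneousComponent]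
    rw [hp, map_sum, map_sum]
    refine N.sum_mem fun i _ => ?_
    rw [piHc_smul_of_isHomogeneous (homogeneousComponent_isHomogeneous i p)]
    split_ifs
    · rw [map_smulₛₗ]
      exact N.smul_mem _ (hx _)
    · rw [map_zero]
      exact N.zero_mem

variable (N : Submodule (MvPolynomial σ T) (Fin s → MvPolynomial σ T))

lemma mem_homSub {x : Fin s → MvPolynomial (Option σ) T} :
    x ∈ homSub N ↔ ∀ d, dehomS (piHc d x) ∈ N := Iff.rfl

lemma dehomS_mem {x : Fin s → MvPolynomial (Option σ) T} (hx : x ∈ homSub N) :
    dehomS x ∈ N := by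
  obtain ⟨D, hD⟩ := exists_bound x
  rw [← sum_piHc x hD, map_sum]
  exact N.sum_mem fun d _ => hx d

lemma piHc_mem {x : Fin s → MvPolynomial (Option σ) T} (hx : x ∈ homSub N) (d : ℕ) :
    piHc d x ∈ homSub N := by
  intro e
  rw [piHc_of_isHom (isHom_piHc d x)]
  split_ifs
  · exact hx d
  · rw [map_zero]; exact N.zero_mem

lemma mem_homSub_of_isHom {d : ℕ} {x : Fin s → MvPolynomial (Option σ) T} (hx : IsHom d x)
    (h : dehomS x ∈ N) : x ∈ homSub N := by
  intro e
  rw [piHc_of_isHom hx]
  split_ifs
  · exact h
  · rw [map_zero]; exact N.zero_mem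

lemma map_homSub : (homSub N).map dehomS = N := by
  apply le_antisymm
  · rintro _ ⟨x, hx, rfl⟩
    exact dehomS_mem N hx
  · intro y hy
    obtain ⟨D, hD⟩ := exists_bound y
    refine ⟨homog D y, mem_homSub_of_isHom N (isHom_homog D y) ?_, dehomS_homog hD⟩
    rw [dehomS_homog hD]
    exact hy

lemma homSub_sat (a : T) (hsat : ∀ y : Fin s → MvPolynomial σ T, (C a : MvPolynomial σ T) • y ∈ N → y ∈ N)
    (x : Fin s → MvPolynomial (Option σ) T) (hx : (C a : MvPolynomial (Option σ) T) • x ∈ homSub N) : x ∈ homSub N := by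
  intro d
  apply hsat
  have h := hx d
  have e1 : ∀ z : Fin s → MvPolynomial (Option σ) T,
      (C a : MvPolynomial (Option σ) T) • z = a • z := by
    intro z
    funext j
    rw [Pi.smul_apply, Pi.smul_apply, smul_eq_mul, smul_eq_C_mul]
  rw [e1, map_smul, ← e1, map_smulₛₗ] at h
  rwa [RingHom.coe_coe, dehom_C] at h

end Generic

end Groth.Agent.Lib.Seat52.PolySat
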