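import Groth.Agent.Lib.Seat52PolySat2

/-!
# helper52: saturated submodules of `T[ζ]^s` are finitely generated (class (V))

`T` is an algebra over a height-one valuation ring `R`, `t`-adically complete and separated with
`T/tT` of finite type over `R/t` (e.g. `T = R⟨ξ⟩`).  This is the special case of the
Raynaud–Gruson theorem used in Bosch, FRG §7.3.
-/

set_option autoImplicit false
universe u

namespace Groth.Agent.Lib.Seat52.PolySat

open MvPolynomial

section FT

variable (R : Type u) [CommRing R] (t : R) (T : Type u) [CommRing T] [Algebra R T]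

lemma exists_surj_mvPolynomial (n : ℕ)
    (φ : MvPolynomial (Fin n) (R ⧸ Ideal.span {t}) →ₐ[R ⧸ Ideal.span {t}]
      T ⧸ (Ideal.span {t}).map (algebraMap R T))
    (hφ : Function.Surjective φ) (σ' : Type) [Finite σ'] :
    ∃ (n' : ℕ) (φ' : MvPolynomial (Fin n') (R ⧸ Ideal.span {t}) →ₐ[R ⧸ Ideal.span {t}]
      MvPolynomial σ' T ⧸ (Ideal.span {t}).map (algebraMap R (MvPolynomial σ' T))),
      Function.Surjective φ' := by
  set JT := (Ideal.span {t}).map (algebraMap R T) with hJT
  have h1 : Algebra.FiniteType (R ⧸ Ideal.span {t}) (T ⧸ JT) :=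
    Algebra.FiniteType.of_surjective φ hφ
  have h2 : Algebra.FiniteType R (R ⧸ Ideal.span {t}) :=
    Algebra.FiniteType.of_surjective (Ideal.Quotient.mkₐ R _) (Ideal.Quotient.mkₐ_surjective R _)
  have h3 : Algebra.FiniteType R (T ⧸ JT) := Algebra.FiniteType.trans h2 h1
  have h4 : Algebra.FiniteType R (MvPolynomial σ' (T ⧸ JT)) := inferInstance
  let e := (MvPolynomial.quotientEquivQuotientMvPolynomial (σ := σ') JT).restrictScalars R
  have hJ : Ideal.map C JT = (Ideal.span {t}).map (algebraMap R (MvPolynomial σ' T)) := by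
    rw [hJT, Ideal.map_map]
    rfl
  have h5 : Algebra.FiniteType R
      (MvPolynomial σ' T ⧸ (Ideal.span {t}).map (algebraMap R (MvPolynomial σ' T))) :=
    (h4.equiv e).equiv (Ideal.quotientEquivAlgOfEq R hJ)
  have h6 : Algebra.FiniteType (R ⧸ Ideal.span {t})
      (MvPolynomial σ' T ⧸ (Ideal.span {t}).map (algebraMap R (MvPolynomial σ' T))) :=
    Algebra.FiniteType.of_restrictScalars_finiteType R _ _
  exact Algebra.FiniteType.iff_quotient_mvPolynomial''.mp h6

end FT

section Sep

variable {T : Type*} [CommRing T] {σ : Type*} {s : ℕ}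

lemma C_smul_eq (a : T) (z : Fin s → MvPolynomial σ T) :
    (C a : MvPolynomial σ T) • z = a • z := by
  funext j
  rw [Pi.smul_apply, Pi.smul_apply, smul_eq_mul, smul_eq_C_mul]

/-- `T[ζ]^s` is `τ`-adically separated as a `T`-module when `T` is. -/
lemma pi_mvPolynomial_sep (τ : T) (hT_haus : ∀ x : T, (∀ k : ℕ, τ ^ k ∣ x) → x = 0)
    (x : Fin s → MvPolynomial σ T) (h : ∀ k : ℕ, ∃ y : Fin s → MvPolynomial σ T, x = τ ^ k • y) :
    x = 0 := by
  funext j
  ext mon
  rw [Pi.zero_apply, coeff_zero]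
  apply hT_haus
  intro k
  obtain ⟨y, rfl⟩ := h k
  rw [Pi.smul_apply, coeff_smul, smul_eq_mul]
  exact Dvd.intro _ rfl

end Sep

section Main

variable (R : Type u) [CommRing R] [IsDomain R] [ValuationRing R] [Ring.KrullDimLE 1 R]
  (t : R) (ht : t ≠ 0) [IsHausdorff (Ideal.span {t}) R]
  (T : Type u) [CommRing T] [Algebra R T]
  (hT_haus : ∀ x : T, (∀ k : ℕ, algebraMap R T t ^ k ∣ x) → x = 0)
  (hT_compl : ∀ a : ℕ → T, ∃ L : T, ∀ k : ℕ,
    algebraMap R T t ^ k ∣ L - ∑ i ∈ Finset.range k, algebraMap R T t ^ i * a i)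
  (n : ℕ)
  (φ : MvPolynomial (Fin n) (R ⧸ Ideal.span {t}) →ₐ[R ⧸ Ideal.span {t}]
    T ⧸ (Ideal.span {t}).map (algebraMap R T))
  (hφ : Function.Surjective φ)

include ht hT_haus hT_compl hφ in
/-- Raynaud–Gruson, special case: `t`-saturated submodules of `T[ζ₁..ζₘ]^s` are finitely
generated. -/
theorem fg_of_saturated_mvPolynomial (m s : ℕ)
    (N : Submodule (MvPolynomial (Fin m) T) (Fin s → MvPolynomial (Fin m) T))
    (hsat : ∀ x : Fin s → MvPolynomial (Fin m) T,
      algebraMap R (MvPolynomial (Fin m) T) t • x ∈ N → x ∈ N) : N.FG := by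
  classical
  set τ : T := algebraMap R T t with hτ
  have hτP : algebraMap R (MvPolynomial (Fin m) T) t = C τ := rfl
  have hτP' : algebraMap R (MvPolynomial (Option (Fin m)) T) t = C τ := rfl
  set Nh := homSub N with hNh
  have hsat' : ∀ x : Fin s → MvPolynomial (Option (Fin m)) T,
      (C τ : MvPolynomial (Option (Fin m)) T) • x ∈ Nh → x ∈ Nh :=
    homSub_sat N τ (fun y hy => hsat y (by rw [hτP]; exact hy))
  obtain ⟨n', φ', hφ'⟩ := exists_surj_mvPolynomial R t T n φ hφ (Option (Fin m))
  have hfg' := fg_sup_of_saturated R t ht (MvPolynomial (Option (Fin m)) T) n' φ' hφ' s Nh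
    (by rw [hτP']; exact hsat')
  set Jm : Ideal (MvPolynomial (Option (Fin m)) T) :=
    (Ideal.span {t}).map (algebraMap R (MvPolynomial (Option (Fin m)) T)) with hJm
  have hJm' : Jm = Ideal.span {(C τ : MvPolynomial (Option (Fin m)) T)} := by
    rw [hJm, Ideal.map_span, Set.image_singleton, hτP']
  have hJtop : ∀ z : Fin s → MvPolynomial (Option (Fin m)) T,
      z ∈ (Jm • ⊤ : Submodule (MvPolynomial (Option (Fin m)) T) _) ↔
        ∃ y, z = (C τ : MvPolynomial (Option (Fin m)) T) • y := by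
    intro z
    rw [hJm', Submodule.ideal_span_singleton_smul, Submodule.mem_smul_pointwise_iff_exists]
    constructor
    · rintro ⟨y, -, rfl⟩; exact ⟨y, rfl⟩
    · rintro ⟨y, rfl⟩; exact ⟨y, trivial, rfl⟩
  obtain ⟨r, u, hu⟩ := Submodule.fg_iff_exists_fin_generating_family.mp hfg'
  have hudec : ∀ i, ∃ n₀ ∈ Nh, ∃ y, u i = n₀ + (C τ : MvPolynomial (Option (Fin m)) T) • y := by
    intro i
    have : u i ∈ Nh ⊔ Jm • ⊤ := by rw [← hu]; exact Submodule.subset_span ⟨i, rfl⟩
    obtain ⟨n₀, hn₀, j, hj, hsum⟩ := Submodule.mem_sup.mp this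
    obtain ⟨y, rfl⟩ := (hJtop j).mp hj
    exact ⟨n₀, hn₀, y, hsum.symm⟩
  choose nn hnn yy hu' using hudec
  have hstep : ∀ x ∈ Nh, ∃ (c : Fin r → MvPolynomial (Option (Fin m)) T)
      (y : Fin s → MvPolynomial (Option (Fin m)) T), y ∈ Nh ∧
        x = ∑ i, c i • nn i + (C τ : MvPolynomial (Option (Fin m)) T) • y := by
    intro x hx
    have hx' : x ∈ Submodule.span (MvPolynomial (Option (Fin m)) T) (Set.range u) := by
      rw [hu]; exact Submodule.mem_sup_left hx
    obtain ⟨c, hc⟩ := (Submodule.mem_span_range_iff_exists_fun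
      (MvPolynomial (Option (Fin m)) T)).mp hx'
    have hxeq : x = ∑ i, c i • nn i +
        (C τ : MvPolynomial (Option (Fin m)) T) • ∑ i, c i • yy i := by
      rw [← hc]
      simp only [hu', smul_add, Finset.sum_add_distrib, Finset.smul_sum,
        smul_comm (C τ : MvPolynomial (Option (Fin m)) T)]
    refine ⟨c, ∑ i, c i • yy i, ?_, hxeq⟩
    apply hsat'
    have : (C τ : MvPolynomial (Option (Fin m)) T) • ∑ i, c i • yy i =
        x - ∑ i, c i • nn i := by
      rw [eq_sub_iff_add_eq, add_comm]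
      exact hxeq.symm
    rw [this]
    exact Nh.sub_mem hx (Nh.sum_mem fun i _ => Nh.smul_mem _ (hnn i))
  -- degree bound for the `nn i`
  obtain ⟨D, hD⟩ : ∃ D : ℕ, ∀ i j, (nn i j).totalDegree ≤ D := by
    refine ⟨Finset.univ.sup fun i => Finset.univ.sup fun j => (nn i j).totalDegree, fun i j => ?_⟩
    exact le_trans (Finset.le_sup (f := fun j => (nn i j).totalDegree) (Finset.mem_univ j))
      (Finset.le_sup (f := fun i => Finset.univ.sup fun j => (nn i j).totalDegree)
        (Finset.mem_univ i))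
  let g : Fin r × Fin (D + 1) → (Fin s → MvPolynomial (Option (Fin m)) T) :=
    fun k => piHc (k.2 : ℕ) (nn k.1)
  have hgN : ∀ k, g k ∈ Nh := fun k => piHc_mem N (hnn k.1) _
  have hgH : ∀ k, IsHom (k.2 : ℕ) (g k) := fun k => isHom_piHc _ _
  have hnn_sum : ∀ i, nn i = ∑ e : Fin (D + 1), g (i, e) := by
    intro i
    rw [← Finset.sum_range (fun e => piHc e (nn i))]
    exact (sum_piHc (nn i) (hD i)).symm
  have hstep2 : ∀ x ∈ Nh, ∃ (c : Fin r → MvPolynomial (Option (Fin m)) T)
      (y : Fin s → MvPolynomial (Option (Fin m)) T), y ∈ Nh ∧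
        x = ∑ i, ∑ e : Fin (D + 1), c i • g (i, e) + τ • y := by
    intro x hx
    obtain ⟨c, y, hy, hxy⟩ := hstep x hx
    refine ⟨c, y, hy, ?_⟩
    rw [hxy, C_smul_eq]
    congr 1
    refine Finset.sum_congr rfl fun i _ => ?_
    rw [← Finset.smul_sum, ← hnn_sum]
  -- the homogeneous pieces
  have hkey : ∀ d : ℕ, ∀ x ∈ Nh, IsHom d x →
      x ∈ Submodule.span (MvPolynomial (Option (Fin m)) T) (Set.range g) := by
    intro d
    let Nd : Submodule T (Fin s → MvPolynomial (Option (Fin m)) T) :=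
      { carrier := {x | x ∈ Nh ∧ IsHom d x}
        add_mem' := fun {x y} hx hy => ⟨Nh.add_mem hx.1 hy.1, fun j => (hx.2 j).add (hy.2 j)⟩
        zero_mem' := ⟨Nh.zero_mem, fun j => isHomogeneous_zero _ _ _⟩
        smul_mem' := fun a x hx => by
          refine ⟨?_, fun j => ?_⟩
          · rw [← C_smul_eq]; exact Nh.smul_mem _ hx.1
          · rw [Pi.smul_apply, smul_eq_C_mul]; exact (hx.2 j).C_mul a }
    let ψ : Fin r × Fin (D + 1) →
        MvPolynomial (Option (Fin m)) T →ₗ[T] (Fin s → MvPolynomial (Option (Fin m)) T) :=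
      fun k => (LinearMap.toSpanSingleton (MvPolynomial (Option (Fin m)) T) _
        (g k)).restrictScalars T
    let M0 : Submodule T (Fin s → MvPolynomial (Option (Fin m)) T) :=
      ⨆ k : Fin r × Fin (D + 1),
        (homogeneousSubmodule (Option (Fin m)) T (d - (k.2 : ℕ))).map (ψ k)
    have hM0fg : M0.FG :=
      Submodule.fg_iSup _ fun k => (homogeneousSubmodule_fg (Option (Fin m)) T _).map _
    obtain ⟨r', v, hv⟩ := Submodule.fg_iff_exists_fin_generating_family.mp hM0fg
    have hM0le : ∀ x ∈ M0,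
        x ∈ Submodule.span (MvPolynomial (Option (Fin m)) T) (Set.range g) := by
      intro x hx
      have : M0 ≤ (Submodule.span (MvPolynomial (Option (Fin m)) T)
          (Set.range g)).restrictScalars T := by
        refine iSup_le fun k => ?_
        rintro _ ⟨p, -, rfl⟩
        exact Submodule.smul_mem _ p (Submodule.subset_span ⟨k, rfl⟩)
      exact this hx
    have hle : Nd ≤ Submodule.span T (Set.range v) := by
      apply le_span_of_le_span_sup_smul_module τ hT_compl
        (pi_mvPolynomial_sep τ hT_haus) Nd v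
      intro x hx
      obtain ⟨c, y, hy, hxy⟩ := hstep2 x hx.1
      have hx1 : x = piHc d x := by rw [piHc_of_isHom hx.2, if_pos rfl]
      have hm0 : ∑ i, ∑ e : Fin (D + 1), piHc d (c i • g (i, e)) ∈ M0 := by
        refine Submodule.sum_mem _ fun i _ => Submodule.sum_mem _ fun e _ => ?_
        rw [piHc_smul_of_isHom (c i) (hgH (i, e))]
        split_ifs
        · refine Submodule.mem_iSup_of_mem (i, e) ?_
          exact ⟨_, homogeneousComponent_mem _ _, rfl⟩
        · exact Submodule.zero_mem _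
      rw [← hv] at hm0
      obtain ⟨c', hc'⟩ := (Submodule.mem_span_range_iff_exists_fun T).mp hm0
      refine ⟨c', piHc d y, ⟨piHc_mem N hy d, isHom_piHc d y⟩, ?_⟩
      rw [hc']
      nth_rewrite 1 [hx1]
      rw [hxy, map_add, map_sum, map_smul]
      congr 1
      refine Finset.sum_congr rfl fun i _ => ?_
      rw [map_sum]
    intro x hx hxd
    have : x ∈ Submodule.span T (Set.range v) := hle ⟨hx, hxd⟩
    rw [hv] at this
    exact hM0le x this
  have hNh : Nh = Submodule.span (MvPolynomial (Option (Fin m)) T) (Set.range g) := by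
    apply le_antisymm
    · intro x hx
      obtain ⟨Dx, hDx⟩ := exists_bound x
      rw [← sum_piHc x hDx]
      exact Submodule.sum_mem _ fun d _ => hkey d _ (piHc_mem N hx d) (isHom_piHc d x)
    · rw [Submodule.span_le]
      rintro _ ⟨k, rfl⟩
      exact hgN k
  have hfgNh : Nh.FG := by
    rw [hNh]
    exact Submodule.fg_span (Set.finite_range g)
  have := hfgNh.map (dehomS (T := T) (σ := Fin m) (s := s))
  rwa [map_homSub] at this

end Main

end Groth.Agent.Lib.Seat52.PolySat
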