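import Groth.Agent.Lib.Seat52ValFP
import Groth.Agent.Lib.Seat35FlatFPMod

/-!
# helper52: Raynaud–Gruson over a Prüfer domain, polynomial case, and coherence of finitely
presented algebras over Prüfer domains.
-/

set_option autoImplicit false
set_option linter.style.haveILetI false
set_option linter.unusedSectionVars false
universe u

namespace Groth.Agent.Lib.Seat52.PruferRG

open MvPolynomial

section TF

variable {R : Type u} [CommRing R] [IsDomain R] (p : Ideal R) [p.IsPrime]
  {P : Type u} [CommRing P] [Algebra R P]
  {M : Type u} [AddCommGroup M] [Module P M] [Module R M] [IsScalarTower R P M]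

/-- localizing an `R`-torsion-free `P`-module at (the image of) `R ∖ p` gives an
`R_p`-torsion-free module. -/
lemma localized_torsionFree (htf : ∀ (a : R) (x : M), a ≠ 0 → a • x = 0 → x = 0)
    (a : Localization.AtPrime p)
    (x : LocalizedModule (Algebra.algebraMapSubmonoid P p.primeCompl) M) (ha : a ≠ 0)
    (hx : algebraMap (Localization.AtPrime p)
      (Localization (Algebra.algebraMapSubmonoid P p.primeCompl)) a • x = 0) : x = 0 := by
  obtain ⟨r, u, rfl⟩ := IsLocalization.exists_mk'_eq p.primeCompl a
  have hr : r ≠ 0 := by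
    rintro rfl
    exact ha (IsLocalization.mk'_zero _)
  have h1 : algebraMap R (Localization (Algebra.algebraMapSubmonoid P p.primeCompl)) r • x
      = 0 := by
    have h2 : algebraMap R (Localization.AtPrime p) r
        = algebraMap R _ (u : R) * IsLocalization.mk' _ r u := by
      rw [mul_comm, IsLocalization.mk'_spec]
    rw [IsScalarTower.algebraMap_apply R (Localization.AtPrime p)
      (Localization (Algebra.algebraMapSubmonoid P p.primeCompl)), h2, map_mul, mul_smul, hx,
      smul_zero]
  induction x using LocalizedModule.induction_on with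
  | h m t =>
    rw [IsScalarTower.algebraMap_apply R P
      (Localization (Algebra.algebraMapSubmonoid P p.primeCompl)), algebraMap_smul,
      LocalizedModule.smul'_mk, ← LocalizedModule.zero_mk (1 : Algebra.algebraMapSubmonoid P p.primeCompl),
      LocalizedModule.mk_eq] at h1
    obtain ⟨c, hc⟩ := h1
    obtain ⟨u', hu', hcu⟩ := c.2
    simp only [one_smul, smul_zero, Submonoid.smul_def] at hc
    rw [← hcu, algebraMap_smul, algebraMap_smul, smul_smul] at hc
    have hm : m = 0 := htf _ m (mul_ne_zero (fun h => hu' (by rw [h]; exact p.zero_mem)) hr) hc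
    rw [hm, LocalizedModule.zero_mk]

theorem fp_localized [Algebra.FiniteType R P] [Module.Finite P M]
    (hV : ValuationRing (Localization.AtPrime p))
    (htf : ∀ (a : R) (x : M), a ≠ 0 → a • x = 0 → x = 0) :
    Module.FinitePresentation (Localization (Algebra.algebraMapSubmonoid P p.primeCompl))
      (LocalizedModule (Algebra.algebraMapSubmonoid P p.primeCompl) M) := by
  letI : Module (Localization.AtPrime p)
      (LocalizedModule (Algebra.algebraMapSubmonoid P p.primeCompl) M) :=
    Module.compHom _ (algebraMap (Localization.AtPrime p)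
      (Localization (Algebra.algebraMapSubmonoid P p.primeCompl)))
  haveI : IsScalarTower (Localization.AtPrime p)
      (Localization (Algebra.algebraMapSubmonoid P p.primeCompl))
      (LocalizedModule (Algebra.algebraMapSubmonoid P p.primeCompl) M) :=
    IsScalarTower.of_algebraMap_smul fun r x => rfl
  haveI : Algebra.EssFiniteType (Localization.AtPrime p)
      (Localization (Algebra.algebraMapSubmonoid P p.primeCompl)) :=
    Algebra.EssFiniteType.of_comp R _ _
  exact ValFP.fp_of_essFiniteType (A := Localization.AtPrime p)
    (fun a x ha hx => localized_torsionFree p htf a x ha hx)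

end TF

section Main

variable (R : Type u) [CommRing R] [IsDomain R]
  (hR : ∀ (p : Ideal R) [p.IsPrime], ValuationRing (Localization.AtPrime p))

include hR in
/-- Raynaud–Gruson over a Prüfer domain, polynomial case. -/
theorem fg_of_saturated (n s : ℕ)
    (N : Submodule (MvPolynomial (Fin n) R) (Fin s → MvPolynomial (Fin n) R))
    (hsat : ∀ a : R, a ≠ 0 → ∀ x : Fin s → MvPolynomial (Fin n) R,
      (C a : MvPolynomial (Fin n) R) • x ∈ N → x ∈ N) : N.FG := by
  classical
  have htf : ∀ (a : R) (x : (Fin s → MvPolynomial (Fin n) R) ⧸ N), a ≠ 0 → a • x = 0 → x = 0 := by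
    intro a x ha hx
    induction x using Submodule.Quotient.induction_on with
    | H x =>
      rw [← Submodule.Quotient.mk_smul, Submodule.Quotient.mk_eq_zero] at hx
      rw [Submodule.Quotient.mk_eq_zero]
      apply hsat a ha x
      rwa [← algebraMap_eq, algebraMap_smul]
  haveI : Module.IsTorsionFree R ((Fin s → MvPolynomial (Fin n) R) ⧸ N) := by
    rw [Module.isTorsionFree_iff_smul_eq_zero]
    intro a x hx
    by_cases ha : a = 0
    · exact Or.inl ha
    · exact Or.inr (htf a x ha hx)
  haveI : Module.Flat R ((Fin s → MvPolynomial (Fin n) R) ⧸ N) := by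
    rw [Module.Flat.flat_iff_torsion_eq_bot_of_valuationRing_localization_isMaximal
      (fun P _ => hR P), ← Submodule.isTorsionFree_iff_torsion_eq_bot]
    infer_instance
  have hinj : Function.Injective fun r : R => fun q : ({⊥} : Finset (PrimeSpectrum R)) =>
      algebraMap R (Localization.AtPrime q.1.asIdeal) r := by
    intro r r' h
    have h0 := congrFun h ⟨⊥, Finset.mem_singleton_self _⟩
    refine IsLocalization.injective (M := (⊥ : PrimeSpectrum R).asIdeal.primeCompl)
      (Localization.AtPrime (⊥ : PrimeSpectrum R).asIdeal) ?_ h0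
    intro x hx
    rw [mem_nonZeroDivisors_iff_ne_zero]
    rintro rfl
    exact hx (Ideal.zero_mem _)
  have := Groth.Agent.Lib.Seat35.FlatFPMod.ker_fg (R := R) (P := MvPolynomial (Fin n) R)
    (F := Fin s → MvPolynomial (Fin n) R) (M := (Fin s → MvPolynomial (Fin n) R) ⧸ N)
    N.mkQ N.mkQ_surjective {⊥} hinj
    (fun p _ => fp_localized p (hR p) htf)
  rwa [Submodule.ker_mkQ] at this

include hR in
/-- Finitely presented algebras over a Prüfer domain are coherent rings. -/
theorem ideal_fp (A : Type u) [CommRing A] [Algebra R A] [Algebra.FinitePresentation R A]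
    (I : Ideal A) (hI : I.FG) : Module.FinitePresentation A I := by
  classical
  obtain ⟨n, f, hf, hJ⟩ := (Algebra.FinitePresentation.out :
    ∃ (n : ℕ) (f : MvPolynomial (Fin n) R →ₐ[R] A), Function.Surjective f ∧
      (RingHom.ker f.toRingHom).FG)
  haveI : Module.Finite A I := Module.Finite.of_fg hI
  obtain ⟨k, ψ, hψ⟩ := Module.Finite.exists_fin' A I
  obtain ⟨l, j, hj⟩ := Submodule.fg_iff_exists_fin_generating_family.mp hJ
  let a : Fin k → A := fun i => ((ψ (fun j => if i = j then 1 else 0) : I) : A)
  have hψa : ∀ y : Fin k → A, ((ψ y : I) : A) = ∑ i, y i * a i := by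
    intro y
    rw [LinearMap.pi_apply_eq_sum_univ ψ y]
    simp [a]
  choose al hal using fun i => hf (a i)
  have hjker : ∀ t, f (j t) = 0 := by
    intro t
    have : j t ∈ RingHom.ker f.toRingHom := by
      rw [← hj]; exact Submodule.subset_span ⟨t, rfl⟩
    exact this
  let v : Fin (k + l) → MvPolynomial (Fin n) R := Fin.append al j
  let θ : (Fin (k + l) → MvPolynomial (Fin n) R) →ₗ[MvPolynomial (Fin n) R]
      MvPolynomial (Fin n) R := Fintype.linearCombination (MvPolynomial (Fin n) R) v
  have hθ : ∀ x, θ x = ∑ i : Fin k, x (Fin.castAdd l i) * al i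
      + ∑ t : Fin l, x (Fin.natAdd k t) * j t := by
    intro x
    simp only [θ, Fintype.linearCombination_apply, Fin.sum_univ_add, v, Fin.append_left,
      Fin.append_right, smul_eq_mul]
  have hsat : ∀ c : R, c ≠ 0 → ∀ x : Fin (k + l) → MvPolynomial (Fin n) R,
      (C c : MvPolynomial (Fin n) R) • x ∈ LinearMap.ker θ → x ∈ LinearMap.ker θ := by
    intro c hc x hx
    rw [LinearMap.mem_ker, map_smul, smul_eq_mul] at hx
    rw [LinearMap.mem_ker]
    rcases mul_eq_zero.mp hx with h | h
    · exact absurd ((map_eq_zero_iff _ (C_injective (Fin n) R)).mp h) hc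
    · exact h
  have hfg : (LinearMap.ker θ).FG := fg_of_saturated R hR n (k + l) _ hsat
  haveI : RingHomSurjective (f : MvPolynomial (Fin n) R →+* A) := ⟨hf⟩
  let Φ : (Fin (k + l) → MvPolynomial (Fin n) R) →ₛₗ[(f : MvPolynomial (Fin n) R →+* A)]
      (Fin k → A) :=
    { toFun := fun x i => f (x (Fin.castAdd l i))
      map_add' := fun x y => by ext i; simp
      map_smul' := fun c x => by ext i; simp }
  have hmap : (LinearMap.ker θ).map Φ = LinearMap.ker ψ := by
    apply le_antisymm
    · rintro _ ⟨x, hx, rfl⟩
      rw [LinearMap.mem_ker]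
      apply Subtype.ext
      rw [hψa]
      have h1 : f (θ x) = 0 := by
        rw [SetLike.mem_coe, LinearMap.mem_ker] at hx
        rw [hx, map_zero]
      rw [hθ, map_add, map_sum, map_sum] at h1
      have h2 : ∑ t : Fin l, f (x (Fin.natAdd k t) * j t) = 0 :=
        Finset.sum_eq_zero fun t _ => by rw [map_mul, hjker, mul_zero]
      rw [h2, add_zero] at h1
      simp only [map_mul, hal] at h1
      simpa [Φ] using h1
    · intro y hy
      rw [LinearMap.mem_ker] at hy
      choose yl hyl using fun i => hf (y i)
      have h1 : ∑ i, yl i * al i ∈ RingHom.ker f.toRingHom := by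
        change f _ = 0
        have := hψa y
        rw [hy] at this
        simp only [map_sum, map_mul, hyl, hal]
        exact this.symm
      rw [← hj, Submodule.mem_span_range_iff_exists_fun] at h1
      obtain ⟨d, hd⟩ := h1
      refine ⟨Fin.append yl (fun t => - d t), ?_, ?_⟩
      · rw [SetLike.mem_coe, LinearMap.mem_ker, hθ]
        simp only [Fin.append_left, Fin.append_right, neg_mul, Finset.sum_neg_distrib]
        rw [← hd]
        simp [smul_eq_mul]
      · ext i
        simp [Φ, hyl]
  have hker : (LinearMap.ker ψ).FG := by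
    have := hfg.map Φ
    rwa [hmap] at this
  exact Module.finitePresentation_of_surjective ψ hψ hker

end Main

end Groth.Agent.Lib.Seat52.PruferRG
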