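import Mathlib
import Groth.Agent.Lib.Seat30FlatAt

/-!
# Pointwise descent of flatness, part A (helper52)

`R'` a local ring, `B'` an `R'`-algebra and a `B`-algebra, `𝔮` a prime of `B`.  The submonoid
`TT 𝔮 = {t + i | t ∈ B ∖ 𝔮, i ∈ 𝔮B' + 𝔪'B'}` of `B'`: every prime of `B'` which is maximal among
those disjoint from it lies over `𝔮` and `𝔪'`.  Consequence: if an `B'`-module `M'` is `R'`-flat at
all primes over `(𝔮, 𝔪')`, then `M'_{TT}` is `R'`-flat.
-/

set_option autoImplicit false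
set_option linter.unusedSectionVars false
universe u

namespace Groth.Agent.Lib.Seat52.PtDesc

open TensorProduct IsLocalRing

section TT

variable {R' B B' : Type u} [CommRing R'] [IsLocalRing R'] [CommRing B] [CommRing B']
  [Algebra B B'] [Algebra R' B'] (𝔮 : Ideal B) [𝔮.IsPrime]

variable (R' B') in
/-- The ideal `𝔮B' + 𝔪'B'`. -/
def II : Ideal B' :=
  𝔮.map (algebraMap B B') ⊔ (maximalIdeal R').map (algebraMap R' B')

variable (R' B') in
/-- The multiplicative set `{t + i}`. -/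
def TT : Submonoid B' where
  carrier := {b | ∃ t ∈ 𝔮.primeCompl, ∃ i ∈ II R' B' 𝔮, b = algebraMap B B' t + i}
  one_mem' := ⟨1, Submonoid.one_mem _, 0, Ideal.zero_mem _, by simp⟩
  mul_mem' := by
    rintro _ _ ⟨t, ht, i, hi, rfl⟩ ⟨t', ht', i', hi', rfl⟩
    refine ⟨t * t', Submonoid.mul_mem _ ht ht',
      algebraMap B B' t * i' + i * algebraMap B B' t' + i * i', ?_, by rw [map_mul]; ring⟩
    exact Ideal.add_mem _ (Ideal.add_mem _ (Ideal.mul_mem_left _ _ hi')
      (Ideal.mul_mem_right _ _ hi)) (Ideal.mul_mem_left _ _ hi')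

theorem algebraMap_mem_TT {t : B} (ht : t ∈ 𝔮.primeCompl) : algebraMap B B' t ∈ TT R' B' 𝔮 :=
  ⟨t, ht, 0, Ideal.zero_mem _, by simp⟩

/-- A prime containing `II` and disjoint from `TT` lies over `𝔮` and `𝔪'`. -/
theorem comap_eq_of_disjoint (𝔫 : Ideal B') [𝔫.IsPrime] (hI : II R' B' 𝔮 ≤ 𝔫)
    (hd : Disjoint (𝔫 : Set B') (TT R' B' 𝔮)) :
    𝔫.comap (algebraMap B B') = 𝔮 ∧ 𝔫.comap (algebraMap R' B') = maximalIdeal R' := by
  constructor
  · apply le_antisymm
    · intro b hb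
      by_contra hbq
      exact Set.disjoint_left.mp hd hb (algebraMap_mem_TT 𝔮 hbq)
    · rw [← Ideal.map_le_iff_le_comap]
      exact le_trans le_sup_left hI
  · have h1 : maximalIdeal R' ≤ 𝔫.comap (algebraMap R' B') := by
      rw [← Ideal.map_le_iff_le_comap]
      exact le_trans le_sup_right hI
    exact ((IsLocalRing.maximalIdeal.isMaximal R').eq_of_le Ideal.IsPrime.ne_top' h1).symm

end TT

section Flat

variable {R' B B' : Type u} [CommRing R'] [IsLocalRing R'] [CommRing B] [CommRing B']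
  [Algebra B B'] [Algebra R' B'] (𝔮 : Ideal B) [𝔮.IsPrime]
  {M' : Type u} [AddCommGroup M'] [Module B' M'] [Module R' M'] [IsScalarTower R' B' M']

open Groth.Agent.Lib.Seat30.FlatAt in
/-- If `M'` is `R'`-flat at all primes of `B'` over `𝔮` and `𝔪'`, then `M'_{TT}` is `R'`-flat. -/
theorem flat_localizedModule_TT
    (H : ∀ (q' : Ideal B') [q'.IsPrime], q'.comap (algebraMap B B') = 𝔮 →
      q'.comap (algebraMap R' B') = maximalIdeal R' →
      Module.Flat R' (LocalizedModule q'.primeCompl M')) :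
    Module.Flat R' (LocalizedModule (TT R' B' 𝔮) M') := by
  rw [Module.Flat.iff_lTensor_preserves_injective_linearMap]
  intro N P _ _ _ _ ι hι
  let g := LocalizedModule.mkLinearMap (TT R' B' 𝔮) M'
  have h1 := IsLocalizedModule.map_lTensor (R := R') B' (TT R' B' 𝔮) ι g
  rw [← AlgebraTensorModule.coe_lTensor (A := B'), ← h1, map_injective_iff]
  rintro k ⟨v, hv⟩
  have hk : ι.lTensor M' ((v : B') • k) = 0 := by
    have := map_smul (AlgebraTensorModule.lTensor B' M' ι) (v : B') k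
    rw [AlgebraTensorModule.coe_lTensor] at this
    rw [this]
    exact hv
  set k₁ : M' ⊗[R'] N := (v : B') • k with hk₁
  let Ann : Ideal B' := LinearMap.ker (LinearMap.toSpanSingleton B' (M' ⊗[R'] N) k₁)
  have hAnn : ∀ s : B', s ∈ Ann ↔ s • k₁ = 0 := fun s => by
    simp [Ann, LinearMap.mem_ker, LinearMap.toSpanSingleton_apply]
  by_contra hcon
  push Not at hcon
  have hdis : Disjoint ((Ann ⊔ II R' B' 𝔮 : Ideal B') : Set B') (TT R' B' 𝔮) := by
    rw [Set.disjoint_left]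
    rintro x hx ⟨t, ht, i, hi, rfl⟩
    obtain ⟨a, ha, i', hi', hai⟩ := Submodule.mem_sup.mp hx
    have ha' : a = algebraMap B B' t + (i - i') := by
      rw [← sub_eq_zero]
      have : a + i' - (algebraMap B B' t + i) = 0 := sub_eq_zero.mpr hai
      rw [← this]; ring
    have hmem : a ∈ TT R' B' 𝔮 := ⟨t, ht, i - i', Ideal.sub_mem _ hi hi', ha'⟩
    have h2 : a • k₁ = 0 := (hAnn a).mp ha
    have h3 : (a * (v : B')) • k = 0 := by rw [mul_smul]; exact h2
    exact hcon ⟨a * v, Submonoid.mul_mem _ hmem v.2⟩ h3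
  obtain ⟨𝔫, h𝔫, hle, hd⟩ := Ideal.exists_le_prime_disjoint _ _ hdis
  obtain ⟨hc1, hc2⟩ := comap_eq_of_disjoint 𝔮 𝔫 (le_trans le_sup_right hle) hd
  have := H 𝔫 hc1 hc2
  obtain ⟨s, hs⟩ := exists_smul_eq_zero_of_lTensor_eq_zero 𝔫.primeCompl ι hι k₁ hk
  exact s.2 (hle (Ideal.mem_sup_left ((hAnn _).mpr hs)))

end Flat

end Groth.Agent.Lib.Seat52.PtDesc
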