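import Mathlib
import Groth.Agent.Lib.Seat30FlatAt
import Groth.Agent.Lib.Seat52PtDescA

/-!
# Pointwise descent of flatness, part B (helper52)

Residue-field independence: `theta : M_𝔮 → M'_{TT}` (comparison map into the localization of the base
change at the multiplicative set `TT`), and `mem_maximalIdeal_of_sum_smul_theta_mem`: a family of
`M_𝔮` independent modulo `𝔪_R` stays independent modulo `𝔪_{R'}` in `M'_{TT}`.
-/

set_option autoImplicit false
set_option linter.unusedSectionVars false
universe u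

namespace Groth.Agent.Lib.Seat52.PtDesc

open TensorProduct IsLocalRing

section Krull

theorem exists_smul_eq_zero_of_forall_pow_smul_mem {B : Type u} [CommRing B] [IsNoetherianRing B]
    {N : Type u} [AddCommGroup N] [Module B N] [Module.Finite B N] (𝔮 : Ideal B) [𝔮.IsPrime]
    (t : B) (ht : t ∈ 𝔮.primeCompl) (w : N)
    (h : ∀ n : ℕ, t ^ n • w ∈ 𝔮 ^ n • (⊤ : Submodule B N)) :
    ∃ t' ∈ 𝔮.primeCompl, t' • w = 0 := by
  let L := Localization.AtPrime 𝔮
  let NL := LocalizedModule 𝔮.primeCompl N
  have : IsNoetherianRing L := IsLocalization.isNoetherianRing 𝔮.primeCompl L inferInstance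
  have : Module.Finite L NL := Module.Finite.of_isLocalizedModule 𝔮.primeCompl
    (LocalizedModule.mkLinearMap 𝔮.primeCompl N)
  have hI : maximalIdeal L ≠ ⊤ := Ideal.IsPrime.ne_top'
  have hsm : ∀ (b : B) (x : N), (LocalizedModule.mk (b • x) 1 : NL) =
      (algebraMap B L b) • (LocalizedModule.mk x 1 : NL) := by
    intro b x
    rw [algebraMap_smul, LocalizedModule.smul'_mk]
  have hmap : ∀ n : ℕ, ∀ y ∈ 𝔮 ^ n • (⊤ : Submodule B N),
      (LocalizedModule.mk y 1 : NL) ∈ (maximalIdeal L) ^ n • (⊤ : Submodule L NL) := by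
    intro n y hy
    refine Submodule.smul_induction_on hy ?_ ?_
    · intro q hq x _
      rw [hsm]
      apply Submodule.smul_mem_smul _ Submodule.mem_top
      rw [← Localization.AtPrime.map_eq_maximalIdeal, ← Ideal.map_pow]
      exact Ideal.mem_map_of_mem _ hq
    · intro x y hx hy
      have : (LocalizedModule.mk (x + y) 1 : NL) = LocalizedModule.mk x 1 + LocalizedModule.mk y 1 := by
        rw [LocalizedModule.mk_add_mk]; simp
      rw [this]
      exact add_mem hx hy
  have hu : IsUnit (algebraMap B L t) := IsLocalization.map_units L ⟨t, ht⟩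
  have hmem : (LocalizedModule.mk w 1 : NL) ∈ (⨅ i : ℕ, (maximalIdeal L) ^ i • ⊤ : Submodule L NL) := by
    rw [Submodule.mem_iInf]
    intro n
    have h1 := hmap n _ (h n)
    rw [hsm, map_pow] at h1
    have h3 := Submodule.smul_mem _ ((((hu.unit⁻¹ : Lˣ) : L)) ^ n) h1
    rw [smul_smul, ← mul_pow, IsUnit.val_inv_mul, one_pow, one_smul] at h3
    exact h3
  rw [Ideal.iInf_pow_smul_eq_bot_of_isLocalRing _ hI, Submodule.mem_bot] at hmem
  rw [← LocalizedModule.zero_mk (1 : 𝔮.primeCompl), LocalizedModule.mk_eq] at hmem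
  obtain ⟨u, hu'⟩ := hmem
  refine ⟨u, u.2, ?_⟩
  have h9 : u • w = 0 := by simpa using hu'
  exact h9

end Krull

section gen
variable {R' B' M' : Type u} [CommRing R'] [CommRing B'] [Algebra R' B'] [AddCommGroup M']
  [Module B' M'] [Module R' M'] [IsScalarTower R' B' M']

theorem smul_mem_smul_top_of_tower (I : Ideal R') (b : B') {w : M'}
    (hw : w ∈ I • (⊤ : Submodule R' M')) : b • w ∈ I • (⊤ : Submodule R' M') := by
  refine Submodule.smul_induction_on hw ?_ ?_
  · intro r hr n _
    rw [smul_comm]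
    exact Submodule.smul_mem_smul hr Submodule.mem_top
  · intro x y hx hy
    rw [smul_add]
    exact add_mem hx hy

theorem exists_smul_mem_of_mk_mem (S : Submonoid B') (I : Ideal R') (z : M')
    (h : (LocalizedModule.mk z 1 : LocalizedModule S M') ∈
      I • (⊤ : Submodule R' (LocalizedModule S M'))) :
    ∃ s ∈ S, s • z ∈ I • (⊤ : Submodule R' M') := by
  have key : ∀ x ∈ I • (⊤ : Submodule R' (LocalizedModule S M')),
      ∃ w ∈ I • (⊤ : Submodule R' M'), ∃ s : S, x = LocalizedModule.mk w s := by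
    intro x hx
    refine Submodule.smul_induction_on hx ?_ ?_
    · intro r hr x _
      induction x using LocalizedModule.induction_on with
      | h n s =>
        exact ⟨r • n, Submodule.smul_mem_smul hr Submodule.mem_top, s,
          LocalizedModule.smul'_mk r n s⟩
    · rintro x y ⟨w, hw, s, rfl⟩ ⟨w', hw', s', rfl⟩
      refine ⟨(s' : B') • w + (s : B') • w', add_mem (smul_mem_smul_top_of_tower I _ hw)
        (smul_mem_smul_top_of_tower I _ hw'), s * s', ?_⟩
      rw [LocalizedModule.mk_add_mk]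
      rfl
  obtain ⟨w, hw, s, hs⟩ := key _ h
  rw [LocalizedModule.mk_eq] at hs
  obtain ⟨u, hu⟩ := hs
  refine ⟨u * s, Submonoid.mul_mem _ u.2 s.2, ?_⟩
  have h1 : ((u : B') * (s : B')) • z = (u : B') • w := by
    rw [mul_smul]
    have := hu
    simpa [Submonoid.smul_def] using this
  rw [h1]
  exact smul_mem_smul_top_of_tower I _ hw

theorem tmul_one_eq_zero_of_mem [IsLocalRing R'] {w : M'}
    (hw : w ∈ maximalIdeal R' • (⊤ : Submodule R' M')) :
    w ⊗ₜ[R'] (1 : ResidueField R') = 0 := by
  refine Submodule.smul_induction_on hw ?_ ?_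
  · intro r hr n _
    rw [TensorProduct.smul_tmul]
    have : r • (1 : ResidueField R') = 0 := by
      rw [Algebra.smul_def, mul_one]
      exact (residue_eq_zero_iff r).mpr hr
    rw [this, tmul_zero]
  · intro x y hx hy
    rw [add_tmul, hx, hy, add_zero]

theorem pow_smul_mem_pow_smul_top {Z' : Type*} [AddCommGroup Z'] [Module B' Z']
    (𝔔 : Ideal B') (a i₁ : B') (hi₁ : i₁ ∈ 𝔔) (ζ : Z') (h : a • ζ = -(i₁ • ζ)) (n : ℕ) :
    a ^ n • ζ ∈ 𝔔 ^ n • (⊤ : Submodule B' Z') := by
  induction n with
  | zero => simp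
  | succ n ih =>
    have h1 : a ^ (n + 1) • ζ = -(i₁ • (a ^ n • ζ)) := by
      rw [pow_succ, mul_smul, h, smul_neg, smul_comm]
    rw [h1, pow_succ', Submodule.mul_smul]
    exact neg_mem (Submodule.smul_mem_smul hi₁ ih)

end gen

section LM
variable {R B : Type u} [CommRing R] [CommRing B] [Algebra R B] (S : Submonoid B)
  {M : Type u} [AddCommGroup M] [Module B M] [Module R M] [IsScalarTower R B M]

theorem exists_common_denom {σ : Type*} [Fintype σ] (p : σ → LocalizedModule S M) :
    ∃ t ∈ S, ∃ m : σ → M, ∀ i, t • p i = LocalizedModule.mk (m i) 1 := by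
  classical
  have h1 : ∀ i, ∃ (m₀ : M) (s : S), p i = LocalizedModule.mk m₀ s := by
    intro i
    induction p i using LocalizedModule.induction_on with
    | h m s => exact ⟨m, s, rfl⟩
  choose m₀ s hp using h1
  refine ⟨∏ i, (s i : B), Submonoid.prod_mem _ (fun i _ => (s i).2),
    fun i => (∏ j ∈ Finset.univ.erase i, (s j : B)) • m₀ i, fun i => ?_⟩
  rw [hp i, LocalizedModule.smul'_mk, ← Finset.mul_prod_erase Finset.univ (fun j => (s j : B))
    (Finset.mem_univ i), mul_smul]
  exact LocalizedModule.mk_cancel (s i) _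

theorem mk_mem_smul_top (I : Ideal R) {x : M} (hx : x ∈ I • (⊤ : Submodule R M)) :
    (LocalizedModule.mk x 1 : LocalizedModule S M) ∈
      I • (⊤ : Submodule R (LocalizedModule S M)) := by
  refine Submodule.smul_induction_on hx ?_ ?_
  · intro r hr n _
    rw [← LocalizedModule.smul'_mk]
    exact Submodule.smul_mem_smul hr Submodule.mem_top
  · intro x y hx hy
    have : (LocalizedModule.mk (x + y) 1 : LocalizedModule S M) =
        LocalizedModule.mk x 1 + LocalizedModule.mk y 1 := by
      rw [LocalizedModule.mk_add_mk]; simp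
    rw [this]
    exact add_mem hx hy

theorem mem_smul_top_of_smul_mem (I : Ideal R) (u : B) (hu : u ∈ S) {p : LocalizedModule S M}
    (h : u • p ∈ I • (⊤ : Submodule R (LocalizedModule S M))) :
    p ∈ I • (⊤ : Submodule R (LocalizedModule S M)) := by
  have h1 := IsLocalizedModule.map_units (LocalizedModule.mkLinearMap S M) ⟨u, hu⟩
  obtain ⟨ν, hν⟩ := h1
  have h2 : ∀ x : LocalizedModule S M, (ν⁻¹ : (Module.End B (LocalizedModule S M))ˣ).1 (u • x) = x := by
    intro x
    have : (ν : Module.End B (LocalizedModule S M)) x = u • x := by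
      rw [hν]; rfl
    rw [← this]
    change ((ν⁻¹ : (Module.End B (LocalizedModule S M))ˣ).1 * ν.1) x = x
    rw [Units.inv_mul]; rfl
  have h3 : ∀ x ∈ I • (⊤ : Submodule R (LocalizedModule S M)),
      (ν⁻¹ : (Module.End B (LocalizedModule S M))ˣ).1 x ∈ I • (⊤ : Submodule R (LocalizedModule S M)) := by
    intro x hx
    refine Submodule.smul_induction_on hx ?_ ?_
    · intro r hr y _
      rw [LinearMap.map_smul_of_tower]
      exact Submodule.smul_mem_smul hr Submodule.mem_top
    · intro x y hx hy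
      rw [map_add]
      exact add_mem hx hy
  have := h3 _ h
  rwa [h2] at this

end LM

section Compare
open Groth.Agent.Lib.Seat30.FlatAt

variable {R B B' R' : Type u} [CommRing R] [CommRing R'] [CommRing B] [CommRing B']
  [Algebra R R'] [Algebra R B] [Algebra B B'] [Algebra R' B'] [Algebra R B']
  [IsScalarTower R B B'] [IsScalarTower R R' B'] [Algebra.IsPushout R B R' B']
  {M M' : Type u} [AddCommGroup M] [Module B M] [Module R M] [IsScalarTower R B M]
  [AddCommGroup M'] [Module B' M'] [Module R' M'] [IsScalarTower R' B' M']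
  [Module B M'] [IsScalarTower B B' M'] [Module R M'] [IsScalarTower R R' M'] [IsScalarTower R B M']
  (f : M →ₗ[B] M') (hf : IsBaseChange B' f)
  (N : Type u) [AddCommGroup N] [Module R' N] [Module R N] [IsScalarTower R R' N]

theorem cmp_symm_smul (q : B) (w : M' ⊗[R'] N) :
    (cmp (R := R) R' f hf N).symm (algebraMap B B' q • w) = q • (cmp (R := R) R' f hf N).symm w := by
  apply (cmp (R := R) R' f hf N).injective
  rw [LinearEquiv.apply_symm_apply, cmp_smul, LinearEquiv.apply_symm_apply]

theorem cmp_symm_mem (𝔞 : Ideal B) (x : M' ⊗[R'] N)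
    (hx : x ∈ (𝔞.map (algebraMap B B')) • (⊤ : Submodule B' (M' ⊗[R'] N))) :
    (cmp (R := R) R' f hf N).symm x ∈ 𝔞 • (⊤ : Submodule B (M ⊗[R] N)) := by
  refine Submodule.smul_induction_on hx ?_ ?_
  · intro a' ha' w _
    have key : ∀ a' ∈ 𝔞.map (algebraMap B B'), ∀ w : M' ⊗[R'] N,
        (cmp (R := R) R' f hf N).symm (a' • w) ∈ 𝔞 • (⊤ : Submodule B (M ⊗[R] N)) := by
      intro a' ha'
      refine Submodule.span_induction ?_ ?_ ?_ ?_ ha'
      · rintro _ ⟨q, hq, rfl⟩ w
        rw [cmp_symm_smul]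
        exact Submodule.smul_mem_smul hq Submodule.mem_top
      · intro w; simp
      · intro x y _ _ hx hy w
        rw [add_smul, map_add]
        exact add_mem (hx w) (hy w)
      · intro b x _ hx w
        rw [smul_eq_mul, mul_comm, mul_smul]
        exact hx _
    exact key a' ha' w
  · intro x y hx hy
    rw [map_add]
    exact add_mem hx hy

end Compare

section Theta

variable {R B B' R' : Type u} [CommRing R] [CommRing R'] [IsLocalRing R'] [CommRing B] [CommRing B']
  [Algebra R R'] [Algebra R B] [Algebra B B'] [Algebra R' B'] [Algebra R B']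
  [IsScalarTower R B B'] [IsScalarTower R R' B']
  {M M' : Type u} [AddCommGroup M] [Module B M] [Module R M] [IsScalarTower R B M]
  [AddCommGroup M'] [Module B' M'] [Module R' M'] [IsScalarTower R' B' M']
  [Module B M'] [IsScalarTower B B' M'] [Module R M'] [IsScalarTower R R' M'] [IsScalarTower R B M']
  (f : M →ₗ[B] M') (𝔮 : Ideal B) [𝔮.IsPrime]

theorem isUnit_algebraMap_end (s : 𝔮.primeCompl) :
    IsUnit (algebraMap B (Module.End B (LocalizedModule (TT R' B' 𝔮) M')) s) := by
  have h1 := IsLocalizedModule.map_units (LocalizedModule.mkLinearMap (TT R' B' 𝔮) M')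
    ⟨algebraMap B B' s, algebraMap_mem_TT (R' := R') 𝔮 s.2⟩
  rw [Module.End.isUnit_iff] at h1 ⊢
  convert h1 using 1
  ext x
  simp only [Module.algebraMap_end_apply]
  rw [algebraMap_smul]

/-- The comparison map `M_𝔮 → M'_{TT}`. -/
noncomputable def theta : LocalizedModule 𝔮.primeCompl M →ₗ[B] LocalizedModule (TT R' B' 𝔮) M' :=
  IsLocalizedModule.lift 𝔮.primeCompl (LocalizedModule.mkLinearMap 𝔮.primeCompl M)
    (((LocalizedModule.mkLinearMap (TT R' B' 𝔮) M').restrictScalars B).comp f)
    (isUnit_algebraMap_end (R' := R') (M' := M') 𝔮)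

theorem theta_mk (m : M) :
    theta (R' := R') f 𝔮 (LocalizedModule.mk m 1) =
      (LocalizedModule.mk (f m) 1 : LocalizedModule (TT R' B' 𝔮) M') := by
  have := IsLocalizedModule.lift_apply 𝔮.primeCompl (LocalizedModule.mkLinearMap 𝔮.primeCompl M)
    (((LocalizedModule.mkLinearMap (TT R' B' 𝔮) M').restrictScalars B).comp f)
    (isUnit_algebraMap_end (R' := R') (M' := M') 𝔮) m
  simpa [theta, LocalizedModule.mkLinearMap_apply] using this

end Theta

section Main
open Groth.Agent.Lib.Seat30.FlatAt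

variable {R B B' R' : Type u} [CommRing R] [IsLocalRing R] [CommRing R'] [IsLocalRing R']
  [CommRing B] [CommRing B']
  [Algebra R R'] [IsLocalHom (algebraMap R R')] [Algebra R B] [Algebra B B'] [Algebra R' B']
  [Algebra R B'] [IsScalarTower R B B'] [IsScalarTower R R' B'] [Algebra.IsPushout R B R' B']
  {M M' : Type u} [AddCommGroup M] [Module B M] [Module R M] [IsScalarTower R B M]
  [AddCommGroup M'] [Module B' M'] [Module R' M'] [IsScalarTower R' B' M']
  [Module B M'] [IsScalarTower B B' M'] [Module R M'] [IsScalarTower R R' M'] [IsScalarTower R B M']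
  (f : M →ₗ[B] M') (hf : IsBaseChange B' f)
  [IsNoetherianRing B] [Module.Finite B M] (𝔮 : Ideal B) [𝔮.IsPrime]

theorem map_mem_smul_top {Z W : Type*} [AddCommGroup Z] [Module B Z] [AddCommGroup W] [Module B W]
    (φ : Z →ₗ[B] W) (I : Ideal B) {x : Z} (hx : x ∈ I • (⊤ : Submodule B Z)) :
    φ x ∈ I • (⊤ : Submodule B W) := by
  have := Submodule.mem_map_of_mem (f := φ) hx
  rw [Submodule.map_smul''] at this
  exact Submodule.smul_mono le_rfl le_top this

theorem finite_tensor_residueField :
    Module.Finite B (M ⊗[R] ResidueField R) := by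
  let g : M →ₗ[B] M ⊗[R] ResidueField R :=
    { toFun := fun m => m ⊗ₜ[R] (1 : ResidueField R)
      map_add' := fun x y => add_tmul x y 1
      map_smul' := fun b m => (smul_tmul' b m (1 : ResidueField R)).symm }
  refine Module.Finite.of_surjective g ?_
  intro x
  induction x with
  | zero => exact ⟨0, map_zero g⟩
  | add x y hx hy =>
    obtain ⟨a, rfl⟩ := hx
    obtain ⟨b, rfl⟩ := hy
    exact ⟨a + b, map_add g a b⟩
  | tmul m cc =>
    obtain ⟨r, rfl⟩ := residue_surjective cc
    refine ⟨r • m, ?_⟩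
    change (r • m) ⊗ₜ[R] (1 : ResidueField R) = m ⊗ₜ[R] residue R r
    rw [smul_tmul, Algebra.smul_def, mul_one]
    rfl

include hf in
/-- Residue independence. -/
theorem mem_maximalIdeal_of_sum_smul_theta_mem {σ : Type*} [Fintype σ]
    (p : σ → LocalizedModule 𝔮.primeCompl M) (c : σ → R')
    (hind : ∀ a : σ → R, ∑ i, a i • p i ∈
      maximalIdeal R • (⊤ : Submodule R (LocalizedModule 𝔮.primeCompl M)) →
        ∀ i, a i ∈ maximalIdeal R)
    (hc : ∑ i, c i • theta (R' := R') f 𝔮 (p i) ∈
      maximalIdeal R' • (⊤ : Submodule R' (LocalizedModule (TT R' B' 𝔮) M'))) :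
    ∀ i, c i ∈ maximalIdeal R' := by
  classical
  obtain ⟨t₀, ht₀, m, hm⟩ := exists_common_denom 𝔮.primeCompl p
  -- step 3
  set z : M' := ∑ i, c i • f (m i) with hzdef
  have hz : (LocalizedModule.mk z 1 : LocalizedModule (TT R' B' 𝔮) M') ∈
      maximalIdeal R' • (⊤ : Submodule R' (LocalizedModule (TT R' B' 𝔮) M')) := by
    have h0 : (LocalizedModule.mk z 1 : LocalizedModule (TT R' B' 𝔮) M') =
        ∑ i, c i • (LocalizedModule.mk (f (m i)) 1 : LocalizedModule (TT R' B' 𝔮) M') := by
      have := map_sum (LocalizedModule.mkLinearMap (TT R' B' 𝔮) M') (fun i => c i • f (m i))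
        Finset.univ
      simp only [LocalizedModule.mkLinearMap_apply] at this
      rw [hzdef, this]
      refine Finset.sum_congr rfl fun i _ => ?_
      rw [LocalizedModule.smul'_mk]
    have h1 : (LocalizedModule.mk z 1 : LocalizedModule (TT R' B' 𝔮) M') =
        algebraMap B B' t₀ • ∑ i, c i • theta (R' := R') f 𝔮 (p i) := by
      rw [h0, Finset.smul_sum]
      refine Finset.sum_congr rfl fun i _ => ?_
      rw [smul_comm, ← theta_mk, ← hm i, map_smul, algebraMap_smul]
    rw [h1]
    exact smul_mem_smul_top_of_tower _ _ hc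
  obtain ⟨s, hs, hsz⟩ := exists_smul_mem_of_mk_mem (TT R' B' 𝔮) (maximalIdeal R') z hz
  -- step 4
  set ζ' : M' ⊗[R'] ResidueField R' := ∑ i, f (m i) ⊗ₜ[R'] residue R' (c i) with hζ'def
  have hζ'z : ζ' = z ⊗ₜ[R'] (1 : ResidueField R') := by
    rw [hζ'def, hzdef, sum_tmul]
    refine Finset.sum_congr rfl fun i _ => ?_
    rw [smul_tmul, Algebra.smul_def, mul_one]
    rfl
  have hsζ : s • ζ' = 0 := by
    rw [hζ'z, smul_tmul', tmul_one_eq_zero_of_mem hsz]
  -- step 5
  obtain ⟨t, ht, i, hi, hsi⟩ := hs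
  obtain ⟨i₁, hi₁, i₂, hi₂, rfl⟩ := Submodule.mem_sup.mp hi
  have hkill : ∀ b ∈ (maximalIdeal R').map (algebraMap R' B'),
      ∀ x : M' ⊗[R'] ResidueField R', b • x = 0 := by
    intro b hb
    refine Submodule.span_induction ?_ ?_ ?_ ?_ hb
    · rintro _ ⟨r, hr, rfl⟩ x
      induction x with
      | zero => simp
      | add x y hx hy => rw [smul_add, hx, hy, add_zero]
      | tmul m' cc =>
        rw [smul_tmul', algebraMap_smul, smul_tmul]
        have : r • cc = 0 := by
          rw [Algebra.smul_def]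
          have : algebraMap R' (ResidueField R') r = 0 := (residue_eq_zero_iff r).mpr hr
          rw [this, zero_mul]
        rw [this, tmul_zero]
    · intro x; simp
    · intro x y _ _ hx hy w
      rw [add_smul, hx, hy, add_zero]
    · intro b x _ hx w
      rw [smul_eq_mul, mul_smul, hx, smul_zero]
  have hrel : algebraMap B B' t • ζ' = -(i₁ • ζ') := by
    rw [hsi, add_smul, add_smul, hkill i₂ hi₂, add_zero] at hsζ
    exact eq_neg_of_add_eq_zero_left hsζ
  -- step 6
  have hpow : ∀ n : ℕ, (algebraMap B B' t) ^ n • ζ' ∈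
      (𝔮.map (algebraMap B B')) ^ n • (⊤ : Submodule B' (M' ⊗[R'] ResidueField R')) :=
    pow_smul_mem_pow_smul_top _ _ _ hi₁ _ hrel
  set ζ : M ⊗[R] ResidueField R' := ∑ i, m i ⊗ₜ[R] residue R' (c i) with hζdef
  have hcmp : cmp (R := R) R' f hf (ResidueField R') ζ = ζ' := by
    rw [hζdef, hζ'def, map_sum]
    refine Finset.sum_congr rfl fun i _ => ?_
    rw [cmp_tmul]
  have hpowB : ∀ n : ℕ, t ^ n • ζ ∈ 𝔮 ^ n • (⊤ : Submodule B (M ⊗[R] ResidueField R')) := by
    intro n
    have h1 := cmp_symm_mem (R := R) f hf (ResidueField R') (𝔮 ^ n) ((algebraMap B B' t) ^ n • ζ')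
      (by rw [Ideal.map_pow]; exact hpow n)
    rwa [← map_pow, cmp_symm_smul (R := R), ← hcmp, LinearEquiv.symm_apply_apply] at h1
  -- step 7-9: coordinates
  let 𝓫 := Module.Free.chooseBasis (ResidueField R) (ResidueField R')
  have hcoord : ∀ (α : Module.Free.ChooseBasisIndex (ResidueField R) (ResidueField R')) (i : σ),
      𝓫.coord α (residue R' (c i)) = 0 := by
    intro α
    let ℓ : ResidueField R' →ₗ[R] ResidueField R := (𝓫.coord α).restrictScalars R
    let φ : M ⊗[R] ResidueField R' →ₗ[B] M ⊗[R] ResidueField R :=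
      AlgebraTensorModule.lTensor B M ℓ
    have hφ : ∀ n : ℕ, t ^ n • φ ζ ∈ 𝔮 ^ n • (⊤ : Submodule B (M ⊗[R] ResidueField R)) := by
      intro n
      rw [← map_smul]
      exact map_mem_smul_top φ _ (hpowB n)
    have : Module.Finite B (M ⊗[R] ResidueField R) := finite_tensor_residueField
    obtain ⟨t', ht', ht'0⟩ := exists_smul_eq_zero_of_forall_pow_smul_mem 𝔮 t ht (φ ζ) hφ
    choose r hr using fun i => residue_surjective (ℓ (residue R' (c i)))
    have hφζ : φ ζ = (∑ i, r i • m i) ⊗ₜ[R] (1 : ResidueField R) := by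
      rw [hζdef, map_sum, sum_tmul]
      refine Finset.sum_congr rfl fun i _ => ?_
      rw [AlgebraTensorModule.lTensor_tmul, ← hr i, smul_tmul, Algebra.smul_def, mul_one]
      rfl
    have hmem : t' • ∑ i, r i • m i ∈ maximalIdeal R • (⊤ : Submodule R M) := by
      have h1 : (t' • ∑ i, r i • m i) ⊗ₜ[R] (1 : ResidueField R) = 0 := by
        rw [← smul_tmul', ← hφζ, ht'0]
      have h2 : (tensorQuotEquivQuotSMul M (maximalIdeal R))
          ((t' • ∑ i, r i • m i) ⊗ₜ[R] (Ideal.Quotient.mk (maximalIdeal R) 1)) = 0 := by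
        rw [show ((t' • ∑ i, r i • m i) ⊗ₜ[R] (Ideal.Quotient.mk (maximalIdeal R) 1)) = 0 from h1,
          map_zero]
      rw [tensorQuotEquivQuotSMul_tmul_mk, one_smul] at h2
      exact (Submodule.Quotient.mk_eq_zero _).mp h2
    have h9 : (t' * t₀) • ∑ i, r i • p i ∈
        maximalIdeal R • (⊤ : Submodule R (LocalizedModule 𝔮.primeCompl M)) := by
      have e : (t' * t₀) • ∑ i, r i • p i =
          (LocalizedModule.mk (t' • ∑ i, r i • m i) 1 : LocalizedModule 𝔮.primeCompl M) := by
        rw [mul_smul, Finset.smul_sum (r := t₀)]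
        have : ∀ i, t₀ • r i • p i = r i • (LocalizedModule.mk (m i) 1 :
            LocalizedModule 𝔮.primeCompl M) := by
          intro i
          rw [smul_comm, hm i]
        simp_rw [this]
        rw [← LocalizedModule.smul'_mk]
        congr 1
        have := map_sum (LocalizedModule.mkLinearMap 𝔮.primeCompl M) (fun i => r i • m i)
          Finset.univ
        simp only [LocalizedModule.mkLinearMap_apply] at this
        rw [this]
        refine Finset.sum_congr rfl fun i _ => ?_
        rw [LocalizedModule.smul'_mk]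
      rw [e]
      exact mk_mem_smul_top 𝔮.primeCompl _ hmem
    have h10 := mem_smul_top_of_smul_mem 𝔮.primeCompl (maximalIdeal R) (t' * t₀)
      (Submonoid.mul_mem _ ht' ht₀) h9
    intro i
    have h11 := hind r h10 i
    have h12 : ℓ (residue R' (c i)) = 0 := by
      rw [← hr i]
      exact (residue_eq_zero_iff _).mpr h11
    exact h12
  intro i
  have h13 : residue R' (c i) = 0 := by
    apply 𝓫.ext_elem
    intro α
    rw [map_zero, Finsupp.zero_apply]
    exact hcoord α i
  exact (residue_eq_zero_iff _).mp h13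

end Main

end Groth.Agent.Lib.Seat52.PtDesc
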