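import Mathlib
import Groth.Agent.Lib.Seat35FlatIdealE

/-!
# Pointwise descent of flatness, part C (helper52): abstract descent

`R → R'` a local homomorphism of local rings, `J' ≤ 𝔪'` an ideal of `R'`, `J` its contraction,
`𝔪ⁿ ≤ J`.  `P` an `R`-module, `X` a flat `R'`-module, `θ : P → X` additive and semilinear.  If `θ`
carries families independent mod `𝔪` to families independent mod `𝔪'` (elementwise form `E`), then
`P/JP` is flat (free) over `R/J`.  Generalises `Seat35.FlatIdeal.free_of_flat_baseChange_of_injective`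
(which is the case `X = R' ⊗ P`).
-/

set_option autoImplicit false
set_option linter.unusedSectionVars false
set_option linter.style.haveILetI false
universe u

namespace Groth.Agent.Lib.Seat52.PtDesc

open TensorProduct IsLocalRing

section Abstract

variable {R R' : Type u} [CommRing R] [IsLocalRing R] [CommRing R'] [IsLocalRing R']
  [Algebra R R'] [IsLocalHom (algebraMap R R')]
  (J' : Ideal R')
  {P X : Type u} [AddCommGroup P] [Module R P] [AddCommGroup X] [Module R' X]
  (θ : P →+ X)

/-- Independence modulo the maximal ideal, elementwise. -/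
def IndepMod {σ : Type u} [Fintype σ] (p : σ → P) : Prop :=
  ∀ a : σ → R, ∑ i, a i • p i ∈ maximalIdeal R • (⊤ : Submodule R P) → ∀ i, a i ∈ maximalIdeal R

/-- The hypothesis `E`. -/
def PreservesIndep : Prop :=
  ∀ (σ : Type u) [Fintype σ] (p : σ → P) (c : σ → R'), IndepMod (R := R) p →
    ∑ i, c i • θ (p i) ∈ maximalIdeal R' • (⊤ : Submodule R' X) → ∀ i, c i ∈ maximalIdeal R'

theorem mk_mem_maximalIdeal_iff {S : Type u} [CommRing S] [IsLocalRing S] (I : Ideal S)
    (hI : I ≤ maximalIdeal S) [IsLocalRing (S ⧸ I)] (c : S) :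
    Ideal.Quotient.mk I c ∈ maximalIdeal (S ⧸ I) ↔ c ∈ maximalIdeal S := by
  constructor
  · intro h
    by_contra hc
    have hu : IsUnit c := by
      by_contra hnu
      exact hc ((mem_maximalIdeal c).mpr hnu)
    exact (mem_maximalIdeal _).mp h (hu.map _)
  · intro h
    rw [mem_maximalIdeal, mem_nonunits_iff]
    intro hu
    obtain ⟨d, hd⟩ := hu.exists_right_inv
    obtain ⟨d, rfl⟩ := Ideal.Quotient.mk_surjective d
    rw [← map_mul, ← map_one (Ideal.Quotient.mk I), Ideal.Quotient.eq] at hd
    have h1 : c * d - 1 ∈ maximalIdeal S := hI hd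
    have h2 : c * d ∈ maximalIdeal S := Ideal.mul_mem_right _ _ h
    have h3 : (1 : S) ∈ maximalIdeal S := by
      have := Ideal.sub_mem _ h2 h1
      simpa using this
    exact (Ideal.ne_top_iff_one _).mp (Ideal.IsPrime.ne_top') h3

variable [Module.Flat R' X]

include J' in
/-- Step A: independence modulo `J'`. -/
theorem mem_of_sum_smul_mem (hJ' : J' ≤ maximalIdeal R') (E : PreservesIndep (R := R) (R' := R') θ)
    (σ : Type u) [Fintype σ] (p : σ → P) (c : σ → R') (hp : IndepMod (R := R) p)
    (hc : ∑ i, c i • θ (p i) ∈ J' • (⊤ : Submodule R' X)) : ∀ i, c i ∈ J' := by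
  classical
  have hne : J' ≠ ⊤ := fun h => Ideal.IsPrime.ne_top' (top_le_iff.mp (h ▸ hJ'))
  haveI : Nontrivial (R' ⧸ J') := Ideal.Quotient.nontrivial_iff.mpr hne
  haveI : IsLocalRing (R' ⧸ J') :=
    IsLocalRing.of_surjective' (Ideal.Quotient.mk J') Ideal.Quotient.mk_surjective
  let A' := R' ⧸ J'
  let Xb := A' ⊗[R'] X
  let v : σ → Xb := fun i => (1 : A') ⊗ₜ[R'] θ (p i)
  -- the projection to `X/𝔪'X`
  let π : Xb →ₗ[R'] X ⧸ (maximalIdeal R' • (⊤ : Submodule R' X)) :=
    (Submodule.mapQ (J' • (⊤ : Submodule R' X)) (maximalIdeal R' • (⊤ : Submodule R' X))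
      LinearMap.id (by
        rw [Submodule.comap_id]
        exact Submodule.smul_mono hJ' le_rfl)).comp
      (quotTensorEquivQuotSMul X J').toLinearMap
  have hπ1 : ∀ x : X, π ((1 : A') ⊗ₜ[R'] x) = Submodule.Quotient.mk x := by
    intro x
    simp only [π, LinearMap.comp_apply, LinearEquiv.coe_coe]
    rw [← map_one (Ideal.Quotient.mk J'), quotTensorEquivQuotSMul_mk_tmul, one_smul]
    rfl
  have hkillQ : ∀ a ∈ maximalIdeal R', ∀ y : X ⧸ (maximalIdeal R' • (⊤ : Submodule R' X)),
      a • y = 0 := by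
    intro a ha y
    obtain ⟨x, rfl⟩ := Submodule.Quotient.mk_surjective _ y
    rw [← Submodule.Quotient.mk_smul, Submodule.Quotient.mk_eq_zero]
    exact Submodule.smul_mem_smul ha Submodule.mem_top
  have hπ : ∀ w ∈ maximalIdeal A' • (⊤ : Submodule A' Xb), π w = 0 := by
    intro w hw
    refine Submodule.smul_induction_on hw ?_ ?_
    · intro ab hab w _
      obtain ⟨a, rfl⟩ := Ideal.Quotient.mk_surjective ab
      have ha : a ∈ maximalIdeal R' := (mk_mem_maximalIdeal_iff J' hJ' a).mp hab
      have h1 : (Ideal.Quotient.mk J' a) • w = a • w := by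
        rw [← Ideal.Quotient.algebraMap_eq, algebraMap_smul]
      rw [h1, map_smul]
      exact hkillQ a ha _
    · intro x y hx hy
      rw [map_add, hx, hy, add_zero]
  have hli : LinearIndependent A' v := by
    apply Module.IsLocalRing.linearIndependent_of_flat
    rw [Fintype.linearIndependent_iff]
    intro g hg
    choose ab hab using fun i => residue_surjective (g i)
    choose c' hc' using fun i => Ideal.Quotient.mk_surjective (ab i)
    have h1 : ∑ i, g i • (TensorProduct.mk A' (ResidueField A') Xb 1 ∘ v) i =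
        TensorProduct.mk A' (ResidueField A') Xb 1 (∑ i, ab i • v i) := by
      rw [map_sum]
      refine Finset.sum_congr rfl fun i _ => ?_
      simp only [Function.comp_apply, TensorProduct.mk_apply]
      rw [TensorProduct.smul_tmul', TensorProduct.tmul_smul, TensorProduct.smul_tmul',
        smul_eq_mul, mul_one, ← hab i]
      rw [← IsLocalRing.ResidueField.algebraMap_eq, Algebra.algebraMap_eq_smul_one]
    rw [h1] at hg
    have h2 : ∑ i, ab i • v i ∈ maximalIdeal A' • (⊤ : Submodule A' Xb) := by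
      rw [← LinearMap.ker_tensorProductMk]
      exact hg
    have h3 := hπ _ h2
    have h4 : π (∑ i, ab i • v i) =
        Submodule.Quotient.mk (∑ i, c' i • θ (p i)) := by
      rw [map_sum, ← Submodule.mkQ_apply, map_sum]
      refine Finset.sum_congr rfl fun i _ => ?_
      rw [Submodule.mkQ_apply]
      have h5 : ab i • v i = c' i • v i := by
        rw [← hc' i, ← Ideal.Quotient.algebraMap_eq, algebraMap_smul]
      rw [h5, map_smul, hπ1, Submodule.Quotient.mk_smul]
    rw [h4, Submodule.Quotient.mk_eq_zero] at h3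
    intro i
    have h6 := E σ p c' hp h3 i
    rw [← hab i, ← hc' i]
    exact (residue_eq_zero_iff _).mpr ((mk_mem_maximalIdeal_iff J' hJ' _).mpr h6)
  rw [Fintype.linearIndependent_iff] at hli
  have hsum : ∑ i, (Ideal.Quotient.mk J' (c i)) • v i = 0 := by
    have h1 : ∑ i, (Ideal.Quotient.mk J' (c i)) • v i =
        (1 : A') ⊗ₜ[R'] (∑ i, c i • θ (p i)) := by
      rw [TensorProduct.tmul_sum]
      refine Finset.sum_congr rfl fun i _ => ?_
      rw [← Ideal.Quotient.algebraMap_eq, algebraMap_smul, TensorProduct.tmul_smul]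
    rw [h1]
    apply (quotTensorEquivQuotSMul X J').injective
    rw [map_zero, ← map_one (Ideal.Quotient.mk J'), quotTensorEquivQuotSMul_mk_tmul, one_smul]
    exact (Submodule.Quotient.mk_eq_zero _).mpr hc
  intro i
  have := hli _ hsum i
  exact Ideal.Quotient.eq_zero_iff_mem.mp this

omit [Module.Flat R' X] in
theorem map_mem_smul_top_of_semilinear
    (hθ : ∀ (a : R) (p : P), θ (a • p) = algebraMap R R' a • θ p) {x : P}
    (hx : x ∈ (J'.comap (algebraMap R R')) • (⊤ : Submodule R P)) :
    θ x ∈ J' • (⊤ : Submodule R' X) := by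
  refine Submodule.smul_induction_on hx ?_ ?_
  · intro a ha q _
    rw [hθ]
    exact Submodule.smul_mem_smul ha Submodule.mem_top
  · intro x y hx hy
    rw [map_add]
    exact add_mem hx hy

include J' in
/-- Abstract pointwise descent: `P/JP` is flat over `R/J`. -/
theorem flat_quotient_of_preservesIndep (hJ' : J' ≤ maximalIdeal R') (n : ℕ)
    (hn : maximalIdeal R ^ n ≤ J'.comap (algebraMap R R'))
    (hθ : ∀ (a : R) (p : P), θ (a • p) = algebraMap R R' a • θ p)
    (E : PreservesIndep (R := R) (R' := R') θ) :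
    Module.Flat (R ⧸ J'.comap (algebraMap R R'))
      ((R ⧸ J'.comap (algebraMap R R')) ⊗[R] P) := by
  classical
  set J := J'.comap (algebraMap R R') with hJdef
  have hJ : J ≤ maximalIdeal R := by
    intro a ha
    have h1 : algebraMap R R' a ∈ maximalIdeal R' := hJ' ha
    rw [mem_maximalIdeal, mem_nonunits_iff] at h1 ⊢
    exact fun hu => h1 (hu.map _)
  have hne : J ≠ ⊤ := fun h => Ideal.IsPrime.ne_top' (top_le_iff.mp (h ▸ hJ))
  haveI : Nontrivial (R ⧸ J) := Ideal.Quotient.nontrivial_iff.mpr hne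
  haveI : IsLocalRing (R ⧸ J) :=
    IsLocalRing.of_surjective' (Ideal.Quotient.mk J) Ideal.Quotient.mk_surjective
  let A := R ⧸ J
  let Y := A ⊗[R] P
  have hnil : IsNilpotent (maximalIdeal A) := by
    refine ⟨n, ?_⟩
    rw [Ideal.zero_eq_bot, eq_bot_iff]
    have h1 : maximalIdeal A ≤ (maximalIdeal R).map (Ideal.Quotient.mk J) := by
      intro ab hab
      obtain ⟨a, rfl⟩ := Ideal.Quotient.mk_surjective ab
      exact Ideal.mem_map_of_mem _ ((mk_mem_maximalIdeal_iff J hJ a).mp hab)
    calc maximalIdeal A ^ n ≤ ((maximalIdeal R).map (Ideal.Quotient.mk J)) ^ n :=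
          Ideal.pow_right_mono h1 n
      _ = ((maximalIdeal R) ^ n).map (Ideal.Quotient.mk J) := (Ideal.map_pow _ _ _).symm
      _ ≤ J.map (Ideal.Quotient.mk J) := Ideal.map_mono hn
      _ = ⊥ := Ideal.map_quotient_self J
  suffices Module.Free A Y from inferInstance
  let k := ResidueField A
  let ι := Module.Free.ChooseBasisIndex k (k ⊗[A] Y)
  let b : Module.Basis ι k (k ⊗[A] Y) := Module.Free.chooseBasis k (k ⊗[A] Y)
  have hsurj : Function.Surjective (TensorProduct.mk A k Y 1) :=
    TensorProduct.mk_surjective A Y k IsLocalRing.residue_surjective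
  have hsurjP : Function.Surjective (TensorProduct.mk R A P 1) :=
    TensorProduct.mk_surjective R P A Ideal.Quotient.mk_surjective
  choose y hy using fun i => hsurj (b i)
  choose p hp using fun i => hsurjP (y i)
  have hy' : ∀ i, (1 : k) ⊗ₜ[A] y i = b i := hy
  have hp' : ∀ i, (1 : A) ⊗ₜ[R] p i = y i := hp
  -- elements of `𝔪P` die in `k ⊗ Y`
  have hdie : ∀ x ∈ maximalIdeal R • (⊤ : Submodule R P),
      (1 : k) ⊗ₜ[A] ((1 : A) ⊗ₜ[R] x) = 0 := by
    intro x hx
    refine Submodule.smul_induction_on hx ?_ ?_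
    · intro r hr q _
      have h1 : (1 : A) ⊗ₜ[R] (r • q) = (Ideal.Quotient.mk J r) • ((1 : A) ⊗ₜ[R] q) := by
        rw [TensorProduct.tmul_smul, ← Ideal.Quotient.algebraMap_eq, algebraMap_smul]
      rw [h1, TensorProduct.tmul_smul, TensorProduct.smul_tmul']
      have h2 : (Ideal.Quotient.mk J r) • (1 : k) = 0 := by
        rw [Algebra.smul_def, mul_one]
        exact (residue_eq_zero_iff _).mpr ((mk_mem_maximalIdeal_iff J hJ r).mpr hr)
      rw [h2, zero_tmul]
    · intro x y hx hy
      rw [tmul_add, tmul_add, hx, hy, add_zero]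
  have hterm : ∀ (a : R) (i : ι), (1 : k) ⊗ₜ[A] ((1 : A) ⊗ₜ[R] (a • p i)) =
      residue A (Ideal.Quotient.mk J a) • b i := by
    intro a i
    have h1 : (1 : A) ⊗ₜ[R] (a • p i) = (Ideal.Quotient.mk J a) • y i := by
      rw [TensorProduct.tmul_smul, ← Ideal.Quotient.algebraMap_eq, algebraMap_smul, hp']
    rw [h1, TensorProduct.tmul_smul, TensorProduct.smul_tmul', ← hy', TensorProduct.smul_tmul']
    congr 1
  have hΨ : ∀ (s : Finset ι) (a : ι → R),
      ∑ i ∈ s, a i • p i ∈ maximalIdeal R • (⊤ : Submodule R P) →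
        ∀ i ∈ s, a i ∈ maximalIdeal R := by
    intro s a hmem i hi
    have h1 := hdie _ hmem
    rw [TensorProduct.tmul_sum, TensorProduct.tmul_sum] at h1
    simp_rw [hterm] at h1
    have h2 := linearIndependent_iff'.mp b.linearIndependent s
      (fun i => residue A (Ideal.Quotient.mk J (a i))) h1 i hi
    exact (mk_mem_maximalIdeal_iff J hJ _).mp ((residue_eq_zero_iff _).mp h2)
  -- linear independence
  have hli : LinearIndependent A y := by
    rw [linearIndependent_iff']
    intro s g hg i hi
    choose a ha using fun i => Ideal.Quotient.mk_surjective (g i)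
    have h1 : (1 : A) ⊗ₜ[R] (∑ i ∈ s, a i • p i) = 0 := by
      rw [TensorProduct.tmul_sum, ← hg]
      refine Finset.sum_congr rfl fun i _ => ?_
      rw [TensorProduct.tmul_smul, ← algebraMap_smul A (a i), Ideal.Quotient.algebraMap_eq, ha, hp']
    have h2 : ∑ i ∈ s, a i • p i ∈ J • (⊤ : Submodule R P) := by
      rw [← LinearMap.ker_tensorProductMk]
      exact h1
    have h3 := map_mem_smul_top_of_semilinear J' θ hθ h2
    rw [map_sum] at h3
    simp_rw [hθ] at h3
    have hind : IndepMod (R := R) (fun j : ↥s => p j) := by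
      intro a' hmem j
      let a'' : ι → R := fun i => if h : i ∈ s then a' ⟨i, h⟩ else 0
      have h4 : ∑ i ∈ s, a'' i • p i = ∑ j : ↥s, a' j • p j := by
        rw [← Finset.sum_coe_sort s]
        refine Finset.sum_congr rfl fun j _ => ?_
        simp only [a'', dif_pos j.2]
      have h5 := hΨ s a'' (h4 ▸ hmem) j.1 j.2
      simpa only [a'', dif_pos j.2] using h5
    have h6 := mem_of_sum_smul_mem J' θ hJ' E (↥s) (fun j => p j)
      (fun j => algebraMap R R' (a j)) hind
      (by rw [Finset.sum_coe_sort s (fun i => algebraMap R R' (a i) • θ (p i))]; exact h3) ⟨i, hi⟩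
    have h7 : a i ∈ J := h6
    rw [← ha i]
    exact Ideal.Quotient.eq_zero_iff_mem.mpr h7
  -- spanning
  have hspan : ⊤ ≤ Submodule.span A (Set.range y) := by
    rw [top_le_iff]
    apply Groth.Agent.Lib.Seat35.FlatIdeal.eq_top_of_sup_smul_top_eq_top_of_isNilpotent
      (maximalIdeal A) hnil
    rw [eq_top_iff]
    intro z _
    have hz : (1 : k) ⊗ₜ[A] z ∈ Submodule.span k (Set.range b) := by
      rw [b.span_eq]; trivial
    obtain ⟨c, hc⟩ := (Finsupp.mem_span_range_iff_exists_finsupp).mp hz
    choose a ha using fun i => IsLocalRing.residue_surjective (c i)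
    let w : Y := c.sum fun i _ => a i • y i
    have hw : (1 : k) ⊗ₜ[A] w = (1 : k) ⊗ₜ[A] z := by
      rw [← hc]
      simp only [w, Finsupp.sum, TensorProduct.tmul_sum]
      refine Finset.sum_congr rfl ?_
      intro i _
      rw [TensorProduct.tmul_smul, ← ha i]
      have h5 : (1 : k) ⊗ₜ[A] y i = b i := hy i
      rw [h5]
      rw [← IsLocalRing.ResidueField.algebraMap_eq, algebraMap_smul]
    have hzw : z - w ∈ (maximalIdeal A • ⊤ : Submodule A Y) := by
      have h6 : (1 : k) ⊗ₜ[A] (z - w) = 0 := by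
        rw [tmul_sub, hw, sub_self]
      rw [← LinearMap.ker_tensorProductMk]
      exact h6
    have hwmem : w ∈ Submodule.span A (Set.range y) := by
      apply Submodule.sum_mem
      intro i _
      exact Submodule.smul_mem _ _ (Submodule.subset_span ⟨i, rfl⟩)
    have h9 : z = w + (z - w) := by abel
    rw [h9]
    exact add_mem (Submodule.mem_sup_left hwmem) (Submodule.mem_sup_right hzw)
  exact Module.Free.of_basis (Module.Basis.mk hli hspan)

end Abstract

end Groth.Agent.Lib.Seat52.PtDesc
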