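import Mathlib
import Groth.Agent.Lib.Seat52PtDescB
import Groth.Agent.Lib.Seat52PtDescC
import Groth.Agent.Lib.Seat35FlatIdealA
import Groth.Agent.Lib.Helper5InfFlat

/-!
# Pointwise descent of flatness, part D (helper52)

* `flat_quotient_localizedModule_of_forall_flat` (EGA IV 11.4/11.5, one homomorphism): `R → R'` local
  homomorphism of local rings, `B` a Noetherian `R`-algebra, `M` a finite `B`-module, `𝔮` a prime of
  `B`, `B' = B ⊗_R R'`, `M' = M ⊗_R R'`.  If `M'_{𝔮'}` is `R'`-flat at every prime `𝔮'` of `B'` lying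
  over `𝔮` and over `𝔪_{R'}` (pointwise hypothesis!), then for every ideal `J' ≤ 𝔪_{R'}` whose
  contraction `J` contains a power of `𝔪_R`, `M_𝔮/J M_𝔮` is flat over `R/J`.
* `flat_of_iInf_eq_bot`: over an Artinian ring, flatness modulo a family of ideals with zero
  intersection gives flatness.
-/

set_option autoImplicit false
set_option linter.unusedSectionVars false
set_option linter.style.haveILetI false
universe u

namespace Groth.Agent.Lib.Seat52.PtDesc

open TensorProduct IsLocalRing

section CT

variable {R B B' R' : Type u} [CommRing R] [IsLocalRing R] [CommRing R'] [IsLocalRing R']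
  [CommRing B] [CommRing B']
  [Algebra R R'] [IsLocalHom (algebraMap R R')] [Algebra R B] [Algebra B B'] [Algebra R' B']
  [Algebra R B'] [IsScalarTower R B B'] [IsScalarTower R R' B'] [Algebra.IsPushout R B R' B']
  {M M' : Type u} [AddCommGroup M] [Module B M] [Module R M] [IsScalarTower R B M]
  [AddCommGroup M'] [Module B' M'] [Module R' M'] [IsScalarTower R' B' M']
  [Module B M'] [IsScalarTower B B' M'] [Module R M'] [IsScalarTower R R' M'] [IsScalarTower R B M']
  (f : M →ₗ[B] M') (hf : IsBaseChange B' f)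
  [IsNoetherianRing B] [Module.Finite B M] (𝔮 : Ideal B) [𝔮.IsPrime]

include hf in
theorem flat_quotient_localizedModule_of_forall_flat (J' : Ideal R') (hJ' : J' ≤ maximalIdeal R')
    (n : ℕ) (hn : maximalIdeal R ^ n ≤ J'.comap (algebraMap R R'))
    (H : ∀ (q' : Ideal B') [q'.IsPrime], q'.comap (algebraMap B B') = 𝔮 →
      q'.comap (algebraMap R' B') = maximalIdeal R' →
      Module.Flat R' (LocalizedModule q'.primeCompl M')) :
    Module.Flat (R ⧸ J'.comap (algebraMap R R'))
      ((R ⧸ J'.comap (algebraMap R R')) ⊗[R] LocalizedModule 𝔮.primeCompl M) := by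
  haveI : Module.Flat R' (LocalizedModule (TT R' B' 𝔮) M') := flat_localizedModule_TT 𝔮 H
  refine flat_quotient_of_preservesIndep J' (theta (R' := R') (B' := B') f 𝔮).toAddMonoidHom hJ' n hn ?_ ?_
  · intro a p
    change theta (R' := R') (B' := B') f 𝔮 (a • p) = algebraMap R R' a • theta (R' := R') (B' := B') f 𝔮 p
    rw [← algebraMap_smul B a p, map_smul, ← algebraMap_smul B' (algebraMap R B a),
      ← IsScalarTower.algebraMap_apply R B B', IsScalarTower.algebraMap_apply R R' B',
      algebraMap_smul]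
  · intro σ _ p c hp hc
    exact mem_maximalIdeal_of_sum_smul_theta_mem f hf 𝔮 p c hp hc

end CT

section Family

variable {R : Type u} [CommRing R] (P : Type u) [AddCommGroup P] [Module R P]

theorem flat_of_flat_quotient_bot (h : Module.Flat (R ⧸ (⊥ : Ideal R)) ((R ⧸ (⊥ : Ideal R)) ⊗[R] P)) :
    Module.Flat R P := by
  have htf := Groth.Agent.Lib.Seat35.FlatIdeal.tf_of_flat (⊥ : Ideal R) h
  rw [Module.Flat.iff_lTensor_preserves_injective_linearMap]
  intro N Q _ _ _ _ ι hι
  exact htf N Q ι (fun a ha q => by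
    rw [Ideal.mem_bot] at ha
    rw [ha, zero_smul]) hι

theorem flat_of_iInf_eq_bot [IsArtinianRing R] {ι : Type*} (J : ι → Ideal R)
    (h : ∀ i, Module.Flat (R ⧸ J i) ((R ⧸ J i) ⊗[R] P)) (hJ : ⨅ i, J i = ⊥) :
    Module.Flat R P := by
  classical
  obtain ⟨t, ht⟩ := Finset.exists_inf_le J
  have h1 : ∀ s : Finset ι, ∀ I : Ideal R, I = s.inf J →
      Module.Flat (R ⧸ I) ((R ⧸ I) ⊗[R] P) := by
    intro s
    induction s using Finset.induction_on with
    | empty =>
      intro I hI
      rw [Finset.inf_empty] at hI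
      subst hI
      haveI : Subsingleton (R ⧸ (⊤ : Ideal R)) := Ideal.Quotient.subsingleton_iff.mpr rfl
      haveI : Subsingleton ((R ⧸ (⊤ : Ideal R)) ⊗[R] P) :=
        Module.subsingleton (R ⧸ (⊤ : Ideal R)) _
      infer_instance
    | insert a s ha ih =>
      intro I hI
      rw [Finset.inf_insert] at hI
      subst hI
      exact Groth.Agent.Lib.Helper5.flat_quotient_inf_of_flat_quotient P _ _ (h a) (ih _ rfl)
  have h2 : t.inf J = ⊥ := le_bot_iff.mp (le_trans (le_iInf ht) hJ.le)
  exact flat_of_flat_quotient_bot P (h1 t ⊥ h2.symm)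

end Family

end Groth.Agent.Lib.Seat52.PtDesc
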