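import Mathlib
import Groth.Agent.Lib.Helper2FlatOver
import Groth.Agent.Lib.Helper2PullbackSec3

/-!
# Pointwise descent of flatness, part E (helper52): geometric translations

* `isFlatOverAt_iff_flat_localizedModule`: for `f : X ⟶ S`, `F` quasi-coherent, `U ≤ f⁻¹V` affine
  opens and `x ∈ U`, `F` is `f`-flat at `x` iff the localization of `Γ(F,U)` at the prime of `x` is
  flat over `Γ(S,V)`.
* `isLocalHom_of_isArtinianRing`: a ring homomorphism from an Artinian local ring to a local ring is
  local.
-/

set_option autoImplicit false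
set_option linter.unusedSectionVars false
set_option linter.style.haveILetI false
universe u

open CategoryTheory Limits AlgebraicGeometry TopologicalSpace Opposite TensorProduct

namespace Groth.Agent.Lib.Seat52.PtDesc

open Groth.Agent.Lib.Helper2.FlatOver

section Geom
variable {X S : Scheme.{u}}

/-- Flatness at a point in terms of the localization of the module of sections. -/
theorem isFlatOverAt_iff_flat_localizedModule (f : X ⟶ S) (F : X.Modules) [F.IsQuasicoherent]
    {U : X.Opens} (hU : IsAffineOpen U) {V : S.Opens} (hV : IsAffineOpen V) (e : U ≤ f ⁻¹ᵁ V)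
    (x : X) (hx : x ∈ U) :
    letI : Algebra Γ(S, V) Γ(X, U) := (f.appLE V U e).hom.toAlgebra
    letI : Module Γ(S, V) Γ(F, U) := Module.compHom Γ(F, U) (f.appLE V U e).hom
    haveI : IsScalarTower Γ(S, V) Γ(X, U) Γ(F, U) :=
      ⟨fun a b m => mul_smul ((f.appLE V U e).hom a) b m⟩
    FlatMod.IsFlatOverAt f F x ↔
      Module.Flat Γ(S, V)
        (LocalizedModule (hU.primeIdealOf ⟨x, hx⟩).asIdeal.primeCompl Γ(F, U)) := by
  letI : Algebra Γ(S, V) Γ(X, U) := (f.appLE V U e).hom.toAlgebra
  letI : Module Γ(S, V) Γ(F, U) := Module.compHom Γ(F, U) (f.appLE V U e).hom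
  haveI : IsScalarTower Γ(S, V) Γ(X, U) Γ(F, U) :=
    ⟨fun a b m => mul_smul ((f.appLE V U e).hom a) b m⟩
  rw [isFlatOverAt_iff_flat_base f F hV x (e hx)]
  letI := moduleStalkSections F U x hx
  letI := moduleStalkBase f F V x (e hx)
  haveI : IsScalarTower Γ(S, V) Γ(X, U) (F.presheaf.stalk x) := by
    refine ⟨fun a b y => ?_⟩
    change X.presheaf.germ U x hx ((f.appLE V U e).hom a * b) • y =
      (f.stalkMap x).hom (S.presheaf.germ V (f.base x) (e hx) a) • (X.presheaf.germ U x hx b • y)
    rw [map_mul, mul_smul, stalkMap_germ_eq f e x hx a]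
  haveI := isLocalizedModule_germ hU F x hx
  let ε := IsLocalizedModule.iso (hU.primeIdealOf ⟨x, hx⟩).asIdeal.primeCompl (germₗ F U x hx)
  exact (Module.Flat.equiv_iff (ε.restrictScalars Γ(S, V))).symm

end Geom

section Artin

theorem isLocalHom_of_isArtinianRing {R R' : Type*} [CommRing R] [IsLocalRing R] [IsArtinianRing R]
    [CommRing R'] [IsLocalRing R'] (φ : R →+* R') : IsLocalHom φ := by
  refine ⟨fun a ha => ?_⟩
  by_contra hna
  have h1 : a ∈ IsLocalRing.maximalIdeal R := (IsLocalRing.mem_maximalIdeal a).mpr hna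
  have h2 : IsNilpotent a := by
    have h3 : IsLocalRing.maximalIdeal R = nilradical R := by
      rw [← IsLocalRing.jacobson_eq_maximalIdeal (⊥ : Ideal R) bot_ne_top,
        IsArtinianRing.jacobson_eq_radical, nilradical]
      rfl
    rw [h3] at h1
    exact h1
  have h4 : IsNilpotent (φ a) := h2.map φ
  obtain ⟨k, hk⟩ := h4
  have h5 : IsUnit ((φ a) ^ k) := ha.pow k
  rw [hk] at h5
  exact not_isUnit_zero h5

end Artin

end Groth.Agent.Lib.Seat52.PtDesc
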