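import Mathlib
import Groth.Agent.Lib.Seat52PtDescE
import Groth.Agent.Lib.Helper2PullbackSec3

/-!
# Pointwise descent of flatness, part F (helper52): points over `(x, s')` versus primes

`flat_localizedModule_of_forall_isFlatOverAt`: for `g' : X' ⟶ X`, `f' : X' ⟶ S'`, `F` quasi-coherent
on `X`, affine opens `U ⊆ X`, `V' ⊆ S'`, `U' ≤ g'⁻¹U ⊓ f'⁻¹V'`, a point `x ∈ U` and a point
`s' ∈ V'`: if `g'^*F` is `f'`-flat at all points of `X'` over `x` and `s'`, then for every prime `q'`
of `Γ(X',U')` lying over the primes of `x` and `s'`, the localization `Γ(g'^*F,U')_{q'}` is flat over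
`Γ(S',V')`.
-/

set_option autoImplicit false
set_option linter.unusedSectionVars false
set_option linter.style.haveILetI false
universe u

open CategoryTheory Limits AlgebraicGeometry TopologicalSpace Opposite TensorProduct

namespace Groth.Agent.Lib.Seat52.PtDesc

open Groth.Agent.Lib.Helper2.FlatOver Groth.Agent.Lib.Helper2.PullbackSec

section Geom
variable {X X' S' : Scheme.{u}}

theorem flat_localizedModule_of_forall_isFlatOverAt (g' : X' ⟶ X) (f' : X' ⟶ S')
    (F : X.Modules) [F.IsQuasicoherent]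
    {V' : S'.Opens} (hV' : IsAffineOpen V') {U : X.Opens} (hU : IsAffineOpen U)
    {U' : X'.Opens} (hU' : IsAffineOpen U') (e1 : U' ≤ g' ⁻¹ᵁ U) (e2 : U' ≤ f' ⁻¹ᵁ V')
    (x : X) (hx : x ∈ U) (s' : S') (hs' : s' ∈ V')
    (hflat : ∀ x' : X', g'.base x' = x → f'.base x' = s' →
      FlatMod.IsFlatOverAt f' ((Scheme.Modules.pullback g').obj F) x')
    (q' : Ideal Γ(X', U')) [hq' : q'.IsPrime]
    (h1 : q'.comap (g'.appLE U U' e1).hom = (hU.primeIdealOf ⟨x, hx⟩).asIdeal)
    (h2 : q'.comap (f'.appLE V' U' e2).hom = (hV'.primeIdealOf ⟨s', hs'⟩).asIdeal) :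
    letI : Algebra Γ(S', V') Γ(X', U') := (f'.appLE V' U' e2).hom.toAlgebra
    letI : Module Γ(S', V') Γ((Scheme.Modules.pullback g').obj F, U') :=
      Module.compHom Γ((Scheme.Modules.pullback g').obj F, U') (f'.appLE V' U' e2).hom
    haveI : IsScalarTower Γ(S', V') Γ(X', U') Γ((Scheme.Modules.pullback g').obj F, U') :=
      ⟨fun a b m => mul_smul ((f'.appLE V' U' e2).hom a) b m⟩
    Module.Flat Γ(S', V')
      (LocalizedModule q'.primeCompl Γ((Scheme.Modules.pullback g').obj F, U')) := by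
  set H := (Scheme.Modules.pullback g').obj F with hH
  haveI : H.IsQuasicoherent := isQuasicoherent_pullback g' F
  set x' : X' := hU'.fromSpec ⟨q', hq'⟩ with hx'def
  have hx' : x' ∈ U' := Groth.Agent.Lib.Helper2.QCoh.fromSpec_mem hU' _
  have hq : hU'.primeIdealOf ⟨x', hx'⟩ = ⟨q', hq'⟩ :=
    Groth.Agent.Lib.Helper2.QCoh.primeIdealOf_fromSpec hU' _
  have hgx : g'.base x' = x := by
    have h3 := IsAffineOpen.comap_primeIdealOf_appLE (f := g') (x := x') U hU U' hU' e1 hx'
    rw [hq] at h3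
    have h4 : hU.primeIdealOf ⟨g'.base x', e1 hx'⟩ = hU.primeIdealOf ⟨x, hx⟩ := by
      rw [← h3]
      exact PrimeSpectrum.ext h1
    have h5 := congrArg hU.fromSpec h4
    rwa [hU.fromSpec_primeIdealOf, hU.fromSpec_primeIdealOf] at h5
  have hfx : f'.base x' = s' := by
    have h3 := IsAffineOpen.comap_primeIdealOf_appLE (f := f') (x := x') V' hV' U' hU' e2 hx'
    rw [hq] at h3
    have h4 : hV'.primeIdealOf ⟨f'.base x', e2 hx'⟩ = hV'.primeIdealOf ⟨s', hs'⟩ := by
      rw [← h3]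
      exact PrimeSpectrum.ext h2
    have h5 := congrArg hV'.fromSpec h4
    rwa [hV'.fromSpec_primeIdealOf, hV'.fromSpec_primeIdealOf] at h5
  have h6 := (isFlatOverAt_iff_flat_localizedModule f' H hU' hV' e2 x' hx').mp (hflat x' hgx hfx)
  rw [hq] at h6
  exact h6

end Geom

end Groth.Agent.Lib.Seat52.PtDesc
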