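import Mathlib
import Groth.Prelude.Def_FlatMod2
import Groth.Prelude.Def_Coh
import Groth.Agent.Lib.Seat52PtDescD
import Groth.Agent.Lib.Seat52PtDescF
import Groth.Agent.Lib.Helper23FinType2

/-!
# Pointwise descent of flatness, part G (helper52): EGA IV 11.4.x over an Artinian local base

`isFlatOverAt_of_family_artinian`: the scheme-theoretic statement S4856.
-/

set_option autoImplicit false
set_option linter.unusedSectionVars false
set_option linter.style.haveILetI false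
universe u

open CategoryTheory Limits AlgebraicGeometry TopologicalSpace Opposite TensorProduct

namespace Groth.Agent.Lib.Seat52.PtDesc

open Groth.Agent.Lib.Helper2.FlatOver Groth.Agent.Lib.Helper2.PullbackSec
  Groth.Agent.Lib.Helper23.FinType

theorem ΓSpecIso_appLE_top {R S : CommRingCat.{u}} (φ : R ⟶ S) (a : Γ(Spec R, ⊤)) :
    (Scheme.ΓSpecIso S).hom.hom (((Spec.map φ).appLE ⊤ ⊤ le_top).hom a) =
      φ.hom ((Scheme.ΓSpecIso R).hom.hom a) := by
  have h1 : (Spec.map φ).appLE ⊤ ⊤ le_top = (Spec.map φ).appTop := by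
    rw [Scheme.Hom.appTop, Scheme.Hom.app_eq_appLE]
    rfl
  rw [h1]
  have h2 := Scheme.ΓSpecIso_naturality φ
  exact congrArg (fun ψ => ψ.hom a) h2

theorem isFlatOverAt_of_family_artinian {A : Type u} [CommRing A]
    [IsArtinianRing A] [IsLocalRing A] {X : Scheme.{u}} (f : X ⟶ Spec (CommRingCat.of A))
    [LocallyOfFiniteType f] (F : X.Modules) (hF : Coh.IsCoh F) (x : X)
    {ι : Type u} (A' : ι → Type u) [∀ i, CommRing (A' i)] [∀ i, IsLocalRing (A' i)]
    (u : ∀ i, A →+* A' i)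
    (hu : ∀ a : A, (∀ i, u i a = 0) → a = 0)
    (hflat : ∀ (i : ι) (x' : ↥(pullback f (Spec.map (CommRingCat.ofHom (u i))))),
      (pullback.fst f (Spec.map (CommRingCat.ofHom (u i)))).base x' = x →
      (pullback.snd f (Spec.map (CommRingCat.ofHom (u i)))).base x' =
        IsLocalRing.closedPoint (A' i) →
      FlatMod.IsFlatOverAt (pullback.snd f (Spec.map (CommRingCat.ofHom (u i))))
        ((Scheme.Modules.pullback (pullback.fst f (Spec.map (CommRingCat.ofHom (u i))))).obj F) x') :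
    FlatMod.IsFlatOverAt f F x := by
  haveI : F.IsQuasicoherent := hF.1
  haveI : SheafOfModules.IsFiniteType (R := X.ringCatSheaf) F := hF.2
  have hV : IsAffineOpen (⊤ : (Spec (CommRingCat.of A)).Opens) := isAffineOpen_top _
  obtain ⟨U, hU, hxU⟩ : ∃ U : X.Opens, IsAffineOpen U ∧ x ∈ U := by
    obtain ⟨_, ⟨U, hU, rfl⟩, hxU, -⟩ :=
      X.isBasis_affineOpens.exists_subset_of_mem_open (Set.mem_univ x) isOpen_univ
    exact ⟨U, hU, hxU⟩
  have eU : U ≤ f ⁻¹ᵁ ⊤ := le_top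
  -- the base ring
  let eA : Γ(Spec (CommRingCat.of A), ⊤) ≃+* A :=
    (Scheme.ΓSpecIso (CommRingCat.of A)).commRingCatIsoToRingEquiv
  haveI : IsLocalRing Γ(Spec (CommRingCat.of A), ⊤) := eA.symm.isLocalRing
  haveI : IsArtinianRing Γ(Spec (CommRingCat.of A), ⊤) := eA.symm.isArtinianRing
  letI aRB : Algebra Γ(Spec (CommRingCat.of A), ⊤) Γ(X, U) := (f.appLE ⊤ U eU).hom.toAlgebra
  letI mRM : Module Γ(Spec (CommRingCat.of A), ⊤) Γ(F, U) :=
    Module.compHom Γ(F, U) (f.appLE ⊤ U eU).hom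
  haveI tRBM : IsScalarTower Γ(Spec (CommRingCat.of A), ⊤) Γ(X, U) Γ(F, U) :=
    ⟨fun a b m => mul_smul ((f.appLE ⊤ U eU).hom a) b m⟩
  haveI : Algebra.FiniteType Γ(Spec (CommRingCat.of A), ⊤) Γ(X, U) :=
    HasRingHomProperty.appLE (P := @LocallyOfFiniteType) f inferInstance ⟨⊤, hV⟩ ⟨U, hU⟩ eU
  haveI : IsNoetherianRing Γ(X, U) :=
    Algebra.FiniteType.isNoetherianRing Γ(Spec (CommRingCat.of A), ⊤) Γ(X, U)
  haveI : Module.Finite Γ(X, U) Γ(F, U) := finite_of_isFiniteType F hU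
  rw [isFlatOverAt_iff_flat_localizedModule f F hU hV eU x hxU]
  set 𝔮 : Ideal Γ(X, U) := (hU.primeIdealOf ⟨x, hxU⟩).asIdeal with h𝔮
  obtain ⟨n, hn⟩ := (isArtinianRing_iff_isNilpotent_maximalIdeal
    Γ(Spec (CommRingCat.of A), ⊤)).mp inferInstance
  -- the ideals
  let J : ι → Ideal Γ(Spec (CommRingCat.of A), ⊤) := fun i =>
    (⊥ : Ideal Γ(Spec (CommRingCat.of (A' i)), ⊤)).comap
      ((Spec.map (CommRingCat.ofHom (u i))).appLE ⊤ ⊤ le_top).hom
  have hJ : ⨅ i, J i = ⊥ := by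
    rw [eq_bot_iff]
    intro a ha
    rw [Ideal.mem_iInf] at ha
    rw [Ideal.mem_bot]
    have h1 : ∀ i, u i (eA a) = 0 := by
      intro i
      have h2 := ha i
      change ((Spec.map (CommRingCat.ofHom (u i))).appLE ⊤ ⊤ le_top).hom a ∈ (⊥ : Ideal _) at h2
      rw [Ideal.mem_bot] at h2
      have h3 := ΓSpecIso_appLE_top (CommRingCat.ofHom (u i)) a
      rw [h2, map_zero] at h3
      exact h3.symm
    have h4 := hu _ h1
    exact eA.injective (h4.trans (map_zero eA).symm)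
  refine flat_of_iInf_eq_bot _ J ?_ hJ
  intro i
  -- the cartesian square
  set g := Spec.map (CommRingCat.ofHom (u i)) with hg
  have hc : IsPullback (pullback.fst f g) (pullback.snd f g) f g := IsPullback.of_hasPullback f g
  set g' := pullback.fst f g with hg'
  set f' := pullback.snd f g with hf'
  have hV' : IsAffineOpen (⊤ : (Spec (CommRingCat.of (A' i))).Opens) := isAffineOpen_top _
  have eV' : (⊤ : (Spec (CommRingCat.of (A' i))).Opens) ≤ g ⁻¹ᵁ ⊤ := le_top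
  set U' : (pullback f g).Opens := g' ⁻¹ᵁ U ⊓ f' ⁻¹ᵁ ⊤ with hU'def
  have hU' : IsAffineOpen U' := isAffineOpen_inf_preimage hc eV' eU hV hV' hU
  have e1 : U' ≤ g' ⁻¹ᵁ U := inf_le_left
  have e2 : U' ≤ f' ⁻¹ᵁ ⊤ := inf_le_right
  set H := (Scheme.Modules.pullback g').obj F with hH
  haveI : H.IsQuasicoherent := isQuasicoherent_pullback g' F
  -- ring structures
  letI aRR' : Algebra Γ(Spec (CommRingCat.of A), ⊤) Γ(Spec (CommRingCat.of (A' i)), ⊤) :=
    (g.appLE ⊤ ⊤ eV').hom.toAlgebra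
  letI aBB' : Algebra Γ(X, U) Γ(pullback f g, U') := (g'.appLE U U' e1).hom.toAlgebra
  letI aR'B' : Algebra Γ(Spec (CommRingCat.of (A' i)), ⊤) Γ(pullback f g, U') :=
    (f'.appLE ⊤ U' e2).hom.toAlgebra
  letI aRB' : Algebra Γ(Spec (CommRingCat.of A), ⊤) Γ(pullback f g, U') :=
    ((g'.appLE U U' e1).hom.comp (f.appLE ⊤ U eU).hom).toAlgebra
  haveI tRBB' : IsScalarTower Γ(Spec (CommRingCat.of A), ⊤) Γ(X, U) Γ(pullback f g, U') :=
    IsScalarTower.of_algebraMap_eq (fun a => rfl)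
  have hsq : ∀ a : Γ(Spec (CommRingCat.of A), ⊤),
      (g'.appLE U U' e1).hom ((f.appLE ⊤ U eU).hom a) =
      (f'.appLE ⊤ U' e2).hom ((g.appLE ⊤ ⊤ eV').hom a) := by
    intro a
    have h1 := Scheme.Hom.appLE_comp_appLE g' f ⊤ U U' eU e1
    have h2 := Scheme.Hom.appLE_comp_appLE f' g ⊤ ⊤ U' eV' e2
    have h3 : (f.appLE ⊤ U eU ≫ g'.appLE U U' e1) = (g.appLE ⊤ ⊤ eV' ≫ f'.appLE ⊤ U' e2) := by
      rw [h1, h2]
      congr 1
      exact hc.w
    exact congrArg (fun φ => φ.hom a) h3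
  haveI tRR'B' : IsScalarTower Γ(Spec (CommRingCat.of A), ⊤) Γ(Spec (CommRingCat.of (A' i)), ⊤)
      Γ(pullback f g, U') :=
    IsScalarTower.of_algebraMap_eq (fun a => hsq a)
  haveI hPO : Algebra.IsPushout Γ(Spec (CommRingCat.of A), ⊤) Γ(Spec (CommRingCat.of (A' i)), ⊤)
      Γ(X, U) Γ(pullback f g, U') :=
    algebra_isPushout hc eV' eU hV hV' hU e1 e2
  haveI hPO' : Algebra.IsPushout Γ(Spec (CommRingCat.of A), ⊤) Γ(X, U)
      Γ(Spec (CommRingCat.of (A' i)), ⊤) Γ(pullback f g, U') := hPO.symm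
  -- modules
  letI mR'M' : Module Γ(Spec (CommRingCat.of (A' i)), ⊤) Γ(H, U') :=
    Module.compHom Γ(H, U') (f'.appLE ⊤ U' e2).hom
  haveI tR'B'M' : IsScalarTower Γ(Spec (CommRingCat.of (A' i)), ⊤) Γ(pullback f g, U') Γ(H, U') :=
    ⟨fun a b m => mul_smul ((f'.appLE ⊤ U' e2).hom a) b m⟩
  letI mBM' : Module Γ(X, U) Γ(H, U') := Module.compHom Γ(H, U') (g'.appLE U U' e1).hom
  haveI tBB'M' : IsScalarTower Γ(X, U) Γ(pullback f g, U') Γ(H, U') :=
    ⟨fun a b m => mul_smul ((g'.appLE U U' e1).hom a) b m⟩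
  letI mRM' : Module Γ(Spec (CommRingCat.of A), ⊤) Γ(H, U') :=
    Module.compHom Γ(H, U') ((g'.appLE U U' e1).hom.comp (f.appLE ⊤ U eU).hom)
  haveI tRR'M' : IsScalarTower Γ(Spec (CommRingCat.of A), ⊤) Γ(Spec (CommRingCat.of (A' i)), ⊤)
      Γ(H, U') := by
    refine ⟨fun a b m => ?_⟩
    change (f'.appLE ⊤ U' e2).hom ((g.appLE ⊤ ⊤ eV').hom a * b) • m =
      (g'.appLE U U' e1).hom ((f.appLE ⊤ U eU).hom a) • ((f'.appLE ⊤ U' e2).hom b • m)
    rw [map_mul, mul_smul, hsq a]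
  haveI tRBM' : IsScalarTower Γ(Spec (CommRingCat.of A), ⊤) Γ(X, U) Γ(H, U') := by
    refine ⟨fun a b m => ?_⟩
    change (g'.appLE U U' e1).hom ((f.appLE ⊤ U eU).hom a * b) • m =
      (g'.appLE U U' e1).hom ((f.appLE ⊤ U eU).hom a) • ((g'.appLE U U' e1).hom b • m)
    rw [map_mul, mul_smul]
  -- base change of the sections
  obtain ⟨T⟩ := nonempty_sections_linearEquiv g' F hU' hU e1
  let ν : Γ(F, U) →ₗ[Γ(X, U)] Γ(H, U') :=
    (T.toLinearMap.restrictScalars Γ(X, U)).comp (TensorProduct.mk Γ(X, U) Γ(pullback f g, U')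
      Γ(F, U) 1)
  have hν : IsBaseChange Γ(pullback f g, U') ν := IsBaseChange.of_equiv T (fun v => rfl)
  -- local rings
  let eA' : Γ(Spec (CommRingCat.of (A' i)), ⊤) ≃+* A' i :=
    (Scheme.ΓSpecIso (CommRingCat.of (A' i))).commRingCatIsoToRingEquiv
  haveI : IsLocalRing Γ(Spec (CommRingCat.of (A' i)), ⊤) := eA'.symm.isLocalRing
  haveI : IsLocalHom (algebraMap Γ(Spec (CommRingCat.of A), ⊤)
      Γ(Spec (CommRingCat.of (A' i)), ⊤)) := isLocalHom_of_isArtinianRing _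
  have hn' : IsLocalRing.maximalIdeal Γ(Spec (CommRingCat.of A), ⊤) ^ n ≤
      (⊥ : Ideal Γ(Spec (CommRingCat.of (A' i)), ⊤)).comap
        (algebraMap Γ(Spec (CommRingCat.of A), ⊤) Γ(Spec (CommRingCat.of (A' i)), ⊤)) := by
    rw [hn]
    exact bot_le
  have hmax : IsLocalRing.maximalIdeal Γ(Spec (CommRingCat.of (A' i)), ⊤) =
      (hV'.primeIdealOf ⟨IsLocalRing.closedPoint (A' i), trivial⟩).asIdeal := by
    have h1 := hV'.primeIdealOf_isMaximal_of_isClosed ⟨IsLocalRing.closedPoint (A' i), trivial⟩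
      (IsLocalRing.isClosed_singleton_closedPoint (A' i))
    exact (IsLocalRing.eq_maximalIdeal h1).symm
  refine flat_quotient_localizedModule_of_forall_flat ν hν 𝔮 ⊥ bot_le n hn' ?_
  intro q' hq' h1 h2
  exact flat_localizedModule_of_forall_isFlatOverAt g' f' F hV' hU hU' e1 e2 x hxU
    (IsLocalRing.closedPoint (A' i)) trivial (hflat i) q' h1 (h2.trans hmax)

end Groth.Agent.Lib.Seat52.PtDesc
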