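import Groth.Agent.Lib.Helper19Restricted

/-!
# helper52: the universal property of restricted power series rings (existence part)

If `B` is an `A`-algebra which is `IB`-adically complete and `b : Fin r → B`, there is an
`A`-algebra homomorphism from the `I`-adic completion of `A[T_1..T_r]` to `B` extending
`aeval b`.  (Same construction as `Helper19.exists_surjective_of_aeval`, which only records
surjectivity.)
-/

set_option autoImplicit false
set_option linter.style.haveILetI false
universe u v

namespace Groth.Agent.Lib.Seat52.RPowLift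

open Ideal Groth.Agent.Lib.Helper19

theorem exists_algHom_of_aeval
    (A : Type u) [CommRing A] (I : Ideal A)
    (B : Type v) [CommRing B] [Algebra A B] [IsAdicComplete (I.map (algebraMap A B)) B]
    (r : ℕ) (b : Fin r → B) :
    ∃ (φ : AdicCompletion (I.map (MvPolynomial.C : A →+* MvPolynomial (Fin r) A))
        (MvPolynomial (Fin r) A) →ₐ[A] B),
      ∀ p : MvPolynomial (Fin r) A,
        φ (algebraMap (MvPolynomial (Fin r) A) (AdicCompletion
          (I.map (MvPolynomial.C : A →+* MvPolynomial (Fin r) A)) (MvPolynomial (Fin r) A)) p) =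
          MvPolynomial.aeval b p := by
  classical
  set IB : Ideal B := I.map (algebraMap A B) with hIB
  set P := MvPolynomial (Fin r) A with hP
  set J : Ideal P := I.map (MvPolynomial.C : A →+* P) with hJ
  let ψ : P →ₐ[A] B := MvPolynomial.aeval b
  have hJmap : J.map ψ.toRingHom = IB := by
    rw [hJ, Ideal.map_map]
    congr 1
    ext a
    exact MvPolynomial.aeval_C b a
  have hJle : ∀ n : ℕ, J ^ n ≤ (IB ^ n).comap ψ.toRingHom := by
    intro n
    rw [← Ideal.map_le_iff_le_comap, Ideal.map_pow, hJmap]
  let g : ∀ n : ℕ, AdicCompletion J P →+* B ⧸ IB ^ n := fun n =>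
    (Ideal.quotientMap (IB ^ n) ψ.toRingHom (hJle n)).comp
      (AdicCompletion.evalₐ J n : AdicCompletion J P →+* P ⧸ J ^ n)
  have hg : ∀ {m n : ℕ} (hle : m ≤ n), (Ideal.Quotient.factorPow IB hle).comp (g n) = g m := by
    intro m n hle
    ext x
    simp only [g, RingHom.comp_apply]
    have e1 : AdicCompletion.evalₐ J m x =
        Ideal.Quotient.factorPow J hle (AdicCompletion.evalₐ J n x) :=
      (factorPow_evalₐ J hle x).symm
    obtain ⟨p, hp⟩ := Ideal.Quotient.mk_surjective (AdicCompletion.evalₐ J n x)
    simp only [RingHom.coe_coe]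
    rw [e1, ← hp]
    simp [Ideal.Quotient.factorPow]
  let Φ₀ : AdicCompletion J P →+* B := IsAdicComplete.liftRingHom IB g hg
  have hΦ₀ : ∀ (n : ℕ) (x : AdicCompletion J P), Ideal.Quotient.mk (IB ^ n) (Φ₀ x) = g n x :=
    fun n x => IsAdicComplete.mk_liftRingHom IB g hg n x
  have hΦof : ∀ p : P, Φ₀ (AdicCompletion.of J P p) = ψ p := by
    intro p
    have hH : IsHausdorff IB B := inferInstance
    rw [← sub_eq_zero]
    apply hH.haus
    intro n
    rw [SModEq.zero, smul_eq_mul, Ideal.mul_top, ← Ideal.Quotient.eq_zero_iff_mem, map_sub,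
      hΦ₀, sub_eq_zero]
    simp [g]
  let Φ : AdicCompletion J P →ₐ[A] B :=
    { Φ₀ with
      commutes' := fun a => by
        change Φ₀ (algebraMap A (AdicCompletion J P) a) = algebraMap A B a
        rw [AdicCompletion.algebraMap_apply, hΦof]
        exact ψ.commutes a }
  refine ⟨Φ, fun p => ?_⟩
  change Φ₀ (algebraMap P (AdicCompletion J P) p) = ψ p
  rw [AdicCompletion.algebraMap_apply, Algebra.algebraMap_self, RingHom.id_apply, hΦof]

end Groth.Agent.Lib.Seat52.RPowLift
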