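import Groth.Agent.Lib.Seat52GenField
import Mathlib.RingTheory.Localization.BaseChange
import Mathlib.RingTheory.Localization.Ideal

/-!
# helper52: rig-points of an admissible algebra are the maximal ideals of the generic fibre
(S11543, Bosch FRG §8.3)
-/

set_option autoImplicit false
set_option linter.style.haveILetI false
set_option linter.unusedSectionVars false
universe u

namespace Groth.Agent.Lib.Seat52.RigMax

open AdicRing IsLocalRing Groth.Agent.Lib.Seat52.AdicBase Groth.Agent.Lib.Seat52
open scoped TensorProduct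

section Loc

variable (R : Type u) [CommRing R] [IsDomain R] [ValuationRing R] [Ring.KrullDimLE 1 R]
  (t : R) (ht : t ≠ 0) [IsAdicComplete (Ideal.span {t}) R]
  (A : Type u) [CommRing A] [Algebra R A]

lemma isLocalization_tensor :
    IsLocalization (Algebra.algebraMapSubmonoid A (nonZeroDivisors R)) (A ⊗[R] FractionRing R) :=
  inferInstance

/-- a prime not containing `t` is disjoint from the image of `R ∖ {0}` -/
lemma disjoint_of_notMem (p : Ideal A) (hp : p.IsPrime) (htp : algebraMap R A t ∉ p) :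
    Disjoint ((Algebra.algebraMapSubmonoid A (nonZeroDivisors R) : Submonoid A) : Set A)
      (p : Set A) := by
  rw [Set.disjoint_left]
  rintro x ⟨a, ha, rfl⟩ hxp
  obtain ⟨k, e, hk⟩ := ValRing.exists_dvd_pow R t (nonZeroDivisors.ne_zero ha)
  apply htp
  apply hp.mem_of_pow_mem k
  rw [← map_pow, hk, map_mul]
  exact Ideal.mul_mem_right _ _ hxp

include ht in
/-- `t` lies in every maximal ideal of an algebra topologically of finite type -/
lemma algebraMap_t_mem_of_isMaximal (hA : TopFiniteType R (Ideal.span {t}) A) (𝔫 : Ideal A)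
    (h𝔫 : 𝔫.IsMaximal) : algebraMap R A t ∈ 𝔫 := by
  haveI hc : IsAdicComplete (Ideal.span {t}) A :=
    isAdicComplete_of_finite R _ (isBase_V R t ht) A hA A
  haveI hc' : IsAdicComplete ((Ideal.span {t}).map (algebraMap R A)) A :=
    (IsAdicComplete.map_algebraMap_iff (R := R) (S := A) (I := Ideal.span {t}) (M := A)).mpr hc
  have h1 := IsAdicComplete.le_jacobson_bot ((Ideal.span {t}).map (algebraMap R A))
  have h2 : (⊥ : Ideal A).jacobson ≤ 𝔫 := sInf_le ⟨bot_le, h𝔫⟩
  exact h2 (h1 (Ideal.mem_map_of_mem _ (Ideal.mem_span_singleton_self t)))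

end Loc

section Main

variable (R : Type u) [CommRing R] [IsDomain R] [ValuationRing R] [Ring.KrullDimLE 1 R]
  (t : R) (ht : t ≠ 0) [IsAdicComplete (Ideal.span {t}) R]
  (A : Type u) [CommRing A] [Algebra R A] (hA : TopFiniteType R (Ideal.span {t}) A)

omit [IsDomain R] [ValuationRing R] [Ring.KrullDimLE 1 R] in
lemma algebraMap_eq_includeLeft :
    algebraMap A (A ⊗[R] FractionRing R) =
      (Algebra.TensorProduct.includeLeftRingHom : A →+* A ⊗[R] FractionRing R) := rfl

include ht hA in
/-- first half of S11543 (in terms of `algebraMap`) -/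
theorem isMaximal_map_of_dim_one (p : Ideal A) (hp : p.IsPrime)
    (htp : algebraMap R A t ∉ p) (hdim : ringKrullDim (A ⧸ p) = 1) :
    (p.map (algebraMap A (A ⊗[R] FractionRing R))).IsMaximal ∧
      (p.map (algebraMap A (A ⊗[R] FractionRing R))).comap
        (algebraMap A (A ⊗[R] FractionRing R)) = p := by
  classical
  haveI := hp
  have hdisj := disjoint_of_notMem R t A p hp htp
  have hcm : (p.map (algebraMap A (A ⊗[R] FractionRing R))).comap
      (algebraMap A (A ⊗[R] FractionRing R)) = p :=
    IsLocalization.under_map_of_isPrime_disjoint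
      (Algebra.algebraMapSubmonoid A (nonZeroDivisors R)) (A ⊗[R] FractionRing R) hp hdisj
  refine ⟨?_, hcm⟩
  have hprime : (p.map (algebraMap A (A ⊗[R] FractionRing R))).IsPrime :=
    IsLocalization.isPrime_of_isPrime_disjoint
      (Algebra.algebraMapSubmonoid A (nonZeroDivisors R)) (A ⊗[R] FractionRing R) p hp hdisj
  obtain ⟨M, hM, hpM⟩ := Ideal.exists_le_maximal _ hprime.ne_top
  set q := M.comap (algebraMap A (A ⊗[R] FractionRing R)) with hq
  haveI hqp : q.IsPrime := Ideal.IsPrime.comap _
  have hpq : p ≤ q := by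
    rw [← hcm]
    exact Ideal.comap_mono hpM
  have hMq : q.map (algebraMap A (A ⊗[R] FractionRing R)) = M :=
    IsLocalization.map_under (Algebra.algebraMapSubmonoid A (nonZeroDivisors R))
      (A ⊗[R] FractionRing R) M
  -- `t ∉ q`
  have htq : algebraMap R A t ∉ q := by
    intro h
    rw [hq, Ideal.mem_comap] at h
    have hu : IsUnit (algebraMap A (A ⊗[R] FractionRing R) (algebraMap R A t)) :=
      IsLocalization.map_units (A ⊗[R] FractionRing R)
        (⟨algebraMap R A t, ⟨t, mem_nonZeroDivisors_of_ne_zero ht, rfl⟩⟩ :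
          Algebra.algebraMapSubmonoid A (nonZeroDivisors R))
    exact hM.ne_top (Ideal.eq_top_of_isUnit_mem _ h hu)
  -- `q = p`
  have hqeq : q = p := by
    by_contra hne
    haveI : Ring.KrullDimLE 1 (A ⧸ p) := Ring.krullDimLE_iff.mpr (le_of_eq hdim)
    have hq' : (q.map (Ideal.Quotient.mk p)).IsPrime :=
      Ideal.map_isPrime_of_surjective Ideal.Quotient.mk_surjective (by rw [Ideal.mk_ker]; exact hpq)
    have hq'ne : q.map (Ideal.Quotient.mk p) ≠ ⊥ := by
      intro h0
      apply hne
      apply le_antisymm _ hpq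
      intro x hx
      have : Ideal.Quotient.mk p x ∈ q.map (Ideal.Quotient.mk p) := Ideal.mem_map_of_mem _ hx
      rw [h0, Ideal.mem_bot] at this
      exact Ideal.Quotient.eq_zero_iff_mem.mp this
    have hq'max : (q.map (Ideal.Quotient.mk p)).IsMaximal := hq'.isMaximal_of_ne_bot hq'ne
    have hqmax : q.IsMaximal := by
      have h1 := Ideal.comap_isMaximal_of_surjective (Ideal.Quotient.mk p)
        Ideal.Quotient.mk_surjective (K := q.map (Ideal.Quotient.mk p))
      rwa [Ideal.comap_map_of_surjective _ Ideal.Quotient.mk_surjective,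
        ← RingHom.ker_eq_comap_bot, Ideal.mk_ker, sup_eq_left.mpr hpq] at h1
    exact htq (algebraMap_t_mem_of_isMaximal R t ht A hA q hqmax)
  rw [← hqeq, hMq]
  exact hM

include ht hA in
/-- second half of S11543 (in terms of `algebraMap`) -/
theorem dim_one_comap_of_isMaximal (M : Ideal (A ⊗[R] FractionRing R)) (hM : M.IsMaximal) :
    algebraMap R A t ∉ M.comap (algebraMap A (A ⊗[R] FractionRing R)) ∧
      ringKrullDim (A ⧸ M.comap (algebraMap A (A ⊗[R] FractionRing R))) = 1 ∧
      (M.comap (algebraMap A (A ⊗[R] FractionRing R))).map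
        (algebraMap A (A ⊗[R] FractionRing R)) = M := by
  classical
  set q := M.comap (algebraMap A (A ⊗[R] FractionRing R)) with hq
  haveI hqp : q.IsPrime := Ideal.IsPrime.comap _
  have hMq : q.map (algebraMap A (A ⊗[R] FractionRing R)) = M :=
    IsLocalization.map_under (Algebra.algebraMapSubmonoid A (nonZeroDivisors R))
      (A ⊗[R] FractionRing R) M
  have htq : algebraMap R A t ∉ q := by
    intro h
    rw [hq, Ideal.mem_comap] at h
    have hu : IsUnit (algebraMap A (A ⊗[R] FractionRing R) (algebraMap R A t)) :=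
      IsLocalization.map_units (A ⊗[R] FractionRing R)
        (⟨algebraMap R A t, ⟨t, mem_nonZeroDivisors_of_ne_zero ht, rfl⟩⟩ :
          Algebra.algebraMapSubmonoid A (nonZeroDivisors R))
    exact hM.ne_top (Ideal.eq_top_of_isUnit_mem _ h hu)
  refine ⟨htq, ?_, hMq⟩
  -- `B = A/q`
  have hB : TopFiniteType R (Ideal.span {t}) (A ⧸ q) := by
    obtain ⟨n, φ, hφ⟩ := hA
    exact ⟨n, (Ideal.Quotient.mkₐ R q).comp φ,
      (Ideal.Quotient.mkₐ_surjective R q).comp hφ⟩
  have ht0 : algebraMap R (A ⧸ q) t ≠ 0 := by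
    intro h0
    exact htq (Ideal.Quotient.eq_zero_iff_mem.mp h0)
  have hfield : ∀ x : A ⧸ q, x ≠ 0 → ∃ (c : A ⧸ q) (k : ℕ), x * c = algebraMap R (A ⧸ q) t ^ k := by
    intro x hx
    obtain ⟨a, rfl⟩ := Ideal.Quotient.mk_surjective x
    have haq : a ∉ q := fun h => hx (Ideal.Quotient.eq_zero_iff_mem.mpr h)
    have haM : algebraMap A (A ⊗[R] FractionRing R) a ∉ M := haq
    obtain ⟨y, i, hi, hyi⟩ := hM.exists_inv haM
    obtain ⟨⟨c, s⟩, hcs⟩ := IsLocalization.surj
      (Algebra.algebraMapSubmonoid A (nonZeroDivisors R)) y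
    obtain ⟨s, r, hr, rfl⟩ := s
    simp only at hcs
    obtain ⟨k, e, hk⟩ := ValRing.exists_dvd_pow R t (nonZeroDivisors.ne_zero hr)
    have h1 : c * a - algebraMap R A r ∈ q := by
      rw [hq, Ideal.mem_comap, map_sub, map_mul, ← hcs]
      have h2 : y * algebraMap A (A ⊗[R] FractionRing R) (algebraMap R A r) *
          algebraMap A (A ⊗[R] FractionRing R) a -
          algebraMap A (A ⊗[R] FractionRing R) (algebraMap R A r) =
          - (i * algebraMap A (A ⊗[R] FractionRing R) (algebraMap R A r)) := by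
        have h3 : y * algebraMap A (A ⊗[R] FractionRing R) a = 1 - i := by rw [← hyi]; ring
        calc _ = (y * algebraMap A (A ⊗[R] FractionRing R) a) *
              algebraMap A (A ⊗[R] FractionRing R) (algebraMap R A r) -
              algebraMap A (A ⊗[R] FractionRing R) (algebraMap R A r) := by ring
          _ = _ := by rw [h3]; ring
      rw [h2]
      exact (Ideal.neg_mem_iff _).mpr (Ideal.mul_mem_right _ _ hi)
    refine ⟨Ideal.Quotient.mk q (c * algebraMap R A e), k, ?_⟩
    have h4 : algebraMap R (A ⧸ q) t ^ k = Ideal.Quotient.mk q (algebraMap R A (t ^ k)) := by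
      rw [← map_pow]; rfl
    rw [h4, ← map_mul, eq_comm, Ideal.Quotient.eq, hk, map_mul]
    have h5 : algebraMap R A r * algebraMap R A e - a * (c * algebraMap R A e) =
        - ((c * a - algebraMap R A r) * algebraMap R A e) := by ring
    rw [h5]
    exact (Ideal.neg_mem_iff _).mpr (Ideal.mul_mem_right _ _ h1)
  haveI hfin : Module.Finite R (A ⧸ q) :=
    GenField.finite_of_generic_field R t ht (A ⧸ q) hB ht0 hfield
  haveI : Algebra.IsIntegral R (A ⧸ q) := Algebra.IsIntegral.of_finite R _
  refine SpecPoint.ringKrullDim_eq_one_of_injective (R := R) (AlgHom.id R (A ⧸ q))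
    Function.injective_id (algebraMap R (A ⧸ q) t) ht0 ?_
  intro hu
  obtain ⟨u, hu⟩ := hu
  apply one_ne_zero (α := A ⧸ q)
  apply GenField.sep R t ht (A ⧸ q) hB
  intro k
  refine ⟨(↑(u⁻¹ ^ k) : A ⧸ q), ?_⟩
  rw [← hu, ← Units.val_pow_eq_pow_val, ← Units.val_mul, ← mul_pow, mul_inv_cancel, one_pow,
    Units.val_one]

end Main

end Groth.Agent.Lib.Seat52.RigMax
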