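import Groth.Agent.Lib.Seat52AdmFinite
import Groth.Agent.Lib.Seat52PolySat1
import Groth.Agent.Lib.Seat52AdicBase4
import Mathlib.RingTheory.Jacobson.Ring
import Mathlib.RingTheory.LocalRing.ResidueField.Basic

/-!
# helper52: rig-points (Bosch FRG §8.3): admissible local domains of dimension one are finite
over the base valuation ring.
-/

set_option autoImplicit false
set_option linter.style.haveILetI false
set_option linter.unusedSectionVars false
universe u

namespace Groth.Agent.Lib.Seat52.RigPoint

open AdicRing IsLocalRing Groth.Agent.Lib.Seat52.AdicBase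

section Finite

variable (R : Type u) [CommRing R] [IsDomain R] [ValuationRing R] [Ring.KrullDimLE 1 R]
  (t : R) (ht : t ≠ 0) [IsAdicComplete (Ideal.span {t}) R]
  (B : Type u) [CommRing B] [Algebra R B] [IsDomain B] [IsLocalRing B]
  (hB : TopFiniteType R (Ideal.span {t}) B) (htor : NoPowTorsion (Ideal.span {t}) B)
  [Ring.KrullDimLE 1 B]

include ht hB in
lemma isAdicComplete_self : IsAdicComplete (Ideal.span {t}) B :=
  isAdicComplete_of_finite R _ (isBase_V R t ht) B hB B

include htor in
lemma algebraMap_t_ne_zero : algebraMap R B t ≠ 0 := by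
  intro h0
  apply one_ne_zero (α := B)
  apply htor 1 1
  intro a ha
  rw [pow_one, Ideal.mem_span_singleton] at ha
  obtain ⟨c, rfl⟩ := ha
  rw [Algebra.smul_def, mul_one, map_mul, h0, zero_mul]

include ht hB in
lemma algebraMap_t_mem_maximalIdeal : algebraMap R B t ∈ maximalIdeal B := by
  rw [mem_maximalIdeal, mem_nonunits_iff]
  intro hu
  haveI := isAdicComplete_self R t ht B hB
  apply one_ne_zero (α := B)
  apply IsHausdorff.haus (I := Ideal.span {t}) (M := B) inferInstance
  intro k
  rw [SModEq.zero, mem_span_pow_smul_top_iff]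
  obtain ⟨u, hu⟩ := hu
  refine ⟨(↑(u⁻¹ ^ k) : B), ?_⟩
  rw [Algebra.smul_def, map_pow, ← hu, ← Units.val_pow_eq_pow_val, ← Units.val_mul,
    ← mul_pow, mul_inv_cancel, one_pow, Units.val_one]

include ht hB htor in
lemma exists_pow_mem_of_mem_maximalIdeal (b : B) (hb : b ∈ maximalIdeal B) :
    ∃ N : ℕ, b ^ N ∈ Ideal.span {algebraMap R B t} := by
  have hrad : b ∈ (Ideal.span {algebraMap R B t}).radical := by
    rw [Ideal.radical_eq_sInf, Ideal.mem_sInf]
    rintro J ⟨hJ, hJp⟩
    have hJ0 : J ≠ ⊥ := by
      intro h0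
      rw [h0] at hJ
      exact algebraMap_t_ne_zero R t B htor
        ((Ideal.span_singleton_eq_bot).mp (le_bot_iff.mp hJ))
    have hmax : J.IsMaximal := hJp.isMaximal_of_ne_bot hJ0
    rw [IsLocalRing.eq_maximalIdeal hmax]
    exact hb
  exact hrad

include ht hB in
lemma isLocalHom_algebraMap : IsLocalHom (algebraMap R B) := by
  constructor
  intro a ha
  by_contra hna
  obtain ⟨k, c, hc⟩ := ValRing.exists_pow_dvd R t ht hna
  have h1 : algebraMap R B a ^ k ∈ maximalIdeal B := by
    rw [← map_pow, hc, map_mul]
    exact Ideal.mul_mem_right _ _ (algebraMap_t_mem_maximalIdeal R t ht B hB)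
  have h2 : algebraMap R B a ∈ maximalIdeal B := (Ideal.IsMaximal.isPrime (maximalIdeal.isMaximal B)).mem_of_pow_mem _ h1
  exact (mem_maximalIdeal _).mp h2 ha

include ht hB htor in
/-- Bosch FRG 8.3: an admissible local domain of dimension one is finite over `R`. -/
theorem finite_of_local_dim_one : Module.Finite R B := by
  classical
  haveI hcompl := isAdicComplete_self R t ht B hB
  haveI hloc := isLocalHom_algebraMap R t ht B hB
  set tB := algebraMap R B t with htB
  have htm := algebraMap_t_mem_maximalIdeal R t ht B hB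
  -- `B/tB` is of finite type over `R`
  haveI : Algebra.FiniteType B (B ⧸ Ideal.span {tB}) := inferInstance
  haveI hft : Algebra.FiniteType R (B ⧸ Ideal.span {tB}) :=
    AdmFinite.finiteType_quot_of_tft R (Ideal.span {t}) ⟨{t}, by simp⟩ B hB B (Ideal.span {tB})
      (by rw [Ideal.map_span, Set.image_singleton])
  -- the residue field of `B` is finite over the residue field of `R`
  have hle : Ideal.span {tB} ≤ maximalIdeal B := by
    rw [Ideal.span_le, Set.singleton_subset_iff]; exact htm
  haveI hft2 : Algebra.FiniteType R (ResidueField B) :=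
    Algebra.FiniteType.of_surjective (Ideal.Quotient.factorₐ R hle)
      (Ideal.Quotient.factor_surjective hle)
  haveI hft3 : Algebra.FiniteType (ResidueField R) (ResidueField B) :=
    Algebra.FiniteType.of_restrictScalars_finiteType R _ _
  haveI hfin : Module.Finite (ResidueField R) (ResidueField B) :=
    finite_of_finite_type_of_isJacobsonRing _ _
  -- every element of `B/tB` is integral over `R`
  haveI hint : Algebra.IsIntegral R (B ⧸ Ideal.span {tB}) := by
    constructor
    intro x
    obtain ⟨b, rfl⟩ := Ideal.Quotient.mk_surjective x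
    have h1 : IsIntegral (ResidueField R) (residue B b) := Algebra.IsIntegral.isIntegral _
    haveI : Algebra.IsIntegral R (ResidueField R) :=
      Algebra.isIntegral_of_surjective (residue_surjective (R := R))
    have h2 : IsIntegral R (residue B b) := isIntegral_trans _ h1
    obtain ⟨g, hg, hg0⟩ := h2
    have h3 : Polynomial.aeval b g ∈ maximalIdeal B := by
      rw [← Ideal.Quotient.eq_zero_iff_mem]
      change residue B (Polynomial.aeval b g) = 0
      rw [← hg0, Polynomial.aeval_def, Polynomial.hom_eval₂]
      rfl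
    obtain ⟨N, hN⟩ := exists_pow_mem_of_mem_maximalIdeal R t ht B hB htor _ h3
    refine ⟨g ^ N, hg.pow N, ?_⟩
    rw [← Polynomial.aeval_def, map_pow]
    have : Polynomial.aeval (Ideal.Quotient.mk (Ideal.span {tB}) b) g =
        Ideal.Quotient.mk (Ideal.span {tB}) (Polynomial.aeval b g) := by
      rw [← Ideal.Quotient.mkₐ_eq_mk R, ← Polynomial.aeval_algHom_apply]
    rw [this, ← map_pow, Ideal.Quotient.eq_zero_iff_mem]
    exact hN
  haveI hfinq : Module.Finite R (B ⧸ Ideal.span {tB}) := Algebra.IsIntegral.finite
  -- lift generators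
  obtain ⟨r, q, hq⟩ := Module.Finite.exists_fin (R := R) (M := B ⧸ Ideal.span {tB})
  choose b hb using fun i => Ideal.Quotient.mk_surjective (q i)
  have hstep : ∀ x ∈ (⊤ : Submodule R B), ∃ (c : Fin r → R) (y : B), y ∈ (⊤ : Submodule R B) ∧
      x = ∑ i, c i • b i + t • y := by
    intro x _
    have hx : Ideal.Quotient.mk (Ideal.span {tB}) x ∈ Submodule.span R (Set.range q) := by
      rw [hq]; trivial
    obtain ⟨c, hc⟩ := (Submodule.mem_span_range_iff_exists_fun R).mp hx
    have h4 : x - ∑ i, c i • b i ∈ Ideal.span {tB} := by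
      rw [← Ideal.Quotient.eq_zero_iff_mem, map_sub, ← hc, map_sum]
      rw [sub_eq_zero]
      refine Finset.sum_congr rfl fun i _ => ?_
      rw [← hb i]
      rfl
    obtain ⟨y, hy⟩ := Ideal.mem_span_singleton.mp h4
    refine ⟨c, y, trivial, ?_⟩
    rw [Algebra.smul_def, ← htB, ← hy]
    abel
  have hle2 := PolySat.le_span_of_le_span_sup_smul_module t
    (RPowSat.compl_of_isAdicComplete t) (W := B) (by
      intro x hx
      apply IsHausdorff.haus (I := Ideal.span {t}) (M := B) inferInstance
      intro k
      rw [SModEq.zero, mem_span_pow_smul_top_iff]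
      exact hx k) ⊤ b hstep
  exact ⟨⟨Finset.univ.image b, by
    rw [Finset.coe_image, Finset.coe_univ, Set.image_univ]
    exact top_le_iff.mp hle2⟩⟩

end Finite

end Groth.Agent.Lib.Seat52.RigPoint
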