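import Groth.Agent.Lib.Seat52RigPoint
import Mathlib.RingTheory.Ideal.GoingUp
import Mathlib.RingTheory.KrullDimension.LocalRing

/-!
# helper52: rig-points (Bosch FRG §8.3), part 2: images of admissible algebras in rig-point
algebras (S11547) and surjectivity from complete localizations (S11542).
-/

set_option autoImplicit false
set_option linter.style.haveILetI false
set_option linter.unusedSectionVars false
universe u

namespace Groth.Agent.Lib.Seat52.RigPoint

open AdicRing IsLocalRing Groth.Agent.Lib.Seat52.AdicBase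

section Integral

/-- An integral domain over which a local domain of dimension one is integral is itself local of
dimension one (provided it is not a field). -/
theorem local_dim_one_of_isIntegral {B₀ B' : Type*} [CommRing B₀] [CommRing B'] [IsDomain B']
    [IsLocalRing B'] [Algebra B₀ B'] [Algebra.IsIntegral B₀ B']
    (hinj : Function.Injective (algebraMap B₀ B')) [Ring.KrullDimLE 1 B']
    (x : B₀) (hx0 : x ≠ 0) (hxu : ¬ IsUnit (algebraMap B₀ B' x)) :
    IsLocalRing B₀ ∧ ringKrullDim B₀ = 1 := by
  haveI : IsDomain B₀ := hinj.isDomain (algebraMap B₀ B')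
  have hker : RingHom.ker (algebraMap B₀ B') = ⊥ := (RingHom.injective_iff_ker_eq_bot _).mp hinj
  have hloc : IsLocalRing B₀ := by
    refine IsLocalRing.of_unique_max_ideal ⟨(maximalIdeal B').comap (algebraMap B₀ B'),
      Ideal.isMaximal_comap_of_isIntegral_of_isMaximal _, ?_⟩
    intro P hP
    obtain ⟨Q, hQ, hQP⟩ := Ideal.exists_ideal_over_maximal_of_isIntegral (S := B') P
      (by rw [hker]; exact bot_le)
    rw [← hQP, IsLocalRing.eq_maximalIdeal hQ]
  refine ⟨hloc, ?_⟩
  have hle1 : Ring.KrullDimLE 1 B₀ := by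
    refine Ring.KrullDimLE.mk₁' fun I hI hIp => ?_
    obtain ⟨Q, hQp, hQI⟩ := Ideal.exists_ideal_over_prime_of_isIntegral (S := B') I
      (⊥ : Ideal B') (by rw [Ideal.comap_bot_of_injective _ hinj]; exact bot_le)
    obtain ⟨-, hQp, hQI⟩ := hQp, hQI
    have hQ0 : Q ≠ ⊥ := by
      rintro rfl
      apply hI
      rw [← hQI, Ideal.comap_bot_of_injective _ hinj]
    haveI hQmax : Q.IsMaximal := hQp.isMaximal_of_ne_bot hQ0
    rw [← hQI]
    exact Ideal.isMaximal_comap_of_isIntegral_of_isMaximal Q
  have hnot : ¬ ringKrullDim B₀ ≤ 0 := fun h => by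
    have : Ring.KrullDimLE 0 B₀ := Ring.krullDimLE_iff.mpr h
    have hf : IsField B₀ := Ring.KrullDimLE.isField_of_isDomain
    obtain ⟨y, hy⟩ := hf.mul_inv_cancel hx0
    apply hxu
    exact IsUnit.of_mul_eq_one (algebraMap B₀ B' y) (by rw [← map_mul, hy, map_one])
  rw [Ring.krullDimLE_iff] at hle1
  exact le_antisymm hle1 (Order.succ_le_of_lt (lt_of_not_ge hnot))

end Integral

section Range

variable (R : Type u) [CommRing R] [IsDomain R] [ValuationRing R] [Ring.KrullDimLE 1 R]
  (t : R) (ht : t ≠ 0) [IsAdicComplete (Ideal.span {t}) R]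
  (A : Type u) [CommRing A] [Algebra R A] (hA : TopFiniteType R (Ideal.span {t}) A)
  (B' : Type u) [CommRing B'] [Algebra R B'] [IsDomain B'] [IsLocalRing B']
  (hB' : AdicRing.Admissible R (Ideal.span {t}) B') (hdim : ringKrullDim B' = 1)
  (ψ : A →ₐ[R] B')

include ht hA hB' hdim in
/-- S11547 (general form): the image of a tft algebra in a rig-point algebra is a rig-point
algebra. -/
theorem range_admissible_local_dim_one :
    AdicRing.Admissible R (Ideal.span {t}) ψ.range ∧ IsLocalRing ψ.range ∧
      ringKrullDim ψ.range = 1 := by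
  haveI hK : Ring.KrullDimLE 1 B' := Ring.krullDimLE_iff.mpr hdim.le
  have hB't : TopFiniteType R (Ideal.span {t}) B' := CLocLib.tft_of_tfp R _ hB'.1
  haveI hfin : Module.Finite R B' := finite_of_local_dim_one R t ht B' hB't hB'.2
  -- tft
  have htft : TopFiniteType R (Ideal.span {t}) ψ.range := by
    obtain ⟨n, φ₀, hφ₀⟩ := hA
    exact ⟨n, ψ.rangeRestrict.comp φ₀, ψ.rangeRestrict_surjective.comp hφ₀⟩
  have htor : NoPowTorsion (Ideal.span {t}) ψ.range := by
    intro x n hx
    apply Subtype.ext
    apply hB'.2 _ n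
    intro a ha
    have := congrArg Subtype.val (hx a ha)
    simpa using this
  refine ⟨⟨tfp_of_tft_of_noPowTorsion R _ (isBase_V R t ht) _ htft htor, htor⟩, ?_⟩
  -- integrality
  haveI : Algebra.IsIntegral R B' := Algebra.IsIntegral.of_finite R B'
  haveI : Algebra.IsIntegral ψ.range B' := Algebra.IsIntegral.tower_top (R := R)
  have hinj : Function.Injective (algebraMap ψ.range B') := Subtype.val_injective
  have h := local_dim_one_of_isIntegral (B₀ := ψ.range) (B' := B') hinj
    (algebraMap R ψ.range t) (by
      intro h0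
      apply algebraMap_t_ne_zero R t B' hB'.2
      have := congrArg Subtype.val h0
      simpa using this) (by
      intro hu
      have h1 := algebraMap_t_mem_maximalIdeal R t ht B' hB't
      rw [mem_maximalIdeal, mem_nonunits_iff] at h1
      apply h1
      rwa [← IsScalarTower.algebraMap_apply] at hu)
  exact h

end Range

end Groth.Agent.Lib.Seat52.RigPoint
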