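import Groth.Agent.Lib.Seat52RigPoint2
import Mathlib.RingTheory.Nakayama

/-!
# helper52: rig-points (Bosch FRG §8.3), part 3: a surjection from a complete localization
`A⟨f⁻¹⟩` onto a rig-point algebra is already surjective on `A` (S11542).
-/

set_option autoImplicit false
set_option linter.style.haveILetI false
set_option linter.unusedSectionVars false
universe u

namespace Groth.Agent.Lib.Seat52.RigPoint

open AdicRing IsLocalRing Groth.Agent.Lib.Seat52.AdicBase

section Unit

/-- in an integral extension, an element that becomes a unit is a unit -/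
lemma isUnit_of_isUnit_algebraMap_of_isIntegral {B₀ B' : Type*} [CommRing B₀] [CommRing B']
    [Algebra B₀ B'] [Algebra.IsIntegral B₀ B'] (hinj : Function.Injective (algebraMap B₀ B'))
    (x : B₀) (hx : IsUnit (algebraMap B₀ B' x)) : IsUnit x := by
  by_contra hnu
  obtain ⟨P, hP, hxP⟩ := exists_max_ideal_of_mem_nonunits hnu
  have hker : RingHom.ker (algebraMap B₀ B') = ⊥ := (RingHom.injective_iff_ker_eq_bot _).mp hinj
  obtain ⟨Q, hQ, hQP⟩ := Ideal.exists_ideal_over_maximal_of_isIntegral (S := B') P
    (by rw [hker]; exact bot_le)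
  have : algebraMap B₀ B' x ∈ Q := by
    rw [← Ideal.mem_comap, hQP]; exact hxP
  exact hQ.ne_top (Ideal.eq_top_of_isUnit_mem _ this hx)

end Unit

section Surj

variable (R : Type u) [CommRing R] [IsDomain R] [ValuationRing R] [Ring.KrullDimLE 1 R]
  (t : R) (ht : t ≠ 0) [IsAdicComplete (Ideal.span {t}) R]
  (A : Type u) [CommRing A] [Algebra R A] (f : A)
  (B : Type u) [CommRing B] [Algebra R B] [IsDomain B] [IsLocalRing B]
  (hB : AdicRing.Admissible R (Ideal.span {t}) B) (hdim : ringKrullDim B = 1)
  (u : AdicRing.CLoc (Ideal.span {t}) f →ₐ[R] B) (hu : Function.Surjective u)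

include ht hB hdim hu in
/-- S11542 -/
theorem surjective_comp_of_surjective_cLoc :
    Function.Surjective
      (u.toRingHom.comp (algebraMap A (AdicRing.CLoc (Ideal.span {t}) f))) := by
  haveI hK : Ring.KrullDimLE 1 B := Ring.krullDimLE_iff.mpr hdim.le
  have hBt : TopFiniteType R (Ideal.span {t}) B := CLocLib.tft_of_tfp R _ hB.1
  haveI hfin : Module.Finite R B := finite_of_local_dim_one R t ht B hBt hB.2
  let ι : A →ₐ[R] AdicRing.CLoc (Ideal.span {t}) f := IsScalarTower.toAlgHom R A _
  let ψ : A →ₐ[R] B := u.comp ι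
  have hψ : ∀ a, ψ a = u (algebraMap A (AdicRing.CLoc (Ideal.span {t}) f) a) := fun _ => rfl
  haveI : Algebra.IsIntegral R B := Algebra.IsIntegral.of_finite R B
  haveI : Algebra.IsIntegral ψ.range B := Algebra.IsIntegral.tower_top (R := R)
  have hinj : Function.Injective (algebraMap ψ.range B) := Subtype.val_injective
  -- `ψ f` is a unit of the range
  have hgB : IsUnit (ψ f) := by
    have h1 : IsUnit (algebraMap A (AdicRing.CLoc (Ideal.span {t}) f) f) := by
      rw [IsScalarTower.algebraMap_apply A (Localization.Away f)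
        (AdicRing.CLoc (Ideal.span {t}) f)]
      exact (IsLocalization.Away.algebraMap_isUnit f).map _
    exact h1.map u
  have hg₀ : IsUnit (⟨ψ f, ⟨f, rfl⟩⟩ : ψ.range) :=
    isUnit_of_isUnit_algebraMap_of_isIntegral hinj _ hgB
  obtain ⟨⟨g₀, g₁, hg01, hg10⟩, hg₀'⟩ := hg₀
  simp only at hg₀'
  have hg1 : (g₁ : B) * ψ f = 1 := by
    have := congrArg Subtype.val hg10
    rw [hg₀'] at this
    simpa using this
  -- image of the localization lies in the range
  have h1 : ∀ s : Localization.Away f,
      u (algebraMap (Localization.Away f) (AdicRing.CLoc (Ideal.span {t}) f) s) ∈ ψ.range := by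
    intro s
    obtain ⟨⟨a, ⟨_, n, rfl⟩⟩, hs⟩ := IsLocalization.surj (Submonoid.powers f) s
    simp only at hs
    have e : algebraMap (Localization.Away f) (AdicRing.CLoc (Ideal.span {t}) f) s *
        algebraMap A (AdicRing.CLoc (Ideal.span {t}) f) f ^ n =
        algebraMap A (AdicRing.CLoc (Ideal.span {t}) f) a := by
      rw [IsScalarTower.algebraMap_apply A (Localization.Away f)
        (AdicRing.CLoc (Ideal.span {t}) f), IsScalarTower.algebraMap_apply A (Localization.Away f)
        (AdicRing.CLoc (Ideal.span {t}) f) a, ← map_pow, ← map_mul, ← map_pow, hs]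
    have h2 : u (algebraMap (Localization.Away f) (AdicRing.CLoc (Ideal.span {t}) f) s) *
        ψ f ^ n = ψ a := by
      rw [hψ, hψ, ← map_pow, ← map_mul, e]
    have h3 : u (algebraMap (Localization.Away f) (AdicRing.CLoc (Ideal.span {t}) f) s) =
        ψ a * (g₁ : B) ^ n := by
      rw [← h2, mul_assoc, ← mul_pow, mul_comm (ψ f), hg1, one_pow, mul_one]
    rw [h3]
    exact ψ.range.mul_mem ⟨a, rfl⟩ (ψ.range.pow_mem g₁.2 n)
  -- density
  have h2 : ∀ y : B, ∃ b₀ ∈ ψ.range, ∃ z : B, y = b₀ + t • z := by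
    intro y
    obtain ⟨x, rfl⟩ := hu y
    obtain ⟨s, hs⟩ := CLocLib.exists_sub_mem R (Ideal.span {t}) ⟨{t}, by simp⟩
      (Localization.Away f) 1 x
    have hmap : ∀ (T' : Type u) [CommRing T'] [Algebra R T'],
        ((Ideal.span {t}) ^ 1).map (algebraMap R T') = Ideal.span {algebraMap R T' t} := by
      intro T' _ _
      rw [pow_one, Ideal.map_span, Set.image_singleton]
    rw [hmap, Ideal.mem_span_singleton] at hs
    obtain ⟨w, hw⟩ := hs
    refine ⟨_, h1 s, u w, ?_⟩
    have : x = algebraMap (Localization.Away f) (AdicRing.CLoc (Ideal.span {t}) f) s +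
        algebraMap R _ t * w := by rw [← hw]; ring
    conv_lhs => rw [this]
    rw [map_add, map_mul, AlgHom.commutes, Algebra.smul_def]
  -- Nakayama
  have h3 : (⊤ : Submodule R B) ≤ Subalgebra.toSubmodule ψ.range :=
    Submodule.le_of_le_smul_of_le_jacobson_bot (I := Ideal.span {t}) Module.Finite.fg_top
      (IsAdicComplete.le_jacobson_bot (Ideal.span {t})) (by
        intro y _
        obtain ⟨b₀, hb₀, z, rfl⟩ := h2 y
        exact Submodule.add_mem_sup hb₀
          (Submodule.smul_mem_smul (Ideal.mem_span_singleton_self t) trivial))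
  intro y
  obtain ⟨a, ha⟩ := h3 (trivial : y ∈ (⊤ : Submodule R B))
  exact ⟨a, ha⟩

end Surj

end Groth.Agent.Lib.Seat52.RigPoint
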