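import Groth.Agent.Lib.Seat52ValNorm
import Mathlib.Analysis.Normed.Unbundled.SpectralNorm
import Mathlib.FieldTheory.Minpoly.IsIntegrallyClosed
import Mathlib.RingTheory.Norm.Basic
import Mathlib.RingTheory.Valuation.Integral
import Mathlib.RingTheory.Polynomial.Basic

/-!
# helper52: integrality over a complete height-one valuation ring via the spectral norm
(Bosch FRG §8.3 input: unique extension of complete valuations)
-/

set_option autoImplicit false
set_option linter.unusedSectionVars false
set_option linter.style.haveILetI false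
universe u

namespace Groth.Agent.Lib.Seat52.ValInt

open ValuationRing Polynomial Groth.Agent.Lib.Seat52.ValNorm

variable (R : Type u) [CommRing R] [IsDomain R] [ValuationRing R] [Ring.KrullDimLE 1 R]
  (t : R) (ht : t ≠ 0) [IsAdicComplete (Ideal.span {t}) R]
  (K : Type u) [Field K] [Algebra R K] [IsFractionRing R K]
  (L : Type u) [Field L] [Algebra R L] [Algebra K L] [IsScalarTower R K L]
  [Algebra.IsAlgebraic K L]

lemma isIntegrallyClosed : IsIntegrallyClosed R :=
  Valuation.Integers.isIntegrallyClosed (v := valuation R (FractionRing R))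
    ⟨IsFractionRing.injective R _, fun r => (val_le_one_iff R _ _).mpr ⟨r, rfl⟩,
      fun {x} hx => (val_le_one_iff R _ x).mp hx⟩

lemma isIntegral_of_spectralNorm_le_one (α : L)
    (h : letI := nnf R t ht K; spectralNorm K L α ≤ 1) : IsIntegral R α := by
  letI := nnf R t ht K
  have hmonic : (minpoly K α).Monic := minpoly.monic (Algebra.IsIntegral.isIntegral α)
  rw [spectralNorm, spectralValue_le_one_iff hmonic] at h
  have hl : minpoly K α ∈ Polynomial.lifts (algebraMap R K) := by
    rw [Polynomial.lifts_iff_coeff_lifts]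
    intro n
    obtain ⟨a, ha⟩ := (norm_le_one_iff R t ht K _).mp (h n)
    exact ⟨a, ha⟩
  obtain ⟨q, hq, -, hqm⟩ := Polynomial.lifts_and_degree_eq_and_monic hl hmonic
  refine ⟨q, hqm, ?_⟩
  have : eval₂ (algebraMap R L) α q = aeval α (q.map (algebraMap R K)) := by
    rw [aeval_def, eval₂_map, ← IsScalarTower.algebraMap_eq]
  rw [this, hq, minpoly.aeval]

lemma spectralNorm_le_one_of_isIntegral (α : L) (h : IsIntegral R α) :
    letI := nnf R t ht K; spectralNorm K L α ≤ 1 := by
  haveI := isIntegrallyClosed R
  have hmin := minpoly.isIntegrallyClosed_eq_field_fractions' K h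
  letI := nnf R t ht K
  have hmonic : (minpoly K α).Monic := minpoly.monic (Algebra.IsIntegral.isIntegral α)
  rw [spectralNorm, spectralValue_le_one_iff hmonic]
  intro n
  rw [hmin, coeff_map]
  exact (norm_le_one_iff R t ht K _).mpr ⟨_, rfl⟩

lemma spectralNorm_le_one_iff_coeff_zero (α : L) :
    letI := nnf R t ht K;
    spectralNorm K L α ≤ 1 ↔ (minpoly K α).coeff 0 ∈ (algebraMap R K).range := by
  letI := nnf R t ht K
  haveI := isUltrametricDist R t ht K
  haveI := completeSpace R t ht K
  rw [spectralNorm.spectralNorm_eq_norm_coeff_zero_rpow, RingHom.mem_range, ← norm_le_one_iff R t ht K]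
  have hd : 0 < (minpoly K α).natDegree := minpoly.natDegree_pos (Algebra.IsIntegral.isIntegral α)
  have hd' : (0 : ℝ) < 1 / ((minpoly K α).natDegree : ℝ) := by positivity
  set x := ‖(minpoly K α).coeff 0‖ with hx
  have hx0 : 0 ≤ x := norm_nonneg _
  constructor
  · intro h
    by_contra hlt
    push Not at hlt
    exact absurd h (not_le.mpr (Real.one_lt_rpow hlt hd'))
  · intro h
    exact Real.rpow_le_one hx0 h hd'.le

include ht in
theorem isIntegral_iff_coeff_zero (α : L) :
    IsIntegral R α ↔ (minpoly K α).coeff 0 ∈ (algebraMap R K).range := by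
  rw [← spectralNorm_le_one_iff_coeff_zero R t ht K L α]
  exact ⟨spectralNorm_le_one_of_isIntegral R t ht K L α,
    isIntegral_of_spectralNorm_le_one R t ht K L α⟩

include ht K in
theorem isIntegral_or_isIntegral_inv (α : L) : IsIntegral R α ∨ IsIntegral R α⁻¹ := by
  by_cases h0 : α = 0
  · left; rw [h0]; exact isIntegral_zero
  letI := nnf R t ht K
  haveI := isUltrametricDist R t ht K
  haveI := completeSpace R t ht K
  have hmul : spectralNorm K L α * spectralNorm K L α⁻¹ = 1 := by
    have := spectralAlgNorm_mul (K := K) (L := L) α α⁻¹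
    rw [mul_inv_cancel₀ h0, spectralAlgNorm_one] at this
    exact this.symm
  by_cases h1 : spectralNorm K L α ≤ 1
  · exact Or.inl (isIntegral_of_spectralNorm_le_one R t ht K L α h1)
  · right
    apply isIntegral_of_spectralNorm_le_one R t ht K L
    push Not at h1
    by_contra h2
    push Not at h2
    have : 1 < spectralNorm K L α * spectralNorm K L α⁻¹ := by
      calc (1 : ℝ) = 1 * 1 := (one_mul 1).symm
        _ < spectralNorm K L α * spectralNorm K L α⁻¹ :=
          mul_lt_mul h1 h2.le one_pos (le_trans zero_le_one h1.le)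
    exact absurd hmul (ne_of_gt this)

include ht in
/-- S11544 -/
theorem isIntegral_iff_norm_gen_mem (α : L) :
    IsIntegral R α ↔
      Algebra.norm K (IntermediateField.AdjoinSimple.gen K α) ∈ (algebraMap R K).range := by
  rw [isIntegral_iff_coeff_zero R t ht K L α]
  have hα : IsIntegral K α := Algebra.IsIntegral.isIntegral α
  have h1 := Algebra.PowerBasis.norm_gen_eq_coeff_zero_minpoly
    (IntermediateField.adjoin.powerBasis hα)
  rw [IntermediateField.adjoin.powerBasis_gen, IntermediateField.minpoly_gen] at h1
  rw [h1]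
  set d := (IntermediateField.adjoin.powerBasis hα).dim
  set c := (minpoly K α).coeff 0
  have hu : ((-1 : K) ^ d) ∈ (algebraMap R K).range := ⟨(-1) ^ d, by simp⟩
  constructor
  · intro hc
    exact Subring.mul_mem _ hu hc
  · intro hc
    have : c = (-1 : K) ^ d * ((-1) ^ d * c) := by
      rw [← mul_assoc, ← pow_add, ← two_mul, pow_mul, neg_one_sq, one_pow, one_mul]
    rw [this]
    exact Subring.mul_mem _ hu hc

end Groth.Agent.Lib.Seat52.ValInt
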