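import Groth.Agent.Lib.Seat52RigPoint3
import Groth.Agent.Lib.Seat52ValInt
import Mathlib.RingTheory.Localization.Integral

/-!
# helper52: rig-points (Bosch FRG §8.3), part 4: the integral closure of a rig-point algebra in its
fraction field is a valuation ring (S11541).
-/

set_option autoImplicit false
set_option linter.style.haveILetI false
set_option linter.unusedSectionVars false
universe u

namespace Groth.Agent.Lib.Seat52.RigPoint

open AdicRing IsLocalRing Groth.Agent.Lib.Seat52.AdicBase

section ValRing

variable (R : Type u) [CommRing R] [IsDomain R] [ValuationRing R] [Ring.KrullDimLE 1 R]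
  (t : R) (ht : t ≠ 0) [IsAdicComplete (Ideal.span {t}) R]
  (B : Type u) [CommRing B] [Algebra R B] [IsDomain B] [IsLocalRing B]
  (hB : TopFiniteType R (Ideal.span {t}) B) (htor : NoPowTorsion (Ideal.span {t}) B)
  [Ring.KrullDimLE 1 B]

include htor in
lemma faithfulSMul : FaithfulSMul R B := by
  rw [faithfulSMul_iff_algebraMap_injective, injective_iff_map_eq_zero]
  intro a ha
  by_contra ha0
  obtain ⟨k, c, hc⟩ := ValRing.exists_dvd_pow R t ha0
  apply one_ne_zero (α := B)
  apply htor 1 k
  intro b hb
  rw [Ideal.span_singleton_pow, Ideal.mem_span_singleton] at hb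
  obtain ⟨d, rfl⟩ := hb
  rw [Algebra.smul_def, mul_one, hc, map_mul, map_mul, ha, zero_mul, zero_mul]

include ht hB htor in
/-- every element of the fraction field of a rig-point algebra, or its inverse, is integral over
`R` -/
theorem isIntegral_or_isIntegral_inv_fractionRing (x : FractionRing B) :
    IsIntegral B x ∨ IsIntegral B x⁻¹ := by
  haveI := faithfulSMul R t B htor
  letI : Algebra (FractionRing R) (FractionRing B) := FractionRing.liftAlgebra R (FractionRing B)
  haveI : IsScalarTower R (FractionRing R) (FractionRing B) :=
    FractionRing.isScalarTower_liftAlgebra R (FractionRing B)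
  haveI hfin : Module.Finite R B := finite_of_local_dim_one R t ht B hB htor
  haveI : Algebra.IsIntegral R B := Algebra.IsIntegral.of_finite R B
  haveI : Algebra.IsAlgebraic R B := Algebra.IsIntegral.isAlgebraic
  haveI : Algebra.IsAlgebraic R (FractionRing B) :=
    (IsFractionRing.isAlgebraic_iff' R B (FractionRing B)).mp
      (inferInstance : Algebra.IsAlgebraic R B)
  haveI : Algebra.IsAlgebraic (FractionRing R) (FractionRing B) :=
    (IsFractionRing.comap_isAlgebraic_iff (A := R) (K := FractionRing R)
      (C := FractionRing B)).mp inferInstance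
  rcases ValInt.isIntegral_or_isIntegral_inv R t ht (FractionRing R) (FractionRing B) x with h | h
  · exact Or.inl h.tower_top
  · exact Or.inr h.tower_top

include ht hB htor in
theorem valuationRing_integralClosure :
    ValuationRing (integralClosure B (FractionRing B)) := by
  haveI : IsFractionRing (integralClosure B (FractionRing B)) (FractionRing B) :=
    integralClosure.isFractionRing_of_finite_extension (FractionRing B) (FractionRing B)
  rw [ValuationRing.iff_isInteger_or_isInteger (integralClosure B (FractionRing B))
    (FractionRing B)]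
  intro x
  rcases isIntegral_or_isIntegral_inv_fractionRing R t ht B hB htor x with h | h
  · exact Or.inl ⟨⟨x, h⟩, rfl⟩
  · exact Or.inr ⟨⟨x⁻¹, h⟩, rfl⟩

end ValRing

/-- S11541 -/
theorem finite_and_valuationRing
    (R : Type u) [CommRing R] [IsDomain R] [ValuationRing R] [Ring.KrullDimLE 1 R]
    (t : R) (ht : t ≠ 0) [IsAdicComplete (Ideal.span {t}) R]
    (B : Type u) [CommRing B] [Algebra R B] [IsDomain B] [IsLocalRing B]
    (hB : AdicRing.Admissible R (Ideal.span {t}) B) (hdim : ringKrullDim B = 1) :
    Module.Finite R B ∧ ValuationRing (integralClosure B (FractionRing B)) := by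
  haveI hK : Ring.KrullDimLE 1 B := Ring.krullDimLE_iff.mpr hdim.le
  have hBt : TopFiniteType R (Ideal.span {t}) B := CLocLib.tft_of_tfp R _ hB.1
  exact ⟨finite_of_local_dim_one R t ht B hBt hB.2,
    valuationRing_integralClosure R t ht B hBt hB.2⟩

end Groth.Agent.Lib.Seat52.RigPoint
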