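import Groth.Agent.Lib.Seat52RigPoint4

/-!
# helper52: rig-points (Bosch FRG §8.3), part 5: lifting a rig-point along a formal blowing-up
(S13354)
-/

set_option autoImplicit false
set_option linter.style.haveILetI false
set_option linter.unusedSectionVars false
universe u

namespace Groth.Agent.Lib.Seat52.RigPoint

open AdicRing IsLocalRing Groth.Agent.Lib.Seat52.AdicBase

section Dim

/-- an integral extension domain of a one-dimensional domain has dimension at most one -/
lemma krullDimLE_one_of_isIntegral {B C : Type*} [CommRing B] [IsDomain B] [Ring.KrullDimLE 1 B]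
    [CommRing C] [IsDomain C] [Algebra B C] [Algebra.IsIntegral B C] : Ring.KrullDimLE 1 C := by
  refine Ring.KrullDimLE.mk₁' fun Q hQ hQp => ?_
  haveI := hQp
  have h1 : Q.comap (algebraMap B C) ≠ ⊥ := fun h => hQ (Ideal.eq_bot_of_comap_eq_bot h)
  have h2 : (Q.comap (algebraMap B C)).IsMaximal :=
    (Ideal.IsPrime.comap (algebraMap B C)).isMaximal_of_ne_bot h1
  exact Ideal.isMaximal_of_isIntegral_of_isMaximal_comap Q h2

end Dim

section Max

/-- a total, transitive, reflexive relation on a nonempty finite set has a greatest element -/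
lemma exists_max_of_total {ι : Type*} (P : ι → ι → Prop) (hrefl : ∀ i, P i i)
    (htrans : ∀ i j k, P i j → P j k → P i k) (htot : ∀ i j, P i j ∨ P j i)
    (S : Finset ι) (hS : S.Nonempty) : ∃ i ∈ S, ∀ j ∈ S, P j i := by
  classical
  induction hS using Finset.Nonempty.cons_induction with
  | singleton a => exact ⟨a, Finset.mem_singleton_self a, fun j hj => by
      rw [Finset.mem_singleton.mp hj]; exact hrefl a⟩
  | cons a s ha hs ih =>
    obtain ⟨i, hi, hmax⟩ := ih
    rcases htot a i with h | h
    · refine ⟨i, Finset.mem_cons.mpr (Or.inr hi), fun j hj => ?_⟩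
      rcases Finset.mem_cons.mp hj with rfl | hj'
      · exact h
      · exact hmax j hj'
    · refine ⟨a, Finset.mem_cons_self a s, fun j hj => ?_⟩
      rcases Finset.mem_cons.mp hj with rfl | hj'
      · exact hrefl _
      · exact htrans _ _ _ (hmax j hj') h

end Max

section Blowup

/-- S13354 -/
theorem exists_finite_local_subalgebra
    (R : Type u) [CommRing R] [IsDomain R] [ValuationRing R] [Ring.KrullDimLE 1 R]
    (t : R) (ht : t ≠ 0) [IsAdicComplete (Ideal.span {t}) R]
    (B : Type u) [CommRing B] [Algebra R B] [IsDomain B] [IsLocalRing B]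
    (hB : AdicRing.Admissible R (Ideal.span {t}) B) (hdim : ringKrullDim B = 1)
    (n : ℕ) (b : Fin n → B) (hb : ∃ i, b i ≠ 0) :
    ∃ B' : Subalgebra B (FractionRing B), Module.Finite B ↥B' ∧ IsLocalRing ↥B' ∧
      ringKrullDim ↥B' = 1 ∧
      ∃ i, Ideal.span (Set.range (fun j => algebraMap B ↥B' (b j))) =
        Ideal.span {algebraMap B ↥B' (b i)} := by
  classical
  haveI hK : Ring.KrullDimLE 1 B := Ring.krullDimLE_iff.mpr hdim.le
  have hBt : TopFiniteType R (Ideal.span {t}) B := CLocLib.tft_of_tfp R _ hB.1
  have hinjL : Function.Injective (algebraMap B (FractionRing B)) :=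
    IsFractionRing.injective B (FractionRing B)
  -- the total preorder on the nonzero `b i`
  let P : {i : Fin n // b i ≠ 0} → {i : Fin n // b i ≠ 0} → Prop := fun j i =>
    IsIntegral B (algebraMap B (FractionRing B) (b j.1) / algebraMap B (FractionRing B) (b i.1))
  have hne : ∀ i : {i : Fin n // b i ≠ 0}, algebraMap B (FractionRing B) (b i.1) ≠ 0 :=
    fun i => (map_ne_zero_iff _ hinjL).mpr i.2
  have hrefl : ∀ i, P i i := fun i => by
    change IsIntegral B (_ / _)
    rw [div_self (hne i)]
    exact isIntegral_one
  have htrans : ∀ i j k, P i j → P j k → P i k := fun i j k h1 h2 => by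
    have := h1.mul h2
    rwa [div_mul_div_cancel₀ (hne j)] at this
  have htot : ∀ i j, P i j ∨ P j i := fun i j => by
    have := isIntegral_or_isIntegral_inv_fractionRing R t ht B hBt hB.2
      (algebraMap B (FractionRing B) (b i.1) / algebraMap B (FractionRing B) (b j.1))
    rwa [inv_div] at this
  obtain ⟨i₁, hi₁⟩ := hb
  obtain ⟨i₀, -, hmax⟩ := exists_max_of_total P hrefl htrans htot Finset.univ
    ⟨⟨i₁, hi₁⟩, Finset.mem_univ _⟩
  let g : Fin n → FractionRing B := fun j =>
    algebraMap B (FractionRing B) (b j) / algebraMap B (FractionRing B) (b i₀.1)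
  have hg : ∀ j, IsIntegral B (g j) := by
    intro j
    by_cases hj : b j = 0
    · change IsIntegral B (_ / _)
      rw [hj, map_zero, zero_div]
      exact isIntegral_zero
    · exact hmax ⟨j, hj⟩ (Finset.mem_univ _)
  refine ⟨Algebra.adjoin B (Set.range g), ?_, ?_⟩
  · exact Algebra.finite_adjoin_of_finite_of_isIntegral (Set.finite_range g)
      (by rintro _ ⟨j, rfl⟩; exact hg j)
  -- local and of dimension one, through the integral closure
  have hle : Algebra.adjoin B (Set.range g) ≤ integralClosure B (FractionRing B) :=
    Algebra.adjoin_le (by rintro _ ⟨j, rfl⟩; exact hg j)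
  haveI hval : ValuationRing (integralClosure B (FractionRing B)) :=
    valuationRing_integralClosure R t ht B hBt hB.2
  haveI : Ring.KrullDimLE 1 (integralClosure B (FractionRing B)) :=
    krullDimLE_one_of_isIntegral (B := B)
  letI : Algebra (Algebra.adjoin B (Set.range g)) (integralClosure B (FractionRing B)) :=
    (Subalgebra.inclusion hle).toRingHom.toAlgebra
  haveI : IsScalarTower B (Algebra.adjoin B (Set.range g))
      (integralClosure B (FractionRing B)) :=
    IsScalarTower.of_algebraMap_eq fun x => rfl
  haveI : Algebra.IsIntegral (Algebra.adjoin B (Set.range g))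
      (integralClosure B (FractionRing B)) := Algebra.IsIntegral.tower_top (R := B)
  have hinj : Function.Injective (algebraMap (Algebra.adjoin B (Set.range g))
      (integralClosure B (FractionRing B))) := Subalgebra.inclusion_injective hle
  have htB0 : algebraMap R B t ≠ 0 := algebraMap_t_ne_zero R t B hB.2
  have h := local_dim_one_of_isIntegral (B₀ := Algebra.adjoin B (Set.range g))
    (B' := integralClosure B (FractionRing B)) hinj
    (algebraMap B _ (algebraMap R B t)) (by
      intro h0
      apply htB0
      apply hinjL
      have := congrArg Subtype.val h0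
      simpa using this) (by
      intro hu
      have hu' : IsUnit (algebraMap B (integralClosure B (FractionRing B))
          (algebraMap R B t)) := hu
      have hinjC : Function.Injective (algebraMap B (integralClosure B (FractionRing B))) := by
        intro x y hxy
        apply hinjL
        exact congrArg Subtype.val hxy
      have h1 := isUnit_of_isUnit_algebraMap_of_isIntegral hinjC _ hu'
      have h2 := algebraMap_t_mem_maximalIdeal R t ht B hBt
      rw [mem_maximalIdeal, mem_nonunits_iff] at h2
      exact h2 h1)
  refine ⟨h.1, h.2, i₀.1, ?_⟩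
  apply le_antisymm
  · rw [Ideal.span_le]
    rintro _ ⟨j, rfl⟩
    rw [SetLike.mem_coe, Ideal.mem_span_singleton]
    refine ⟨⟨g j, Algebra.subset_adjoin ⟨j, rfl⟩⟩, ?_⟩
    apply Subtype.ext
    change algebraMap B (FractionRing B) (b j) =
      algebraMap B (FractionRing B) (b i₀.1) * g j
    simp only [g]
    rw [mul_div_cancel₀ _ (hne i₀)]
  · rw [Ideal.span_le, Set.singleton_subset_iff]
    exact Ideal.subset_span ⟨i₀.1, rfl⟩

end Blowup

end Groth.Agent.Lib.Seat52.RigPoint
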