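import Mathlib.RingTheory.Valuation.ValuationRing
import Mathlib.RingTheory.KrullDimension.Basic
import Mathlib.RingTheory.AdicCompletion.Basic
import Mathlib.RingTheory.Flat.TorsionFree
import Mathlib.RingTheory.Nilpotent.Lemmas
import Mathlib.RingTheory.LocalRing.Quotient

set_option autoImplicit false
universe u

namespace Groth.Agent.Lib.Seat52.ValRing

open IsLocalRing

variable (R : Type u) [CommRing R] [IsDomain R] [ValuationRing R] (t : R)

section Hausdorff

variable [IsHausdorff (Ideal.span {t}) R]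

include R in
omit [ValuationRing R] in
lemma not_isUnit : ¬ IsUnit t := by
  intro hu
  have htop : Ideal.span {t} = ⊤ := Ideal.span_singleton_eq_top.mpr hu
  have h1 : (1 : R) = 0 := by
    apply IsHausdorff.haus (I := Ideal.span {t}) ‹_›
    intro n
    rw [htop, Ideal.top_pow, SModEq.zero]
    simp
  exact one_ne_zero h1

/-- every nonzero element divides a power of `t` -/
lemma exists_dvd_pow {a : R} (ha : a ≠ 0) : ∃ k : ℕ, a ∣ t ^ k := by
  by_contra hcon
  push Not at hcon
  apply ha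
  apply IsHausdorff.haus (I := Ideal.span {t}) ‹_›
  intro k
  rw [SModEq.zero, Ideal.smul_eq_mul, Ideal.mul_top, Ideal.span_singleton_pow,
    Ideal.mem_span_singleton]
  exact (ValuationRing.dvd_total (t ^ k) a).resolve_right (hcon k)

end Hausdorff

/-- in height one, every non-unit has a power divisible by `t ≠ 0` -/
lemma exists_pow_dvd [Ring.KrullDimLE 1 R] (ht : t ≠ 0) {a : R} (ha : ¬ IsUnit a) :
    ∃ k : ℕ, t ∣ a ^ k := by
  have hrad : a ∈ (Ideal.span {t}).radical := by
    rw [Ideal.radical_eq_sInf, Ideal.mem_sInf]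
    rintro J ⟨hJ, hJp⟩
    have hJ0 : J ≠ ⊥ := by
      intro h0
      rw [h0] at hJ
      exact ht ((Ideal.span_singleton_eq_bot).mp (le_bot_iff.mp hJ))
    have hmax : J.IsMaximal := hJp.isMaximal_of_ne_bot hJ0
    rw [IsLocalRing.eq_maximalIdeal hmax]
    exact (mem_maximalIdeal a).mpr ha
  obtain ⟨k, hk⟩ := hrad
  exact ⟨k, Ideal.mem_span_singleton.mp hk⟩

section Quot

variable [IsHausdorff (Ideal.span {t}) R]

lemma span_ne_top : Ideal.span {t} ≠ (⊤ : Ideal R) := fun h =>
  not_isUnit R t (Ideal.span_singleton_eq_top.mp h)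

instance nontrivial_quot : Nontrivial (R ⧸ Ideal.span {t}) :=
  Ideal.Quotient.nontrivial_iff.mpr (span_ne_top R t)

instance isLocalRing_quot : IsLocalRing (R ⧸ Ideal.span {t}) :=
  IsLocalRing.of_surjective' (Ideal.Quotient.mk (Ideal.span {t})) Ideal.Quotient.mk_surjective

omit [IsHausdorff (Ideal.span {t}) R] in
lemma chain_quot (a b : R ⧸ Ideal.span {t}) : a ∣ b ∨ b ∣ a := by
  obtain ⟨a, rfl⟩ := Ideal.Quotient.mk_surjective a
  obtain ⟨b, rfl⟩ := Ideal.Quotient.mk_surjective b
  rcases ValuationRing.dvd_total a b with h | h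
  · exact Or.inl (map_dvd _ h)
  · exact Or.inr (map_dvd _ h)

lemma nil_quot [Ring.KrullDimLE 1 R] (ht : t ≠ 0) (a : R ⧸ Ideal.span {t})
    (ha : a ∈ maximalIdeal (R ⧸ Ideal.span {t})) : IsNilpotent a := by
  obtain ⟨a, rfl⟩ := Ideal.Quotient.mk_surjective a
  have hnu : ¬ IsUnit a := fun hu => (mem_maximalIdeal _).mp ha (hu.map _)
  obtain ⟨k, hk⟩ := exists_pow_dvd R t ht hnu
  refine ⟨k, ?_⟩
  rw [← map_pow, Ideal.Quotient.eq_zero_iff_mem, Ideal.mem_span_singleton]
  exact hk

end Quot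

end Groth.Agent.Lib.Seat52.ValRing
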