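import Groth.Agent.Lib.Seat52ChainFP
import Groth.Agent.Lib.Seat52ValRing
import Mathlib.Algebra.Module.Torsion.Basic
import Mathlib.RingTheory.Ideal.Over

set_option autoImplicit false
universe u

namespace Groth.Agent.Lib.Seat52.SatFG

open IsLocalRing

section Approx

variable {T : Type*} [CommRing T] (τ : T)
  (hT_haus : ∀ x : T, (∀ k : ℕ, τ ^ k ∣ x) → x = 0)
  (hT_compl : ∀ a : ℕ → T, ∃ L : T, ∀ k : ℕ, τ ^ k ∣ L - ∑ i ∈ Finset.range k, τ ^ i * a i)

include hT_haus hT_compl in
/-- Successive approximation: if `N ⊆ span G + τ N` inside the `τ`-adically separated module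
`T^s` over the `τ`-adically complete ring `T`, then `N ⊆ span G`. -/
theorem le_span_of_le_span_sup_smul {s : ℕ} (N : Submodule T (Fin s → T))
    {r : ℕ} (g : Fin r → (Fin s → T))
    (h : ∀ x ∈ N, ∃ (c : Fin r → T) (y : Fin s → T), y ∈ N ∧ x = ∑ i, c i • g i + τ • y) :
    N ≤ Submodule.span T (Set.range g) := by
  intro x hx
  -- build the sequences
  choose! c y hy hxy using h
  let xs : ℕ → (Fin s → T) := fun k => Nat.rec x (fun _ z => y z) k
  have hxs : ∀ k, xs k ∈ N := by
    intro k
    induction k with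
    | zero => exact hx
    | succ k ih => exact hy _ ih
  have hrec : ∀ k, xs k = ∑ i, c (xs k) i • g i + τ • xs (k + 1) := fun k => hxy _ (hxs k)
  choose L hL using fun i : Fin r => hT_compl (fun k => c (xs k) i)
  have hpart : ∀ k : ℕ, x = ∑ i, (∑ j ∈ Finset.range k, τ ^ j * c (xs j) i) • g i +
      τ ^ k • xs k := by
    intro k
    induction k with
    | zero => simp [xs]
    | succ k ih =>
      rw [ih]
      nth_rewrite 1 [hrec k]
      simp only [Finset.sum_range_succ, add_smul, Finset.sum_add_distrib, smul_add,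
        Finset.smul_sum, smul_smul, pow_succ]
      abel
  have hfinal : x = ∑ i, L i • g i := by
    funext l
    have : x l - (∑ i, L i • g i) l = 0 := by
      apply hT_haus
      intro k
      have h1 := congrFun (hpart k) l
      choose d hd using fun i => hL i k
      have : x l - (∑ i, L i • g i) l = τ ^ k * (xs k l - ∑ i, d i * g i l) := by
        rw [h1]
        simp only [Finset.sum_apply, Pi.add_apply, Pi.smul_apply, smul_eq_mul]
        have : ∀ i, L i = ∑ j ∈ Finset.range k, τ ^ j * c (xs j) i + τ ^ k * d i := fun i => by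
          rw [← hd i]; ring
        simp only [this, add_mul, Finset.sum_add_distrib, mul_sub, Finset.mul_sum]
        have : ∀ i, τ ^ k * d i * g i l = τ ^ k * (d i * g i l) := fun i => by ring
        simp only [this]
        ring
      rw [this]
      exact Dvd.intro _ rfl
    exact sub_eq_zero.mp this
  rw [hfinal]
  exact Submodule.sum_mem _ fun i _ => Submodule.smul_mem _ _ (Submodule.subset_span ⟨i, rfl⟩)

end Approx

section Main

variable (R : Type u) [CommRing R] [IsDomain R] [ValuationRing R] [Ring.KrullDimLE 1 R]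
  (t : R) (ht : t ≠ 0) [IsHausdorff (Ideal.span {t}) R]
  (T : Type u) [CommRing T] [Algebra R T]
  (hT_haus : ∀ x : T, (∀ k : ℕ, algebraMap R T t ^ k ∣ x) → x = 0)
  (hT_compl : ∀ a : ℕ → T, ∃ L : T, ∀ k : ℕ,
    algebraMap R T t ^ k ∣ L - ∑ i ∈ Finset.range k, algebraMap R T t ^ i * a i)
  (n : ℕ)
  (φ : MvPolynomial (Fin n) (R ⧸ Ideal.span {t}) →ₐ[R ⧸ Ideal.span {t}]
    T ⧸ (Ideal.span {t}).map (algebraMap R T))
  (hφ : Function.Surjective φ)

include ht hT_haus hT_compl hφ in
/-- Key theorem: over `T` (e.g. restricted power series over a complete height-one valuation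
ring), `t`-saturated submodules of `T^s` are finitely generated. -/
theorem fg_of_saturated (s : ℕ) (N : Submodule T (Fin s → T))
    (hsat : ∀ x : Fin s → T, algebraMap R T t • x ∈ N → x ∈ N) : N.FG := by
  classical
  set τ : T := algebraMap R T t with hτ
  set Jm : Ideal T := (Ideal.span {t}).map (algebraMap R T) with hJm
  have hJm' : Jm = Ideal.span {τ} := by rw [hJm, Ideal.map_span, Set.image_singleton]
  set N' : Submodule T (Fin s → T) := N ⊔ Jm • ⊤ with hN'
  have htors : Module.IsTorsionBySet T ((Fin s → T) ⧸ N') (Jm : Set T) := by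
    rw [Module.isTorsionBySet_quotient_iff]
    intro x r hr
    exact Submodule.mem_sup_right (Submodule.smul_mem_smul hr trivial)
  let _ : Module (T ⧸ Jm) ((Fin s → T) ⧸ N') := htors.module
  let _ : Module (R ⧸ Ideal.span {t}) ((Fin s → T) ⧸ N') :=
    Module.compHom _ (algebraMap (R ⧸ Ideal.span {t}) (T ⧸ Jm))
  have : IsScalarTower (R ⧸ Ideal.span {t}) (T ⧸ Jm) ((Fin s → T) ⧸ N') :=
    ⟨fun b c x => by
      rw [Algebra.smul_def, mul_smul]
      rfl⟩
  have hsmulR : ∀ (c : R) (x : (Fin s → T) ⧸ N'),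
      (Ideal.Quotient.mk (Ideal.span {t}) c) • x = (algebraMap R T c) • x := fun _ _ => rfl
  have hJtop : ∀ z : Fin s → T, z ∈ (Jm • ⊤ : Submodule T (Fin s → T)) ↔ ∃ y, z = τ • y := by
    intro z
    rw [hJm', Submodule.ideal_span_singleton_smul, Submodule.mem_smul_pointwise_iff_exists]
    constructor
    · rintro ⟨y, -, rfl⟩; exact ⟨y, rfl⟩
    · rintro ⟨y, rfl⟩; exact ⟨y, trivial, rfl⟩
  -- saturation for elements dividing a power of `t`
  have hsatpow : ∀ (k : ℕ) (z : Fin s → T), τ ^ k • z ∈ N → z ∈ N := by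
    intro k
    induction k with
    | zero => intro z hz; simpa using hz
    | succ k ih =>
      intro z hz
      apply ih
      apply hsat
      rwa [smul_smul, ← pow_succ']
  have hsatc : ∀ (c : R), c ≠ 0 → ∀ z : Fin s → T, algebraMap R T c • z ∈ N → z ∈ N := by
    intro c hc z hz
    obtain ⟨k, d, hd⟩ := ValRing.exists_dvd_pow R t hc
    apply hsatpow k
    rw [hτ, ← map_pow, hd, map_mul, mul_comm, mul_smul]
    exact N.smul_mem _ hz
  have hQ : ∀ (c : R ⧸ Ideal.span {t}) (x : (Fin s → T) ⧸ N'), c • x = 0 →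
      ∃ (k : ℕ) (e : Fin k → R ⧸ Ideal.span {t}) (y : Fin k → (Fin s → T) ⧸ N'),
        x = ∑ j, e j • y j ∧ ∀ j, c * e j = 0 := by
    intro c x hcx
    obtain ⟨c₀, rfl⟩ := Ideal.Quotient.mk_surjective c
    obtain ⟨x₀, rfl⟩ := Submodule.Quotient.mk_surjective _ x
    by_cases hc₀ : c₀ ∈ Ideal.span {t}
    · refine ⟨1, fun _ => 1, fun _ => Submodule.Quotient.mk x₀, by simp, fun _ => ?_⟩
      rw [Ideal.Quotient.eq_zero_iff_mem.mpr hc₀, zero_mul]
    · rw [Ideal.mem_span_singleton] at hc₀
      obtain ⟨c', hc'⟩ := (ValuationRing.dvd_total t c₀).resolve_left hc₀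
      have hc₀ne : c₀ ≠ 0 := by rintro rfl; exact hc₀ (dvd_zero t)
      rw [hsmulR, ← Submodule.Quotient.mk_smul, Submodule.Quotient.mk_eq_zero, hN',
        Submodule.mem_sup] at hcx
      obtain ⟨n₀, hn₀, j, hj, hsum⟩ := hcx
      obtain ⟨y₀, rfl⟩ := (hJtop j).mp hj
      have hmem : x₀ - algebraMap R T c' • y₀ ∈ N := by
        apply hsatc c₀ hc₀ne
        have : algebraMap R T c₀ • (x₀ - algebraMap R T c' • y₀) = n₀ := by
          rw [smul_sub, smul_smul, ← map_mul, ← hc', ← hsum, hτ]
          abel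
        rw [this]; exact hn₀
      refine ⟨1, fun _ => Ideal.Quotient.mk _ c', fun _ => Submodule.Quotient.mk y₀, ?_,
        fun _ => ?_⟩
      · rw [Fin.sum_univ_one, hsmulR, ← Submodule.Quotient.mk_smul, eq_comm,
          ← sub_eq_zero, ← Submodule.Quotient.mk_sub, Submodule.Quotient.mk_eq_zero, hN']
        rw [← neg_sub]
        exact Submodule.mem_sup_left (N.neg_mem hmem)
      · rw [← map_mul, ← hc', Ideal.Quotient.eq_zero_iff_mem]
        exact Ideal.mem_span_singleton_self t
  have hfinT : Module.Finite T ((Fin s → T) ⧸ N') := Module.Finite.quotient T N'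
  have htower : IsScalarTower T (T ⧸ Jm) ((Fin s → T) ⧸ N') :=
    Module.IsTorsionBySet.isScalarTower htors
  have hfin : Module.Finite (T ⧸ Jm) ((Fin s → T) ⧸ N') :=
    Module.Finite.of_restrictScalars_finite T (T ⧸ Jm) _
  have hfpS : Module.FinitePresentation (T ⧸ Jm) ((Fin s → T) ⧸ N') :=
    ChainFP.finitePresentation_of_flat_of_surjective (ValRing.chain_quot R t)
      (ValRing.nil_quot R t ht) n φ hφ _ hQ
  have hfpTS : Module.FinitePresentation T (T ⧸ Jm) := by
    refine Module.finitePresentation_of_surjective (Submodule.mkQ Jm)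
      (Submodule.mkQ_surjective Jm) ?_
    rw [Submodule.ker_mkQ, hJm']
    exact ⟨{τ}, by simp⟩
  have hfpT : Module.FinitePresentation T ((Fin s → T) ⧸ N') :=
    Module.FinitePresentation.trans T _ (T ⧸ Jm)
  have hN'fg : N'.FG := by
    have := Module.FinitePresentation.fg_ker N'.mkQ (Submodule.mkQ_surjective N')
    rwa [Submodule.ker_mkQ] at this
  obtain ⟨r, u, hu⟩ := Submodule.fg_iff_exists_fin_generating_family.mp hN'fg
  have hudec : ∀ i, ∃ n₀ ∈ N, ∃ y, u i = n₀ + τ • y := by
    intro i
    have : u i ∈ N' := by rw [← hu]; exact Submodule.subset_span ⟨i, rfl⟩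
    obtain ⟨n₀, hn₀, j, hj, hsum⟩ := Submodule.mem_sup.mp this
    obtain ⟨y, rfl⟩ := (hJtop j).mp hj
    exact ⟨n₀, hn₀, y, hsum.symm⟩
  choose g hgN y hgy using hudec
  have hle : N ≤ Submodule.span T (Set.range g) := by
    apply le_span_of_le_span_sup_smul τ hT_haus hT_compl N g
    intro x hx
    have hx' : x ∈ Submodule.span T (Set.range u) := by
      rw [hu]; exact Submodule.mem_sup_left hx
    obtain ⟨c, hc⟩ := (Submodule.mem_span_range_iff_exists_fun T).mp hx'
    refine ⟨c, ∑ i, c i • y i, ?_, ?_⟩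
    · apply hsat
      have : τ • ∑ i, c i • y i = x - ∑ i, c i • g i := by
        rw [← hc]
        simp only [hgy, smul_add, Finset.sum_add_distrib, Finset.smul_sum, smul_comm τ]
        abel
      rw [this]
      exact N.sub_mem hx (N.sum_mem fun i _ => N.smul_mem _ (hgN i))
    · rw [← hc]
      simp only [hgy, smul_add, Finset.sum_add_distrib, Finset.smul_sum, smul_comm τ]
  have : N = Submodule.span T (Set.range g) :=
    le_antisymm hle (Submodule.span_le.mpr (by rintro _ ⟨i, rfl⟩; exact hgN i))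
  rw [this]
  exact Submodule.fg_span (Set.finite_range g)

end Main

end Groth.Agent.Lib.Seat52.SatFG
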