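import Mathlib
import Groth.Agent.Lib.Seat52ValRG

/-!
# helper52: flatness over semi-valuation rings

Abstract setting: a ring `O` with a prime `𝔭` such that `A = O_𝔭` contains `O`, `𝔭 = s𝔭` for all
`s ∉ 𝔭` (so `𝔭` is an ideal of `A`), and the elements outside `𝔭` are totally ordered by
divisibility (`O/𝔭` is a valuation ring). An `O`-algebra `C` with `C ⊆ A ⊗ C` and `A ⊗ C` flat
over `A` is flat over `O`.
-/

set_option autoImplicit false
set_option linter.style.haveILetI false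
set_option linter.unusedSectionVars false
universe u

namespace Groth.Agent.Lib.Seat52.SemiVal

open TensorProduct

section Abstract

variable {O A : Type u} [CommRing O] [CommRing A] [Algebra O A] (𝔭 : Ideal O) [𝔭.IsPrime]
  [IsLocalization.AtPrime A 𝔭]

include A in
lemma reg_of_inj (hinj : Function.Injective (algebraMap O A)) (s : O) (hs : s ∉ 𝔭) (x : O)
    (h : s * x = 0) : x = 0 := by
  apply hinj
  have hu : IsUnit (algebraMap O A s) := IsLocalization.map_units A (⟨s, hs⟩ : 𝔭.primeCompl)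
  have := congrArg (algebraMap O A) h
  rw [map_mul, map_zero] at this
  rw [map_zero]
  exact (hu.mul_right_eq_zero).mp this

lemma exists_min_dvd (hval : ∀ x y : O, x ∉ 𝔭 → y ∉ 𝔭 → x ∣ y ∨ y ∣ x) {ι : Type*} (o : ι → O) :
    ∀ T : Finset ι, T.Nonempty → (∀ k ∈ T, o k ∉ 𝔭) → ∃ k₀ ∈ T, ∀ k ∈ T, o k₀ ∣ o k := by
  intro T hT
  induction hT using Finset.Nonempty.cons_induction with
  | singleton a =>
    intro _
    exact ⟨a, Finset.mem_singleton_self a, fun k hk => by rw [Finset.mem_singleton.mp hk]⟩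
  | cons a s ha hs ih =>
    intro hT'
    obtain ⟨k₀, hk₀, hk⟩ := ih (fun k hk => hT' k (Finset.mem_cons_of_mem hk))
    rcases hval (o a) (o k₀) (hT' a (Finset.mem_cons_self a s))
      (hT' k₀ (Finset.mem_cons_of_mem hk₀)) with h | h
    · refine ⟨a, Finset.mem_cons_self a s, fun k hk' => ?_⟩
      rcases Finset.mem_cons.mp hk' with rfl | hk'
      · exact dvd_rfl
      · exact h.trans (hk k hk')
    · refine ⟨k₀, Finset.mem_cons_of_mem hk₀, fun k hk' => ?_⟩
      rcases Finset.mem_cons.mp hk' with rfl | hk'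
      · exact h
      · exact hk k hk'

lemma exists_dvd_all (hdiv : ∀ s ∉ 𝔭, ∀ p ∈ 𝔭, ∃ p' ∈ 𝔭, p = s * p')
    (hval : ∀ x y : O, x ∉ 𝔭 → y ∉ 𝔭 → x ∣ y ∨ y ∣ x) {r : ℕ} (o : Fin r → O)
    (h : ∃ k, o k ∉ 𝔭) : ∃ k₀, o k₀ ∉ 𝔭 ∧ ∀ k, o k₀ ∣ o k := by
  classical
  obtain ⟨k₁, hk₁⟩ := h
  obtain ⟨k₀, hk₀, hk⟩ := exists_min_dvd 𝔭 hval o (Finset.univ.filter fun k => o k ∉ 𝔭)
    ⟨k₁, by simp [hk₁]⟩ (fun k hk => (Finset.mem_filter.mp hk).2)
  have hk₀' : o k₀ ∉ 𝔭 := (Finset.mem_filter.mp hk₀).2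
  refine ⟨k₀, hk₀', fun k => ?_⟩
  by_cases hkp : o k ∈ 𝔭
  · obtain ⟨p', -, hp'⟩ := hdiv (o k₀) hk₀' (o k) hkp
    exact ⟨p', hp'⟩
  · exact hk k (by simp [hkp])

/-- every finitely generated ideal of `O` has a generating family all of whose relations have
coefficients in `𝔭`. -/
lemma exists_min_gens (hreg : ∀ s ∉ 𝔭, ∀ x : O, s * x = 0 → x = 0)
    (hdiv : ∀ s ∉ 𝔭, ∀ p ∈ 𝔭, ∃ p' ∈ 𝔭, p = s * p')
    (hval : ∀ x y : O, x ∉ 𝔭 → y ∉ 𝔭 → x ∣ y ∨ y ∣ x) :
    ∀ (r : ℕ) (g : Fin r → O), ∃ (r' : ℕ) (g' : Fin r' → O),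
      Ideal.span (Set.range g') = Ideal.span (Set.range g) ∧
      ∀ o : Fin r' → O, ∑ k, g' k * o k = 0 → ∀ k, o k ∈ 𝔭 := by
  intro r
  induction r with
  | zero => intro g; exact ⟨0, g, rfl, fun o _ k => k.elim0⟩
  | succ r ih =>
    intro g
    by_cases hmin : ∀ o : Fin (r + 1) → O, ∑ k, g k * o k = 0 → ∀ k, o k ∈ 𝔭
    · exact ⟨r + 1, g, rfl, hmin⟩
    · push Not at hmin
      obtain ⟨o, ho, k₁, hk₁⟩ := hmin
      obtain ⟨k₀, hk₀, hdvd⟩ := exists_dvd_all 𝔭 hdiv hval o ⟨k₁, hk₁⟩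
      choose b hb using hdvd
      have h1 : ∑ k, g k * b k = 0 := by
        apply hreg (o k₀) hk₀
        rw [Finset.mul_sum, ← ho]
        refine Finset.sum_congr rfl fun k _ => ?_
        rw [hb k]; ring
      have hb0 : b k₀ = 1 := by
        have := hreg (o k₀) hk₀ (b k₀ - 1) (by rw [mul_sub, ← hb k₀, mul_one, sub_self])
        exact sub_eq_zero.mp this
      rw [Fin.sum_univ_succAbove _ k₀, hb0, mul_one] at h1
      obtain ⟨r', g', hg', hmin'⟩ := ih (fun i => g (k₀.succAbove i))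
      refine ⟨r', g', hg'.trans ?_, hmin'⟩
      apply le_antisymm
      · exact Ideal.span_mono (by rintro _ ⟨i, rfl⟩; exact ⟨_, rfl⟩)
      · rw [Ideal.span_le]
        rintro _ ⟨k, rfl⟩
        rcases Fin.eq_self_or_eq_succAbove k₀ k with rfl | ⟨i, rfl⟩
        · rw [SetLike.mem_coe, eq_neg_of_add_eq_zero_left h1]
          exact neg_mem (sum_mem fun i _ =>
            Ideal.mul_mem_right _ _ (Ideal.subset_span ⟨i, rfl⟩))
        · exact Ideal.subset_span ⟨i, rfl⟩

section Flat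

variable {C : Type u} [CommRing C] [Algebra O C]

include A in
lemma regC_of_adm
    (hadm : Function.Injective (Algebra.TensorProduct.includeRight : C →ₐ[O] A ⊗[O] C))
    (s : O) (hs : s ∉ 𝔭) (c : C) (h : s • c = 0) : c = 0 := by
  apply hadm
  rw [map_zero]
  have hu : IsUnit (algebraMap O A s) := IsLocalization.map_units A (⟨s, hs⟩ : 𝔭.primeCompl)
  have h1 : (algebraMap O A s) • ((1 : A) ⊗ₜ[O] c) = 0 := by
    rw [algebraMap_smul, ← TensorProduct.tmul_smul, h, TensorProduct.tmul_zero]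
  obtain ⟨u, hu'⟩ := hu
  rw [← hu'] at h1
  have := congrArg (fun z => (↑u⁻¹ : A) • z) h1
  simpa [smul_smul] using this

lemma exists_rep {I : Ideal O} {r : ℕ} (g : Fin r → O)
    (hgI : Ideal.span (Set.range g) = I) (hgmem : ∀ k, g k ∈ I) (z : I ⊗[O] C) :
    ∃ x : Fin r → C, z = ∑ k, (⟨g k, hgmem k⟩ : I) ⊗ₜ[O] x k := by
  induction z using TensorProduct.induction_on with
  | zero => exact ⟨0, by simp⟩
  | tmul i c =>
    have hi : (i : O) ∈ Ideal.span (Set.range g) := hgI ▸ i.2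
    obtain ⟨o, ho⟩ := (Ideal.mem_span_range_iff_exists_fun).mp hi
    refine ⟨fun k => o k • c, ?_⟩
    have hi' : i = ∑ k, o k • (⟨g k, hgmem k⟩ : I) := by
      apply Subtype.ext
      simp [← ho]
    rw [hi', TensorProduct.sum_tmul]
    refine Finset.sum_congr rfl fun k _ => ?_
    rw [TensorProduct.smul_tmul]
  | add z₁ z₂ h₁ h₂ =>
    obtain ⟨x₁, rfl⟩ := h₁
    obtain ⟨x₂, rfl⟩ := h₂
    exact ⟨x₁ + x₂, by simp [TensorProduct.tmul_add, Finset.sum_add_distrib]⟩

include A in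
lemma trivial_of_min (hinj : Function.Injective (algebraMap O A))
    (hdiv : ∀ s ∉ 𝔭, ∀ p ∈ 𝔭, ∃ p' ∈ 𝔭, p = s * p')
    (hadm : Function.Injective (Algebra.TensorProduct.includeRight : C →ₐ[O] A ⊗[O] C))
    [Module.Flat A (A ⊗[O] C)]
    {r : ℕ} (g : Fin r → O) (hmin : ∀ o : Fin r → O, ∑ k, g k * o k = 0 → ∀ k, o k ∈ 𝔭)
    (x : Fin r → C) (hx : ∑ k, g k • x k = 0) :
    ∃ (n : ℕ) (p : Fin r → Fin n → O) (c : Fin n → C),
      (∀ k, x k = ∑ j, p k j • c j) ∧ ∀ j, ∑ k, g k * p k j = 0 := by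
  have h1 : ∑ k, (algebraMap O A (g k)) • ((1 : A) ⊗ₜ[O] x k) = 0 := by
    have : ∀ k, (algebraMap O A (g k)) • ((1 : A) ⊗ₜ[O] x k) = (1 : A) ⊗ₜ[O] (g k • x k) := by
      intro k
      rw [algebraMap_smul, ← TensorProduct.tmul_smul]
    simp_rw [this]
    rw [← TensorProduct.tmul_sum, hx, TensorProduct.tmul_zero]
  obtain ⟨n, a, y, hay, hag⟩ := Module.Flat.isTrivialRelation_of_sum_smul_eq_zero h1
  dsimp only at hay hag
  obtain ⟨s₁, hs₁⟩ := IsLocalizedModule.exist_integer_multiples_of_finite 𝔭.primeCompl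
    (TensorProduct.mk O A C 1) y
  choose c hc using hs₁
  obtain ⟨s₂, hs₂⟩ := IsLocalization.exist_integer_multiples_of_finite 𝔭.primeCompl
    (fun kj : Fin r × Fin n => a kj.1 kj.2)
  choose o ho using hs₂
  have ht : (s₁ : O) * (s₂ : O) ∉ 𝔭 := (s₁ * s₂).2
  have hreg := reg_of_inj (A := A) 𝔭 hinj
  have hregC := regC_of_adm (A := A) 𝔭 hadm
  have key : ∀ k, ((s₁ : O) * (s₂ : O)) • x k = ∑ j, o (k, j) • c j := by
    intro k
    apply hadm
    change (1 : A) ⊗ₜ[O] (((s₁ : O) * (s₂ : O)) • x k) = (1 : A) ⊗ₜ[O] (∑ j, o (k, j) • c j)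
    rw [TensorProduct.tmul_smul, hay k, TensorProduct.tmul_sum, Finset.smul_sum]
    refine Finset.sum_congr rfl fun j _ => ?_
    have h2 : (1 : A) ⊗ₜ[O] (o (k, j) • c j) = (algebraMap O A (o (k, j))) • ((1 : A) ⊗ₜ[O] c j) := by
      rw [algebraMap_smul, ← TensorProduct.tmul_smul]
    have h3 : (1 : A) ⊗ₜ[O] c j = (s₁ : O) • y j := hc j
    rw [h2, ho (k, j), h3, mul_smul, smul_comm (s₁ : O) (s₂ : O), Algebra.smul_def (s₂ : O) (a k j),
      mul_smul, algebraMap_smul]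
    rw [smul_comm (a k j) (s₁ : O)]
  have rel : ∀ j, ∑ k, g k * o (k, j) = 0 := by
    intro j
    apply hinj
    rw [map_sum, map_zero]
    simp_rw [map_mul, ho, Algebra.smul_def]
    have : ∀ k, algebraMap O A (g k) * (algebraMap O A (s₂ : O) * a k j) =
        algebraMap O A (s₂ : O) * (algebraMap O A (g k) * a k j) := fun k => by ring
    simp_rw [this]
    rw [← Finset.mul_sum, hag j, mul_zero]
  have omem : ∀ k j, o (k, j) ∈ 𝔭 := fun k j => hmin (fun k => o (k, j)) (rel j) k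
  choose p hp using fun k j => hdiv _ ht (o (k, j)) (omem k j)
  refine ⟨n, p, c, fun k => ?_, fun j => ?_⟩
  · have h4 : ((s₁ : O) * (s₂ : O)) • (x k - ∑ j, p k j • c j) = 0 := by
      rw [smul_sub, key k, Finset.smul_sum, sub_eq_zero]
      refine Finset.sum_congr rfl fun j _ => ?_
      rw [(hp k j).2, mul_smul]
    exact sub_eq_zero.mp (hregC _ ht _ h4)
  · apply hreg _ ht
    rw [Finset.mul_sum, ← rel j]
    refine Finset.sum_congr rfl fun k _ => ?_
    rw [(hp k j).2]; ring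

include A in
/-- flatness over a semi-valuation ring -/
theorem flat (hinj : Function.Injective (algebraMap O A))
    (hdiv : ∀ s ∉ 𝔭, ∀ p ∈ 𝔭, ∃ p' ∈ 𝔭, p = s * p')
    (hval : ∀ x y : O, x ∉ 𝔭 → y ∉ 𝔭 → x ∣ y ∨ y ∣ x)
    (hadm : Function.Injective (Algebra.TensorProduct.includeRight : C →ₐ[O] A ⊗[O] C))
    [Module.Flat A (A ⊗[O] C)] : Module.Flat O C := by
  rw [Module.Flat.iff_rTensor_injective]
  intro I hI
  obtain ⟨r₀, g₀, hg₀⟩ := Submodule.fg_iff_exists_fin_generating_family.mp hI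
  obtain ⟨r, g, hg, hmin⟩ := exists_min_gens 𝔭 (reg_of_inj (A := A) 𝔭 hinj) hdiv hval r₀ g₀
  have hgI : Ideal.span (Set.range g) = I := hg.trans hg₀
  have hgmem : ∀ k, g k ∈ I := fun k => hgI ▸ Ideal.subset_span ⟨k, rfl⟩
  rw [injective_iff_map_eq_zero]
  intro z hz
  obtain ⟨x, rfl⟩ := exists_rep g hgI hgmem z
  have h0 : ∑ k, g k • x k = 0 := by
    have := congrArg (TensorProduct.lid O C) hz
    simpa [map_sum] using this
  obtain ⟨n, p, c, hpc, hgp⟩ := trivial_of_min (A := A) 𝔭 hinj hdiv hadm g hmin x h0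
  apply TensorProduct.sum_tmul_eq_zero_of_vanishesTrivially
  refine ⟨n, p, c, hpc, fun j => ?_⟩
  apply Subtype.ext
  simp only [Submodule.coe_sum, Submodule.coe_smul, smul_eq_mul, Submodule.coe_zero]
  rw [← hgp j]
  exact Finset.sum_congr rfl fun k _ => mul_comm _ _

end Flat

section FP

open MvPolynomial

variable {D : Type u} [CommRing D] [Algebra O D]

lemma ideal_fg_of_saturated (V : Type u) [CommRing V] [IsDomain V] [ValuationRing V] (m : ℕ)
    (J : Ideal (MvPolynomial (Fin m) V))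
    (hsat : ∀ a : V, a ≠ 0 → ∀ x, (C a : MvPolynomial (Fin m) V) * x ∈ J → x ∈ J) : J.FG := by
  let e : (Fin 1 → MvPolynomial (Fin m) V) ≃ₗ[MvPolynomial (Fin m) V] MvPolynomial (Fin m) V :=
    LinearEquiv.funUnique (Fin 1) _ _
  have h := ValRG.fg_of_saturated V m 1 (Submodule.comap e.toLinearMap J) (by
    intro a ha x hx
    rw [Submodule.mem_comap] at hx ⊢
    rw [map_smul, smul_eq_mul] at hx
    exact hsat a ha _ hx)
  have := h.map e.toLinearMap
  rwa [Submodule.map_comap_eq_of_surjective e.surjective] at this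

lemma exists_eq_C_mul (hdiv : ∀ s ∉ 𝔭, ∀ p ∈ 𝔭, ∃ p' ∈ 𝔭, p = s * p') {m : ℕ} (s : O)
    (hs : s ∉ 𝔭) (w : MvPolynomial (Fin m) O)
    (hw : w ∈ Ideal.map (C : O →+* MvPolynomial (Fin m) O) 𝔭) :
    ∃ w' ∈ Ideal.map (C : O →+* MvPolynomial (Fin m) O) 𝔭, w = C s * w' := by
  unfold Ideal.map at hw
  induction hw using Submodule.span_induction with
  | mem x hx =>
    obtain ⟨p, hp, rfl⟩ := hx
    obtain ⟨p', hp', rfl⟩ := hdiv s hs p hp
    exact ⟨C p', Ideal.mem_map_of_mem _ hp', by rw [map_mul]⟩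
  | zero => exact ⟨0, zero_mem _, by simp⟩
  | add x y _ _ hx hy =>
    obtain ⟨x', hx', rfl⟩ := hx
    obtain ⟨y', hy', rfl⟩ := hy
    exact ⟨x' + y', add_mem hx' hy', by ring⟩
  | smul a x _ hx =>
    obtain ⟨x', hx', rfl⟩ := hx
    exact ⟨a * x', Ideal.mul_mem_left _ _ hx', by rw [smul_eq_mul]; ring⟩

lemma valuationRing_quotient (hval : ∀ x y : O, x ∉ 𝔭 → y ∉ 𝔭 → x ∣ y ∨ y ∣ x) :
    ValuationRing (O ⧸ 𝔭) := by
  rw [ValuationRing.iff_dvd_total]
  refine ⟨fun a b => ?_⟩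
  obtain ⟨x, rfl⟩ := Ideal.Quotient.mk_surjective a
  obtain ⟨y, rfl⟩ := Ideal.Quotient.mk_surjective b
  by_cases hx : x ∈ 𝔭
  · right
    rw [Ideal.Quotient.eq_zero_iff_mem.mpr hx]
    exact dvd_zero _
  by_cases hy : y ∈ 𝔭
  · left
    rw [Ideal.Quotient.eq_zero_iff_mem.mpr hy]
    exact dvd_zero _
  rcases hval x y hx hy with h | h
  · exact Or.inl (map_dvd _ h)
  · exact Or.inr (map_dvd _ h)

/-- part 3: elements of `J ∩ 𝔭 O[X]` lie in the span of `H` -/
lemma part3 (hdiv : ∀ s ∉ 𝔭, ∀ p ∈ 𝔭, ∃ p' ∈ 𝔭, p = s * p') [Module.Flat O D] {m : ℕ}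
    (φ : MvPolynomial (Fin m) O →ₐ[O] D) (hφ : Function.Surjective φ)
    (H : Set (MvPolynomial (Fin m) O))
    (hH : ∀ q : MvPolynomial (Fin m) O, φ q = 0 → ∃ s ∉ 𝔭, C s * q ∈ Ideal.span H)
    (w : MvPolynomial (Fin m) O) (hwJ : φ w = 0)
    (hw : w ∈ Ideal.map (C : O →+* MvPolynomial (Fin m) O) 𝔭) : w ∈ Ideal.span H := by
  classical
  have hcoef : ∀ α, w.coeff α ∈ 𝔭 := MvPolynomial.mem_map_C_iff.mp hw
  have hmon : ∀ (α : Fin m →₀ ℕ) (c : O), (monomial α c : MvPolynomial (Fin m) O)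
      = C c * monomial α 1 := by
    intro α c
    rw [C_mul_monomial, mul_one]
  have hrel : ∑ α : w.support, (w.coeff α.1) • φ (monomial α.1 1) = 0 := by
    rw [Finset.sum_coe_sort w.support (fun α => w.coeff α • φ (monomial α 1))]
    have h1 : φ w = 0 := hwJ
    conv_lhs at h1 => rw [w.as_sum]
    rw [map_sum] at h1
    rw [← h1]
    refine Finset.sum_congr rfl fun α _ => ?_
    rw [hmon α (coeff α w), map_mul, Algebra.smul_def]
    congr 1
    exact (φ.commutes' _).symm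
  obtain ⟨n, a, y, hay, haw⟩ := Module.Flat.isTrivialRelation_of_sum_smul_eq_zero
    (R := O) (M := D) hrel
  dsimp only at hay haw
  choose Y hY using fun j => hφ (y j)
  have hu : ∀ α : w.support, φ (monomial α.1 1 - ∑ j, C (a α j) * Y j) = 0 := by
    intro α
    rw [map_sub, map_sum, hay α, sub_eq_zero]
    refine Finset.sum_congr rfl fun j _ => ?_
    rw [map_mul, hY, Algebra.smul_def]
    congr 1
    exact (φ.commutes' (a α j)).symm
  have hw_eq : w = ∑ α : w.support, C (w.coeff α.1) * (monomial α.1 1 - ∑ j, C (a α j) * Y j) := by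
    simp_rw [mul_sub]
    rw [Finset.sum_sub_distrib]
    have h2 : ∑ α : w.support, C (w.coeff α.1) * ∑ j, C (a α j) * Y j = 0 := by
      simp_rw [Finset.mul_sum]
      rw [Finset.sum_comm]
      refine Finset.sum_eq_zero fun j _ => ?_
      have : ∀ α : w.support, C (w.coeff α.1) * (C (a α j) * Y j)
          = C (w.coeff α.1 * a α j) * Y j := fun α => by rw [map_mul]; ring
      simp_rw [this]
      rw [← Finset.sum_mul, ← map_sum, haw j, map_zero, zero_mul]
    rw [h2, sub_zero]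
    rw [Finset.sum_coe_sort w.support (fun α => C (w.coeff α) * monomial α 1)]
    conv_lhs => rw [w.as_sum]
    refine Finset.sum_congr rfl fun α _ => ?_
    exact hmon α _
  rw [hw_eq]
  refine sum_mem fun α _ => ?_
  obtain ⟨s, hs, hsH⟩ := hH _ (hu α)
  obtain ⟨p', -, hp'⟩ := hdiv s hs _ (hcoef α.1)
  rw [hp', map_mul, mul_comm (C s) (C p'), mul_assoc]
  exact Ideal.mul_mem_left _ _ hsH

/-- part 2: generators modulo `𝔭` -/
lemma part2 (hdiv : ∀ s ∉ 𝔭, ∀ p ∈ 𝔭, ∃ p' ∈ 𝔭, p = s * p')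
    (hval : ∀ x y : O, x ∉ 𝔭 → y ∉ 𝔭 → x ∣ y ∨ y ∣ x)
    (hregD : ∀ s ∉ 𝔭, ∀ c : D, s • c = 0 → c = 0) {m : ℕ}
    (φ : MvPolynomial (Fin m) O →ₐ[O] D) :
    ∃ H' : Finset (MvPolynomial (Fin m) O), (∀ q ∈ H', φ q = 0) ∧
      ∀ q : MvPolynomial (Fin m) O, φ q = 0 → ∃ j' ∈ Ideal.span (H' : Set (MvPolynomial (Fin m) O)),
        q - j' ∈ Ideal.map (C : O →+* MvPolynomial (Fin m) O) 𝔭 := by
  classical
  haveI : ValuationRing (O ⧸ 𝔭) := valuationRing_quotient 𝔭 hval
  set J : Ideal (MvPolynomial (Fin m) O) := RingHom.ker φ.toRingHom with hJ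
  have hJmem : ∀ q, q ∈ J ↔ φ q = 0 := fun q => Iff.rfl
  let π : MvPolynomial (Fin m) O →+* MvPolynomial (Fin m) (O ⧸ 𝔭) :=
    MvPolynomial.map (Ideal.Quotient.mk 𝔭)
  have hπsurj : Function.Surjective π :=
    MvPolynomial.map_surjective _ Ideal.Quotient.mk_surjective
  have hπker : RingHom.ker π = Ideal.map C 𝔭 := by
    rw [MvPolynomial.ker_map, Ideal.mk_ker]
  have hsat : ∀ a : O ⧸ 𝔭, a ≠ 0 → ∀ x, (C a : MvPolynomial (Fin m) (O ⧸ 𝔭)) * x ∈ J.map π →
      x ∈ J.map π := by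
    intro abar ha xbar hx
    obtain ⟨a, rfl⟩ := Ideal.Quotient.mk_surjective abar
    have ha' : a ∉ 𝔭 := fun h => ha (Ideal.Quotient.eq_zero_iff_mem.mpr h)
    obtain ⟨x, rfl⟩ := hπsurj xbar
    have h1 : π (C a * x) ∈ J.map π := by
      rw [map_mul]
      have : π (C a) = C (Ideal.Quotient.mk 𝔭 a) := MvPolynomial.map_C _ _
      rw [this]; exact hx
    obtain ⟨j, hj, hjx⟩ := (Ideal.mem_map_iff_of_surjective π hπsurj).mp h1
    have hw : C a * x - j ∈ Ideal.map (C : O →+* MvPolynomial (Fin m) O) 𝔭 := by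
      rw [← hπker, RingHom.mem_ker, map_sub, hjx, sub_self]
    obtain ⟨w', hw', hww'⟩ := exists_eq_C_mul 𝔭 hdiv a ha' _ hw
    have hxw : x - w' ∈ J := by
      rw [hJmem]
      apply hregD a ha'
      have h2 : C a * (x - w') = j := by rw [mul_sub, ← hww']; ring
      have h3 : φ (C a * (x - w')) = 0 := by rw [h2]; exact hj
      rw [map_mul] at h3
      rw [Algebra.smul_def]
      rw [← h3]
      congr 1
      exact (φ.commutes' a).symm
    have h4 : π x = π (x - w') := by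
      have : π w' = 0 := RingHom.mem_ker.mp (hπker ▸ hw')
      rw [map_sub, this, sub_zero]
    rw [h4]
    exact Ideal.mem_map_of_mem π hxw
  have hfg : (J.map π).FG := ideal_fg_of_saturated (O ⧸ 𝔭) m (J.map π) hsat
  have hJbar : J.map π = Submodule.span _ (π '' (J : Set (MvPolynomial (Fin m) O))) := rfl
  rw [hJbar] at hfg
  obtain ⟨t, ht, hspan⟩ := (Submodule.fg_span_iff_fg_span_finset_subset _).mp hfg
  obtain ⟨H', hH'J, rfl⟩ := Finset.subset_set_image_iff.mp ht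
  refine ⟨H', fun q hq => hH'J hq, fun q hq => ?_⟩
  have hq' : π q ∈ Submodule.span (MvPolynomial (Fin m) (O ⧸ 𝔭))
      (π '' (J : Set (MvPolynomial (Fin m) O))) := Submodule.subset_span ⟨q, hq, rfl⟩
  rw [hspan, Finset.coe_image] at hq'
  have hq'' : π q ∈ (Ideal.span (H' : Set (MvPolynomial (Fin m) O))).map π := by
    rw [Ideal.map_span]; exact hq'
  obtain ⟨j', hj', hjq⟩ := (Ideal.mem_map_iff_of_surjective π hπsurj).mp hq''
  exact ⟨j', hj', by rw [← hπker, RingHom.mem_ker, map_sub, hjq, sub_self]⟩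

attribute [local instance] MvPolynomial.algebraMvPolynomial in
include A in
/-- part 1: generators after localization -/
lemma part1 (hinj : Function.Injective (algebraMap O A))
    (hadm : Function.Injective (Algebra.TensorProduct.includeRight : D →ₐ[O] A ⊗[O] D))
    [Algebra.FinitePresentation A (A ⊗[O] D)] {m : ℕ}
    (φ : MvPolynomial (Fin m) O →ₐ[O] D) (hφ : Function.Surjective φ) :
    ∃ H : Finset (MvPolynomial (Fin m) O), (∀ q ∈ H, φ q = 0) ∧
      ∀ q : MvPolynomial (Fin m) O, φ q = 0 →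
        ∃ s ∉ 𝔭, C s * q ∈ Ideal.span (H : Set (MvPolynomial (Fin m) O)) := by
  classical
  let φA : MvPolynomial (Fin m) A →ₐ[A] A ⊗[O] D :=
    MvPolynomial.aeval (fun i => (1 : A) ⊗ₜ[O] φ (X i))
  have hφAC : ∀ a : A, φA (C a) = a ⊗ₜ[O] (1 : D) := by
    intro a
    rw [show φA (C a) = algebraMap A (A ⊗[O] D) a from MvPolynomial.aeval_C _ _,
      Algebra.TensorProduct.algebraMap_apply]
    rfl
  have hφA : ∀ q : MvPolynomial (Fin m) O,
      φA (MvPolynomial.map (algebraMap O A) q) = (1 : A) ⊗ₜ[O] φ q := by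
    intro q
    induction q using MvPolynomial.induction_on with
    | C o =>
      rw [MvPolynomial.map_C, hφAC, show φ (C o) = algebraMap O D o from φ.commutes o,
        Algebra.algebraMap_eq_smul_one, Algebra.algebraMap_eq_smul_one (A := D),
        TensorProduct.smul_tmul]
    | add p q hp hq => rw [map_add, map_add, hp, hq, map_add, TensorProduct.tmul_add]
    | mul_X p i hp =>
      rw [map_mul, map_mul, hp, MvPolynomial.map_X, map_mul,
        show φA (X i) = (1 : A) ⊗ₜ[O] φ (X i) from MvPolynomial.aeval_X _ _,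
        Algebra.TensorProduct.tmul_mul_tmul, mul_one]
  have hφAs : Function.Surjective φA := by
    intro z
    induction z using TensorProduct.induction_on with
    | zero => exact ⟨0, map_zero _⟩
    | tmul a d =>
      obtain ⟨q, rfl⟩ := hφ d
      refine ⟨C a * MvPolynomial.map (algebraMap O A) q, ?_⟩
      rw [map_mul, hφA, hφAC, Algebra.TensorProduct.tmul_mul_tmul, mul_one, one_mul]
    | add z₁ z₂ h₁ h₂ =>
      obtain ⟨q₁, rfl⟩ := h₁
      obtain ⟨q₂, rfl⟩ := h₂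
      exact ⟨q₁ + q₂, map_add _ _ _⟩
  obtain ⟨G, hG⟩ := Algebra.FinitePresentation.ker_fG_of_surjective φA hφAs
  have hGker : ∀ κ ∈ G, φA κ = 0 := fun κ hκ => by
    have : κ ∈ RingHom.ker φA.toRingHom := hG ▸ Ideal.subset_span hκ
    exact this
  obtain ⟨b, hb⟩ := IsLocalization.exist_integer_multiples_of_finset
    (𝔭.primeCompl.map (C : O →+* MvPolynomial (Fin m) O)) G
  have hmapeq : ∀ q : MvPolynomial (Fin m) O,
      algebraMap (MvPolynomial (Fin m) O) (MvPolynomial (Fin m) A) q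
        = MvPolynomial.map (algebraMap O A) q := fun q => by rw [MvPolynomial.algebraMap_def]
  have hbu : IsUnit (algebraMap (MvPolynomial (Fin m) O) (MvPolynomial (Fin m) A) (b : _)) :=
    IsLocalization.map_units _ b
  choose! h hh using hb
  have hh' : ∀ κ ∈ G, MvPolynomial.map (algebraMap O A) (h κ)
      = algebraMap (MvPolynomial (Fin m) O) (MvPolynomial (Fin m) A) (b : _) * κ := by
    intro κ hκ
    rw [← hmapeq, hh κ hκ, Algebra.smul_def]
  refine ⟨G.image h, ?_, ?_⟩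
  · intro q hq
    obtain ⟨κ, hκ, rfl⟩ := Finset.mem_image.mp hq
    apply hadm
    rw [map_zero]
    change (1 : A) ⊗ₜ[O] φ (h κ) = 0
    rw [← hφA, hh' κ hκ, map_mul, hGker κ hκ, mul_zero]
  · intro q hq
    have hq1 : MvPolynomial.map (algebraMap O A) q ∈ RingHom.ker φA.toRingHom := by
      change φA _ = 0
      rw [hφA, hq, TensorProduct.tmul_zero]
    have hle : Ideal.span (G : Set (MvPolynomial (Fin m) A)) ≤
        Ideal.map (algebraMap (MvPolynomial (Fin m) O) (MvPolynomial (Fin m) A))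
          (Ideal.span ((G.image h : Finset _) : Set (MvPolynomial (Fin m) O))) := by
      rw [Ideal.span_le]
      intro κ hκ
      have h1 : algebraMap (MvPolynomial (Fin m) O) (MvPolynomial (Fin m) A) (h κ) ∈
          Ideal.map (algebraMap (MvPolynomial (Fin m) O) (MvPolynomial (Fin m) A))
          (Ideal.span ((G.image h : Finset _) : Set (MvPolynomial (Fin m) O))) :=
        Ideal.mem_map_of_mem _ (Ideal.subset_span (Finset.mem_image_of_mem h hκ))
      rw [hmapeq, hh' κ hκ] at h1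
      exact (Ideal.unit_mul_mem_iff_mem _ hbu).mp h1
    rw [← hG] at hq1
    have hq2 := hle hq1
    rw [← hmapeq, IsLocalization.mem_map_algebraMap_iff
      (𝔭.primeCompl.map (C : O →+* MvPolynomial (Fin m) O))] at hq2
    obtain ⟨⟨i, b'⟩, hib⟩ := hq2
    obtain ⟨s', hs', hbs'⟩ := b'.2
    refine ⟨s', hs', ?_⟩
    have hinjP : Function.Injective
        (algebraMap (MvPolynomial (Fin m) O) (MvPolynomial (Fin m) A)) := by
      rw [MvPolynomial.algebraMap_def]
      exact MvPolynomial.map_injective _ hinj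
    rw [← map_mul] at hib
    have := hinjP hib
    rw [hbs', mul_comm]
    dsimp only at this
    rw [this]
    exact i.2

include A in
/-- finite presentation over a semi-valuation ring -/
theorem fp (hinj : Function.Injective (algebraMap O A))
    (hdiv : ∀ s ∉ 𝔭, ∀ p ∈ 𝔭, ∃ p' ∈ 𝔭, p = s * p')
    (hval : ∀ x y : O, x ∉ 𝔭 → y ∉ 𝔭 → x ∣ y ∨ y ∣ x) [Algebra.FiniteType O D]
    (hadm : Function.Injective (Algebra.TensorProduct.includeRight : D →ₐ[O] A ⊗[O] D))
    [Module.Flat A (A ⊗[O] D)] [Algebra.FinitePresentation A (A ⊗[O] D)] :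
    Algebra.FinitePresentation O D := by
  classical
  haveI hflatD : Module.Flat O D := flat (A := A) 𝔭 hinj hdiv hval hadm
  have hregD := regC_of_adm (A := A) 𝔭 hadm
  obtain ⟨m, φ, hφ⟩ := Algebra.FiniteType.iff_quotient_mvPolynomial''.mp
    (inferInstance : Algebra.FiniteType O D)
  suffices hJ : (RingHom.ker φ.toRingHom).FG from Algebra.FinitePresentation.of_surjective hφ hJ
  obtain ⟨H, hHJ, hH⟩ := part1 (A := A) 𝔭 hinj hadm φ hφ
  obtain ⟨H', hH'J, hH'⟩ := part2 𝔭 hdiv hval hregD φ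
  have h3 := part3 𝔭 hdiv φ hφ (H : Set (MvPolynomial (Fin m) O)) hH
  refine ⟨H ∪ H', ?_⟩
  apply le_antisymm
  · rw [Ideal.span_le]
    intro q hq
    rw [Finset.coe_union] at hq
    rcases hq with hq | hq
    · exact hHJ q hq
    · exact hH'J q hq
  · intro q hq
    have hq0 : φ q = 0 := hq
    obtain ⟨j', hj', hqj⟩ := hH' q hq0
    have hj'0 : φ j' = 0 := by
      have : Ideal.span (H' : Set (MvPolynomial (Fin m) O)) ≤ RingHom.ker φ.toRingHom := by
        rw [Ideal.span_le]; intro x hx; exact hH'J x hx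
      exact this hj'
    have h4 := h3 (q - j') (by rw [map_sub, hq0, hj'0, sub_zero]) hqj
    have h5 : q = (q - j') + j' := by ring
    rw [h5, Finset.coe_union]
    exact add_mem (Ideal.span_mono Set.subset_union_left h4)
      (Ideal.span_mono Set.subset_union_right hj')

end FP

end Abstract

section Concrete

open IsLocalRing

/-- The semi-valuation ring case (`O` the preimage in a local ring `A` of a valuation ring of
the residue field). -/
theorem semival (A : Type u) [CommRing A] [IsLocalRing A]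
    (R : ValuationSubring (IsLocalRing.ResidueField A)) (O : Subring A)
    (hmemO : ∀ a : A, a ∈ O ↔ IsLocalRing.residue A a ∈ R)
    (C : Type u) [CommRing C] [Algebra ↥O C] [Algebra.FiniteType ↥O C]
    (hadm : Function.Injective (Algebra.TensorProduct.includeRight : C →ₐ[↥O] A ⊗[↥O] C))
    (hflat : Module.Flat A (A ⊗[↥O] C)) (hfp : Algebra.FinitePresentation A (A ⊗[↥O] C)) :
    Module.Flat ↥O C ∧ Algebra.FinitePresentation ↥O C := by
  let 𝔭 : Ideal O := (maximalIdeal A).comap (algebraMap O A)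
  haveI : 𝔭.IsPrime := Ideal.comap_isPrime _ _
  have hmem𝔭 : ∀ x : O, x ∈ 𝔭 ↔ (x : A) ∈ maximalIdeal A := fun x => Iff.rfl
  have hinj : Function.Injective (algebraMap O A) := Subtype.val_injective
  have hunit : ∀ x : O, x ∉ 𝔭 → IsUnit (x : A) := fun x hx =>
    IsLocalRing.notMem_maximalIdeal.mp hx
  have hresinv : ∀ u : Aˣ, IsLocalRing.residue A (↑u⁻¹ : A) = (IsLocalRing.residue A (u : A))⁻¹ := by
    intro u
    apply eq_inv_of_mul_eq_one_left
    rw [← map_mul, Units.inv_mul, map_one]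
  have hmO : ∀ a : A, a ∈ maximalIdeal A → a ∈ O := by
    intro a ha
    rw [hmemO, (IsLocalRing.residue_eq_zero_iff a).mpr ha]
    exact R.zero_mem
  haveI : IsLocalization.AtPrime A 𝔭 := by
    refine ⟨fun y => hunit y.1 y.2, fun z => ?_, fun {x y} h => ⟨1, by rw [hinj h]⟩⟩
    by_cases hz : z ∈ O
    · exact ⟨(⟨z, hz⟩, 1), by rw [OneMemClass.coe_one, map_one, mul_one]; rfl⟩
    · have hzR : IsLocalRing.residue A z ∉ R := fun h => hz ((hmemO z).mpr h)
      have hzinv : (IsLocalRing.residue A z)⁻¹ ∈ R :=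
        (R.mem_or_inv_mem (IsLocalRing.residue A z)).resolve_left hzR
      have hz0 : IsLocalRing.residue A z ≠ 0 := fun h => hzR (h ▸ R.zero_mem)
      have hzu : IsUnit z := by
        rw [← IsLocalRing.notMem_maximalIdeal]
        exact fun h => hz0 ((IsLocalRing.residue_eq_zero_iff z).mpr h)
      obtain ⟨u, rfl⟩ := hzu
      have huO : (↑u⁻¹ : A) ∈ O := by rw [hmemO, hresinv]; exact hzinv
      have hu𝔭 : (⟨↑u⁻¹, huO⟩ : O) ∉ 𝔭 := by
        rw [hmem𝔭, IsLocalRing.notMem_maximalIdeal]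
        exact (u⁻¹).isUnit
      refine ⟨(1, ⟨⟨↑u⁻¹, huO⟩, hu𝔭⟩), ?_⟩
      change (u : A) * (↑u⁻¹ : A) = algebraMap O A 1
      rw [Units.mul_inv, map_one]
  have hdiv : ∀ s ∉ 𝔭, ∀ p ∈ 𝔭, ∃ p' ∈ 𝔭, p = s * p' := by
    intro s hs p hp
    obtain ⟨u, hu⟩ := hunit s hs
    have hp' : (↑u⁻¹ : A) * (p : A) ∈ maximalIdeal A := Ideal.mul_mem_left _ _ hp
    refine ⟨⟨_, hmO _ hp'⟩, hp', ?_⟩
    apply Subtype.ext
    change (p : A) = (s : A) * ((↑u⁻¹ : A) * (p : A))
    rw [← hu, ← mul_assoc, Units.mul_inv, one_mul]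
  have hval : ∀ x y : O, x ∉ 𝔭 → y ∉ 𝔭 → x ∣ y ∨ y ∣ x := by
    intro x y hx hy
    obtain ⟨ux, hux⟩ := hunit x hx
    obtain ⟨uy, huy⟩ := hunit y hy
    rcases R.mem_or_inv_mem ((IsLocalRing.residue A (ux : A))⁻¹ * IsLocalRing.residue A (uy : A))
      with h | h
    · left
      have hz : (↑ux⁻¹ : A) * (uy : A) ∈ O := by
        rw [hmemO, map_mul, hresinv]; exact h
      refine ⟨⟨_, hz⟩, ?_⟩
      apply Subtype.ext
      change (y : A) = (x : A) * ((↑ux⁻¹ : A) * (uy : A))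
      rw [← hux, ← huy, ← mul_assoc, Units.mul_inv, one_mul]
    · right
      have hz : (↑uy⁻¹ : A) * (ux : A) ∈ O := by
        rw [hmemO, map_mul, hresinv]
        rw [mul_inv, inv_inv, mul_comm] at h
        exact h
      refine ⟨⟨_, hz⟩, ?_⟩
      apply Subtype.ext
      change (x : A) = (y : A) * ((↑uy⁻¹ : A) * (ux : A))
      rw [← hux, ← huy, ← mul_assoc, Units.mul_inv, one_mul]
  exact ⟨flat (A := A) 𝔭 hinj hdiv hval hadm,
    fp (A := A) 𝔭 hinj hdiv hval hadm⟩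

end Concrete

end Groth.Agent.Lib.Seat52.SemiVal
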