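import Groth.Agent.Lib.Seat52FinFree
import Groth.Agent.Lib.Seat52RPowLift
import Groth.Agent.Lib.Seat52RigPoint5

/-!
# helper52: closed points of the special fibre of the formal affine space lift to rig-points
(S11548)
-/

set_option autoImplicit false
set_option linter.style.haveILetI false
set_option linter.unusedSectionVars false
universe u

namespace Groth.Agent.Lib.Seat52.SpecPoint

open AdicRing IsLocalRing Groth.Agent.Lib.Seat52.AdicBase Groth.Agent.Lib.Seat52

/-- `R` is topologically of finite type over itself. -/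
lemma tft_self (R : Type u) [CommRing R] (I : Ideal R) [IsAdicComplete I R] :
    TopFiniteType R I R := by
  haveI : IsAdicComplete (I.map (algebraMap R R)) R := by
    rw [Algebra.algebraMap_self, Ideal.map_id]; infer_instance
  obtain ⟨φ, hφ⟩ := RPowLift.exists_algHom_of_aeval R I R 0 Fin.elim0
  refine ⟨0, φ, fun a => ⟨algebraMap R _ a, ?_⟩⟩
  rw [AlgHom.commutes]
  rfl

lemma map_span_le {R : Type*} [CommRing R] (t : R) {T' : Type*} [CommRing T'] [Algebra R T']
    (m' : Ideal T') (h : algebraMap R T' t ∈ m') :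
    (Ideal.span {t}).map (algebraMap R T') ≤ m' := by
  rw [Ideal.map_span, Set.image_singleton, Ideal.span_le, Set.singleton_subset_iff]
  exact h

/-- a domain which is not a field and embeds into an integral algebra over a one-dimensional
domain has dimension one -/
lemma ringKrullDim_eq_one_of_injective {R C D : Type*} [CommRing R] [IsDomain R]
    [Ring.KrullDimLE 1 R] [CommRing C] [IsDomain C] [Algebra R C] [CommRing D] [Algebra R D]
    [Algebra.IsIntegral R D] (ι : C →ₐ[R] D) (hι : Function.Injective ι)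
    (c : C) (hc0 : c ≠ 0) (hcu : ¬ IsUnit c) : ringKrullDim C = 1 := by
  haveI : Algebra.IsIntegral R C := ⟨fun y =>
    (isIntegral_algHom_iff ι hι).mp (Algebra.IsIntegral.isIntegral (ι y))⟩
  have hle1 : Ring.KrullDimLE 1 C := RigPoint.krullDimLE_one_of_isIntegral (B := R)
  have hnot : ¬ ringKrullDim C ≤ 0 := fun h => by
    have : Ring.KrullDimLE 0 C := Ring.krullDimLE_iff.mpr h
    have hf : IsField C := Ring.KrullDimLE.isField_of_isDomain
    obtain ⟨y, hy⟩ := hf.mul_inv_cancel hc0
    exact hcu (IsUnit.of_mul_eq_one y hy)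
  rw [Ring.krullDimLE_iff] at hle1
  exact le_antisymm hle1 (Order.succ_le_of_lt (lt_of_not_ge hnot))

section Main

variable (R : Type u) [CommRing R] [IsDomain R] [ValuationRing R] [Ring.KrullDimLE 1 R]
  (t : R) (ht : t ≠ 0) [IsAdicComplete (Ideal.span {t}) R]
  (n : ℕ) (m : Ideal (RPow R (Ideal.span {t}) n)) [m.IsMaximal]
  (hm : algebraMap R (RPow R (Ideal.span {t}) n) t ∈ m)

include ht hm in
lemma maximalIdeal_le_comap :
    maximalIdeal R ≤ m.comap (algebraMap R (RPow R (Ideal.span {t}) n)) := by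
  intro a ha
  have hna : ¬ IsUnit a := (mem_maximalIdeal a).mp ha
  obtain ⟨k, c, hc⟩ := ValRing.exists_pow_dvd R t ht hna
  rw [Ideal.mem_comap]
  apply (Ideal.IsMaximal.isPrime ‹m.IsMaximal›).mem_of_pow_mem k
  rw [← map_pow, hc, map_mul]
  exact Ideal.mul_mem_right _ _ hm

include ht hm in
lemma comap_eq_maximalIdeal :
    m.comap (algebraMap R (RPow R (Ideal.span {t}) n)) = maximalIdeal R := by
  have hne : m.comap (algebraMap R (RPow R (Ideal.span {t}) n)) ≠ ⊤ :=
    (Ideal.IsPrime.comap (algebraMap R (RPow R (Ideal.span {t}) n))).ne_top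
  exact ((maximalIdeal.isMaximal R).eq_of_le hne (maximalIdeal_le_comap R t ht n m hm)).symm

include ht hm in
lemma isIntegral_quot (x : RPow R (Ideal.span {t}) n ⧸ m) : IsIntegral R x := by
  classical
  have hIfg : (Ideal.span {t}).FG := ⟨{t}, by simp⟩
  haveI hmax : (m.comap (algebraMap R (RPow R (Ideal.span {t}) n))).IsMaximal := by
    rw [comap_eq_maximalIdeal R t ht n m hm]; exact maximalIdeal.isMaximal R
  letI : Field (R ⧸ m.comap (algebraMap R (RPow R (Ideal.span {t}) n))) :=
    Ideal.Quotient.field _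
  letI : Field (RPow R (Ideal.span {t}) n ⧸ m) := Ideal.Quotient.field _
  haveI : Algebra.FiniteType (RPow R (Ideal.span {t}) n) (RPow R (Ideal.span {t}) n ⧸ m) :=
    inferInstance
  haveI hft : Algebra.FiniteType R (RPow R (Ideal.span {t}) n ⧸ m) :=
    AdmFinite.finiteType_quot_of_tft R (Ideal.span {t}) hIfg (RPow R (Ideal.span {t}) n)
      (tft_rpow R _ n) (RPow R (Ideal.span {t}) n) m (map_span_le t m hm)
  haveI hft3 : Algebra.FiniteType (R ⧸ m.comap (algebraMap R (RPow R (Ideal.span {t}) n)))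
      (RPow R (Ideal.span {t}) n ⧸ m) :=
    Algebra.FiniteType.of_restrictScalars_finiteType R _ _
  haveI hfin : Module.Finite (R ⧸ m.comap (algebraMap R (RPow R (Ideal.span {t}) n)))
      (RPow R (Ideal.span {t}) n ⧸ m) :=
    finite_of_finite_type_of_isJacobsonRing _ _
  have h1 : IsIntegral (R ⧸ m.comap (algebraMap R (RPow R (Ideal.span {t}) n))) x :=
    Algebra.IsIntegral.isIntegral _
  haveI : Algebra.IsIntegral R (R ⧸ m.comap (algebraMap R (RPow R (Ideal.span {t}) n))) :=
    Algebra.isIntegral_of_surjective Ideal.Quotient.mk_surjective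
  exact isIntegral_trans _ h1

/-- two ring homs out of `R⟨ζ⟩` killing `t` and agreeing on polynomials are equal -/
lemma ringHom_ext_of_kill {K : Type*} [CommRing K] (t : R) (n : ℕ)
    (f g : RPow R (Ideal.span {t}) n →+* K)
    (hf : f (algebraMap R _ t) = 0) (hg : g (algebraMap R _ t) = 0)
    (hfg : ∀ p : MvPolynomial (Fin n) R,
      f (algebraMap (MvPolynomial (Fin n) R) (RPow R (Ideal.span {t}) n) p) =
      g (algebraMap (MvPolynomial (Fin n) R) (RPow R (Ideal.span {t}) n) p))
    (x : RPow R (Ideal.span {t}) n) : f x = g x := by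
  have hIfg : (Ideal.span {t}).FG := ⟨{t}, by simp⟩
  obtain ⟨p, hp⟩ := AdicTrunc.exists_poly_sub_mem R (Ideal.span {t}) hIfg n 1 x
  rw [pow_one] at hp
  have hkf : x - algebraMap (MvPolynomial (Fin n) R) (RPow R (Ideal.span {t}) n) p ∈
      RingHom.ker f := map_span_le t (RingHom.ker f) hf hp
  have hkg : x - algebraMap (MvPolynomial (Fin n) R) (RPow R (Ideal.span {t}) n) p ∈
      RingHom.ker g := map_span_le t (RingHom.ker g) hg hp
  rw [RingHom.mem_ker, map_sub, sub_eq_zero] at hkf hkg
  rw [hkf, hkg, hfg]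

include ht hm in
/-- S11548 -/
theorem exists_nonOpen_prime_le_maximal :
    ∃ p : Ideal (RPow R (Ideal.span {t}) n), p.IsPrime ∧ p ≤ m ∧
      algebraMap R (RPow R (Ideal.span {t}) n) t ∉ p ∧
      ringKrullDim (RPow R (Ideal.span {t}) n ⧸ p) = 1 := by
  classical
  have hIfg : (Ideal.span {t}).FG := ⟨{t}, by simp⟩
  -- the residue classes of the variables are integral over `R`
  obtain ⟨F, _, _, hfree, hfin, x, ε, hx⟩ :=
    FinFree.exists_finite_free_algebra R (RPow R (Ideal.span {t}) n ⧸ m) n
      (fun i => Ideal.Quotient.mk m (algebraMap (MvPolynomial (Fin n) R)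
        (RPow R (Ideal.span {t}) n) (MvPolynomial.X i)))
      (fun i => isIntegral_quot R t ht n m hm _)
  -- `F` is `t`-adically complete
  haveI hFc : IsAdicComplete (Ideal.span {t}) F :=
    isAdicComplete_of_finite R _ (isBase_V R t ht) R (tft_self R _) F
  haveI hFc' : IsAdicComplete ((Ideal.span {t}).map (algebraMap R F)) F :=
    (IsAdicComplete.map_algebraMap_iff (R := R) (S := F) (I := Ideal.span {t}) (M := F)).mpr hFc
  obtain ⟨Φ, hΦ⟩ := RPowLift.exists_algHom_of_aeval R (Ideal.span {t}) F n x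
  -- `ε ∘ Φ` is the quotient map
  have hcomp : ∀ y : RPow R (Ideal.span {t}) n, ε (Φ y) = Ideal.Quotient.mk m y := by
    have hmk0 : Ideal.Quotient.mk m (algebraMap R (RPow R (Ideal.span {t}) n) t) = 0 :=
      Ideal.Quotient.eq_zero_iff_mem.mpr hm
    refine ringHom_ext_of_kill R t n ((ε : F →+* _).comp (Φ : _ →+* F)) (Ideal.Quotient.mk m)
      ?_ hmk0 ?_
    · change ε (Φ (algebraMap R _ t)) = 0
      rw [AlgHom.commutes, AlgHom.commutes]
      exact hmk0
    · intro p
      change ε (Φ (algebraMap (MvPolynomial (Fin n) R) _ p)) = _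
      rw [hΦ]
      have h1 : (ε.comp (MvPolynomial.aeval x)) =
          (Ideal.Quotient.mkₐ R m).comp
            (IsScalarTower.toAlgHom R (MvPolynomial (Fin n) R) (RPow R (Ideal.span {t}) n)) := by
        apply MvPolynomial.algHom_ext
        intro i
        simp only [AlgHom.comp_apply, MvPolynomial.aeval_X, hx]
        rfl
      exact congrArg (fun h => h p) h1
  -- a minimal prime of `F` below the kernel of `ε`
  haveI hkp : (RingHom.ker ε.toRingHom).IsPrime := RingHom.ker_isPrime _
  obtain ⟨𝔮, h𝔮min, h𝔮le⟩ := Ideal.exists_minimalPrimes_le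
    (I := (⊥ : Ideal F)) (J := RingHom.ker ε.toRingHom) bot_le
  haveI h𝔮p : 𝔮.IsPrime := h𝔮min.1.1
  -- `t` is a nonzerodivisor on `F`
  have htF : algebraMap R F t ∈ nonZeroDivisors F := by
    rw [mem_nonZeroDivisors_iff_right]
    intro a ha
    have h2 : t • a = 0 := by
      rw [Algebra.smul_def, mul_comm]; exact ha
    exact (smul_eq_zero.mp h2).resolve_left ht
  have htq : algebraMap R F t ∉ 𝔮 := fun h =>
    Set.disjoint_left.mp (Ideal.disjoint_nonZeroDivisors_of_mem_minimalPrimes h𝔮min) h htF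
  refine ⟨𝔮.comap Φ.toRingHom, Ideal.IsPrime.comap _, ?_, ?_, ?_⟩
  · intro y hy
    rw [Ideal.mem_comap] at hy
    have h3 : ε (Φ y) = 0 := h𝔮le hy
    rw [hcomp] at h3
    exact Ideal.Quotient.eq_zero_iff_mem.mp h3
  · intro h
    rw [Ideal.mem_comap] at h
    apply htq
    have h4 : Φ (algebraMap R (RPow R (Ideal.span {t}) n) t) = algebraMap R F t := Φ.commutes t
    rw [← h4]
    exact h
  · set p := 𝔮.comap Φ.toRingHom with hp
    have hpm : p ≤ m := by
      intro y hy
      rw [hp, Ideal.mem_comap] at hy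
      have h3 : ε (Φ y) = 0 := h𝔮le hy
      rw [hcomp] at h3
      exact Ideal.Quotient.eq_zero_iff_mem.mp h3
    haveI : p.IsPrime := Ideal.IsPrime.comap _
    haveI : Module.Finite R (F ⧸ 𝔮) :=
      Module.Finite.of_surjective (Ideal.Quotient.mkₐ R 𝔮).toLinearMap
        (Ideal.Quotient.mkₐ_surjective R 𝔮)
    haveI : Algebra.IsIntegral R (F ⧸ 𝔮) := Algebra.IsIntegral.of_finite R _
    let ι : (RPow R (Ideal.span {t}) n ⧸ p) →ₐ[R] F ⧸ 𝔮 := Ideal.quotientMapₐ 𝔮 Φ le_rfl
    have hι : Function.Injective ι := Ideal.quotientMap_injective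
    refine ringKrullDim_eq_one_of_injective (R := R) ι hι
      (Ideal.Quotient.mk p (algebraMap R (RPow R (Ideal.span {t}) n) t)) ?_ ?_
    · rw [Ne, Ideal.Quotient.eq_zero_iff_mem]
      intro h
      rw [hp, Ideal.mem_comap] at h
      apply htq
      have h4 : Φ (algebraMap R (RPow R (Ideal.span {t}) n) t) = algebraMap R F t := Φ.commutes t
      rw [← h4]
      exact h
    · intro hu
      obtain ⟨s, hs⟩ := hu.exists_right_inv
      obtain ⟨s, rfl⟩ := Ideal.Quotient.mk_surjective s
      rw [← map_mul, ← map_one (Ideal.Quotient.mk p), Ideal.Quotient.eq] at hs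
      have h5 := hpm hs
      apply (Ideal.IsMaximal.isPrime ‹m.IsMaximal›).ne_top
      rw [Ideal.eq_top_iff_one]
      have h6 : (1 : RPow R (Ideal.span {t}) n) =
          algebraMap R (RPow R (Ideal.span {t}) n) t * s -
            (algebraMap R (RPow R (Ideal.span {t}) n) t * s - 1) := by ring
      rw [h6]
      exact m.sub_mem (Ideal.mul_mem_right _ _ hm) h5

end Main

end Groth.Agent.Lib.Seat52.SpecPoint
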