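import Mathlib.RingTheory.DedekindDomain.Different
import Mathlib.RingTheory.DiscreteValuationRing.Basic
import Mathlib.RingTheory.LocalRing.ResidueField.Basic
import Mathlib.RingTheory.RamificationInertia.Basic
import Mathlib.RingTheory.RamificationInertia.Ramification
import Mathlib.FieldTheory.Separable
import Mathlib.RingTheory.Localization.FractionRing

set_option autoImplicit false
universe u
attribute [local instance] FractionRing.liftAlgebra FractionRing.isScalarTower_liftAlgebra

namespace Groth.Agent.Lib.Seat52.TameDiff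

open IsLocalRing

section
variable (A B : Type u) [CommRing A] [IsDomain A] [IsDiscreteValuationRing A]
    [CommRing B] [IsDomain B] [IsDiscreteValuationRing B] [Algebra A B] [Module.Finite A B]
    [Module.IsTorsionFree A B] [IsLocalHom (algebraMap A B)]

lemma maxA_ne_bot : maximalIdeal A ≠ ⊥ := IsDiscreteValuationRing.not_a_field A

lemma maxB_ne_bot : maximalIdeal B ≠ ⊥ := IsDiscreteValuationRing.not_a_field B

lemma map_ne_bot : (maximalIdeal A).map (algebraMap A B) ≠ ⊥ :=
  (Ideal.map_eq_bot_iff_of_injective (FaithfulSMul.algebraMap_injective A B)).not.mpr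
    (maxA_ne_bot A)

/-- `𝔪_A B = 𝔪_B ^ e` with `e` the ramification index. -/
lemma map_eq_pow : (maximalIdeal A).map (algebraMap A B) =
    maximalIdeal B ^ (Ideal.ramificationIdx (maximalIdeal B) A) := by
  classical
  have h0 := map_ne_bot A B
  obtain ⟨n, hn⟩ : ∃ n : ℕ, (maximalIdeal A).map (algebraMap A B) = maximalIdeal B ^ n := by
    have := (IsDiscreteValuationRing.idealOrderIsoENat B).symm_apply_apply
      ((maximalIdeal A).map (algebraMap A B))
    generalize hm : (IsDiscreteValuationRing.idealOrderIsoENat B)
      ((maximalIdeal A).map (algebraMap A B)) = m at this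
    obtain ⟨k, rfl⟩ := OrderDual.toDual.surjective m
    induction k with
    | top => exact absurd this.symm h0
    | coe k => exact ⟨k, this.symm⟩
  have hprime : Prime (maximalIdeal B) := Ideal.prime_of_isPrime (maxB_ne_bot B) inferInstance
  rw [Ideal.IsDedekindDomain.ramificationIdx_eq_normalizedFactors_count (maximalIdeal A)
    (maximalIdeal B) h0, hn, UniqueFactorizationMonoid.normalizedFactors_pow,
    UniqueFactorizationMonoid.normalizedFactors_irreducible hprime.irreducible,
    Multiset.count_nsmul, normalize_eq, Multiset.count_singleton_self, mul_one]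

open nonZeroDivisors in
/-- `𝔪_A B` divides the different iff the integral trace lands in `𝔪_A`. -/
lemma map_dvd_differentIdeal_iff [Algebra.IsSeparable (FractionRing A) (FractionRing B)] :
    (maximalIdeal A).map (algebraMap A B) ∣ differentIdeal A B ↔
      ∀ x : B, Algebra.intTrace A B x ∈ maximalIdeal A := by
  let K := FractionRing A
  let L := FractionRing B
  have : IsLocalization (Algebra.algebraMapSubmonoid B A⁰) L :=
    IsIntegralClosure.isLocalization _ K _ _
  have : FiniteDimensional K L := .of_isLocalization A B A⁰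
  have hp := maxA_ne_bot A
  have hp' := map_ne_bot A B
  constructor
  · intro H x
    by_contra hx
    exact not_dvd_differentIdeal_of_intTrace_not_mem A ((maximalIdeal A).map (algebraMap A B)) ⊤
      (by simp) x trivial hx H
  · intro H
    have hP : ((((maximalIdeal A).map (algebraMap A B) : Ideal B) :
        FractionalIdeal B⁰ L))⁻¹ =
        ((⊤ : Ideal B) : FractionalIdeal B⁰ L) /
          (((maximalIdeal A).map (algebraMap A B) : Ideal B) : FractionalIdeal B⁰ L) := by
      rw [FractionalIdeal.coeIdeal_top, one_div]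
    rw [Ideal.dvd_iff_le, differentialIdeal_le_iff (K := K) (L := L) hp', hP,
      Submodule.map_le_iff_le_comap]
    intro x hx
    rw [Submodule.restrictScalars_mem, FractionalIdeal.mem_coe,
      FractionalIdeal.mem_div_iff_of_ne_zero (by simpa using hp')] at hx
    rw [Submodule.mem_comap, LinearMap.coe_restrictScalars, ← FractionalIdeal.coe_one,
      ← div_self (G₀ := FractionalIdeal A⁰ K) (a := (maximalIdeal A : Ideal A))
        (by simpa using hp),
      FractionalIdeal.mem_coe, FractionalIdeal.mem_div_iff_of_ne_zero (by simpa using hp)]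
    simp only [FractionalIdeal.mem_coeIdeal, forall_exists_index, and_imp,
      forall_apply_eq_imp_iff₂] at hx
    intro y hy'
    obtain ⟨y, hy, rfl : algebraMap A K _ = _⟩ := (FractionalIdeal.mem_coeIdeal _).mp hy'
    obtain ⟨z, hz, hz'⟩ := hx _ (Ideal.mem_map_of_mem _ hy)
    have : Algebra.trace K L (algebraMap B L z) ∈
        ((maximalIdeal A : Ideal A) : FractionalIdeal A⁰ K) := by
      rw [← Algebra.algebraMap_intTrace (A := A)]
      exact ⟨Algebra.intTrace A B z, H z, rfl⟩
    rwa [mul_comm, ← smul_eq_mul, ← map_smul, Algebra.smul_def, mul_comm,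
      ← IsScalarTower.algebraMap_apply, IsScalarTower.algebraMap_apply A B L, ← hz']

lemma exists_eq_pow {I : Ideal B} (hI : I ≠ ⊥) : ∃ n : ℕ, I = maximalIdeal B ^ n := by
  have := (IsDiscreteValuationRing.idealOrderIsoENat B).symm_apply_apply I
  generalize hm : (IsDiscreteValuationRing.idealOrderIsoENat B) I = m at this
  obtain ⟨k, rfl⟩ := OrderDual.toDual.surjective m
  induction k with
  | top => exact absurd this.symm hI
  | coe k => exact ⟨k, this.symm⟩

lemma pow_dvd_pow_iff' {m n : ℕ} : maximalIdeal B ^ m ∣ maximalIdeal B ^ n ↔ m ≤ n := by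
  rw [Ideal.dvd_iff_le]
  exact StrictAnti.le_iff_ge (Ideal.pow_right_strictAnti (maximalIdeal B) (maxB_ne_bot B)
    (Ideal.IsPrime.ne_top inferInstance))

/-- The different is `𝔪_B ^ (e - 1)` iff `𝔪_A B` does not divide it. -/
lemma differentIdeal_eq_pow_iff [Algebra.IsSeparable (FractionRing A) (FractionRing B)] :
    differentIdeal A B = maximalIdeal B ^ (Ideal.ramificationIdx (maximalIdeal B) A - 1) ↔
      ¬ (maximalIdeal A).map (algebraMap A B) ∣ differentIdeal A B := by
  have hpow := map_eq_pow A B
  have hepos : 0 < Ideal.ramificationIdx (maximalIdeal B) A := Ideal.ramificationIdx_pos _ _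
  generalize Ideal.ramificationIdx (maximalIdeal B) A = e at hpow hepos ⊢
  have hdvd : maximalIdeal B ^ (e - 1) ∣ differentIdeal A B :=
    pow_sub_one_dvd_differentIdeal A (maximalIdeal B) e (maxA_ne_bot A) (by rw [hpow])
  obtain ⟨d, hd⟩ := exists_eq_pow B (differentIdeal_ne_bot (A := A) (B := B))
  rw [hd] at hdvd ⊢
  rw [hpow]
  rw [pow_dvd_pow_iff'] at hdvd ⊢
  constructor
  · intro h
    have := (Ideal.pow_right_strictAnti (maximalIdeal B) (maxB_ne_bot B)
      (Ideal.IsPrime.ne_top inferInstance)).injective h
    omega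
  · intro h
    have : d = e - 1 := by omega
    rw [this]

attribute [local instance] Ideal.Quotient.field

lemma map_le_maxB : (maximalIdeal A).map (algebraMap A B) ≤ maximalIdeal B := by
  rw [Ideal.map_le_iff_le_comap]
  exact (Ideal.LiesOver.over (p := maximalIdeal A) (P := maximalIdeal B)).le

instance nontrivial_quot : Nontrivial (B ⧸ (maximalIdeal A).map (algebraMap A B)) :=
  Ideal.Quotient.nontrivial_iff.mpr
    (ne_top_of_le_ne_top (Ideal.IsPrime.ne_top inferInstance) (map_le_maxB A B))

instance isLocalRing_quot : IsLocalRing (B ⧸ (maximalIdeal A).map (algebraMap A B)) :=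
  IsLocalRing.of_surjective' _ Ideal.Quotient.mk_surjective

instance finite_quot : Module.Finite (A ⧸ maximalIdeal A)
    (B ⧸ (maximalIdeal A).map (algebraMap A B)) :=
  Module.Finite.of_restrictScalars_finite A _ _

lemma length_quot : Module.length (B ⧸ (maximalIdeal A).map (algebraMap A B))
    (B ⧸ (maximalIdeal A).map (algebraMap A B)) =
      (Ideal.ramificationIdx (maximalIdeal B) A : ℕ∞) := by
  rw [← Module.length_eq_of_surjective (S := B) Ideal.Quotient.mk_surjective]
  rw [map_eq_pow A B, IsDiscreteValuationRing.length_quotient_pow_maximalIdeal]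

lemma surjective_trace_iff :
    Function.Surjective (Algebra.trace (A ⧸ maximalIdeal A)
      (B ⧸ (maximalIdeal A).map (algebraMap A B))) ↔
      ¬ ∀ x : B, Algebra.intTrace A B x ∈ maximalIdeal A := by
  constructor
  · intro hs H
    obtain ⟨c, hc⟩ := hs 1
    obtain ⟨x, rfl⟩ := Ideal.Quotient.mk_surjective c
    rw [Algebra.trace_quotient_eq_of_isDedekindDomain,
      Ideal.Quotient.eq_zero_iff_mem.mpr (H x)] at hc
    exact zero_ne_one hc
  · intro H
    push Not at H
    obtain ⟨x, hx⟩ := H
    have hne : Algebra.trace (A ⧸ maximalIdeal A) (B ⧸ (maximalIdeal A).map (algebraMap A B))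
        (Ideal.Quotient.mk _ x) ≠ 0 := by
      rw [Algebra.trace_quotient_eq_of_isDedekindDomain]
      exact fun h => hx (Ideal.Quotient.eq_zero_iff_mem.mp h)
    intro c
    refine ⟨(c * (Algebra.trace (A ⧸ maximalIdeal A)
      (B ⧸ (maximalIdeal A).map (algebraMap A B)) (Ideal.Quotient.mk _ x))⁻¹) •
        (Ideal.Quotient.mk _ x), ?_⟩
    rw [map_smul, smul_eq_mul, mul_assoc, inv_mul_cancel₀ hne, mul_one]

instance isLocalHom_mk : IsLocalHom (Ideal.Quotient.mk ((maximalIdeal A).map (algebraMap A B))) :=
  IsLocalHom.of_surjective _ Ideal.Quotient.mk_surjective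

/-- The residue field of `B ⧸ 𝔪_A B` is the residue field of `B`. -/
noncomputable def residueEquiv :
    ResidueField B ≃+* ResidueField (B ⧸ (maximalIdeal A).map (algebraMap A B)) :=
  RingEquiv.ofBijective
    (ResidueField.map (Ideal.Quotient.mk ((maximalIdeal A).map (algebraMap A B))))
    ⟨RingHom.injective _, by
      intro y
      obtain ⟨y, rfl⟩ := residue_surjective y
      obtain ⟨y, rfl⟩ := Ideal.Quotient.mk_surjective y
      exact ⟨residue B y, rfl⟩⟩

lemma isSeparable_residue_iff :
    Algebra.IsSeparable (A ⧸ maximalIdeal A)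
      (ResidueField (B ⧸ (maximalIdeal A).map (algebraMap A B))) ↔
    Algebra.IsSeparable (ResidueField A) (ResidueField B) := by
  symm
  refine Algebra.IsSeparable.iff_of_equiv_equiv (RingEquiv.refl _) (residueEquiv A B) ?_
  ext x
  obtain ⟨x, rfl⟩ := residue_surjective x
  rfl

end

end Groth.Agent.Lib.Seat52.TameDiff
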