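import Groth.Agent.Lib.Seat52ValRing
import Groth.Agent.Lib.Seat52RPowSat
import Mathlib.RingTheory.Valuation.RankOne
import Mathlib.Topology.Algebra.Valued.NormedValued

/-!
# helper52: the fraction field of a complete height-one valuation ring as a complete
nonarchimedean normed field
-/

set_option autoImplicit false
set_option linter.unusedSectionVars false
set_option linter.overlappingInstances false
set_option linter.style.haveILetI false
universe u

namespace Groth.Agent.Lib.Seat52.ValNorm

open ValuationRing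

variable (R : Type u) [CommRing R] [IsDomain R] [ValuationRing R] [Ring.KrullDimLE 1 R]
  (t : R) (ht : t ≠ 0) [IsHausdorff (Ideal.span {t}) R]
  (K : Type u) [Field K] [Algebra R K] [IsFractionRing R K]

lemma val_le_iff (x y : K) : valuation R K x ≤ valuation R K y ↔ ∃ c : R, c • y = x := Iff.rfl

lemma val_le_one_iff (x : K) : valuation R K x ≤ 1 ↔ ∃ a : R, algebraMap R K a = x := by
  rw [← Valuation.mem_integer_iff, mem_integer_iff]

include ht in
lemma exists_div_pow_mem (x y : K) (hy : ¬ ∃ a : R, algebraMap R K a = y) :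
    ∃ (n : ℕ) (c : R), c • y ^ n = x := by
  obtain ⟨p, q, hq, rfl⟩ := IsFractionRing.div_surjective R x
  have hq0 : q ≠ 0 := nonZeroDivisors.ne_zero hq
  have hqK : algebraMap R K q ≠ 0 := IsFractionRing.to_map_ne_zero_of_mem_nonZeroDivisors hq
  have hy0 : y ≠ 0 := by
    rintro rfl
    exact hy ⟨0, map_zero _⟩
  obtain ⟨b, hb⟩ : ∃ b : R, algebraMap R K b = y⁻¹ := by
    rcases ValuationRing.isInteger_or_isInteger R y with ⟨a, ha⟩ | ⟨b, hb⟩
    · exact absurd ⟨a, ha⟩ hy
    · exact ⟨b, hb⟩
  have hbu : ¬ IsUnit b := by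
    intro hu
    obtain ⟨u, rfl⟩ := hu
    apply hy
    refine ⟨↑u⁻¹, ?_⟩
    have h1 : algebraMap R K ↑u⁻¹ * y⁻¹ = 1 := by
      rw [← hb, ← map_mul, Units.inv_mul, map_one]
    exact (mul_inv_eq_one₀ hy0).mp h1
  obtain ⟨m, hm⟩ := ValRing.exists_dvd_pow R t hq0
  obtain ⟨k, hk⟩ := ValRing.exists_pow_dvd R t ht hbu
  have h2 : q ∣ b ^ (k * m) := by
    rw [pow_mul]
    exact hm.trans (pow_dvd_pow_of_dvd hk m)
  obtain ⟨d, hd⟩ := h2
  refine ⟨k * m, p * d, ?_⟩
  have hyb : algebraMap R K b * y = 1 := by rw [hb, inv_mul_cancel₀ hy0]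
  have h3 : algebraMap R K (b ^ (k * m)) * y ^ (k * m) = 1 := by
    rw [map_pow, ← mul_pow, hyb, one_pow]
  rw [Algebra.smul_def, map_mul, eq_div_iff hqK]
  calc algebraMap R K p * algebraMap R K d * y ^ (k * m) * algebraMap R K q
      = algebraMap R K p * (algebraMap R K (q * d) * y ^ (k * m)) := by rw [map_mul]; ring
    _ = algebraMap R K p := by rw [← hd, h3, mul_one]

include ht in
lemma mulArchimedean_valueGroup : MulArchimedean (ValueGroup R K) := by
  constructor
  intro γ δ hδ
  induction γ using Quotient.inductionOn' with | _ x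
  induction δ using Quotient.inductionOn' with | _ y
  have hy : ¬ ∃ a : R, algebraMap R K a = y := by
    intro h
    have : valuation R K y ≤ 1 := (val_le_one_iff R K y).mpr h
    exact not_le.mpr hδ this
  obtain ⟨n, c, hc⟩ := exists_div_pow_mem R t ht K x y hy
  refine ⟨n, ?_⟩
  change valuation R K x ≤ (valuation R K y) ^ n
  rw [← map_pow, val_le_iff]
  exact ⟨c, hc⟩

include ht in
lemma isNontrivial_valuation : (valuation R K).IsNontrivial := by
  refine ⟨⟨algebraMap R K t, ?_, ?_⟩⟩
  · rw [Valuation.ne_zero_iff]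
    exact (map_ne_zero_iff _ (IsFractionRing.injective R K)).mpr ht
  · intro h1
    have h2 : valuation R K 1 ≤ valuation R K (algebraMap R K t) := by rw [h1, map_one]
    obtain ⟨c, hc⟩ := (val_le_iff R K _ _).mp h2
    rw [Algebra.smul_def, ← map_mul, ← map_one (algebraMap R K)] at hc
    have := IsFractionRing.injective R K hc
    exact ValRing.not_isUnit R t (IsUnit.of_mul_eq_one c (by rw [mul_comm]; exact this))

/-- the rank one structure on the canonical valuation of a height-one valuation ring -/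
@[instance_reducible]
noncomputable def rankOne : (valuation R K).RankOne :=
  haveI := isNontrivial_valuation R t ht K
  haveI := mulArchimedean_valueGroup R t ht K
  (Valuation.nonempty_rankOne_iff_mulArchimedean.mpr
    (MulArchimedean.comap MonoidWithZeroHom.ValueGroup₀.embedding.toMonoidHom
      MonoidWithZeroHom.ValueGroup₀.embedding_strictMono)).some

/-- the valued structure on the fraction field -/
@[instance_reducible]
noncomputable def valued : Valued K (ValueGroup R K) := Valued.mk' (valuation R K)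

/-- the normed field structure -/
@[instance_reducible]
noncomputable def nnf : NontriviallyNormedField K :=
  letI := valued R K
  letI : (Valued.v : Valuation K (ValueGroup R K)).RankOne := rankOne R t ht K
  Valued.toNontriviallyNormedField K (ValueGroup R K)

lemma isUltrametricDist : letI := nnf R t ht K; IsUltrametricDist K := by
  letI := valued R K
  letI : (Valued.v : Valuation K (ValueGroup R K)).RankOne := rankOne R t ht K
  exact Valued.instIsUltrametricDist K (ValueGroup R K)

lemma norm_le_one_iff (x : K) : letI := nnf R t ht K; ‖x‖ ≤ 1 ↔ ∃ a : R, algebraMap R K a = x := by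
  letI := valued R K
  letI : (Valued.v : Valuation K (ValueGroup R K)).RankOne := rankOne R t ht K
  rw [← val_le_one_iff]
  exact Valued.toNormedField.norm_le_one_iff

lemma norm_le_iff (x y : K) : letI := nnf R t ht K; ‖x‖ ≤ ‖y‖ ↔ ∃ c : R, c • y = x := by
  letI := valued R K
  letI : (Valued.v : Valuation K (ValueGroup R K)).RankOne := rankOne R t ht K
  rw [← val_le_iff]
  exact Valued.toNormedField.norm_le_iff

lemma norm_t_lt_one : letI := nnf R t ht K; ‖algebraMap R K t‖ < 1 := by
  letI := nnf R t ht K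
  refine lt_of_le_of_ne ((norm_le_one_iff R t ht K _).mpr ⟨t, rfl⟩) ?_
  intro h1
  have h2 : ‖(1 : K)‖ ≤ ‖algebraMap R K t‖ := by rw [h1, norm_one]
  obtain ⟨c, hc⟩ := (norm_le_iff R t ht K _ _).mp h2
  rw [Algebra.smul_def, ← map_mul, ← map_one (algebraMap R K)] at hc
  have := IsFractionRing.injective R K hc
  exact ValRing.not_isUnit R t (IsUnit.of_mul_eq_one c (by rw [mul_comm]; exact this))

lemma norm_t_pos : letI := nnf R t ht K; 0 < ‖algebraMap R K t‖ := by
  letI := nnf R t ht K
  rw [norm_pos_iff]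
  exact (map_ne_zero_iff _ (IsFractionRing.injective R K)).mpr ht

lemma norm_le_pow_iff (a : R) (k : ℕ) :
    letI := nnf R t ht K; ‖algebraMap R K a‖ ≤ ‖algebraMap R K t‖ ^ k ↔ t ^ k ∣ a := by
  letI := nnf R t ht K
  rw [← norm_pow, ← map_pow, norm_le_iff]
  constructor
  · rintro ⟨c, hc⟩
    rw [Algebra.smul_def, ← map_mul] at hc
    exact ⟨c, by rw [mul_comm]; exact (IsFractionRing.injective R K hc).symm⟩
  · rintro ⟨c, rfl⟩
    exact ⟨c, by rw [Algebra.smul_def, ← map_mul, mul_comm]⟩

theorem completeSpace [IsAdicComplete (Ideal.span {t}) R] :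
    letI := nnf R t ht K; CompleteSpace K := by
  letI := nnf R t ht K
  set τ : K := algebraMap R K t with hτ
  have hτ1 : ‖τ‖ < 1 := norm_t_lt_one R t ht K
  have hτ0 : 0 < ‖τ‖ := norm_t_pos R t ht K
  apply Metric.complete_of_cauchySeq_tendsto
  intro x hx
  rw [Metric.cauchySeq_iff'] at hx
  -- eventually in a translate of `R`
  obtain ⟨N₀, hN₀⟩ := hx 1 one_pos
  have hr : ∀ n, ∃ r : R, N₀ ≤ n → algebraMap R K r = x n - x N₀ := by
    intro n
    by_cases hn : N₀ ≤ n
    · obtain ⟨r, hr⟩ := (norm_le_one_iff R t ht K (x n - x N₀)).mp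
        (by rw [← dist_eq_norm]; exact (hN₀ n hn).le)
      exact ⟨r, fun _ => hr⟩
    · exact ⟨0, fun h => absurd h hn⟩
  choose r hr using hr
  have hN : ∀ k : ℕ, ∃ N : ℕ, N₀ ≤ N ∧ ∀ n ≥ N, t ^ k ∣ r n - r N := by
    intro k
    obtain ⟨N, hN⟩ := hx (‖τ‖ ^ k) (pow_pos hτ0 k)
    refine ⟨max N N₀, le_max_right _ _, fun n hn => ?_⟩
    have hn1 : N ≤ n := le_trans (le_max_left _ _) hn
    have hn0 : N₀ ≤ n := le_trans (le_max_right _ _) hn
    rw [← norm_le_pow_iff R t ht K, map_sub, hr n hn0, hr _ (le_max_right N N₀)]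
    have e : x n - x N₀ - (x (max N N₀) - x N₀) = x n - x (max N N₀) := by ring
    rw [e, ← dist_eq_norm]
    haveI := isUltrametricDist R t ht K
    refine (dist_triangle_max (x n) (x N) (x (max N N₀))).trans (max_le (hN n hn1).le ?_)
    rw [dist_comm]
    exact (hN _ (le_max_left _ _)).le
  choose N hN0 hN using hN
  let N' : ℕ → ℕ := fun k => (Finset.range (k + 1)).sup N
  have hN'le : ∀ {j k : ℕ}, j ≤ k → N j ≤ N' k := fun {j k} hjk =>
    Finset.le_sup (f := N) (Finset.mem_range.mpr (Nat.lt_succ_of_le hjk))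
  let s : ℕ → R := fun k => r (N' k)
  have hs : ∀ {m n : ℕ}, m ≤ n → t ^ m ∣ s n - s m := by
    intro m n hmn
    have h1 := hN m (N' n) (hN'le hmn)
    have h2 := hN m (N' m) (hN'le le_rfl)
    have : s n - s m = (r (N' n) - r (N m)) - (r (N' m) - r (N m)) := by simp only [s]; ring
    rw [this]
    exact dvd_sub h1 h2
  obtain ⟨L, hL⟩ := IsPrecomplete.prec (I := Ideal.span {t}) (M := R) inferInstance (f := s) (by
    intro m n hmn
    rw [SModEq.sub_mem, Ideal.smul_eq_mul, Ideal.mul_top, Ideal.span_singleton_pow,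
      Ideal.mem_span_singleton]
    rw [← neg_sub]
    exact (hs hmn).neg_right)
  have hL' : ∀ k, t ^ k ∣ s k - L := by
    intro k
    have := hL k
    rwa [SModEq.sub_mem, Ideal.smul_eq_mul, Ideal.mul_top, Ideal.span_singleton_pow,
      Ideal.mem_span_singleton] at this
  refine ⟨x N₀ + algebraMap R K L, ?_⟩
  rw [Metric.tendsto_atTop]
  intro ε hε
  obtain ⟨k, hk⟩ := exists_pow_lt_of_lt_one hε hτ1
  refine ⟨N' k, fun n hn => ?_⟩
  have hn0 : N₀ ≤ n := le_trans (le_trans (hN0 k) (hN'le le_rfl)) hn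
  rw [dist_eq_norm]
  have e : x n - (x N₀ + algebraMap R K L) = algebraMap R K (r n - L) := by
    rw [map_sub, hr n hn0]; ring
  rw [e]
  refine lt_of_le_of_lt ?_ hk
  rw [norm_le_pow_iff R t ht K]
  have h1 := hN k n (le_trans (hN'le le_rfl) hn)
  have h2 := hN k (N' k) (hN'le le_rfl)
  have : r n - L = (r n - r (N k)) - (r (N' k) - r (N k)) + (s k - L) := by simp only [s]; ring
  rw [this]
  exact dvd_add (dvd_sub h1 h2) (hL' k)

end Groth.Agent.Lib.Seat52.ValNorm
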