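import Mathlib
import Groth.Agent.Lib.Helper14FTDimB

/-!
# Noether normalisation adapted to a chain of ideals (helper53)

`exists_finite_comap_chain`: for a monotone family of proper ideals `I j` of `k[x_1..x_n]` indexed
by a finite linear order there is ONE finite endomorphism `φ` with `φ⁻¹ (I j) = (x_i : i < c j)`.
-/

set_option autoImplicit false

open MvPolynomial

namespace Groth.Agent.Lib.Seat53.NNChain

open Groth.Agent.Lib.Helper14.NNPrime Groth.Agent.Lib.Helper14.FTDim

universe u v

variable {k : Type u} [Field k]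

theorem exists_finite_comap_chain : ∀ (n : ℕ) {ι : Type v} [LinearOrder ι] [Finite ι]
    (I : ι → Ideal (MvPolynomial (Fin n) k)), Monotone I → (∀ j, I j ≠ ⊤) →
    ∃ (c : ι → ℕ) (φ : MvPolynomial (Fin n) k →ₐ[k] MvPolynomial (Fin n) k),
      (∀ j, c j ≤ n) ∧ φ.toRingHom.Finite ∧
      ∀ j, (I j).comap φ = Ideal.span (MvPolynomial.X '' {i : Fin n | (i : ℕ) < c j}) := by
  classical
  have hbot : ∀ (n : ℕ) {ι : Type v} (I : ι → Ideal (MvPolynomial (Fin n) k)), (∀ j, I j = ⊥) →
      ∃ (c : ι → ℕ) (φ : MvPolynomial (Fin n) k →ₐ[k] MvPolynomial (Fin n) k),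
      (∀ j, c j ≤ n) ∧ φ.toRingHom.Finite ∧
      ∀ j, (I j).comap φ = Ideal.span (MvPolynomial.X '' {i : Fin n | (i : ℕ) < c j}) := by
    intro n ι I hI
    refine ⟨fun _ => 0, AlgHom.id k _, fun _ => Nat.zero_le _, RingHom.Finite.id _, fun j => ?_⟩
    have : {i : Fin n | (i : ℕ) < 0} = ∅ := by ext i; simp
    rw [this, Set.image_empty, Ideal.span_empty, hI j]
    ext x; simp
  intro n
  induction n with
  | zero =>
    intro ι _ _ I _ hI
    apply hbot
    intro j
    rw [eq_bot_iff]
    intro x hx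
    by_contra hx0
    have hx0' : x ≠ 0 := by simpa using hx0
    have hxC := eq_C_of_isEmpty x
    have hc : coeff 0 x ≠ 0 := by
      intro h; rw [h, map_zero] at hxC; exact hx0' hxC
    apply hI j
    apply Ideal.eq_top_of_isUnit_mem _ hx
    rw [hxC]
    exact (hc.isUnit).map MvPolynomial.C
  | succ n ih =>
    intro ι _ _ I hmono hI
    by_cases hall : ∀ j, I j = ⊥
    · exact hbot _ I hall
    push Not at hall
    -- minimal nonzero index
    have hwf : WellFounded ((· < ·) : ι → ι → Prop) := wellFounded_lt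
    obtain ⟨j₀, hj₀, hmin⟩ : ∃ j₀, I j₀ ≠ ⊥ ∧ ∀ j, I j ≠ ⊥ → j₀ ≤ j := by
      refine ⟨hwf.min {j | I j ≠ ⊥} hall, hwf.min_mem _ hall, fun j hj => ?_⟩
      exact not_lt.mp (hwf.not_lt_min {j | I j ≠ ⊥} (x := j) hj)
    obtain ⟨f, hfI, hf0⟩ := Submodule.exists_mem_ne_zero_of_ne_bot hj₀
    have hfu : ¬ IsUnit f := fun hu => hI j₀ (Ideal.eq_top_of_isUnit_mem _ hfI hu)
    obtain ⟨ψ, hψfin, hψ0⟩ := exists_finite_algHom_X_zero f hf0 hfu
    have hψinj : Function.Injective ψ := finite_endo_injective ψ hψfin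
    -- the restricted chain
    let K : ι → Ideal (MvPolynomial (Fin n) k) := fun j =>
      if I j = ⊥ then ⊥ else
        ((I j).comap ψ).comap (rename Fin.succ : MvPolynomial (Fin n) k →ₐ[k] _)
    have hKmono : Monotone K := by
      intro a b hab
      by_cases ha : I a = ⊥
      · simp only [K, if_pos ha]; exact bot_le
      · have hb : I b ≠ ⊥ := fun hb => ha (le_bot_iff.mp (hb ▸ hmono hab))
        simp only [K, if_neg ha, if_neg hb]
        exact Ideal.comap_mono (Ideal.comap_mono (hmono hab))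
    have hKtop : ∀ j, K j ≠ ⊤ := by
      intro j
      by_cases hj : I j = ⊥
      · simp only [K, if_pos hj]; exact bot_ne_top
      · simp only [K, if_neg hj]
        exact Ideal.comap_ne_top _ (Ideal.comap_ne_top _ (hI j))
    obtain ⟨c', φ', hc', hφ'fin, hφ'⟩ := ih K hKmono hKtop
    have hextinj : Function.Injective (ψ.comp (ext φ')) :=
      finite_endo_injective _ (AlgHom.Finite.comp hψfin (ext_finite φ' hφ'fin))
    refine ⟨fun j => if I j = ⊥ then 0 else c' j + 1, ψ.comp (ext φ'), fun j => ?_,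
      AlgHom.Finite.comp hψfin (ext_finite φ' hφ'fin), fun j => ?_⟩
    · by_cases hj : I j = ⊥
      · simp [hj]
      · simp only [if_neg hj]; have := hc' j; omega
    · by_cases hj : I j = ⊥
      · simp only [if_pos hj]
        have : {i : Fin (n + 1) | (i : ℕ) < 0} = ∅ := by ext i; simp
        rw [this, Set.image_empty, Ideal.span_empty, hj]
        ext x
        rw [Ideal.mem_comap, Ideal.mem_bot, Ideal.mem_bot]
        constructor
        · intro hx
          exact hextinj (by rw [hx, map_zero])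
        · intro hx; rw [hx, map_zero]
      · simp only [if_neg hj]
        have hX0 : MvPolynomial.X 0 ∈ (I j).comap ψ := by
          rw [Ideal.mem_comap, hψ0]
          exact hmono (hmin j hj) hfI
        have hKj : K j = ((I j).comap ψ).comap
            (rename Fin.succ : MvPolynomial (Fin n) k →ₐ[k] _) := by
          simp only [K, if_neg hj]
        have h1 := comap_ext φ' ((I j).comap ψ) hX0 _ (hKj ▸ hφ' j)
        have hset : (insert 0 (Fin.succ '' {i : Fin n | (i : ℕ) < c' j}) : Set (Fin (n + 1))) =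
            {i : Fin (n + 1) | (i : ℕ) < c' j + 1} := by
          ext i
          refine Fin.cases ?_ (fun l => ?_) i
          · simp
          · simp [Fin.succ_ne_zero]
        rw [← hset, ← h1]
        rfl

/-- dimension of the quotient by an ideal whose contraction is a coordinate ideal -/
theorem dim_quot_of_comap {m c : ℕ} (hc : c ≤ m) {D : Type u} [CommRing D] [Algebra k D]
    (g : MvPolynomial (Fin m) k →ₐ[k] D) (hfin : g.toRingHom.Finite) (Q : Ideal D)
    (hcomap : Q.comap g = Ideal.span (MvPolynomial.X '' {i : Fin m | (i : ℕ) < c})) :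
    ringKrullDim (D ⧸ Q) = ((m - c : ℕ) : WithBot ℕ∞) := by
  set ψ : MvPolynomial (Fin m) k →ₐ[k] D ⧸ Q := (Ideal.Quotient.mkₐ k Q).comp g with hψ
  have hψfin : ψ.toRingHom.Finite :=
    AlgHom.Finite.comp (AlgHom.Finite.of_surjective _ (Ideal.Quotient.mkₐ_surjective k Q)) hfin
  have hψker : RingHom.ker ψ = Ideal.span (MvPolynomial.X '' {i : Fin m | (i : ℕ) < c}) := by
    rw [← hcomap]
    ext x
    simp only [RingHom.mem_ker, Ideal.mem_comap]
    show Ideal.Quotient.mk Q (g x) = 0 ↔ _
    rw [Ideal.Quotient.eq_zero_iff_mem]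
  obtain ⟨hinj', hfin'⟩ := tau_comp ψ hψfin hψker
  rw [ringKrullDim_of_finite_injective _ hinj' hfin', card_tau hc]

/-- **Noether normalisation adapted to a chain of primes** in a finite type domain. -/
theorem exists_normalization_chain (A : Type u) [CommRing A] [IsDomain A] [Algebra k A]
    [Algebra.FiniteType k A] (d : ℕ) (hd : ringKrullDim A = (d : WithBot ℕ∞))
    (r : ℕ) (q : Fin r → PrimeSpectrum A) (hq : Monotone q) (h : Fin r → ℕ) (hh : ∀ i, h i ≤ d)
    (hdim : ∀ i, ringKrullDim (A ⧸ (q i).asIdeal) = ((d - h i : ℕ) : WithBot ℕ∞)) :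
    ∃ φ : MvPolynomial (Fin d) k →ₐ[k] A, φ.toRingHom.Finite ∧ Function.Injective φ ∧
      ∀ i, (q i).asIdeal.comap φ = Ideal.span (MvPolynomial.X '' {l : Fin d | (l : ℕ) < h i}) := by
  obtain ⟨m, g₁, hinj, hfin⟩ := exists_finite_inj_algHom_of_fg k A
  have hm : m = d := by
    have := ringKrullDim_of_finite_injective g₁ hinj hfin
    rw [hd, Fintype.card_fin] at this
    exact_mod_cast this.symm
  subst hm
  obtain ⟨c, φ₂, hc, hφ₂fin, hφ₂⟩ := exists_finite_comap_chain m
    (fun i : Fin r => (q i).asIdeal.comap g₁)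
    (fun a b hab => Ideal.comap_mono (hq hab))
    (fun i => Ideal.comap_ne_top _ (q i).2.ne_top)
  have hfin' : (g₁.comp φ₂).toRingHom.Finite := AlgHom.Finite.comp hfin hφ₂fin
  have hcomap : ∀ i, (q i).asIdeal.comap (g₁.comp φ₂) =
      Ideal.span (MvPolynomial.X '' {l : Fin m | (l : ℕ) < c i}) := by
    intro i
    rw [← hφ₂ i]
    rfl
  refine ⟨g₁.comp φ₂, hfin', hinj.comp (finite_endo_injective φ₂ hφ₂fin), fun i => ?_⟩
  have h1 := dim_quot_of_comap (hc i) (g₁.comp φ₂) hfin' (q i).asIdeal (hcomap i)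
  rw [hdim i] at h1
  have h2 : m - h i = m - c i := by exact_mod_cast h1
  have h3 : c i = h i := by have := hc i; have := hh i; omega
  rw [hcomap i, h3]

end Groth.Agent.Lib.Seat53.NNChain
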