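import Mathlib
import Groth.Agent.Lib.Seat53NNChain

/-!
# Extending chains of primes over coordinate chains (helper53)
-/

set_option autoImplicit false

open MvPolynomial

namespace Groth.Agent.Lib.Seat53.ChainExt

universe u v

/-- **Going down inside a quotient.**  `R → S` integral, `q ≤ q'` primes of `S`, `P` a prime of `R`
between their contractions, and `R ⧸ (q ∩ R)` integrally closed: there is a prime between `q` and
`q'` lying over `P`. -/
theorem exists_between {R : Type u} {S : Type v} [CommRing R] [CommRing S] [Algebra R S]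
    [Algebra.IsIntegral R S] (q q' : Ideal S) [q.IsPrime] [q'.IsPrime] (hqq' : q ≤ q')
    (P : Ideal R) [P.IsPrime] (h1 : q.comap (algebraMap R S) ≤ P)
    (h2 : P ≤ q'.comap (algebraMap R S))
    [IsIntegrallyClosed (R ⧸ q.comap (algebraMap R S))] :
    ∃ Q : Ideal S, Q.IsPrime ∧ q ≤ Q ∧ Q ≤ q' ∧ Q.comap (algebraMap R S) = P := by
  set p := q.comap (algebraMap R S) with hp
  letI : Algebra (R ⧸ p) (S ⧸ q) := Ideal.quotientAlgebra
  have hinj : Function.Injective (algebraMap (R ⧸ p) (S ⧸ q)) := Ideal.algebraMap_quotient_injective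
  haveI : FaithfulSMul (R ⧸ p) (S ⧸ q) := (faithfulSMul_iff_algebraMap_injective _ _).mpr hinj
  haveI : Algebra.IsIntegral (R ⧸ p) (S ⧸ q) := inferInstance
  haveI : IsDomain (S ⧸ q) := Ideal.Quotient.isDomain q
  haveI : Algebra.HasGoingDown (R ⧸ p) (S ⧸ q) := inferInstance
  -- the primes in the quotients
  have hP' : (P.map (Ideal.Quotient.mk p)).IsPrime :=
    Ideal.map_isPrime_of_surjective Ideal.Quotient.mk_surjective (by rwa [Ideal.mk_ker])
  have hQ'' : (q'.map (Ideal.Quotient.mk q)).IsPrime :=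
    Ideal.map_isPrime_of_surjective Ideal.Quotient.mk_surjective (by rwa [Ideal.mk_ker])
  have hle : P.map (Ideal.Quotient.mk p) ≤ (q'.map (Ideal.Quotient.mk q)).under (R ⧸ p) := by
    rw [Ideal.map_le_iff_le_comap]
    intro x hx
    rw [Ideal.mem_comap, Ideal.under_def, Ideal.mem_comap]
    have : algebraMap (R ⧸ p) (S ⧸ q) (Ideal.Quotient.mk p x) =
        Ideal.Quotient.mk q (algebraMap R S x) := rfl
    rw [this]
    exact Ideal.mem_map_of_mem _ (h2 hx)
  obtain ⟨P', hP'le, hP'prime, hP'over⟩ :=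
    Ideal.exists_ideal_le_liesOver_of_le (p := P.map (Ideal.Quotient.mk p))
      (q := (q'.map (Ideal.Quotient.mk q)).under (R ⧸ p)) (q'.map (Ideal.Quotient.mk q)) hle
  refine ⟨P'.comap (Ideal.Quotient.mk q), Ideal.comap_isPrime _ _, ?_, ?_, ?_⟩
  · intro x hx
    rw [Ideal.mem_comap, Ideal.Quotient.eq_zero_iff_mem.mpr hx]
    exact Ideal.zero_mem _
  · have := Ideal.comap_mono (f := Ideal.Quotient.mk q) hP'le
    rwa [Ideal.comap_map_of_surjective _ Ideal.Quotient.mk_surjective, ← RingHom.ker_eq_comap_bot,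
      Ideal.mk_ker, sup_eq_left.mpr hqq'] at this
  · ext x
    rw [Ideal.mem_comap, Ideal.mem_comap]
    have h3 : Ideal.Quotient.mk q (algebraMap R S x) =
        algebraMap (R ⧸ p) (S ⧸ q) (Ideal.Quotient.mk p x) := rfl
    rw [h3, ← Ideal.mem_comap, ← Ideal.under_def, ← hP'over.over,
      Ideal.mem_map_iff_of_surjective _ Ideal.Quotient.mk_surjective]
    constructor
    · rintro ⟨y, hy, hxy⟩
      have : y - x ∈ p := Ideal.Quotient.eq.mp hxy
      have hx : x = y - (y - x) := by ring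
      rw [hx]
      exact P.sub_mem hy (h1 this)
    · intro hx
      exact ⟨x, hx, rfl⟩

section concrete

open Groth.Agent.Lib.Helper14.NNPrime Groth.Agent.Lib.Helper14.FTDim

variable {k : Type u} [Field k] {d : ℕ}

/-- the coordinate ideal `(x_l : l < j)` -/
noncomputable abbrev pI (k : Type u) [Field k] (d j : ℕ) : Ideal (MvPolynomial (Fin d) k) :=
  Ideal.span (MvPolynomial.X '' {l : Fin d | (l : ℕ) < j})

theorem kill_surjective (j : ℕ) : Function.Surjective (kill k d j) := by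
  intro p
  refine ⟨rename Subtype.val p, ?_⟩
  have : (kill k d j).comp (rename Subtype.val : MvPolynomial (Tau d j) k →ₐ[k] _) =
      AlgHom.id k _ := by
    apply MvPolynomial.algHom_ext
    intro i
    rw [AlgHom.comp_apply, rename_X, kill_X_of_not_lt i.2, AlgHom.id_apply]
  exact congrArg (fun f => f p) this

theorem isIntegrallyClosed_quot (j : ℕ) :
    IsIntegrallyClosed (MvPolynomial (Fin d) k ⧸ pI k d j) := by
  have e1 : (MvPolynomial (Fin d) k ⧸ RingHom.ker (kill k d j).toRingHom) ≃+*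
      MvPolynomial (Tau d j) k :=
    RingHom.quotientKerEquivOfSurjective (f := (kill k d j).toRingHom) (kill_surjective j)
  have e2 : (MvPolynomial (Fin d) k ⧸ RingHom.ker (kill k d j).toRingHom) ≃+*
      (MvPolynomial (Fin d) k ⧸ pI k d j) := Ideal.quotEquivOfEq (ker_kill (k := k))
  exact IsIntegrallyClosed.of_equiv (e1.symm.trans e2)

theorem pI_mono {j j' : ℕ} (hjj' : j ≤ j') : pI k d j ≤ pI k d j' :=
  Ideal.span_mono (Set.image_mono fun i (hi : (i : ℕ) < j) => lt_of_lt_of_le hi hjj')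

theorem pI_zero : pI k d 0 = ⊥ := by
  have : {l : Fin d | (l : ℕ) < 0} = ∅ := by ext i; simp
  rw [pI, this, Set.image_empty, Ideal.span_empty]

theorem pI_lt {j j' : ℕ} (hjj' : j < j') (hj : j < d) : pI k d j < pI k d j' :=
  lt_of_lt_of_le (span_lt_span hj) (pI_mono hjj')

theorem pI_le_iff {j j' : ℕ} (hj : j ≤ d) (hj' : j' ≤ d) : pI k d j ≤ pI k d j' ↔ j ≤ j' := by
  constructor
  · intro hle
    by_contra hcon
    push Not at hcon
    have : pI k d j' < pI k d j := pI_lt hcon (by omega)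
    exact absurd (lt_of_lt_of_le this hle) (lt_irrefl _)
  · exact pI_mono

variable {A : Type u} [CommRing A] [Algebra k A]

theorem exists_between' (φ : MvPolynomial (Fin d) k →ₐ[k] A) (hfin : φ.toRingHom.Finite)
    (q q' : Ideal A) [q.IsPrime] [q'.IsPrime] (hqq' : q ≤ q') (a : ℕ)
    (hqa : q.comap φ = pI k d a) (P : Ideal (MvPolynomial (Fin d) k)) [P.IsPrime]
    (h1 : pI k d a ≤ P) (h2 : P ≤ q'.comap φ) :
    ∃ Q : Ideal A, Q.IsPrime ∧ q ≤ Q ∧ Q ≤ q' ∧ Q.comap φ = P := by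
  letI : Algebra (MvPolynomial (Fin d) k) A := φ.toRingHom.toAlgebra
  haveI : Module.Finite (MvPolynomial (Fin d) k) A := hfin
  haveI : Algebra.IsIntegral (MvPolynomial (Fin d) k) A := Algebra.IsIntegral.of_finite _ _
  have hc : q.comap (algebraMap (MvPolynomial (Fin d) k) A) = pI k d a := by
    rw [← hqa]
    exact Ideal.ext fun x => Iff.rfl
  haveI : IsIntegrallyClosed (MvPolynomial (Fin d) k ⧸
      q.comap (algebraMap (MvPolynomial (Fin d) k) A)) := by
    rw [hc]
    exact isIntegrallyClosed_quot a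
  obtain ⟨Q, hQ, h3, h4, h5⟩ := exists_between q q' hqq' P (hc ▸ h1) h2
  exact ⟨Q, hQ, h3, h4, h5⟩

theorem exists_above' (φ : MvPolynomial (Fin d) k →ₐ[k] A) (hfin : φ.toRingHom.Finite)
    (q : Ideal A) [q.IsPrime] (P : Ideal (MvPolynomial (Fin d) k)) [P.IsPrime]
    (h1 : q.comap φ ≤ P) :
    ∃ Q : Ideal A, Q.IsPrime ∧ q ≤ Q ∧ Q.comap φ = P := by
  letI : Algebra (MvPolynomial (Fin d) k) A := φ.toRingHom.toAlgebra
  haveI : Module.Finite (MvPolynomial (Fin d) k) A := hfin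
  haveI : Algebra.IsIntegral (MvPolynomial (Fin d) k) A := Algebra.IsIntegral.of_finite _ _
  obtain ⟨Q, hqQ, hQ, hQc⟩ := Ideal.exists_ideal_over_prime_of_isIntegral_of_isPrime P q h1
  exact ⟨Q, hQ, hqQ, hQc⟩

theorem comap_lt_comap' (φ : MvPolynomial (Fin d) k →ₐ[k] A) (hfin : φ.toRingHom.Finite)
    {q q' : Ideal A} [q.IsPrime] (hlt : q < q') : q.comap φ < q'.comap φ := by
  letI : Algebra (MvPolynomial (Fin d) k) A := φ.toRingHom.toAlgebra
  haveI : Module.Finite (MvPolynomial (Fin d) k) A := hfin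
  haveI : Algebra.IsIntegral (MvPolynomial (Fin d) k) A := Algebra.IsIntegral.of_finite _ _
  exact Ideal.IsIntegral.comap_lt_comap (R := MvPolynomial (Fin d) k) hlt

/-- a partial chain of primes over the coordinate chain, defined on the levels in `L` -/
def Good (φ : MvPolynomial (Fin d) k →ₐ[k] A) (L : Finset ℕ) (Q : ℕ → Ideal A) : Prop :=
  (∀ j ∈ L, (Q j).IsPrime ∧ (Q j).comap φ = pI k d j) ∧
    ∀ j ∈ L, ∀ j' ∈ L, j ≤ j' → Q j ≤ Q j'

theorem Good.insert {φ : MvPolynomial (Fin d) k →ₐ[k] A} {L : Finset ℕ} {Q : ℕ → Ideal A}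
    (hG : Good φ L Q) {j : ℕ} (hj : j ∉ L) (N : Ideal A) (hN : N.IsPrime)
    (hNc : N.comap φ = pI k d j) (hlow : ∀ s ∈ L, s < j → Q s ≤ N)
    (hhigh : ∀ s ∈ L, j < s → N ≤ Q s) :
    Good φ (insert j L) (Function.update Q j N) ∧ ∀ s ∈ L, Function.update Q j N s = Q s := by
  have hagree : ∀ s ∈ L, Function.update Q j N s = Q s := by
    intro s hs
    rw [Function.update_of_ne]
    rintro rfl
    exact hj hs
  refine ⟨⟨?_, ?_⟩, hagree⟩
  · intro s hs
    rcases Finset.mem_insert.mp hs with rfl | hs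
    · rw [Function.update_self]; exact ⟨hN, hNc⟩
    · rw [hagree s hs]; exact hG.1 s hs
  · intro s hs s' hs' hss'
    rcases Finset.mem_insert.mp hs with hsj | hsL
    · rcases Finset.mem_insert.mp hs' with hsj' | hsL'
      · rw [hsj, hsj']
      · rw [hsj, Function.update_self, hagree s' hsL']
        have hne : j ≠ s' := by rintro rfl; exact hj hsL'
        exact hhigh s' hsL' (lt_of_le_of_ne (hsj ▸ hss') hne)
    · rcases Finset.mem_insert.mp hs' with hsj' | hsL'
      · rw [hsj', Function.update_self, hagree s hsL]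
        have hne : s ≠ j := by rintro rfl; exact hj hsL
        exact hlow s hsL (lt_of_le_of_ne (hsj' ▸ hss') hne)
      · rw [hagree s hsL, hagree s' hsL']
        exact hG.2 s hsL s' hsL' hss'

theorem fill (φ : MvPolynomial (Fin d) k →ₐ[k] A) (hfin : φ.toRingHom.Finite)
    {L : Finset ℕ} {Q : ℕ → Ideal A} (hG : Good φ L Q) (h0 : 0 ∈ L) (hd : d ∈ L)
    (hLd : ∀ s ∈ L, s ≤ d) :
    ∀ j ≤ d, ∃ Q' : ℕ → Ideal A, Good φ (L ∪ Finset.range (j + 1)) Q' ∧ ∀ s ∈ L, Q' s = Q s := by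
  intro j
  induction j with
  | zero =>
    intro _
    refine ⟨Q, ?_, fun _ _ => rfl⟩
    have : L ∪ Finset.range (0 + 1) = L := by
      rw [Finset.union_eq_left]
      intro x hx
      have : x = 0 := by simpa using hx
      rw [this]; exact h0
    rw [this]; exact hG
  | succ j ih =>
    intro hjd
    obtain ⟨Q₁, hG₁, hag₁⟩ := ih (by omega)
    by_cases hj1 : j + 1 ∈ L
    · refine ⟨Q₁, ?_, hag₁⟩
      have : L ∪ Finset.range (j + 1 + 1) = L ∪ Finset.range (j + 1) := by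
        ext x
        simp only [Finset.mem_union, Finset.mem_range]
        constructor
        · rintro (hx | hx)
          · exact Or.inl hx
          · by_cases hxj : x = j + 1
            · rw [hxj]; exact Or.inl hj1
            · exact Or.inr (by omega)
        · rintro (hx | hx)
          · exact Or.inl hx
          · exact Or.inr (by omega)
      rw [this]; exact hG₁
    · have hj1' : j + 1 ∉ L ∪ Finset.range (j + 1) := by
        simp only [Finset.mem_union, Finset.mem_range, not_or]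
        exact ⟨hj1, by omega⟩
      have hjL₁ : j ∈ L ∪ Finset.range (j + 1) := by
        simp only [Finset.mem_union, Finset.mem_range]
        exact Or.inr (by omega)
      -- the next level above
      have hTne : (L.filter (fun s => j + 1 < s)).Nonempty := by
        refine ⟨d, Finset.mem_filter.mpr ⟨hd, ?_⟩⟩
        have : d ≠ j + 1 := by rintro rfl; exact hj1 hd
        omega
      obtain ⟨b, hb⟩ : ∃ b, b = (L.filter (fun s => j + 1 < s)).min' hTne := ⟨_, rfl⟩
      have hbT : b ∈ L.filter (fun s => j + 1 < s) := hb ▸ Finset.min'_mem _ hTne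
      have hbL : b ∈ L := (Finset.mem_filter.mp hbT).1
      have hbj : j + 1 < b := (Finset.mem_filter.mp hbT).2
      have hbL₁ : b ∈ L ∪ Finset.range (j + 1) := Finset.mem_union_left _ hbL
      have hbd : b ≤ d := hLd b hbL
      haveI hprj : (Q₁ j).IsPrime := (hG₁.1 j hjL₁).1
      haveI hprb : (Q₁ b).IsPrime := (hG₁.1 b hbL₁).1
      have hle : Q₁ j ≤ Q₁ b := hG₁.2 j hjL₁ b hbL₁ (by omega)
      obtain ⟨N, hN, hjN, hNb, hNc⟩ := exists_between' φ hfin (Q₁ j) (Q₁ b) hle j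
        (hG₁.1 j hjL₁).2 (pI k d (j + 1)) (pI_mono (by omega))
        (by rw [(hG₁.1 b hbL₁).2]; exact pI_mono (by omega))
      obtain ⟨hG₂, hag₂⟩ := hG₁.insert hj1' N hN hNc
        (fun s hs hsj => (hG₁.2 s hs j hjL₁ (by omega)).trans hjN)
        (fun s hs hsj => by
          have hsL : s ∈ L := by
            rcases Finset.mem_union.mp hs with h | h
            · exact h
            · have := Finset.mem_range.mp h; omega
          have hbs : b ≤ s := hb ▸ Finset.min'_le _ s (Finset.mem_filter.mpr ⟨hsL, hsj⟩)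
          exact hNb.trans (hG₁.2 b hbL₁ s hs hbs))
      refine ⟨Function.update Q₁ (j + 1) N, ?_, ?_⟩
      · have : L ∪ Finset.range (j + 1 + 1) = insert (j + 1) (L ∪ Finset.range (j + 1)) := by
          ext x
          simp only [Finset.mem_union, Finset.mem_range, Finset.mem_insert]
          constructor
          · rintro (hx | hx)
            · exact Or.inr (Or.inl hx)
            · by_cases hxj : x = j + 1
              · exact Or.inl hxj
              · exact Or.inr (Or.inr (by omega))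
          · rintro (hx | hx | hx)
            · exact Or.inr (by omega)
            · exact Or.inl hx
            · exact Or.inr (by omega)
        rw [this]; exact hG₂
      · intro s hs
        rw [hag₂ s (Finset.mem_union_left _ hs), hag₁ s hs]

/-- **Extension of a chain of primes lying over coordinate ideals to a full chain.** -/
theorem exists_full_chain [IsDomain A] (φ : MvPolynomial (Fin d) k →ₐ[k] A)
    (hfin : φ.toRingHom.Finite) (hinj : Function.Injective φ)
    (r : ℕ) (q : Fin r → PrimeSpectrum A) (hq : StrictMono q) (h : Fin r → ℕ) (hh : ∀ i, h i ≤ d)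
    (hcomap : ∀ i, (q i).asIdeal.comap φ = pI k d (h i)) :
    ∃ Q : ℕ → PrimeSpectrum A, (∀ j, j ≤ d → (Q j).asIdeal.comap φ = pI k d j) ∧
      (∀ j, j < d → Q j < Q (j + 1)) ∧ ∀ i, Q (h i) = q i := by
  classical
  -- `h` is strictly monotone
  have hhmono : StrictMono h := by
    intro i i' hii'
    have h1 : (q i).asIdeal < (q i').asIdeal := hq hii'
    haveI := (q i).2
    have h2 := comap_lt_comap' φ hfin h1
    rw [hcomap i, hcomap i'] at h2
    by_contra hcon
    push Not at hcon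
    exact absurd (lt_of_lt_of_le h2 (pI_mono hcon)) (lt_irrefl _)
  -- Step 0: the given primes
  obtain ⟨L₀, hL₀⟩ : ∃ L₀ : Finset ℕ, L₀ = Finset.univ.image h := ⟨_, rfl⟩
  obtain ⟨Q₀, hQ₀⟩ : ∃ Q₀ : ℕ → Ideal A, Q₀ = fun j =>
      if hj : ∃ i, h i = j then (q hj.choose).asIdeal else ⊥ := ⟨_, rfl⟩
  have hQ₀h : ∀ i, Q₀ (h i) = (q i).asIdeal := by
    intro i
    have hex : ∃ i', h i' = h i := ⟨i, rfl⟩
    rw [hQ₀]
    simp only [dif_pos hex]
    rw [hhmono.injective hex.choose_spec]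
  have hG₀ : Good φ L₀ Q₀ := by
    refine ⟨?_, ?_⟩
    · intro j hj
      rw [hL₀, Finset.mem_image] at hj
      obtain ⟨i, -, rfl⟩ := hj
      rw [hQ₀h]
      exact ⟨(q i).2, hcomap i⟩
    · intro j hj j' hj' hjj'
      rw [hL₀, Finset.mem_image] at hj hj'
      obtain ⟨i, -, rfl⟩ := hj
      obtain ⟨i', -, rfl⟩ := hj'
      rw [hQ₀h, hQ₀h]
      exact hq.monotone (hhmono.le_iff_le.mp hjj')
  have hL₀d : ∀ s ∈ L₀, s ≤ d := by
    intro s hs
    rw [hL₀, Finset.mem_image] at hs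
    obtain ⟨i, -, rfl⟩ := hs
    exact hh i
  -- Step 1: level 0
  obtain ⟨L₁, Q₁, hG₁, h0L₁, hL₀L₁, hL₁d, hag₁⟩ : ∃ (L₁ : Finset ℕ) (Q₁ : ℕ → Ideal A),
      Good φ L₁ Q₁ ∧ 0 ∈ L₁ ∧ L₀ ⊆ L₁ ∧ (∀ s ∈ L₁, s ≤ d) ∧ ∀ s ∈ L₀, Q₁ s = Q₀ s := by
    by_cases h0 : 0 ∈ L₀
    · exact ⟨L₀, Q₀, hG₀, h0, subset_rfl, hL₀d, fun _ _ => rfl⟩
    · have hbotc : (⊥ : Ideal A).comap φ = pI k d 0 := by
        rw [pI_zero]
        ext x
        rw [Ideal.mem_comap, Ideal.mem_bot, Ideal.mem_bot]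
        constructor
        · intro hx
          exact hinj (by rw [hx, map_zero])
        · intro hx; rw [hx, map_zero]
      obtain ⟨hG, hag⟩ := hG₀.insert h0 ⊥ Ideal.isPrime_bot hbotc
        (fun s _ hs => absurd hs (Nat.not_lt_zero s)) (fun s _ _ => bot_le)
      refine ⟨insert 0 L₀, _, hG, Finset.mem_insert_self _ _, Finset.subset_insert _ _, ?_, hag⟩
      intro s hs
      rcases Finset.mem_insert.mp hs with rfl | hs
      · exact Nat.zero_le _
      · exact hL₀d s hs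
  -- Step 2: level d
  obtain ⟨L₂, Q₂, hG₂, h0L₂, hdL₂, hL₁L₂, hL₂d, hag₂⟩ : ∃ (L₂ : Finset ℕ) (Q₂ : ℕ → Ideal A),
      Good φ L₂ Q₂ ∧ 0 ∈ L₂ ∧ d ∈ L₂ ∧ L₁ ⊆ L₂ ∧ (∀ s ∈ L₂, s ≤ d) ∧ ∀ s ∈ L₁, Q₂ s = Q₁ s := by
    by_cases hd : d ∈ L₁
    · exact ⟨L₁, Q₁, hG₁, h0L₁, hd, subset_rfl, hL₁d, fun _ _ => rfl⟩
    · have hne : L₁.Nonempty := ⟨0, h0L₁⟩
      obtain ⟨s₀, hs₀⟩ : ∃ s₀, s₀ = L₁.max' hne := ⟨_, rfl⟩
      have hs₀L : s₀ ∈ L₁ := hs₀ ▸ Finset.max'_mem _ hne
      haveI := (hG₁.1 s₀ hs₀L).1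
      obtain ⟨N, hN, hsN, hNc⟩ := exists_above' φ hfin (Q₁ s₀) (pI k d d)
        (by rw [(hG₁.1 s₀ hs₀L).2]; exact pI_mono (hL₁d s₀ hs₀L))
      obtain ⟨hG, hag⟩ := hG₁.insert hd N hN hNc
        (fun s hs _ => (hG₁.2 s hs s₀ hs₀L (hs₀ ▸ Finset.le_max' _ s hs)).trans hsN)
        (fun s hs hds => absurd (hL₁d s hs) (not_le.mpr hds))
      refine ⟨insert d L₁, _, hG, Finset.mem_insert_of_mem h0L₁, Finset.mem_insert_self _ _,
        Finset.subset_insert _ _, ?_, hag⟩
      intro s hs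
      rcases Finset.mem_insert.mp hs with rfl | hs
      · exact le_rfl
      · exact hL₁d s hs
  -- Step 3: fill
  obtain ⟨Q₃, hG₃, hag₃⟩ := fill φ hfin hG₂ h0L₂ hdL₂ hL₂d d le_rfl
  have hmem : ∀ j, j ≤ d → j ∈ L₂ ∪ Finset.range (d + 1) := by
    intro j hj
    exact Finset.mem_union_right _ (Finset.mem_range.mpr (by omega))
  refine ⟨fun j => if hj : (Q₃ j).IsPrime then ⟨Q₃ j, hj⟩ else ⟨⊥, Ideal.isPrime_bot⟩, ?_, ?_, ?_⟩
  · intro j hj
    have hp := (hG₃.1 j (hmem j hj)).1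
    simp only [dif_pos hp]
    exact (hG₃.1 j (hmem j hj)).2
  · intro j hj
    have hp := (hG₃.1 j (hmem j hj.le)).1
    have hp' := (hG₃.1 (j + 1) (hmem (j + 1) hj)).1
    simp only [dif_pos hp, dif_pos hp']
    rw [← PrimeSpectrum.asIdeal_lt_asIdeal]
    refine lt_of_le_of_ne (hG₃.2 j (hmem j hj.le) (j + 1) (hmem (j + 1) hj) (by omega)) ?_
    intro heq
    have h1 := (hG₃.1 j (hmem j hj.le)).2
    have h2 := (hG₃.1 (j + 1) (hmem (j + 1) hj)).2
    have h3 : Q₃ j = Q₃ (j + 1) := heq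
    rw [h3, h2] at h1
    exact absurd h1 (ne_of_gt (pI_lt (by omega) hj))
  · intro i
    have hi₀ : h i ∈ L₀ := by rw [hL₀]; exact Finset.mem_image_of_mem _ (Finset.mem_univ _)
    have h1 : Q₃ (h i) = (q i).asIdeal := by
      rw [hag₃ _ (hL₁L₂ (hL₀L₁ hi₀)), hag₂ _ (hL₀L₁ hi₀), hag₁ _ hi₀, hQ₀h]
    have hp : (Q₃ (h i)).IsPrime := h1 ▸ (q i).2
    simp only [dif_pos hp]
    exact PrimeSpectrum.ext h1

end concrete

end Groth.Agent.Lib.Seat53.ChainExt
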