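import Mathlib
import Groth.Prelude.Def_LefPen
import Groth.Agent.Lib.Seat53GenericParam
import Groth.Agent.Lib.Seat53GenericChart
import Groth.Agent.Lib.Seat53GenericRestrict
import Groth.Agent.Lib.Seat53GenericSubst

/-!
# A general hypersurface containing a given linear subspace of at most half the dimension is smooth
-/

set_option autoImplicit false
universe u v

namespace Groth.Agent.Lib.Seat53.Generic

open MvPolynomial

section Ring

variable {R : Type u} [CommRing R] {S : Type v} [CommRing S] {N s : ℕ}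

/-- the shear substitution `x_j ↦ x_j + ∑ l, A j l * x_(a l)` off the pivots `a l` -/
noncomputable def shear (a : Fin s ↪ Fin N) (A : Fin N → Fin s → R) (j : Fin N) :
    MvPolynomial (Fin N) R :=
  open Classical in if j ∈ Set.range a then X j else X j + ∑ l, C (A j l) * X (a l)

theorem eval_shear_mem (a : Fin s ↪ Fin N) (A : Fin N → Fin s → R) {j : Fin N}
    (hj : j ∈ Set.range a) (y : Fin N → R) : eval y (shear a A j) = y j := by
  unfold shear
  rw [if_pos hj, eval_X]

theorem eval_shear_notMem (a : Fin s ↪ Fin N) (A : Fin N → Fin s → R) {j : Fin N}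
    (hj : j ∉ Set.range a) (y : Fin N → R) :
    eval y (shear a A j) = y j + ∑ l, A j l * y (a l) := by
  unfold shear
  rw [if_neg hj, map_add, eval_X, map_sum]
  congr 1
  refine Finset.sum_congr rfl fun l _ => ?_
  rw [map_mul, eval_C, eval_X]

theorem shear_isHomogeneous (a : Fin s ↪ Fin N) (A : Fin N → Fin s → R) (j : Fin N) :
    (shear a A j).IsHomogeneous 1 := by
  unfold shear
  split_ifs
  · exact isHomogeneous_X _ _
  · apply IsHomogeneous.add (isHomogeneous_X _ _)
    apply IsHomogeneous.sum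
    intro l _
    exact (isHomogeneous_X _ _).C_mul _

theorem shear_inv (a : Fin s ↪ Fin N) (A A' : Fin N → Fin s → R) (hA : ∀ j l, A' j l = - A j l)
    (y : Fin N → R) (j : Fin N) :
    eval (fun j' => eval y (shear a A' j')) (shear a A j) = y j := by
  by_cases hj : j ∈ Set.range a
  · rw [eval_shear_mem a A hj, eval_shear_mem a A' hj]
  · rw [eval_shear_notMem a A hj, eval_shear_notMem a A' hj]
    have : ∀ l, A j l * eval y (shear a A' (a l)) = - (A' j l * y (a l)) := by
      intro l
      rw [eval_shear_mem a A' ⟨l, rfl⟩, hA]; ring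
    rw [Finset.sum_congr rfl fun l _ => this l, Finset.sum_neg_distrib]
    ring

/-- the elementary substitution `x_j' ↦ x_j' + w j' * x_j` for `j' ≠ j` -/
noncomputable def elem (j : Fin N) (w : Fin N → R) (j' : Fin N) : MvPolynomial (Fin N) R :=
  if j' = j then X j else X j' + C (w j') * X j

theorem eval_elem (j : Fin N) (w : Fin N → R) (j' : Fin N) (y : Fin N → R) :
    eval y (elem j w j') = if j' = j then y j else y j' + w j' * y j := by
  unfold elem
  split_ifs
  · rw [eval_X]
  · rw [map_add, map_mul, eval_X, eval_C, eval_X]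

theorem elem_isHomogeneous (j : Fin N) (w : Fin N → R) (j' : Fin N) :
    (elem j w j').IsHomogeneous 1 := by
  unfold elem
  split_ifs
  · exact isHomogeneous_X _ _
  · exact IsHomogeneous.add (isHomogeneous_X _ _) ((isHomogeneous_X _ _).C_mul _)

theorem elem_inv (j : Fin N) (w w' : Fin N → R) (hw : ∀ i, i ≠ j → w' i = - w i)
    (y : Fin N → R) (j'' : Fin N) :
    eval (fun j' => eval y (elem j w' j')) (elem j w j'') = y j'' := by
  rw [eval_elem]
  by_cases hj : j'' = j
  · rw [if_pos hj, eval_elem, if_pos rfl, hj]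
  · rw [if_neg hj, eval_elem, if_neg hj, eval_elem, if_pos rfl, hw j'' hj]
    ring

theorem map_elem (f : R →+* S) (j : Fin N) (w : Fin N → R) (j' : Fin N) :
    map f (elem j w j') = elem j (fun i => f (w i)) j' := by
  unfold elem
  split_ifs
  · rw [map_X]
  · rw [map_add, map_mul, map_X, map_C, map_X]

theorem elem_congr (j : Fin N) (w w' : Fin N → R) (h : ∀ i, i ≠ j → w i = w' i) (j' : Fin N) :
    elem j w j' = elem j w' j' := by
  unfold elem
  split_ifs with hj
  · rfl
  · rw [h j' hj]

end Ring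

section Field

variable {k : Type u} [Field k] {N s : ℕ}

theorem coeff_aeval_eq_sum (g : Fin N → MvPolynomial (Fin N) k) (H : MvPolynomial (Fin N) k)
    (T : Finset (Fin N →₀ ℕ)) (hT : H.support ⊆ T) (e : Fin N →₀ ℕ) :
    coeff e (aeval g H) = ∑ e' ∈ T, coeff e' H * coeff e (∏ j', g j' ^ e' j') := by
  have h1 : aeval g H = ∑ e' ∈ T, C (coeff e' H) * ∏ j', g j' ^ e' j' := by
    rw [aeval_def, eval₂_eq']
    apply Finset.sum_subset hT
    intro e' _ he'
    rw [notMem_support_iff.1 he', map_zero, zero_mul]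
  rw [h1, coeff_sum]
  refine Finset.sum_congr rfl fun e' _ => ?_
  rw [coeff_C_mul]

/-- exponents outside the pivots involve a variable off the chart -/
theorem exists_notMem_range_of_notMem_Piv (a : Fin s ↪ Fin N) {d : ℕ} {e : Fin N →₀ ℕ}
    (he : e ∈ Exps N d) (he' : e ∉ Piv a d) : ∃ j, j ∉ Set.range a ∧ e j ≠ 0 := by
  classical
  by_contra hcon
  push Not at hcon
  apply he'
  have hsupp : (↑e.support : Set (Fin N)) ⊆ Set.range a := by
    intro j hj
    by_contra hj'
    exact (Finsupp.mem_support_iff.1 hj) (hcon j hj')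
  have h1 := Finsupp.mapDomain_comapDomain a a.injective e hsupp
  unfold Piv
  rw [Finset.mem_image]
  refine ⟨Finsupp.comapDomain a e a.injective.injOn, ?_, h1⟩
  rw [mem_Exps] at he ⊢
  rw [← Finsupp.degree_mapDomain a, h1, he]

theorem apply_eq_zero_of_mem_Piv (a : Fin s ↪ Fin N) {d : ℕ} {e : Fin N →₀ ℕ}
    (he : e ∈ Piv a d) {j : Fin N} (hj : j ∉ Set.range a) : e j = 0 := by
  classical
  unfold Piv at he
  obtain ⟨ε, _, rfl⟩ := Finset.mem_image.1 he
  exact Finsupp.mapDomain_of_notMem_range _ _ hj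

/-- monomials involving a variable off the chart vanish on the coordinate subspace -/
theorem eval_monomial_eq_zero (a : Fin s ↪ Fin N) {e : Fin N →₀ ℕ} {j : Fin N}
    (hj : j ∉ Set.range a) (hej : e j ≠ 0) (c : k) (y : Fin N → k)
    (hy : ∀ j, j ∉ Set.range a → y j = 0) : eval y (monomial e c) = 0 := by
  rw [eval_monomial]
  have : (e.prod fun n e => y n ^ e) = 0 := by
    unfold Finsupp.prod
    apply Finset.prod_eq_zero (Finsupp.mem_support_iff.2 hej)
    show y j ^ e j = 0
    rw [hy j hj, zero_pow hej]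
  rw [this, mul_zero]

/-- a form vanishing on the coordinate subspace of the chart has no pivot monomials -/
theorem coeff_eq_zero_of_vanish [Infinite k] (a : Fin s ↪ Fin N) {d : ℕ} {H : MvPolynomial (Fin N) k}
    (hH : H.IsHomogeneous d) (hvan : ∀ y : Fin N → k, (∀ j, j ∉ Set.range a → y j = 0) → eval y H = 0)
    {e : Fin N →₀ ℕ} (he : e ∈ Piv a d) : coeff e H = 0 := by
  classical
  obtain ⟨A₀, hA₀def⟩ : ∃ A₀ : Fin N → Fin s → k, A₀ = fun j l => if j = a l then 1 else 0 := ⟨_, rfl⟩
  have hA₀ : ∀ l l', A₀ (a l) l' = if l = l' then 1 else 0 := by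
    intro l l'
    rw [hA₀def]
    show (if a l = a l' then (1 : k) else 0) = _
    by_cases hl : l = l'
    · rw [if_pos hl, if_pos (by rw [hl])]
    · rw [if_neg hl, if_neg (fun h => hl (a.injective h))]
  have hres : aeval (gr A₀) H = 0 := by
    apply aeval_gr_eq_zero
    intro y
    apply hvan
    intro j hj
    apply Finset.sum_eq_zero
    intro l _
    rw [hA₀def]
    show (if j = a l then (1 : k) else 0) * y l = 0
    rw [if_neg (fun h => hj ⟨l, h.symm⟩), zero_mul]
  unfold Piv at he
  obtain ⟨ε, hε, rfl⟩ := Finset.mem_image.1 he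
  rw [coeff_pivot a A₀ hA₀ hH hres ε hε, neg_eq_zero]
  apply Finset.sum_eq_zero
  intro e' he'
  rw [Finset.mem_sdiff] at he'
  obtain ⟨j, hj, hej⟩ := exists_notMem_range_of_notMem_Piv a he'.1 he'.2
  have hgr : gr A₀ j = 0 := by
    unfold gr
    apply Finset.sum_eq_zero
    intro l _
    rw [hA₀def]
    show C (if j = a l then (1 : k) else 0) * X l = 0
    rw [if_neg (fun h => hj ⟨l, h.symm⟩), map_zero, zero_mul]
  have hmon : mon A₀ e' = 0 := by
    unfold mon
    apply Finset.prod_eq_zero (Finset.mem_univ j)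
    rw [hgr, zero_pow hej]
  rw [hmon, coeff_zero, mul_zero]

/-- `H` is singular at `v` -/
def SingAt (H : MvPolynomial (Fin N) k) (v : Fin N → k) : Prop :=
  eval v H = 0 ∧ ∀ i, eval v (pderiv i H) = 0

theorem SingAt.aeval {g : Fin N → MvPolynomial (Fin N) k} {G : MvPolynomial (Fin N) k}
    {y : Fin N → k} (h : SingAt G (fun j => eval y (g j))) : SingAt (aeval g G) y := by
  refine ⟨?_, fun i => eval_pderiv_aeval_eq_zero g G y h.2 i⟩
  rw [eval_aeval']; exact h.1

theorem SingAt.smul {H : MvPolynomial (Fin N) k} {d : ℕ} (hH : H.IsHomogeneous d)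
    {v : Fin N → k} (h : SingAt H v) (c : k) : SingAt H (c • v) := by
  refine ⟨?_, fun i => ?_⟩
  · rw [eval_smul_hom hH, h.1, mul_zero]
  · rw [eval_smul_hom (hH.pderiv (i := i)), h.2 i, mul_zero]

/-- the shear maps the coordinate subspace of the chart onto the graph -/
theorem shear_maps_Ua (a : Fin s ↪ Fin N) (A : Fin N → Fin s → k)
    (hA : ∀ l l', A (a l) l' = if l = l' then 1 else 0) (y : Fin N → k)
    (hy : ∀ j, j ∉ Set.range a → y j = 0) :
    (fun j => eval y (shear a A j)) = fun j => ∑ l, A j l * y (a l) := by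
  classical
  funext j
  by_cases hj : j ∈ Set.range a
  · rw [eval_shear_mem a A hj]
    obtain ⟨l₀, rfl⟩ := hj
    rw [Finset.sum_eq_single l₀]
    · rw [hA, if_pos rfl, one_mul]
    · intro l _ hl
      rw [hA, if_neg (Ne.symm hl), zero_mul]
    · intro h; exact absurd (Finset.mem_univ l₀) h
  · rw [eval_shear_notMem a A hj, hy j hj, zero_add]

theorem exists_normalised (a : Fin s ↪ Fin N) {H₀ : MvPolynomial (Fin N) k} {d : ℕ}
    (hH : H₀.IsHomogeneous d) {v₀ : Fin N → k} (hv₀ : v₀ ≠ 0) (hs : SingAt H₀ v₀) :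
    ∃ (j : Fin N) (w : Fin N → k), w j = 1 ∧
      (j ∈ Set.range a → ∀ i, i ∉ Set.range a → w i = 0) ∧ SingAt H₀ w := by
  by_cases hex : ∃ j, j ∉ Set.range a ∧ v₀ j ≠ 0
  · obtain ⟨j, hj, hvj⟩ := hex
    refine ⟨j, (v₀ j)⁻¹ • v₀, ?_, fun h => absurd h hj, hs.smul hH _⟩
    rw [Pi.smul_apply, smul_eq_mul, inv_mul_cancel₀ hvj]
  · push Not at hex
    obtain ⟨j, hvj⟩ : ∃ j, v₀ j ≠ 0 := by
      by_contra hcon
      push Not at hcon
      exact hv₀ (funext hcon)
    refine ⟨j, (v₀ j)⁻¹ • v₀, ?_, fun _ i hi => ?_, hs.smul hH _⟩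
    · rw [Pi.smul_apply, smul_eq_mul, inv_mul_cancel₀ hvj]
    · rw [Pi.smul_apply, smul_eq_mul, hex i hi, mul_zero]

/-- the singular pivot exponents `x_j^(d-1) x_i` -/
noncomputable def sp (j : Fin N) (d : ℕ) (i : Fin N) : Fin N →₀ ℕ :=
  Finsupp.single j (d - 1) + Finsupp.single i 1

theorem sp_injective (j : Fin N) (d : ℕ) : Function.Injective (sp j d) := by
  intro i i' h
  unfold sp at h
  have h1 := add_left_cancel h
  exact (Finsupp.single_left_injective one_ne_zero) h1

theorem normal_form [Infinite k] (a : Fin s ↪ Fin N) {H₀ : MvPolynomial (Fin N) k} {d : ℕ}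
    (hd : 1 ≤ d) (hH : H₀.IsHomogeneous d)
    (hvan : ∀ y : Fin N → k, (∀ j, j ∉ Set.range a → y j = 0) → eval y H₀ = 0)
    {j : Fin N} {w : Fin N → k} (hwj : w j = 1)
    (hw : j ∈ Set.range a → ∀ i, i ∉ Set.range a → w i = 0) (hs : SingAt H₀ w) :
    (aeval (elem j w) H₀).IsHomogeneous d ∧
    (∀ y : Fin N → k, (∀ j, j ∉ Set.range a → y j = 0) → eval y (aeval (elem j w) H₀) = 0) ∧
    (∀ i, coeff (sp j d i) (aeval (elem j w) H₀) = 0) ∧
    aeval (elem j (fun i => - w i)) (aeval (elem j w) H₀) = H₀ := by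
  classical
  have hhom : (aeval (elem j w) H₀).IsHomogeneous d := by
    have := hH.aeval (elem j w) (elem_isHomogeneous j w)
    rwa [one_mul] at this
  refine ⟨hhom, ?_, ?_, ?_⟩
  · intro y hy
    rw [eval_aeval']
    apply hvan
    intro j' hj'
    rw [eval_elem]
    by_cases hjj : j' = j
    · rw [if_pos hjj, ← hjj, hy j' hj']
    · rw [if_neg hjj, hy j' hj', zero_add]
      by_cases hj : j ∈ Set.range a
      · rw [hw hj j' hj', zero_mul]
      · rw [hy j hj, mul_zero]
  · have hpt : (fun j' => eval (Pi.single j (1 : k)) (elem j w j')) = w := by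
      funext j'
      rw [eval_elem]
      by_cases hjj : j' = j
      · rw [if_pos hjj, Pi.single_eq_same, hjj, hwj]
      · rw [if_neg hjj, Pi.single_eq_of_ne hjj, Pi.single_eq_same, zero_add, mul_one]
    have hsing : SingAt (aeval (elem j w) H₀) (Pi.single j (1 : k)) := by
      apply SingAt.aeval
      rw [hpt]; exact hs
    intro i
    exact coeff_sing_single hd hhom j hsing.1 hsing.2 i
  · exact aeval_aeval_eq_self (elem j w) (elem j fun i => - w i)
      (elem_inv j w _ fun i _ => rfl) H₀

/-- coordinates allowed for the singular point in the chart `j` -/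
noncomputable def Qs (a : Fin s ↪ Fin N) (j : Fin N) : Finset (Fin N) :=
  open Classical in Finset.univ.filter fun i => i ≠ j ∧ (j ∈ Set.range a → i ∈ Set.range a)

/-- directions of the singular pivots in the chart `j` -/
noncomputable def Qs' (a : Fin s ↪ Fin N) (j : Fin N) : Finset (Fin N) :=
  open Classical in Finset.univ.filter fun i => j ∈ Set.range a → i ∉ Set.range a

theorem card_Qs_lt (a : Fin s ↪ Fin N) (j : Fin N) (h : 2 * s ≤ N) :
    (Qs a j).card < (Qs' a j).card := by
  classical
  by_cases hj : j ∈ Set.range a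
  · have h1 : Qs a j ⊆ (Finset.univ.map a).erase j := by
      intro i hi
      unfold Qs at hi
      rw [Finset.mem_filter] at hi
      rw [Finset.mem_erase, Finset.mem_map]
      obtain ⟨l, hl⟩ := hi.2.2 hj
      exact ⟨hi.2.1, l, Finset.mem_univ l, hl⟩
    have h2 : (Finset.univ.map a)ᶜ ⊆ Qs' a j := by
      intro i hi
      unfold Qs'
      rw [Finset.mem_filter]
      refine ⟨Finset.mem_univ i, fun _ hi' => ?_⟩
      rw [Finset.mem_compl, Finset.mem_map] at hi
      obtain ⟨l, hl⟩ := hi'
      exact hi ⟨l, Finset.mem_univ l, hl⟩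
    have h3 := Finset.card_le_card h1
    have h4 := Finset.card_le_card h2
    have hjm : j ∈ Finset.univ.map a := by
      obtain ⟨l, hl⟩ := hj
      exact Finset.mem_map.2 ⟨l, Finset.mem_univ l, hl⟩
    rw [Finset.card_erase_of_mem hjm, Finset.card_map, Finset.card_univ, Fintype.card_fin] at h3
    rw [Finset.card_compl, Finset.card_map, Finset.card_univ, Fintype.card_fin,
      Fintype.card_fin] at h4
    have hs1 : 1 ≤ s := by
      obtain ⟨l, _⟩ := hj
      exact Nat.succ_le_of_lt (Fin.pos l)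
    omega
  · apply Finset.card_lt_card
    rw [Finset.ssubset_iff_of_subset]
    · refine ⟨j, ?_, ?_⟩
      · unfold Qs'
        rw [Finset.mem_filter]
        exact ⟨Finset.mem_univ j, fun h => absurd h hj⟩
      · unfold Qs
        rw [Finset.mem_filter]
        intro h
        exact h.2.1 rfl
    · intro i _
      unfold Qs'
      rw [Finset.mem_filter]
      exact ⟨Finset.mem_univ i, fun h => absurd h hj⟩

/-- the singular pivot exponents of the chart `j` -/
noncomputable def SP (a : Fin s ↪ Fin N) (j : Fin N) (d : ℕ) : Finset (Fin N →₀ ℕ) :=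
  open Classical in (Qs' a j).image (sp j d)

theorem card_SP (a : Fin s ↪ Fin N) (j : Fin N) (d : ℕ) : (SP a j d).card = (Qs' a j).card := by
  classical
  unfold SP
  exact Finset.card_image_of_injective _ (sp_injective j d)

theorem SP_subset (a : Fin s ↪ Fin N) (j : Fin N) {d : ℕ} (hd : 2 ≤ d) :
    SP a j d ⊆ Exps N d \ Piv a d := by
  classical
  intro e he
  unfold SP at he
  obtain ⟨i, hi, rfl⟩ := Finset.mem_image.1 he
  unfold Qs' at hi
  rw [Finset.mem_filter] at hi
  rw [Finset.mem_sdiff]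
  constructor
  · rw [mem_Exps]
    unfold sp
    rw [map_add, Finsupp.degree_single, Finsupp.degree_single]
    omega
  · intro hP
    by_cases hj : j ∈ Set.range a
    · have h0 := apply_eq_zero_of_mem_Piv a hP (hi.2 hj)
      unfold sp at h0
      rw [Finsupp.add_apply, Finsupp.single_eq_same] at h0
      omega
    · have h0 := apply_eq_zero_of_mem_Piv a hP hj
      unfold sp at h0
      rw [Finsupp.add_apply, Finsupp.single_eq_same] at h0
      omega

/-- parameters of the chart `j` -/
abbrev KapS (a : Fin s ↪ Fin N) (j : Fin N) (d : ℕ) : Type :=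
  {i // i ∈ Qs a j} ⊕ {e // e ∈ (Exps N d \ Piv a d) \ SP a j d}

theorem card_KapS_lt (a : Fin s ↪ Fin N) (j : Fin N) {d : ℕ} (hd : 2 ≤ d) (h : 2 * s ≤ N) :
    Fintype.card (KapS a j d) < Fintype.card {e // e ∈ Exps N d \ Piv a d} := by
  classical
  rw [Fintype.card_sum, Fintype.card_coe, Fintype.card_coe, Fintype.card_coe,
    Finset.card_sdiff_of_subset (SP_subset a j hd), card_SP]
  have h1 := card_Qs_lt a j h
  have h2 := Finset.card_le_card (SP_subset a j hd)
  rw [card_SP] at h2
  omega

/-- the universal coordinates of the singular point -/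
noncomputable def uw (a : Fin s ↪ Fin N) (j : Fin N) (i : Fin N) :
    MvPolynomial {i // i ∈ Qs a j} k :=
  open Classical in if h : i ∈ Qs a j then X ⟨i, h⟩ else 0

/-- the universal coefficients of the inverse substitution -/
noncomputable def qq (a : Fin s ↪ Fin N) (j : Fin N) (e e' : Fin N →₀ ℕ) :
    MvPolynomial {i // i ∈ Qs a j} k :=
  coeff e (∏ j', elem j (fun i => - uw (k := k) a j i) j' ^ e' j')

theorem eval_qq (a : Fin s ↪ Fin N) (j : Fin N) (w : Fin N → k)
    (hw : j ∈ Set.range a → ∀ i, i ∉ Set.range a → w i = 0) (e e' : Fin N →₀ ℕ) :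
    eval (fun i : {i // i ∈ Qs a j} => w i.1) (qq a j e e') =
      coeff e (∏ j', elem j (fun i => - w i) j' ^ e' j') := by
  classical
  unfold qq
  rw [← coeff_map, map_prod]
  congr 1
  refine Finset.prod_congr rfl fun j' _ => ?_
  rw [map_pow, map_elem]
  congr 1
  apply elem_congr
  intro i hij
  rw [map_neg]
  congr 1
  unfold uw
  by_cases hi : i ∈ Qs a j
  · rw [dif_pos hi, eval_X]
  · rw [dif_neg hi, map_zero]
    unfold Qs at hi
    rw [Finset.mem_filter] at hi
    push Not at hi
    have := hi (Finset.mem_univ i) hij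
    symm
    by_cases hj : j ∈ Set.range a
    · exact hw hj i (fun h' => this.2 h')
    · exact absurd this.1 hj

/-- the parametrisation in the chart `j` -/
noncomputable def phiS (a : Fin s ↪ Fin N) (j : Fin N) (d : ℕ)
    (e : {e // e ∈ Exps N d \ Piv a d}) : MvPolynomial (KapS a j d) k :=
  ∑ e' : {e // e ∈ (Exps N d \ Piv a d) \ SP a j d},
    X (Sum.inr e') * rename Sum.inl (qq a j e.1 e'.1)

/-- **A general hypersurface of degree `d ≥ 2` containing a linear subspace of at most half the
dimension is smooth.** -/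
theorem isGeneric_smooth_of_vanish [Infinite k] (N d : ℕ) (hd : 2 ≤ d)
    (U : Submodule k (Fin N → k)) (hU : 2 * Module.finrank k ↥U ≤ N)
    (W : Submodule k ↥(homogeneousSubmodule (Fin N) k d))
    (hW : ∀ G : ↥(homogeneousSubmodule (Fin N) k d), G ∈ W ↔ ∀ u ∈ U, eval u G.1 = 0) :
    LefPen.IsGeneric k {G : ↥W | ∀ v : Fin N → k, v ≠ 0 → eval v G.1.1 = 0 →
      ∃ i : Fin N, eval v (pderiv i G.1.1) ≠ 0} := by
  classical
  obtain ⟨s, hs⟩ : ∃ s, Module.finrank k ↥U = s := ⟨_, rfl⟩
  rw [hs] at hU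
  obtain ⟨a, A, hA, hmem, hgraph⟩ := exists_chart' U hs
  obtain ⟨A', hA'⟩ : ∃ A' : Fin N → Fin s → k, A' = fun j l => - A j l := ⟨_, rfl⟩
  have hA'1 : ∀ j l, A' j l = - A j l := fun j l => by rw [hA']
  have hA'2 : ∀ j l, A j l = - A' j l := fun j l => by rw [hA', neg_neg]
  -- the coordinates
  let c : ↥W →ₗ[k] ({e // e ∈ Exps N d \ Piv a d} → k) :=
    LinearMap.pi fun e => (lcoeff k e.1).comp
      ((aeval (shear a A)).toLinearMap.comp ((Submodule.subtype _).comp W.subtype))
  have hc : ∀ (G : ↥W) (e : {e // e ∈ Exps N d \ Piv a d}),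
      c G e = coeff e.1 (aeval (shear a A) G.1.1) := fun G e => rfl
  have hcsurj : Function.Surjective c := by
    intro x
    obtain ⟨H₀, hH₀⟩ : ∃ H₀ : MvPolynomial (Fin N) k,
        H₀ = ∑ e : {e // e ∈ Exps N d \ Piv a d}, monomial e.1 (x e) := ⟨_, rfl⟩
    have hH₀hom : H₀.IsHomogeneous d := by
      rw [hH₀]
      apply IsHomogeneous.sum
      intro e _
      exact isHomogeneous_monomial _ ((mem_Exps e.1).1 (Finset.mem_sdiff.1 e.2).1)
    have hH₀van : ∀ y : Fin N → k, (∀ j, j ∉ Set.range a → y j = 0) → eval y H₀ = 0 := by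
      intro y hy
      rw [hH₀, map_sum]
      apply Finset.sum_eq_zero
      intro e _
      obtain ⟨j, hj, hej⟩ := exists_notMem_range_of_notMem_Piv a (Finset.mem_sdiff.1 e.2).1
        (Finset.mem_sdiff.1 e.2).2
      exact eval_monomial_eq_zero a hj hej _ y hy
    have hGhom : (aeval (shear a A') H₀).IsHomogeneous d := by
      have := hH₀hom.aeval (shear a A') (shear_isHomogeneous a A')
      rwa [one_mul] at this
    have hGW : (⟨aeval (shear a A') H₀, (mem_homogeneousSubmodule d _).2 hGhom⟩ :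
        ↥(homogeneousSubmodule (Fin N) k d)) ∈ W := by
      rw [hW]
      intro u hu
      show eval u (aeval (shear a A') H₀) = 0
      rw [eval_aeval']
      apply hH₀van
      intro j hj
      rw [eval_shear_notMem a A' hj, hgraph u hu j]
      rw [← Finset.sum_add_distrib]
      apply Finset.sum_eq_zero
      intro l _
      rw [hA'1]
      ring
    refine ⟨⟨_, hGW⟩, ?_⟩
    funext e
    rw [hc]
    show coeff e.1 (aeval (shear a A) (aeval (shear a A') H₀)) = x e
    rw [aeval_aeval_eq_self (shear a A') (shear a A) (shear_inv a A' A hA'2) H₀, hH₀, coeff_sum,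
      Finset.sum_eq_single e]
    · rw [coeff_monomial, if_pos rfl]
    · intro e' _ hne
      rw [coeff_monomial, if_neg (fun h => hne (Subtype.ext h))]
    · intro h; exact absurd (Finset.mem_univ e) h
  apply isGeneric_of_param c hcsurj (J := Fin N) (fun j => KapS a j d) (fun j => phiS a j d)
  · intro j
    exact card_KapS_lt a j hd hU
  · intro G hG
    have hG' : ∃ v : Fin N → k, v ≠ 0 ∧ SingAt G.1.1 v := by
      by_contra hcon
      apply hG
      intro v hv hv0
      by_contra hcon'
      push Not at hcon'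
      exact hcon ⟨v, hv, hv0, hcon'⟩
    obtain ⟨v, hv, hsing⟩ := hG'
    have hGhom : G.1.1.IsHomogeneous d := (mem_homogeneousSubmodule d G.1.1).1 G.1.2
    have hGvan : ∀ u ∈ U, eval u G.1.1 = 0 := (hW G.1).1 G.2
    obtain ⟨H₀, hH₀⟩ : ∃ H₀ : MvPolynomial (Fin N) k, H₀ = aeval (shear a A) G.1.1 := ⟨_, rfl⟩
    have hH₀hom : H₀.IsHomogeneous d := by
      have := hGhom.aeval (shear a A) (shear_isHomogeneous a A)
      rw [one_mul] at this
      rw [hH₀]; exact this
    have hH₀van : ∀ y : Fin N → k, (∀ j, j ∉ Set.range a → y j = 0) → eval y H₀ = 0 := by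
      intro y hy
      rw [hH₀, eval_aeval', shear_maps_Ua a A hA y hy]
      exact hGvan _ (hmem _)
    obtain ⟨v₀, hv₀def⟩ : ∃ v₀ : Fin N → k, v₀ = fun j => eval v (shear a A' j) := ⟨_, rfl⟩
    have hback : (fun j => eval v₀ (shear a A j)) = v := by
      funext j
      rw [hv₀def]
      exact shear_inv a A A' hA'1 v j
    have hs₀ : SingAt H₀ v₀ := by
      rw [hH₀]
      apply SingAt.aeval
      rw [hback]; exact hsing
    have hv₀ : v₀ ≠ 0 := by
      intro h0
      apply hv
      rw [← hback, h0]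
      funext j
      by_cases hj : j ∈ Set.range a
      · rw [eval_shear_mem a A hj]
      · rw [eval_shear_notMem a A hj]
        simp
    obtain ⟨j, w, hwj, hw, hsw⟩ := exists_normalised a hH₀hom hv₀ hs₀
    obtain ⟨hHhom, hHvan, hHsp, hHinv⟩ :=
      normal_form a (by omega) hH₀hom hH₀van hwj hw hsw
    obtain ⟨H, hH⟩ : ∃ H : MvPolynomial (Fin N) k, H = aeval (elem j w) H₀ := ⟨_, rfl⟩
    rw [← hH] at hHhom hHvan hHsp hHinv
    have hsupp : H.support ⊆ (Exps N d \ Piv a d) \ SP a j d := by
      intro e he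
      have hne : coeff e H ≠ 0 := mem_support_iff.1 he
      rw [Finset.mem_sdiff, Finset.mem_sdiff]
      refine ⟨⟨support_subset_Exps hHhom he, fun hP => hne ?_⟩, fun hP => hne ?_⟩
      · exact coeff_eq_zero_of_vanish a hHhom hHvan hP
      · unfold SP at hP
        obtain ⟨i, _, rfl⟩ := Finset.mem_image.1 hP
        exact hHsp i
    refine ⟨j, Sum.elim (fun i : {i // i ∈ Qs a j} => w i.1)
      (fun e' : {e // e ∈ (Exps N d \ Piv a d) \ SP a j d} => coeff e'.1 H), ?_⟩
    intro e
    rw [hc, ← hH₀, ← hHinv, coeff_aeval_eq_sum _ H _ hsupp]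
    unfold phiS
    rw [map_sum, ← Finset.sum_coe_sort ((Exps N d \ Piv a d) \ SP a j d)]
    refine Finset.sum_congr rfl fun e' _ => ?_
    rw [map_mul, eval_X, Sum.elim_inr, eval_rename]
    congr 1
    exact (eval_qq a j w hw e.1 e'.1).symm

end Field

end Groth.Agent.Lib.Seat53.Generic
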