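import Mathlib

/-!
# Triangularisation of nilpotent endomorphisms / matrices (helper53)

* `exists_basis_of_isNilpotent`: a nilpotent endomorphism `f` of an `n`-dimensional vector space
  has a basis `b : Basis (Fin n) K V` with `f (b j) ∈ span (b '' {i | i < j})`.
* `exists_conj_strictUpper`: a nilpotent `n × n` matrix `M` over a field can be written as
  `g * u * h` with `h * g = 1` and `u` strictly upper triangular.
-/

set_option autoImplicit false

open Module

namespace Groth.Agent.Lib.Seat53.NilTriang

universe u v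

variable {K : Type u} [Field K]

theorem exists_basis_of_isNilpotent :
    ∀ (n : ℕ) (V : Type v) [AddCommGroup V] [Module K V] [FiniteDimensional K V]
      (_ : finrank K V = n) (f : V →ₗ[K] V) (_ : IsNilpotent f),
      ∃ b : Basis (Fin n) K V, ∀ j, f (b j) ∈ Submodule.span K (b '' {i | i < j}) := by
  intro n
  induction n with
  | zero =>
    intro V _ _ _ hV f _
    exact ⟨Module.finBasisOfFinrankEq K V hV, fun j => j.elim0⟩
  | succ n ih =>
    intro V _ _ _ hV f hf
    -- range f ≠ ⊤
    have hVnt : Nontrivial V := Module.nontrivial_of_finrank_pos (R := K) (by omega)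
    have hlt : LinearMap.range f < ⊤ := by
      rw [lt_top_iff_ne_top]
      intro htop
      obtain ⟨m, hm⟩ := hf
      have hsurj : Function.Surjective f := LinearMap.range_eq_top.mp htop
      have hsurjm : Function.Surjective (f ^ m) := by
        rw [Module.End.coe_pow]
        exact hsurj.iterate m
      rw [hm] at hsurjm
      obtain ⟨x, y, hxy⟩ := exists_pair_ne V
      obtain ⟨x', hx'⟩ := hsurjm x
      obtain ⟨y', hy'⟩ := hsurjm y
      apply hxy
      rw [← hx', ← hy']
      simp
    obtain ⟨φ, hφ0, hφ⟩ := Submodule.exists_le_ker_of_lt_top _ hlt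
    obtain ⟨v, hv⟩ : ∃ v, φ v ≠ 0 := by
      by_contra hcon
      exact hφ0 (LinearMap.ext fun x => by
        by_contra hx
        exact hcon ⟨x, hx⟩)
    obtain ⟨H, hH⟩ : ∃ H : Submodule K V, H = LinearMap.ker φ := ⟨_, rfl⟩
    rw [← hH] at hφ
    have hfH : ∀ x ∈ H, f x ∈ H := fun x _ => hφ (LinearMap.mem_range_self f x)
    have hφsurj : Function.Surjective φ := by
      intro c
      exact ⟨(c / φ v) • v, by simp [hv]⟩
    have hdimH : finrank K H = n := by
      have h1 := LinearMap.finrank_range_add_finrank_ker φ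
      rw [LinearMap.range_eq_top.mpr hφsurj, finrank_top, finrank_self, hV, ← hH] at h1
      omega
    have hnil : IsNilpotent (f.restrict hfH) := by
      obtain ⟨m, hm⟩ := hf
      refine ⟨m, ?_⟩
      rw [Module.End.pow_restrict]
      ext x
      simp [hm]
    obtain ⟨b', hb'⟩ := ih H hdimH (f.restrict hfH) hnil
    have hli : ∀ (c : K), ∀ x ∈ H, c • v + x = 0 → c = 0 := by
      intro c x hx hc
      have := congrArg φ hc
      rw [hH] at hx
      rw [map_add, map_smul, LinearMap.mem_ker.mp hx, add_zero, map_zero, smul_eq_mul] at this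
      exact (mul_eq_zero.mp this).resolve_right hv
    have hsp : ∀ z : V, ∃ c : K, z + c • v ∈ H := by
      intro z
      refine ⟨-(φ z / φ v), ?_⟩
      rw [hH, LinearMap.mem_ker, map_add, map_smul, smul_eq_mul]
      field_simp
      ring
    refine ⟨Basis.mkFinSnoc b' v hli hsp, ?_⟩
    have hcoe : ((Basis.mkFinSnoc b' v hli hsp : Basis (Fin (n + 1)) K V) : Fin (n + 1) → V) =
        Fin.snoc ((↑) ∘ b') v := Basis.coe_mkFinSnoc b' v hli hsp
    intro j
    rw [hcoe]
    refine Fin.lastCases ?_ (fun j' => ?_) j
    · -- last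
      rw [Fin.snoc_last]
      have h1 : f v ∈ H := hφ (LinearMap.mem_range_self f v)
      have hspan : H = Submodule.span K (Set.range (H.subtype ∘ b')) := by
        rw [Set.range_comp, Submodule.span_image, b'.span_eq, Submodule.map_subtype_top]
      rw [hspan] at h1
      refine Submodule.span_mono ?_ h1
      rintro _ ⟨i, rfl⟩
      refine ⟨Fin.castSucc i, Fin.castSucc_lt_last i, ?_⟩
      simp
    · rw [Fin.snoc_castSucc]
      have h1 := hb' j'
      have h2 : (f.restrict hfH (b' j') : V) ∈
          (Submodule.span K (b' '' {i | i < j'})).map H.subtype := ⟨_, h1, rfl⟩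
      rw [Submodule.map_span] at h2
      have h3 : (f.restrict hfH (b' j') : V) = f (b' j') := rfl
      rw [h3] at h2
      refine Submodule.span_mono ?_ h2
      rintro _ ⟨_, ⟨i, hi, rfl⟩, rfl⟩
      refine ⟨Fin.castSucc i, Fin.castSucc_lt_castSucc_iff.mpr hi, ?_⟩
      simp

/-- A nilpotent square matrix over a field is conjugate to a strictly upper triangular one. -/
theorem exists_conj_strictUpper {n : ℕ} (M : Matrix (Fin n) (Fin n) K) (hM : IsNilpotent M) :
    ∃ g h u : Matrix (Fin n) (Fin n) K, h * g = 1 ∧ (∀ i j, j ≤ i → u i j = 0) ∧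
      M = g * u * h := by
  classical
  have hf : IsNilpotent (Matrix.toLin' M) := by
    obtain ⟨m, hm⟩ := hM
    refine ⟨m, ?_⟩
    have := congrArg (Matrix.toLinAlgEquiv' (R := K) (n := Fin n)) hm
    rwa [map_pow, map_zero] at this
  obtain ⟨b, hb⟩ := exists_basis_of_isNilpotent n (Fin n → K) (Module.finrank_fin_fun K)
    (Matrix.toLin' M) hf
  set e := Pi.basisFun K (Fin n) with he
  refine ⟨e.toMatrix b, b.toMatrix e, LinearMap.toMatrix b b (Matrix.toLin' M), ?_, ?_, ?_⟩
  · exact Basis.toMatrix_mul_toMatrix_flip b e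
  · intro i j hji
    rw [LinearMap.toMatrix_apply]
    have hsupp := Basis.repr_support_subset_of_mem_span b _ (hb j)
    by_contra hne
    have hi : i ∈ (b.repr (Matrix.toLin' M (b j))).support := Finsupp.mem_support_iff.mpr hne
    have hlt : i < j := hsupp hi
    exact absurd hlt (not_lt.mpr hji)
  · rw [basis_toMatrix_mul_linearMap_toMatrix_mul_basis_toMatrix, he,
      LinearMap.toMatrix_eq_toMatrix', LinearMap.toMatrix'_toLin']

end Groth.Agent.Lib.Seat53.NilTriang
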