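import Mathlib
import Groth.Agent.Lib.Seat53NilTriang

/-!
# The nilpotent cone is irreducible (helper53)

`I` = ideal of `k[x_ij]` generated by the lower coefficients of the characteristic polynomial of
the generic matrix.  We show `I.radical = ker φ` where `φ : k[x_ij] → k[g_ij, u_ij]` sends the
generic matrix to `G * U * adj G` (`U` strictly upper triangular), so `I.radical` is prime.
-/

set_option autoImplicit false

open MvPolynomial Matrix

namespace Groth.Agent.Lib.Seat53.NilCone

universe u

variable (k : Type u) [Field k] (n : ℕ)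

/-- the generic matrix `G` -/
noncomputable def Gm : Matrix (Fin n) (Fin n) (MvPolynomial ((Fin n × Fin n) ⊕ (Fin n × Fin n)) k) :=
  Matrix.of fun i j => X (Sum.inl (i, j))

/-- the generic strictly upper triangular matrix `U` -/
noncomputable def Um : Matrix (Fin n) (Fin n) (MvPolynomial ((Fin n × Fin n) ⊕ (Fin n × Fin n)) k) :=
  Matrix.of fun i j => if i < j then X (Sum.inr (i, j)) else 0

/-- `G * U * adj G` -/
noncomputable def Phi : Matrix (Fin n) (Fin n) (MvPolynomial ((Fin n × Fin n) ⊕ (Fin n × Fin n)) k) :=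
  Gm k n * Um k n * (Gm k n).adjugate

/-- the parametrisation, on coordinate rings -/
noncomputable def phi : MvPolynomial (Fin n × Fin n) k →ₐ[k]
    MvPolynomial ((Fin n × Fin n) ⊕ (Fin n × Fin n)) k :=
  aeval fun p => Phi k n p.1 p.2

/-- the ideal of the nilpotent cone -/
noncomputable def cI : Ideal (MvPolynomial (Fin n × Fin n) k) :=
  Ideal.span (Set.range (fun i : Fin n =>
      (Matrix.charpoly (Matrix.mvPolynomialX (Fin n) (Fin n) k)).coeff (i : ℕ)))

theorem map_phi : (mvPolynomialX (Fin n) (Fin n) k).map (phi k n) = Phi k n := by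
  ext i j
  simp [phi]

theorem charpoly_Phi : (Phi k n).charpoly = Polynomial.X ^ n := by
  have h1 : (Phi k n).charpoly = ((Um k n * (Gm k n).adjugate) * Gm k n).charpoly := by
    rw [Phi, Matrix.mul_assoc, Matrix.charpoly_mul_comm]
  rw [h1, Matrix.mul_assoc, Matrix.adjugate_mul, Matrix.mul_smul, Matrix.mul_one]
  rw [Matrix.charpoly_of_isUpperTriangular]
  · have : ∀ i : Fin n, ((Gm k n).det • Um k n) i i = 0 := by
      intro i
      simp [Um]
    simp [this]
  · intro i j hij
    simp only [id] at hij
    simp [Um, not_lt.mpr hij.le]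

theorem phi_coeff (i : Fin n) :
    phi k n ((Matrix.charpoly (Matrix.mvPolynomialX (Fin n) (Fin n) k)).coeff (i : ℕ)) = 0 := by
  have h := Matrix.charpoly_map (mvPolynomialX (Fin n) (Fin n) k) (phi k n).toRingHom
  have h2 := congrArg (fun p => Polynomial.coeff p (i : ℕ)) h
  simp only [Polynomial.coeff_map] at h2
  rw [show ((mvPolynomialX (Fin n) (Fin n) k).map (phi k n).toRingHom) = Phi k n from map_phi k n,
    charpoly_Phi, Polynomial.coeff_X_pow, if_neg (by omega)] at h2
  exact h2.symm

theorem cI_le_ker : cI k n ≤ RingHom.ker (phi k n).toRingHom := by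
  rw [cI, Ideal.span_le]
  rintro _ ⟨i, rfl⟩
  exact phi_coeff k n i

/-- the matrix of a point -/
def matOf (x : Fin n × Fin n → k) : Matrix (Fin n) (Fin n) k := Matrix.of fun i j => x (i, j)

theorem map_eval (x : Fin n × Fin n → k) :
    (mvPolynomialX (Fin n) (Fin n) k).map (eval x) = matOf k n x := by
  ext i j
  simp [matOf]

theorem eval_coeff (x : Fin n × Fin n → k) (m : ℕ) :
    eval x ((Matrix.charpoly (Matrix.mvPolynomialX (Fin n) (Fin n) k)).coeff m) =
      (matOf k n x).charpoly.coeff m := by
  have h := Matrix.charpoly_map (mvPolynomialX (Fin n) (Fin n) k) (eval x)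
  rw [map_eval] at h
  rw [h, Polynomial.coeff_map]

theorem charpoly_eq_of_mem {x : Fin n × Fin n → k} (hx : x ∈ zeroLocus k (cI k n)) :
    (matOf k n x).charpoly = Polynomial.X ^ n := by
  ext m
  rw [Polynomial.coeff_X_pow]
  rcases lt_trichotomy m n with h | h | h
  · rw [if_neg h.ne, ← eval_coeff]
    have := hx _ (Ideal.subset_span ⟨⟨m, h⟩, rfl⟩)
    simpa using this
  · rw [if_pos h]
    subst h
    have h1 := (Matrix.charpoly_monic (matOf k m x)).coeff_natDegree
    have h2 := Matrix.charpoly_natDegree_eq_dim (matOf k m x)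
    rw [Fintype.card_fin] at h2
    rw [h2] at h1
    exact h1
  · rw [if_neg h.ne']
    apply Polynomial.coeff_eq_zero_of_natDegree_lt
    rw [Matrix.charpoly_natDegree_eq_dim, Fintype.card_fin]
    exact h

theorem isNilpotent_of_mem {x : Fin n × Fin n → k} (hx : x ∈ zeroLocus k (cI k n)) :
    IsNilpotent (matOf k n x) := by
  refine ⟨n, ?_⟩
  have h := Matrix.aeval_self_charpoly (matOf k n x)
  rw [charpoly_eq_of_mem k n hx] at h
  simpa using h

theorem eval_phi (y : (Fin n × Fin n) ⊕ (Fin n × Fin n) → k) (p : MvPolynomial (Fin n × Fin n) k) :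
    eval y (phi k n p) = eval (fun ij => eval y (Phi k n ij.1 ij.2)) p := by
  induction p using MvPolynomial.induction_on with
  | C a => simp [phi]
  | add p q hp hq => rw [map_add, map_add, map_add, hp, hq]
  | mul_X p j hp => rw [map_mul, map_mul, map_mul, hp, phi, aeval_X, eval_X]

/-- every point of the nilpotent cone is in the image of the parametrisation -/
theorem exists_param {x : Fin n × Fin n → k} (hx : x ∈ zeroLocus k (cI k n)) :
    ∃ y : (Fin n × Fin n) ⊕ (Fin n × Fin n) → k,
      ∀ p : MvPolynomial (Fin n × Fin n) k, eval x p = eval y (phi k n p) := by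
  obtain ⟨g, h, u, hhg, hu, hM⟩ :=
    Groth.Agent.Lib.Seat53.NilTriang.exists_conj_strictUpper _ (isNilpotent_of_mem k n hx)
  have hgh : g * h = 1 := mul_eq_one_comm.mp hhg
  have hdet : g.det ≠ 0 := by
    intro h0
    have := congrArg Matrix.det hgh
    rw [Matrix.det_mul, h0, zero_mul, Matrix.det_one] at this
    exact zero_ne_one this
  have hadj : g.adjugate = g.det • h := by
    calc g.adjugate = g.adjugate * (g * h) := by rw [hgh, Matrix.mul_one]
      _ = (g.adjugate * g) * h := by rw [Matrix.mul_assoc]
      _ = g.det • h := by rw [Matrix.adjugate_mul, Matrix.smul_mul, Matrix.one_mul]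
  let y : (Fin n × Fin n) ⊕ (Fin n × Fin n) → k :=
    Sum.elim (fun ij => g ij.1 ij.2) (fun ij => (g.det)⁻¹ * u ij.1 ij.2)
  have hG : (Gm k n).map (eval y) = g := by
    ext i j
    simp [Gm, y]
  have hU : (Um k n).map (eval y) = (g.det)⁻¹ • u := by
    ext i j
    by_cases hij : i < j
    · simp [Um, y, hij]
    · simp [Um, y, hij, hu i j (not_lt.mp hij)]
  have hPhi : (Phi k n).map (eval y) = matOf k n x := by
    have hA : (Gm k n).adjugate.map (eval y) = g.adjugate := by
      rw [← hG]
      exact RingHom.map_adjugate (eval y) (Gm k n)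
    rw [Phi, Matrix.map_mul, Matrix.map_mul, hU, hA, hG, hadj, hM]
    rw [Matrix.mul_smul, Matrix.mul_smul, Matrix.smul_mul, smul_smul, mul_inv_cancel₀ hdet,
      one_smul]
  have hxy : x = fun ij => eval y (Phi k n ij.1 ij.2) := by
    funext ij
    have := congrFun (congrFun hPhi ij.1) ij.2
    simp only [Matrix.map_apply, matOf, Matrix.of_apply] at this
    exact this.symm
  refine ⟨y, fun p => ?_⟩
  rw [eval_phi, ← hxy]

theorem ker_le_radical [IsAlgClosed k] : RingHom.ker (phi k n).toRingHom ≤ (cI k n).radical := by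
  rw [← vanishingIdeal_zeroLocus_eq_radical (K := k)]
  intro p hp x hx
  obtain ⟨y, hy⟩ := exists_param k n hx
  have hp' : phi k n p = 0 := hp
  rw [aeval_eq_eval, hy, hp', map_zero]

theorem radical_eq_ker [IsAlgClosed k] : (cI k n).radical = RingHom.ker (phi k n).toRingHom := by
  apply le_antisymm
  · have hprime : (RingHom.ker (phi k n).toRingHom).IsPrime := RingHom.ker_isPrime _
    exact hprime.isRadical.radical_le_iff.mpr (cI_le_ker k n)
  · exact ker_le_radical k n

theorem radical_isPrime [IsAlgClosed k] : (cI k n).radical.IsPrime := by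
  rw [radical_eq_ker]
  exact RingHom.ker_isPrime _

end Groth.Agent.Lib.Seat53.NilCone
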