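import Mathlib
import Groth.Agent.Lib.Seat53NilCone
import Groth.Agent.Lib.Helper14FTDimB

/-!
# Dimension of the nilpotent cone (helper53)
-/

set_option autoImplicit false

open MvPolynomial Matrix

namespace Groth.Agent.Lib.Seat53.NilCone

universe u

variable (k : Type u) [Field k] (n : ℕ)

/-- if a ring hom kills `cI`, the image of the generic matrix has characteristic polynomial `T^n` -/
theorem charpoly_map_eq {S : Type*} [CommRing S] [Nontrivial S]
    (f : MvPolynomial (Fin n × Fin n) k →+* S) (hf : ∀ p ∈ cI k n, f p = 0) :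
    ((mvPolynomialX (Fin n) (Fin n) k).map f).charpoly = Polynomial.X ^ n := by
  ext m
  rw [Polynomial.coeff_X_pow, Matrix.charpoly_map, Polynomial.coeff_map]
  rcases lt_trichotomy m n with h | h | h
  · rw [if_neg h.ne]
    exact hf _ (Ideal.subset_span ⟨⟨m, h⟩, rfl⟩)
  · rw [if_pos h]
    subst h
    have h1 := (Matrix.charpoly_monic (mvPolynomialX (Fin m) (Fin m) k)).coeff_natDegree
    have h2 := Matrix.charpoly_natDegree_eq_dim (mvPolynomialX (Fin m) (Fin m) k)
    rw [Fintype.card_fin] at h2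
    rw [h2] at h1
    rw [h1, map_one]
  · rw [if_neg h.ne']
    rw [Polynomial.coeff_eq_zero_of_natDegree_lt, map_zero]
    rw [Matrix.charpoly_natDegree_eq_dim, Fintype.card_fin]
    exact h

/-- a prime containing `cI` and the off-diagonal variables contains the diagonal ones -/
theorem X_diag_mem (Q : Ideal (MvPolynomial (Fin n × Fin n) k)) [Q.IsPrime] (hQ : cI k n ≤ Q)
    (hoff : ∀ i j : Fin n, i ≠ j → (X (i, j) : MvPolynomial (Fin n × Fin n) k) ∈ Q) (i : Fin n) :
    (X (i, i) : MvPolynomial (Fin n × Fin n) k) ∈ Q := by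
  classical
  set π := Ideal.Quotient.mk Q with hπ
  have hchar := charpoly_map_eq k n π (fun p hp => Ideal.Quotient.eq_zero_iff_mem.mpr (hQ hp))
  have hdiag : (mvPolynomialX (Fin n) (Fin n) k).map π =
      Matrix.diagonal fun i => π (X (i, i)) := by
    ext a b
    by_cases hab : a = b
    · subst hab
      simp
    · rw [Matrix.diagonal_apply_ne _ hab, Matrix.map_apply, mvPolynomialX_apply]
      exact Ideal.Quotient.eq_zero_iff_mem.mpr (hoff a b hab)
  rw [hdiag, Matrix.charpoly_diagonal] at hchar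
  have h2 := congrArg (Polynomial.eval (π (X (i, i)))) hchar
  rw [Polynomial.eval_prod, Polynomial.eval_pow, Polynomial.eval_X] at h2
  have h3 : ∏ j : Fin n, Polynomial.eval (π (X (i, i)))
      (Polynomial.X - Polynomial.C (π (X (j, j)))) = 0 := by
    apply Finset.prod_eq_zero (Finset.mem_univ i)
    simp
  rw [h3] at h2
  have h4 : π (X (i, i)) = 0 := pow_eq_zero_iff (n := n) (by
    rintro rfl
    exact i.elim0) |>.mp h2.symm
  exact Ideal.Quotient.eq_zero_iff_mem.mp h4

/-- a prime containing all the variables contains everything vanishing at the origin -/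
theorem mem_of_eval_zero (Q : Ideal (MvPolynomial (Fin n × Fin n) k))
    (hX : ∀ ij, (X ij : MvPolynomial (Fin n × Fin n) k) ∈ Q)
    (p : MvPolynomial (Fin n × Fin n) k) : p - C (eval 0 p) ∈ Q := by
  induction p using MvPolynomial.induction_on with
  | C a => simp
  | add p q hp hq =>
    have : p + q - C (eval 0 (p + q)) = (p - C (eval 0 p)) + (q - C (eval 0 q)) := by
      rw [map_add, map_add]; ring
    rw [this]
    exact Q.add_mem hp hq
  | mul_X p j _ =>
    rw [map_mul, eval_X, Pi.zero_apply, mul_zero, map_zero, sub_zero]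
    exact Q.mul_mem_left _ (hX j)

theorem cI_le_ker_eval_zero :
    cI k n ≤ RingHom.ker (eval (0 : Fin n × Fin n → k)) := by
  rw [cI, Ideal.span_le]
  rintro _ ⟨i, rfl⟩
  rw [SetLike.mem_coe, RingHom.mem_ker, eval_coeff]
  have h0 : matOf k n 0 = 0 := by
    ext a b
    simp [matOf]
  rw [h0, Matrix.charpoly_zero, Polynomial.coeff_X_pow, Fintype.card_fin, if_neg (by omega)]

theorem radical_mem_minimalPrimes [IsAlgClosed k] :
    (cI k n).radical ∈ (cI k n).minimalPrimes := by
  refine ⟨⟨radical_isPrime k n, Ideal.le_radical⟩, fun Q hQ _ => ?_⟩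
  exact hQ.1.radical_le_iff.mpr hQ.2

theorem height_radical_le [IsAlgClosed k] : (cI k n).radical.height ≤ (n : ℕ∞) := by
  classical
  have hmin := radical_mem_minimalPrimes k n
  have hspan : cI k n = Ideal.span ((Finset.univ.image (fun i : Fin n =>
      (Matrix.charpoly (Matrix.mvPolynomialX (Fin n) (Fin n) k)).coeff (i : ℕ)) :
        Finset (MvPolynomial (Fin n × Fin n) k)) : Set (MvPolynomial (Fin n × Fin n) k)) := by
    rw [cI, Finset.coe_image, Finset.coe_univ, Set.image_univ]
  rw [hspan] at hmin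
  have h1 := Ideal.height_le_card_of_mem_minimalPrimes_span_finset hmin
  rw [← hspan] at h1
  refine h1.trans ?_
  have h2 : (Finset.univ.image (fun i : Fin n =>
      (Matrix.charpoly (Matrix.mvPolynomialX (Fin n) (Fin n) k)).coeff (i : ℕ))).card ≤ n := by
    refine Finset.card_image_le.trans ?_
    simp
  exact_mod_cast h2

/-- lower bound -/
theorem le_dim_radical [IsAlgClosed k] :
    ((n * n - n : ℕ) : WithBot ℕ∞) ≤
      ringKrullDim (MvPolynomial (Fin n × Fin n) k ⧸ (cI k n).radical) := by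
  have := radical_isPrime k n
  obtain ⟨m, c, hcm, hA, hht, hq⟩ :=
    Groth.Agent.Lib.Helper14.FTDim.exists_dim_height (k := k) (MvPolynomial (Fin n × Fin n) k)
      (cI k n).radical
  have hm : m = n * n := by
    rw [MvPolynomial.ringKrullDim_of_isNoetherianRing, ringKrullDim_eq_zero_of_field,
      Nat.card_eq_fintype_card, Fintype.card_prod, Fintype.card_fin, zero_add] at hA
    exact_mod_cast hA.symm
  have hc : c ≤ n := by
    have := height_radical_le k n
    rw [hht] at this
    exact_mod_cast this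
  rw [hq]
  have : n * n - n ≤ m - c := by omega
  exact_mod_cast this

/-- upper bound -/
theorem dim_radical_le [IsAlgClosed k] :
    ringKrullDim (MvPolynomial (Fin n × Fin n) k ⧸ (cI k n).radical) ≤
      ((n * n - n : ℕ) : WithBot ℕ∞) := by
  classical
  have hPprime := radical_isPrime k n
  obtain ⟨P, hP⟩ : ∃ P : Ideal (MvPolynomial (Fin n × Fin n) k), P = (cI k n).radical := ⟨_, rfl⟩
  rw [← hP] at hPprime ⊢
  have hcP : cI k n ≤ P := hP ▸ Ideal.le_radical
  have : IsDomain (MvPolynomial (Fin n × Fin n) k ⧸ P) := Ideal.Quotient.isDomain P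
  have : IsNoetherianRing (MvPolynomial (Fin n × Fin n) k ⧸ P) := inferInstance
  obtain ⟨N, -, hN, hmax⟩ :=
    Groth.Agent.Lib.Helper14.FTDim.exists_dim k (MvPolynomial (Fin n × Fin n) k ⧸ P)
  have hPle : P ≤ RingHom.ker (eval (0 : Fin n × Fin n → k)) := by
    rw [hP]
    exact (RingHom.ker_isPrime _).radical_le_iff.mpr (cI_le_ker_eval_zero k n)
  obtain ⟨ev, hevdef⟩ : ∃ ev : (MvPolynomial (Fin n × Fin n) k ⧸ P) →+* k,
      ∀ p, ev (Ideal.Quotient.mk P p) = eval 0 p :=
    ⟨Ideal.Quotient.lift P (eval 0) (fun p hp => hPle hp), fun p => Ideal.Quotient.lift_mk _ _ _⟩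
  have hev : Function.Surjective ev := fun a => ⟨Ideal.Quotient.mk P (C a), by rw [hevdef, eval_C]⟩
  obtain ⟨m', hm'⟩ : ∃ m' : Ideal (MvPolynomial (Fin n × Fin n) k ⧸ P), m' = RingHom.ker ev :=
    ⟨_, rfl⟩
  have hm'max : m'.IsMaximal := hm' ▸ RingHom.ker_isMaximal_of_surjective ev hev
  obtain ⟨s, hsdef⟩ : ∃ s : Set (MvPolynomial (Fin n × Fin n) k ⧸ P),
      s = (fun ij => Ideal.Quotient.mk P (X ij)) ''
        (↑(Finset.univ.offDiag : Finset (Fin n × Fin n)) : Set (Fin n × Fin n)) := ⟨_, rfl⟩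
  have hs : s ⊆ m' := by
    rw [hsdef]
    rintro _ ⟨ij, -, rfl⟩
    rw [SetLike.mem_coe, hm', RingHom.mem_ker, hevdef, eval_X, Pi.zero_apply]
  have h1 := Ideal.height_le_ringKrullDim_quotient_add_encard (p := m') s hs
  have h2 : ringKrullDim ((MvPolynomial (Fin n × Fin n) k ⧸ P) ⧸ Ideal.span s) ≤ 0 := by
    rw [ringKrullDim_quotient]
    have key : ∀ Q' : PrimeSpectrum (MvPolynomial (Fin n × Fin n) k ⧸ P),
        Q' ∈ PrimeSpectrum.zeroLocus (Ideal.span s : Set _) → Q'.asIdeal = m' := by
      intro Q' hQ'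
      have hsQ : s ⊆ Q'.asIdeal := fun x hx => hQ' (Ideal.subset_span hx)
      have : (Q'.asIdeal.comap (Ideal.Quotient.mk P)).IsPrime := Ideal.comap_isPrime _ _
      have hcQ : cI k n ≤ Q'.asIdeal.comap (Ideal.Quotient.mk P) := by
        intro p hp
        rw [Ideal.mem_comap, Ideal.Quotient.eq_zero_iff_mem.mpr (hcP hp)]
        exact Ideal.zero_mem _
      have hoff : ∀ i j : Fin n, i ≠ j → (X (i, j) : MvPolynomial (Fin n × Fin n) k) ∈
          Q'.asIdeal.comap (Ideal.Quotient.mk P) := by
        intro i j hij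
        rw [Ideal.mem_comap]
        apply hsQ
        rw [hsdef]
        exact ⟨(i, j), by simp [hij], rfl⟩
      have hall : ∀ ij : Fin n × Fin n, (X ij : MvPolynomial (Fin n × Fin n) k) ∈
          Q'.asIdeal.comap (Ideal.Quotient.mk P) := by
        rintro ⟨i, j⟩
        by_cases hij : i = j
        · subst hij
          exact X_diag_mem k n _ hcQ hoff i
        · exact hoff i j hij
      have hle : m' ≤ Q'.asIdeal := by
        intro r hr
        obtain ⟨p, rfl⟩ := Ideal.Quotient.mk_surjective r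
        rw [hm', RingHom.mem_ker, hevdef] at hr
        have := mem_of_eval_zero k n _ hall p
        rw [hr, map_zero, sub_zero] at this
        exact this
      exact (hm'max.eq_of_le Q'.2.ne_top hle).symm
    have : Subsingleton (PrimeSpectrum.zeroLocus (R := MvPolynomial (Fin n × Fin n) k ⧸ P)
        (Ideal.span s : Set _)) := by
      constructor
      rintro ⟨a, ha⟩ ⟨b, hb⟩
      apply Subtype.ext
      exact PrimeSpectrum.ext ((key a ha).trans (key b hb).symm)
    exact Order.krullDim_nonpos_of_subsingleton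
  have h3 : s.encard ≤ ((n * n - n : ℕ) : ℕ∞) := by
    rw [hsdef]
    refine (Set.encard_image_le _ _).trans ?_
    rw [Set.encard_coe_eq_coe_finsetCard, Finset.offDiag_card]
    simp
  rw [hN]
  have h4 : m'.height = N := hmax m'
  rw [h4] at h1
  have h5 : ((N : ℕ∞) : WithBot ℕ∞) ≤ 0 + ((n * n - n : ℕ) : ℕ∞) := by
    refine h1.trans ?_
    gcongr
    exact_mod_cast h3
  rw [zero_add] at h5
  exact_mod_cast h5

theorem dim_radical [IsAlgClosed k] :
    ringKrullDim (MvPolynomial (Fin n × Fin n) k ⧸ (cI k n).radical) =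
      ((n * n - n : ℕ) : WithBot ℕ∞) :=
  le_antisymm (dim_radical_le k n) (le_dim_radical k n)

theorem dim_cI [IsAlgClosed k] :
    ringKrullDim (MvPolynomial (Fin n × Fin n) k ⧸ cI k n) = ((n * n - n : ℕ) : WithBot ℕ∞) := by
  rw [← dim_radical k n, ringKrullDim_quotient, ringKrullDim_quotient,
    PrimeSpectrum.zeroLocus_radical]

theorem nilradical_quotient {R : Type*} [CommRing R] (I : Ideal R) :
    nilradical (R ⧸ I) = I.radical.map (Ideal.Quotient.mk I) := by
  ext x
  obtain ⟨p, rfl⟩ := Ideal.Quotient.mk_surjective x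
  rw [mem_nilradical, Ideal.mem_map_iff_of_surjective _ Ideal.Quotient.mk_surjective]
  constructor
  · rintro ⟨m, hm⟩
    rw [← map_pow, Ideal.Quotient.eq_zero_iff_mem] at hm
    exact ⟨p, ⟨m, hm⟩, rfl⟩
  · rintro ⟨q, ⟨m, hm⟩, hq⟩
    refine ⟨m, ?_⟩
    rw [← hq, ← map_pow, Ideal.Quotient.eq_zero_iff_mem]
    exact hm

theorem irreducibleSpace_cI [IsAlgClosed k] :
    IrreducibleSpace (PrimeSpectrum (MvPolynomial (Fin n × Fin n) k ⧸ cI k n)) := by
  rw [PrimeSpectrum.irreducibleSpace_iff_isPrime_nilradical, nilradical_quotient]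
  have := radical_isPrime k n
  apply Ideal.map_isPrime_of_surjective Ideal.Quotient.mk_surjective
  rw [Ideal.mk_ker]
  exact Ideal.le_radical

end Groth.Agent.Lib.Seat53.NilCone
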