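import Groth.Agent.Lib.Seat53PicMod
import Mathlib.RingTheory.RootsOfUnity.AlgebraicallyClosed

/-!
# Torsion in the generalised Picard group of a reduced modulus (seat 53)
-/

set_option autoImplicit false
set_option linter.unusedSectionVars false
set_option linter.style.haveILetI false
universe v u
open CategoryTheory AlgebraicGeometry TopologicalSpace Opposite

namespace Groth.Agent.Lib.Seat53.PicModTors

open LocSym W4c1etcurveeff2 Groth.Agent.Lib.Seat53.CurveVal Groth.Agent.Lib.Seat53
  Groth.Agent.Lib.Seat53.LocSymApprox Groth.Agent.Lib.Seat53.CurveConst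
  Groth.Agent.Lib.Seat53.CurveVal2 Groth.Agent.Lib.Seat53.PtValue Groth.Agent.Lib.Seat53.PicMod

variable {k : Type u} [Field k] [IsAlgClosed k] {X : Scheme.{u}} [IsIntegral X]
  (c : X ⟶ Spec (CommRingCat.of k)) [IsProper c] [Smooth c] (hdim : topologicalKrullDim X = 1)
  {m : Pt c →₀ ℕ} (hm : ∀ x : Pt c, m x ≤ 1) (n : ℕ)

omit [IsAlgClosed k] in
theorem exists_units_pow_eq [IsAlgClosed k] (hn : 1 ≤ n) (a : kˣ) : ∃ w : kˣ, w ^ n = a := by
  obtain ⟨z, hz⟩ := IsAlgClosed.exists_pow_nat_eq (a : k) (n := n) (by omega)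
  have hz0 : z ≠ 0 := by
    rintro rfl
    rw [zero_pow (by omega)] at hz
    exact a.ne_zero hz.symm
  exact ⟨Units.mk0 z hz0, Units.ext (by simpa using hz)⟩

include hdim hm

/-- Torsion classes of `Pic` lift to torsion classes of `PicMod`. -/
theorem exists_torsion_lift (hn : 1 ≤ n) (y : Pic c) (hy : n • y = 0) :
    ∃ x : PicMod c m, n • x = 0 ∧ picModToPic c m x = y := by
  obtain ⟨x₀, rfl⟩ := picModToPic_surjective c hdim (m := m) y
  have h0 : picModToPic c m (n • x₀) = 0 := by rw [map_nsmul, hy]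
  obtain ⟨g, v, hg, hgx⟩ := (picModToPic_eq_zero_iff c hdim _).mp h0
  have hroot : ∀ x, ∃ w : kˣ, w ^ n = v x := fun x => exists_units_pow_eq n hn (v x)
  choose w hw using hroot
  obtain ⟨g', hg'⟩ := exists_hasValues c hdim m w
  refine ⟨x₀ - cl c m g', ?_, ?_⟩
  · rw [nsmul_sub, hgx, ← cl_pow c hdim hg' n, sub_eq_zero,
      cl_eq_cl_iff c hdim hm hg (hg'.pow c hdim n)]
    exact ⟨1, fun x _ => by simp [hw x]⟩
  · rw [map_sub, picModToPic_cl c hdim hg', sub_zero]

/-- The torsion classes in the kernel of `PicMod → Pic`. -/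
theorem mem_kerTors_iff (y : PicMod c m) :
    (n • y = 0 ∧ picModToPic c m y = 0) ↔
      ∃ (g : X.functionField) (v : Pt c → kˣ), HasValues c m g v ∧ y = cl c m g ∧
        ∃ a : kˣ, ∀ x ∈ m.support, v x ^ n = a := by
  constructor
  · rintro ⟨h1, h2⟩
    obtain ⟨g, v, hg, rfl⟩ := (picModToPic_eq_zero_iff c hdim y).mp h2
    refine ⟨g, v, hg, rfl, ?_⟩
    rw [← cl_pow c hdim hg n, cl_eq_zero_iff c hdim hm (hg.pow c hdim n)] at h1
    exact h1
  · rintro ⟨g, v, hg, rfl, ha⟩
    refine ⟨?_, picModToPic_cl c hdim hg⟩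
    rw [← cl_pow c hdim hg n, cl_eq_zero_iff c hdim hm (hg.pow c hdim n)]
    exact ha

theorem card_kerTors_of_support_eq_empty (h : m.support = ∅) :
    Nat.card {x : PicMod c m // n • x = 0 ∧ picModToPic c m x = 0} = 1 := by
  rw [Nat.card_eq_one_iff_unique]
  refine ⟨⟨fun a b => ?_⟩, ⟨⟨0, by simp⟩⟩⟩
  have key : ∀ y : {x : PicMod c m // n • x = 0 ∧ picModToPic c m x = 0}, y.1 = 0 := fun y => by
    obtain ⟨g, v, hg, hy, -⟩ := (mem_kerTors_iff c hdim hm n y.1).mp y.2
    rw [hy, cl_eq_zero_iff c hdim hm hg]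
    exact ⟨1, fun x hx => by rw [h] at hx; exact absurd hx (Finset.notMem_empty x)⟩
  exact Subtype.ext ((key a).trans (key b).symm)

section Nonempty

variable (x₀ : Pt c)

open Classical

/-- Extend a family of roots of unity on `supp m ∖ {x₀}` by `1`. -/
noncomputable def extend (w : ↥(m.support.erase x₀) → rootsOfUnity n k) : Pt c → kˣ :=
  fun x => if h : x ∈ m.support.erase x₀ then ((w ⟨x, h⟩ : rootsOfUnity n k) : kˣ) else 1

omit hdim hm [IsAlgClosed k] [IsProper c] [Smooth c] in
theorem extend_self (w : ↥(m.support.erase x₀) → rootsOfUnity n k) : extend c n x₀ w x₀ = 1 := by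
  unfold extend
  rw [dif_neg (Finset.notMem_erase x₀ _)]

omit hdim hm [IsAlgClosed k] [IsProper c] [Smooth c] in
theorem extend_of_mem (w : ↥(m.support.erase x₀) → rootsOfUnity n k) (x : Pt c)
    (h : x ∈ m.support.erase x₀) : extend c n x₀ w x = ((w ⟨x, h⟩ : rootsOfUnity n k) : kˣ) := by
  unfold extend
  rw [dif_pos h]

omit hdim hm [IsAlgClosed k] [IsProper c] [Smooth c] in
theorem extend_pow (w : ↥(m.support.erase x₀) → rootsOfUnity n k) (x : Pt c) :
    extend c n x₀ w x ^ n = 1 := by
  unfold extend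
  split_ifs with h
  · exact (mem_rootsOfUnity _ _).mp (w ⟨x, h⟩).2
  · exact one_pow n

/-- The parametrisation of the torsion classes in the kernel by roots of unity. -/
noncomputable def param (w : ↥(m.support.erase x₀) → rootsOfUnity n k) :
    {x : PicMod c m // n • x = 0 ∧ picModToPic c m x = 0} :=
  ⟨cl c m (Classical.choose (exists_hasValues c hdim m (extend c n x₀ w))),
    (mem_kerTors_iff c hdim hm n _).mpr
      ⟨_, _, Classical.choose_spec (exists_hasValues c hdim m (extend c n x₀ w)), rfl, 1,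
        fun x _ => extend_pow c n x₀ w x⟩⟩

theorem param_bijective (hx₀ : x₀ ∈ m.support) :
    Function.Bijective (param c hdim hm n x₀) := by
  constructor
  · intro w w' h
    have h1 := congrArg Subtype.val h
    unfold param at h1
    simp only at h1
    rw [cl_eq_cl_iff c hdim hm
      (Classical.choose_spec (exists_hasValues c hdim m (extend c n x₀ w)))
      (Classical.choose_spec (exists_hasValues c hdim m (extend c n x₀ w')))] at h1
    obtain ⟨a, ha⟩ := h1
    have ha1 : a = 1 := by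
      have := ha x₀ hx₀
      rw [extend_self, extend_self, mul_one] at this
      exact this.symm
    funext ⟨x, hx⟩
    have := ha x (Finset.mem_of_mem_erase hx)
    rw [ha1, one_mul, extend_of_mem c n x₀ w x hx, extend_of_mem c n x₀ w' x hx] at this
    exact Subtype.ext this
  · intro y
    obtain ⟨g, v, hg, hy, a, ha⟩ := (mem_kerTors_iff c hdim hm n y.1).mp y.2
    have hb : v x₀ ^ n = a := ha x₀ hx₀
    let w : ↥(m.support.erase x₀) → rootsOfUnity n k := fun x =>
      ⟨v x.1 / v x₀, (mem_rootsOfUnity _ _).mpr (by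
        rw [div_pow, ha x.1 (Finset.mem_of_mem_erase x.2), hb, div_self'])⟩
    refine ⟨w, Subtype.ext ?_⟩
    unfold param
    simp only
    rw [hy, cl_eq_cl_iff c hdim hm
      (Classical.choose_spec (exists_hasValues c hdim m (extend c n x₀ w))) hg]
    refine ⟨(v x₀)⁻¹, fun x hx => ?_⟩
    by_cases hxx : x = x₀
    · subst hxx
      rw [extend_self, inv_mul_cancel]
    · rw [extend_of_mem c n x₀ w x (Finset.mem_erase.mpr ⟨hxx, hx⟩)]
      simp only [w]
      rw [div_eq_mul_inv, mul_comm]

theorem card_kerTors_of_mem [NeZero (n : k)] (hx₀ : x₀ ∈ m.support) :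
    Nat.card {x : PicMod c m // n • x = 0 ∧ picModToPic c m x = 0} = n ^ (m.support.card - 1) := by
  haveI : NeZero n := .of_neZero_natCast k
  rw [← Nat.card_congr (Equiv.ofBijective _ (param_bijective c hdim hm n x₀ hx₀)), Nat.card_fun,
    HasEnoughRootsOfUnity.natCard_rootsOfUnity k n, Nat.card_eq_fintype_card, Fintype.card_coe,
    Finset.card_erase_of_mem hx₀]

end Nonempty

theorem card_kerTors (hnk : (n : k) ≠ 0) :
    Nat.card {x : PicMod c m // n • x = 0 ∧ picModToPic c m x = 0} = n ^ (m.support.card - 1) := by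
  haveI : NeZero (n : k) := ⟨hnk⟩
  by_cases h : m.support = ∅
  · rw [card_kerTors_of_support_eq_empty c hdim hm n h, h, Finset.card_empty, Nat.zero_sub,
      pow_zero]
  · obtain ⟨x₀, hx₀⟩ := Finset.nonempty_iff_ne_empty.mpr h
    exact card_kerTors_of_mem c hdim hm n x₀ hx₀

end Groth.Agent.Lib.Seat53.PicModTors
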