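import Mathlib

/-!
# Artin–Rees in uniform form, and a limit lemma for towers (seat 54, pure Mathlib)

* `exists_inf_le`: `∃ c, ∀ k, J^(k+c)•⊤ ⊓ N' ≤ J^k • N'` (finite module over a Noetherian ring).
* `exists_ker`, `exists_range`: the two forms used for sheaf Hom: for a linear map `φ` between finite
  modules, `ker φ ⊓ J^(k+c)•⊤ ≤ J^k • ker φ` and every element of `range φ ⊓ J^(k+c)•⊤` is `φ x` with
  `x ∈ J^k•⊤`.
* `Tower`: inverse systems of abelian groups indexed by `ℕ` with all transition maps;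
  `bijective_lim_of_AR`: a morphism of towers whose kernels and cokernels are killed by the `c`-step
  transition maps induces a bijection on inverse limits (elementwise form).
-/

set_option autoImplicit false
set_option linter.unusedSectionVars false

namespace Groth.Agent.Lib.Seat54.ARAlg

section AR

variable {B : Type*} [CommRing B] [IsNoetherianRing B] (J : Ideal B)
  {P : Type*} [AddCommGroup P] [Module B P] [Module.Finite B P]

theorem exists_inf_le (N' : Submodule B P) :
    ∃ c : ℕ, ∀ k : ℕ, (J ^ (k + c) • (⊤ : Submodule B P)) ⊓ N' ≤ J ^ k • N' := by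
  obtain ⟨c, hc⟩ := Ideal.exists_pow_inf_eq_pow_smul J N'
  refine ⟨c, fun k => ?_⟩
  rw [hc (k + c) (Nat.le_add_left c k), Nat.add_sub_cancel]
  exact Submodule.smul_mono le_rfl inf_le_right

variable {P' : Type*} [AddCommGroup P'] [Module B P'] [Module.Finite B P']

theorem exists_ker (φ : P →ₗ[B] P') :
    ∃ c : ℕ, ∀ k : ℕ, ∀ x : P, φ x = 0 → x ∈ J ^ (k + c) • (⊤ : Submodule B P) →
      x ∈ J ^ k • LinearMap.ker φ := by
  obtain ⟨c, hc⟩ := exists_inf_le J (LinearMap.ker φ)
  exact ⟨c, fun k x hx hx' => hc k ⟨hx', hx⟩⟩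

theorem exists_range (φ : P →ₗ[B] P') :
    ∃ c : ℕ, ∀ k : ℕ, ∀ x : P, φ x ∈ J ^ (k + c) • (⊤ : Submodule B P') →
      ∃ x' : P, x' ∈ J ^ k • (⊤ : Submodule B P) ∧ φ x' = φ x := by
  obtain ⟨c, hc⟩ := exists_inf_le J (LinearMap.range φ)
  refine ⟨c, fun k x hx => ?_⟩
  have h1 : φ x ∈ J ^ k • LinearMap.range φ := hc k ⟨hx, LinearMap.mem_range_self φ x⟩
  rw [← Submodule.map_top, ← Submodule.map_smul''] at h1
  obtain ⟨x', hx', hx'2⟩ := h1
  exact ⟨x', hx', hx'2⟩

end AR

section Tower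

/-- an inverse system of abelian groups indexed by `ℕ`, with all transition maps -/
structure Tower where
  G : ℕ → Type*
  [grp : ∀ n, AddCommGroup (G n)]
  r : ∀ {m n : ℕ}, n ≤ m → G m →+ G n
  r_refl : ∀ (n : ℕ) (x : G n), r (le_refl n) x = x
  r_trans : ∀ {l m n : ℕ} (h1 : m ≤ l) (h2 : n ≤ m) (x : G l), r h2 (r h1 x) = r (h2.trans h1) x

attribute [instance] Tower.grp

/-- compatible families -/
def Tower.Compat (T : Tower) (x : ∀ n, T.G n) : Prop :=
  ∀ n, T.r (Nat.le_succ n) (x (n + 1)) = x n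

theorem Tower.Compat.le {T : Tower} {x : ∀ n, T.G n} (hx : T.Compat x) {m n : ℕ} (h : n ≤ m) :
    T.r h (x m) = x n := by
  induction m, h using Nat.le_induction with
  | base => exact T.r_refl n _
  | succ m hm ih =>
    rw [← T.r_trans (Nat.le_succ m) hm, hx m, ih]

/-- a morphism of towers whose kernels and cokernels are killed by the `c`-step transition maps is
bijective on inverse limits -/
theorem bijective_lim_of_AR (S T : Tower) (θ : ∀ n, S.G n →+ T.G n)
    (hθ : ∀ {m n : ℕ} (h : n ≤ m) (x : S.G m), θ n (S.r h x) = T.r h (θ m x)) (c : ℕ)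
    (ha : ∀ (n : ℕ) (x : S.G (n + c)), θ (n + c) x = 0 → S.r (Nat.le_add_right n c) x = 0)
    (hb : ∀ (n : ℕ) (y : T.G (n + c)), ∃ x : S.G n, θ n x = T.r (Nat.le_add_right n c) y) :
    (∀ x : ∀ n, S.G n, S.Compat x → (∀ n, θ n (x n) = 0) → ∀ n, x n = 0) ∧
    (∀ y : ∀ n, T.G n, T.Compat y → ∃ x : ∀ n, S.G n, S.Compat x ∧ ∀ n, θ n (x n) = y n) := by
  refine ⟨fun x hx h0 n => ?_, fun y hy => ?_⟩
  · rw [← hx.le (Nat.le_add_right n c)]
    exact ha n _ (h0 _)
  · choose w hw using fun m => hb m (y (m + c))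
    have hw' : ∀ m, θ m (w m) = y m := fun m => by rw [hw m, hy.le]
    refine ⟨fun n => S.r (Nat.le_add_right n c) (w (n + c)), fun n => ?_, fun n => ?_⟩
    · -- compatibility
      have hle : n + c ≤ n + 1 + c := by omega
      have h1 : S.r (Nat.le_succ n) (S.r (Nat.le_add_right (n + 1) c) (w (n + 1 + c))) =
          S.r (Nat.le_add_right n c) (S.r hle (w (n + 1 + c))) := by
        rw [S.r_trans, S.r_trans]
      rw [h1, ← sub_eq_zero, ← map_sub]
      apply ha
      rw [map_sub, hθ, hw', hw', hy.le, sub_self]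
    · rw [hθ, hw', hy.le]

end Tower

end Groth.Agent.Lib.Seat54.ARAlg
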