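import Mathlib
import Groth.Agent.Lib.Helper16CechLow

/-!
# Cech complexes in coordinates (helper54)

`Coord U P L`: compatible injective additive maps `emb x : P(U_x) →+ L` into a fixed abelian group `L`
(all restriction maps become "inclusions inside `L`").  In these coordinates a cochain is a function
`γ c : (Fin (p+1) → ι) → L`, the differential is the alternating sum of faces (`γ_d`), cochains are
determined by their coordinates (`γ_ext`) and every family with `β x ∈ range (emb x)` comes from a cochain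
(`exists_γ`).

`exists_d_eq`: contraction.  If `π j : L →+ L` (`j : ι`, `ι` finite) satisfy
`π j (G_{j :: z}) ⊆ G_z` and `∑ j, π j = id` on `G_x` for the `(q+2)`-tuples `x`, then every `(q+1)`-cocycle
is a coboundary; `isZero_homology` the homology version.
-/

set_option autoImplicit false
set_option linter.unusedSectionVars false
universe u
open CategoryTheory

namespace Groth.Agent.Lib.Seat54.CechCoord
open Opposite CategoryTheory.Limits Groth.Agent.Lib.Helper16.CechLow

universe v u₁ w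
variable {C : Type u₁} [Category.{v} C] [HasFiniteProducts C] {ι : Type u} (U : ι → C)
  (P : Cᵒᵖ ⥤ AddCommGrpCat.{u})

/-- coordinates on the Cech complex -/
structure Coord (L : Type w) [AddCommGroup L] where
  /-- the embeddings -/
  emb : ∀ {p : ℕ} (x : Fin (p + 1) → ι), P.obj (op (Ux U x)) →+ L
  inj : ∀ {p : ℕ} (x : Fin (p + 1) → ι), Function.Injective (emb x)
  face : ∀ {p : ℕ} (x : Fin (p + 2) → ι) (i : Fin (p + 2))
    (s : P.obj (op (Ux U (x ∘ Fin.succAbove i)))),
    emb x (P.map (face U x i).op s) = emb (x ∘ Fin.succAbove i) s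

variable {U P} {L : Type w} [AddCommGroup L] (K : Coord U P L)

/-- the coordinates of a cochain -/
noncomputable def Coord.γ {p : ℕ} (c : (CK U P).X p) (x : Fin (p + 1) → ι) : L :=
  K.emb x (pr U P p x c)

lemma Coord.γ_zero {p : ℕ} (x : Fin (p + 1) → ι) : K.γ (0 : (CK U P).X p) x = 0 := by
  unfold Coord.γ
  rw [map_zero, map_zero]

lemma Coord.γ_add {p : ℕ} (c c' : (CK U P).X p) (x : Fin (p + 1) → ι) :
    K.γ (c + c') x = K.γ c x + K.γ c' x := by
  unfold Coord.γ
  rw [map_add, map_add]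

lemma Coord.γ_d {p : ℕ} (c : (CK U P).X p) (y : Fin (p + 2) → ι) :
    K.γ ((CK U P).d p (p + 1) c) y =
      ∑ i : Fin (p + 2), (-1 : ℤ) ^ (i : ℕ) • K.γ c (y ∘ Fin.succAbove i) := by
  unfold Coord.γ
  rw [d_pr_apply, map_sum]
  refine Finset.sum_congr rfl (fun i _ => ?_)
  rw [map_zsmul, K.face]

lemma Coord.γ_ext {p : ℕ} (c c' : (CK U P).X p) (h : ∀ x, K.γ c x = K.γ c' x) : c = c' :=
  elt_ext U P p c c' (fun x => K.inj x (h x))

lemma Coord.exists_γ {p : ℕ} (β : (Fin (p + 1) → ι) → L) (hβ : ∀ x, β x ∈ Set.range (K.emb x)) :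
    ∃ c : (CK U P).X p, ∀ x, K.γ c x = β x := by
  choose s hs using hβ
  refine ⟨mkElt U P p s, fun x => ?_⟩
  unfold Coord.γ
  rw [pr_mkElt, hs]

/-- contraction -/
theorem Coord.exists_d_eq [Fintype ι] (π : ι → L →+ L) (q : ℕ)
    (h2 : ∀ (j : ι) (z : Fin (q + 1) → ι) (s : P.obj (op (Ux U (Fin.cons j z : Fin (q + 2) → ι)))),
      π j (K.emb (Fin.cons j z : Fin (q + 2) → ι) s) ∈ Set.range (K.emb z))
    (h1 : ∀ (x : Fin (q + 2) → ι) (s : P.obj (op (Ux U x))),
      ∑ j, π j (K.emb x s) = K.emb x s)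
    (c : (CK U P).X (q + 1)) (hc : (CK U P).d (q + 1) (q + 2) c = 0) :
    ∃ b : (CK U P).X q, (CK U P).d q (q + 1) b = c := by
  obtain ⟨b, hb⟩ := K.exists_γ (p := q)
    (fun z => ∑ j, π j (K.γ c (Fin.cons j z : Fin (q + 2) → ι)))
    (fun z => by
      have : ∀ j, π j (K.γ c (Fin.cons j z : Fin (q + 2) → ι)) ∈ (K.emb z).range :=
        fun j => h2 j z _
      exact (K.emb z).range.sum_mem (fun j _ => this j))
  refine ⟨b, K.γ_ext _ _ (fun x => ?_)⟩
  rw [K.γ_d]
  simp only [hb]
  -- cocycle condition at `j :: x`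
  have hcoc : ∀ j : ι, ∑ i : Fin (q + 2), (-1 : ℤ) ^ (i : ℕ) •
      K.γ c (Fin.cons j (x ∘ Fin.succAbove i) : Fin (q + 2) → ι) = K.γ c x := by
    intro j
    have h0 : K.γ ((CK U P).d (q + 1) (q + 2) c) (Fin.cons j x : Fin (q + 3) → ι) = 0 := by
      rw [hc, K.γ_zero]
    rw [K.γ_d, Fin.sum_univ_succ] at h0
    have e0 : (Fin.cons j x : Fin (q + 3) → ι) ∘ Fin.succAbove 0 = x := by
      funext a
      simp
    have es : ∀ i : Fin (q + 2), (Fin.cons j x : Fin (q + 3) → ι) ∘ Fin.succAbove i.succ =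
        (Fin.cons j (x ∘ Fin.succAbove i) : Fin (q + 2) → ι) := by
      intro i
      funext a
      refine Fin.cases ?_ (fun a' => ?_) a
      · simp
      · simp [Fin.succ_succAbove_succ]
    rw [e0] at h0
    simp only [es, Fin.val_zero, pow_zero, one_zsmul, Fin.val_succ, pow_succ, mul_neg, mul_one,
      neg_smul, Finset.sum_neg_distrib] at h0
    exact (add_neg_eq_zero.mp h0).symm
  calc ∑ i : Fin (q + 2), (-1 : ℤ) ^ (i : ℕ) •
        ∑ j, π j (K.γ c (Fin.cons j (x ∘ Fin.succAbove i) : Fin (q + 2) → ι))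
      = ∑ j, π j (∑ i : Fin (q + 2), (-1 : ℤ) ^ (i : ℕ) •
          K.γ c (Fin.cons j (x ∘ Fin.succAbove i) : Fin (q + 2) → ι)) := by
        simp only [Finset.smul_sum, map_sum, map_zsmul]
        exact Finset.sum_comm
    _ = ∑ j, π j (K.γ c x) := by simp only [hcoc]
    _ = K.γ c x := h1 x _

/-- vanishing of Cech cohomology from the contraction -/
theorem Coord.isZero_homology [Fintype ι] (π : ι → L →+ L) (q : ℕ)
    (h2 : ∀ (j : ι) (z : Fin (q + 1) → ι) (s : P.obj (op (Ux U (Fin.cons j z : Fin (q + 2) → ι)))),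
      π j (K.emb (Fin.cons j z : Fin (q + 2) → ι) s) ∈ Set.range (K.emb z))
    (h1 : ∀ (x : Fin (q + 2) → ι) (s : P.obj (op (Ux U x))),
      ∑ j, π j (K.emb x s) = K.emb x s) :
    IsZero ((CK U P).homology (q + 1)) := by
  rw [← HomologicalComplex.exactAt_iff_isZero_homology,
    HomologicalComplex.exactAt_iff' (CK U P) q (q + 1) (q + 2) (by simp) (by simp),
    ShortComplex.ab_exact_iff]
  intro c hc
  exact K.exists_d_eq π q h2 h1 c hc

end Groth.Agent.Lib.Seat54.CechCoord
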