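import Groth.Agent.Lib.Helper21Cech10
import Groth.Agent.Lib.Helper23AffVanish7
import Groth.Agent.Lib.Helper16CechLES
import Groth.Agent.Lib.Helper16CechCmp

/-!
# A natural isomorphism from Cech cohomology to sheaf cohomology on a space (helper54)

`exists_natural_iso`: for an abelian sheaf `F` on a space `X` and an open cover `U` with `F`-acyclic finite
intersections, an additive isomorphism `Ȟ^p(U, F) ≃+ H^p(X, F)` (Cech complex over the terminal open, prelude's
`CohCx.cechH`) which commutes with the maps induced by every endomorphism of `F` (from the natural edge maps of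
helper21 + `H^p(⊤, F) ≃ H^p(X, F)` of helper23).
-/

set_option autoImplicit false
universe u
open CategoryTheory CategoryTheory.Limits Opposite TopologicalSpace Abelian

namespace Groth.Agent.Lib.Seat54.CechNat

open Groth.Agent.Lib.Helper21.Cech Groth.Agent.Lib.Helper23.AffVanish Groth.Agent.Lib.Helper16.CechLES
  Groth.Agent.Lib.Helper16.CechCmp

variable {X : TopCat.{u}} (F : CohTop.Ab X) {ι : Type u} (U : ι → Opens X)

/-- the family over the terminal open -/
abbrev Yf : ι → Over (⊤ : Opens X) := fam U ⊤ (fun _ => le_top)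

theorem covering (hcov : iSup U = ⊤) :
    Sieve.ofArrows (fun i => (Yf U i).left) (fun i => (Yf U i).hom) ∈
      Opens.grothendieckTopology X ⊤ :=
  covering_of_iSup (Yf U) (show (⊤ : Opens X) ≤ iSup U from hcov.ge)

theorem counit_naturality (ψ : F ⟶ F) :
    CechEdge.shfMap (Opens.grothendieckTopology X) ψ.hom ≫
        (sheafificationAdjunction (Opens.grothendieckTopology X) AddCommGrpCat.{u}).counit.app F =
      (sheafificationAdjunction (Opens.grothendieckTopology X) AddCommGrpCat.{u}).counit.app F ≫ ψ :=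
  (sheafificationAdjunction (Opens.grothendieckTopology X) AddCommGrpCat.{u}).counit.naturality ψ

theorem exists_natural_iso (hcov : iSup U = ⊤)
    (h : ∀ (n : ℕ) (a : Fin (n + 1) → ι) (q : ℕ),
      Subsingleton (CohSite.HU F (q + 1) (fp (Yf U) a).left))
    (p : ℕ) :
    ∃ Φ : CohCx.cechH F.obj (Yf U) p ≃+ Sheaf.H F p,
      ∀ (ψ : F ⟶ F) (x : CohCx.cechH F.obj (Yf U) p),
        Φ (CechEdge.cechHMap (Yf U) ψ.hom p x) = Sheaf.H.map ψ p (Φ x) := by
  have hY := covering U hcov
  have hb := edge_bijective_of_acyclic (Yf U) hY p F h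
  have hc := HUmap_bijective_of_isIso
    ((sheafificationAdjunction (Opens.grothendieckTopology X) AddCommGrpCat.{u}).counit.app F) p
    (⊤ : Opens X)
  have ht := precomp_wTop_bijective X F p
  let f1 : CohCx.cechH F.obj (Yf U) p →+ Sheaf.H F p :=
    ((Ext.mk₀ (wTop X)).precomp F (zero_add p)).comp
      ((CechEdge.HUmap
        ((sheafificationAdjunction (Opens.grothendieckTopology X) AddCommGrpCat.{u}).counit.app F) p
          (⊤ : Opens X)).comp (edge (Yf U) hY F.obj p))
  have hf1 : Function.Bijective f1 := ht.comp (hc.comp hb)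
  refine ⟨AddEquiv.ofBijective f1 hf1, fun ψ x => ?_⟩
  change (Ext.mk₀ (wTop X)).precomp F (zero_add p) (CechEdge.HUmap _ p (⊤ : Opens X)
      (edge (Yf U) hY F.obj p (CechEdge.cechHMap (Yf U) ψ.hom p x))) =
    Sheaf.H.map ψ p ((Ext.mk₀ (wTop X)).precomp F (zero_add p) (CechEdge.HUmap _ p (⊤ : Opens X)
      (edge (Yf U) hY F.obj p x)))
  rw [edge_natural]
  change (Ext.mk₀ (wTop X)).precomp F (zero_add p) (CechEdge.HUmap _ p (⊤ : Opens X)
      (CechEdge.HUmap (CechEdge.shfMap _ ψ.hom) p (⊤ : Opens X) (edge (Yf U) hY F.obj p x))) = _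
  rw [← HUmap_comp, counit_naturality, HUmap_comp, HUmap_apply ψ, Sheaf.H.map_apply]
  exact (Ext.comp_assoc (Ext.mk₀ (wTop X)) _ (Ext.mk₀ ψ) (zero_add p) (add_zero p) (by omega)).symm

end Groth.Agent.Lib.Seat54.CechNat
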