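import Mathlib
import Groth.Agent.Lib.Seat54CechCoord

/-!
# Presenting a cohomology group of a complex of abelian groups; contraction in coordinates (helper54)

* `exists_homology_equiv`: for a cochain complex `K` of abelian groups and an additive map `κ : K.X p →+ T`
  killing coboundaries, injective on cocycles modulo coboundaries and surjective on cocycles, an isomorphism
  `Ψ : K.homology p ≃+ T` with `Ψ [z] = κ z`.
* `homology_equiv_natural`: such a `Ψ` intertwines `homologyMap φ` and `τ` if `κ ∘ φ = τ ∘ κ`.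
* `Coord.exists_d_γ`: the contraction in coordinates: for a `(q+1)`-cocycle `c` there is `b` with
  `γ (d b) x = ∑ j, π j (γ c x)`.
-/

set_option autoImplicit false
set_option linter.unusedSectionVars false
universe u
open CategoryTheory

namespace Groth.Agent.Lib.Seat54.CechTop
open Opposite CategoryTheory.Limits Groth.Agent.Lib.Helper16.CechLow Groth.Agent.Lib.Seat54.CechCoord

section Homology

variable (K : CochainComplex AddCommGrpCat.{u} ℕ) (p i k : ℕ)
  (hi : (ComplexShape.up ℕ).prev p = i) (hk : (ComplexShape.up ℕ).next p = k)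
  {T : Type u} [AddCommGroup T] (κ : K.X p →+ T)

include hi hk in
theorem exists_homology_equiv
    (h1 : ∀ b : K.X i, κ (K.d i p b) = 0)
    (h2 : ∀ c : K.X p, K.d p k c = 0 → κ c = 0 → ∃ b : K.X i, K.d i p b = c)
    (h3 : ∀ t : T, ∃ c : K.X p, K.d p k c = 0 ∧ κ c = t) :
    ∃ Ψ : K.homology p ≃+ T, ∀ z : K.cycles p, Ψ (K.homologyπ p z) = κ (K.iCycles p z) := by
  have hcok := K.homologyIsCokernel i p hi
  let kk : K.cycles p ⟶ AddCommGrpCat.of T := K.iCycles p ≫ AddCommGrpCat.ofHom κ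
  have hkk : K.toCycles i p ≫ kk = 0 := by
    rw [K.toCycles_i_assoc]
    ext b
    exact h1 b
  let Ψ₀ : K.homology p ⟶ AddCommGrpCat.of T := hcok.desc (CokernelCofork.ofπ kk hkk)
  have hfac : K.homologyπ p ≫ Ψ₀ = kk := hcok.fac (CokernelCofork.ofπ kk hkk) WalkingParallelPair.one
  have hfac' : ∀ z : K.cycles p, Ψ₀ (K.homologyπ p z) = κ (K.iCycles p z) := fun z =>
    ConcreteCategory.congr_hom hfac z
  have hπsurj : Function.Surjective (K.homologyπ p) :=
    (AddCommGrpCat.epi_iff_surjective _).1 inferInstance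
  have hiinj : Function.Injective (K.iCycles p) :=
    (AddCommGrpCat.mono_iff_injective _).1 inferInstance
  have hex : (ShortComplex.mk (K.toCycles i p) (K.homologyπ p) (K.toCycles_comp_homologyπ i p)).Exact :=
    ShortComplex.exact_of_g_is_cokernel _ hcok
  rw [ShortComplex.ab_exact_iff] at hex
  have hlift : ∀ c : K.X p, K.d p k c = 0 → ∃ z : K.cycles p, K.iCycles p z = c := by
    subst hk
    intro c hc
    exact ⟨(K.sc p).abCyclesIso.inv ⟨c, hc⟩, (K.sc p).abCyclesIso_inv_apply_iCycles ⟨c, hc⟩⟩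
  have hinj : Function.Injective Ψ₀.hom := by
    rw [injective_iff_map_eq_zero]
    intro y hy
    obtain ⟨z, rfl⟩ := hπsurj y
    have hz : κ (K.iCycles p z) = 0 := (hfac' z).symm.trans hy
    have hdz : K.d p k (K.iCycles p z) = 0 := ConcreteCategory.congr_hom (K.iCycles_d p k) z
    obtain ⟨b, hb⟩ := h2 _ hdz hz
    have : K.toCycles i p b = z := by
      apply hiinj
      rw [← hb]
      exact ConcreteCategory.congr_hom (K.toCycles_i i p) b
    rw [← this]
    exact ConcreteCategory.congr_hom (K.toCycles_comp_homologyπ i p) b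
  have hsurj : Function.Surjective Ψ₀.hom := by
    intro t
    obtain ⟨c, hc, hct⟩ := h3 t
    obtain ⟨z, rfl⟩ := hlift c hc
    exact ⟨K.homologyπ p z, (hfac' z).trans hct⟩
  exact ⟨AddEquiv.ofBijective Ψ₀.hom ⟨hinj, hsurj⟩, hfac'⟩

theorem homology_equiv_natural (Ψ : K.homology p ≃+ T)
    (hΨ : ∀ z : K.cycles p, Ψ (K.homologyπ p z) = κ (K.iCycles p z))
    (φ : K ⟶ K) (τ : T →+ T) (hφ : ∀ c : K.X p, κ (φ.f p c) = τ (κ c))
    (y : K.homology p) : Ψ (HomologicalComplex.homologyMap φ p y) = τ (Ψ y) := by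
  have hπsurj : Function.Surjective (K.homologyπ p) :=
    (AddCommGrpCat.epi_iff_surjective _).1 inferInstance
  obtain ⟨z, rfl⟩ := hπsurj y
  have h1 : HomologicalComplex.homologyMap φ p (K.homologyπ p z) =
      K.homologyπ p (HomologicalComplex.cyclesMap φ p z) :=
    (ConcreteCategory.congr_hom (HomologicalComplex.homologyπ_naturality φ p) z)
  have h2 : K.iCycles p (HomologicalComplex.cyclesMap φ p z) = φ.f p (K.iCycles p z) :=
    ConcreteCategory.congr_hom (HomologicalComplex.cyclesMap_i φ p) z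
  rw [h1, hΨ, h2, hφ, hΨ]

end Homology

section Contraction

universe v u₁ w
variable {C : Type u₁} [Category.{v} C] [HasFiniteProducts C] {ι : Type u} {U : ι → C}
  {P : Cᵒᵖ ⥤ AddCommGrpCat.{u}} {L : Type w} [AddCommGroup L] (K : Coord U P L)

/-- contraction, in coordinates -/
theorem _root_.Groth.Agent.Lib.Seat54.CechCoord.Coord.exists_d_γ [Fintype ι] (π : ι → L →+ L) (q : ℕ)
    (h2 : ∀ (j : ι) (z : Fin (q + 1) → ι) (s : P.obj (op (Ux U (Fin.cons j z : Fin (q + 2) → ι)))),
      π j (K.emb (Fin.cons j z : Fin (q + 2) → ι) s) ∈ Set.range (K.emb z))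
    (c : (CK U P).X (q + 1)) (hc : (CK U P).d (q + 1) (q + 2) c = 0) :
    ∃ b : (CK U P).X q, ∀ x, K.γ ((CK U P).d q (q + 1) b) x = ∑ j, π j (K.γ c x) := by
  obtain ⟨b, hb⟩ := K.exists_γ (p := q)
    (fun z => ∑ j, π j (K.γ c (Fin.cons j z : Fin (q + 2) → ι)))
    (fun z => by
      have : ∀ j, π j (K.γ c (Fin.cons j z : Fin (q + 2) → ι)) ∈ (K.emb z).range :=
        fun j => h2 j z _
      exact (K.emb z).range.sum_mem (fun j _ => this j))
  refine ⟨b, fun x => ?_⟩
  rw [K.γ_d]
  simp only [hb]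
  have hcoc : ∀ j : ι, ∑ i : Fin (q + 2), (-1 : ℤ) ^ (i : ℕ) •
      K.γ c (Fin.cons j (x ∘ Fin.succAbove i) : Fin (q + 2) → ι) = K.γ c x := by
    intro j
    have h0 : K.γ ((CK U P).d (q + 1) (q + 2) c) (Fin.cons j x : Fin (q + 3) → ι) = 0 := by
      rw [hc, K.γ_zero]
    rw [K.γ_d, Fin.sum_univ_succ] at h0
    have e0 : (Fin.cons j x : Fin (q + 3) → ι) ∘ Fin.succAbove 0 = x := by
      funext a
      simp
    have es : ∀ i : Fin (q + 2), (Fin.cons j x : Fin (q + 3) → ι) ∘ Fin.succAbove i.succ =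
        (Fin.cons j (x ∘ Fin.succAbove i) : Fin (q + 2) → ι) := by
      intro i
      funext a
      refine Fin.cases ?_ (fun a' => ?_) a
      · simp
      · simp [Fin.succ_succAbove_succ]
    rw [e0] at h0
    simp only [es, Fin.val_zero, pow_zero, one_zsmul, Fin.val_succ, pow_succ, mul_neg, mul_one,
      neg_smul, Finset.sum_neg_distrib] at h0
    exact (add_neg_eq_zero.mp h0).symm
  calc ∑ i : Fin (q + 2), (-1 : ℤ) ^ (i : ℕ) •
        ∑ j, π j (K.γ c (Fin.cons j (x ∘ Fin.succAbove i) : Fin (q + 2) → ι))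
      = ∑ j, π j (∑ i : Fin (q + 2), (-1 : ℤ) ^ (i : ℕ) •
          K.γ c (Fin.cons j (x ∘ Fin.succAbove i) : Fin (q + 2) → ι)) := by
        simp only [Finset.smul_sum, map_sum, map_zsmul]
        exact Finset.sum_comm
    _ = ∑ j, π j (K.γ c x) := by simp only [hcoc]

end Contraction

end Groth.Agent.Lib.Seat54.CechTop
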