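import Mathlib

/-!
# A direct limit of cyclic modules along multiplication maps, computed by coefficient maps (seat 54)

Abstract lemma: a directed system `G n` of `S`-modules with compatible surjections `π n : S → G n`
(transition maps = multiplication by powers of `t`), together with `A`-linear maps `ψ n : S → F`
having the same kernels, the same compatibility and jointly surjective, gives an `A`-linear
equivalence between the direct limit and `F`.
-/

set_option autoImplicit false
universe u

namespace Groth.Agent.Lib.Seat54.DirLimFree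

open Module

section

variable {A S : Type u} [CommRing A] [CommRing S] [Algebra A S]
  (G : ℕ → Type u) [∀ n, AddCommGroup (G n)] [∀ n, Module S (G n)]
  (f : ∀ n m, n ≤ m → G n →ₗ[S] G m)
  (π : ∀ n, S →ₗ[S] G n) (hπs : ∀ n, Function.Surjective (π n))
  (t : S) (hπ : ∀ n m (h : n ≤ m) x, f n m h (π n x) = π m (t ^ (m - n) * x))
  {F : Type u} [AddCommGroup F] [Module A F]
  (ψ : ∀ n, S →ₗ[A] F) (hψ : ∀ n m (_ : n ≤ m) x, ψ m (t ^ (m - n) * x) = ψ n x)
  (hker : ∀ n x, π n x = 0 ↔ ψ n x = 0)
  (hsurj : ∀ y : F, ∃ n x, ψ n x = y)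

include hπs hπ in
lemma directedSystem : DirectedSystem G (fun i j h => f i j h) where
  map_self i x := by
    obtain ⟨y, rfl⟩ := hπs i x
    rw [hπ]
    simp
  map_map k j i hij hjk x := by
    obtain ⟨y, rfl⟩ := hπs i x
    rw [hπ, hπ, hπ, ← mul_assoc, ← pow_add]
    congr 3
    omega

include hπ in
lemma of_eq (n m : ℕ) (h : n ≤ m) (x : S) :
    DirectLimit.of S ℕ G f n (π n x) = DirectLimit.of S ℕ G f m (π m (t ^ (m - n) * x)) := by
  rw [← hπ n m h, DirectLimit.of_f]

include hπs in
lemma exists_rep (d : DirectLimit G f) : ∃ n x, DirectLimit.of S ℕ G f n (π n x) = d := by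
  obtain ⟨n, y, rfl⟩ := DirectLimit.exists_of d
  obtain ⟨x, rfl⟩ := hπs n y
  exact ⟨n, x, rfl⟩

include hπs hπ hψ hker in
lemma well (n m : ℕ) (x x' : S)
    (h : DirectLimit.of S ℕ G f n (π n x) = DirectLimit.of S ℕ G f m (π m x')) :
    ψ n x = ψ m x' := by
  have := directedSystem G f π hπs t hπ
  set k := max n m with hk
  have hn : n ≤ k := le_max_left _ _
  have hm : m ≤ k := le_max_right _ _
  rw [of_eq G f π t hπ n k hn, of_eq G f π t hπ m k hm, ← sub_eq_zero, ← map_sub, ← map_sub] at h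
  obtain ⟨j, hj, hz⟩ := DirectLimit.of.zero_exact h
  rw [hπ, hker, hψ k j hj, map_sub, sub_eq_zero, hψ n k hn, hψ m k hm] at hz
  exact hz

/-- the comparison map. -/
noncomputable def Φ (d : DirectLimit G f) : F :=
  ψ (exists_rep G f π hπs d).choose (exists_rep G f π hπs d).choose_spec.choose

include hπ hψ hker in
lemma Φ_of (n : ℕ) (x : S) :
    Φ G f π hπs ψ (DirectLimit.of S ℕ G f n (π n x)) = ψ n x :=
  well G f π hπs t hπ ψ hψ hker _ _ _ _
    (exists_rep G f π hπs (DirectLimit.of S ℕ G f n (π n x))).choose_spec.choose_spec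

include hπs hπ hψ hker hsurj in
theorem dl_equiv : Nonempty (RestrictScalars A S (DirectLimit G f) ≃ₗ[A] F) := by
  have hΦ := Φ_of G f π hπs t hπ ψ hψ hker
  have hadd : ∀ d d' : DirectLimit G f,
      Φ G f π hπs ψ (d + d') = Φ G f π hπs ψ d + Φ G f π hπs ψ d' := by
    intro d d'
    obtain ⟨n, x, rfl⟩ := exists_rep G f π hπs d
    obtain ⟨m, x', rfl⟩ := exists_rep G f π hπs d'
    set k := max n m with hk
    have hn : n ≤ k := le_max_left _ _
    have hm : m ≤ k := le_max_right _ _
    rw [hΦ, hΦ, of_eq G f π t hπ n k hn, of_eq G f π t hπ m k hm, ← map_add, ← map_add, hΦ,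
      map_add, hψ n k hn, hψ m k hm]
  have hsmul : ∀ (a : A) (d : DirectLimit G f),
      Φ G f π hπs ψ (algebraMap A S a • d) = a • Φ G f π hπs ψ d := by
    intro a d
    obtain ⟨n, x, rfl⟩ := exists_rep G f π hπs d
    rw [← map_smul, ← map_smul, hΦ, hΦ, smul_eq_mul, ← Algebra.smul_def, map_smul]
  let L : RestrictScalars A S (DirectLimit G f) →ₗ[A] F :=
    { toFun := fun d => Φ G f π hπs ψ d
      map_add' := hadd
      map_smul' := hsmul }
  refine ⟨LinearEquiv.ofBijective L ⟨?_, ?_⟩⟩
  · rw [injective_iff_map_eq_zero]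
    intro d hd
    obtain ⟨n, x, rfl⟩ := exists_rep G f π hπs d
    have hd' : ψ n x = 0 := (hΦ n x).symm.trans hd
    rw [← hker] at hd'
    show DirectLimit.of S ℕ G f n (π n x) = 0
    rw [hd', map_zero]
  · intro y
    obtain ⟨n, x, rfl⟩ := hsurj y
    exact ⟨DirectLimit.of S ℕ G f n (π n x), hΦ n x⟩

end

end Groth.Agent.Lib.Seat54.DirLimFree
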