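import Mathlib

/-!
# Inverse limits along cofinal sequences and diagonals (seat 54)

Pure order theory/algebra (Mathlib only).  Data: a semilattice `ι`, groups `HQ i`, transition maps
`r : i ≤ j → HQ i →+ HQ j` (functorial), a group `H` with compatible maps `π i : H →+ HQ i`.
`IsFF r π c hc`: for the antitone sequence `c : ℕ → ι`, the map `H → lim_n HQ (c n)` is injective and
surjective (elementwise form).  `IsFF.of_cofinal` (mutually cofinal sequences), `IsFF.diag`
(double limit along `a k ⊔ b m` from the two iterated limits).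
-/

set_option autoImplicit false
universe u
namespace Groth.Agent.Lib.Seat54.FFLim

variable {ι : Type*} [SemilatticeSup ι] {HQ : ι → Type*} [∀ i, AddCommGroup (HQ i)]
  (r : ∀ {i j : ι}, i ≤ j → HQ i →+ HQ j)

/-- `H → lim_n HQ (c n)` is bijective, elementwise. -/
def IsFF {H : Type*} [AddCommGroup H] (π : ∀ i, H →+ HQ i) (c : ℕ → ι) (hc : Antitone c) : Prop :=
  (∀ x, (∀ n, π (c n) x = 0) → x = 0) ∧
  (∀ y : ∀ n, HQ (c n), (∀ n, r (hc (Nat.le_succ n)) (y (n + 1)) = y n) → ∃ x, ∀ n, π (c n) x = y n)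

variable (r_refl : ∀ (i : ι) (x : HQ i), r (le_refl i) x = x)
  (r_trans : ∀ {i j k : ι} (h : i ≤ j) (h' : j ≤ k) (x : HQ i), r h' (r h x) = r (h.trans h') x)

include r_refl r_trans in
theorem compat {c : ℕ → ι} (hc : Antitone c) (y : ∀ n, HQ (c n))
    (hy : ∀ n, r (hc (Nat.le_succ n)) (y (n + 1)) = y n) :
    ∀ k m, r (hc (Nat.le_add_right m k)) (y (m + k)) = y m := by
  intro k
  induction k with
  | zero => intro m; exact r_refl _ _
  | succ k ih =>
    intro m
    have h1 := hy (m + k)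
    have h2 := ih m
    rw [← h1, r_trans] at h2
    exact h2

include r_refl r_trans in
theorem compat' {c : ℕ → ι} (hc : Antitone c) (y : ∀ n, HQ (c n))
    (hy : ∀ n, r (hc (Nat.le_succ n)) (y (n + 1)) = y n) {m n : ℕ} (h : m ≤ n) :
    r (hc h) (y n) = y m := by
  obtain ⟨k, rfl⟩ := Nat.exists_eq_add_of_le h
  exact compat r r_refl r_trans hc y hy k m

variable {H : Type*} [AddCommGroup H] (π : ∀ i, H →+ HQ i)
  (hπ : ∀ {i j : ι} (h : i ≤ j) (x : H), r h (π i x) = π j x)

include r_refl r_trans hπ in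
/-- mutually cofinal sequences have the same limit -/
theorem IsFF.of_cofinal {c d : ℕ → ι} (hc : Antitone c) (hd : Antitone d)
    (h1 : ∀ n, ∃ m, d m ≤ c n) (h2 : ∀ n, ∃ m, c m ≤ d n) (hFF : IsFF r π c hc) : IsFF r π d hd := by
  choose f hf using h1
  choose g hg using h2
  refine ⟨fun x hx => hFF.1 x (fun n => ?_), fun y hy => ?_⟩
  · rw [← hπ (hf n), hx, map_zero]
  · -- the induced family over `c`
    have hy' := fun {m n : ℕ} (h : m ≤ n) => compat' r r_refl r_trans hd y hy h
    let y' : ∀ n, HQ (c n) := fun n => r (hf n) (y (f n))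
    have hy'c : ∀ n, r (hc (Nat.le_succ n)) (y' (n + 1)) = y' n := by
      intro n
      change r _ (r (hf (n + 1)) (y (f (n + 1)))) = r (hf n) (y (f n))
      have e1 := hy' (le_max_left (f n) (f (n + 1)))
      have e2 := hy' (le_max_right (f n) (f (n + 1)))
      rw [← e1, ← e2, r_trans, r_trans, r_trans]
    obtain ⟨x, hx⟩ := hFF.2 y' hy'c
    refine ⟨x, fun n => ?_⟩
    -- compare at `d n` through `c (g n)`
    have e0 : π (d n) x = r (hg n) (y' (g n)) := by rw [← hx, hπ]
    rw [e0]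
    change r (hg n) (r (hf (g n)) (y (f (g n)))) = y n
    have e1 := hy' (le_max_left n (f (g n)))
    have e2 := hy' (le_max_right n (f (g n)))
    rw [← e1, ← e2, r_trans, r_trans]

include r_refl r_trans hπ in
/-- the diagonal of a double limit -/
theorem IsFF.diag {a b : ℕ → ι} (ha : Antitone a) (hb : Antitone b)
    (hA : IsFF r π a ha)
    (hBinj : ∀ k (x : HQ (a k)), (∀ m, r (le_sup_left : a k ≤ a k ⊔ b m) x = 0) → x = 0)
    (hBsurj : ∀ k (y : ∀ m, HQ (a k ⊔ b m)),
      (∀ m, r (sup_le_sup_left (hb (Nat.le_succ m)) (a k)) (y (m + 1)) = y m) →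
        ∃ x : HQ (a k), ∀ m, r (le_sup_left : a k ≤ a k ⊔ b m) x = y m) :
    IsFF r π (fun n => a n ⊔ b n) (fun _ _ h => sup_le_sup (ha h) (hb h)) := by
  have hab : Antitone (fun n => a n ⊔ b n) := fun _ _ h => sup_le_sup (ha h) (hb h)
  have hle : ∀ k m, a (k + m) ⊔ b (k + m) ≤ a k ⊔ b m := fun k m =>
    sup_le_sup (ha (Nat.le_add_right k m)) (hb (Nat.le_add_left m k))
  refine ⟨fun x hx => hA.1 x (fun k => hBinj k _ (fun m => ?_)), fun y hy => ?_⟩
  · rw [hπ, ← hπ (hle k m), hx, map_zero]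
  · have hy' := fun {m n : ℕ} (h : m ≤ n) => compat' r r_refl r_trans hab y hy h
    let z : ∀ k m, HQ (a k ⊔ b m) := fun k m => r (hle k m) (y (k + m))
    -- independence of the choice of the index
    have hz : ∀ k m N (hN : a N ⊔ b N ≤ a k ⊔ b m), k + m ≤ N → z k m = r hN (y N) := by
      intro k m N hN hle'
      change r (hle k m) (y (k + m)) = _
      rw [← hy' hle', r_trans]
    have hzc : ∀ k m, r (sup_le_sup_left (hb (Nat.le_succ m)) (a k)) (z k (m + 1)) = z k m := by
      intro k m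
      rw [hz k m (k + (m + 1)) ((hle k (m + 1)).trans (sup_le_sup_left (hb (Nat.le_succ m)) (a k)))
        (by lia)]
      change r _ (r (hle k (m + 1)) (y (k + (m + 1)))) = _
      rw [r_trans]
    choose w hw using fun k => hBsurj k (z k) (hzc k)
    have hwc : ∀ k, r (ha (Nat.le_succ k)) (w (k + 1)) = w k := by
      intro k
      rw [← sub_eq_zero]
      apply hBinj k
      intro m
      rw [map_sub, sub_eq_zero, hw k m, r_trans]
      have e1 : r ((ha (Nat.le_succ k)).trans (le_sup_left : a k ≤ a k ⊔ b m)) (w (k + 1)) =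
          r (sup_le_sup_right (ha (Nat.le_succ k)) (b m)) (r le_sup_left (w (k + 1))) := by
        rw [r_trans]
      rw [e1, hw (k + 1) m,
        hz (k + 1) m (k + 1 + m) (hle (k + 1) m) le_rfl, r_trans,
        hz k m (k + 1 + m) ((hle (k + 1) m).trans (sup_le_sup_right (ha (Nat.le_succ k)) (b m)))
          (by lia)]
    obtain ⟨x, hx⟩ := hA.2 w hwc
    refine ⟨x, fun n => ?_⟩
    change π (a n ⊔ b n) x = y n
    rw [← hπ (le_sup_left : a n ≤ a n ⊔ b n), hx, hw n n, hz n n (n + n) (hle n n) le_rfl]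
    exact hy' (Nat.le_add_right n n)

end Groth.Agent.Lib.Seat54.FFLim
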