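import Mathlib
import Groth.Agent.Lib.Seat54FFPrincCoh
import Groth.Agent.Lib.Seat54FFLim

/-!
# Theorem on formal functions over a complete base (seat 54)

`ffI A I M p` for `A` Noetherian and `I`-adically complete, `X` proper over `Spec A`, `M` coherent:
`H^p(X, M) → lim_n H^p(X, M/I^(n+1)M)` is bijective (`IsFF` form); `bijective_toHHlim`: the frozen form
`Function.Bijective (Formal.toHHlim I M p)`.  Proof by induction on generators of `I`
(`Submodule.fg_induction`): principal case `FFPrincCoh.ff_principal`, step `ffI_sup` by the double limit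
`FFLim.IsFF.diag` and cofinality `FFLim.IsFF.of_cofinal`.
-/

set_option autoImplicit false
set_option linter.style.haveILetI false
universe u
open CategoryTheory CategoryTheory.Limits AlgebraicGeometry Opposite

namespace Groth.Agent.Lib.Seat54.FFMain

open Groth.Agent.S8821 Groth.Agent.Lib.Seat54.FFQuot Groth.Agent.Lib.Seat54.FFPrinc
  Groth.Agent.Lib.Seat54.HHFinite Groth.Agent.Lib.Seat54.FFAlg Groth.Agent.Lib.Seat54.FFLim
  Groth.Agent.Lib.Seat54.FFPrincCoh

variable (A : Type u) [CommRing A] {X : Scheme.{u}} [X.Over (Spec (CommRingCat.of A))]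

/-- transition maps `H^p(M/𝔞M) → H^p(M/𝔟M)` -/
noncomputable def rr (M : X.Modules) (p : ℕ) {𝔞 𝔟 : Ideal A} (h : 𝔞 ≤ 𝔟) :
    Coh.HH X (Q 𝔞 M) p →+ Coh.HH X (Q 𝔟 M) p :=
  (Canon.HHlin A (qLE h M) p).toAddMonoidHom

/-- the maps `H^p(M) → H^p(M/𝔞M)` -/
noncomputable def ππ (M : X.Modules) (p : ℕ) (𝔞 : Ideal A) : Coh.HH X M p →+ Coh.HH X (Q 𝔞 M) p :=
  (Canon.HHlin A (qπ 𝔞 M) p).toAddMonoidHom

theorem rr_apply (M : X.Modules) (p : ℕ) {𝔞 𝔟 : Ideal A} (h : 𝔞 ≤ 𝔟) (x : Coh.HH X (Q 𝔞 M) p) :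
    rr A M p h x = Canon.HHlin A (qLE h M) p x := rfl

theorem ππ_apply (M : X.Modules) (p : ℕ) (𝔞 : Ideal A) (x : Coh.HH X M p) :
    ππ A M p 𝔞 x = Canon.HHlin A (qπ 𝔞 M) p x := rfl

theorem rr_refl (M : X.Modules) (p : ℕ) (𝔞 : Ideal A) (x : Coh.HH X (Q 𝔞 M) p) :
    rr A M p (le_refl 𝔞) x = x := by
  rw [rr_apply, qLE_refl, HHlin_id]

theorem rr_trans (M : X.Modules) (p : ℕ) {𝔞 𝔟 𝔠 : Ideal A} (h : 𝔞 ≤ 𝔟) (h' : 𝔟 ≤ 𝔠)
    (x : Coh.HH X (Q 𝔞 M) p) : rr A M p h' (rr A M p h x) = rr A M p (h.trans h') x := by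
  rw [rr_apply, rr_apply, rr_apply, ← HHlin_comp, qLE_qLE]

theorem rr_ππ (M : X.Modules) (p : ℕ) {𝔞 𝔟 : Ideal A} (h : 𝔞 ≤ 𝔟) (x : Coh.HH X M p) :
    rr A M p h (ππ A M p 𝔞 x) = ππ A M p 𝔟 x := by
  rw [rr_apply, ππ_apply, ππ_apply, ← HHlin_comp, qπ_qLE]

variable {A}

theorem antitone_pow (I : Ideal A) : Antitone (fun n : ℕ => I ^ (n + 1)) :=
  fun _ _ h => Ideal.pow_le_pow_right (Nat.succ_le_succ h)

variable (A)

/-- formal functions for `(I, M, p)`, elementwise -/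
def FFI (I : Ideal A) (M : X.Modules) (p : ℕ) : Prop :=
  IsFF (fun {𝔞 𝔟 : Ideal A} (h : 𝔞 ≤ 𝔟) => rr A M p h) (ππ A M p) (fun n : ℕ => I ^ (n + 1))
    (antitone_pow I)

variable [IsNoetherianRing A] [IsProper (X ↘ Spec (CommRingCat.of A))]

theorem ffI_principal (a : A) [IsAdicComplete (Ideal.span ({a} : Set A)) A] (M : X.Modules)
    (hM : Coh.IsCoh M) (p : ℕ) : FFI A (Ideal.span ({a} : Set A)) M p :=
  ff_principal A a M hM p

omit [IsNoetherianRing A] [IsProper (X ↘ Spec (CommRingCat.of A))] in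
theorem ffI_sup {C : X.Modules → Prop} (hQ : ∀ (𝔞 : Ideal A) M, C M → C (Q 𝔞 M)) (J₁ J₂ : Ideal A)
    (h1 : ∀ (M : X.Modules), C M → ∀ p, FFI A J₁ M p)
    (h2 : ∀ (M : X.Modules), C M → ∀ p, FFI A J₂ M p)
    (M : X.Modules) (hM : C M) (p : ℕ) : FFI A (J₁ ⊔ J₂) M p := by
  have hd := IsFF.diag (fun {𝔞 𝔟 : Ideal A} (h : 𝔞 ≤ 𝔟) => rr A M p h) (rr_refl A M p)
    (fun h h' x => rr_trans A M p h h' x) (ππ A M p) (fun h x => rr_ππ A M p h x)
    (antitone_pow J₁) (antitone_pow J₂) (h1 M hM p) ?_ ?_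
  · refine IsFF.of_cofinal (fun {𝔞 𝔟 : Ideal A} (h : 𝔞 ≤ 𝔟) => rr A M p h) (rr_refl A M p)
      (fun h h' x => rr_trans A M p h h' x) (ππ A M p) (fun h x => rr_ππ A M p h x) _
      (antitone_pow (J₁ ⊔ J₂)) ?_ ?_ hd
    · intro n
      refine ⟨n + n + 1, ?_⟩
      have : n + n + 1 + 1 = (n + 1) + (n + 1) := by ring
      change (J₁ ⊔ J₂) ^ (n + n + 1 + 1) ≤ J₁ ^ (n + 1) ⊔ J₂ ^ (n + 1)
      rw [this]
      exact Ideal.sup_pow_add_le_pow_sup_pow
    · intro n
      exact ⟨n, sup_le (Ideal.pow_right_mono le_sup_left _) (Ideal.pow_right_mono le_sup_right _)⟩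
  · -- injectivity at level `k`
    intro k x hx
    have hG := h2 (Q (J₁ ^ (k + 1)) M) (hQ _ M hM) p
    refine hG.1 x (fun m => ?_)
    have e := hx m
    rw [rr_apply] at e
    have e2 : Canon.HHlin A (qLE (le_sup_left : J₁ ^ (k + 1) ≤ J₁ ^ (k + 1) ⊔ J₂ ^ (m + 1)) M) p x =
        Canon.HHlin A (qq (J₁ ^ (k + 1)) (J₂ ^ (m + 1)) M).hom p
          (Canon.HHlin A (qπ (J₂ ^ (m + 1)) (Q (J₁ ^ (k + 1)) M)) p x) := by
      rw [← HHlin_comp, qπ_qq_hom]
    rw [e2] at e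
    have e3 := congrArg (Canon.HHlin A (qq (J₁ ^ (k + 1)) (J₂ ^ (m + 1)) M).inv p) e
    rw [← HHlin_comp, Iso.hom_inv_id, HHlin_id, map_zero] at e3
    exact e3
  · -- surjectivity at level `k`
    intro k y hy
    have hG := h2 (Q (J₁ ^ (k + 1)) M) (hQ _ M hM) p
    obtain ⟨x, hx⟩ := hG.2
      (fun m => Canon.HHlin A (qq (J₁ ^ (k + 1)) (J₂ ^ (m + 1)) M).inv p (y m)) (fun m => by
        have e := hy m
        rw [rr_apply] at e
        rw [rr_apply, ← HHlin_comp, ← e, ← HHlin_comp]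
        refine congrArg (fun φ => Canon.HHlin A φ p (y (m + 1))) ?_
        rw [Iso.inv_comp_eq, ← Category.assoc, Iso.eq_comp_inv]
        exact qLE_qq_hom (J₁ ^ (k + 1)) _ M)
    refine ⟨x, fun m => ?_⟩
    have e := hx m
    rw [ππ_apply] at e
    rw [rr_apply, ← qπ_qq_hom, HHlin_comp, e, ← HHlin_comp, Iso.inv_hom_id, HHlin_id]

omit [IsProper (X ↘ Spec (CommRingCat.of A))] in
/-- **Theorem on formal functions** (complete base) for a class of modules with finite cohomology. -/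
theorem ffI_of_class [IsNoetherian X] {C : X.Modules → Prop} (hC : FinClass A X C)
    (I : Ideal A) [IsAdicComplete I A] (M : X.Modules) (hM : C M) (p : ℕ) :
    FFI A I M p := by
  have key : ∀ (J : Ideal A) (_ : J.FG), IsAdicComplete J A →
      ∀ (M : X.Modules), C M → ∀ p, FFI A J M p := by
    intro J hJ
    refine Submodule.fg_induction
      (motive := fun (J : Ideal A) _ => IsAdicComplete J A →
        ∀ (M : X.Modules), C M → ∀ p, FFI A J M p) ?_ ?_ J hJ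
    · intro a ha M hM p
      haveI := ha
      exact ff_principal_of_class A hC a M hM p
    · intro J₁ J₂ _ _ ih1 ih2 hc M hM p
      haveI := hc
      exact ffI_sup A hC.quot J₁ J₂ (ih1 (isAdicComplete_of_le (I := J₁ ⊔ J₂) le_sup_left))
        (ih2 (isAdicComplete_of_le (I := J₁ ⊔ J₂) le_sup_right)) M hM p
  exact key I (IsNoetherian.noetherian I) inferInstance M hM p

/-- **Theorem on formal functions** (complete base), `IsFF` form. -/
theorem ffI (I : Ideal A) [IsAdicComplete I A] (M : X.Modules) (hM : Coh.IsCoh M) (p : ℕ) :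
    FFI A I M p := by
  haveI : IsNoetherian X := isNoetherian_of_proper A X
  exact ffI_of_class A (finClass_proper A) I M hM p

omit [IsNoetherianRing A] [IsProper (X ↘ Spec (CommRingCat.of A))] in
/-- from the elementwise form to the frozen form -/
theorem bijective_toHHlim_of_ffI (I : Ideal A) (M : X.Modules) (p : ℕ) (h : FFI A I M p) :
    Function.Bijective (Formal.toHHlim I M p) := by
  constructor
  · rw [injective_iff_map_eq_zero]
    intro x hx
    refine h.1 x (fun n => ?_)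
    have := congrArg (fun z => z.1 n) hx
    exact this
  · rintro ⟨y, hy⟩
    obtain ⟨x, hx⟩ := h.2 y (fun n => hy n)
    refine ⟨x, Subtype.ext (funext fun n => ?_)⟩
    exact hx n

theorem bijective_toHHlim (I : Ideal A) [IsAdicComplete I A] (M : X.Modules) (hM : Coh.IsCoh M)
    (p : ℕ) : Function.Bijective (Formal.toHHlim I M p) :=
  bijective_toHHlim_of_ffI A I M p (ffI A I M hM p)

end Groth.Agent.Lib.Seat54.FFMain
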