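import Mathlib
import Groth.Agent.Lib.Seat54FFMain
import Groth.Agent.Lib.Seat3ShriekSheaf
import Groth.Agent.S0020

/-!
# Coherent modules with proper support: finiteness and formal functions (seat 54)

`X` of finite type over a Noetherian ring `A`.  `CSupp A M`: `M` coherent with support proper over `Spec A`.
* `finite_HH_of_properSupport`: `H^p(X, M)` is a finite `A`-module (dévissage S4458 on the support + S0002
  on the reduced closed subschemes).
* `finClass_supp`, `bijective_toHHlim_of_properSupport` (= S4460).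
-/

set_option autoImplicit false
set_option linter.style.haveILetI false
universe u
open CategoryTheory CategoryTheory.Limits AlgebraicGeometry Opposite TopologicalSpace

namespace Groth.Agent.Lib.Seat54.FFSupp

open Groth.Agent.Lib.Seat54 Groth.Agent.Lib.Seat16.RedInd Groth.Agent.Lib.Seat54.ProperFinite
  Groth.Agent.Lib.Seat54.FFQuot Groth.Agent.Lib.Seat54.FFPrincCoh Groth.Agent.Lib.Seat54.FFMain
  Groth.Agent.Lib.Seat54.HHFinite

variable (A : Type u) [CommRing A] [IsNoetherianRing A] {X : Scheme.{u}}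
  [X.Over (Spec (CommRingCat.of A))]

/-- the generator required by the dévissage, on the closure of a point whose closure is proper over `A` -/
theorem exists_generator_of_proper (Z : Set X) (hZ : IsClosed Z) (y : X) (hy : closure {y} = Z)
    (hp : IsProper ((vI X Z hZ).subschemeι ≫ (X ↘ Spec (CommRingCat.of A)))) :
    ∃ G : X.Modules, Coh.IsCoh G ∧ finCoh A G ∧ CohB1.support G ⊆ Z ∧
      ClSub.KilledByIdeal (Scheme.IdealSheafData.vanishingIdeal ⟨Z, hZ⟩) G ∧ y ∈ CohB1.support G := by
  let j := (vI X Z hZ).subschemeι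
  let _ : (vI X Z hZ).subscheme.Over (Spec (CommRingCat.of A)) :=
    ⟨j ≫ (X ↘ Spec (CommRingCat.of A))⟩
  have hj : j ≫ (X ↘ Spec (CommRingCat.of A)) =
      (vI X Z hZ).subscheme ↘ Spec (CommRingCat.of A) := rfl
  have : IsProper ((vI X Z hZ).subscheme ↘ Spec (CommRingCat.of A)) := by
    rw [← hj]; exact hp
  obtain ⟨η, hηy, hη⟩ := exists_generic X Z hZ y hy
  obtain ⟨G₀, hG₀, hfin, hst⟩ := exists_good_module A η hη
  have : G₀.IsQuasicoherent := hG₀.1
  refine ⟨(Scheme.Modules.pushforward j).obj G₀, Groth.Agent.Lib.Seat21.Dev.isCoh_push j hG₀,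
    fun p => Module.Finite.equiv (PushLin.pushEquiv j A hj G₀ p).symm, ?_, ?_, ?_⟩
  · have h := Groth.Agent.Lib.Seat21.Dev.support_push_subset j G₀
    rwa [range_subschemeι X Z hZ] at h
  · have h := Groth.Agent.Lib.Seat21.Dev.killedByIdeal_push j G₀
    rwa [ker_subschemeι X Z hZ] at h
  · have h := Groth.Agent.Lib.Seat21.Dev.mem_support_push j hst
    rwa [hηy] at h

/-- coherent with support proper over `Spec A` -/
def CSupp (M : X.Modules) : Prop :=
  Coh.IsCoh M ∧ ClSub.IsProperOver (X ↘ Spec (CommRingCat.of A)) (CohB1.support M)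

variable [IsNoetherian X]

/-- **Finiteness of cohomology for coherent modules with proper support.** -/
theorem finite_HH_of_properSupport (M : X.Modules) (hM : CSupp A M) (p : ℕ) :
    Module.Finite A (Coh.HH X M p) := by
  obtain ⟨hcl, hprop⟩ := hM.2
  refine Groth.Agent.S4458.result X (finCoh A) (finCoh_of_isZero A) ?_ ?_ (CohB1.support M) hcl
    (fun Z hZ hZi hsub y hy => ?_) M hM.1 subset_rfl p
  · intro S hS _ _ _
    exact twoOfThree A S hS
  · intro M N i r hir _ _ h n
    exact finite_of_retract A i r hir n (h n)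
  · obtain ⟨_, hpZ⟩ := Groth.Agent.Lib.Seat3.ShriekSheaf.isProperOver_of_subset
      (X ↘ Spec (CommRingCat.of A)) hM.2 hZ hsub
    exact exists_generator_of_proper A Z hZ y hy hpZ

theorem cSupp_of_mono {M N : X.Modules} (i : N ⟶ M) [Mono i] (hN : N.IsQuasicoherent) (hM : CSupp A M) :
    CSupp A N := by
  have hNc : Coh.IsCoh N := Groth.Agent.Lib.Seat21.Dev.isCoh_of_mono i hN hM.1
  exact ⟨hNc, Groth.Agent.Lib.Seat3.ShriekSheaf.isProperOver_of_subset _ hM.2
    (Groth.Agent.S0020.result X N hNc.2) (Groth.Agent.Lib.Seat21.Dev.support_subset_of_mono i)⟩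

theorem cSupp_of_epi {M N : X.Modules} (q : M ⟶ N) [Epi q] (hN : Coh.IsCoh N) (hM : CSupp A M) :
    CSupp A N :=
  ⟨hN, Groth.Agent.Lib.Seat3.ShriekSheaf.isProperOver_of_subset _ hM.2
    (Groth.Agent.S0020.result X N hN.2) (Groth.Agent.Lib.Seat21.Dev.support_subset_of_epi q)⟩

theorem finClass_supp : FinClass A X (CSupp A) where
  coh _ h := h.1
  fin M h p := finite_HH_of_properSupport A M h p
  quot 𝔞 M h := cSupp_of_epi A (qπ 𝔞 M) (isCoh_Q 𝔞 h.1) h
  sub 𝔞 M h := cSupp_of_mono A (Kι 𝔞 M) (isCoh_K 𝔞 h.1).1 h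

/-- **Formal functions for coherent modules with proper support** (complete base). -/
theorem bijective_toHHlim_of_properSupport (I : Ideal A) [IsAdicComplete I A] (M : X.Modules)
    (hM : Coh.IsCoh M) (hs : ClSub.IsProperOver (X ↘ Spec (CommRingCat.of A)) (CohB1.support M))
    (p : ℕ) : Function.Bijective (Formal.toHHlim I M p) :=
  bijective_toHHlim_of_ffI A I M p (ffI_of_class A (finClass_supp A) I M ⟨hM, hs⟩ p)

end Groth.Agent.Lib.Seat54.FFSupp
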