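import Groth.Agent.Lib.Seat54HHFinite
import Groth.Agent.Lib.Helper23FinTypeLocal
import Groth.Agent.Lib.Seat35EulerIso

/-!
# Finite biproducts and coproducts: finiteness of cohomology and coherence (seat 54)

`finite_biproduct`, `finite_sigma`: `Coh.HH` of a finite (`Fin r`-indexed) biproduct / coproduct is a finite
`A`-module if that of each summand is. `isCoh_biproduct`, `isCoh_sigma`: finite biproducts / coproducts of
coherent modules are coherent. `sum_app_apply`.
-/

set_option autoImplicit false
universe u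
open CategoryTheory CategoryTheory.Limits AlgebraicGeometry Abelian Opposite

namespace Groth.Agent.Lib.Seat54.HHSigma

open Groth.Agent.Lib.Helper23.QCohLocal Groth.Agent.Lib.Helper23.FinType Groth.Agent.Lib.Seat54.HHFinite

attribute [local instance] Abelian.hasFiniteBiproducts

section
variable (A : Type u) [CommRing A] {X : Scheme.{u}} [X.Over (Spec (CommRingCat.of A))]

/-- cohomology of a finite biproduct is finite if the cohomology of each summand is -/
theorem finite_biproduct {r : ℕ} (E : Fin r → X.Modules) (i : ℕ)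
    (h : ∀ j, Module.Finite A (Coh.HH X (E j) i)) : Module.Finite A (Coh.HH X (⨁ E) i) := by
  classical
  let L : (∀ j, Coh.HH X (E j) i) →ₗ[A] Coh.HH X (⨁ E) i :=
    LinearMap.lsum A _ A (fun j => Canon.HHlin A (biproduct.ι E j) i)
  refine Module.Finite.of_surjective L ?_
  intro x
  refine ⟨fun j => Canon.HHlin A (biproduct.π E j) i x, ?_⟩
  have h1 : ∑ j, biproduct.π E j ≫ biproduct.ι E j = 𝟙 (⨁ E) := biproduct.total
  have h2 : L (fun j => Canon.HHlin A (biproduct.π E j) i x) =
      ∑ j, Canon.HHlin A (biproduct.ι E j) i (Canon.HHlin A (biproduct.π E j) i x) := by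
    simp [L, LinearMap.lsum_apply]
  rw [h2]
  calc ∑ j, Canon.HHlin A (biproduct.ι E j) i (Canon.HHlin A (biproduct.π E j) i x)
      = ∑ j, Canon.HHlin A (biproduct.π E j ≫ biproduct.ι E j) i x :=
        Finset.sum_congr rfl (fun j _ => (HHlin_comp A _ _ i x).symm)
    _ = Canon.HHlin A (∑ j, biproduct.π E j ≫ biproduct.ι E j) i x := (HHlin_sum A _ _ i x).symm
    _ = x := by rw [h1, HHlin_id]

/-- cohomology of a finite coproduct is finite if the cohomology of each summand is -/
theorem finite_sigma {r : ℕ} (E : Fin r → X.Modules) (i : ℕ)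
    (h : ∀ j, Module.Finite A (Coh.HH X (E j) i)) : Module.Finite A (Coh.HH X (∐ E) i) := by
  have h1 := finite_biproduct A E i h
  obtain ⟨e⟩ := Groth.Agent.Lib.Seat35.EulerIso.nonempty_linearEquiv A X (biproduct.isoCoproduct E) i
  exact Module.Finite.equiv e

end

section
variable {X : Scheme.{u}}

theorem sum_app_apply {ι : Type*} (s : Finset ι) {M N : X.Modules} (φ : ι → (M ⟶ N)) (U : X.Opens)
    (x : Γ(M, U)) : (∑ j ∈ s, φ j).app U x = ∑ j ∈ s, (φ j).app U x := by
  classical
  induction s using Finset.induction_on with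
  | empty =>
    rw [Finset.sum_empty, Finset.sum_empty, Scheme.Modules.Hom.zero_app]
    rfl
  | insert a s ha ih =>
    rw [Finset.sum_insert ha, Finset.sum_insert ha, Scheme.Modules.Hom.add_app, ← ih]
    rfl

/-- a finite biproduct of coherent modules is coherent -/
theorem isCoh_biproduct {r : ℕ} (E : Fin r → X.Modules) (hE : ∀ j, Coh.IsCoh (E j)) :
    Coh.IsCoh (⨁ E) := by
  classical
  have hq : (⨁ E).IsQuasicoherent := isQuasicoherent_biproduct E (fun k => (hE k).1)
  refine ⟨hq, ?_⟩
  rw [isFiniteType_iff_forall_affine]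
  intro U hU
  have hfin : ∀ j, Module.Finite Γ(X, U) Γ(E j, U) := fun j => by
    have := (hE j).1
    have := (hE j).2
    exact finite_of_isFiniteType (E j) hU
  let f : ∀ j, Γ(E j, U) →ₗ[Γ(X, U)] Γ((⨁ E : X.Modules), U) := fun j =>
    { toFun := fun x => (biproduct.ι E j).app U x
      map_add' := fun x y => map_add _ x y
      map_smul' := fun r x => Scheme.Modules.Hom.app_smul (biproduct.ι E j) r x }
  refine Module.Finite.of_surjective (LinearMap.lsum Γ(X, U) _ Γ(X, U) f) ?_
  intro s
  refine ⟨fun j => (biproduct.π E j).app U s, ?_⟩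
  have h1 : ∑ j, biproduct.π E j ≫ biproduct.ι E j = 𝟙 (⨁ E) := biproduct.total
  have h2 := congrArg (fun φ : (⨁ E : X.Modules) ⟶ (⨁ E : X.Modules) => φ.app U s) h1
  simp only [sum_app_apply, Scheme.Modules.Hom.comp_app, Scheme.Modules.Hom.id_app] at h2
  simp only [LinearMap.lsum_apply, LinearMap.sum_apply, LinearMap.comp_apply, LinearMap.proj_apply]
  exact h2

/-- a finite coproduct of coherent modules is coherent -/
theorem isCoh_sigma {r : ℕ} (E : Fin r → X.Modules) (hE : ∀ j, Coh.IsCoh (E j)) :
    Coh.IsCoh (∐ E) := by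
  obtain ⟨hq, hf⟩ := isCoh_biproduct E hE
  have := hf
  exact ⟨(SheafOfModules.isQuasicoherent X.ringCatSheaf).prop_of_iso (biproduct.isoCoproduct E) hq,
    isFiniteType_of_iso (biproduct.isoCoproduct E)⟩

end

end Groth.Agent.Lib.Seat54.HHSigma
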