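import Mathlib
import Groth.Agent.Lib.Seat54FFQuot
import Groth.Agent.Lib.Helper23FinTypeLocal
import Groth.Agent.Lib.Helper2ModExact
import Groth.Agent.Lib.Helper23QCohSum

/-!
# Sections of `M/𝔞M` over affine opens (seat 54)

For `X` over `Spec A`, `𝔞` a finitely generated ideal of `A`, `N` quasi-coherent and `V` affine open:
* `sc V : A →+* Γ(X, V)`, `smulMod_app`: `(smulMod A N a).app V s = sc V a • s`;
* `qπ_app_surjective`: `Γ(N, V) → Γ(N/𝔞N, V)` is surjective;
* `mem_of_qπ_app_eq_zero`: its kernel is `(𝔞 Γ(X,V)) • Γ(N, V)`;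
* `qπ_app_eq_zero_of_mem`: conversely.
-/

set_option autoImplicit false
set_option linter.style.haveILetI false
set_option linter.unusedSectionVars false
universe u
open CategoryTheory CategoryTheory.Limits AlgebraicGeometry Opposite TopologicalSpace

namespace Groth.Agent.Lib.Seat54.QSec

open Groth.Agent.Lib.Seat54.FFQuot Groth.Agent.S8821

attribute [local instance] Abelian.hasFiniteBiproducts

variable {A : Type u} [CommRing A] {X : Scheme.{u}} [X.Over (Spec (CommRingCat.of A))]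

/-- the image of `a : A` in `Γ(X, V)` -/
noncomputable def sc (V : X.Opens) : A →+* Γ(X, V) :=
  (Coh.resTop X (op V)).comp (Coh.toGlobal (X ↘ Spec (CommRingCat.of A)))

theorem smulMod_app (N : X.Modules) (a : A) (V : X.Opens) (s : Γ(N, V)) :
    (Formal.smulMod A N a).app V s = sc V a • s := rfl

/-- sections as a module over `Γ(X, V)`: a morphism on sections, as a linear map -/
noncomputable def appₗ {M N : X.Modules} (φ : M ⟶ N) (V : X.Opens) : Γ(M, V) →ₗ[Γ(X, V)] Γ(N, V) where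
  toFun x := φ.app V x
  map_add' x y := map_add _ x y
  map_smul' r x := Scheme.Modules.Hom.app_smul φ r x

theorem appₗ_apply {M N : X.Modules} (φ : M ⟶ N) (V : X.Opens) (x : Γ(M, V)) :
    appₗ φ V x = φ.app V x := rfl

/-- the ideal of `Γ(X, V)` generated by `𝔞` -/
noncomputable def JV (𝔞 : Ideal A) (V : X.Opens) : Ideal Γ(X, V) := 𝔞.map (sc V)

theorem JV_pow (𝔞 : Ideal A) (V : X.Opens) (k : ℕ) : JV (𝔞 ^ k) V = JV 𝔞 V ^ k :=
  Ideal.map_pow _ _ _

/-- `𝔞` kills sections of `N/𝔞N` -/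
theorem qπ_app_eq_zero_of_mem (𝔞 : Ideal A) (N : X.Modules) (V : X.Opens) (s : Γ(N, V))
    (hs : s ∈ JV 𝔞 V • (⊤ : Submodule Γ(X, V) Γ(N, V))) : (qπ 𝔞 N).app V s = 0 := by
  have h1 : JV 𝔞 V • (⊤ : Submodule Γ(X, V) Γ(N, V)) ≤ LinearMap.ker (appₗ (qπ 𝔞 N) V) := by
    rw [Submodule.smul_le]
    intro r hr n _
    rw [LinearMap.mem_ker, map_smul]
    have h2 : JV 𝔞 V ≤ (Submodule.annihilator (⊤ : Submodule Γ(X, V) Γ(Q 𝔞 N, V))) := by
      unfold JV
      rw [Ideal.map_le_iff_le_comap]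
      intro a ha
      rw [Ideal.mem_comap, Submodule.mem_annihilator]
      intro t _
      rw [← smulMod_app, smulMod_Q_eq_zero 𝔞 N a ha]
      rfl
    exact (Submodule.mem_annihilator.1 (h2 hr)) _ Submodule.mem_top
  exact h1 hs

variable [IsNoetherianRing A]

section Fin

variable {k : ℕ} (a : Fin k → A) (N : X.Modules)

/-- finite version of `smulFamily` -/
noncomputable def smulFin : (⨁ fun _ : Fin k => N) ⟶ N :=
  biproduct.desc fun j => Formal.smulMod A N (a j)

theorem smulFin_comp_eq_zero_iff {T : X.Modules} (g : N ⟶ T) :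
    smulFin a N ≫ g = 0 ↔ ∀ j, Formal.smulMod A N (a j) ≫ g = 0 := by
  constructor
  · intro h j
    have := congrArg (fun φ => biproduct.ι (fun _ : Fin k => N) j ≫ φ) h
    simpa [smulFin] using this
  · intro h
    apply biproduct.hom_ext'
    intro j
    simp [smulFin, h j]

/-- the scalars `c` with `c • g = 0` -/
def killIdeal {T : X.Modules} (g : N ⟶ T) : Ideal A where
  carrier := {c | Formal.smulMod A N c ≫ g = 0}
  add_mem' := by
    intro x y hx hy
    change Formal.smulMod A N (x + y) ≫ g = 0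
    rw [smulMod_add, Preadditive.add_comp, hx, hy, add_zero]
  zero_mem' := by
    change Formal.smulMod A N 0 ≫ g = 0
    rw [smulMod_zero, zero_comp]
  smul_mem' := by
    intro c x hx
    change Formal.smulMod A N (c * x) ≫ g = 0
    rw [smulMod_mul', Category.assoc, hx, comp_zero]

variable (𝔞 : Ideal A) (ha : Ideal.span (Set.range a) = 𝔞)

include ha in
theorem smulFin_qπ : smulFin a N ≫ qπ 𝔞 N = 0 := by
  rw [smulFin_comp_eq_zero_iff]
  intro j
  exact smulMod_qπ_of_mem 𝔞 N (a j) (ha ▸ Ideal.subset_span ⟨j, rfl⟩)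

include ha in
theorem forall_mem_of_smulFin {T : X.Modules} (g : N ⟶ T) (hg : smulFin a N ≫ g = 0) :
    ∀ c ∈ 𝔞, Formal.smulMod A N c ≫ g = 0 := by
  intro c hc
  have h1 : Ideal.span (Set.range a) ≤ killIdeal N g := by
    rw [Ideal.span_le]
    rintro _ ⟨j, rfl⟩
    exact (smulFin_comp_eq_zero_iff a N g).1 hg j
  exact h1 (ha ▸ hc)

include ha in
/-- `N/𝔞N` is the cokernel of `smulFin` -/
noncomputable def isColimitQ :
    IsColimit (CokernelCofork.ofπ (qπ 𝔞 N) (smulFin_qπ a N 𝔞 ha)) :=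
  CokernelCofork.IsColimit.ofπ _ _
    (fun {T} g hg => qDesc 𝔞 g (forall_mem_of_smulFin a N 𝔞 ha g hg))
    (fun g hg => qπ_qDesc 𝔞 g _)
    (fun g hg m hm => by rw [← cancel_epi (qπ 𝔞 N), hm, qπ_qDesc])

include ha in
theorem epi_Klift : Epi (Klift 𝔞 (smulFin a N) (smulFin_qπ a N 𝔞 ha)) := by
  let S : ShortComplex X.Modules := ShortComplex.mk (smulFin a N) (qπ 𝔞 N) (smulFin_qπ a N 𝔞 ha)
  have hS : S.Exact := ShortComplex.exact_of_g_is_cokernel S (isColimitQ a N 𝔞 ha)
  exact (S.exact_iff_epi_kernel_lift).1 hS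

end Fin

/-- surjectivity of `Γ(N, V) → Γ(N/𝔞N, V)` for `V` affine -/
theorem qπ_app_surjective (𝔞 : Ideal A) (N : X.Modules) [N.IsQuasicoherent] {V : X.Opens}
    (hV : IsAffineOpen V) : Function.Surjective ((qπ 𝔞 N).app V) := by
  haveI := isQCoh_sigma 𝔞 N
  haveI : (Q 𝔞 N).IsQuasicoherent := Groth.Agent.Lib.Helper23.QCohLocal.isQuasicoherent_cokernel _
  exact Groth.Agent.Lib.Helper23.FinType.surjective_app_of_epi (qπ 𝔞 N) hV

/-- the kernel of `Γ(N, V) → Γ(N/𝔞N, V)` for `V` affine -/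
theorem mem_of_qπ_app_eq_zero (𝔞 : Ideal A) (N : X.Modules) [N.IsQuasicoherent] {V : X.Opens}
    (hV : IsAffineOpen V) (s : Γ(N, V)) (hs : (qπ 𝔞 N).app V s = 0) :
    s ∈ JV 𝔞 V • (⊤ : Submodule Γ(X, V) Γ(N, V)) := by
  obtain ⟨T, hT⟩ := (isNoetherianRing_iff_ideal_fg A).1 inferInstance 𝔞
  obtain ⟨k, a, ha⟩ : ∃ (k : ℕ) (a : Fin k → A), Ideal.span (Set.range a) = 𝔞 := by
    refine ⟨T.card, fun j => (T.equivFin.symm j : A), ?_⟩
    rw [← hT]
    congr 1
    ext x
    constructor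
    · rintro ⟨j, rfl⟩
      exact (T.equivFin.symm j).2
    · intro hx
      exact ⟨T.equivFin ⟨x, hx⟩, by simp⟩
  haveI := isQCoh_sigma 𝔞 N
  haveI : (Q 𝔞 N).IsQuasicoherent := Groth.Agent.Lib.Helper23.QCohLocal.isQuasicoherent_cokernel _
  haveI : (K 𝔞 N).IsQuasicoherent := Groth.Agent.Lib.Helper23.QCohLocal.isQuasicoherent_kernel _
  -- lift to `𝔞N`
  obtain ⟨s', hs'⟩ := Groth.Agent.Lib.Helper2.ModExact.exists_app_eq_of_shortExact (ses 𝔞 N)
    (ses_shortExact 𝔞 N) V s hs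
  change (Kι 𝔞 N).app V s' = s at hs'
  -- lift to the finite sum
  haveI := epi_Klift a N 𝔞 ha
  haveI : (⨁ fun _ : Fin k => N : X.Modules).IsQuasicoherent :=
    Groth.Agent.Lib.Helper23.QCohLocal.isQuasicoherent_biproduct (fun _ : Fin k => N)
      (fun _ => inferInstance)
  obtain ⟨t, ht⟩ := Groth.Agent.Lib.Helper23.FinType.surjective_app_of_epi
    (Klift 𝔞 (smulFin a N) (smulFin_qπ a N 𝔞 ha)) hV s'
  have h1 : s = (smulFin a N).app V t := by
    rw [← hs', ← ht]
    exact congrArg (fun φ : (⨁ fun _ : Fin k => N) ⟶ N => φ.app V t)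
      (Klift_Kι 𝔞 (smulFin a N) (smulFin_qπ a N 𝔞 ha))
  rw [h1]
  have h2 : (smulFin a N).app V t =
      ∑ j, sc V (a j) • (biproduct.π (fun _ : Fin k => N) j).app V t := by
    unfold smulFin
    rw [biproduct.desc_eq]
    have h3 : ∀ (s : Finset (Fin k)), (∑ j ∈ s, biproduct.π (fun _ : Fin k => N) j ≫
        Formal.smulMod A N (a j)).app V t =
        ∑ j ∈ s, sc V (a j) • (biproduct.π (fun _ : Fin k => N) j).app V t := by
      intro s
      induction s using Finset.induction_on with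
      | empty => simp
      | insert j s hj ih =>
        rw [Finset.sum_insert hj, Finset.sum_insert hj, Scheme.Modules.Hom.add_app]
        change (biproduct.π (fun _ : Fin k => N) j ≫ Formal.smulMod A N (a j)).app V t + _ = _
        rw [ih]
        rfl
    exact h3 Finset.univ
  rw [h2]
  refine Submodule.sum_mem _ fun j _ => ?_
  refine Submodule.smul_mem_smul ?_ Submodule.mem_top
  exact Ideal.mem_map_of_mem _ (ha ▸ Ideal.subset_span ⟨j, rfl⟩)

end Groth.Agent.Lib.Seat54.QSec
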