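import Mathlib
import Groth.Prelude.Def_RefHull
import Groth.Agent.Lib.Helper2FlatOver
import Groth.Agent.Lib.Helper2FPAff

/-!
# Sections of the sheaf Hom out of a finitely presented module (seat 77)

`exists_section`: for a quasi-coherent `F` whose sections over an affine open `U` have a finite presentation
`A^m → A^n → Γ(F,U) → 0`, every `O_{X,x}`-linear map `F_x → G_x` (`x ∈ U`, `G` any `O_X`-module) is the value at `x`
of a section of `RefHull.homSh F G` over a neighbourhood of `x`.
`evalStalk_surjective`: hence `RefHull.evalStalk F G x` is surjective for `F` of finite presentation.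
-/

set_option autoImplicit false
set_option linter.style.haveILetI false
universe u
open CategoryTheory CategoryTheory.Limits AlgebraicGeometry TopologicalSpace Opposite

namespace Groth.Agent.Lib.Seat77.HomFP

section Algebra

/-- extending a map defined on generators of a presented module to its localization. -/
theorem exists_linearMap_of_presentation {A A' N N' P : Type*} [CommRing A] [CommRing A'] [Algebra A A']
    (S : Submonoid A) [IsLocalization S A'] [AddCommGroup N] [Module A N] [AddCommGroup N'] [Module A N']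
    [Module A' N'] [IsScalarTower A A' N'] (ℓ : N →ₗ[A] N') [IsLocalizedModule S ℓ]
    [AddCommGroup P] [Module A P] [Module A' P] [IsScalarTower A A' P]
    {n m : ℕ} (f : (Fin n → A) →ₗ[A] N)
    (g : (Fin m → A) →ₗ[A] (Fin n → A)) (hf : Function.Surjective f) (hfg : Function.Exact g f)
    (p : Fin n → P) (hp : ∀ k, ∑ i, (g (Pi.single k 1) i) • p i = 0) :
    ∃ h : N' →ₗ[A'] P, ∀ i, h (ℓ (f (Pi.single i 1))) = p i := by
  let Φ : (Fin n → A) →ₗ[A] P := Fintype.linearCombination A p
  have hΦg : Φ ∘ₗ g = 0 := by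
    apply LinearMap.pi_ext'
    intro k
    ext
    simpa [Φ, Fintype.linearCombination_apply] using hp k
  have hker : LinearMap.ker f ≤ LinearMap.ker Φ := by
    intro c hc
    obtain ⟨d, rfl⟩ := (hfg c).1 hc
    exact LinearMap.congr_fun hΦg d
  let ψ : N →ₗ[A] P := (LinearMap.ker f).liftQ Φ hker ∘ₗ (f.quotKerEquivOfSurjective hf).symm.toLinearMap
  have hψ : ∀ c, ψ (f c) = Φ c := by
    intro c
    have : (f.quotKerEquivOfSurjective hf).symm (f c) = Submodule.Quotient.mk c := by
      rw [LinearEquiv.symm_apply_eq]; rfl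
    simp [ψ, this]
  have hunits : ∀ s : S, IsUnit (algebraMap A (Module.End A P) s) := by
    intro s
    obtain ⟨u, hu⟩ := IsLocalization.map_units A' s
    rw [Module.End.isUnit_iff]
    constructor
    · intro a b hab
      have hab' : (s : A) • a = (s : A) • b := hab
      rw [← algebraMap_smul A', ← algebraMap_smul A' (s : A) b, ← hu] at hab'
      have h3 := congrArg (fun z => ((u⁻¹ : A'ˣ) : A') • z) hab'
      simp only [smul_smul, Units.inv_mul, one_smul] at h3
      exact h3
    · intro a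
      refine ⟨((u⁻¹ : A'ˣ) : A') • a, ?_⟩
      change (s : A) • (((u⁻¹ : A'ˣ) : A') • a) = a
      rw [← algebraMap_smul A', ← hu, smul_smul, Units.mul_inv, one_smul]
  let h₀ : N' →ₗ[A] P := IsLocalizedModule.lift S ℓ ψ hunits
  refine ⟨h₀.extendScalarsOfIsLocalization S A', fun i => ?_⟩
  rw [LinearMap.extendScalarsOfIsLocalization_apply', IsLocalizedModule.lift_apply, hψ]
  simp [Φ, Fintype.linearCombination_apply]

theorem span_eq_top_of_surjective {A A' N N' : Type*} [CommRing A] [CommRing A'] [Algebra A A']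
    (S : Submonoid A) [IsLocalization S A'] [AddCommGroup N] [Module A N] [AddCommGroup N'] [Module A N']
    [Module A' N'] [IsScalarTower A A' N'] (ℓ : N →ₗ[A] N') [IsLocalizedModule S ℓ]
    {n : ℕ} (f : (Fin n → A) →ₗ[A] N) (hf : Function.Surjective f) :
    Submodule.span A' (Set.range fun i => ℓ (f (Pi.single i 1))) = ⊤ := by
  have h1 : Submodule.span A (Set.range fun i => f (Pi.single i (1 : A))) = ⊤ := by
    have h2 := (Pi.basisFun A (Fin n)).span_eq
    have h3 : (Set.range fun i => f (Pi.single i (1 : A))) = f '' (Set.range (Pi.basisFun A (Fin n))) := by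
      rw [← Set.range_comp]
      congr 1
      funext i
      simp
    rw [h3, ← Submodule.map_span, h2, Submodule.map_top, LinearMap.range_eq_top.2 hf]
  have h4 := Submodule.localized'_span A' S ℓ (Set.range fun i => f (Pi.single i (1 : A)))
  rw [h1, Submodule.localized'_top, ← Set.range_comp] at h4
  exact h4.symm

end Algebra

open Groth.Agent.Lib.Helper2.FlatOver RefHull

variable {X : Scheme.{u}}

section Common

/-- finitely many germs at `x` are represented on a common neighbourhood. -/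
theorem exists_common_nhd {ι : Type*} [Finite ι] (G : X.Modules) (x : X) (v : ι → G.presheaf.stalk x)
    (U : X.Opens) (hx : x ∈ U) :
    ∃ (W : X.Opens) (hxW : x ∈ W) (_ : W ≤ U) (t : ι → Γ(G, W)), ∀ i, G.presheaf.germ W x hxW (t i) = v i := by
  have h1 : ∀ i, ∃ (W : X.Opens) (hxW : x ∈ W) (t : Γ(G, W)), G.presheaf.germ W x hxW t = v i :=
    fun i => TopCat.Presheaf.exists_germ_eq G.presheaf (v i)
  choose W hxW t ht using h1
  have hxI : x ∈ (⨅ i, W i) ⊓ U := by
    refine ⟨?_, hx⟩
    rw [Opens.coe_iInf]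
    exact Set.mem_iInter.2 hxW
  refine ⟨(⨅ i, W i) ⊓ U, hxI, inf_le_right, fun i =>
    G.presheaf.map (homOfLE (inf_le_left.trans (iInf_le W i))).op (t i), fun i => ?_⟩
  rw [TopCat.Presheaf.germ_res_apply, ht]

/-- finitely many germs of functions at `x` are represented on a common neighbourhood. -/
theorem exists_common_nhd_ring {ι : Type*} [Finite ι] (x : X) (v : ι → X.presheaf.stalk x)
    (U : X.Opens) (hx : x ∈ U) :
    ∃ (W : X.Opens) (hxW : x ∈ W) (_ : W ≤ U) (t : ι → Γ(X, W)), ∀ i, X.presheaf.germ W x hxW (t i) = v i := by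
  have h1 : ∀ i, ∃ (W : X.Opens) (hxW : x ∈ W) (t : Γ(X, W)), X.presheaf.germ W x hxW t = v i :=
    fun i => TopCat.Presheaf.exists_germ_eq X.presheaf (v i)
  choose W hxW t ht using h1
  have hxI : x ∈ (⨅ i, W i) ⊓ U := by
    refine ⟨?_, hx⟩
    rw [Opens.coe_iInf]
    exact Set.mem_iInter.2 hxW
  refine ⟨(⨅ i, W i) ⊓ U, hxI, inf_le_right, fun i =>
    X.presheaf.map (homOfLE (inf_le_left.trans (iInf_le W i))).op (t i), fun i => ?_⟩
  rw [TopCat.Presheaf.germ_res_apply, ht]

/-- finitely many sections with vanishing germ at `x` vanish on a common neighbourhood. -/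
theorem exists_common_nhd_eq_zero {ι : Type*} [Finite ι] (G : X.Modules) (x : X) {U : X.Opens}
    (hx : x ∈ U) (e : ι → Γ(G, U)) (he : ∀ i, G.presheaf.germ U x hx (e i) = 0) :
    ∃ (W : X.Opens) (_ : x ∈ W) (hW : W ≤ U), ∀ i, G.presheaf.map (homOfLE hW).op (e i) = 0 := by
  have h1 : ∀ i, ∃ (W : X.Opens) (_ : x ∈ W) (hW : W ≤ U), G.presheaf.map (homOfLE hW).op (e i) = 0 := by
    intro i
    have h2 : G.presheaf.germ U x hx (e i) = G.presheaf.germ U x hx 0 := by rw [he, map_zero]
    obtain ⟨W, hxW, iW, iW', hW⟩ := TopCat.Presheaf.germ_eq G.presheaf x hx hx (e i) 0 h2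
    rw [map_zero] at hW
    exact ⟨W, hxW, iW.le, hW⟩
  choose W hxW hWU hW using h1
  have hxI : x ∈ (⨅ i, W i) ⊓ U := by
    refine ⟨?_, hx⟩
    rw [Opens.coe_iInf]
    exact Set.mem_iInter.2 hxW
  refine ⟨(⨅ i, W i) ⊓ U, hxI, inf_le_right, fun i => ?_⟩
  have h3 : homOfLE (inf_le_right : (⨅ i, W i) ⊓ U ≤ U) =
      homOfLE (inf_le_left.trans (iInf_le W i)) ≫ homOfLE (hWU i) := rfl
  rw [h3, op_comp, Functor.map_comp, ConcreteCategory.comp_apply, hW, map_zero]

/-- germ of a finite combination of sections -/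
theorem germ_sum_smul (G : X.Modules) {ι : Type*} [Fintype ι] {W : X.Opens} (y : X) (hy : y ∈ W)
    (c : ι → Γ(X, W)) (t : ι → Γ(G, W)) :
    G.presheaf.germ W y hy (∑ i, c i • t i) =
      ∑ i, X.presheaf.germ W y hy (c i) • G.presheaf.germ W y hy (t i) := by
  rw [map_sum]
  exact Finset.sum_congr rfl fun i _ => Mero.germ_smul G W y hy (c i) (t i)

end Common

section Geom

variable (F G : X.Modules) [F.IsQuasicoherent] {U : X.Opens} (hU : IsAffineOpen U)
  {n m : ℕ} (f : (Fin n → Γ(X, U)) →ₗ[Γ(X, U)] Γ(F, U))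
  (g : (Fin m → Γ(X, U)) →ₗ[Γ(X, U)] (Fin n → Γ(X, U))) (hf : Function.Surjective f)
  (hfg : Function.Exact g f)

include hU hf hfg in
theorem exists_stalkHom (y : X) (hy : y ∈ U) (p : Fin n → G.presheaf.stalk y)
    (hp : ∀ k, ∑ i, X.presheaf.germ U y hy (g (Pi.single k 1) i) • p i = 0) :
    ∃ h : StalkHom F G y, ∀ i, h (F.presheaf.germ U y hy (f (Pi.single i 1))) = p i := by
  letI := X.presheaf.algebra_section_stalk ⟨y, hy⟩
  haveI := hU.isLocalization_stalk ⟨y, hy⟩
  letI := moduleStalkSections F U y hy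
  letI := moduleStalkSections G U y hy
  haveI : IsScalarTower Γ(X, U) (X.presheaf.stalk y) (F.presheaf.stalk y) :=
    ⟨fun a b z => by
      change (X.presheaf.germ U y hy a * b) • z = X.presheaf.germ U y hy a • (b • z)
      rw [mul_smul]⟩
  haveI : IsScalarTower Γ(X, U) (X.presheaf.stalk y) (G.presheaf.stalk y) :=
    ⟨fun a b z => by
      change (X.presheaf.germ U y hy a * b) • z = X.presheaf.germ U y hy a • (b • z)
      rw [mul_smul]⟩
  haveI := isLocalizedModule_germ hU F y hy
  exact exists_linearMap_of_presentation (hU.primeIdealOf ⟨y, hy⟩).asIdeal.primeCompl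
    (germₗ F U y hy) f g hf hfg p hp

include hU hf in
theorem span_germ_eq_top (y : X) (hy : y ∈ U) :
    Submodule.span (X.presheaf.stalk y)
      (Set.range fun i => F.presheaf.germ U y hy (f (Pi.single i 1))) = ⊤ := by
  letI := X.presheaf.algebra_section_stalk ⟨y, hy⟩
  haveI := hU.isLocalization_stalk ⟨y, hy⟩
  letI := moduleStalkSections F U y hy
  haveI : IsScalarTower Γ(X, U) (X.presheaf.stalk y) (F.presheaf.stalk y) :=
    ⟨fun a b z => by
      change (X.presheaf.germ U y hy a * b) • z = X.presheaf.germ U y hy a • (b • z)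
      rw [mul_smul]⟩
  haveI := isLocalizedModule_germ hU F y hy
  exact span_eq_top_of_surjective (hU.primeIdealOf ⟨y, hy⟩).asIdeal.primeCompl
    (germₗ F U y hy) f hf

include hU hf hfg in
theorem exists_section (x : X) (hx : x ∈ U) (φ : StalkHom F G x) :
    ∃ (W : X.Opens) (hxW : x ∈ W) (s : Γ(homSh F G, W)), s.1 ⟨x, hxW⟩ = φ := by
  set sgen : Fin n → Γ(F, U) := fun i => f (Pi.single i 1) with hsgen
  have hrel : ∀ k, ∑ i, g (Pi.single k 1) i • sgen i = 0 := by
    intro k
    have h1 : f (g (Pi.single k 1)) = 0 := hfg.apply_apply_eq_zero _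
    rw [← h1]
    conv_rhs => rw [pi_eq_sum_univ (g (Pi.single k 1)), map_sum]
    refine Finset.sum_congr rfl fun i _ => ?_
    rw [hsgen, ← map_smul]
    congr 1
    ext j
    simp [Pi.single_apply, eq_comm]
  -- step 1: representatives `t i` on `W₁ ≤ U`
  obtain ⟨W₁, hxW₁, hW₁U, t, ht⟩ :=
    exists_common_nhd G x (fun i => φ (F.presheaf.germ U x hx (sgen i))) U hx
  let e : Fin m → Γ(G, W₁) := fun k =>
    ∑ i, X.presheaf.map (homOfLE hW₁U).op (g (Pi.single k 1) i) • t i
  have hgerm : ∀ (k : Fin m) (y : X) (hy : y ∈ W₁), G.presheaf.germ W₁ y hy (e k) =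
      ∑ i, X.presheaf.germ U y (hW₁U hy) (g (Pi.single k 1) i) • G.presheaf.germ W₁ y hy (t i) := by
    intro k y hy
    rw [germ_sum_smul]
    refine Finset.sum_congr rfl fun i _ => ?_
    rw [TopCat.Presheaf.germ_res_apply]
  have he : ∀ k, G.presheaf.germ W₁ x hxW₁ (e k) = 0 := by
    intro k
    rw [hgerm]
    simp only [ht]
    simp only [← map_smul]
    rw [← map_sum, ← germ_sum_smul, hrel, map_zero, map_zero]
  obtain ⟨W, hxW, hWW₁, hW⟩ := exists_common_nhd_eq_zero G x hxW₁ e he
  -- step 2: the family of stalk maps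
  have hfam : ∀ y : W, ∃ h : StalkHom F G y.1, ∀ i,
      h (F.presheaf.germ U y.1 (hW₁U (hWW₁ y.2)) (sgen i)) = G.presheaf.germ W₁ y.1 (hWW₁ y.2) (t i) := by
    intro y
    apply exists_stalkHom F G hU f g hf hfg y.1 (hW₁U (hWW₁ y.2))
    intro k
    rw [← hgerm k y.1 (hWW₁ y.2), ← TopCat.Presheaf.germ_res_apply G.presheaf (homOfLE hWW₁) y.1 y.2,
      hW, map_zero]
  choose fam hfam using hfam
  -- step 3: the family is a section of the sheaf Hom
  have hloc : IsLocSect F G fam := by
    intro V i mm x'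
    have hx'U : x'.1 ∈ U := hW₁U (hWW₁ (i.le x'.2))
    have hmem : F.presheaf.germ V x'.1 x'.2 mm ∈ Submodule.span (X.presheaf.stalk x'.1)
        (Set.range fun i => F.presheaf.germ U x'.1 hx'U (sgen i)) := by
      rw [span_germ_eq_top F hU f hf x'.1 hx'U]; trivial
    obtain ⟨γ, hγ⟩ := (Submodule.mem_span_range_iff_exists_fun _).1 hmem
    obtain ⟨W₀, hx'W₀, hW₀V, c, hc⟩ := exists_common_nhd_ring x'.1 γ V x'.2
    have hW₀W₁ : W₀ ≤ W₁ := hW₀V.trans (i.le.trans hWW₁)
    let m₁ : Γ(F, W₀) := ∑ i, c i • F.presheaf.map (homOfLE (hW₀W₁.trans hW₁U)).op (sgen i)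
    let n₁ : Γ(G, W₀) := ∑ i, c i • G.presheaf.map (homOfLE hW₀W₁).op (t i)
    have hstar : ∀ (y : X) (hy : y ∈ W₀), fam ⟨y, i.le (hW₀V hy)⟩ (F.presheaf.germ W₀ y hy m₁) =
        G.presheaf.germ W₀ y hy n₁ := by
      intro y hy
      rw [germ_sum_smul, germ_sum_smul, map_sum]
      refine Finset.sum_congr rfl fun j _ => ?_
      rw [map_smul, TopCat.Presheaf.germ_res_apply, TopCat.Presheaf.germ_res_apply]
      congr 1
      exact hfam ⟨y, i.le (hW₀V hy)⟩ j
    have hgm : F.presheaf.germ W₀ x'.1 hx'W₀ (F.presheaf.map (homOfLE hW₀V).op mm) =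
        F.presheaf.germ W₀ x'.1 hx'W₀ m₁ := by
      rw [TopCat.Presheaf.germ_res_apply, germ_sum_smul, ← hγ]
      refine Finset.sum_congr rfl fun j _ => ?_
      rw [hc, TopCat.Presheaf.germ_res_apply]
    obtain ⟨W', hx'W', iW, iW', hW'⟩ := TopCat.Presheaf.germ_eq F.presheaf x'.1 hx'W₀ hx'W₀ _ _ hgm
    refine ⟨W', hx'W', iW ≫ homOfLE hW₀V, G.presheaf.map iW.op n₁, fun y => ?_⟩
    have h1 : F.presheaf.germ V y.1 ((iW ≫ homOfLE hW₀V).le y.2) mm =
        F.presheaf.germ W₀ y.1 (iW.le y.2) m₁ := by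
      rw [← TopCat.Presheaf.germ_res_apply F.presheaf (homOfLE hW₀V) y.1 (iW.le y.2) mm,
        ← TopCat.Presheaf.germ_res_apply F.presheaf iW y.1 y.2, hW',
        TopCat.Presheaf.germ_res_apply F.presheaf iW' y.1 y.2]
    rw [h1, TopCat.Presheaf.germ_res_apply]
    exact hstar y.1 (iW.le y.2)
  refine ⟨W, hxW, ⟨fam, hloc⟩, ?_⟩
  apply LinearMap.ext_on (span_germ_eq_top F hU f hf x hx)
  rintro _ ⟨i, rfl⟩
  exact (hfam ⟨x, hxW⟩ i).trans (ht i)

end Geom

/-- for `F` of finite presentation, every linear map on stalks at `x` is the value of a local section of the sheaf Hom. -/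
theorem evalStalk_surjective (F G : X.Modules) (hF : CohB1.IsFP F) (x : X) :
    Function.Surjective (evalStalk F G x) := by
  intro φ
  haveI : SheafOfModules.IsFinitePresentation (R := X.ringCatSheaf) F := hF
  haveI : F.IsQuasicoherent := inferInstance
  obtain ⟨U, hU, hxU, -⟩ := exists_isAffineOpen_mem_and_subset (x := x) (U := ⊤) trivial
  haveI : Module.FinitePresentation Γ(X, U) Γ(F, U) :=
    Groth.Agent.Lib.Helper2.FPAff.finitePresentation_sections F hU
  obtain ⟨n, m, f, g, hf, hfg⟩ := Module.FinitePresentation.exists_fin' Γ(X, U) Γ(F, U)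
  obtain ⟨W, hxW, s, hs⟩ := exists_section F G hU f g hf hfg x hxU φ
  exact ⟨(homSh F G).presheaf.germ W x hxW s, by rw [evalStalk_germ, hs]⟩

end Groth.Agent.Lib.Seat77.HomFP
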