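import Groth.Prelude.Def_RefHull
import Groth.Agent.Lib.Seat75SecOrd
import Groth.Agent.Lib.Seat77HomFP
import Groth.Agent.Lib.Helper23FinType2
import Groth.Agent.Lib.Helper23QCohLocal
import Groth.Agent.Lib.Helper23FinPres

/-!
# Coherence of the sheaf Hom (helper75)

* `homApp s m`: the section of `G` obtained by applying a section `s` of `𝓗om(F, G)` over `W` to a
  section `m` of `F` over `W`; characterized by `germ_homApp`.
* `isLocSect_of_generators`: a family of stalk maps which maps the germs of finitely many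
  generating sections to the germs of sections is a section of the sheaf Hom.
* `isLocOn_homSh`: for `F` quasi-coherent of finite presentation and `G` quasi-coherent the sheaf
  Hom localizes on affine opens, hence `isQuasicoherent_homSh`.
* `isFiniteType_homSh`, `isCoh_homSh`: on a locally Noetherian scheme the sheaf Hom of coherent
  modules is coherent.
-/

set_option autoImplicit false
set_option linter.style.haveILetI false
set_option linter.unusedSectionVars false
universe u

open AlgebraicGeometry CategoryTheory TopologicalSpace Opposite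

namespace Groth.Agent.Lib.Seat75.HomCoh

open Groth.Agent.Lib.Helper6 Groth.Agent.Lib.Seat75.SecOrd RefHull

variable {X : Scheme.{u}} (F G : X.Modules)

/-! ### applying a section of the sheaf Hom to a section -/

theorem exists_homApp {W : X.Opens} (s : Γ(homSh F G, W)) (m : Γ(F, W)) :
    ∃ n : Γ(G, W), ∀ (y : X) (hy : y ∈ W),
      G.presheaf.germ W y hy n = s.1 ⟨y, hy⟩ (F.presheaf.germ W y hy m) := by
  have hex : ∀ x : W, ∃ (Wx : X.Opens) (_ : x.1 ∈ Wx) (hWx : Wx ≤ W) (n : Γ(G, Wx)),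
      ∀ (y : X) (hy : y ∈ Wx), s.1 ⟨y, hWx hy⟩ (F.presheaf.germ W y (hWx hy) m) =
        G.presheaf.germ Wx y hy n := by
    intro x
    obtain ⟨Wx, hx, j, n, hn⟩ := isLocSect_of_mem s W (𝟙 W) m x
    exact ⟨Wx, hx, j.le, n, fun y hy => hn ⟨y, hy⟩⟩
  choose Wx hxWx hWx n hn using hex
  have hcompat : TopCat.Presheaf.IsCompatible (modSheaf G).1 (fun x : W => Wx x) n := by
    intro x x'
    refine TopCat.Presheaf.section_ext (modSheaf G) (Wx x ⊓ Wx x') _ _ (fun y hy => ?_)
    change G.presheaf.germ (Wx x ⊓ Wx x') y hy (res G inf_le_left (n x)) =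
      G.presheaf.germ (Wx x ⊓ Wx x') y hy (res G inf_le_right (n x'))
    rw [TopCat.Presheaf.germ_res_apply G.presheaf (homOfLE (inf_le_left : Wx x ⊓ Wx x' ≤ Wx x)) y hy,
      TopCat.Presheaf.germ_res_apply G.presheaf (homOfLE (inf_le_right : Wx x ⊓ Wx x' ≤ Wx x')) y hy,
      ← hn x y hy.1, ← hn x' y hy.2]
  have hcov : W ≤ ⨆ x : W, Wx x := fun z hz => Opens.mem_iSup.2 ⟨⟨z, hz⟩, hxWx ⟨z, hz⟩⟩
  obtain ⟨n₀, hn₀, -⟩ := (modSheaf G).existsUnique_gluing' (fun x : W => Wx x) W
    (fun x => homOfLE (hWx x)) hcov n hcompat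
  refine ⟨n₀, fun y hy => ?_⟩
  have h1 : res G (hWx ⟨y, hy⟩) n₀ = n ⟨y, hy⟩ := hn₀ ⟨y, hy⟩
  rw [← TopCat.Presheaf.germ_res_apply G.presheaf (homOfLE (hWx ⟨y, hy⟩)) y (hxWx ⟨y, hy⟩) n₀]
  change G.presheaf.germ _ y _ (res G (hWx ⟨y, hy⟩) n₀) = _
  rw [h1, ← hn ⟨y, hy⟩ y (hxWx ⟨y, hy⟩)]

/-- the value of a section of the sheaf Hom on a section. -/
noncomputable def homApp {W : X.Opens} (s : Γ(homSh F G, W)) (m : Γ(F, W)) : Γ(G, W) :=
  Classical.choose (exists_homApp F G s m)

variable {F G}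

theorem germ_homApp {W : X.Opens} (s : Γ(homSh F G, W)) (m : Γ(F, W)) (y : X) (hy : y ∈ W) :
    G.presheaf.germ W y hy (homApp F G s m) = s.1 ⟨y, hy⟩ (F.presheaf.germ W y hy m) :=
  Classical.choose_spec (exists_homApp F G s m) y hy

theorem eq_of_germ_eq (M : X.Modules) {W : X.Opens} (a b : Γ(M, W))
    (h : ∀ (y : X) (hy : y ∈ W), M.presheaf.germ W y hy a = M.presheaf.germ W y hy b) : a = b :=
  TopCat.Presheaf.section_ext (modSheaf M) W a b h

theorem res_homApp {W W' : X.Opens} (h : W' ≤ W) (s : Γ(homSh F G, W)) (m : Γ(F, W)) :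
    res G h (homApp F G s m) = homApp F G (res (homSh F G) h s) (res F h m) := by
  refine eq_of_germ_eq G _ _ (fun y hy => ?_)
  rw [TopCat.Presheaf.germ_res_apply G.presheaf (homOfLE h) y hy, germ_homApp, germ_homApp,
    TopCat.Presheaf.germ_res_apply F.presheaf (homOfLE h) y hy]
  rfl

theorem homApp_smul_right {W : X.Opens} (s : Γ(homSh F G, W)) (r : Γ(X, W)) (m : Γ(F, W)) :
    homApp F G s (r • m) = r • homApp F G s m := by
  refine eq_of_germ_eq G _ _ (fun y hy => ?_)
  rw [germ_homApp, germ_smul, germ_smul, map_smul, germ_homApp]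

theorem homApp_smul_left {W : X.Opens} (r : Γ(X, W)) (s : Γ(homSh F G, W)) (m : Γ(F, W)) :
    homApp F G (r • s) m = r • homApp F G s m := by
  refine eq_of_germ_eq G _ _ (fun y hy => ?_)
  rw [germ_homApp, germ_smul, germ_homApp]
  rfl

theorem homApp_add_left {W : X.Opens} (s s' : Γ(homSh F G, W)) (m : Γ(F, W)) :
    homApp F G (s + s') m = homApp F G s m + homApp F G s' m := by
  refine eq_of_germ_eq G _ _ (fun y hy => ?_)
  rw [germ_homApp, map_add, germ_homApp, germ_homApp]
  rfl

theorem homApp_sum_right {W : X.Opens} (s : Γ(homSh F G, W)) {ι : Type*} (t : Finset ι)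
    (c : ι → Γ(X, W)) (m : ι → Γ(F, W)) :
    homApp F G s (∑ i ∈ t, c i • m i) = ∑ i ∈ t, c i • homApp F G s (m i) := by
  refine eq_of_germ_eq G _ _ (fun y hy => ?_)
  rw [germ_homApp, map_sum, map_sum, map_sum]
  refine Finset.sum_congr rfl fun i _ => ?_
  rw [germ_smul, germ_smul, map_smul, germ_homApp]

theorem homApp_zero_right {W : X.Opens} (s : Γ(homSh F G, W)) : homApp F G s 0 = 0 := by
  refine eq_of_germ_eq G _ _ (fun y hy => ?_)
  rw [germ_homApp, map_zero, map_zero, map_zero]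

theorem homApp_zero_left {W : X.Opens} (m : Γ(F, W)) : homApp F G (0 : Γ(homSh F G, W)) m = 0 := by
  refine eq_of_germ_eq G _ _ (fun y hy => ?_)
  rw [germ_homApp, map_zero]
  rfl

/-! ### families of stalk maps determined on generators -/

open Groth.Agent.Lib.Seat77.HomFP in
/-- a family of stalk maps over `W` sending the germs of finitely many sections `sgen i`, which
generate all stalks over `W`, to the germs of sections `p i`, is a section of the sheaf Hom. -/
theorem isLocSect_of_generators {W : X.Opens} {ι : Type*} [Fintype ι] (sgen : ι → Γ(F, W))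
    (hspan : ∀ (y : X) (hy : y ∈ W), Submodule.span (X.presheaf.stalk y)
      (Set.range fun i => F.presheaf.germ W y hy (sgen i)) = ⊤)
    (p : ι → Γ(G, W)) (fam : ∀ y : W, StalkHom F G y.1)
    (hfam : ∀ (y : W) (i : ι), fam y (F.presheaf.germ W y.1 y.2 (sgen i)) =
      G.presheaf.germ W y.1 y.2 (p i)) :
    IsLocSect F G fam := by
  intro V i mm x'
  have hx'W : x'.1 ∈ W := i.le x'.2
  have hmem : F.presheaf.germ V x'.1 x'.2 mm ∈ Submodule.span (X.presheaf.stalk x'.1)
      (Set.range fun i => F.presheaf.germ W x'.1 hx'W (sgen i)) := by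
    rw [hspan x'.1 hx'W]; trivial
  obtain ⟨γ, hγ⟩ := (Submodule.mem_span_range_iff_exists_fun _).1 hmem
  obtain ⟨W₀, hx'W₀, hW₀V, c, hc⟩ := exists_common_nhd_ring x'.1 γ V x'.2
  have hW₀W : W₀ ≤ W := hW₀V.trans i.le
  let m₁ : Γ(F, W₀) := ∑ i, c i • res F hW₀W (sgen i)
  let n₁ : Γ(G, W₀) := ∑ i, c i • res G hW₀W (p i)
  have hstar : ∀ (y : X) (hy : y ∈ W₀), fam ⟨y, hW₀W hy⟩ (F.presheaf.germ W₀ y hy m₁) =
      G.presheaf.germ W₀ y hy n₁ := by
    intro y hy
    rw [germ_sum_smul, germ_sum_smul, map_sum]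
    refine Finset.sum_congr rfl fun j _ => ?_
    rw [map_smul, TopCat.Presheaf.germ_res_apply, TopCat.Presheaf.germ_res_apply]
    congr 1
    exact hfam ⟨y, hW₀W hy⟩ j
  have hgm : F.presheaf.germ W₀ x'.1 hx'W₀ (F.presheaf.map (homOfLE hW₀V).op mm) =
      F.presheaf.germ W₀ x'.1 hx'W₀ m₁ := by
    rw [TopCat.Presheaf.germ_res_apply, germ_sum_smul, ← hγ]
    refine Finset.sum_congr rfl fun j _ => ?_
    rw [hc, TopCat.Presheaf.germ_res_apply]
  obtain ⟨W', hx'W', iW, iW', hW'⟩ := TopCat.Presheaf.germ_eq F.presheaf x'.1 hx'W₀ hx'W₀ _ _ hgm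
  refine ⟨W', hx'W', iW ≫ homOfLE hW₀V, G.presheaf.map iW.op n₁, fun y => ?_⟩
  have h1 : F.presheaf.germ V y.1 ((iW ≫ homOfLE hW₀V).le y.2) mm =
      F.presheaf.germ W₀ y.1 (iW.le y.2) m₁ := by
    rw [← TopCat.Presheaf.germ_res_apply F.presheaf (homOfLE hW₀V) y.1 (iW.le y.2) mm,
      ← TopCat.Presheaf.germ_res_apply F.presheaf iW y.1 y.2, hW',
      TopCat.Presheaf.germ_res_apply F.presheaf iW' y.1 y.2]
  rw [h1, TopCat.Presheaf.germ_res_apply]
  exact hstar y.1 (iW.le y.2)

/-! ### the sheaf Hom localizes on affine opens -/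

section LocOn

open Groth.Agent.Lib.Seat77.HomFP Groth.Agent.Lib.Helper2.Push

variable (F G : X.Modules) [F.IsQuasicoherent] [G.IsQuasicoherent] {V : X.Opens}
  (hV : IsAffineOpen V) {n m : ℕ} (f : (Fin n → Γ(X, V)) →ₗ[Γ(X, V)] Γ(F, V))
  (g : (Fin m → Γ(X, V)) →ₗ[Γ(X, V)] (Fin n → Γ(X, V))) (hf : Function.Surjective f)
  (hfg : Function.Exact g f)

include hfg in
lemma sum_rel (k : Fin m) : ∑ i, g (Pi.single k 1) i • f (Pi.single i 1) = 0 := by
  have h1 : f (g (Pi.single k 1)) = 0 := hfg.apply_apply_eq_zero _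
  rw [← h1]
  conv_rhs => rw [pi_eq_sum_univ (g (Pi.single k 1)), map_sum]
  refine Finset.sum_congr rfl fun i _ => ?_
  rw [← map_smul]
  congr 1
  ext j
  simp [Pi.single_apply, eq_comm]

lemma pow_sum_smul_eq_zero {M : Type*} [AddCommGroup M] [Module Γ(X, V) M] {κ : Type*} [Fintype κ]
    (a : Γ(X, V)) (e : κ → ℕ) (t : κ → M) (h : ∀ k, a ^ e k • t k = 0) (k : κ) :
    a ^ (∑ j, e j) • t k = 0 := by
  have hle : e k ≤ ∑ j, e j := Finset.single_le_sum (fun _ _ => Nat.zero_le _) (Finset.mem_univ k)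
  obtain ⟨d, hd⟩ := Nat.exists_eq_add_of_le hle
  rw [hd, add_comm, pow_add, mul_smul, h k, smul_zero]

include hV hf in
theorem exists_pow_smul_eq_zero_homSh (a : Γ(X, V)) (t : Γ(homSh F G, V))
    (ht : (homSh F G).presheaf.map (homOfLE (X.basicOpen_le a)).op t = 0) :
    ∃ N : ℕ, a ^ N • t = 0 := by
  have hG := IsLocOn.of_isQuasicoherent hV G
  have hτ : ∀ i, ∃ e : ℕ, a ^ e • homApp F G t (f (Pi.single i 1)) = 0 := by
    intro i
    apply hG.exists_pow_smul_eq_zero
    change res G (X.basicOpen_le a) _ = 0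
    rw [res_homApp]
    change homApp F G ((homSh F G).presheaf.map (homOfLE (X.basicOpen_le a)).op t) _ = 0
    rw [ht, homApp_zero_left]
  choose e he using hτ
  refine ⟨∑ j, e j, ?_⟩
  apply Subtype.ext
  funext y
  change X.presheaf.germ V y.1 y.2 (a ^ ∑ j, e j) • t.1 y = 0
  apply LinearMap.ext_on (span_germ_eq_top F hV f hf y.1 y.2)
  rintro _ ⟨i, rfl⟩
  rw [LinearMap.smul_apply, LinearMap.zero_apply, ← germ_homApp, ← germ_smul,
    pow_sum_smul_eq_zero a e _ he i, map_zero]

include hV hf hfg in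
theorem exists_extension_homSh (a : Γ(X, V)) (s : Γ(homSh F G, X.basicOpen a)) :
    ∃ (N : ℕ) (t : Γ(homSh F G, V)),
      (homSh F G).presheaf.map (homOfLE (X.basicOpen_le a)).op t =
        (X.presheaf.map (homOfLE (X.basicOpen_le a)).op a) ^ N • s := by
  have hG := IsLocOn.of_isQuasicoherent hV G
  have hD : X.basicOpen a ≤ V := X.basicOpen_le a
  set ra : Γ(X, X.basicOpen a) := resf hD a with hra
  set sgen : Fin n → Γ(F, V) := fun i => f (Pi.single i 1) with hsgen
  set σ : Fin n → Γ(G, X.basicOpen a) := fun i => homApp F G s (res F hD (sgen i)) with hσ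
  -- extend the values on generators
  have hext : ∀ i, ∃ (e : ℕ) (τ : Γ(G, V)), res G hD τ = ra ^ e • σ i :=
    fun i => hG.exists_extension a (σ i)
  choose e τ hτ using hext
  set N := ∑ j, e j with hN
  have hle : ∀ i, e i ≤ N := fun i =>
    Finset.single_le_sum (fun _ _ => Nat.zero_le _) (Finset.mem_univ i)
  set τ' : Fin n → Γ(G, V) := fun i => a ^ (N - e i) • τ i with hτ'def
  have hτ' : ∀ i, res G hD (τ' i) = ra ^ N • σ i := by
    intro i
    rw [hτ'def]
    change res G hD (a ^ (N - e i) • τ i) = _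
    rw [res_smul, hτ, resf_pow, ← mul_smul, ← pow_add, Nat.sub_add_cancel (hle i)]
  -- the relations hold after multiplication by a power of `a`
  set ρ : Fin m → Γ(G, V) := fun k => ∑ i, g (Pi.single k 1) i • τ' i with hρdef
  have hρ : ∀ k, res G hD (ρ k) = 0 := by
    intro k
    rw [hρdef]
    change res G hD (∑ i, g (Pi.single k 1) i • τ' i) = 0
    rw [show res G hD (∑ i, g (Pi.single k 1) i • τ' i) =
      ∑ i, res G hD (g (Pi.single k 1) i • τ' i) from map_sum (G.presheaf.map (homOfLE hD).op).hom _ _]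
    have h1 : ∀ i, res G hD (g (Pi.single k 1) i • τ' i) =
        ra ^ N • (resf hD (g (Pi.single k 1) i) • homApp F G s (res F hD (sgen i))) := by
      intro i
      rw [res_smul, hτ', smul_comm]
    rw [Finset.sum_congr rfl (fun i _ => h1 i), ← Finset.smul_sum, ← homApp_sum_right]
    have h2 : ∑ i, resf hD (g (Pi.single k 1) i) • res F hD (sgen i) =
        res F hD (∑ i, g (Pi.single k 1) i • sgen i) := by
      rw [show res F hD (∑ i, g (Pi.single k 1) i • sgen i) =
        ∑ i, res F hD (g (Pi.single k 1) i • sgen i) from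
        map_sum (F.presheaf.map (homOfLE hD).op).hom _ _]
      exact Finset.sum_congr rfl fun i _ => (res_smul F hD _ _).symm
    rw [h2, sum_rel F f g hfg k, res_zero, homApp_zero_right, smul_zero]
  have hkill : ∀ k, ∃ d : ℕ, a ^ d • ρ k = 0 := fun k => hG.exists_pow_smul_eq_zero a (ρ k) (hρ k)
  choose d hd using hkill
  set M := ∑ k, d k with hM
  have hdM : ∀ k, a ^ M • ρ k = 0 := pow_sum_smul_eq_zero a d ρ hd
  set p : Fin n → Γ(G, V) := fun i => a ^ M • τ' i with hpdef
  have hp : ∀ (y : X) (hy : y ∈ V) (k : Fin m),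
      ∑ i, X.presheaf.germ V y hy (g (Pi.single k 1) i) • G.presheaf.germ V y hy (p i) = 0 := by
    intro y hy k
    rw [← germ_sum_smul]
    have h1 : ∑ i, g (Pi.single k 1) i • p i = a ^ M • ρ k := by
      rw [hρdef, Finset.smul_sum]
      exact Finset.sum_congr rfl fun i _ => smul_comm _ _ _
    rw [h1, hdM, map_zero]
  have hfam : ∀ y : V, ∃ h : StalkHom F G y.1, ∀ i,
      h (F.presheaf.germ V y.1 y.2 (sgen i)) = G.presheaf.germ V y.1 y.2 (p i) := fun y =>
    exists_stalkHom F G hV f g hf hfg y.1 y.2 (fun i => G.presheaf.germ V y.1 y.2 (p i))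
      (hp y.1 y.2)
  choose fam hfam using hfam
  have hloc : IsLocSect F G fam :=
    isLocSect_of_generators sgen (fun y hy => span_germ_eq_top F hV f hf y hy) p fam hfam
  refine ⟨N + M, ⟨fam, hloc⟩, ?_⟩
  apply Subtype.ext
  funext y
  change fam ⟨y.1, hD y.2⟩ = X.presheaf.germ (X.basicOpen a) y.1 y.2 (ra ^ (N + M)) • s.1 y
  apply LinearMap.ext_on (span_germ_eq_top F hV f hf y.1 (hD y.2))
  rintro _ ⟨i, rfl⟩
  rw [hfam ⟨y.1, hD y.2⟩ i, LinearMap.smul_apply]
  have h1 : G.presheaf.germ V y.1 (hD y.2) (p i) =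
      G.presheaf.germ (X.basicOpen a) y.1 y.2 (res G hD (p i)) :=
    (TopCat.Presheaf.germ_res_apply G.presheaf (homOfLE hD) y.1 y.2 (p i)).symm
  have h2 : res G hD (p i) = ra ^ (N + M) • σ i := by
    rw [hpdef]
    change res G hD (a ^ M • τ' i) = _
    rw [res_smul, hτ', resf_pow, ← mul_smul, ← pow_add, add_comm]
  rw [h1, h2, germ_smul, germ_homApp,
    TopCat.Presheaf.germ_res_apply F.presheaf (homOfLE hD) y.1 y.2 (sgen i)]

end LocOn

/-! ### coherence -/

section Coh

open Groth.Agent.Lib.Seat77.HomFP Groth.Agent.Lib.Helper2.Push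

variable (F G : X.Modules)

/-- the sheaf Hom from a finitely presented quasi-coherent module to a quasi-coherent module
localizes on affine opens. -/
theorem isLocOn_homSh [F.IsQuasicoherent] [G.IsQuasicoherent]
    [SheafOfModules.IsFinitePresentation (R := X.ringCatSheaf) F] {V : X.Opens}
    (hV : IsAffineOpen V) : IsLocOn (homSh F G) V := by
  haveI : Module.FinitePresentation Γ(X, V) Γ(F, V) :=
    Groth.Agent.Lib.Helper2.FPAff.finitePresentation_sections F hV
  obtain ⟨n, m, f, g, hf, hfg⟩ := Module.FinitePresentation.exists_fin' Γ(X, V) Γ(F, V)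
  exact ⟨fun a s => exists_extension_homSh F G hV f g hf hfg a s,
    fun a t ht => exists_pow_smul_eq_zero_homSh F G hV f hf a t ht⟩

/-- the sheaf Hom from a finitely presented quasi-coherent module to a quasi-coherent module is
quasi-coherent. -/
theorem isQuasicoherent_homSh [F.IsQuasicoherent] [G.IsQuasicoherent]
    [SheafOfModules.IsFinitePresentation (R := X.ringCatSheaf) F] :
    (homSh F G).IsQuasicoherent :=
  Groth.Agent.Lib.Helper23.QCohLocal.isQuasicoherent_of_isLocOn (homSh F G)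
    (fun _ hV => isLocOn_homSh F G hV)

/-- on a locally Noetherian scheme the sheaf Hom of coherent modules is of finite type. -/
theorem finite_sections_homSh [IsLocallyNoetherian X] [F.IsQuasicoherent] [G.IsQuasicoherent]
    [SheafOfModules.IsFiniteType (R := X.ringCatSheaf) F]
    [SheafOfModules.IsFiniteType (R := X.ringCatSheaf) G] {V : X.Opens} (hV : IsAffineOpen V) :
    Module.Finite Γ(X, V) Γ(homSh F G, V) := by
  haveI : IsNoetherianRing Γ(X, V) := IsLocallyNoetherian.component_noetherian ⟨V, hV⟩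
  haveI : Module.Finite Γ(X, V) Γ(F, V) :=
    Groth.Agent.Lib.Helper23.FinType.finite_of_isFiniteType F hV
  haveI : Module.Finite Γ(X, V) Γ(G, V) :=
    Groth.Agent.Lib.Helper23.FinType.finite_of_isFiniteType G hV
  obtain ⟨n, f, hf⟩ := Module.Finite.exists_fin' Γ(X, V) Γ(F, V)
  let Φ : Γ(homSh F G, V) →ₗ[Γ(X, V)] (Fin n → Γ(G, V)) :=
    { toFun := fun t i => homApp F G t (f (Pi.single i 1))
      map_add' := fun t t' => funext fun i => homApp_add_left t t' _
      map_smul' := fun r t => funext fun i => homApp_smul_left r t _ }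
  have hΦ : Function.Injective Φ := by
    rw [injective_iff_map_eq_zero]
    intro t ht
    apply Subtype.ext
    funext y
    change t.1 y = 0
    apply LinearMap.ext_on (span_germ_eq_top F hV f hf y.1 y.2)
    rintro _ ⟨i, rfl⟩
    rw [LinearMap.zero_apply, ← germ_homApp]
    have : homApp F G t (f (Pi.single i 1)) = 0 := congrFun ht i
    rw [this, map_zero]
  exact Module.Finite.of_injective Φ hΦ

/-- **coherence of the sheaf Hom** on a locally Noetherian scheme. -/
theorem isCoh_homSh [IsLocallyNoetherian X] (hF : Coh.IsCoh F) (hG : Coh.IsCoh G) :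
    Coh.IsCoh (homSh F G) := by
  haveI : F.IsQuasicoherent := hF.1
  haveI : SheafOfModules.IsFiniteType (R := X.ringCatSheaf) F := hF.2
  haveI : G.IsQuasicoherent := hG.1
  haveI : SheafOfModules.IsFiniteType (R := X.ringCatSheaf) G := hG.2
  haveI : SheafOfModules.IsFinitePresentation (R := X.ringCatSheaf) F :=
    Groth.Agent.Lib.Helper23.FinType.isFinitePresentation_of_isFiniteType F
  haveI := isQuasicoherent_homSh F G
  refine ⟨inferInstance, ?_⟩
  exact Groth.Agent.Lib.Helper23.FinType.isFiniteType_of_finite (homSh F G)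
    (fun V : X.affineOpens => (V : X.Opens)) (iSup_affineOpens_eq_top X) (fun V => V.2)
    (fun V => finite_sections_homSh F G V.2)

end Coh

end Groth.Agent.Lib.Seat75.HomCoh
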