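import Mathlib

/-!
# Nakayama for nilpotent ideals and a bijectivity criterion for maps into flat modules (seat 84)
-/

set_option autoImplicit false

namespace Groth.Agent.Lib.Seat84.NilNak

variable {A : Type*} [CommRing A] {M N : Type*} [AddCommGroup M] [AddCommGroup N]
  [Module A M] [Module A N]

theorem eq_top_of_sup_smul_top (I : Ideal A) (hI : IsNilpotent I) (P : Submodule A N)
    (h : P ⊔ I • (⊤ : Submodule A N) = ⊤) : P = ⊤ := by
  obtain ⟨n, hn⟩ := hI
  have key : ∀ k : ℕ, P ⊔ I ^ k • (⊤ : Submodule A N) = ⊤ := by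
    intro k
    induction k with
    | zero => simp
    | succ k ih =>
      rw [eq_top_iff]
      calc (⊤ : Submodule A N) = P ⊔ I • (⊤ : Submodule A N) := h.symm
        _ = P ⊔ I • (P ⊔ I ^ k • (⊤ : Submodule A N)) := by rw [ih]
        _ = P ⊔ (I • P ⊔ I • I ^ k • (⊤ : Submodule A N)) := by rw [Submodule.smul_sup]
        _ ≤ P ⊔ I ^ (k + 1) • (⊤ : Submodule A N) := by
          refine sup_le le_sup_left (sup_le (le_sup_of_le_left Submodule.smul_le_right) ?_)
          rw [← Submodule.mul_smul, ← pow_succ']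
          exact le_sup_right
  have := key n
  rwa [hn, Submodule.zero_eq_bot, Submodule.bot_smul, sup_bot_eq] at this

theorem eq_bot_of_le_smul (I : Ideal A) (hI : IsNilpotent I) (K : Submodule A M)
    (h : K ≤ I • K) : K = ⊥ := by
  obtain ⟨n, hn⟩ := hI
  have key : ∀ k : ℕ, K ≤ I ^ k • K := by
    intro k
    induction k with
    | zero => simp
    | succ k ih =>
      calc K ≤ I • K := h
        _ ≤ I • (I ^ k • K) := Submodule.smul_mono le_rfl ih
        _ = I ^ (k + 1) • K := by rw [← Submodule.mul_smul, ← pow_succ']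
  have := key n
  rwa [hn, Submodule.zero_eq_bot, Submodule.bot_smul, le_bot_iff] at this

/-- A linear map into a flat module over a ring with a nilpotent ideal `I` which is bijective
modulo `I` is bijective. -/
theorem bijective_of_flat (I : Ideal A) (hI : IsNilpotent I) (f : M →ₗ[A] N) [Module.Flat A N]
    (h1 : ∀ n : N, ∃ m : M, f m - n ∈ I • (⊤ : Submodule A N))
    (h2 : ∀ x : M, f x ∈ I • (⊤ : Submodule A N) → x ∈ I • (⊤ : Submodule A M)) :
    Function.Bijective f := by
  have hsurj : Function.Surjective f := by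
    rw [← LinearMap.range_eq_top]
    apply eq_top_of_sup_smul_top I hI
    rw [eq_top_iff]
    intro n _
    obtain ⟨m, hm⟩ := h1 n
    have : n = f m - (f m - n) := by abel
    rw [this]
    exact Submodule.sub_mem _ (Submodule.mem_sup_left ⟨m, rfl⟩) (Submodule.mem_sup_right hm)
  refine ⟨?_, hsurj⟩
  rw [← LinearMap.ker_eq_bot]
  apply eq_bot_of_le_smul I hI
  intro x hx
  rw [LinearMap.mem_ker] at hx
  have hx2 : x ∈ I • (⊤ : Submodule A M) := h2 x (by rw [hx]; exact Submodule.zero_mem _)
  rw [show (⊤ : Submodule A M) = Submodule.span A (Set.range (id : M → M)) by simp,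
    Submodule.mem_ideal_smul_span_iff_exists_sum] at hx2
  obtain ⟨a, ha, hsum⟩ := hx2
  -- finite index type: the support of `a`
  let ι := {i // i ∈ a.support}
  let c : ι → A := fun i => a i.1
  let m : ι → M := fun i => i.1
  have hxsum : x = ∑ i : ι, c i • m i := by
    rw [← hsum, Finsupp.sum, ← Finset.sum_coe_sort a.support]
    rfl
  have hrel : ∑ i : ι, c i • f (m i) = 0 := by
    rw [← hx, hxsum, map_sum]
    simp only [map_smul]
  obtain ⟨k', b, y, hy, hb⟩ := Module.Flat.isTrivialRelation_of_sum_smul_eq_zero hrel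
  replace hy : ∀ i : ι, f (m i) = ∑ j, b i j • y j := hy
  choose z hz using fun j => hsurj (y j)
  have hker : ∀ i, m i - ∑ j, b i j • z j ∈ LinearMap.ker f := by
    intro i
    rw [LinearMap.mem_ker, map_sub, map_sum, hy i]
    simp only [map_smul, hz, sub_self]
  have hdecomp : x = ∑ i : ι, c i • (m i - ∑ j, b i j • z j) := by
    have h0 : ∑ i : ι, c i • ∑ j, b i j • z j = 0 := by
      simp only [Finset.smul_sum, smul_smul]
      rw [Finset.sum_comm]
      apply Finset.sum_eq_zero
      intro j _
      rw [← Finset.sum_smul, hb j, zero_smul]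
    simp only [smul_sub, Finset.sum_sub_distrib]
    rw [h0, sub_zero, hxsum]
  rw [hdecomp]
  refine Submodule.sum_mem _ fun i _ => ?_
  exact Submodule.smul_mem_smul (ha i.1) (hker i)

end Groth.Agent.Lib.Seat84.NilNak
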