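import Groth.Prelude.Def_DefoSh
import Groth.Agent.Lib.Seat84NilNak

/-!
# Morphisms of deformations of a module are isomorphisms (seat 84, for S17441)
-/

set_option autoImplicit false
set_option linter.style.haveILetI false
universe u

open CategoryTheory CategoryTheory.Limits AlgebraicGeometry TopologicalSpace Opposite

namespace Groth.Agent.Lib.Seat84.DefoIso

open DefoSh

/-- a morphism of modules which is bijective on all stalks is an isomorphism. -/
theorem isIso_of_stalk_bijective {X : Scheme.{u}} {F G : X.Modules} (φ : F ⟶ G)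
    (h : ∀ x : X, Function.Bijective (RefHull.stalkMapₗ φ x)) : IsIso φ := by
  rw [Scheme.Modules.Hom.isIso_iff_isIso_app]
  intro U
  rw [ConcreteCategory.isIso_iff_bijective]
  let F' : TopCat.Sheaf AddCommGrpCat.{u} X.carrier := ⟨F.presheaf, F.isSheaf⟩
  let G' : TopCat.Sheaf AddCommGrpCat.{u} X.carrier := ⟨G.presheaf, G.isSheaf⟩
  let f' : F' ⟶ G' := ⟨Scheme.Modules.Hom.mapPresheaf φ⟩
  exact TopCat.Presheaf.app_bijective_of_stalkFunctor_map_bijective f' U (fun x _ => h x)

variable {k : Type u} [Field k] {X : Scheme.{u}} [X.Over (Spec (CommRingCat.of k))]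
  {E : X.Modules} {A : ArtFun.Art k k}

theorem isNilpotent_maximalIdeal (A : ArtFun.Art k k) :
    IsNilpotent (IsLocalRing.maximalIdeal A) := by
  rw [← IsLocalRing.jacobson_eq_maximalIdeal (⊥ : Ideal A) bot_ne_top]
  exact IsArtinianRing.isNilpotent_jacobson_bot

/-- the reduction kills `m_A · stalk`. -/
theorem stalkMap_π_eq_zero (D : Defo E A) (p : X) (v : ↑(D.sheaf.presheaf.stalk p))
    (hv : letI := D.stalkMod p
      v ∈ IsLocalRing.maximalIdeal A • (⊤ : Submodule A ↑(D.sheaf.presheaf.stalk p))) :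
    RefHull.stalkMapₗ D.π p v = 0 := by
  letI := D.stalkMod p
  refine Submodule.smul_induction_on hv (fun a ha w _ => ?_) (fun x y hx hy => ?_)
  · change RefHull.stalkMapₗ D.π p (RefHull.stalkMapₗ (D.act a) p w) = 0
    rw [← stalkMapₗ_comp_apply, D.act_π a ((ArtFun.Art.mem_maximalIdeal_iff A a).1 ha),
      stalkMapₗ_zero_apply]
  · rw [map_add, hx, hy, add_zero]

theorem stalk_bijective (D D' : Defo E A) (φ : D.sheaf ⟶ D'.sheaf)
    (hact : ∀ a : A, D.act a ≫ φ = φ ≫ D'.act a) (hπ : φ ≫ D'.π = D.π) (p : X) :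
    Function.Bijective (RefHull.stalkMapₗ φ p) := by
  letI := D.stalkMod p
  letI := D'.stalkMod p
  haveI : Module.Flat A ↑(D'.sheaf.presheaf.stalk p) := D'.flat p
  let f : ↑(D.sheaf.presheaf.stalk p) →ₗ[A] ↑(D'.sheaf.presheaf.stalk p) :=
    { toFun := RefHull.stalkMapₗ φ p
      map_add' := map_add _
      map_smul' := fun a v => by
        change RefHull.stalkMapₗ φ p (RefHull.stalkMapₗ (D.act a) p v) =
          RefHull.stalkMapₗ (D'.act a) p (RefHull.stalkMapₗ φ p v)
        rw [← stalkMapₗ_comp_apply, ← stalkMapₗ_comp_apply, hact a] }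
  have hπ' : ∀ v, RefHull.stalkMapₗ D'.π p (f v) = RefHull.stalkMapₗ D.π p v := fun v => by
    change RefHull.stalkMapₗ D'.π p (RefHull.stalkMapₗ φ p v) = _
    rw [← stalkMapₗ_comp_apply, hπ]
  have hbij : Function.Bijective f := by
    apply Groth.Agent.Lib.Seat84.NilNak.bijective_of_flat (IsLocalRing.maximalIdeal A)
      (isNilpotent_maximalIdeal A) f
    · intro n
      obtain ⟨x, hx⟩ := D.surj p (RefHull.stalkMapₗ D'.π p n)
      refine ⟨x, D'.ker_le p _ ?_⟩
      rw [map_sub, hπ', hx, sub_self]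
    · intro x hx
      apply D.ker_le p x
      rw [← hπ']
      exact stalkMap_π_eq_zero D' p _ hx
  exact hbij

theorem isIso_of_hom (D D' : Defo E A) (φ : D.sheaf ⟶ D'.sheaf)
    (hact : ∀ a : A, D.act a ≫ φ = φ ≫ D'.act a) (hπ : φ ≫ D'.π = D.π) : IsIso φ :=
  isIso_of_stalk_bijective φ (stalk_bijective D D' φ hact hπ)

end Groth.Agent.Lib.Seat84.DefoIso
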