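import Mathlib
import Groth.Prelude.Def_DefoConn
import Groth.Prelude.Def_DefoSh2
import Groth.Agent.Lib.Seat84DefoIso
import Groth.Agent.Lib.Seat84DefoConn

/-!
# Seat84: the exact sequence `0 → E → D → E → 0` of a first-order deformation, and
horizontality as an identity of morphisms of abelian sheaves
-/

set_option autoImplicit false
set_option linter.style.haveILetI false
universe u

open CategoryTheory CategoryTheory.Limits AlgebraicGeometry TopologicalSpace Opposite

namespace Groth.Agent.Lib.Seat84.DefoExact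

open DefoSh

section Abstract

variable {𝒜 : Type*} [Category 𝒜] {d e dΩ eΩ : 𝒜}

theorem abstract_ι_horizontal (p : d ⟶ e) (i : e ⟶ d) (P : dΩ ⟶ eΩ) (I : eΩ ⟶ dΩ)
    (ε : d ⟶ d) (εΩ : dΩ ⟶ dΩ) (c : d ⟶ dΩ) (n : e ⟶ eΩ) [Epi p]
    (h1 : p ≫ i = ε) (h2 : P ≫ I = εΩ) (h3 : ε ≫ c = c ≫ εΩ) (h4 : p ≫ n = c ≫ P) :
    i ≫ c = n ≫ I := by
  rw [← cancel_epi p, ← Category.assoc, h1, h3, ← h2, ← Category.assoc, ← h4, Category.assoc]

variable [Preadditive 𝒜]

theorem abstract_key (p : d ⟶ e) (i : e ⟶ d) (s : e ⟶ e) (P : dΩ ⟶ eΩ) (I : eΩ ⟶ dΩ)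
    (Sg : eΩ ⟶ eΩ) (c c' : d ⟶ dΩ) (n : e ⟶ eΩ)
    (h1 : i ≫ c' = n ≫ I) (h2 : p ≫ n = c ≫ P) :
    ((𝟙 d + p ≫ s ≫ i) ≫ c' = c ≫ (𝟙 dΩ + P ≫ Sg ≫ I)) ↔
      c' - c = p ≫ (n ≫ Sg - s ≫ n) ≫ I := by
  have e1 : (𝟙 d + p ≫ s ≫ i) ≫ c' = c' + p ≫ s ≫ n ≫ I := by
    rw [Preadditive.add_comp, Category.id_comp, Category.assoc, Category.assoc, h1]
  have e2 : c ≫ (𝟙 dΩ + P ≫ Sg ≫ I) = c + p ≫ n ≫ Sg ≫ I := by
    rw [Preadditive.comp_add, Category.comp_id, ← Category.assoc, ← h2, Category.assoc]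
  have e3 : p ≫ (n ≫ Sg - s ≫ n) ≫ I = p ≫ n ≫ Sg ≫ I - p ≫ s ≫ n ≫ I := by
    rw [Preadditive.sub_comp, Preadditive.comp_sub, Category.assoc, Category.assoc]
  rw [e1, e2, e3, sub_eq_sub_iff_add_eq_add, add_comm (p ≫ n ≫ Sg ≫ I) c]

end Abstract

variable {X : Scheme.{u}}

section Stalks

/-- a monomorphism of modules is injective on sections. -/
theorem app_injective_of_mono {F G : X.Modules} (φ : F ⟶ G) [Mono φ] (U : X.Opens) :
    Function.Injective (φ.mapPresheaf.app (op U)) := by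
  have h2 : Mono ((Scheme.Modules.toPresheaf X).map φ) := inferInstance
  have h3 : Mono (((Scheme.Modules.toPresheaf X).map φ).app (op U)) := inferInstance
  exact (AddCommGrpCat.mono_iff_injective _).1 h3

/-- a monomorphism of modules is injective on stalks. -/
theorem stalkMapₗ_injective_of_mono {F G : X.Modules} (φ : F ⟶ G) [Mono φ] (x : X) :
    Function.Injective (RefHull.stalkMapₗ φ x) :=
  TopCat.Presheaf.stalkFunctor_map_injective_of_app_injective
    (fun U => app_injective_of_mono φ U) x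

/-- a morphism of modules vanishing on all stalks vanishes. -/
theorem eq_zero_of_stalkMapₗ {F G : X.Modules} (φ : F ⟶ G)
    (h : ∀ (x : X) (v : ↑(F.presheaf.stalk x)), RefHull.stalkMapₗ φ x v = 0) : φ = 0 := by
  apply Scheme.Modules.hom_ext
  intro U
  ext m
  let G' : TopCat.Sheaf AddCommGrpCat.{u} X.carrier := ⟨G.presheaf, G.isSheaf⟩
  refine TopCat.Presheaf.section_ext G' U _ _ (fun y hy => ?_)
  have h1 := h y (F.presheaf.germ U y hy m)
  rw [RefHull.stalkMapₗ_germ] at h1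
  exact h1.trans (map_zero _).symm

/-- a morphism of modules which is surjective on stalks is an epimorphism. -/
theorem epi_of_stalkMapₗ_surjective {F G : X.Modules} (φ : F ⟶ G)
    (h : ∀ x : X, Function.Surjective (RefHull.stalkMapₗ φ x)) : Epi φ := by
  refine Preadditive.epi_of_cancel_zero _ (fun {P} g hg => ?_)
  refine eq_zero_of_stalkMapₗ g (fun x v => ?_)
  obtain ⟨w, rfl⟩ := h x v
  rw [← stalkMapₗ_comp_apply, hg, stalkMapₗ_zero_apply]

/-- a morphism of modules which is injective on stalks is a monomorphism. -/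
theorem mono_of_stalkMapₗ_injective {F G : X.Modules} (φ : F ⟶ G)
    (h : ∀ x : X, Function.Injective (RefHull.stalkMapₗ φ x)) : Mono φ := by
  refine Preadditive.mono_of_cancel_zero _ (fun {P} g hg => ?_)
  refine eq_zero_of_stalkMapₗ g (fun x v => ?_)
  apply h x
  rw [← stalkMapₗ_comp_apply, hg, stalkMapₗ_zero_apply, map_zero]

/-- If `f ≫ g = 0`, `f` is injective on stalks and the stalk kernels of `g` lie in the stalk
images of `f`, then `f` has the universal property of the kernel of `g`. -/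
theorem exists_lift_of_stalk {A B C T : X.Modules} (f : A ⟶ B) (g : B ⟶ C) (w : f ≫ g = 0)
    (hinj : ∀ x : X, Function.Injective (RefHull.stalkMapₗ f x))
    (hex : ∀ (x : X) (v : ↑(B.presheaf.stalk x)), RefHull.stalkMapₗ g x v = 0 →
      ∃ a, RefHull.stalkMapₗ f x a = v)
    (u : T ⟶ B) (hu : u ≫ g = 0) : ∃ u' : T ⟶ A, u' ≫ f = u := by
  let f' : A ⟶ kernel g := kernel.lift g f w
  have hf' : f' ≫ kernel.ι g = f := kernel.lift_ι g f w
  haveI : IsIso f' := by
    apply Groth.Agent.Lib.Seat84.DefoIso.isIso_of_stalk_bijective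
    intro x
    constructor
    · intro a b hab
      apply hinj x
      rw [← hf', stalkMapₗ_comp_apply, stalkMapₗ_comp_apply, hab]
    · intro z
      have hz : RefHull.stalkMapₗ g x (RefHull.stalkMapₗ (kernel.ι g) x z) = 0 := by
        rw [← stalkMapₗ_comp_apply, kernel.condition, stalkMapₗ_zero_apply]
      obtain ⟨a, ha⟩ := hex x _ hz
      refine ⟨a, stalkMapₗ_injective_of_mono (kernel.ι g) x ?_⟩
      rw [← stalkMapₗ_comp_apply, hf', ha]
  refine ⟨kernel.lift g u hu ≫ inv f', ?_⟩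
  rw [← hf', Category.assoc, IsIso.inv_hom_id_assoc, kernel.lift_ι]

/-- If moreover `g` is an epimorphism, then `g` has the universal property of the cokernel of `f`. -/
theorem exists_desc_of_stalk {A B C T : X.Modules} (f : A ⟶ B) (g : B ⟶ C) (w : f ≫ g = 0)
    (hinj : ∀ x : X, Function.Injective (RefHull.stalkMapₗ f x))
    (hex : ∀ (x : X) (v : ↑(B.presheaf.stalk x)), RefHull.stalkMapₗ g x v = 0 →
      ∃ a, RefHull.stalkMapₗ f x a = v) [Epi g]
    (v : B ⟶ T) (hv : f ≫ v = 0) : ∃ v' : C ⟶ T, g ≫ v' = v := by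
  obtain ⟨k', hk'⟩ := exists_lift_of_stalk f g w hinj hex (kernel.ι g) (kernel.condition g)
  have hkv : kernel.ι g ≫ v = 0 := by rw [← hk', Category.assoc, hv, comp_zero]
  have hc := Abelian.epiIsCokernelOfKernel (limit.cone (parallelPair g 0)) (limit.isLimit _)
  refine ⟨hc.desc (CokernelCofork.ofπ v hkv), ?_⟩
  exact hc.fac (CokernelCofork.ofπ v hkv) WalkingParallelPair.one
 
end Stalks


theorem algHom_dual_apply {k B : Type*} [Field k] [Ring B] [Algebra k B]
    (ρ : DualNumber k →ₐ[k] B) (a : DualNumber k) :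
    ρ a = a.fst • (1 : B) + a.snd • ρ DualNumber.eps := by
  have ha : a = algebraMap k (DualNumber k) a.fst + a.snd • (DualNumber.eps : DualNumber k) := by
    apply TrivSqZeroExt.ext <;> simp [TrivSqZeroExt.algebraMap_eq_inl]
  conv_lhs => rw [ha]
  rw [map_add, map_smul, AlgHom.commutes, Algebra.algebraMap_eq_smul_one]

/-- In a flat module, an element killed by `r` lies in `I • ⊤` as soon as `I` contains the
annihilator of `r`. -/
theorem mem_smul_top_of_smul_eq_zero {R M : Type*} [CommRing R] [AddCommGroup M] [Module R M]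
    [Module.Flat R M] (r : R) (I : Ideal R) (hI : ∀ a : R, r * a = 0 → a ∈ I) (z : M)
    (h : r • z = 0) : z ∈ I • (⊤ : Submodule R M) := by
  have h' : ∑ i : Fin 1, (fun _ => r) i • (fun _ => z) i = 0 := by simpa using h
  obtain ⟨n, a, y, hz, ha⟩ := Module.Flat.isTrivialRelation_of_sum_smul_eq_zero h'
  have hz0 : z = ∑ j, a 0 j • y j := hz 0
  rw [hz0]
  refine Submodule.sum_mem _ (fun j _ => Submodule.smul_mem_smul (hI _ ?_) Submodule.mem_top)
  simpa using ha j

theorem eps_mul_eq_zero {k : Type*} [Field k] (a : DualNumber k)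
    (h : (DualNumber.eps : DualNumber k) * a = 0) : a.fst = 0 := by
  have := congrArg TrivSqZeroExt.snd h
  simpa using this

section FirstOrder

variable {k : Type u} [Field k] [X.Over (Spec (CommRingCat.of k))] {E : X.Modules}

theorem epi_π {A : ArtFun.Art k k} (D : Defo E A) : Epi D.π :=
  epi_of_stalkMapₗ_surjective D.π D.surj

variable (D : Defo E (ArtFun.Art.dual k k)) (ι : E ⟶ D.sheaf)
  (hι : D.π ≫ ι = D.act (DualNumber.eps : DualNumber k))

include hι

theorem ι_π : ι ≫ D.π = 0 := by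
  haveI := epi_π D
  rw [← cancel_epi D.π, ← Category.assoc, hι, comp_zero]
  exact D.act_π _ rfl

theorem act_eq (a : DualNumber k) :
    (D.act a : D.sheaf ⟶ D.sheaf) = a.fst • 𝟙 D.sheaf + a.snd • (D.π ≫ ι) := by
  have h := algHom_dual_apply (k := k) (B := End D.sheaf) D.act a
  rw [hι]
  exact h

/-- the stalk kernel of the reduction is the stalk image of `ι`. -/
theorem ker_π_le_range_ι (x : X) (v : ↑(D.sheaf.presheaf.stalk x))
    (hv : RefHull.stalkMapₗ D.π x v = 0) : ∃ a, RefHull.stalkMapₗ ι x a = v := by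
  letI := D.stalkMod x
  have hmem := D.ker_le x v hv
  refine Submodule.smul_induction_on hmem (fun a ha w _ => ?_) (fun y z hy hz => ?_)
  · have ha0 : (a : DualNumber k).fst = 0 := (ArtFun.Art.mem_maximalIdeal_iff _ a).1 ha
    change ∃ b, RefHull.stalkMapₗ ι x b = RefHull.stalkMapₗ (D.act a) x w
    have h1 : (D.act a : D.sheaf ⟶ D.sheaf) = ((a : DualNumber k).snd • D.π) ≫ ι := by
      rw [act_eq D ι hι a, ha0, zero_smul, zero_add, Linear.smul_comp]
    exact ⟨RefHull.stalkMapₗ ((a : DualNumber k).snd • D.π) x w, by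
      rw [h1, stalkMapₗ_comp_apply]⟩
  · obtain ⟨a, rfl⟩ := hy
    obtain ⟨b, rfl⟩ := hz
    exact ⟨a + b, map_add _ _ _⟩

/-- `ι` is injective on stalks (by flatness). -/
theorem ι_injective (x : X) : Function.Injective (RefHull.stalkMapₗ ι x) := by
  rw [injective_iff_map_eq_zero]
  intro y hy
  obtain ⟨z, rfl⟩ := D.surj x y
  letI := D.stalkMod x
  haveI : Module.Flat (ArtFun.Art.dual k k) ↑(D.sheaf.presheaf.stalk x) := D.flat x
  let ε : (ArtFun.Art.dual k k) := (DualNumber.eps : DualNumber k)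
  have hz : ε • z = 0 := by
    change RefHull.stalkMapₗ (D.act (DualNumber.eps : DualNumber k)) x z = 0
    rw [← hι, stalkMapₗ_comp_apply, hy]
  have hmem := mem_smul_top_of_smul_eq_zero (R := ArtFun.Art.dual k k) ε
    (IsLocalRing.maximalIdeal (ArtFun.Art.dual k k))
    (fun a ha => (ArtFun.Art.mem_maximalIdeal_iff _ a).2 (eps_mul_eq_zero a ha)) z hz
  exact Groth.Agent.Lib.Seat84.DefoIso.stalkMap_π_eq_zero D x z hmem

theorem mono_ι : Mono ι := mono_of_stalkMapₗ_injective ι (ι_injective D ι hι)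

/-- An endomorphism of `D.sheaf` killed by the reduction and by `ε` factors as `π ≫ S ≫ ι`. -/
theorem exists_factor (u : D.sheaf ⟶ D.sheaf) (h1 : u ≫ D.π = 0) (h2 : (D.π ≫ ι) ≫ u = 0) :
    ∃ S : E ⟶ E, u = D.π ≫ S ≫ ι := by
  haveI := epi_π D
  haveI := mono_ι D ι hι
  obtain ⟨v, hv⟩ := exists_lift_of_stalk ι D.π (ι_π D ι hι) (ι_injective D ι hι)
    (ker_π_le_range_ι D ι hι) u h1
  have h3 : ι ≫ v = 0 := by
    rw [← cancel_epi D.π, ← cancel_mono ι, comp_zero, zero_comp, Category.assoc, Category.assoc, hv,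
      ← Category.assoc, h2]
  obtain ⟨S, hS⟩ := exists_desc_of_stalk ι D.π (ι_π D ι hι) (ι_injective D ι hι)
    (ker_π_le_range_ι D ι hι) v h3
  exact ⟨S, by rw [← Category.assoc, hS, hv]⟩

end FirstOrder


section Horizontal

variable {Ω' : X.Modules} {M M' M'' : X.Modules}

/-- horizontality as an identity of morphisms of abelian sheaves. -/
theorem isHorizontal_iff (c : Coh.toAb M ⟶ Coh.toAb (CohB1.tensorMod M Ω'))
    (c' : Coh.toAb M' ⟶ Coh.toAb (CohB1.tensorMod M' Ω')) (φ : M ⟶ M') :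
    ConnSh.IsHorizontal c c' φ ↔
      (SheafOfModules.toSheaf X.ringCatSheaf).map φ ≫ c' =
        c ≫ (SheafOfModules.toSheaf X.ringCatSheaf).map (KoszTw.tensorMap φ (𝟙 Ω')) := by
  constructor
  · intro h
    apply Sheaf.hom_ext
    ext U x
    exact h U.unop x
  · intro h U e
    have := congrArg (fun ψ => (ψ.hom.app (op U)).hom e) h
    exact this

theorem tensorMap_comp_id (f : M ⟶ M') (g : M' ⟶ M'') :
    KoszTw.tensorMap (f ≫ g) (𝟙 Ω') = KoszTw.tensorMap f (𝟙 Ω') ≫ KoszTw.tensorMap g (𝟙 Ω') := by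
  rw [← KoszTw.tensorMap_comp, Category.comp_id]

/-- a morphism of modules which is surjective on stalks is an epimorphism of abelian sheaves. -/
theorem epi_toSheaf_of_stalk {F G : X.Modules} (φ : F ⟶ G)
    (h : ∀ x : X, Function.Surjective (RefHull.stalkMapₗ φ x)) :
    Epi ((SheafOfModules.toSheaf X.ringCatSheaf).map φ) := by
  haveI : Sheaf.IsLocallySurjective ((SheafOfModules.toSheaf X.ringCatSheaf).map φ) := by
    have h1 : TopCat.Presheaf.IsLocallySurjective φ.mapPresheaf :=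
      (TopCat.Presheaf.locally_surjective_iff_surjective_on_stalks _).2 h
    exact h1
  infer_instance

end Horizontal

section IotaHorizontal

variable {k : Type u} [Field k] [X.Over (Spec (CommRingCat.of k))] {E : X.Modules}
  {Ω' : X.Modules} {δ : OmegaSh.Der (X ↘ Spec (CommRingCat.of k)) Ω'}
  {nabla : Coh.toAb E ⟶ Coh.toAb (CohB1.tensorMod E Ω')}
  (D : Defo E (ArtFun.Art.dual k k)) (ι : E ⟶ D.sheaf)
  (hι : D.π ≫ ι = D.act (DualNumber.eps : DualNumber k))

include hι in
/-- multiplication by `ε`, `ι : E ⟶ D.sheaf`, is horizontal from `∇` to any deformation of `∇`. -/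
theorem ι_horizontal (c : DefoConn δ nabla D) :
    (SheafOfModules.toSheaf X.ringCatSheaf).map ι ≫ c.conn =
      nabla ≫ (SheafOfModules.toSheaf X.ringCatSheaf).map (KoszTw.tensorMap ι (𝟙 Ω')) := by
  haveI := epi_toSheaf_of_stalk D.π D.surj
  exact abstract_ι_horizontal ((SheafOfModules.toSheaf X.ringCatSheaf).map D.π)
    ((SheafOfModules.toSheaf X.ringCatSheaf).map ι)
    ((SheafOfModules.toSheaf X.ringCatSheaf).map (KoszTw.tensorMap D.π (𝟙 Ω')))
    ((SheafOfModules.toSheaf X.ringCatSheaf).map (KoszTw.tensorMap ι (𝟙 Ω')))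
    ((SheafOfModules.toSheaf X.ringCatSheaf).map (D.act (DualNumber.eps : DualNumber k)))
    ((SheafOfModules.toSheaf X.ringCatSheaf).map
      (KoszTw.tensorMap (D.act (DualNumber.eps : DualNumber k)) (𝟙 Ω')))
    c.conn nabla
    (((SheafOfModules.toSheaf X.ringCatSheaf).map_comp D.π ι).symm.trans
      (congrArg (fun z => (SheafOfModules.toSheaf X.ringCatSheaf).map z) hι))
    (((SheafOfModules.toSheaf X.ringCatSheaf).map_comp _ _).symm.trans
      (congrArg (fun z => (SheafOfModules.toSheaf X.ringCatSheaf).map z)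
        ((tensorMap_comp_id D.π ι).symm.trans
          (congrArg (fun z => KoszTw.tensorMap z (𝟙 Ω')) hι))))
    ((isHorizontal_iff _ _ _).1 (c.act_horizontal (DualNumber.eps : DualNumber k)))
    ((isHorizontal_iff _ _ _).1 c.π_horizontal)

end IotaHorizontal

theorem toSheaf_map_add {M N : X.Modules} (f g : M ⟶ N) :
    (SheafOfModules.toSheaf X.ringCatSheaf).map (f + g) =
      (SheafOfModules.toSheaf X.ringCatSheaf).map f + (SheafOfModules.toSheaf X.ringCatSheaf).map g :=
  (SheafOfModules.toSheaf.{u} X.ringCatSheaf).map_add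

section Key

variable {k : Type u} [Field k] [X.Over (Spec (CommRingCat.of k))] {E : X.Modules}
  {Ω' : X.Modules} {δ : OmegaSh.Der (X ↘ Spec (CommRingCat.of k)) Ω'}
  {nabla : Coh.toAb E ⟶ Coh.toAb (CohB1.tensorMod E Ω')}
  (D : Defo E (ArtFun.Art.dual k k)) (ι : E ⟶ D.sheaf)
  (hι : D.π ≫ ι = D.act (DualNumber.eps : DualNumber k))

include hι in
theorem isHorizontal_one_add_iff (c c' : DefoConn δ nabla D) (S : E ⟶ E) :
    ConnSh.IsHorizontal c.conn c'.conn (𝟙 D.sheaf + D.π ≫ S ≫ ι) ↔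
      c'.conn - c.conn = (SheafOfModules.toSheaf X.ringCatSheaf).map D.π ≫
        (nabla ≫ (SheafOfModules.toSheaf X.ringCatSheaf).map (KoszTw.tensorMap S (𝟙 Ω')) -
          (SheafOfModules.toSheaf X.ringCatSheaf).map S ≫ nabla) ≫
          (SheafOfModules.toSheaf X.ringCatSheaf).map (KoszTw.tensorMap ι (𝟙 Ω')) := by
  have hF : (SheafOfModules.toSheaf X.ringCatSheaf).map (𝟙 D.sheaf + D.π ≫ S ≫ ι) =
      𝟙 _ + (SheafOfModules.toSheaf X.ringCatSheaf).map D.π ≫
        (SheafOfModules.toSheaf X.ringCatSheaf).map S ≫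
          (SheafOfModules.toSheaf X.ringCatSheaf).map ι :=
    (toSheaf_map_add _ _).trans (congrArg₂ (· + ·)
      ((SheafOfModules.toSheaf X.ringCatSheaf).map_id _)
      (((SheafOfModules.toSheaf X.ringCatSheaf).map_comp _ _).trans
        (congrArg (fun z => (SheafOfModules.toSheaf X.ringCatSheaf).map D.π ≫ z)
          ((SheafOfModules.toSheaf X.ringCatSheaf).map_comp _ _))))
  have hT0 : KoszTw.tensorMap (𝟙 D.sheaf + D.π ≫ S ≫ ι) (𝟙 Ω') =
      𝟙 _ + KoszTw.tensorMap D.π (𝟙 Ω') ≫ KoszTw.tensorMap S (𝟙 Ω') ≫ KoszTw.tensorMap ι (𝟙 Ω') := by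
    rw [Groth.Agent.Lib.Seat84.DefoConn.tensorMap_add_left, KoszTw.tensorMap_id, tensorMap_comp_id,
      tensorMap_comp_id]
  have hT : (SheafOfModules.toSheaf X.ringCatSheaf).map
        (KoszTw.tensorMap (𝟙 D.sheaf + D.π ≫ S ≫ ι) (𝟙 Ω')) =
      𝟙 _ + (SheafOfModules.toSheaf X.ringCatSheaf).map (KoszTw.tensorMap D.π (𝟙 Ω')) ≫
        (SheafOfModules.toSheaf X.ringCatSheaf).map (KoszTw.tensorMap S (𝟙 Ω')) ≫
          (SheafOfModules.toSheaf X.ringCatSheaf).map (KoszTw.tensorMap ι (𝟙 Ω')) :=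
    (congrArg (fun z => (SheafOfModules.toSheaf X.ringCatSheaf).map z) hT0).trans
      ((toSheaf_map_add _ _).trans (congrArg₂ (· + ·)
        ((SheafOfModules.toSheaf X.ringCatSheaf).map_id _)
        (((SheafOfModules.toSheaf X.ringCatSheaf).map_comp _ _).trans
          (congrArg (fun z => (SheafOfModules.toSheaf X.ringCatSheaf).map
              (KoszTw.tensorMap D.π (𝟙 Ω')) ≫ z)
            ((SheafOfModules.toSheaf X.ringCatSheaf).map_comp _ _)))))
  refine (isHorizontal_iff _ _ _).trans ?_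
  refine Iff.trans ?_ (abstract_key ((SheafOfModules.toSheaf X.ringCatSheaf).map D.π)
    ((SheafOfModules.toSheaf X.ringCatSheaf).map ι)
    ((SheafOfModules.toSheaf X.ringCatSheaf).map S)
    ((SheafOfModules.toSheaf X.ringCatSheaf).map (KoszTw.tensorMap D.π (𝟙 Ω')))
    ((SheafOfModules.toSheaf X.ringCatSheaf).map (KoszTw.tensorMap ι (𝟙 Ω')))
    ((SheafOfModules.toSheaf X.ringCatSheaf).map (KoszTw.tensorMap S (𝟙 Ω')))
    c.conn c'.conn nabla (ι_horizontal D ι hι c') ((isHorizontal_iff _ _ _).1 c.π_horizontal))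
  exact Eq.congr (congrArg (fun z => z ≫ c'.conn) hF) (congrArg (fun z => c.conn ≫ z) hT)

end Key

end Groth.Agent.Lib.Seat84.DefoExact
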