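import Mathlib
import Groth.Prelude.Def_RefHull
import Groth.Agent.Lib.Seat84DefoExact
import Groth.Agent.Lib.Helper2ModExact

/-!
# Seat84: the functor `R W = j_* j^*` of an open `W ⊆ X` on `O_X`-modules

* `R W`, `η W : 𝟭 ⟶ R W` (unit of Mathlib's `restrictAdjunction`), section formulas;
* `stalk_bijective_of_app_bijective`: a morphism bijective on sections over the opens inside `W` is
  bijective on the stalks at the points of `W`;
* `η_stalk_bijective`: `η` is bijective on stalks at points of `W`;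
* `ρ h : R W ⟶ R W'` for `W' ≤ W`, `η_ρ`, `ρ_stalk_bijective`;
* `Θ W : (M ⟶ (R W).obj N) → Γ(homSh M N, W)`, additive and bijective, compatible with `ρ`.
-/

set_option autoImplicit false
set_option linter.style.haveILetI false
universe u

open CategoryTheory CategoryTheory.Limits AlgebraicGeometry TopologicalSpace Opposite

namespace Groth.Agent.Lib.Seat84.OpenRes

open DefoSh Groth.Agent.Lib.Seat84.DefoExact

variable {X : Scheme.{u}}

/-- `j_* j^*` for the inclusion `j` of the open `W`. -/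
noncomputable def R (W : X.Opens) : X.Modules ⥤ X.Modules :=
  Scheme.Modules.restrictFunctor W.ι ⋙ Scheme.Modules.pushforward W.ι

/-- the unit `M ⟶ j_* j^* M`. -/
noncomputable def η (W : X.Opens) : 𝟭 X.Modules ⟶ R W :=
  (Scheme.Modules.restrictAdjunction W.ι).unit

/-- the component of `η` at `N`, with source written `N`. -/
noncomputable def ηa (W : X.Opens) (N : X.Modules) : N ⟶ (R W).obj N := (η W).app N

theorem η_app_app (W : X.Opens) (N : X.Modules) (T : X.Opens) :
    (ηa W N).app T = N.presheaf.map (homOfLE (W.ι.image_preimage_le T)).op := rfl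

theorem R_map_app (W : X.Opens) {M N : X.Modules} (φ : M ⟶ N) (T : X.Opens) :
    ((R W).map φ).app T = φ.app (W.ι ''ᵁ W.ι ⁻¹ᵁ T) := rfl

theorem image_preimage_eq (W T : X.Opens) : W.ι ''ᵁ W.ι ⁻¹ᵁ T = W ⊓ T := by
  rw [Scheme.Hom.image_preimage_eq_opensRange_inf, Scheme.Opens.opensRange_ι]

/-- restriction between equal opens is bijective. -/
theorem presheaf_map_bijective (N : X.Modules) {A B : X.Opens} (g : A ⟶ B) (h : B ≤ A) :
    Function.Bijective (N.presheaf.map g.op) := by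
  obtain rfl : A = B := le_antisymm (leOfHom g) h
  have : g = 𝟙 A := Subsingleton.elim _ _
  rw [this, op_id, N.presheaf.map_id]
  exact Function.bijective_id

/-- a morphism bijective on sections over all opens inside `W` is bijective on the stalks at the
points of `W`. -/
theorem stalk_bijective_of_app_bijective {A B : X.Modules} (φ : A ⟶ B) (W : X.Opens)
    (h : ∀ T : X.Opens, T ≤ W → Function.Bijective (φ.app T)) (x : X) (hx : x ∈ W) :
    Function.Bijective (RefHull.stalkMapₗ φ x) := by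
  constructor
  · rw [injective_iff_map_eq_zero]
    intro v hv
    obtain ⟨T, hxT, a, rfl⟩ := TopCat.Presheaf.exists_germ_eq A.presheaf v
    rw [RefHull.stalkMapₗ_germ] at hv
    have h0 : B.presheaf.germ T x hxT (φ.app T a) = B.presheaf.germ T x hxT 0 := by
      rw [hv, map_zero]
    obtain ⟨T', hxT', i₁, i₂, hT'⟩ := B.presheaf.germ_eq x hxT hxT _ 0 h0
    rw [map_zero] at hT'
    let T'' : X.Opens := T' ⊓ W
    have hxT'' : x ∈ T'' := ⟨hxT', hx⟩
    let j : T'' ⟶ T := homOfLE (inf_le_left.trans (leOfHom i₁))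
    have h1 : φ.app T'' (A.presheaf.map j.op a) = 0 := by
      rw [Groth.Agent.Lib.Helper2.ModExact.app_map]
      have hj : j = (homOfLE inf_le_left : T'' ⟶ T') ≫ i₁ := Subsingleton.elim _ _
      rw [hj, op_comp, B.presheaf.map_comp, ConcreteCategory.comp_apply, hT', map_zero]
    have h2 : A.presheaf.map j.op a = 0 :=
      (h T'' inf_le_right).1 (h1.trans (map_zero _).symm)
    rw [← TopCat.Presheaf.germ_res_apply A.presheaf j x hxT'' a, h2, map_zero]
  · intro v
    obtain ⟨T, hxT, b, rfl⟩ := TopCat.Presheaf.exists_germ_eq B.presheaf v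
    let T'' : X.Opens := T ⊓ W
    have hxT'' : x ∈ T'' := ⟨hxT, hx⟩
    let j : T'' ⟶ T := homOfLE inf_le_left
    obtain ⟨a, ha⟩ := (h T'' inf_le_right).2 (B.presheaf.map j.op b)
    refine ⟨A.presheaf.germ T'' x hxT'' a, ?_⟩
    rw [RefHull.stalkMapₗ_germ, ha]
    exact TopCat.Presheaf.germ_res_apply B.presheaf j x hxT'' b

theorem η_app_bijective (W : X.Opens) (N : X.Modules) (T : X.Opens) (hT : T ≤ W) :
    Function.Bijective ((ηa W N).app T) := by
  rw [η_app_app]
  apply presheaf_map_bijective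
  rw [image_preimage_eq]
  exact le_inf hT le_rfl

theorem η_stalk_bijective (W : X.Opens) (N : X.Modules) (x : X) (hx : x ∈ W) :
    Function.Bijective (RefHull.stalkMapₗ (ηa W N) x) :=
  stalk_bijective_of_app_bijective _ W (fun T hT => η_app_bijective W N T hT) x hx

/-- restriction maps of `(R W').obj N` between opens with the same trace on `W'` are bijective. -/
theorem R_obj_map_bijective (W' : X.Opens) (N : X.Modules) {A B : X.Opens} (g : A ⟶ B)
    (h : W' ⊓ B ≤ A) : Function.Bijective (((R W').obj N).presheaf.map g.op) := by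
  change Function.Bijective
    (N.presheaf.map (W'.ι.opensFunctor.map ((Opens.map W'.ι.base).map g)).op)
  apply presheaf_map_bijective
  change W'.ι ''ᵁ W'.ι ⁻¹ᵁ B ≤ W'.ι ''ᵁ W'.ι ⁻¹ᵁ A
  rw [image_preimage_eq, image_preimage_eq]
  exact le_inf inf_le_left h

theorem isIso_η_R (W W' : X.Opens) (h : W' ≤ W) (N : X.Modules) :
    IsIso (ηa W ((R W').obj N)) := by
  rw [Scheme.Modules.Hom.isIso_iff_isIso_app]
  intro T
  rw [ConcreteCategory.isIso_iff_bijective]
  rw [η_app_app]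
  apply R_obj_map_bijective
  rw [image_preimage_eq]
  exact le_inf (inf_le_left.trans h) inf_le_right

/-- the restriction `R W ⟶ R W'` for `W' ≤ W`. -/
noncomputable def ρ {W W' : X.Opens} (h : W' ≤ W) (N : X.Modules) :
    (R W).obj N ⟶ (R W').obj N :=
  haveI := isIso_η_R W W' h N
  (R W).map (ηa W' N) ≫ inv (ηa W ((R W').obj N))

theorem η_ρ {W W' : X.Opens} (h : W' ≤ W) (N : X.Modules) :
    ηa W N ≫ ρ h N = ηa W' N := by
  haveI := isIso_η_R W W' h N
  have hnat : ηa W' N ≫ ηa W ((R W').obj N) = ηa W N ≫ (R W).map (ηa W' N) :=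
    (η W).naturality (ηa W' N)
  rw [ρ, ← Category.assoc, ← hnat, Category.assoc, IsIso.hom_inv_id, Category.comp_id]

theorem ρ_app_bijective {W W' : X.Opens} (h : W' ≤ W) (N : X.Modules) (T : X.Opens)
    (hT : W ⊓ T ≤ W') : Function.Bijective ((ρ h N).app T) := by
  haveI := isIso_η_R W W' h N
  have h1 : Function.Bijective (((R W).map (ηa W' N)).app T) := by
    rw [R_map_app]
    apply η_app_bijective
    rw [image_preimage_eq]
    exact hT
  have h2 : Function.Bijective ((inv (ηa W ((R W').obj N))).app T) := by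
    haveI : IsIso (inv (ηa W ((R W').obj N))) := inferInstance
    have := (Scheme.Modules.Hom.isIso_iff_isIso_app
      (φ := inv (ηa W ((R W').obj N)))).1 inferInstance T
    exact (ConcreteCategory.isIso_iff_bijective _).1 this
  have h3 : (ρ h N).app T =
      ((R W).map (ηa W' N)).app T ≫ (inv (ηa W ((R W').obj N))).app T := rfl
  rw [h3]
  exact h2.comp h1

theorem ρ_stalk_bijective {W W' : X.Opens} (h : W' ≤ W) (N : X.Modules) (V : X.Opens)
    (hV : W ⊓ V ≤ W') (x : X) (hx : x ∈ V) :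
    Function.Bijective (RefHull.stalkMapₗ (ρ h N) x) :=
  stalk_bijective_of_app_bijective _ V
    (fun T hT => ρ_app_bijective h N T ((inf_le_inf_left W hT).trans hV)) x hx

/-! ### sections of the sheaf Hom over `W` and morphisms into `R W` -/

section Theta

variable (W : X.Opens) {M N : X.Modules}

/-- the inverse of `η` on the stalk at a point of `W`. -/
noncomputable def τ (N : X.Modules) (x : X) (hx : x ∈ W) :
    ((R W).obj N).presheaf.stalk x ≃ₗ[X.presheaf.stalk x] N.presheaf.stalk x :=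
  (LinearEquiv.ofBijective (RefHull.stalkMapₗ (ηa W N) x) (η_stalk_bijective W N x hx)).symm

theorem η_τ (N : X.Modules) (x : X) (hx : x ∈ W) (v : ((R W).obj N).presheaf.stalk x) :
    RefHull.stalkMapₗ (ηa W N) x (τ W N x hx v) = v :=
  (LinearEquiv.ofBijective (RefHull.stalkMapₗ (ηa W N) x)
    (η_stalk_bijective W N x hx)).apply_symm_apply v

theorem τ_η (N : X.Modules) (x : X) (hx : x ∈ W) (v : N.presheaf.stalk x) :
    τ W N x hx (RefHull.stalkMapₗ (ηa W N) x v) = v :=
  (LinearEquiv.ofBijective (RefHull.stalkMapₗ (ηa W N) x)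
    (η_stalk_bijective W N x hx)).symm_apply_apply v

/-- sections of `R W N` over `T` are sections of `N` over `W ∩ T`. -/
def toN (N : X.Modules) (T : X.Opens) (s : Γ((R W).obj N, T)) : Γ(N, W.ι ''ᵁ W.ι ⁻¹ᵁ T) := s

/-- sections of `N` over `W ∩ T` are sections of `R W N` over `T`. -/
def ofN (N : X.Modules) (T : X.Opens) (s : Γ(N, W.ι ''ᵁ W.ι ⁻¹ᵁ T)) : Γ((R W).obj N, T) := s

theorem toN_ofN (N : X.Modules) (T : X.Opens) (s : Γ(N, W.ι ''ᵁ W.ι ⁻¹ᵁ T)) :
    toN W N T (ofN W N T s) = s := rfl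

theorem ofN_toN (N : X.Modules) (T : X.Opens) (s : Γ((R W).obj N, T)) :
    ofN W N T (toN W N T s) = s := rfl

/-- germs of `R W N` at a point of `W` are germs of `N`. -/
theorem τ_germ (N : X.Modules) (T : X.Opens) (y : X) (hyT : y ∈ T) (hyW : y ∈ W)
    (s : Γ((R W).obj N, T)) (hyA : y ∈ W.ι ''ᵁ W.ι ⁻¹ᵁ T) :
    τ W N y hyW (((R W).obj N).presheaf.germ T y hyT s) =
      N.presheaf.germ (W.ι ''ᵁ W.ι ⁻¹ᵁ T) y hyA (toN W N T s) := by
  have hinj := (η_stalk_bijective W N y hyW).1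
  apply hinj
  rw [η_τ]
  have h := RefHull.stalkMapₗ_germ (ηa W N) y hyA (toN W N T s)
  rw [h]
  have hAT : W.ι ''ᵁ W.ι ⁻¹ᵁ T ≤ T := W.ι.image_preimage_le T
  have h2 : (ηa W N).app (W.ι ''ᵁ W.ι ⁻¹ᵁ T) (toN W N T s) =
      ((R W).obj N).presheaf.map (homOfLE hAT).op s := rfl
  rw [h2]
  exact (TopCat.Presheaf.germ_res_apply ((R W).obj N).presheaf (homOfLE hAT) y hyA s).symm

/-- the family of stalk maps over `W` of a morphism into `R W N`. -/
noncomputable def Θfam (χ : M ⟶ (R W).obj N) (x : W) : RefHull.StalkHom M N x.1 :=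
  (τ W N x.1 x.2).toLinearMap ∘ₗ RefHull.stalkMapₗ χ x.1

theorem Θfam_apply (χ : M ⟶ (R W).obj N) (x : W) (v : M.presheaf.stalk x.1) :
    Θfam W χ x v = τ W N x.1 x.2 (RefHull.stalkMapₗ χ x.1 v) := rfl

theorem mem_image_preimage {T : X.Opens} {y : X} (hyT : y ∈ T) (hyW : y ∈ W) :
    y ∈ W.ι ''ᵁ W.ι ⁻¹ᵁ T := by
  rw [image_preimage_eq]
  exact ⟨hyW, hyT⟩

theorem Θfam_germ (χ : M ⟶ (R W).obj N) (T : X.Opens) (y : X) (hyT : y ∈ T) (hyW : y ∈ W)
    (m : Γ(M, T)) :
    Θfam W χ ⟨y, hyW⟩ (M.presheaf.germ T y hyT m) =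
      N.presheaf.germ (W.ι ''ᵁ W.ι ⁻¹ᵁ T) y (mem_image_preimage W hyT hyW)
        (toN W N T (χ.app T m)) := by
  rw [Θfam_apply, RefHull.stalkMapₗ_germ, τ_germ]

theorem Θfam_isLocSect (χ : M ⟶ (R W).obj N) : RefHull.IsLocSect M N (Θfam W χ) := by
  intro V i m x
  have hVW : V ≤ W := leOfHom i
  have hVA : V ≤ W.ι ''ᵁ W.ι ⁻¹ᵁ V := by
    rw [image_preimage_eq]; exact le_inf hVW le_rfl
  refine ⟨V, x.2, 𝟙 V, N.presheaf.map (homOfLE hVA).op (toN W N V (χ.app V m)), fun y => ?_⟩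
  rw [Θfam_germ W χ V y.1 y.2 (hVW y.2) m]
  exact (TopCat.Presheaf.germ_res_apply N.presheaf (homOfLE hVA) y.1 y.2
    (toN W N V (χ.app V m))).symm

/-- the section of the sheaf Hom over `W` defined by a morphism into `R W N`. -/
noncomputable def Θ (χ : M ⟶ (R W).obj N) : Γ(RefHull.homSh M N, W) :=
  ⟨Θfam W χ, Θfam_isLocSect W χ⟩

theorem Θ_val (χ : M ⟶ (R W).obj N) (x : W) : (Θ W χ).1 x = Θfam W χ x := rfl

theorem Θ_add (χ χ' : M ⟶ (R W).obj N) : Θ W (χ + χ') = Θ W χ + Θ W χ' := by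
  refine Subtype.ext (funext fun x => ?_)
  change Θfam W (χ + χ') x = Θfam W χ x + Θfam W χ' x
  refine LinearMap.ext fun v => ?_
  rw [LinearMap.add_apply, Θfam_apply, Θfam_apply, Θfam_apply, stalkMapₗ_add_apply, map_add]

/-- a morphism into `R W N` all of whose stalk maps at the points of `W` vanish is zero. -/
theorem eq_zero_of_stalk (δ : M ⟶ (R W).obj N)
    (h : ∀ (x : X) (_ : x ∈ W) (v : M.presheaf.stalk x), RefHull.stalkMapₗ δ x v = 0) : δ = 0 := by
  apply Scheme.Modules.hom_ext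
  intro T
  ext m
  let N' : TopCat.Sheaf AddCommGrpCat.{u} X.carrier := ⟨N.presheaf, N.isSheaf⟩
  change toN W N T (δ.app T m) = 0
  refine TopCat.Presheaf.section_ext N' _ _ _ (fun y hy => ?_)
  have hyWT : y ∈ W ⊓ T := by rw [← image_preimage_eq]; exact hy
  have h1 := τ_germ W N T y hyWT.2 hyWT.1 (δ.app T m) hy
  rw [← RefHull.stalkMapₗ_germ, h y hyWT.1, map_zero] at h1
  exact h1.symm.trans (map_zero _).symm

theorem Θ_injective : Function.Injective (Θ W : (M ⟶ (R W).obj N) → Γ(RefHull.homSh M N, W)) := by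
  intro χ χ' hχ
  rw [← sub_eq_zero]
  apply eq_zero_of_stalk W
  intro x hx v
  have h1 : Θfam W χ ⟨x, hx⟩ v = Θfam W χ' ⟨x, hx⟩ v := by
    have := congrArg (fun g : Γ(RefHull.homSh M N, W) => g.1 ⟨x, hx⟩ v) hχ
    exact this
  rw [Θfam_apply, Θfam_apply] at h1
  have h2 := (τ W N x hx).injective h1
  have h3 : RefHull.stalkMapₗ (χ - χ') x v + RefHull.stalkMapₗ χ' x v =
      RefHull.stalkMapₗ χ x v := by
    rw [← stalkMapₗ_add_apply, sub_add_cancel]
  rw [h2] at h3
  exact add_eq_right.1 h3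

end Theta

/-- gluing a section of a module out of a family of germs which is locally the family of germs of
a section. -/
theorem exists_section_of_germs (N : X.Modules) (A : X.Opens) (δ : ∀ z : A, N.presheaf.stalk z.1)
    (hδ : ∀ x : A, ∃ (U : X.Opens) (hU : U ≤ A) (_ : x.1 ∈ U) (s : Γ(N, U)),
      ∀ (z : X) (hz : z ∈ U), N.presheaf.germ U z hz s = δ ⟨z, hU hz⟩) :
    ∃ d : Γ(N, A), ∀ z : A, N.presheaf.germ A z.1 z.2 d = δ z := by
  let N' : TopCat.Sheaf AddCommGrpCat.{u} X.carrier := ⟨N.presheaf, N.isSheaf⟩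
  choose U hUA hxU s hs using hδ
  have hcompat : TopCat.Presheaf.IsCompatible N.presheaf U s := by
    intro i j
    apply TopCat.Presheaf.section_ext N'
    intro z hz
    have e1 := N.presheaf.germ_res_apply (Opens.infLELeft (U i) (U j)) z hz (s i)
    have e2 := N.presheaf.germ_res_apply (Opens.infLERight (U i) (U j)) z hz (s j)
    exact e1.trans ((hs i z hz.1).trans ((hs j z hz.2).symm.trans e2.symm))
  obtain ⟨d, hd, -⟩ := TopCat.Sheaf.existsUnique_gluing' N' U A (fun i => homOfLE (hUA i))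
    (fun z hz => Opens.mem_iSup.mpr ⟨⟨z, hz⟩, hxU ⟨z, hz⟩⟩) s hcompat
  refine ⟨d, fun z => ?_⟩
  have h1 := hd z
  have h2 := N.presheaf.germ_res_apply (homOfLE (hUA z)) z.1 (hxU z) d
  rw [← h2]
  exact (congrArg (N.presheaf.germ (U z) z.1 (hxU z)) h1).trans (hs z z.1 (hxU z))

section Surj

variable (W : X.Opens) {M N : X.Modules} (g : Γ(RefHull.homSh M N, W))

theorem exists_χ (T : X.Opens) (m : Γ(M, T)) :
    ∃ d : Γ(N, W.ι ''ᵁ W.ι ⁻¹ᵁ T), ∀ z : (W.ι ''ᵁ W.ι ⁻¹ᵁ T : X.Opens),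
      N.presheaf.germ (W.ι ''ᵁ W.ι ⁻¹ᵁ T) z.1 z.2 d =
        g.1 ⟨z.1, (image_preimage_eq W T ▸ z.2 : z.1 ∈ W ⊓ T).1⟩
          (M.presheaf.germ T z.1 (image_preimage_eq W T ▸ z.2 : z.1 ∈ W ⊓ T).2 m) := by
  have hA : W.ι ''ᵁ W.ι ⁻¹ᵁ T ≤ W ⊓ T := le_of_eq (image_preimage_eq W T)
  apply exists_section_of_germs
  intro x
  obtain ⟨W'', hxW'', j, n, hn⟩ := RefHull.isLocSect_of_mem g (W.ι ''ᵁ W.ι ⁻¹ᵁ T)
    (homOfLE (hA.trans inf_le_left)) (M.presheaf.map (homOfLE (hA.trans inf_le_right)).op m) x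
  refine ⟨W'', leOfHom j, hxW'', n, fun z hz => ?_⟩
  have h1 := hn ⟨z, hz⟩
  rw [TopCat.Presheaf.germ_res_apply] at h1
  exact h1.symm

/-- the value on sections of the morphism attached to a section of the sheaf Hom. -/
noncomputable def χfun (T : X.Opens) (m : Γ(M, T)) : Γ((R W).obj N, T) :=
  ofN W N T (exists_χ W g T m).choose

theorem χfun_germ (T : X.Opens) (m : Γ(M, T)) (z : X) (hzW : z ∈ W) (hzT : z ∈ T) :
    N.presheaf.germ (W.ι ''ᵁ W.ι ⁻¹ᵁ T) z (mem_image_preimage W hzT hzW)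
      (toN W N T (χfun W g T m)) = g.1 ⟨z, hzW⟩ (M.presheaf.germ T z hzT m) :=
  (exists_χ W g T m).choose_spec ⟨z, mem_image_preimage W hzT hzW⟩

/-- sections of `R W N` are determined by their germs (in `N`) at the points of `W`. -/
theorem R_section_ext (T : X.Opens) (s s' : Γ((R W).obj N, T))
    (h : ∀ (z : X) (hzW : z ∈ W) (hzT : z ∈ T),
      N.presheaf.germ (W.ι ''ᵁ W.ι ⁻¹ᵁ T) z (mem_image_preimage W hzT hzW) (toN W N T s) =
        N.presheaf.germ (W.ι ''ᵁ W.ι ⁻¹ᵁ T) z (mem_image_preimage W hzT hzW) (toN W N T s')) :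
    s = s' := by
  let N' : TopCat.Sheaf AddCommGrpCat.{u} X.carrier := ⟨N.presheaf, N.isSheaf⟩
  change toN W N T s = toN W N T s'
  refine TopCat.Presheaf.section_ext N' _ _ _ (fun y hy => ?_)
  have hyWT : y ∈ W ⊓ T := by rw [← image_preimage_eq]; exact hy
  exact h y hyWT.1 hyWT.2

theorem χfun_add (T : X.Opens) (m m' : Γ(M, T)) :
    χfun W g T (m + m') = χfun W g T m + χfun W g T m' := by
  apply R_section_ext
  intro z hzW hzT
  have h1 : toN W N T (χfun W g T m + χfun W g T m') =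
      toN W N T (χfun W g T m) + toN W N T (χfun W g T m') := rfl
  rw [h1, map_add, χfun_germ W g T (m + m') z hzW hzT, χfun_germ W g T m z hzW hzT,
    χfun_germ W g T m' z hzW hzT, map_add, map_add]

theorem χfun_zero (T : X.Opens) : χfun W g T (0 : Γ(M, T)) = 0 := by
  apply R_section_ext
  intro z hzW hzT
  have h1 : toN W N T (0 : Γ((R W).obj N, T)) = 0 := rfl
  rw [h1, map_zero, χfun_germ W g T 0 z hzW hzT, map_zero, map_zero]

theorem χfun_map {T T' : X.Opens} (i : T' ⟶ T) (m : Γ(M, T)) :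
    χfun W g T' (M.presheaf.map i.op m) = ((R W).obj N).presheaf.map i.op (χfun W g T m) := by
  apply R_section_ext
  intro z hzW hzT'
  have hzT : z ∈ T := leOfHom i hzT'
  rw [χfun_germ W g T' _ z hzW hzT', TopCat.Presheaf.germ_res_apply]
  have h1 : toN W N T' (((R W).obj N).presheaf.map i.op (χfun W g T m)) =
      N.presheaf.map (W.ι.opensFunctor.map ((Opens.map W.ι.base).map i)).op
        (toN W N T (χfun W g T m)) := rfl
  rw [h1]
  have h2 := TopCat.Presheaf.germ_res_apply N.presheaf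
    (W.ι.opensFunctor.map ((Opens.map W.ι.base).map i)) z
    (mem_image_preimage W hzT' hzW) (toN W N T (χfun W g T m))
  exact (χfun_germ W g T m z hzW hzT).symm.trans h2.symm

theorem χfun_smul (T : X.Opens) (r : Γ(X, T)) (m : Γ(M, T)) :
    χfun W g T (r • m) = r • χfun W g T m := by
  apply R_section_ext
  intro z hzW hzT
  rw [χfun_germ W g T _ z hzW hzT, Mero.germ_smul, map_smul]
  have h1 := τ_germ W N T z hzT hzW (r • χfun W g T m) (mem_image_preimage W hzT hzW)
  rw [← h1, Mero.germ_smul, map_smul, τ_germ W N T z hzT hzW _ (mem_image_preimage W hzT hzW),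
    χfun_germ W g T m z hzW hzT]

/-- the morphism into `R W N` attached to a section of the sheaf Hom over `W`. -/
noncomputable def χ : M ⟶ (R W).obj N :=
  ⟨PresheafOfModules.homMk (M₁ := M.val) (M₂ := ((R W).obj N).val)
    { app := fun T => AddCommGrpCat.ofHom
        { toFun := fun (m : Γ(M, T.unop)) => χfun W g T.unop m
          map_zero' := χfun_zero W g T.unop
          map_add' := fun m m' => χfun_add W g T.unop m m' }
      naturality := by
        intro T T' i
        ext m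
        exact χfun_map W g i.unop m }
    (fun T r m => χfun_smul W g T.unop r m)⟩

theorem χ_app (T : X.Opens) (m : Γ(M, T)) : (χ W g).app T m = χfun W g T m := rfl

theorem Θ_χ : Θ W (χ W g) = g := by
  refine Subtype.ext (funext fun x => ?_)
  change Θfam W (χ W g) x = g.1 x
  refine LinearMap.ext fun v => ?_
  obtain ⟨T, hxT, m, rfl⟩ := TopCat.Presheaf.exists_germ_eq M.presheaf v
  rw [Θfam_germ W (χ W g) T x.1 hxT x.2 m, χ_app, χfun_germ W g T m x.1 x.2 hxT]

theorem Θ_surjective :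
    Function.Surjective (Θ W : (M ⟶ (R W).obj N) → Γ(RefHull.homSh M N, W)) :=
  fun g => ⟨χ W g, Θ_χ W g⟩

end Surj

section Compat

variable {M N : X.Modules}

theorem τ_ρ {W W' : X.Opens} (h : W' ≤ W) (x : X) (hx : x ∈ W')
    (u : ((R W).obj N).presheaf.stalk x) :
    τ W' N x hx (RefHull.stalkMapₗ (ρ h N) x u) = τ W N x (h hx) u := by
  obtain ⟨n, rfl⟩ := (η_stalk_bijective W N x (h hx)).2 u
  rw [← stalkMapₗ_comp_apply, η_ρ, τ_η, τ_η]

theorem Θ_comp_ρ {W W' : X.Opens} (h : W' ≤ W) (χ : M ⟶ (R W).obj N) :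
    Θ W' (χ ≫ ρ h N) = (RefHull.homSh M N).presheaf.map (homOfLE h).op (Θ W χ) := by
  refine Subtype.ext (funext fun x => ?_)
  change Θfam W' (χ ≫ ρ h N) x = Θfam W χ ⟨x.1, h x.2⟩
  refine LinearMap.ext fun v => ?_
  rw [Θfam_apply, Θfam_apply, stalkMapₗ_comp_apply, τ_ρ]

theorem Θ_neg (W : X.Opens) (χ : M ⟶ (R W).obj N) : Θ W (-χ) = -Θ W χ := by
  have h := Θ_add W χ (-χ)
  rw [add_neg_cancel] at h
  have h0 : Θ W (0 : M ⟶ (R W).obj N) = 0 := by
    have := Θ_add W (0 : M ⟶ (R W).obj N) 0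
    rw [add_zero] at this
    exact left_eq_add.1 this
  rw [h0] at h
  exact (neg_eq_of_add_eq_zero_right h.symm).symm

end Compat

end Groth.Agent.Lib.Seat84.OpenRes
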