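import Mathlib
import Groth.Prelude.Def_RefHull
import Groth.Prelude.Def_Formal
import Groth.Agent.Lib.Seat75HomCoh
import Groth.Agent.Lib.Seat84OpenRes
import Groth.Agent.Lib.Helper20ModOf
import Groth.Agent.Lib.Seat54QSec
import Groth.Agent.S0020

/-!
# Functoriality of the sheaf Hom in the second variable; global sections; affine description (seat 54)

For `O_X`-modules `M`, `N`:
* `post g : homSh M N ⟶ homSh M N'` for `g : N ⟶ N'` (`post_val`, `homApp_post`, `post_comp`);
* `ofHom_top_bijective`: `(M ⟶ N) → Γ(homSh M N, ⊤)`, `φ ↦ ofHom φ ⊤` is bijective; `post_ofHom`;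
* `smulMod_homSh_eq_zero`: scalars of the base ring killing `N'` kill `homSh M N'`;
* `support_homSh_subset`;
* over an affine open `V` with a presentation of `Γ(M, V)`: `tupₗ`, `tup_injective`, `relMap`, `relMap_tup`,
  `exists_of_relMap_eq_zero`, `tup_post`.
-/

set_option autoImplicit false
set_option linter.style.haveILetI false
set_option linter.unusedSectionVars false
universe u
open CategoryTheory CategoryTheory.Limits AlgebraicGeometry Opposite TopologicalSpace

namespace Groth.Agent.Lib.Seat54.HomPost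

open RefHull Groth.Agent.Lib.Seat75.HomCoh Groth.Agent.Lib.Helper6 Groth.Agent.Lib.Seat75.SecOrd
  Groth.Agent.Lib.Helper20.ModOf Groth.Agent.Lib.Seat54.QSec

variable {X : Scheme.{u}} {M N N' N'' : X.Modules}

/-! ### post-composition -/

/-- post-composition with the stalk map of `g`. -/
noncomputable def postStalk (M : X.Modules) (g : N ⟶ N') (x : X) :
    StalkHom M N x →ₗ[X.presheaf.stalk x] StalkHom M N' x where
  toFun f := (stalkMapₗ g x).comp f
  map_add' _ _ := LinearMap.comp_add _ _ _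
  map_smul' _ _ := LinearMap.comp_smul _ _ _

theorem postStalk_apply (g : N ⟶ N') (x : X) (f : StalkHom M N x) (v : M.presheaf.stalk x) :
    postStalk M g x f v = stalkMapₗ g x (f v) := rfl

theorem postStalk_pred (M : X.Modules) (g : N ⟶ N') (U : X.Opens) (f : ∀ x : U, StalkHom M N x.1)
    (hf : (homLoc M N).pred f) : (homLoc M N').pred fun x => postStalk M g x.1 (f x) := by
  intro V i m x
  obtain ⟨W, hxW, j, n, hn⟩ := hf V i m x
  refine ⟨W, hxW, j, g.app W n, fun y => ?_⟩
  have h1 := congrArg (stalkMapₗ g y.1) (hn y)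
  exact h1.trans (stalkMapₗ_germ g y.1 y.2 n)

/-- functoriality of the sheaf Hom in the second variable. -/
noncomputable def post (M : X.Modules) (g : N ⟶ N') : homSh M N ⟶ homSh M N' :=
  modOfHom (homLoc M N) (homLoc M N') (fun x => postStalk M g x) (postStalk_pred M g)

theorem post_val (g : N ⟶ N') {U : X.Opens} (t : Γ(homSh M N, U)) (x : U) :
    ((post M g).app U t).1 x = (stalkMapₗ g x.1).comp (t.1 x) := rfl

theorem homApp_post (g : N ⟶ N') {W : X.Opens} (t : Γ(homSh M N, W)) (m : Γ(M, W)) :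
    homApp M N' ((post M g).app W t) m = g.app W (homApp M N t m) := by
  refine eq_of_germ_eq N' _ _ (fun y hy => ?_)
  rw [germ_homApp, post_val, LinearMap.comp_apply, ← germ_homApp, stalkMapₗ_germ]

theorem stalkMapₗ_comp_apply' {F G H : X.Modules} (φ : F ⟶ G) (ψ : G ⟶ H) (x : X)
    (v : F.presheaf.stalk x) : stalkMapₗ (φ ≫ ψ) x v = stalkMapₗ ψ x (stalkMapₗ φ x v) := by
  obtain ⟨U, hU, m, rfl⟩ := TopCat.Presheaf.exists_germ_eq F.presheaf v
  rw [stalkMapₗ_germ, stalkMapₗ_germ, stalkMapₗ_germ]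
  rfl

theorem post_comp (g : N ⟶ N') (g' : N' ⟶ N'') : post M (g ≫ g') = post M g ≫ post M g' := by
  apply Scheme.Modules.hom_ext
  intro U
  ext t
  refine Subtype.ext (funext fun x => LinearMap.ext fun v => ?_)
  change stalkMapₗ (g ≫ g') x.1 (t.1 x v) = stalkMapₗ g' x.1 (stalkMapₗ g x.1 (t.1 x v))
  exact stalkMapₗ_comp_apply' g g' x.1 _

theorem post_ofHom (g : N ⟶ N') (φ : M ⟶ N) (U : X.Opens) :
    (post M g).app U (ofHom φ U) = ofHom (φ ≫ g) U := by
  refine Subtype.ext (funext fun x => LinearMap.ext fun v => ?_)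
  change stalkMapₗ g x.1 (stalkMapₗ φ x.1 v) = stalkMapₗ (φ ≫ g) x.1 v
  exact (stalkMapₗ_comp_apply' φ g x.1 v).symm

/-! ### global sections of the sheaf Hom are morphisms -/

theorem hom_ext_of_stalk {F G : X.Modules} (φ ψ : F ⟶ G)
    (h : ∀ (x : X) (v : F.presheaf.stalk x), stalkMapₗ φ x v = stalkMapₗ ψ x v) : φ = ψ := by
  apply Scheme.Modules.hom_ext
  intro U
  ext m
  refine eq_of_germ_eq G _ _ (fun y hy => ?_)
  rw [← stalkMapₗ_germ, ← stalkMapₗ_germ, h]

theorem ofHom_top_injective : Function.Injective (fun φ : M ⟶ N => ofHom φ (⊤ : X.Opens)) := by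
  intro φ ψ h
  refine hom_ext_of_stalk φ ψ (fun x v => ?_)
  have := congrArg (fun t : Γ(homSh M N, (⊤ : X.Opens)) => t.1 ⟨x, trivial⟩ v) h
  exact this

open Groth.Agent.Lib.Seat84.OpenRes in
theorem ofHom_top_surjective : Function.Surjective (fun φ : M ⟶ N => ofHom φ (⊤ : X.Opens)) := by
  intro t
  haveI : IsIso (ηa (⊤ : X.Opens) N) := by
    rw [Scheme.Modules.Hom.isIso_iff_isIso_app]
    intro T
    rw [ConcreteCategory.isIso_iff_bijective]
    exact η_app_bijective ⊤ N T le_top
  refine ⟨χ ⊤ t ≫ inv (ηa (⊤ : X.Opens) N), ?_⟩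
  refine Subtype.ext (funext fun x => LinearMap.ext fun v => ?_)
  change stalkMapₗ (χ ⊤ t ≫ inv (ηa (⊤ : X.Opens) N)) x.1 v = t.1 x v
  have h1 := congrArg (fun s : Γ(homSh M N, (⊤ : X.Opens)) => s.1 x v) (Θ_χ ⊤ t)
  change Θfam ⊤ (χ ⊤ t) x v = t.1 x v at h1
  rw [← h1, Θfam_apply]
  have h2 : stalkMapₗ (χ ⊤ t) x.1 v =
      stalkMapₗ (ηa (⊤ : X.Opens) N) x.1 (stalkMapₗ (χ ⊤ t ≫ inv (ηa (⊤ : X.Opens) N)) x.1 v) := by
    rw [← stalkMapₗ_comp_apply', Category.assoc, IsIso.inv_hom_id, Category.comp_id]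
  rw [h2, τ_η]

theorem ofHom_top_bijective : Function.Bijective (fun φ : M ⟶ N => ofHom φ (⊤ : X.Opens)) :=
  ⟨ofHom_top_injective, ofHom_top_surjective⟩

/-! ### scalars -/

section Scalars

variable {A : Type u} [CommRing A] [X.Over (Spec (CommRingCat.of A))]

theorem germ_sc (U : X.Opens) (x : X) (hx : x ∈ U) (a : A) :
    X.presheaf.germ U x hx (sc U a) =
      X.presheaf.germ ⊤ x trivial (Coh.toGlobal (X ↘ Spec (CommRingCat.of A)) a) :=
  TopCat.Presheaf.germ_res_apply X.presheaf (homOfLE (le_top : U ≤ ⊤)) x hx _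

theorem stalk_smul_eq_zero (a : A) (h : Formal.smulMod A N' a = 0) (x : X)
    (w : N'.presheaf.stalk x) :
    X.presheaf.germ ⊤ x trivial (Coh.toGlobal (X ↘ Spec (CommRingCat.of A)) a) • w = 0 := by
  obtain ⟨W, hW, n, rfl⟩ := TopCat.Presheaf.exists_germ_eq N'.presheaf w
  rw [← germ_sc W x hW a, ← germ_smul, ← smulMod_app, h]
  exact map_zero _

theorem smulMod_homSh_eq_zero (M : X.Modules) (a : A) (h : Formal.smulMod A N' a = 0) :
    Formal.smulMod A (homSh M N') a = 0 := by
  apply Scheme.Modules.hom_ext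
  intro U
  ext t
  change (Formal.smulMod A (homSh M N') a).app U t = 0
  rw [smulMod_app]
  refine Subtype.ext (funext fun x => LinearMap.ext fun v => ?_)
  change X.presheaf.germ U x.1 x.2 (sc U a) • t.1 x v = 0
  rw [germ_sc]
  exact stalk_smul_eq_zero a h x.1 _

end Scalars

/-! ### support -/

theorem support_homSh_subset (hM : SheafOfModules.IsFiniteType (R := X.ringCatSheaf) M)
    (hN : SheafOfModules.IsFiniteType (R := X.ringCatSheaf) N) :
    CohB1.support (homSh M N) ⊆ CohB1.support M ∩ CohB1.support N := by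
  have key : ∀ (x : X) (W : X.Opens), x ∈ W →
      (∀ (U : X.Opens) (t : Γ(homSh M N, U)) (y : U), y.1 ∈ W → t.1 y = 0) →
      Subsingleton ((homSh M N).presheaf.stalk x) := by
    intro x W hxW hW
    refine ⟨fun a b => ?_⟩
    have hz : ∀ c : (homSh M N).presheaf.stalk x, c = 0 := by
      intro c
      obtain ⟨U, hU, t, rfl⟩ := TopCat.Presheaf.exists_germ_eq (homSh M N).presheaf c
      rw [← TopCat.Presheaf.germ_res_apply (homSh M N).presheaf
        (homOfLE (inf_le_left : U ⊓ W ≤ U)) x ⟨hU, hxW⟩ t]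
      have : (homSh M N).presheaf.map (homOfLE (inf_le_left : U ⊓ W ≤ U)).op t = 0 := by
        refine Subtype.ext (funext fun y => ?_)
        exact hW U t ⟨y.1, y.2.1⟩ y.2.2
      rw [this, map_zero]
    rw [hz a, hz b]
  intro x hx
  refine ⟨?_, ?_⟩
  · by_contra hxM
    have hcl := Groth.Agent.S0020.result X M hM
    let W : X.Opens := ⟨(CohB1.support M)ᶜ, hcl.isOpen_compl⟩
    apply hx
    refine key x W hxM (fun U t y hy => ?_)
    have hs : Subsingleton (M.presheaf.stalk y.1) := not_not.mp hy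
    refine LinearMap.ext fun v => ?_
    rw [Subsingleton.elim v 0, map_zero, map_zero]
  · by_contra hxN
    have hcl := Groth.Agent.S0020.result X N hN
    let W : X.Opens := ⟨(CohB1.support N)ᶜ, hcl.isOpen_compl⟩
    apply hx
    refine key x W hxN (fun U t y hy => ?_)
    have hs : Subsingleton (N.presheaf.stalk y.1) := not_not.mp hy
    refine LinearMap.ext fun v => ?_
    exact Subsingleton.elim _ _

/-! ### affine description -/

section Affine

open Groth.Agent.Lib.Seat77.HomFP

variable (M N) [M.IsQuasicoherent] {V : X.Opens} (hV : IsAffineOpen V)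
  {n m : ℕ} (f : (Fin n → Γ(X, V)) →ₗ[Γ(X, V)] Γ(M, V))
  (g : (Fin m → Γ(X, V)) →ₗ[Γ(X, V)] (Fin n → Γ(X, V))) (hf : Function.Surjective f)
  (hfg : Function.Exact g f)

/-- the values of a section of the sheaf Hom on the generators. -/
noncomputable def tupₗ : Γ(homSh M N, V) →ₗ[Γ(X, V)] (Fin n → Γ(N, V)) where
  toFun t i := homApp M N t (f (Pi.single i 1))
  map_add' t t' := funext fun _ => homApp_add_left t t' _
  map_smul' r t := funext fun _ => homApp_smul_left r t _

theorem tupₗ_apply (t : Γ(homSh M N, V)) (i : Fin n) :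
    tupₗ M N f t i = homApp M N t (f (Pi.single i 1)) := rfl

include hV hf in
theorem tup_injective : Function.Injective (tupₗ M N f) := by
  rw [injective_iff_map_eq_zero]
  intro t ht
  apply Subtype.ext
  funext y
  change t.1 y = 0
  apply LinearMap.ext_on (span_germ_eq_top M hV f hf y.1 y.2)
  rintro _ ⟨i, rfl⟩
  rw [LinearMap.zero_apply, ← germ_homApp]
  have : homApp M N t (f (Pi.single i 1)) = 0 := congrFun ht i
  rw [this, map_zero]

/-- the relations. -/
noncomputable def relMap : (Fin n → Γ(N, V)) →ₗ[Γ(X, V)] (Fin m → Γ(N, V)) where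
  toFun p k := ∑ i, g (Pi.single k 1) i • p i
  map_add' p p' := funext fun k => by
    simp only [Pi.add_apply, smul_add, Finset.sum_add_distrib]
  map_smul' r p := funext fun k => by
    simp only [Pi.smul_apply, RingHom.id_apply, Finset.smul_sum]
    exact Finset.sum_congr rfl fun i _ => smul_comm _ _ _

theorem relMap_apply (p : Fin n → Γ(N, V)) (k : Fin m) :
    relMap N g p k = ∑ i, g (Pi.single k 1) i • p i := rfl

include hfg in
theorem relMap_tup (t : Γ(homSh M N, V)) : relMap N g (tupₗ M N f t) = 0 := by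
  funext k
  rw [relMap_apply]
  simp only [tupₗ_apply]
  rw [← homApp_sum_right, sum_rel M f g hfg k, homApp_zero_right]
  rfl

include hV hf hfg in
theorem exists_of_relMap_eq_zero (p : Fin n → Γ(N, V)) (hp : relMap N g p = 0) :
    ∃ t : Γ(homSh M N, V), tupₗ M N f t = p := by
  have hp' : ∀ (y : X) (hy : y ∈ V) (k : Fin m),
      ∑ i, X.presheaf.germ V y hy (g (Pi.single k 1) i) • N.presheaf.germ V y hy (p i) = 0 := by
    intro y hy k
    rw [← germ_sum_smul]
    have := congrFun hp k
    rw [relMap_apply] at this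
    rw [this]
    exact map_zero _
  have hfam : ∀ y : V, ∃ h : StalkHom M N y.1, ∀ i,
      h (M.presheaf.germ V y.1 y.2 (f (Pi.single i 1))) = N.presheaf.germ V y.1 y.2 (p i) := fun y =>
    exists_stalkHom M N hV f g hf hfg y.1 y.2 (fun i => N.presheaf.germ V y.1 y.2 (p i))
      (hp' y.1 y.2)
  choose fam hfam using hfam
  have hloc : IsLocSect M N fam :=
    isLocSect_of_generators (fun i => f (Pi.single i 1))
      (fun y hy => span_germ_eq_top M hV f hf y hy) p fam hfam
  let t : Γ(homSh M N, V) := ⟨fam, hloc⟩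
  refine ⟨t, funext fun i => ?_⟩
  refine eq_of_germ_eq N _ _ (fun y hy => ?_)
  have h1 : tupₗ M N f t i = homApp M N t (f (Pi.single i 1)) := rfl
  rw [h1, germ_homApp]
  exact hfam ⟨y, hy⟩ i

theorem tup_post (g' : N ⟶ N') (t : Γ(homSh M N, V)) (i : Fin n) :
    tupₗ M N' f ((post M g').app V t) i = g'.app V (tupₗ M N f t i) :=
  homApp_post g' t _

end Affine

end Groth.Agent.Lib.Seat54.HomPost
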