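import Mathlib
import Groth.Agent.Lib.Seat54HomPost
import Groth.Agent.Lib.Seat54ARAlg
import Groth.Agent.Lib.Seat54FFSupp

/-!
# Full faithfulness of the completion functor on coherent modules (seat 54)

`X` Noetherian over a Noetherian ring `A`, `I` an ideal, `M`, `N` coherent.
* `θ 𝔞 : Q 𝔞 (homSh M N) ⟶ homSh M (Q 𝔞 N)`;
* `exists_AR1`, `exists_AR2`: Artin–Rees for the sheaf Hom over an affine open;
* `exists_global_ker`, `exists_global_coker`: the global forms;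
* `existsUnique_hom_of_compat`: if `A` is `I`-adically complete and `Supp M ∩ Supp N` is proper over
  `A`, every compatible family `M ⟶ N/I^(n+1)N` comes from a unique `M ⟶ N`.
-/

set_option autoImplicit false
set_option linter.style.haveILetI false
set_option linter.unusedSectionVars false
universe u
open CategoryTheory CategoryTheory.Limits AlgebraicGeometry Opposite TopologicalSpace

namespace Groth.Agent.Lib.Seat54.HomFF

open RefHull Groth.Agent.Lib.Seat54.FFQuot Groth.Agent.Lib.Seat54.QSec Groth.Agent.Lib.Seat54.HomPost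
  Groth.Agent.Lib.Seat54.ARAlg Groth.Agent.S8821 Groth.Agent.Lib.Seat75.HomCoh

variable {A : Type u} [CommRing A] {X : Scheme.{u}} [X.Over (Spec (CommRingCat.of A))]

/-! ### the comparison map -/

/-- `𝓗om(M,N)/𝔞 ⟶ 𝓗om(M, N/𝔞N)` -/
noncomputable def θ (𝔞 : Ideal A) (M N : X.Modules) : Q 𝔞 (homSh M N) ⟶ homSh M (Q 𝔞 N) :=
  qDesc 𝔞 (post M (qπ 𝔞 N)) (fun a ha => by
    rw [smulMod_comp, smulMod_homSh_eq_zero M a (smulMod_Q_eq_zero 𝔞 N a ha), comp_zero])

@[reassoc]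
theorem qπ_θ (𝔞 : Ideal A) (M N : X.Modules) : qπ 𝔞 (homSh M N) ≫ θ 𝔞 M N = post M (qπ 𝔞 N) :=
  qπ_qDesc _ _ _

@[reassoc]
theorem θ_qLE {𝔞 𝔟 : Ideal A} (h : 𝔞 ≤ 𝔟) (M N : X.Modules) :
    θ 𝔞 M N ≫ post M (qLE h N) = qLE h (homSh M N) ≫ θ 𝔟 M N := by
  rw [← cancel_epi (qπ 𝔞 (homSh M N)), qπ_θ_assoc, ← post_comp, qπ_qLE, ← Category.assoc, qπ_qLE,
    qπ_θ]

theorem qπ_θ_app (𝔞 : Ideal A) (M N : X.Modules) (V : X.Opens) (t : Γ(homSh M N, V)) :
    (θ 𝔞 M N).app V ((qπ 𝔞 (homSh M N)).app V t) = (post M (qπ 𝔞 N)).app V t :=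
  congrArg (fun φ : homSh M N ⟶ homSh M (Q 𝔞 N) => φ.app V t) (qπ_θ 𝔞 M N)

theorem post_comp_app {N N' N'' : X.Modules} (M : X.Modules) (g : N ⟶ N') (g' : N' ⟶ N'')
    (V : X.Opens) (t : Γ(homSh M N, V)) :
    (post M g').app V ((post M g).app V t) = (post M (g ≫ g')).app V t :=
  (congrArg (fun φ : homSh M N ⟶ homSh M N'' => φ.app V t) (post_comp (M := M) g g')).symm

theorem qπ_qLE_app {𝔞 𝔟 : Ideal A} (h : 𝔞 ≤ 𝔟) (F : X.Modules) (V : X.Opens) (t : Γ(F, V)) :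
    (qLE h F).app V ((qπ 𝔞 F).app V t) = (qπ 𝔟 F).app V t :=
  congrArg (fun φ : F ⟶ Q 𝔟 F => φ.app V t) (qπ_qLE h F)

/-! ### submodules of tuples -/

section Pi

variable {B : Type*} [CommRing B] {P : Type*} [AddCommGroup P] [Module B P] (J : Ideal B) {n : ℕ}

theorem pi_mem_smul_top (p : Fin n → P) (hp : ∀ i, p i ∈ J • (⊤ : Submodule B P)) :
    p ∈ J • (⊤ : Submodule B (Fin n → P)) := by
  have h1 : p = ∑ i, LinearMap.single B (fun _ : Fin n => P) i (p i) := by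
    funext j
    simp [Finset.sum_apply, Pi.single_apply]
  rw [h1]
  refine Submodule.sum_mem _ fun i _ => ?_
  have h2 : Submodule.map (LinearMap.single B (fun _ : Fin n => P) i) (J • ⊤) ≤ J • ⊤ := by
    rw [Submodule.map_smul'']
    exact Submodule.smul_mono le_rfl le_top
  exact h2 ⟨_, hp i, rfl⟩

theorem mem_smul_top_of_pi (p : Fin n → P) (hp : p ∈ J • (⊤ : Submodule B (Fin n → P))) (i : Fin n) :
    p i ∈ J • (⊤ : Submodule B P) := by
  have h2 : Submodule.map (LinearMap.proj (R := B) (φ := fun _ : Fin n => P) i) (J • ⊤) ≤ J • ⊤ := by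
    rw [Submodule.map_smul'']
    exact Submodule.smul_mono le_rfl le_top
  exact h2 ⟨_, hp, rfl⟩

end Pi

/-! ### Artin–Rees for the sheaf Hom over an affine open -/

section Affine

variable [IsNoetherianRing A] [IsLocallyNoetherian X] (I : Ideal A) (M N : X.Modules)
  (hM : Coh.IsCoh M) (hN : Coh.IsCoh N)

include hM hN in
theorem exists_AR1 {V : X.Opens} (hV : IsAffineOpen V) :
    ∃ c : ℕ, ∀ (k : ℕ) (𝔟 : Ideal A), 𝔟 ≤ I ^ (k + c) → ∀ t : Γ(homSh M N, V),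
      (post M (qπ 𝔟 N)).app V t = 0 → (qπ (I ^ k) (homSh M N)).app V t = 0 := by
  haveI := hM.1
  haveI := hM.2
  haveI := hN.1
  haveI := hN.2
  haveI : IsNoetherianRing Γ(X, V) := IsLocallyNoetherian.component_noetherian ⟨V, hV⟩
  haveI : SheafOfModules.IsFinitePresentation (R := X.ringCatSheaf) M :=
    Groth.Agent.Lib.Helper23.FinType.isFinitePresentation_of_isFiniteType M
  haveI : Module.FinitePresentation Γ(X, V) Γ(M, V) :=
    Groth.Agent.Lib.Helper2.FPAff.finitePresentation_sections M hV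
  haveI : Module.Finite Γ(X, V) Γ(N, V) :=
    Groth.Agent.Lib.Helper23.FinType.finite_of_isFiniteType N hV
  obtain ⟨n, m, f, g, hf, hfg⟩ := Module.FinitePresentation.exists_fin' Γ(X, V) Γ(M, V)
  obtain ⟨c, hc⟩ := exists_ker (JV I V) (relMap N g)
  refine ⟨c, fun k 𝔟 h𝔟 t ht => ?_⟩
  -- reduce to `𝔟 = I^(k+c)`
  have ht' : (post M (qπ (I ^ (k + c)) N)).app V t = 0 := by
    rw [← qπ_qLE h𝔟 N, ← post_comp_app, ht]
    exact map_zero _
  -- the tuple of `t`
  have h1 : ∀ i, tupₗ M N f t i ∈ JV I V ^ (k + c) • (⊤ : Submodule Γ(X, V) Γ(N, V)) := by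
    intro i
    rw [← JV_pow]
    refine mem_of_qπ_app_eq_zero (I ^ (k + c)) N hV _ ?_
    rw [← tup_post, ht', map_zero]
    rfl
  have h2 := hc k (tupₗ M N f t) (relMap_tup M N f g hfg t) (pi_mem_smul_top _ _ h1)
  have hrange : LinearMap.ker (relMap N g) = LinearMap.range (tupₗ M N f) := by
    ext p
    constructor
    · intro hp
      obtain ⟨t', ht'⟩ := exists_of_relMap_eq_zero M N hV f g hf hfg p hp
      exact ⟨t', ht'⟩
    · rintro ⟨t', rfl⟩
      exact relMap_tup M N f g hfg t'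
  rw [hrange, ← Submodule.map_top, ← Submodule.map_smul''] at h2
  obtain ⟨t', ht'mem, ht'eq⟩ := h2
  have h3 : t' = t := tup_injective M N hV f hf ht'eq
  rw [h3] at ht'mem
  refine qπ_app_eq_zero_of_mem (I ^ k) (homSh M N) V t ?_
  rw [JV_pow]
  exact ht'mem

include hM hN in
theorem exists_AR2 {V : X.Opens} (hV : IsAffineOpen V) :
    ∃ c : ℕ, ∀ (k : ℕ) (𝔟 : Ideal A) (h𝔟 : 𝔟 ≤ I ^ (k + c)) (y : Γ(homSh M (Q 𝔟 N), V)),
      ∃ t : Γ(homSh M N, V), (post M (qπ (I ^ k) N)).app V t =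
        (post M (qLE (h𝔟.trans (Ideal.pow_le_pow_right (Nat.le_add_right k c))) N)).app V y := by
  haveI := hM.1
  haveI := hM.2
  haveI := hN.1
  haveI := hN.2
  haveI : IsNoetherianRing Γ(X, V) := IsLocallyNoetherian.component_noetherian ⟨V, hV⟩
  haveI : SheafOfModules.IsFinitePresentation (R := X.ringCatSheaf) M :=
    Groth.Agent.Lib.Helper23.FinType.isFinitePresentation_of_isFiniteType M
  haveI : Module.FinitePresentation Γ(X, V) Γ(M, V) :=
    Groth.Agent.Lib.Helper2.FPAff.finitePresentation_sections M hV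
  haveI : Module.Finite Γ(X, V) Γ(N, V) :=
    Groth.Agent.Lib.Helper23.FinType.finite_of_isFiniteType N hV
  obtain ⟨n, m, f, g, hf, hfg⟩ := Module.FinitePresentation.exists_fin' Γ(X, V) Γ(M, V)
  obtain ⟨c, hc⟩ := exists_range (JV I V) (relMap N g)
  refine ⟨c, fun k 𝔟 h𝔟 y => ?_⟩
  -- lift the tuple of `y`
  have hsurj := qπ_app_surjective 𝔟 N hV
  choose ν hν using fun i => hsurj (tupₗ M (Q 𝔟 N) f y i)
  -- the relations hold modulo `𝔟`
  have h1 : ∀ l, (qπ 𝔟 N).app V (relMap N g ν l) = 0 := by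
    intro l
    rw [relMap_apply, map_sum]
    have h2 : ∀ i, (qπ 𝔟 N).app V (g (Pi.single l 1) i • ν i) =
        g (Pi.single l 1) i • tupₗ M (Q 𝔟 N) f y i := by
      intro i
      rw [← hν i]
      exact Scheme.Modules.Hom.app_smul _ _ _
    rw [Finset.sum_congr rfl (fun i _ => h2 i)]
    exact congrFun (relMap_tup M (Q 𝔟 N) f g hfg y) l
  have h3 : relMap N g ν ∈ JV I V ^ (k + c) • (⊤ : Submodule Γ(X, V) (Fin m → Γ(N, V))) := by
    refine pi_mem_smul_top _ _ (fun l => ?_)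
    rw [← JV_pow]
    refine mem_of_qπ_app_eq_zero (I ^ (k + c)) N hV _ ?_
    rw [← qπ_qLE_app h𝔟, h1 l]
    exact map_zero _
  obtain ⟨ν', hν'mem, hν'eq⟩ := hc k ν h3
  have h4 : relMap N g (ν - ν') = 0 := by rw [map_sub, hν'eq, sub_self]
  obtain ⟨t, ht⟩ := exists_of_relMap_eq_zero M N hV f g hf hfg (ν - ν') h4
  refine ⟨t, ?_⟩
  apply tup_injective M (Q (I ^ k) N) hV f hf
  funext i
  rw [tup_post, tup_post, ht, ← hν i, qπ_qLE_app]
  change (qπ (I ^ k) N).app V (ν i - ν' i) = _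
  rw [map_sub]
  have h5 : (qπ (I ^ k) N).app V (ν' i) = 0 := by
    refine qπ_app_eq_zero_of_mem (I ^ k) N V _ ?_
    rw [JV_pow]
    exact mem_smul_top_of_pi _ _ hν'mem i
  rw [h5, sub_zero]

end Affine

/-! ### gluing helpers -/

section Glue

open Groth.Agent.Lib.Helper6

theorem exists_fin_affine_cover (U : X.Opens) (hU : IsCompact (U : Set X)) :
    ∃ (n : ℕ) (W : Fin n → X.Opens), (∀ k, IsAffineOpen (W k)) ∧ ⨆ k, W k = U := by
  obtain ⟨s, hs, e⟩ := isCompact_iff_finite_and_eq_biUnion_affineOpens.mp hU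
  have := hs.to_subtype
  obtain ⟨n, ⟨eq⟩⟩ := Finite.exists_equiv_fin s
  refine ⟨n, fun k => ((eq.symm k).1 : X.Opens), fun k => (eq.symm k).1.2, ?_⟩
  rw [e]
  apply le_antisymm
  · refine iSup_le fun k => ?_
    exact le_iSup₂_of_le (eq.symm k).1 (eq.symm k).2 le_rfl
  · refine iSup₂_le fun i hi => ?_
    refine le_iSup_of_le (eq ⟨i, hi⟩) ?_
    simp

theorem eq_of_cover (F : X.Modules) (U : X.Opens) {r : ℕ} (W : Fin r → X.Opens)
    (hle : ∀ j, W j ≤ U) (hcov : U ≤ ⨆ j, W j) (s t : Γ(F, U))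
    (h : ∀ j, res F (hle j) s = res F (hle j) t) : s = t :=
  (modSheaf F).eq_of_locally_eq' W U (fun j => homOfLE (hle j)) hcov s t h

theorem exists_glue (F : X.Modules) {r : ℕ} (W : Fin r → X.Opens) (hcov : (⊤ : X.Opens) ≤ ⨆ j, W j)
    (sf : ∀ j, Γ(F, W j))
    (hcompat : ∀ i j, res F (inf_le_left : W i ⊓ W j ≤ W i) (sf i) =
      res F (inf_le_right : W i ⊓ W j ≤ W j) (sf j)) :
    ∃ s : Γ(F, (⊤ : X.Opens)), ∀ j, res F (le_top : W j ≤ ⊤) s = sf j := by
  obtain ⟨s, hs, -⟩ := (modSheaf F).existsUnique_gluing' W ⊤ (fun j => homOfLE le_top) hcov sf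
    (fun i j => hcompat i j)
  exact ⟨s, hs⟩

theorem app_res {F G : X.Modules} (φ : F ⟶ G) {U V : X.Opens} (h : V ≤ U) (s : Γ(F, U)) :
    φ.app V (res F h s) = res G h (φ.app U s) :=
  Groth.Agent.Lib.Helper2.ModExact.app_map φ (homOfLE h) s

end Glue

/-! ### the global Artin–Rees statements -/

section Global

open Groth.Agent.Lib.Helper6

variable [IsNoetherianRing A] [IsNoetherian X] (I : Ideal A) (M N : X.Modules)
  (hM : Coh.IsCoh M) (hN : Coh.IsCoh N)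

include hM hN in
theorem exists_global_ker :
    ∃ c : ℕ, ∀ (k : ℕ) (𝔟 : Ideal A) (h𝔟 : 𝔟 ≤ I ^ (k + c)) (x : Γ(Q 𝔟 (homSh M N), (⊤ : X.Opens))),
      (θ 𝔟 M N).app ⊤ x = 0 →
      (qLE (h𝔟.trans (Ideal.pow_le_pow_right (Nat.le_add_right k c))) (homSh M N)).app ⊤ x = 0 := by
  haveI hℋ : (homSh M N).IsQuasicoherent := (isCoh_homSh M N hM hN).1
  obtain ⟨r, W, hW, hcov⟩ := exists_fin_affine_cover (⊤ : X.Opens) isCompact_univ
  choose c hc using fun j => exists_AR1 I M N hM hN (hW j)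
  refine ⟨∑ j, c j, fun k 𝔟 h𝔟 x hx => ?_⟩
  refine eq_of_cover _ ⊤ W (fun _ => le_top) hcov.ge _ _ (fun j => ?_)
  rw [res_zero]
  obtain ⟨t, ht⟩ := qπ_app_surjective 𝔟 (homSh M N) (hW j) (res _ le_top x)
  have hle : c j ≤ ∑ j, c j := Finset.single_le_sum (fun _ _ => Nat.zero_le _) (Finset.mem_univ j)
  have h1 : (post M (qπ 𝔟 N)).app (W j) t = 0 := by
    rw [← qπ_θ_app, ht, app_res, hx, res_zero]
  have h2 := hc j k 𝔟 (h𝔟.trans (Ideal.pow_le_pow_right (by omega))) t h1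
  rw [← app_res, ← ht, qπ_qLE_app]
  exact h2

include hM hN in
theorem exists_global_coker :
    ∃ c : ℕ, ∀ (k : ℕ) (𝔟 : Ideal A) (h𝔟 : 𝔟 ≤ I ^ (k + c)) (y : Γ(homSh M (Q 𝔟 N), (⊤ : X.Opens))),
      ∃ x : Γ(Q (I ^ k) (homSh M N), (⊤ : X.Opens)), (θ (I ^ k) M N).app ⊤ x =
        (post M (qLE (h𝔟.trans (Ideal.pow_le_pow_right (Nat.le_add_right k c))) N)).app ⊤ y := by
  haveI hℋ : (homSh M N).IsQuasicoherent := (isCoh_homSh M N hM hN).1
  obtain ⟨r, W, hW, hcov⟩ := exists_fin_affine_cover (⊤ : X.Opens) isCompact_univ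
  have hcpt : ∀ U : X.Opens, IsCompact (U : Set X) := fun U =>
    TopologicalSpace.NoetherianSpace.isCompact _
  choose rr WW hWW hWWcov using fun i j => exists_fin_affine_cover (W i ⊓ W j) (hcpt _)
  choose c2 hc2 using fun j => exists_AR2 I M N hM hN (hW j)
  choose c1 hc1 using fun i j l => exists_AR1 I M N hM hN (hWW i j l)
  set C1 := ∑ i, ∑ j, ∑ l, c1 i j l with hC1
  set C2 := ∑ j, c2 j with hC2
  have hc1le : ∀ i j l, c1 i j l ≤ C1 := fun i j l =>
    (Finset.single_le_sum (f := fun l => c1 i j l) (fun _ _ => Nat.zero_le _) (Finset.mem_univ l)).trans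
      ((Finset.single_le_sum (f := fun j => ∑ l, c1 i j l) (fun _ _ => Nat.zero_le _)
        (Finset.mem_univ j)).trans
      (Finset.single_le_sum (f := fun i => ∑ j, ∑ l, c1 i j l) (fun _ _ => Nat.zero_le _)
        (Finset.mem_univ i)))
  have hc2le : ∀ j, c2 j ≤ C2 := fun j =>
    Finset.single_le_sum (f := fun j => c2 j) (fun _ _ => Nat.zero_le _) (Finset.mem_univ j)
  refine ⟨C1 + C2, fun k 𝔟 h𝔟 y => ?_⟩
  -- local lifts
  have h𝔟1 : 𝔟 ≤ I ^ (k + C1) := h𝔟.trans (Ideal.pow_le_pow_right (by omega))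
  have hlift : ∀ j, ∃ t : Γ(homSh M N, W j), (post M (qπ (I ^ (k + C1)) N)).app (W j) t =
      (post M (qLE h𝔟1 N)).app (W j) (res _ le_top y) := by
    intro j
    obtain ⟨t, ht⟩ := hc2 j (k + C1) 𝔟 (h𝔟.trans (Ideal.pow_le_pow_right (by have := hc2le j; omega)))
      (res _ le_top y)
    exact ⟨t, ht⟩
  choose t ht using hlift
  -- glue
  have hcompat : ∀ i j, res (Q (I ^ k) (homSh M N)) (inf_le_left : W i ⊓ W j ≤ W i)
        ((qπ (I ^ k) (homSh M N)).app (W i) (t i)) =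
      res (Q (I ^ k) (homSh M N)) (inf_le_right : W i ⊓ W j ≤ W j)
        ((qπ (I ^ k) (homSh M N)).app (W j) (t j)) := by
    intro i j
    have hle : ∀ l, WW i j l ≤ W i ⊓ W j := fun l => (hWWcov i j) ▸ le_iSup (WW i j) l
    refine eq_of_cover _ (W i ⊓ W j) (WW i j) hle (hWWcov i j).ge _ _ (fun l => ?_)
    rw [res_res, res_res, ← app_res, ← app_res, ← sub_eq_zero, ← map_sub]
    refine hc1 i j l k (I ^ (k + C1)) (Ideal.pow_le_pow_right (by have := hc1le i j l; omega)) _ ?_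
    rw [map_sub, app_res, app_res, ht i, ht j, ← app_res, ← app_res, res_res, res_res, sub_self]
  obtain ⟨x, hx⟩ := exists_glue (Q (I ^ k) (homSh M N)) W hcov.ge
    (fun j => (qπ (I ^ k) (homSh M N)).app (W j) (t j)) hcompat
  refine ⟨x, ?_⟩
  refine eq_of_cover _ ⊤ W (fun _ => le_top) hcov.ge _ _ (fun j => ?_)
  rw [← app_res, hx j, qπ_θ_app, ← app_res,
    ← qπ_qLE (Ideal.pow_le_pow_right (Nat.le_add_right k C1) : I ^ (k + C1) ≤ I ^ k) N,
    ← post_comp_app, ht j, post_comp_app, qLE_qLE]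

end Global

/-! ### the towers and the main theorem -/

section Main

variable [IsNoetherianRing A] [IsNoetherian X] (I : Ideal A) (M N : X.Modules)

theorem post_refl_app (𝔞 : Ideal A) (h : 𝔞 ≤ 𝔞) (V : X.Opens) (t : Γ(homSh M (Q 𝔞 N), V)) :
    (post M (qLE h N)).app V t = t := by
  refine Subtype.ext (funext fun x => LinearMap.ext fun v => ?_)
  change stalkMapₗ (qLE h N) x.1 (t.1 x v) = t.1 x v
  have h1 : qLE h N = 𝟙 _ := qLE_refl 𝔞 N
  rw [h1]
  obtain ⟨U, hU, m, hm⟩ := TopCat.Presheaf.exists_germ_eq (Q 𝔞 N).presheaf (t.1 x v)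
  rw [← hm, stalkMapₗ_germ]
  rfl

/-- the tower `n ↦ Γ(X, 𝓗om(M,N)/I^(n+1))` -/
@[reducible] noncomputable def towerS : Tower where
  G n := Γ(Q (I ^ (n + 1)) (homSh M N), (⊤ : X.Opens))
  r {m n} h := ((qLE (Ideal.pow_le_pow_right (Nat.succ_le_succ h)) (homSh M N)).app ⊤).hom
  r_refl n x := by
    have h1 : qLE (Ideal.pow_le_pow_right (Nat.succ_le_succ (le_refl n))) (homSh M N) = 𝟙 _ :=
      qLE_refl (I ^ (n + 1)) (homSh M N)
    exact congrArg (fun φ : Q (I ^ (n + 1)) (homSh M N) ⟶ Q (I ^ (n + 1)) (homSh M N) => φ.app ⊤ x) h1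
  r_trans {l m n} h1 h2 x :=
    congrArg (fun φ : Q (I ^ (l + 1)) (homSh M N) ⟶ Q (I ^ (n + 1)) (homSh M N) => φ.app ⊤ x)
      (qLE_qLE (Ideal.pow_le_pow_right (Nat.succ_le_succ h1))
        (Ideal.pow_le_pow_right (Nat.succ_le_succ h2)) (homSh M N))

/-- the tower `n ↦ Γ(X, 𝓗om(M, N/I^(n+1)N))` -/
@[reducible] noncomputable def towerT : Tower where
  G n := Γ(homSh M (Q (I ^ (n + 1)) N), (⊤ : X.Opens))
  r {m n} h := ((post M (qLE (Ideal.pow_le_pow_right (Nat.succ_le_succ h)) N)).app ⊤).hom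
  r_refl n x := post_refl_app M N (I ^ (n + 1)) _ ⊤ x
  r_trans {l m n} h1 h2 x := by
    have := post_comp_app M (qLE (Ideal.pow_le_pow_right (Nat.succ_le_succ h1)) N)
      (qLE (Ideal.pow_le_pow_right (Nat.succ_le_succ h2)) N) ⊤ x
    rw [qLE_qLE] at this
    exact this

theorem towerS_r {m n : ℕ} (h : n ≤ m) (x : Γ(Q (I ^ (m + 1)) (homSh M N), (⊤ : X.Opens))) :
    (towerS I M N).r h x =
      (qLE (Ideal.pow_le_pow_right (Nat.succ_le_succ h)) (homSh M N)).app ⊤ x := rfl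

theorem towerT_r {m n : ℕ} (h : n ≤ m) (x : Γ(homSh M (Q (I ^ (m + 1)) N), (⊤ : X.Opens))) :
    (towerT I M N).r h x =
      (post M (qLE (Ideal.pow_le_pow_right (Nat.succ_le_succ h)) N)).app ⊤ x := rfl

variable (hM : Coh.IsCoh M) (hN : Coh.IsCoh N)

include hM hN in
theorem tower_bijective :
    (∀ x : ∀ n, (towerS I M N).G n, (towerS I M N).Compat x →
      (∀ n, (θ (I ^ (n + 1)) M N).app ⊤ (x n) = 0) → ∀ n, x n = 0) ∧
    (∀ y : ∀ n, (towerT I M N).G n, (towerT I M N).Compat y →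
      ∃ x : ∀ n, (towerS I M N).G n, (towerS I M N).Compat x ∧
        ∀ n, (θ (I ^ (n + 1)) M N).app ⊤ (x n) = y n) := by
  obtain ⟨ca, hca⟩ := exists_global_ker I M N hM hN
  obtain ⟨cb, hcb⟩ := exists_global_coker I M N hM hN
  refine bijective_lim_of_AR (towerS I M N) (towerT I M N)
    (fun n => ((θ (I ^ (n + 1)) M N).app ⊤).hom) ?_ (ca + cb) ?_ ?_
  · intro m n h x
    exact (congrArg (fun φ : Q (I ^ (m + 1)) (homSh M N) ⟶ homSh M (Q (I ^ (n + 1)) N) => φ.app ⊤ x)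
      (θ_qLE (Ideal.pow_le_pow_right (Nat.succ_le_succ h)) M N)).symm
  · intro n x hx
    exact hca (n + 1) (I ^ (n + (ca + cb) + 1)) (Ideal.pow_le_pow_right (by omega)) x hx
  · intro n y
    exact hcb (n + 1) (I ^ (n + (ca + cb) + 1)) (Ideal.pow_le_pow_right (by omega)) y

include hM hN in
/-- **Full faithfulness of completion** (complete base, supports meeting in a proper closed subset). -/
theorem existsUnique_hom_of_compat [IsAdicComplete I A]
    (hs : ClSub.IsProperOver (X ↘ Spec (CommRingCat.of A)) (CohB1.support M ∩ CohB1.support N))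
    (y : ∀ n : ℕ, M ⟶ Q (I ^ (n + 1)) N)
    (hy : ∀ n, y (n + 1) ≫ qLE (Ideal.pow_le_pow_right (Nat.le_succ (n + 1))) N = y n) :
    ∃! φ : M ⟶ N, ∀ n, φ ≫ qπ (I ^ (n + 1)) N = y n := by
  have hℋ : Coh.IsCoh (homSh M N) := isCoh_homSh M N hM hN
  have hsupp : ClSub.IsProperOver (X ↘ Spec (CommRingCat.of A)) (CohB1.support (homSh M N)) :=
    Groth.Agent.Lib.Seat3.ShriekSheaf.isProperOver_of_subset _ hs
      (Groth.Agent.S0020.result X _ hℋ.2) (support_homSh_subset hM.2 hN.2)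
  have hFF := Groth.Agent.Lib.Seat54.FFSupp.bijective_toHHlim_of_properSupport A I (homSh M N)
    hℋ hsupp 0
  obtain ⟨hinj, hsurj⟩ := tower_bijective I M N hM hN
  -- identification of `H^0` with global sections
  let e : Coh.HH X (homSh M N) 0 ≃+ Γ(homSh M N, (⊤ : X.Opens)) :=
    Sheaf.H.equiv₀ (Coh.toAb (homSh M N)) Limits.isTerminalTop
  let en : ∀ n : ℕ, Coh.HH X (Formal.modPow I (n + 1) (homSh M N)) 0 ≃+
      Γ(Q (I ^ (n + 1)) (homSh M N), (⊤ : X.Opens)) := fun n =>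
    Sheaf.H.equiv₀ (Coh.toAb (Q (I ^ (n + 1)) (homSh M N))) Limits.isTerminalTop
  have nat1 : ∀ (n : ℕ) (x : Coh.HH X (homSh M N) 0),
      en n (Formal.toHHmodPow I (homSh M N) 0 n x) = (qπ (I ^ (n + 1)) (homSh M N)).app ⊤ (e x) :=
    fun n x => (Sheaf.H.equiv₀_naturality Limits.isTerminalTop
      ((SheafOfModules.toSheaf _).map (Formal.modPowπ I (n + 1) (homSh M N))) x).symm
  have nat2 : ∀ (n : ℕ) (z : Γ(Q (I ^ (n + 1 + 1)) (homSh M N), (⊤ : X.Opens))),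
      Formal.HHmodPowTrans I (homSh M N) 0 n ((en (n + 1)).symm z) =
        (en n).symm ((towerS I M N).r (Nat.le_succ n) z) := by
    intro n z
    have h1 := Sheaf.H.equiv₀_symm_naturality Limits.isTerminalTop
      ((SheafOfModules.toSheaf _).map (Formal.modPowTrans I (n + 1) (homSh M N))) z
    rw [modPowTrans_eq] at h1
    exact h1
  -- the compatible family attached to a morphism
  have hu : ∀ (φ : M ⟶ N), (towerS I M N).Compat
      (fun n => (qπ (I ^ (n + 1)) (homSh M N)).app ⊤ (ofHom φ ⊤)) := by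
    intro φ n
    rw [towerS_r]
    exact qπ_qLE_app _ _ _ _
  have hθu : ∀ (φ : M ⟶ N) (n : ℕ), (θ (I ^ (n + 1)) M N).app ⊤
      ((qπ (I ^ (n + 1)) (homSh M N)).app ⊤ (ofHom φ ⊤)) = ofHom (φ ≫ qπ (I ^ (n + 1)) N) ⊤ := by
    intro φ n
    rw [qπ_θ_app, post_ofHom]
  -- existence
  have hv : (towerT I M N).Compat (fun n => ofHom (y n) (⊤ : X.Opens)) := by
    intro n
    rw [towerT_r, post_ofHom]
    exact congrArg (fun ψ => ofHom ψ (⊤ : X.Opens)) (hy n)
  obtain ⟨u, hucompat, huθ⟩ := hsurj _ hv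
  let z : Formal.HHlim I (homSh M N) 0 := ⟨fun n => (en n).symm (u n), fun n =>
    (nat2 n (u (n + 1))).trans (congrArg (en n).symm (hucompat n))⟩
  obtain ⟨x, hx⟩ := hFF.2 z
  have hx' : ∀ n, Formal.toHHmodPow I (homSh M N) 0 n x = (en n).symm (u n) := fun n =>
    congrArg (fun w : Formal.HHlim I (homSh M N) 0 => w.1 n) hx
  obtain ⟨φ, hφ⟩ := ofHom_top_surjective (e x)
  change ofHom φ ⊤ = e x at hφ
  have hφy : ∀ n, φ ≫ qπ (I ^ (n + 1)) N = y n := by
    intro n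
    apply ofHom_top_injective
    change ofHom (φ ≫ qπ (I ^ (n + 1)) N) ⊤ = ofHom (y n) ⊤
    rw [← hθu, hφ, ← nat1, hx']
    exact (congrArg (fun w => (θ (I ^ (n + 1)) M N).app ⊤ w) ((en n).apply_symm_apply (u n))).trans
      (huθ n)
  refine ⟨φ, hφy, fun φ' hφ' => ?_⟩
  -- uniqueness
  apply ofHom_top_injective
  change ofHom φ' ⊤ = ofHom φ ⊤
  apply e.symm.injective
  apply hFF.1
  refine Subtype.ext (funext fun n => ?_)
  change Formal.toHHmodPow I (homSh M N) 0 n (e.symm (ofHom φ' ⊤)) =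
    Formal.toHHmodPow I (homSh M N) 0 n (e.symm (ofHom φ ⊤))
  apply (en n).injective
  rw [nat1, nat1, AddEquiv.apply_symm_apply, AddEquiv.apply_symm_apply, ← sub_eq_zero]
  have hd := hinj (fun n => (qπ (I ^ (n + 1)) (homSh M N)).app ⊤ (ofHom φ' ⊤) -
      (qπ (I ^ (n + 1)) (homSh M N)).app ⊤ (ofHom φ ⊤)) ?_ ?_ n
  · exact hd
  · intro k
    exact (map_sub ((towerS I M N).r (Nat.le_succ k)) _ _).trans
      (congrArg₂ (· - ·) (hu φ' k) (hu φ k))
  · intro k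
    rw [map_sub, hθu, hθu, hφ' k, hφy k, sub_self]

end Main

end Groth.Agent.Lib.Seat54.HomFF
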