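import Mathlib

/-!
# Monomial ideals `(X_i^n)` in a polynomial ring and the "reversal" coefficient maps (seat 54)
-/

set_option autoImplicit false
set_option linter.unusedSectionVars false
universe u

namespace Groth.Agent.Lib.Seat54.KoszulPoly

open MvPolynomial

variable (A : Type u) [CommRing A] (σ : Type) [Fintype σ] [DecidableEq σ]

/-- the ideal `(X_i^n)_i`. -/
noncomputable def I (n : ℕ) : Ideal (MvPolynomial σ A) :=
  Ideal.span (Set.range fun i : σ => (X i : MvPolynomial σ A) ^ n)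

variable {A σ}

lemma mem_I {n : ℕ} {x : MvPolynomial σ A} :
    x ∈ I A σ n ↔ ∀ e ∈ x.support, ∃ i, n ≤ e i := by
  have h : (Set.range fun i : σ => (X i : MvPolynomial σ A) ^ n) =
      (fun s => monomial s (1 : A)) '' (Set.range fun i : σ => Finsupp.single i n) := by
    rw [← Set.range_comp]
    congr 1
    funext i
    simp [X_pow_eq_monomial]
  unfold I
  rw [h, mem_ideal_span_monomial_image]
  refine forall₂_congr fun e _ => ?_
  constructor
  · rintro ⟨_, ⟨i, rfl⟩, hi⟩
    exact ⟨i, by simpa using hi i⟩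
  · rintro ⟨i, hi⟩
    exact ⟨_, ⟨i, rfl⟩, by rw [Finsupp.single_le_iff]; exact hi⟩

/-- the constant exponent vector `k`. -/
noncomputable def cst (σ : Type) [Fintype σ] (k : ℕ) : σ →₀ ℕ :=
  Finsupp.equivFunOnFinite.symm (fun _ => k)

@[simp] lemma cst_apply (k : ℕ) (i : σ) : cst σ k i = k := rfl

/-- reversal of exponents inside the box `[0, n)`. -/
noncomputable def rev (n : ℕ) (e : σ →₀ ℕ) : σ →₀ ℕ :=
  Finsupp.equivFunOnFinite.symm (fun i => n - 1 - e i)

@[simp] lemma rev_apply (n : ℕ) (e : σ →₀ ℕ) (i : σ) : rev n e i = n - 1 - e i := rfl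

/-- the box `[0, n)^σ` as a finset of exponent vectors. -/
noncomputable def boxF (σ : Type) [Fintype σ] [DecidableEq σ] (n : ℕ) : Finset (σ →₀ ℕ) :=
  (Fintype.piFinset fun _ : σ => Finset.range n).map Finsupp.equivFunOnFinite.symm.toEmbedding

lemma mem_boxF {n : ℕ} {e : σ →₀ ℕ} : e ∈ boxF σ n ↔ ∀ i, e i < n := by
  unfold boxF
  simp only [Finset.mem_map, Fintype.mem_piFinset, Finset.mem_range, Equiv.coe_toEmbedding]
  constructor
  · rintro ⟨g, hg, rfl⟩
    exact hg
  · intro h
    exact ⟨e, h, by ext; rfl⟩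

lemma rev_mem_boxF {n : ℕ} {e : σ →₀ ℕ} (h : e ∈ boxF σ n) : rev n e ∈ boxF σ n := by
  rw [mem_boxF] at h ⊢
  intro i
  have := h i
  simp only [rev_apply]
  omega

lemma rev_rev {n : ℕ} {e : σ →₀ ℕ} (h : e ∈ boxF σ n) : rev n (rev n e) = e := by
  rw [mem_boxF] at h
  ext i
  have := h i
  simp only [rev_apply]
  omega

variable (A) in
/-- the coefficient-reversal map. -/
noncomputable def ψ (n : ℕ) : MvPolynomial σ A →ₗ[A] MvPolynomial σ A :=
  ∑ b ∈ boxF σ n, (monomial b : A →ₗ[A] MvPolynomial σ A) ∘ₗ (lcoeff A (rev n b))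

lemma coeff_ψ (n : ℕ) (x : MvPolynomial σ A) (c : σ →₀ ℕ) :
    coeff c (ψ A n x) = if c ∈ boxF σ n then coeff (rev n c) x else 0 := by
  unfold ψ
  simp only [LinearMap.coe_sum, Finset.sum_apply, LinearMap.comp_apply, lcoeff_apply, coeff_sum,
    coeff_monomial]
  rw [Finset.sum_ite_eq']

lemma ψ_eq_zero_iff (n : ℕ) (x : MvPolynomial σ A) : ψ A n x = 0 ↔ x ∈ I A σ n := by
  rw [mem_I]
  constructor
  · intro h e he
    by_contra hcon
    push Not at hcon
    have hb : e ∈ boxF σ n := mem_boxF.mpr hcon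
    have h1 := coeff_ψ n x (rev n e)
    rw [h, if_pos (rev_mem_boxF hb), rev_rev hb, coeff_zero] at h1
    exact (mem_support_iff.mp he) h1.symm
  · intro h
    ext c
    rw [coeff_ψ, coeff_zero]
    split_ifs with hc
    · by_contra hne
      obtain ⟨i, hi⟩ := h _ (mem_support_iff.mpr hne)
      have := mem_boxF.mp (rev_mem_boxF hc) i
      omega
    · rfl

lemma ψ_mul (n m : ℕ) (h : n ≤ m) (x : MvPolynomial σ A) :
    ψ A m (monomial (cst σ (m - n)) 1 * x) = ψ A n x := by
  ext c
  rw [coeff_ψ, coeff_ψ]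
  by_cases hc : c ∈ boxF σ n
  · have hc' : c ∈ boxF σ m := mem_boxF.mpr fun i => lt_of_lt_of_le (mem_boxF.mp hc i) h
    rw [if_pos hc, if_pos hc', coeff_monomial_mul', if_pos, one_mul]
    · congr 1
      ext i
      have := mem_boxF.mp hc i
      simp only [Finsupp.coe_tsub, Pi.sub_apply, rev_apply, cst_apply]
      omega
    · intro i
      have := mem_boxF.mp hc i
      simp only [rev_apply, cst_apply]
      omega
  · rw [if_neg hc]
    split_ifs with hc'
    · rw [coeff_monomial_mul', if_neg]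
      intro hle
      apply hc
      rw [mem_boxF]
      intro i
      have h1 := mem_boxF.mp hc' i
      have h2 := hle i
      simp only [rev_apply, cst_apply] at h2
      omega
    · rfl

lemma exists_ψ_eq (y : MvPolynomial σ A) : ∃ n x, ψ A n x = y := by
  refine ⟨1 + ∑ i, degreeOf i y, ψ A (1 + ∑ i, degreeOf i y) y, ?_⟩
  ext c
  rw [coeff_ψ]
  split_ifs with hc
  · rw [coeff_ψ, if_pos (rev_mem_boxF hc), rev_rev hc]
  · symm
    by_contra hne
    apply hc
    rw [mem_boxF]
    intro i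
    have h1 : c i ≤ degreeOf i y := monomial_le_degreeOf i (mem_support_iff.mpr hne)
    have h2 : degreeOf i y ≤ ∑ i, degreeOf i y :=
      Finset.single_le_sum (f := fun i => degreeOf i y) (fun _ _ => Nat.zero_le _)
        (Finset.mem_univ i)
    omega

lemma prod_X_pow (k : ℕ) :
    (∏ i : σ, (X i : MvPolynomial σ A)) ^ k = monomial (cst σ k) 1 := by
  rw [monomial_eq, C_1, one_mul, Finsupp.prod_fintype _ _ (fun i => by simp), ← Finset.prod_pow]
  rfl

section regular

variable (A : Type u) [CommRing A] (N : ℕ) (n : ℕ)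

/-- the partial ideal `(X_j^n : j < i)`. -/
noncomputable def J (i : ℕ) : Ideal (MvPolynomial (Fin N) A) :=
  Ideal.span ((fun s => monomial s (1 : A)) ''
    {s | ∃ j : Fin N, j.val < i ∧ s = Finsupp.single j n})

variable {A N n}

lemma mem_J {i : ℕ} {x : MvPolynomial (Fin N) A} :
    x ∈ J A N n i ↔ ∀ e ∈ x.support, ∃ j : Fin N, j.val < i ∧ n ≤ e j := by
  unfold J
  rw [mem_ideal_span_monomial_image]
  refine forall₂_congr fun e _ => ?_
  constructor
  · rintro ⟨_, ⟨j, hj, rfl⟩, hle⟩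
    exact ⟨j, hj, by simpa using hle j⟩
  · rintro ⟨j, hj, hle⟩
    exact ⟨_, ⟨j, hj, rfl⟩, by rw [Finsupp.single_le_iff]; exact hle⟩

variable (A N n) in
lemma ofList_take (i : ℕ) :
    Ideal.ofList ((List.ofFn (fun j : Fin N => (X j : MvPolynomial (Fin N) A) ^ n)).take i) =
      J A N n i := by
  unfold J Ideal.ofList
  congr 1
  ext p
  simp only [Set.mem_ofPred_eq, List.mem_take_iff_getElem, List.length_ofFn, List.getElem_ofFn,
    Set.mem_image]
  constructor
  · rintro ⟨j, hj, rfl⟩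
    have hj' : j < i ∧ j < N := by
      rw [lt_min_iff] at hj
      exact hj
    exact ⟨_, ⟨⟨j, hj'.2⟩, hj'.1, rfl⟩, (X_pow_eq_monomial).symm⟩
  · rintro ⟨_, ⟨l, hl, rfl⟩, rfl⟩
    exact ⟨l, lt_min hl l.2, X_pow_eq_monomial⟩

variable (A N n) in
theorem isWeaklyRegular_X_pow :
    RingTheory.Sequence.IsWeaklyRegular (MvPolynomial (Fin N) A)
      (List.ofFn (fun j : Fin N => (X j : MvPolynomial (Fin N) A) ^ n)) := by
  rw [RingTheory.Sequence.isWeaklyRegular_iff]
  intro i hi
  have hi' : i < N := by simpa using hi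
  rw [isSMulRegular_iff_right_eq_zero_of_smul]
  intro y hy
  obtain ⟨p, rfl⟩ := Submodule.Quotient.mk_surjective _ y
  rw [← Submodule.Quotient.mk_smul, Submodule.Quotient.mk_eq_zero] at hy
  rw [Submodule.Quotient.mk_eq_zero]
  rw [ofList_take A N n i, smul_eq_mul, Ideal.mul_top] at hy ⊢
  rw [List.getElem_ofFn, smul_eq_mul, mem_J] at hy
  rw [mem_J]
  intro e he
  have hmem : e + Finsupp.single (⟨i, hi'⟩ : Fin N) n ∈
      ((X (⟨i, hi'⟩ : Fin N) : MvPolynomial (Fin N) A) ^ n * p).support := by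
    rw [mem_support_iff, X_pow_eq_monomial, coeff_monomial_mul', if_pos (by simp), one_mul,
      add_tsub_cancel_right]
    exact mem_support_iff.mp he
  obtain ⟨j, hj, hle⟩ := hy _ hmem
  refine ⟨j, hj, ?_⟩
  have hne : (⟨i, hi'⟩ : Fin N) ≠ j := by
    intro h
    rw [← h] at hj
    exact lt_irrefl _ hj
  simpa [Finsupp.single_apply, hne] using hle

end regular

end Groth.Agent.Lib.Seat54.KoszulPoly
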