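import Mathlib
import Groth.Prelude.Def_ega3
import Groth.Agent.Lib.Helper21ConeLES

/-!
# The top cohomology of the iterated-cone Koszul complex, canonically (seat 54)

`cls M fs : M ⟶ H^0(koszulCx M fs)` is the canonical surjection with kernel `(fs) M`, and it is
compatible with the transition maps `koszulTrans` (which become multiplication by
`(∏ fs)^(m-n)`).
-/

set_option autoImplicit false
universe u

namespace Groth.Agent.Lib.Seat54.KoszulTop

open CategoryTheory CategoryTheory.Limits CochainComplex HomComplex Pointwise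

variable {A : Type u} [CommRing A]

lemma isZero_koszulCx_X (M : ModuleCat.{u} A) :
    ∀ (fs : List A) (n : ℤ), 0 < n → IsZero ((CohIII.koszulCx M fs).X n)
  | [], n, hn => HomologicalComplex.isZero_single_obj_X (ComplexShape.up ℤ) 0 M n hn.ne'
  | f :: fs, n, hn => by
    show IsZero ((mappingCone (f • 𝟙 (CohIII.koszulCx M fs))).X n)
    rw [mappingCone.isZero_X_iff]
    exact ⟨isZero_koszulCx_X M fs (n + 1) (by omega), isZero_koszulCx_X M fs n hn⟩

lemma d_zero_one (M : ModuleCat.{u} A) (fs : List A) : (CohIII.koszulCx M fs).d 0 1 = 0 :=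
  (isZero_koszulCx_X M fs 1 one_pos).eq_of_tgt _ _

/-- the canonical map `M ⟶ K^0(fs; M)`. -/
noncomputable def top (M : ModuleCat.{u} A) : ∀ fs : List A, M ⟶ (CohIII.koszulCx M fs).X 0
  | [] => (HomologicalComplex.singleObjXSelf (ComplexShape.up ℤ) 0 M).inv
  | f :: fs => top M fs ≫ (mappingCone.inr (f • 𝟙 (CohIII.koszulCx M fs))).f 0

lemma top_cons (M : ModuleCat.{u} A) (f : A) (fs : List A) :
    top M (f :: fs) = top M fs ≫ (mappingCone.inr (f • 𝟙 (CohIII.koszulCx M fs))).f 0 := rfl

/-- the canonical map `M ⟶ H^0(K(fs; M))`. -/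
noncomputable def cls (M : ModuleCat.{u} A) (fs : List A) :
    M ⟶ (CohIII.koszulCx M fs).homology 0 :=
  (CohIII.koszulCx M fs).liftCycles (top M fs) 1 (by simp) (by rw [d_zero_one, comp_zero]) ≫
    (CohIII.koszulCx M fs).homologyπ 0

lemma cls_cons (M : ModuleCat.{u} A) (f : A) (fs : List A) :
    cls M (f :: fs) = cls M fs ≫
      HomologicalComplex.homologyMap (mappingCone.inr (f • 𝟙 (CohIII.koszulCx M fs))) 0 := by
  unfold cls
  rw [Category.assoc, HomologicalComplex.homologyπ_naturality,
    HomologicalComplex.liftCycles_comp_cyclesMap_assoc]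
  rfl

lemma inr_map {K₁ L₁ K₂ L₂ : CochainComplex (ModuleCat.{u} A) ℤ} (φ₁ : K₁ ⟶ L₁) (φ₂ : K₂ ⟶ L₂)
    (a : K₁ ⟶ K₂) (b : L₁ ⟶ L₂) (comm : φ₁ ≫ b = a ≫ φ₂) :
    mappingCone.inr φ₁ ≫ mappingCone.map φ₁ φ₂ a b comm = b ≫ mappingCone.inr φ₂ := by
  unfold mappingCone.map
  rw [mappingCone.inr_desc]

/-- compatibility of `top` with the transition maps. -/
lemma top_trans (M : ModuleCat.{u} A) (n m : ℕ) (h : n ≤ m) : ∀ fs : List A,
    top M (fs.map (· ^ n)) ≫ (CohIII.koszulTrans M n m h fs).f 0 =
      (fs.prod ^ (m - n)) • top M (fs.map (· ^ m))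
  | [] => by
    show top M [] ≫ HomologicalComplex.Hom.f (𝟙 (CohIII.koszulCx M [])) 0 =
      (([] : List A).prod ^ (m - n)) • top M []
    simp
  | f :: fs => by
    have ih := top_trans M n m h fs
    show (top M (fs.map (· ^ n)) ≫ (mappingCone.inr _).f 0) ≫
      (mappingCone.map (f ^ n • 𝟙 (CohIII.koszulCx M (fs.map (· ^ n))))
        (f ^ m • 𝟙 (CohIII.koszulCx M (fs.map (· ^ m)))) (CohIII.koszulTrans M n m h fs)
        (f ^ (m - n) • CohIII.koszulTrans M n m h fs) _).f 0 =
      ((f :: fs).prod ^ (m - n)) • (top M (fs.map (· ^ m)) ≫ (mappingCone.inr _).f 0)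
    rw [Category.assoc, ← HomologicalComplex.comp_f, inr_map, HomologicalComplex.comp_f,
      HomologicalComplex.smul_f_apply, Linear.smul_comp, Linear.comp_smul, ← Category.assoc, ih,
      Linear.smul_comp, smul_smul, List.prod_cons, mul_pow]

lemma liftCycles_smul (K : CochainComplex (ModuleCat.{u} A) ℤ) {N : ModuleCat.{u} A} (a : A)
    (k : N ⟶ K.X 0) (hk : k ≫ K.d 0 1 = 0) (hk' : (a • k) ≫ K.d 0 1 = 0) :
    K.liftCycles (a • k) 1 (by simp) hk' = a • K.liftCycles k 1 (by simp) hk := by
  rw [← cancel_mono (K.iCycles 0), HomologicalComplex.liftCycles_i, Linear.smul_comp,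
    HomologicalComplex.liftCycles_i]

/-- compatibility of `cls` with the transition maps. -/
lemma cls_trans (M : ModuleCat.{u} A) (n m : ℕ) (h : n ≤ m) (fs : List A) :
    cls M (fs.map (· ^ n)) ≫ HomologicalComplex.homologyMap (CohIII.koszulTrans M n m h fs) 0 =
      (fs.prod ^ (m - n)) • cls M (fs.map (· ^ m)) := by
  unfold cls
  rw [Category.assoc, HomologicalComplex.homologyπ_naturality,
    HomologicalComplex.liftCycles_comp_cyclesMap_assoc]
  have e := top_trans M n m h fs
  have hz : ((fs.prod ^ (m - n)) • top M (fs.map (· ^ m))) ≫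
      (CohIII.koszulCx M (fs.map (· ^ m))).d 0 1 = 0 := by rw [d_zero_one, comp_zero]
  have : (CohIII.koszulCx M (fs.map (· ^ m))).liftCycles
      (top M (fs.map (· ^ n)) ≫ (CohIII.koszulTrans M n m h fs).f 0) 1 (by simp)
        (by rw [d_zero_one, comp_zero]) =
      (CohIII.koszulCx M (fs.map (· ^ m))).liftCycles
        ((fs.prod ^ (m - n)) • top M (fs.map (· ^ m))) 1 (by simp) hz := by
    congr 1
  rw [this, liftCycles_smul _ _ _ (by rw [d_zero_one, comp_zero]), Linear.smul_comp]

lemma homologyMap_smul' {K L : CochainComplex (ModuleCat.{u} A) ℤ}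
    (a : A) (φ : K ⟶ L) (i : ℤ) :
    HomologicalComplex.homologyMap (a • φ) i = a • HomologicalComplex.homologyMap φ i := by
  have h : (HomologicalComplex.shortComplexFunctor (ModuleCat.{u} A) (ComplexShape.up ℤ) i).map
      (a • φ) = a • (HomologicalComplex.shortComplexFunctor (ModuleCat.{u} A)
        (ComplexShape.up ℤ) i).map φ := rfl
  show ShortComplex.homologyMap ((HomologicalComplex.shortComplexFunctor (ModuleCat.{u} A)
    (ComplexShape.up ℤ) i).map (a • φ)) = a • ShortComplex.homologyMap
    ((HomologicalComplex.shortComplexFunctor (ModuleCat.{u} A) (ComplexShape.up ℤ) i).map φ)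
  rw [h]
  exact ShortComplex.homologyMap_smul _ _

lemma isZero_homology_one (M : ModuleCat.{u} A) (fs : List A) :
    IsZero ((CohIII.koszulCx M fs).homology 1) :=
  (HomologicalComplex.ExactAt.of_isZero (isZero_koszulCx_X M fs 1 one_pos)).isZero_homology

lemma isIso_cls_nil (M : ModuleCat.{u} A) : IsIso (cls M []) := by
  unfold cls
  have h1 : IsIso ((CohIII.koszulCx M []).homologyπ 0) :=
    (CohIII.koszulCx M []).isIso_homologyπ (-1) 0 (by simp)
      (HomologicalComplex.single_obj_d _ _ _ _ _ )
  have h2 : IsIso ((CohIII.koszulCx M []).iCycles 0) :=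
    (CohIII.koszulCx M []).isIso_iCycles 0 1 (by simp) (d_zero_one M [])
  have h3 : IsIso (top M []) :=
    (HomologicalComplex.singleObjXSelf (ComplexShape.up ℤ) 0 M).isIso_inv
  have h4 : IsIso ((CohIII.koszulCx M []).liftCycles (top M []) 1 (by simp)
      (by rw [d_zero_one, comp_zero])) := by
    have e : (CohIII.koszulCx M []).liftCycles (top M []) 1 (by simp)
      (by rw [d_zero_one, comp_zero]) ≫ (CohIII.koszulCx M []).iCycles 0 = top M [] :=
      HomologicalComplex.liftCycles_i _ _ _ _ _
    have : IsIso ((CohIII.koszulCx M []).liftCycles (top M []) 1 (by simp)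
      (by rw [d_zero_one, comp_zero]) ≫ (CohIII.koszulCx M []).iCycles 0) := by rw [e]; exact h3
    exact IsIso.of_isIso_comp_right _ ((CohIII.koszulCx M []).iCycles 0)
  infer_instance

lemma cls_cons_apply (M : ModuleCat.{u} A) (f : A) (fs : List A) (x : M) :
    (cls M (f :: fs)).hom x = (HomologicalComplex.homologyMap
      (mappingCone.inr (f • 𝟙 (CohIII.koszulCx M fs))) 0).hom ((cls M fs).hom x) :=
  congrArg (fun g => (ModuleCat.Hom.hom g) x) (cls_cons M f fs)

lemma cls_surjective (M : ModuleCat.{u} A) : ∀ fs : List A, Function.Surjective (cls M fs).hom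
  | [] => by
    have := isIso_cls_nil M
    exact (ModuleCat.epi_iff_surjective _).mp inferInstance
  | f :: fs => by
    have h1 := cls_surjective M fs
    have h2 : Function.Surjective (HomologicalComplex.homologyMap
        (mappingCone.inr (f • 𝟙 (CohIII.koszulCx M fs))) 0).hom :=
      (ModuleCat.epi_iff_surjective _).mp
        (Groth.Agent.Lib.Helper21.cone_homology_epi _ 0 (by
          simpa using isZero_homology_one M fs))
    intro y
    obtain ⟨z, hz⟩ := h2 y
    obtain ⟨w, rfl⟩ := h1 z
    exact ⟨w, (cls_cons_apply M f fs w).trans hz⟩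

lemma ker_cls (M : ModuleCat.{u} A) : ∀ fs : List A,
    LinearMap.ker (cls M fs).hom = Ideal.ofList fs • (⊤ : Submodule A M)
  | [] => by
    have := isIso_cls_nil M
    have hinj : Function.Injective (cls M []).hom :=
      (ModuleCat.mono_iff_injective _).mp inferInstance
    rw [LinearMap.ker_eq_bot.mpr hinj, Ideal.ofList_nil, Submodule.bot_smul]
  | f :: fs => by
    have ih := ker_cls M fs
    have hs := cls_surjective M fs
    have hex := (Groth.Agent.Lib.Helper21.cone_homology_exact₂
      (f • 𝟙 (CohIII.koszulCx M fs)) 0).moduleCat_range_eq_ker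
    simp only [homologyMap_smul', HomologicalComplex.homologyMap_id] at hex
    rw [Ideal.ofList_cons, Submodule.sup_smul, Submodule.ideal_span_singleton_smul, ← ih]
    ext x
    rw [LinearMap.mem_ker, Submodule.mem_sup]
    constructor
    · intro hx
      have hx' : (cls M fs).hom x ∈ LinearMap.ker (HomologicalComplex.homologyMap
          (mappingCone.inr (f • 𝟙 (CohIII.koszulCx M fs))) 0).hom :=
        LinearMap.mem_ker.mpr ((cls_cons_apply M f fs x).symm.trans hx)
      rw [← hex] at hx'
      obtain ⟨y, hy⟩ := hx'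
      obtain ⟨z, rfl⟩ := hs y
      refine ⟨f • z, Submodule.smul_mem_pointwise_smul _ _ _ trivial, x - f • z, ?_, by abel⟩
      rw [LinearMap.mem_ker, map_sub, ← hy]
      simp
    · rintro ⟨y, hy, z, hz, rfl⟩
      refine (cls_cons_apply M f fs _).trans ?_
      have hmem : (cls M fs).hom (y + z) ∈ LinearMap.ker (HomologicalComplex.homologyMap
          (mappingCone.inr (f • 𝟙 (CohIII.koszulCx M fs))) 0).hom := by
        rw [← hex]
        obtain ⟨w, -, rfl⟩ := (Submodule.mem_smul_pointwise_iff_exists _ _ _).mp hy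
        refine ⟨(cls M fs).hom w, ?_⟩
        rw [map_add, LinearMap.mem_ker.mp hz, add_zero]
        simp
      exact hmem

end Groth.Agent.Lib.Seat54.KoszulTop
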