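import Mathlib

/-!
# Laurent expansions of fractions `a / X^v` of polynomials (helper54)

`Lau σ R := (σ →₀ ℤ) →₀ R` (finitely supported families of coefficients indexed by integer exponent vectors,
only the additive/`R`-module structure is used).  `up : (σ →₀ ℕ) →+ (σ →₀ ℤ)` the cast of exponents;
`lau v a` is the Laurent expansion of `a / X^v` (`v : σ →₀ ℤ`): an `R`-linear map, injective (`lau_eq_zero`),
with `lau_monomial`, `lau_apply_sh`, `lau_apply_of_not`, `lau_monomial_mul` (shift invariance),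
`exists_of_lau_ne` (support), `exists_lau_eq` (every `ℓ` with `e + v ≥ 0` on its support is some `lau v a`).
-/

set_option autoImplicit false

open MvPolynomial

namespace Groth.Agent.Lib.Seat54.Laurent

variable {σ : Type*} {R : Type*} [CommRing R]

/-- Laurent "polynomials" as coefficient families -/
abbrev Lau (σ : Type*) (R : Type*) [CommRing R] : Type _ := (σ →₀ ℤ) →₀ R

/-- cast of exponents -/
noncomputable def up : (σ →₀ ℕ) →+ (σ →₀ ℤ) :=
  Finsupp.mapRange.addMonoidHom (Nat.castAddMonoidHom ℤ)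

@[simp] lemma up_apply (m : σ →₀ ℕ) (k : σ) : up m k = (m k : ℤ) := rfl

lemma up_injective : Function.Injective (up : (σ →₀ ℕ) → (σ →₀ ℤ)) := by
  intro m m' h
  ext k
  have := DFunLike.congr_fun h k
  simpa using this

lemma mem_range_up (e : σ →₀ ℤ) : e ∈ Set.range (up : (σ →₀ ℕ) → (σ →₀ ℤ)) ↔ ∀ k, 0 ≤ e k := by
  constructor
  · rintro ⟨m, rfl⟩ k
    simp
  · intro h
    refine ⟨Finsupp.mapRange Int.toNat (by simp) e, ?_⟩
    ext k
    simp [Int.toNat_of_nonneg (h k)]

/-- the shift map on exponents -/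
noncomputable def sh (v : σ →₀ ℤ) (m : σ →₀ ℕ) : σ →₀ ℤ := up m - v

lemma sh_injective (v : σ →₀ ℤ) : Function.Injective (sh v) := by
  intro m m' h
  apply up_injective
  unfold sh at h
  exact sub_left_injective h

/-- the Laurent expansion of `a / X^v` -/
noncomputable def lau (v : σ →₀ ℤ) : MvPolynomial σ R →ₗ[R] Lau σ R :=
  (Finsupp.lmapDomain R R (sh v)).comp
    (AddMonoidAlgebra.coeffLinearEquiv (S := R) (M := σ →₀ ℕ) R).toLinearMap

lemma lau_def (v : σ →₀ ℤ) (a : MvPolynomial σ R) :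
    lau v a = Finsupp.mapDomain (sh v) (AddMonoidAlgebra.coeff a) := rfl

lemma lau_monomial (v : σ →₀ ℤ) (m : σ →₀ ℕ) (r : R) :
    lau v (monomial m r) = Finsupp.single (up m - v) r := by
  rw [lau_def]
  change Finsupp.mapDomain (sh v) (Finsupp.single m r) = _
  rw [Finsupp.mapDomain_single]
  rfl

lemma lau_apply_sh (v : σ →₀ ℤ) (a : MvPolynomial σ R) (m : σ →₀ ℕ) :
    lau v a (up m - v) = coeff m a := by
  rw [lau_def]
  exact Finsupp.mapDomain_apply (sh_injective v) _ m

lemma lau_apply_of_not (v : σ →₀ ℤ) (a : MvPolynomial σ R) (e : σ →₀ ℤ)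
    (h : ¬ ∀ k, 0 ≤ e k + v k) : lau v a e = 0 := by
  rw [lau_def]
  apply Finsupp.mapDomain_of_notMem_range
  rintro ⟨m, rfl⟩
  apply h
  intro k
  simp [sh]

lemma lau_eq_zero (v : σ →₀ ℤ) (a : MvPolynomial σ R) (h : lau v a = 0) : a = 0 := by
  ext m
  rw [← lau_apply_sh v a m, h]
  simp

lemma lau_injective (v : σ →₀ ℤ) : Function.Injective (lau (R := R) v) := by
  intro a a' h
  have : lau v (a - a') = 0 := by rw [map_sub, h, sub_self]
  exact sub_eq_zero.mp (lau_eq_zero v _ this)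

lemma exists_of_lau_ne (v : σ →₀ ℤ) (a : MvPolynomial σ R) (e : σ →₀ ℤ) (h : lau v a e ≠ 0) :
    ∃ m, coeff m a ≠ 0 ∧ e = up m - v := by
  by_cases h0 : ∀ k, 0 ≤ e k + v k
  · obtain ⟨m, hm⟩ := (mem_range_up (e + v)).2 (fun k => by simpa using h0 k)
    have he : e = up m - v := by rw [hm]; abel
    refine ⟨m, ?_, he⟩
    rw [← lau_apply_sh v a m, ← he]
    exact h
  · exact absurd (lau_apply_of_not v a e h0) h

/-- shift invariance: `(X^w a) / X^(v+w) = a / X^v` -/
lemma lau_monomial_mul (v : σ →₀ ℤ) (w : σ →₀ ℕ) (a : MvPolynomial σ R) :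
    lau (v + up w) (monomial w 1 * a) = lau v a := by
  induction a using MvPolynomial.induction_on' with
  | monomial m r =>
    rw [monomial_mul, one_mul, lau_monomial, lau_monomial, map_add]
    congr 1
    abel
  | add p q hp hq => rw [mul_add, map_add, map_add, hp, hq]

/-- every `ℓ` whose exponents become nonnegative after adding `v` is the expansion of some `a / X^v` -/
lemma exists_lau_eq (v : σ →₀ ℤ) (ℓ : Lau σ R) (h : ∀ e ∈ ℓ.support, ∀ k, 0 ≤ e k + v k) :
    ∃ a : MvPolynomial σ R, lau v a = ℓ ∧ ∀ m, coeff m a ≠ 0 → up m - v ∈ ℓ.support := by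
  classical
  have hm : ∀ e ∈ ℓ.support, ∃ m : σ →₀ ℕ, up m = e + v := fun e he =>
    (mem_range_up (e + v)).2 (fun k => by simpa using h e he k)
  let f : (σ →₀ ℤ) → (σ →₀ ℕ) := fun e => if he : e ∈ ℓ.support then (hm e he).choose else 0
  have hf : ∀ e ∈ ℓ.support, up (f e) - v = e := by
    intro e he
    simp only [f, dif_pos he]
    rw [(hm e he).choose_spec]
    abel
  have key : lau v (∑ e ∈ ℓ.support, monomial (f e) (ℓ e)) = ℓ := by
    rw [map_sum]
    calc ∑ e ∈ ℓ.support, lau v (monomial (f e) (ℓ e))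
        = ∑ e ∈ ℓ.support, Finsupp.single e (ℓ e) :=
          Finset.sum_congr rfl (fun e he => by rw [lau_monomial, hf e he])
      _ = ℓ := Finsupp.sum_single ℓ
  refine ⟨∑ e ∈ ℓ.support, monomial (f e) (ℓ e), key, fun m hm' => ?_⟩
  rw [← lau_apply_sh v, key] at hm'
  exact Finsupp.mem_support_iff.2 hm'

end Groth.Agent.Lib.Seat54.Laurent
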