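import Mathlib

/-!
# Cocycles supported on bijective tuples (helper54)

Combinatorics behind the top Cech cohomology of a cover by `n+1` opens (full, non-alternating Cech complex).
* `eq_zero_of_cocycle`: a function `f` on `(n+1)`-tuples in a set `ι` with `n+1` elements which vanishes on
  non-surjective tuples, satisfies the alternating face relation for all `(n+2)`-tuples, and vanishes at one
  bijective tuple, vanishes identically.
* `sgn x` (determinant of the 0/1 matrix of a tuple in `Fin (n+1)`), `sgn_id`, `sgn_eq_zero` (non-injective tuples),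
  `sgn_cocycle` (alternating face relation).
-/

set_option autoImplicit false

namespace Groth.Agent.Lib.Seat54.PermCocycle

section G

variable {n : ℕ}

/-- the tuple `(0, …, a, a+1, a, a+2, …, n)` -/
def g (a : Fin n) (i : Fin (n + 2)) : Fin (n + 1) :=
  if h : i.val ≤ a.val + 1 then ⟨i.val, by omega⟩
  else if i.val = a.val + 2 then ⟨a.val, by omega⟩ else ⟨i.val - 1, by omega⟩

lemma g_val (a : Fin n) (i : Fin (n + 2)) :
    (g a i).val = if i.val ≤ a.val + 1 then i.val else if i.val = a.val + 2 then a.val else i.val - 1 := by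
  unfold g
  split_ifs <;> rfl

/-- position `a` in `Fin (n+2)` -/
def i0 (a : Fin n) : Fin (n + 2) := ⟨a.val, by omega⟩

/-- position `a+2` in `Fin (n+2)` -/
def i2 (a : Fin n) : Fin (n + 2) := ⟨a.val + 2, by omega⟩

lemma i0_ne_i2 (a : Fin n) : i0 a ≠ i2 a := by
  intro h
  have := congrArg Fin.val h
  simp [i0, i2] at this

lemma succAbove_val (p : Fin (n + 2)) (j : Fin (n + 1)) :
    (Fin.succAbove p j).val = if j.val < p.val then j.val else j.val + 1 := by
  unfold Fin.succAbove
  split_ifs with h1 h2 h2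
  · simp
  · exact absurd h1 h2
  · exact absurd h2 h1
  · simp

lemma g_comp_i2 (a : Fin n) : g a ∘ Fin.succAbove (i2 a) = id := by
  funext j
  apply Fin.ext
  simp only [Function.comp_apply, id, g_val, succAbove_val, i2]
  split_ifs <;> omega

lemma g_comp_i0 (a : Fin n) :
    g a ∘ Fin.succAbove (i0 a) = ⇑(Equiv.swap a.castSucc a.succ) := by
  funext j
  apply Fin.ext
  simp only [Function.comp_apply, g_val, succAbove_val, i0]
  rw [Equiv.swap_apply_def]
  by_cases h1 : j = a.castSucc
  · subst h1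
    simp
  · rw [if_neg h1]
    by_cases h2 : j = a.succ
    · subst h2
      simp
    · rw [if_neg h2]
      have h1' : j.val ≠ a.val := fun h => h1 (Fin.ext (by simpa using h))
      have h2' : j.val ≠ a.val + 1 := fun h => h2 (Fin.ext (by simpa using h))
      split_ifs <;> omega

lemma g_comp_ne (a : Fin n) (i : Fin (n + 2)) (h0 : i ≠ i0 a) (h2 : i ≠ i2 a) (j : Fin (n + 1)) :
    g a (Fin.succAbove i j) ≠ g a i := by
  intro h
  have hv := congrArg Fin.val h
  simp only [g_val, succAbove_val] at hv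
  have h0' : i.val ≠ a.val := fun h => h0 (Fin.ext (by simpa [i0] using h))
  have h2' : i.val ≠ a.val + 2 := fun h => h2 (Fin.ext (by simpa [i2] using h))
  split_ifs at hv <;> omega

lemma not_surjective_g_comp (a : Fin n) (i : Fin (n + 2)) (h0 : i ≠ i0 a) (h2 : i ≠ i2 a) :
    ¬ Function.Surjective (g a ∘ Fin.succAbove i) := by
  intro hs
  obtain ⟨j, hj⟩ := hs (g a i)
  exact g_comp_ne a i h0 h2 j hj

end G

section Vanish

variable {n : ℕ} {A : Type*} [AddCommGroup A]

lemma eq_zero_of_neg_one_pow_zsmul (k : ℕ) (v : A) (h : (-1 : ℤ) ^ k • v = 0) : v = 0 := by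
  rcases neg_one_pow_eq_or ℤ k with h1 | h1
  · rwa [h1, one_smul] at h
  · rwa [h1, neg_smul, one_smul, neg_eq_zero] at h

/-- core case: tuples in `Fin (n+1)` -/
theorem eq_zero_of_cocycle_fin (f : (Fin (n + 1) → Fin (n + 1)) → A)
    (ha : ∀ x, ¬ Function.Surjective x → f x = 0)
    (hb : ∀ y : Fin (n + 2) → Fin (n + 1),
      ∑ i : Fin (n + 2), (-1 : ℤ) ^ (i : ℕ) • f (y ∘ Fin.succAbove i) = 0)
    (hc : f id = 0) : ∀ x, f x = 0 := by
  have hperm : ∀ σ : Equiv.Perm (Fin (n + 1)), f ⇑σ = 0 := by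
    intro σ
    refine Submonoid.induction_of_closure_eq_top_right (Equiv.Perm.mclosure_swap_castSucc_succ n) σ
      ?_ ?_
    · exact hc
    · rintro σ _ ⟨a, rfl⟩ hσ
      have h1 := hb (⇑σ ∘ g a)
      rw [Fintype.sum_eq_add (i0 a) (i2 a) (i0_ne_i2 a)] at h1
      · have e0 : (⇑σ ∘ g a) ∘ Fin.succAbove (i0 a) = ⇑(σ * Equiv.swap a.castSucc a.succ) := by
          rw [Function.comp_assoc, g_comp_i0]
          rfl
        have e2 : (⇑σ ∘ g a) ∘ Fin.succAbove (i2 a) = ⇑σ := by
          rw [Function.comp_assoc, g_comp_i2]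
          rfl
        rw [e0, e2, hσ, smul_zero, add_zero] at h1
        exact eq_zero_of_neg_one_pow_zsmul _ _ h1
      · rintro i ⟨h0, h2⟩
        rw [ha, smul_zero]
        intro hs
        have hs' : Function.Surjective (⇑σ ∘ (g a ∘ Fin.succAbove i)) := hs
        have hinj : Function.Injective (⇑σ ∘ (g a ∘ Fin.succAbove i)) :=
          Finite.injective_iff_surjective.2 hs'
        have hinj' : Function.Injective (g a ∘ Fin.succAbove i) := Function.Injective.of_comp hinj
        exact not_surjective_g_comp a i h0 h2 (Finite.injective_iff_surjective.1 hinj')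
  intro x
  by_cases hx : Function.Surjective x
  · have hbij : Function.Bijective x := ⟨Finite.injective_iff_surjective.2 hx, hx⟩
    exact hperm (Equiv.ofBijective x hbij)
  · exact ha x hx

/-- general case: tuples in a type in bijection with `Fin (n+1)` -/
theorem eq_zero_of_cocycle {ι : Type*} (x₀ : Fin (n + 1) → ι) (hx₀ : Function.Bijective x₀)
    (f : (Fin (n + 1) → ι) → A)
    (ha : ∀ x, ¬ Function.Surjective x → f x = 0)
    (hb : ∀ y : Fin (n + 2) → ι,
      ∑ i : Fin (n + 2), (-1 : ℤ) ^ (i : ℕ) • f (y ∘ Fin.succAbove i) = 0)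
    (hc : f x₀ = 0) : ∀ x, f x = 0 := by
  let e := Equiv.ofBijective x₀ hx₀
  have key := eq_zero_of_cocycle_fin (fun z => f (x₀ ∘ z))
    (fun z hz => ha _ (fun hs => hz (by
      intro k
      obtain ⟨a, ha'⟩ := hs (x₀ k)
      exact ⟨a, hx₀.1 ha'⟩)))
    (fun y => hb (x₀ ∘ y))
    hc
  intro x
  have hx : x = x₀ ∘ (⇑e.symm ∘ x) := by
    funext a
    exact (e.apply_symm_apply (x a)).symm
  rw [hx]
  exact key _

end Vanish

section Sign

variable {n : ℕ}

/-- the "sign" of a tuple: determinant of its 0/1 matrix -/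
def sgn (x : Fin (n + 1) → Fin (n + 1)) : ℤ :=
  Matrix.det (Matrix.of fun a k => if x a = k then (1 : ℤ) else 0)

lemma sgn_id : sgn (id : Fin (n + 1) → Fin (n + 1)) = 1 := by
  unfold sgn
  have : (Matrix.of fun a k => if (id a : Fin (n + 1)) = k then (1 : ℤ) else 0) = 1 := by
    ext a k
    simp [Matrix.one_apply]
  rw [this, Matrix.det_one]

lemma sgn_eq_zero (x : Fin (n + 1) → Fin (n + 1)) (h : ¬ Function.Injective x) : sgn x = 0 := by
  unfold sgn
  rw [Function.Injective] at h
  push Not at h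
  obtain ⟨a, b, hab, hne⟩ := h
  refine Matrix.det_zero_of_row_eq hne ?_
  funext k
  simp [hab]

lemma sgn_cocycle (y : Fin (n + 2) → Fin (n + 1)) :
    ∑ i : Fin (n + 2), (-1 : ℤ) ^ (i : ℕ) * sgn (y ∘ Fin.succAbove i) = 0 := by
  let N : Matrix (Fin (n + 2)) (Fin (n + 2)) ℤ :=
    Matrix.of fun i k => Fin.cases (1 : ℤ) (fun k' => if y i = k' then 1 else 0) k
  have hdet : N.det = 0 := by
    rw [← Matrix.exists_mulVec_eq_zero_iff]
    refine ⟨Fin.cases 1 (fun _ => -1), ?_, ?_⟩
    · intro h
      have := congrFun h 0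
      simp at this
    · funext i
      rw [Matrix.mulVec, dotProduct, Fin.sum_univ_succ]
      simp only [N, Matrix.of_apply, Fin.cases_zero, Fin.cases_succ, mul_one, mul_neg,
        Finset.sum_neg_distrib, Pi.zero_apply]
      rw [Finset.sum_ite_eq]
      simp
  rw [Matrix.det_succ_column_zero] at hdet
  rw [← hdet]
  refine Finset.sum_congr rfl (fun i _ => ?_)
  have h1 : N i 0 = 1 := rfl
  rw [h1, mul_one]
  congr 1

end Sign

end Groth.Agent.Lib.Seat54.PermCocycle
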