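import Groth.Agent.Lib.Seat54PnLau
import Groth.Agent.Lib.Seat54CechCoord

/-!
# Cech complex of `O(d)` on projective space for the standard cover, in Laurent coordinates (helper54)

`U i = D₊(T_i)` (`i : ULift (Fin (n+1))`), `coord n R d : Coord U O(d).presheaf Lau`, `mem_range_coord`
(the component at a tuple `x` consists of the `ℓ` with exponents of degree `d`, negative only at indices in the
image of `x`), `isZero_cech`: `Ȟ^{q+1}(U, O(d)) = 0` if `q + 1 < n` or `d > -(n+1)`.
-/

set_option autoImplicit false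
universe u

open CategoryTheory CategoryTheory.Limits AlgebraicGeometry TopologicalSpace Opposite MvPolynomial
open Groth.Agent.Lib.Helper16.CechLow Groth.Agent.Lib.Seat54.CechCoord Groth.Agent.Lib.Seat54.Laurent
  Groth.Agent.Lib.Seat54.PnLau

namespace Groth.Agent.Lib.Seat54.PnCech

variable (n : ℕ) (R : Type u) [CommRing R]

local notation "𝒫" => CohB1.polyGrading n R
local notation "S" => MvPolynomial (Fin (n + 1)) R

/-- the standard cover -/
noncomputable def U (i : ULift.{u} (Fin (n + 1))) : (Proj 𝒫).Opens :=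
  Proj.basicOpen 𝒫 (X i.down : S)

variable {n}

/-- the exponent vector of a tuple -/
noncomputable def vx {p : ℕ} (x : Fin (p + 1) → ULift.{u} (Fin (n + 1))) : Fin (n + 1) →₀ ℕ :=
  ∑ a, Finsupp.single (x a).down 1

lemma degree_vx {p : ℕ} (x : Fin (p + 1) → ULift.{u} (Fin (n + 1))) : (vx x).degree = p + 1 := by
  unfold vx
  rw [map_sum]
  simp

lemma mem_support_vx {p : ℕ} (x : Fin (p + 1) → ULift.{u} (Fin (n + 1))) (j : Fin (n + 1)) :
    j ∈ (vx x).support ↔ ∃ a, (x a).down = j := by
  classical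
  rw [Finsupp.mem_support_iff]
  unfold vx
  rw [Finsupp.finsetSum_apply]
  simp only [Finsupp.single_apply]
  rw [Finset.sum_boole]
  simp only [ne_eq, Nat.cast_id, Finset.card_eq_zero, Finset.filter_eq_empty_iff, Finset.mem_univ,
    true_implies, not_forall, not_not]

lemma monomial_vx {p : ℕ} (x : Fin (p + 1) → ULift.{u} (Fin (n + 1))) :
    (monomial (vx x) (1 : R) : S) = ∏ a, (X (x a).down : S) := by
  unfold vx
  rw [monomial_sum_index, map_one, one_mul]
  rfl

lemma Ux_eq_D {p : ℕ} (x : Fin (p + 1) → ULift.{u} (Fin (n + 1))) :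
    Ux (U n R) x = D n R (vx x) := by
  apply le_antisymm
  · intro (y : ProjectiveSpectrum 𝒫) hy
    have := y.isPrime
    refine (mem_D_iff (vx x) y).2 ?_
    rw [monomial_vx]
    intro h
    have h' : ∏ a, (X (x a).down : S) ∈ y.asHomogeneousIdeal.toIdeal := h
    rw [Ideal.IsPrime.prod_mem_iff] at h'
    obtain ⟨a, -, ha⟩ := h'
    have hya : y ∈ U n R (x a) := (Pi.π (U n R ∘ x) a).le hy
    exact (ProjectiveSpectrum.mem_basicOpen 𝒫 _ y).mp hya ha
  · refine (Pi.lift (fun a => homOfLE ?_) : D n R (vx x) ⟶ ∏ᶜ (U n R ∘ x)).le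
    intro (y : ProjectiveSpectrum 𝒫) hy
    have := y.isPrime
    have hy' := (mem_D_iff (vx x) y).1 hy
    rw [monomial_vx] at hy'
    refine (ProjectiveSpectrum.mem_basicOpen 𝒫 _ y).mpr (fun h => hy' ?_)
    have : ∏ b, (X (x b).down : S) ∈ y.asHomogeneousIdeal.toIdeal := by
      rw [Ideal.IsPrime.prod_mem_iff]
      exact ⟨a, Finset.mem_univ a, h⟩
    exact this

lemma V_le_Ux {p : ℕ} (x : Fin (p + 1) → ULift.{u} (Fin (n + 1))) : V n R ≤ Ux (U n R) x := by
  rw [Ux_eq_D]
  exact V_le_D _

variable {R} (d : ℤ)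

lemma emb_injective_of_eq {W : (Proj 𝒫).Opens} (hW : V n R ≤ W) (v' : Fin (n + 1) →₀ ℕ)
    (hv' : 0 < v'.degree) (e : W = D n R v') : Function.Injective (emb d hW) := by
  subst e
  exact emb_injective_D v' hv'

lemma mem_range_emb_of_eq {W : (Proj 𝒫).Opens} (hW : V n R ≤ W) (v' : Fin (n + 1) →₀ ℕ)
    (hv' : 0 < v'.degree) (e : W = D n R v') (ℓ : Lau (Fin (n + 1)) R) :
    ℓ ∈ Set.range (emb d hW) ↔
      ∀ e ∈ ℓ.support, e.degree = d ∧ ∀ j, e j < 0 → j ∈ v'.support := by
  subst e
  exact mem_range_emb_D v' hv' ℓ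

variable (n R)

/-- Laurent coordinates on the Cech complex of `O(d)` -/
noncomputable def coord :
    Coord (U n R) (GrTilde.tilde 𝒫 𝒫 d).presheaf (Lau (Fin (n + 1)) R) where
  emb x := emb d (V_le_Ux R x)
  inj x := emb_injective_of_eq d (V_le_Ux R x) (vx x) (by rw [degree_vx]; exact Nat.succ_pos _)
    (Ux_eq_D R x)
  face x i s := by
    have h : face (U n R) x i = homOfLE (face (U n R) x i).le := Subsingleton.elim _ _
    rw [h]
    rfl

variable {n R}

theorem mem_range_coord {p : ℕ} (x : Fin (p + 1) → ULift.{u} (Fin (n + 1)))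
    (ℓ : Lau (Fin (n + 1)) R) :
    ℓ ∈ Set.range ((coord n R d).emb x) ↔
      ∀ e ∈ ℓ.support, e.degree = d ∧ ∀ j, e j < 0 → ∃ a, (x a).down = j := by
  have := mem_range_emb_of_eq d (V_le_Ux R x) (vx x) (by rw [degree_vx]; exact Nat.succ_pos _)
    (Ux_eq_D R x) ℓ
  simp only [mem_support_vx] at this
  exact this

section Pi

open Classical in
/-- a chosen index with nonnegative exponent -/
noncomputable def lead (e : Fin (n + 1) →₀ ℤ) : Fin (n + 1) :=
  if h : ∃ k, 0 ≤ e k then h.choose else 0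

lemma lead_spec (e : Fin (n + 1) →₀ ℤ) (h : ∃ k, 0 ≤ e k) : 0 ≤ e (lead e) := by
  unfold lead
  rw [dif_pos h]
  exact h.choose_spec

open Classical in
/-- projection onto the monomials with leading nonnegative index `j` -/
noncomputable def proj (j : ULift.{u} (Fin (n + 1))) : Lau (Fin (n + 1)) R →+ Lau (Fin (n + 1)) R :=
  Finsupp.filterAddHom (fun e => (∃ k, 0 ≤ e k) ∧ lead e = j.down)

lemma proj_apply (j : ULift.{u} (Fin (n + 1))) (ℓ : Lau (Fin (n + 1)) R) (e : Fin (n + 1) →₀ ℤ) :
    proj j ℓ e = if (∃ k, 0 ≤ e k) ∧ lead e = j.down then ℓ e else 0 := by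
  classical
  unfold proj
  change Finsupp.filter _ ℓ e = _
  rw [Finsupp.filter_apply]

lemma sum_proj (ℓ : Lau (Fin (n + 1)) R) (h : ∀ e ∈ ℓ.support, ∃ k, 0 ≤ e k) :
    ∑ j : ULift.{u} (Fin (n + 1)), proj j ℓ = ℓ := by
  classical
  ext e
  rw [Finsupp.finsetSum_apply]
  simp only [proj_apply]
  by_cases he : e ∈ ℓ.support
  · rw [Fintype.sum_eq_single (ULift.up (lead e))]
    · rw [if_pos ⟨h e he, rfl⟩]
    · intro j hj
      rw [if_neg]
      rintro ⟨-, h2⟩
      exact hj (ULift.ext _ _ h2.symm)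
  · rw [Finsupp.notMem_support_iff] at he
    simp [he]

end Pi

/-- vanishing of the Cech cohomology of `O(d)` -/
theorem isZero_cech (q : ℕ) (h : q + 1 < n ∨ -((n : ℤ) + 1) < d) :
    IsZero ((CK (U n R) (GrTilde.tilde 𝒫 𝒫 d).presheaf).homology (q + 1)) := by
  refine (coord n R d).isZero_homology proj q ?_ ?_
  · intro j z s
    rw [mem_range_coord]
    intro e he
    have he' : e ∈ ((coord n R d).emb (Fin.cons j z : Fin (q + 2) → ULift.{u} (Fin (n + 1))) s).support := by
      rw [Finsupp.mem_support_iff] at he ⊢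
      rw [proj_apply] at he
      intro h0
      rw [h0] at he
      simp at he
    have hp : (∃ k, 0 ≤ e k) ∧ lead e = j.down := by
      rw [Finsupp.mem_support_iff, proj_apply] at he
      by_contra hcon
      rw [if_neg hcon] at he
      exact he rfl
    obtain ⟨h1, h2⟩ := (mem_range_coord d _ _).1 ⟨s, rfl⟩ e he'
    refine ⟨h1, fun k hk => ?_⟩
    obtain ⟨a, ha⟩ := h2 k hk
    refine Fin.cases ?_ (fun a' => ?_) a ha
    · intro ha0
      exfalso
      simp only [Fin.cons_zero] at ha0
      have := lead_spec e hp.1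
      rw [hp.2, ha0] at this
      omega
    · intro ha'
      simp only [Fin.cons_succ] at ha'
      exact ⟨a', ha'⟩
  · intro x s
    apply sum_proj
    intro e he
    by_contra hcon
    push Not at hcon
    obtain ⟨h1, h2⟩ := (mem_range_coord d _ _).1 ⟨s, rfl⟩ e he
    rcases h with h | h
    · -- `x` cannot be surjective
      have hsurj : Function.Surjective (fun a => (x a).down) := fun k => h2 k (hcon k)
      have := Fintype.card_le_of_surjective _ hsurj
      simp only [Fintype.card_fin] at this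
      omega
    · have hdeg : e.degree ≤ -((n : ℤ) + 1) := by
        rw [Finsupp.degree_eq_sum]
        have : ∑ i : Fin (n + 1), e i ≤ ∑ _i : Fin (n + 1), (-1 : ℤ) :=
          Finset.sum_le_sum (fun i _ => by have := hcon i; omega)
        simp only [Finset.sum_const, Finset.card_univ, Fintype.card_fin, nsmul_eq_mul, mul_neg,
          mul_one] at this
        push_cast at this
        linarith
      rw [h1] at hdeg
      omega

end Groth.Agent.Lib.Seat54.PnCech
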