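import Groth.Agent.Lib.Seat54PnCech
import Groth.Agent.S0013
import Groth.Agent.S0022

/-!
# Vanishing of the cohomology of `O(d)` on projective space (helper54)

`subsingleton_HH_twist`: `H^q(P^n_R, O(d)) = 0` for `q > 0` and (`q < n` or `d > -(n+1)`), via Cech cohomology
for the standard cover (S0013) and the monomial contraction; `subsingleton_HH_zero`: `H^0(P^n_R, O(d)) = 0` for
`d < 0`, `n ≥ 1`; `subsingleton_HH_twist_all`: the full vanishing statement; `structure_iso`: `O ≅ O(0)`.
-/

set_option autoImplicit false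
universe u

open CategoryTheory CategoryTheory.Limits AlgebraicGeometry TopologicalSpace Opposite MvPolynomial
open Groth.Agent.Lib.Helper16.CechLow Groth.Agent.Lib.Seat54.CechCoord Groth.Agent.Lib.Seat54.Laurent
  Groth.Agent.Lib.Seat54.PnLau Groth.Agent.Lib.Seat54.PnCech
open Groth.Agent.Lib.Helper27GrTildeSect Groth.Agent.Lib.Helper27PnSections

namespace Groth.Agent.Lib.Seat54.PnVanish

variable (n : ℕ) (R : Type u) [CommRing R]

local notation "𝒫" => CohB1.polyGrading n R
local notation "S" => MvPolynomial (Fin (n + 1)) R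

theorem twist_eq_tilde (d : ℤ) :
    Twist.twistProjSpace n R d = GrTilde.tilde 𝒫 𝒫 d := rfl

instance (d : ℤ) : Coh.IsQCoh (Twist.twistProjSpace n R d) := by
  rw [twist_eq_tilde]
  exact isQuasicoherent_tilde 𝒫 𝒫 d

theorem iSup_U : ⨆ i, U n R i = ⊤ := by
  have h := Proj.iSup_basicOpen_eq_top 𝒫
    (fun k : Fin (n + 1) => (X k : S)) (Groth.Agent.S0022.irrelevant_le n R)
  apply top_le_iff.1
  rw [← h]
  exact iSup_le (fun k => le_iSup (U n R) (ULift.up k))

theorem isAffineOpen_iInf (s : Finset (ULift.{u} (Fin (n + 1)))) (hs : s.Nonempty) :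
    IsAffineOpen (X := Proj 𝒫) (⨅ i ∈ s, U n R i) := by
  classical
  have hX : ∀ k : Fin (n + 1), (X k : S) ∈ CohB1.polyGrading n R 1 :=
    fun k => MvPolynomial.isHomogeneous_X R k
  have hsep : IsAffineHom (Limits.pullback.diagonal (Limits.terminal.from (Proj 𝒫))) := inferInstance
  induction hs using Finset.Nonempty.cons_induction with
  | singleton a =>
    simp only [Finset.mem_singleton, iInf_iInf_eq_left]
    exact Proj.isAffineOpen_basicOpen 𝒫 _ (hX a.down) Nat.one_pos
  | cons a s has hs ih =>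
    have e : (⨅ i ∈ Finset.cons a s has, U n R i) = U n R a ⊓ ⨅ i ∈ s, U n R i := by
      simp only [Finset.cons_eq_insert, Finset.mem_insert, iInf_or, iInf_inf_eq, iInf_iInf_eq_left]
    rw [e]
    exact @IsAffineOpen.inf (Proj 𝒫) hsep _ _
      (Proj.isAffineOpen_basicOpen 𝒫 _ (hX a.down) Nat.one_pos) ih

/-- Cech vanishing transferred to cohomology -/
theorem subsingleton_HH_twist (d : ℤ) (q : ℕ) (hq : 0 < q) (h : q < n ∨ -((n : ℤ) + 1) < d) :
    Subsingleton (Coh.HH (CohB1.ProjSpace n R) (Twist.twistProjSpace n R d) q) := by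
  obtain ⟨q', rfl⟩ := Nat.exists_eq_succ_of_ne_zero hq.ne'
  obtain ⟨e⟩ := Groth.Agent.S0013.result (CohB1.ProjSpace n R) (U n R) (iSup_U n R)
    (isAffineOpen_iInf n R) (Twist.twistProjSpace n R d) (q' + 1)
  have hz : IsZero (CohB1.cechH (U n R) (Twist.twistProjSpace n R d) (q' + 1)) :=
    isZero_cech (n := n) (R := R) d q' h
  have hs := AddCommGrpCat.subsingleton_of_isZero hz
  exact ⟨fun a b => e.symm.injective (hs.elim _ _)⟩


end Groth.Agent.Lib.Seat54.PnVanish
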