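import Groth.Agent.Lib.Seat54PnTop
import Groth.Agent.Lib.Seat54PnVanish

/-!
# `H^n(P^n_R, O(-(n+1+k)))` is the module of homogeneous polynomials of degree `k` (helper54)

`tdEquiv`: `Td n R (-(n+1+k)) ≃ₗ[R] homogeneous polynomials of degree k` (`X^m ↦ X^(-m-1)`);
`exists_HH_equiv`: for `d < 0` an additive isomorphism `H^n(P^n_R, O(d)) ≃+ Td n R d` commuting with the `R`-actions
(natural Cech comparison `CechNat.exists_natural_iso` + `PnTop.exists_cech_top_equiv`);
`nonempty_top_cohomology_equiv`: the statement of S0845.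
-/

set_option autoImplicit false
universe u

open CategoryTheory CategoryTheory.Limits AlgebraicGeometry TopologicalSpace Opposite MvPolynomial
open Groth.Agent.Lib.Helper16.CechLow Groth.Agent.Lib.Seat54.CechCoord Groth.Agent.Lib.Seat54.Laurent
  Groth.Agent.Lib.Seat54.PnLau Groth.Agent.Lib.Seat54.PnCech Groth.Agent.Lib.Seat54.CechTop
  Groth.Agent.Lib.Seat54.PnTop Groth.Agent.Lib.Seat54.PnVanish

namespace Groth.Agent.Lib.Seat54.PnTopCoh

variable (n : ℕ) (R : Type u) [CommRing R]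

local notation "𝒫" => CohB1.polyGrading n R
local notation "S" => MvPolynomial (Fin (n + 1)) R

section Td

/-- negation of exponents -/
noncomputable def negL : Lau (Fin (n + 1)) R ≃ₗ[R] Lau (Fin (n + 1)) R :=
  Finsupp.domLCongr (R := R) (M := R) (Equiv.neg (Fin (n + 1) →₀ ℤ))

lemma negL_apply (t : Lau (Fin (n + 1)) R) (e : Fin (n + 1) →₀ ℤ) : negL n R t e = t (-e) := by
  unfold negL
  rw [Finsupp.domLCongr_apply, Finsupp.domCongr_apply]
  rfl

/-- `X^m ↦ X^(-m-1)` -/
noncomputable def nlau : S →ₗ[R] Lau (Fin (n + 1)) R :=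
  (negL n R).toLinearMap.comp (lau (-(up (ones n))))

variable {n R}

lemma nlau_apply (a : S) (e : Fin (n + 1) →₀ ℤ) : nlau n R a e = lau (-(up (ones n))) a (-e) := by
  unfold nlau
  rw [LinearMap.comp_apply, LinearEquiv.coe_coe, negL_apply]

lemma nlau_injective : Function.Injective (nlau n R) := by
  unfold nlau
  rw [LinearMap.coe_comp, LinearEquiv.coe_coe]
  exact (LinearEquiv.injective _).comp (lau_injective _)

lemma ones_apply (j : Fin (n + 1)) : ones n j = 1 := by
  unfold ones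
  rw [Finsupp.finsetSum_apply]
  simp [Finsupp.single_apply]

variable (k : ℕ)

lemma nlau_mem_Td (a : S) (ha : a ∈ homogeneousSubmodule (Fin (n + 1)) R k) :
    nlau n R a ∈ Td n R (-((n : ℤ) + 1 + k)) := by
  rw [mem_Td]
  intro e he
  rw [Finsupp.mem_support_iff, nlau_apply] at he
  obtain ⟨m, hm, hme⟩ := exists_of_lau_ne _ _ _ he
  have hmdeg : m.degree = k := by
    have h1 : Finsupp.weight (1 : Fin (n + 1) → ℕ) m = k := ha hm
    rw [Finsupp.degree_eq_weight_one]
    exact h1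
  have he' : e = -(up m) - up (ones n) := by
    have : e = -(-e) := (neg_neg e).symm
    rw [this, hme]
    abel
  constructor
  · rw [he', map_sub, map_neg, degree_up, degree_up, hmdeg, degree_ones]
    push_cast
    ring
  · intro j
    rw [he']
    simp only [Finsupp.coe_sub, Finsupp.coe_neg, Pi.sub_apply, Pi.neg_apply, up_apply, ones_apply]
    have : (0 : ℤ) ≤ (m j : ℤ) := Int.natCast_nonneg _
    push_cast
    omega

lemma exists_nlau_eq (t : Lau (Fin (n + 1)) R) (ht : t ∈ Td n R (-((n : ℤ) + 1 + k))) :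
    ∃ a : S, a ∈ homogeneousSubmodule (Fin (n + 1)) R k ∧ nlau n R a = t := by
  have ht' := (mem_Td _ t).1 ht
  let t' : Lau (Fin (n + 1)) R := negL n R t
  have ht'_apply : ∀ e, t' e = t (-e) := fun e => negL_apply n R t e
  have hsupp : ∀ e ∈ t'.support, -e ∈ t.support := by
    intro e he
    rw [Finsupp.mem_support_iff] at he ⊢
    rwa [ht'_apply] at he
  obtain ⟨a, hla, hasupp⟩ := exists_lau_eq (-(up (ones n))) t' (fun e he j => by
    have := (ht' _ (hsupp e he)).2 j
    simp only [Finsupp.coe_neg, Pi.neg_apply, up_apply, ones_apply] at this ⊢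
    push_cast
    omega)
  refine ⟨a, ?_, ?_⟩
  · intro m hm
    have h1 := hsupp _ (hasupp m hm)
    have h2 := (ht' _ h1).1
    rw [map_neg, map_sub, map_neg, degree_up, degree_up, degree_ones] at h2
    have h3 : (m.degree : ℤ) = k := by
      push_cast at h2
      linarith
    have h4 : m.degree = k := by exact_mod_cast h3
    rw [Finsupp.degree_eq_weight_one] at h4
    exact h4
  · ext e
    rw [nlau_apply, hla, ht'_apply, neg_neg]

variable (n R)

/-- `Td` in degree `-(n+1+k)` is the module of homogeneous polynomials of degree `k` -/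
theorem nonempty_tdEquiv :
    Nonempty (Td n R (-((n : ℤ) + 1 + k)) ≃ₗ[R] ↥(homogeneousSubmodule (Fin (n + 1)) R k)) := by
  let g : ↥(homogeneousSubmodule (Fin (n + 1)) R k) →ₗ[R] Td n R (-((n : ℤ) + 1 + k)) :=
    LinearMap.codRestrict (Td n R (-((n : ℤ) + 1 + k)))
      ((nlau n R).comp (homogeneousSubmodule (Fin (n + 1)) R k).subtype)
      (fun a => nlau_mem_Td k a.1 a.2)
  have hg : Function.Bijective g := by
    constructor
    · intro a b hab
      have h1 : nlau n R a.1 = nlau n R b.1 := congrArg Subtype.val hab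
      exact Subtype.ext (nlau_injective h1)
    · intro t
      obtain ⟨a, ha, hat⟩ := exists_nlau_eq k t.1 t.2
      exact ⟨⟨a, ha⟩, Subtype.ext hat⟩
  exact ⟨(LinearEquiv.ofBijective g hg).symm⟩

end Td


section HH

open Groth.Agent.Lib.Helper23.AffVanish Groth.Agent.Lib.Helper21.Cech

variable (d : ℤ)

/-- the sheaf `O(d)` as an abelian sheaf on the underlying space -/
noncomputable abbrev F : CohTop.Ab (Proj 𝒫).carrier := ab' (GrTilde.tilde 𝒫 𝒫 d)

theorem acyclic (p : ℕ) (a : Fin (p + 1) → ULift.{u} (Fin (n + 1))) (q : ℕ) :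
    Subsingleton (CohSite.HU (F n R d) (q + 1) (fp (Y n R) a).left) := by
  have haff : IsAffineOpen (X := Proj 𝒫) (fp (Y n R) a).left := by
    have e : (fp (Y n R) a).left = D n R (vx a) := left_eq_D R a
    rw [e]
    refine Proj.isAffineOpen_basicOpen 𝒫 _ (monomial_mem n R (vx a)) ?_
    rw [degree_vx]
    exact Nat.succ_pos _
  have : (GrTilde.tilde 𝒫 𝒫 d).IsQuasicoherent :=
    Groth.Agent.Lib.Helper27GrTildeSect.isQuasicoherent_tilde 𝒫 𝒫 d
  exact subsingleton_HE_of_isAffineOpen haff (GrTilde.tilde 𝒫 𝒫 d) q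

/-- multiplication by `r` on `O(d)` -/
noncomputable abbrev ψ (r : R) : F n R d ⟶ F n R d :=
  Coh.smulAb (X := CohB1.ProjSpace n R) (Twist.twistProjSpace n R d)
    (Coh.toGlobal (CohB1.ProjSpace n R ↘ Spec (CommRingCat.of R)) r)

theorem toGlobal_eq (r : R) :
    Coh.toGlobal (CohB1.ProjSpace n R ↘ Spec (CommRingCat.of R)) r =
      Groth.Agent.Lib.Helper27GrTildeSect.constFun 𝒫 r := rfl

theorem smulAb_app' (c : Coh.Γtop (CohB1.ProjSpace n R)) (W : (Proj 𝒫).Opens)
    (s : Γ(GrTilde.tilde 𝒫 𝒫 d, W)) :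
    (Coh.smulAb (X := CohB1.ProjSpace n R) (Twist.twistProjSpace n R d) c).hom.app (op W) s =
      @HSMul.hSMul ((CohB1.ProjSpace n R).ringCatSheaf.obj.obj (op W))
        ((Twist.twistProjSpace n R d).val.obj (op W)) ((Twist.twistProjSpace n R d).val.obj (op W)) _
        (Coh.resTop (CohB1.ProjSpace n R) (op W) c) s := rfl

theorem resTop_smul (c : Γ(Proj 𝒫, ⊤)) (W : (Proj 𝒫).Opens) (s : Γ(GrTilde.tilde 𝒫 𝒫 d, W)) :
    @HSMul.hSMul ((CohB1.ProjSpace n R).ringCatSheaf.obj.obj (op W))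
        ((Twist.twistProjSpace n R d).val.obj (op W)) ((Twist.twistProjSpace n R d).val.obj (op W)) _
        (Coh.resTop (CohB1.ProjSpace n R) (op W) c) s =
      ((Proj 𝒫).presheaf.map (homOfLE (le_top : W ≤ ⊤)).op c) • s := rfl

theorem ψ_app (r : R) (W : (Proj 𝒫).Opens) (s : Γ(GrTilde.tilde 𝒫 𝒫 d, W)) :
    (ψ n R d r).hom.app (op W) s =
      ((Proj 𝒫).presheaf.map (homOfLE (le_top : W ≤ ⊤)).op
        (Groth.Agent.Lib.Helper27GrTildeSect.constFun 𝒫 r)) • s := by
  have h1 := smulAb_app' n R d (Coh.toGlobal (CohB1.ProjSpace n R ↘ Spec (CommRingCat.of R)) r) W s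
  have h2 := resTop_smul n R d (Groth.Agent.Lib.Helper27GrTildeSect.constFun 𝒫 r) W s
  rw [toGlobal_eq] at h1
  exact h1.trans h2

theorem emb_ψ (r : R) (W : (Proj 𝒫).Opens) (hW : V n R ≤ W) (s : Γ(GrTilde.tilde 𝒫 𝒫 d, W)) :
    emb d hW ((ψ n R d r).hom.app (op W) s) = r • emb d hW s := by
  rw [ψ_app]
  exact emb_smul hW r s

set_option maxHeartbeats 3200000 in
theorem exists_HH_equiv (hd : d < 0) :
    ∃ Θ : Coh.HH (CohB1.ProjSpace n R) (Twist.twistProjSpace n R d) n ≃+ Td n R d,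
      ∀ (r : R) (x : Coh.HH (CohB1.ProjSpace n R) (Twist.twistProjSpace n R d) n),
        Θ (r • x) = r • Θ x := by
  obtain ⟨Φ, hΦ⟩ := Groth.Agent.Lib.Seat54.CechNat.exists_natural_iso (F n R d) (U n R) (iSup_U n R)
    (acyclic n R d) n
  obtain ⟨Ψ, hΨ⟩ := exists_cech_top_equiv (R := R) d n hd
  let Φ' : (CK (Y n R) (PO n R d)).homology n ≃+
      Coh.HH (CohB1.ProjSpace n R) (Twist.twistProjSpace n R d) n := Φ
  refine ⟨Φ'.symm.trans Ψ, fun r x => ?_⟩
  obtain ⟨y, rfl⟩ := Φ'.surjective x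
  have h1 : r • Φ' y = Φ' (CechEdge.cechHMap (Y n R) (ψ n R d r).hom n y) := (hΦ (ψ n R d r) y).symm
  have e1 : Φ'.symm (r • Φ' y) = CechEdge.cechHMap (Y n R) (ψ n R d r).hom n y := by
    rw [h1]
    exact Φ'.symm_apply_apply _
  have e2 : Φ'.symm (Φ' y) = y := Φ'.symm_apply_apply y
  have e3 := cech_top_equiv_smul d Ψ hΨ (ψ n R d r).hom r (emb_ψ n R d r) y
  show Ψ (Φ'.symm (r • Φ' y)) = r • Ψ (Φ'.symm (Φ' y))
  exact (congrArg Ψ e1).trans (e3.trans (congrArg (fun z => r • Ψ z) e2.symm))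

/-- top cohomology of negative twists on projective space -/
theorem nonempty_top_cohomology_equiv (k : ℕ) :
    Nonempty (Coh.HH (CohB1.ProjSpace n R) (Twist.twistProjSpace n R (-((n : ℤ) + 1 + k))) n ≃ₗ[R]
      ↥(MvPolynomial.homogeneousSubmodule (Fin (n + 1)) R k)) := by
  have hd : -((n : ℤ) + 1 + k) < 0 := by
    have h1 : (0 : ℤ) ≤ n := Int.natCast_nonneg n
    have h2 : (0 : ℤ) ≤ k := Int.natCast_nonneg k
    omega
  obtain ⟨Θ, hΘ⟩ := exists_HH_equiv n R (-((n : ℤ) + 1 + k)) hd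
  obtain ⟨e⟩ := nonempty_tdEquiv n R k
  let Θl : Coh.HH (CohB1.ProjSpace n R) (Twist.twistProjSpace n R (-((n : ℤ) + 1 + k))) n ≃ₗ[R]
      Td n R (-((n : ℤ) + 1 + k)) :=
    { Θ with map_smul' := fun r x => hΘ r x }
  exact ⟨Θl.trans e⟩

end HH

end Groth.Agent.Lib.Seat54.PnTopCoh
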