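import Groth.Agent.S0843
import Groth.Agent.S0844
import Groth.Agent.S0845
import Groth.Agent.Lib.Helper24CIHilb

/-!
# Dimensions of the cohomology of `O(n)` on projective space over a field (seat 54)

`finrank_HH_zero`, `finrank_HH_top`, `finrank_HH_eq_zero` and the Euler characteristic `euler` (= S4466).
-/

set_option autoImplicit false
universe u
open CategoryTheory AlgebraicGeometry

namespace Groth.Agent.Lib.Seat54.PnEuler

variable (k : Type u) [Field k] (r : ℕ)

theorem finrank_HH_zero (m : ℕ) :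
    Module.finrank k (Coh.HH (CohB1.ProjSpace r k) (Twist.twistProjSpace r k (m : ℤ)) 0) =
      Nat.choose (r + m) m := by
  obtain ⟨e⟩ := Groth.Agent.S0843.result k r m
  rw [e.finrank_eq, Groth.Agent.Lib.Helper24CIHilb.finrank_homog]
  congr 1
  omega

theorem finrank_HH_top (m : ℕ) :
    Module.finrank k (Coh.HH (CohB1.ProjSpace r k)
      (Twist.twistProjSpace r k (-((r : ℤ) + 1 + m))) r) = Nat.choose (r + m) m := by
  obtain ⟨e⟩ := Groth.Agent.S0845.result k r m
  rw [e.finrank_eq, Groth.Agent.Lib.Helper24CIHilb.finrank_homog]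
  congr 1
  omega

theorem finrank_HH_eq_zero (d : ℤ) (q : ℕ)
    (h₀ : ¬ (q = 0 ∧ 0 ≤ d)) (hn : ¬ (q = r ∧ d ≤ -((r : ℤ) + 1))) :
    Module.finrank k (Coh.HH (CohB1.ProjSpace r k) (Twist.twistProjSpace r k d) q) = 0 := by
  have := Groth.Agent.S0844.result k r d q h₀ hn
  exact Module.finrank_zero_of_subsingleton

/-- Euler characteristic of `O(n)` on projective space over a field -/
theorem euler (hr : 0 < r) (n : ℤ) :
    ((Finset.range (r + 1)).sum fun j => (-1 : ℤ) ^ j *
        (Module.finrank k (Coh.HH (CohB1.ProjSpace r k) (Twist.twistProjSpace r k n) j) : ℤ)) =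
      Ring.choose (n + r) r := by
  have hsum : ((Finset.range (r + 1)).sum fun j => (-1 : ℤ) ^ j *
        (Module.finrank k (Coh.HH (CohB1.ProjSpace r k) (Twist.twistProjSpace r k n) j) : ℤ)) =
      (-1 : ℤ) ^ 0 *
        (Module.finrank k (Coh.HH (CohB1.ProjSpace r k) (Twist.twistProjSpace r k n) 0) : ℤ) +
      (-1 : ℤ) ^ r *
        (Module.finrank k (Coh.HH (CohB1.ProjSpace r k) (Twist.twistProjSpace r k n) r) : ℤ) := by
    refine Finset.sum_eq_add 0 r (by omega) ?_ ?_ ?_
    · intro c _ hc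
      rw [finrank_HH_eq_zero k r n c (fun h => hc.1 h.1) (fun h => hc.2 h.1)]
      simp
    · intro h
      exact absurd (Finset.mem_range.2 (by omega)) h
    · intro h
      exact absurd (Finset.mem_range.2 (by omega)) h
  rw [hsum]
  rcases le_or_gt 0 n with hn | hn
  · obtain ⟨m, rfl⟩ := Int.eq_ofNat_of_zero_le hn
    rw [finrank_HH_zero, finrank_HH_eq_zero k r (m : ℤ) r (fun h => by omega) (fun h => by omega)]
    have e : ((m : ℤ) + (r : ℤ)) = ((m + r : ℕ) : ℤ) := by push_cast; ring
    rw [e, Ring.choose_natCast]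
    simp only [pow_zero, one_mul, Nat.cast_zero, mul_zero, add_zero]
    congr 1
    rw [add_comm r m]
    exact Nat.choose_symm_add
  · rcases le_or_gt n (-((r : ℤ) + 1)) with hn' | hn'
    · obtain ⟨m, hm⟩ : ∃ m : ℕ, n = -((r : ℤ) + 1 + m) := ⟨(-((r : ℤ) + 1) - n).toNat, by omega⟩
      subst hm
      rw [finrank_HH_top, finrank_HH_eq_zero k r _ 0 (fun h => by omega) (fun h => by omega)]
      have e : (-((r : ℤ) + 1 + m) + (r : ℤ)) = -(((m + 1 : ℕ) : ℤ)) := by push_cast; ring
      rw [e, Ring.choose_neg]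
      have e2 : (((m + 1 : ℕ) : ℤ) + (r : ℤ) - 1) = ((m + r : ℕ) : ℤ) := by push_cast; ring
      rw [e2, Ring.choose_natCast]
      simp only [Nat.cast_zero, mul_zero, zero_add]
      rw [Int.negOnePow_def, Units.smul_def]
      simp only [zpow_natCast, Units.val_pow_eq_pow_val, Units.val_neg, Units.val_one, smul_eq_mul]
      congr 2
      rw [add_comm r m]
      exact Nat.choose_symm_add
    · rw [finrank_HH_eq_zero k r n 0 (fun h => by omega) (fun h => by omega),
        finrank_HH_eq_zero k r n r (fun h => by omega) (fun h => by omega)]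
      obtain ⟨m, hm⟩ : ∃ m : ℕ, n + r = (m : ℤ) := ⟨(n + r).toNat, by omega⟩
      rw [hm, Ring.choose_natCast, Nat.choose_eq_zero_of_lt (by omega)]
      simp

end Groth.Agent.Lib.Seat54.PnEuler
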