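import Groth.Agent.S0010
import Groth.Prelude.Def_CohB1
import Groth.Agent.Lib.Helper27ProjGamma2

/-!
# Vanishing of quasi-coherent cohomology of closed subschemes of `P^n_R` above degree `n` (seat 68)

A closed subscheme of `P^n_R` is separated and covered by `n + 1` affine opens, so the prior
`S0010` (vanishing above the number of affines) applies.
-/

set_option autoImplicit false
universe u
open CategoryTheory CategoryTheory.Limits AlgebraicGeometry

namespace Groth.Agent.Lib.Seat68.ProjVanish

variable (n : ℕ) (R : Type u) [CommRing R]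

lemma iSup_basicOpen_X :
    ⨆ i : Fin (n + 1), Proj.basicOpen (CohB1.polyGrading n R)
      (MvPolynomial.X i : MvPolynomial (Fin (n + 1)) R) = ⊤ :=
  Proj.iSup_basicOpen_eq_top _ _ (Groth.Agent.Lib.Helper27ProjGamma.irrelevant_le n R)

instance isSeparated_projSpace : (CohB1.ProjSpace n R).IsSeparated :=
  inferInstanceAs (Scheme.IsSeparated (Proj (CohB1.polyGrading n R)))

/-- The standard open `D₊(X_i)` of `P^n_R`. -/
noncomputable def stdOpen (i : Fin (n + 1)) : (CohB1.ProjSpace n R).Opens :=
  Proj.basicOpen (CohB1.polyGrading n R) (MvPolynomial.X i : MvPolynomial (Fin (n + 1)) R)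

lemma isAffineOpen_stdOpen (i : Fin (n + 1)) : IsAffineOpen (stdOpen n R i) :=
  Proj.isAffineOpen_basicOpen (CohB1.polyGrading n R) _
    (Groth.Agent.Lib.Helper27ProjGamma.hX n R i) Nat.one_pos

lemma iSup_stdOpen : ⨆ i : Fin (n + 1), stdOpen n R i = ⊤ := iSup_basicOpen_X n R

theorem HH_subsingleton {X : Scheme.{u}} (ι : X ⟶ CohB1.ProjSpace n R) [IsClosedImmersion ι]
    (F : X.Modules) [Coh.IsQCoh F] (q : ℕ) (hq : n + 1 ≤ q) : Subsingleton (Coh.HH X F q) := by
  have hsep : IsSeparated (terminal.from X) := by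
    have h : terminal.from X = ι ≫ terminal.from (CohB1.ProjSpace n R) := by
      apply terminal.hom_ext
    rw [h]
    infer_instance
  refine Groth.Agent.S0010.result X (n + 1) (fun i => ι ⁻¹ᵁ stdOpen n R i) ?_ ?_ ?_ F q hq
  · intro i
    exact (isAffineOpen_stdOpen n R i).preimage ι
  · rw [← Scheme.Hom.preimage_iSup, iSup_stdOpen]
    rfl
  · intro V W hV hW
    exact hV.inf hW

end Groth.Agent.Lib.Seat68.ProjVanish
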