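import Groth.Agent.Lib.Seat54HHSigma
import Groth.Agent.Lib.Seat68ProjVanish
import Groth.Agent.Lib.Helper27PnChart
import Groth.Agent.Lib.Helper20ZClos20
import Groth.Agent.S12453
import Groth.Agent.S0843
import Groth.Agent.S0844
import Groth.Agent.S0845
import Groth.Agent.S0846
import Groth.Agent.S9514
import Groth.Agent.S2357

/-!
# Finiteness of coherent cohomology on projective space (seat 54)

`finite_HH_twist`: every `H^q(P^n_R, O(d))` is a finite `R`-module (S0843, S0844, S0845);
`finite_HH`: for `R` Noetherian and `M` coherent on `P^n_R`, every `H^i(P^n_R, M)` is a finite `R`-module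
(descending induction on `i` with a presentation by twists, S0846). Also `isInvertible_twistProjSpace`,
`isCoh_twistProjSpace`, instance `IsNoetherian (CohB1.ProjSpace n R)`.
-/

set_option autoImplicit false
universe u
open CategoryTheory CategoryTheory.Limits AlgebraicGeometry Abelian Opposite

namespace Groth.Agent.Lib.Seat54.PnFinite

open Groth.Agent.Lib.Seat54.HHFinite Groth.Agent.Lib.Seat54.HHSigma

variable (n : ℕ) (R : Type u) [CommRing R]

/-- `O(d)` on projective space over a ring is invertible -/
theorem isInvertible_twistProjSpace (d : ℤ) :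
    PicF.IsInvertible (Twist.twistProjSpace n R d) := by
  have hcov : (⨆ f : CohB1.polyGrading n R 1, Proj.basicOpen (CohB1.polyGrading n R)
      (f : MvPolynomial (Fin (n + 1)) R)) = ⊤ := by
    rw [eq_top_iff, ← Groth.Agent.Lib.Helper27PnChart.iSup_basicOpen_X n R]
    refine iSup_le fun i => ?_
    exact le_iSup (fun f : CohB1.polyGrading n R 1 => Proj.basicOpen (CohB1.polyGrading n R)
      (f : MvPolynomial (Fin (n + 1)) R)) ⟨MvPolynomial.X i, Groth.Agent.Lib.Helper27PnChart.X_mem_one n R i⟩
  exact (Groth.Agent.S12453.result (CohB1.polyGrading n R) hcov).1 d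

theorem isCoh_twistProjSpace (d : ℤ) : Coh.IsCoh (Twist.twistProjSpace n R d) :=
  ⟨Groth.Agent.Lib.Helper20.WeakAss.isQuasicoherent_of_isInvertible _ (isInvertible_twistProjSpace n R d),
    Groth.Agent.Lib.Helper20.ZClosLib.isFiniteType_of_isInvertible _ (isInvertible_twistProjSpace n R d)⟩

/-- all cohomology groups of `O(d)` on projective space are finite modules -/
theorem finite_HH_twist (d : ℤ) (q : ℕ) :
    Module.Finite R (Coh.HH (CohB1.ProjSpace n R) (Twist.twistProjSpace n R d) q) := by
  by_cases h₀ : q = 0 ∧ 0 ≤ d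
  · obtain ⟨rfl, hd⟩ := h₀
    obtain ⟨k, rfl⟩ := Int.eq_ofNat_of_zero_le hd
    obtain ⟨e⟩ := Groth.Agent.S0843.result R n k
    have : Module.Finite R ↥(MvPolynomial.homogeneousSubmodule (Fin (n + 1)) R k) :=
      Module.Finite.iff_fg.2 (MvPolynomial.homogeneousSubmodule_fg _ _ k)
    exact Module.Finite.equiv e.symm
  by_cases hn : q = n ∧ d ≤ -((n : ℤ) + 1)
  · obtain ⟨rfl, hd⟩ := hn
    obtain ⟨k, hk⟩ : ∃ k : ℕ, d = -((q : ℤ) + 1 + k) := ⟨(-((q : ℤ) + 1) - d).toNat, by omega⟩
    subst hk
    obtain ⟨e⟩ := Groth.Agent.S0845.result R q k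
    have : Module.Finite R ↥(MvPolynomial.homogeneousSubmodule (Fin (q + 1)) R k) :=
      Module.Finite.iff_fg.2 (MvPolynomial.homogeneousSubmodule_fg _ _ k)
    exact Module.Finite.equiv e.symm
  · have := Groth.Agent.S0844.result R n d q h₀ hn
    exact Module.Finite.of_finite

variable [IsNoetherianRing R]

instance : IsNoetherian (CohB1.ProjSpace n R) :=
  Groth.Agent.S2357.result (CohB1.polyGrading n R)

/-- descending induction for the finiteness theorem -/
theorem finite_HH_aux : ∀ (k i : ℕ), n + 1 ≤ i + k → ∀ (M : (CohB1.ProjSpace n R).Modules),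
    Coh.IsCoh M → Module.Finite R (Coh.HH (CohB1.ProjSpace n R) M i) := by
  intro k
  induction k with
  | zero =>
    intro i hi M hM
    have : Coh.IsQCoh M := hM.1
    have := Groth.Agent.Lib.Seat68.ProjVanish.HH_subsingleton n R (𝟙 (CohB1.ProjSpace n R)) M i (by omega)
    exact Module.Finite.of_finite
  | succ k ih =>
    intro i hi M hM
    obtain ⟨r, d, φ, hφ⟩ := Groth.Agent.S0846.result (CohB1.polyGrading n R) M hM
    let E : Fin r → (CohB1.ProjSpace n R).Modules := fun j => Twist.twistProjSpace n R (d j)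
    have hE : Coh.IsCoh (∐ E) := isCoh_sigma E (fun j => isCoh_twistProjSpace n R (d j))
    let φ' : (∐ E) ⟶ M := φ
    have hφ' : Epi φ' := hφ
    let S : ShortComplex (CohB1.ProjSpace n R).Modules :=
      ShortComplex.mk (kernel.ι φ') φ' (kernel.condition φ')
    have hS : S.ShortExact :=
      { exact := ShortComplex.exact_kernel φ'
        mono_f := inferInstanceAs (Mono (kernel.ι φ'))
        epi_g := hφ' }
    have hK : Coh.IsCoh (kernel φ') := (Groth.Agent.S9514.result (CohB1.ProjSpace n R) hE hM φ').1
    have h2 : Module.Finite R (Coh.HH (CohB1.ProjSpace n R) S.X₂ i) :=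
      finite_sigma R E i (fun j => finite_HH_twist n R (d j) i)
    have h1 : Module.Finite R (Coh.HH (CohB1.ProjSpace n R) S.X₁ (i + 1)) :=
      ih (i + 1) (by omega) (kernel φ') hK
    exact finite_right R S hS i h2 h1

/-- **Finiteness of coherent cohomology on projective space over a Noetherian ring.** -/
theorem finite_HH (M : (CohB1.ProjSpace n R).Modules) (hM : Coh.IsCoh M) (i : ℕ) :
    Module.Finite R (Coh.HH (CohB1.ProjSpace n R) M i) :=
  finite_HH_aux n R (n + 1) i (by omega) M hM

end Groth.Agent.Lib.Seat54.PnFinite
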