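import Groth.Agent.Lib.Helper27PnSections
import Groth.Agent.Lib.Seat54Laurent

/-!
# Laurent expansions of sections of `O(d)` on opens of projective space containing the torus (helper54)

`V = D₊(T_0 ⋯ T_n)`.  For an open `W ⊇ V` and a section `s` of `O(d)` over `W`, `emb hW s : Lau` is the Laurent
expansion of `s` (characterised by `emb_eq`: if `s = a / X^v` at all points of `V` then `emb hW s = lau (up v) a`).
`emb` is additive, compatible with restriction (`emb_map`), and for `W = D₊(X^v')`: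
injective (`emb_injective_D`) with image the `ℓ` whose support consists of exponents of total degree `d` that are
negative only on the support of `v'` (`mem_range_emb_D`).
-/

set_option autoImplicit false
universe u

open CategoryTheory CategoryTheory.Limits AlgebraicGeometry TopologicalSpace Opposite
  HomogeneousLocalization MvPolynomial
open Groth.Agent.Lib.Helper27GrTildeSect Groth.Agent.Lib.Helper27ProjGamma
  Groth.Agent.Lib.Helper27PnSections Groth.Agent.Lib.Seat54.Laurent

namespace Groth.Agent.Lib.Seat54.PnLau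

variable (n : ℕ) (R : Type u) [CommRing R]

local notation "𝒫" => CohB1.polyGrading n R
local notation "S" => MvPolynomial (Fin (n + 1)) R

/-- the all-ones exponent -/
noncomputable def ones : Fin (n + 1) →₀ ℕ := ∑ k : Fin (n + 1), Finsupp.single k 1

/-- the product of the coordinates -/
noncomputable def T : S := monomial (ones n) 1

lemma T_eq_prod : T n R = ∏ k : Fin (n + 1), (X k : S) := by
  unfold T ones
  rw [monomial_sum_index, map_one, one_mul]
  rfl

lemma isRegular_T : IsRegular (T n R) := by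
  rw [T_eq_prod]
  exact isRegular_prod_X _

lemma degree_ones : (ones n).degree = n + 1 := by
  unfold ones
  rw [map_sum]
  simp

lemma monomial_mem (v : Fin (n + 1) →₀ ℕ) : (monomial v (1 : R) : S) ∈ CohB1.polyGrading n R v.degree :=
  isHomogeneous_monomial 1 rfl

lemma T_mem : T n R ∈ CohB1.polyGrading n R (n + 1) := by
  have := monomial_mem n R (ones n)
  rwa [degree_ones] at this

variable {n R}

/-- all coordinates are invertible at `y` -/
def AllX (y : ProjectiveSpectrum 𝒫) : Prop :=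
  ∀ k : Fin (n + 1), (X k : S) ∉ y.asHomogeneousIdeal

lemma monomial_not_mem (v : Fin (n + 1) →₀ ℕ) {y : ProjectiveSpectrum 𝒫} (hy : AllX y) :
    (monomial v (1 : R) : S) ∉ y.asHomogeneousIdeal := by
  rw [← prod_X_pow_eq_monomial]
  intro h
  have h' : ∏ k ∈ v.support, (X k : S) ^ v k ∈ y.asHomogeneousIdeal.toIdeal := h
  rw [Ideal.IsPrime.prod_mem_iff] at h'
  obtain ⟨k, -, hk⟩ := h'
  exact hy k (y.isPrime.mem_of_pow_mem _ hk)

lemma allX_of_T {y : ProjectiveSpectrum 𝒫} (h : T n R ∉ y.asHomogeneousIdeal) : AllX y := by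
  intro k hk
  apply h
  rw [T_eq_prod]
  have : (∏ j : Fin (n + 1), (X j : S)) ∈ y.asHomogeneousIdeal.toIdeal := by
    rw [Ideal.IsPrime.prod_mem_iff]
    exact ⟨k, Finset.mem_univ k, hk⟩
  exact this

variable (n R)

/-- the torus `D₊(T_0 ⋯ T_n)` -/
noncomputable def V : (Proj 𝒫).Opens := Proj.basicOpen 𝒫 (T n R)

/-- `D₊(X^v)` -/
noncomputable def D (v : Fin (n + 1) →₀ ℕ) : (Proj 𝒫).Opens := Proj.basicOpen 𝒫 (monomial v (1 : R) : S)

variable {n R}

lemma mem_V_iff (y : ProjectiveSpectrum 𝒫) : y ∈ V n R ↔ AllX y := by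
  constructor
  · intro h
    exact allX_of_T ((ProjectiveSpectrum.mem_basicOpen 𝒫 _ y).mp h)
  · intro h
    exact (ProjectiveSpectrum.mem_basicOpen 𝒫 _ y).mpr (monomial_not_mem _ h)

lemma mem_D_iff (v : Fin (n + 1) →₀ ℕ) (y : ProjectiveSpectrum 𝒫) :
    y ∈ D n R v ↔ (monomial v (1 : R) : S) ∉ y.asHomogeneousIdeal :=
  ProjectiveSpectrum.mem_basicOpen 𝒫 _ y

lemma V_le_D (v : Fin (n + 1) →₀ ℕ) : V n R ≤ D n R v := by
  intro y hy
  exact (mem_D_iff v y).2 (monomial_not_mem v ((mem_V_iff y).1 hy))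

lemma monomial_nsmul (v : Fin (n + 1) →₀ ℕ) (k : ℕ) :
    (monomial (k • v) (1 : R) : S) = (monomial v 1) ^ k := by
  rw [monomial_pow, one_pow]

lemma mk_den_congr {y : ProjectiveSpectrum 𝒫} (a : S) {b b' : S} (h : b = b')
    (hb : b ∈ y.asHomogeneousIdeal.toIdeal.primeCompl)
    (hb' : b' ∈ y.asHomogeneousIdeal.toIdeal.primeCompl) :
    (Localization.mk a ⟨b, hb⟩ : Twist.Loc 𝒫 y) = Localization.mk a ⟨b', hb'⟩ := by
  subst h
  rfl

variable (d : ℤ)

/-- `s = a / X^v` at all points of the torus -/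
def IsFrac {W : (Proj 𝒫).Opens} (hW : V n R ≤ W) (s : Γ(GrTilde.tilde 𝒫 𝒫 d, W))
    (v : Fin (n + 1) →₀ ℕ) (a : S) : Prop :=
  ∀ (y : ProjectiveSpectrum 𝒫) (hy : AllX y),
    (secVal 𝒫 𝒫 d W s y (hW ((mem_V_iff y).2 hy)) : Twist.Loc 𝒫 y) =
      Localization.mk a (⟨monomial v 1, monomial_not_mem v hy⟩ :
        y.asHomogeneousIdeal.toIdeal.primeCompl)

variable {d}

/-- sections over `D₊(X^v')` are fractions with denominator a power of `X^v'` -/
theorem exists_frac_D (v' : Fin (n + 1) →₀ ℕ) (hv' : 0 < v'.degree)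
    (s : Γ(GrTilde.tilde 𝒫 𝒫 d, D n R v')) :
    ∃ (k i : ℕ) (a : S), a ∈ CohB1.polyGrading n R i ∧ (i : ℤ) = (k • v').degree + d ∧
      ∀ (y : ProjectiveSpectrum 𝒫) (hy : y ∈ D n R v'),
        (secVal 𝒫 𝒫 d (D n R v') s y hy : Twist.Loc 𝒫 y) =
          Localization.mk a (⟨monomial (k • v') 1, by
            rw [monomial_nsmul]
            exact fun h => (mem_D_iff v' y).1 hy (y.isPrime.mem_of_pow_mem k h)⟩ :
            y.asHomogeneousIdeal.toIdeal.primeCompl) := by
  obtain ⟨k, i, ⟨a, ha⟩, hi, hval⟩ := exists_global (toSect 𝒫 𝒫 d _ s) hv' (monomial_mem n R v')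
  refine ⟨k, i, a, ha, ?_, fun y hy => ?_⟩
  · rw [hi, map_nsmul]
    simp
  · have h1 := hval ⟨y, hy⟩
    refine Eq.trans h1 ?_
    apply mk_den_congr
    exact (monomial_nsmul v' k).symm

/-- uniqueness of numerators up to the obvious relation -/
theorem isFrac_unique {W : (Proj 𝒫).Opens} (hW : V n R ≤ W) (s : Γ(GrTilde.tilde 𝒫 𝒫 d, W))
    {v v' : Fin (n + 1) →₀ ℕ} {a a' : S} {i i' : ℕ} (ha : a ∈ CohB1.polyGrading n R i) (ha' : a' ∈ CohB1.polyGrading n R i')
    (hi : (i : ℤ) = v.degree + d) (hi' : (i' : ℤ) = v'.degree + d)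
    (h : IsFrac d hW s v a) (h' : IsFrac d hW s v' a') :
    lau (up v) a = lau (up v') a' := by
  have hdeg : v'.degree + i = v.degree + i' := by
    have : ((v'.degree + i : ℕ) : ℤ) = ((v.degree + i' : ℕ) : ℤ) := by
      push_cast
      rw [hi, hi']
      ring
    exact_mod_cast this
  have hμ : monomial v' 1 * a - monomial v 1 * a' ∈ CohB1.polyGrading n R (v'.degree + i) := by
    refine Submodule.sub_mem _ (SetLike.mul_mem_graded (monomial_mem n R v') ha) ?_
    rw [hdeg]
    exact SetLike.mul_mem_graded (monomial_mem n R v) ha'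
  have h0 : monomial v' 1 * a - monomial v 1 * a' = 0 := by
    refine eq_zero_of_local n R (Nat.succ_pos n) (T_mem n R) (isRegular_T n R) hμ (fun y hy => ?_)
    have hy' : AllX y := allX_of_T hy
    have h3 := (h y hy').symm.trans (h' y hy')
    rw [Localization.mk_eq_mk_iff, Localization.r_iff_exists] at h3
    obtain ⟨c, hc⟩ := h3
    refine ⟨c.1, c.2, ?_⟩
    simp only at hc
    rw [mul_sub, hc, sub_self]
  have h1 : monomial v' 1 * a = monomial v 1 * a' := sub_eq_zero.mp h0
  calc lau (up v) a = lau (up v + up v') (monomial v' 1 * a) := (lau_monomial_mul _ _ _).symm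
    _ = lau (up v' + up v) (monomial v 1 * a') := by rw [h1, add_comm (up v) (up v')]
    _ = lau (up v') a' := lau_monomial_mul _ _ _

/-- sections over the torus are fractions -/
theorem exists_isFrac_V (s : Γ(GrTilde.tilde 𝒫 𝒫 d, V n R)) :
    ∃ (v : Fin (n + 1) →₀ ℕ) (i : ℕ) (a : S), a ∈ CohB1.polyGrading n R i ∧ (i : ℤ) = v.degree + d ∧
      IsFrac d le_rfl s v a := by
  have hpos : 0 < (ones n).degree := by rw [degree_ones]; exact Nat.succ_pos n
  obtain ⟨k, i, a, ha, hi, hval⟩ := exists_frac_D (ones n) hpos (d := d) s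
  exact ⟨k • ones n, i, a, ha, hi, fun y hy => hval y _⟩

variable (d) in
/-- the Laurent expansion of a section over the torus -/
noncomputable def embV (s : Γ(GrTilde.tilde 𝒫 𝒫 d, V n R)) : Lau (Fin (n + 1)) R :=
  lau (up (exists_isFrac_V s).choose) (exists_isFrac_V s).choose_spec.choose_spec.choose

theorem embV_eq (s : Γ(GrTilde.tilde 𝒫 𝒫 d, V n R)) {v : Fin (n + 1) →₀ ℕ} {a : S} {i : ℕ}
    (ha : a ∈ CohB1.polyGrading n R i) (hi : (i : ℤ) = v.degree + d) (h : IsFrac d le_rfl s v a) :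
    embV d s = lau (up v) a := by
  obtain ⟨ha0, hi0, h0⟩ := (exists_isFrac_V s).choose_spec.choose_spec.choose_spec
  exact isFrac_unique le_rfl s ha0 ha hi0 hi h0 h


lemma degree_up (m : Fin (n + 1) →₀ ℕ) : (up m).degree = (m.degree : ℤ) := by
  rw [Finsupp.degree_eq_sum, Finsupp.degree_eq_sum]
  push_cast
  rfl

theorem isFrac_zero {W : (Proj 𝒫).Opens} (hW : V n R ≤ W) (v : Fin (n + 1) →₀ ℕ) :
    IsFrac d hW (0 : Γ(GrTilde.tilde 𝒫 𝒫 d, W)) v 0 := by
  intro y hy
  rw [Localization.mk_zero]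
  rfl

theorem isFrac_add {W : (Proj 𝒫).Opens} (hW : V n R ≤ W) (s s' : Γ(GrTilde.tilde 𝒫 𝒫 d, W))
    {v v' : Fin (n + 1) →₀ ℕ} {a a' : S} (h : IsFrac d hW s v a) (h' : IsFrac d hW s' v' a') :
    IsFrac d hW (s + s') (v + v') (monomial v' 1 * a + monomial v 1 * a') := by
  intro y hy
  have e1 : (secVal 𝒫 𝒫 d W (s + s') y (hW ((mem_V_iff y).2 hy)) : Twist.Loc 𝒫 y) =
      (secVal 𝒫 𝒫 d W s y (hW ((mem_V_iff y).2 hy)) : Twist.Loc 𝒫 y) +
        (secVal 𝒫 𝒫 d W s' y (hW ((mem_V_iff y).2 hy)) : Twist.Loc 𝒫 y) := rfl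
  rw [e1, h y hy, h' y hy, Localization.add_mk, Localization.mk_eq_mk_iff, Localization.r_iff_exists]
  refine ⟨1, ?_⟩
  simp only [OneMemClass.coe_one, one_mul, Submonoid.coe_mul]
  rw [show (monomial (v + v') (1 : R) : S) = monomial v 1 * monomial v' 1 by
    rw [monomial_mul, one_mul]]
  ring

theorem embV_zero : embV d (0 : Γ(GrTilde.tilde 𝒫 𝒫 d, V n R)) = 0 := by
  obtain ⟨v, i, a, ha, hi, h⟩ := exists_isFrac_V (0 : Γ(GrTilde.tilde 𝒫 𝒫 d, V n R))
  have h0 : IsFrac d le_rfl (0 : Γ(GrTilde.tilde 𝒫 𝒫 d, V n R)) v 0 := isFrac_zero le_rfl v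
  rw [embV_eq 0 (zero_mem (CohB1.polyGrading n R i)) hi h0, map_zero]

theorem embV_add (s s' : Γ(GrTilde.tilde 𝒫 𝒫 d, V n R)) :
    embV d (s + s') = embV d s + embV d s' := by
  obtain ⟨v, i, a, ha, hi, h⟩ := exists_isFrac_V s
  obtain ⟨v', i', a', ha', hi', h'⟩ := exists_isFrac_V s'
  have hdeg : v'.degree + i = v.degree + i' := by
    have : ((v'.degree + i : ℕ) : ℤ) = ((v.degree + i' : ℕ) : ℤ) := by
      push_cast
      rw [hi, hi']
      ring
    exact_mod_cast this
  have hmem : monomial v' 1 * a + monomial v 1 * a' ∈ CohB1.polyGrading n R (v'.degree + i) := by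
    refine Submodule.add_mem _ (SetLike.mul_mem_graded (monomial_mem n R v') ha) ?_
    rw [hdeg]
    exact SetLike.mul_mem_graded (monomial_mem n R v) ha'
  have hi'' : ((v'.degree + i : ℕ) : ℤ) = ((v + v').degree : ℤ) + d := by
    rw [map_add]
    push_cast
    rw [hi]
    ring
  rw [embV_eq (s + s') hmem hi'' (isFrac_add le_rfl s s' h h'), embV_eq s ha hi h,
    embV_eq s' ha' hi' h', map_add, map_add]
  congr 1
  · exact lau_monomial_mul _ _ _
  · rw [add_comm (up v) (up v')]
    exact lau_monomial_mul _ _ _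

variable (d) in
/-- the Laurent expansion of a section over an open containing the torus -/
noncomputable def emb {W : (Proj 𝒫).Opens} (hW : V n R ≤ W) :
    Γ(GrTilde.tilde 𝒫 𝒫 d, W) →+ Lau (Fin (n + 1)) R where
  toFun s := embV d ((GrTilde.tilde 𝒫 𝒫 d).presheaf.map (homOfLE hW).op s)
  map_zero' := by rw [map_zero]; exact embV_zero
  map_add' s s' := by rw [map_add]; exact embV_add _ _

theorem emb_eq {W : (Proj 𝒫).Opens} (hW : V n R ≤ W) (s : Γ(GrTilde.tilde 𝒫 𝒫 d, W))
    {v : Fin (n + 1) →₀ ℕ} {a : S} {i : ℕ}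
    (ha : a ∈ CohB1.polyGrading n R i) (hi : (i : ℤ) = v.degree + d) (h : IsFrac d hW s v a) :
    emb d hW s = lau (up v) a :=
  embV_eq _ ha hi (fun y hy => h y hy)

theorem emb_map {W W' : (Proj 𝒫).Opens} (hW : V n R ≤ W) (hW' : V n R ≤ W') (h : W' ≤ W)
    (s : Γ(GrTilde.tilde 𝒫 𝒫 d, W)) :
    emb d hW' ((GrTilde.tilde 𝒫 𝒫 d).presheaf.map (homOfLE h).op s) = emb d hW s := rfl

/-- sections over `D₊(X^v')` are determined by their Laurent expansion -/
theorem emb_injective_D (v' : Fin (n + 1) →₀ ℕ) (hv' : 0 < v'.degree) :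
    Function.Injective (emb d (V_le_D (n := n) (R := R) v')) := by
  rw [injective_iff_map_eq_zero]
  intro s hs
  obtain ⟨k, i, a, ha, hi, hval⟩ := exists_frac_D v' hv' s
  have hf : IsFrac d (V_le_D v') s (k • v') a := fun y hy => hval y _
  rw [emb_eq _ s ha hi hf] at hs
  have ha0 : a = 0 := lau_eq_zero _ _ hs
  subst ha0
  apply sec_ext
  intro y hy
  have := hval y hy
  rw [Localization.mk_zero] at this
  exact this

lemma pow_not_mem_D (v' : Fin (n + 1) →₀ ℕ) (K : ℕ) (y : (D n R v' : (Proj 𝒫).Opens)) :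
    (monomial (K • v') (1 : R) : S) ∉ y.1.asHomogeneousIdeal := by
  rw [monomial_nsmul]
  exact fun h => (mem_D_iff v' y.1).1 y.2 (y.1.isPrime.mem_of_pow_mem K h)

/-- the image of the Laurent expansion on `D₊(X^v')` -/
theorem mem_range_emb_D (v' : Fin (n + 1) →₀ ℕ) (hv' : 0 < v'.degree) (ℓ : Lau (Fin (n + 1)) R) :
    ℓ ∈ Set.range (emb d (V_le_D (n := n) (R := R) v')) ↔
      ∀ e ∈ ℓ.support, e.degree = d ∧ ∀ j, e j < 0 → j ∈ v'.support := by
  constructor
  · rintro ⟨s, rfl⟩ e he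
    obtain ⟨k, i, a, ha, hi, hval⟩ := exists_frac_D v' hv' s
    have hf : IsFrac d (V_le_D v') s (k • v') a := fun y hy => hval y _
    rw [emb_eq _ s ha hi hf] at he
    obtain ⟨m, hm, rfl⟩ := exists_of_lau_ne _ _ _ (Finsupp.mem_support_iff.1 he)
    have hmdeg : m.degree = i := by
      have h1 : Finsupp.weight (1 : Fin (n + 1) → ℕ) m = i := ha hm
      rw [Finsupp.degree_eq_weight_one]
      exact h1
    constructor
    · rw [map_sub, degree_up, degree_up, hmdeg, hi]
      ring
    · intro j hj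
      rw [Finsupp.mem_support_iff]
      intro h0
      have : (0 : ℤ) ≤ (up m - up (k • v')) j := by
        simp [h0]
      omega
  · intro h
    classical
    by_cases hℓ : ℓ = 0
    · exact ⟨0, by rw [map_zero, hℓ]⟩
    let K : ℕ := ℓ.support.sup (fun e => Finset.univ.sup (fun j => (e j).natAbs))
    have hK : ∀ e ∈ ℓ.support, ∀ j, 0 ≤ e j + (up (K • v')) j := by
      intro e he j
      by_cases hj : 0 ≤ e j
      · have : (0 : ℤ) ≤ (up (K • v')) j := by
          rw [up_apply]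
          exact Int.natCast_nonneg _
        omega
      · have hjs := (h e he).2 j (by omega)
        have h1 : 1 ≤ v' j := Nat.one_le_iff_ne_zero.2 (Finsupp.mem_support_iff.1 hjs)
        have h2 : (e j).natAbs ≤ K := by
          refine le_trans ?_ (Finset.le_sup (f := fun e => Finset.univ.sup (fun j => (e j).natAbs)) he)
          exact Finset.le_sup (f := fun j => (e j).natAbs) (Finset.mem_univ j)
        have h3 : K ≤ K * v' j := Nat.le_mul_of_pos_right _ h1
        have h4 : (up (K • v')) j = ((K * v' j : ℕ) : ℤ) := by simp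
        rw [h4]
        omega
    obtain ⟨a, hla, hsupp⟩ := exists_lau_eq (up (K • v')) ℓ hK
    have hane : a ≠ 0 := by
      rintro rfl
      exact hℓ (by rw [← hla, map_zero])
    obtain ⟨m₀, hm₀⟩ := MvPolynomial.ne_zero_iff.1 hane
    have hdegm : ∀ m, coeff m a ≠ 0 → (m.degree : ℤ) = ((K • v').degree : ℤ) + d := by
      intro m hm
      have := (h _ (hsupp m hm)).1
      rw [map_sub, degree_up, degree_up] at this
      omega
    have hnonneg : (0 : ℤ) ≤ ((K • v').degree : ℤ) + d := by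
      rw [← hdegm m₀ hm₀]
      exact Int.natCast_nonneg _
    obtain ⟨i, hi⟩ := Int.eq_ofNat_of_zero_le hnonneg
    have ha : a ∈ CohB1.polyGrading n R i := by
      intro m hm
      have h1 := hdegm m hm
      rw [hi] at h1
      have h2 : m.degree = i := by exact_mod_cast h1
      rw [Finsupp.degree_eq_weight_one] at h2
      exact h2
    refine ⟨fracSec 𝒫 d (D n R v') ha (monomial_mem n R (K • v')) hi.symm (pow_not_mem_D v' K), ?_⟩
    rw [emb_eq _ _ ha hi.symm (v := K • v') (fun y hy => rfl)]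
    exact hla

end Groth.Agent.Lib.Seat54.PnLau
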