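import Groth.Agent.Lib.Seat54PnLau

/-!
# `R`-linearity of the Laurent expansion of sections of `O(d)` (helper54)

`emb_smul`: the Laurent expansion of `(r|_W) • s` is `r • emb s`, for `r : R` seen as a global function
(`constFun`, definitionally `Coh.toGlobal (ProjSpace ↘ Spec R) r`).
-/

set_option autoImplicit false
universe u

open CategoryTheory CategoryTheory.Limits AlgebraicGeometry TopologicalSpace Opposite
  HomogeneousLocalization MvPolynomial
open Groth.Agent.Lib.Helper27GrTildeSect Groth.Agent.Lib.Helper27ProjGamma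
  Groth.Agent.Lib.Helper27PnSections Groth.Agent.Lib.Seat54.Laurent

namespace Groth.Agent.Lib.Seat54.PnLau

variable {n : ℕ} {R : Type u} [CommRing R] {d : ℤ}

local notation "𝒫" => CohB1.polyGrading n R
local notation "S" => MvPolynomial (Fin (n + 1)) R

theorem isFrac_smul {W : (Proj 𝒫).Opens} (hW : V n R ≤ W) (r : R) (s : Γ(GrTilde.tilde 𝒫 𝒫 d, W))
    {v : Fin (n + 1) →₀ ℕ} {a : S} (h : IsFrac d hW s v a) :
    IsFrac d hW (((Proj 𝒫).presheaf.map (homOfLE (le_top : W ≤ ⊤)).op (constFun 𝒫 r)) • s) v (r • a) := by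
  intro y hy
  have hyW : y ∈ W := hW ((mem_V_iff y).2 hy)
  have e1 : (secVal 𝒫 𝒫 d W
      (((Proj 𝒫).presheaf.map (homOfLE (le_top : W ≤ ⊤)).op (constFun 𝒫 r)) • s) y hyW : Twist.Loc 𝒫 y) =
      (funVal 𝒫 W ((Proj 𝒫).presheaf.map (homOfLE (le_top : W ≤ ⊤)).op (constFun 𝒫 r)) y hyW).val *
        (secVal 𝒫 𝒫 d W s y hyW : Twist.Loc 𝒫 y) := secVal_smul' 𝒫 d W _ s y hyW
  have e2 : funVal 𝒫 W ((Proj 𝒫).presheaf.map (homOfLE (le_top : W ≤ ⊤)).op (constFun 𝒫 r)) y hyW =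
      funVal 𝒫 ⊤ (constFun 𝒫 r) y trivial := funVal_map 𝒫 le_top _ y hyW
  have hTy : T n R ∉ y.asHomogeneousIdeal := monomial_not_mem _ hy
  rw [e1, e2, funVal_constFun_val 𝒫 (T_mem n R) (Nat.succ_pos n) r y hTy, h y hy, Localization.mk_mul,
    Localization.mk_eq_mk_iff, Localization.r_iff_exists]
  refine ⟨1, ?_⟩
  simp only [OneMemClass.coe_one, one_mul, Submonoid.coe_mul]
  rw [Algebra.smul_def]

theorem emb_smul {W : (Proj 𝒫).Opens} (hW : V n R ≤ W) (r : R) (s : Γ(GrTilde.tilde 𝒫 𝒫 d, W)) :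
    emb d hW (((Proj 𝒫).presheaf.map (homOfLE (le_top : W ≤ ⊤)).op (constFun 𝒫 r)) • s) =
      r • emb d hW s := by
  obtain ⟨v, i, a, ha, hi, h⟩ :=
    exists_isFrac_V ((GrTilde.tilde 𝒫 𝒫 d).presheaf.map (homOfLE hW).op s)
  have h' : IsFrac d hW s v a := fun y hy => h y hy
  rw [emb_eq hW s ha hi h', emb_eq hW _ (Submodule.smul_mem _ r ha) hi (isFrac_smul hW r s h'),
    map_smul]

end Groth.Agent.Lib.Seat54.PnLau
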