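import Groth.Agent.Lib.Seat54PnCech
import Groth.Agent.Lib.Seat54PnLauSmul
import Groth.Agent.Lib.Seat54CechTop
import Groth.Agent.Lib.Seat54PermCocycle
import Groth.Agent.Lib.Seat54CechNat

/-!
# The top Cech cohomology of `O(d)` on projective space (helper54)

Cech complex over the terminal open (`CohCx.cechH`, family `Y = Yf U`), in Laurent coordinates (`coordO`).
`Td n R d`: the `R`-module of Laurent coefficient families supported on all-negative exponents of degree `d`.
`exists_cech_top_equiv`: for `d < 0`, an additive isomorphism `Ȟ^n(Y, O(d)) ≃+ Td n R d`, compatible with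
endomorphisms of the presheaf that act as multiplication by `r : R` in Laurent coordinates.
-/

set_option autoImplicit false
universe u

open CategoryTheory CategoryTheory.Limits AlgebraicGeometry TopologicalSpace Opposite MvPolynomial
open Groth.Agent.Lib.Helper16.CechLow Groth.Agent.Lib.Seat54.CechCoord Groth.Agent.Lib.Seat54.Laurent
  Groth.Agent.Lib.Seat54.PnLau Groth.Agent.Lib.Seat54.PnCech Groth.Agent.Lib.Seat54.CechTop
  Groth.Agent.Lib.Seat54.PermCocycle

namespace Groth.Agent.Lib.Seat54.PnTop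

variable (n : ℕ) (R : Type u) [CommRing R] (d : ℤ)

local notation "𝒫" => CohB1.polyGrading n R
local notation "S" => MvPolynomial (Fin (n + 1)) R

/-- the standard cover as a family over the terminal open -/
noncomputable abbrev Y : ULift.{u} (Fin (n + 1)) → Over (⊤ : (Proj 𝒫).Opens) :=
  Groth.Agent.Lib.Seat54.CechNat.Yf (U n R)

variable {n}

lemma left_eq_D {p : ℕ} (x : Fin (p + 1) → ULift.{u} (Fin (n + 1))) :
    (Ux (Y n R) x).left = D n R (vx x) := by
  apply le_antisymm
  · exact (Groth.Agent.Lib.Helper16.CechCmp.left_le (Y n R) x).trans (Ux_eq_D R x).le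
  · exact (Ux_eq_D R x).ge.trans (Groth.Agent.Lib.Helper16.CechCmp.le_left (Y n R) x)

lemma V_le_left {p : ℕ} (x : Fin (p + 1) → ULift.{u} (Fin (n + 1))) :
    V n R ≤ (Ux (Y n R) x).left := by
  rw [left_eq_D]
  exact V_le_D _

variable (n)

/-- the presheaf on the slice -/
noncomputable abbrev PO : (Over (⊤ : (Proj 𝒫).Opens))ᵒᵖ ⥤ AddCommGrpCat.{u} :=
  (Over.forget (⊤ : (Proj 𝒫).Opens)).op ⋙ (GrTilde.tilde 𝒫 𝒫 d).presheaf

/-- Laurent coordinates on the Cech complex over the terminal open -/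
noncomputable def coordO : Coord (Y n R) (PO n R d) (Lau (Fin (n + 1)) R) where
  emb x := emb d (V_le_left R x)
  inj x := emb_injective_of_eq d (V_le_left R x) (vx x) (by rw [degree_vx]; exact Nat.succ_pos _)
    (left_eq_D R x)
  face x i s := by
    have h : (face (Y n R) x i).left = homOfLE (face (Y n R) x i).left.le := Subsingleton.elim _ _
    change emb d _ ((GrTilde.tilde 𝒫 𝒫 d).presheaf.map (face (Y n R) x i).left.op s) = _
    rw [h]
    rfl

variable {n R}

theorem mem_range_coordO {p : ℕ} (x : Fin (p + 1) → ULift.{u} (Fin (n + 1)))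
    (ℓ : Lau (Fin (n + 1)) R) :
    ℓ ∈ Set.range ((coordO n R d).emb x) ↔
      ∀ e ∈ ℓ.support, e.degree = d ∧ ∀ j, e j < 0 → ∃ a, (x a).down = j := by
  have := mem_range_emb_of_eq d (V_le_left R x) (vx x) (by rw [degree_vx]; exact Nat.succ_pos _)
    (left_eq_D R x) ℓ
  simp only [mem_support_vx] at this
  exact this


section Rho

open Classical in
/-- projection onto the all-negative monomials -/
noncomputable def rho : Lau (Fin (n + 1)) R →+ Lau (Fin (n + 1)) R :=
  Finsupp.filterAddHom (fun e => ∀ k, e k < 0)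

lemma rho_apply (ℓ : Lau (Fin (n + 1)) R) (e : Fin (n + 1) →₀ ℤ) :
    rho ℓ e = if ∀ k, e k < 0 then ℓ e else 0 := by
  classical
  unfold rho
  change Finsupp.filter _ ℓ e = _
  rw [Finsupp.filter_apply]

lemma rho_smul (r : R) (ℓ : Lau (Fin (n + 1)) R) : rho (r • ℓ) = r • rho ℓ := by
  ext e
  rw [rho_apply, Finsupp.smul_apply, Finsupp.smul_apply, rho_apply]
  split_ifs
  · rfl
  · rw [smul_zero]

lemma rho_eq_self (ℓ : Lau (Fin (n + 1)) R) (h : ∀ e ∈ ℓ.support, ∀ k, e k < 0) : rho ℓ = ℓ := by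
  ext e
  rw [rho_apply]
  split_ifs with h1
  · rfl
  · by_contra hne
    exact h1 (h e (Finsupp.mem_support_iff.2 (Ne.symm hne)))

lemma rho_eq_zero (ℓ : Lau (Fin (n + 1)) R) (h : ∀ e ∈ ℓ.support, ∃ k, 0 ≤ e k) : rho ℓ = 0 := by
  ext e
  rw [rho_apply, Finsupp.zero_apply]
  split_ifs with h1
  · by_contra hne
    obtain ⟨k, hk⟩ := h e (Finsupp.mem_support_iff.2 hne)
    have := h1 k
    omega
  · rfl

lemma support_rho_subset (ℓ : Lau (Fin (n + 1)) R) (e : Fin (n + 1) →₀ ℤ) (he : e ∈ (rho ℓ).support) :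
    e ∈ ℓ.support ∧ ∀ k, e k < 0 := by
  rw [Finsupp.mem_support_iff, rho_apply] at he
  split_ifs at he with h1
  · exact ⟨Finsupp.mem_support_iff.2 he, h1⟩
  · exact absurd rfl he

lemma proj_eq_zero (j : ULift.{u} (Fin (n + 1))) (ℓ : Lau (Fin (n + 1)) R)
    (h : ∀ e ∈ ℓ.support, ¬ ∃ k, 0 ≤ e k) : proj j ℓ = 0 := by
  ext e
  rw [proj_apply, Finsupp.zero_apply]
  split_ifs with h1
  · by_contra hne
    exact h e (Finsupp.mem_support_iff.2 hne) h1.1
  · rfl

lemma sum_proj_add_rho (ℓ : Lau (Fin (n + 1)) R) :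
    ∑ j : ULift.{u} (Fin (n + 1)), proj j ℓ + rho ℓ = ℓ := by
  classical
  ext e
  rw [Finsupp.add_apply, Finsupp.finsetSum_apply]
  simp only [proj_apply, rho_apply]
  by_cases h : ∃ k, 0 ≤ e k
  · rw [Fintype.sum_eq_single (ULift.up (lead e))]
    · rw [if_pos ⟨h, rfl⟩, if_neg, add_zero]
      intro hall
      obtain ⟨k, hk⟩ := h
      have := hall k
      omega
    · intro j hj
      rw [if_neg]
      rintro ⟨-, h2⟩
      exact hj (ULift.ext _ _ h2.symm)
  · have hall : ∀ k, e k < 0 := by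
      intro k
      by_contra hk
      exact h ⟨k, not_lt.mp hk⟩
    rw [if_pos hall, Finset.sum_eq_zero, zero_add]
    intro j _
    rw [if_neg]
    exact fun h' => h h'.1

end Rho

variable (n R) in
/-- coefficient families supported on all-negative exponents of degree `d` -/
def Td : Submodule R (Lau (Fin (n + 1)) R) :=
  Finsupp.supported R R {e | e.degree = d ∧ ∀ k, e k < 0}

lemma mem_Td (t : Lau (Fin (n + 1)) R) :
    t ∈ Td n R d ↔ ∀ e ∈ t.support, e.degree = d ∧ ∀ k, e k < 0 := by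
  unfold Td
  rw [Finsupp.mem_supported]
  exact Iff.rfl

lemma rho_emb_mem {p : ℕ} (x : Fin (p + 1) → ULift.{u} (Fin (n + 1)))
    (s : (PO n R d).obj (op (Ux (Y n R) x))) : rho ((coordO n R d).emb x s) ∈ Td n R d := by
  rw [mem_Td]
  intro e he
  obtain ⟨h1, h2⟩ := support_rho_subset _ e he
  exact ⟨((mem_range_coordO d x _).1 ⟨s, rfl⟩ e h1).1, h2⟩

lemma rho_emb_eq_zero {p : ℕ} (x : Fin (p + 1) → ULift.{u} (Fin (n + 1)))
    (hx : ¬ Function.Surjective x) (s : (PO n R d).obj (op (Ux (Y n R) x))) :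
    rho ((coordO n R d).emb x s) = 0 := by
  apply rho_eq_zero
  intro e he
  by_contra hcon
  push Not at hcon
  apply hx
  intro k
  obtain ⟨a, ha⟩ := ((mem_range_coordO d x _).1 ⟨s, rfl⟩ e he).2 k.down (hcon k.down)
  exact ⟨a, ULift.ext _ _ ha⟩

/-- `π j (G_{j :: z}) ⊆ G_z` -/
lemma proj_mem_range {q : ℕ} (j : ULift.{u} (Fin (n + 1))) (z : Fin (q + 1) → ULift.{u} (Fin (n + 1)))
    (s : (PO n R d).obj (op (Ux (Y n R) (Fin.cons j z : Fin (q + 2) → ULift.{u} (Fin (n + 1)))))) :
    proj j ((coordO n R d).emb (Fin.cons j z : Fin (q + 2) → ULift.{u} (Fin (n + 1))) s) ∈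
      Set.range ((coordO n R d).emb z) := by
  rw [mem_range_coordO]
  intro e he
  have he' : e ∈ ((coordO n R d).emb (Fin.cons j z : Fin (q + 2) → ULift.{u} (Fin (n + 1))) s).support := by
    rw [Finsupp.mem_support_iff] at he ⊢
    rw [proj_apply] at he
    intro h0
    rw [h0] at he
    simp at he
  have hp : (∃ k, 0 ≤ e k) ∧ lead e = j.down := by
    rw [Finsupp.mem_support_iff, proj_apply] at he
    by_contra hcon
    rw [if_neg hcon] at he
    exact he rfl
  obtain ⟨h1, h2⟩ := (mem_range_coordO d _ _).1 ⟨s, rfl⟩ e he'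
  refine ⟨h1, fun k hk => ?_⟩
  obtain ⟨a, ha⟩ := h2 k hk
  refine Fin.cases ?_ (fun a' => ?_) a ha
  · intro ha0
    exfalso
    simp only [Fin.cons_zero] at ha0
    have := lead_spec e hp.1
    rw [hp.2, ha0] at this
    omega
  · intro ha'
    simp only [Fin.cons_succ] at ha'
    exact ⟨a', ha'⟩

/-- the identity tuple -/
def x₀ : Fin (n + 1) → ULift.{u} (Fin (n + 1)) := fun a => ULift.up a

lemma x₀_bijective : Function.Bijective (x₀ (n := n)) :=
  ⟨fun _ _ h => congrArg ULift.down h, fun k => ⟨k.down, rfl⟩⟩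

variable (n R) in
/-- the all-negative part of the component at the identity tuple -/
noncomputable def kappa : (CK (Y n R) (PO n R d)).X n →+ Td n R d where
  toFun c := ⟨rho ((coordO n R d).γ c x₀), rho_emb_mem d x₀ _⟩
  map_zero' := by
    apply Subtype.ext
    change rho ((coordO n R d).γ 0 x₀) = 0
    rw [Coord.γ_zero, map_zero]
  map_add' c c' := by
    apply Subtype.ext
    change rho ((coordO n R d).γ (c + c') x₀) = rho ((coordO n R d).γ c x₀) + rho ((coordO n R d).γ c' x₀)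
    rw [Coord.γ_add, map_add]

lemma kappa_val (c : (CK (Y n R) (PO n R d)).X n) :
    (kappa n R d c : Lau (Fin (n + 1)) R) = rho ((coordO n R d).γ c x₀) := rfl


/-- (C3) every element of `Td` is the image of a cocycle -/
theorem kappa_surjective (t : Td n R d) :
    ∃ c : (CK (Y n R) (PO n R d)).X n, (CK (Y n R) (PO n R d)).d n (n + 1) c = 0 ∧ kappa n R d c = t := by
  have ht := (mem_Td d t.1).1 t.2
  obtain ⟨c, hc⟩ := (coordO n R d).exists_γ (p := n)
    (fun x => sgn (fun a => (x a).down) • (t : Lau (Fin (n + 1)) R))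
    (fun x => by
      rw [mem_range_coordO]
      intro e he
      by_cases hinj : Function.Injective (fun a => (x a).down)
      · have hsurj : Function.Surjective (fun a => (x a).down) := Finite.injective_iff_surjective.1 hinj
        have he' : e ∈ (t : Lau (Fin (n + 1)) R).support := Finsupp.support_smul he
        exact ⟨(ht e he').1, fun j _ => hsurj j⟩
      · rw [sgn_eq_zero _ hinj, zero_smul] at he
        simp at he)
  refine ⟨c, ?_, ?_⟩
  · apply (coordO n R d).γ_ext
    intro y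
    rw [Coord.γ_d, Coord.γ_zero]
    simp only [hc]
    have h1 : ∀ i : Fin (n + 2),
        (-1 : ℤ) ^ (i : ℕ) • (sgn (fun a => ((y ∘ Fin.succAbove i) a).down) • (t : Lau (Fin (n + 1)) R)) =
        ((-1 : ℤ) ^ (i : ℕ) * sgn ((fun a => (y a).down) ∘ Fin.succAbove i)) • (t : Lau (Fin (n + 1)) R) := by
      intro i
      rw [smul_smul]
      rfl
    simp only [h1]
    rw [← Finset.sum_smul, sgn_cocycle, zero_smul]
  · apply Subtype.ext
    rw [kappa_val, hc]
    have : (fun a => ((x₀ (n := n)) a).down) = id := rfl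
    rw [this, sgn_id, one_smul]
    exact rho_eq_self _ (fun e he => (ht e he).2)

/-- the all-negative parts of the components of a cocycle vanish if they do at the identity tuple -/
theorem rho_γ_eq_zero (c : (CK (Y n R) (PO n R d)).X n)
    (hc : (CK (Y n R) (PO n R d)).d n (n + 1) c = 0) (hκ : kappa n R d c = 0)
    (x : Fin (n + 1) → ULift.{u} (Fin (n + 1))) : rho ((coordO n R d).γ c x) = 0 := by
  refine eq_zero_of_cocycle x₀ x₀_bijective (fun x => rho ((coordO n R d).γ c x)) ?_ ?_ ?_ x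
  · intro x hx
    exact rho_emb_eq_zero d x hx _
  · intro y
    have h1 : ∑ i : Fin (n + 2), (-1 : ℤ) ^ (i : ℕ) • rho ((coordO n R d).γ c (y ∘ Fin.succAbove i)) =
        rho ((coordO n R d).γ ((CK (Y n R) (PO n R d)).d n (n + 1) c) y) := by
      rw [Coord.γ_d, map_sum]
      simp only [map_zsmul]
    rw [h1, hc, Coord.γ_zero, map_zero]
  · have := congrArg Subtype.val hκ
    exact this

theorem γ_eq_sum_proj (c : (CK (Y n R) (PO n R d)).X n)
    (hc : (CK (Y n R) (PO n R d)).d n (n + 1) c = 0) (hκ : kappa n R d c = 0)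
    (x : Fin (n + 1) → ULift.{u} (Fin (n + 1))) :
    ∑ j : ULift.{u} (Fin (n + 1)), proj j ((coordO n R d).γ c x) = (coordO n R d).γ c x := by
  have h := sum_proj_add_rho ((coordO n R d).γ c x)
  rw [rho_γ_eq_zero d c hc hκ x, add_zero] at h
  exact h


section Main

theorem exists_equiv_succ (q : ℕ) :
    ∃ Ψ : (CK (Y (q + 1) R) (PO (q + 1) R d)).homology (q + 1) ≃+ Td (q + 1) R d,
      ∀ z : (CK (Y (q + 1) R) (PO (q + 1) R d)).cycles (q + 1),
        Ψ ((CK (Y (q + 1) R) (PO (q + 1) R d)).homologyπ (q + 1) z) =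
          kappa (q + 1) R d ((CK (Y (q + 1) R) (PO (q + 1) R d)).iCycles (q + 1) z) := by
  refine exists_homology_equiv (CK (Y (q + 1) R) (PO (q + 1) R d)) (q + 1) q (q + 2)
    (CochainComplex.prev_nat_succ q) (CochainComplex.next ℕ (q + 1)) (kappa (q + 1) R d) ?_ ?_ ?_
  · intro b
    apply Subtype.ext
    rw [kappa_val, Coord.γ_d, map_sum]
    refine Finset.sum_eq_zero (fun i _ => ?_)
    rw [map_zsmul]
    have : rho ((coordO (q + 1) R d).γ b (x₀ ∘ Fin.succAbove i)) = 0 := by
      apply rho_emb_eq_zero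
      intro hs
      have := Fintype.card_le_of_surjective _ hs
      simp at this
    rw [this, smul_zero]
  · intro c hc hκ
    obtain ⟨b, hb⟩ := (coordO (q + 1) R d).exists_d_γ proj q (proj_mem_range d) c hc
    exact ⟨b, (coordO (q + 1) R d).γ_ext _ _ (fun x => (hb x).trans (γ_eq_sum_proj d c hc hκ x))⟩
  · exact kappa_surjective d

theorem exists_equiv_zero (hd : d < 0) :
    ∃ Ψ : (CK (Y 0 R) (PO 0 R d)).homology 0 ≃+ Td 0 R d,
      ∀ z : (CK (Y 0 R) (PO 0 R d)).cycles 0,
        Ψ ((CK (Y 0 R) (PO 0 R d)).homologyπ 0 z) =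
          kappa 0 R d ((CK (Y 0 R) (PO 0 R d)).iCycles 0 z) := by
  refine exists_homology_equiv (CK (Y 0 R) (PO 0 R d)) 0 0 1
    CochainComplex.prev_nat_zero (CochainComplex.next ℕ 0) (kappa 0 R d) ?_ ?_ ?_
  · intro b
    have h0 : (CK (Y 0 R) (PO 0 R d)).d 0 0 = 0 := (CK (Y 0 R) (PO 0 R d)).shape 0 0 (by simp)
    rw [h0]
    exact map_zero _
  · intro c hc hκ
    have hc0 : c = 0 := by
      apply (coordO 0 R d).γ_ext
      intro x
      rw [Coord.γ_zero, ← γ_eq_sum_proj d c hc hκ x]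
      refine Finset.sum_eq_zero (fun j _ => proj_eq_zero j _ (fun e he => ?_))
      rintro ⟨k, hk⟩
      have hdeg := ((mem_range_coordO d x _).1 ⟨_, rfl⟩ e he).1
      rw [Finsupp.degree_eq_sum, Fin.sum_univ_one] at hdeg
      have hk0 : k = 0 := Fin.ext (by omega)
      rw [hk0] at hk
      omega
    exact ⟨0, by rw [map_zero, hc0]⟩
  · exact kappa_surjective d

/-- the top Cech cohomology of `O(d)`, `d < 0` -/
theorem exists_cech_top_equiv (n : ℕ) (hd : d < 0) :
    ∃ Ψ : (CK (Y n R) (PO n R d)).homology n ≃+ Td n R d,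
      ∀ z : (CK (Y n R) (PO n R d)).cycles n,
        Ψ ((CK (Y n R) (PO n R d)).homologyπ n z) =
          kappa n R d ((CK (Y n R) (PO n R d)).iCycles n z) := by
  cases n with
  | zero => exact exists_equiv_zero d hd
  | succ q => exact exists_equiv_succ d q

end Main

section Natural

universe v u₁
lemma pr_map {C : Type u₁} [Category.{v} C] [HasFiniteProducts C] {ι : Type u} (U : ι → C)
    {P Q : Cᵒᵖ ⥤ AddCommGrpCat.{u}} (φ : P ⟶ Q) (n : ℕ) (x : Fin (n + 1) → ι) :
    ((cechComplexFunctor U).map φ).f n ≫ pr U Q n x = pr U P n x ≫ φ.app (op (Ux U x)) :=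
  Pi.map_π (f := fun x : Fin (n + 1) → ι => P.obj (op (Ux U x)))
    (g := fun x : Fin (n + 1) → ι => Q.obj (op (Ux U x))) (fun x => φ.app (op (Ux U x))) x

theorem kappa_map (φ : (GrTilde.tilde 𝒫 𝒫 d).presheaf ⟶ (GrTilde.tilde 𝒫 𝒫 d).presheaf) (r : R)
    (hφ : ∀ (W : (Proj 𝒫).Opens) (hW : V n R ≤ W) (s : Γ(GrTilde.tilde 𝒫 𝒫 d, W)),
      emb d hW (φ.app (op W) s) = r • emb d hW s)
    (c : (CK (Y n R) (PO n R d)).X n) :
    kappa n R d (((CechEdge.cxFunctor (Y n R)).map φ).f n c) = r • kappa n R d c := by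
  apply Subtype.ext
  rw [Submodule.coe_smul, kappa_val, kappa_val, ← rho_smul]
  congr 1
  unfold Coord.γ
  have h1 := ConcreteCategory.congr_hom (pr_map (Y n R)
    (Functor.whiskerLeft (Over.forget (⊤ : (Proj 𝒫).Opens)).op φ) n x₀) c
  exact (congrArg ((coordO n R d).emb x₀) h1).trans (hφ _ _ _)

theorem cech_top_equiv_smul (Ψ : (CK (Y n R) (PO n R d)).homology n ≃+ Td n R d)
    (hΨ : ∀ z : (CK (Y n R) (PO n R d)).cycles n,
        Ψ ((CK (Y n R) (PO n R d)).homologyπ n z) =
          kappa n R d ((CK (Y n R) (PO n R d)).iCycles n z))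
    (φ : (GrTilde.tilde 𝒫 𝒫 d).presheaf ⟶ (GrTilde.tilde 𝒫 𝒫 d).presheaf) (r : R)
    (hφ : ∀ (W : (Proj 𝒫).Opens) (hW : V n R ≤ W) (s : Γ(GrTilde.tilde 𝒫 𝒫 d, W)),
      emb d hW (φ.app (op W) s) = r • emb d hW s)
    (y : (CK (Y n R) (PO n R d)).homology n) :
    Ψ (HomologicalComplex.homologyMap ((CechEdge.cxFunctor (Y n R)).map φ) n y) = r • Ψ y :=
  homology_equiv_natural (CK (Y n R) (PO n R d)) n (kappa n R d) Ψ hΨ
    ((CechEdge.cxFunctor (Y n R)).map φ) (DistribSMul.toAddMonoidHom (Td n R d) r)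
    (fun c => kappa_map d φ r hφ c) y

end Natural

end Groth.Agent.Lib.Seat54.PnTop
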