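import Mathlib

set_option autoImplicit false
open Filter Polynomial

namespace Groth.Agent.Lib.Seat54.PolyLead

/-- a rational polynomial which is non-negative at all large integers has non-negative leading coefficient -/
theorem leadingCoeff_nonneg_of_eventually_nonneg (P : ℚ[X]) (N : ℤ)
    (h : ∀ n : ℤ, N ≤ n → 0 ≤ P.eval (n : ℚ)) : 0 ≤ P.leadingCoeff := by
  by_contra hlt
  push Not at hlt
  by_cases hdeg : 0 < P.degree
  · have ht := P.tendsto_atBot_of_leadingCoeff_nonpos hdeg hlt.le
    have ht' : Tendsto (fun n : ℤ => P.eval (n : ℚ)) atTop atBot :=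
      ht.comp tendsto_intCast_atTop_atTop
    have h1 := ht'.eventually (eventually_lt_atBot (0 : ℚ))
    have h2 : ∀ᶠ n : ℤ in atTop, N ≤ n := eventually_ge_atTop N
    obtain ⟨n, hn1, hn2⟩ := (h1.and h2).exists
    exact absurd (h n hn2) (not_le.2 hn1)
  · have hd : P.degree ≤ 0 := not_lt.1 hdeg
    have hP : P = C (P.coeff 0) := eq_C_of_degree_le_zero hd
    have h0 := h N le_rfl
    rw [hP, eval_C] at h0
    rw [hP, leadingCoeff_C] at hlt
    exact absurd h0 (not_le.2 hlt)

end Groth.Agent.Lib.Seat54.PolyLead
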