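import Mathlib
import Groth.Prelude.Def_CohB1
import Groth.Agent.Lib.Helper27PnChart
import Groth.Agent.Lib.Helper27ProjSpaceSurj

/-!
# Projective space is geometrically connected over its base (seat 63)

`CohB1.ProjSpace.toSpec n R` and `CohB1.ProjSpaceOver.toBase n S` are geometrically connected:
the standard charts are affine spaces (geometrically irreducible), they cover, and they all contain
the section `(1 : … : 1)`.
-/

set_option autoImplicit false
set_option linter.style.haveILetI false
universe u

open CategoryTheory CategoryTheory.Limits AlgebraicGeometry HomogeneousLocalization MvPolynomial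

namespace Groth.Agent.Lib.Seat63.PnConn

open Groth.Agent.Lib.Helper27PnChart

variable (n : ℕ) (R : Type u) [CommRing R]

/-- the `i`-th standard chart of projective space. -/
noncomputable def chartι (i : Fin (n + 1)) :
    Spec (CommRingCat.of (Away (CohB1.polyGrading n R) (X i))) ⟶ Proj (CohB1.polyGrading n R) :=
  Proj.awayι (CohB1.polyGrading n R) (X i) (X_mem_one n R i) Nat.one_pos

instance (i : Fin (n + 1)) : IsOpenImmersion (chartι n R i) := by
  unfold chartι; infer_instance

/-- the structure morphism, with source written as `Proj`. -/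
noncomputable def str : Proj (CohB1.polyGrading n R) ⟶ Spec (CommRingCat.of R) :=
  CohB1.ProjSpace.toSpec n R

/-- the structure map `R → R[T]_(T_i)`. -/
noncomputable def strMap (i : Fin (n + 1)) : R →+* Away (CohB1.polyGrading n R) (X i) :=
  (fromZeroRingHom (CohB1.polyGrading n R) (Submonoid.powers (X i))).comp
    (algebraMap R (CohB1.polyGrading n R 0))

theorem chartι_str (i : Fin (n + 1)) :
    chartι n R i ≫ str n R = Spec.map (CommRingCat.ofHom (strMap n R i)) := by
  change Proj.awayι (CohB1.polyGrading n R) (X i) (X_mem_one n R i) Nat.one_pos ≫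
    (Proj.toSpecZero (CohB1.polyGrading n R) ≫
      Spec.map (CommRingCat.ofHom (algebraMap R (CohB1.polyGrading n R 0)))) = _
  rw [Proj.awayι_toSpecZero_assoc, ← Spec.map_comp, ← CommRingCat.ofHom_comp]
  rfl

/-- the index type of the chart, lifted to the ambient universe. -/
abbrev Idx (i : Fin (n + 1)) : Type u := ULift.{u} {j : Fin (n + 1) // j ≠ i}

/-- the chart ring isomorphism `R[T_j, j ≠ i] ≃ R[T]_(T_i)` with lifted index type. -/
noncomputable def chartEquiv (i : Fin (n + 1)) :
    MvPolynomial (Idx n i) R ≃+* Away (CohB1.polyGrading n R) (X i) :=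
  (MvPolynomial.renameEquiv R (Equiv.ulift.{u} (α := {j : Fin (n + 1) // j ≠ i}))).toRingEquiv.trans
    (RingEquiv.ofBijective (chart n R i) (chart_bijective n R i))

theorem chartEquiv_comp_C (i : Fin (n + 1)) :
    (chartEquiv n R i).toRingHom.comp (C : R →+* MvPolynomial (Idx n i) R) = strMap n R i := by
  ext r
  simp only [RingHom.comp_apply]
  unfold chartEquiv strMap
  simp only [RingEquiv.toRingHom_eq_coe, RingEquiv.coe_ringHom_trans, RingHom.comp_apply,
    RingEquiv.coe_toRingHom, AlgEquiv.coe_ringEquiv,
    MvPolynomial.renameEquiv_apply, MvPolynomial.rename_C, RingEquiv.ofBijective_apply]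
  unfold chart
  rw [MvPolynomial.eval₂Hom_C]
  rfl

/-- the chart as an isomorphism with affine space over `Spec R`. -/
noncomputable def chartIso (i : Fin (n + 1)) :
    Spec (CommRingCat.of (Away (CohB1.polyGrading n R) (X i))) ≅
      AffineSpace (Idx n i) (Spec (CommRingCat.of R)) :=
  (Scheme.Spec.mapIso (chartEquiv n R i).toCommRingCatIso.op) ≪≫
    (AffineSpace.SpecIso (Idx n i) (CommRingCat.of R)).symm

theorem chartIso_hom_over (i : Fin (n + 1)) :
    (chartIso n R i).hom ≫
      (AffineSpace (Idx n i) (Spec (CommRingCat.of R)) ↘ Spec (CommRingCat.of R)) =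
      chartι n R i ≫ str n R := by
  rw [chartι_str, ← chartEquiv_comp_C]
  unfold chartIso
  simp only [Iso.trans_hom, Functor.mapIso_hom, Iso.op_hom, Iso.symm_hom, Category.assoc,
    AffineSpace.SpecIso_inv_over, Scheme.Spec_map, Quiver.Hom.unop_op]
  rw [← Spec.map_comp]
  rfl

instance geomIrred_chart (i : Fin (n + 1)) :
    GeometricallyIrreducible (chartι n R i ≫ str n R) := by
  haveI : MorphismProperty.RespectsIso @GeometricallyIrreducible.{u} :=
    MorphismProperty.IsStableUnderBaseChange.respectsIso
  rw [← chartIso_hom_over,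
    MorphismProperty.cancel_left_of_respectsIso (P := @GeometricallyIrreducible)]
  infer_instance


/-! ### The section `(1 : … : 1)` -/

open Groth.Agent.Lib.Helper27ProjSpaceSurj in
/-- evaluation `R[T]_(T_0) → R` at `(1,…,1)`. -/
noncomputable def evAway : Away (CohB1.polyGrading n R) (X 0) →+* R :=
  (evLoc n R).comp (algebraMap (Away (CohB1.polyGrading n R) (X 0))
    (Localization.Away (X 0 : MvPolynomial (Fin (n + 1)) R)))

open Groth.Agent.Lib.Helper27ProjSpaceSurj in
theorem evAway_strMap : (evAway n R).comp (strMap n R 0) = RingHom.id R := by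
  ext r
  simp only [RingHom.comp_apply, RingHom.id_apply]
  have h := retr_fromZero n R (algebraMap R (CohB1.polyGrading n R 0) r)
  have hinj := (Groth.Agent.Lib.Helper27ProjGamma.algebraMap_zero_bijective n R).1
  apply hinj
  exact h

open Groth.Agent.Lib.Helper27ProjSpaceSurj in
theorem evLoc_mk (b : MvPolynomial (Fin (n + 1)) R) (m : ℕ) :
    evLoc n R (Localization.mk b
      (⟨X 0 ^ m, ⟨m, rfl⟩⟩ : Submonoid.powers (X 0 : MvPolynomial (Fin (n + 1)) R))) =
      ev n R b := by
  have h1 : Localization.mk b
      (⟨X 0 ^ m, ⟨m, rfl⟩⟩ : Submonoid.powers (X 0 : MvPolynomial (Fin (n + 1)) R)) *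
      algebraMap (MvPolynomial (Fin (n + 1)) R)
        (Localization.Away (X 0 : MvPolynomial (Fin (n + 1)) R)) (X 0 ^ m) =
      algebraMap (MvPolynomial (Fin (n + 1)) R)
        (Localization.Away (X 0 : MvPolynomial (Fin (n + 1)) R)) b := by
    rw [Localization.mk_eq_mk']
    exact IsLocalization.mk'_spec _ _ _
  have h2 := congrArg (evLoc n R) h1
  unfold evLoc at h2 ⊢
  rw [map_mul, IsLocalization.Away.lift_eq, IsLocalization.Away.lift_eq, map_pow, ev_X,
    one_pow, mul_one] at h2
  exact h2

open Groth.Agent.Lib.Helper27ProjSpaceSurj in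
theorem evAway_elem (i : Fin (n + 1)) :
    evAway n R (Away.isLocalizationElem (X_mem_one n R 0) (X_mem_one n R i)) = 1 := by
  unfold evAway
  rw [RingHom.comp_apply, HomogeneousLocalization.algebraMap_apply]
  have : (Away.isLocalizationElem (X_mem_one n R 0) (X_mem_one n R i)).val =
      Localization.mk ((X i : MvPolynomial (Fin (n + 1)) R) ^ 1)
        (⟨X 0 ^ 1, ⟨1, rfl⟩⟩ : Submonoid.powers (X 0 : MvPolynomial (Fin (n + 1)) R)) := rfl
  rw [this, evLoc_mk, map_pow, ev_X, one_pow]

/-- the section `(1 : … : 1)` of projective space. -/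
noncomputable def onePt : Spec (CommRingCat.of R) ⟶ Proj (CohB1.polyGrading n R) :=
  Spec.map (CommRingCat.ofHom (evAway n R)) ≫ chartι n R 0

theorem onePt_str : onePt n R ≫ str n R = 𝟙 _ := by
  unfold onePt
  rw [Category.assoc, chartι_str, ← Spec.map_comp, ← CommRingCat.ofHom_comp, evAway_strMap]
  simp

theorem onePt_mem (y : Spec (CommRingCat.of R)) (i : Fin (n + 1)) :
    onePt n R y ∈ Proj.basicOpen (CohB1.polyGrading n R) (X i) := by
  have h1 : chartι n R 0 ⁻¹ᵁ Proj.basicOpen (CohB1.polyGrading n R) (X i) =
      PrimeSpectrum.basicOpen (Away.isLocalizationElem (X_mem_one n R 0) (X_mem_one n R i)) :=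
    Proj.awayι_preimage_basicOpen (CohB1.polyGrading n R) (X_mem_one n R 0) Nat.one_pos
      (X_mem_one n R i) Nat.one_pos
  change Spec.map (CommRingCat.ofHom (evAway n R)) y ∈
    chartι n R 0 ⁻¹ᵁ Proj.basicOpen (CohB1.polyGrading n R) (X i)
  rw [h1]
  intro h
  have h2 : evAway n R (Away.isLocalizationElem (X_mem_one n R 0) (X_mem_one n R i)) ∈
      (show PrimeSpectrum R from y).asIdeal := h
  rw [evAway_elem] at h2
  exact (show PrimeSpectrum R from y).isPrime.ne_top ((Ideal.eq_top_iff_one _).mpr h2)

/-! ### Geometric connectedness -/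

theorem connectedSpace_pullback (K : Type u) [Field K]
    (x : Spec (CommRingCat.of K) ⟶ Spec (CommRingCat.of R)) :
    ConnectedSpace ↥(pullback (str n R) x) := by
  set fst := pullback.fst (str n R) x with hfst
  -- the pieces
  have hirr : ∀ i : Fin (n + 1), IrreducibleSpace ↥(pullback (chartι n R i ≫ str n R) x) :=
    fun i => GeometricallyIrreducible.geometrically_irreducibleSpace _ _ _
      (IsPullback.of_hasPullback _ _)
  have hV : ∀ i : Fin (n + 1),
      _root_.IsPreconnected (Set.range (pullback.snd (chartι n R i) fst)) := by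
    intro i
    haveI := hirr i
    have h1 : _root_.IsPreconnected (Set.range
        ((pullbackRightPullbackFstIso (str n R) x (chartι n R i)).inv ≫
          pullback.snd (chartι n R i) fst)) :=
      isPreconnected_range (Scheme.Hom.continuous _)
    have h2 : Set.range ((pullbackRightPullbackFstIso (str n R) x (chartι n R i)).inv ≫
          pullback.snd (chartι n R i) fst) = Set.range (pullback.snd (chartι n R i) fst) := by
      rw [Scheme.Hom.comp_base, TopCat.coe_comp, Set.range_comp,
        Set.range_eq_univ.mpr (pullbackRightPullbackFstIso (str n R) x (chartι n R i)).inv.surjective,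
        Set.image_univ]
    rwa [h2] at h1
  have hVeq : ∀ i : Fin (n + 1), Set.range (pullback.snd (chartι n R i) fst) =
      fst ⁻¹' (Proj.basicOpen (CohB1.polyGrading n R) (X i) : Set _) := by
    intro i
    rw [IsOpenImmersion.range_pullbackSnd (chartι n R i) fst]
    have : (chartι n R i).opensRange = Proj.basicOpen (CohB1.polyGrading n R) (X i) :=
      Proj.opensRange_awayι _ _ _ _
    rw [this]
    rfl
  -- the common point
  let s : Spec (CommRingCat.of K) ⟶ pullback (str n R) x :=
    pullback.lift (x ≫ onePt n R) (𝟙 _) (by rw [Category.assoc, onePt_str]; simp)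
  have hs : s ≫ fst = x ≫ onePt n R := pullback.lift_fst _ _ _
  let pt : Spec (CommRingCat.of K) := Nonempty.some inferInstance
  have hz : ∀ i : Fin (n + 1), s pt ∈ Set.range (pullback.snd (chartι n R i) fst) := by
    intro i
    rw [hVeq i, Set.mem_preimage]
    have : fst (s pt) = onePt n R (x pt) := by
      rw [← Scheme.Hom.comp_apply, hs, Scheme.Hom.comp_apply]
    rw [this]
    exact onePt_mem n R _ i
  have hcover : (⋃ i : Fin (n + 1), Set.range (pullback.snd (chartι n R i) fst)) = Set.univ := by
    rw [Set.eq_univ_iff_forall]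
    intro z
    have hz' : fst z ∈ (⊤ : (Proj (CohB1.polyGrading n R)).Opens) := trivial
    rw [← iSup_basicOpen_X n R, TopologicalSpace.Opens.mem_iSup] at hz'
    obtain ⟨i, hi⟩ := hz'
    rw [Set.mem_iUnion]
    exact ⟨i, by rw [hVeq i]; exact hi⟩
  have huniv : _root_.IsPreconnected (Set.univ : Set ↥(pullback (str n R) x)) := by
    rw [← hcover]
    exact isPreconnected_iUnion ⟨s pt, Set.mem_iInter.mpr hz⟩ hV
  haveI : PreconnectedSpace ↥(pullback (str n R) x) := ⟨huniv⟩
  exact ⟨⟨s pt⟩⟩

instance geomConn_str : GeometricallyConnected (str n R) :=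
  ⟨geometrically_iff_of_isClosedUnderIsomorphisms.mpr fun K _ x => connectedSpace_pullback n R K x⟩

instance geomConn_toSpec : GeometricallyConnected (CohB1.ProjSpace.toSpec n R) :=
  geomConn_str n R

set_option backward.isDefEq.respectTransparency.types false in
instance geomConn_toBase (S : Scheme.{u}) :
    GeometricallyConnected (CohB1.ProjSpaceOver.toBase n S) := by
  have h1 := geomConn_toSpec n (ULift.{u} ℤ)
  exact MorphismProperty.pullback_snd (P := @GeometricallyConnected) _ _ h1

end Groth.Agent.Lib.Seat63.PnConn
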