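import Mathlib
import Groth.Prelude.Def_CohB1
import Groth.Agent.Lib.Helper27PnChart
import Groth.Agent.Lib.Seat63PnConn

/-!
# Morphisms from affine schemes to projective space in homogeneous coordinates (seat 54)

`pt n R i ρ q : Spec Q ⟶ P^n_R` is the morphism with homogeneous coordinates `q` (normalised by
`q i = 1`) over `ρ : R →+* Q`, through the `i`-th standard chart.  Main results:
`pt_eq_of_mul_eq_one` (independence of the chart), `eq_of_pt_eq` (the coordinates are determined up
to the normalising unit), `pt_preimage_basicOpen`, `pt_comp`, `pt_str`, `chartι_eq_pt`.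
-/

set_option autoImplicit false
universe u

open CategoryTheory CategoryTheory.Limits AlgebraicGeometry HomogeneousLocalization MvPolynomial

namespace Groth.Agent.Lib.Seat54.ProjPt

open Groth.Agent.Lib.Helper27PnChart Groth.Agent.Lib.Seat63.PnConn
open Groth.Agent.Lib

variable (n : ℕ) (R : Type u) [CommRing R]

/-- the chart ring `R[T]_(T_i)`. -/
abbrev Ax (i : Fin (n + 1)) : Type u := Away (CohB1.polyGrading n R) (X i)

/-- the fraction `T_c / T_i`. -/
noncomputable def coord (i c : Fin (n + 1)) : Ax n R i :=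
  Helper27AwayGen.mk' (CohB1.polyGrading n R) (X_mem_one n R i) 1 (X c) (X_mem_one n R c)

theorem coord_self (i : Fin (n + 1)) : coord n R i i = 1 := by
  apply HomogeneousLocalization.val_injective
  rw [coord, Helper27AwayGen.val_mk', HomogeneousLocalization.val_one]
  have : (⟨X i ^ 1, ⟨1, rfl⟩⟩ : Submonoid.powers (X i : MvPolynomial (Fin (n + 1)) R)) =
      ⟨X i, ⟨1, pow_one _⟩⟩ := by ext; simp
  rw [this]
  exact Localization.mk_self (⟨X i, ⟨1, pow_one _⟩⟩ :
    Submonoid.powers (X i : MvPolynomial (Fin (n + 1)) R))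

theorem chart_X (i : Fin (n + 1)) (c : {c : Fin (n + 1) // c ≠ i}) :
    chart n R i (X c) = coord n R i c.1 := by
  apply HomogeneousLocalization.val_injective
  rw [coord, Helper27AwayGen.val_mk']
  unfold chart
  rw [MvPolynomial.eval₂Hom_X', val_mk]
  congr 1
  ext
  simp

theorem chart_C (i : Fin (n + 1)) (r : R) : chart n R i (C r) = strMap n R i r := by
  unfold chart
  rw [MvPolynomial.eval₂Hom_C]
  rfl

/-- the chart isomorphism as a ring equivalence. -/
noncomputable def chartE (i : Fin (n + 1)) :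
    MvPolynomial {c : Fin (n + 1) // c ≠ i} R ≃+* Ax n R i :=
  RingEquiv.ofBijective (chart n R i) (chart_bijective n R i)

theorem ringHom_ext {Q : Type*} [Semiring Q] (i : Fin (n + 1)) {f g : Ax n R i →+* Q}
    (h1 : ∀ r, f (strMap n R i r) = g (strMap n R i r))
    (h2 : ∀ c, f (coord n R i c) = g (coord n R i c)) : f = g := by
  have key : f.comp (chart n R i) = g.comp (chart n R i) := by
    apply MvPolynomial.ringHom_ext
    · intro r
      simp only [RingHom.comp_apply, chart_C, h1]
    · intro c
      simp only [RingHom.comp_apply, chart_X, h2]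
  ext x
  obtain ⟨p, rfl⟩ := chart_surjective n R i x
  exact RingHom.congr_fun key p

variable {Q : Type u} [CommRing Q]

/-- evaluation of the chart ring at coordinates `q` (with `q i = 1` understood). -/
noncomputable def evAt (i : Fin (n + 1)) (ρ : R →+* Q) (q : Fin (n + 1) → Q) : Ax n R i →+* Q :=
  (MvPolynomial.eval₂Hom ρ (fun c : {c : Fin (n + 1) // c ≠ i} => q c.1)).comp
    (chartE n R i).symm.toRingHom

theorem evAt_chart (i : Fin (n + 1)) (ρ : R →+* Q) (q : Fin (n + 1) → Q)
    (p : MvPolynomial {c : Fin (n + 1) // c ≠ i} R) :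
    evAt n R i ρ q (chart n R i p) =
      MvPolynomial.eval₂Hom ρ (fun c : {c : Fin (n + 1) // c ≠ i} => q c.1) p := by
  unfold evAt
  rw [RingHom.comp_apply]
  congr 1
  exact (chartE n R i).symm_apply_apply p

theorem evAt_strMap (i : Fin (n + 1)) (ρ : R →+* Q) (q : Fin (n + 1) → Q) (r : R) :
    evAt n R i ρ q (strMap n R i r) = ρ r := by
  rw [← chart_C, evAt_chart, MvPolynomial.eval₂Hom_C]

theorem evAt_coord (i : Fin (n + 1)) (ρ : R →+* Q) (q : Fin (n + 1) → Q) (hq : q i = 1)
    (c : Fin (n + 1)) : evAt n R i ρ q (coord n R i c) = q c := by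
  by_cases h : c = i
  · subst h
    rw [coord_self, map_one, hq]
  · rw [← chart_X n R i ⟨c, h⟩, evAt_chart, MvPolynomial.eval₂Hom_X']

theorem evAt_comp {Q' : Type u} [CommRing Q'] (ψ : Q →+* Q') (i : Fin (n + 1)) (ρ : R →+* Q)
    (q : Fin (n + 1) → Q) (hq : q i = 1) :
    ψ.comp (evAt n R i ρ q) = evAt n R i (ψ.comp ρ) (fun c => ψ (q c)) := by
  apply ringHom_ext n R i
  · intro r
    rw [RingHom.comp_apply, evAt_strMap, evAt_strMap, RingHom.comp_apply]
  · intro c
    rw [RingHom.comp_apply, evAt_coord n R i ρ q hq, evAt_coord n R i _ _ (by rw [hq, map_one])]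

theorem evAt_self (i : Fin (n + 1)) :
    evAt n R i (strMap n R i) (coord n R i) = RingHom.id _ := by
  apply ringHom_ext n R i
  · intro r
    rw [evAt_strMap, RingHom.id_apply]
  · intro c
    rw [evAt_coord n R i _ _ (coord_self n R i), RingHom.id_apply]

/-- the morphism `Spec Q ⟶ P^n_R` with homogeneous coordinates `q` (where `q i = 1`). -/
noncomputable def pt (i : Fin (n + 1)) (ρ : R →+* Q) (q : Fin (n + 1) → Q) :
    Spec (CommRingCat.of Q) ⟶ Proj (CohB1.polyGrading n R) :=
  Spec.map (CommRingCat.ofHom (evAt n R i ρ q)) ≫ chartι n R i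

theorem pt_comp {Q' : Type u} [CommRing Q'] (ψ : Q →+* Q') (i : Fin (n + 1)) (ρ : R →+* Q)
    (q : Fin (n + 1) → Q) (hq : q i = 1) :
    Spec.map (CommRingCat.ofHom ψ) ≫ pt n R i ρ q =
      pt n R i (ψ.comp ρ) (fun c => ψ (q c)) := by
  unfold pt
  rw [← Category.assoc, ← Spec.map_comp, ← CommRingCat.ofHom_comp, evAt_comp n R ψ i ρ q hq]

theorem pt_str (i : Fin (n + 1)) (ρ : R →+* Q) (q : Fin (n + 1) → Q) :
    pt n R i ρ q ≫ str n R = Spec.map (CommRingCat.ofHom ρ) := by
  unfold pt
  rw [Category.assoc, chartι_str, ← Spec.map_comp, ← CommRingCat.ofHom_comp]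
  congr 2
  ext r
  exact evAt_strMap n R i ρ q r

theorem chartι_eq_pt (i : Fin (n + 1)) :
    chartι n R i = pt n R i (strMap n R i) (coord n R i) := by
  unfold pt
  rw [evAt_self]
  simp


theorem isLocalizationElem_eq_coord (i c : Fin (n + 1)) :
    Away.isLocalizationElem (X_mem_one n R i) (X_mem_one n R c) = coord n R i c := by
  apply HomogeneousLocalization.val_injective
  rw [coord, Helper27AwayGen.val_mk', Away.val_mk]
  simp only [pow_one]

theorem pt_preimage_basicOpen (i : Fin (n + 1)) (ρ : R →+* Q) (q : Fin (n + 1) → Q)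
    (hq : q i = 1) (c : Fin (n + 1)) :
    pt n R i ρ q ⁻¹ᵁ Proj.basicOpen (CohB1.polyGrading n R) (X c) =
      PrimeSpectrum.basicOpen (q c) := by
  have h1 : chartι n R i ⁻¹ᵁ Proj.basicOpen (CohB1.polyGrading n R) (X c) =
      PrimeSpectrum.basicOpen (Away.isLocalizationElem (X_mem_one n R i) (X_mem_one n R c)) :=
    Proj.awayι_preimage_basicOpen (CohB1.polyGrading n R) (X_mem_one n R i) Nat.one_pos
      (X_mem_one n R c) Nat.one_pos
  unfold pt
  rw [Scheme.Hom.comp_preimage, h1, isLocalizationElem_eq_coord]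
  have := SpecMap_preimage_basicOpen (CommRingCat.ofHom (evAt n R i ρ q)) (coord n R i c)
  rw [this]
  congr 1
  exact evAt_coord n R i ρ q hq c

theorem isUnit_of_basicOpen_eq_top {a : Q} (h : PrimeSpectrum.basicOpen a = ⊤) : IsUnit a := by
  by_contra hu
  obtain ⟨M, hM, haM⟩ := exists_max_ideal_of_mem_nonunits (mem_nonunits_iff.mpr hu)
  have hmem : (⟨M, hM.isPrime⟩ : PrimeSpectrum Q) ∈ PrimeSpectrum.basicOpen a := by
    rw [h]; trivial
  exact hmem haM

/-- key identity in `R[T]_(T_i T_k)`. -/
theorem awayMap_coord_mul (i k c : Fin (n + 1)) :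
    awayMap (CohB1.polyGrading n R) (X_mem_one n R i) (mul_comm (X i) (X k)) (coord n R k c) *
      awayMap (CohB1.polyGrading n R) (X_mem_one n R k) rfl (coord n R i k) =
      awayMap (CohB1.polyGrading n R) (X_mem_one n R k) rfl (coord n R i c) := by
  apply HomogeneousLocalization.val_injective
  simp only [coord, Helper27AwayGen.mk', awayMap_mk, val_mul, Away.val_mk, Localization.mk_mul]
  rw [Localization.mk_eq_mk_iff, Localization.r_iff_exists]
  refine ⟨1, ?_⟩
  simp only [OneMemClass.coe_one, one_mul, Submonoid.coe_mul, pow_one]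
  ring

/-- independence of the chart. -/
theorem pt_eq_of_mul_eq_one (i k : Fin (n + 1)) (ρ : R →+* Q) (q : Fin (n + 1) → Q)
    (hq : q i = 1) (v : Q) (hv : v * q k = 1) :
    pt n R i ρ q = pt n R k ρ (fun c => v * q c) := by
  by_cases hik : i = k
  · subst hik
    have hv1 : v = 1 := by rwa [hq, mul_one] at hv
    subst hv1
    simp only [one_mul]
  have hf := X_mem_one n R i
  have hg := X_mem_one n R k
  let alg : Algebra (Ax n R i) (Away (CohB1.polyGrading n R) (X i * X k)) :=
    (awayMap (CohB1.polyGrading n R) hg rfl).toAlgebra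
  have hloc : IsLocalization.Away (Away.isLocalizationElem hf hg)
      (Away (CohB1.polyGrading n R) (X i * X k)) :=
    Away.isLocalization_mul hf hg rfl one_ne_zero
  have hunit : IsUnit (evAt n R i ρ q (Away.isLocalizationElem hf hg)) := by
    rw [isLocalizationElem_eq_coord, evAt_coord n R i ρ q hq]
    exact IsUnit.of_mul_eq_one v (by rwa [mul_comm])
  let h : Away (CohB1.polyGrading n R) (X i * X k) →+* Q :=
    IsLocalization.Away.lift (Away.isLocalizationElem hf hg) hunit
  have h1 : h.comp (awayMap (CohB1.polyGrading n R) hg rfl) = evAt n R i ρ q :=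
    IsLocalization.Away.lift_comp (Away.isLocalizationElem hf hg) hunit
  have h1' : ∀ a, h (awayMap (CohB1.polyGrading n R) hg rfl a) = evAt n R i ρ q a :=
    fun a => RingHom.congr_fun h1 a
  have h2 : h.comp (awayMap (CohB1.polyGrading n R) hf (mul_comm (X i) (X k))) =
      evAt n R k ρ (fun c => v * q c) := by
    apply ringHom_ext n R k
    · intro r
      rw [RingHom.comp_apply, evAt_strMap]
      have e1 : awayMap (CohB1.polyGrading n R) hf (mul_comm (X i) (X k)) (strMap n R k r) =
          awayMap (CohB1.polyGrading n R) hg rfl (strMap n R i r) := by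
        unfold strMap
        rw [RingHom.comp_apply, RingHom.comp_apply, awayMap_fromZeroRingHom,
          awayMap_fromZeroRingHom]
      rw [e1, h1', evAt_strMap]
    · intro c
      rw [RingHom.comp_apply, evAt_coord n R k ρ _ (by simpa using hv)]
      have e2 := congrArg h (awayMap_coord_mul n R i k c)
      rw [map_mul, h1', h1', evAt_coord n R i ρ q hq, evAt_coord n R i ρ q hq] at e2
      calc h (awayMap (CohB1.polyGrading n R) hf (mul_comm (X i) (X k)) (coord n R k c))
          = h (awayMap (CohB1.polyGrading n R) hf (mul_comm (X i) (X k)) (coord n R k c)) *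
              (q k * v) := by rw [mul_comm (q k) v, hv, mul_one]
        _ = v * q c := by rw [← mul_assoc, e2, mul_comm]
  unfold pt chartι
  rw [← h1, ← h2, CommRingCat.ofHom_comp, CommRingCat.ofHom_comp, Spec.map_comp, Spec.map_comp,
    Category.assoc, Category.assoc,
    Proj.SpecMap_awayMap_awayι (CohB1.polyGrading n R) hf Nat.one_pos hg rfl,
    Proj.SpecMap_awayMap_awayι (CohB1.polyGrading n R) hg Nat.one_pos hf
      (mul_comm (X i) (X k))]

/-- the coordinates are determined by the morphism. -/
theorem eq_of_pt_eq (i k : Fin (n + 1)) (ρ ρ' : R →+* Q) (q q' : Fin (n + 1) → Q)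
    (hq : q i = 1) (hq' : q' k = 1) (h : pt n R i ρ q = pt n R k ρ' q') :
    ρ = ρ' ∧ q k * q' i = 1 ∧ ∀ c, q' c = q' i * q c := by
  have hρ : ρ = ρ' := by
    have h1 := congrArg (fun φ => φ ≫ str n R) h
    simp only [pt_str] at h1
    have h2 := Spec.map_injective h1
    exact congrArg CommRingCat.Hom.hom h2
  subst hρ
  have hunit : IsUnit (q k) := by
    apply isUnit_of_basicOpen_eq_top
    rw [← pt_preimage_basicOpen n R i ρ q hq k, h, pt_preimage_basicOpen n R k ρ q' hq' k, hq',
      PrimeSpectrum.basicOpen_one]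
  obtain ⟨v, hv⟩ := hunit.exists_left_inv
  have h3 := pt_eq_of_mul_eq_one n R i k ρ q hq v hv
  rw [h] at h3
  unfold pt at h3
  have h4 := (cancel_mono (chartι n R k)).mp h3
  have h5 : evAt n R k ρ q' = evAt n R k ρ (fun c => v * q c) :=
    congrArg CommRingCat.Hom.hom (Spec.map_injective h4)
  have h6 : ∀ c, q' c = v * q c := by
    intro c
    have := RingHom.congr_fun h5 (coord n R k c)
    rwa [evAt_coord n R k ρ q' hq', evAt_coord n R k ρ _ (by simpa using hv)] at this
  have h7 : q' i = v := by rw [h6 i, hq, mul_one]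
  refine ⟨rfl, ?_, ?_⟩
  · rw [h7, mul_comm]; exact hv
  · intro c; rw [h7]; exact h6 c

end Groth.Agent.Lib.Seat54.ProjPt
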