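/-
Seat 81 helper library: the comparison maps `SectCmp.ε` over the whole base are bijective for modules all of whose
higher direct images are acyclic for global sections on the base (in particular quasi-coherent modules along a
quasi-compact quasi-separated morphism to an affine base: S16959).
-/
import Mathlib
import Groth.Prelude.Def_CohCmp
import Groth.Agent.Lib.Seat81GSS2
import Groth.Agent.Lib.Seat81GammaDer
import Groth.Agent.Lib.Seat81DerRes
import Groth.Agent.Lib.Helper21DerAcyc
import Groth.Agent.Lib.Helper23SectCmpLib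
import Groth.Agent.Lib.Seat81ResAux
import Groth.Agent.Lib.Helper16Flasque
import Groth.Agent.Lib.Seat81BC
import Groth.Agent.Lib.Helper23AffVanish7

set_option autoImplicit false
universe u
open CohCmp

namespace Groth.Agent.Lib.Seat81.SectBij

open AlgebraicGeometry CategoryTheory Scheme.Modules Opposite Limits TopologicalSpace Abelian
open Groth.Agent.Lib.Seat81 Groth.Agent.Lib.Seat81.GammaDer Groth.Agent.Lib.Seat81.GSS

/-- modules on a scheme have enough injectives (prior S0484) -/
local instance enoughInj (Y : Scheme.{u}) : EnoughInjectives Y.Modules := DerRes.enoughInjectives Y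

/-- global sections of the underlying abelian sheaf of a module -/
noncomputable def GS (S : Scheme.{u}) : S.Modules ⥤ AddCommGrpCat.{u} :=
  (SheafOfModules.toSheaf S.ringCatSheaf ⋙ Γ S.carrier :
    SheafOfModules.{u} S.ringCatSheaf ⥤ AddCommGrpCat.{u})

instance (S : Scheme.{u}) : (GS S).Additive :=
  inferInstanceAs (Functor.Additive (C := SheafOfModules.{u} S.ringCatSheaf)
    (SheafOfModules.toSheaf S.ringCatSheaf ⋙ Γ S.carrier))

noncomputable instance (S : Scheme.{u}) : PreservesFiniteLimits (GS S) :=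
  inferInstanceAs (PreservesFiniteLimits (C := SheafOfModules.{u} S.ringCatSheaf)
    (SheafOfModules.toSheaf S.ringCatSheaf ⋙ Γ S.carrier))

theorem acycGS_iff (S : Scheme.{u}) (N : S.Modules) :
    Acyc (GS S) N ↔ ∀ a : ℕ, Subsingleton (Coh.HH S N (a + 1)) := by
  have := Groth.Agent.S0484.result (Opens.grothendieckTopology S) S.ringCatSheaf
  have hE : ∀ J : S.Modules, Injective J → ∀ q : ℕ, 0 < q →
      IsZero (((Γ S.carrier).rightDerived q).obj ((SheafOfModules.toSheaf S.ringCatSheaf).obj J)) := by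
    intro J hJ q hq
    obtain ⟨q, rfl⟩ : ∃ k, q = k + 1 := ⟨q - 1, by omega⟩
    have hfl : TopCat.Sheaf.IsFlasque (Coh.toAb J) := ResLE.isFlasque_toAb_of_injective J
    exact (acyc_iff S.carrier (Coh.toAb J)).2
      (fun a => Groth.Agent.Lib.Helper16.Flasque.H_subsingleton _ a) q
  have key : ∀ a : ℕ, Nonempty (((GS S).rightDerived (a + 1)).obj N ≅
      ((Γ S.carrier).rightDerived (a + 1)).obj (Coh.toAb N)) := fun a =>
    Groth.Agent.Lib.Helper21.DerAcyc.nonempty_rightDerived_comp_iso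
      (SheafOfModules.toSheaf S.ringCatSheaf) (Γ S.carrier) hE N (a + 1)
  rw [← acyc_iff S.carrier (Coh.toAb N)]
  constructor
  · intro h a
    obtain ⟨e⟩ := key a
    exact (h a).of_iso e.symm
  · intro h a
    obtain ⟨e⟩ := key a
    exact (h a).of_iso e

theorem acyc_push_injective {X S : Scheme.{u}} (f : X ⟶ S) (I : X.Modules) (hI : Injective I) :
    Acyc (GS S) ((pushforward f).obj I) := by
  rw [acycGS_iff]
  intro a
  have hfl : TopCat.Sheaf.IsFlasque (Coh.toAb I) := ResLE.isFlasque_toAb_of_injective I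
  have hfl' : TopCat.Sheaf.IsFlasque ((CohTop.push f.base).obj (Coh.toAb I)) :=
    TopCat.Sheaf.IsFlasque.pushforward_isFlasque _ f.base
  exact Groth.Agent.Lib.Helper16.Flasque.H_subsingleton ((CohTop.push f.base).obj (Coh.toAb I)) a

theorem app_bijective_of_isIso {Y : Scheme.{u}} {M N : Y.Modules} (φ : M ⟶ N) [IsIso φ] (V : Y.Opens) :
    Function.Bijective (φ.app V) := by
  refine Function.bijective_iff_has_inverse.2 ⟨(inv φ).app V, fun s => ?_, fun t => ?_⟩
  · exact congrArg (fun ψ : M ⟶ M => ψ.app V s) (IsIso.hom_inv_id φ)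
  · exact congrArg (fun ψ : N ⟶ N => ψ.app V t) (IsIso.inv_hom_id φ)

theorem extδ_map_g {U : Scheme.{u}} {S : ShortComplex (CohTop.Ab U)} (hS : S.ShortExact) (p : ℕ)
    (z : Sheaf.H S.X₂ p) : CohCmp.extδ hS p (Sheaf.H.map S.g p z) = 0 := by
  change (z.comp (Ext.mk₀ S.g) (add_zero p)).comp hS.extClass rfl = 0
  rw [Ext.comp_assoc_of_second_deg_zero, hS.comp_extClass, Ext.comp_zero]

theorem ε_top_bijective_zero {X S : Scheme.{u}} (f : X ⟶ S) [HasInjectiveResolutions X.Modules]
    {Δ : RDer.DerivedLES (pushforward f)} (E : CohCmp.SectCmp f Δ) (V : S.Opens) (F : X.Modules) :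
    Function.Bijective (E.ε V F 0) := by
  let τ := (pushforward f).toRightDerivedZero.app F
  have hτ : IsIso τ := inferInstance
  have h1 : ∀ x, E.ε V F 0 x = τ.app V ((CohPull.sectH0 F (f ⁻¹ᵁ V)).symm x) := by
    intro x
    obtain ⟨s, rfl⟩ := (CohPull.sectH0 F (f ⁻¹ᵁ V)).surjective x
    rw [E.zero, AddEquiv.symm_apply_apply]
  have h2 : (E.ε V F 0 : _ → _) = (τ.app V) ∘ (CohPull.sectH0 F (f ⁻¹ᵁ V)).symm := funext h1
  rw [h2]
  exact (app_bijective_of_isIso τ V).comp (CohPull.sectH0 F (f ⁻¹ᵁ V)).symm.bijective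

theorem GS_map_apply {S : Scheme.{u}} {M N : S.Modules} (φ : M ⟶ N) (s : M.presheaf.obj (op ⊤)) :
    ((GS S).map φ).hom s = φ.app ⊤ s := rfl

set_option maxHeartbeats 1000000 in
theorem ε_top_bijective {X S : Scheme.{u}} (f : X ⟶ S) [HasInjectiveResolutions X.Modules]
    {Δ : RDer.DerivedLES (pushforward f)} (E : CohCmp.SectCmp f Δ) (q : ℕ) :
    ∀ F : X.Modules, Good (pushforward f) (GS S) F → Function.Bijective (E.ε ⊤ F q) := by
  obtain ⟨ΔG⟩ := Groth.Agent.S16463.result (GS S)
  induction q with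
  | zero => exact fun F _ => ε_top_bijective_zero f E ⊤ F
  | succ q ih =>
    intro F hF
    have hS := hullSC_shortExact F
    have hA := Groth.Agent.Lib.Helper23.SectCmpLib.toAbOn_shortExact (f ⁻¹ᵁ ⊤) (hullSC F) hS
    have hsub : Subsingleton (Coh.HHon X (hullSC F).X₂ (f ⁻¹ᵁ ⊤) (q + 1)) :=
      ResLE.subsingleton_HHon_of_injective (hullSC F).X₂ _ q
    have hI : Good (pushforward f) (GS S) (hullSC F).X₂ :=
      good_of_injective (pushforward f) (GS S) (acyc_push_injective f) _
    have hQ : Good (pushforward f) (GS S) (hullSC F).X₃ :=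
      good_hull (pushforward f) (GS S) Δ ΔG (acyc_push_injective f) F hF
    have ihI := ih (hullSC F).X₂ hI
    have ihQ := ih (hullSC F).X₃ hQ
    obtain ⟨hex, hepi⟩ := bottom_row (pushforward f) (GS S) Δ ΔG (acyc_push_injective f) F hF q
    have hex' := (ShortComplex.ab_exact_iff _).1 hex
    have hepi' := (AddCommGrpCat.epi_iff_surjective _).1 hepi
    constructor
    · rw [injective_iff_map_eq_zero]
      intro w hw
      obtain ⟨x, hx⟩ := Abelian.Ext.covariant_sequence_exact₁ _ hA w (hsub.elim _ _) rfl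
      have hx' : CohCmp.extδ hA q x = w := hx
      have h1 : (Δ.δ (hullSC F) hS q (q + 1) rfl).app ⊤ (E.ε ⊤ (hullSC F).X₃ q x) = 0 := by
        rw [← E.delta ⊤ (hullSC F) hS hA q x, hx']; exact hw
      obtain ⟨y', hy'⟩ := hex' (E.ε ⊤ (hullSC F).X₃ q x) h1
      obtain ⟨x', rfl⟩ := ihI.2 y'
      have h2 : E.ε ⊤ (hullSC F).X₃ q
          (CohPull.mapH ((restrictFunctor (f ⁻¹ᵁ ⊤).ι).map (hullSC F).g) q x') =
          E.ε ⊤ (hullSC F).X₃ q x := by
        rw [E.natural]; exact hy'
      have h3 := ihQ.1 h2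
      rw [← hx', ← h3]
      exact extδ_map_g hA q x'
    · intro z
      obtain ⟨y, rfl⟩ := hepi' z
      obtain ⟨x, rfl⟩ := ihQ.2 y
      exact ⟨CohCmp.extδ hA q x, E.delta ⊤ (hullSC F) hS hA q x⟩

theorem good_of_qcoh {X S : Scheme.{u}} (f : X ⟶ S) [QuasiCompact f] [QuasiSeparated f] [IsAffine S]
    (F : X.Modules) [Coh.IsQCoh F] : Good (pushforward f) (GS S) F := by
  intro b
  rw [acycGS_iff]
  intro a
  have hq : ((Coh.Rpush f b).obj F).IsQuasicoherent := BC.qcoh_Rpush f F b
  exact Groth.Agent.Lib.Helper23.AffVanish.subsingleton_HH ((Coh.Rpush f b).obj F) (a + 1) (Nat.succ_pos a)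

/-- S16959 -/
theorem ε_top_bijective_of_qcoh {X S : Scheme.{u}} (f : X ⟶ S) [QuasiCompact f] [QuasiSeparated f] [IsAffine S]
    [HasInjectiveResolutions X.Modules]
    {Δ : RDer.DerivedLES (pushforward f)} (E : CohCmp.SectCmp f Δ) (F : X.Modules) [Coh.IsQCoh F] (q : ℕ) :
    Function.Bijective (E.ε ⊤ F q) :=
  ε_top_bijective f E q F (good_of_qcoh f F)

end Groth.Agent.Lib.Seat81.SectBij
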