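import Groth.Agent.Lib.Seat54SerreVanish
import Groth.Agent.Lib.Seat54PnFinite
import Groth.Agent.Lib.Seat54PushLin
import Groth.Agent.Lib.Seat16ProjFormula2
import Groth.Agent.Lib.Helper23TensorUnit
import Groth.Agent.Lib.Seat98PicCalc
import Groth.Agent.Lib.Helper23QAffSec
import Groth.Agent.Lib.Helper20PullbackAff
import Groth.Agent.Lib.Seat21DevPushM

set_option autoImplicit false
universe u
open CategoryTheory CategoryTheory.Limits AlgebraicGeometry Opposite TopologicalSpace

/-!
# Cohomology of twists on a closed subscheme of `P^n_B` (seat 54)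

For a closed immersion `c : W ⟶ P^n_B`, `B` Noetherian: `nonempty_push_pullback_iso` (`c_* c^* E ≅ c_* O_W ⊗ E` for `E`
invertible, from helper16's projection formula), `exists_vanishing` (`H^q(W, c^* O(m)) = 0` for `q ≥ 1`, `m ≥ m₀`),
`finite_HH` (`H^q(W, c^* O(m))` is a finite `B`-module).
-/

namespace Groth.Agent.Lib.Seat54.RelVan

open Groth.Agent.Lib.Seat16.ProjFormula Groth.Agent.Lib.Helper1.PT

variable {W P : Scheme.{u}} (c : W ⟶ P)

/-- the projection formula for the structure sheaf: `c_* c^* E ≅ c_* O_W ⊗ E` for `E` invertible -/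
theorem nonempty_push_pullback_iso (E : P.Modules) (hE : PicF.IsInvertible E) :
    Nonempty ((Scheme.Modules.pushforward c).obj ((Scheme.Modules.pullback c).obj E) ≅
      CohB1.tensorMod ((Scheme.Modules.pushforward c).obj (Coh.structureModule W)) E) := by
  have hE' : FlatMod.IsFinLocFree E := fun x => by
    obtain ⟨U, hxU, h⟩ := Groth.Agent.Lib.Helper23.SecTw.isFinLocFreeOfRank_one_of_isInvertible E hE x
    exact ⟨U, 1, hxU, h⟩
  have e1 := (projIso c E hE').app (Coh.structureModule W)
  have e2 := (Scheme.Modules.pushforward c).mapIso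
    (Groth.Agent.Lib.Helper23.TensorUnit.tensorUnitIso ((Scheme.Modules.pullback c).obj E))
  exact ⟨e2.symm ≪≫ e1.symm ≪≫ Groth.Agent.Lib.Seat98.PicCalc.tComm _ _⟩

section Pn

variable (n : ℕ) (B : Type u) [CommRing B] [IsNoetherianRing B] {W : Scheme.{u}}
  (c : W ⟶ CohB1.ProjSpace n B) [IsClosedImmersion c]

omit [IsNoetherianRing B] in
theorem isCoh_push_structure :
    Coh.IsCoh ((Scheme.Modules.pushforward c).obj (Coh.structureModule W)) :=
  Groth.Agent.Lib.Seat21.Dev.isCoh_push c (Groth.Agent.Lib.Seat21.Dev.isCoh_structureModule W)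

/-- relative Serre vanishing for a closed subscheme of `P^n_B` -/
theorem exists_vanishing : ∃ m₀ : ℤ, ∀ m : ℤ, m₀ ≤ m → ∀ q : ℕ, 1 ≤ q →
    Subsingleton (Coh.HH W ((Scheme.Modules.pullback c).obj (Twist.twistProjSpace n B m)) q) := by
  obtain ⟨m₀, hm₀⟩ := Groth.Agent.Lib.Seat54.SerreVanish.serre_vanishing n B _ (isCoh_push_structure n B c)
  refine ⟨m₀, fun m hm q hq => ?_⟩
  obtain ⟨e⟩ := nonempty_push_pullback_iso c (Twist.twistProjSpace n B m)
    (Groth.Agent.Lib.Seat54.PnFinite.isInvertible_twistProjSpace n B m)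
  have h1 := hm₀ m hm q hq
  have h2 := Groth.Agent.Lib.Seat54.PnVanish.subsingleton_HH_of_iso e q h1
  have : Coh.IsQCoh (Twist.twistProjSpace n B m) := inferInstance
  exact Groth.Agent.Lib.Seat54.PushLin.subsingleton_of_push c _ q h2

/-- finiteness of the cohomology of twists on a closed subscheme of `P^n_B` -/
theorem finite_HH [W.Over (Spec (CommRingCat.of B))]
    (hc : c ≫ (CohB1.ProjSpace n B ↘ Spec (CommRingCat.of B)) = W ↘ Spec (CommRingCat.of B))
    (m : ℤ) (q : ℕ) :
    Module.Finite B (Coh.HH W ((Scheme.Modules.pullback c).obj (Twist.twistProjSpace n B m)) q) := by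
  obtain ⟨e⟩ := nonempty_push_pullback_iso c (Twist.twistProjSpace n B m)
    (Groth.Agent.Lib.Seat54.PnFinite.isInvertible_twistProjSpace n B m)
  have hcoh : Coh.IsCoh (CohB1.tensorMod ((Scheme.Modules.pushforward c).obj (Coh.structureModule W))
      (Twist.twistProjSpace n B m)) := by
    have h1 := isCoh_push_structure n B c
    have h2 := Groth.Agent.Lib.Seat54.PnFinite.isCoh_twistProjSpace n B m
    have : ((Scheme.Modules.pushforward c).obj (Coh.structureModule W)).IsQuasicoherent := h1.1
    have : SheafOfModules.IsFiniteType (R := (CohB1.ProjSpace n B).ringCatSheaf)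
      ((Scheme.Modules.pushforward c).obj (Coh.structureModule W)) := h1.2
    have : (Twist.twistProjSpace n B m).IsQuasicoherent := h2.1
    have : SheafOfModules.IsFiniteType (R := (CohB1.ProjSpace n B).ringCatSheaf)
      (Twist.twistProjSpace n B m) := h2.2
    exact ⟨Groth.Agent.Lib.Helper23.TensorQCoh.isQuasicoherent_tensorMod _ _,
      Groth.Agent.Lib.Helper23.TensorQCoh.isFiniteType_tensorMod _ _⟩
  have h1 := Groth.Agent.Lib.Seat54.PnFinite.finite_HH n B _ hcoh q
  have h2 : Module.Finite B (Coh.HH (CohB1.ProjSpace n B)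
      ((Scheme.Modules.pushforward c).obj
        ((Scheme.Modules.pullback c).obj (Twist.twistProjSpace n B m))) q) :=
    Groth.Agent.Lib.Seat54.HHFinite.finite_of_retract B e.hom e.inv e.hom_inv_id q h1
  exact Groth.Agent.Lib.Seat54.PushLin.finite_of_push c B hc _ q h2

end Pn

end Groth.Agent.Lib.Seat54.RelVan
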