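import Groth.Agent.Lib.Seat54RelVan

set_option autoImplicit false
universe u
open CategoryTheory CategoryTheory.Limits AlgebraicGeometry Opposite TopologicalSpace

/-!
# Coherent modules on a closed subscheme of `P^n_B`: Serre vanishing and finiteness (seat 54)

`nonempty_push_tensor_iso` (`c_*(F ⊗ c^*E) ≅ c_*F ⊗ E`), `exists_vanishing_coh`, `finite_HH_coh`.
-/

namespace Groth.Agent.Lib.Seat54.RelVan

open Groth.Agent.Lib.Seat16.ProjFormula Groth.Agent.Lib.Helper1.PT

variable {W P : Scheme.{u}} (c : W ⟶ P)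

/-- the projection formula: `c_* (F ⊗ c^* E) ≅ c_* F ⊗ E` for `E` invertible -/
theorem nonempty_push_tensor_iso (F : W.Modules) (E : P.Modules) (hE : PicF.IsInvertible E) :
    Nonempty ((Scheme.Modules.pushforward c).obj (CohB1.tensorMod F ((Scheme.Modules.pullback c).obj E)) ≅
      CohB1.tensorMod ((Scheme.Modules.pushforward c).obj F) E) := by
  have hE' : FlatMod.IsFinLocFree E := fun x => by
    obtain ⟨U, hxU, h⟩ := Groth.Agent.Lib.Helper23.SecTw.isFinLocFreeOfRank_one_of_isInvertible E hE x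
    exact ⟨U, 1, hxU, h⟩
  have e1 := (projIso c E hE').app F
  have e2 := (Scheme.Modules.pushforward c).mapIso
    (Groth.Agent.Lib.Seat98.PicCalc.tComm F ((Scheme.Modules.pullback c).obj E))
  exact ⟨e2 ≪≫ e1.symm ≪≫ Groth.Agent.Lib.Seat98.PicCalc.tComm _ _⟩

section Pn

variable (n : ℕ) (B : Type u) [CommRing B] [IsNoetherianRing B] {W : Scheme.{u}}
  (c : W ⟶ CohB1.ProjSpace n B) [IsClosedImmersion c] (F : W.Modules) (hF : Coh.IsCoh F)

include hF

omit [IsNoetherianRing B] [IsClosedImmersion c] in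
theorem isQCoh_tensor_pullback (m : ℤ) :
    (CohB1.tensorMod F ((Scheme.Modules.pullback c).obj (Twist.twistProjSpace n B m))).IsQuasicoherent := by
  have : F.IsQuasicoherent := hF.1
  exact Groth.Agent.Lib.Helper23.TensorQCoh.isQuasicoherent_tensorMod _ _

/-- Serre vanishing for a coherent module on a closed subscheme of `P^n_B` -/
theorem exists_vanishing_coh : ∃ m₀ : ℤ, ∀ m : ℤ, m₀ ≤ m → ∀ q : ℕ, 1 ≤ q →
    Subsingleton (Coh.HH W (CohB1.tensorMod F
      ((Scheme.Modules.pullback c).obj (Twist.twistProjSpace n B m))) q) := by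
  obtain ⟨m₀, hm₀⟩ := Groth.Agent.Lib.Seat54.SerreVanish.serre_vanishing n B _
    (Groth.Agent.Lib.Seat21.Dev.isCoh_push c hF)
  refine ⟨m₀, fun m hm q hq => ?_⟩
  obtain ⟨e⟩ := nonempty_push_tensor_iso c F (Twist.twistProjSpace n B m)
    (Groth.Agent.Lib.Seat54.PnFinite.isInvertible_twistProjSpace n B m)
  have h1 := hm₀ m hm q hq
  have h2 := Groth.Agent.Lib.Seat54.PnVanish.subsingleton_HH_of_iso e q h1
  have := isQCoh_tensor_pullback n B c F hF m
  exact Groth.Agent.Lib.Seat54.PushLin.subsingleton_of_push c _ q h2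

/-- finiteness of the cohomology of twists of a coherent module on a closed subscheme of `P^n_B` -/
theorem finite_HH_coh [W.Over (Spec (CommRingCat.of B))]
    (hc : c ≫ (CohB1.ProjSpace n B ↘ Spec (CommRingCat.of B)) = W ↘ Spec (CommRingCat.of B))
    (m : ℤ) (q : ℕ) :
    Module.Finite B (Coh.HH W (CohB1.tensorMod F
      ((Scheme.Modules.pullback c).obj (Twist.twistProjSpace n B m))) q) := by
  obtain ⟨e⟩ := nonempty_push_tensor_iso c F (Twist.twistProjSpace n B m)
    (Groth.Agent.Lib.Seat54.PnFinite.isInvertible_twistProjSpace n B m)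
  have hcoh : Coh.IsCoh (CohB1.tensorMod ((Scheme.Modules.pushforward c).obj F)
      (Twist.twistProjSpace n B m)) := by
    have h1 := Groth.Agent.Lib.Seat21.Dev.isCoh_push c hF
    have h2 := Groth.Agent.Lib.Seat54.PnFinite.isCoh_twistProjSpace n B m
    have : ((Scheme.Modules.pushforward c).obj F).IsQuasicoherent := h1.1
    have : SheafOfModules.IsFiniteType (R := (CohB1.ProjSpace n B).ringCatSheaf)
      ((Scheme.Modules.pushforward c).obj F) := h1.2
    have : (Twist.twistProjSpace n B m).IsQuasicoherent := h2.1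
    have : SheafOfModules.IsFiniteType (R := (CohB1.ProjSpace n B).ringCatSheaf)
      (Twist.twistProjSpace n B m) := h2.2
    exact ⟨Groth.Agent.Lib.Helper23.TensorQCoh.isQuasicoherent_tensorMod _ _,
      Groth.Agent.Lib.Helper23.TensorQCoh.isFiniteType_tensorMod _ _⟩
  have h1 := Groth.Agent.Lib.Seat54.PnFinite.finite_HH n B _ hcoh q
  have h2 := Groth.Agent.Lib.Seat54.HHFinite.finite_of_retract B e.hom e.inv e.hom_inv_id q h1
  have := isQCoh_tensor_pullback n B c F hF m
  exact Groth.Agent.Lib.Seat54.PushLin.finite_of_push c B hc _ q h2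

end Pn

end Groth.Agent.Lib.Seat54.RelVan
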