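import Groth.Agent.Lib.Seat54ProjPt

/-!
# The Segre embedding over a ring (seat 54)

`segre n m R : P^n_R ×_R P^m_R ⟶ P^{nm+n+m}_R`, glued from the affine charts
`Spec (R[T]_(T_i) ⊗ R[T]_(T_j))` in homogeneous coordinates (`Seat54ProjPt`);
`segre_str` (it is a morphism over `Spec R`) and `isClosedImmersion_segre`.
-/

set_option autoImplicit false
universe u

open CategoryTheory CategoryTheory.Limits AlgebraicGeometry HomogeneousLocalization MvPolynomial
  TensorProduct

namespace Groth.Agent.Lib.Seat54.Segre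

open Groth.Agent.Lib.Helper27PnChart Groth.Agent.Lib.Seat63.PnConn Groth.Agent.Lib.Seat54.ProjPt

variable (n m : ℕ) (R : Type u) [CommRing R]

/-- the `R`-algebra structure of a chart ring. -/
@[instance_reducible]
noncomputable def algAx (i : Fin (n + 1)) : Algebra R (Ax n R i) := (strMap n R i).toAlgebra

attribute [local instance] algAx

/-- the standard cover of projective space. -/
noncomputable def cov : (Proj (CohB1.polyGrading n R)).OpenCover :=
  Scheme.Cover.mkOfCovers (Fin (n + 1)) (fun i => Spec (CommRingCat.of (Ax n R i)))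
    (fun i => chartι n R i)
    (fun p => by
      have hp : p ∈ (⊤ : (Proj (CohB1.polyGrading n R)).Opens) := trivial
      rw [← iSup_basicOpen_X n R, TopologicalSpace.Opens.mem_iSup] at hp
      obtain ⟨i, hi⟩ := hp
      have hr : p ∈ (chartι n R i).opensRange := by
        rw [show (chartι n R i).opensRange = Proj.basicOpen (CohB1.polyGrading n R) (X i) from
          Proj.opensRange_awayι _ _ _ _]
        exact hi
      obtain ⟨y, hy⟩ := hr
      exact ⟨i, y, hy⟩)
    (fun i => by infer_instance)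

/-- the index bijection. -/
def idx : Fin (n + 1) × Fin (m + 1) ≃ Fin (n * m + n + m + 1) :=
  finProdFinEquiv.trans (finCongr (by ring))

/-- the coordinate ring of the product chart `(i, j)`. -/
abbrev Qab (i : Fin (n + 1)) (j : Fin (m + 1)) : Type u := Ax n R i ⊗[R] Ax m R j

/-- the Segre coordinates on the chart `(i, j)`. -/
noncomputable def Zc (i : Fin (n + 1)) (j : Fin (m + 1)) (c : Fin (n * m + n + m + 1)) :
    Qab n m R i j :=
  coord n R i ((idx n m).symm c).1 ⊗ₜ[R] coord m R j ((idx n m).symm c).2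

theorem Zc_idx (i : Fin (n + 1)) (j : Fin (m + 1)) (k : Fin (n + 1)) (l : Fin (m + 1)) :
    Zc n m R i j (idx n m (k, l)) = coord n R i k ⊗ₜ[R] coord m R j l := by
  unfold Zc
  rw [Equiv.symm_apply_apply]

theorem Zc_self (i : Fin (n + 1)) (j : Fin (m + 1)) : Zc n m R i j (idx n m (i, j)) = 1 := by
  rw [Zc_idx, coord_self, coord_self]
  rfl

/-- the three morphisms out of the product chart. -/
noncomputable def p1 (i : Fin (n + 1)) (j : Fin (m + 1)) :
    Spec (CommRingCat.of (Qab n m R i j)) ⟶ Proj (CohB1.polyGrading n R) :=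
  pt n R i (algebraMap R (Qab n m R i j)) (fun c => coord n R i c ⊗ₜ[R] (1 : Ax m R j))

noncomputable def p2 (i : Fin (n + 1)) (j : Fin (m + 1)) :
    Spec (CommRingCat.of (Qab n m R i j)) ⟶ Proj (CohB1.polyGrading m R) :=
  pt m R j (algebraMap R (Qab n m R i j)) (fun d => (1 : Ax n R i) ⊗ₜ[R] coord m R j d)

noncomputable def sg (i : Fin (n + 1)) (j : Fin (m + 1)) :
    Spec (CommRingCat.of (Qab n m R i j)) ⟶ Proj (CohB1.polyGrading (n * m + n + m) R) :=
  pt (n * m + n + m) R (idx n m (i, j)) (algebraMap R (Qab n m R i j)) (Zc n m R i j)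

/-- the algebraic core of the gluing. -/
theorem sg_compat {Q' : Type u} [CommRing Q'] (i k : Fin (n + 1)) (j l : Fin (m + 1))
    (ψa : Qab n m R i j →+* Q') (ψb : Qab n m R k l →+* Q')
    (h1 : Spec.map (CommRingCat.ofHom ψa) ≫ p1 n m R i j =
      Spec.map (CommRingCat.ofHom ψb) ≫ p1 n m R k l)
    (h2 : Spec.map (CommRingCat.ofHom ψa) ≫ p2 n m R i j =
      Spec.map (CommRingCat.ofHom ψb) ≫ p2 n m R k l) :
    Spec.map (CommRingCat.ofHom ψa) ≫ sg n m R i j =
      Spec.map (CommRingCat.ofHom ψb) ≫ sg n m R k l := by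
  have e1i : coord n R i i ⊗ₜ[R] (1 : Ax m R j) = 1 := by rw [coord_self]; rfl
  have e1k : coord n R k k ⊗ₜ[R] (1 : Ax m R l) = 1 := by rw [coord_self]; rfl
  have e2j : (1 : Ax n R i) ⊗ₜ[R] coord m R j j = 1 := by rw [coord_self]; rfl
  have e2l : (1 : Ax n R k) ⊗ₜ[R] coord m R l l = 1 := by rw [coord_self]; rfl
  unfold p1 at h1
  unfold p2 at h2
  rw [pt_comp n R ψa i _ _ e1i, pt_comp n R ψb k _ _ e1k] at h1
  rw [pt_comp m R ψa j _ _ e2j, pt_comp m R ψb l _ _ e2l] at h2
  obtain ⟨hρ, hqk, hq⟩ := eq_of_pt_eq n R i k _ _ _ _ (by rw [e1i, map_one]) (by rw [e1k, map_one]) h1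
  obtain ⟨-, hrl, hr⟩ := eq_of_pt_eq m R j l _ _ _ _ (by rw [e2j, map_one]) (by rw [e2l, map_one]) h2
  unfold sg
  rw [pt_comp _ R ψa _ _ _ (Zc_self n m R i j), pt_comp _ R ψb _ _ _ (Zc_self n m R k l)]
  have hZa : ∀ c, ψa (Zc n m R i j c) =
      ψa (coord n R i ((idx n m).symm c).1 ⊗ₜ[R] (1 : Ax m R j)) *
        ψa ((1 : Ax n R i) ⊗ₜ[R] coord m R j ((idx n m).symm c).2) := by
    intro c
    rw [← map_mul, Algebra.TensorProduct.tmul_mul_tmul, mul_one, one_mul]
    rfl
  have hZb : ∀ c, ψb (Zc n m R k l c) =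
      ψb (coord n R k ((idx n m).symm c).1 ⊗ₜ[R] (1 : Ax m R l)) *
        ψb ((1 : Ax n R k) ⊗ₜ[R] coord m R l ((idx n m).symm c).2) := by
    intro c
    rw [← map_mul, Algebra.TensorProduct.tmul_mul_tmul, mul_one, one_mul]
    rfl
  rw [pt_eq_of_mul_eq_one (n * m + n + m) R (idx n m (i, j)) (idx n m (k, l)) _ _
    (by rw [Zc_self, map_one])
    (ψb (coord n R k i ⊗ₜ[R] (1 : Ax m R l)) * ψb ((1 : Ax n R k) ⊗ₜ[R] coord m R l j)) ?_]
  · rw [hρ]
    congr 1
    funext c
    rw [hZa, hZb, hq ((idx n m).symm c).1, hr ((idx n m).symm c).2]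
    ring
  · rw [hZa]
    simp only [Equiv.symm_apply_apply]
    calc _ = (ψa (coord n R i k ⊗ₜ[R] (1 : Ax m R j)) * ψb (coord n R k i ⊗ₜ[R] (1 : Ax m R l))) *
          (ψa ((1 : Ax n R i) ⊗ₜ[R] coord m R j l) * ψb ((1 : Ax n R k) ⊗ₜ[R] coord m R l j)) := by
          ring
      _ = 1 := by rw [hqk, hrl, one_mul]


/-- the product of projective spaces. -/
noncomputable abbrev XX : Scheme.{u} := pullback (str n R) (str m R)

/-- the cover by products of charts. -/
noncomputable def cover : (XX n m R).OpenCover :=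
  Scheme.Pullback.openCoverOfLeftRight (cov n R) (cov m R) (str n R) (str m R)

/-- the product chart as a scheme. -/
noncomputable abbrev UU (a : Fin (n + 1) × Fin (m + 1)) : Scheme.{u} :=
  pullback (chartι n R a.1 ≫ str n R) (chartι m R a.2 ≫ str m R)

/-- the inclusion of the product chart. -/
noncomputable abbrev uu (a : Fin (n + 1) × Fin (m + 1)) : UU n m R a ⟶ XX n m R :=
  pullback.map _ _ _ _ (chartι n R a.1) (chartι m R a.2) (𝟙 _) (Category.comp_id _)
    (Category.comp_id _)

theorem cover_f (a : Fin (n + 1) × Fin (m + 1)) : (cover n m R).f a = uu n m R a := rfl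

theorem uu_fst (a : Fin (n + 1) × Fin (m + 1)) :
    uu n m R a ≫ pullback.fst (str n R) (str m R) = pullback.fst _ _ ≫ chartι n R a.1 :=
  pullback.lift_fst _ _ _

theorem uu_snd (a : Fin (n + 1) × Fin (m + 1)) :
    uu n m R a ≫ pullback.snd (str n R) (str m R) = pullback.snd _ _ ≫ chartι m R a.2 :=
  pullback.lift_snd _ _ _

/-- the chart of the product. -/
noncomputable def eIso (a : Fin (n + 1) × Fin (m + 1)) :
    UU n m R a ≅ Spec (CommRingCat.of (Qab n m R a.1 a.2)) :=
  pullback.congrHom (chartι_str n R a.1) (chartι_str m R a.2) ≪≫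
    pullbackSpecIso R (Ax n R a.1) (Ax m R a.2)

theorem eIso_inv_fst (a : Fin (n + 1) × Fin (m + 1)) :
    (eIso n m R a).inv ≫ pullback.fst _ _ =
      Spec.map (CommRingCat.ofHom Algebra.TensorProduct.includeLeftRingHom) := by
  unfold eIso
  rw [Iso.trans_inv, Category.assoc, pullback.congrHom_inv, pullback.lift_fst, Category.comp_id]
  exact pullbackSpecIso_inv_fst R (Ax n R a.1) (Ax m R a.2)

theorem eIso_inv_snd (a : Fin (n + 1) × Fin (m + 1)) :
    (eIso n m R a).inv ≫ pullback.snd _ _ =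
      Spec.map (CommRingCat.ofHom (Algebra.TensorProduct.includeRight :
        Ax m R a.2 →ₐ[R] Qab n m R a.1 a.2).toRingHom) := by
  unfold eIso
  rw [Iso.trans_inv, Category.assoc, pullback.congrHom_inv, pullback.lift_snd, Category.comp_id]
  exact pullbackSpecIso_inv_snd R (Ax n R a.1) (Ax m R a.2)

theorem eIso_inv_p1 (a : Fin (n + 1) × Fin (m + 1)) :
    (eIso n m R a).inv ≫ pullback.fst _ _ ≫ chartι n R a.1 = p1 n m R a.1 a.2 := by
  rw [← Category.assoc, eIso_inv_fst, chartι_eq_pt, pt_comp n R _ a.1 _ _ (coord_self n R a.1)]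
  unfold p1
  congr 1

theorem eIso_inv_p2 (a : Fin (n + 1) × Fin (m + 1)) :
    (eIso n m R a).inv ≫ pullback.snd _ _ ≫ chartι m R a.2 = p2 n m R a.1 a.2 := by
  rw [← Category.assoc, eIso_inv_snd, chartι_eq_pt, pt_comp m R _ a.2 _ _ (coord_self m R a.2)]
  unfold p2
  congr 1
  ext r
  exact (Algebra.TensorProduct.includeRight :
    Ax m R a.2 →ₐ[R] Qab n m R a.1 a.2).commutes r

/-- the Segre morphism on a product chart. -/
noncomputable def σloc (a : Fin (n + 1) × Fin (m + 1)) :
    UU n m R a ⟶ Proj (CohB1.polyGrading (n * m + n + m) R) :=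
  (eIso n m R a).hom ≫ sg n m R a.1 a.2

theorem compat_aux {Q' : Type u} [CommRing Q'] (a b : Fin (n + 1) × Fin (m + 1))
    (ta : Spec (CommRingCat.of Q') ⟶ UU n m R a) (tb : Spec (CommRingCat.of Q') ⟶ UU n m R b)
    (h : ta ≫ uu n m R a = tb ≫ uu n m R b) :
    ta ≫ σloc n m R a = tb ≫ σloc n m R b := by
  let ψa : Qab n m R a.1 a.2 →+* Q' := (Spec.preimage (ta ≫ (eIso n m R a).hom)).hom
  let ψb : Qab n m R b.1 b.2 →+* Q' := (Spec.preimage (tb ≫ (eIso n m R b).hom)).hom
  have ha : Spec.map (CommRingCat.ofHom ψa) = ta ≫ (eIso n m R a).hom := Spec.map_preimage _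
  have hb : Spec.map (CommRingCat.ofHom ψb) = tb ≫ (eIso n m R b).hom := Spec.map_preimage _
  have h1 : Spec.map (CommRingCat.ofHom ψa) ≫ p1 n m R a.1 a.2 =
      Spec.map (CommRingCat.ofHom ψb) ≫ p1 n m R b.1 b.2 := by
    rw [ha, hb, ← eIso_inv_p1, ← eIso_inv_p1, Category.assoc, Category.assoc,
      Iso.hom_inv_id_assoc, Iso.hom_inv_id_assoc, ← uu_fst, ← uu_fst, reassoc_of% h]
  have h2 : Spec.map (CommRingCat.ofHom ψa) ≫ p2 n m R a.1 a.2 =
      Spec.map (CommRingCat.ofHom ψb) ≫ p2 n m R b.1 b.2 := by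
    rw [ha, hb, ← eIso_inv_p2, ← eIso_inv_p2, Category.assoc, Category.assoc,
      Iso.hom_inv_id_assoc, Iso.hom_inv_id_assoc, ← uu_snd, ← uu_snd, reassoc_of% h]
  have h3 := sg_compat n m R a.1 b.1 a.2 b.2 ψa ψb h1 h2
  rw [ha, hb, Category.assoc, Category.assoc] at h3
  exact h3

theorem compat_aux' {T : Scheme.{u}} [IsAffine T] (a b : Fin (n + 1) × Fin (m + 1))
    (ta : T ⟶ UU n m R a) (tb : T ⟶ UU n m R b)
    (h : ta ≫ uu n m R a = tb ≫ uu n m R b) :
    ta ≫ σloc n m R a = tb ≫ σloc n m R b := by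
  rw [← cancel_epi T.isoSpec.inv]
  have key := compat_aux n m R (Q' := ↑Γ(T, ⊤)) a b (T.isoSpec.inv ≫ ta) (T.isoSpec.inv ≫ tb)
    (by rw [Category.assoc, Category.assoc, h])
  rw [Category.assoc, Category.assoc] at key
  exact key

theorem compat (a b : Fin (n + 1) × Fin (m + 1)) :
    pullback.fst (uu n m R a) (uu n m R b) ≫ σloc n m R a =
      pullback.snd (uu n m R a) (uu n m R b) ≫ σloc n m R b := by
  apply (pullback (uu n m R a) (uu n m R b)).affineCover.hom_ext
  intro p
  rw [← Category.assoc, ← Category.assoc]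
  apply compat_aux'
  rw [Category.assoc, Category.assoc, pullback.condition]

/-- the Segre morphism over `Spec R`. -/
noncomputable def segre : XX n m R ⟶ Proj (CohB1.polyGrading (n * m + n + m) R) :=
  (cover n m R).glueMorphisms (fun a => σloc n m R a) (fun a b => compat n m R a b)

theorem uu_segre (a : Fin (n + 1) × Fin (m + 1)) : uu n m R a ≫ segre n m R = σloc n m R a :=
  (cover n m R).ι_glueMorphisms (fun a => σloc n m R a) (fun a b => compat n m R a b) a


instance (a : Fin (n + 1) × Fin (m + 1)) : IsOpenImmersion (uu n m R a) :=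
  (cover n m R).map_prop a

/-- the Segre morphism is a morphism over `Spec R`. -/
theorem segre_str_aux (a : Fin (n + 1) × Fin (m + 1)) :
    uu n m R a ≫ segre n m R ≫ str (n * m + n + m) R =
      uu n m R a ≫ pullback.fst (str n R) (str m R) ≫ str n R := by
  rw [← Category.assoc, uu_segre, ← Category.assoc, uu_fst, σloc, Category.assoc, sg, pt_str,
    Category.assoc, ← cancel_epi (eIso n m R a).inv, Iso.inv_hom_id_assoc,
    ← Category.assoc (eIso n m R a).inv, eIso_inv_fst, chartι_str, ← Spec.map_comp,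
    ← CommRingCat.ofHom_comp]

theorem segre_str :
    segre n m R ≫ str (n * m + n + m) R = pullback.fst (str n R) (str m R) ≫ str n R :=
  (cover n m R).hom_ext _ _ (fun a => segre_str_aux n m R a)

theorem subring_eq_top (i : Fin (n + 1)) (S : Subring (Ax n R i))
    (h1 : ∀ r, strMap n R i r ∈ S) (h2 : ∀ c, coord n R i c ∈ S) : S = ⊤ := by
  have key : ∀ p, chart n R i p ∈ S := by
    intro p
    induction p using MvPolynomial.induction_on with
    | C r => rw [chart_C]; exact h1 r
    | add p q hp hq => rw [map_add]; exact S.add_mem hp hq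
    | mul_X p c hp => rw [map_mul, chart_X]; exact S.mul_mem hp (h2 c.1)
  rw [eq_top_iff]
  intro x _
  obtain ⟨p, rfl⟩ := chart_surjective n R i x
  exact key p

theorem evAt_Zc_surjective (b : Fin (n + 1) × Fin (m + 1)) :
    Function.Surjective (evAt (n * m + n + m) R (idx n m b)
      (algebraMap R (Qab n m R b.1 b.2)) (Zc n m R b.1 b.2)) := by
  set θ := evAt (n * m + n + m) R (idx n m b)
    (algebraMap R (Qab n m R b.1 b.2)) (Zc n m R b.1 b.2) with hθ
  have hZ : ∀ c, Zc n m R b.1 b.2 c ∈ θ.range := fun c =>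
    ⟨coord _ R (idx n m b) c, evAt_coord _ R _ _ _ (Zc_self n m R b.1 b.2) c⟩
  have hR : ∀ r, algebraMap R (Qab n m R b.1 b.2) r ∈ θ.range := fun r =>
    ⟨strMap _ R (idx n m b) r, evAt_strMap _ R _ _ _ r⟩
  have hL : ∀ x : Ax n R b.1, x ⊗ₜ[R] (1 : Ax m R b.2) ∈ θ.range := by
    have htop := subring_eq_top n R b.1
      (θ.range.comap (Algebra.TensorProduct.includeLeftRingHom :
        Ax n R b.1 →+* Qab n m R b.1 b.2)) (fun r => by
          rw [Subring.mem_comap]
          exact hR r) (fun c => by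
          rw [Subring.mem_comap]
          have := hZ (idx n m (c, b.2))
          rwa [Zc_idx, coord_self] at this)
    intro x
    have hx : x ∈ θ.range.comap (Algebra.TensorProduct.includeLeftRingHom :
        Ax n R b.1 →+* Qab n m R b.1 b.2) := by rw [htop]; trivial
    exact hx
  have hRt : ∀ y : Ax m R b.2, (1 : Ax n R b.1) ⊗ₜ[R] y ∈ θ.range := by
    have htop := subring_eq_top m R b.2
      (θ.range.comap ((Algebra.TensorProduct.includeRight :
        Ax m R b.2 →ₐ[R] Qab n m R b.1 b.2).toRingHom)) (fun r => by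
          rw [Subring.mem_comap]
          have := hR r
          rwa [← (Algebra.TensorProduct.includeRight :
            Ax m R b.2 →ₐ[R] Qab n m R b.1 b.2).commutes r] at this) (fun c => by
          rw [Subring.mem_comap]
          have := hZ (idx n m (b.1, c))
          rwa [Zc_idx, coord_self] at this)
    intro y
    have hy : y ∈ θ.range.comap ((Algebra.TensorProduct.includeRight :
        Ax m R b.2 →ₐ[R] Qab n m R b.1 b.2).toRingHom) := by rw [htop]; trivial
    exact hy
  intro z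
  change z ∈ θ.range
  induction z using TensorProduct.induction_on with
  | zero => exact θ.range.zero_mem
  | tmul x y =>
    have : x ⊗ₜ[R] y = (x ⊗ₜ[R] (1 : Ax m R b.2)) * ((1 : Ax n R b.1) ⊗ₜ[R] y) := by
      rw [Algebra.TensorProduct.tmul_mul_tmul, mul_one, one_mul]
    rw [this]
    exact θ.range.mul_mem (hL x) (hRt y)
  | add x y hx hy => exact θ.range.add_mem hx hy

theorem range_chartι (i : Fin (n + 1)) :
    Set.range (chartι n R i) = (Proj.basicOpen (CohB1.polyGrading n R) (X i) : Set _) := by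
  rw [← Scheme.Hom.coe_opensRange]
  congr 1
  exact Proj.opensRange_awayι _ _ _ _

theorem segre_preimage_aux (a b : Fin (n + 1) × Fin (m + 1)) (w : UU n m R a) :
    (uu n m R a) w ∈ segre n m R ⁻¹ᵁ (chartι (n * m + n + m) R (idx n m b)).opensRange ↔
      (uu n m R a) w ∈ (uu n m R b).opensRange := by
  set t : Spec (CommRingCat.of (Qab n m R a.1 a.2)) := (eIso n m R a).hom w with ht
  let tt : PrimeSpectrum (Qab n m R a.1 a.2) := t
  -- left hand side
  have hL : (uu n m R a) w ∈ segre n m R ⁻¹ᵁ (chartι (n * m + n + m) R (idx n m b)).opensRange ↔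
      Zc n m R a.1 a.2 (idx n m b) ∉ tt.asIdeal := by
    have e1 : segre n m R ((uu n m R a) w) = sg n m R a.1 a.2 t := by
      rw [← Scheme.Hom.comp_apply, uu_segre, σloc, Scheme.Hom.comp_apply]
    have e2 : (chartι (n * m + n + m) R (idx n m b)).opensRange =
        Proj.basicOpen (CohB1.polyGrading (n * m + n + m) R) (X (idx n m b)) :=
      Proj.opensRange_awayι _ _ _ _
    rw [e2]
    change segre n m R ((uu n m R a) w) ∈
      Proj.basicOpen (CohB1.polyGrading (n * m + n + m) R) (X (idx n m b)) ↔ _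
    rw [e1]
    have e3 := pt_preimage_basicOpen (n * m + n + m) R (idx n m (a.1, a.2))
      (algebraMap R (Qab n m R a.1 a.2)) (Zc n m R a.1 a.2) (Zc_self n m R a.1 a.2) (idx n m b)
    change t ∈ sg n m R a.1 a.2 ⁻¹ᵁ
      Proj.basicOpen (CohB1.polyGrading (n * m + n + m) R) (X (idx n m b)) ↔ _
    unfold sg
    rw [e3]
    rfl
  have hR : (uu n m R a) w ∈ (uu n m R b).opensRange ↔
      coord n R a.1 b.1 ⊗ₜ[R] (1 : Ax m R a.2) ∉ tt.asIdeal ∧
      (1 : Ax n R a.1) ⊗ₜ[R] coord m R a.2 b.2 ∉ tt.asIdeal := by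
    have e1 : pullback.fst (str n R) (str m R) ((uu n m R a) w) = p1 n m R a.1 a.2 t := by
      rw [← Scheme.Hom.comp_apply, uu_fst, ← eIso_inv_p1, ht, ← Scheme.Hom.comp_apply,
        Iso.hom_inv_id_assoc]
    have e2 : pullback.snd (str n R) (str m R) ((uu n m R a) w) = p2 n m R a.1 a.2 t := by
      rw [← Scheme.Hom.comp_apply, uu_snd, ← eIso_inv_p2, ht, ← Scheme.Hom.comp_apply,
        Iso.hom_inv_id_assoc]
    rw [← SetLike.mem_coe, Scheme.Hom.coe_opensRange, Scheme.Pullback.range_map, Set.mem_inter_iff,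
      Set.mem_preimage, Set.mem_preimage, e1, e2, range_chartι, range_chartι]
    have e3 := pt_preimage_basicOpen n R a.1 (algebraMap R (Qab n m R a.1 a.2))
      (fun c => coord n R a.1 c ⊗ₜ[R] (1 : Ax m R a.2)) (by rw [coord_self]; rfl) b.1
    have e4 := pt_preimage_basicOpen m R a.2 (algebraMap R (Qab n m R a.1 a.2))
      (fun d => (1 : Ax n R a.1) ⊗ₜ[R] coord m R a.2 d) (by rw [coord_self]; rfl) b.2
    constructor
    · rintro ⟨h1, h2⟩
      refine ⟨?_, ?_⟩
      · have : t ∈ p1 n m R a.1 a.2 ⁻¹ᵁ Proj.basicOpen (CohB1.polyGrading n R) (X b.1) := h1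
        unfold p1 at this
        rw [e3] at this
        exact this
      · have : t ∈ p2 n m R a.1 a.2 ⁻¹ᵁ Proj.basicOpen (CohB1.polyGrading m R) (X b.2) := h2
        unfold p2 at this
        rw [e4] at this
        exact this
    · rintro ⟨h1, h2⟩
      refine ⟨?_, ?_⟩
      · change t ∈ p1 n m R a.1 a.2 ⁻¹ᵁ Proj.basicOpen (CohB1.polyGrading n R) (X b.1)
        unfold p1
        rw [e3]
        exact h1
      · change t ∈ p2 n m R a.1 a.2 ⁻¹ᵁ Proj.basicOpen (CohB1.polyGrading m R) (X b.2)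
        unfold p2
        rw [e4]
        exact h2
  rw [hL, hR, Zc_idx]
  have : coord n R a.1 b.1 ⊗ₜ[R] coord m R a.2 b.2 =
      (coord n R a.1 b.1 ⊗ₜ[R] (1 : Ax m R a.2)) * ((1 : Ax n R a.1) ⊗ₜ[R] coord m R a.2 b.2) := by
    rw [Algebra.TensorProduct.tmul_mul_tmul, mul_one, one_mul]
  rw [this]
  constructor
  · intro h
    exact ⟨fun h1 => h (tt.asIdeal.mul_mem_right _ h1), fun h2 => h (tt.asIdeal.mul_mem_left _ h2)⟩
  · rintro ⟨h1, h2⟩ h
    rcases tt.isPrime.mem_or_mem h with h' | h'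
    · exact h1 h'
    · exact h2 h'

theorem segre_preimage (b : Fin (n + 1) × Fin (m + 1)) :
    segre n m R ⁻¹ᵁ (chartι (n * m + n + m) R (idx n m b)).opensRange =
      (uu n m R b).opensRange := by
  ext x
  obtain ⟨a, w, rfl⟩ := (cover n m R).exists_eq x
  exact segre_preimage_aux n m R a b w

theorem isPullback_segre (b : Fin (n + 1) × Fin (m + 1)) :
    IsPullback ((eIso n m R b).hom ≫ Spec.map (CommRingCat.ofHom
        (evAt (n * m + n + m) R (idx n m b) (algebraMap R (Qab n m R b.1 b.2))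
          (Zc n m R b.1 b.2))))
      (uu n m R b) (chartι (n * m + n + m) R (idx n m b)) (segre n m R) :=
  IsOpenImmersion.isPullback _ _ _ _ (by
    rw [uu_segre, σloc, sg, pt, Category.assoc]) (segre_preimage n m R b)

theorem isClosedImmersion_snd (c : Fin (n * m + n + m + 1)) :
    IsClosedImmersion (pullback.snd (segre n m R) (chartι (n * m + n + m) R c)) := by
  obtain ⟨b, rfl⟩ := (idx n m).surjective c
  have sq := (isPullback_segre n m R b).flip
  have hsnd : pullback.snd (segre n m R) (chartι (n * m + n + m) R (idx n m b)) =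
      sq.isoPullback.inv ≫ ((eIso n m R b).hom ≫ Spec.map (CommRingCat.ofHom
        (evAt (n * m + n + m) R (idx n m b) (algebraMap R (Qab n m R b.1 b.2))
          (Zc n m R b.1 b.2)))) := by
    rw [Iso.eq_inv_comp]
    exact sq.isoPullback_hom_snd
  rw [hsnd]
  have : IsClosedImmersion (Spec.map (CommRingCat.ofHom
        (evAt (n * m + n + m) R (idx n m b) (algebraMap R (Qab n m R b.1 b.2))
          (Zc n m R b.1 b.2)))) :=
    IsClosedImmersion.spec_of_surjective _ (evAt_Zc_surjective n m R b)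
  infer_instance

/-- the Segre morphism is a closed immersion. -/
theorem isClosedImmersion_segre : IsClosedImmersion (segre n m R) :=
  IsZariskiLocalAtTarget.of_openCover (P := @IsClosedImmersion) (cov (n * m + n + m) R)
    (fun c => isClosedImmersion_snd n m R c)

end Groth.Agent.Lib.Seat54.Segre
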