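import Mathlib
import Groth.Agent.Lib.Helper2ModExact
import Groth.Agent.Lib.Helper6QCohQcqs

/-!
# Sections of `Γ_Z(F)` over an affine open (seat 58)

* `mem_range_kernel_ι_iff`: sections of the kernel of a morphism of `O_X`-modules.
* `res_eq_zero_iff_pow_smul`: for `F` quasi-coherent, `V` affine, `I` a finitely generated ideal of `Γ(X, V)`
  and an open `W ≤ V` which is the union of the `D(f)`, `f ∈ I`: a section over `V` restricts to zero on `W`
  iff it is killed by a power of `I`.
-/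

set_option autoImplicit false
universe u
open CategoryTheory Limits AlgebraicGeometry TopologicalSpace Opposite

namespace Groth.Agent.Lib.Seat58.GammaZSec

open Groth.Agent.Lib.Helper2.ModExact Groth.Agent.Lib.Helper6

variable {X : Scheme.{u}}

/-- Sections of a kernel: a section of `M` over `V` comes from the kernel of `φ` iff `φ` kills it. -/
theorem mem_range_kernel_ι_iff {M N : X.Modules} (φ : M ⟶ N) (V : X.Opens) (s : Γ(M, V)) :
    s ∈ Set.range (Scheme.Modules.Hom.app (kernel.ι φ) V) ↔ Scheme.Modules.Hom.app φ V s = 0 := by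
  constructor
  · rintro ⟨t, rfl⟩
    have h : kernel.ι φ ≫ φ = 0 := kernel.condition φ
    have h2 : Scheme.Modules.Hom.app (kernel.ι φ ≫ φ) V t = Scheme.Modules.Hom.app (0 : kernel φ ⟶ N) V t := by
      rw [h]
    rw [Scheme.Modules.Hom.comp_app, Scheme.Modules.Hom.zero_app] at h2
    exact h2
  · intro hs
    let S : ShortComplex X.Modules := ShortComplex.mk (kernel.ι φ) φ (kernel.condition φ)
    have hS : S.Exact := ShortComplex.exact_of_f_is_kernel S (kernelIsKernel φ)
    have hm : Mono S.f := inferInstanceAs (Mono (kernel.ι φ))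
    have h1 : (S.map (secFunctor V)).Exact :=
      hS.map_of_mono_of_preservesKernel (secFunctor V) hm inferInstance
    rw [ShortComplex.moduleCat_exact_iff] at h1
    obtain ⟨t₁, ht₁⟩ := h1 s hs
    exact ⟨t₁, ht₁⟩

variable (F : X.Modules)

theorem res_eq_zero_iff_pow_smul [F.IsQuasicoherent] {V : X.Opens} (hV : IsAffineOpen V)
    (I : Ideal Γ(X, V)) (hI : I.FG) (W : X.Opens) (hWV : W ≤ V)
    (hW : ∀ x : X, x ∈ V → (x ∈ W ↔ ∃ f ∈ I, x ∈ X.basicOpen f)) (s : Γ(F, V)) :
    res F hWV s = 0 ↔ ∃ n : ℕ, ∀ a ∈ I ^ n, a • s = 0 := by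
  have hDW : ∀ f ∈ I, X.basicOpen f ≤ W := by
    intro f hf x hx
    exact (hW x (X.basicOpen_le f hx)).2 ⟨f, hf, hx⟩
  constructor
  · intro hs
    have hrad : I ≤ (Ideal.torsionOf Γ(X, V) Γ(F, V) s).radical := by
      intro f hf
      have h0 : res F (X.basicOpen_le f) s = 0 := by
        rw [← res_res F hWV (hDW f hf), hs, res_zero]
      obtain ⟨n, hn⟩ := Groth.Agent.Lib.Helper2.QCoh.exists_pow_smul_eq_zero hV F f s h0
      exact ⟨n, (Ideal.mem_torsionOf_iff _ _).2 hn⟩
    obtain ⟨k, hk⟩ := Ideal.exists_pow_le_of_le_radical_of_fg hrad hI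
    exact ⟨k, fun a ha => (Ideal.mem_torsionOf_iff _ _).1 (hk ha)⟩
  · rintro ⟨n, hn⟩
    -- locality: cover `W` by the `D(f)`, `f ∈ I`
    refine (modSheaf F).eq_of_locally_eq' (fun f : I => X.basicOpen (f : Γ(X, V))) W
      (fun f => homOfLE (hDW f.1 f.2)) ?_ (res F hWV s) 0 ?_
    · intro x hx
      obtain ⟨f, hf, hxf⟩ := (hW x (hWV hx)).1 hx
      exact Opens.mem_iSup.2 ⟨⟨f, hf⟩, hxf⟩
    · rintro ⟨f, hf⟩
      change res F (hDW f hf) (res F hWV s) = res F (hDW f hf) 0
      rw [res_res, res_zero]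
      have h1 : f ^ n • s = 0 := hn _ (Ideal.pow_mem_pow hf n)
      have h2 := congrArg (res F (X.basicOpen_le f)) h1
      rw [res_smul, resf_pow, res_zero] at h2
      have hu : IsUnit (resf (X.basicOpen_le f) f) := RingedSpace.isUnit_res_basicOpen _ f
      exact ((hu.pow n).smul_eq_zero).1 h2

end Groth.Agent.Lib.Seat58.GammaZSec
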