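import Groth.Agent.Lib.Seat58TwistExact
import Groth.Agent.Lib.Seat58GammaZSec
import Groth.Agent.Lib.Seat28MVSheaf
import Groth.Prelude.Def_KoszTw

/-!
# Twisting by an invertible module is exact (seat 54)

* `shortExact_of_sections`: a short complex of `O_X`-modules is short exact if `f` is injective on sections,
  kernel sections of `g` lift locally along `f`, and `g` is locally surjective.
* `tw φ T : M ⊗ T ⟶ M' ⊗ T` (`= (DCoh.tensorRightMod T).map φ`, typed on `CohB1.tensorMod`), `tw_tm`, `tw_comp`,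
  `tw_zero`.
* `shortExact_tw`, `shortExact_twist`: for `T` invertible (`PicF.IsInvertible`) and a short exact sequence `S`
  of `O_X`-modules, `S.map (DCoh.tensorRightMod T)` is short exact.
-/

set_option autoImplicit false
universe u
open CategoryTheory CategoryTheory.Limits AlgebraicGeometry Opposite TopologicalSpace

namespace Groth.Agent.Lib.Seat54.TwistExact

open Groth.Agent.Lib.Helper23.SecTw Groth.Agent.Lib.Helper6 Groth.Agent.Lib.Seat58.TwistExact

variable {X : Scheme.{u}}

/-- a short complex of modules is short exact if it is so on sections, locally -/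
theorem shortExact_of_sections (S : ShortComplex X.Modules)
    (h1 : ∀ U : X.Opens, Function.Injective (S.f.app U))
    (h2 : ∀ (U : X.Opens) (b : Γ(S.X₂, U)), S.g.app U b = 0 → ∀ x ∈ U,
      ∃ (V : X.Opens) (hV : V ≤ U), x ∈ V ∧ ∃ a : Γ(S.X₁, V), S.f.app V a = res S.X₂ hV b)
    (h3 : ∀ (U : X.Opens) (c : Γ(S.X₃, U)) (x : X), x ∈ U →
      ∃ (V : X.Opens) (hV : V ≤ U), x ∈ V ∧ ∃ b : Γ(S.X₂, V), S.g.app V b = res S.X₃ hV c) :
    S.ShortExact := by
  have hmono : Mono S.f := Groth.Agent.Lib.Seat28.MVSheaf.mono_of_app_injective S.f h1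
  have hepi : Epi S.g := Groth.Agent.Lib.Seat28.MVSheaf.epi_of_locally_surjective S.g h3
  refine { exact := ?_, mono_f := hmono, epi_g := hepi }
  rw [S.exact_iff_epi_kernel_lift]
  refine Groth.Agent.Lib.Seat28.MVSheaf.epi_of_locally_surjective _ (fun O k x hx => ?_)
  have hk : S.g.app O ((kernel.ι S.g).app O k) = 0 :=
    (Groth.Agent.Lib.Seat58.GammaZSec.mem_range_kernel_ι_iff S.g O _).1 ⟨k, rfl⟩
  obtain ⟨V, hV, hxV, a, ha⟩ := h2 O _ hk x hx
  refine ⟨V, hV, hxV, a, ?_⟩
  have hinj : Function.Injective ((kernel.ι S.g).app V) :=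
    Groth.Agent.Lib.Helper2.ModExact.app_injective_of_mono (kernel.ι S.g) V
  apply hinj
  have e1 : (kernel.ι S.g).app V ((kernel.lift S.g S.f S.zero).app V a) = S.f.app V a := by
    have := congrArg (fun φ : S.X₁ ⟶ S.X₂ => φ.app V a) (kernel.lift_ι S.g S.f S.zero)
    exact this
  rw [e1, ha]
  exact (app_res (kernel.ι S.g) hV k).symm


/-- the morphism `φ ⊗ T`, typed on `CohB1.tensorMod` -/
noncomputable def tw {M M' : X.Modules} (φ : M ⟶ M') (T : X.Modules) :
    CohB1.tensorMod M T ⟶ CohB1.tensorMod M' T := (DCoh.tensorRightMod T).map φ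

/-- section formula for `φ ⊗ T` -/
theorem tw_tm {M M' : X.Modules} (φ : M ⟶ M') (T : X.Modules) (W : X.Opens)
    (m : Γ(M, W)) (t : Γ(T, W)) :
    (tw φ T).app W (tm M T W m t) = tm M' T W (φ.app W m) t := by
  unfold tw
  rw [KoszTw.tensorRightMod_map]
  exact KoszTw.tensorMap_tmul φ (𝟙 T) W m t

theorem tw_comp {M M' M'' : X.Modules} (φ : M ⟶ M') (ψ : M' ⟶ M'') (T : X.Modules) :
    tw (φ ≫ ψ) T = tw φ T ≫ tw ψ T := (DCoh.tensorRightMod T).map_comp φ ψ

theorem tw_zero (M M' : X.Modules) (T : X.Modules) : tw (0 : M ⟶ M') T = 0 :=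
  (DCoh.tensorRightMod T).map_zero M M'

/-- **Twisting by an invertible module is exact** (form with explicit maps). -/
theorem shortExact_tw {A B C : X.Modules} (f : A ⟶ B) (g : B ⟶ C) (w : f ≫ g = 0)
    (hS : (ShortComplex.mk f g w).ShortExact) (T : X.Modules) (hT : PicF.IsInvertible T)
    (w' : tw f T ≫ tw g T = 0) : (ShortComplex.mk (tw f T) (tw g T) w').ShortExact := by
  have hmono : Mono f := hS.mono_f
  have hepi : Epi g := hS.epi_g
  refine shortExact_of_sections _ ?_ ?_ ?_
  · -- injectivity on sections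
    intro U a b hab
    change (tw f T).app U a = (tw f T).app U b at hab
    apply eq_of_locally_eq
    intro x hx
    obtain ⟨W, e, hxW, hgen⟩ := exists_gen T hT x
    refine ⟨U ⊓ W, inf_le_left, ⟨hx, hxW⟩, ?_⟩
    obtain ⟨a', ha'⟩ := (bijective_tm_of_isGen A T W e hgen (U ⊓ W) inf_le_right).2
      (res _ inf_le_left a)
    obtain ⟨b', hb'⟩ := (bijective_tm_of_isGen A T W e hgen (U ⊓ W) inf_le_right).2
      (res _ inf_le_left b)
    have h1 : (tw f T).app (U ⊓ W) (res _ inf_le_left a) =
        (tw f T).app (U ⊓ W) (res _ inf_le_left b) := by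
      rw [app_res, app_res, hab]
    rw [← ha', ← hb'] at h1 ⊢
    simp only [tw_tm] at h1
    have h2 := (bijective_tm_of_isGen B T W e hgen (U ⊓ W) inf_le_right).1 h1
    have h3 := Groth.Agent.Lib.Helper2.ModExact.app_injective_of_mono f (U ⊓ W) h2
    simp only [h3]
  · -- exactness in the middle
    intro U b hb x hx
    change (tw g T).app U b = 0 at hb
    obtain ⟨W, e, hxW, hgen⟩ := exists_gen T hT x
    refine ⟨U ⊓ W, inf_le_left, ⟨hx, hxW⟩, ?_⟩
    obtain ⟨b', hb'⟩ := (bijective_tm_of_isGen B T W e hgen (U ⊓ W) inf_le_right).2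
      (res _ inf_le_left b)
    have h1 : (tw g T).app (U ⊓ W) (res _ inf_le_left b) = 0 := by
      rw [app_res, hb]
      exact map_zero _
    rw [← hb'] at h1
    simp only [tw_tm] at h1
    have h0 : tm C T (U ⊓ W) 0 (res T inf_le_right e) = 0 := tm_zero_left _ _ _ _
    have h2 : g.app (U ⊓ W) b' = 0 :=
      (bijective_tm_of_isGen C T W e hgen (U ⊓ W) inf_le_right).1 (h1.trans h0.symm)
    obtain ⟨a', ha'⟩ := Groth.Agent.Lib.Helper2.ModExact.exists_app_eq_of_shortExact
      (ShortComplex.mk f g w) hS (U ⊓ W) b' h2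
    refine ⟨tm A T (U ⊓ W) a' (res T inf_le_right e), ?_⟩
    change (tw f T).app (U ⊓ W) _ = _
    have ha'' : f.app (U ⊓ W) a' = b' := ha'
    rw [tw_tm, ha'']
    exact hb'
  · -- local surjectivity
    intro U c x hx
    obtain ⟨W, e, hxW, hgen⟩ := exists_gen T hT x
    obtain ⟨c', hc'⟩ := (bijective_tm_of_isGen C T W e hgen (U ⊓ W) inf_le_right).2
      (res _ inf_le_left c)
    obtain ⟨V, hV, hxV, b', hb'⟩ :=
      Groth.Agent.Lib.Helper4.ModEpi.exists_app_eq_of_epi g (U ⊓ W) c' x ⟨hx, hxW⟩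
    refine ⟨V, hV.trans inf_le_left, hxV, tm B T V b' (res T (hV.trans inf_le_right) e), ?_⟩
    change (tw g T).app V _ = _
    rw [tw_tm, hb']
    have h1 : res (CohB1.tensorMod C T) (hV.trans inf_le_left) c =
        res (CohB1.tensorMod C T) hV (res (CohB1.tensorMod C T) inf_le_left c) :=
      (res_res _ _ _ _).symm
    have h2 : (res (CohB1.tensorMod C T) (hV.trans inf_le_left) c : Γ(CohB1.tensorMod C T, V)) =
        tm C T V (res C hV c') (res T hV (res T inf_le_right e)) := by
      rw [h1, ← hc', res_tm]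
    rw [res_res] at h2
    exact h2.symm

/-- **Twisting by an invertible module is exact.** -/
theorem shortExact_twist (S : ShortComplex X.Modules) (hS : S.ShortExact) (T : X.Modules)
    (hT : PicF.IsInvertible T) : (S.map (DCoh.tensorRightMod T)).ShortExact :=
  shortExact_tw S.f S.g S.zero hS T hT (S.map (DCoh.tensorRightMod T)).zero

end Groth.Agent.Lib.Seat54.TwistExact
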