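import Groth.Agent.Lib.Seat54PnFinite
import Groth.Agent.Lib.Seat54TwistExact
import Groth.Agent.Lib.Seat54PnVanish2

/-!
# Serre vanishing on projective space over a Noetherian ring (seat 54)

* `subsingleton_right`: in a short exact sequence, `H^q(X₂) = 0` and `H^{q+1}(X₁) = 0` give `H^q(X₃) = 0`.
* `subsingleton_HH_map_sigma`: an additive functor applied to a finite coproduct has vanishing `H^q` if it has on
  each summand.
* `subsingleton_HH_twist_tensor`: `H^q(P^n, O(a) ⊗ O(m)) = 0` for `q ≥ 1`, `a + m ≥ 0`.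
* `serre_vanishing`: `B` Noetherian, `F` coherent on `P^n_B`: there is `m₀` with `H^q(P^n_B, F ⊗ O(m)) = 0` for all
  `m ≥ m₀` and all `q ≥ 1` (`serre_vanishing_aux`: one degree at a time).
-/

set_option autoImplicit false
universe u
open CategoryTheory CategoryTheory.Limits AlgebraicGeometry Abelian Opposite

namespace Groth.Agent.Lib.Seat54.SerreVanish

open Groth.Agent.Lib.Seat54.HHFinite Groth.Agent.Lib.Seat54.HHSigma Groth.Agent.Lib.Seat54.TwistExact
  Groth.Agent.Lib.Seat54.PnFinite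

attribute [local instance] Abelian.hasFiniteBiproducts

section General

variable (A : Type u) [CommRing A] {X : Scheme.{u}} [inst : X.Over (Spec (CommRingCat.of A))]

include A inst

/-- vanishing at the right-hand term of a short exact sequence -/
theorem subsingleton_right (S : ShortComplex X.Modules) (hS : S.ShortExact) (q : ℕ)
    (h₂ : Subsingleton (Coh.HH X S.X₂ q)) (h₁ : Subsingleton (Coh.HH X S.X₁ (q + 1))) :
    Subsingleton (Coh.HH X S.X₃ q) := by
  refine ⟨fun a b => ?_⟩
  have key : ∀ y : Coh.HH X S.X₃ q, y = 0 := by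
    intro y
    have hy : y ∈ LinearMap.ker (δlin A S hS q) := by
      rw [LinearMap.mem_ker]
      exact h₁.elim _ _
    rw [← range_eq_ker_right A S hS q] at hy
    obtain ⟨x, rfl⟩ := hy
    rw [h₂.elim x 0, map_zero]
  rw [key a, key b]

/-- vanishing of the cohomology of the image of a finite coproduct under an additive functor -/
theorem subsingleton_HH_map_sigma (Φ : X.Modules ⥤ X.Modules) [Φ.Additive] {r : ℕ}
    (E : Fin r → X.Modules) (q : ℕ) (h : ∀ j, Subsingleton (Coh.HH X (Φ.obj (E j)) q)) :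
    Subsingleton (Coh.HH X (Φ.obj (∐ E)) q) := by
  have hb : Subsingleton (Coh.HH X (Φ.obj (⨁ E)) q) := by
    refine ⟨fun a b => ?_⟩
    have key : ∀ x : Coh.HH X (Φ.obj (⨁ E)) q, x = 0 := by
      intro x
      have h1 : ∑ j, biproduct.π E j ≫ biproduct.ι E j = 𝟙 (⨁ E) := biproduct.total
      have h2 : ∑ j, Φ.map (biproduct.π E j) ≫ Φ.map (biproduct.ι E j) = 𝟙 (Φ.obj (⨁ E)) := by
        rw [← Φ.map_id, ← h1, Φ.map_sum]
        exact Finset.sum_congr rfl (fun j _ => (Φ.map_comp _ _).symm)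
      calc x = Canon.HHlin A (𝟙 (Φ.obj (⨁ E))) q x := (HHlin_id A _ q x).symm
        _ = Canon.HHlin A (∑ j, Φ.map (biproduct.π E j) ≫ Φ.map (biproduct.ι E j)) q x := by rw [h2]
        _ = ∑ j, Canon.HHlin A (Φ.map (biproduct.π E j) ≫ Φ.map (biproduct.ι E j)) q x :=
            HHlin_sum A _ _ q x
        _ = ∑ j, Canon.HHlin A (Φ.map (biproduct.ι E j)) q
              (Canon.HHlin A (Φ.map (biproduct.π E j)) q x) :=
            Finset.sum_congr rfl (fun j _ => HHlin_comp A _ _ q x)
        _ = 0 := Finset.sum_eq_zero (fun j _ => by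
            rw [(h j).elim (Canon.HHlin A (Φ.map (biproduct.π E j)) q x) 0, map_zero])
    rw [key a, key b]
  exact Groth.Agent.Lib.Seat54.PnVanish.subsingleton_HH_of_iso
    (Φ.mapIso (biproduct.isoCoproduct E).symm) q hb

end General

section Pn

variable (n : ℕ) (B : Type u) [CommRing B]

/-- `H^q(P^n, O(a) ⊗ O(m)) = 0` for `q ≥ 1` and `a + m ≥ 0` -/
theorem subsingleton_HH_twist_tensor (a m : ℤ) (q : ℕ) (hq : 1 ≤ q) (ham : 0 ≤ a + m) :
    Subsingleton (Coh.HH (CohB1.ProjSpace n B)
      (CohB1.tensorMod (Twist.twistProjSpace n B a) (Twist.twistProjSpace n B m)) q) := by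
  have hcov : (⨆ f : CohB1.polyGrading n B 1, Proj.basicOpen (CohB1.polyGrading n B)
      (f : MvPolynomial (Fin (n + 1)) B)) = ⊤ := by
    rw [eq_top_iff, ← Groth.Agent.Lib.Helper27PnChart.iSup_basicOpen_X n B]
    refine iSup_le fun i => ?_
    exact le_iSup (fun f : CohB1.polyGrading n B 1 => Proj.basicOpen (CohB1.polyGrading n B)
      (f : MvPolynomial (Fin (n + 1)) B)) ⟨MvPolynomial.X i, Groth.Agent.Lib.Helper27PnChart.X_mem_one n B i⟩
  obtain ⟨e⟩ := (Groth.Agent.S12453.result (CohB1.polyGrading n B) hcov).2.1 a m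
  have e' : CohB1.tensorMod (Twist.twistProjSpace n B a) (Twist.twistProjSpace n B m) ≅
      Twist.twistProjSpace n B (a + m) := e
  refine Groth.Agent.Lib.Seat54.PnVanish.subsingleton_HH_of_iso e' q ?_
  refine Groth.Agent.S0844.result B n (a + m) q (fun h => by omega) (fun h => ?_)
  have h2 := h.2
  have : (0 : ℤ) ≤ n := Int.natCast_nonneg n
  omega

variable [IsNoetherianRing B]

/-- descending induction for Serre vanishing -/
theorem serre_vanishing_aux : ∀ (k q : ℕ), n + 1 ≤ q + k → 1 ≤ q →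
    ∀ F : (CohB1.ProjSpace n B).Modules, Coh.IsCoh F →
      ∃ m₀ : ℤ, ∀ m : ℤ, m₀ ≤ m → Subsingleton (Coh.HH (CohB1.ProjSpace n B)
        (CohB1.tensorMod F (Twist.twistProjSpace n B m)) q) := by
  intro k
  induction k with
  | zero =>
    intro q hq _ F hF
    refine ⟨0, fun m _ => ?_⟩
    have : F.IsQuasicoherent := hF.1
    have : (Twist.twistProjSpace n B m).IsQuasicoherent := (isCoh_twistProjSpace n B m).1
    have : Coh.IsQCoh (CohB1.tensorMod F (Twist.twistProjSpace n B m)) :=
      Groth.Agent.Lib.Helper23.TensorQCoh.isQuasicoherent_tensorMod F _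
    exact Groth.Agent.Lib.Seat68.ProjVanish.HH_subsingleton n B (𝟙 (CohB1.ProjSpace n B)) _ q (by omega)
  | succ k ih =>
    intro q hq hq1 F hF
    obtain ⟨r, d, φ, hφ⟩ := Groth.Agent.S0846.result (CohB1.polyGrading n B) F hF
    let E : Fin r → (CohB1.ProjSpace n B).Modules := fun j => Twist.twistProjSpace n B (d j)
    have hE : Coh.IsCoh (∐ E) := isCoh_sigma E (fun j => isCoh_twistProjSpace n B (d j))
    let φ' : (∐ E) ⟶ F := φ
    have hφ' : Epi φ' := hφ
    let S : ShortComplex (CohB1.ProjSpace n B).Modules :=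
      ShortComplex.mk (kernel.ι φ') φ' (kernel.condition φ')
    have hS : S.ShortExact :=
      { exact := ShortComplex.exact_kernel φ'
        mono_f := inferInstanceAs (Mono (kernel.ι φ'))
        epi_g := hφ' }
    have hK : Coh.IsCoh (kernel φ') := (Groth.Agent.S9514.result (CohB1.ProjSpace n B) hE hF φ').1
    obtain ⟨m₁, hm₁⟩ := ih (q + 1) (by omega) (by omega) (kernel φ') hK
    -- a bound for the twists
    obtain ⟨m₂, hm₂⟩ : ∃ m₂ : ℤ, ∀ j, -(d j) ≤ m₂ := by
      refine ⟨∑ j, |d j|, fun j => ?_⟩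
      have h1 : |d j| ≤ ∑ i, |d i| :=
        Finset.single_le_sum (f := fun i => |d i|) (fun i _ => abs_nonneg (d i)) (Finset.mem_univ j)
      have h2 : -(d j) ≤ |d j| := neg_le_abs (d j)
      omega
    refine ⟨max m₁ m₂, fun m hm => ?_⟩
    have hT := isInvertible_twistProjSpace n B m
    have hSm := shortExact_twist S hS (Twist.twistProjSpace n B m) hT
    have h1 : Subsingleton (Coh.HH (CohB1.ProjSpace n B)
        (S.map (DCoh.tensorRightMod (Twist.twistProjSpace n B m))).X₁ (q + 1)) :=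
      hm₁ m (le_trans (le_max_left _ _) hm)
    have h2 : Subsingleton (Coh.HH (CohB1.ProjSpace n B)
        (S.map (DCoh.tensorRightMod (Twist.twistProjSpace n B m))).X₂ q) := by
      refine subsingleton_HH_map_sigma B (DCoh.tensorRightMod (Twist.twistProjSpace n B m)) E q
        (fun j => ?_)
      refine subsingleton_HH_twist_tensor n B (d j) m q hq1 ?_
      have := hm₂ j
      have := le_trans (le_max_right m₁ m₂) hm
      omega
    exact subsingleton_right B _ hSm q h2 h1

/-- **Serre vanishing on projective space over a Noetherian ring**, uniformly in the degree. -/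
theorem serre_vanishing (F : (CohB1.ProjSpace n B).Modules) (hF : Coh.IsCoh F) :
    ∃ m₀ : ℤ, ∀ m : ℤ, m₀ ≤ m → ∀ q : ℕ, 1 ≤ q → Subsingleton (Coh.HH (CohB1.ProjSpace n B)
      (CohB1.tensorMod F (Twist.twistProjSpace n B m)) q) := by
  choose m₀ hm₀ using fun q : Fin (n + 2) =>
    show ∃ m₀ : ℤ, ∀ m : ℤ, m₀ ≤ m → 1 ≤ (q : ℕ) → Subsingleton (Coh.HH (CohB1.ProjSpace n B)
        (CohB1.tensorMod F (Twist.twistProjSpace n B m)) q) by
      by_cases hq : 1 ≤ (q : ℕ)
      · obtain ⟨m, hm⟩ := serre_vanishing_aux n B (n + 1) q (by omega) hq F hF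
        exact ⟨m, fun m' hm' _ => hm m' hm'⟩
      · exact ⟨0, fun _ _ h => absurd h hq⟩
  refine ⟨∑ q, |m₀ q|, fun m hm q hq => ?_⟩
  by_cases hqn : q < n + 2
  · refine hm₀ ⟨q, hqn⟩ m ?_ hq
    have h1 : |m₀ ⟨q, hqn⟩| ≤ ∑ i, |m₀ i| :=
      Finset.single_le_sum (f := fun i => |m₀ i|) (fun i _ => abs_nonneg (m₀ i)) (Finset.mem_univ _)
    have h2 : m₀ ⟨q, hqn⟩ ≤ |m₀ ⟨q, hqn⟩| := le_abs_self _
    omega
  · have : F.IsQuasicoherent := hF.1
    have : (Twist.twistProjSpace n B m).IsQuasicoherent := (isCoh_twistProjSpace n B m).1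
    have : Coh.IsQCoh (CohB1.tensorMod F (Twist.twistProjSpace n B m)) :=
      Groth.Agent.Lib.Helper23.TensorQCoh.isQuasicoherent_tensorMod F _
    exact Groth.Agent.Lib.Seat68.ProjVanish.HH_subsingleton n B (𝟙 (CohB1.ProjSpace n B)) _ q (by omega)

end Pn

end Groth.Agent.Lib.Seat54.SerreVanish
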