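import Mathlib
import Groth.Prelude.Def_FlatCA
import Groth.Agent.Lib.Seat55DevBC
import Groth.Agent.Lib.Helper6ReducedSmooth

/-!
# Generic base-change lemmas for complete dévissages (seat 55)

* `smooth_of_isPushout`, `isDomain_of_isPushout_field`, `map_isPrime_of_isPushout`: for `B` smooth
  over `R` with geometrically irreducible fibres and `B' = R' ⊗ B`, the ideal `p' B'` is prime;
* `comap_map_of_isPushout`: for `B` flat over `R` and `p'` over `p`, `p' B' ∩ B = p B`;
* `bijective_iff_baseChange`, `baseChange_bijective_of_tower`,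
  `baseChange_bijective_of_isBaseChange`, `fibre_bijective`: bijectivity on the fibre at `p B`
  passes to the fibre at `p' B'`;
* `span_range_eq_top_of_isBaseChange`, `range_eq_span`, `surjective_of_isBaseChange`,
  `nonempty_coker_equiv`: images and cokernels commute with base change.
-/

set_option autoImplicit false
set_option linter.style.haveILetI false
set_option linter.unusedSectionVars false
universe u
open TensorProduct CategoryTheory AlgebraicGeometry

namespace Groth.Agent.Lib.Seat55.CDevGen

theorem smooth_of_isPushout (R R' B B' : Type u) [CommRing R] [CommRing R'] [CommRing B]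
    [CommRing B'] [Algebra R R'] [Algebra R B] [Algebra R' B'] [Algebra R B'] [Algebra B B']
    [IsScalarTower R R' B'] [IsScalarTower R B B'] [Algebra.IsPushout R R' B B']
    [Algebra.Smooth R B] : Algebra.Smooth R' B' :=
  Algebra.Smooth.of_equiv (Algebra.IsPushout.equiv R R' B B')

theorem isDomain_of_isPushout_field (R B K D' : Type u) [CommRing R] [CommRing B] [Field K]
    [CommRing D'] [Algebra R K] [Algebra R B] [Algebra K D'] [Algebra R D'] [Algebra B D']
    [IsScalarTower R K D'] [IsScalarTower R B D'] [Algebra.IsPushout R K B D']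
    [Algebra.Smooth R B] (h : FlatCA.GeomIrredFibres R B) :
    IsDomain D' := by
  have hp := Groth.Agent.Lib.Seat55.DevBC.isPullback_Spec (R := R) (R' := K) (D := B) (D' := D')
  have hirr : IrreducibleSpace (Spec (CommRingCat.of D')) :=
    h.geometrically_irreducibleSpace (Spec.map (CommRingCat.ofHom (algebraMap R K))) _ _ hp
  have hirr' : IrreducibleSpace (PrimeSpectrum D') := hirr
  haveI : Algebra.Smooth K D' := smooth_of_isPushout R K B D'
  haveI : IsReduced D' := Groth.Agent.Lib.Helper6.isReduced_of_smooth K D'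
  rw [PrimeSpectrum.irreducibleSpace_iff_isPrime_nilradical, nilradical_eq_zero] at hirr'
  haveI : (⊥ : Ideal D').IsPrime := hirr'
  exact IsDomain.of_bot_isPrime D'

attribute [local instance] Algebra.TensorProduct.rightAlgebra in
/-- `p' B'` is prime when `B' = R' ⊗ B` with `B` smooth over `R` with geometrically irreducible
fibres. -/
theorem map_isPrime_of_isPushout (R R' B B' : Type u) [CommRing R] [CommRing R'] [CommRing B]
    [CommRing B'] [Algebra R R'] [Algebra R B] [Algebra R' B'] [Algebra R B'] [Algebra B B']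
    [IsScalarTower R R' B'] [IsScalarTower R B B'] [Algebra.IsPushout R R' B B']
    [Algebra.Smooth R B] (h : FlatCA.GeomIrredFibres R B) (p' : Ideal R') [p'.IsPrime] :
    (p'.map (algebraMap R' B')).IsPrime := by
  haveI : Algebra.Smooth R' B' := smooth_of_isPushout R R' B B'
  have h' : FlatCA.GeomIrredFibres R' B' :=
    Groth.Agent.Lib.Seat55.DevBC.geomIrredFibres_of_isPushout (R := R) (D := B) h
  let K := p'.ResidueField
  haveI : IsDomain (K ⊗[R'] B') := isDomain_of_isPushout_field R' B' K (K ⊗[R'] B') h'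
  let φ : B' →+* K ⊗[R'] B' := (Algebra.TensorProduct.includeRight : B' →ₐ[R'] K ⊗[R'] B').toRingHom
  suffices hk : p'.map (algebraMap R' B') = RingHom.ker φ by
    rw [hk]; exact RingHom.ker_isPrime φ
  -- injectivity of `(R'/p') ⊗ B' → K ⊗ B'`
  let ι : (R' ⧸ p') →ₗ[R'] K := (Algebra.linearMap (R' ⧸ p') K).restrictScalars R'
  have hι : Function.Injective ι := IsFractionRing.injective (R' ⧸ p') K
  have hinj : Function.Injective (ι.rTensor B') :=
    Module.Flat.rTensor_preserves_injective_linearMap ι hι
  ext b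
  rw [RingHom.mem_ker]
  change _ ↔ (1 : K) ⊗ₜ[R'] b = 0
  have h1 : (1 : K) ⊗ₜ[R'] b = ι.rTensor B' ((1 : R' ⧸ p') ⊗ₜ[R'] b) := by
    rw [LinearMap.rTensor_tmul]; congr 1
    exact (map_one (algebraMap (R' ⧸ p') K)).symm
  rw [h1, ← map_zero (ι.rTensor B'), hinj.eq_iff]
  rw [← (TensorProduct.quotTensorEquivQuotSMul B' p').map_eq_zero_iff]
  rw [show (1 : R' ⧸ p') = Ideal.Quotient.mk p' 1 from rfl,
    TensorProduct.quotTensorEquivQuotSMul_mk_tmul, one_smul, Submodule.Quotient.mk_eq_zero,
    Ideal.smul_top_eq_map]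
  rfl

/-- for `B` flat over `R` and `p'` over `p`, the prime `p' B'` of `B' = R' ⊗ B` contracts to
`p B`. -/
theorem comap_map_of_isPushout (R R' B B' : Type u) [CommRing R] [CommRing R'] [CommRing B]
    [CommRing B'] [Algebra R R'] [Algebra R B] [Algebra R' B'] [Algebra R B'] [Algebra B B']
    [IsScalarTower R R' B'] [IsScalarTower R B B'] [Algebra.IsPushout R R' B B']
    [Module.Flat R B] (p : Ideal R) (p' : Ideal R') [hpp : p'.LiesOver p] :
    (p'.map (algebraMap R' B')).comap (algebraMap B B') = p.map (algebraMap R B) := by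
  apply le_antisymm
  · intro x hx
    rw [Ideal.mem_comap] at hx
    haveI : Algebra.IsPushout R B R' B' := Algebra.IsPushout.symm inferInstance
    -- step 1: `algebraMap x ⊗ 1 = 0` in `B' ⊗ R'/p'`
    have h1 : (algebraMap B B' x) ⊗ₜ[R'] (1 : R' ⧸ p') = 0 := by
      rw [← (TensorProduct.tensorQuotEquivQuotSMul B' p').map_eq_zero_iff,
        show (1 : R' ⧸ p') = Ideal.Quotient.mk p' 1 from rfl,
        TensorProduct.tensorQuotEquivQuotSMul_tmul_mk, one_smul, Submodule.Quotient.mk_eq_zero,
        Ideal.smul_top_eq_map]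
      exact hx
    -- step 2: `x ⊗ 1 = 0` in `B ⊗[R] R'/p'`
    have h2 : x ⊗ₜ[R] (1 : R' ⧸ p') = 0 := by
      rw [← (Algebra.IsPushout.cancelBaseChange R B R' B' (R' ⧸ p')).symm.map_eq_zero_iff,
        Algebra.IsPushout.cancelBaseChange_symm_tmul]
      exact h1
    -- step 3: injectivity of `B ⊗ R/p → B ⊗ R'/p'`
    let ι : (R ⧸ p) →ₗ[R] (R' ⧸ p') := (Algebra.linearMap (R ⧸ p) (R' ⧸ p')).restrictScalars R
    have hι : Function.Injective ι := FaithfulSMul.algebraMap_injective (R ⧸ p) (R' ⧸ p')
    have hinj : Function.Injective (ι.lTensor B) :=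
      Module.Flat.lTensor_preserves_injective_linearMap ι hι
    have h3 : x ⊗ₜ[R] (1 : R ⧸ p) = 0 := by
      apply hinj
      rw [map_zero, LinearMap.lTensor_tmul]
      rw [show ι 1 = 1 from map_one (algebraMap (R ⧸ p) (R' ⧸ p'))]
      exact h2
    rw [← (TensorProduct.tensorQuotEquivQuotSMul B p).map_eq_zero_iff,
      show (1 : R ⧸ p) = Ideal.Quotient.mk p 1 from rfl,
      TensorProduct.tensorQuotEquivQuotSMul_tmul_mk, one_smul, Submodule.Quotient.mk_eq_zero,
      Ideal.smul_top_eq_map] at h3
    exact h3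
  · rw [Ideal.map_le_iff_le_comap]
    intro r hr
    rw [Ideal.mem_comap, Ideal.mem_comap, ← IsScalarTower.algebraMap_apply,
      IsScalarTower.algebraMap_apply R R' B']
    apply Ideal.mem_map_of_mem
    rw [hpp.over] at hr
    exact hr

section BCgen

variable {B K' F M F₁ M₁ : Type*} [CommRing B] [CommRing K'] [Algebra B K']
  [AddCommGroup F] [AddCommGroup M] [AddCommGroup F₁] [AddCommGroup M₁]
  [Module B F] [Module B M] [Module K' F₁] [Module K' M₁] [Module B F₁] [Module B M₁]
  [IsScalarTower B K' F₁] [IsScalarTower B K' M₁]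

/-- a map between two base changes that is compatible with `α` is "the" base change of `α`. -/
theorem bijective_iff_baseChange (α : F →ₗ[B] M) (φF : F →ₗ[B] F₁) (φM : M →ₗ[B] M₁)
    (hF : IsBaseChange K' φF) (hM : IsBaseChange K' φM) (β : F₁ →ₗ[K'] M₁)
    (hβ : ∀ x, β (φF x) = φM (α x)) :
    Function.Bijective β ↔ Function.Bijective (α.baseChange K') := by
  have key : β ∘ₗ hF.equiv.toLinearMap = hM.equiv.toLinearMap ∘ₗ α.baseChange K' := by
    apply TensorProduct.AlgebraTensorModule.ext
    intro k f
    simp only [LinearMap.comp_apply, LinearEquiv.coe_coe, IsBaseChange.equiv_tmul,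
      LinearMap.baseChange_tmul, map_smul, hβ]
  have key' : ∀ x, β (hF.equiv x) = hM.equiv (α.baseChange K' x) := fun x =>
    LinearMap.congr_fun key x
  constructor
  · intro h
    have : ⇑(α.baseChange K') = hM.equiv.symm ∘ β ∘ hF.equiv := by
      funext x
      simp only [Function.comp_apply, key', LinearEquiv.symm_apply_apply]
    rw [this]
    exact hM.equiv.symm.bijective.comp (h.comp hF.equiv.bijective)
  · intro h
    have : ⇑β = hM.equiv ∘ (α.baseChange K') ∘ hF.equiv.symm := by
      funext x
      simp only [Function.comp_apply, ← key', LinearEquiv.apply_symm_apply]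
    rw [this]
    exact hM.equiv.bijective.comp (h.comp hF.equiv.symm.bijective)

end BCgen

section BCapp

variable {B K K' F M : Type*} [CommRing B] [CommRing K] [CommRing K'] [Algebra B K] [Algebra B K']
  [Algebra K K'] [IsScalarTower B K K']
  [AddCommGroup F] [AddCommGroup M] [Module B F] [Module B M]

theorem baseChange_bijective_of_tower (α : F →ₗ[B] M)
    (h : Function.Bijective (α.baseChange K)) : Function.Bijective (α.baseChange K') := by
  have hF : IsBaseChange K' (((TensorProduct.mk K K' (K ⊗[B] F) 1).restrictScalars B).comp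
      (TensorProduct.mk B K F 1)) :=
    IsBaseChange.comp (TensorProduct.isBaseChange B F K) (TensorProduct.isBaseChange K (K ⊗[B] F) K')
  have hM : IsBaseChange K' (((TensorProduct.mk K K' (K ⊗[B] M) 1).restrictScalars B).comp
      (TensorProduct.mk B K M 1)) :=
    IsBaseChange.comp (TensorProduct.isBaseChange B M K) (TensorProduct.isBaseChange K (K ⊗[B] M) K')
  refine (bijective_iff_baseChange α _ _ hF hM ((α.baseChange K).baseChange K') ?_).1 ?_
  · intro x
    simp
  · let e : K ⊗[B] F ≃ₗ[K] K ⊗[B] M := LinearEquiv.ofBijective _ h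
    have : (α.baseChange K).baseChange K' = (e.baseChange K K' _ _).toLinearMap := by
      apply TensorProduct.AlgebraTensorModule.ext
      intro k f
      simp [e]
    rw [this]
    exact (e.baseChange K K' _ _).bijective

end BCapp

section BCapp2

variable {B B' K' F M F' M' : Type*} [CommRing B] [CommRing B'] [CommRing K'] [Algebra B B']
  [Algebra B' K'] [Algebra B K'] [IsScalarTower B B' K']
  [AddCommGroup F] [AddCommGroup M] [Module B F] [Module B M]
  [AddCommGroup F'] [AddCommGroup M'] [Module B' F'] [Module B' M'] [Module B F'] [Module B M']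
  [IsScalarTower B B' F'] [IsScalarTower B B' M']

theorem baseChange_bijective_of_isBaseChange (α : F →ₗ[B] M) (gF : F →ₗ[B] F') (gM : M →ₗ[B] M')
    (hgF : IsBaseChange B' gF) (hgM : IsBaseChange B' gM) (α' : F' →ₗ[B'] M')
    (hα' : ∀ x, α' (gF x) = gM (α x))
    (h : Function.Bijective (α.baseChange K')) : Function.Bijective (α'.baseChange K') := by
  have hF : IsBaseChange K' (((TensorProduct.mk B' K' F' 1).restrictScalars B).comp gF) :=
    IsBaseChange.comp hgF (TensorProduct.isBaseChange B' F' K')
  have hM : IsBaseChange K' (((TensorProduct.mk B' K' M' 1).restrictScalars B).comp gM) :=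
    IsBaseChange.comp hgM (TensorProduct.isBaseChange B' M' K')
  refine (bijective_iff_baseChange α _ _ hF hM (α'.baseChange K') ?_).2 h
  intro x
  simp [hα']

end BCapp2

section Fibre

variable (R R' B B' : Type u) [CommRing R] [CommRing R'] [CommRing B]
    [CommRing B'] [Algebra R R'] [Algebra R B] [Algebra R' B'] [Algebra R B'] [Algebra B B']
    [IsScalarTower R R' B'] [IsScalarTower R B B'] [Algebra.IsPushout R R' B B']
    [Module.Flat R B] (p : Ideal R) (p' : Ideal R') [hpp : p'.LiesOver p]
    [hP : (p.map (algebraMap R B)).IsPrime] [hP' : (p'.map (algebraMap R' B')).IsPrime]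
    {F M F' M' : Type*}
  [AddCommGroup F] [AddCommGroup M] [Module B F] [Module B M]
  [AddCommGroup F'] [AddCommGroup M'] [Module B' F'] [Module B' M'] [Module B F'] [Module B M']
  [IsScalarTower B B' F'] [IsScalarTower B B' M']

theorem fibre_bijective (α : F →ₗ[B] M) (gF : F →ₗ[B] F') (gM : M →ₗ[B] M')
    (hgF : IsBaseChange B' gF) (hgM : IsBaseChange B' gM) (α' : F' →ₗ[B'] M')
    (hα' : ∀ x, α' (gF x) = gM (α x))
    (h : Function.Bijective (α.baseChange (p.map (algebraMap R B)).ResidueField)) :
    Function.Bijective (α'.baseChange (p'.map (algebraMap R' B')).ResidueField) := by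
  have hc : p.map (algebraMap R B) = (p'.map (algebraMap R' B')).comap (algebraMap B B') :=
    (comap_map_of_isPushout R R' B B' p p').symm
  let ψ : (p.map (algebraMap R B)).ResidueField →+* (p'.map (algebraMap R' B')).ResidueField :=
    Ideal.ResidueField.map _ _ (algebraMap B B') hc
  letI : Algebra (p.map (algebraMap R B)).ResidueField (p'.map (algebraMap R' B')).ResidueField :=
    ψ.toAlgebra
  letI : Algebra B (p'.map (algebraMap R' B')).ResidueField :=
    ((algebraMap B' (p'.map (algebraMap R' B')).ResidueField).comp (algebraMap B B')).toAlgebra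
  haveI : IsScalarTower B B' (p'.map (algebraMap R' B')).ResidueField :=
    IsScalarTower.of_algebraMap_eq' rfl
  haveI : IsScalarTower B (p.map (algebraMap R B)).ResidueField
      (p'.map (algebraMap R' B')).ResidueField :=
    IsScalarTower.of_algebraMap_eq fun x =>
      (Ideal.ResidueField.map_algebraMap _ _ (algebraMap B B') hc x).symm
  have h1 := baseChange_bijective_of_tower (K := (p.map (algebraMap R B)).ResidueField)
    (K' := (p'.map (algebraMap R' B')).ResidueField) α h
  exact baseChange_bijective_of_isBaseChange (K' := (p'.map (algebraMap R' B')).ResidueField)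
    α gF gM hgF hgM α' hα' h1

end Fibre

section Range

variable {B B' F M F' M' : Type*} [CommRing B] [CommRing B'] [Algebra B B']
  [AddCommGroup F] [AddCommGroup M] [Module B F] [Module B M]
  [AddCommGroup F'] [AddCommGroup M'] [Module B' F'] [Module B' M'] [Module B F'] [Module B M']
  [IsScalarTower B B' F'] [IsScalarTower B B' M']

theorem span_range_eq_top_of_isBaseChange (gF : F →ₗ[B] F') (hgF : IsBaseChange B' gF) :
    Submodule.span B' (Set.range gF) = ⊤ := by
  rw [eq_top_iff]
  rintro x -
  induction x using hgF.inductionOn with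
  | zero => exact Submodule.zero_mem _
  | tmul m => exact Submodule.subset_span ⟨m, rfl⟩
  | smul s n hn => exact Submodule.smul_mem _ s hn
  | add n₁ n₂ h₁ h₂ => exact Submodule.add_mem _ h₁ h₂

theorem range_eq_span (α : F →ₗ[B] M) (gF : F →ₗ[B] F') (gM : M →ₗ[B] M')
    (hgF : IsBaseChange B' gF) (α' : F' →ₗ[B'] M') (hα' : ∀ x, α' (gF x) = gM (α x)) :
    LinearMap.range α' = Submodule.span B' (gM '' (LinearMap.range α : Set M)) := by
  rw [LinearMap.range_eq_map, ← span_range_eq_top_of_isBaseChange gF hgF, Submodule.map_span]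
  congr 1
  ext y
  constructor
  · rintro ⟨_, ⟨x, rfl⟩, rfl⟩
    exact ⟨α x, ⟨x, rfl⟩, (hα' x).symm⟩
  · rintro ⟨_, ⟨x, rfl⟩, rfl⟩
    exact ⟨gF x, ⟨x, rfl⟩, hα' x⟩

theorem surjective_of_isBaseChange (α : F →ₗ[B] M) (gF : F →ₗ[B] F') (gM : M →ₗ[B] M')
    (hgF : IsBaseChange B' gF) (hgM : IsBaseChange B' gM) (α' : F' →ₗ[B'] M')
    (hα' : ∀ x, α' (gF x) = gM (α x)) (h : Function.Surjective α) : Function.Surjective α' := by
  rw [← LinearMap.range_eq_top, range_eq_span α gF gM hgF α' hα', LinearMap.range_eq_top.2 h,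
    Submodule.top_coe, Set.image_univ]
  exact span_range_eq_top_of_isBaseChange gM hgM

end Range

section Coker

variable {B B' F M F' M' M₁ M₁' : Type*} [CommRing B] [CommRing B'] [Algebra B B']
  [AddCommGroup F] [AddCommGroup M] [Module B F] [Module B M]
  [AddCommGroup F'] [AddCommGroup M'] [Module B' F'] [Module B' M'] [Module B F'] [Module B M']
  [IsScalarTower B B' F'] [IsScalarTower B B' M']
  [AddCommGroup M₁] [Module B M₁] [AddCommGroup M₁'] [Module B' M₁'] [Module B M₁']
  [IsScalarTower B B' M₁']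

theorem nonempty_coker_equiv (α : F →ₗ[B] M) (gF : F →ₗ[B] F') (gM : M →ₗ[B] M')
    (hgF : IsBaseChange B' gF) (hgM : IsBaseChange B' gM) (α' : F' →ₗ[B'] M')
    (hα' : ∀ x, α' (gF x) = gM (α x))
    (e : (M ⧸ LinearMap.range α) ≃ₗ[B] M₁) (g₁ : M₁ →ₗ[B] M₁') (hg₁ : IsBaseChange B' g₁) :
    Nonempty ((M' ⧸ LinearMap.range α') ≃ₗ[B'] M₁') := by
  let q' : M' →ₗ[B'] M' ⧸ LinearMap.range α' := (LinearMap.range α').mkQ
  let k : M →ₗ[B] M' ⧸ LinearMap.range α' := (q'.restrictScalars B).comp gM
  have hk : LinearMap.range α ≤ LinearMap.ker k := by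
    rintro _ ⟨x, rfl⟩
    rw [LinearMap.mem_ker]
    change q' (gM (α x)) = 0
    rw [← hα']
    exact (Submodule.Quotient.mk_eq_zero _).2 ⟨gF x, rfl⟩
  let h₃ : M₁ →ₗ[B] M' ⧸ LinearMap.range α' :=
    ((LinearMap.range α).liftQ k hk).comp e.symm.toLinearMap
  let g : M →ₗ[B] M₁ := e.toLinearMap.comp (LinearMap.range α).mkQ
  have hb : IsBaseChange B' h₃ := by
    refine IsBaseChange.of_right_exact B' gF gM h₃ (f := α) (g := g) (f' := α') (g' := q')
      ?_ ?_ hgF hgM ?_ ?_ ?_ ?_
    · ext x
      exact (hα' x).symm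
    · ext x
      simp [h₃, g, k]
    · intro y
      simp only [g, LinearMap.comp_apply, LinearEquiv.coe_coe,
        EmbeddingLike.map_eq_zero_iff, Submodule.mkQ_apply, Submodule.Quotient.mk_eq_zero]
      rfl
    · exact e.surjective.comp (Submodule.mkQ_surjective _)
    · exact LinearMap.exact_map_mkQ_range α'
    · exact Submodule.mkQ_surjective _
  exact ⟨hb.equiv.symm ≪≫ₗ hg₁.equiv⟩

end Coker

end Groth.Agent.Lib.Seat55.CDevGen
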