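import Mathlib
import Groth.Prelude.Def_FlatCA
import Groth.Agent.Lib.Seat55DevAtBC

/-!
# Base change of a complete dévissage at a point, trivial residue field extension (seat 55)

* `primeOver p p' hκ P`: for a pushout `S' = R' ⊗ S` and `κ(p) ≃ κ(p')`, the unique prime of `S'`
  over `p'` and over the prime `P` of `S` (`comap_primeOver`, `primeOver_comap_base`);
* `comap_eq_of_comap_eq`, `unique_over`: contractions of such primes along compatible maps;
* `isBaseChange_of_isPushout`: a base change along `A → B' ⊗_B A` is a base change along `B → B'`;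
* `primeOver_liesOver_primeOver`, `primeOver_unique`, `locDim_step`: one step of the dévissage;
* `main`: S12244.
-/

set_option autoImplicit false
set_option linter.style.haveILetI false
set_option linter.unusedSectionVars false
set_option linter.unusedVariables false
universe u
open TensorProduct

namespace Groth.Agent.Lib.Seat55.DevAtBC2

open Groth.Agent.Lib.Seat55.DevBC Groth.Agent.Lib.Seat55.DevAtBC

section PrimeOver

variable {R R' S S' : Type u} [CommRing R] [CommRing R'] [CommRing S] [CommRing S']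
  [Algebra R R'] [Algebra R S] [Algebra R' S'] [Algebra R S'] [Algebra S S']
  [IsScalarTower R R' S'] [IsScalarTower R S S'] [Algebra.IsPushout R R' S S']
  (p : Ideal R) [p.IsPrime] (p' : Ideal R') [p'.IsPrime] [hp' : p'.LiesOver p]
  (hκ : Function.Bijective (Ideal.ResidueField.mapₐ p p' (Algebra.ofId R R') hp'.over))

theorem comap_fiberEquiv (x' : PrimeSpectrum (p'.Fiber S')) :
    ((PrimeSpectrum.comap ((fiberEquiv (S := S) (S' := S') p p' hκ : p.Fiber S ≃+* p'.Fiber S') :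
        p.Fiber S →+* p'.Fiber S')) x').asIdeal.comap
        (Algebra.TensorProduct.includeRight (R := R) (A := p.ResidueField) (B := S)).toRingHom =
      (x'.asIdeal.comap (Algebra.TensorProduct.includeRight (R := R') (A := p'.ResidueField)
        (B := S')).toRingHom).comap (algebraMap S S') := by
  ext s
  simp only [Ideal.mem_comap, PrimeSpectrum.comap_asIdeal]
  change fiberEquiv (S := S) (S' := S') p p' hκ ((1 : p.ResidueField) ⊗ₜ[R] s) ∈ x'.asIdeal ↔ _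
  rw [fiberEquiv_tmul, map_one]
  rfl

/-- the point of the fibre ring of `S'` over `p'` corresponding to a prime `P` of `S` over `p`. -/
noncomputable def fiberPtOver (P : Ideal S) [P.IsPrime] [P.LiesOver p] :
    PrimeSpectrum (p'.Fiber S') :=
  PrimeSpectrum.comap ((fiberEquiv (S := S) (S' := S') p p' hκ).symm :
    p'.Fiber S' →+* p.Fiber S) (fiberPt p P)

/-- the unique prime of `S'` over `p'` and over the prime `P` of `S`. -/
noncomputable def primeOver (P : Ideal S) [P.IsPrime] [P.LiesOver p] : Ideal S' :=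
  (fiberPtOver (S' := S') p p' hκ P).asIdeal.comap
    (Algebra.TensorProduct.includeRight (R := R') (A := p'.ResidueField) (B := S')).toRingHom

instance primeOver_isPrime (P : Ideal S) [P.IsPrime] [P.LiesOver p] :
    (primeOver (S' := S') p p' hκ P).IsPrime := by
  unfold primeOver
  infer_instance

theorem comap_primeOver (P : Ideal S) [P.IsPrime] [P.LiesOver p] :
    (primeOver (S' := S') p p' hκ P).comap (algebraMap S S') = P := by
  unfold primeOver
  rw [← comap_fiberEquiv p p' hκ]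
  have : PrimeSpectrum.comap ((fiberEquiv (S := S) (S' := S') p p' hκ : p.Fiber S ≃+* p'.Fiber S') :
        p.Fiber S →+* p'.Fiber S') (fiberPtOver (S' := S') p p' hκ P) = fiberPt p P := by
    unfold fiberPtOver
    rw [← PrimeSpectrum.comap_comp_apply]
    have : ((fiberEquiv (S := S) (S' := S') p p' hκ).symm : p'.Fiber S' →+* p.Fiber S).comp
        ((fiberEquiv (S := S) (S' := S') p p' hκ : p.Fiber S ≃+* p'.Fiber S') :
          p.Fiber S →+* p'.Fiber S') = RingHom.id _ :=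
      RingHom.ext fun x => by simp
    rw [this, PrimeSpectrum.comap_id]
  rw [this]
  exact comap_fiberPt p P

theorem primeOver_comap_base (P : Ideal S) [P.IsPrime] [P.LiesOver p] :
    (primeOver (S' := S') p p' hκ P).comap (algebraMap R' S') = p' := by
  unfold primeOver
  rw [Ideal.comap_comap]
  have h1 : (Algebra.TensorProduct.includeRight (R := R') (A := p'.ResidueField)
      (B := S')).toRingHom.comp (algebraMap R' S') = algebraMap R' (p'.Fiber S') := by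
    ext r
    simp
  rw [h1]
  have : (fiberPtOver (S' := S') p p' hκ P).asIdeal.LiesOver p' := inferInstance
  exact this.over.symm

instance primeOver_liesOver (P : Ideal S) [P.IsPrime] [P.LiesOver p] :
    (primeOver (S' := S') p p' hκ P).LiesOver P := ⟨(comap_primeOver p p' hκ P).symm⟩

instance primeOver_liesOver_base (P : Ideal S) [P.IsPrime] [P.LiesOver p] :
    (primeOver (S' := S') p p' hκ P).LiesOver p' := ⟨(primeOver_comap_base p p' hκ P).symm⟩

end PrimeOver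


section G

variable {R R' S S' C C' : Type u} [CommRing R] [CommRing R'] [CommRing S] [CommRing S']
  [CommRing C] [CommRing C']
  [Algebra R R'] [Algebra R S] [Algebra R' S'] [Algebra R S'] [Algebra S S']
  [IsScalarTower R R' S'] [IsScalarTower R S S'] [Algebra.IsPushout R R' S S']
  [Algebra S C] [Algebra C C'] [Algebra S C'] [Algebra S' C'] [Algebra R' C']
  [IsScalarTower S C C'] [IsScalarTower S S' C'] [IsScalarTower R' S' C']
  (p : Ideal R) [p.IsPrime] (p' : Ideal R') [p'.IsPrime] [hp' : p'.LiesOver p]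
  (hκ : Function.Bijective (Ideal.ResidueField.mapₐ p p' (Algebra.ofId R R') hp'.over))

include hκ in
/-- contraction of a prime of `C'` to `S'` is determined by its contraction to `S`. -/
theorem comap_eq_of_comap_eq (Z' : Ideal C') [Z'.IsPrime] (Z : Ideal C)
    (hZ : Z'.comap (algebraMap C C') = Z) (hZp : Z'.comap (algebraMap R' C') = p')
    (Q' : Ideal S') [Q'.IsPrime] (hQp : Q'.comap (algebraMap R' S') = p')
    (hQ : Q'.comap (algebraMap S S') = Z.comap (algebraMap S C)) :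
    Z'.comap (algebraMap S' C') = Q' := by
  refine eq_of_comap_eq (S := S) p p' hκ.2 (Z'.comap (algebraMap S' C')) Q' ?_ hQp ?_
  · rw [Ideal.comap_comap, ← IsScalarTower.algebraMap_eq]
    exact hZp
  · rw [Ideal.comap_comap, ← IsScalarTower.algebraMap_eq, IsScalarTower.algebraMap_eq S C C',
      ← Ideal.comap_comap, hZ, hQ]

end G

section Uq

variable {R R' D D' C C' : Type u} [CommRing R] [CommRing R'] [CommRing D] [CommRing D']
  [CommRing C] [CommRing C']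
  [Algebra R R'] [Algebra R C] [Algebra R' C'] [Algebra R C'] [Algebra C C']
  [IsScalarTower R R' C'] [IsScalarTower R C C'] [Algebra.IsPushout R R' C C']
  [Algebra D C] [Algebra D D'] [Algebra D C'] [Algebra D' C'] [Algebra R' D']
  [IsScalarTower D C C'] [IsScalarTower D D' C'] [IsScalarTower R' D' C']
  (p : Ideal R) [p.IsPrime] (p' : Ideal R') [p'.IsPrime] [hp' : p'.LiesOver p]
  (hκ : Function.Bijective (Ideal.ResidueField.mapₐ p p' (Algebra.ofId R R') hp'.over))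

include hκ in
theorem unique_over (y : Ideal D) (y' : Ideal D') (hy'y : y'.comap (algebraMap D D') = y)
    (hy'p' : y'.comap (algebraMap R' D') = p')
    (z : Ideal C) (h3 : ∀ (z₁ : Ideal C) [z₁.IsPrime], z₁.LiesOver y → z₁ = z)
    (z' : Ideal C') [z'.IsPrime] (hz'z : z'.comap (algebraMap C C') = z)
    (hz'p' : z'.comap (algebraMap R' C') = p')
    (z₁ : Ideal C') [z₁.IsPrime] (hz₁ : z₁.LiesOver y') : z₁ = z' := by
  have hz₁R' : z₁.comap (algebraMap R' C') = p' := by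
    rw [IsScalarTower.algebraMap_eq R' D' C', ← Ideal.comap_comap]
    rw [show Ideal.comap (algebraMap D' C') z₁ = y' from hz₁.over.symm]
    exact hy'p'
  have hw : (z₁.comap (algebraMap C C')).LiesOver y := by
    constructor
    change y = Ideal.comap (algebraMap D C) (Ideal.comap (algebraMap C C') z₁)
    rw [Ideal.comap_comap, ← IsScalarTower.algebraMap_eq, IsScalarTower.algebraMap_eq D D' C',
      ← Ideal.comap_comap]
    rw [show Ideal.comap (algebraMap D' C') z₁ = y' from hz₁.over.symm]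
    exact hy'y.symm
  have hwz := h3 (z₁.comap (algebraMap C C')) hw
  refine eq_of_comap_eq (S := C) p p' hκ.2 z₁ z' hz₁R' hz'p' ?_
  rw [hwz, hz'z]

end Uq

section BC

variable {B B' A A' M M' : Type*} [CommRing B] [CommRing B'] [CommRing A] [CommRing A']
  [Algebra B B'] [Algebra B A] [Algebra B' A'] [Algebra B A'] [Algebra A A']
  [IsScalarTower B B' A'] [IsScalarTower B A A'] [Algebra.IsPushout B B' A A']
  [AddCommGroup M] [Module A M] [Module B M] [IsScalarTower B A M]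
  [AddCommGroup M'] [Module A' M'] [Module B' M'] [IsScalarTower B' A' M'] [Module A M']
  [IsScalarTower A A' M'] [Module B M'] [IsScalarTower B B' M']

/-- a base change along `A → A' = B' ⊗_B A` is a base change along `B → B'`. -/
theorem isBaseChange_of_isPushout (g : M →ₗ[A] M') (hg : IsBaseChange A' g)
    (g' : M →ₗ[B] M') (hgg' : ∀ m, g' m = g m) : IsBaseChange B' g' := by
  let e : B' ⊗[B] M ≃ₗ[B'] M' :=
    (Algebra.IsPushout.cancelBaseChange B B' A A' M).symm ≪≫ₗ hg.equiv.restrictScalars B'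
  refine IsBaseChange.of_equiv e fun m => ?_
  change hg.equiv ((Algebra.IsPushout.cancelBaseChange B B' A A' M).symm ((1 : B') ⊗ₜ[B] m)) = _
  rw [Algebra.IsPushout.cancelBaseChange_symm_tmul, map_one, IsBaseChange.equiv_tmul, one_smul,
    hgg']

end BC


section Step

variable {R R' B B' A A' : Type u} [CommRing R] [CommRing R'] [CommRing B] [CommRing B']
  [CommRing A] [CommRing A']
  [Algebra R R'] [Algebra R B] [Algebra R' B'] [Algebra R B'] [Algebra B B']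
  [IsScalarTower R R' B'] [IsScalarTower R B B'] [Algebra.IsPushout R R' B B']
  [Algebra R A] [Algebra R' A'] [Algebra R A'] [Algebra A A']
  [IsScalarTower R R' A'] [IsScalarTower R A A'] [Algebra.IsPushout R R' A A']
  [Algebra B A] [IsScalarTower R B A] [Algebra B' A'] [IsScalarTower R' B' A']
  [Algebra B A'] [IsScalarTower B B' A'] [IsScalarTower B A A']
  (p : Ideal R) [p.IsPrime] (p' : Ideal R') [p'.IsPrime] [hp' : p'.LiesOver p]
  (hκ : Function.Bijective (Ideal.ResidueField.mapₐ p p' (Algebra.ofId R R') hp'.over))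
  (qB : Ideal B) [qB.IsPrime] [hqB : qB.LiesOver p] (qA : Ideal A) [qA.IsPrime] [hqA : qA.LiesOver p]
  [hAB : qA.LiesOver qB]

theorem primeOver_liesOver_primeOver :
    (primeOver (S' := A') p p' hκ qA).LiesOver (primeOver (S' := B') p p' hκ qB) := by
  constructor
  refine (comap_eq_of_comap_eq (S := B) (S' := B') (C := A) (C' := A') p p' hκ
    (primeOver (S' := A') p p' hκ qA) qA (comap_primeOver p p' hκ qA)
    (primeOver_comap_base p p' hκ qA) (primeOver (S' := B') p p' hκ qB)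
    (primeOver_comap_base p p' hκ qB) ?_).symm
  rw [comap_primeOver]
  exact hAB.over

theorem primeOver_unique (h3 : ∀ (Q : Ideal A) [Q.IsPrime], Q.LiesOver qB → Q = qA)
    (Q : Ideal A') [Q.IsPrime] (hQ : Q.LiesOver (primeOver (S' := B') p p' hκ qB)) :
    Q = primeOver (S' := A') p p' hκ qA :=
  unique_over (D := B) (D' := B') (C := A) (C' := A') p p' hκ qB
    (primeOver (S' := B') p p' hκ qB) (comap_primeOver p p' hκ qB)
    (primeOver_comap_base p p' hκ qB) qA h3 (primeOver (S' := A') p p' hκ qA)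
    (comap_primeOver p p' hκ qA) (primeOver_comap_base p p' hκ qA) Q hQ

variable {M M' : Type u} [AddCommGroup M] [Module A M] [Module B M] [IsScalarTower B A M]
  [Module R M] [IsScalarTower R B M]
  [AddCommGroup M'] [Module A' M'] [Module B' M'] [IsScalarTower B' A' M'] [Module A M']
  [IsScalarTower A A' M'] [Module R' M'] [IsScalarTower R' B' M']

theorem locDim_step [Module.Finite B A] [Module.Finite A M]
    (g : M →ₗ[A] M') (hg : IsBaseChange A' g) (d : ℕ)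
    (h1 : ∃ (x : PrimeSpectrum (p.Fiber B)) (hx : x ∈ Module.support (p.Fiber B) (FlatCA.fiberMod p B M)),
      x.asIdeal = FlatCA.fiberIdeal p qB ∧
      FlatMor.localDim (Module.support (p.Fiber B) (FlatCA.fiberMod p B M)) ⟨x, hx⟩ = d) :
    ∃ (x : PrimeSpectrum (p'.Fiber B')) (hx : x ∈ Module.support (p'.Fiber B') (FlatCA.fiberMod p' B' M')),
      x.asIdeal = FlatCA.fiberIdeal p' (primeOver (S' := B') p p' hκ qB) ∧
      FlatMor.localDim (Module.support (p'.Fiber B') (FlatCA.fiberMod p' B' M')) ⟨x, hx⟩ = d := by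
  haveI : Module.Finite B M := Module.Finite.trans A M
  haveI : Algebra.IsPushout B B' A A' := isPushout_right (R := R) (R' := R')
  letI mBM' : Module B M' := Module.compHom M' (algebraMap B B')
  haveI tBB'M' : IsScalarTower B B' M' := IsScalarTower.of_algebraMap_smul fun _ _ => rfl
  let g' : M →ₗ[B] M' :=
    { toFun := g
      map_add' := g.map_add
      map_smul' := fun b m => by
        have h1 : b • m = algebraMap B A b • m := (algebraMap_smul A b m).symm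
        have h2 : (b • g m : M') = algebraMap B B' b • g m := rfl
        rw [RingHom.id_apply, h1, g.map_smul, h2, ← algebraMap_smul A' (algebraMap B B' b) (g m),
          ← algebraMap_smul A' (algebraMap B A b) (g m), ← IsScalarTower.algebraMap_apply,
          ← IsScalarTower.algebraMap_apply] }
  have hg' : IsBaseChange B' g' := isBaseChange_of_isPushout g hg g' (fun _ => rfl)
  exact localDim_fiber_baseChange R B M p qB d h1 R' p' hκ B' M' g' hg'
    (primeOver (S' := B') p p' hκ qB)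

end Step


theorem main
    (R S : Type u) [CommRing R] [CommRing S] [Algebra R S] [Algebra.FiniteType R S]
    (N : Type u) [AddCommGroup N] [Module S N] [Module.Finite S N]
    (p : Ideal R) [p.IsPrime] (q : Ideal S) [q.IsPrime] (𝒟 : FlatCA.CompleteDevissage R S N p)
    (𝒜 : FlatCA.CompleteDevissageAt R S N p q 𝒟)
    (R' : Type u) [CommRing R'] [Algebra R R'] (p' : Ideal R') [p'.IsPrime] [hp' : p'.LiesOver p]
    (hκ : Function.Bijective (Ideal.ResidueField.mapₐ p p' (Algebra.ofId R R') hp'.over))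
    (S' : Type u) [CommRing S'] [Algebra R' S'] [Algebra R S'] [Algebra S S'] [IsScalarTower R R' S']
    [IsScalarTower R S S'] [Algebra.IsPushout R R' S S']
    (N' : Type u) [AddCommGroup N'] [Module S' N'] [Module S N'] [IsScalarTower S S' N']
    (f : N →ₗ[S] N') (hf : IsBaseChange S' f)
    (q' : Ideal S') [q'.IsPrime] [hq'q : q'.LiesOver q] [hq'p' : q'.LiesOver p']
    (𝒟' : FlatCA.CompleteDevissage R' S' N' p') (hn : 𝒟'.n = 𝒟.n)
    (htail : ∀ i, 𝒟.n ≤ i → ∃ (Q : Ideal (𝒟'.B i)) (P : Ideal (𝒟'.A i)),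
      Q.IsPrime ∧ P.IsPrime ∧ Q.LiesOver p' ∧ P.LiesOver Q)
    [aA : ∀ i : Fin 𝒟.n, Algebra (𝒟.A i) (𝒟'.A i)] [rA : ∀ i : Fin 𝒟.n, Algebra R (𝒟'.A i)]
      [t1 : ∀ i : Fin 𝒟.n, IsScalarTower R (R') (𝒟'.A i)] [t2 : ∀ i : Fin 𝒟.n, IsScalarTower R (𝒟.A i) (𝒟'.A i)]
      [aB : ∀ i : Fin 𝒟.n, Algebra (𝒟.B i) (𝒟'.B i)] [rB : ∀ i : Fin 𝒟.n, Algebra R (𝒟'.B i)]
      [t3 : ∀ i : Fin 𝒟.n, IsScalarTower R (R') (𝒟'.B i)] [t4 : ∀ i : Fin 𝒟.n, IsScalarTower R (𝒟.B i) (𝒟'.B i)]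
      [bA : ∀ i : Fin 𝒟.n, Algebra (𝒟.B i) (𝒟'.A i)] [t5 : ∀ i : Fin 𝒟.n, IsScalarTower (𝒟.B i) (𝒟.A i) (𝒟'.A i)]
      [t6 : ∀ i : Fin 𝒟.n, IsScalarTower (𝒟.B i) (𝒟'.B i) (𝒟'.A i)]
      [bA' : ∀ i : Fin 𝒟.n, Algebra (𝒟.B i) (𝒟'.A (i + 1))]
      [t7 : ∀ i : Fin 𝒟.n, IsScalarTower (𝒟.B i) (𝒟'.B i) (𝒟'.A (i + 1))]
      [sA : Algebra S (𝒟'.A 0)] [t8 : IsScalarTower S (S') (𝒟'.A 0)]
      [mA : ∀ i : Fin 𝒟.n, Module (𝒟.A i) (𝒟'.M i)] [t9 : ∀ i : Fin 𝒟.n, IsScalarTower (𝒟.A i) (𝒟'.A i) (𝒟'.M i)]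
      (gM : ∀ i : Fin 𝒟.n, 𝒟.M i →ₗ[𝒟.A i] 𝒟'.M i)
    (hbc : (letI := aA ⟨0, 𝒟.pos⟩; IsScalarTower S (𝒟.A 0) (𝒟'.A 0)) ∧
      (∀ x : N, 𝒟'.isoN (f x) = gM ⟨0, 𝒟.pos⟩ (𝒟.isoN x)) ∧
      (∀ (i : Fin 𝒟.n) (h : (i : ℕ) + 1 < 𝒟.n),
        letI := aA ⟨i + 1, h⟩; IsScalarTower (𝒟.B i) (𝒟.A (i + 1)) (𝒟'.A (i + 1))) ∧
      ∀ i : Fin 𝒟.n,
        Algebra.IsPushout R R' (𝒟.A i) (𝒟'.A i) ∧ Algebra.IsPushout R R' (𝒟.B i) (𝒟'.B i) ∧
        IsBaseChange (𝒟'.A i) (gM i)) :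
    ∃ 𝒜' : FlatCA.CompleteDevissageAt R' S' N' p' q' 𝒟', 𝒜'.d = 𝒜.d ∧
      ∀ i : Fin 𝒟.n, (𝒜'.qB i).LiesOver (𝒜.qB i) ∧ (𝒜'.qA i).LiesOver (𝒜.qA i) := by
  classical
  obtain ⟨hSA0, hiso, hBA1, hstep⟩ := hbc
  have hBpush : ∀ i : Fin 𝒟.n, Algebra.IsPushout R R' (𝒟.B i) (𝒟'.B i) := fun i => (hstep i).2.1
  have hApush : ∀ i : Fin 𝒟.n, Algebra.IsPushout R R' (𝒟.A i) (𝒟'.A i) := fun i => (hstep i).1
  have hgM : ∀ i : Fin 𝒟.n, IsBaseChange (𝒟'.A i) (gM i) := fun i => (hstep i).2.2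
  -- instances for the given datum
  haveI hqBprime : ∀ i, (𝒜.qB i).IsPrime := 𝒜.hqB
  haveI hqAprime : ∀ i, (𝒜.qA i).IsPrime := 𝒜.hqA
  haveI hqBover : ∀ i, (𝒜.qB i).LiesOver p := 𝒜.overB
  haveI hqAoverB : ∀ i, (𝒜.qA i).LiesOver (𝒜.qB i) := 𝒜.overA
  haveI hqAover : ∀ i, (𝒜.qA i).LiesOver p := fun i => Ideal.LiesOver.trans (𝒜.qA i) (𝒜.qB i) p
  -- the primes below the length
  let qB₀ : ∀ i : Fin 𝒟.n, Ideal (𝒟'.B i) := fun i =>
    haveI := hBpush i
    primeOver (S' := 𝒟'.B i) p p' hκ (𝒜.qB i)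
  let qA₀ : ∀ i : Fin 𝒟.n, Ideal (𝒟'.A i) := fun i =>
    haveI := hApush i
    primeOver (S' := 𝒟'.A i) p p' hκ (𝒜.qA i)
  have hB₀prime : ∀ j, (qB₀ j).IsPrime := fun j =>
    haveI := hBpush j
    primeOver_isPrime p p' hκ (𝒜.qB j)
  have hA₀prime : ∀ j, (qA₀ j).IsPrime := fun j =>
    haveI := hApush j
    primeOver_isPrime p p' hκ (𝒜.qA j)
  have hB₀over : ∀ j, (qB₀ j).LiesOver p' := fun j =>
    haveI := hBpush j
    primeOver_liesOver_base p p' hκ (𝒜.qB j)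
  have hB₀overq : ∀ j, (qB₀ j).LiesOver (𝒜.qB j) := fun j =>
    haveI := hBpush j
    primeOver_liesOver p p' hκ (𝒜.qB j)
  have hA₀overq : ∀ j, (qA₀ j).LiesOver (𝒜.qA j) := fun j =>
    haveI := hApush j
    primeOver_liesOver p p' hκ (𝒜.qA j)
  have hA₀over : ∀ j, (qA₀ j).LiesOver (qB₀ j) := fun j =>
    haveI := hBpush j
    haveI := hApush j
    primeOver_liesOver_primeOver (B := 𝒟.B j) (B' := 𝒟'.B j) (A := 𝒟.A j) (A' := 𝒟'.A j)
      p p' hκ (𝒜.qB j) (𝒜.qA j)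
  have hpt₀ : ∀ j : Fin 𝒟.n, @FlatCA.PurelyTranscendental R' (𝒟'.B j) _ _ _ p' (qB₀ j) _
      (hB₀prime j) (hB₀over j) := fun j =>
    haveI := hBpush j
    purelyTranscendental_baseChange (R := R) (R' := R') (D := 𝒟.B j) (D' := 𝒟'.B j)
      p p' (𝒜.qB j) (primeOver (S' := 𝒟'.B j) p p' hκ (𝒜.qB j)) hκ (𝒜.pureTrans j j.2)
  have huniq₀ : ∀ (j : Fin 𝒟.n) (Q : Ideal (𝒟'.A j)) [Q.IsPrime], Q.LiesOver (qB₀ j) →
      Q = qA₀ j := fun j Q _ hQ =>
    haveI := hBpush j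
    haveI := hApush j
    primeOver_unique (B := 𝒟.B j) (B' := 𝒟'.B j) (A := 𝒟.A j) (A' := 𝒟'.A j)
      p p' hκ (𝒜.qB j) (𝒜.qA j) (fun Q' _ hQ' => 𝒜.uniq j j.2 Q' hQ') Q hQ
  have hrel₀ : ∀ j : Fin 𝒟.n, FlatCA.SmoothRelDim (𝒜.d j) R' (𝒟'.B j) := fun j =>
    haveI := hBpush j
    smoothRelDim_of_isPushout (R := R) (R' := R') (D := 𝒟.B j) (D' := 𝒟'.B j) (𝒜.d j)
      (𝒜.relDim j j.2)
  have hloc₀ : ∀ j : Fin 𝒟.n, ∃ (x : PrimeSpectrum (p'.Fiber (𝒟'.B j)))
      (hx : x ∈ Module.support (p'.Fiber (𝒟'.B j)) (FlatCA.fiberMod p' (𝒟'.B j) (𝒟'.M j))),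
      x.asIdeal = @FlatCA.fiberIdeal R' _ p' _ (𝒟'.B j) _ _ (qB₀ j) ∧
      FlatMor.localDim (Module.support (p'.Fiber (𝒟'.B j)) (FlatCA.fiberMod p' (𝒟'.B j) (𝒟'.M j)))
        ⟨x, hx⟩ = 𝒜.d j := fun j =>
    haveI := hBpush j
    haveI := hApush j
    haveI : Module.Finite (𝒟.B j) (𝒟.A j) := 𝒟.finiteBA j j.2
    haveI : Module.Finite (𝒟.A j) (𝒟.M j) := 𝒟.finiteM j j.2
    locDim_step (B := 𝒟.B j) (B' := 𝒟'.B j) (A := 𝒟.A j) (A' := 𝒟'.A j)
      (M := 𝒟.M j) (M' := 𝒟'.M j) p p' hκ (𝒜.qB j) (gM j) (hgM j) (𝒜.d j) (𝒜.locDim j j.2)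
  let qB' : ∀ i : ℕ, Ideal (𝒟'.B i) := fun i =>
    if h : i < 𝒟.n then qB₀ ⟨i, h⟩ else (htail i (not_lt.1 h)).choose
  let qA' : ∀ i : ℕ, Ideal (𝒟'.A i) := fun i =>
    if h : i < 𝒟.n then qA₀ ⟨i, h⟩ else (htail i (not_lt.1 h)).choose_spec.choose
  have hqB'pos : ∀ (i : ℕ) (h : i < 𝒟.n), qB' i = qB₀ ⟨i, h⟩ := fun i h => dif_pos h
  have hqA'pos : ∀ (i : ℕ) (h : i < 𝒟.n), qA' i = qA₀ ⟨i, h⟩ := fun i h => dif_pos h
  have hqB'neg : ∀ (i : ℕ) (h : ¬ i < 𝒟.n), qB' i = (htail i (not_lt.1 h)).choose :=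
    fun i h => dif_neg h
  have hqA'neg : ∀ (i : ℕ) (h : ¬ i < 𝒟.n), qA' i = (htail i (not_lt.1 h)).choose_spec.choose :=
    fun i h => dif_neg h
  have hB'prime : ∀ i, (qB' i).IsPrime := by
    intro i
    by_cases h : i < 𝒟.n
    · rw [hqB'pos i h]; exact hB₀prime ⟨i, h⟩
    · rw [hqB'neg i h]
      exact (htail i (not_lt.1 h)).choose_spec.choose_spec.1
  have hA'prime : ∀ i, (qA' i).IsPrime := by
    intro i
    by_cases h : i < 𝒟.n
    · rw [hqA'pos i h]; exact hA₀prime ⟨i, h⟩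
    · rw [hqA'neg i h]
      exact (htail i (not_lt.1 h)).choose_spec.choose_spec.2.1
  have hB'over : ∀ i, (qB' i).LiesOver p' := by
    intro i
    by_cases h : i < 𝒟.n
    · rw [hqB'pos i h]; exact hB₀over ⟨i, h⟩
    · rw [hqB'neg i h]
      exact (htail i (not_lt.1 h)).choose_spec.choose_spec.2.2.1
  have hA'over : ∀ i, (qA' i).LiesOver (qB' i) := by
    intro i
    by_cases h : i < 𝒟.n
    · rw [hqB'pos i h, hqA'pos i h]; exact hA₀over ⟨i, h⟩
    · rw [hqB'neg i h, hqA'neg i h]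
      exact (htail i (not_lt.1 h)).choose_spec.choose_spec.2.2.2
  refine ⟨{ qB := qB', qA := qA', hqB := hB'prime, hqA := hA'prime, overB := hB'over,
            overA := hA'over, pureTrans := ?_, uniq := ?_, q0 := ?_, qStep := ?_, d := 𝒜.d,
            relDim := ?_, locDim := ?_ }, rfl, ?_⟩
  · -- purely transcendental
    intro i hi
    have h : i < 𝒟.n := hn ▸ hi
    have key := hpt₀ ⟨i, h⟩
    convert key using 2
    exact hqB'pos i h
  · -- uniqueness
    intro i hi Q _ hQ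
    have h : i < 𝒟.n := hn ▸ hi
    rw [hqA'pos i h]
    rw [hqB'pos i h] at hQ
    exact huniq₀ ⟨i, h⟩ Q hQ
  · -- `q0`
    have h0 : 0 < 𝒟.n := 𝒟.pos
    rw [hqA'pos 0 h0]
    letI : Algebra R (𝒟'.A 0) := rA ⟨0, h0⟩
    letI : Algebra (𝒟.A 0) (𝒟'.A 0) := aA ⟨0, h0⟩
    haveI : IsScalarTower R R' (𝒟'.A 0) := t1 ⟨0, h0⟩
    haveI : IsScalarTower R (𝒟.A 0) (𝒟'.A 0) := t2 ⟨0, h0⟩
    haveI : Algebra.IsPushout R R' (𝒟.A 0) (𝒟'.A 0) := hApush ⟨0, h0⟩
    haveI : IsScalarTower S (𝒟.A 0) (𝒟'.A 0) := hSA0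
    refine comap_eq_of_comap_eq (S := S) (S' := S') (C := 𝒟.A 0) (C' := 𝒟'.A 0) p p' hκ
      (primeOver (S' := 𝒟'.A 0) p p' hκ (𝒜.qA 0)) (𝒜.qA 0)
      (comap_primeOver (S := 𝒟.A 0) (S' := 𝒟'.A 0) p p' hκ (𝒜.qA 0))
      (primeOver_comap_base (S := 𝒟.A 0) (S' := 𝒟'.A 0) p p' hκ (𝒜.qA 0)) q'
      hq'p'.over.symm ?_
    rw [𝒜.q0]
    exact hq'q.over.symm
  · -- `qStep`
    intro i hi
    have h1 : i + 1 < 𝒟.n := hn ▸ hi
    have h : i < 𝒟.n := Nat.lt_of_succ_lt h1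
    rw [hqA'pos (i + 1) h1, hqB'pos i h]
    letI : Algebra R (𝒟'.B i) := rB ⟨i, h⟩
    letI : Algebra (𝒟.B i) (𝒟'.B i) := aB ⟨i, h⟩
    haveI : IsScalarTower R R' (𝒟'.B i) := t3 ⟨i, h⟩
    haveI : IsScalarTower R (𝒟.B i) (𝒟'.B i) := t4 ⟨i, h⟩
    haveI : Algebra.IsPushout R R' (𝒟.B i) (𝒟'.B i) := hBpush ⟨i, h⟩
    letI : Algebra R (𝒟'.A (i + 1)) := rA ⟨i + 1, h1⟩
    letI : Algebra (𝒟.A (i + 1)) (𝒟'.A (i + 1)) := aA ⟨i + 1, h1⟩
    haveI : IsScalarTower R R' (𝒟'.A (i + 1)) := t1 ⟨i + 1, h1⟩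
    haveI : IsScalarTower R (𝒟.A (i + 1)) (𝒟'.A (i + 1)) := t2 ⟨i + 1, h1⟩
    haveI : Algebra.IsPushout R R' (𝒟.A (i + 1)) (𝒟'.A (i + 1)) := hApush ⟨i + 1, h1⟩
    letI : Algebra (𝒟.B i) (𝒟'.A (i + 1)) := bA' ⟨i, h⟩
    haveI : IsScalarTower (𝒟.B i) (𝒟'.B i) (𝒟'.A (i + 1)) := t7 ⟨i, h⟩
    haveI : IsScalarTower (𝒟.B i) (𝒟.A (i + 1)) (𝒟'.A (i + 1)) := hBA1 ⟨i, h⟩ h1
    refine comap_eq_of_comap_eq (S := 𝒟.B i) (S' := 𝒟'.B i) (C := 𝒟.A (i + 1))
      (C' := 𝒟'.A (i + 1)) p p' hκ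
      (primeOver (S' := 𝒟'.A (i + 1)) p p' hκ (𝒜.qA (i + 1))) (𝒜.qA (i + 1))
      (comap_primeOver (S := 𝒟.A (i + 1)) (S' := 𝒟'.A (i + 1)) p p' hκ (𝒜.qA (i + 1)))
      (primeOver_comap_base (S := 𝒟.A (i + 1)) (S' := 𝒟'.A (i + 1)) p p' hκ (𝒜.qA (i + 1)))
      (primeOver (S' := 𝒟'.B i) p p' hκ (𝒜.qB i))
      (primeOver_comap_base (S := 𝒟.B i) (S' := 𝒟'.B i) p p' hκ (𝒜.qB i)) ?_
    rw [comap_primeOver (S := 𝒟.B i) (S' := 𝒟'.B i), 𝒜.qStep i h1]
  · -- relative dimension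
    intro i hi
    have h : i < 𝒟.n := hn ▸ hi
    exact hrel₀ ⟨i, h⟩
  · -- local dimension
    intro i hi
    have h : i < 𝒟.n := hn ▸ hi
    have key := hloc₀ ⟨i, h⟩
    rw [hqB'pos i h]
    exact key
  · -- the primes lie over the given ones
    intro i
    constructor
    · change (qB' i).LiesOver (𝒜.qB i)
      rw [hqB'pos i i.2]
      exact hB₀overq i
    · change (qA' i).LiesOver (𝒜.qA i)
      rw [hqA'pos i i.2]
      exact hA₀overq i


end Groth.Agent.Lib.Seat55.DevAtBC2
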