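import Mathlib
import Groth.Prelude.Def_FlatCA
import Groth.Agent.Lib.Seat55DevBC
import Groth.Agent.Lib.Seat55DevAtBC2
import Groth.Agent.Lib.Seat55CDevGen

/-!
# Base change of a complete dévissage (seat 55)

Given a complete dévissage `𝒟` of `N/S/R` over `p` and `R → R'`, `p'` over `p`, we construct the
base-changed complete dévissage of `N'/S'/R'` over `p'`:

* `A'`, `M'`, `Bt` (sealed tensor products `A i ⊗ R'`, `A' i ⊗_{A i} M i`, `B i ⊗ R'`) with their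
  algebra / module / scalar-tower / pushout instances;
* `gM`, `gF`, `gMB`, `gM1B`, `αt`: the base change maps and the base-changed `α`;
* `BPkg`, `good`, `triv`, `bpkg`: the per-index package (only indices `< n` are base changes; the
  others are filled with `R'` so that `p' B'` stays prime);
* `descSA`, `algS'A`, `modS'M`, `isoN'`: the `S'`-structures at index `0`;
* `mkD`: the base-changed dévissage; `main`: the statement S12243.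
-/

set_option autoImplicit false
set_option linter.unusedVariables false
set_option linter.style.haveILetI false
set_option linter.unusedSectionVars false
universe u
open TensorProduct

namespace Groth.Agent.Lib.Seat55.CDev

/-- a module over the top of a tower of algebras is a tower of modules. -/
theorem tower_of_towers (X Y Z M : Type*) [CommSemiring X] [CommSemiring Y] [CommSemiring Z]
    [Algebra X Y] [Algebra Y Z] [Algebra X Z] [IsScalarTower X Y Z] [AddCommMonoid M]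
    [Module Z M] [Module X M] [Module Y M] [IsScalarTower X Z M] [IsScalarTower Y Z M] :
    IsScalarTower X Y M := by
  constructor
  intro x y m
  rw [← algebraMap_smul Z (x • y) m, ← algebraMap_smul Z x (y • m), ← algebraMap_smul Z y m,
    Algebra.smul_def, map_mul, ← IsScalarTower.algebraMap_apply, mul_smul]

section Sealed

variable {R S : Type u} [CommRing R] [CommRing S] [Algebra R S] {N : Type u} [AddCommGroup N]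
  [Module S N] {p : Ideal R} [p.IsPrime] (𝒟 : FlatCA.CompleteDevissage R S N p)
  (R' : Type u) [CommRing R'] [Algebra R R']

/-- the base-changed rings `A i ⊗ R'`. -/
def A' (i : ℕ) : Type u := 𝒟.A i ⊗[R] R'

noncomputable instance (i : ℕ) : CommRing (A' 𝒟 R' i) := inferInstanceAs (CommRing (𝒟.A i ⊗[R] R'))

noncomputable instance algRA (i : ℕ) : Algebra R' (A' 𝒟 R' i) :=
  (Algebra.TensorProduct.rightAlgebra : Algebra R' (𝒟.A i ⊗[R] R'))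

noncomputable instance algAA (i : ℕ) : Algebra (𝒟.A i) (A' 𝒟 R' i) :=
  inferInstanceAs (Algebra (𝒟.A i) (𝒟.A i ⊗[R] R'))

noncomputable instance algR (i : ℕ) : Algebra R (A' 𝒟 R' i) :=
  inferInstanceAs (Algebra R (𝒟.A i ⊗[R] R'))

instance (i : ℕ) : IsScalarTower R (𝒟.A i) (A' 𝒟 R' i) :=
  inferInstanceAs (IsScalarTower R (𝒟.A i) (𝒟.A i ⊗[R] R'))

attribute [local instance] Algebra.TensorProduct.rightAlgebra in
instance (i : ℕ) : IsScalarTower R R' (A' 𝒟 R' i) :=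
  inferInstanceAs (IsScalarTower R R' (𝒟.A i ⊗[R] R'))

attribute [local instance] Algebra.TensorProduct.rightAlgebra in
instance (i : ℕ) : Algebra.IsPushout R R' (𝒟.A i) (A' 𝒟 R' i) :=
  inferInstanceAs (Algebra.IsPushout R R' (𝒟.A i) (𝒟.A i ⊗[R] R'))

noncomputable instance algBA (i : ℕ) : Algebra (𝒟.B i) (A' 𝒟 R' i) :=
  inferInstanceAs (Algebra (𝒟.B i) (𝒟.A i ⊗[R] R'))

instance (i : ℕ) : IsScalarTower (𝒟.B i) (𝒟.A i) (A' 𝒟 R' i) :=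
  inferInstanceAs (IsScalarTower (𝒟.B i) (𝒟.A i) (𝒟.A i ⊗[R] R'))

noncomputable instance algBA1 (i : ℕ) : Algebra (𝒟.B i) (A' 𝒟 R' (i + 1)) :=
  inferInstanceAs (Algebra (𝒟.B i) (𝒟.A (i + 1) ⊗[R] R'))

instance (i : ℕ) : IsScalarTower (𝒟.B i) (𝒟.A (i + 1)) (A' 𝒟 R' (i + 1)) :=
  inferInstanceAs (IsScalarTower (𝒟.B i) (𝒟.A (i + 1)) (𝒟.A (i + 1) ⊗[R] R'))

noncomputable instance algSA : Algebra S (A' 𝒟 R' 0) :=
  inferInstanceAs (Algebra S (𝒟.A 0 ⊗[R] R'))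

instance : IsScalarTower S (𝒟.A 0) (A' 𝒟 R' 0) :=
  inferInstanceAs (IsScalarTower S (𝒟.A 0) (𝒟.A 0 ⊗[R] R'))

/-- the base-changed modules. -/
def M' (i : ℕ) : Type u := A' 𝒟 R' i ⊗[𝒟.A i] 𝒟.M i

noncomputable instance (i : ℕ) : AddCommGroup (M' 𝒟 R' i) :=
  inferInstanceAs (AddCommGroup (A' 𝒟 R' i ⊗[𝒟.A i] 𝒟.M i))

noncomputable instance modAM (i : ℕ) : Module (A' 𝒟 R' i) (M' 𝒟 R' i) :=
  inferInstanceAs (Module (A' 𝒟 R' i) (A' 𝒟 R' i ⊗[𝒟.A i] 𝒟.M i))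

noncomputable instance modAM0 (i : ℕ) : Module (𝒟.A i) (M' 𝒟 R' i) :=
  inferInstanceAs (Module (𝒟.A i) (A' 𝒟 R' i ⊗[𝒟.A i] 𝒟.M i))

instance (i : ℕ) : IsScalarTower (𝒟.A i) (A' 𝒟 R' i) (M' 𝒟 R' i) :=
  inferInstanceAs (IsScalarTower (𝒟.A i) (A' 𝒟 R' i) (A' 𝒟 R' i ⊗[𝒟.A i] 𝒟.M i))

/-- the base change maps `M i → M' i`. -/
noncomputable def gM (i : ℕ) : 𝒟.M i →ₗ[𝒟.A i] M' 𝒟 R' i :=
  TensorProduct.mk (𝒟.A i) (A' 𝒟 R' i) (𝒟.M i) 1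

theorem isBaseChange_gM (i : ℕ) : IsBaseChange (A' 𝒟 R' i) (gM 𝒟 R' i) :=
  TensorProduct.isBaseChange (𝒟.A i) (𝒟.M i) (A' 𝒟 R' i)

noncomputable instance modRM (i : ℕ) : Module R' (M' 𝒟 R' i) :=
  Module.compHom _ (algebraMap R' (A' 𝒟 R' i))

instance (i : ℕ) : IsScalarTower R' (A' 𝒟 R' i) (M' 𝒟 R' i) :=
  IsScalarTower.of_algebraMap_smul fun _ _ => rfl

noncomputable instance modBM (i : ℕ) : Module (𝒟.B i) (M' 𝒟 R' i) :=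
  Module.compHom _ (algebraMap (𝒟.B i) (A' 𝒟 R' i))

instance (i : ℕ) : IsScalarTower (𝒟.B i) (A' 𝒟 R' i) (M' 𝒟 R' i) :=
  IsScalarTower.of_algebraMap_smul fun _ _ => rfl

instance (i : ℕ) : IsScalarTower (𝒟.B i) (𝒟.A i) (M' 𝒟 R' i) :=
  tower_of_towers (𝒟.B i) (𝒟.A i) (A' 𝒟 R' i) (M' 𝒟 R' i)

noncomputable instance modBM1 (i : ℕ) : Module (𝒟.B i) (M' 𝒟 R' (i + 1)) :=
  Module.compHom _ (algebraMap (𝒟.B i) (A' 𝒟 R' (i + 1)))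

instance (i : ℕ) : IsScalarTower (𝒟.B i) (A' 𝒟 R' (i + 1)) (M' 𝒟 R' (i + 1)) :=
  IsScalarTower.of_algebraMap_smul fun _ _ => rfl

instance (i : ℕ) : IsScalarTower (𝒟.B i) (𝒟.A (i + 1)) (M' 𝒟 R' (i + 1)) :=
  tower_of_towers (𝒟.B i) (𝒟.A (i + 1)) (A' 𝒟 R' (i + 1)) (M' 𝒟 R' (i + 1))

noncomputable instance modSM : Module S (M' 𝒟 R' 0) :=
  Module.compHom _ (algebraMap S (A' 𝒟 R' 0))

instance : IsScalarTower S (A' 𝒟 R' 0) (M' 𝒟 R' 0) :=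
  IsScalarTower.of_algebraMap_smul fun _ _ => rfl

instance : IsScalarTower S (𝒟.A 0) (M' 𝒟 R' 0) :=
  tower_of_towers S (𝒟.A 0) (A' 𝒟 R' 0) (M' 𝒟 R' 0)


/-- the base-changed smooth algebras `B i ⊗ R'`. -/
def Bt (i : ℕ) : Type u := 𝒟.B i ⊗[R] R'

noncomputable instance (i : ℕ) : CommRing (Bt 𝒟 R' i) := inferInstanceAs (CommRing (𝒟.B i ⊗[R] R'))

noncomputable instance algRB (i : ℕ) : Algebra R' (Bt 𝒟 R' i) :=
  (Algebra.TensorProduct.rightAlgebra : Algebra R' (𝒟.B i ⊗[R] R'))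

noncomputable instance algBB (i : ℕ) : Algebra (𝒟.B i) (Bt 𝒟 R' i) :=
  inferInstanceAs (Algebra (𝒟.B i) (𝒟.B i ⊗[R] R'))

noncomputable instance algRBt (i : ℕ) : Algebra R (Bt 𝒟 R' i) :=
  inferInstanceAs (Algebra R (𝒟.B i ⊗[R] R'))

instance (i : ℕ) : IsScalarTower R (𝒟.B i) (Bt 𝒟 R' i) :=
  inferInstanceAs (IsScalarTower R (𝒟.B i) (𝒟.B i ⊗[R] R'))

attribute [local instance] Algebra.TensorProduct.rightAlgebra in
instance (i : ℕ) : IsScalarTower R R' (Bt 𝒟 R' i) :=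
  inferInstanceAs (IsScalarTower R R' (𝒟.B i ⊗[R] R'))

attribute [local instance] Algebra.TensorProduct.rightAlgebra in
instance (i : ℕ) : Algebra.IsPushout R R' (𝒟.B i) (Bt 𝒟 R' i) :=
  inferInstanceAs (Algebra.IsPushout R R' (𝒟.B i) (𝒟.B i ⊗[R] R'))

/-- the map `B i ⊗ R' → A i ⊗ R'`. -/
noncomputable def mapBA (i : ℕ) : Bt 𝒟 R' i →ₐ[R] A' 𝒟 R' i :=
  Algebra.TensorProduct.map (IsScalarTower.toAlgHom R (𝒟.B i) (𝒟.A i)) (AlgHom.id R R')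

/-- the map `B i ⊗ R' → A (i+1) ⊗ R'`. -/
noncomputable def mapBA1 (i : ℕ) : Bt 𝒟 R' i →ₐ[R] A' 𝒟 R' (i + 1) :=
  Algebra.TensorProduct.map (IsScalarTower.toAlgHom R (𝒟.B i) (𝒟.A (i + 1))) (AlgHom.id R R')

noncomputable instance algBtA (i : ℕ) : Algebra (Bt 𝒟 R' i) (A' 𝒟 R' i) :=
  (mapBA 𝒟 R' i).toRingHom.toAlgebra

noncomputable instance algBtA1 (i : ℕ) : Algebra (Bt 𝒟 R' i) (A' 𝒟 R' (i + 1)) :=
  (mapBA1 𝒟 R' i).toRingHom.toAlgebra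

theorem algebraMap_Bt_A (i : ℕ) (b : 𝒟.B i) (r : R') :
    algebraMap (Bt 𝒟 R' i) (A' 𝒟 R' i) (b ⊗ₜ[R] r : 𝒟.B i ⊗[R] R') =
      (algebraMap (𝒟.B i) (𝒟.A i) b ⊗ₜ[R] r : 𝒟.A i ⊗[R] R') := rfl

theorem algebraMap_Bt_A1 (i : ℕ) (b : 𝒟.B i) (r : R') :
    algebraMap (Bt 𝒟 R' i) (A' 𝒟 R' (i + 1)) (b ⊗ₜ[R] r : 𝒟.B i ⊗[R] R') =
      (algebraMap (𝒟.B i) (𝒟.A (i + 1)) b ⊗ₜ[R] r : 𝒟.A (i + 1) ⊗[R] R') := rfl

instance (i : ℕ) : IsScalarTower R' (Bt 𝒟 R' i) (A' 𝒟 R' i) :=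
  IsScalarTower.of_algebraMap_eq fun r => by
    change ((1 : 𝒟.A i) ⊗ₜ[R] r : 𝒟.A i ⊗[R] R') =
      algebraMap (Bt 𝒟 R' i) (A' 𝒟 R' i) ((1 : 𝒟.B i) ⊗ₜ[R] r : 𝒟.B i ⊗[R] R')
    rw [algebraMap_Bt_A, map_one]

instance (i : ℕ) : IsScalarTower R' (Bt 𝒟 R' i) (A' 𝒟 R' (i + 1)) :=
  IsScalarTower.of_algebraMap_eq fun r => by
    change ((1 : 𝒟.A (i + 1)) ⊗ₜ[R] r : 𝒟.A (i + 1) ⊗[R] R') =
      algebraMap (Bt 𝒟 R' i) (A' 𝒟 R' (i + 1)) ((1 : 𝒟.B i) ⊗ₜ[R] r : 𝒟.B i ⊗[R] R')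
    rw [algebraMap_Bt_A1, map_one]

instance (i : ℕ) : IsScalarTower (𝒟.B i) (Bt 𝒟 R' i) (A' 𝒟 R' i) :=
  IsScalarTower.of_algebraMap_eq fun b => by
    change ((algebraMap (𝒟.B i) (𝒟.A i) b) ⊗ₜ[R] (1 : R') : 𝒟.A i ⊗[R] R') =
      algebraMap (Bt 𝒟 R' i) (A' 𝒟 R' i) (b ⊗ₜ[R] (1 : R') : 𝒟.B i ⊗[R] R')
    rw [algebraMap_Bt_A]

instance (i : ℕ) : IsScalarTower (𝒟.B i) (Bt 𝒟 R' i) (A' 𝒟 R' (i + 1)) :=
  IsScalarTower.of_algebraMap_eq fun b => by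
    change ((algebraMap (𝒟.B i) (𝒟.A (i + 1)) b) ⊗ₜ[R] (1 : R') : 𝒟.A (i + 1) ⊗[R] R') =
      algebraMap (Bt 𝒟 R' i) (A' 𝒟 R' (i + 1)) (b ⊗ₜ[R] (1 : R') : 𝒟.B i ⊗[R] R')
    rw [algebraMap_Bt_A1]


noncomputable instance modBtM (i : ℕ) : Module (Bt 𝒟 R' i) (M' 𝒟 R' i) :=
  Module.compHom _ (algebraMap (Bt 𝒟 R' i) (A' 𝒟 R' i))

instance (i : ℕ) : IsScalarTower (Bt 𝒟 R' i) (A' 𝒟 R' i) (M' 𝒟 R' i) :=
  IsScalarTower.of_algebraMap_smul fun _ _ => rfl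

instance (i : ℕ) : IsScalarTower R' (Bt 𝒟 R' i) (M' 𝒟 R' i) :=
  tower_of_towers R' (Bt 𝒟 R' i) (A' 𝒟 R' i) (M' 𝒟 R' i)

instance (i : ℕ) : IsScalarTower (𝒟.B i) (Bt 𝒟 R' i) (M' 𝒟 R' i) :=
  tower_of_towers (𝒟.B i) (Bt 𝒟 R' i) (A' 𝒟 R' i) (M' 𝒟 R' i)

noncomputable instance modBtM1 (i : ℕ) : Module (Bt 𝒟 R' i) (M' 𝒟 R' (i + 1)) :=
  Module.compHom _ (algebraMap (Bt 𝒟 R' i) (A' 𝒟 R' (i + 1)))

instance (i : ℕ) : IsScalarTower (Bt 𝒟 R' i) (A' 𝒟 R' (i + 1)) (M' 𝒟 R' (i + 1)) :=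
  IsScalarTower.of_algebraMap_smul fun _ _ => rfl

instance (i : ℕ) : IsScalarTower (𝒟.B i) (Bt 𝒟 R' i) (M' 𝒟 R' (i + 1)) :=
  tower_of_towers (𝒟.B i) (Bt 𝒟 R' i) (A' 𝒟 R' (i + 1)) (M' 𝒟 R' (i + 1))

instance isPushout_BA (i : ℕ) : Algebra.IsPushout (𝒟.B i) (Bt 𝒟 R' i) (𝒟.A i) (A' 𝒟 R' i) :=
  Groth.Agent.Lib.Seat55.DevBC.isPushout_right (R := R) (R' := R')

instance isPushout_BA1 (i : ℕ) :
    Algebra.IsPushout (𝒟.B i) (Bt 𝒟 R' i) (𝒟.A (i + 1)) (A' 𝒟 R' (i + 1)) :=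
  Groth.Agent.Lib.Seat55.DevBC.isPushout_right (R := R) (R' := R')


/-- base change map of the free modules -/
noncomputable def gF (i : ℕ) : (Fin (𝒟.r i) → 𝒟.B i) →ₗ[𝒟.B i] (Fin (𝒟.r i) → Bt 𝒟 R' i) :=
  (Algebra.linearMap (𝒟.B i) (Bt 𝒟 R' i)).compLeft (Fin (𝒟.r i))

theorem isBaseChange_gF (i : ℕ) : IsBaseChange (Bt 𝒟 R' i) (gF 𝒟 R' i) :=
  IsBaseChange.finitePow (Fin (𝒟.r i)) (IsBaseChange.linearMap (𝒟.B i) (Bt 𝒟 R' i))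

/-- `gM i` as a `B i`-linear map -/
noncomputable def gMB (i : ℕ) : 𝒟.M i →ₗ[𝒟.B i] M' 𝒟 R' i :=
  (gM 𝒟 R' i).restrictScalars (𝒟.B i)

theorem isBaseChange_gMB (i : ℕ) : IsBaseChange (Bt 𝒟 R' i) (gMB 𝒟 R' i) :=
  Groth.Agent.Lib.Seat55.DevAtBC2.isBaseChange_of_isPushout (gM 𝒟 R' i) (isBaseChange_gM 𝒟 R' i)
    (gMB 𝒟 R' i) (fun _ => rfl)

/-- `gM (i+1)` as a `B i`-linear map -/
noncomputable def gM1B (i : ℕ) : 𝒟.M (i + 1) →ₗ[𝒟.B i] M' 𝒟 R' (i + 1) :=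
  (gM 𝒟 R' (i + 1)).restrictScalars (𝒟.B i)

theorem isBaseChange_gM1B (i : ℕ) : IsBaseChange (Bt 𝒟 R' i) (gM1B 𝒟 R' i) :=
  Groth.Agent.Lib.Seat55.DevAtBC2.isBaseChange_of_isPushout (gM 𝒟 R' (i + 1))
    (isBaseChange_gM 𝒟 R' (i + 1)) (gM1B 𝒟 R' i) (fun _ => rfl)

/-- the base-changed maps `α' i` -/
noncomputable def αt (i : ℕ) : (Fin (𝒟.r i) → Bt 𝒟 R' i) →ₗ[Bt 𝒟 R' i] M' 𝒟 R' i :=
  (isBaseChange_gF 𝒟 R' i).lift ((gMB 𝒟 R' i).comp (𝒟.α i))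

theorem αt_gF (i : ℕ) (x : Fin (𝒟.r i) → 𝒟.B i) :
    αt 𝒟 R' i (gF 𝒟 R' i x) = gMB 𝒟 R' i (𝒟.α i x) :=
  (isBaseChange_gF 𝒟 R' i).lift_eq _ x


variable (p' : Ideal R') [p'.IsPrime]

/-- the part of the base-changed dévissage at index `i` that depends on `B' i`. -/
structure BPkg (i : ℕ) : Type (u + 1) where
  /-- the smooth algebra -/
  B' : Type u
  [cB : CommRing B']
  [aRB : Algebra R' B']
  [aBA : Algebra B' (A' 𝒟 R' i)] [tRBA : IsScalarTower R' B' (A' 𝒟 R' i)]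
  [aBA1 : Algebra B' (A' 𝒟 R' (i + 1))] [tRBA1 : IsScalarTower R' B' (A' 𝒟 R' (i + 1))]
  [mBM : Module B' (M' 𝒟 R' i)] [tBAM : IsScalarTower B' (A' 𝒟 R' i) (M' 𝒟 R' i)]
  [tRBM : IsScalarTower R' B' (M' 𝒟 R' i)]
  [mBM1 : Module B' (M' 𝒟 R' (i + 1))]
  [tBAM1 : IsScalarTower B' (A' 𝒟 R' (i + 1)) (M' 𝒟 R' (i + 1))]
  [hp : (p'.map (algebraMap R' B')).IsPrime]
  /-- the map from the free module -/
  α : (Fin (𝒟.r i) → B') →ₗ[B'] M' 𝒟 R' i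
  surjBA' : i + 1 < 𝒟.n → Function.Surjective (algebraMap B' (A' 𝒟 R' (i + 1)))
  fpBA' : i + 1 < 𝒟.n → Algebra.FinitePresentation B' (A' 𝒟 R' (i + 1))
  finiteBA : i < 𝒟.n → Module.Finite B' (A' 𝒟 R' i)
  smooth : i < 𝒟.n → Algebra.Smooth R' B'
  geomIrred : i < 𝒟.n → FlatCA.GeomIrredFibres R' B'
  /-- the cokernel identification -/
  isoCoker : i + 1 < 𝒟.n → (M' 𝒟 R' i ⧸ LinearMap.range α) ≃ₗ[B'] M' 𝒟 R' (i + 1)
  fibreIso : i < 𝒟.n →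
    Function.Bijective (α.baseChange (p'.map (algebraMap R' B')).ResidueField)
  cokerLast : i + 1 = 𝒟.n → Function.Surjective α
  concl : i < 𝒟.n → ∃ (_ : Algebra (𝒟.B i) B') (_ : Algebra R B') (_ : IsScalarTower R R' B')
    (_ : IsScalarTower R (𝒟.B i) B') (_ : IsScalarTower (𝒟.B i) B' (A' 𝒟 R' i))
    (_ : IsScalarTower (𝒟.B i) B' (A' 𝒟 R' (i + 1))),
    Algebra.IsPushout R R' (𝒟.B i) B' ∧
    LinearMap.range α =
      Submodule.span B' (gM 𝒟 R' i '' (LinearMap.range (𝒟.α i) : Set (𝒟.M i)))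

attribute [instance] BPkg.cB BPkg.aRB BPkg.aBA BPkg.tRBA BPkg.aBA1 BPkg.tRBA1 BPkg.mBM BPkg.tBAM
  BPkg.tRBM BPkg.mBM1 BPkg.tBAM1 BPkg.hp

variable [hpp : p'.LiesOver p]

/-- the package at a step `i < n`. -/
noncomputable def good (i : ℕ) (h : i < 𝒟.n) : BPkg 𝒟 R' p' i :=
  haveI : Algebra.Smooth R (𝒟.B i) := 𝒟.smooth i h
  haveI hp1 : (p'.map (algebraMap R' (Bt 𝒟 R' i))).IsPrime :=
    Groth.Agent.Lib.Seat55.CDevGen.map_isPrime_of_isPushout R R' (𝒟.B i) (Bt 𝒟 R' i)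
      (𝒟.geomIrred i h) p'
  { B' := Bt 𝒟 R' i
    α := αt 𝒟 R' i
    surjBA' := fun h1 => Groth.Agent.Lib.Seat55.DevBC.surjective_of_isPushout
      (S := 𝒟.B i) (S' := Bt 𝒟 R' i) (C := 𝒟.A (i + 1)) (C' := A' 𝒟 R' (i + 1)) (𝒟.surjBA' i h1)
    fpBA' := fun h1 =>
      haveI := 𝒟.fpBA' i h1
      Groth.Agent.Lib.Seat55.DevBC.finitePresentation_of_isPushout
        (S := 𝒟.B i) (S' := Bt 𝒟 R' i) (C := 𝒟.A (i + 1)) (C' := A' 𝒟 R' (i + 1))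
    finiteBA := fun _ =>
      haveI := 𝒟.finiteBA i h
      Groth.Agent.Lib.Seat55.DevBC.moduleFinite_of_isPushout
        (S := 𝒟.B i) (S' := Bt 𝒟 R' i) (C := 𝒟.A i) (C' := A' 𝒟 R' i)
    smooth := fun _ => Groth.Agent.Lib.Seat55.CDevGen.smooth_of_isPushout R R' (𝒟.B i) (Bt 𝒟 R' i)
    geomIrred := fun _ =>
      Groth.Agent.Lib.Seat55.DevBC.geomIrredFibres_of_isPushout (R := R) (D := 𝒟.B i)
        (𝒟.geomIrred i h)
    isoCoker := fun h1 => Classical.choice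
      (Groth.Agent.Lib.Seat55.CDevGen.nonempty_coker_equiv (𝒟.α i) (gF 𝒟 R' i) (gMB 𝒟 R' i)
        (isBaseChange_gF 𝒟 R' i) (isBaseChange_gMB 𝒟 R' i) (αt 𝒟 R' i) (αt_gF 𝒟 R' i)
        (𝒟.isoCoker i h1) (gM1B 𝒟 R' i) (isBaseChange_gM1B 𝒟 R' i))
    fibreIso := fun _ =>
      Groth.Agent.Lib.Seat55.CDevGen.fibre_bijective R R' (𝒟.B i) (Bt 𝒟 R' i) p p' (𝒟.α i)
        (gF 𝒟 R' i) (gMB 𝒟 R' i) (isBaseChange_gF 𝒟 R' i) (isBaseChange_gMB 𝒟 R' i)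
        (αt 𝒟 R' i) (αt_gF 𝒟 R' i) (𝒟.fibreIso i h)
    cokerLast := fun h1 =>
      Groth.Agent.Lib.Seat55.CDevGen.surjective_of_isBaseChange (𝒟.α i) (gF 𝒟 R' i) (gMB 𝒟 R' i)
        (isBaseChange_gF 𝒟 R' i) (isBaseChange_gMB 𝒟 R' i) (αt 𝒟 R' i) (αt_gF 𝒟 R' i)
        (by have h2 : 𝒟.n - 1 = i := by omega
            have h3 := 𝒟.cokerLast
            rw [h2] at h3
            exact h3)
    concl := fun _ => ⟨algBB 𝒟 R' i, algRBt 𝒟 R' i, inferInstance, inferInstance, inferInstance,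
      inferInstance, inferInstance,
      Groth.Agent.Lib.Seat55.CDevGen.range_eq_span (𝒟.α i) (gF 𝒟 R' i) (gMB 𝒟 R' i)
        (isBaseChange_gF 𝒟 R' i) (αt 𝒟 R' i) (αt_gF 𝒟 R' i)⟩ }


omit hpp in
/-- the (irrelevant) package at an index `i ≥ n`. -/
noncomputable def triv (i : ℕ) (h : ¬ i < 𝒟.n) : BPkg 𝒟 R' p' i :=
  haveI hp1 : (p'.map (algebraMap R' R')).IsPrime := by
    rw [Algebra.algebraMap_self, Ideal.map_id]; infer_instance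
  { B' := R'
    α := 0
    surjBA' := fun h1 => absurd (by omega) h
    fpBA' := fun h1 => absurd (by omega) h
    finiteBA := fun h1 => absurd h1 h
    smooth := fun h1 => absurd h1 h
    geomIrred := fun h1 => absurd h1 h
    isoCoker := fun h1 => absurd (by omega) h
    fibreIso := fun h1 => absurd h1 h
    cokerLast := fun h1 => absurd (by omega) h
    concl := fun h1 => absurd h1 h }

/-- the package at index `i`. -/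
noncomputable def bpkg (i : ℕ) : BPkg 𝒟 R' p' i :=
  if h : i < 𝒟.n then good 𝒟 R' p' i h else triv 𝒟 R' p' i h


section SPrime

variable (S' : Type u) [CommRing S'] [Algebra R' S'] [Algebra R S'] [Algebra S S']
  [IsScalarTower R R' S'] [IsScalarTower R S S'] [Algebra.IsPushout R R' S S']

instance : IsScalarTower R S (A' 𝒟 R' 0) :=
  inferInstanceAs (IsScalarTower R S (𝒟.A 0 ⊗[R] R'))

/-- the map `S' → A' 0`. -/
noncomputable def descSA : S' →ₐ[R] A' 𝒟 R' 0 :=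
  Algebra.pushoutDesc S' (IsScalarTower.toAlgHom R R' (A' 𝒟 R' 0))
    (IsScalarTower.toAlgHom R S (A' 𝒟 R' 0)) (fun _ _ => mul_comm _ _)

/-- the `S'`-algebra structure on `A' 0` (a local instance). -/
@[instance_reducible]
noncomputable def algS'A : Algebra S' (A' 𝒟 R' 0) := (descSA 𝒟 R' S').toRingHom.toAlgebra

attribute [local instance] algS'A

theorem tower_R'S'A : IsScalarTower R' S' (A' 𝒟 R' 0) :=
  IsScalarTower.of_algebraMap_eq fun r =>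
    (Algebra.pushoutDesc_left S' (IsScalarTower.toAlgHom R R' (A' 𝒟 R' 0))
      (IsScalarTower.toAlgHom R S (A' 𝒟 R' 0)) (fun _ _ => mul_comm _ _) r).symm

theorem tower_SS'A : IsScalarTower S S' (A' 𝒟 R' 0) :=
  IsScalarTower.of_algebraMap_eq fun r =>
    (Algebra.pushoutDesc_right S' (IsScalarTower.toAlgHom R R' (A' 𝒟 R' 0))
      (IsScalarTower.toAlgHom R S (A' 𝒟 R' 0)) (fun _ _ => mul_comm _ _) r).symm

attribute [local instance] tower_R'S'A tower_SS'A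

theorem isPushout_SA : Algebra.IsPushout S S' (𝒟.A 0) (A' 𝒟 R' 0) :=
  Groth.Agent.Lib.Seat55.DevBC.isPushout_right (R := R) (R' := R')

attribute [local instance] isPushout_SA

/-- the `S'`-module structure on `M' 0` (a local instance). -/
@[instance_reducible]
noncomputable def modS'M : Module S' (M' 𝒟 R' 0) :=
  Module.compHom _ (algebraMap S' (A' 𝒟 R' 0))

attribute [local instance] modS'M

theorem tower_S'AM : IsScalarTower S' (A' 𝒟 R' 0) (M' 𝒟 R' 0) :=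
  IsScalarTower.of_algebraMap_smul fun _ _ => rfl

attribute [local instance] tower_S'AM

theorem tower_SS'M : IsScalarTower S S' (M' 𝒟 R' 0) :=
  tower_of_towers S S' (A' 𝒟 R' 0) (M' 𝒟 R' 0)

attribute [local instance] tower_SS'M

/-- `gM 0` as an `S`-linear map -/
noncomputable def gMS : 𝒟.M 0 →ₗ[S] M' 𝒟 R' 0 :=
  (gM 𝒟 R' 0).restrictScalars S

theorem isBaseChange_gMS : IsBaseChange S' (gMS 𝒟 R') :=
  Groth.Agent.Lib.Seat55.DevAtBC2.isBaseChange_of_isPushout (gM 𝒟 R' 0) (isBaseChange_gM 𝒟 R' 0)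
    (gMS 𝒟 R') (fun _ => rfl)

variable {N' : Type u} [AddCommGroup N'] [Module S' N'] [Module S N'] [IsScalarTower S S' N']
  (f : N →ₗ[S] N') (hf : IsBaseChange S' f)

theorem isBaseChange_gMS_isoN :
    IsBaseChange S' ((gMS 𝒟 R').comp 𝒟.isoN.toLinearMap) :=
  IsBaseChange.comp_equiv 𝒟.isoN (gMS 𝒟 R') (isBaseChange_gMS 𝒟 R' S')

/-- the identification `N' ≅ M' 0`. -/
noncomputable def isoN' : N' ≃ₗ[S'] M' 𝒟 R' 0 :=
  hf.equiv.symm ≪≫ₗ (isBaseChange_gMS_isoN 𝒟 R' S').equiv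

theorem isoN'_apply (x : N) : isoN' 𝒟 R' S' f hf (f x) = gM 𝒟 R' 0 (𝒟.isoN x) := by
  change (isBaseChange_gMS_isoN 𝒟 R' S').equiv (hf.equiv.symm (f x)) = _
  rw [IsBaseChange.equiv_symm_apply, IsBaseChange.equiv_tmul, one_smul]
  rfl


/-- the base-changed complete dévissage. -/
noncomputable def mkD : FlatCA.CompleteDevissage R' S' N' p' where
  n := 𝒟.n
  pos := 𝒟.pos
  A := A' 𝒟 R'
  B := fun i => (bpkg 𝒟 R' p' i).B'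
  M := M' 𝒟 R'
  r := 𝒟.r
  cA := fun _ => inferInstance
  cB := fun i => (bpkg 𝒟 R' p' i).cB
  aRA := fun i => algRA 𝒟 R' i
  aRB := fun i => (bpkg 𝒟 R' p' i).aRB
  aBA := fun i => (bpkg 𝒟 R' p' i).aBA
  tRBA := fun i => (bpkg 𝒟 R' p' i).tRBA
  aSA := algS'A 𝒟 R' S'
  tRSA := tower_R'S'A 𝒟 R' S'
  aBA' := fun i => (bpkg 𝒟 R' p' i).aBA1
  tRBA' := fun i => (bpkg 𝒟 R' p' i).tRBA1
  gM := fun _ => inferInstance
  mAM := fun i => modAM 𝒟 R' i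
  mBM := fun i => (bpkg 𝒟 R' p' i).mBM
  tBAM := fun i => (bpkg 𝒟 R' p' i).tBAM
  mRM := fun i => modRM 𝒟 R' i
  tRBM := fun i => (bpkg 𝒟 R' p' i).tRBM
  mSM := modS'M 𝒟 R' S'
  tSAM := tower_S'AM 𝒟 R' S'
  mB'M := fun i => (bpkg 𝒟 R' p' i).mBM1
  tB'AM := fun i => (bpkg 𝒟 R' p' i).tBAM1
  hp := fun i => (bpkg 𝒟 R' p' i).hp
  α := fun i => (bpkg 𝒟 R' p' i).α
  surjSA := Groth.Agent.Lib.Seat55.DevBC.surjective_of_isPushout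
    (S := S) (S' := S') (C := 𝒟.A 0) (C' := A' 𝒟 R' 0) 𝒟.surjSA
  fpSA :=
    haveI := 𝒟.fpSA
    Groth.Agent.Lib.Seat55.DevBC.finitePresentation_of_isPushout
      (S := S) (S' := S') (C := 𝒟.A 0) (C' := A' 𝒟 R' 0)
  surjBA' := fun i h => (bpkg 𝒟 R' p' i).surjBA' h
  fpBA' := fun i h => (bpkg 𝒟 R' p' i).fpBA' h
  finiteBA := fun i h => (bpkg 𝒟 R' p' i).finiteBA h
  smooth := fun i h => (bpkg 𝒟 R' p' i).smooth h
  geomIrred := fun i h => (bpkg 𝒟 R' p' i).geomIrred h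
  finiteM := fun i h =>
    haveI := 𝒟.finiteM i h
    Groth.Agent.Lib.Seat55.DevBC.moduleFinite_of_isBaseChange (gM 𝒟 R' i) (isBaseChange_gM 𝒟 R' i)
  isoN := isoN' 𝒟 R' S' f hf
  isoCoker := fun i h => (bpkg 𝒟 R' p' i).isoCoker h
  fibreIso := fun i h => (bpkg 𝒟 R' p' i).fibreIso h
  cokerLast := (bpkg 𝒟 R' p' (𝒟.n - 1)).cokerLast (by have := 𝒟.pos; omega)

end SPrime


end Sealed


theorem main
    (R S : Type u) [CommRing R] [CommRing S] [Algebra R S] [Algebra.FiniteType R S]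
    (N : Type u) [AddCommGroup N] [Module S N] [Module.Finite S N]
    (p : Ideal R) [p.IsPrime] (𝒟 : FlatCA.CompleteDevissage R S N p)
    (R' : Type u) [CommRing R'] [Algebra R R'] (p' : Ideal R') [p'.IsPrime] [p'.LiesOver p]
    (S' : Type u) [CommRing S'] [Algebra R' S'] [Algebra R S'] [Algebra S S'] [IsScalarTower R R' S']
    [IsScalarTower R S S'] [Algebra.IsPushout R R' S S']
    (N' : Type u) [AddCommGroup N'] [Module S' N'] [Module S N'] [IsScalarTower S S' N']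
    (f : N →ₗ[S] N') (hf : IsBaseChange S' f) :
    ∃ (𝒟' : FlatCA.CompleteDevissage R' S' N' p')
      (aA : ∀ i : Fin 𝒟.n, Algebra (𝒟.A i) (𝒟'.A i)) (rA : ∀ i : Fin 𝒟.n, Algebra R (𝒟'.A i))
      (_t1 : ∀ i : Fin 𝒟.n, IsScalarTower R (R') (𝒟'.A i)) (_t2 : ∀ i : Fin 𝒟.n, IsScalarTower R (𝒟.A i) (𝒟'.A i))
      (aB : ∀ i : Fin 𝒟.n, Algebra (𝒟.B i) (𝒟'.B i)) (rB : ∀ i : Fin 𝒟.n, Algebra R (𝒟'.B i))
      (_t3 : ∀ i : Fin 𝒟.n, IsScalarTower R (R') (𝒟'.B i)) (_t4 : ∀ i : Fin 𝒟.n, IsScalarTower R (𝒟.B i) (𝒟'.B i))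
      (bA : ∀ i : Fin 𝒟.n, Algebra (𝒟.B i) (𝒟'.A i)) (_t5 : ∀ i : Fin 𝒟.n, IsScalarTower (𝒟.B i) (𝒟.A i) (𝒟'.A i))
      (_t6 : ∀ i : Fin 𝒟.n, IsScalarTower (𝒟.B i) (𝒟'.B i) (𝒟'.A i))
      (bA' : ∀ i : Fin 𝒟.n, Algebra (𝒟.B i) (𝒟'.A (i + 1)))
      (_t7 : ∀ i : Fin 𝒟.n, IsScalarTower (𝒟.B i) (𝒟'.B i) (𝒟'.A (i + 1)))
      (sA : Algebra S (𝒟'.A 0)) (_t8 : IsScalarTower S (S') (𝒟'.A 0))
      (mA : ∀ i : Fin 𝒟.n, Module (𝒟.A i) (𝒟'.M i)) (_t9 : ∀ i : Fin 𝒟.n, IsScalarTower (𝒟.A i) (𝒟'.A i) (𝒟'.M i))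
      (gM : ∀ i : Fin 𝒟.n, 𝒟.M i →ₗ[𝒟.A i] 𝒟'.M i),
      𝒟'.n = 𝒟.n ∧ 𝒟'.r = 𝒟.r ∧
      (letI := aA ⟨0, 𝒟.pos⟩; IsScalarTower S (𝒟.A 0) (𝒟'.A 0)) ∧
      (∀ x : N, 𝒟'.isoN (f x) = gM ⟨0, 𝒟.pos⟩ (𝒟.isoN x)) ∧
      (∀ (i : Fin 𝒟.n) (h : (i : ℕ) + 1 < 𝒟.n),
        letI := aA ⟨i + 1, h⟩; IsScalarTower (𝒟.B i) (𝒟.A (i + 1)) (𝒟'.A (i + 1))) ∧
      ∀ i : Fin 𝒟.n,
        Algebra.IsPushout R R' (𝒟.A i) (𝒟'.A i) ∧ Algebra.IsPushout R R' (𝒟.B i) (𝒟'.B i) ∧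
        IsBaseChange (𝒟'.A i) (gM i) ∧
        LinearMap.range (𝒟'.α i) =
          Submodule.span (𝒟'.B i) ((gM i) '' (LinearMap.range (𝒟.α i) : Set (𝒟.M i))) := by
  have key := fun i : Fin 𝒟.n => (bpkg 𝒟 R' p' i).concl i.2
  choose aB rB t3 t4 t6 t7 hpo hrange using key
  refine ⟨mkD 𝒟 R' p' S' f hf, fun i => algAA 𝒟 R' i, fun i => algR 𝒟 R' i,
    fun i => (inferInstance : IsScalarTower R R' (A' 𝒟 R' i)),
    fun i => (inferInstance : IsScalarTower R (𝒟.A i) (A' 𝒟 R' i)),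
    aB, rB, t3, t4, fun i => algBA 𝒟 R' i,
    fun i => (inferInstance : IsScalarTower (𝒟.B i) (𝒟.A i) (A' 𝒟 R' i)),
    t6, fun i => algBA1 𝒟 R' i, t7, algSA 𝒟 R', tower_SS'A 𝒟 R' S',
    fun i => modAM0 𝒟 R' i,
    fun i => (inferInstance : IsScalarTower (𝒟.A i) (A' 𝒟 R' i) (M' 𝒟 R' i)),
    fun i => gM 𝒟 R' i, rfl, rfl, ?_, ?_, ?_, ?_⟩
  · exact (inferInstance : IsScalarTower S (𝒟.A 0) (A' 𝒟 R' 0))
  · intro x
    exact isoN'_apply 𝒟 R' S' f hf x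
  · intro i h
    exact (inferInstance : IsScalarTower (𝒟.B i) (𝒟.A (i + 1)) (A' 𝒟 R' (i + 1)))
  · intro i
    exact ⟨(inferInstance : Algebra.IsPushout R R' (𝒟.A i) (A' 𝒟 R' i)), hpo i,
      isBaseChange_gM 𝒟 R' i, hrange i⟩

end Groth.Agent.Lib.Seat55.CDev
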