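import Mathlib
import Groth.Prelude.Def_FlatCA
import Groth.Agent.Lib.Seat55DevBC
import Groth.Agent.Lib.Seat55DevAtBC
import Groth.Agent.Lib.Seat55ShrinkTop

/-!
# Supports of fibre modules under localization (seat 55)

* `contr`, `mem_support_fiberMod_iff`, `suppHomeo`: the support of `FlatCA.fiberMod p S N` is
  homeomorphic to the set of primes of `S` over `p` in the support of `N`;
* `Tset`, `mem_preimage_Tset_iff`, `eps`, `isOpenEmbedding_eps`, `contr_eps`: for `S → S₁` inducing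
  an open embedding on spectra (and `Spec R₁ → Spec R` injective) the support of the fibre module
  of the base change `N₁` is an open subspace of that of `N`;
* `fibre_shrink`: the local dimension at `q` and the dimension of the fibre support are preserved.
-/

set_option autoImplicit false
set_option linter.style.haveILetI false
set_option linter.unusedSectionVars false
universe u
open TensorProduct Topology

namespace Groth.Agent.Lib.Seat55.ShrinkFib

attribute [local instance] Algebra.TensorProduct.rightAlgebra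

section H

variable {R S : Type u} [CommRing R] [CommRing S] [Algebra R S] (p : Ideal R) [p.IsPrime]
  (N : Type u) [AddCommGroup N] [Module S N] [Module R N] [IsScalarTower R S N] [Module.Finite S N]

/-- the contraction of a point of the fibre ring to `S`. -/
noncomputable def contr (x : PrimeSpectrum (p.Fiber S)) : PrimeSpectrum S :=
  PrimeSpectrum.comap
    (Algebra.TensorProduct.includeRight (R := R) (A := p.ResidueField) (B := S)).toRingHom x

theorem continuous_contr : Continuous (contr (S := S) p) :=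
  PrimeSpectrum.continuous_comap _

theorem contr_eq (x : PrimeSpectrum (p.Fiber S)) :
    contr p x = ((PrimeSpectrum.preimageHomeomorphFiber R S ⟨p, inferInstance⟩).symm x).1 := rfl

theorem comap_contr (x : PrimeSpectrum (p.Fiber S)) :
    (contr p x).asIdeal.comap (algebraMap R S) = p := by
  have h := ((PrimeSpectrum.preimageHomeomorphFiber R S ⟨p, inferInstance⟩).symm x).2
  rw [Set.mem_preimage, Set.mem_singleton_iff] at h
  exact congrArg PrimeSpectrum.asIdeal h

theorem mem_support_fiberMod_iff (x : PrimeSpectrum (p.Fiber S)) :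
    x ∈ Module.support (p.Fiber S) (FlatCA.fiberMod p S N) ↔ contr p x ∈ Module.support S N :=
  Groth.Agent.Lib.Helper20.SuppBC.mem_support_baseChange_iff (A := S) (B := p.Fiber S) (N := N) x

/-- the homeomorphism of the support of the fibre module onto a set `T` of primes of `S`. -/
noncomputable def suppHomeo (T : Set (PrimeSpectrum S))
    (hT : ∀ P : PrimeSpectrum S, P ∈ T ↔
      (P.asIdeal.comap (algebraMap R S) = p ∧ P ∈ Module.support S N)) :
    Module.support (p.Fiber S) (FlatCA.fiberMod p S N) ≃ₜ T where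
  toFun x := ⟨contr p x.1,
    (hT _).2 ⟨comap_contr p x.1, (mem_support_fiberMod_iff p N x.1).1 x.2⟩⟩
  invFun P := ⟨PrimeSpectrum.preimageHomeomorphFiber R S ⟨p, inferInstance⟩
      ⟨P.1, PrimeSpectrum.ext ((hT P.1).1 P.2).1⟩, by
    rw [mem_support_fiberMod_iff, contr_eq, Homeomorph.symm_apply_apply]
    exact ((hT P.1).1 P.2).2⟩
  left_inv x := by
    apply Subtype.ext
    have := (PrimeSpectrum.preimageHomeomorphFiber R S ⟨p, inferInstance⟩).apply_symm_apply x.1
    convert this using 2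
    exact Subtype.ext rfl
  right_inv P := by
    apply Subtype.ext
    change contr p _ = P.1
    rw [contr_eq, Homeomorph.symm_apply_apply]
  continuous_toFun := Continuous.subtype_mk ((continuous_contr p).comp continuous_subtype_val) _
  continuous_invFun := by
    refine Continuous.subtype_mk ?_ _
    exact (PrimeSpectrum.preimageHomeomorphFiber R S ⟨p, inferInstance⟩).continuous.comp
      (Continuous.subtype_mk continuous_subtype_val _)

theorem suppHomeo_apply (T : Set (PrimeSpectrum S))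
    (hT : ∀ P : PrimeSpectrum S, P ∈ T ↔
      (P.asIdeal.comap (algebraMap R S) = p ∧ P ∈ Module.support S N))
    (x : Module.support (p.Fiber S) (FlatCA.fiberMod p S N)) :
    (suppHomeo p N T hT x).1 = contr p x.1 := rfl


end H

section Cmp

variable {R S : Type u} [CommRing R] [CommRing S] [Algebra R S] (p : Ideal R) [p.IsPrime]
  (N : Type u) [AddCommGroup N] [Module S N] [Module R N] [IsScalarTower R S N] [Module.Finite S N]
  {R₁ S₁ : Type u} [CommRing R₁] [CommRing S₁] [Algebra R R₁] [Algebra R₁ S₁] [Algebra R S₁]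
  [Algebra S S₁] [IsScalarTower R R₁ S₁] [IsScalarTower R S S₁]
  (p₁ : Ideal R₁) [p₁.IsPrime] [hp₁ : p₁.LiesOver p]
  (hinj : Function.Injective (PrimeSpectrum.comap (algebraMap R R₁)))
  (N₁ : Type u) [AddCommGroup N₁] [Module S₁ N₁] [Module R₁ N₁] [IsScalarTower R₁ S₁ N₁]
  [Module S N₁] [IsScalarTower S S₁ N₁] (f : N →ₗ[S] N₁) (hf : IsBaseChange S₁ f)

/-- the set of primes of `S` over `p` in the support of `N`. -/
def Tset : Set (PrimeSpectrum S) :=
  {P | P.asIdeal.comap (algebraMap R S) = p ∧ P ∈ Module.support S N}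

include hinj hf in
theorem mem_preimage_Tset_iff (P₁ : PrimeSpectrum S₁) :
    P₁ ∈ PrimeSpectrum.comap (algebraMap S S₁) ⁻¹' Tset p N ↔
      (P₁.asIdeal.comap (algebraMap R₁ S₁) = p₁ ∧ P₁ ∈ Module.support S₁ N₁) := by
  have hsupp : P₁ ∈ Module.support S₁ N₁ ↔
      PrimeSpectrum.comap (algebraMap S S₁) P₁ ∈ Module.support S N := by
    rw [← hf.equiv.support_eq]
    exact Groth.Agent.Lib.Helper20.SuppBC.mem_support_baseChange_iff (A := S) (B := S₁) (N := N) P₁
  have hcomp : (P₁.asIdeal.comap (algebraMap R₁ S₁)).comap (algebraMap R R₁) =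
      (P₁.asIdeal.comap (algebraMap S S₁)).comap (algebraMap R S) := by
    rw [Ideal.comap_comap, Ideal.comap_comap, ← IsScalarTower.algebraMap_eq,
      ← IsScalarTower.algebraMap_eq]
  rw [Set.mem_preimage]
  change ((PrimeSpectrum.comap (algebraMap S S₁) P₁).asIdeal.comap (algebraMap R S) = p ∧ _) ↔ _
  rw [← hsupp, PrimeSpectrum.comap_asIdeal, ← hcomp]
  refine and_congr_left fun _ => ?_
  constructor
  · intro h
    have : PrimeSpectrum.comap (algebraMap R R₁) ⟨P₁.asIdeal.comap (algebraMap R₁ S₁), inferInstance⟩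
        = PrimeSpectrum.comap (algebraMap R R₁) ⟨p₁, inferInstance⟩ := by
      apply PrimeSpectrum.ext
      change (P₁.asIdeal.comap (algebraMap R₁ S₁)).comap (algebraMap R R₁) =
        p₁.comap (algebraMap R R₁)
      rw [h]
      exact hp₁.over
    exact congrArg PrimeSpectrum.asIdeal (hinj this)
  · intro h
    rw [h]
    exact hp₁.over.symm

end Cmp

section Eps

variable {R S : Type u} [CommRing R] [CommRing S] [Algebra R S] (p : Ideal R) [p.IsPrime]
  (N : Type u) [AddCommGroup N] [Module S N] [Module R N] [IsScalarTower R S N] [Module.Finite S N]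
  {R₁ S₁ : Type u} [CommRing R₁] [CommRing S₁] [Algebra R R₁] [Algebra R₁ S₁] [Algebra R S₁]
  [Algebra S S₁] [IsScalarTower R R₁ S₁] [IsScalarTower R S S₁]
  (p₁ : Ideal R₁) [p₁.IsPrime] [hp₁ : p₁.LiesOver p]
  (hinj : Function.Injective (PrimeSpectrum.comap (algebraMap R R₁)))
  (N₁ : Type u) [AddCommGroup N₁] [Module S₁ N₁] [Module R₁ N₁] [IsScalarTower R₁ S₁ N₁]
  [Module S N₁] [IsScalarTower S S₁ N₁] (f : N →ₗ[S] N₁) (hf : IsBaseChange S₁ f)
  (hopen : IsOpenEmbedding (PrimeSpectrum.comap (algebraMap S S₁)))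

/-- the open embedding of the support of the fibre module of the localization. -/
noncomputable def eps :
    Module.support (p₁.Fiber S₁) (FlatCA.fiberMod p₁ S₁ N₁) →
      Module.support (p.Fiber S) (FlatCA.fiberMod p S N) :=
  haveI : Module.Finite S₁ N₁ := Module.Finite.equiv hf.equiv
  (suppHomeo p N (Tset p N) (fun _ => Iff.rfl)).symm ∘
    (Tset p N).restrictPreimage (PrimeSpectrum.comap (algebraMap S S₁)) ∘
    (suppHomeo p₁ N₁ (PrimeSpectrum.comap (algebraMap S S₁) ⁻¹' Tset p N)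
      (mem_preimage_Tset_iff p N p₁ hinj N₁ f hf))

include hopen in
theorem isOpenEmbedding_eps : IsOpenEmbedding (eps p N p₁ hinj N₁ f hf) := by
  haveI : Module.Finite S₁ N₁ := Module.Finite.equiv hf.equiv
  unfold eps
  exact (Homeomorph.isOpenEmbedding _).comp
    ((hopen.restrictPreimage _).comp (Homeomorph.isOpenEmbedding _))

theorem contr_eps (x₁ : Module.support (p₁.Fiber S₁) (FlatCA.fiberMod p₁ S₁ N₁)) :
    contr p (eps p N p₁ hinj N₁ f hf x₁).1 =
      PrimeSpectrum.comap (algebraMap S S₁) (contr p₁ x₁.1) := by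
  haveI : Module.Finite S₁ N₁ := Module.Finite.equiv hf.equiv
  rw [← suppHomeo_apply p N (Tset p N) (fun _ => Iff.rfl)]
  unfold eps
  simp only [Function.comp_apply, Homeomorph.apply_symm_apply]
  rfl

end Eps

section Main

variable {R S : Type u} [CommRing R] [CommRing S] [Algebra R S] (p : Ideal R) [p.IsPrime]
  (N : Type u) [AddCommGroup N] [Module S N] [Module R N] [IsScalarTower R S N] [Module.Finite S N]
  {R₁ S₁ : Type u} [CommRing R₁] [CommRing S₁] [Algebra R R₁] [Algebra R₁ S₁] [Algebra R S₁]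
  [Algebra S S₁] [IsScalarTower R R₁ S₁] [IsScalarTower R S S₁]
  (p₁ : Ideal R₁) [p₁.IsPrime] [hp₁ : p₁.LiesOver p]
  (hinj : Function.Injective (PrimeSpectrum.comap (algebraMap R R₁)))
  (N₁ : Type u) [AddCommGroup N₁] [Module S₁ N₁] [Module R₁ N₁] [IsScalarTower R₁ S₁ N₁]
  [Module S N₁] [IsScalarTower S S₁ N₁] (f : N →ₗ[S] N₁) (hf : IsBaseChange S₁ f)
  (hopen : IsOpenEmbedding (PrimeSpectrum.comap (algebraMap S S₁)))

include hinj hf hopen in
theorem fibre_shrink (q : Ideal S) [q.IsPrime] [q.LiesOver p] (n : ℕ)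
    (h1 : ∃ (ξ : PrimeSpectrum (p.Fiber S))
      (hξ : ξ ∈ Module.support (p.Fiber S) (FlatCA.fiberMod p S N)),
      ξ.asIdeal = FlatCA.fiberIdeal p q ∧
      FlatMor.localDim (Module.support (p.Fiber S) (FlatCA.fiberMod p S N)) ⟨ξ, hξ⟩ = n)
    (hdim : Module.supportDim (p.Fiber S) (FlatCA.fiberMod p S N) = n)
    (q₁ : Ideal S₁) [q₁.IsPrime] [q₁.LiesOver p₁] (hq₁ : q₁.comap (algebraMap S S₁) = q) :
    (∃ (ξ₁ : PrimeSpectrum (p₁.Fiber S₁))
      (hξ₁ : ξ₁ ∈ Module.support (p₁.Fiber S₁) (FlatCA.fiberMod p₁ S₁ N₁)),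
      ξ₁.asIdeal = FlatCA.fiberIdeal p₁ q₁ ∧
      FlatMor.localDim (Module.support (p₁.Fiber S₁) (FlatCA.fiberMod p₁ S₁ N₁)) ⟨ξ₁, hξ₁⟩ = n) ∧
    Module.supportDim (p₁.Fiber S₁) (FlatCA.fiberMod p₁ S₁ N₁) = n := by
  haveI hfin₁ : Module.Finite S₁ N₁ := Module.Finite.equiv hf.equiv
  obtain ⟨ξ, hξ, hξq, hloc⟩ := h1
  have hξeq : ξ = Groth.Agent.Lib.Seat55.DevAtBC.fiberPt p q :=
    PrimeSpectrum.ext (hξq.trans (Groth.Agent.Lib.Seat55.DevAtBC.fiberIdeal_eq p q))
  let ξ₁ : PrimeSpectrum (p₁.Fiber S₁) := Groth.Agent.Lib.Seat55.DevAtBC.fiberPt p₁ q₁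
  have hc : (contr p ξ).asIdeal = q := by
    rw [hξeq]; exact Groth.Agent.Lib.Seat55.DevAtBC.comap_fiberPt p q
  have hc₁ : (contr p₁ ξ₁).asIdeal = q₁ := Groth.Agent.Lib.Seat55.DevAtBC.comap_fiberPt p₁ q₁
  have hj : PrimeSpectrum.comap (algebraMap S S₁) (contr p₁ ξ₁) = contr p ξ := by
    apply PrimeSpectrum.ext
    rw [PrimeSpectrum.comap_asIdeal, hc₁, hc, hq₁]
  have hξ₁ : ξ₁ ∈ Module.support (p₁.Fiber S₁) (FlatCA.fiberMod p₁ S₁ N₁) := by
    rw [mem_support_fiberMod_iff]
    refine ((mem_preimage_Tset_iff p N p₁ hinj N₁ f hf (contr p₁ ξ₁)).1 ?_).2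
    rw [Set.mem_preimage, hj]
    exact ⟨comap_contr p ξ, (mem_support_fiberMod_iff p N ξ).1 hξ⟩
  have hε : eps p N p₁ hinj N₁ f hf ⟨ξ₁, hξ₁⟩ = ⟨ξ, hξ⟩ := by
    apply Subtype.ext
    apply Groth.Agent.Lib.Seat55.DevAtBC.fiber_ext
    have := contr_eps p N p₁ hinj N₁ f hf ⟨ξ₁, hξ₁⟩
    rw [hj] at this
    exact congrArg PrimeSpectrum.asIdeal this
  have hopenε := isOpenEmbedding_eps p N p₁ hinj N₁ f hf hopen
  have hloc₁ : FlatMor.localDim (Module.support (p₁.Fiber S₁) (FlatCA.fiberMod p₁ S₁ N₁))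
      ⟨ξ₁, hξ₁⟩ = n := by
    rw [Groth.Agent.Lib.Seat55.ShrinkTop.localDim_eq_of_isOpenEmbedding hopenε, hε, hloc]
  refine ⟨⟨ξ₁, hξ₁, (Groth.Agent.Lib.Seat55.DevAtBC.fiberIdeal_eq p₁ q₁).symm, hloc₁⟩, ?_⟩
  haveI : Module.Finite (p.Fiber S) (FlatCA.fiberMod p S N) :=
    inferInstanceAs (Module.Finite (p.Fiber S) ((p.Fiber S) ⊗[S] N))
  haveI : Module.Finite (p₁.Fiber S₁) (FlatCA.fiberMod p₁ S₁ N₁) :=
    inferInstanceAs (Module.Finite (p₁.Fiber S₁) ((p₁.Fiber S₁) ⊗[S₁] N₁))
  rw [Groth.Agent.Lib.Seat55.ShrinkTop.supportDim_eq_topologicalKrullDim] at hdim ⊢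
  apply le_antisymm
  · rw [← hdim]
    exact hopenε.isInducing.topologicalKrullDim_le
  · rw [← hloc₁]
    exact Groth.Agent.Lib.Seat55.ShrinkTop.localDim_le_topologicalKrullDim _

end Main

end Groth.Agent.Lib.Seat55.ShrinkFib
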