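import Mathlib
import Groth.Prelude.Def_FlatCA

/-!
# Smoothness and geometric irreducibility for open subschemes over an open of the base (seat 55)

For a commutative square `R → R₁`, `R → D`, `D → D₁`, `R₁ → D₁` with `Spec D₁ → Spec D` an open
immersion and `Spec R₁ → Spec R` a monomorphism:
* `smoothRelDim_shrink`: `Spec D₁ → Spec R₁` is smooth of relative dimension `n` if `Spec D → Spec R`
  is;
* `geomIrred_shrink`: if moreover `Spec D₁ → Spec R₁` is surjective then it has geometrically
  irreducible fibres if `Spec D → Spec R` has.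
-/

set_option autoImplicit false
set_option linter.style.haveILetI false
set_option linter.unusedSectionVars false
universe u
open CategoryTheory AlgebraicGeometry

namespace Groth.Agent.Lib.Seat55.ShrinkSch

section

variable {R R₁ D D₁ : Type u} [CommRing R] [CommRing R₁] [CommRing D] [CommRing D₁]
  [Algebra R R₁] [Algebra R D] [Algebra R₁ D₁] [Algebra R D₁] [Algebra D D₁]
  [IsScalarTower R R₁ D₁] [IsScalarTower R D D₁]

theorem specMap_comm :
    Spec.map (CommRingCat.ofHom (algebraMap R₁ D₁)) ≫ Spec.map (CommRingCat.ofHom (algebraMap R R₁)) =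
      Spec.map (CommRingCat.ofHom (algebraMap D D₁)) ≫ Spec.map (CommRingCat.ofHom (algebraMap R D)) := by
  rw [← Spec.map_comp, ← Spec.map_comp, ← CommRingCat.ofHom_comp, ← CommRingCat.ofHom_comp,
    ← IsScalarTower.algebraMap_eq, ← IsScalarTower.algebraMap_eq]

theorem smoothRelDim_shrink
    [hi : IsOpenImmersion (Spec.map (CommRingCat.ofHom (algebraMap D D₁)))]
    [hj : Mono (Spec.map (CommRingCat.ofHom (algebraMap R R₁)))]
    (n : ℕ) (h : FlatCA.SmoothRelDim n R D) : FlatCA.SmoothRelDim n R₁ D₁ := by
  haveI := smoothOfRelativeDimension_isStableUnderBaseChange n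
  have hcomp : SmoothOfRelativeDimension n
      (Spec.map (CommRingCat.ofHom (algebraMap R₁ D₁)) ≫
        Spec.map (CommRingCat.ofHom (algebraMap R R₁))) := by
    rw [specMap_comm (R := R) (R₁ := R₁) (D := D) (D₁ := D₁)]
    haveI : SmoothOfRelativeDimension n (Spec.map (CommRingCat.ofHom (algebraMap R D))) := h
    have h0 := smoothOfRelativeDimension_comp (n := 0) (m := n)
      (f := Spec.map (CommRingCat.ofHom (algebraMap D D₁)))
      (Spec.map (CommRingCat.ofHom (algebraMap R D)))
    rwa [Nat.zero_add] at h0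
  have hpb : IsPullback (𝟙 (Spec (CommRingCat.of D₁))) (Spec.map (CommRingCat.ofHom (algebraMap R₁ D₁)))
      (Spec.map (CommRingCat.ofHom (algebraMap R₁ D₁)) ≫
        Spec.map (CommRingCat.ofHom (algebraMap R R₁)))
      (Spec.map (CommRingCat.ofHom (algebraMap R R₁))) :=
    IsPullback.of_horiz_isIso_mono ⟨by simp⟩
  exact MorphismProperty.of_isPullback (P := @SmoothOfRelativeDimension n) hpb hcomp

theorem geomIrred_shrink
    [hi : IsOpenImmersion (Spec.map (CommRingCat.ofHom (algebraMap D D₁)))]
    [hj : Mono (Spec.map (CommRingCat.ofHom (algebraMap R R₁)))]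
    (hs : Surjective (Spec.map (CommRingCat.ofHom (algebraMap R₁ D₁))))
    (h : FlatCA.GeomIrredFibres R D) : FlatCA.GeomIrredFibres R₁ D₁ := by
  constructor
  intro K _ y Z fst snd hpb
  have t : IsPullback (𝟙 (Spec (CommRingCat.of D₁)))
      (Spec.map (CommRingCat.ofHom (algebraMap R₁ D₁)))
      (Spec.map (CommRingCat.ofHom (algebraMap R₁ D₁)) ≫
        Spec.map (CommRingCat.ofHom (algebraMap R R₁)))
      (Spec.map (CommRingCat.ofHom (algebraMap R R₁))) :=
    IsPullback.of_horiz_isIso_mono ⟨by simp⟩
  have big := hpb.paste_horiz t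
  rw [Category.comp_id, specMap_comm (R := R) (R₁ := R₁) (D := D) (D₁ := D₁)] at big
  have hW := IsPullback.of_hasPullback (Spec.map (CommRingCat.ofHom (algebraMap R D)))
    (y ≫ Spec.map (CommRingCat.ofHom (algebraMap R R₁)))
  have left := IsPullback.of_bot' big hW
  set k := hW.lift (fst ≫ Spec.map (CommRingCat.ofHom (algebraMap D D₁))) snd
    (by rw [Category.assoc, big.w]) with hk
  haveI : IsOpenImmersion k :=
    MorphismProperty.of_isPullback (P := @IsOpenImmersion) left hi
  haveI hWirr : IrreducibleSpace ↥(Limits.pullback (Spec.map (CommRingCat.ofHom (algebraMap R D)))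
      (y ≫ Spec.map (CommRingCat.ofHom (algebraMap R R₁)))) :=
    h.geometrically_irreducibleSpace _ _ _ hW
  have hsnd : Surjective snd := MorphismProperty.of_isPullback (P := @Surjective) hpb hs
  haveI : Nonempty ↥(Spec (CommRingCat.of K)) :=
    inferInstanceAs (Nonempty (PrimeSpectrum K))
  obtain ⟨z, -⟩ := hsnd.surj (Classical.arbitrary _)
  haveI : Nonempty ↥Z := ⟨z⟩
  have hpre : IsPreirreducible (Set.univ : Set ↥Z) := by
    have := (PreirreducibleSpace.isPreirreducible_univ
      (X := ↥(Limits.pullback (Spec.map (CommRingCat.ofHom (algebraMap R D)))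
        (y ≫ Spec.map (CommRingCat.ofHom (algebraMap R R₁)))))).preimage k.isOpenEmbedding
    rwa [Set.preimage_univ] at this
  haveI : PreirreducibleSpace ↥Z := ⟨hpre⟩
  exact ⟨inferInstance⟩

end

end Groth.Agent.Lib.Seat55.ShrinkSch
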