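import Mathlib
import Groth.Prelude.Def_FlatCA
import Groth.Agent.Lib.Seat55DevBC
import Groth.Agent.Lib.Seat55DevAtBC
import Groth.Agent.Lib.Seat55ShrinkFib
import Groth.Agent.Lib.Seat55ShrinkSch

/-!
# Shrinking a one-step dévissage (seat 55)

* `away_map_isPrime`, `away_comap_map`, `away_comap_injective`, `away_eq_of_comap_eq`,
  `liesOver_of_square`, `away_residueField_bijective`: primes under localization away from an
  element;
* `purelyTranscendental_of_bijective`: transport of `FlatCA.PurelyTranscendental` along residue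
  field isomorphisms;
* `shrink`: a one-step dévissage at `q` restricts to standard opens `R[1/g]`, `S[1/hX]`, `C[1/hZ]`,
  `D[1/hY]` (given abstractly, with `C₁ = C ⊗_S S₁ = C ⊗_D D₁` and `Spec D₁ → Spec R₁` surjective).
-/

set_option autoImplicit false
set_option linter.style.haveILetI false
set_option linter.unusedSectionVars false
universe u
open TensorProduct Topology CategoryTheory AlgebraicGeometry

namespace Groth.Agent.Lib.Seat55.Shrink

section Away

variable {A A₁ : Type*} [CommRing A] [CommRing A₁] [Algebra A A₁] (a : A) [IsLocalization.Away a A₁]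
  (P : Ideal A) [hP : P.IsPrime]

include a in
theorem away_map_isPrime (ha : a ∉ P) : (P.map (algebraMap A A₁)).IsPrime :=
  IsLocalization.isPrime_of_isPrime_disjoint (Submonoid.powers a) A₁ P hP
    ((Ideal.disjoint_powers_iff_notMem_of_isPrime a).2 ha)

include a in
theorem away_comap_map (ha : a ∉ P) : (P.map (algebraMap A A₁)).comap (algebraMap A A₁) = P :=
  IsLocalization.under_map_of_isPrime_disjoint (Submonoid.powers a) A₁ hP
    ((Ideal.disjoint_powers_iff_notMem_of_isPrime a).2 ha)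

include a in
theorem away_comap_injective : Function.Injective (PrimeSpectrum.comap (algebraMap A A₁)) :=
  PrimeSpectrum.localization_comap_injective A₁ (Submonoid.powers a)

include a in
theorem away_eq_of_comap_eq (Q₁ Q₂ : Ideal A₁) [Q₁.IsPrime] [Q₂.IsPrime]
    (h : Q₁.comap (algebraMap A A₁) = Q₂.comap (algebraMap A A₁)) : Q₁ = Q₂ := by
  have := away_comap_injective (A₁ := A₁) a
    (a₁ := ⟨Q₁, inferInstance⟩) (a₂ := ⟨Q₂, inferInstance⟩) (PrimeSpectrum.ext h)
  exact congrArg PrimeSpectrum.asIdeal this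

end Away

section LO

variable {A A₁ B B₁ : Type*} [CommRing A] [CommRing A₁] [CommRing B] [CommRing B₁]
  [Algebra A A₁] [Algebra A B] [Algebra A₁ B₁] [Algebra A B₁] [Algebra B B₁]
  [IsScalarTower A A₁ B₁] [IsScalarTower A B B₁]

theorem comap_comap_square (P₁ : Ideal B₁) :
    (P₁.comap (algebraMap A₁ B₁)).comap (algebraMap A A₁) =
      (P₁.comap (algebraMap B B₁)).comap (algebraMap A B) := by
  rw [Ideal.comap_comap, Ideal.comap_comap, ← IsScalarTower.algebraMap_eq,
    ← IsScalarTower.algebraMap_eq]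

/-- lying over in a localized square. -/
theorem liesOver_of_square (a : A) [IsLocalization.Away a A₁]
    (P₁ : Ideal B₁) [P₁.IsPrime] (Q₁ : Ideal A₁) [Q₁.IsPrime] (P : Ideal B) (Q : Ideal A)
    (hP : P₁.comap (algebraMap B B₁) = P) (hQ : Q₁.comap (algebraMap A A₁) = Q)
    [hPQ : P.LiesOver Q] : P₁.LiesOver Q₁ := by
  constructor
  apply away_eq_of_comap_eq (A₁ := A₁) a
  rw [comap_comap_square (A := A) (A₁ := A₁) (B := B) (B₁ := B₁) P₁, hP, hQ]
  exact hPQ.over

end LO

section PT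

variable {R R₁ D D₁ : Type u} [CommRing R] [CommRing R₁] [CommRing D] [CommRing D₁]
  [Algebra R R₁] [Algebra R D] [Algebra R₁ D₁] [Algebra R D₁] [Algebra D D₁]
  [IsScalarTower R R₁ D₁] [IsScalarTower R D D₁]
  (p : Ideal R) [p.IsPrime] (p₁ : Ideal R₁) [p₁.IsPrime] [hp₁ : p₁.LiesOver p]
  (y : Ideal D) [y.IsPrime] [hy : y.LiesOver p] (y₁ : Ideal D₁) [y₁.IsPrime] [hy₁ : y₁.LiesOver y]
  [hy₁p₁ : y₁.LiesOver p₁]

theorem purelyTranscendental_of_bijective
    (hσ : Function.Bijective (Ideal.ResidueField.mapₐ p p₁ (Algebra.ofId R R₁) hp₁.over))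
    (hψ : Function.Bijective (Ideal.ResidueField.mapₐ y y₁ (Algebra.ofId D D₁) hy₁.over))
    (h4 : FlatCA.PurelyTranscendental p y) : FlatCA.PurelyTranscendental p₁ y₁ := by
  unfold FlatCA.PurelyTranscendental at h4 ⊢
  obtain ⟨ι, x, hx, hadj⟩ := h4
  letI a1 : Algebra p.ResidueField y.ResidueField :=
    (Ideal.ResidueField.mapₐ p y (Algebra.ofId R D) hy.over).toRingHom.toAlgebra
  letI a2 : Algebra p₁.ResidueField y₁.ResidueField :=
    (Ideal.ResidueField.mapₐ p₁ y₁ (Algebra.ofId R₁ D₁) hy₁p₁.over).toRingHom.toAlgebra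
  let σ : p.ResidueField →+* p₁.ResidueField :=
    (Ideal.ResidueField.mapₐ p p₁ (Algebra.ofId R R₁) hp₁.over).toRingHom
  let ψ : y.ResidueField →+* y₁.ResidueField :=
    (Ideal.ResidueField.mapₐ y y₁ (Algebra.ofId D D₁) hy₁.over).toRingHom
  have hcomp : (algebraMap p₁.ResidueField y₁.ResidueField).comp σ =
      ψ.comp (algebraMap p.ResidueField y.ResidueField) := by
    apply Ideal.ResidueField.ringHom_ext
    ext r
    change (Ideal.ResidueField.mapₐ p₁ y₁ (Algebra.ofId R₁ D₁) hy₁p₁.over)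
        ((Ideal.ResidueField.mapₐ p p₁ (Algebra.ofId R R₁) hp₁.over) (algebraMap R p.ResidueField r)) =
      (Ideal.ResidueField.mapₐ y y₁ (Algebra.ofId D D₁) hy₁.over)
        ((Ideal.ResidueField.mapₐ p y (Algebra.ofId R D) hy.over) (algebraMap R p.ResidueField r))
    rw [AlgHom.commutes, AlgHom.commutes, IsScalarTower.algebraMap_apply R R₁ p₁.ResidueField,
      AlgHom.commutes, IsScalarTower.algebraMap_apply R D y.ResidueField, AlgHom.commutes,
      IsScalarTower.algebraMap_apply R₁ D₁ y₁.ResidueField,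
      IsScalarTower.algebraMap_apply D D₁ y₁.ResidueField,
      ← IsScalarTower.algebraMap_apply R R₁ D₁, ← IsScalarTower.algebraMap_apply R D D₁]
  exact ⟨ι, ψ ∘ x,
    Groth.Agent.Lib.Seat55.DevAtBC.isTranscendenceBasis_transport σ ψ hcomp x hσ.2 hψ hx,
    Groth.Agent.Lib.Seat55.DevAtBC.adjoin_transport σ ψ hcomp x hψ.2 hadj⟩

end PT

section RF

variable {A A₁ : Type*} [CommRing A] [CommRing A₁] [Algebra A A₁] (a : A) [IsLocalization.Away a A₁]
  (P : Ideal A) [P.IsPrime] (P₁ : Ideal A₁) [P₁.IsPrime] [hP₁ : P₁.LiesOver P]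

include a in
theorem away_residueField_bijective :
    Function.Bijective (Ideal.ResidueField.mapₐ P P₁ (Algebra.ofId A A₁) hP₁.over) :=
  RingHom.SurjectiveOnStalks.residueFieldMap_bijective
    (RingHom.surjectiveOnStalks_of_isLocalization (Submonoid.powers a) A₁) P P₁ hP₁.over

end RF

section Main

theorem shrink
    (R S : Type u) [CommRing R] [CommRing S] [Algebra R S] [Algebra.FiniteType R S]
    (N : Type u) [AddCommGroup N] [Module S N] [Module R N] [IsScalarTower R S N] [Module.Finite S N]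
    (p : Ideal R) [p.IsPrime] (q : Ideal S) [q.IsPrime] [hqp : q.LiesOver p]
    (C D G : Type u) [CommRing C] [CommRing D] [Algebra S C] [Algebra R C] [IsScalarTower R S C]
    [Algebra R D] [Algebra D C] [IsScalarTower R D C] [AddCommGroup G] [Module C G] [Module S G]
    [IsScalarTower S C G] (n : ℕ)
    (h : FlatCA.IsOneStepDevissage R S N p C D G n)
    (z : Ideal C) [z.IsPrime] (y : Ideal D) [y.IsPrime] [hzq : z.LiesOver q] [hzy : z.LiesOver y]
    [hyp : y.LiesOver p]
    (h1 : ∃ (ξ : PrimeSpectrum (p.Fiber S)) (hξ : ξ ∈ Module.support (p.Fiber S) (FlatCA.fiberMod p S N)),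
      ξ.asIdeal = FlatCA.fiberIdeal p q ∧
      FlatMor.localDim (Module.support (p.Fiber S) (FlatCA.fiberMod p S N)) ⟨ξ, hξ⟩ = n)
    (h3 : ∀ (z₁ : Ideal C) [z₁.IsPrime], z₁.LiesOver y → z₁ = z)
    (h4 : FlatCA.PurelyTranscendental p y)
    (R₁ S₁ C₁ D₁ : Type u) [CommRing R₁] [CommRing S₁] [CommRing C₁] [CommRing D₁]
    [Algebra R R₁]
    [Algebra R₁ S₁] [Algebra R S₁] [Algebra S S₁] [IsScalarTower R R₁ S₁] [IsScalarTower R S S₁]
    [Algebra R₁ C₁] [Algebra R C₁] [Algebra C C₁] [IsScalarTower R R₁ C₁] [IsScalarTower R C C₁]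
    [Algebra R₁ D₁] [Algebra R D₁] [Algebra D D₁] [IsScalarTower R R₁ D₁] [IsScalarTower R D D₁]
    [Algebra S₁ C₁] [IsScalarTower R₁ S₁ C₁] [Algebra S C₁] [IsScalarTower S S₁ C₁] [IsScalarTower S C C₁]
    [Algebra D₁ C₁] [IsScalarTower R₁ D₁ C₁] [Algebra D C₁] [IsScalarTower D D₁ C₁] [IsScalarTower D C C₁]
    [Algebra.IsPushout S S₁ C C₁] [Algebra.IsPushout D D₁ C C₁]
    (g : R) [IsLocalization.Away g R₁] (hX : S) [IsLocalization.Away hX S₁]
    (hY : D) [IsLocalization.Away hY D₁] (hZ : C) [IsLocalization.Away hZ C₁]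
    (hg : g ∉ p) (hhX : hX ∉ q) (hhY : hY ∉ y) (hhZ : hZ ∉ z)
    (N₁ : Type u) [AddCommGroup N₁] [Module S₁ N₁] [Module R₁ N₁] [IsScalarTower R₁ S₁ N₁]
    [Module S N₁] [IsScalarTower S S₁ N₁] (f : N →ₗ[S] N₁) (hf : IsBaseChange S₁ f)
    (G₁ : Type u) [AddCommGroup G₁] [Module C₁ G₁] [Module S₁ G₁] [IsScalarTower S₁ C₁ G₁]
    [Module C G₁] [IsScalarTower C C₁ G₁] (gG : G →ₗ[C] G₁) (hgG : IsBaseChange C₁ gG)
    (hsurj : Function.Surjective (PrimeSpectrum.comap (algebraMap R₁ D₁)))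
    [hp₁ : (p.map (algebraMap R R₁)).IsPrime] [hy₁ : (y.map (algebraMap D D₁)).IsPrime]
    [hy₁p₁ : (y.map (algebraMap D D₁)).LiesOver (p.map (algebraMap R R₁))] :
    FlatCA.IsOneStepDevissage R₁ S₁ N₁ (p.map (algebraMap R R₁)) C₁ D₁ G₁ n ∧
    (∃ (ξ : PrimeSpectrum ((p.map (algebraMap R R₁)).Fiber S₁))
        (hξ : ξ ∈ Module.support ((p.map (algebraMap R R₁)).Fiber S₁)
          (FlatCA.fiberMod (p.map (algebraMap R R₁)) S₁ N₁)),
      ξ.asIdeal = FlatCA.fiberIdeal (p.map (algebraMap R R₁)) (q.map (algebraMap S S₁)) ∧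
      FlatMor.localDim (Module.support ((p.map (algebraMap R R₁)).Fiber S₁)
        (FlatCA.fiberMod (p.map (algebraMap R R₁)) S₁ N₁)) ⟨ξ, hξ⟩ = n) ∧
    (z.map (algebraMap C C₁)).LiesOver (q.map (algebraMap S S₁)) ∧
    (z.map (algebraMap C C₁)).LiesOver (y.map (algebraMap D D₁)) ∧
    (∀ (z₂ : Ideal C₁) [z₂.IsPrime], z₂.LiesOver (y.map (algebraMap D D₁)) →
      z₂ = z.map (algebraMap C C₁)) ∧
    FlatCA.PurelyTranscendental (p.map (algebraMap R R₁)) (y.map (algebraMap D D₁)) := by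
  obtain ⟨⟨e⟩, hsurjSC, hfp, hfinDC, hfinCG, hsm, hirr, hdim⟩ := h
  -- primes and their contractions
  have hcp : (p.map (algebraMap R R₁)).comap (algebraMap R R₁) = p := away_comap_map g p hg
  haveI hq₁ : (q.map (algebraMap S S₁)).IsPrime := away_map_isPrime hX q hhX
  have hcq : (q.map (algebraMap S S₁)).comap (algebraMap S S₁) = q := away_comap_map hX q hhX
  haveI hz₁ : (z.map (algebraMap C C₁)).IsPrime := away_map_isPrime hZ z hhZ
  have hcz : (z.map (algebraMap C C₁)).comap (algebraMap C C₁) = z := away_comap_map hZ z hhZ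
  have hcy : (y.map (algebraMap D D₁)).comap (algebraMap D D₁) = y := away_comap_map hY y hhY
  haveI hp₁p : (p.map (algebraMap R R₁)).LiesOver p := ⟨hcp.symm⟩
  haveI hy₁y : (y.map (algebraMap D D₁)).LiesOver y := ⟨hcy.symm⟩
  haveI hq₁p₁ : (q.map (algebraMap S S₁)).LiesOver (p.map (algebraMap R R₁)) :=
    liesOver_of_square (A := R) (A₁ := R₁) (B := S) (B₁ := S₁) g _ _ q p hcq hcp
  have hz₁q₁ : (z.map (algebraMap C C₁)).LiesOver (q.map (algebraMap S S₁)) :=
    liesOver_of_square (A := S) (A₁ := S₁) (B := C) (B₁ := C₁) hX _ _ z q hcz hcq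
  have hz₁y₁ : (z.map (algebraMap C C₁)).LiesOver (y.map (algebraMap D D₁)) :=
    liesOver_of_square (A := D) (A₁ := D₁) (B := C) (B₁ := C₁) hY _ _ z y hcz hcy
  -- the fibre part
  have hfib := Groth.Agent.Lib.Seat55.ShrinkFib.fibre_shrink p N (p.map (algebraMap R R₁))
    (away_comap_injective (A₁ := R₁) g) N₁ f hf
    (PrimeSpectrum.localization_away_isOpenEmbedding S₁ hX) q n h1 hdim
    (q.map (algebraMap S S₁)) hcq
  -- scheme-level part
  haveI : IsOpenImmersion (Spec.map (CommRingCat.ofHom (algebraMap D D₁))) :=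
    IsOpenImmersion.of_isLocalization hY
  haveI : IsOpenImmersion (Spec.map (CommRingCat.ofHom (algebraMap R R₁))) :=
    IsOpenImmersion.of_isLocalization g
  have hsm₁ : FlatCA.SmoothRelDim n R₁ D₁ :=
    Groth.Agent.Lib.Seat55.ShrinkSch.smoothRelDim_shrink (R := R) (D := D) n hsm
  have hsurj' : Surjective (Spec.map (CommRingCat.ofHom (algebraMap R₁ D₁))) := ⟨hsurj⟩
  have hirr₁ : FlatCA.GeomIrredFibres R₁ D₁ :=
    Groth.Agent.Lib.Seat55.ShrinkSch.geomIrred_shrink (R := R) (D := D) hsurj' hirr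
  refine ⟨⟨Groth.Agent.Lib.Seat55.DevBC.nonempty_equiv_of_isBaseChange e f hf gG hgG,
    Groth.Agent.Lib.Seat55.DevBC.surjective_of_isPushout (S := S) (C := C) hsurjSC,
    Groth.Agent.Lib.Seat55.DevBC.finitePresentation_of_isPushout (S := S) (C := C),
    Groth.Agent.Lib.Seat55.DevBC.moduleFinite_of_isPushout (S := D) (C := C),
    Groth.Agent.Lib.Seat55.DevBC.moduleFinite_of_isBaseChange gG hgG,
    hsm₁, hirr₁, hfib.2⟩, hfib.1, hz₁q₁, hz₁y₁, ?_, ?_⟩
  · intro z₂ _ hz₂
    apply away_eq_of_comap_eq (A₁ := C₁) hZ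
    rw [hcz]
    haveI : (z₂.comap (algebraMap C C₁)).IsPrime := Ideal.comap_isPrime _ _
    apply h3
    constructor
    change y = (z₂.comap (algebraMap C C₁)).comap (algebraMap D C)
    have hz₂' : z₂.comap (algebraMap D₁ C₁) = y.map (algebraMap D D₁) := hz₂.over.symm
    rw [← comap_comap_square (A := D) (A₁ := D₁) (B := C) (B₁ := C₁) z₂, hz₂', hcy]
  · exact purelyTranscendental_of_bijective p (p.map (algebraMap R R₁)) y (y.map (algebraMap D D₁))
      (away_residueField_bijective g p _) (away_residueField_bijective hY y _) h4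

end Main

end Groth.Agent.Lib.Seat55.Shrink
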