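/-
Seat55ShrinkEx: existence ingredients for the standard shrinking of a one-step devissage
(open image of a smooth map, closed-map argument for a finite map with a unique point in
the fibre, algebra structures over `Localization.Away`, localizations at elements with the
same radical, surjectivity on spectra after shrinking, pushout squares of localizations).
-/
import Mathlib
import Groth.Prelude.Def_FlatCA
import Groth.Agent.Lib.Seat55Shrink

set_option autoImplicit false
set_option linter.style.haveILetI false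
set_option linter.unusedSectionVars false
universe u
open TensorProduct Topology CategoryTheory AlgebraicGeometry

namespace Groth.Agent.Lib.Seat55.ShrinkEx

theorem isOpenMap_comap_of_smoothRelDim {R D : Type u} [CommRing R] [CommRing D] [Algebra R D]
    (n : ℕ) (h : FlatCA.SmoothRelDim n R D) : IsOpenMap (PrimeSpectrum.comap (algebraMap R D)) := by
  haveI : SmoothOfRelativeDimension n (Spec.map (CommRingCat.ofHom (algebraMap R D))) := h
  haveI : Smooth (Spec.map (CommRingCat.ofHom (algebraMap R D))) :=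
    SmoothOfRelativeDimension.smooth n _
  exact (Spec.map (CommRingCat.ofHom (algebraMap R D))).isOpenMap

/-- existence of `g ∉ p` with `D(g)` in the image of `D(w)`. -/
theorem exists_basicOpen_subset_image {R D : Type u} [CommRing R] [CommRing D] [Algebra R D]
    (n : ℕ) (h : FlatCA.SmoothRelDim n R D) (p : Ideal R) [p.IsPrime] (y : Ideal D) [y.IsPrime]
    [hyp : y.LiesOver p] (w : D) (hw : w ∉ y) :
    ∃ g : R, g ∉ p ∧ ∀ t : PrimeSpectrum R, g ∉ t.asIdeal →
      ∃ P : PrimeSpectrum D, w ∉ P.asIdeal ∧ P.asIdeal.comap (algebraMap R D) = t.asIdeal := by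
  have hopen := isOpenMap_comap_of_smoothRelDim n h
  have hU : IsOpen (PrimeSpectrum.comap (algebraMap R D) '' (PrimeSpectrum.basicOpen w : Set _)) :=
    hopen _ (PrimeSpectrum.basicOpen w).2
  have hp : (⟨p, inferInstance⟩ : PrimeSpectrum R) ∈
      PrimeSpectrum.comap (algebraMap R D) '' (PrimeSpectrum.basicOpen w : Set _) :=
    ⟨⟨y, inferInstance⟩, hw, PrimeSpectrum.ext hyp.over.symm⟩
  obtain ⟨_, ⟨g, rfl⟩, hgp, hsub⟩ :=
    PrimeSpectrum.isTopologicalBasis_basic_opens.exists_subset_of_mem_open hp hU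
  refine ⟨g, hgp, fun t ht => ?_⟩
  obtain ⟨P, hP, hPt⟩ := hsub ht
  exact ⟨P, hP, congrArg PrimeSpectrum.asIdeal hPt⟩

/-- the closed-map argument: a neighbourhood of the unique point `z` over `y` contains the preimage
of a standard neighbourhood of `y`. -/
theorem exists_dvd_pow_of_unique {S C D : Type u} [CommRing S] [CommRing C] [CommRing D]
    [Algebra S C] [Algebra D C] [Module.Finite D C]
    (q : Ideal S) [q.IsPrime] (z : Ideal C) [z.IsPrime] (y : Ideal D) [y.IsPrime]
    [hzq : z.LiesOver q] [_hzy : z.LiesOver y]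
    (h3 : ∀ (z₁ : Ideal C) [z₁.IsPrime], z₁.LiesOver y → z₁ = z)
    (u : S) (hu : u ∉ q) :
    ∃ w : D, w ∉ y ∧ ∃ k : ℕ, algebraMap S C u ∣ (algebraMap D C w) ^ k := by
  have hint : (algebraMap D C).IsIntegral := algebraMap_isIntegral_iff.2 inferInstance
  have hclosed := PrimeSpectrum.isClosedMap_comap_of_isIntegral (algebraMap D C) hint
  set T : Set (PrimeSpectrum D) := PrimeSpectrum.comap (algebraMap D C) ''
    PrimeSpectrum.zeroLocus {algebraMap S C u} with hT
  have hTc : IsClosed T := hclosed _ (PrimeSpectrum.isClosed_zeroLocus _)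
  have hy : (⟨y, inferInstance⟩ : PrimeSpectrum D) ∈ Tᶜ := by
    rintro ⟨P, hP, hPy⟩
    have hPover : P.asIdeal.LiesOver y := ⟨(congrArg PrimeSpectrum.asIdeal hPy).symm⟩
    have hPz : P.asIdeal = z := h3 P.asIdeal hPover
    have : algebraMap S C u ∈ z := by
      rw [← hPz]; exact hP (Set.mem_singleton _)
    apply hu
    rw [hzq.over]
    exact this
  obtain ⟨_, ⟨w, rfl⟩, hwy, hsub⟩ :=
    PrimeSpectrum.isTopologicalBasis_basic_opens.exists_subset_of_mem_open hy hTc.isOpen_compl
  refine ⟨w, hwy, ?_⟩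
  have hrad : algebraMap D C w ∈ (Ideal.span {algebraMap S C u}).radical := by
    rw [Ideal.radical_eq_sInf, Ideal.mem_sInf]
    rintro J ⟨hJ, hJp⟩
    by_contra hwJ
    have h1 : PrimeSpectrum.comap (algebraMap D C) ⟨J, hJp⟩ ∈
        (PrimeSpectrum.basicOpen w : Set (PrimeSpectrum D)) := hwJ
    have h2 : PrimeSpectrum.comap (algebraMap D C) ⟨J, hJp⟩ ∈ T := by
      refine ⟨⟨J, hJp⟩, ?_, rfl⟩
      intro x hx
      rw [Set.mem_singleton_iff] at hx
      subst hx
      exact hJ (Ideal.subset_span (Set.mem_singleton _))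
    exact hsub h1 h2
  obtain ⟨k, hk⟩ := hrad
  exact ⟨k, Ideal.mem_span_singleton.1 hk⟩

section AwayAlg

variable {A : Type*} [CommRing A] (a : A) (B : Type*) [CommRing B] [Algebra A B]

/-- algebra structure over `A[1/a]` on an `A`-algebra in which `a` is invertible. -/
@[instance_reducible]
noncomputable def awayAlg (h : IsUnit (algebraMap A B a)) : Algebra (Localization.Away a) B :=
  (IsLocalization.Away.lift (S := Localization.Away a) a (g := algebraMap A B) h).toAlgebra

theorem awayAlg_tower (h : IsUnit (algebraMap A B a)) :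
    letI := awayAlg a B h
    IsScalarTower A (Localization.Away a) B :=
  letI := awayAlg a B h
  IsScalarTower.of_algebraMap_eq fun x => (IsLocalization.Away.lift_eq a h x).symm

theorem awayAlg_tower3 (B' : Type*) [CommRing B'] [Algebra A B'] [Algebra B B']
    [IsScalarTower A B B'] (h : IsUnit (algebraMap A B a)) (h' : IsUnit (algebraMap A B' a)) :
    letI := awayAlg a B h
    letI := awayAlg a B' h'
    IsScalarTower (Localization.Away a) B B' := by
  letI := awayAlg a B h
  letI := awayAlg a B' h'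
  haveI := awayAlg_tower a B h
  haveI := awayAlg_tower a B' h'
  refine IsScalarTower.of_algebraMap_eq' ?_
  apply IsLocalization.ringHom_ext (Submonoid.powers a)
  ext x
  simp only [RingHom.comp_apply]
  rw [← IsScalarTower.algebraMap_apply A (Localization.Away a) B',
    ← IsScalarTower.algebraMap_apply A (Localization.Away a) B,
    ← IsScalarTower.algebraMap_apply A B B']

theorem isUnit_of_dvd_away {A B : Type*} [CommRing A] [CommRing B] [Algebra A B] (b : A)
    [IsLocalization.Away b B] (a : A) (h : a ∣ b) : IsUnit (algebraMap A B a) :=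
  isUnit_of_dvd_unit (map_dvd _ h) (IsLocalization.Away.algebraMap_isUnit b)

end AwayAlg

section SR

/-- localizations away from two elements with the same radical coincide. -/
theorem away_of_dvd_of_dvd_pow {C T : Type*} [CommRing C] [CommRing T] [Algebra C T] (a b : C)
    [IsLocalization.Away a T] (h1 : b ∣ a) (k : ℕ) (h2 : a ∣ b ^ k) : IsLocalization.Away b T := by
  let N' : Submonoid C :=
    { carrier := {n | ∃ j : ℕ, n ∣ a ^ j}
      one_mem' := ⟨0, one_dvd _⟩
      mul_mem' := by
        rintro x y ⟨i, hi⟩ ⟨j, hj⟩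
        exact ⟨i + j, by rw [pow_add]; exact mul_dvd_mul hi hj⟩ }
  have hN' : IsLocalization N' T := by
    refine (IsLocalization.iff_of_le_of_exists_dvd (M := Submonoid.powers a) N' ?_ ?_).1
      inferInstance
    · rintro _ ⟨j, rfl⟩
      exact ⟨j, dvd_rfl⟩
    · rintro n ⟨j, hj⟩
      exact ⟨a ^ j, ⟨j, rfl⟩, hj⟩
  refine (IsLocalization.iff_of_le_of_exists_dvd (M := Submonoid.powers b) N' ?_ ?_).2 hN'
  · rintro _ ⟨j, rfl⟩
    exact ⟨j, pow_dvd_pow_of_dvd h1 j⟩
  · rintro n ⟨j, hj⟩
    refine ⟨b ^ (k * j), ⟨k * j, rfl⟩, hj.trans ?_⟩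
    rw [pow_mul]
    exact pow_dvd_pow_of_dvd h2 j

end SR

section Surj

variable {R D R₁ D₁ : Type u} [CommRing R] [CommRing D] [CommRing R₁] [CommRing D₁]
  [Algebra R R₁] [Algebra R D] [Algebra R₁ D₁] [Algebra R D₁] [Algebra D D₁]
  [IsScalarTower R R₁ D₁] [IsScalarTower R D D₁]

/-- `Spec D[1/(w g)] → Spec R[1/g]` is surjective when `D(g)` lies in the image of `D(w)`. -/
theorem comap_surjective_of_image (g : R) [IsLocalization.Away g R₁] (w : D)
    [IsLocalization.Away (w * algebraMap R D g) D₁]
    (himg : ∀ t : PrimeSpectrum R, g ∉ t.asIdeal →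
      ∃ P : PrimeSpectrum D, w ∉ P.asIdeal ∧ P.asIdeal.comap (algebraMap R D) = t.asIdeal) :
    Function.Surjective (PrimeSpectrum.comap (algebraMap R₁ D₁)) := by
  intro t₁
  have hgt : g ∉ (PrimeSpectrum.comap (algebraMap R R₁) t₁).asIdeal := by
    intro hmem
    have hunit : IsUnit (algebraMap R R₁ g) := IsLocalization.Away.algebraMap_isUnit g
    exact t₁.2.ne_top (Ideal.eq_top_of_isUnit_mem _ hmem hunit)
  obtain ⟨P, hwP, hPt⟩ := himg _ hgt
  have hYP : w * algebraMap R D g ∉ P.asIdeal := by
    intro hmem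
    rcases P.2.mem_or_mem hmem with h | h
    · exact hwP h
    · apply hgt
      rw [← hPt]
      exact h
  haveI hP₁ : (P.asIdeal.map (algebraMap D D₁)).IsPrime :=
    Groth.Agent.Lib.Seat55.Shrink.away_map_isPrime (w * algebraMap R D g) P.asIdeal hYP
  have hc : (P.asIdeal.map (algebraMap D D₁)).comap (algebraMap D D₁) = P.asIdeal :=
    Groth.Agent.Lib.Seat55.Shrink.away_comap_map (w * algebraMap R D g) P.asIdeal hYP
  refine ⟨⟨P.asIdeal.map (algebraMap D D₁), hP₁⟩, ?_⟩
  apply Groth.Agent.Lib.Seat55.Shrink.away_comap_injective (A₁ := R₁) g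
  apply PrimeSpectrum.ext
  change ((P.asIdeal.map (algebraMap D D₁)).comap (algebraMap R₁ D₁)).comap (algebraMap R R₁) = _
  rw [Groth.Agent.Lib.Seat55.Shrink.comap_comap_square (A := R) (A₁ := R₁) (B := D) (B₁ := D₁),
    hc, hPt]

end Surj

section PO

variable {S C S₁ C₁ : Type*} [CommRing S] [CommRing C] [CommRing S₁] [CommRing C₁]
  [Algebra S C] [Algebra S S₁] [Algebra C C₁] [Algebra S₁ C₁] [Algebra S C₁]
  [IsScalarTower S S₁ C₁] [IsScalarTower S C C₁]

/-- if `S₁ = S[1/s]` and `C₁ = C[1/s]` then `C₁ = C ⊗_S S₁`. -/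
theorem isPushout_of_away (s : S) [IsLocalization.Away s S₁]
    [IsLocalization.Away (algebraMap S C s) C₁] : Algebra.IsPushout S S₁ C C₁ := by
  haveI : IsLocalization (Algebra.algebraMapSubmonoid C (Submonoid.powers s)) C₁ := by
    have : Algebra.algebraMapSubmonoid C (Submonoid.powers s) =
        Submonoid.powers (algebraMap S C s) := by
      unfold Algebra.algebraMapSubmonoid
      rw [Submonoid.map_powers]
    rw [this]
    infer_instance
  exact (Algebra.isPushout_of_isLocalization (Submonoid.powers s) S₁ C C₁).symm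

end PO

end Groth.Agent.Lib.Seat55.ShrinkEx
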