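import Mathlib
import Groth.Prelude.Def_FlatCA
import Groth.Agent.Lib.Seat55Shrink
import Groth.Agent.Lib.Seat55ShrinkEx
import Groth.Agent.Lib.Seat55CDevGen

/-!
# Generic lemmas for shrinking a complete devissage (seat 55)

* `SameRad`, `away_of_sameRad`, `isUnit_of_sameRad`: localizations away from elements with the
  same radical;
* `fibre_bijective_of_comap_eq`: bijectivity on the residue field at `P` passes to a prime `P'`
  over `P` after base change;
* `localDim_shrink`: the local dimension of the fibre support is preserved by shrinking;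
* `exists_prime_tensor`: primes of a tensor product over compatible primes of the factors;
* `smooth_away`: smoothness of `R[1/g] → B[1/b]`;
* `unique_over_away`: uniqueness of the prime over `y` passes to localizations.
-/

set_option autoImplicit false
set_option linter.style.haveILetI false
set_option linter.unusedSectionVars false
universe u
open TensorProduct Topology CategoryTheory AlgebraicGeometry

namespace Groth.Agent.Lib.Seat55.CShrinkGen


section SR

/-- two elements with the same radical. -/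
def SameRad {A : Type*} [CommRing A] (x y : A) : Prop := (∃ j : ℕ, x ∣ y ^ j) ∧ ∃ k : ℕ, y ∣ x ^ k

theorem SameRad.symm {A : Type*} [CommRing A] {x y : A} (h : SameRad x y) : SameRad y x :=
  ⟨h.2, h.1⟩

theorem SameRad.refl {A : Type*} [CommRing A] (x : A) : SameRad x x :=
  ⟨⟨1, by rw [pow_one]⟩, ⟨1, by rw [pow_one]⟩⟩

/-- localizations away from two elements with the same radical coincide. -/
theorem away_of_sameRad {C T : Type*} [CommRing C] [CommRing T] [Algebra C T] (a b : C)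
    [IsLocalization.Away a T] (h : SameRad a b) : IsLocalization.Away b T := by
  obtain ⟨⟨j, hj⟩, ⟨k, hk⟩⟩ := h
  let N' : Submonoid C :=
    { carrier := {n | ∃ i : ℕ, n ∣ a ^ i}
      one_mem' := ⟨0, one_dvd _⟩
      mul_mem' := by
        rintro x y ⟨i, hi⟩ ⟨i', hi'⟩
        exact ⟨i + i', by rw [pow_add]; exact mul_dvd_mul hi hi'⟩ }
  have hN' : IsLocalization N' T := by
    refine (IsLocalization.iff_of_le_of_exists_dvd (M := Submonoid.powers a) N' ?_ ?_).1
      inferInstance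
    · rintro _ ⟨i, rfl⟩
      exact ⟨i, dvd_rfl⟩
    · rintro n ⟨i, hi⟩
      exact ⟨a ^ i, ⟨i, rfl⟩, hi⟩
  refine (IsLocalization.iff_of_le_of_exists_dvd (M := Submonoid.powers b) N' ?_ ?_).2 hN'
  · rintro _ ⟨i, rfl⟩
    refine ⟨k * i, ?_⟩
    rw [pow_mul]
    exact pow_dvd_pow_of_dvd hk i
  · rintro n ⟨i, hi⟩
    refine ⟨b ^ (j * i), ⟨j * i, rfl⟩, hi.trans ?_⟩
    rw [pow_mul]
    exact pow_dvd_pow_of_dvd hj i

theorem isUnit_of_sameRad {C T : Type*} [CommRing C] [CommRing T] [Algebra C T] (a b : C)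
    [IsLocalization.Away a T] (h : ∃ j : ℕ, b ∣ a ^ j) : IsUnit (algebraMap C T b) := by
  obtain ⟨j, hj⟩ := h
  exact isUnit_of_dvd_unit (map_dvd _ hj)
    (by rw [map_pow]; exact (IsLocalization.Away.algebraMap_isUnit a).pow j)

end SR

section Res

variable {B B' F M F' M' : Type*} [CommRing B] [CommRing B'] [Algebra B B']
  (P : Ideal B) [P.IsPrime] (P' : Ideal B') [P'.IsPrime]
  [AddCommGroup F] [AddCommGroup M] [Module B F] [Module B M]
  [AddCommGroup F'] [AddCommGroup M'] [Module B' F'] [Module B' M'] [Module B F'] [Module B M']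
  [IsScalarTower B B' F'] [IsScalarTower B B' M']

/-- bijectivity on the fibre at `P` passes to the fibre at a prime `P'` over `P` after base
change. -/
theorem fibre_bijective_of_comap_eq (hc : P = P'.comap (algebraMap B B'))
    (α : F →ₗ[B] M) (gF : F →ₗ[B] F') (gM : M →ₗ[B] M')
    (hgF : IsBaseChange B' gF) (hgM : IsBaseChange B' gM) (α' : F' →ₗ[B'] M')
    (hα' : ∀ x, α' (gF x) = gM (α x))
    (h : Function.Bijective (α.baseChange P.ResidueField)) :
    Function.Bijective (α'.baseChange P'.ResidueField) := by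
  let ψ : P.ResidueField →+* P'.ResidueField := Ideal.ResidueField.map _ _ (algebraMap B B') hc
  letI : Algebra P.ResidueField P'.ResidueField := ψ.toAlgebra
  letI : Algebra B P'.ResidueField :=
    ((algebraMap B' P'.ResidueField).comp (algebraMap B B')).toAlgebra
  haveI : IsScalarTower B B' P'.ResidueField := IsScalarTower.of_algebraMap_eq' rfl
  haveI : IsScalarTower B P.ResidueField P'.ResidueField :=
    IsScalarTower.of_algebraMap_eq fun x =>
      (Ideal.ResidueField.map_algebraMap _ _ (algebraMap B B') hc x).symm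
  have h1 := Groth.Agent.Lib.Seat55.CDevGen.baseChange_bijective_of_tower (K := P.ResidueField)
    (K' := P'.ResidueField) α h
  exact Groth.Agent.Lib.Seat55.CDevGen.baseChange_bijective_of_isBaseChange
    (K' := P'.ResidueField) α gF gM hgF hgM α' hα' h1

end Res



section LD

open Groth.Agent.Lib.Seat55.ShrinkFib

variable {R S : Type u} [CommRing R] [CommRing S] [Algebra R S] (p : Ideal R) [p.IsPrime]
  (N : Type u) [AddCommGroup N] [Module S N] [Module R N] [IsScalarTower R S N] [Module.Finite S N]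
  {R₁ S₁ : Type u} [CommRing R₁] [CommRing S₁] [Algebra R R₁] [Algebra R₁ S₁] [Algebra R S₁]
  [Algebra S S₁] [IsScalarTower R R₁ S₁] [IsScalarTower R S S₁]
  (p₁ : Ideal R₁) [p₁.IsPrime] [hp₁ : p₁.LiesOver p]
  (hinj : Function.Injective (PrimeSpectrum.comap (algebraMap R R₁)))
  (N₁ : Type u) [AddCommGroup N₁] [Module S₁ N₁] [Module R₁ N₁] [IsScalarTower R₁ S₁ N₁]
  [Module S N₁] [IsScalarTower S S₁ N₁] (f : N →ₗ[S] N₁) (hf : IsBaseChange S₁ f)
  (hopen : IsOpenEmbedding (PrimeSpectrum.comap (algebraMap S S₁)))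

include hinj hf hopen in
/-- the local dimension of the fibre support at `q` is preserved by shrinking. -/
theorem localDim_shrink (q : Ideal S) [q.IsPrime] [q.LiesOver p] (n : ℕ)
    (h1 : ∃ (ξ : PrimeSpectrum (p.Fiber S))
      (hξ : ξ ∈ Module.support (p.Fiber S) (FlatCA.fiberMod p S N)),
      ξ.asIdeal = FlatCA.fiberIdeal p q ∧
      FlatMor.localDim (Module.support (p.Fiber S) (FlatCA.fiberMod p S N)) ⟨ξ, hξ⟩ = n)
    (q₁ : Ideal S₁) [q₁.IsPrime] [q₁.LiesOver p₁] (hq₁ : q₁.comap (algebraMap S S₁) = q) :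
    ∃ (ξ₁ : PrimeSpectrum (p₁.Fiber S₁))
      (hξ₁ : ξ₁ ∈ Module.support (p₁.Fiber S₁) (FlatCA.fiberMod p₁ S₁ N₁)),
      ξ₁.asIdeal = FlatCA.fiberIdeal p₁ q₁ ∧
      FlatMor.localDim (Module.support (p₁.Fiber S₁) (FlatCA.fiberMod p₁ S₁ N₁)) ⟨ξ₁, hξ₁⟩ = n := by
  haveI hfin₁ : Module.Finite S₁ N₁ := Module.Finite.equiv hf.equiv
  obtain ⟨ξ, hξ, hξq, hloc⟩ := h1
  have hξeq : ξ = Groth.Agent.Lib.Seat55.DevAtBC.fiberPt p q :=
    PrimeSpectrum.ext (hξq.trans (Groth.Agent.Lib.Seat55.DevAtBC.fiberIdeal_eq p q))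
  let ξ₁ : PrimeSpectrum (p₁.Fiber S₁) := Groth.Agent.Lib.Seat55.DevAtBC.fiberPt p₁ q₁
  have hc : (contr p ξ).asIdeal = q := by
    rw [hξeq]; exact Groth.Agent.Lib.Seat55.DevAtBC.comap_fiberPt p q
  have hc₁ : (contr p₁ ξ₁).asIdeal = q₁ := Groth.Agent.Lib.Seat55.DevAtBC.comap_fiberPt p₁ q₁
  have hj : PrimeSpectrum.comap (algebraMap S S₁) (contr p₁ ξ₁) = contr p ξ := by
    apply PrimeSpectrum.ext
    rw [PrimeSpectrum.comap_asIdeal, hc₁, hc, hq₁]
  have hξ₁ : ξ₁ ∈ Module.support (p₁.Fiber S₁) (FlatCA.fiberMod p₁ S₁ N₁) := by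
    rw [mem_support_fiberMod_iff]
    refine ((mem_preimage_Tset_iff p N p₁ hinj N₁ f hf (contr p₁ ξ₁)).1 ?_).2
    rw [Set.mem_preimage, hj]
    exact ⟨comap_contr p ξ, (mem_support_fiberMod_iff p N ξ).1 hξ⟩
  have hε : eps p N p₁ hinj N₁ f hf ⟨ξ₁, hξ₁⟩ = ⟨ξ, hξ⟩ := by
    apply Subtype.ext
    apply Groth.Agent.Lib.Seat55.DevAtBC.fiber_ext
    have := contr_eps p N p₁ hinj N₁ f hf ⟨ξ₁, hξ₁⟩
    rw [hj] at this
    exact congrArg PrimeSpectrum.asIdeal this
  have hopenε := isOpenEmbedding_eps p N p₁ hinj N₁ f hf hopen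
  have hloc₁ : FlatMor.localDim (Module.support (p₁.Fiber S₁) (FlatCA.fiberMod p₁ S₁ N₁))
      ⟨ξ₁, hξ₁⟩ = n := by
    rw [Groth.Agent.Lib.Seat55.ShrinkTop.localDim_eq_of_isOpenEmbedding hopenε, hε, hloc]
  exact ⟨ξ₁, hξ₁, (Groth.Agent.Lib.Seat55.DevAtBC.fiberIdeal_eq p₁ q₁).symm, hloc₁⟩

end LD

section TP

variable (R' X Y : Type u) [CommRing R'] [CommRing X] [CommRing Y] [Algebra R' X] [Algebra R' Y]

/-- a prime of `X ⊗ Y` over given primes of `X` and `Y` with the same contraction. -/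
theorem exists_prime_tensor (P : Ideal X) [P.IsPrime] (Q : Ideal Y) [Q.IsPrime]
    (h : P.comap (algebraMap R' X) = Q.comap (algebraMap R' Y)) :
    ∃ W : Ideal (X ⊗[R'] Y), W.IsPrime ∧
      W.comap (Algebra.TensorProduct.includeRight : Y →ₐ[R'] X ⊗[R'] Y).toRingHom = Q := by
  let f := Spec.map (CommRingCat.ofHom (algebraMap R' X))
  let g := Spec.map (CommRingCat.ofHom (algebraMap R' Y))
  let x : ↥(Spec (CommRingCat.of X)) := (⟨P, inferInstance⟩ : PrimeSpectrum X)
  let y : ↥(Spec (CommRingCat.of Y)) := (⟨Q, inferInstance⟩ : PrimeSpectrum Y)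
  have hxy : f x = g y := PrimeSpectrum.ext h
  obtain ⟨z, hz1, hz2⟩ := Scheme.Pullback.exists_preimage_pullback x y hxy
  let e := pullbackSpecIso R' X Y
  let w : PrimeSpectrum (X ⊗[R'] Y) := e.hom z
  refine ⟨w.asIdeal, w.2, ?_⟩
  have h2 : (Spec.map (CommRingCat.ofHom
      (RingHomClass.toRingHom (Algebra.TensorProduct.includeRight : Y →ₐ[R'] X ⊗[R'] Y)))) (e.hom z)
      = y := by
    rw [← Scheme.Hom.comp_apply, pullbackSpecIso_hom_snd]
    exact hz2
  exact congrArg PrimeSpectrum.asIdeal h2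

end TP



section Sm

variable {R B Rg Bt : Type u} [CommRing R] [CommRing B] [CommRing Rg] [CommRing Bt]
  [Algebra R B] [Algebra R Rg] [Algebra Rg Bt] [Algebra R Bt] [Algebra B Bt]
  [IsScalarTower R Rg Bt] [IsScalarTower R B Bt]

/-- smoothness of `R[1/g] → B[1/b]`. -/
theorem smooth_away (g : R) [IsLocalization.Away g Rg] (b : B) [IsLocalization.Away b Bt]
    [Algebra.Smooth R B] : Algebra.Smooth Rg Bt := by
  haveI : Algebra.Smooth B Bt := Algebra.Smooth.of_isLocalization_Away b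
  haveI : Algebra.Smooth R Bt := Algebra.Smooth.comp R B Bt
  haveI : Algebra.FormallySmooth Rg Bt :=
    Algebra.FormallySmooth.localization_base (Submonoid.powers g)
  haveI : Algebra.FiniteType R Rg := IsLocalization.finiteType_of_monoid_fg (Submonoid.powers g) Rg
  haveI : Algebra.FinitePresentation Rg Bt :=
    Algebra.FinitePresentation.of_restrict_scalars_finitePresentation R Rg Bt
  exact ⟨inferInstance, inferInstance⟩

end Sm

section Uq

open Groth.Agent.Lib.Seat55.Shrink

variable {D D₁ C C₁ : Type*} [CommRing D] [CommRing D₁] [CommRing C] [CommRing C₁]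
  [Algebra D D₁] [Algebra D C] [Algebra D₁ C₁] [Algebra D C₁] [Algebra C C₁]
  [IsScalarTower D D₁ C₁] [IsScalarTower D C C₁]

/-- uniqueness of the prime over `y` passes to the localizations. -/
theorem unique_over_away (hY : D) [IsLocalization.Away hY D₁] (hZ : C) [IsLocalization.Away hZ C₁]
    (y : Ideal D) [y.IsPrime] (hhY : hY ∉ y) (z : Ideal C) [z.IsPrime] (hhZ : hZ ∉ z)
    (h3 : ∀ (z₁ : Ideal C) [z₁.IsPrime], z₁.LiesOver y → z₁ = z)
    (z₂ : Ideal C₁) [z₂.IsPrime] (hz₂ : z₂.LiesOver (y.map (algebraMap D D₁))) :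
    z₂ = z.map (algebraMap C C₁) := by
  have hcz : (z.map (algebraMap C C₁)).comap (algebraMap C C₁) = z := away_comap_map hZ z hhZ
  have hcy : (y.map (algebraMap D D₁)).comap (algebraMap D D₁) = y := away_comap_map hY y hhY
  haveI : (z.map (algebraMap C C₁)).IsPrime := away_map_isPrime hZ z hhZ
  apply away_eq_of_comap_eq (A₁ := C₁) hZ
  rw [hcz]
  haveI : (z₂.comap (algebraMap C C₁)).IsPrime := Ideal.comap_isPrime _ _
  apply h3
  constructor
  change y = (z₂.comap (algebraMap C C₁)).comap (algebraMap D C)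
  have hz₂' : z₂.comap (algebraMap D₁ C₁) = y.map (algebraMap D D₁) := hz₂.over.symm
  rw [← comap_comap_square (A := D) (A₁ := D₁) (B := C) (B₁ := C₁) z₂, hz₂', hcy]

end Uq

end Groth.Agent.Lib.Seat55.CShrinkGen
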