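/-
Seat55CShrinkA: data of a standard shrinking of a complete devissage at a point (`SD`), the
localized rings `Bt i`, `At i`, modules `Mt i` with all their algebra / module / tower instances,
and the uniform "previous ring" families `PrevBase` (`S`, `B 0`, `B 1`, ...) and `Prev`
(their localizations) used to treat `S → A 0` and `B i → A (i+1)` at once.
-/
import Mathlib
import Groth.Prelude.Def_FlatCA
import Groth.Agent.Lib.Seat55Shrink
import Groth.Agent.Lib.Seat55ShrinkEx
import Groth.Agent.Lib.Seat55CDevGen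
import Groth.Agent.Lib.Seat55CDev
import Groth.Agent.Lib.Seat55CShrinkGen

set_option autoImplicit false
set_option linter.unusedVariables false
set_option linter.style.haveILetI false
set_option linter.unusedSectionVars false
universe u
open TensorProduct

namespace Groth.Agent.Lib.Seat55.CShrink

open Groth.Agent.Lib.Seat55.CShrinkGen Groth.Agent.Lib.Seat55.ShrinkEx Groth.Agent.Lib.Seat55.Shrink
open Groth.Agent.Lib.Seat55.CDev (tower_of_towers)

variable {R S : Type u} [CommRing R] [CommRing S] [Algebra R S] {N : Type u} [AddCommGroup N]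
  [Module S N] {p : Ideal R} [p.IsPrime] {q : Ideal S} [q.IsPrime]

/-- the data of a standard shrinking of a complete dévissage at a point. -/
structure SD (𝒟 : FlatCA.CompleteDevissage R S N p)
    (𝒜 : FlatCA.CompleteDevissageAt R S N p q 𝒟) where
  /-- the element of the base -/
  g : R
  /-- the element of the top ring -/
  hX : S
  /-- the elements of the rings carrying the modules -/
  a : ∀ i, 𝒟.A i
  /-- the elements of the smooth algebras -/
  b : ∀ i, 𝒟.B i
  hg : g ∉ p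
  hhX : hX ∉ q
  hb : ∀ i, b i ∉ 𝒜.qB i
  ha : ∀ i, i < 𝒟.n → a i ∉ 𝒜.qA i
  gX : algebraMap R S g ∣ hX
  gb : ∀ i, algebraMap R (𝒟.B i) g ∣ b i
  ba : ∀ i, ∃ k : ℕ, algebraMap (𝒟.B i) (𝒟.A i) (b i) ∣ a i ^ k
  ba1 : ∀ i, ∃ k : ℕ, algebraMap (𝒟.B i) (𝒟.A (i + 1)) (b i) ∣ a (i + 1) ^ k
  Xa : ∃ k : ℕ, algebraMap S (𝒟.A 0) hX ∣ a 0 ^ k
  radBA : ∀ i, i < 𝒟.n → ∃ k : ℕ, a i ∣ algebraMap (𝒟.B i) (𝒟.A i) (b i) ^ k
  radBA1 : ∀ i, i + 1 < 𝒟.n → ∃ k : ℕ, a (i + 1) ∣ algebraMap (𝒟.B i) (𝒟.A (i + 1)) (b i) ^ k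
  radXa : ∃ k : ℕ, a 0 ∣ algebraMap S (𝒟.A 0) hX ^ k
  himg : ∀ i, i < 𝒟.n → ∀ t : PrimeSpectrum R, g ∉ t.asIdeal →
    ∃ P : PrimeSpectrum (𝒟.B i), b i ∉ P.asIdeal ∧
      P.asIdeal.comap (algebraMap R (𝒟.B i)) = t.asIdeal

variable {𝒟 : FlatCA.CompleteDevissage R S N p} {𝒜 : FlatCA.CompleteDevissageAt R S N p q 𝒟}
  (sd : SD 𝒟 𝒜)

/-- the shrunken base -/
abbrev Rg : Type u := Localization.Away sd.g

/-- the shrunken top ring -/
abbrev Sx : Type u := Localization.Away sd.hX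

/-- the shrunken module -/
abbrev Nx : Type u := LocalizedModule (Submonoid.powers sd.hX) N

/-- the shrunken smooth algebras -/
def Bt (i : ℕ) : Type u := Localization.Away (sd.b i)

/-- the shrunken rings carrying the modules -/
def At (i : ℕ) : Type u := Localization.Away (sd.a i)

/-- the shrunken modules -/
def Mt (i : ℕ) : Type u := LocalizedModule (Submonoid.powers (sd.a i)) (𝒟.M i)

section Inst

noncomputable instance (i : ℕ) : CommRing (Bt sd i) :=
  inferInstanceAs (CommRing (Localization.Away (sd.b i)))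

noncomputable instance algBBt (i : ℕ) : Algebra (𝒟.B i) (Bt sd i) :=
  inferInstanceAs (Algebra (𝒟.B i) (Localization.Away (sd.b i)))

noncomputable instance algRBt (i : ℕ) : Algebra R (Bt sd i) :=
  inferInstanceAs (Algebra R (Localization.Away (sd.b i)))

instance (i : ℕ) : IsScalarTower R (𝒟.B i) (Bt sd i) :=
  inferInstanceAs (IsScalarTower R (𝒟.B i) (Localization.Away (sd.b i)))

instance (i : ℕ) : IsLocalization.Away (sd.b i) (Bt sd i) :=
  inferInstanceAs (IsLocalization.Away (sd.b i) (Localization.Away (sd.b i)))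

noncomputable instance (i : ℕ) : CommRing (At sd i) :=
  inferInstanceAs (CommRing (Localization.Away (sd.a i)))

noncomputable instance algAAt (i : ℕ) : Algebra (𝒟.A i) (At sd i) :=
  inferInstanceAs (Algebra (𝒟.A i) (Localization.Away (sd.a i)))

noncomputable instance algRAt (i : ℕ) : Algebra R (At sd i) :=
  inferInstanceAs (Algebra R (Localization.Away (sd.a i)))

instance (i : ℕ) : IsScalarTower R (𝒟.A i) (At sd i) :=
  inferInstanceAs (IsScalarTower R (𝒟.A i) (Localization.Away (sd.a i)))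

noncomputable instance algBAt (i : ℕ) : Algebra (𝒟.B i) (At sd i) :=
  inferInstanceAs (Algebra (𝒟.B i) (Localization.Away (sd.a i)))

instance (i : ℕ) : IsScalarTower (𝒟.B i) (𝒟.A i) (At sd i) :=
  inferInstanceAs (IsScalarTower (𝒟.B i) (𝒟.A i) (Localization.Away (sd.a i)))

instance (i : ℕ) : IsLocalization.Away (sd.a i) (At sd i) :=
  inferInstanceAs (IsLocalization.Away (sd.a i) (Localization.Away (sd.a i)))

noncomputable instance algBAt1 (i : ℕ) : Algebra (𝒟.B i) (At sd (i + 1)) :=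
  inferInstanceAs (Algebra (𝒟.B i) (Localization.Away (sd.a (i + 1))))

instance (i : ℕ) : IsScalarTower (𝒟.B i) (𝒟.A (i + 1)) (At sd (i + 1)) :=
  inferInstanceAs (IsScalarTower (𝒟.B i) (𝒟.A (i + 1)) (Localization.Away (sd.a (i + 1))))

noncomputable instance algSAt : Algebra S (At sd 0) :=
  inferInstanceAs (Algebra S (Localization.Away (sd.a 0)))

instance : IsScalarTower S (𝒟.A 0) (At sd 0) :=
  inferInstanceAs (IsScalarTower S (𝒟.A 0) (Localization.Away (sd.a 0)))

instance : IsScalarTower R S (At sd 0) :=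
  IsScalarTower.of_algebraMap_eq fun r => by
    rw [IsScalarTower.algebraMap_apply R (𝒟.A 0) (At sd 0),
      IsScalarTower.algebraMap_apply S (𝒟.A 0) (At sd 0),
      ← IsScalarTower.algebraMap_apply R S (𝒟.A 0)]

instance (i : ℕ) : IsScalarTower R (𝒟.B i) (At sd i) :=
  IsScalarTower.of_algebraMap_eq fun r => by
    rw [IsScalarTower.algebraMap_apply R (𝒟.A i) (At sd i),
      IsScalarTower.algebraMap_apply (𝒟.B i) (𝒟.A i) (At sd i),
      ← IsScalarTower.algebraMap_apply R (𝒟.B i) (𝒟.A i)]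

instance (i : ℕ) : IsScalarTower R (𝒟.B i) (At sd (i + 1)) :=
  IsScalarTower.of_algebraMap_eq fun r => by
    rw [IsScalarTower.algebraMap_apply R (𝒟.A (i + 1)) (At sd (i + 1)),
      IsScalarTower.algebraMap_apply (𝒟.B i) (𝒟.A (i + 1)) (At sd (i + 1)),
      ← IsScalarTower.algebraMap_apply R (𝒟.B i) (𝒟.A (i + 1))]

end Inst

section Units

theorem ugS : IsUnit (algebraMap R (Sx sd) sd.g) := by
  rw [IsScalarTower.algebraMap_apply R S (Sx sd)]
  exact isUnit_of_dvd_away sd.hX _ sd.gX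

theorem ugB (i : ℕ) : IsUnit (algebraMap R (Bt sd i) sd.g) := by
  rw [IsScalarTower.algebraMap_apply R (𝒟.B i) (Bt sd i)]
  exact isUnit_of_dvd_away (sd.b i) _ (sd.gb i)

theorem ubA (i : ℕ) : IsUnit (algebraMap (𝒟.B i) (At sd i) (sd.b i)) := by
  rw [IsScalarTower.algebraMap_apply (𝒟.B i) (𝒟.A i) (At sd i)]
  exact isUnit_of_sameRad (sd.a i) _ (sd.ba i)

theorem ugA (i : ℕ) : IsUnit (algebraMap R (At sd i) sd.g) := by
  rw [IsScalarTower.algebraMap_apply R (𝒟.B i) (At sd i)]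
  exact isUnit_of_dvd_unit (map_dvd _ (sd.gb i)) (ubA sd i)

theorem ubA1 (i : ℕ) : IsUnit (algebraMap (𝒟.B i) (At sd (i + 1)) (sd.b i)) := by
  rw [IsScalarTower.algebraMap_apply (𝒟.B i) (𝒟.A (i + 1)) (At sd (i + 1))]
  exact isUnit_of_sameRad (sd.a (i + 1)) _ (sd.ba1 i)

theorem uXA : IsUnit (algebraMap S (At sd 0) sd.hX) := by
  rw [IsScalarTower.algebraMap_apply S (𝒟.A 0) (At sd 0)]
  exact isUnit_of_sameRad (sd.a 0) _ sd.Xa

end Units

section Inst2

noncomputable instance algRgSx : Algebra (Rg sd) (Sx sd) := awayAlg sd.g (Sx sd) (ugS sd)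

instance : IsScalarTower R (Rg sd) (Sx sd) := awayAlg_tower sd.g (Sx sd) (ugS sd)

noncomputable instance algRgBt (i : ℕ) : Algebra (Rg sd) (Bt sd i) :=
  awayAlg sd.g (Bt sd i) (ugB sd i)

instance (i : ℕ) : IsScalarTower R (Rg sd) (Bt sd i) := awayAlg_tower sd.g (Bt sd i) (ugB sd i)

noncomputable instance algRgAt (i : ℕ) : Algebra (Rg sd) (At sd i) :=
  awayAlg sd.g (At sd i) (ugA sd i)

instance (i : ℕ) : IsScalarTower R (Rg sd) (At sd i) := awayAlg_tower sd.g (At sd i) (ugA sd i)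

noncomputable instance algBtAt (i : ℕ) : Algebra (Bt sd i) (At sd i) :=
  (awayAlg (sd.b i) (At sd i) (ubA sd i) : Algebra (Localization.Away (sd.b i)) (At sd i))

instance (i : ℕ) : IsScalarTower (𝒟.B i) (Bt sd i) (At sd i) :=
  awayAlg_tower (sd.b i) (At sd i) (ubA sd i)

instance (i : ℕ) : IsScalarTower R (Bt sd i) (At sd i) :=
  IsScalarTower.of_algebraMap_eq fun r => by
    rw [IsScalarTower.algebraMap_apply R (𝒟.B i) (Bt sd i),
      ← IsScalarTower.algebraMap_apply (𝒟.B i) (Bt sd i) (At sd i),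
      ← IsScalarTower.algebraMap_apply R (𝒟.B i) (At sd i)]

instance (i : ℕ) : IsScalarTower (Rg sd) (Bt sd i) (At sd i) :=
  awayAlg_tower3 sd.g (Bt sd i) (At sd i) (ugB sd i) (ugA sd i)

noncomputable instance algBtAt1 (i : ℕ) : Algebra (Bt sd i) (At sd (i + 1)) :=
  (awayAlg (sd.b i) (At sd (i + 1)) (ubA1 sd i) :
    Algebra (Localization.Away (sd.b i)) (At sd (i + 1)))

instance (i : ℕ) : IsScalarTower (𝒟.B i) (Bt sd i) (At sd (i + 1)) :=
  awayAlg_tower (sd.b i) (At sd (i + 1)) (ubA1 sd i)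

instance (i : ℕ) : IsScalarTower R (Bt sd i) (At sd (i + 1)) :=
  IsScalarTower.of_algebraMap_eq fun r => by
    rw [IsScalarTower.algebraMap_apply R (𝒟.B i) (Bt sd i),
      ← IsScalarTower.algebraMap_apply (𝒟.B i) (Bt sd i) (At sd (i + 1)),
      ← IsScalarTower.algebraMap_apply R (𝒟.B i) (At sd (i + 1))]

instance (i : ℕ) : IsScalarTower (Rg sd) (Bt sd i) (At sd (i + 1)) :=
  awayAlg_tower3 sd.g (Bt sd i) (At sd (i + 1)) (ugB sd i) (ugA sd (i + 1))

noncomputable instance algSxAt : Algebra (Sx sd) (At sd 0) := awayAlg sd.hX (At sd 0) (uXA sd)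

instance : IsScalarTower S (Sx sd) (At sd 0) := awayAlg_tower sd.hX (At sd 0) (uXA sd)

instance : IsScalarTower R (Sx sd) (At sd 0) :=
  IsScalarTower.of_algebraMap_eq fun r => by
    rw [IsScalarTower.algebraMap_apply R S (Sx sd),
      ← IsScalarTower.algebraMap_apply S (Sx sd) (At sd 0),
      ← IsScalarTower.algebraMap_apply R S (At sd 0)]

instance : IsScalarTower (Rg sd) (Sx sd) (At sd 0) :=
  awayAlg_tower3 sd.g (Sx sd) (At sd 0) (ugS sd) (ugA sd 0)

end Inst2

section PrevSec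

/-- the ring mapping onto `A i`: `S` for `i = 0`, `B (i - 1)` otherwise. -/
def PrevBase (𝒟 : FlatCA.CompleteDevissage R S N p) : ℕ → Type u
  | 0 => S
  | (i + 1) => 𝒟.B i

noncomputable instance instCRPB : ∀ i, CommRing (PrevBase 𝒟 i)
  | 0 => inferInstanceAs (CommRing S)
  | (i + 1) => inferInstanceAs (CommRing (𝒟.B i))

noncomputable instance algRPB : ∀ i, Algebra R (PrevBase 𝒟 i)
  | 0 => inferInstanceAs (Algebra R S)
  | (i + 1) => inferInstanceAs (Algebra R (𝒟.B i))

noncomputable instance algPBA : ∀ i, Algebra (PrevBase 𝒟 i) (𝒟.A i)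
  | 0 => inferInstanceAs (Algebra S (𝒟.A 0))
  | (i + 1) => inferInstanceAs (Algebra (𝒟.B i) (𝒟.A (i + 1)))

instance towRPBA : ∀ i, IsScalarTower R (PrevBase 𝒟 i) (𝒟.A i)
  | 0 => inferInstanceAs (IsScalarTower R S (𝒟.A 0))
  | (i + 1) => inferInstanceAs (IsScalarTower R (𝒟.B i) (𝒟.A (i + 1)))

/-- the shrunken version of `PrevBase`. -/
def Prev : ℕ → Type u
  | 0 => Sx sd
  | (i + 1) => Bt sd i

noncomputable instance instCRP : ∀ i, CommRing (Prev sd i)
  | 0 => inferInstanceAs (CommRing (Sx sd))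
  | (i + 1) => inferInstanceAs (CommRing (Bt sd i))

noncomputable instance algRgP : ∀ i, Algebra (Rg sd) (Prev sd i)
  | 0 => inferInstanceAs (Algebra (Rg sd) (Sx sd))
  | (i + 1) => inferInstanceAs (Algebra (Rg sd) (Bt sd i))

noncomputable instance algRP : ∀ i, Algebra R (Prev sd i)
  | 0 => inferInstanceAs (Algebra R (Sx sd))
  | (i + 1) => inferInstanceAs (Algebra R (Bt sd i))

instance towRRgP : ∀ i, IsScalarTower R (Rg sd) (Prev sd i)
  | 0 => inferInstanceAs (IsScalarTower R (Rg sd) (Sx sd))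
  | (i + 1) => inferInstanceAs (IsScalarTower R (Rg sd) (Bt sd i))

noncomputable instance algPBP : ∀ i, Algebra (PrevBase 𝒟 i) (Prev sd i)
  | 0 => inferInstanceAs (Algebra S (Sx sd))
  | (i + 1) => inferInstanceAs (Algebra (𝒟.B i) (Bt sd i))

instance towRPBP : ∀ i, IsScalarTower R (PrevBase 𝒟 i) (Prev sd i)
  | 0 => inferInstanceAs (IsScalarTower R S (Sx sd))
  | (i + 1) => inferInstanceAs (IsScalarTower R (𝒟.B i) (Bt sd i))

/-- the element inverted in `Prev`. -/
def prevElt : ∀ i, PrevBase 𝒟 i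
  | 0 => sd.hX
  | (i + 1) => sd.b i

instance locP : ∀ i, IsLocalization.Away (prevElt sd i) (Prev sd i)
  | 0 => inferInstanceAs (IsLocalization.Away sd.hX (Sx sd))
  | (i + 1) => inferInstanceAs (IsLocalization.Away (sd.b i) (Bt sd i))

noncomputable instance algPBAt : ∀ i, Algebra (PrevBase 𝒟 i) (At sd i)
  | 0 => inferInstanceAs (Algebra S (At sd 0))
  | (i + 1) => inferInstanceAs (Algebra (𝒟.B i) (At sd (i + 1)))

instance towPBAAt : ∀ i, IsScalarTower (PrevBase 𝒟 i) (𝒟.A i) (At sd i)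
  | 0 => inferInstanceAs (IsScalarTower S (𝒟.A 0) (At sd 0))
  | (i + 1) => inferInstanceAs (IsScalarTower (𝒟.B i) (𝒟.A (i + 1)) (At sd (i + 1)))

noncomputable instance algPAt : ∀ i, Algebra (Prev sd i) (At sd i)
  | 0 => inferInstanceAs (Algebra (Sx sd) (At sd 0))
  | (i + 1) => inferInstanceAs (Algebra (Bt sd i) (At sd (i + 1)))

instance towPBPAt : ∀ i, IsScalarTower (PrevBase 𝒟 i) (Prev sd i) (At sd i)
  | 0 => inferInstanceAs (IsScalarTower S (Sx sd) (At sd 0))
  | (i + 1) => inferInstanceAs (IsScalarTower (𝒟.B i) (Bt sd i) (At sd (i + 1)))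

instance towRgPAt : ∀ i, IsScalarTower (Rg sd) (Prev sd i) (At sd i)
  | 0 => inferInstanceAs (IsScalarTower (Rg sd) (Sx sd) (At sd 0))
  | (i + 1) => inferInstanceAs (IsScalarTower (Rg sd) (Bt sd i) (At sd (i + 1)))

end PrevSec

section Mod

noncomputable instance (i : ℕ) : AddCommGroup (Mt sd i) :=
  inferInstanceAs (AddCommGroup (LocalizedModule (Submonoid.powers (sd.a i)) (𝒟.M i)))

noncomputable instance modAtMt (i : ℕ) : Module (At sd i) (Mt sd i) :=
  inferInstanceAs (Module (Localization.Away (sd.a i))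
    (LocalizedModule (Submonoid.powers (sd.a i)) (𝒟.M i)))

noncomputable instance modAMt (i : ℕ) : Module (𝒟.A i) (Mt sd i) :=
  inferInstanceAs (Module (𝒟.A i) (LocalizedModule (Submonoid.powers (sd.a i)) (𝒟.M i)))

instance (i : ℕ) : IsScalarTower (𝒟.A i) (At sd i) (Mt sd i) :=
  inferInstanceAs (IsScalarTower (𝒟.A i) (Localization.Away (sd.a i))
    (LocalizedModule (Submonoid.powers (sd.a i)) (𝒟.M i)))

/-- the localization maps `M i → Mt i`. -/
noncomputable def gM (i : ℕ) : 𝒟.M i →ₗ[𝒟.A i] Mt sd i :=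
  LocalizedModule.mkLinearMap (Submonoid.powers (sd.a i)) (𝒟.M i)

instance isLocalizedModule_gM (i : ℕ) : IsLocalizedModule (Submonoid.powers (sd.a i)) (gM sd i) :=
  inferInstanceAs (IsLocalizedModule (Submonoid.powers (sd.a i))
    (LocalizedModule.mkLinearMap (Submonoid.powers (sd.a i)) (𝒟.M i)))

theorem isBaseChange_gM (i : ℕ) : IsBaseChange (At sd i) (gM sd i) :=
  IsLocalizedModule.isBaseChange (Submonoid.powers (sd.a i)) (At sd i) (gM sd i)

noncomputable instance modRgMt (i : ℕ) : Module (Rg sd) (Mt sd i) :=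
  Module.compHom _ (algebraMap (Rg sd) (At sd i))

instance (i : ℕ) : IsScalarTower (Rg sd) (At sd i) (Mt sd i) :=
  IsScalarTower.of_algebraMap_smul fun _ _ => rfl

noncomputable instance modBMt (i : ℕ) : Module (𝒟.B i) (Mt sd i) :=
  Module.compHom _ (algebraMap (𝒟.B i) (At sd i))

instance (i : ℕ) : IsScalarTower (𝒟.B i) (At sd i) (Mt sd i) :=
  IsScalarTower.of_algebraMap_smul fun _ _ => rfl

instance (i : ℕ) : IsScalarTower (𝒟.B i) (𝒟.A i) (Mt sd i) :=
  tower_of_towers (𝒟.B i) (𝒟.A i) (At sd i) (Mt sd i)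

noncomputable instance modBtMt (i : ℕ) : Module (Bt sd i) (Mt sd i) :=
  Module.compHom _ (algebraMap (Bt sd i) (At sd i))

instance (i : ℕ) : IsScalarTower (Bt sd i) (At sd i) (Mt sd i) :=
  IsScalarTower.of_algebraMap_smul fun _ _ => rfl

instance (i : ℕ) : IsScalarTower (Rg sd) (Bt sd i) (Mt sd i) :=
  tower_of_towers (Rg sd) (Bt sd i) (At sd i) (Mt sd i)

instance (i : ℕ) : IsScalarTower (𝒟.B i) (Bt sd i) (Mt sd i) :=
  tower_of_towers (𝒟.B i) (Bt sd i) (At sd i) (Mt sd i)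

noncomputable instance modPBMt : ∀ i, Module (PrevBase 𝒟 i) (Mt sd i) := fun i =>
  Module.compHom _ (algebraMap (PrevBase 𝒟 i) (At sd i))

instance (i : ℕ) : IsScalarTower (PrevBase 𝒟 i) (At sd i) (Mt sd i) :=
  IsScalarTower.of_algebraMap_smul fun _ _ => rfl

instance (i : ℕ) : IsScalarTower (PrevBase 𝒟 i) (𝒟.A i) (Mt sd i) :=
  tower_of_towers (PrevBase 𝒟 i) (𝒟.A i) (At sd i) (Mt sd i)

noncomputable instance modPMt : ∀ i, Module (Prev sd i) (Mt sd i) := fun i =>
  Module.compHom _ (algebraMap (Prev sd i) (At sd i))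

instance (i : ℕ) : IsScalarTower (Prev sd i) (At sd i) (Mt sd i) :=
  IsScalarTower.of_algebraMap_smul fun _ _ => rfl

instance (i : ℕ) : IsScalarTower (PrevBase 𝒟 i) (Prev sd i) (Mt sd i) :=
  tower_of_towers (PrevBase 𝒟 i) (Prev sd i) (At sd i) (Mt sd i)

end Mod

end Groth.Agent.Lib.Seat55.CShrink
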