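/-
Seat55CShrinkB: facts about the localized pieces of a standard shrinking `sd : SD 𝒟 𝒜` of a complete
devissage: pushout squares, the primes `pg`, `qx`, `qBt`, `qP`, `qAt` and their relations, the
B-side facts (smoothness, geometric irreducibility, relative dimension, purely transcendental
residue fields, `p' B'` prime), the base change maps `gF`, `gMB`, `gMP`, the localized `αt`, and the
facts needed at the good indices (finiteness, surjectivity, fibre bijectivity, local dimension,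
cokernels).
-/
import Mathlib
import Groth.Prelude.Def_FlatCA
import Groth.Agent.Lib.Seat55CShrinkA

set_option autoImplicit false
set_option linter.unusedVariables false
set_option linter.style.haveILetI false
set_option linter.unusedSectionVars false
universe u
open TensorProduct CategoryTheory AlgebraicGeometry

namespace Groth.Agent.Lib.Seat55.CShrink

open Groth.Agent.Lib.Seat55.CShrinkGen Groth.Agent.Lib.Seat55.ShrinkEx Groth.Agent.Lib.Seat55.Shrink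
open Groth.Agent.Lib.Seat55.CDev (tower_of_towers)

variable {R S : Type u} [CommRing R] [CommRing S] [Algebra R S] {N : Type u} [AddCommGroup N]
  [Module S N] {p : Ideal R} [p.IsPrime] {q : Ideal S} [q.IsPrime]
  {𝒟 : FlatCA.CompleteDevissage R S N p} {𝒜 : FlatCA.CompleteDevissageAt R S N p q 𝒟}
  (sd : SD 𝒟 𝒜)

attribute [local instance] FlatCA.CompleteDevissageAt.hqB FlatCA.CompleteDevissageAt.hqA
  FlatCA.CompleteDevissageAt.overB FlatCA.CompleteDevissageAt.overA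

section Pushouts

theorem sameRad_BA (i : ℕ) (h : i < 𝒟.n) :
    SameRad (sd.a i) (algebraMap (𝒟.B i) (𝒟.A i) (sd.b i)) := ⟨sd.radBA i h, sd.ba i⟩

theorem sameRad_PA : ∀ (i : ℕ), i < 𝒟.n →
    SameRad (sd.a i) (algebraMap (PrevBase 𝒟 i) (𝒟.A i) (prevElt sd i))
  | 0, _ => ⟨sd.radXa, sd.Xa⟩
  | (i + 1), h => ⟨sd.radBA1 i h, sd.ba1 i⟩

theorem isPushout_BA (i : ℕ) (h : i < 𝒟.n) :
    Algebra.IsPushout (𝒟.B i) (Bt sd i) (𝒟.A i) (At sd i) := by
  haveI : IsLocalization.Away (algebraMap (𝒟.B i) (𝒟.A i) (sd.b i)) (At sd i) :=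
    away_of_sameRad (sd.a i) _ (sameRad_BA sd i h)
  exact isPushout_of_away (sd.b i)

theorem isPushout_PA (i : ℕ) (h : i < 𝒟.n) :
    Algebra.IsPushout (PrevBase 𝒟 i) (Prev sd i) (𝒟.A i) (At sd i) := by
  haveI : IsLocalization.Away (algebraMap (PrevBase 𝒟 i) (𝒟.A i) (prevElt sd i)) (At sd i) :=
    away_of_sameRad (sd.a i) _ (sameRad_PA sd i h)
  exact isPushout_of_away (prevElt sd i)

end Pushouts

section Primes

/-- the prime of the shrunken base -/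
abbrev pg : Ideal (Rg sd) := p.map (algebraMap R (Rg sd))

instance pg_isPrime : (pg sd).IsPrime := away_map_isPrime sd.g p sd.hg

theorem comap_pg : (pg sd).comap (algebraMap R (Rg sd)) = p := away_comap_map sd.g p sd.hg

instance pg_liesOver : (pg sd).LiesOver p := ⟨(comap_pg sd).symm⟩

/-- the prime of the shrunken top ring -/
abbrev qx : Ideal (Sx sd) := q.map (algebraMap S (Sx sd))

instance qx_isPrime : (qx sd).IsPrime := away_map_isPrime sd.hX q sd.hhX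

theorem comap_qx : (qx sd).comap (algebraMap S (Sx sd)) = q := away_comap_map sd.hX q sd.hhX

include 𝒜 in
theorem q_over : q.comap (algebraMap R S) = p := by
  rw [← 𝒜.q0, Ideal.comap_comap, ← IsScalarTower.algebraMap_eq,
    IsScalarTower.algebraMap_eq R (𝒟.B 0) (𝒟.A 0), ← Ideal.comap_comap]
  rw [show Ideal.comap (algebraMap (𝒟.B 0) (𝒟.A 0)) (𝒜.qA 0) = 𝒜.qB 0 from
    ((𝒜.overA 0).over).symm]
  exact ((𝒜.overB 0).over).symm

/-- the primes of the shrunken smooth algebras -/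
noncomputable def qBt (i : ℕ) : Ideal (Bt sd i) := (𝒜.qB i).map (algebraMap (𝒟.B i) (Bt sd i))

instance qBt_isPrime (i : ℕ) : (qBt sd i).IsPrime := away_map_isPrime (sd.b i) (𝒜.qB i) (sd.hb i)

theorem comap_qBt (i : ℕ) : (qBt sd i).comap (algebraMap (𝒟.B i) (Bt sd i)) = 𝒜.qB i :=
  away_comap_map (sd.b i) (𝒜.qB i) (sd.hb i)

instance qBt_liesOver (i : ℕ) : (qBt sd i).LiesOver (𝒜.qB i) := ⟨(comap_qBt sd i).symm⟩

instance qBt_liesOver_pg (i : ℕ) : (qBt sd i).LiesOver (pg sd) :=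
  liesOver_of_square (A := R) (A₁ := Rg sd) (B := 𝒟.B i) (B₁ := Bt sd i) sd.g _ _ (𝒜.qB i) p
    (comap_qBt sd i) (comap_pg sd)

/-- the primes of `PrevBase`. -/
def qPB (𝒜 : FlatCA.CompleteDevissageAt R S N p q 𝒟) : ∀ i, Ideal (PrevBase 𝒟 i)
  | 0 => q
  | (i + 1) => 𝒜.qB i

instance qPB_isPrime : ∀ i, (qPB 𝒜 i).IsPrime
  | 0 => inferInstanceAs (q.IsPrime)
  | (i + 1) => inferInstanceAs ((𝒜.qB i).IsPrime)

/-- the primes of `Prev`. -/
noncomputable def qP : ∀ i, Ideal (Prev sd i)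
  | 0 => qx sd
  | (i + 1) => qBt sd i

instance qP_isPrime : ∀ i, (qP sd i).IsPrime
  | 0 => inferInstanceAs ((qx sd).IsPrime)
  | (i + 1) => inferInstanceAs ((qBt sd i).IsPrime)

theorem comap_qP : ∀ i, (qP sd i).comap (algebraMap (PrevBase 𝒟 i) (Prev sd i)) = qPB 𝒜 i
  | 0 => comap_qx sd
  | (i + 1) => comap_qBt sd i

theorem prevElt_notMem : ∀ i, prevElt sd i ∉ qPB 𝒜 i
  | 0 => sd.hhX
  | (i + 1) => sd.hb i

theorem qA_comap_PB : ∀ i, i < 𝒟.n →
    (𝒜.qA i).comap (algebraMap (PrevBase 𝒟 i) (𝒟.A i)) = qPB 𝒜 i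
  | 0, _ => 𝒜.q0
  | (i + 1), h => 𝒜.qStep i h

/-- the primes of the shrunken rings `At i`. -/
noncomputable def qAt (i : ℕ) : Ideal (At sd i) := (𝒜.qA i).map (algebraMap (𝒟.A i) (At sd i))

theorem qAt_isPrime (i : ℕ) (h : i < 𝒟.n) : (qAt sd i).IsPrime :=
  away_map_isPrime (sd.a i) (𝒜.qA i) (sd.ha i h)

theorem comap_qAt (i : ℕ) (h : i < 𝒟.n) :
    (qAt sd i).comap (algebraMap (𝒟.A i) (At sd i)) = 𝒜.qA i :=
  away_comap_map (sd.a i) (𝒜.qA i) (sd.ha i h)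

theorem qAt_liesOver_qBt (i : ℕ) (h : i < 𝒟.n) : (qAt sd i).LiesOver (qBt sd i) :=
  haveI := qAt_isPrime sd i h
  liesOver_of_square (A := 𝒟.B i) (A₁ := Bt sd i) (B := 𝒟.A i) (B₁ := At sd i) (sd.b i) _ _
    (𝒜.qA i) (𝒜.qB i) (comap_qAt sd i h) (comap_qBt sd i)

theorem qAt_comap_P (i : ℕ) (h : i < 𝒟.n) :
    (qAt sd i).comap (algebraMap (Prev sd i) (At sd i)) = qP sd i := by
  haveI := qAt_isPrime sd i h
  haveI : ((qAt sd i).comap (algebraMap (Prev sd i) (At sd i))).IsPrime := Ideal.comap_isPrime _ _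
  apply away_eq_of_comap_eq (A₁ := Prev sd i) (prevElt sd i)
  rw [comap_comap_square (A := PrevBase 𝒟 i) (A₁ := Prev sd i) (B := 𝒟.A i) (B₁ := At sd i),
    comap_qAt sd i h, qA_comap_PB i h, comap_qP]

theorem qAt_unique (i : ℕ) (h : i < 𝒟.n) (Q : Ideal (At sd i)) [Q.IsPrime]
    (hQ : Q.LiesOver (qBt sd i)) : Q = qAt sd i :=
  unique_over_away (D := 𝒟.B i) (D₁ := Bt sd i) (C := 𝒟.A i) (C₁ := At sd i) (sd.b i) (sd.a i)
    (𝒜.qB i) (sd.hb i) (𝒜.qA i) (sd.ha i h) (𝒜.uniq i h) Q hQ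

end Primes

section Surj

variable {R₀ D₀ R₁ D₁ : Type u} [CommRing R₀] [CommRing D₀] [CommRing R₁] [CommRing D₁]
  [Algebra R₀ R₁] [Algebra R₀ D₀] [Algebra R₁ D₁] [Algebra R₀ D₁] [Algebra D₀ D₁]
  [IsScalarTower R₀ R₁ D₁] [IsScalarTower R₀ D₀ D₁]

/-- `Spec D[1/b] → Spec R[1/g]` is surjective when `D(g)` lies in the image of `D(b)`. -/
theorem comap_surjective_of_image' (g : R₀) [IsLocalization.Away g R₁] (b : D₀)
    [IsLocalization.Away b D₁]
    (himg : ∀ t : PrimeSpectrum R₀, g ∉ t.asIdeal →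
      ∃ P : PrimeSpectrum D₀, b ∉ P.asIdeal ∧ P.asIdeal.comap (algebraMap R₀ D₀) = t.asIdeal) :
    Function.Surjective (PrimeSpectrum.comap (algebraMap R₁ D₁)) := by
  intro t₁
  have hgt : g ∉ (PrimeSpectrum.comap (algebraMap R₀ R₁) t₁).asIdeal := by
    intro hmem
    have hunit : IsUnit (algebraMap R₀ R₁ g) := IsLocalization.Away.algebraMap_isUnit g
    exact t₁.2.ne_top (Ideal.eq_top_of_isUnit_mem _ hmem hunit)
  obtain ⟨P, hbP, hPt⟩ := himg _ hgt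
  haveI hP₁ : (P.asIdeal.map (algebraMap D₀ D₁)).IsPrime := away_map_isPrime b P.asIdeal hbP
  have hc : (P.asIdeal.map (algebraMap D₀ D₁)).comap (algebraMap D₀ D₁) = P.asIdeal :=
    away_comap_map b P.asIdeal hbP
  refine ⟨⟨P.asIdeal.map (algebraMap D₀ D₁), hP₁⟩, ?_⟩
  apply away_comap_injective (A₁ := R₁) g
  apply PrimeSpectrum.ext
  change ((P.asIdeal.map (algebraMap D₀ D₁)).comap (algebraMap R₁ D₁)).comap (algebraMap R₀ R₁) = _
  rw [comap_comap_square (A := R₀) (A₁ := R₁) (B := D₀) (B₁ := D₁), hc, hPt]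

end Surj

section BSide

theorem map_pg_Bt (i : ℕ) : (pg sd).map (algebraMap (Rg sd) (Bt sd i)) =
    (p.map (algebraMap R (𝒟.B i))).map (algebraMap (𝒟.B i) (Bt sd i)) := by
  unfold pg
  rw [Ideal.map_map, Ideal.map_map, ← IsScalarTower.algebraMap_eq, ← IsScalarTower.algebraMap_eq]

theorem b_notMem_map (i : ℕ) : sd.b i ∉ p.map (algebraMap R (𝒟.B i)) := by
  intro hmem
  apply sd.hb i
  have hle : p.map (algebraMap R (𝒟.B i)) ≤ 𝒜.qB i :=
    Ideal.map_le_iff_le_comap.2 (le_of_eq (𝒜.overB i).over)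
  exact hle hmem

instance hp_Bt (i : ℕ) : ((pg sd).map (algebraMap (Rg sd) (Bt sd i))).IsPrime := by
  rw [map_pg_Bt]
  exact away_map_isPrime (sd.b i) _ (b_notMem_map sd i)

theorem hc_Bt (i : ℕ) : p.map (algebraMap R (𝒟.B i)) =
    ((pg sd).map (algebraMap (Rg sd) (Bt sd i))).comap (algebraMap (𝒟.B i) (Bt sd i)) := by
  rw [map_pg_Bt]
  exact (away_comap_map (sd.b i) _ (b_notMem_map sd i)).symm

theorem smooth_Bt (i : ℕ) (h : i < 𝒟.n) : Algebra.Smooth (Rg sd) (Bt sd i) :=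
  haveI := 𝒟.smooth i h
  smooth_away sd.g (sd.b i)

theorem comap_surjective_Bt (i : ℕ) (h : i < 𝒟.n) :
    Function.Surjective (PrimeSpectrum.comap (algebraMap (Rg sd) (Bt sd i))) :=
  comap_surjective_of_image' (R₀ := R) (D₀ := 𝒟.B i) sd.g (sd.b i) (sd.himg i h)

theorem geomIrred_Bt (i : ℕ) (h : i < 𝒟.n) : FlatCA.GeomIrredFibres (Rg sd) (Bt sd i) := by
  haveI : IsOpenImmersion (Spec.map (CommRingCat.ofHom (algebraMap (𝒟.B i) (Bt sd i)))) :=
    IsOpenImmersion.of_isLocalization (sd.b i)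
  haveI : IsOpenImmersion (Spec.map (CommRingCat.ofHom (algebraMap R (Rg sd)))) :=
    IsOpenImmersion.of_isLocalization sd.g
  have hsurj' : Surjective (Spec.map (CommRingCat.ofHom (algebraMap (Rg sd) (Bt sd i)))) :=
    ⟨comap_surjective_Bt sd i h⟩
  exact Groth.Agent.Lib.Seat55.ShrinkSch.geomIrred_shrink (R := R) (D := 𝒟.B i) hsurj'
    (𝒟.geomIrred i h)

theorem relDim_Bt (i : ℕ) (h : i < 𝒟.n) : FlatCA.SmoothRelDim (𝒜.d i) (Rg sd) (Bt sd i) := by
  haveI : IsOpenImmersion (Spec.map (CommRingCat.ofHom (algebraMap (𝒟.B i) (Bt sd i)))) :=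
    IsOpenImmersion.of_isLocalization (sd.b i)
  haveI : IsOpenImmersion (Spec.map (CommRingCat.ofHom (algebraMap R (Rg sd)))) :=
    IsOpenImmersion.of_isLocalization sd.g
  exact Groth.Agent.Lib.Seat55.ShrinkSch.smoothRelDim_shrink (R := R) (D := 𝒟.B i) (𝒜.d i)
    (𝒜.relDim i h)

theorem pureTrans_Bt (i : ℕ) (h : i < 𝒟.n) : FlatCA.PurelyTranscendental (pg sd) (qBt sd i) :=
  purelyTranscendental_of_bijective p (pg sd) (𝒜.qB i) (qBt sd i)
    (away_residueField_bijective sd.g p _) (away_residueField_bijective (sd.b i) (𝒜.qB i) _)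
    (𝒜.pureTrans i h)

end BSide

section BC

noncomputable instance modPBM : ∀ i, Module (PrevBase 𝒟 i) (𝒟.M i)
  | 0 => inferInstanceAs (Module S (𝒟.M 0))
  | (i + 1) => inferInstanceAs (Module (𝒟.B i) (𝒟.M (i + 1)))

instance towPBAM : ∀ i, IsScalarTower (PrevBase 𝒟 i) (𝒟.A i) (𝒟.M i)
  | 0 => inferInstanceAs (IsScalarTower S (𝒟.A 0) (𝒟.M 0))
  | (i + 1) => inferInstanceAs (IsScalarTower (𝒟.B i) (𝒟.A (i + 1)) (𝒟.M (i + 1)))

/-- base change map of the free modules -/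
noncomputable def gF (i : ℕ) : (Fin (𝒟.r i) → 𝒟.B i) →ₗ[𝒟.B i] (Fin (𝒟.r i) → Bt sd i) :=
  (Algebra.linearMap (𝒟.B i) (Bt sd i)).compLeft (Fin (𝒟.r i))

theorem isBaseChange_gF (i : ℕ) : IsBaseChange (Bt sd i) (gF sd i) :=
  IsBaseChange.finitePow (Fin (𝒟.r i)) (IsBaseChange.linearMap (𝒟.B i) (Bt sd i))

/-- `gM i` as a `B i`-linear map -/
noncomputable def gMB (i : ℕ) : 𝒟.M i →ₗ[𝒟.B i] Mt sd i :=
  (gM sd i).restrictScalars (𝒟.B i)

theorem isBaseChange_gMB (i : ℕ) (h : i < 𝒟.n) : IsBaseChange (Bt sd i) (gMB sd i) :=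
  haveI := isPushout_BA sd i h
  Groth.Agent.Lib.Seat55.DevAtBC2.isBaseChange_of_isPushout (gM sd i) (isBaseChange_gM sd i)
    (gMB sd i) (fun _ => rfl)

/-- `gM i` as a `PrevBase i`-linear map -/
noncomputable def gMP (i : ℕ) : 𝒟.M i →ₗ[PrevBase 𝒟 i] Mt sd i :=
  (gM sd i).restrictScalars (PrevBase 𝒟 i)

theorem isBaseChange_gMP (i : ℕ) (h : i < 𝒟.n) : IsBaseChange (Prev sd i) (gMP sd i) :=
  haveI := isPushout_PA sd i h
  Groth.Agent.Lib.Seat55.DevAtBC2.isBaseChange_of_isPushout (gM sd i) (isBaseChange_gM sd i)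
    (gMP sd i) (fun _ => rfl)

/-- the localized maps `α' i` -/
noncomputable def αt (i : ℕ) : (Fin (𝒟.r i) → Bt sd i) →ₗ[Bt sd i] Mt sd i :=
  (isBaseChange_gF sd i).lift ((gMB sd i).comp (𝒟.α i))

theorem αt_gF (i : ℕ) (x : Fin (𝒟.r i) → 𝒟.B i) :
    αt sd i (gF sd i x) = gMB sd i (𝒟.α i x) :=
  (isBaseChange_gF sd i).lift_eq _ x

end BC

section Good

theorem surj_PBA : ∀ i, i < 𝒟.n → Function.Surjective (algebraMap (PrevBase 𝒟 i) (𝒟.A i))
  | 0, _ => 𝒟.surjSA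
  | (i + 1), h => 𝒟.surjBA' i h

theorem fp_PBA : ∀ i, i < 𝒟.n → Algebra.FinitePresentation (PrevBase 𝒟 i) (𝒟.A i)
  | 0, _ => 𝒟.fpSA
  | (i + 1), h => 𝒟.fpBA' i h

theorem surj_PAt (i : ℕ) (h : i < 𝒟.n) :
    Function.Surjective (algebraMap (Prev sd i) (At sd i)) :=
  haveI := isPushout_PA sd i h
  Groth.Agent.Lib.Seat55.DevBC.surjective_of_isPushout (S := PrevBase 𝒟 i) (S' := Prev sd i)
    (C := 𝒟.A i) (C' := At sd i) (surj_PBA i h)

theorem fp_PAt (i : ℕ) (h : i < 𝒟.n) : Algebra.FinitePresentation (Prev sd i) (At sd i) :=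
  haveI := isPushout_PA sd i h
  haveI := fp_PBA (𝒟 := 𝒟) i h
  Groth.Agent.Lib.Seat55.DevBC.finitePresentation_of_isPushout (S := PrevBase 𝒟 i)
    (S' := Prev sd i) (C := 𝒟.A i) (C' := At sd i)

theorem finite_BtAt (i : ℕ) (h : i < 𝒟.n) : Module.Finite (Bt sd i) (At sd i) :=
  haveI := isPushout_BA sd i h
  haveI := 𝒟.finiteBA i h
  Groth.Agent.Lib.Seat55.DevBC.moduleFinite_of_isPushout (S := 𝒟.B i) (S' := Bt sd i)
    (C := 𝒟.A i) (C' := At sd i)

theorem finite_AtMt (i : ℕ) (h : i < 𝒟.n) : Module.Finite (At sd i) (Mt sd i) :=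
  haveI := 𝒟.finiteM i h
  Groth.Agent.Lib.Seat55.DevBC.moduleFinite_of_isBaseChange (gM sd i) (isBaseChange_gM sd i)

theorem fibreIso_t (i : ℕ) (h : i < 𝒟.n) : Function.Bijective
    ((αt sd i).baseChange ((pg sd).map (algebraMap (Rg sd) (Bt sd i))).ResidueField) :=
  fibre_bijective_of_comap_eq (p.map (algebraMap R (𝒟.B i)))
    ((pg sd).map (algebraMap (Rg sd) (Bt sd i))) (hc_Bt sd i) (𝒟.α i) (gF sd i) (gMB sd i)
    (isBaseChange_gF sd i) (isBaseChange_gMB sd i h) (αt sd i) (αt_gF sd i) (𝒟.fibreIso i h)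

theorem cokerLast_t (i : ℕ) (h : i + 1 = 𝒟.n) : Function.Surjective (αt sd i) :=
  Groth.Agent.Lib.Seat55.CDevGen.surjective_of_isBaseChange (𝒟.α i) (gF sd i) (gMB sd i)
    (isBaseChange_gF sd i) (isBaseChange_gMB sd i (by omega)) (αt sd i) (αt_gF sd i)
    (by have h2 : 𝒟.n - 1 = i := by omega
        have h3 := 𝒟.cokerLast
        rw [h2] at h3
        exact h3)

theorem range_αt (i : ℕ) : LinearMap.range (αt sd i) =
    Submodule.span (Bt sd i) (gM sd i '' (LinearMap.range (𝒟.α i) : Set (𝒟.M i))) :=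
  Groth.Agent.Lib.Seat55.CDevGen.range_eq_span (𝒟.α i) (gF sd i) (gMB sd i)
    (isBaseChange_gF sd i) (αt sd i) (αt_gF sd i)

theorem locDim_t (i : ℕ) (h : i < 𝒟.n) :
    ∃ (x : PrimeSpectrum ((pg sd).Fiber (Bt sd i)))
      (hx : x ∈ Module.support ((pg sd).Fiber (Bt sd i)) (FlatCA.fiberMod (pg sd) (Bt sd i) (Mt sd i))),
      x.asIdeal = FlatCA.fiberIdeal (pg sd) (qBt sd i) ∧
      FlatMor.localDim (Module.support ((pg sd).Fiber (Bt sd i))
        (FlatCA.fiberMod (pg sd) (Bt sd i) (Mt sd i))) ⟨x, hx⟩ = 𝒜.d i := by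
  haveI := 𝒟.finiteBA i h
  haveI := 𝒟.finiteM i h
  haveI : Module.Finite (𝒟.B i) (𝒟.M i) := Module.Finite.trans (𝒟.A i) (𝒟.M i)
  exact localDim_shrink (R := R) (S := 𝒟.B i) p (𝒟.M i) (pg sd)
    (away_comap_injective (A₁ := Rg sd) sd.g) (Mt sd i) (gMB sd i) (isBaseChange_gMB sd i h)
    (PrimeSpectrum.localization_away_isOpenEmbedding (Bt sd i) (sd.b i)) (𝒜.qB i) (𝒜.d i)
    (𝒜.locDim i h) (qBt sd i) (comap_qBt sd i)

noncomputable instance modBtMt1 (i : ℕ) : Module (Bt sd i) (Mt sd (i + 1)) := modPMt sd (i + 1)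

instance (i : ℕ) : IsScalarTower (Bt sd i) (At sd (i + 1)) (Mt sd (i + 1)) :=
  (inferInstance : IsScalarTower (Prev sd (i + 1)) (At sd (i + 1)) (Mt sd (i + 1)))

noncomputable instance modBMt1 (i : ℕ) : Module (𝒟.B i) (Mt sd (i + 1)) := modPBMt sd (i + 1)

instance (i : ℕ) : IsScalarTower (𝒟.B i) (Bt sd i) (Mt sd (i + 1)) :=
  (inferInstance : IsScalarTower (PrevBase 𝒟 (i + 1)) (Prev sd (i + 1)) (Mt sd (i + 1)))

theorem coker_t (i : ℕ) (h : i + 1 < 𝒟.n) :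
    Nonempty ((Mt sd i ⧸ LinearMap.range (αt sd i)) ≃ₗ[Bt sd i] Mt sd (i + 1)) :=
  Groth.Agent.Lib.Seat55.CDevGen.nonempty_coker_equiv (𝒟.α i) (gF sd i) (gMB sd i)
    (isBaseChange_gF sd i) (isBaseChange_gMB sd i (by omega)) (αt sd i) (αt_gF sd i)
    (𝒟.isoCoker i h) (gMP sd (i + 1)) (isBaseChange_gMP sd (i + 1) h)

end Good

end Groth.Agent.Lib.Seat55.CShrink
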