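/-
Seat55CShrinkC: construction of the shrunken complete devissage from shrink data `sd : SD 𝒟 𝒜`:
the tail ring `TailA` (a tensor product, so that primes exist beyond the length), the per-index
packages `APkg` (`goodA` below the length, `tailA` beyond), the comparison data `GoodW`, the
identifications `isoNOf`, `isoCokerOf`, and the structures `mkD`, `mkA`.
-/
import Mathlib
import Groth.Prelude.Def_FlatCA
import Groth.Agent.Lib.Seat55CShrinkB

set_option autoImplicit false
set_option linter.unusedVariables false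
set_option linter.style.haveILetI false
set_option linter.unusedSectionVars false
universe u
open TensorProduct CategoryTheory AlgebraicGeometry

namespace Groth.Agent.Lib.Seat55.CShrink

open Groth.Agent.Lib.Seat55.CShrinkGen Groth.Agent.Lib.Seat55.ShrinkEx Groth.Agent.Lib.Seat55.Shrink
open Groth.Agent.Lib.Seat55.CDev (tower_of_towers)

variable {R S : Type u} [CommRing R] [CommRing S] [Algebra R S] {N : Type u} [AddCommGroup N]
  [Module S N] {p : Ideal R} [p.IsPrime] {q : Ideal S} [q.IsPrime]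
  {𝒟 : FlatCA.CompleteDevissage R S N p} {𝒜 : FlatCA.CompleteDevissageAt R S N p q 𝒟}
  (sd : SD 𝒟 𝒜)

attribute [local instance] FlatCA.CompleteDevissageAt.hqB FlatCA.CompleteDevissageAt.hqA
  FlatCA.CompleteDevissageAt.overB FlatCA.CompleteDevissageAt.overA

section Tail

/-- the ring put at the indices beyond the length. -/
def TailA (i : ℕ) : Type u := Prev sd i ⊗[Rg sd] Bt sd i

noncomputable instance (i : ℕ) : CommRing (TailA sd i) :=
  inferInstanceAs (CommRing (Prev sd i ⊗[Rg sd] Bt sd i))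

noncomputable instance algRgTail (i : ℕ) : Algebra (Rg sd) (TailA sd i) :=
  inferInstanceAs (Algebra (Rg sd) (Prev sd i ⊗[Rg sd] Bt sd i))

noncomputable instance algPTail (i : ℕ) : Algebra (Prev sd i) (TailA sd i) :=
  inferInstanceAs (Algebra (Prev sd i) (Prev sd i ⊗[Rg sd] Bt sd i))

instance (i : ℕ) : IsScalarTower (Rg sd) (Prev sd i) (TailA sd i) :=
  inferInstanceAs (IsScalarTower (Rg sd) (Prev sd i) (Prev sd i ⊗[Rg sd] Bt sd i))

noncomputable instance algBtTail (i : ℕ) : Algebra (Bt sd i) (TailA sd i) :=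
  (Algebra.TensorProduct.rightAlgebra : Algebra (Bt sd i) (Prev sd i ⊗[Rg sd] Bt sd i))

attribute [local instance] Algebra.TensorProduct.rightAlgebra in
instance (i : ℕ) : IsScalarTower (Rg sd) (Bt sd i) (TailA sd i) :=
  inferInstanceAs (IsScalarTower (Rg sd) (Bt sd i) (Prev sd i ⊗[Rg sd] Bt sd i))

include 𝒜 in
theorem q_liesOver : q.LiesOver p := ⟨(q_over (𝒜 := 𝒜)).symm⟩

theorem qP_comap_Rg : ∀ i, (qP sd i).comap (algebraMap (Rg sd) (Prev sd i)) = pg sd
  | 0 => by
    haveI := q_liesOver (𝒜 := 𝒜)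
    have : (qx sd).LiesOver (pg sd) :=
      liesOver_of_square (A := R) (A₁ := Rg sd) (B := S) (B₁ := Sx sd) sd.g _ _ q p
        (comap_qx sd) (comap_pg sd)
    exact this.over.symm
  | (i + 1) => (qBt_liesOver_pg sd i).over.symm

theorem exists_tailPrime (i : ℕ) : ∃ W : Ideal (TailA sd i), W.IsPrime ∧
    W.comap (algebraMap (Bt sd i) (TailA sd i)) = qBt sd i :=
  exists_prime_tensor (Rg sd) (Prev sd i) (Bt sd i) (qP sd i) (qBt sd i)
    ((qP_comap_Rg sd i).trans (qBt_liesOver_pg sd i).over)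

/-- a prime of the tail ring over `qBt i`. -/
noncomputable def tailPrime (i : ℕ) : Ideal (TailA sd i) := (exists_tailPrime sd i).choose

instance (i : ℕ) : (tailPrime sd i).IsPrime := (exists_tailPrime sd i).choose_spec.1

instance (i : ℕ) : (tailPrime sd i).LiesOver (qBt sd i) :=
  ⟨(exists_tailPrime sd i).choose_spec.2.symm⟩

end Tail

section Pkg

/-- the part of the shrunken dévissage at index `i` that depends on `A' i`, `M' i`. -/
structure APkg (i : ℕ) : Type (u + 1) where
  /-- the ring carrying the module -/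
  A' : Type u
  [cA : CommRing A'] [aRA : Algebra (Rg sd) A']
  [aBA : Algebra (Bt sd i) A'] [tRBA : IsScalarTower (Rg sd) (Bt sd i) A']
  [aPA : Algebra (Prev sd i) A'] [tRPA : IsScalarTower (Rg sd) (Prev sd i) A']
  /-- the module -/
  M' : Type u
  [gM : AddCommGroup M'] [mAM : Module A' M'] [mBM : Module (Bt sd i) M']
  [tBAM : IsScalarTower (Bt sd i) A' M'] [mRM : Module (Rg sd) M']
  [tRBM : IsScalarTower (Rg sd) (Bt sd i) M']
  [mPM : Module (Prev sd i) M'] [tPAM : IsScalarTower (Prev sd i) A' M']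
  /-- the map from the free module -/
  α : (Fin (𝒟.r i) → Bt sd i) →ₗ[Bt sd i] M'
  /-- the point -/
  qA' : Ideal A'
  [hqA : qA'.IsPrime] [overA : qA'.LiesOver (qBt sd i)]
  surjPA : i < 𝒟.n → Function.Surjective (algebraMap (Prev sd i) A')
  fpPA : i < 𝒟.n → Algebra.FinitePresentation (Prev sd i) A'
  finiteBA : i < 𝒟.n → Module.Finite (Bt sd i) A'
  finiteM : i < 𝒟.n → Module.Finite A' M'
  fibreIso : i < 𝒟.n → Function.Bijective
    (α.baseChange ((pg sd).map (algebraMap (Rg sd) (Bt sd i))).ResidueField)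
  cokerLast : i + 1 = 𝒟.n → Function.Surjective α
  uniq : i < 𝒟.n → ∀ (Q : Ideal A') [Q.IsPrime], Q.LiesOver (qBt sd i) → Q = qA'
  qP_eq : i < 𝒟.n → qA'.comap (algebraMap (Prev sd i) A') = qP sd i
  locDim : i < 𝒟.n → ∃ (x : PrimeSpectrum ((pg sd).Fiber (Bt sd i)))
    (hx : x ∈ Module.support ((pg sd).Fiber (Bt sd i)) (FlatCA.fiberMod (pg sd) (Bt sd i) M')),
    x.asIdeal = FlatCA.fiberIdeal (pg sd) (qBt sd i) ∧
    FlatMor.localDim (Module.support ((pg sd).Fiber (Bt sd i))
      (FlatCA.fiberMod (pg sd) (Bt sd i) M')) ⟨x, hx⟩ = 𝒜.d i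

attribute [instance] APkg.cA APkg.aRA APkg.aBA APkg.tRBA APkg.aPA APkg.tRPA APkg.gM APkg.mAM
  APkg.mBM APkg.tBAM APkg.mRM APkg.tRBM APkg.mPM APkg.tPAM APkg.hqA APkg.overA

/-- the package at a step `i < n`. -/
noncomputable def goodA (i : ℕ) (h : i < 𝒟.n) : APkg sd i :=
  haveI := qAt_isPrime sd i h
  haveI := qAt_liesOver_qBt sd i h
  { A' := At sd i
    M' := Mt sd i
    α := αt sd i
    qA' := qAt sd i
    surjPA := fun _ => surj_PAt sd i h
    fpPA := fun _ => fp_PAt sd i h
    finiteBA := fun _ => finite_BtAt sd i h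
    finiteM := fun _ => finite_AtMt sd i h
    fibreIso := fun _ => fibreIso_t sd i h
    cokerLast := fun h1 => cokerLast_t sd i h1
    uniq := fun _ Q _ hQ => qAt_unique sd i h Q hQ
    qP_eq := fun _ => qAt_comap_P sd i h
    locDim := fun _ => locDim_t sd i h }

/-- the (irrelevant) package at an index `i ≥ n`. -/
noncomputable def tailA (i : ℕ) (h : ¬ i < 𝒟.n) : APkg sd i :=
  { A' := TailA sd i
    M' := PUnit.{u + 1}
    α := 0
    qA' := tailPrime sd i
    surjPA := fun h1 => absurd h1 h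
    fpPA := fun h1 => absurd h1 h
    finiteBA := fun h1 => absurd h1 h
    finiteM := fun h1 => absurd h1 h
    fibreIso := fun h1 => absurd h1 h
    cokerLast := fun h1 => absurd (by omega) h
    uniq := fun h1 => absurd h1 h
    qP_eq := fun h1 => absurd h1 h
    locDim := fun h1 => absurd h1 h }

/-- the package at index `i`. -/
noncomputable def X (i : ℕ) : APkg sd i :=
  if h : i < 𝒟.n then goodA sd i h else tailA sd i h

theorem X_good (i : ℕ) (h : i < 𝒟.n) : X sd i = goodA sd i h := dif_pos h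

end Pkg

section Wit

/-- the comparison data between the original pieces at a step `i < n` and a package. -/
structure GoodW (i : ℕ) (x : APkg sd i) : Type u where
  [aA : Algebra (𝒟.A i) x.A'] [rA : Algebra R x.A']
  [t1 : IsScalarTower R (Rg sd) x.A'] [t2 : IsScalarTower R (𝒟.A i) x.A']
  [bA : Algebra (𝒟.B i) x.A'] [t5 : IsScalarTower (𝒟.B i) (𝒟.A i) x.A']
  [t6 : IsScalarTower (𝒟.B i) (Bt sd i) x.A']
  [mA : Module (𝒟.A i) x.M'] [t9 : IsScalarTower (𝒟.A i) x.A' x.M']
  /-- the localization map -/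
  gM : 𝒟.M i →ₗ[𝒟.A i] x.M'
  loc : IsLocalization.Away (sd.a i) x.A'
  locM : IsLocalizedModule (Submonoid.powers (sd.a i)) gM
  overQ : x.qA'.LiesOver (𝒜.qA i)
  range : LinearMap.range x.α =
    Submodule.span (Bt sd i) (gM '' (LinearMap.range (𝒟.α i) : Set (𝒟.M i)))
  prevTower : ∀ y : PrevBase 𝒟 i,
    algebraMap (Prev sd i) x.A' (algebraMap (PrevBase 𝒟 i) (Prev sd i) y) =
      algebraMap (𝒟.A i) x.A' (algebraMap (PrevBase 𝒟 i) (𝒟.A i) y)

theorem qAt_liesOver_qA (i : ℕ) (h : i < 𝒟.n) : (qAt sd i).LiesOver (𝒜.qA i) :=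
  ⟨(comap_qAt sd i h).symm⟩

/-- the comparison data for the good package. -/
noncomputable def goodW (i : ℕ) (h : i < 𝒟.n) : GoodW sd i (goodA sd i h) :=
  { aA := algAAt sd i
    rA := algRAt sd i
    t1 := (inferInstance : IsScalarTower R (Rg sd) (At sd i))
    t2 := (inferInstance : IsScalarTower R (𝒟.A i) (At sd i))
    bA := algBAt sd i
    t5 := (inferInstance : IsScalarTower (𝒟.B i) (𝒟.A i) (At sd i))
    t6 := (inferInstance : IsScalarTower (𝒟.B i) (Bt sd i) (At sd i))
    mA := modAMt sd i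
    t9 := (inferInstance : IsScalarTower (𝒟.A i) (At sd i) (Mt sd i))
    gM := gM sd i
    loc := (inferInstance : IsLocalization.Away (sd.a i) (At sd i))
    locM := isLocalizedModule_gM sd i
    overQ := qAt_liesOver_qA sd i h
    range := range_αt sd i
    prevTower := fun y => by
      change algebraMap (Prev sd i) (At sd i) (algebraMap (PrevBase 𝒟 i) (Prev sd i) y) =
        algebraMap (𝒟.A i) (At sd i) (algebraMap (PrevBase 𝒟 i) (𝒟.A i) y)
      rw [← IsScalarTower.algebraMap_apply, ← IsScalarTower.algebraMap_apply] }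

/-- transport of the comparison data to a package equal to the good one. -/
noncomputable def WOf (i : ℕ) (h : i < 𝒟.n) (x : APkg sd i) (hx : x = goodA sd i h) :
    GoodW sd i x := by
  subst hx
  exact goodW sd i h

/-- the comparison data for `X i`, `i < n`. -/
noncomputable def W (i : ℕ) (h : i < 𝒟.n) : GoodW sd i (X sd i) := WOf sd i h (X sd i) (X_good sd i h)

end Wit

section IsoN

noncomputable instance modSxMt0 : Module (Sx sd) (Mt sd 0) := modPMt sd 0

instance : IsScalarTower (Sx sd) (At sd 0) (Mt sd 0) :=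
  (inferInstance : IsScalarTower (Prev sd 0) (At sd 0) (Mt sd 0))

noncomputable instance modSMt0 : Module S (Mt sd 0) := modPBMt sd 0

instance : IsScalarTower S (Sx sd) (Mt sd 0) :=
  (inferInstance : IsScalarTower (PrevBase 𝒟 0) (Prev sd 0) (Mt sd 0))

/-- `gM 0` as an `S`-linear map -/
noncomputable def gMS : 𝒟.M 0 →ₗ[S] Mt sd 0 := gMP sd 0

theorem isBaseChange_gMS : IsBaseChange (Sx sd) (gMS sd) := isBaseChange_gMP sd 0 𝒟.pos

theorem isBaseChange_gMS_isoN :
    IsBaseChange (Sx sd) ((gMS sd).comp 𝒟.isoN.toLinearMap) :=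
  IsBaseChange.comp_equiv 𝒟.isoN (gMS sd) (isBaseChange_gMS sd)

theorem isBaseChange_mkN :
    IsBaseChange (Sx sd) (LocalizedModule.mkLinearMap (Submonoid.powers sd.hX) N) :=
  IsLocalizedModule.isBaseChange (Submonoid.powers sd.hX) (Sx sd) _

/-- the identification `N[1/hX] ≅ Mt 0`. -/
noncomputable def isoN_good : Nx sd ≃ₗ[Sx sd] Mt sd 0 :=
  (isBaseChange_mkN sd).equiv.symm ≪≫ₗ (isBaseChange_gMS_isoN sd).equiv

theorem isoN_good_apply (x : N) :
    isoN_good sd (LocalizedModule.mkLinearMap (Submonoid.powers sd.hX) N x) =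
      gM sd 0 (𝒟.isoN x) := by
  change (isBaseChange_gMS_isoN sd).equiv ((isBaseChange_mkN sd).equiv.symm
    (LocalizedModule.mkLinearMap (Submonoid.powers sd.hX) N x)) = _
  rw [IsBaseChange.equiv_symm_apply, IsBaseChange.equiv_tmul, one_smul]
  rfl

noncomputable instance modSxPkg (x : APkg sd 0) : Module (Sx sd) x.M' := x.mPM

/-- transport of `isoN_good` to a package equal to the good one. -/
noncomputable def isoNOf (x : APkg sd 0) (hx : x = goodA sd 0 𝒟.pos) : Nx sd ≃ₗ[Sx sd] x.M' := by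
  subst hx
  exact isoN_good sd

theorem isoNOf_apply (x : APkg sd 0) (hx : x = goodA sd 0 𝒟.pos) (n : N) :
    isoNOf sd x hx (LocalizedModule.mkLinearMap (Submonoid.powers sd.hX) N n) =
      (WOf sd 0 𝒟.pos x hx).gM (𝒟.isoN n) := by
  subst hx
  exact isoN_good_apply sd n

noncomputable instance modBtPkg (i : ℕ) (y : APkg sd (i + 1)) : Module (Bt sd i) y.M' := y.mPM

/-- transport of the cokernel identification to packages equal to the good ones. -/
noncomputable def isoCokerOf (i : ℕ) (h : i + 1 < 𝒟.n) (x : APkg sd i) (y : APkg sd (i + 1))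
    (hx : x = goodA sd i (by omega)) (hy : y = goodA sd (i + 1) h) :
    (x.M' ⧸ LinearMap.range x.α) ≃ₗ[Bt sd i] y.M' := by
  subst hx hy
  exact Classical.choice (coker_t sd i h)

end IsoN

section MkD

/-- the shrunken complete dévissage. -/
noncomputable def mkD : FlatCA.CompleteDevissage (Rg sd) (Sx sd) (Nx sd) (pg sd) where
  n := 𝒟.n
  pos := 𝒟.pos
  A := fun i => (X sd i).A'
  B := Bt sd
  M := fun i => (X sd i).M'
  r := 𝒟.r
  cA := fun i => (X sd i).cA
  cB := fun _ => inferInstance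
  aRA := fun i => (X sd i).aRA
  aRB := fun i => algRgBt sd i
  aBA := fun i => (X sd i).aBA
  tRBA := fun i => (X sd i).tRBA
  aSA := (X sd 0).aPA
  tRSA := (X sd 0).tRPA
  aBA' := fun i => (X sd (i + 1)).aPA
  tRBA' := fun i => (X sd (i + 1)).tRPA
  gM := fun i => (X sd i).gM
  mAM := fun i => (X sd i).mAM
  mBM := fun i => (X sd i).mBM
  tBAM := fun i => (X sd i).tBAM
  mRM := fun i => (X sd i).mRM
  tRBM := fun i => (X sd i).tRBM
  mSM := (X sd 0).mPM
  tSAM := (X sd 0).tPAM
  mB'M := fun i => (X sd (i + 1)).mPM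
  tB'AM := fun i => (X sd (i + 1)).tPAM
  hp := fun i => hp_Bt sd i
  α := fun i => (X sd i).α
  surjSA := (X sd 0).surjPA 𝒟.pos
  fpSA := (X sd 0).fpPA 𝒟.pos
  surjBA' := fun i h => (X sd (i + 1)).surjPA h
  fpBA' := fun i h => (X sd (i + 1)).fpPA h
  finiteBA := fun i h => (X sd i).finiteBA h
  smooth := fun i h => smooth_Bt sd i h
  geomIrred := fun i h => geomIrred_Bt sd i h
  finiteM := fun i h => (X sd i).finiteM h
  isoN := isoNOf sd (X sd 0) (X_good sd 0 𝒟.pos)
  isoCoker := fun i h => isoCokerOf sd i h (X sd i) (X sd (i + 1)) (X_good sd i (by omega))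
    (X_good sd (i + 1) h)
  fibreIso := fun i h => (X sd i).fibreIso h
  cokerLast := (X sd (𝒟.n - 1)).cokerLast (by have := 𝒟.pos; omega)

end MkD

section MkA

/-- the shrunken datum at the point. -/
noncomputable def mkA :
    FlatCA.CompleteDevissageAt (Rg sd) (Sx sd) (Nx sd) (pg sd) (qx sd) (mkD sd) where
  qB := fun i => qBt sd i
  qA := fun i => (X sd i).qA'
  hqB := fun i => qBt_isPrime sd i
  hqA := fun i => (X sd i).hqA
  overB := fun i => qBt_liesOver_pg sd i
  overA := fun i => (X sd i).overA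
  pureTrans := fun i h => pureTrans_Bt sd i h
  uniq := fun i h => (X sd i).uniq h
  q0 := (X sd 0).qP_eq 𝒟.pos
  qStep := fun i h => (X sd (i + 1)).qP_eq h
  d := 𝒜.d
  relDim := fun i h => relDim_Bt sd i h
  locDim := fun i h => (X sd i).locDim h

end MkA

end Groth.Agent.Lib.Seat55.CShrink
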