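/-
Seat55CShrinkD: the conclusion of the standard shrinking of a complete devissage from shrink data
(`main_of_sd`): the structures `mkD sd`, `mkA sd` together with all comparison data required by the
statements S12246 / S12247.
-/
import Mathlib
import Groth.Prelude.Def_FlatCA
import Groth.Agent.Lib.Seat55CShrinkC

set_option autoImplicit false
set_option linter.unusedVariables false
set_option linter.style.haveILetI false
set_option linter.unusedSectionVars false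
universe u
open TensorProduct CategoryTheory AlgebraicGeometry

namespace Groth.Agent.Lib.Seat55.CShrink

open Groth.Agent.Lib.Seat55.CShrinkGen Groth.Agent.Lib.Seat55.ShrinkEx Groth.Agent.Lib.Seat55.Shrink
open Groth.Agent.Lib.Seat55.CDev (tower_of_towers)

variable {R S : Type u} [CommRing R] [CommRing S] [Algebra R S] {N : Type u} [AddCommGroup N]
  [Module S N] {p : Ideal R} [p.IsPrime] {q : Ideal S} [q.IsPrime]
  {𝒟 : FlatCA.CompleteDevissage R S N p} {𝒜 : FlatCA.CompleteDevissageAt R S N p q 𝒟}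
  (sd : SD 𝒟 𝒜)

attribute [local instance] FlatCA.CompleteDevissageAt.hqB FlatCA.CompleteDevissageAt.hqA
  FlatCA.CompleteDevissageAt.overB FlatCA.CompleteDevissageAt.overA

noncomputable instance algBtPkg (i : ℕ) (y : APkg sd (i + 1)) : Algebra (Bt sd i) y.A' := y.aPA

noncomputable instance algSxPkg (y : APkg sd 0) : Algebra (Sx sd) y.A' := y.aPA

set_option maxHeartbeats 1600000 in
theorem main_of_sd :
    ∃ (_ : Algebra (Localization.Away sd.g) (Localization.Away sd.hX)) (_ : IsScalarTower R (Localization.Away sd.g) (Localization.Away sd.hX))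
        (_ : Module (Localization.Away sd.g) (LocalizedModule (Submonoid.powers sd.hX) N)) (_ : IsScalarTower (Localization.Away sd.g) (Localization.Away sd.hX) (LocalizedModule (Submonoid.powers sd.hX) N))
        (_ : (Ideal.map (algebraMap R (Localization.Away sd.g)) p).IsPrime) (_ : (Ideal.map (algebraMap S (Localization.Away sd.hX)) q).IsPrime)
        (𝒟' : FlatCA.CompleteDevissage (Localization.Away sd.g) (Localization.Away sd.hX) (LocalizedModule (Submonoid.powers sd.hX) N) (Ideal.map (algebraMap R (Localization.Away sd.g)) p))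
        (𝒜' : FlatCA.CompleteDevissageAt (Localization.Away sd.g) (Localization.Away sd.hX) (LocalizedModule (Submonoid.powers sd.hX) N) (Ideal.map (algebraMap R (Localization.Away sd.g)) p) (Ideal.map (algebraMap S (Localization.Away sd.hX)) q) 𝒟')
      (aA : ∀ i : Fin 𝒟.n, Algebra (𝒟.A i) (𝒟'.A i)) (rA : ∀ i : Fin 𝒟.n, Algebra R (𝒟'.A i))
      (_t1 : ∀ i : Fin 𝒟.n, IsScalarTower R (Localization.Away sd.g) (𝒟'.A i)) (_t2 : ∀ i : Fin 𝒟.n, IsScalarTower R (𝒟.A i) (𝒟'.A i))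
      (aB : ∀ i : Fin 𝒟.n, Algebra (𝒟.B i) (𝒟'.B i)) (rB : ∀ i : Fin 𝒟.n, Algebra R (𝒟'.B i))
      (_t3 : ∀ i : Fin 𝒟.n, IsScalarTower R (Localization.Away sd.g) (𝒟'.B i)) (_t4 : ∀ i : Fin 𝒟.n, IsScalarTower R (𝒟.B i) (𝒟'.B i))
      (bA : ∀ i : Fin 𝒟.n, Algebra (𝒟.B i) (𝒟'.A i)) (_t5 : ∀ i : Fin 𝒟.n, IsScalarTower (𝒟.B i) (𝒟.A i) (𝒟'.A i))
      (_t6 : ∀ i : Fin 𝒟.n, IsScalarTower (𝒟.B i) (𝒟'.B i) (𝒟'.A i))
      (bA' : ∀ i : Fin 𝒟.n, Algebra (𝒟.B i) (𝒟'.A (i + 1)))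
      (_t7 : ∀ i : Fin 𝒟.n, IsScalarTower (𝒟.B i) (𝒟'.B i) (𝒟'.A (i + 1)))
      (sA : Algebra S (𝒟'.A 0)) (_t8 : IsScalarTower S (Localization.Away sd.hX) (𝒟'.A 0))
      (mA : ∀ i : Fin 𝒟.n, Module (𝒟.A i) (𝒟'.M i)) (_t9 : ∀ i : Fin 𝒟.n, IsScalarTower (𝒟.A i) (𝒟'.A i) (𝒟'.M i))
      (gM : ∀ i : Fin 𝒟.n, 𝒟.M i →ₗ[𝒟.A i] 𝒟'.M i),
        𝒟'.n = 𝒟.n ∧ 𝒟'.r = 𝒟.r ∧ 𝒜'.d = 𝒜.d ∧
        (letI := aA ⟨0, 𝒟.pos⟩; IsScalarTower S (𝒟.A 0) (𝒟'.A 0)) ∧
      (∀ x : N, 𝒟'.isoN (LocalizedModule.mkLinearMap (Submonoid.powers sd.hX) N x) = gM ⟨0, 𝒟.pos⟩ (𝒟.isoN x)) ∧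
      (∀ (i : Fin 𝒟.n) (h : (i : ℕ) + 1 < 𝒟.n),
        letI := aA ⟨i + 1, h⟩; IsScalarTower (𝒟.B i) (𝒟.A (i + 1)) (𝒟'.A (i + 1))) ∧
        ∀ i : Fin 𝒟.n,
          sd.a i ∉ 𝒜.qA i ∧ sd.b i ∉ 𝒜.qB i ∧
          IsLocalization.Away (sd.a i) (𝒟'.A i) ∧ IsLocalization.Away (sd.b i) (𝒟'.B i) ∧
          IsLocalizedModule (Submonoid.powers (sd.a i)) (gM i) ∧
          (𝒜'.qA i).LiesOver (𝒜.qA i) ∧ (𝒜'.qB i).LiesOver (𝒜.qB i) ∧
          LinearMap.range (𝒟'.α i) =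
            Submodule.span (𝒟'.B i) ((gM i) '' (LinearMap.range (𝒟.α i) : Set (𝒟.M i))) := by
  letI mRN : Module (Rg sd) (Nx sd) := Module.compHom _ (algebraMap (Rg sd) (Sx sd))
  haveI tRN : IsScalarTower (Rg sd) (Sx sd) (Nx sd) := IsScalarTower.of_algebraMap_smul fun _ _ => rfl
  letI aA : ∀ i : Fin 𝒟.n, Algebra (𝒟.A i) ((mkD sd).A i) := fun i => (W sd i i.2).aA
  letI aB : ∀ i : Fin 𝒟.n, Algebra (𝒟.B i) ((mkD sd).B i) := fun i => algBBt sd i
  letI bA' : ∀ i : Fin 𝒟.n, Algebra (𝒟.B i) ((mkD sd).A (i + 1)) := fun i =>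
    ((algebraMap (Bt sd i) (X sd (i + 1)).A').comp (algebraMap (𝒟.B i) (Bt sd i))).toAlgebra
  letI sA : Algebra S ((mkD sd).A 0) :=
    ((algebraMap (Sx sd) (X sd 0).A').comp (algebraMap S (Sx sd))).toAlgebra
  have t7 : ∀ i : Fin 𝒟.n, IsScalarTower (𝒟.B i) ((mkD sd).B i) ((mkD sd).A (i + 1)) :=
    fun i => IsScalarTower.of_algebraMap_eq' rfl
  have t8 : IsScalarTower S (Localization.Away sd.hX) ((mkD sd).A 0) :=
    IsScalarTower.of_algebraMap_eq' rfl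
  refine ⟨algRgSx sd, inferInstance, mRN, tRN, pg_isPrime sd, qx_isPrime sd, mkD sd, mkA sd,
    aA, fun i => (W sd i i.2).rA, fun i => (W sd i i.2).t1,
    fun i => (W sd i i.2).t2, aB, fun i => algRBt sd i,
    fun i => (inferInstance : IsScalarTower R (Rg sd) (Bt sd i)),
    fun i => (inferInstance : IsScalarTower R (𝒟.B i) (Bt sd i)),
    fun i => (W sd i i.2).bA, fun i => (W sd i i.2).t5, fun i => (W sd i i.2).t6,
    bA', t7, sA, t8,
    fun i => (W sd i i.2).mA, fun i => (W sd i i.2).t9, fun i => (W sd i i.2).gM,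
    rfl, rfl, rfl, ?_, ?_, ?_, ?_⟩
  · letI : Algebra (𝒟.A 0) ((mkD sd).A 0) := aA ⟨0, 𝒟.pos⟩
    exact IsScalarTower.of_algebraMap_eq fun s => (W sd 0 𝒟.pos).prevTower s
  · intro x
    exact isoNOf_apply sd (X sd 0) (X_good sd 0 𝒟.pos) x
  · intro i h
    letI : Algebra (𝒟.A (i + 1)) ((mkD sd).A (i + 1)) := aA ⟨i + 1, h⟩
    exact IsScalarTower.of_algebraMap_eq fun y => (W sd (i + 1) h).prevTower y
  · intro i
    exact ⟨sd.ha i i.2, sd.hb i, (W sd i i.2).loc,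
      (inferInstance : IsLocalization.Away (sd.b i) (Bt sd i)), (W sd i i.2).locM,
      (W sd i i.2).overQ, qBt_liesOver sd i, (W sd i i.2).range⟩

end Groth.Agent.Lib.Seat55.CShrink
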