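/-
Seat55CShrinkE: existence of shrink data for a complete devissage at a point.
`exists_chain` (downward pass: from `u ∉ q` a chain of `w i ∉ qB i` with `D(w i)` pulling back into
`D(w (i-1))`), `exists_upward` (upward pass through the surjections `B i → A (i+1)`), `exists_g`
(the base element), `exists_sd` (assembly of `SD`), and `main_inside_aux` (the common form of the
statements S12246 / S12247).
-/
import Mathlib
import Groth.Prelude.Def_FlatCA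
import Groth.Agent.Lib.Seat55CShrinkD

set_option autoImplicit false
set_option linter.unusedVariables false
set_option linter.style.haveILetI false
set_option linter.unusedSectionVars false
universe u
open TensorProduct CategoryTheory AlgebraicGeometry

namespace Groth.Agent.Lib.Seat55.CShrink

open Groth.Agent.Lib.Seat55.CShrinkGen Groth.Agent.Lib.Seat55.ShrinkEx Groth.Agent.Lib.Seat55.Shrink

variable {R S : Type u} [CommRing R] [CommRing S] [Algebra R S] {N : Type u} [AddCommGroup N]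
  [Module S N] {p : Ideal R} [p.IsPrime] {q : Ideal S} [q.IsPrime]
  (𝒟 : FlatCA.CompleteDevissage R S N p) (𝒜 : FlatCA.CompleteDevissageAt R S N p q 𝒟)

attribute [local instance] FlatCA.CompleteDevissageAt.hqB FlatCA.CompleteDevissageAt.hqA
  FlatCA.CompleteDevissageAt.overB FlatCA.CompleteDevissageAt.overA

/-- membership in `qA i` of the image of an element of `B i`. -/
theorem map_mem_qA_iff (i : ℕ) (x : 𝒟.B i) :
    algebraMap (𝒟.B i) (𝒟.A i) x ∈ 𝒜.qA i ↔ x ∈ 𝒜.qB i := by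
  rw [(𝒜.overA i).over]
  rfl

/-- membership in `qA (i+1)` of the image of an element of `B i`. -/
theorem map_mem_qA_succ_iff (i : ℕ) (h : i + 1 < 𝒟.n) (x : 𝒟.B i) :
    algebraMap (𝒟.B i) (𝒟.A (i + 1)) x ∈ 𝒜.qA (i + 1) ↔ x ∈ 𝒜.qB i := by
  rw [← 𝒜.qStep i h]
  rfl

/-- the upward pass: elements `b i ∈ B i` threaded through the surjections `B i → A (i+1)`. -/
theorem exists_upward (w : ∀ i, 𝒟.B i) (hw : ∀ i, w i ∉ 𝒜.qB i) :
    ∃ b : ∀ i, 𝒟.B i, (∀ i, b i ∉ 𝒜.qB i) ∧ (∀ i, w i ∣ b i) ∧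
      (∀ i, i + 1 < 𝒟.n → algebraMap (𝒟.B i) (𝒟.A (i + 1)) (b i) =
        algebraMap (𝒟.B i) (𝒟.A (i + 1)) (w i) *
          algebraMap (𝒟.B (i + 1)) (𝒟.A (i + 1)) (b (i + 1))) ∧
      b (𝒟.n - 1) = w (𝒟.n - 1) := by
  suffices key : ∀ k : ℕ, k ≤ 𝒟.n - 1 → ∃ b : ∀ i, 𝒟.B i, (∀ i, b i ∉ 𝒜.qB i) ∧
      (∀ i, w i ∣ b i) ∧
      (∀ i, 𝒟.n - 1 - k ≤ i → i + 1 < 𝒟.n → algebraMap (𝒟.B i) (𝒟.A (i + 1)) (b i) =
        algebraMap (𝒟.B i) (𝒟.A (i + 1)) (w i) *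
          algebraMap (𝒟.B (i + 1)) (𝒟.A (i + 1)) (b (i + 1))) ∧
      b (𝒟.n - 1) = w (𝒟.n - 1) by
    obtain ⟨b, h1, h2, h3, h4⟩ := key (𝒟.n - 1) le_rfl
    exact ⟨b, h1, h2, fun i hi => h3 i (by omega) hi, h4⟩
  intro k
  induction k with
  | zero =>
    intro _
    exact ⟨w, hw, fun i => dvd_rfl, fun i h1 h2 => by omega, rfl⟩
  | succ k ih =>
    intro hk
    obtain ⟨b, h1, h2, h3, h4⟩ := ih (by omega)
    classical
    set j := 𝒟.n - 1 - (k + 1) with hj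
    have hj1 : j + 1 < 𝒟.n := by omega
    obtain ⟨c, hc⟩ := 𝒟.surjBA' j hj1 (algebraMap (𝒟.B (j + 1)) (𝒟.A (j + 1)) (b (j + 1)))
    have hcq : c ∉ 𝒜.qB j := by
      rw [← map_mem_qA_succ_iff 𝒟 𝒜 j hj1, hc, map_mem_qA_iff]
      exact h1 (j + 1)
    refine ⟨Function.update b j (w j * c), ?_, ?_, ?_, ?_⟩
    · intro i
      by_cases hij : i = j
      · rw [hij, Function.update_self]
        exact fun hmem => ((𝒜.hqB j).mem_or_mem hmem).elim (hw j) hcq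
      · rw [Function.update_of_ne hij]
        exact h1 i
    · intro i
      by_cases hij : i = j
      · rw [hij, Function.update_self]
        exact Dvd.intro _ rfl
      · rw [Function.update_of_ne hij]
        exact h2 i
    · intro i hi hi1
      by_cases hij : i = j
      · rw [hij, Function.update_self, Function.update_of_ne (by omega : j + 1 ≠ j), map_mul, hc]
      · rw [Function.update_of_ne hij, Function.update_of_ne (by omega : i + 1 ≠ j)]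
        exact h3 i (by omega) hi1
    · rw [Function.update_of_ne (by omega : 𝒟.n - 1 ≠ j)]
      exact h4

include 𝒜 in
/-- an element of the base whose standard open lies in the images of the `D(b i)`, `i < n`. -/
theorem exists_g (b : ∀ i, 𝒟.B i) (hb : ∀ i, b i ∉ 𝒜.qB i) :
    ∃ g : R, g ∉ p ∧ ∀ i, i < 𝒟.n → ∀ t : PrimeSpectrum R, g ∉ t.asIdeal →
      ∃ P : PrimeSpectrum (𝒟.B i), b i ∉ P.asIdeal ∧
        P.asIdeal.comap (algebraMap R (𝒟.B i)) = t.asIdeal := by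
  suffices key : ∀ m : ℕ, ∃ g : R, g ∉ p ∧ ∀ i, i < m → i < 𝒟.n → ∀ t : PrimeSpectrum R,
      g ∉ t.asIdeal → ∃ P : PrimeSpectrum (𝒟.B i), b i ∉ P.asIdeal ∧
        P.asIdeal.comap (algebraMap R (𝒟.B i)) = t.asIdeal by
    obtain ⟨g, hg, h⟩ := key 𝒟.n
    exact ⟨g, hg, fun i hi => h i hi hi⟩
  intro m
  induction m with
  | zero => exact ⟨1, fun h => ‹p.IsPrime›.ne_top ((Ideal.eq_top_iff_one p).2 h),
      fun i hi => absurd hi (Nat.not_lt_zero i)⟩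
  | succ m ih =>
    obtain ⟨g, hg, h⟩ := ih
    by_cases hm : m < 𝒟.n
    · obtain ⟨g', hg', h'⟩ := exists_basicOpen_subset_image (𝒜.d m) (𝒜.relDim m hm) p (𝒜.qB m)
        (b m) (hb m)
      refine ⟨g * g', fun hmem => (‹p.IsPrime›.mem_or_mem hmem).elim hg hg', ?_⟩
      intro i hi hin t ht
      have htg : g ∉ t.asIdeal := fun hmem => ht (Ideal.mul_mem_right _ _ hmem)
      have htg' : g' ∉ t.asIdeal := fun hmem => ht (Ideal.mul_mem_left _ _ hmem)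
      by_cases him : i = m
      · subst him
        exact h' t htg'
      · exact h i (by omega) hin t htg
    · exact ⟨g, hg, fun i hi hin t ht => h i (by omega) hin t ht⟩

include 𝒜 in
theorem algebraMap_notMem_qB (g : R) (hg : g ∉ p) (i : ℕ) :
    algebraMap R (𝒟.B i) g ∉ 𝒜.qB i := by
  intro hmem
  apply hg
  rw [(𝒜.overB i).over]
  exact hmem

/-- existence of shrink data from a chain `w` of elements of the `B i`. -/
theorem exists_sd (u : S) (hu : u ∉ q) (w : ∀ i, 𝒟.B i) (hw : ∀ i, w i ∉ 𝒜.qB i)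
    (c0 : ∃ k : ℕ, algebraMap S (𝒟.A 0) u ∣ algebraMap (𝒟.B 0) (𝒟.A 0) (w 0) ^ k)
    (c1 : ∀ i, i + 1 < 𝒟.n → ∃ k : ℕ, algebraMap (𝒟.B i) (𝒟.A (i + 1)) (w i) ∣
      algebraMap (𝒟.B (i + 1)) (𝒟.A (i + 1)) (w (i + 1)) ^ k) :
    ∃ sd : SD 𝒟 𝒜, IsUnit (algebraMap S (Localization.Away sd.hX) u) ∧
      sd.b (𝒟.n - 1) = w (𝒟.n - 1) * algebraMap R (𝒟.B (𝒟.n - 1)) sd.g := by
  obtain ⟨b₀, hb₀, hwb, hstep, hlast⟩ := exists_upward 𝒟 𝒜 w hw
  obtain ⟨g, hg, himg⟩ := exists_g 𝒟 𝒜 b₀ hb₀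
  -- the elements of the `B i`
  set b : ∀ i, 𝒟.B i := fun i => b₀ i * algebraMap R (𝒟.B i) g with hbdef
  have hb : ∀ i, b i ∉ 𝒜.qB i := fun i hmem =>
    ((𝒜.hqB i).mem_or_mem hmem).elim (hb₀ i) (algebraMap_notMem_qB 𝒟 𝒜 g hg i)
  -- the elements of the `A i`
  set a : ∀ i, 𝒟.A i := fun i => match i with
    | 0 => algebraMap (𝒟.B 0) (𝒟.A 0) (b 0)
    | (j + 1) => algebraMap (𝒟.B j) (𝒟.A (j + 1)) (b j) *
        algebraMap (𝒟.B (j + 1)) (𝒟.A (j + 1)) (b (j + 1)) with hadef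
  have ha0 : a 0 = algebraMap (𝒟.B 0) (𝒟.A 0) (b 0) := rfl
  have has : ∀ j, a (j + 1) = algebraMap (𝒟.B j) (𝒟.A (j + 1)) (b j) *
      algebraMap (𝒟.B (j + 1)) (𝒟.A (j + 1)) (b (j + 1)) := fun j => rfl
  -- key relation: `x = w̄ * y`
  have hxy : ∀ j, j + 1 < 𝒟.n → algebraMap (𝒟.B j) (𝒟.A (j + 1)) (b j) =
      algebraMap (𝒟.B j) (𝒟.A (j + 1)) (w j) *
        algebraMap (𝒟.B (j + 1)) (𝒟.A (j + 1)) (b (j + 1)) := by
    intro j hj
    simp only [hbdef, map_mul]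
    rw [hstep j hj, ← IsScalarTower.algebraMap_apply R (𝒟.B j) (𝒟.A (j + 1)),
      ← IsScalarTower.algebraMap_apply R (𝒟.B (j + 1)) (𝒟.A (j + 1))]
    ring
  have hwy : ∀ j, j + 1 < 𝒟.n → ∃ k : ℕ, algebraMap (𝒟.B j) (𝒟.A (j + 1)) (w j) ∣
      algebraMap (𝒟.B (j + 1)) (𝒟.A (j + 1)) (b (j + 1)) ^ k := by
    intro j hj
    obtain ⟨k, hk⟩ := c1 j hj
    refine ⟨k, hk.trans (pow_dvd_pow_of_dvd (map_dvd _ ?_) k)⟩
    exact (hwb (j + 1)).trans (Dvd.intro _ rfl)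
  -- the element of `S`
  obtain ⟨s₀, hs₀⟩ := 𝒟.surjSA (a 0)
  set hX : S := u * s₀ * algebraMap R S g with hXdef
  have hXimg : algebraMap S (𝒟.A 0) hX =
      algebraMap S (𝒟.A 0) u * a 0 * algebraMap R (𝒟.A 0) g := by
    rw [hXdef, map_mul, map_mul, hs₀, ← IsScalarTower.algebraMap_apply R S (𝒟.A 0)]
  have hga0 : algebraMap R (𝒟.A 0) g ∣ a 0 := by
    rw [ha0, hbdef]
    simp only [map_mul]
    rw [← IsScalarTower.algebraMap_apply R (𝒟.B 0) (𝒟.A 0)]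
    exact Dvd.intro_left _ rfl
  have hua0 : ∃ k : ℕ, algebraMap S (𝒟.A 0) u ∣ a 0 ^ k := by
    obtain ⟨k, hk⟩ := c0
    refine ⟨k, hk.trans (pow_dvd_pow_of_dvd ?_ k)⟩
    rw [ha0]
    exact map_dvd _ ((hwb 0).trans (Dvd.intro _ rfl))
  have hqover : q.comap (algebraMap R S) = p := q_over (𝒜 := 𝒜)
  have hs₀q : s₀ ∉ q := by
    intro hmem
    have h1 : algebraMap S (𝒟.A 0) s₀ ∈ 𝒜.qA 0 := by
      have : s₀ ∈ (𝒜.qA 0).comap (algebraMap S (𝒟.A 0)) := by rw [𝒜.q0]; exact hmem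
      exact this
    rw [hs₀, ha0, map_mem_qA_iff] at h1
    exact hb 0 h1
  have hgq : algebraMap R S g ∉ q := by
    intro hmem
    apply hg
    rw [← hqover]
    exact hmem
  refine ⟨{ g := g, hX := hX, a := a, b := b, hg := hg, hhX := ?_, hb := hb, ha := ?_, gX := ?_,
            gb := ?_, ba := ?_, ba1 := ?_, Xa := ?_, radBA := ?_, radBA1 := ?_, radXa := ?_,
            himg := ?_ }, ?_, ?_⟩
  · -- hhX
    intro hmem
    rcases ‹q.IsPrime›.mem_or_mem hmem with h1 | h1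
    · rcases ‹q.IsPrime›.mem_or_mem h1 with h2 | h2
      · exact hu h2
      · exact hs₀q h2
    · exact hgq h1
  · -- ha
    intro i hi
    cases i with
    | zero =>
      rw [ha0, map_mem_qA_iff]
      exact hb 0
    | succ j =>
      rw [has j]
      intro hmem
      rcases (𝒜.hqA (j + 1)).mem_or_mem hmem with h1 | h1
      · rw [map_mem_qA_succ_iff 𝒟 𝒜 j hi] at h1
        exact hb j h1
      · rw [map_mem_qA_iff] at h1
        exact hb (j + 1) h1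
  · -- gX
    exact Dvd.intro_left _ rfl
  · -- gb
    intro i
    exact Dvd.intro_left _ rfl
  · -- ba
    intro i
    cases i with
    | zero => exact ⟨1, by rw [pow_one]⟩
    | succ j => exact ⟨1, by rw [pow_one, has j]; exact Dvd.intro_left _ rfl⟩
  · -- ba1
    intro i
    exact ⟨1, by rw [pow_one, has i]; exact Dvd.intro _ rfl⟩
  · -- Xa
    obtain ⟨k, hk⟩ := hua0
    refine ⟨k + 1 + 1, ?_⟩
    rw [hXimg, pow_succ, pow_succ]
    exact mul_dvd_mul (mul_dvd_mul hk dvd_rfl) hga0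
  · -- radBA
    intro i hi
    cases i with
    | zero => exact ⟨1, by rw [pow_one]⟩
    | succ j =>
      obtain ⟨k, hk⟩ := hwy j hi
      refine ⟨k + 1 + 1, ?_⟩
      rw [has j, hxy j hi, pow_succ, pow_succ]
      exact mul_dvd_mul (mul_dvd_mul hk dvd_rfl) dvd_rfl
  · -- radBA1
    intro i hi
    refine ⟨2, ?_⟩
    rw [has i, pow_two]
    refine mul_dvd_mul dvd_rfl ?_
    rw [hxy i hi]
    exact Dvd.intro_left _ rfl
  · -- radXa
    refine ⟨1, ?_⟩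
    rw [pow_one, hXimg]
    exact (Dvd.intro_left _ rfl).mul_right _
  · -- himg
    intro i hi t ht
    obtain ⟨P, hP, hPt⟩ := himg i hi t ht
    refine ⟨P, ?_, hPt⟩
    intro hmem
    rcases P.2.mem_or_mem hmem with h1 | h1
    · exact hP h1
    · apply ht
      rw [← hPt]
      exact h1
  · -- unit
    exact isUnit_of_dvd_away hX u ⟨s₀ * algebraMap R S g, by rw [hXdef, mul_assoc]⟩
  · -- last
    change b₀ (𝒟.n - 1) * algebraMap R (𝒟.B (𝒟.n - 1)) g = _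
    rw [hlast]

/-- the downward pass: a chain of elements `w i ∈ B i` such that `D(w i)` pulls back into
`D(w (i-1))` (and `D(w 0)` into `D(u)`). -/
theorem exists_chain (u : S) (hu : u ∉ q) :
    ∃ w : ∀ i, 𝒟.B i, (∀ i, w i ∉ 𝒜.qB i) ∧
      (∃ k : ℕ, algebraMap S (𝒟.A 0) u ∣ algebraMap (𝒟.B 0) (𝒟.A 0) (w 0) ^ k) ∧
      ∀ i, i + 1 < 𝒟.n → ∃ k : ℕ, algebraMap (𝒟.B i) (𝒟.A (i + 1)) (w i) ∣
        algebraMap (𝒟.B (i + 1)) (𝒟.A (i + 1)) (w (i + 1)) ^ k := by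
  classical
  suffices key : ∀ m : ℕ, ∃ w : ∀ i, 𝒟.B i, (∀ i, w i ∉ 𝒜.qB i) ∧
      (∃ k : ℕ, algebraMap S (𝒟.A 0) u ∣ algebraMap (𝒟.B 0) (𝒟.A 0) (w 0) ^ k) ∧
      ∀ i, i + 1 < m + 1 → i + 1 < 𝒟.n → ∃ k : ℕ, algebraMap (𝒟.B i) (𝒟.A (i + 1)) (w i) ∣
        algebraMap (𝒟.B (i + 1)) (𝒟.A (i + 1)) (w (i + 1)) ^ k by
    obtain ⟨w, h1, h2, h3⟩ := key 𝒟.n
    exact ⟨w, h1, h2, fun i hi => h3 i (by omega) hi⟩
  have one_notMem : ∀ i, (1 : 𝒟.B i) ∉ 𝒜.qB i := fun i h =>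
    (𝒜.hqB i).ne_top ((Ideal.eq_top_iff_one _).2 h)
  intro m
  induction m with
  | zero =>
    haveI : Module.Finite (𝒟.B 0) (𝒟.A 0) := 𝒟.finiteBA 0 𝒟.pos
    haveI : (𝒜.qA 0).LiesOver q := ⟨𝒜.q0.symm⟩
    obtain ⟨w₀, hw₀, hk⟩ := exists_dvd_pow_of_unique (S := S) (C := 𝒟.A 0) (D := 𝒟.B 0) q
      (𝒜.qA 0) (𝒜.qB 0) (𝒜.uniq 0 𝒟.pos) u hu
    refine ⟨Function.update (fun i => (1 : 𝒟.B i)) 0 w₀, ?_, ?_, fun i hi => by omega⟩
    · intro i
      by_cases hi : i = 0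
      · rw [hi, Function.update_self]; exact hw₀
      · rw [Function.update_of_ne hi]; exact one_notMem i
    · rw [Function.update_self]; exact hk
  | succ m ih =>
    obtain ⟨w, h1, h2, h3⟩ := ih
    by_cases hm : m + 1 < 𝒟.n
    · haveI : Module.Finite (𝒟.B (m + 1)) (𝒟.A (m + 1)) := 𝒟.finiteBA (m + 1) hm
      haveI : (𝒜.qA (m + 1)).LiesOver (𝒜.qB m) := ⟨(𝒜.qStep m hm).symm⟩
      obtain ⟨w', hw', hk⟩ := exists_dvd_pow_of_unique (S := 𝒟.B m) (C := 𝒟.A (m + 1))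
        (D := 𝒟.B (m + 1)) (𝒜.qB m) (𝒜.qA (m + 1)) (𝒜.qB (m + 1)) (𝒜.uniq (m + 1) hm) (w m) (h1 m)
      refine ⟨Function.update w (m + 1) w', ?_, ?_, ?_⟩
      · intro i
        by_cases hi : i = m + 1
        · rw [hi, Function.update_self]; exact hw'
        · rw [Function.update_of_ne hi]; exact h1 i
      · rw [Function.update_of_ne (by omega : (0 : ℕ) ≠ m + 1)]; exact h2
      · intro i hi hin
        by_cases him : i = m
        · rw [him, Function.update_self, Function.update_of_ne (by omega : m ≠ m + 1)]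
          exact hk
        · rw [Function.update_of_ne (by omega : i ≠ m + 1),
            Function.update_of_ne (by omega : i + 1 ≠ m + 1)]
          exact h3 i (by omega) hin
    · exact ⟨w, h1, h2, fun i hi hin => h3 i (by omega) hin⟩

variable {𝒟} {𝒜} in
theorem main_inside_aux (u : S) (hu : u ∉ q) (w : ∀ i, 𝒟.B i) (hw : ∀ i, w i ∉ 𝒜.qB i)
    (c0 : ∃ k : ℕ, algebraMap S (𝒟.A 0) u ∣ algebraMap (𝒟.B 0) (𝒟.A 0) (w 0) ^ k)
    (c1 : ∀ i, i + 1 < 𝒟.n → ∃ k : ℕ, algebraMap (𝒟.B i) (𝒟.A (i + 1)) (w i) ∣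
      algebraMap (𝒟.B (i + 1)) (𝒟.A (i + 1)) (w (i + 1)) ^ k) :
    ∃ (g : R) (hX : S), g ∉ p ∧ hX ∉ q ∧
      IsUnit (algebraMap S (Localization.Away hX) u) ∧
      ∃ (_ : Algebra (Localization.Away g) (Localization.Away hX)) (_ : IsScalarTower R (Localization.Away g) (Localization.Away hX))
        (_ : Module (Localization.Away g) (LocalizedModule (Submonoid.powers hX) N)) (_ : IsScalarTower (Localization.Away g) (Localization.Away hX) (LocalizedModule (Submonoid.powers hX) N))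
        (_ : (Ideal.map (algebraMap R (Localization.Away g)) p).IsPrime) (_ : (Ideal.map (algebraMap S (Localization.Away hX)) q).IsPrime)
        (𝒟' : FlatCA.CompleteDevissage (Localization.Away g) (Localization.Away hX) (LocalizedModule (Submonoid.powers hX) N) (Ideal.map (algebraMap R (Localization.Away g)) p))
        (𝒜' : FlatCA.CompleteDevissageAt (Localization.Away g) (Localization.Away hX) (LocalizedModule (Submonoid.powers hX) N) (Ideal.map (algebraMap R (Localization.Away g)) p) (Ideal.map (algebraMap S (Localization.Away hX)) q) 𝒟')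
        (a : ∀ i : Fin 𝒟.n, 𝒟.A i) (b : ∀ i : Fin 𝒟.n, 𝒟.B i)
      (aA : ∀ i : Fin 𝒟.n, Algebra (𝒟.A i) (𝒟'.A i)) (rA : ∀ i : Fin 𝒟.n, Algebra R (𝒟'.A i))
      (_t1 : ∀ i : Fin 𝒟.n, IsScalarTower R (Localization.Away g) (𝒟'.A i)) (_t2 : ∀ i : Fin 𝒟.n, IsScalarTower R (𝒟.A i) (𝒟'.A i))
      (aB : ∀ i : Fin 𝒟.n, Algebra (𝒟.B i) (𝒟'.B i)) (rB : ∀ i : Fin 𝒟.n, Algebra R (𝒟'.B i))
      (_t3 : ∀ i : Fin 𝒟.n, IsScalarTower R (Localization.Away g) (𝒟'.B i)) (_t4 : ∀ i : Fin 𝒟.n, IsScalarTower R (𝒟.B i) (𝒟'.B i))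
      (bA : ∀ i : Fin 𝒟.n, Algebra (𝒟.B i) (𝒟'.A i)) (_t5 : ∀ i : Fin 𝒟.n, IsScalarTower (𝒟.B i) (𝒟.A i) (𝒟'.A i))
      (_t6 : ∀ i : Fin 𝒟.n, IsScalarTower (𝒟.B i) (𝒟'.B i) (𝒟'.A i))
      (bA' : ∀ i : Fin 𝒟.n, Algebra (𝒟.B i) (𝒟'.A (i + 1)))
      (_t7 : ∀ i : Fin 𝒟.n, IsScalarTower (𝒟.B i) (𝒟'.B i) (𝒟'.A (i + 1)))
      (sA : Algebra S (𝒟'.A 0)) (_t8 : IsScalarTower S (Localization.Away hX) (𝒟'.A 0))
      (mA : ∀ i : Fin 𝒟.n, Module (𝒟.A i) (𝒟'.M i)) (_t9 : ∀ i : Fin 𝒟.n, IsScalarTower (𝒟.A i) (𝒟'.A i) (𝒟'.M i))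
      (gM : ∀ i : Fin 𝒟.n, 𝒟.M i →ₗ[𝒟.A i] 𝒟'.M i),
        𝒟'.n = 𝒟.n ∧ 𝒟'.r = 𝒟.r ∧ 𝒜'.d = 𝒜.d ∧
        (letI := aA ⟨0, 𝒟.pos⟩; IsScalarTower S (𝒟.A 0) (𝒟'.A 0)) ∧
      (∀ x : N, 𝒟'.isoN (LocalizedModule.mkLinearMap (Submonoid.powers hX) N x) = gM ⟨0, 𝒟.pos⟩ (𝒟.isoN x)) ∧
      (∀ (i : Fin 𝒟.n) (h : (i : ℕ) + 1 < 𝒟.n),
        letI := aA ⟨i + 1, h⟩; IsScalarTower (𝒟.B i) (𝒟.A (i + 1)) (𝒟'.A (i + 1))) ∧
        b ⟨𝒟.n - 1, Nat.sub_one_lt_of_lt 𝒟.pos⟩ = w (𝒟.n - 1) * algebraMap R (𝒟.B (𝒟.n - 1)) g ∧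
        ∀ i : Fin 𝒟.n,
          a i ∉ 𝒜.qA i ∧ b i ∉ 𝒜.qB i ∧
          IsLocalization.Away (a i) (𝒟'.A i) ∧ IsLocalization.Away (b i) (𝒟'.B i) ∧
          IsLocalizedModule (Submonoid.powers (a i)) (gM i) ∧
          (𝒜'.qA i).LiesOver (𝒜.qA i) ∧ (𝒜'.qB i).LiesOver (𝒜.qB i) ∧
          LinearMap.range (𝒟'.α i) =
            Submodule.span (𝒟'.B i) ((gM i) '' (LinearMap.range (𝒟.α i) : Set (𝒟.M i))) := by
  obtain ⟨sd, hunit, hlast⟩ := exists_sd 𝒟 𝒜 u hu w hw c0 c1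
  obtain ⟨i1, i2, i3, i4, i5, i6, 𝒟', 𝒜', aA, rA, t1, t2, aB, rB, t3, t4, bA, t5, t6, bA', t7, sA, t8,
    mA, t9, gM, h1, h2, h3, h4, h5, h6, h7⟩ := main_of_sd sd
  exact ⟨sd.g, sd.hX, sd.hg, sd.hhX, hunit, i1, i2, i3, i4, i5, i6, 𝒟', 𝒜', fun i => sd.a i,
    fun i => sd.b i, aA, rA, t1, t2, aB, rB, t3, t4, bA, t5, t6, bA', t7, sA, t8, mA, t9, gM,
    h1, h2, h3, h4, h5, h6, hlast, h7⟩

end Groth.Agent.Lib.Seat55.CShrink
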