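import Groth.Agent.Lib.Seat75DualFrame
import Groth.Agent.Lib.Helper27PullGen
import Groth.Agent.Lib.Helper23SecTw6
import Groth.Agent.Lib.Helper20WeakAss

/-!
# The dual of an invertible module commutes with pull-back (helper55)

* `res_dualSec_eq`: transition functions of the dual frames are the inverses of the transition
  functions of the frames.
* `isInvertible_dual`: the dual of an invertible module is invertible.
* `nonempty_dual_pullback_iso`: for `f : Y ⟶ X` and `M` invertible on `X`,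
  `(f^* M)^∨ ≅ f^* (M^∨)`.
-/

set_option autoImplicit false
set_option linter.style.haveILetI false
universe u

open AlgebraicGeometry CategoryTheory TopologicalSpace Opposite

namespace Groth.Agent.Lib.Seat55.DualPull

open Groth.Agent.Lib.Helper23.SecTw Groth.Agent.Lib.Helper23.GenLocus Groth.Agent.Lib.Helper6
  Groth.Agent.Lib.Seat75.SecOrd Groth.Agent.Lib.Seat75.DualFrame RefHull
  Groth.Agent.Helper13PullbackUnit Groth.Agent.Lib.Helper27PullGen

variable {X : Scheme.{u}}

/-- if `e₂ = c • e₁` on `A`, then `e₁^∨ = c • e₂^∨` on `A`. -/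
theorem res_dualSec_eq (M : X.Modules) {V₁ V₂ A : X.Opens} {e₁ : Γ(M, V₁)} {e₂ : Γ(M, V₂)}
    (he₁ : IsGen M V₁ e₁) (he₂ : IsGen M V₂ e₂) (h₁ : A ≤ V₁) (h₂ : A ≤ V₂) (c : Γ(X, A))
    (hc : res M h₂ e₂ = c • res M h₁ e₁) :
    res (RefHull.dual M) h₁ (dualSec M he₁) = c • res (RefHull.dual M) h₂ (dualSec M he₂) := by
  refine dual_section_eq M he₂ h₂ _ c (fun z => ?_)
  change dualStalk M he₁ z.1 (h₁ z.2) (M.presheaf.germ V₂ z.1 (h₂ z.2) e₂) = _
  have h3 : M.presheaf.germ V₂ z.1 (h₂ z.2) e₂ =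
      X.presheaf.germ A z.1 z.2 c • M.presheaf.germ V₁ z.1 (h₁ z.2) e₁ := by
    rw [← TopCat.Presheaf.germ_res_apply M.presheaf (homOfLE h₂) z.1 z.2 e₂,
      ← TopCat.Presheaf.germ_res_apply M.presheaf (homOfLE h₁) z.1 z.2 e₁, ← germ_smul]
    exact congrArg _ hc
  rw [h3, dualStalk_smul_gen]

/-- the dual of an invertible module is invertible. -/
theorem isInvertible_dual (M : X.Modules) (hM : PicF.IsInvertible M) :
    PicF.IsInvertible (RefHull.dual M) := by
  refine isInvertible_of_isGen _ (fun x => ?_)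
  obtain ⟨W, e, hxW, he⟩ := exists_gen M hM x
  exact ⟨W, dualSec M he, hxW, isGen_dualSec M he⟩

/-- **the dual of an invertible module commutes with pull-back.** -/
theorem nonempty_dual_pullback_iso {Y : Scheme.{u}} (f : Y ⟶ X) (M : X.Modules)
    (hM : PicF.IsInvertible M) :
    Nonempty (RefHull.dual ((Scheme.Modules.pullback f).obj M) ≅
      (Scheme.Modules.pullback f).obj (RefHull.dual M)) := by
  haveI : M.IsQuasicoherent :=
    Groth.Agent.Lib.Helper20.WeakAss.isQuasicoherent_of_isInvertible M hM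
  haveI : (RefHull.dual M).IsQuasicoherent :=
    Groth.Agent.Lib.Helper20.WeakAss.isQuasicoherent_of_isInvertible _ (isInvertible_dual M hM)
  -- the frames
  let ι : Type u := {p : Σ W : X.Opens, Γ(M, W) // IsGen M p.1 p.2}
  let W : ι → Y.Opens := fun i => f ⁻¹ᵁ i.1.1
  have hgen : ∀ i : ι, IsGen ((Scheme.Modules.pullback f).obj M) (W i)
      (unitSec f M (le_refl (f ⁻¹ᵁ i.1.1)) i.1.2) := fun i => isGen_pullback f M i.1.1 i.1.2 i.2
  let a : ∀ i : ι, Γ(RefHull.dual ((Scheme.Modules.pullback f).obj M), W i) := fun i =>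
    dualSec ((Scheme.Modules.pullback f).obj M) (hgen i)
  let b : ∀ i : ι, Γ((Scheme.Modules.pullback f).obj (RefHull.dual M), W i) := fun i =>
    unitSec f (RefHull.dual M) (le_refl (f ⁻¹ᵁ i.1.1)) (dualSec M i.2)
  have ha : ∀ i, IsGen _ (W i) (a i) := fun i => isGen_dualSec _ (hgen i)
  have hb : ∀ i, IsGen _ (W i) (b i) := fun i =>
    isGen_pullback f (RefHull.dual M) i.1.1 (dualSec M i.2) (isGen_dualSec M i.2)
  have hcov : ∀ y : Y, ∃ i, y ∈ W i := by
    intro y
    obtain ⟨W₀, e, hxW, he⟩ := exists_gen M hM (f y)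
    exact ⟨⟨⟨W₀, e⟩, he⟩, hxW⟩
  suffices hc : ∀ i j (g : Γ(Y, W i ⊓ W j)),
      res (RefHull.dual ((Scheme.Modules.pullback f).obj M)) inf_le_left (a i) =
        g • res (RefHull.dual ((Scheme.Modules.pullback f).obj M)) inf_le_right (a j) →
      res ((Scheme.Modules.pullback f).obj (RefHull.dual M)) inf_le_left (b i) =
        g • res ((Scheme.Modules.pullback f).obj (RefHull.dual M)) inf_le_right (b j) by
    obtain ⟨Φ, -⟩ := exists_iso_of_frames _ _ W hcov a b ha hb hc
    exact ⟨Φ⟩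
  · intro i j g hg
    -- the transition function of the frames of `M`
    have hle₁ : i.1.1 ⊓ j.1.1 ≤ i.1.1 := inf_le_left
    have hle₂ : i.1.1 ⊓ j.1.1 ≤ j.1.1 := inf_le_right
    set h' : Γ(X, i.1.1 ⊓ j.1.1) := coef i.2 hle₁ (res M hle₂ j.1.2) with hh'
    have hspec : res M hle₂ j.1.2 = h' • res M hle₁ i.1.2 := (coef_spec i.2 hle₁ _).symm
    have hWle : W i ⊓ W j ≤ f ⁻¹ᵁ (i.1.1 ⊓ j.1.1) := le_refl _
    -- transition of the pulled back frames
    have hpull : ∀ (F : X.Modules) (s₁ : Γ(F, i.1.1)) (s₂ : Γ(F, j.1.1)) (c : Γ(X, i.1.1 ⊓ j.1.1)),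
        res F hle₂ s₂ = c • res F hle₁ s₁ →
        res ((Scheme.Modules.pullback f).obj F) (inf_le_right : W i ⊓ W j ≤ W j)
          (unitSec f F (le_refl (f ⁻¹ᵁ j.1.1)) s₂) =
        (f.appLE (i.1.1 ⊓ j.1.1) (W i ⊓ W j) hWle c) •
          res ((Scheme.Modules.pullback f).obj F) (inf_le_left : W i ⊓ W j ≤ W i)
            (unitSec f F (le_refl (f ⁻¹ᵁ i.1.1)) s₁) := by
      intro F s₁ s₂ c hcs
      have e1 := unitSec_res f F hle₂ hWle s₂
      have e2 := unitSec_res f F hle₁ hWle s₁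
      rw [← e1, ← e2, hcs, unitSec_smul]
    have h1 := hpull M i.1.2 j.1.2 h' hspec
    have h2 := res_dualSec_eq ((Scheme.Modules.pullback f).obj M) (hgen i) (hgen j)
      (inf_le_left : W i ⊓ W j ≤ W i) (inf_le_right : W i ⊓ W j ≤ W j) _ h1
    have hg' : g = f.appLE (i.1.1 ⊓ j.1.1) (W i ⊓ W j) hWle h' := by
      apply (ha j _ inf_le_right).1
      change g • res _ inf_le_right (a j) = _ • res _ inf_le_right (a j)
      rw [← hg]
      exact h2
    have h3 := res_dualSec_eq M i.2 j.2 hle₁ hle₂ h' hspec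
    -- `h3 : res (dualSec e_i) = h' • res (dualSec e_j)`; pull it back, with the roles exchanged
    have e1 := unitSec_res f (RefHull.dual M) hle₁ hWle (dualSec M i.2)
    have e2 := unitSec_res f (RefHull.dual M) hle₂ hWle (dualSec M j.2)
    change res _ inf_le_left (unitSec f (RefHull.dual M) _ (dualSec M i.2)) =
      g • res _ inf_le_right (unitSec f (RefHull.dual M) _ (dualSec M j.2))
    rw [hg', ← e1, ← e2, h3, unitSec_smul]

end Groth.Agent.Lib.Seat55.DualPull
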