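import Groth.Agent.Lib.Seat55FlatAway

/-!
# Finite presentation of modules under change of the top ring (seat 55)

* `finitePresentation_of_faithfullyFlat`, `finitePresentation_of_isBaseChange_of_faithfullyFlat`:
  faithfully flat descent of finite presentation of modules;
* `finitePresentation_iff_of_finite`: for a ring map `T → B` making `B` a finitely presented
  `T`-module, a `B`-module is finitely presented over `B` iff it is over `T`;
* `fp_iff_of_locEq`: comparison of the localizations of a `C`-module at submonoids of `C` and of a
  smaller ring `X` over which `C` is a finitely presented module;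
* `fpAt_iff_of_flat`, `fpAway_of_flat`: finite presentation at a prime / on basic opens along a flat
  change of the top ring.
-/

set_option autoImplicit false
set_option linter.style.haveILetI false
universe u
open TensorProduct

namespace Groth.Agent.Lib.Seat55.FPTop

open Groth.Agent.Lib.Seat55.FlatTop Groth.Agent.Lib.Seat55.FlatAway
  Groth.Agent.Lib.Seat55.ShrinkEx

section Descent

variable {A T M M' : Type u} [CommRing A] [CommRing T] [Algebra A T]
  [AddCommGroup M] [Module A M]

/-- faithfully flat descent of finite presentation of modules. -/
theorem finitePresentation_of_faithfullyFlat [Module.FaithfullyFlat A T]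
    [Module.FinitePresentation T (T ⊗[A] M)] : Module.FinitePresentation A M := by
  haveI : Module.Finite A M := Module.Finite.of_finite_tensorProduct_of_faithfullyFlat T
  obtain ⟨n, f, hf⟩ := Module.Finite.exists_fin' A M
  refine Module.finitePresentation_of_surjective f hf ?_
  have hex : Function.Exact ((LinearMap.ker f).subtype.baseChange T) (f.baseChange T) :=
    lTensor_exact T f.exact_subtype_ker_map hf
  have hinj : Function.Injective ((LinearMap.ker f).subtype.baseChange T) :=
    Module.Flat.lTensor_preserves_injective_linearMap _ (Submodule.injective_subtype _)
  have hfg : (LinearMap.ker (f.baseChange T)).FG :=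
    Module.FinitePresentation.fg_ker (f.baseChange T) (LinearMap.lTensor_surjective T hf)
  rw [LinearMap.exact_iff] at hex
  rw [hex] at hfg
  haveI : Module.Finite T (LinearMap.range ((LinearMap.ker f).subtype.baseChange T)) :=
    Module.Finite.iff_fg.2 hfg
  haveI : Module.Finite T (T ⊗[A] (LinearMap.ker f)) :=
    Module.Finite.equiv (LinearEquiv.ofInjective _ hinj).symm
  haveI : Module.Finite A (LinearMap.ker f) :=
    Module.Finite.of_finite_tensorProduct_of_faithfullyFlat T
  exact Module.Finite.iff_fg.1 inferInstance

variable [AddCommGroup M'] [Module T M'] [Module A M'] [IsScalarTower A T M']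

theorem finitePresentation_of_isBaseChange_of_faithfullyFlat [Module.FaithfullyFlat A T]
    (h : M →ₗ[A] M') (hh : IsBaseChange T h) [Module.FinitePresentation T M'] :
    Module.FinitePresentation A M := by
  haveI : Module.FinitePresentation T (T ⊗[A] M) := Module.FinitePresentation.of_equiv hh.equiv.symm
  exact finitePresentation_of_faithfullyFlat (T := T)

end Descent

section Finite

/-- over a ring map `T → B` with `B` a finitely presented `T`-module, finite presentation of a
`B`-module can be tested over `T`. -/
theorem finitePresentation_iff_of_finite {T B M : Type u} [CommRing T] [CommRing B] [Algebra T B]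
    [AddCommGroup M] [Module T M] [Module B M] [IsScalarTower T B M]
    [Module.FinitePresentation T B] :
    Module.FinitePresentation T M ↔ Module.FinitePresentation B M := by
  refine ⟨fun _ => ?_, fun _ => Module.FinitePresentation.trans T M B⟩
  haveI : Module.Finite B M := Module.Finite.of_restrictScalars_finite T B M
  obtain ⟨n, f, hf⟩ := Module.Finite.exists_fin' B M
  refine Module.finitePresentation_of_surjective f hf ?_
  apply Submodule.FG.of_restrictScalars T
  rw [← LinearMap.ker_restrictScalars]
  exact Module.FinitePresentation.fg_ker (f.restrictScalars T) hf

end Finite

section LocEq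

/-- comparison of finite presentation of the localizations of a `C`-module at a submonoid of `C`
and at a submonoid (with the same saturation) of a ring `X` over which `C` is a finitely presented
module. -/
theorem fp_iff_of_locEq {X C G : Type u} [CommRing X] [CommRing C] [Algebra X C]
    [Module.FinitePresentation X C]
    [AddCommGroup G] [Module C G] [Module X G] [IsScalarTower X C G]
    (W : Submonoid X) (V : Submonoid C)
    (h1 : ∀ w ∈ W, algebraMap X C w ∈ V)
    (h2 : ∀ v ∈ V, ∃ c : C, ∃ w ∈ W, c * v = algebraMap X C w) :
    Module.FinitePresentation (Localization W) (LocalizedModule W G) ↔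
      Module.FinitePresentation (Localization V) (LocalizedModule V G) := by
  have hunit : ∀ w : W, IsUnit (algebraMap X (Localization V) w) := fun w => by
    rw [IsScalarTower.algebraMap_apply X C (Localization V)]
    exact IsLocalization.map_units (Localization V) ⟨algebraMap X C w, h1 w w.2⟩
  letI : Algebra (Localization W) (Localization V) := (IsLocalization.lift hunit).toAlgebra
  haveI : IsScalarTower X (Localization W) (Localization V) :=
    IsScalarTower.of_algebraMap_eq fun x => (IsLocalization.lift_eq hunit x).symm
  haveI : IsLocalizedModule W ((Algebra.linearMap C (Localization V)).restrictScalars X) :=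
    isLocalizedModule_restrictScalars W V (Algebra.linearMap C (Localization V)) h1 h2
  have hbc : IsBaseChange (Localization W)
      ((Algebra.linearMap C (Localization V)).restrictScalars X) :=
    IsLocalizedModule.isBaseChange W (Localization W) _
  haveI : Module.FinitePresentation (Localization W) (Localization V) :=
    FinitePresentation.of_isBaseChange _ hbc
  letI : Module (Localization W) (LocalizedModule V G) :=
    Module.compHom _ (algebraMap (Localization W) (Localization V))
  haveI : IsScalarTower (Localization W) (Localization V) (LocalizedModule V G) :=
    ⟨fun b t x => by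
      change (b • t) • x = algebraMap (Localization W) (Localization V) b • (t • x)
      rw [Algebra.smul_def, mul_smul]⟩
  haveI : IsScalarTower X (Localization W) (LocalizedModule V G) :=
    IsScalarTower.to₁₂₄ X (Localization W) (Localization V) _
  haveI := isLocalizedModule_restrictScalars W V (LocalizedModule.mkLinearMap V G) h1 h2
  let e : LocalizedModule W G ≃ₗ[X] LocalizedModule V G :=
    IsLocalizedModule.linearEquiv W (LocalizedModule.mkLinearMap W G)
      ((LocalizedModule.mkLinearMap V G).restrictScalars X)
  rw [(e.extendScalarsOfIsLocalization W (Localization W)).finitePresentation_iff]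
  exact finitePresentation_iff_of_finite

end LocEq

section Top

variable {S S' N G : Type u} [CommRing S] [CommRing S'] [Algebra S S'] [Module.Flat S S']
    [AddCommGroup N] [Module S N]
    [AddCommGroup G] [Module S' G] [Module S G] [IsScalarTower S S' G]

/-- finite presentation of the localization at a prime is insensitive to a flat change of the
top ring. -/
theorem fpAt_iff_of_flat (g : N →ₗ[S] G) (hg : IsBaseChange S' g)
    (q : Ideal S) [q.IsPrime] (q' : Ideal S') [q'.IsPrime] [q'.LiesOver q] :
    Module.FinitePresentation (Localization.AtPrime q) (LocalizedModule q.primeCompl N) ↔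
      Module.FinitePresentation (Localization.AtPrime q') (LocalizedModule q'.primeCompl G) := by
  letI := Localization.AtPrime.algebraOfLiesOver q q'
  haveI : IsLocalHom (algebraMap (Localization.AtPrime q) (Localization.AtPrime q')) := by
    rw [RingHom.algebraMap_toAlgebra]
    exact Localization.isLocalHom_localRingHom q q' (algebraMap S S') Ideal.LiesOver.over
  haveI : Module.FaithfullyFlat (Localization.AtPrime q) (Localization.AtPrime q') :=
    Module.FaithfullyFlat.of_flat_of_isLocalHom
  letI : Module (Localization.AtPrime q) (LocalizedModule q'.primeCompl G) :=
    Module.compHom _ (algebraMap (Localization.AtPrime q) (Localization.AtPrime q'))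
  haveI : IsScalarTower (Localization.AtPrime q) (Localization.AtPrime q')
      (LocalizedModule q'.primeCompl G) :=
    ⟨fun a t x => by
      change (a • t) • x = algebraMap _ (Localization.AtPrime q') a • (t • x)
      rw [Algebra.smul_def, mul_smul]⟩
  haveI : IsScalarTower S (Localization.AtPrime q) (LocalizedModule q'.primeCompl G) :=
    IsScalarTower.to₁₂₄ S (Localization.AtPrime q) (Localization.AtPrime q') _
  obtain ⟨h, hh⟩ := exists_isBaseChange_localization (A := Localization.AtPrime q)
    (T := Localization.AtPrime q') q.primeCompl q'.primeCompl
    (LocalizedModule.mkLinearMap q.primeCompl N) (LocalizedModule.mkLinearMap q'.primeCompl G) g hg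
  exact ⟨fun _ => FinitePresentation.of_isBaseChange h hh,
    fun _ => finitePresentation_of_isBaseChange_of_faithfullyFlat h hh⟩

/-- finite presentation on basic opens along a flat change of the top ring. -/
theorem fpAway_of_flat (g : N →ₗ[S] G) (hg : IsBaseChange S' g) (a : S) (w : S') :
    (Module.FinitePresentation (Localization.Away a) (LocalizedModule (Submonoid.powers a) N) →
      Module.FinitePresentation (Localization.Away (w * algebraMap S S' a))
        (LocalizedModule (Submonoid.powers (w * algebraMap S S' a)) G)) ∧
    ((∀ t : PrimeSpectrum S, a ∉ t.asIdeal →
      ∃ P : PrimeSpectrum S', w ∉ P.asIdeal ∧ P.asIdeal.comap (algebraMap S S') = t.asIdeal) →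
     Module.FinitePresentation (Localization.Away (w * algebraMap S S' a))
        (LocalizedModule (Submonoid.powers (w * algebraMap S S' a)) G) →
      Module.FinitePresentation (Localization.Away a)
        (LocalizedModule (Submonoid.powers a) N)) := by
  have hunit : IsUnit (algebraMap S (Localization.Away (w * algebraMap S S' a)) a) := by
    rw [IsScalarTower.algebraMap_apply S S' (Localization.Away (w * algebraMap S S' a))]
    exact isUnit_of_dvd_away (w * algebraMap S S' a) _ (Dvd.intro_left w rfl)
  letI := awayAlg a (Localization.Away (w * algebraMap S S' a)) hunit
  haveI := awayAlg_tower a (Localization.Away (w * algebraMap S S' a)) hunit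
  letI : Module (Localization.Away a)
      (LocalizedModule (Submonoid.powers (w * algebraMap S S' a)) G) :=
    Module.compHom _ (algebraMap (Localization.Away a)
      (Localization.Away (w * algebraMap S S' a)))
  haveI : IsScalarTower (Localization.Away a) (Localization.Away (w * algebraMap S S' a))
      (LocalizedModule (Submonoid.powers (w * algebraMap S S' a)) G) :=
    ⟨fun b t x => by
      change (b • t) • x = algebraMap (Localization.Away a)
        (Localization.Away (w * algebraMap S S' a)) b • (t • x)
      rw [Algebra.smul_def, mul_smul]⟩
  haveI : IsScalarTower S (Localization.Away a)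
      (LocalizedModule (Submonoid.powers (w * algebraMap S S' a)) G) :=
    IsScalarTower.to₁₂₄ S (Localization.Away a) (Localization.Away (w * algebraMap S S' a)) _
  haveI : Module.Flat (Localization.Away a) (Localization.Away (w * algebraMap S S' a)) := by
    rw [Module.flat_iff_of_isLocalization (Localization.Away a) (Submonoid.powers a)]
    infer_instance
  obtain ⟨h, hh⟩ := exists_isBaseChange_localization (A := Localization.Away a)
    (T := Localization.Away (w * algebraMap S S' a)) (Submonoid.powers a)
    (Submonoid.powers (w * algebraMap S S' a))
    (LocalizedModule.mkLinearMap (Submonoid.powers a) N)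
    (LocalizedModule.mkLinearMap (Submonoid.powers (w * algebraMap S S' a)) G) g hg
  refine ⟨fun _ => FinitePresentation.of_isBaseChange h hh, fun himg _ => ?_⟩
  haveI : Module.FaithfullyFlat (Localization.Away a)
      (Localization.Away (w * algebraMap S S' a)) :=
    Module.FaithfullyFlat.of_comap_surjective (comap_surjective_of_image a w himg)
  exact finitePresentation_of_isBaseChange_of_faithfullyFlat h hh

end Top

section Smooth

open AlgebraicGeometry in
/-- a smooth ring map of relative dimension `n` (in the scheme sense) is of finite presentation. -/
theorem finitePresentation_of_smoothRelDim {R D : Type u} [CommRing R] [CommRing D] [Algebra R D]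
    (n : ℕ) (h : FlatCA.SmoothRelDim n R D) : Algebra.FinitePresentation R D := by
  haveI : SmoothOfRelativeDimension n (Spec.map (CommRingCat.ofHom (algebraMap R D))) := h
  haveI : Smooth (Spec.map (CommRingCat.ofHom (algebraMap R D))) :=
    SmoothOfRelativeDimension.smooth n _
  have h1 : LocallyOfFinitePresentation (Spec.map (CommRingCat.ofHom (algebraMap R D))) :=
    inferInstance
  rw [HasRingHomProperty.Spec_iff (P := @LocallyOfFinitePresentation)] at h1
  exact RingHom.finitePresentation_algebraMap.1 h1

end Smooth

end Groth.Agent.Lib.Seat55.FPTop
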