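import Mathlib
import Groth.Agent.Lib.Helper18Fitt4

/-!
# Fitting ideals of a direct sum (seat 55)

`Fit_l(M × M') = ∑_{k ≤ l} Fit_k(M) · Fit_{l-k}(M')`, through the `T`-ideals of `Helper18Fitt`
(determinants of square matrices with at most `k` free rows, the others being relations).
-/

set_option autoImplicit false
universe u v

namespace Groth.Agent.Lib.Seat55.FittSum

open Matrix Groth.Agent.Helper18Fitt

variable {R : Type u} [CommRing R]

section det

variable {ι κ : Type} [Fintype ι] [DecidableEq ι] [Fintype κ] [DecidableEq κ]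

/-- A square matrix on `ι ⊕ κ` whose rows in `s` are supported on the `ι`-columns and whose rows
outside `s` are supported on the `κ`-columns has determinant zero unless `|s| = |ι|`. -/
theorem det_eq_zero_of_card_ne (A : Matrix (ι ⊕ κ) (ι ⊕ κ) R) (s : Finset (ι ⊕ κ))
    (h1 : ∀ i ∈ s, ∀ j, A i (Sum.inr j) = 0) (h2 : ∀ i ∉ s, ∀ j, A i (Sum.inl j) = 0)
    (hc : s.card ≠ Fintype.card ι) : A.det = 0 := by
  classical
  rw [Matrix.det_apply']
  apply Finset.sum_eq_zero
  intro σ _
  suffices h : ∃ i, A (σ i) i = 0 by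
    obtain ⟨i, hi⟩ := h
    have : ∏ i, A (σ i) i = 0 := Finset.prod_eq_zero (Finset.mem_univ i) hi
    rw [this, mul_zero]
  by_contra hcon
  push Not at hcon
  have hl : ∀ j : ι, σ (Sum.inl j) ∈ s := by
    intro j
    by_contra hj
    exact hcon (Sum.inl j) (h2 _ hj j)
  have hr : ∀ j : κ, σ (Sum.inr j) ∉ s := by
    intro j hj
    exact hcon (Sum.inr j) (h1 _ hj j)
  apply hc
  have hs : s = Finset.univ.image (fun j : ι => σ (Sum.inl j)) := by
    ext t
    simp only [Finset.mem_image, Finset.mem_univ, true_and]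
    constructor
    · intro ht
      rcases hσ : σ.symm t with j | j
      · exact ⟨j, by rw [← hσ]; simp⟩
      · exfalso
        apply hr j
        rw [← hσ]
        simpa using ht
    · rintro ⟨j, rfl⟩
      exact hl j
  rw [hs, Finset.card_image_of_injective _ (fun a b hab => Sum.inl_injective (σ.injective hab)),
    Finset.card_univ]

end det

section T

variable {M : Type v} [AddCommGroup M] [Module R M] {M' : Type v} [AddCommGroup M'] [Module R M']
variable {ι κ : Type} [Fintype ι] [DecidableEq ι] [Fintype κ] [DecidableEq κ]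

theorem T_mono' {k k' : ℕ} (h : k ≤ k') (x : ι → M) :
    T (R := R) k ι x ≤ T k' ι x := by
  unfold T
  apply Ideal.span_mono
  rintro d ⟨a, S, hS, ha, rfl⟩
  exact ⟨a, S, hS.trans h, ha, rfl⟩

/-- The combined family of generators of `M × M'`. -/
def sumFam (x : ι → M) (x' : κ → M') : ι ⊕ κ → M × M' :=
  Sum.elim (fun i => (x i, 0)) (fun j => (0, x' j))

omit [DecidableEq ι] [DecidableEq κ] in
theorem sum_smul_sumFam (x : ι → M) (x' : κ → M') (c : ι ⊕ κ → R) :
    ∑ j, c j • sumFam x x' j =
      (∑ j, c (Sum.inl j) • x j, ∑ j, c (Sum.inr j) • x' j) := by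
  rw [Fintype.sum_sum_type]
  simp only [sumFam, Sum.elim_inl, Sum.elim_inr, Prod.smul_mk, smul_zero]
  ext
  · simp [Prod.fst_sum]
  · simp [Prod.snd_sum]

theorem T_mul_le (x : ι → M) (x' : κ → M') (k k' : ℕ) :
    T (R := R) k ι x * T k' κ x' ≤ T (k + k') (ι ⊕ κ) (sumFam x x') := by
  unfold T
  rw [Ideal.span_mul_span', Ideal.span_le]
  rintro _ ⟨_, ⟨a, S, hS, ha, rfl⟩, _, ⟨a', S', hS', ha', rfl⟩, rfl⟩
  refine Ideal.subset_span ⟨Matrix.fromBlocks a 0 0 a', S.disjSum S', ?_, ?_,
    (Matrix.det_fromBlocks_zero₁₂ a 0 a').symm⟩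
  · rw [Finset.card_disjSum]; omega
  · intro i hi
    rw [sum_smul_sumFam]
    rcases i with i | i
    · have hi' : i ∉ S := fun h => hi (Finset.inl_mem_disjSum.mpr h)
      simp only [Matrix.fromBlocks_apply₁₁, Matrix.fromBlocks_apply₁₂, Matrix.zero_apply, zero_smul,
        Finset.sum_const_zero, ha i hi']
      rfl
    · have hi' : i ∉ S' := fun h => hi (Finset.inr_mem_disjSum.mpr h)
      simp only [Matrix.fromBlocks_apply₂₁, Matrix.fromBlocks_apply₂₂, Matrix.zero_apply, zero_smul,
        Finset.sum_const_zero, ha' i hi']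
      rfl

theorem T_sum_le (x : ι → M) (x' : κ → M') (l : ℕ) :
    T (R := R) l (ι ⊕ κ) (sumFam x x') ≤
      ∑ k ∈ Finset.range (l + 1), T (R := R) k ι x * T (R := R) (l - k) κ x' := by
  classical
  set J : Ideal R := ∑ k ∈ Finset.range (l + 1), T (R := R) k ι x * T (R := R) (l - k) κ x' with hJ
  have hJle : ∀ k, k ≤ l → T (R := R) k ι x * T (R := R) (l - k) κ x' ≤ J := by
    intro k hk
    rw [hJ, Ideal.sum_eq_sup]
    exact Finset.le_sup (f := fun k => T (R := R) k ι x * T (R := R) (l - k) κ x')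
      (Finset.mem_range.mpr (Nat.lt_succ_of_le hk))
  conv_lhs => unfold T
  rw [Ideal.span_le]
  rintro d ⟨a, S, hS, ha, rfl⟩
  -- the two halves of the rows
  set L : (ι ⊕ κ) → (ι ⊕ κ → R) := fun i => Sum.elim (fun j => a i (Sum.inl j)) (fun _ => 0) with hL
  set Rr : (ι ⊕ κ) → (ι ⊕ κ → R) := fun i => Sum.elim (fun _ => 0) (fun j => a i (Sum.inr j))
    with hRr
  have hLR : (a : (ι ⊕ κ) → (ι ⊕ κ) → R) = L + Rr := by
    funext i j
    rcases j with j | j <;> simp [hL, hRr]
  have hdet : a.det = ∑ s : Finset (ι ⊕ κ), (Matrix.of (s.piecewise L Rr)).det := by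
    have h := (Matrix.detRowAlternating (R := R) (n := ι ⊕ κ)).toMultilinearMap.map_add_univ L Rr
    rw [← hLR] at h
    exact h
  rw [SetLike.mem_coe, hdet]
  apply Ideal.sum_mem
  intro s _
  by_cases hc : s.card = Fintype.card ι
  · have hc' : Fintype.card κ = Fintype.card {t // t ∉ s} := by
      rw [Fintype.card_subtype_compl, Fintype.card_sum, Fintype.card_coe, hc]
      omega
    let e₁ : ι ≃ {t // t ∈ s} := Fintype.equivOfCardEq (by rw [Fintype.card_coe, hc])
    let e₂ : κ ≃ {t // t ∉ s} := Fintype.equivOfCardEq hc'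
    let ρ : ι ⊕ κ ≃ ι ⊕ κ := (Equiv.sumCongr e₁ e₂).trans (Equiv.sumCompl (· ∈ s))
    have hρl : ∀ i, ρ (Sum.inl i) ∈ s := fun i => (e₁ i).2
    have hρr : ∀ j, ρ (Sum.inr j) ∉ s := fun j => (e₂ j).2
    set A : Matrix (ι ⊕ κ) (ι ⊕ κ) R := Matrix.of (s.piecewise L Rr) with hA
    set U : Matrix ι ι R := Matrix.of fun i j => a (ρ (Sum.inl i)) (Sum.inl j) with hU
    set V : Matrix κ κ R := Matrix.of fun i j => a (ρ (Sum.inr i)) (Sum.inr j) with hV
    have hB : A.submatrix ρ id = Matrix.fromBlocks U 0 0 V := by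
      ext i j
      rcases i with i | i <;> rcases j with j | j <;>
        simp [hA, hU, hV, hL, hRr, Finset.piecewise, hρl, hρr]
    have hdetB : (A.submatrix ρ id).det = U.det * V.det := by
      rw [hB, Matrix.det_fromBlocks_zero₁₂]
    rw [Matrix.det_permute] at hdetB
    have hdetA : A.det = ((Equiv.Perm.sign ρ : ℤˣ) : ℤ) * (U.det * V.det) := by
      rw [← hdetB, ← mul_assoc, ← Int.cast_mul, ← Units.val_mul, Int.units_mul_self]
      simp
    rw [hdetA]
    apply Ideal.mul_mem_left
    -- the free rows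
    set S₁ : Finset ι := Finset.univ.filter (fun i => ρ (Sum.inl i) ∈ S) with hS₁
    set S₂ : Finset κ := Finset.univ.filter (fun j => ρ (Sum.inr j) ∈ S) with hS₂
    have hcard : S₁.card + S₂.card ≤ l := by
      refine le_trans ?_ hS
      rw [← Finset.card_disjSum, ← Finset.card_map ρ.toEmbedding]
      apply Finset.card_le_card
      intro t ht
      rw [Finset.mem_map] at ht
      obtain ⟨c, hc, rfl⟩ := ht
      rcases c with c | c
      · have := Finset.inl_mem_disjSum.mp hc
        simpa [hS₁] using this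
      · have := Finset.inr_mem_disjSum.mp hc
        simpa [hS₂] using this
    have hrel : ∀ t, t ∉ S → (∑ j, a t (Sum.inl j) • x j = 0) ∧ (∑ j, a t (Sum.inr j) • x' j = 0) := by
      intro t ht
      have := ha t ht
      rw [sum_smul_sumFam, Prod.mk_eq_zero] at this
      exact this
    have hUmem : U.det ∈ T (R := R) S₁.card ι x := by
      refine mem_T_of U S₁ le_rfl ?_
      intro i hi
      have hi' : ρ (Sum.inl i) ∉ S := by simpa [hS₁] using hi
      exact (hrel _ hi').1
    have hVmem : V.det ∈ T (R := R) (l - S₁.card) κ x' := by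
      refine T_mono' (by omega) x' (mem_T_of V S₂ le_rfl ?_)
      intro i hi
      have hi' : ρ (Sum.inr i) ∉ S := by simpa [hS₂] using hi
      exact (hrel _ hi').2
    exact hJle S₁.card (by omega) (Ideal.mul_mem_mul hUmem hVmem)
  · rw [det_eq_zero_of_card_ne _ s ?_ ?_ hc]
    · exact zero_mem _
    · intro i hi j
      simp [Finset.piecewise, hi, hL]
    · intro i hi j
      simp [Finset.piecewise, hi, hRr]

theorem T_sumFam (x : ι → M) (x' : κ → M') (l : ℕ) :
    T (R := R) l (ι ⊕ κ) (sumFam x x') =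
      ∑ k ∈ Finset.range (l + 1), T (R := R) k ι x * T (R := R) (l - k) κ x' := by
  apply le_antisymm (T_sum_le x x' l)
  rw [Ideal.sum_eq_sup]
  apply Finset.sup_le
  intro k hk
  have hk' : k ≤ l := Nat.lt_succ_iff.mp (Finset.mem_range.mp hk)
  have := T_mul_le (R := R) x x' k (l - k)
  rwa [Nat.add_sub_cancel' hk'] at this

omit [Fintype ι] [DecidableEq ι] [Fintype κ] [DecidableEq κ] in
theorem span_sumFam (x : ι → M) (x' : κ → M') (hx : Submodule.span R (Set.range x) = ⊤)
    (hx' : Submodule.span R (Set.range x') = ⊤) :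
    Submodule.span R (Set.range (sumFam x x')) = ⊤ := by
  unfold sumFam
  rw [Set.Sum.elim_range, Submodule.span_union]
  have h1 : Set.range (fun i => ((x i, 0) : M × M')) = (LinearMap.inl R M M') '' Set.range x := by
    ext t; simp
  have h2 : Set.range (fun j => ((0, x' j) : M × M')) = (LinearMap.inr R M M') '' Set.range x' := by
    ext t; simp
  rw [h1, h2, Submodule.span_image, Submodule.span_image, hx, hx', Submodule.map_top,
    Submodule.map_top, LinearMap.sup_range_inl_inr]

end T

section Fitt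

variable {M : Type u} [AddCommGroup M] [Module R M] {M' : Type u} [AddCommGroup M'] [Module R M']

theorem fitt_prod [Module.Finite R M] [Module.Finite R M'] (l : ℕ) :
    Fitt.ideal R (M × M') l =
      ∑ k ∈ Finset.range (l + 1), Fitt.ideal R M k * Fitt.ideal R M' (l - k) := by
  obtain ⟨n, x, hx⟩ := Module.Finite.exists_fin (R := R) (M := M)
  obtain ⟨n', x', hx'⟩ := Module.Finite.exists_fin (R := R) (M := M')
  obtain ⟨N, z, hz⟩ := Module.Finite.exists_fin (R := R) (M := M × M')
  rw [fitt_eq_T z hz, T_indep l z (sumFam x x') hz (span_sumFam x x' hx hx'), T_sumFam]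
  apply Finset.sum_congr rfl
  intro k _
  rw [fitt_eq_T x hx, fitt_eq_T x' hx']

end Fitt

end Groth.Agent.Lib.Seat55.FittSum
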