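import Groth.Agent.Lib.Seat55FlatTop
import Groth.Agent.Lib.Seat55ShrinkEx

/-!
# Flatness over a base on basic opens along a flat change of the top ring (seat 55)

`flatAway_of_flat`: for `S → S'` flat, `a : S`, `w : S'` and `G = S' ⊗ N`: if `N_a` is `R`-flat then
so is `G_{w a}`; conversely if `D(a)` lies in the image of `D(w)` then `R`-flatness of `G_{w a}`
gives `R`-flatness of `N_a` (faithfully flat descent along `S_a → S'_{w a}`).
-/

set_option autoImplicit false
set_option linter.style.haveILetI false
universe u
open TensorProduct

namespace Groth.Agent.Lib.Seat55.FlatAway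

open Groth.Agent.Lib.Seat55.FlatTop Groth.Agent.Lib.Seat55.ShrinkEx

theorem flatAway_of_flat
    {R S S' N G : Type u} [CommRing R] [CommRing S] [CommRing S']
    [Algebra R S] [Algebra S S'] [Algebra R S'] [IsScalarTower R S S'] [Module.Flat S S']
    [AddCommGroup N] [Module S N] [Module R N] [IsScalarTower R S N]
    [AddCommGroup G] [Module S' G] [Module S G] [IsScalarTower S S' G] [Module R G]
    [IsScalarTower R S' G]
    (g : N →ₗ[S] G) (hg : IsBaseChange S' g) (a : S) (w : S') :
    (Module.Flat R (LocalizedModule (Submonoid.powers a) N) →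
      Module.Flat R (LocalizedModule (Submonoid.powers (w * algebraMap S S' a)) G)) ∧
    ((∀ t : PrimeSpectrum S, a ∉ t.asIdeal →
      ∃ P : PrimeSpectrum S', w ∉ P.asIdeal ∧ P.asIdeal.comap (algebraMap S S') = t.asIdeal) →
     Module.Flat R (LocalizedModule (Submonoid.powers (w * algebraMap S S' a)) G) →
      Module.Flat R (LocalizedModule (Submonoid.powers a) N)) := by
  have hunit : IsUnit (algebraMap S (Localization.Away (w * algebraMap S S' a)) a) := by
    rw [IsScalarTower.algebraMap_apply S S' (Localization.Away (w * algebraMap S S' a))]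
    exact isUnit_of_dvd_away (w * algebraMap S S' a) _ (Dvd.intro_left w rfl)
  letI := awayAlg a (Localization.Away (w * algebraMap S S' a)) hunit
  haveI := awayAlg_tower a (Localization.Away (w * algebraMap S S' a)) hunit
  haveI : IsScalarTower R (Localization.Away a) (Localization.Away (w * algebraMap S S' a)) := by
    refine IsScalarTower.of_algebraMap_eq fun x => ?_
    rw [IsScalarTower.algebraMap_apply R S (Localization.Away (w * algebraMap S S' a)),
      IsScalarTower.algebraMap_apply R S (Localization.Away a),
      ← IsScalarTower.algebraMap_apply S (Localization.Away a)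
        (Localization.Away (w * algebraMap S S' a))]
  letI : Module (Localization.Away a)
      (LocalizedModule (Submonoid.powers (w * algebraMap S S' a)) G) :=
    Module.compHom _ (algebraMap (Localization.Away a)
      (Localization.Away (w * algebraMap S S' a)))
  haveI : IsScalarTower (Localization.Away a) (Localization.Away (w * algebraMap S S' a))
      (LocalizedModule (Submonoid.powers (w * algebraMap S S' a)) G) :=
    ⟨fun b t x => by
      change (b • t) • x = algebraMap (Localization.Away a)
        (Localization.Away (w * algebraMap S S' a)) b • (t • x)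
      rw [Algebra.smul_def, mul_smul]⟩
  haveI : IsScalarTower S (Localization.Away a)
      (LocalizedModule (Submonoid.powers (w * algebraMap S S' a)) G) :=
    IsScalarTower.to₁₂₄ S (Localization.Away a) (Localization.Away (w * algebraMap S S' a)) _
  haveI : Module.Flat (Localization.Away a) (Localization.Away (w * algebraMap S S' a)) := by
    rw [Module.flat_iff_of_isLocalization (Localization.Away a) (Submonoid.powers a)]
    infer_instance
  obtain ⟨h, hh⟩ := exists_isBaseChange_localization (A := Localization.Away a)
    (T := Localization.Away (w * algebraMap S S' a)) (Submonoid.powers a)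
    (Submonoid.powers (w * algebraMap S S' a))
    (LocalizedModule.mkLinearMap (Submonoid.powers a) N)
    (LocalizedModule.mkLinearMap (Submonoid.powers (w * algebraMap S S' a)) G) g hg
  refine ⟨fun _ => flat_of_isBaseChange (R := R) h hh, fun himg _ => ?_⟩
  haveI : Module.FaithfullyFlat (Localization.Away a)
      (Localization.Away (w * algebraMap S S' a)) :=
    Module.FaithfullyFlat.of_comap_surjective (comap_surjective_of_image a w himg)
  exact flat_of_isBaseChange_of_faithfullyFlat (R := R) h hh

/-- for an open map on spectra, a basic open around `p` inside the image of `D(w)`. -/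
theorem exists_basicOpen_subset_image_of_isOpenMap {R D : Type u} [CommRing R] [CommRing D]
    [Algebra R D] (hopen : IsOpenMap (PrimeSpectrum.comap (algebraMap R D)))
    (p : Ideal R) [p.IsPrime] (y : Ideal D) [y.IsPrime]
    [hyp : y.LiesOver p] (w : D) (hw : w ∉ y) :
    ∃ g : R, g ∉ p ∧ ∀ t : PrimeSpectrum R, g ∉ t.asIdeal →
      ∃ P : PrimeSpectrum D, w ∉ P.asIdeal ∧ P.asIdeal.comap (algebraMap R D) = t.asIdeal := by
  have hU : IsOpen (PrimeSpectrum.comap (algebraMap R D) '' (PrimeSpectrum.basicOpen w : Set _)) :=
    hopen _ (PrimeSpectrum.basicOpen w).2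
  have hp : (⟨p, inferInstance⟩ : PrimeSpectrum R) ∈
      PrimeSpectrum.comap (algebraMap R D) '' (PrimeSpectrum.basicOpen w : Set _) :=
    ⟨⟨y, inferInstance⟩, hw, PrimeSpectrum.ext hyp.over.symm⟩
  obtain ⟨_, ⟨g, rfl⟩, hgp, hsub⟩ :=
    PrimeSpectrum.isTopologicalBasis_basic_opens.exists_subset_of_mem_open hp hU
  refine ⟨g, hgp, fun t ht => ?_⟩
  obtain ⟨P, hP, hPt⟩ := hsub ht
  exact ⟨P, hP, congrArg PrimeSpectrum.asIdeal hPt⟩

end Groth.Agent.Lib.Seat55.FlatAway
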