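import Mathlib

/-!
# Flatness over a base ring along flat extensions of the top ring (seat 55)

Let `R → A → T` be ring maps and `M` an `A`-module.

* `flat_tensor`: if `T` is flat over `A` and `M` is flat over `R` then `T ⊗[A] M` is flat over `R`;
* `flat_of_flat_tensor`: if `T` is faithfully flat over `A` and `T ⊗[A] M` is flat over `R` then
  `M` is flat over `R`;
* `flat_of_isBaseChange`, `flat_of_isBaseChange_of_faithfullyFlat`: the same for an arbitrary
  model `M'` of the base change;
* `exists_isBaseChange_localization`: base change of modules commutes with localization;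
* `isLocalizedModule_restrictScalars`, `flat_iff_of_locEq`: a localization of a `C`-module at a
  submonoid of `C` is also its localization at a submonoid of a smaller ring with the same
  saturation, so flatness over a base does not see the difference;
* `flat_iff_of_etale`: for an etale `R → R'`, an `R'`-module is `R'`-flat iff it is `R`-flat;
* `flatAt_iff_of_flat`: for `S → S'` flat and `q'` over `q`, `N_q` is `R`-flat iff
  `(S' ⊗ N)_{q'}` is.
-/

set_option autoImplicit false
set_option linter.style.haveILetI false
universe u
open TensorProduct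

namespace Groth.Agent.Lib.Seat55.FlatTop

section Tensor

variable {R A T M : Type u} [CommRing R] [CommRing A] [CommRing T] [Algebra R A] [Algebra A T]
  [Algebra R T] [IsScalarTower R A T]
  [AddCommGroup M] [Module A M] [Module R M] [IsScalarTower R A M]

/-- naturality of the associator with respect to the last variable. -/
theorem assoc_lTensor {X Y : Type u} [AddCommGroup X] [Module R X] [AddCommGroup Y] [Module R Y]
    (f : X →ₗ[R] Y) (x : (T ⊗[A] M) ⊗[R] X) :
    TensorProduct.AlgebraTensorModule.assoc R A T T M Y (LinearMap.lTensor (T ⊗[A] M) f x) =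
      LinearMap.lTensor T (TensorProduct.AlgebraTensorModule.lTensor A M f)
        (TensorProduct.AlgebraTensorModule.assoc R A T T M X x) := by
  induction x using TensorProduct.induction_on with
  | zero => simp
  | add a b ha hb => simp only [map_add, ha, hb]
  | tmul tm x =>
    induction tm using TensorProduct.induction_on with
    | zero => simp
    | add a b ha hb => simp only [TensorProduct.add_tmul, map_add, ha, hb]
    | tmul t m => simp

/-- if `T` is `A`-flat and `M` is `R`-flat then `T ⊗[A] M` is `R`-flat. -/
theorem flat_tensor [Module.Flat A T] [Module.Flat R M] : Module.Flat R (T ⊗[A] M) := by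
  rw [Module.Flat.iff_lTensor_injective']
  intro I
  have h1 : Function.Injective (TensorProduct.AlgebraTensorModule.lTensor A M I.subtype) :=
    Module.Flat.lTensor_preserves_injective_linearMap (M := M) I.subtype I.injective_subtype
  have h2 := Module.Flat.lTensor_preserves_injective_linearMap (M := T) _ h1
  intro x y hxy
  apply (TensorProduct.AlgebraTensorModule.assoc R A T T M I).injective
  apply h2
  rw [← assoc_lTensor, ← assoc_lTensor, hxy]

/-- if `T` is faithfully flat over `A` and `T ⊗[A] M` is `R`-flat then `M` is `R`-flat. -/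
theorem flat_of_flat_tensor [Module.FaithfullyFlat A T] [Module.Flat R (T ⊗[A] M)] :
    Module.Flat R M := by
  rw [Module.Flat.iff_lTensor_injective']
  intro I
  have h0 : Function.Injective (LinearMap.lTensor (T ⊗[A] M) I.subtype) :=
    Module.Flat.lTensor_preserves_injective_linearMap (M := T ⊗[A] M) I.subtype
      I.injective_subtype
  have h1 : Function.Injective
      (LinearMap.lTensor T (TensorProduct.AlgebraTensorModule.lTensor A M I.subtype)) := by
    intro x y hxy
    obtain ⟨x', rfl⟩ := (TensorProduct.AlgebraTensorModule.assoc R A T T M I).surjective x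
    obtain ⟨y', rfl⟩ := (TensorProduct.AlgebraTensorModule.assoc R A T T M I).surjective y
    rw [← assoc_lTensor, ← assoc_lTensor] at hxy
    rw [h0 ((TensorProduct.AlgebraTensorModule.assoc R A T T M R).injective hxy)]
  exact (Module.FaithfullyFlat.lTensor_injective_iff_injective A T _).1 h1

end Tensor

section BaseChange

variable {R A T M M' : Type u} [CommRing R] [CommRing A] [CommRing T] [Algebra R A] [Algebra A T]
  [Algebra R T] [IsScalarTower R A T]
  [AddCommGroup M] [Module A M] [Module R M] [IsScalarTower R A M]
  [AddCommGroup M'] [Module T M'] [Module A M'] [IsScalarTower A T M'] [Module R M']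
  [IsScalarTower R T M'] (h : M →ₗ[A] M') (hh : IsBaseChange T h)

include hh

/-- flatness over `R` passes to a base change along a flat `A`-algebra. -/
theorem flat_of_isBaseChange [Module.Flat A T] [Module.Flat R M] : Module.Flat R M' :=
  haveI := flat_tensor (R := R) (A := A) (T := T) (M := M)
  Module.Flat.of_linearEquiv (hh.equiv.restrictScalars R).symm

/-- flatness over `R` descends along a faithfully flat `A`-algebra. -/
theorem flat_of_isBaseChange_of_faithfullyFlat [Module.FaithfullyFlat A T] [Module.Flat R M'] :
    Module.Flat R M :=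
  haveI : Module.Flat R (T ⊗[A] M) := Module.Flat.of_linearEquiv (hh.equiv.restrictScalars R)
  flat_of_flat_tensor (R := R) (A := A) (T := T) (M := M)

end BaseChange

section Loc

/-- base change of modules commutes with localization. -/
theorem exists_isBaseChange_localization
    {S S' A T N G M₁ M₂ : Type u} [CommRing S] [CommRing S'] [CommRing A] [CommRing T]
    [Algebra S S'] [Algebra S A] [Algebra S' T] [Algebra A T] [Algebra S T]
    [IsScalarTower S S' T] [IsScalarTower S A T]
    [AddCommGroup N] [Module S N]
    [AddCommGroup G] [Module S' G] [Module S G] [IsScalarTower S S' G]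
    [AddCommGroup M₁] [Module S M₁] [Module A M₁] [IsScalarTower S A M₁]
    [AddCommGroup M₂] [Module S M₂] [Module S' M₂] [Module A M₂] [Module T M₂]
    [IsScalarTower S' T M₂] [IsScalarTower S S' M₂] [IsScalarTower S T M₂]
    [IsScalarTower A T M₂] [IsScalarTower S A M₂]
    (W : Submonoid S) [IsLocalization W A] (W' : Submonoid S') [IsLocalization W' T]
    (f₁ : N →ₗ[S] M₁) [IsLocalizedModule W f₁] (f₂ : G →ₗ[S'] M₂) [IsLocalizedModule W' f₂]
    (g : N →ₗ[S] G) (hg : IsBaseChange S' g) :
    ∃ h : M₁ →ₗ[A] M₂, IsBaseChange T h := by
  have h1 : IsBaseChange A f₁ := IsLocalizedModule.isBaseChange W A f₁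
  have h2 : IsBaseChange T f₂ := IsLocalizedModule.isBaseChange W' T f₂
  have h3 : IsBaseChange T ((f₂.restrictScalars S).comp g) := IsBaseChange.comp hg h2
  refine ⟨h1.lift ((f₂.restrictScalars S).comp g), IsBaseChange.of_comp h1 ?_⟩
  convert h3 using 1
  exact h1.lift_comp _

/-- a `C`-localization at `V` is an `S`-localization at `W` when `W` maps into `V` and every
element of `V` divides the image of an element of `W`. -/
theorem isLocalizedModule_restrictScalars {S C G M : Type*} [CommRing S] [CommRing C] [Algebra S C]
    [AddCommGroup G] [Module C G] [Module S G] [IsScalarTower S C G]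
    [AddCommGroup M] [Module C M] [Module S M] [IsScalarTower S C M]
    (W : Submonoid S) (V : Submonoid C) (f : G →ₗ[C] M) [IsLocalizedModule V f]
    (h1 : ∀ w ∈ W, algebraMap S C w ∈ V)
    (h2 : ∀ v ∈ V, ∃ c : C, ∃ w ∈ W, c * v = algebraMap S C w) :
    IsLocalizedModule W (f.restrictScalars S) := by
  refine ⟨?_, ?_, ?_⟩
  · intro w
    rw [Module.End.isUnit_iff]
    have := IsLocalizedModule.map_units f ⟨algebraMap S C w, h1 w w.2⟩
    rw [Module.End.isUnit_iff] at this
    convert this using 1
    ext x
    simp [algebraMap_smul]
  · intro y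
    obtain ⟨⟨g, v⟩, hv⟩ := IsLocalizedModule.surj V f y
    obtain ⟨c, w, hw, hcv⟩ := h2 v v.2
    refine ⟨⟨c • g, ⟨w, hw⟩⟩, ?_⟩
    change w • y = f (c • g)
    rw [map_smul, ← hv, ← algebraMap_smul C w y, ← hcv, mul_smul]
    rfl
  · intro x₁ x₂ h
    obtain ⟨v, hv⟩ := IsLocalizedModule.exists_of_eq (S := V) (f := f) h
    obtain ⟨c, w, hw, hcv⟩ := h2 v v.2
    refine ⟨⟨w, hw⟩, ?_⟩
    change w • x₁ = w • x₂
    rw [← algebraMap_smul C w x₁, ← algebraMap_smul C w x₂, ← hcv, mul_smul, mul_smul]
    congr 1

/-- flatness over a base ring of two localizations with the same saturation. -/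
theorem flat_iff_of_locEq {R S C G M₁ M₂ : Type u} [CommRing R] [CommRing S] [CommRing C]
    [Algebra R S] [Algebra S C]
    [AddCommGroup G] [Module C G] [Module S G] [IsScalarTower S C G]
    [AddCommGroup M₁] [Module S M₁] [Module R M₁] [IsScalarTower R S M₁]
    [AddCommGroup M₂] [Module C M₂] [Module S M₂] [IsScalarTower S C M₂] [Module R M₂]
    [IsScalarTower R S M₂]
    (W : Submonoid S) (V : Submonoid C) (f₁ : G →ₗ[S] M₁) [IsLocalizedModule W f₁]
    (f₂ : G →ₗ[C] M₂) [IsLocalizedModule V f₂]
    (h1 : ∀ w ∈ W, algebraMap S C w ∈ V)
    (h2 : ∀ v ∈ V, ∃ c : C, ∃ w ∈ W, c * v = algebraMap S C w) :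
    Module.Flat R M₁ ↔ Module.Flat R M₂ := by
  haveI := isLocalizedModule_restrictScalars W V f₂ h1 h2
  let e : M₁ ≃ₗ[S] M₂ := IsLocalizedModule.linearEquiv W f₁ (f₂.restrictScalars S)
  exact Module.Flat.equiv_iff (e.restrictScalars R)

/-- along an etale ring map, flatness over the source and over the target agree. -/
theorem flat_iff_of_etale {R R' M : Type u} [CommRing R] [CommRing R'] [Algebra R R']
    [Algebra.Etale R R'] [AddCommGroup M] [Module R M] [Module R' M] [IsScalarTower R R' M] :
    Module.Flat R M ↔ Module.Flat R' M :=
  ⟨fun _ => Algebra.FormallyUnramified.flat_of_restrictScalars R R' M,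
    fun _ => Module.Flat.trans R R' M⟩

/-- flatness over the base of the localization at a prime is insensitive to a flat
change of the top ring (the map of local rings `S_q → S'_{q'}` is faithfully flat). -/
theorem flatAt_iff_of_flat
    {R S S' N G : Type u} [CommRing R] [CommRing S] [CommRing S']
    [Algebra R S] [Algebra S S'] [Algebra R S'] [IsScalarTower R S S'] [Module.Flat S S']
    [AddCommGroup N] [Module S N] [Module R N] [IsScalarTower R S N]
    [AddCommGroup G] [Module S' G] [Module S G] [IsScalarTower S S' G] [Module R G]
    [IsScalarTower R S' G]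
    (g : N →ₗ[S] G) (hg : IsBaseChange S' g)
    (q : Ideal S) [q.IsPrime] (q' : Ideal S') [q'.IsPrime] [q'.LiesOver q] :
    Module.Flat R (LocalizedModule q.primeCompl N) ↔
      Module.Flat R (LocalizedModule q'.primeCompl G) := by
  letI := Localization.AtPrime.algebraOfLiesOver q q'
  haveI : IsLocalHom (algebraMap (Localization.AtPrime q) (Localization.AtPrime q')) := by
    rw [RingHom.algebraMap_toAlgebra]
    exact Localization.isLocalHom_localRingHom q q' (algebraMap S S') Ideal.LiesOver.over
  haveI : Module.FaithfullyFlat (Localization.AtPrime q) (Localization.AtPrime q') :=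
    Module.FaithfullyFlat.of_flat_of_isLocalHom
  letI : Module (Localization.AtPrime q) (LocalizedModule q'.primeCompl G) :=
    Module.compHom _ (algebraMap (Localization.AtPrime q) (Localization.AtPrime q'))
  haveI : IsScalarTower (Localization.AtPrime q) (Localization.AtPrime q')
      (LocalizedModule q'.primeCompl G) :=
    ⟨fun a t x => by
      change (a • t) • x = algebraMap _ (Localization.AtPrime q') a • (t • x)
      rw [Algebra.smul_def, mul_smul]⟩
  haveI : IsScalarTower S (Localization.AtPrime q) (LocalizedModule q'.primeCompl G) :=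
    IsScalarTower.to₁₂₄ S (Localization.AtPrime q) (Localization.AtPrime q') _
  obtain ⟨h, hh⟩ := exists_isBaseChange_localization (A := Localization.AtPrime q)
    (T := Localization.AtPrime q') q.primeCompl q'.primeCompl
    (LocalizedModule.mkLinearMap q.primeCompl N) (LocalizedModule.mkLinearMap q'.primeCompl G) g hg
  exact ⟨fun _ => flat_of_isBaseChange (R := R) h hh,
    fun _ => flat_of_isBaseChange_of_faithfullyFlat (R := R) h hh⟩

end Loc

end Groth.Agent.Lib.Seat55.FlatTop
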