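import Mathlib
import Groth.Agent.Lib.Helper28Depth

set_option autoImplicit false
universe u
open CategoryTheory

namespace Groth.Agent.Lib.Seat55.ReflFree

variable {R : Type u} [CommRing R]

/-- syzygy shifting: kernel of a map between projectives, with cokernel of pd < 3, is projective -/
theorem projective_ker_of_pdLT_three {E0 E1 : Type u} [AddCommGroup E0] [Module R E0]
    [AddCommGroup E1] [Module R E1] [Module.Projective R E0] [Module.Projective R E1]
    (u : E0 →ₗ[R] E1)
    (h : HasProjectiveDimensionLT (ModuleCat.of R (E1 ⧸ LinearMap.range u)) 3) :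
    Module.Projective R (LinearMap.ker u) := by
  -- 0 → range u → E1 → E1 / range u → 0
  have hS1 := ModuleCat.shortComplex_shortExact
    (ModuleCat.shortComplexOfCompEqZero (LinearMap.range u).subtype (LinearMap.range u).mkQ
      (by ext x; simp))
    (by
      intro x
      constructor
      · intro hx
        have hx' : x ∈ LinearMap.range u := by
          simpa [Submodule.Quotient.mk_eq_zero] using hx
        exact ⟨⟨x, hx'⟩, rfl⟩
      · rintro ⟨y, rfl⟩
        simp)
    (Submodule.injective_subtype _) (Submodule.mkQ_surjective _)
  have hE1 : HasProjectiveDimensionLT (ModuleCat.of R E1) 2 := by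
    have : Projective (ModuleCat.of R E1) := (IsProjective.iff_projective _).mp inferInstance
    exact hasProjectiveDimensionLT_of_ge _ 1 2 (by omega)
  have hr : HasProjectiveDimensionLT (ModuleCat.of R (LinearMap.range u)) 2 :=
    hS1.hasProjectiveDimensionLT_X₁ 2 hE1 h
  -- 0 → ker u → E0 → range u → 0
  have hS2 := ModuleCat.shortComplex_shortExact
    (ModuleCat.shortComplexOfCompEqZero (LinearMap.ker u).subtype u.rangeRestrict
      (by ext x; simp))
    (by
      intro x
      constructor
      · intro hx
        have hx' : u x = 0 := congrArg Subtype.val hx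
        exact ⟨⟨x, hx'⟩, rfl⟩
      · rintro ⟨⟨y, hy⟩, rfl⟩
        exact Subtype.ext hy)
    (Submodule.injective_subtype _) u.surjective_rangeRestrict
  have hE0 : HasProjectiveDimensionLT (ModuleCat.of R E0) 1 := by
    have : Projective (ModuleCat.of R E0) := (IsProjective.iff_projective _).mp inferInstance
    infer_instance
  have hk : HasProjectiveDimensionLT (ModuleCat.of R (LinearMap.ker u)) 1 :=
    hS2.hasProjectiveDimensionLT_X₁ 1 hE0 hr
  have : Projective (ModuleCat.of R (LinearMap.ker u)) := inferInstance
  exact (IsProjective.iff_projective _).mpr this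

/-- reflexive finite module over a Noetherian ring of global dimension `≤ 2` is projective -/
theorem projective_of_isReflexive [IsNoetherianRing R]
    (hgl : ∀ (N : Type u) [AddCommGroup N] [Module R N],
      HasProjectiveDimensionLT (ModuleCat.of R N) 3)
    (M : Type u) [AddCommGroup M] [Module R M] [Module.Finite R M] [Module.IsReflexive R M] :
    Module.Projective R M := by
  have : Module.Finite R (Module.Dual R M) := inferInstance
  obtain ⟨n, m, u, ⟨e⟩⟩ := Groth.Agent.Lib.Helper28.exists_dual_equiv_ker (B := R) (Module.Dual R M)
  have := projective_ker_of_pdLT_three u (hgl _)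
  exact Module.Projective.of_equiv ((Module.evalEquiv R M).trans e).symm

end Groth.Agent.Lib.Seat55.ReflFree
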