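import Mathlib
import Groth.Agent.S0563
import Groth.Agent.Lib.Helper2LocFree
import Groth.Agent.Lib.Helper2FibreCrit2
import Groth.Agent.Lib.Helper23FinPres
import Groth.Agent.Lib.Helper23TensorQCoh
import Groth.Agent.Lib.Helper23FinTypeLocal
import Groth.Agent.Lib.Helper20ZClos17
import Groth.Agent.Lib.Helper28Normal
import Groth.Agent.Lib.Helper28DepthSk
import Groth.Agent.Lib.Seat0LocLift
import Groth.Agent.Lib.Seat55ReflFree
import Groth.Agent.Lib.Seat55ReflSch

/-!
# Reflexive coherent modules and big opens (helper55)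

Tools for S1690 (reflexive iff extension of a finite locally free module from a big open).
-/

set_option autoImplicit false
set_option linter.style.haveILetI false
universe u
open CategoryTheory Limits AlgebraicGeometry TopologicalSpace Opposite

namespace Groth.Agent.Lib.Seat55.ReflBigOpen

open Groth.Agent.Lib.Helper20.ZClosLib

variable {X : Scheme.{u}}

/-- the closed complement of an open, as a `Closeds`. -/
def complCl (U : X.Opens) : Closeds X := ⟨(U : Set X)ᶜ, U.isOpen.isClosed_compl⟩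

theorem complCl_compl (U : X.Opens) : (complCl U).compl = U := by
  ext x
  simp [complCl, Closeds.compl]

theorem mem_complCl_iff (U : X.Opens) (x : X) : x ∈ (complCl U : Set X) ↔ x ∉ U := Iff.rfl

section DepthOfIso

variable [IsLocallyNoetherian X]

/-- if `F → j_*(F|_{X∖K})` is an isomorphism for a coherent `F`, then `F` has depth `≥ 2` along `K`. -/
theorem two_le_depth_of_isIso_unit_cl (K : Closeds X) (F : X.Modules) [F.IsQuasicoherent]
    [SheafOfModules.IsFiniteType (R := X.ringCatSheaf) F]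
    (hiso : IsIso ((ZClos.resPushUnit K.compl).app F)) (x : X) (hx : x ∈ (K : Set X)) :
    (2 : ℕ∞) ≤ LocCoh.depth (X.presheaf.stalk x) (F.presheaf.stalk x) := by
  let e : F ≅ (ZClos.resPush K.compl).obj F := asIso ((ZClos.resPushUnit K.compl).app F)
  haveI : ((ZClos.resPush K.compl).obj F).IsQuasicoherent :=
    Groth.Agent.Lib.Helper23.TensorQCoh.isQuasicoherent_of_iso e
  haveI : SheafOfModules.IsFiniteType (R := X.ringCatSheaf) ((ZClos.resPush K.compl).obj F) :=
    Groth.Agent.Lib.Helper23.FinType.isFiniteType_of_iso e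
  have h2 := depth_push_restrict_ge_two K F x hx
  have hb : Function.Bijective (Groth.Agent.S8890.ψₗ e.hom x) :=
    ConcreteCategory.bijective_of_isIso ((stalkF x).map e.hom)
  let el : F.presheaf.stalk x ≃ₗ[X.presheaf.stalk x]
      ((ZClos.resPush K.compl).obj F).presheaf.stalk x :=
    LinearEquiv.ofBijective (Groth.Agent.S8890.ψₗ e.hom x) hb
  unfold LocCoh.depth at h2 ⊢
  rw [Groth.Agent.Lib.Helper28.idealDepth_congr el]
  exact h2

theorem two_le_depth_of_isIso_unit (U : X.Opens) (F : X.Modules) [F.IsQuasicoherent]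
    [SheafOfModules.IsFiniteType (R := X.ringCatSheaf) F]
    (hiso : IsIso ((Scheme.Modules.restrictAdjunction U.ι).unit.app F)) (x : X) (hx : x ∉ U) :
    (2 : ℕ∞) ≤ LocCoh.depth (X.presheaf.stalk x) (F.presheaf.stalk x) := by
  have hK := complCl_compl U
  have hiso' : IsIso ((ZClos.resPushUnit (complCl U).compl).app F) := by
    rw [hK]; exact hiso
  exact two_le_depth_of_isIso_unit_cl (complCl U) F hiso' x hx

/-- a coherent module with depth `≥ 2` at all points outside `U` has `F → j_*(F|_U)` an isomorphism. -/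
theorem isIso_unit_of_two_le_depth (U : X.Opens) (F : X.Modules) [F.IsQuasicoherent]
    [SheafOfModules.IsFiniteType (R := X.ringCatSheaf) F]
    (h : ∀ x : X, x ∉ U → (2 : ℕ∞) ≤ LocCoh.depth (X.presheaf.stalk x) (F.presheaf.stalk x)) :
    IsIso ((Scheme.Modules.restrictAdjunction U.ι).unit.app F) := by
  have hK := complCl_compl U
  have := isIso_unit_of_depth_ge_two (complCl U) F (fun x hx => h x hx)
  rw [hK] at this
  exact this

end DepthOfIso

section Flat

/-- if `F|_U` is finite locally free then `F` is flat at the points of `U`. -/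
theorem isFlatAt_of_isFinLocFree_restrict (U : X.Opens) (F : X.Modules) [F.IsQuasicoherent]
    (h : FlatMod.IsFinLocFree (F.restrict U.ι)) (y : X) (hy : y ∈ U) : FlatMod.IsFlatAt F y := by
  obtain ⟨D, n, hyD, ⟨e⟩⟩ := h ⟨y, hy⟩
  let e' : F.restrict (D.ι ≫ U.ι) ≅ FlatMod.freeMod (D : Scheme.{u}) n :=
    (Scheme.Modules.restrictFunctorComp D.ι U.ι).app F ≪≫ e
  exact Groth.Agent.Lib.Helper2.LocFree.isFlatAt_of_restrict_iso_freeMod (D.ι ≫ U.ι) F e'
    ⟨⟨y, hy⟩, hyD⟩

/-- the locus where `F` is free of finite rank on a neighbourhood. -/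
def freeLocus (F : X.Modules) : X.Opens :=
  ⨆ D : {D : X.Opens // ∃ n : ℕ, Nonempty (F.restrict D.ι ≅ FlatMod.freeMod (D : Scheme.{u}) n)},
    D.1

theorem mem_freeLocus_iff (F : X.Modules) (x : X) :
    x ∈ freeLocus F ↔ ∃ (D : X.Opens) (n : ℕ), x ∈ D ∧
      Nonempty (F.restrict D.ι ≅ FlatMod.freeMod (D : Scheme.{u}) n) := by
  unfold freeLocus
  rw [Opens.mem_iSup]
  constructor
  · rintro ⟨⟨D, n, hn⟩, hx⟩
    exact ⟨D, n, hx, hn⟩
  · rintro ⟨D, n, hx, hn⟩
    exact ⟨⟨D, n, hn⟩, hx⟩

/-- `F` restricted to its free locus is finite locally free. -/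
theorem isFinLocFree_restrict_freeLocus (F : X.Modules) :
    FlatMod.IsFinLocFree (F.restrict (freeLocus F).ι) := by
  intro w
  obtain ⟨D, n, hxD, ⟨e⟩⟩ := (mem_freeLocus_iff F w.1).mp w.2
  set j := (freeLocus F).ι
  refine ⟨j ⁻¹ᵁ D, n, hxD, ⟨?_⟩⟩
  exact (Scheme.Modules.restrictFunctorComp (j ⁻¹ᵁ D).ι j).symm.app F ≪≫
    (Scheme.Modules.restrictFunctorCongr (morphismRestrict_ι j D).symm).app F ≪≫
    (Scheme.Modules.restrictFunctorComp (j ∣_ D) D.ι).app F ≪≫
    (Scheme.Modules.restrictFunctor (j ∣_ D)).mapIso e ≪≫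
    Groth.Agent.Lib.Seat0.LocLift.restrictFreeMod (j ∣_ D) n

end Flat

end Groth.Agent.Lib.Seat55.ReflBigOpen
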