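import Mathlib

/-!
# Reflexive modules: two algebra lemmas (helper55)

* `isReflexive_of_semilinear`: `Module.IsReflexive` transports along a ring isomorphism together with a compatible
  additive isomorphism of modules.
* `bijective_bidual_iff`: for `S ≃ₗ R` (free of rank one) and `ε : P ≃ₗ (M →ₗ S)`, the "biduality" map
  `M → (P →ₗ S)`, `v ↦ (θ ↦ ε θ v)` is bijective iff `M` is reflexive.
-/

set_option autoImplicit false
universe u v u' v'

namespace Groth.Agent.Lib.Seat55.ReflAlg

section Transport

variable {R : Type u} {R' : Type u'} [CommRing R] [CommRing R']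
  {M : Type v} {M' : Type v'} [AddCommGroup M] [Module R M] [AddCommGroup M'] [Module R' M']

/-- transport of a linear form along a semilinear isomorphism. -/
def dualTransport (σ : R ≃+* R') (e : M ≃+ M') (he : ∀ (r : R) (x : M), e (r • x) = σ r • e x)
    (φ : Module.Dual R M) : Module.Dual R' M' where
  toFun y := σ (φ (e.symm y))
  map_add' a b := by rw [map_add, map_add, map_add]
  map_smul' r y := by
    have h : e.symm (r • y) = σ.symm r • e.symm y := by
      apply e.injective
      rw [he]
      simp
    simp only [RingHom.id_apply, smul_eq_mul]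
    rw [h, map_smul, smul_eq_mul, map_mul, RingEquiv.apply_symm_apply]

@[simp] theorem dualTransport_apply (σ : R ≃+* R') (e : M ≃+ M')
    (he : ∀ (r : R) (x : M), e (r • x) = σ r • e x) (φ : Module.Dual R M) (y : M') :
    dualTransport σ e he φ y = σ (φ (e.symm y)) := rfl

theorem symm_semilinear (σ : R ≃+* R') (e : M ≃+ M')
    (he : ∀ (r : R) (x : M), e (r • x) = σ r • e x) (r' : R') (y : M') :
    e.symm (r' • y) = σ.symm r' • e.symm y := by
  apply e.injective
  rw [he]
  simp

theorem isReflexive_of_semilinear (σ : R ≃+* R') (e : M ≃+ M')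
    (he : ∀ (r : R) (x : M), e (r • x) = σ r • e x) [h : Module.IsReflexive R M] :
    Module.IsReflexive R' M' := by
  have hes := symm_semilinear σ e he
  have hbij := h.bijective_dual_eval'
  refine ⟨⟨?_, ?_⟩⟩
  · rw [injective_iff_map_eq_zero]
    intro y hy
    have h0 : Module.Dual.eval R M (e.symm y) = 0 := by
      ext φ
      have := LinearMap.congr_fun hy (dualTransport σ e he φ)
      simp only [Module.Dual.eval_apply, dualTransport_apply, LinearMap.zero_apply] at this ⊢
      exact (map_eq_zero_iff σ σ.injective).mp this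
    have h1 : e.symm y = 0 := by
      apply hbij.1
      rw [h0, map_zero]
    have := congrArg e h1
    simpa using this
  · intro ρ'
    -- transport ρ' to a double dual form on M
    let ρ : Module.Dual R (Module.Dual R M) :=
      { toFun := fun φ => σ.symm (ρ' (dualTransport σ e he φ))
        map_add' := fun a b => by
          have : dualTransport σ e he (a + b) = dualTransport σ e he a + dualTransport σ e he b := by
            ext y; simp
          rw [this, map_add, map_add]
        map_smul' := fun r φ => by
          have : dualTransport σ e he (r • φ) = σ r • dualTransport σ e he φ := by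
            ext y; simp
          simp only [RingHom.id_apply, smul_eq_mul]
          rw [this, map_smul, smul_eq_mul, map_mul, RingEquiv.symm_apply_apply] }
    obtain ⟨x, hx⟩ := hbij.2 ρ
    refine ⟨e x, ?_⟩
    ext φ'
    -- φ' = dualTransport of its pullback
    let φ : Module.Dual R M := dualTransport σ.symm e.symm hes φ'
    have hφ : dualTransport σ e he φ = φ' := by
      ext y
      simp [φ]
    have h1 := LinearMap.congr_fun hx φ
    simp only [Module.Dual.eval_apply] at h1 ⊢
    change φ x = σ.symm (ρ' (dualTransport σ e he φ)) at h1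
    rw [hφ] at h1
    have h2 : φ x = σ.symm (φ' (e x)) := by simp [φ]
    rw [h2] at h1
    exact σ.symm.injective h1

end Transport

section Bidual

variable {R : Type u} [CommRing R] {M : Type v} [AddCommGroup M] [Module R M]
  {S : Type v'} [AddCommGroup S] [Module R S] {P : Type u'} [AddCommGroup P] [Module R P]

/-- the biduality map attached to an identification `ε` of `P` with `Hom(M, S)`. -/
def bidual (ε : P →ₗ[R] (M →ₗ[R] S)) : M →ₗ[R] (P →ₗ[R] S) := ε.flip

@[simp] theorem bidual_apply (ε : P →ₗ[R] (M →ₗ[R] S)) (v : M) (θ : P) :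
    bidual ε v θ = ε θ v := rfl

theorem bijective_bidual_iff (s : R ≃ₗ[R] S) (ε : P ≃ₗ[R] (M →ₗ[R] S)) :
    Function.Bijective (bidual (ε : P →ₗ[R] (M →ₗ[R] S))) ↔ Module.IsReflexive R M := by
  let e1 : (M →ₗ[R] S) ≃ₗ[R] Module.Dual R M := LinearEquiv.arrowCongr (LinearEquiv.refl R M) s.symm
  let e2 : P ≃ₗ[R] Module.Dual R M := ε.trans e1
  let Φ : Module.Dual R (Module.Dual R M) ≃ₗ[R] (P →ₗ[R] S) := LinearEquiv.arrowCongr e2.symm s
  have hb : ∀ v, bidual (ε : P →ₗ[R] (M →ₗ[R] S)) v = Φ (Module.Dual.eval R M v) := by
    intro v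
    ext θ
    simp [Φ, e2, e1, LinearEquiv.arrowCongr_apply]
  have hcomp : ⇑(bidual (ε : P →ₗ[R] (M →ₗ[R] S))) = ⇑Φ ∘ ⇑(Module.Dual.eval R M) := by
    funext v
    exact hb v
  rw [hcomp, Function.Bijective.of_comp_iff' Φ.bijective]
  exact ⟨fun h => ⟨h⟩, fun h => h.bijective_dual_eval'⟩

end Bidual

end Groth.Agent.Lib.Seat55.ReflAlg
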