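import Groth.Prelude.Def_RefHull
import Groth.Agent.Lib.Seat75SecOrd

/-!
# Frames of the dual and of the reflexive hull (helper75)

If `e` is a frame of `M` over `V` (`Helper23.SecTw.IsGen M V e`), then
* `dualSec M he : Γ(RefHull.dual M, V)` (the dual frame) is a frame of the dual (`isGen_dualSec`);
* the image of `e` under the biduality map is the double dual frame (`bidualMap_app_gen`), hence a
  frame of the reflexive hull (`isGen_bidual`).
-/

set_option autoImplicit false
set_option linter.style.haveILetI false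
universe u

open AlgebraicGeometry CategoryTheory TopologicalSpace Opposite

namespace Groth.Agent.Lib.Seat75.DualFrame

open Groth.Agent.Lib.Helper23.SecTw Groth.Agent.Lib.Helper23.GenLocus Groth.Agent.Lib.Helper6
  Groth.Agent.Lib.Seat75.SecOrd RefHull

section alg
variable {R : Type*} [CommRing R] {M : Type*} [AddCommGroup M] [Module R M]

/-- the linear equivalence `R ≃ M` defined by a free generator. -/
noncomputable def genEquiv (t : M) (ht : Function.Bijective (fun c : R => c • t)) : R ≃ₗ[R] M :=
  LinearEquiv.ofBijective (LinearMap.toSpanSingleton R M t) ht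

@[simp] lemma genEquiv_apply (t : M) (ht : Function.Bijective (fun c : R => c • t)) (c : R) :
    genEquiv t ht c = c • t := rfl

lemma genEquiv_symm_smul (t : M) (ht : Function.Bijective (fun c : R => c • t)) (c : R) :
    (genEquiv t ht).symm (c • t) = c := by
  rw [← genEquiv_apply t ht c, LinearEquiv.symm_apply_apply]

/-- two linear maps out of a module with a generator agree if they agree on the generator. -/
lemma linearMap_ext_of_gen {N : Type*} [AddCommGroup N] [Module R N] (t : M)
    (ht : Function.Surjective (fun c : R => c • t)) (f g : M →ₗ[R] N) (h : f t = g t) : f = g := by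
  ext m
  obtain ⟨c, rfl⟩ := ht m
  change f (c • t) = g (c • t)
  rw [map_smul, map_smul, h]

end alg

variable {X : Scheme.{u}}

/-- the germ of `1` in the stalk of the structure module. -/
noncomputable def oneGerm (y : X) : (Coh.structureModule X).presheaf.stalk y :=
  (Coh.structureModule X).presheaf.germ ⊤ y trivial (toS ⊤ 1)

lemma germ_toS_one {W : X.Opens} (y : X) (hy : y ∈ W) :
    (Coh.structureModule X).presheaf.germ W y hy (toS W 1) = oneGerm y := by
  have h : res (Coh.structureModule X) (le_top : W ≤ ⊤) (toS ⊤ 1) = toS W 1 :=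
    (map_toS (homOfLE le_top) 1).trans (by rw [map_one])
  rw [← h]
  exact TopCat.Presheaf.germ_res_apply (Coh.structureModule X).presheaf (homOfLE le_top) y hy _

lemma germ_toS {W : X.Opens} (y : X) (hy : y ∈ W) (r : Γ(X, W)) :
    (Coh.structureModule X).presheaf.germ W y hy (toS W r) =
      X.presheaf.germ W y hy r • oneGerm y := by
  have h : toS W r = r • toS W 1 := by rw [smul_toS, mul_one]
  rw [h, germ_smul, germ_toS_one]

lemma bijective_smul_oneGerm (y : X) :
    Function.Bijective (fun c : X.presheaf.stalk y => c • oneGerm y) :=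
  bijective_smul_germ_of_isGen (Coh.structureModule X) (isGen_one ⊤) y trivial

/-- restrictions agreeing as germs. -/
lemma exists_res_eq_of_germ_eq (M : X.Modules) {W : X.Opens} (y : X) (hy : y ∈ W) (m m' : Γ(M, W))
    (h : M.presheaf.germ W y hy m = M.presheaf.germ W y hy m') :
    ∃ (W' : X.Opens) (_ : y ∈ W') (hW' : W' ≤ W), res M hW' m = res M hW' m' := by
  obtain ⟨W₂, hy₂, i₁, i₂, hres⟩ := TopCat.Presheaf.germ_eq M.presheaf y hy hy m m' h
  have e1 : i₁ = i₂ := Subsingleton.elim _ _
  subst e1
  exact ⟨W₂, hy₂, i₁.le, hres⟩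

/-- **stalk criterion** for frames: a section whose germ freely generates every stalk over `U`
is a frame over `U`. -/
theorem isGen_of_bijective_germ (M : X.Modules) (U : X.Opens) (σ : Γ(M, U))
    (h : ∀ (y : X) (hy : y ∈ U),
      Function.Bijective (fun c : X.presheaf.stalk y => c • M.presheaf.germ U y hy σ)) :
    IsGen M U σ := by
  have hinj : ∀ (W' : X.Opens) (hW' : W' ≤ U) (r r' : Γ(X, W')),
      r • res M hW' σ = r' • res M hW' σ → r = r' := by
    intro W' hW' r r' hrr'
    refine TopCat.Presheaf.section_ext X.sheaf W' r r' (fun y hy => ?_)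
    apply (h y (hW' hy)).1
    change X.presheaf.germ W' y hy r • M.presheaf.germ U y (hW' hy) σ =
      X.presheaf.germ W' y hy r' • M.presheaf.germ U y (hW' hy) σ
    rw [← TopCat.Presheaf.germ_res_apply M.presheaf (homOfLE hW') y hy σ, ← germ_smul, ← germ_smul]
    exact congrArg _ hrr'
  intro W hW
  constructor
  · exact fun r r' hrr' => hinj W hW r r' hrr'
  · intro m
    have hex : ∀ y : W, ∃ (Wy : X.Opens) (_ : y.1 ∈ Wy) (hWy : Wy ≤ W) (ρ : Γ(X, Wy)),
        ρ • res M (hWy.trans hW) σ = res M hWy m := by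
      intro y
      obtain ⟨c, hc⟩ := (h y.1 (hW y.2)).2 (M.presheaf.germ W y.1 y.2 m)
      obtain ⟨W₁, hy₁, ρ₁, rfl⟩ := X.presheaf.exists_germ_eq c
      have hyW : y.1 ∈ W₁ ⊓ W := ⟨hy₁, y.2⟩
      have hg : M.presheaf.germ (W₁ ⊓ W) y.1 hyW
          (resf (inf_le_left : W₁ ⊓ W ≤ W₁) ρ₁ • res M ((inf_le_right : W₁ ⊓ W ≤ W).trans hW) σ) =
          M.presheaf.germ (W₁ ⊓ W) y.1 hyW (res M (inf_le_right : W₁ ⊓ W ≤ W) m) := by
        rw [germ_smul,
          TopCat.Presheaf.germ_res_apply X.presheaf (homOfLE (inf_le_left : W₁ ⊓ W ≤ W₁)) y.1 hyW ρ₁,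
          TopCat.Presheaf.germ_res_apply M.presheaf
            (homOfLE ((inf_le_right : W₁ ⊓ W ≤ W).trans hW)) y.1 hyW σ,
          TopCat.Presheaf.germ_res_apply M.presheaf (homOfLE (inf_le_right : W₁ ⊓ W ≤ W)) y.1 hyW m]
        exact hc
      obtain ⟨W₂, hy₂, hW₂, hres⟩ := exists_res_eq_of_germ_eq M y.1 hyW _ _ hg
      refine ⟨W₂, hy₂, hW₂.trans inf_le_right, resf (hW₂.trans inf_le_left) ρ₁, ?_⟩
      rw [res_smul, res_res, res_res, resf_resf] at hres
      exact hres
    choose Wy hyW hWy ρ hρ using hex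
    have hcompat : TopCat.Presheaf.IsCompatible (modSheaf (Coh.structureModule X)).1
        (fun y : W => Wy y) (fun y => toS (Wy y) (ρ y)) := by
      intro y y'
      change toS (Wy y ⊓ Wy y') (resf inf_le_left (ρ y)) =
        toS (Wy y ⊓ Wy y') (resf inf_le_right (ρ y'))
      congr 1
      apply hinj (Wy y ⊓ Wy y') ((inf_le_left.trans (hWy y)).trans hW)
      have hA := congrArg (res M (inf_le_left : Wy y ⊓ Wy y' ≤ Wy y)) (hρ y)
      have hB := congrArg (res M (inf_le_right : Wy y ⊓ Wy y' ≤ Wy y')) (hρ y')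
      rw [res_smul, res_res, res_res] at hA hB
      rw [hA, hB]
    have hcov : W ≤ ⨆ y : W, Wy y := fun z hz => Opens.mem_iSup.2 ⟨⟨z, hz⟩, hyW ⟨z, hz⟩⟩
    obtain ⟨ρ₀, hρ₀, -⟩ := (modSheaf (Coh.structureModule X)).existsUnique_gluing'
      (fun y : W => Wy y) W (fun y => homOfLE (hWy y)) hcov _ hcompat
    refine ⟨ofS W ρ₀, ?_⟩
    refine (modSheaf M).eq_of_locally_eq' (fun y : W => Wy y) W (fun y => homOfLE (hWy y)) hcov _ _
      (fun y => ?_)
    change res M (hWy y) (ofS W ρ₀ • res M hW σ) = res M (hWy y) m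
    rw [res_smul, res_res]
    have h3 : resf (hWy y) (ofS W ρ₀) = ρ y := congrArg (ofS (Wy y)) (hρ₀ y)
    rw [h3]
    exact hρ y

section
variable (M : X.Modules) {V : X.Opens} {e : Γ(M, V)} (he : IsGen M V e)

/-- the dual basis vector on the stalk at `y ∈ V`. -/
noncomputable def dualStalk (y : X) (hy : y ∈ V) : StalkHom M (Coh.structureModule X) y :=
  (LinearMap.toSpanSingleton (X.presheaf.stalk y) _ (oneGerm y)).comp
    (genEquiv (M.presheaf.germ V y hy e) (bijective_smul_germ_of_isGen M he y hy)).symm.toLinearMap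

lemma dualStalk_smul_gen (y : X) (hy : y ∈ V) (c : X.presheaf.stalk y) :
    dualStalk M he y hy (c • M.presheaf.germ V y hy e) = c • oneGerm y := by
  change LinearMap.toSpanSingleton (X.presheaf.stalk y) _ (oneGerm y)
    ((genEquiv (M.presheaf.germ V y hy e) (bijective_smul_germ_of_isGen M he y hy)).symm
      (c • M.presheaf.germ V y hy e)) = _
  rw [genEquiv_symm_smul]
  rfl

lemma dualStalk_gen (y : X) (hy : y ∈ V) :
    dualStalk M he y hy (M.presheaf.germ V y hy e) = oneGerm y := by
  have := dualStalk_smul_gen M he y hy 1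
  rwa [one_smul, one_smul] at this

lemma dualStalk_germ {V' : X.Opens} (hV' : V' ≤ V) (m : Γ(M, V')) (y : X) (hy : y ∈ V') :
    dualStalk M he y (hV' hy) (M.presheaf.germ V' y hy m) =
      (Coh.structureModule X).presheaf.germ V' y hy (toS V' (coef he hV' m)) := by
  have h1 : M.presheaf.germ V' y hy m =
      X.presheaf.germ V' y hy (coef he hV' m) • M.presheaf.germ V y (hV' hy) e := by
    conv_lhs => rw [← coef_spec he hV' m]
    rw [germ_smul]
    congr 1
    exact TopCat.Presheaf.germ_res_apply M.presheaf (homOfLE hV') y hy e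
  rw [h1, dualStalk_smul_gen, germ_toS]

/-- the dual frame. -/
noncomputable def dualSec : Γ(RefHull.dual M, V) :=
  ⟨fun y => dualStalk M he y.1 y.2, fun V' i m x =>
    ⟨V', x.2, 𝟙 V', toS V' (coef he i.le m), fun y => dualStalk_germ M he i.le m y.1 y.2⟩⟩

@[simp] lemma dualSec_apply (y : V) : (dualSec M he).1 y = dualStalk M he y.1 y.2 := rfl

/-- sections of the dual are determined by their values on the frame. -/
lemma dual_section_eq {W : X.Opens} (hW : W ≤ V) (g : Γ(RefHull.dual M, W)) (n : Γ(X, W))
    (hn : ∀ z : W, g.1 z (M.presheaf.germ V z.1 (hW z.2) e) =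
      X.presheaf.germ W z.1 z.2 n • oneGerm z.1) :
    g = n • res (RefHull.dual M) hW (dualSec M he) := by
  apply Subtype.ext
  funext z
  change g.1 z = X.presheaf.germ W z.1 z.2 n • dualStalk M he z.1 (hW z.2)
  apply linearMap_ext_of_gen (M.presheaf.germ V z.1 (hW z.2) e)
    (bijective_smul_germ_of_isGen M he z.1 (hW z.2)).2
  rw [hn z, LinearMap.smul_apply, dualStalk_gen]

/-- the dual frame is a frame of the dual. -/
theorem isGen_dualSec : IsGen (RefHull.dual M) V (dualSec M he) := by
  apply isGen_of_bijective_germ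
  intro y hy
  constructor
  · intro c c' hcc'
    have h1 := congrArg (fun θ => RefHull.evalStalk M (Coh.structureModule X) y θ
      (M.presheaf.germ V y hy e)) hcc'
    simp only [map_smul, RefHull.evalStalk_germ, LinearMap.smul_apply, dualSec_apply,
      dualStalk_gen] at h1
    exact (bijective_smul_oneGerm y).1 h1
  · intro θ
    obtain ⟨W₀, hy₀, g, rfl⟩ := (RefHull.dual M).presheaf.exists_germ_eq θ
    have hyW : y ∈ W₀ ⊓ V := ⟨hy₀, hy⟩
    obtain ⟨W', hyW', j, n, hn⟩ := RefHull.isLocSect_of_mem
      (res (RefHull.dual M) (inf_le_left : W₀ ⊓ V ≤ W₀) g) (W₀ ⊓ V) (𝟙 (W₀ ⊓ V))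
      (res M (inf_le_right : W₀ ⊓ V ≤ V) e) ⟨y, hyW⟩
    have hW'V : W' ≤ V := j.le.trans inf_le_right
    have key : res (RefHull.dual M) (j.le.trans inf_le_left) g =
        ofS W' n • res (RefHull.dual M) hW'V (dualSec M he) := by
      refine dual_section_eq M he hW'V _ _ (fun z => ?_)
      have h2 := hn z
      rw [TopCat.Presheaf.germ_res_apply M.presheaf (homOfLE (inf_le_right : W₀ ⊓ V ≤ V)) z.1
        (j.le z.2) e] at h2
      have h3 : (Coh.structureModule X).presheaf.germ W' z.1 z.2 n =
          X.presheaf.germ W' z.1 z.2 (ofS W' n) • oneGerm z.1 := by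
        rw [← germ_toS, toS_ofS]
      rw [← h3, ← h2]
      rfl
    refine ⟨X.presheaf.germ W' y hyW' (ofS W' n), ?_⟩
    change X.presheaf.germ W' y hyW' (ofS W' n) • (RefHull.dual M).presheaf.germ V y hy (dualSec M he) = _
    rw [← TopCat.Presheaf.germ_res_apply (RefHull.dual M).presheaf (homOfLE hW'V) y hyW'
      (dualSec M he), ← germ_smul]
    have key' : ofS W' n • res (RefHull.dual M) hW'V (dualSec M he) =
        res (RefHull.dual M) (j.le.trans inf_le_left) g := key.symm
    change (RefHull.dual M).presheaf.germ W' y hyW'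
      (ofS W' n • res (RefHull.dual M) hW'V (dualSec M he)) = _
    rw [key']
    exact TopCat.Presheaf.germ_res_apply (RefHull.dual M).presheaf
      (homOfLE (j.le.trans inf_le_left)) y hyW' g

/-- the biduality map sends a frame to the double dual frame. -/
theorem bidualMap_app_gen :
    (RefHull.bidualMap M).app V e = dualSec (RefHull.dual M) (isGen_dualSec M he) := by
  apply Subtype.ext
  funext y
  change RefHull.bidualAt M y.1 (M.presheaf.germ V y.1 y.2 e) =
    dualStalk (RefHull.dual M) (isGen_dualSec M he) y.1 y.2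
  apply linearMap_ext_of_gen ((RefHull.dual M).presheaf.germ V y.1 y.2 (dualSec M he))
    (bijective_smul_germ_of_isGen (RefHull.dual M) (isGen_dualSec M he) y.1 y.2).2
  rw [dualStalk_gen, RefHull.bidualAt_apply, RefHull.evalStalk_germ, dualSec_apply, dualStalk_gen]

include he in
/-- the biduality map sends a frame to a frame of the reflexive hull. -/
theorem isGen_bidual : IsGen (RefHull.ddual M) V ((RefHull.bidualMap M).app V e) := by
  rw [bidualMap_app_gen M he]
  exact isGen_dualSec (RefHull.dual M) (isGen_dualSec M he)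

end

end Groth.Agent.Lib.Seat75.DualFrame
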