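import Mathlib
import Groth.Prelude.Def_Pi1
import Groth.Agent.Lib.Helper28WeakKrull3

/-!
# The local algebraic Hartogs lemma on normal schemes (helper75)

* `alg_hartogs`: for a Noetherian integrally closed domain `A`, a prime `q` and `κ ∈ Frac A`: if `κ`
  lies in `A_p` for every height one prime `p ≤ q`, then `κ ∈ A_q`.
* `isIntegrallyClosed_of_isAffineOpen`: sections of a normal integral scheme over an affine open
  form an integrally closed domain.
* `local_hartogs`: on an integral locally Noetherian normal scheme, a rational function which lies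
  in the local rings of all codimension one generizations of `z` lies in the local ring of `z`.
-/

set_option autoImplicit false
set_option linter.style.haveILetI false
set_option linter.unusedSectionVars false
universe u

open AlgebraicGeometry CategoryTheory TopologicalSpace Opposite

namespace Groth.Agent.Lib.Seat75.Hartogs

section alg
variable {A : Type u} [CommRing A] [IsDomain A] [IsNoetherianRing A] [IsIntegrallyClosed A]
  {K : Type*} [Field K] [Algebra A K] [IsFractionRing A K]

/-- **Algebraic Hartogs, local form.** -/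
theorem alg_hartogs (q : Ideal A) [q.IsPrime] (κ : K)
    (h : ∀ p : Ideal A, p.IsPrime → p ≤ q → p.height = 1 →
      ∃ c d : A, d ∉ p ∧ κ * algebraMap A K d = algebraMap A K c) :
    ∃ c d : A, d ∉ q ∧ κ * algebraMap A K d = algebraMap A K c := by
  obtain ⟨a, b, hb, rfl⟩ := IsFractionRing.div_surjective (A := A) κ
  have hb0 : b ≠ 0 := nonZeroDivisors.ne_zero hb
  have hbK : algebraMap A K b ≠ 0 := by
    rw [Ne, map_eq_zero_iff _ (IsFractionRing.injective A K)]; exact hb0
  let R := Localization.AtPrime q
  haveI : IsIntegrallyClosed R :=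
    isIntegrallyClosed_of_isLocalization R q.primeCompl q.primeCompl_le_nonZeroDivisors
  have hinj : Function.Injective (algebraMap A R) :=
    IsLocalization.injective R q.primeCompl_le_nonZeroDivisors
  have hs0 : algebraMap A R b ≠ 0 := by
    rw [Ne, map_eq_zero_iff _ hinj]; exact hb0
  have key : algebraMap A R b ∣ algebraMap A R a := by
    apply Groth.Agent.Lib.Helper28.WeakKrull.dvd_of_forall_associatedPrimes R
    intro Q hQp hQ
    have hQ1 : Q.height = 1 :=
      Groth.Agent.Lib.Helper22.AssHeightOne.height_eq_one_of_mem_associatedPrimes _ hs0 Q hQ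
    have hp1 : (Q.under A).height = 1 := by
      rw [IsLocalization.height_under q.primeCompl, hQ1]
    have hple : Q.under A ≤ q := by
      intro x hx
      by_contra hxq
      have hu : IsUnit (algebraMap A R x) := IsLocalization.map_units R (⟨x, hxq⟩ : q.primeCompl)
      exact hQp.ne_top (Ideal.eq_top_of_isUnit_mem _ hx hu)
    obtain ⟨c, d, hd, hcd⟩ := h (Q.under A) inferInstance hple hp1
    have hA : a * d = b * c := by
      apply IsFractionRing.injective A K
      rw [map_mul, map_mul, ← hcd]
      field_simp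
    have hdQ : algebraMap A R d ∉ Q := hd
    have hdu : IsUnit (algebraMap R (Localization.AtPrime Q) (algebraMap A R d)) :=
      IsLocalization.map_units (Localization.AtPrime Q) (⟨_, hdQ⟩ : Q.primeCompl)
    obtain ⟨u, hu⟩ := hdu
    refine ⟨algebraMap R (Localization.AtPrime Q) (algebraMap A R c) * ↑u⁻¹, ?_⟩
    have h2 : algebraMap R (Localization.AtPrime Q) (algebraMap A R a) * ↑u =
        algebraMap R (Localization.AtPrime Q) (algebraMap A R b) *
          algebraMap R (Localization.AtPrime Q) (algebraMap A R c) := by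
      rw [hu, ← map_mul, ← map_mul, ← map_mul, ← map_mul, hA]
    rw [← mul_assoc, ← h2, mul_assoc, Units.mul_inv, mul_one]
  obtain ⟨w, hw⟩ := key
  obtain ⟨c, d, rfl⟩ := IsLocalization.exists_mk'_eq q.primeCompl w
  refine ⟨c, d, d.2, ?_⟩
  have h3 : a * d = b * c := by
    apply hinj
    rw [map_mul, map_mul, hw, mul_assoc, mul_comm _ (algebraMap A R d), IsLocalization.mk'_spec']
  rw [div_mul_eq_mul_div, div_eq_iff hbK, ← map_mul, ← map_mul, h3, mul_comm]

end alg

variable {X : Scheme.{u}} [IsIntegral X] [IsLocallyNoetherian X]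

/-- sections over a (nonempty) affine open of a normal integral scheme are integrally closed. -/
theorem isIntegrallyClosed_of_isAffineOpen (hX : Pi1.IsNormalScheme X) {U : X.Opens}
    (hU : IsAffineOpen U) [Nonempty U] : IsIntegrallyClosed Γ(X, U) := by
  apply IsIntegrallyClosed.of_localization_maximal
  intro p hp0 hpm
  haveI : p.IsPrime := hpm.isPrime
  let y : PrimeSpectrum Γ(X, U) := ⟨p, inferInstance⟩
  have hyU : hU.fromSpec y ∈ U := (hU.isoSpec.inv y).2
  letI : Algebra Γ(X, U) (X.presheaf.stalk (hU.fromSpec y)) :=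
    TopCat.Presheaf.algebra_section_stalk X.presheaf ⟨hU.fromSpec y, hyU⟩
  haveI : IsLocalization.AtPrime (X.presheaf.stalk (hU.fromSpec y)) p :=
    hU.isLocalization_stalk' y hyU
  let e : Localization.AtPrime p ≃ₐ[Γ(X, U)] X.presheaf.stalk (hU.fromSpec y) :=
    IsLocalization.algEquiv p.primeCompl (Localization.AtPrime p) (X.presheaf.stalk (hU.fromSpec y))
  haveI : IsIntegrallyClosed (X.presheaf.stalk (hU.fromSpec y)) := (hX _).2
  exact IsIntegrallyClosed.of_equiv e.symm.toRingEquiv

/-- **Local Hartogs lemma** on a normal integral locally Noetherian scheme. -/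
theorem local_hartogs (hX : Pi1.IsNormalScheme X) (z : X) (κ : X.functionField)
    (h : ∀ y : X, y ⤳ z → Order.coheight y = 1 →
      κ ∈ Set.range (algebraMap (X.presheaf.stalk y) X.functionField)) :
    κ ∈ Set.range (algebraMap (X.presheaf.stalk z) X.functionField) := by
  obtain ⟨_, ⟨U, hU, rfl⟩, hzU, -⟩ :=
    X.isBasis_affineOpens.exists_subset_of_mem_open (Set.mem_univ z) isOpen_univ
  haveI : Nonempty U := ⟨⟨z, hzU⟩⟩
  haveI : IsNoetherianRing Γ(X, U) := IsLocallyNoetherian.component_noetherian ⟨U, hU⟩
  haveI : IsIntegrallyClosed Γ(X, U) := isIntegrallyClosed_of_isAffineOpen hX hU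
  haveI : IsFractionRing Γ(X, U) X.functionField := functionField_isFractionRing_of_isAffineOpen X U hU
  let q : PrimeSpectrum Γ(X, U) := hU.primeIdealOf ⟨z, hzU⟩
  have hqz : hU.fromSpec q = z := hU.fromSpec_primeIdealOf ⟨z, hzU⟩
  haveI : q.asIdeal.IsPrime := q.2
  have key := alg_hartogs (K := X.functionField) q.asIdeal κ (by
    intro p hp hpq hp1
    let y : PrimeSpectrum Γ(X, U) := ⟨p, hp⟩
    have hyU : hU.fromSpec y ∈ U := (hU.isoSpec.inv y).2
    have hyz : hU.fromSpec y ⤳ z := by
      rw [← hqz]
      have hyq : @Specializes (PrimeSpectrum Γ(X, U)) _ y q :=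
        (PrimeSpectrum.le_iff_specializes y q).mp hpq
      exact Specializes.map hyq hU.fromSpec.continuous
    letI : Algebra Γ(X, U) (X.presheaf.stalk (hU.fromSpec y)) :=
      TopCat.Presheaf.algebra_section_stalk X.presheaf ⟨hU.fromSpec y, hyU⟩
    haveI : IsLocalization.AtPrime (X.presheaf.stalk (hU.fromSpec y)) p :=
      hU.isLocalization_stalk' y hyU
    have hco : Order.coheight (hU.fromSpec y) = 1 := by
      have h1 := ringKrullDim_stalk_eq_coheight (hU.fromSpec y)
      rw [IsLocalization.AtPrime.ringKrullDim_eq_height p, hp1] at h1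
      exact_mod_cast h1.symm
    obtain ⟨g, hg⟩ := h _ hyz hco
    obtain ⟨c, d, rfl⟩ := IsLocalization.exists_mk'_eq p.primeCompl g
    refine ⟨c, d, d.2, ?_⟩
    haveI : IsScalarTower Γ(X, U) (X.presheaf.stalk (hU.fromSpec y)) X.functionField :=
      functionField_isScalarTower X U ⟨hU.fromSpec y, hyU⟩
    rw [← hg, IsScalarTower.algebraMap_apply Γ(X, U) (X.presheaf.stalk (hU.fromSpec y)) X.functionField,
      IsScalarTower.algebraMap_apply Γ(X, U) (X.presheaf.stalk (hU.fromSpec y)) X.functionField,
      ← map_mul, IsLocalization.mk'_spec])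
  obtain ⟨c, d, hd, hcd⟩ := key
  letI : Algebra Γ(X, U) (X.presheaf.stalk z) :=
    TopCat.Presheaf.algebra_section_stalk X.presheaf ⟨z, hzU⟩
  haveI : IsLocalization.AtPrime (X.presheaf.stalk z) q.asIdeal := hU.isLocalization_stalk ⟨z, hzU⟩
  haveI : IsScalarTower Γ(X, U) (X.presheaf.stalk z) X.functionField :=
    functionField_isScalarTower X U ⟨z, hzU⟩
  refine ⟨IsLocalization.mk' (X.presheaf.stalk z) c (⟨d, hd⟩ : q.asIdeal.primeCompl), ?_⟩
  have hdK : algebraMap Γ(X, U) X.functionField d ≠ 0 := by
    rw [Ne, map_eq_zero_iff _ (IsFractionRing.injective Γ(X, U) X.functionField)]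
    rintro rfl
    exact hd (Ideal.zero_mem _)
  apply mul_right_cancel₀ hdK
  rw [hcd, IsScalarTower.algebraMap_apply Γ(X, U) (X.presheaf.stalk z) X.functionField d,
    ← map_mul]
  have : IsLocalization.mk' (X.presheaf.stalk z) c (⟨d, hd⟩ : q.asIdeal.primeCompl) *
      algebraMap Γ(X, U) (X.presheaf.stalk z) d = algebraMap Γ(X, U) (X.presheaf.stalk z) c :=
    IsLocalization.mk'_spec _ c ⟨d, hd⟩
  rw [this, ← IsScalarTower.algebraMap_apply]

end Groth.Agent.Lib.Seat75.Hartogs
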