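import Mathlib
import Groth.Prelude.Def_RefHull
import Groth.Agent.Lib.Helper1Sky2

/-!
# Local generation of modules of finite type (seat 77)

`span_germ_eq_top`: the germs of a family of generating sections of `M.over U` span the stalk `M_x` at every
point `x ∈ U` (skyscraper argument: the quotient of the stalk by the span receives the zero map).
`exists_local_generators`: an `O_X`-module of finite type (Mathlib's `SheafOfModules.IsFiniteType`, no
quasi-coherence assumed) has, near every point, finitely many sections whose germs span all nearby stalks.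
-/

set_option autoImplicit false
universe u
open CategoryTheory CategoryTheory.Limits AlgebraicGeometry TopologicalSpace Opposite

namespace Groth.Agent.Lib.Seat77.LocGen

open Groth.Agent.Lib.Helper1.Sky Groth.Agent.Lib.Helper1.StalkTensor

variable {X : Scheme.{u}} (M : X.Modules) (U : X.Opens)

/-- the `i`-th generating section of `M.over U`, as a section of `M` over `U`. -/
noncomputable def sec (G : (SheafOfModules.over (R := X.ringCatSheaf) M U).GeneratingSections) (i : G.I) : Γ(M, U) :=
  (G.s i).val (op (Over.mk (𝟙 U)))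

theorem sec_res (G : (SheafOfModules.over (R := X.ringCatSheaf) M U).GeneratingSections) (i : G.I)
    (Y : Over U) :
    (G.s i).val (op Y) = M.presheaf.map Y.hom.op (sec M U G i) := by
  have := PresheafOfModules.sections_property (G.s i) (X := op (Over.mk (𝟙 U))) (Y := op Y)
    (Over.homMk Y.hom).op
  exact this.symm

/-- the germs of generating sections of `M.over U` span the stalk at every point of `U`. -/
theorem span_germ_eq_top (G : (SheafOfModules.over (R := X.ringCatSheaf) M U).GeneratingSections)
    (x : X) (hx : x ∈ U) :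
    Submodule.span (X.presheaf.stalk x) (Set.range fun i => M.presheaf.germ U x hx (sec M U G i)) = ⊤ := by
  set S := Submodule.span (X.presheaf.stalk x) (Set.range fun i => M.presheaf.germ U x hx (sec M U G i))
    with hS
  let T := (M.presheaf.stalk x) ⧸ S
  let q₀ : St (toPM M) x →ₗ[Rx X.presheaf x] T := S.mkQ
  let q : M ⟶ skyMod x (ModuleCat.of _ T) := ⟨ofStalk (R := X.presheaf) (x := x) (N := T) (P := toPM M) q₀⟩
  let q' := (SheafOfModules.overFunctor X.ringCatSheaf U).map q
  have h0 : G.π ≫ q' = G.π ≫ 0 := by
    apply (SheafOfModules.freeHomEquiv _).injective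
    funext i
    rw [SheafOfModules.freeHomEquiv_comp_apply, SheafOfModules.freeHomEquiv_comp_apply,
      Equiv.apply_symm_apply]
    apply PresheafOfModules.sections_ext
    intro Y
    change q'.val.app Y ((G.s i).val Y) = 0
    obtain ⟨Y⟩ := Y
    apply SkyT.ext (R := X.presheaf) (U := Y.left)
    intro hxY
    change q₀ (gm (toPM M) x Y.left hxY ((G.s i).val (op Y))) = 0
    rw [sec_res]
    change q₀ (M.presheaf.germ Y.left x hxY (M.presheaf.map Y.hom.op (sec M U G i))) = 0
    rw [TopCat.Presheaf.germ_res_apply]
    exact (Submodule.Quotient.mk_eq_zero S).2 (Submodule.subset_span ⟨i, rfl⟩)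
  have h1 : q' = 0 := (cancel_epi G.π).1 h0
  rw [eq_top_iff]
  intro a _
  obtain ⟨V, hxV, m, rfl⟩ := TopCat.Presheaf.exists_germ_eq M.presheaf a
  have hxVU : x ∈ V ⊓ U := ⟨hxV, hx⟩
  have h2 : q'.val.app (op (Over.mk (homOfLE (inf_le_right : V ⊓ U ≤ U))))
      (M.presheaf.map (homOfLE (inf_le_left : V ⊓ U ≤ V)).op m) = 0 := by
    rw [h1]; rfl
  have h3 := congrArg (fun t => SkyT.ev X.presheaf (V ⊓ U) t hxVU) h2
  change q₀ (M.presheaf.germ (V ⊓ U) x hxVU (M.presheaf.map (homOfLE (inf_le_left : V ⊓ U ≤ V)).op m)) = 0 at h3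
  rw [TopCat.Presheaf.germ_res_apply] at h3
  exact (Submodule.Quotient.mk_eq_zero S).1 h3

/-- a module of finite type is, near every point, generated stalkwise by finitely many sections. -/
theorem exists_local_generators (hM : CohB1.IsFT M) (x : X) :
    ∃ (U : X.Opens) (_ : x ∈ U) (ι : Type u) (_ : Finite ι) (s : ι → Γ(M, U)),
      ∀ (y : X) (hy : y ∈ U), Submodule.span (X.presheaf.stalk y)
        (Set.range fun i => M.presheaf.germ U y hy (s i)) = ⊤ := by
  obtain ⟨σ, hσ⟩ := hM.exists_localGeneratorsData
  have hcov : IsOpenCover σ.X := (Opens.coversTop_iff _ σ.X).1 σ.coversTop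
  obtain ⟨i, hi⟩ := hcov.exists_mem x
  have := hσ.isFiniteType i
  exact ⟨σ.X i, hi, (σ.generators i).I, this.finite, sec M (σ.X i) (σ.generators i),
    fun y hy => span_germ_eq_top M (σ.X i) (σ.generators i) y hy⟩

end Groth.Agent.Lib.Seat77.LocGen
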