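import Groth.Prelude.Def_Pi1
import Groth.Agent.Lib.Seat75DualFrame
import Groth.Agent.Lib.Seat77LocGen

/-!
# Frames of rank one reflexive modules at points of codimension one (helper75)

* `exists_generator_of_valuationRing`: a finite module over a valuation ring which embeds
  semilinearly into the fraction field is cyclic;
* `eq_zero_of_res_eq_zero`: sections of a reflexive module on an integral scheme which vanish on a
  nonempty open vanish;
* `exists_gen_generic`: frames near the generic point of a generically invertible module;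
* `exists_gen_codim_one`: frames of rank one reflexive coherent modules near points of codimension
  one of a normal integral locally Noetherian scheme.
-/

set_option autoImplicit false
set_option linter.style.haveILetI false
universe u

open AlgebraicGeometry CategoryTheory TopologicalSpace Opposite

namespace Groth.Agent.Lib.Seat75.Ref1Frame

open Groth.Agent.Lib.Helper23.SecTw Groth.Agent.Lib.Helper23.GenLocus Groth.Agent.Lib.Helper6
  Groth.Agent.Lib.Seat75.SecOrd Groth.Agent.Lib.Seat75.DualFrame RefHull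

section alg

variable {R K M : Type*} [CommRing R] [IsDomain R] [ValuationRing R] [Field K] [Algebra R K]
  [IsFractionRing R K] [AddCommGroup M] [Module R M]

lemma dvd_total_fraction (x y : K) :
    (∃ c : R, y = algebraMap R K c * x) ∨ (∃ c : R, x = algebraMap R K c * y) := by
  by_cases hx : x = 0
  · exact Or.inr ⟨0, by rw [hx, map_zero, zero_mul]⟩
  rcases ValuationRing.isInteger_or_isInteger R (y / x) with ⟨c, hc⟩ | ⟨c, hc⟩
  · left
    refine ⟨c, ?_⟩
    rw [hc, div_mul_cancel₀ y hx]
  · by_cases hy : y = 0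
    · exact Or.inl ⟨0, by rw [hy, map_zero, zero_mul]⟩
    · right
      refine ⟨c, ?_⟩
      rw [hc, inv_div, div_mul_cancel₀ x hy]

/-- a finite module over a valuation ring which embeds semilinearly into the fraction field is
cyclic. -/
theorem exists_generator_of_valuationRing [Module.Finite R M] (ψ : M → K)
    (hinj : Function.Injective ψ) (hsmul : ∀ (r : R) (m : M), ψ (r • m) = algebraMap R K r * ψ m) :
    ∃ m₀ : M, ∀ m : M, ∃ r : R, m = r • m₀ := by
  classical
  obtain ⟨S, hS⟩ := (Module.Finite.fg_top : (⊤ : Submodule R M).FG)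
  have key : ∀ S : Finset M, ∃ m₀ : M, ∀ m ∈ S, ∃ r : R, m = r • m₀ := by
    intro S
    induction S using Finset.induction_on with
    | empty => exact ⟨0, fun m hm => absurd hm (Finset.notMem_empty m)⟩
    | insert s S' _ ih =>
      obtain ⟨m₀', h'⟩ := ih
      rcases dvd_total_fraction (R := R) (ψ s) (ψ m₀') with ⟨c, hc⟩ | ⟨c, hc⟩
      · -- `m₀' = c • s`
        have h1 : m₀' = c • s := hinj (by rw [hc, hsmul])
        refine ⟨s, fun m hm => ?_⟩
        rcases Finset.mem_insert.mp hm with rfl | hm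
        · exact ⟨1, (one_smul _ _).symm⟩
        · obtain ⟨r, hr⟩ := h' m hm
          exact ⟨r * c, by rw [hr, h1, mul_smul]⟩
      · have h1 : s = c • m₀' := hinj (by rw [hc, hsmul])
        refine ⟨m₀', fun m hm => ?_⟩
        rcases Finset.mem_insert.mp hm with rfl | hm
        · exact ⟨c, h1⟩
        · exact h' m hm
  obtain ⟨m₀, h₀⟩ := key S
  refine ⟨m₀, fun m => ?_⟩
  have hle : Submodule.span R (S : Set M) ≤ Submodule.span R {m₀} := by
    rw [Submodule.span_le]
    intro m hm
    obtain ⟨r, hr⟩ := h₀ m hm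
    exact Submodule.mem_span_singleton.2 ⟨r, hr.symm⟩
  rw [hS] at hle
  obtain ⟨r, hr⟩ := Submodule.mem_span_singleton.1 (hle (Submodule.mem_top : m ∈ ⊤))
  exact ⟨r, hr.symm⟩

end alg

variable {X : Scheme.{u}}

section integral
variable [IsIntegral X]

lemma res_structure_injective {W W' : X.Opens} (h : W' ≤ W) (hne : (W' : Set X).Nonempty) :
    Function.Injective (res (Coh.structureModule X) h) := by
  haveI : Nonempty W' := hne.to_subtype
  exact map_injective_of_isIntegral X (homOfLE h)

/-- sections of a reflexive module on an integral scheme vanish if they vanish on a nonempty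
open subset. -/
theorem eq_zero_of_res_eq_zero (F : X.Modules) (hF : RefHull.IsReflexive F) {U W : X.Opens}
    (hW : W ≤ U) (hne : (W : Set X).Nonempty) (μ : Γ(F, U)) (h : res F hW μ = 0) : μ = 0 := by
  have hiso : IsIso ((RefHull.bidualMap F).app U) :=
    Scheme.Modules.Hom.isIso_iff_isIso_app.1 hF _
  have hinj : Function.Injective ((RefHull.bidualMap F).app U) :=
    (ConcreteCategory.bijective_of_isIso _).1
  apply hinj
  rw [map_zero]
  apply Subtype.ext
  funext y
  rw [RefHull.bidualMap_app_apply]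
  change _ = (0 : StalkHom (RefHull.dual F) (Coh.structureModule X) y.1)
  apply LinearMap.ext
  intro θ
  rw [RefHull.bidualAt_apply, LinearMap.zero_apply]
  obtain ⟨U', hy', ϑ, rfl⟩ := (RefHull.dual F).presheaf.exists_germ_eq θ
  rw [RefHull.evalStalk_germ]
  obtain ⟨W'', hyW'', j, n, hn⟩ := RefHull.isLocSect_of_mem ϑ (U' ⊓ U) (homOfLE inf_le_left)
    (res F inf_le_right μ) ⟨y.1, hy', y.2⟩
  have hn0 : n = 0 := by
    have hne' : ((W'' ⊓ W : X.Opens) : Set X).Nonempty :=
      nonempty_preirreducible_inter W''.isOpen W.isOpen ⟨y.1, hyW''⟩ hne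
    have hz0 : res (Coh.structureModule X) (inf_le_left : W'' ⊓ W ≤ W'') (0 : Γ(Coh.structureModule X, W'')) = 0 :=
      map_zero _
    apply res_structure_injective (inf_le_left : W'' ⊓ W ≤ W'') hne'
    rw [hz0]
    refine TopCat.Presheaf.section_ext (modSheaf (Coh.structureModule X)) (W'' ⊓ W) _ _
      (fun z hz => ?_)
    have h0 : (modSheaf (Coh.structureModule X)).presheaf.germ (W'' ⊓ W) z hz 0 = 0 := map_zero _
    refine Eq.trans ?_ h0.symm
    change (Coh.structureModule X).presheaf.germ (W'' ⊓ W) z hz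
      (res (Coh.structureModule X) inf_le_left n) = 0
    rw [TopCat.Presheaf.germ_res_apply (Coh.structureModule X).presheaf
      (homOfLE (inf_le_left : W'' ⊓ W ≤ W'')) z hz n]
    have h2 := hn ⟨z, hz.1⟩
    rw [← h2]
    have h3 : F.presheaf.germ (U' ⊓ U) z (j.le hz.1) (res F inf_le_right μ) = 0 := by
      rw [TopCat.Presheaf.germ_res_apply F.presheaf (homOfLE (inf_le_right : U' ⊓ U ≤ U)) z
        (j.le hz.1) μ,
        ← TopCat.Presheaf.germ_res_apply F.presheaf (homOfLE hW) z hz.2 μ]
      change F.presheaf.germ W z hz.2 (res F hW μ) = 0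
      rw [h, map_zero]
    rw [h3, map_zero]
  have hz := hn ⟨y.1, hyW''⟩
  rw [TopCat.Presheaf.germ_res_apply F.presheaf (homOfLE (inf_le_right : U' ⊓ U ≤ U)) y.1
    (j.le hyW'') μ] at hz
  rw [hz, hn0, map_zero]

/-- for a reflexive module on an integral scheme the specialization maps to the generic stalk are
injective. -/
theorem stalkSpecializes_injective (F : X.Modules) (hF : RefHull.IsReflexive F) (x : X)
    (h : genericPoint X ⤳ x) : Function.Injective (F.presheaf.stalkSpecializes h) := by
  rw [injective_iff_map_eq_zero]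
  intro m hm
  obtain ⟨U, hxU, μ, rfl⟩ := F.presheaf.exists_germ_eq m
  have hηU : genericPoint X ∈ U := h.mem_open U.isOpen hxU
  have hsp : F.presheaf.stalkSpecializes h (F.presheaf.germ U x hxU μ) =
      F.presheaf.germ U (genericPoint X) hηU μ :=
    ConcreteCategory.congr_hom (TopCat.Presheaf.germ_stalkSpecializes F.presheaf hxU h) μ
  rw [hsp] at hm
  have hm' : F.presheaf.germ U (genericPoint X) hηU μ = F.presheaf.germ U (genericPoint X) hηU 0 := by
    rw [hm, map_zero]
  obtain ⟨W, hηW, hWU, hres⟩ := exists_res_eq_of_germ_eq F (genericPoint X) hηU μ 0 hm'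
  have hres' : res F hWU μ = 0 := hres.trans (map_zero _)
  rw [eq_zero_of_res_eq_zero F hF hWU ⟨_, hηW⟩ μ hres', map_zero]

end integral

section common

theorem exists_common_nhd_ring {ι : Type*} [Finite ι] (x : X) (v : ι → X.presheaf.stalk x)
    (U : X.Opens) (hx : x ∈ U) :
    ∃ (W : X.Opens) (hxW : x ∈ W) (_ : W ≤ U) (t : ι → Γ(X, W)),
      ∀ i, X.presheaf.germ W x hxW (t i) = v i := by
  have h1 : ∀ i, ∃ (W : X.Opens) (hxW : x ∈ W) (t : Γ(X, W)), X.presheaf.germ W x hxW t = v i :=
    fun i => TopCat.Presheaf.exists_germ_eq X.presheaf (v i)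
  choose W hxW t ht using h1
  have hxI : x ∈ (⨅ i, W i) ⊓ U := by
    refine ⟨?_, hx⟩
    rw [Opens.coe_iInf]
    exact Set.mem_iInter.2 hxW
  refine ⟨(⨅ i, W i) ⊓ U, hxI, inf_le_right, fun i =>
    X.presheaf.map (homOfLE (inf_le_left.trans (iInf_le W i))).op (t i), fun i => ?_⟩
  rw [TopCat.Presheaf.germ_res_apply, ht]

theorem exists_common_nhd_eq_zero {ι : Type*} [Finite ι] (G : X.Modules) (x : X) {U : X.Opens}
    (hx : x ∈ U) (e : ι → Γ(G, U)) (he : ∀ i, G.presheaf.germ U x hx (e i) = 0) :
    ∃ (W : X.Opens) (_ : x ∈ W) (hW : W ≤ U), ∀ i, res G hW (e i) = 0 := by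
  have h1 : ∀ i, ∃ (W : X.Opens) (_ : x ∈ W) (hW : W ≤ U), res G hW (e i) = 0 := by
    intro i
    have h2 : G.presheaf.germ U x hx (e i) = G.presheaf.germ U x hx 0 := by rw [he, map_zero]
    obtain ⟨W, hxW, hWU, hW⟩ := exists_res_eq_of_germ_eq G x hx (e i) 0 h2
    exact ⟨W, hxW, hWU, hW.trans (map_zero _)⟩
  choose W hxW hWU hW using h1
  have hxI : x ∈ (⨅ i, W i) ⊓ U := by
    refine ⟨?_, hx⟩
    rw [Opens.coe_iInf]
    exact Set.mem_iInter.2 hxW
  refine ⟨(⨅ i, W i) ⊓ U, hxI, inf_le_right, fun i => ?_⟩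
  have h3 : res G (inf_le_right : (⨅ i, W i) ⊓ U ≤ U) (e i) =
      res G (inf_le_left.trans (iInf_le W i)) (res G (hWU i) (e i)) := (res_res G _ _ _).symm
  rw [h3, hW]
  exact map_zero _

end common

section restrict

theorem isGen_of_restrict (F : X.Modules) (U : X.Opens) (W' : (↑U : Scheme.{u}).Opens)
    (e' : Γ(F.restrict U.ι, W')) (h : IsGen (F.restrict U.ι) W' e') :
    IsGen F (U.ι ''ᵁ W') (show Γ(F, U.ι ''ᵁ W') from e') := by
  intro W₁ hW₁
  have hle : W₁ ≤ U := hW₁.trans (by
    have := Scheme.Hom.image_le_opensRange U.ι W'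
    rwa [Scheme.Opens.opensRange_ι] at this)
  obtain ⟨V₁, hV₁, rfl⟩ : ∃ V₁ : (↑U : Scheme.{u}).Opens, V₁ ≤ W' ∧ W₁ = U.ι ''ᵁ V₁ := by
    refine ⟨U.ι ⁻¹ᵁ W₁, ?_, ?_⟩
    · have := U.ι.preimage_mono hW₁
      rwa [Scheme.Hom.preimage_image_eq] at this
    · rw [Scheme.Hom.image_preimage_eq_opensRange_inf, Scheme.Opens.opensRange_ι]
      exact (inf_eq_right.2 hle).symm
  have h1 := h V₁ hV₁
  have h2 : (fun r : Γ(X, U.ι ''ᵁ V₁) => r • res F hW₁ (show Γ(F, U.ι ''ᵁ W') from e')) =
      (fun r : Γ((↑U : Scheme.{u}), V₁) => r • res (F.restrict U.ι) hV₁ e') := by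
    funext r
    exact (smul_restrict_eq F U V₁ r (res (F.restrict U.ι) hV₁ e')).symm
  rw [h2]
  exact h1

/-- frames near the generic point of a generically invertible module. -/
theorem exists_gen_generic [IsIntegral X] (F : X.Modules) (hF : RefHull.GenInvertible F) :
    ∃ (W : X.Opens) (e : Γ(F, W)), genericPoint X ∈ W ∧ IsGen F W e := by
  obtain ⟨U, hUd, hinv⟩ := hF
  have hηU : genericPoint X ∈ U := by
    have hne : (U : Set X).Nonempty := hUd.nonempty
    exact ((genericPoint_spec X).mem_open_set_iff U.isOpen).mpr (by rwa [Set.univ_inter])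
  obtain ⟨W', e', hηW', hgen⟩ := exists_gen (F.restrict U.ι) hinv ⟨genericPoint X, hηU⟩
  exact ⟨U.ι ''ᵁ W', e', ⟨⟨genericPoint X, hηU⟩, hηW', rfl⟩, isGen_of_restrict F U W' e' hgen⟩

end restrict

section codimOne

variable [IsIntegral X] [IsLocallyNoetherian X]

theorem valuationRing_stalk (hX : Pi1.IsNormalScheme X) (x : X) (hx : Order.coheight x = 1) :
    ValuationRing (X.presheaf.stalk x) := by
  haveI : IsDomain (X.presheaf.stalk x) := (hX x).1
  haveI : IsIntegrallyClosed (X.presheaf.stalk x) := (hX x).2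
  haveI : Ring.KrullDimLE 1 (X.presheaf.stalk x) := krullDimLE_of_coheight_le hx.le
  have h4 : IsIntegrallyClosed (X.presheaf.stalk x) ∧ ∀ P : Ideal (X.presheaf.stalk x), P ≠ ⊥ →
      P.IsPrime → P = IsLocalRing.maximalIdeal (X.presheaf.stalk x) := by
    refine ⟨inferInstance, fun P hP hPp => ?_⟩
    haveI : (⊥ : Ideal (X.presheaf.stalk x)).IsPrime := Ideal.isPrime_bot
    have := (Ring.krullDimLE_one_iff_of_isPrime_bot (R := X.presheaf.stalk x)).mp inferInstance P hP hPp
    exact IsLocalRing.eq_maximalIdeal this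
  exact ((tfae_of_isNoetherianRing_of_isLocalRing_of_isDomain
    (R := X.presheaf.stalk x)).out 3 1).mp h4

/-- frames of rank one reflexive coherent modules near points of codimension one. -/
theorem exists_gen_codim_one (hX : Pi1.IsNormalScheme X) (F : X.Modules) (hF : RefHull.IsRef1 F)
    (x : X) (hx : Order.coheight x = 1) :
    ∃ (V : X.Opens) (e : Γ(F, V)), x ∈ V ∧ IsGen F V e := by
  obtain ⟨⟨hqc, hft⟩, hrefl, hgi⟩ := hF
  have hsx : genericPoint X ⤳ x := (genericPoint_spec X).specializes (Set.mem_univ x)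
  -- a frame near the generic point
  obtain ⟨U₀, a, hηU₀, ha⟩ := exists_gen_generic F hgi
  have haη := bijective_smul_germ_of_isGen F ha (genericPoint X) hηU₀
  have haη0 : F.presheaf.germ U₀ (genericPoint X) hηU₀ a ≠ 0 := by
    intro h0
    have : (1 : X.presheaf.stalk (genericPoint X)) = 0 := by
      apply haη.1
      change (1 : X.presheaf.stalk (genericPoint X)) • F.presheaf.germ U₀ _ hηU₀ a =
        (0 : X.presheaf.stalk (genericPoint X)) • _
      rw [h0, smul_zero, smul_zero]
    exact one_ne_zero this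
  haveI : IsDomain (X.presheaf.stalk x) := (hX x).1
  haveI := valuationRing_stalk hX x hx
  -- finite generation
  obtain ⟨U₁, hxU₁, ι, hfin, s, hs⟩ := Groth.Agent.Lib.Seat77.LocGen.exists_local_generators F hft x
  haveI := hfin
  haveI : Module.Finite (X.presheaf.stalk x) (F.presheaf.stalk x) :=
    ⟨⟨(Set.finite_range fun i => F.presheaf.germ U₁ x hxU₁ (s i)).toFinset, by
      rw [Set.Finite.coe_toFinset]; exact hs x hxU₁⟩⟩
  -- the embedding of `F_x` into the function field
  let ψ : F.presheaf.stalk x → X.functionField := fun m =>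
    (genEquiv (F.presheaf.germ U₀ (genericPoint X) hηU₀ a) haη).symm
      (F.presheaf.stalkSpecializes hsx m)
  have hψinj : Function.Injective ψ :=
    (LinearEquiv.injective _).comp (stalkSpecializes_injective F hrefl x hsx)
  have hψsmul : ∀ (r : X.presheaf.stalk x) (m : F.presheaf.stalk x),
      ψ (r • m) = algebraMap (X.presheaf.stalk x) X.functionField r * ψ m := by
    intro r m
    change (genEquiv _ haη).symm (F.presheaf.stalkSpecializes hsx (r • m)) = _
    rw [stalkSpecializes_smul, map_smul]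
    rfl
  obtain ⟨m₀, hm₀⟩ := exists_generator_of_valuationRing ψ hψinj hψsmul
  obtain ⟨U₂, hxU₂, σ₀, rfl⟩ := F.presheaf.exists_germ_eq m₀
  -- spreading out
  have hc : ∀ i, ∃ c : X.presheaf.stalk x,
      F.presheaf.germ U₁ x hxU₁ (s i) = c • F.presheaf.germ U₂ x hxU₂ σ₀ := fun i => hm₀ _
  choose c hc using hc
  obtain ⟨W, hxW, hWU, t, ht⟩ := exists_common_nhd_ring x c (U₁ ⊓ U₂) ⟨hxU₁, hxU₂⟩
  let ε : ι → Γ(F, W) := fun i =>
    res F (hWU.trans inf_le_left) (s i) - t i • res F (hWU.trans inf_le_right) σ₀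
  have hε : ∀ i, F.presheaf.germ W x hxW (ε i) = 0 := by
    intro i
    change F.presheaf.germ W x hxW
      (res F (hWU.trans inf_le_left) (s i) - t i • res F (hWU.trans inf_le_right) σ₀) = 0
    rw [map_sub, germ_smul,
      TopCat.Presheaf.germ_res_apply F.presheaf (homOfLE (hWU.trans inf_le_left)) x hxW (s i),
      TopCat.Presheaf.germ_res_apply F.presheaf (homOfLE (hWU.trans inf_le_right)) x hxW σ₀,
      ht, hc, sub_self]
  obtain ⟨V, hxV, hVW, hV0⟩ := exists_common_nhd_eq_zero F x hxW ε hε
  have hV₁ : V ≤ U₁ := (hVW.trans hWU).trans inf_le_left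
  have hV₂ : V ≤ U₂ := (hVW.trans hWU).trans inf_le_right
  have hηV : genericPoint X ∈ V := hsx.mem_open V.isOpen hxV
  have hrel : ∀ i, res F hV₁ (s i) = resf hVW (t i) • res F hV₂ σ₀ := by
    intro i
    have h1 := hV0 i
    change res F hVW
      (res F (hWU.trans inf_le_left) (s i) - t i • res F (hWU.trans inf_le_right) σ₀) = 0 at h1
    have hsub : ∀ a b : Γ(F, W), res F hVW (a - b) = res F hVW a - res F hVW b :=
      fun a b => map_sub _ a b
    rw [hsub, res_smul, res_res, res_res, sub_eq_zero] at h1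
    exact h1
  -- the germ of `σ` spans every stalk over `V`
  have hspan : ∀ (y : X) (hy : y ∈ V) (m : F.presheaf.stalk y),
      ∃ r : X.presheaf.stalk y, r • F.presheaf.germ V y hy (res F hV₂ σ₀) = m := by
    intro y hy m
    have hle : Submodule.span (X.presheaf.stalk y)
        (Set.range fun i => F.presheaf.germ U₁ y (hV₁ hy) (s i)) ≤
        Submodule.span (X.presheaf.stalk y) {F.presheaf.germ V y hy (res F hV₂ σ₀)} := by
      rw [Submodule.span_le]
      rintro _ ⟨i, rfl⟩
      refine Submodule.mem_span_singleton.2 ⟨X.presheaf.germ V y hy (resf hVW (t i)), ?_⟩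
      rw [← germ_smul, ← hrel i]
      exact TopCat.Presheaf.germ_res_apply F.presheaf (homOfLE hV₁) y hy (s i)
    rw [hs y (hV₁ hy)] at hle
    obtain ⟨r, hr⟩ := Submodule.mem_span_singleton.1 (hle (Submodule.mem_top : m ∈ ⊤))
    exact ⟨r, hr⟩
  -- the germ of `σ` at the generic point is nonzero
  have hση : F.presheaf.germ V (genericPoint X) hηV (res F hV₂ σ₀) ≠ 0 := by
    intro h0
    obtain ⟨r, hr⟩ := hspan (genericPoint X) hηV (F.presheaf.germ U₀ (genericPoint X) hηU₀ a)
    rw [h0, smul_zero] at hr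
    exact haη0 hr.symm
  refine ⟨V, res F hV₂ σ₀, hxV, isGen_of_bijective_germ F V _ (fun y hy => ⟨?_, hspan y hy⟩)⟩
  -- injectivity
  have hsy : genericPoint X ⤳ y := (genericPoint_spec X).specializes (Set.mem_univ y)
  have key : ∀ d : X.presheaf.stalk y, d • F.presheaf.germ V y hy (res F hV₂ σ₀) = 0 → d = 0 := by
    intro d hd
    have h1 := congrArg (F.presheaf.stalkSpecializes hsy) hd
    rw [stalkSpecializes_smul, map_zero] at h1
    have h2 : F.presheaf.stalkSpecializes hsy (F.presheaf.germ V y hy (res F hV₂ σ₀)) =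
        F.presheaf.germ V (genericPoint X) hηV (res F hV₂ σ₀) :=
      ConcreteCategory.congr_hom (TopCat.Presheaf.germ_stalkSpecializes F.presheaf hy hsy) _
    rw [h2] at h1
    -- `F_η` is a one-dimensional vector space
    obtain ⟨u, hu⟩ := haη.2 (F.presheaf.germ V (genericPoint X) hηV (res F hV₂ σ₀))
    have hu0 : u ≠ 0 := by
      rintro rfl
      apply hση
      rw [← hu]
      exact zero_smul _ _
    have hu' : u • F.presheaf.germ U₀ (genericPoint X) hηU₀ a =
        F.presheaf.germ V (genericPoint X) hηV (res F hV₂ σ₀) := hu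
    rw [← hu', ← mul_smul] at h1
    have h3 : X.presheaf.stalkSpecializes hsy d * u = 0 := by
      apply haη.1
      change (X.presheaf.stalkSpecializes hsy d * u) • _ = (0 : X.presheaf.stalk (genericPoint X)) • _
      rw [h1, zero_smul]
    have h4 : X.presheaf.stalkSpecializes hsy d = 0 := by
      rcases mul_eq_zero.mp h3 with h | h
      · exact h
      · exact absurd h hu0
    have hinj : Function.Injective (algebraMap (X.presheaf.stalk y) X.functionField) :=
      IsFractionRing.injective _ _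
    apply hinj
    rw [map_zero]
    exact h4
  intro c₁ c₂ h12
  rw [← sub_eq_zero]
  apply key
  rw [sub_smul, sub_eq_zero]
  exact h12

end codimOne

end Groth.Agent.Lib.Seat75.Ref1Frame
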