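import Groth.Prelude.Def_RefHull
import Groth.Agent.Lib.Seat75Hartogs
import Groth.Agent.Lib.Seat75DualFrame
import Groth.Agent.Lib.Seat75Ref1Frame

/-!
# Extending generic linear maps to morphisms into a reflexive hull (helper75)

On an integral locally Noetherian normal scheme `X` with generic point `η`, a linear map of generic
stalks `T : G_η → F_η` that maps (the image of) `G_y` into (the image of) `F_y` for all points `y`
of codimension one extends to a morphism `extend T : G ⟶ F^**` (`RefHull.ddual F`).

* `spec_oneGerm`, `specO_injective`, `hartogsO`: the stalks of the structure module and the local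
  Hartogs lemma for them.
* `evalStalk_specializes`: evaluation of germs of the sheaf Hom commutes with specialization.
* `extend`, `extend_spec`: the extension and its characterizing formula.
* `stalkMapₗ_extend`: the generic stalk of the extension is `T` followed by biduality.
-/

set_option autoImplicit false
set_option linter.style.haveILetI false
set_option linter.unusedSectionVars false
universe u

open AlgebraicGeometry CategoryTheory TopologicalSpace Opposite

namespace Groth.Agent.Lib.Seat75.HomExt

open Groth.Agent.Lib.Helper23.SecTw Groth.Agent.Lib.Helper6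
  Groth.Agent.Lib.Seat75.SecOrd Groth.Agent.Lib.Seat75.DualFrame Groth.Agent.Lib.Seat75.Hartogs RefHull

variable {X : Scheme.{u}}

/-! ### generalities on specialization maps -/

lemma spec_germ (M : X.Modules) {x y : X} (h : y ⤳ x) {U : X.Opens} (hx : x ∈ U) (m : Γ(M, U)) :
    M.presheaf.stalkSpecializes h (M.presheaf.germ U x hx m) =
      M.presheaf.germ U y (h.mem_open U.isOpen hx) m :=
  ConcreteCategory.congr_hom (TopCat.Presheaf.germ_stalkSpecializes M.presheaf hx h) m

lemma spec_spec (M : X.Modules) {x y z : X} (h : y ⤳ x) (h' : z ⤳ y) (m : M.presheaf.stalk x) :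
    M.presheaf.stalkSpecializes h' (M.presheaf.stalkSpecializes h m) =
      M.presheaf.stalkSpecializes (h'.trans h) m :=
  ConcreteCategory.congr_hom (TopCat.Presheaf.stalkSpecializes_comp M.presheaf h' h) m

lemma spec_oneGerm {x y : X} (h : y ⤳ x) :
    (Coh.structureModule X).presheaf.stalkSpecializes h (oneGerm x) = oneGerm y :=
  spec_germ (Coh.structureModule X) h (U := ⊤) trivial _

/-- evaluation of germs of the sheaf Hom commutes with specialization. -/
theorem evalStalk_specializes (F G : X.Modules) {x y : X} (h : y ⤳ x)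
    (θ : (homSh F G).presheaf.stalk x) (w : F.presheaf.stalk x) :
    G.presheaf.stalkSpecializes h (evalStalk F G x θ w) =
      evalStalk F G y ((homSh F G).presheaf.stalkSpecializes h θ)
        (F.presheaf.stalkSpecializes h w) := by
  obtain ⟨U, hxU, g, rfl⟩ := (homSh F G).presheaf.exists_germ_eq θ
  obtain ⟨V, hxV, m, rfl⟩ := F.presheaf.exists_germ_eq w
  obtain ⟨W, hxW, j, n, hn⟩ := isLocSect_of_mem g (U ⊓ V) (homOfLE inf_le_left)
    (F.presheaf.map (homOfLE (inf_le_right : U ⊓ V ≤ V)).op m) ⟨x, hxU, hxV⟩
  have hyW : y ∈ W := h.mem_open W.isOpen hxW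
  have hx' := hn ⟨x, hxW⟩
  have hy' := hn ⟨y, hyW⟩
  rw [TopCat.Presheaf.germ_res_apply] at hx' hy'
  rw [spec_germ, spec_germ, evalStalk_germ, evalStalk_germ]
  change G.presheaf.stalkSpecializes h (g.1 ⟨x, _⟩ (F.presheaf.germ V x hxV m)) =
    g.1 ⟨y, _⟩ (F.presheaf.germ V y _ m)
  rw [hx', hy', spec_germ]

section integral
variable [IsIntegral X]

lemma specO_injective (x : X) (h : genericPoint X ⤳ x) :
    Function.Injective ((Coh.structureModule X).presheaf.stalkSpecializes h) := by
  intro t t' htt'
  obtain ⟨c, rfl⟩ := (bijective_smul_oneGerm x).2 t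
  obtain ⟨c', rfl⟩ := (bijective_smul_oneGerm x).2 t'
  change (Coh.structureModule X).presheaf.stalkSpecializes h (c • oneGerm x) =
    (Coh.structureModule X).presheaf.stalkSpecializes h (c' • oneGerm x) at htt'
  rw [stalkSpecializes_smul, stalkSpecializes_smul, spec_oneGerm] at htt'
  have h1 := (bijective_smul_oneGerm (genericPoint X)).1 htt'
  have h2 : c = c' := IsFractionRing.injective (X.presheaf.stalk x) X.functionField h1
  rw [h2]

variable [IsLocallyNoetherian X]

/-- **Local Hartogs lemma for the structure module.** -/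
theorem hartogsO (hX : Pi1.IsNormalScheme X) (z : X)
    (t : (Coh.structureModule X).presheaf.stalk (genericPoint X))
    (h : ∀ (y : X) (_ : y ⤳ z) (hy : genericPoint X ⤳ y), Order.coheight y = 1 →
      t ∈ Set.range ((Coh.structureModule X).presheaf.stalkSpecializes hy))
    (hz : genericPoint X ⤳ z) :
    t ∈ Set.range ((Coh.structureModule X).presheaf.stalkSpecializes hz) := by
  obtain ⟨κ, rfl⟩ := (bijective_smul_oneGerm (genericPoint X)).2 t
  have hmem : (κ : X.functionField) ∈
      Set.range (algebraMap (X.presheaf.stalk z) X.functionField) := by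
    apply local_hartogs hX z κ
    intro y hyz hy1
    have hy : genericPoint X ⤳ y := (genericPoint_spec X).specializes (Set.mem_univ y)
    obtain ⟨t', ht'⟩ := h y hyz hy hy1
    obtain ⟨c, rfl⟩ := (bijective_smul_oneGerm y).2 t'
    change (Coh.structureModule X).presheaf.stalkSpecializes hy (c • oneGerm y) =
      κ • oneGerm (genericPoint X) at ht'
    rw [stalkSpecializes_smul, spec_oneGerm] at ht'
    exact ⟨c, (bijective_smul_oneGerm (genericPoint X)).1 ht'⟩
  obtain ⟨c, hc⟩ := hmem
  refine ⟨c • oneGerm z, ?_⟩
  rw [stalkSpecializes_smul, spec_oneGerm]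
  change algebraMap (X.presheaf.stalk z) X.functionField c • oneGerm (genericPoint X) = _
  rw [hc]

end integral


section extend

variable [IsIntegral X] [IsLocallyNoetherian X] (F G : X.Modules)
  (T : G.presheaf.stalk (genericPoint X) →ₗ[X.presheaf.stalk (genericPoint X)]
    F.presheaf.stalk (genericPoint X))

/-- every point is a specialization of the generic point. -/
lemma hη (x : X) : genericPoint X ⤳ x := (genericPoint_spec X).specializes (Set.mem_univ x)

/-- the generic linear map `T` maps (the image of) `G_y` into (the image of) `F_y` at all points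
`y` of codimension one. -/
def MapsCodimOne : Prop :=
  ∀ (y : X), Order.coheight y = 1 → ∀ v : G.presheaf.stalk y, ∃ f : F.presheaf.stalk y,
    T (G.presheaf.stalkSpecializes (hη y) v) = F.presheaf.stalkSpecializes (hη y) f

/-- the value in the generic stalk of `O_X` that the extension has to take. -/
noncomputable def genVal (x : X) (v : G.presheaf.stalk x) (θ : (dual F).presheaf.stalk x) :
    (Coh.structureModule X).presheaf.stalk (genericPoint X) :=
  evalStalk F (Coh.structureModule X) (genericPoint X)
    ((dual F).presheaf.stalkSpecializes (hη x) θ) (T (G.presheaf.stalkSpecializes (hη x) v))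

variable {F G T}

lemma genVal_spec {x y : X} (h : y ⤳ x) (v : G.presheaf.stalk x) (θ : (dual F).presheaf.stalk x) :
    genVal F G T y (G.presheaf.stalkSpecializes h v) ((dual F).presheaf.stalkSpecializes h θ) =
      genVal F G T x v θ := by
  unfold genVal
  rw [spec_spec, spec_spec]

lemma exists_val (hX : Pi1.IsNormalScheme X) (hT : MapsCodimOne F G T) (x : X)
    (v : G.presheaf.stalk x) (θ : (dual F).presheaf.stalk x) :
    ∃ t : (Coh.structureModule X).presheaf.stalk x,
      (Coh.structureModule X).presheaf.stalkSpecializes (hη x) t = genVal F G T x v θ := by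
  refine hartogsO hX x _ (fun y hyx hy hy1 => ?_) (hη x)
  obtain ⟨f, hf⟩ := hT y hy1 (G.presheaf.stalkSpecializes hyx v)
  refine ⟨evalStalk F (Coh.structureModule X) y ((dual F).presheaf.stalkSpecializes hyx θ) f, ?_⟩
  rw [evalStalk_specializes, ← genVal_spec hyx]
  unfold genVal
  rw [hf]

/-- the value of the extension at `x`. -/
noncomputable def valAt (hX : Pi1.IsNormalScheme X) (hT : MapsCodimOne F G T) (x : X)
    (v : G.presheaf.stalk x) (θ : (dual F).presheaf.stalk x) :
    (Coh.structureModule X).presheaf.stalk x :=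
  Classical.choose (exists_val hX hT x v θ)

lemma spec_valAt (hX : Pi1.IsNormalScheme X) (hT : MapsCodimOne F G T) (x : X)
    (v : G.presheaf.stalk x) (θ : (dual F).presheaf.stalk x) :
    (Coh.structureModule X).presheaf.stalkSpecializes (hη x) (valAt hX hT x v θ) =
      genVal F G T x v θ :=
  Classical.choose_spec (exists_val hX hT x v θ)

lemma genVal_add_right (x : X) (v : G.presheaf.stalk x) (θ θ' : (dual F).presheaf.stalk x) :
    genVal F G T x v (θ + θ') = genVal F G T x v θ + genVal F G T x v θ' := by
  unfold genVal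
  rw [map_add, map_add, LinearMap.add_apply]

lemma genVal_smul_right (x : X) (v : G.presheaf.stalk x) (a : X.presheaf.stalk x)
    (θ : (dual F).presheaf.stalk x) :
    genVal F G T x v (a • θ) = X.presheaf.stalkSpecializes (hη x) a • genVal F G T x v θ := by
  unfold genVal
  rw [stalkSpecializes_smul, map_smul, LinearMap.smul_apply]

lemma genVal_add_left (x : X) (v v' : G.presheaf.stalk x) (θ : (dual F).presheaf.stalk x) :
    genVal F G T x (v + v') θ = genVal F G T x v θ + genVal F G T x v' θ := by
  unfold genVal
  rw [map_add, map_add, map_add]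

lemma genVal_smul_left (x : X) (a : X.presheaf.stalk x) (v : G.presheaf.stalk x)
    (θ : (dual F).presheaf.stalk x) :
    genVal F G T x (a • v) θ = X.presheaf.stalkSpecializes (hη x) a • genVal F G T x v θ := by
  unfold genVal
  rw [stalkSpecializes_smul, map_smul, map_smul]

/-- the stalk maps of the extension: for fixed `v` a linear form on `(F^*)_x`. -/
noncomputable def stalkForm (hX : Pi1.IsNormalScheme X) (hT : MapsCodimOne F G T) (x : X)
    (v : G.presheaf.stalk x) : StalkHom (dual F) (Coh.structureModule X) x where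
  toFun θ := valAt hX hT x v θ
  map_add' θ θ' := specO_injective x (hη x) (by
    rw [map_add, spec_valAt, spec_valAt, spec_valAt, genVal_add_right])
  map_smul' a θ := specO_injective x (hη x) (by
    rw [RingHom.id_apply, stalkSpecializes_smul, spec_valAt, spec_valAt, genVal_smul_right])

@[simp] lemma stalkForm_apply (hX : Pi1.IsNormalScheme X) (hT : MapsCodimOne F G T) (x : X)
    (v : G.presheaf.stalk x) (θ : (dual F).presheaf.stalk x) :
    stalkForm hX hT x v θ = valAt hX hT x v θ := rfl

/-- the stalk maps of the extension. -/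
noncomputable def stalkExt (hX : Pi1.IsNormalScheme X) (hT : MapsCodimOne F G T) (x : X) :
    G.presheaf.stalk x →ₗ[X.presheaf.stalk x] StalkHom (dual F) (Coh.structureModule X) x where
  toFun v := stalkForm hX hT x v
  map_add' v v' := LinearMap.ext fun θ => specO_injective x (hη x) (by
    rw [LinearMap.add_apply, map_add, stalkForm_apply, stalkForm_apply, stalkForm_apply,
      spec_valAt, spec_valAt, spec_valAt, genVal_add_left])
  map_smul' a v := LinearMap.ext fun θ => specO_injective x (hη x) (by
    rw [RingHom.id_apply, LinearMap.smul_apply, stalkSpecializes_smul, stalkForm_apply,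
      stalkForm_apply, spec_valAt, spec_valAt, genVal_smul_left])

lemma spec_stalkExt (hX : Pi1.IsNormalScheme X) (hT : MapsCodimOne F G T) (x : X)
    (v : G.presheaf.stalk x) (θ : (dual F).presheaf.stalk x) :
    (Coh.structureModule X).presheaf.stalkSpecializes (hη x) (stalkExt hX hT x v θ) =
      genVal F G T x v θ :=
  spec_valAt hX hT x v θ

/-- the extension on sections. -/
noncomputable def secExt (hX : Pi1.IsNormalScheme X) (hT : MapsCodimOne F G T) (U : X.Opens) :
    Γ(G, U) →+ Γ(ddual F, U) where
  toFun g := ⟨fun x => stalkExt hX hT x.1 (G.presheaf.germ U x.1 x.2 g), fun V i m x => by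
    obtain ⟨W₀, hxW₀, n₀, hn₀⟩ := (Coh.structureModule X).presheaf.exists_germ_eq
      (stalkExt hX hT x.1 (G.presheaf.germ U x.1 (i.le x.2) g) ((dual F).presheaf.germ V x.1 x.2 m))
    refine ⟨W₀ ⊓ V, ⟨hxW₀, x.2⟩, homOfLE inf_le_right,
      (Coh.structureModule X).presheaf.map (homOfLE (inf_le_left : W₀ ⊓ V ≤ W₀)).op n₀, fun y => ?_⟩
    apply specO_injective y.1 (hη y.1)
    rw [TopCat.Presheaf.germ_res_apply, spec_stalkExt, spec_germ,
      ← spec_germ (Coh.structureModule X) (hη x.1) hxW₀ n₀, hn₀, spec_stalkExt]
    unfold genVal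
    rw [spec_germ, spec_germ, spec_germ, spec_germ]⟩
  map_zero' := Subtype.ext <| funext fun x => by
    simp only [map_zero]
    rfl
  map_add' s t := Subtype.ext <| funext fun x => by
    simp only [map_add]
    rfl

@[simp] lemma secExt_apply (hX : Pi1.IsNormalScheme X) (hT : MapsCodimOne F G T) {U : X.Opens}
    (g : Γ(G, U)) (x : U) :
    (secExt hX hT U g).1 x = stalkExt hX hT x.1 (G.presheaf.germ U x.1 x.2 g) := rfl

/-- **the extension** of a generic linear map `T : G_η → F_η` that respects the stalks at all
points of codimension one to a morphism `G ⟶ F^**`. -/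
noncomputable def extend (hX : Pi1.IsNormalScheme X) (hT : MapsCodimOne F G T) : G ⟶ ddual F :=
  ⟨PresheafOfModules.homMk
    { app := fun U => AddCommGrpCat.ofHom (secExt hX hT U.unop)
      naturality := fun {U V} i => by
        ext s
        refine Subtype.ext (funext fun x => ?_)
        change stalkExt hX hT x.1 _ = stalkExt hX hT x.1 _
        exact congrArg _ (TopCat.Presheaf.germ_res_apply' G.presheaf i x.1 x.2 s) }
    (fun U r s => Subtype.ext <| funext fun x =>
      (congrArg (stalkExt hX hT x.1) (Mero.germ_smul G U.unop x.1 x.2 r s)).trans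
        (map_smul (stalkExt hX hT x.1) _ _))⟩

@[simp] lemma extend_app_apply (hX : Pi1.IsNormalScheme X) (hT : MapsCodimOne F G T) {U : X.Opens}
    (g : Γ(G, U)) (x : U) :
    ((extend hX hT).app U g).1 x = stalkExt hX hT x.1 (G.presheaf.germ U x.1 x.2 g) := rfl

/-- the characterizing formula of the extension, on stalks. -/
theorem spec_extend (hX : Pi1.IsNormalScheme X) (hT : MapsCodimOne F G T) {U : X.Opens}
    (g : Γ(G, U)) (x : X) (hx : x ∈ U) (θ : (dual F).presheaf.stalk x) :
    (Coh.structureModule X).presheaf.stalkSpecializes (hη x)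
        (((extend hX hT).app U g).1 ⟨x, hx⟩ θ) =
      evalStalk F (Coh.structureModule X) (genericPoint X)
        ((dual F).presheaf.stalkSpecializes (hη x) θ)
        (T (G.presheaf.germ U (genericPoint X) ((hη x).mem_open U.isOpen hx) g)) := by
  rw [extend_app_apply, spec_stalkExt]
  unfold genVal
  rw [spec_germ]

/-- the generic stalk map of the extension is `T` followed by the biduality map. -/
theorem stalkMapₗ_extend (hX : Pi1.IsNormalScheme X) (hT : MapsCodimOne F G T) :
    stalkMapₗ (extend hX hT) (genericPoint X) =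
      (stalkMapₗ (bidualMap F) (genericPoint X)).comp T := by
  apply LinearMap.ext
  intro v
  obtain ⟨U, hU, g, rfl⟩ := G.presheaf.exists_germ_eq v
  obtain ⟨U', hU', f, hf⟩ := F.presheaf.exists_germ_eq (T (G.presheaf.germ U (genericPoint X) hU g))
  rw [LinearMap.comp_apply, ← hf, stalkMapₗ_germ, stalkMapₗ_germ]
  refine TopCat.Presheaf.germ_ext (ddual F).presheaf (U ⊓ U') ⟨hU, hU'⟩ (homOfLE inf_le_left)
    (homOfLE inf_le_right) ?_
  refine Subtype.ext (funext fun x => ?_)
  change stalkExt hX hT x.1 (G.presheaf.germ U x.1 x.2.1 g) =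
    bidualAt F x.1 (F.presheaf.germ U' x.1 x.2.2 f)
  apply LinearMap.ext
  intro θ
  apply specO_injective x.1 (hη x.1)
  rw [spec_stalkExt, bidualAt_apply, evalStalk_specializes]
  unfold genVal
  rw [spec_germ, spec_germ, hf]

end extend

/-! ### functoriality of stalk maps and uniqueness of morphisms into reflexive modules -/

section functoriality

lemma stalkMapₗ_id (F : X.Modules) (x : X) : stalkMapₗ (𝟙 F) x = LinearMap.id := by
  apply LinearMap.ext
  intro v
  obtain ⟨U, hU, m, rfl⟩ := F.presheaf.exists_germ_eq v
  rw [stalkMapₗ_germ]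
  rfl

lemma stalkMapₗ_comp {F G H : X.Modules} (φ : F ⟶ G) (ψ : G ⟶ H) (x : X) :
    stalkMapₗ (φ ≫ ψ) x = (stalkMapₗ ψ x).comp (stalkMapₗ φ x) := by
  apply LinearMap.ext
  intro v
  obtain ⟨U, hU, m, rfl⟩ := F.presheaf.exists_germ_eq v
  rw [LinearMap.comp_apply, stalkMapₗ_germ, stalkMapₗ_germ, stalkMapₗ_germ]
  rfl

/-- the stalk maps of an isomorphism are bijective. -/
lemma stalkMapₗ_bijective {F G : X.Modules} (φ : F ⟶ G) [IsIso φ] (x : X) :
    Function.Bijective (stalkMapₗ φ x) := by
  have h1 : (stalkMapₗ (inv φ) x).comp (stalkMapₗ φ x) = LinearMap.id := by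
    rw [← stalkMapₗ_comp, IsIso.hom_inv_id, stalkMapₗ_id]
  have h2 : (stalkMapₗ φ x).comp (stalkMapₗ (inv φ) x) = LinearMap.id := by
    rw [← stalkMapₗ_comp, IsIso.inv_hom_id, stalkMapₗ_id]
  refine ⟨fun a b hab => ?_, fun b => ⟨stalkMapₗ (inv φ) x b, ?_⟩⟩
  · have := congrArg (stalkMapₗ (inv φ) x) hab
    rwa [← LinearMap.comp_apply, ← LinearMap.comp_apply, h1] at this
  · rw [← LinearMap.comp_apply, h2]
    rfl

/-- stalk maps commute with specialization. -/
lemma spec_stalkMapₗ {F G : X.Modules} (φ : F ⟶ G) {x y : X} (h : y ⤳ x) (v : F.presheaf.stalk x) :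
    G.presheaf.stalkSpecializes h (stalkMapₗ φ x v) =
      stalkMapₗ φ y (F.presheaf.stalkSpecializes h v) := by
  obtain ⟨U, hU, m, rfl⟩ := F.presheaf.exists_germ_eq v
  rw [stalkMapₗ_germ, spec_germ, spec_germ, stalkMapₗ_germ]

/-- morphisms into a reflexive module on an integral scheme are determined by their generic
stalk maps. -/
theorem hom_ext_of_generic [IsIntegral X] {F G : X.Modules} (hF : IsReflexive F) (φ ψ : G ⟶ F)
    (h : stalkMapₗ φ (genericPoint X) = stalkMapₗ ψ (genericPoint X)) : φ = ψ := by
  apply Scheme.Modules.hom_ext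
  intro U
  ext g
  refine TopCat.Presheaf.section_ext (modSheaf F) U _ _ (fun x hx => ?_)
  change F.presheaf.germ U x hx (φ.app U g) = F.presheaf.germ U x hx (ψ.app U g)
  apply Groth.Agent.Lib.Seat75.Ref1Frame.stalkSpecializes_injective F hF x
    ((genericPoint_spec X).specializes (Set.mem_univ x))
  rw [← stalkMapₗ_germ, ← stalkMapₗ_germ, spec_stalkMapₗ, spec_stalkMapₗ, h]

end functoriality

end Groth.Agent.Lib.Seat75.HomExt
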