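import Groth.Agent.Lib.Seat75HomExt
import Groth.Agent.Lib.Helper6QCohQcqs

/-!
# Stalks of quasi-coherent modules as lattices in the generic stalk (helper75)

* `exists_coords`: for a finite module `M` over a PID `R` mapping semilinearly to a `K`-vector
  space `V` such that the image spans (lattice condition), there are finitely many linear forms
  `l i : M → R` such that a vector `w ∈ V` lies in the image of `M` as soon as all `K`-linear
  extensions `Λ i` of the `l i` take values in `R` on `w`.
* `exists_smul_eq_spec`: the lattice condition for stalks of a quasi-coherent module on an integral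
  scheme: every element of the generic stalk has a nonzero multiple coming from `F_x`.
* `evalStalk_bidualMap`: evaluation of the germ of `j(u)`, `j : F ⟶ F^**` the biduality map.
-/

set_option autoImplicit false
set_option linter.style.haveILetI false
set_option linter.unusedSectionVars false
universe u

open AlgebraicGeometry CategoryTheory TopologicalSpace Opposite Module

namespace Groth.Agent.Lib.Seat75.Lattice

open Groth.Agent.Lib.Helper6 Groth.Agent.Lib.Seat75.SecOrd Groth.Agent.Lib.Seat75.HomExt RefHull

section alg
variable {R : Type*} [CommRing R] [IsDomain R] [IsPrincipalIdealRing R]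
  {K : Type*} [Field K] [Algebra R K]
  {M : Type*} [AddCommGroup M] [Module R M] [Module.Finite R M]
  {V : Type*} [AddCommGroup V] [Module K V]

/-- lattices over a PID: coordinates with respect to a basis of the torsion-free quotient detect
membership. -/
theorem exists_coords (hinj : Function.Injective (algebraMap R K)) (ι : M →+ V)
    (hsmul : ∀ (r : R) (m : M), ι (r • m) = algebraMap R K r • ι m)
    (hlat : ∀ w : V, ∃ a : R, a ≠ 0 ∧ ∃ m : M, algebraMap R K a • w = ι m) :
    ∃ (n : ℕ) (l : Fin n → (M →ₗ[R] R)),
      ∀ (Λ : Fin n → (V →ₗ[K] K)), (∀ i m, Λ i (ι m) = algebraMap R K (l i m)) →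
        ∀ w : V, (∀ i, Λ i w ∈ Set.range (algebraMap R K)) → w ∈ Set.range ι := by
  classical
  let K₀ : Submodule R M :=
    { carrier := {m | ι m = 0}
      add_mem' := fun {a b} ha hb => by
        change ι (a + b) = 0
        rw [map_add, show ι a = 0 from ha, show ι b = 0 from hb, add_zero]
      zero_mem' := map_zero ι
      smul_mem' := fun r m hm => by
        change ι (r • m) = 0
        rw [hsmul, show ι m = 0 from hm, smul_zero] }
  have hK₀ : ∀ m, m ∈ K₀ ↔ ι m = 0 := fun m => Iff.rfl
  haveI : IsTorsionFree R (M ⧸ K₀) := by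
    apply Module.IsTorsionFree.of_smul_eq_zero
    intro r mbar h
    obtain ⟨m, rfl⟩ := Submodule.Quotient.mk_surjective _ mbar
    rw [← Submodule.Quotient.mk_smul, Submodule.Quotient.mk_eq_zero, hK₀, hsmul,
      smul_eq_zero] at h
    rcases h with h | h
    · left
      exact hinj (h.trans (map_zero _).symm)
    · right
      rw [Submodule.Quotient.mk_eq_zero, hK₀]
      exact h
  obtain ⟨n, β⟩ : Σ n, Basis (Fin n) R (M ⧸ K₀) := Module.basisOfFiniteTypeTorsionFree'
  have hb : ∀ j, ∃ b : M, K₀.mkQ b = β j := fun j => Submodule.Quotient.mk_surjective _ _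
  choose b hb using hb
  let l : Fin n → (M →ₗ[R] R) := fun i => (β.coord i).comp K₀.mkQ
  have hexp : ∀ m : M, ι m = ∑ j, algebraMap R K (l j m) • ι (b j) := by
    intro m
    have h1 : m - ∑ j, l j m • b j ∈ K₀ := by
      rw [← Submodule.Quotient.mk_eq_zero, Submodule.Quotient.mk_sub, sub_eq_zero]
      change K₀.mkQ m = K₀.mkQ (∑ j, l j m • b j)
      rw [map_sum]
      conv_lhs => rw [← β.sum_repr (K₀.mkQ m)]
      refine Finset.sum_congr rfl fun j _ => ?_
      rw [map_smul, hb]
      rfl
    rw [hK₀, map_sub, sub_eq_zero] at h1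
    rw [h1, map_sum]
    exact Finset.sum_congr rfl fun j _ => hsmul _ _
  refine ⟨n, l, fun Λ hΛ w hw => ?_⟩
  obtain ⟨a, ha, m, hm⟩ := hlat w
  have haK : algebraMap R K a ≠ 0 := fun h => ha (hinj (h.trans (map_zero _).symm))
  choose c hc using hw
  have hcoord : ∀ i, l i m = a * c i := by
    intro i
    apply hinj
    have h1 := congrArg (Λ i) hm
    rw [map_smul, hΛ, ← hc, smul_eq_mul, ← map_mul] at h1
    exact h1.symm
  refine ⟨∑ j, c j • b j, ?_⟩
  have h2 : algebraMap R K a • ι (∑ j, c j • b j) = algebraMap R K a • w := by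
    rw [hm, hexp m, map_sum, Finset.smul_sum]
    refine Finset.sum_congr rfl fun j _ => ?_
    rw [hsmul, hcoord, map_mul, mul_smul]
  exact smul_right_injective V haK h2

end alg

variable {X : Scheme.{u}}

/-- evaluation of the germ of the image of `u` under the biduality map. -/
lemma evalStalk_bidualMap (F : X.Modules) (y : X) (u : F.presheaf.stalk y) :
    evalStalk (dual F) (Coh.structureModule X) y (stalkMapₗ (bidualMap F) y u) = bidualAt F y u := by
  obtain ⟨U, hU, m, rfl⟩ := F.presheaf.exists_germ_eq u
  rw [stalkMapₗ_germ, evalStalk_germ, bidualMap_app_apply]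

variable [IsIntegral X]

/-- every point is a specialization of the generic point. -/
lemma hη' (x : X) : genericPoint X ⤳ x := (genericPoint_spec X).specializes (Set.mem_univ x)

/-- **lattice condition**: every element of the generic stalk of a quasi-coherent module has a
nonzero `O_{X,x}`-multiple in the image of the stalk at `x`. -/
theorem exists_smul_eq_spec (F : X.Modules) [F.IsQuasicoherent] (x : X)
    (w : F.presheaf.stalk (genericPoint X)) :
    ∃ a : X.presheaf.stalk x, a ≠ 0 ∧ ∃ f : F.presheaf.stalk x,
      algebraMap (X.presheaf.stalk x) X.functionField a • w =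
        F.presheaf.stalkSpecializes (hη' x) f := by
  obtain ⟨W, hηW, m, rfl⟩ := F.presheaf.exists_germ_eq w
  obtain ⟨_, ⟨U, hU, rfl⟩, hxU, -⟩ :=
    X.isBasis_affineOpens.exists_subset_of_mem_open (Set.mem_univ x) isOpen_univ
  have hηU : genericPoint X ∈ U := (hη' x).mem_open U.isOpen hxU
  obtain ⟨h, hhW, hηh⟩ := hU.exists_basicOpen_le (V := W) ⟨genericPoint X, hηW⟩ hηU
  obtain ⟨n, t, ht⟩ := exists_extension_of_isCompact_of_isQuasiSeparated F hU.isCompact
    hU.isQuasiSeparated h (res F hhW m)
  haveI : Nonempty U := ⟨⟨x, hxU⟩⟩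
  refine ⟨X.presheaf.germ U x hxU (h ^ n), ?_, F.presheaf.germ U x hxU t, ?_⟩
  · intro h0
    have h1 : h ^ n = 0 := germ_injective_of_isIntegral X x hxU (h0.trans (map_zero _).symm)
    haveI : IsDomain Γ(X, U) := inferInstance
    have h2 : h = 0 := eq_zero_of_pow_eq_zero h1
    rw [h2] at hηh
    simp at hηh
  · rw [spec_germ]
    have e1 : algebraMap (X.presheaf.stalk x) X.functionField (X.presheaf.germ U x hxU (h ^ n)) =
        X.presheaf.germ U (genericPoint X) hηU (h ^ n) :=
      ConcreteCategory.congr_hom (TopCat.Presheaf.germ_stalkSpecializes X.presheaf hxU (hη' x)) _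
    rw [e1, ← TopCat.Presheaf.germ_res_apply F.presheaf (homOfLE (X.basicOpen_le h))
      (genericPoint X) hηh t]
    change _ = F.presheaf.germ (X.basicOpen h) (genericPoint X) hηh (res F (X.basicOpen_le h) t)
    rw [ht, germ_smul, map_pow,
      TopCat.Presheaf.germ_res_apply F.presheaf (homOfLE hhW) (genericPoint X) hηh m, map_pow]
    congr 2
    exact (TopCat.Presheaf.germ_res_apply X.presheaf (homOfLE (X.basicOpen_le h))
      (genericPoint X) hηh h).symm

end Groth.Agent.Lib.Seat75.Lattice
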