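import Groth.Agent.S16086
import Groth.Agent.S8890

/-!
# Isomorphisms of reflexive modules from equality of divisors (helper75)

A version of S16086 (`⇐`) with the hypotheses actually used:

* `isIso_of_stalkMapₗ_bijective`: a morphism bijective on stalks is an isomorphism.
* `isReflexive_of_frames`: a module with local frames everywhere is reflexive; in particular
  invertible modules (`isReflexive_of_isInvertible`) and the structure module.
* `HasStalkGen F x`: the stalk `F_x` has a free generator that stays a free generator at `η`.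
* `nonempty_iso_of_ord`: reflexive modules `F`, `G` on a normal integral locally Noetherian scheme
  with stalk generators at all codimension one points and rational sections with
  `ord_x s = ord_x t + ord_x f` are isomorphic.
* `secOrdAt_unit_one`: the order of the rational section `1` of the structure module vanishes.
-/

set_option autoImplicit false
set_option linter.style.haveILetI false
set_option linter.unusedSectionVars false
universe u

open AlgebraicGeometry CategoryTheory TopologicalSpace Opposite

namespace Groth.Agent.Lib.Seat75.Ref1Iso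

open Groth.Agent.Lib.Helper23.SecTw Groth.Agent.Lib.Helper23.GenLocus Groth.Agent.Lib.Helper6
  Groth.Agent.Lib.Seat75.SecOrd Groth.Agent.Lib.Seat75.DualFrame Groth.Agent.Lib.Seat75.Hartogs
  Groth.Agent.Lib.Seat75.HomExt Groth.Agent.Lib.Seat75.OrdCompare Groth.Agent.S16086 RefHull

variable {X : Scheme.{u}}

section alg
variable {R : Type*} [CommRing R] {M N : Type*} [AddCommGroup M] [Module R M] [AddCommGroup N]
  [Module R N]

lemma bijective_of_gen (φ : M →ₗ[R] N) (t : M) (ht : Function.Bijective (fun c : R => c • t))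
    (hφt : Function.Bijective (fun c : R => c • φ t)) : Function.Bijective φ := by
  constructor
  · intro m m' hmm'
    obtain ⟨c, rfl⟩ := ht.2 m
    obtain ⟨c', rfl⟩ := ht.2 m'
    change φ (c • t) = φ (c' • t) at hmm'
    rw [map_smul, map_smul] at hmm'
    rw [hφt.1 hmm']
  · intro n
    obtain ⟨c, rfl⟩ := hφt.2 n
    exact ⟨c • t, map_smul φ c t⟩

end alg

/-- a morphism of modules which is bijective on stalks is an isomorphism. -/
theorem isIso_of_stalkMapₗ_bijective {F G : X.Modules} (φ : F ⟶ G)
    (h : ∀ x : X, Function.Bijective (stalkMapₗ φ x)) : IsIso φ :=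
  Groth.Agent.S8890.isIso_of_stalk_bijective φ (fun x => h x)

/-- a module with local frames everywhere is reflexive. -/
theorem isReflexive_of_frames (M : X.Modules)
    (h : ∀ x : X, ∃ (V : X.Opens) (e : Γ(M, V)), x ∈ V ∧ IsGen M V e) : IsReflexive M := by
  apply isIso_of_stalkMapₗ_bijective
  intro x
  obtain ⟨V, e, hxV, he⟩ := h x
  refine bijective_of_gen _ (M.presheaf.germ V x hxV e) (bijective_smul_germ_of_isGen M he x hxV) ?_
  rw [stalkMapₗ_germ]
  exact bijective_smul_germ_of_isGen (ddual M) (isGen_bidual M he) x hxV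

theorem isReflexive_of_isInvertible (L : X.Modules) (hL : PicF.IsInvertible L) : IsReflexive L :=
  isReflexive_of_frames L (exists_gen L hL)

theorem isReflexive_unit : IsReflexive (Coh.structureModule X) :=
  isReflexive_of_frames _ (fun _ => ⟨⊤, toS ⊤ 1, trivial, isGen_one ⊤⟩)

variable [IsIntegral X] [IsLocallyNoetherian X]

/-- the stalk `F_x` has a free generator which stays a free generator at the generic point. -/
def HasStalkGen (F : X.Modules) (x : X) : Prop :=
  ∃ tx : F.presheaf.stalk x, Function.Bijective (fun c : X.presheaf.stalk x => c • tx) ∧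
    Function.Bijective (fun c : X.presheaf.stalk (genericPoint X) =>
      c • F.presheaf.stalkSpecializes (hη x) tx)

lemma hasStalkGen_of_isGen (F : X.Modules) {V : X.Opens} {e : Γ(F, V)} (he : IsGen F V e) (x : X)
    (hx : x ∈ V) : HasStalkGen F x := by
  refine ⟨F.presheaf.germ V x hx e, bijective_smul_germ_of_isGen F he x hx, ?_⟩
  rw [spec_germ]
  exact bijective_smul_germ_of_isGen F he (genericPoint X) _

lemma hasStalkGen_of_isInvertible (L : X.Modules) (hL : PicF.IsInvertible L) (x : X) :
    HasStalkGen L x := by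
  obtain ⟨V, e, hxV, he⟩ := exists_gen L hL x
  exact hasStalkGen_of_isGen L he x hxV

lemma hasStalkGen_unit (x : X) : HasStalkGen (Coh.structureModule X) x :=
  hasStalkGen_of_isGen _ (isGen_one ⊤) x trivial

lemma hasStalkGen_of_isRef1 (hX : Pi1.IsNormalScheme X) (F : X.Modules) (hF : IsRef1 F) (x : X)
    (hx : Order.coheight x = 1) : HasStalkGen F x :=
  exists_stalk_gen hX F hF x hx

/-- the key local computation (general form of `S16086.mapsCodimOne_genMap`). -/
lemma mapsCodimOne_genMap' (hX : Pi1.IsNormalScheme X) (F G : X.Modules)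
    (hF : ∀ x : X, Order.coheight x = 1 → HasStalkGen F x)
    (hG : ∀ x : X, Order.coheight x = 1 → HasStalkGen G x)
    (s₀ : F.presheaf.stalk (genericPoint X)) (hs₀ : s₀ ≠ 0)
    (hbs : Function.Bijective (fun c : X.presheaf.stalk (genericPoint X) => c • s₀))
    (t₀ : G.presheaf.stalk (genericPoint X)) (ht₀ : t₀ ≠ 0) (f : X.functionField) (hf : f ≠ 0)
    (hord : ∀ x : X, Order.coheight x = 1 →
      Cyc.secOrdAt F (genericPoint X) x (hη x)
        (Submodule.Quotient.mk s₀ : Cyc.secFibre F (genericPoint X)) =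
      Cyc.secOrdAt G (genericPoint X) x (hη x)
        (Submodule.Quotient.mk t₀ : Cyc.secFibre G (genericPoint X)) + Scheme.ord f x) :
    MapsCodimOne G F (genMap s₀ hbs (f • t₀)) := by
  intro y hy v
  obtain ⟨ty, hty, htyη⟩ := hF y hy
  obtain ⟨uy, huy, huyη⟩ := hG y hy
  obtain ⟨α, hα⟩ := htyη.2 s₀
  obtain ⟨β, hβ⟩ := huyη.2 t₀
  have hα' : α • F.presheaf.stalkSpecializes (hη y) ty = s₀ := hα
  have hβ' : β • G.presheaf.stalkSpecializes (hη y) uy = t₀ := hβ
  have hα0 : α ≠ 0 := by
    rintro rfl
    rw [zero_smul] at hα'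
    exact hs₀ hα'.symm
  have hβ0 : β ≠ 0 := by
    rintro rfl
    rw [zero_smul] at hβ'
    exact ht₀ hβ'.symm
  have e1 := secOrdAt_eq_ord F y hy ty hty htyη s₀ α hα0 hα'.symm
  have e2 := secOrdAt_eq_ord G y hy uy huy huyη t₀ β hβ0 hβ'.symm
  have hαβ := hord y hy
  rw [e1, e2] at hαβ
  set k : X.functionField := α⁻¹ * f * β with hk
  have hk0 : k ≠ 0 := mul_ne_zero (mul_ne_zero (inv_ne_zero hα0) hf) hβ0
  have hkα : k * α = f * β := by
    rw [hk]
    field_simp
  have hk1 : Scheme.ord k y = 0 := ord_eq_of_mul_eq hk0 hα0 hf hβ0 hkα hαβ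
  obtain ⟨u, hu⟩ := exists_unit_of_ord_eq_zero hX y hy k hk0 hk1
  obtain ⟨c, hc⟩ := hty.2 v
  have hc' : c • ty = v := hc
  refine ⟨(c * u) • uy, ?_⟩
  rw [← hc', stalkSpecializes_smul, stalkSpecializes_smul]
  have h1 : F.presheaf.stalkSpecializes (hη y) ty = α⁻¹ • s₀ := by
    rw [← hα', smul_smul, inv_mul_cancel₀ hα0, one_smul]
  rw [h1, smul_smul, genMap_smul, ← hβ', smul_smul, smul_smul]
  congr 1
  have h2 : X.presheaf.stalkSpecializes (hη y) (c * (u : X.presheaf.stalk y)) =
      X.presheaf.stalkSpecializes (hη y) c * k := by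
    rw [map_mul, ← hu]
    rfl
  rw [h2, hk]
  ring

/-- **isomorphism from linear equivalence of divisors**, in the generality of the proof. -/
theorem nonempty_iso_of_ord (hX : Pi1.IsNormalScheme X) (F G : X.Modules)
    (hFr : IsReflexive F) (hGr : IsReflexive G)
    (hF : ∀ x : X, Order.coheight x = 1 → HasStalkGen F x)
    (hG : ∀ x : X, Order.coheight x = 1 → HasStalkGen G x)
    (s₀ : F.presheaf.stalk (genericPoint X)) (hs₀ : s₀ ≠ 0)
    (hbs : Function.Bijective (fun c : X.presheaf.stalk (genericPoint X) => c • s₀))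
    (t₀ : G.presheaf.stalk (genericPoint X)) (ht₀ : t₀ ≠ 0)
    (hbt : Function.Bijective (fun c : X.presheaf.stalk (genericPoint X) => c • t₀))
    (f : X.functionField) (hf0 : f ≠ 0)
    (hord : ∀ x : X, Order.coheight x = 1 →
      Cyc.secOrdAt F (genericPoint X) x (hη x)
        (Submodule.Quotient.mk s₀ : Cyc.secFibre F (genericPoint X)) =
      Cyc.secOrdAt G (genericPoint X) x (hη x)
        (Submodule.Quotient.mk t₀ : Cyc.secFibre G (genericPoint X)) + Scheme.ord f x) :
    Nonempty (F ≅ G) := by
  have hfi0 : f⁻¹ ≠ 0 := inv_ne_zero hf0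
  have hord' : ∀ x : X, Order.coheight x = 1 →
      Cyc.secOrdAt G (genericPoint X) x (hη x)
        (Submodule.Quotient.mk t₀ : Cyc.secFibre G (genericPoint X)) =
      Cyc.secOrdAt F (genericPoint X) x (hη x)
        (Submodule.Quotient.mk s₀ : Cyc.secFibre F (genericPoint X)) + Scheme.ord f⁻¹ x := by
    intro x hx
    have h1 := hord x hx
    have h2 := Scheme.ord_mul (x := x) hf0 hfi0
    rw [mul_inv_cancel₀ hf0] at h2
    have h3 : Scheme.ord (1 : X.functionField) x = 0 := by
      have := Scheme.ord_mul (x := x) (one_ne_zero (α := X.functionField)) one_ne_zero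
      rw [mul_one] at this
      omega
    omega
  have hT := mapsCodimOne_genMap' hX F G hF hG s₀ hs₀ hbs t₀ ht₀ f hf0 hord
  have hT' := mapsCodimOne_genMap' hX G F hG hF t₀ ht₀ hbt s₀ hs₀ f⁻¹ hfi0 hord'
  set T := genMap s₀ hbs (f • t₀) with hTdef
  set T' := genMap t₀ hbt (f⁻¹ • s₀) with hT'def
  have hTT' : T'.comp T = LinearMap.id := by
    apply linearMap_ext_of_gen s₀ hbs.2
    have h1 : T s₀ = f • t₀ := by
      have := genMap_smul s₀ hbs (f • t₀) 1
      rwa [one_smul, one_smul] at this
    rw [LinearMap.comp_apply, h1, genMap_smul, smul_smul, mul_inv_cancel₀ hf0, one_smul]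
    rfl
  have hT'T : T.comp T' = LinearMap.id := by
    apply linearMap_ext_of_gen t₀ hbt.2
    have h1 : T' t₀ = f⁻¹ • s₀ := by
      have := genMap_smul t₀ hbt (f⁻¹ • s₀) 1
      rwa [one_smul, one_smul] at this
    rw [LinearMap.comp_apply, h1, genMap_smul, smul_smul, inv_mul_cancel₀ hf0, one_smul]
    rfl
  haveI : IsIso (bidualMap F) := hFr
  haveI : IsIso (bidualMap G) := hGr
  let α : F ⟶ G := extend hX hT ≫ inv (bidualMap G)
  let β : G ⟶ F := extend hX hT' ≫ inv (bidualMap F)
  have hαη : stalkMapₗ α (genericPoint X) = T := by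
    change stalkMapₗ (extend hX hT ≫ inv (bidualMap G)) (genericPoint X) = T
    rw [stalkMapₗ_comp, stalkMapₗ_extend, ← LinearMap.comp_assoc, ← stalkMapₗ_comp,
      IsIso.hom_inv_id, stalkMapₗ_id, LinearMap.id_comp]
  have hβη : stalkMapₗ β (genericPoint X) = T' := by
    change stalkMapₗ (extend hX hT' ≫ inv (bidualMap F)) (genericPoint X) = T'
    rw [stalkMapₗ_comp, stalkMapₗ_extend, ← LinearMap.comp_assoc, ← stalkMapₗ_comp,
      IsIso.hom_inv_id, stalkMapₗ_id, LinearMap.id_comp]
  refine ⟨⟨α, β, ?_, ?_⟩⟩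
  · apply hom_ext_of_generic hFr
    rw [stalkMapₗ_comp, hαη, hβη, hTT', stalkMapₗ_id]
  · apply hom_ext_of_generic hGr
    rw [stalkMapₗ_comp, hαη, hβη, hT'T, stalkMapₗ_id]

/-- the rational section `1` of the structure module has order zero everywhere. -/
theorem secOrdAt_unit_one (x : X) (hx : Order.coheight x = 1) :
    Cyc.secOrdAt (Coh.structureModule X) (genericPoint X) x (hη x)
      (Submodule.Quotient.mk (oneGerm (genericPoint X)) :
        Cyc.secFibre (Coh.structureModule X) (genericPoint X)) = 0 := by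
  have h1 : Function.Bijective (fun c : X.presheaf.stalk (genericPoint X) =>
      c • (Coh.structureModule X).presheaf.stalkSpecializes (hη x) (oneGerm x)) := by
    rw [spec_oneGerm]
    exact bijective_smul_oneGerm _
  rw [secOrdAt_eq_ord (Coh.structureModule X) x hx (oneGerm x) (bijective_smul_oneGerm x) h1
    (oneGerm (genericPoint X)) 1 one_ne_zero (by rw [spec_oneGerm, one_smul])]
  have := Scheme.ord_mul (x := x) (one_ne_zero (α := X.functionField)) one_ne_zero
  rw [mul_one] at this
  omega

end Groth.Agent.Lib.Seat75.Ref1Iso
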