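import Groth.Agent.Lib.Seat84DefoExact

/-!
# Seat84: stalks of the restriction of a module to an open, and a stalkwise splitting lemma
-/

set_option autoImplicit false
set_option linter.style.haveILetI false
universe u

open CategoryTheory CategoryTheory.Limits AlgebraicGeometry TopologicalSpace Opposite

namespace Groth.Agent.Lib.Seat84.RestrStalk

open DefoSh Groth.Agent.Lib.Seat84.DefoExact

variable {X : Scheme.{u}}

/-- the abelian presheaf of a module as a presheafed space. -/
noncomputable def PS (M : X.Modules) : PresheafedSpace AddCommGrpCat.{u} := ⟨X.toTopCat, M.presheaf⟩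

/-- the stalk of the restriction of a module to an open is the stalk of the module. -/
noncomputable def stalkIso (M : X.Modules) (V : X.Opens) (y : (V : Scheme.{u})) :
    (M.restrict V.ι).presheaf.stalk y ≅ M.presheaf.stalk (V.ι y) :=
  PresheafedSpace.restrictStalkIso (PS M) (f := V.ι.base) V.ι.isOpenEmbedding y

theorem stalkIso_germ (M : X.Modules) (V : X.Opens) (y : (V : Scheme.{u}))
    (W : (V : Scheme.{u}).Opens)
    (hy : y ∈ W) (s : Γ(M.restrict V.ι, W)) :
    (stalkIso M V y).hom ((M.restrict V.ι).presheaf.germ W y hy s) =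
      M.presheaf.germ (V.ι ''ᵁ W) (V.ι y) ⟨y, hy, rfl⟩ s :=
  PresheafedSpace.restrictStalkIso_hom_eq_germ_apply (PS M) V.ι.isOpenEmbedding W y hy s

theorem stalkIso_bijective (M : X.Modules) (V : X.Opens) (y : (V : Scheme.{u})) :
    Function.Bijective (stalkIso M V y).hom :=
  ConcreteCategory.bijective_of_isIso (stalkIso M V y).hom

/-- naturality of `stalkIso`. -/
theorem stalkIso_naturality {M N : X.Modules} (φ : M ⟶ N) (V : X.Opens) (y : (V : Scheme.{u}))
    (v : ↑((M.restrict V.ι).presheaf.stalk y)) :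
    (stalkIso N V y).hom (RefHull.stalkMapₗ ((Scheme.Modules.restrictFunctor V.ι).map φ) y v) =
      RefHull.stalkMapₗ φ (V.ι y) ((stalkIso M V y).hom v) := by
  obtain ⟨W, hy, s, rfl⟩ := TopCat.Presheaf.exists_germ_eq (M.restrict V.ι).presheaf v
  have h1 := RefHull.stalkMapₗ_germ ((Scheme.Modules.restrictFunctor V.ι).map φ) y hy s
  have h2 := stalkIso_germ N V y W hy (((Scheme.Modules.restrictFunctor V.ι).map φ).app W s)
  have h3 := stalkIso_germ M V y W hy s
  have h4 := RefHull.stalkMapₗ_germ φ (U := V.ι ''ᵁ W) (V.ι y) ⟨y, hy, rfl⟩ s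
  exact (congrArg (fun z => (stalkIso N V y).hom z) h1).trans
    (h2.trans (h4.symm.trans (congrArg (fun z => RefHull.stalkMapₗ φ (V.ι y) z) h3.symm)))

/-- stalkwise injectivity passes to restrictions. -/
theorem restrict_stalk_injective {M N : X.Modules} (φ : M ⟶ N) (V : X.Opens)
    (y : (V : Scheme.{u})) (h : Function.Injective (RefHull.stalkMapₗ φ (V.ι y))) :
    Function.Injective (RefHull.stalkMapₗ ((Scheme.Modules.restrictFunctor V.ι).map φ) y) := by
  intro a b hab
  apply (stalkIso_bijective M V y).1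
  apply h
  rw [← stalkIso_naturality, ← stalkIso_naturality, hab]

/-- stalkwise exactness passes to restrictions. -/
theorem restrict_stalk_exact {A B C : X.Modules} (f : A ⟶ B) (g : B ⟶ C) (V : X.Opens)
    (y : (V : Scheme.{u}))
    (hex : ∀ v : ↑(B.presheaf.stalk (V.ι y)), RefHull.stalkMapₗ g (V.ι y) v = 0 →
      ∃ a, RefHull.stalkMapₗ f (V.ι y) a = v)
    (v : ↑((B.restrict V.ι).presheaf.stalk y))
    (hv : RefHull.stalkMapₗ ((Scheme.Modules.restrictFunctor V.ι).map g) y v = 0) :
    ∃ a, RefHull.stalkMapₗ ((Scheme.Modules.restrictFunctor V.ι).map f) y a = v := by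
  have h1 : RefHull.stalkMapₗ g (V.ι y) ((stalkIso B V y).hom v) = 0 := by
    rw [← stalkIso_naturality, hv, map_zero]
  obtain ⟨a, ha⟩ := hex _ h1
  obtain ⟨a', rfl⟩ := (stalkIso_bijective A V y).2 a
  refine ⟨a', (stalkIso_bijective B V y).1 ?_⟩
  rw [stalkIso_naturality, ha]

end Groth.Agent.Lib.Seat84.RestrStalk

namespace Groth.Agent.Lib.Seat84.DefoExact

variable {Y : Scheme.{u}}

/-- splitting lemma, stalkwise form: a section of `p` splits the sequence `A → B → A`. -/
theorem exists_retraction_of_section {A B C : Y.Modules} (i : A ⟶ B) (p : B ⟶ C) (w : i ≫ p = 0)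
    (hinj : ∀ x : Y, Function.Injective (RefHull.stalkMapₗ i x))
    (hex : ∀ (x : Y) (v : ↑(B.presheaf.stalk x)), RefHull.stalkMapₗ p x v = 0 →
      ∃ a, RefHull.stalkMapₗ i x a = v)
    (s : C ⟶ B) (hs : s ≫ p = 𝟙 C) :
    ∃ r : B ⟶ A, i ≫ r = 𝟙 A ∧ s ≫ r = 0 ∧ p ≫ s + r ≫ i = 𝟙 B := by
  haveI : Mono i := mono_of_stalkMapₗ_injective i hinj
  obtain ⟨r, hr⟩ := exists_lift_of_stalk i p w hinj hex (𝟙 B - p ≫ s)
    (by rw [Preadditive.sub_comp, Category.id_comp, Category.assoc, hs, Category.comp_id, sub_self])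
  refine ⟨r, ?_, ?_, ?_⟩
  · rw [← cancel_mono i, Category.assoc, hr, Preadditive.comp_sub, Category.comp_id,
      ← Category.assoc, w, zero_comp, sub_zero, Category.id_comp]
  · rw [← cancel_mono i, Category.assoc, hr, Preadditive.comp_sub, Category.comp_id,
      ← Category.assoc, hs, Category.id_comp, sub_self, zero_comp]
  · rw [hr]; abel

end Groth.Agent.Lib.Seat84.DefoExact
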