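import Mathlib
import Groth.Agent.S2250
import Groth.Agent.Lib.Seat96ModSec
import Groth.Agent.Lib.Helper18FinFlat1
import Groth.Agent.Lib.Helper20OmegaAff
import Groth.Agent.Lib.Helper23QCohAbelian

/-!
# Seat96: the centre of the category of coherent modules (Gabriel's argument)

ns `Groth.Agent.Lib.Seat96.CohCentre`.
* `ofSec N t` : the morphism `O_Z ⟶ N` attached to a global section `t ∈ Γ(N, ⊤)`.
* `exists_graph_extension` : on a scheme with locally noetherian space, for a quasi-coherent `M` and a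
  section `s` of `M` over an open `U`, there is a coherent `G'` with maps `p1 : G' ⟶ O_X`, `p2 : G' ⟶ M`
  and a section `g` of `G'` over `U` with `p1` injective on `U`-sections, `p1 g = 1`, `p2 g = s`
  (extension of the graph of `s`, via S2250).
-/

set_option autoImplicit false
set_option linter.style.haveILetI false
universe u
open CategoryTheory Limits AlgebraicGeometry TopologicalSpace Opposite

namespace Groth.Agent.Lib.Seat96.CohCentre

open Groth.Agent.Lib.Seat96.ModSec

section Sec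

variable {Z : Scheme.{u}}

/-- the compatible family of restrictions of a section over `⊤` -/
noncomputable def secTop (N : Z.Modules) (t : Γ(N, ⊤)) : N.sections :=
  PresheafOfModules.sectionsMk (fun V => N.val.map (homOfLE (le_top : V.unop ≤ ⊤)).op t)
    (fun V V' f => by
      rw [← PresheafOfModules.map_comp_apply]
      congr 2)

/-- the morphism `O_Z ⟶ N` attached to a global section -/
noncomputable def ofSec (N : Z.Modules) (t : Γ(N, ⊤)) : Coh.structureModule Z ⟶ N :=
  N.unitHomEquiv.symm (secTop N t)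

theorem ofSec_app_one (N : Z.Modules) (t : Γ(N, ⊤)) :
    (ofSec N t).app ⊤ (1 : Z.ringCatSheaf.obj.obj (op ⊤)) = t := by
  have h3 : N.unitHomEquiv (N.unitHomEquiv.symm (secTop N t)) = secTop N t :=
    Equiv.apply_symm_apply _ _
  have h4 := congrArg (fun s : N.sections => s.1 (op ⊤)) h3
  refine h4.trans ?_
  change N.val.map (homOfLE (le_top : (⊤ : Z.Opens) ≤ ⊤)).op t = t
  have h : homOfLE (le_top : (⊤ : Z.Opens) ≤ ⊤) = 𝟙 _ := Subsingleton.elim _ _
  rw [h]
  simp

end Sec

section Graph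

variable {X : Scheme.{u}}

theorem exists_graph_extension
    (hX : ∀ x : X, ∃ U : X.Opens, x ∈ U ∧ TopologicalSpace.NoetherianSpace (U : Set X))
    (M : X.Modules) [hM : M.IsQuasicoherent] (U : X.Opens) (s : Γ(M, U.ι ''ᵁ ⊤)) :
    ∃ (G' : X.Modules) (p1 : G' ⟶ Coh.structureModule X) (p2 : G' ⟶ M) (g : Γ(G', U.ι ''ᵁ ⊤)),
      Coh.IsCoh G' ∧ Function.Injective (p1.app (U.ι ''ᵁ ⊤)) ∧
      p1.app (U.ι ''ᵁ ⊤) g = (1 : X.ringCatSheaf.obj.obj (op (U.ι ''ᵁ ⊤))) ∧
      p2.app (U.ι ''ᵁ ⊤) g = s := by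
  let R := Scheme.Modules.restrictFunctor U.ι
  let O := Coh.structureModule X
  let OU := Coh.structureModule (U : Scheme.{u})
  haveI : R.Additive := by
    haveI : PreservesBinaryBiproducts R := preservesBinaryBiproducts_of_preservesBinaryCoproducts R
    exact Functor.additive_of_preservesBinaryBiproducts R
  let a : OU ⟶ R.obj O := (Scheme.Modules.restrictUnitIso U.ι).inv
  let b : OU ⟶ R.obj M := ofSec (R.obj M) s
  let i : OU ⟶ R.obj (O ⊞ M) := a ≫ R.map biprod.inl + b ≫ R.map biprod.inr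
  have hi1 : i ≫ R.map biprod.fst = a := by
    simp only [i, Preadditive.add_comp, Category.assoc, ← R.map_comp, biprod.inl_fst,
      biprod.inr_fst, R.map_id, R.map_zero, Category.comp_id, comp_zero, add_zero]
  have hi2 : i ≫ R.map biprod.snd = b := by
    simp only [i, Preadditive.add_comp, Category.assoc, ← R.map_comp, biprod.inl_snd,
      biprod.inr_snd, R.map_id, R.map_zero, Category.comp_id, comp_zero, zero_add]
  haveI : IsIso a := by dsimp only [a]; infer_instance
  haveI : Mono i := mono_of_mono_fac hi1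
  haveI hO : O.IsQuasicoherent := Groth.Agent.Lib.Helper20.OmegaAff.isQuasicoherent_structureModule
  haveI : (O ⊞ M : X.Modules).IsQuasicoherent :=
    Groth.Agent.Lib.Helper23.QCohLocal.isQuasicoherent_biprod O M
  haveI hOU : OU.IsQuasicoherent :=
    Groth.Agent.Lib.Helper20.OmegaAff.isQuasicoherent_structureModule
  have hft : CohB1.IsFT OU := by
    haveI := Groth.Agent.Helper18FinFlat.isFinitePresentation_structureModule (U : Scheme.{u})
    infer_instance
  obtain ⟨G', i', e, hmono, hq, hftG, he⟩ := Groth.Agent.S2250.result hX U (O ⊞ M) OU i hft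
  have h1 : R.map (i' ≫ biprod.fst) = e.hom ≫ a := by
    rw [R.map_comp, ← hi1, ← Category.assoc, he]
  have h2 : R.map (i' ≫ biprod.snd) = e.hom ≫ b := by
    rw [R.map_comp, ← hi2, ← Category.assoc, he]
  refine ⟨G', i' ≫ biprod.fst, i' ≫ biprod.snd,
    e.inv.app ⊤ (1 : (U : Scheme.{u}).ringCatSheaf.obj.obj (op ⊤)), ⟨hq, hftG⟩, ?_, ?_, ?_⟩
  · have : Function.Injective ((R.map (i' ≫ biprod.fst)).app ⊤) := by
      rw [h1]
      exact injective_app_of_mono (e.hom ≫ a) ⊤
    exact this
  · change (R.map (i' ≫ biprod.fst)).app ⊤ (e.inv.app ⊤ _) = _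
    rw [h1, ← comp_app_apply, Iso.inv_hom_id_assoc]
    change ((U.ι.appIso ⊤).inv (1 : Γ(U, ⊤)) : Γ(X, U.ι ''ᵁ ⊤)) = 1
    exact map_one _
  · change (R.map (i' ≫ biprod.snd)).app ⊤ (e.inv.app ⊤ _) = _
    rw [h2, ← comp_app_apply, Iso.inv_hom_id_assoc]
    exact ofSec_app_one (R.obj M) s

theorem exists_graph_extension'
    (hX : ∀ x : X, ∃ U : X.Opens, x ∈ U ∧ TopologicalSpace.NoetherianSpace (U : Set X))
    (M : X.Modules) [hM : M.IsQuasicoherent] (V : X.Opens) (s : Γ(M, V)) :
    ∃ (G' : X.Modules) (p1 : G' ⟶ Coh.structureModule X) (p2 : G' ⟶ M) (g : Γ(G', V)),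
      Coh.IsCoh G' ∧ Function.Injective (p1.app V) ∧
      p1.app V g = (1 : X.ringCatSheaf.obj.obj (op V)) ∧ p2.app V g = s := by
  have h : V.ι ''ᵁ ⊤ = V := by simp
  have key : ∀ W : X.Opens, W = V.ι ''ᵁ ⊤ → ∀ s : Γ(M, W),
      ∃ (G' : X.Modules) (p1 : G' ⟶ Coh.structureModule X) (p2 : G' ⟶ M) (g : Γ(G', W)),
        Coh.IsCoh G' ∧ Function.Injective (p1.app W) ∧
        p1.app W g = (1 : X.ringCatSheaf.obj.obj (op W)) ∧ p2.app W g = s := by
    rintro W rfl s
    exact exists_graph_extension hX M V s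
  exact key V h.symm s

end Graph

section Centre

variable {X : Scheme.{u}}

/-- the category of coherent (quasi-coherent of finite type) modules -/
abbrev CohCat (X : Scheme.{u}) := ObjectProperty.FullSubcategory (fun M : X.Modules => Coh.IsCoh M)

theorem isCoh_structureModule (X : Scheme.{u}) : Coh.IsCoh (Coh.structureModule X) := by
  haveI : SheafOfModules.IsFinitePresentation (R := X.ringCatSheaf) (Coh.structureModule X) :=
    Groth.Agent.Helper18FinFlat.isFinitePresentation_structureModule X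
  exact ⟨Groth.Agent.Lib.Helper20.OmegaAff.isQuasicoherent_structureModule, inferInstance⟩

/-- the structure sheaf as a coherent module -/
noncomputable def OC (X : Scheme.{u}) : CohCat X := ⟨Coh.structureModule X, isCoh_structureModule X⟩

/-- the global function attached to a natural endomorphism of the identity of `Coh(X)` -/
noncomputable def centreElt (φ : 𝟭 (CohCat X) ⟶ 𝟭 (CohCat X)) : Coh.Γtop X :=
  (φ.app (OC X)).hom.app ⊤ (1 : X.ringCatSheaf.obj.obj (op ⊤))

theorem app_eq_smul
    (hX : ∀ x : X, ∃ U : X.Opens, x ∈ U ∧ TopologicalSpace.NoetherianSpace (U : Set X))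
    (φ : 𝟭 (CohCat X) ⟶ 𝟭 (CohCat X)) (M : CohCat X) (V : X.Opens) (s : Γ(M.obj, V)) :
    (φ.app M).hom.app V s =
      (show Γ(X, V) from Coh.resTop X (op V) (centreElt φ)) • s := by
  haveI : M.obj.IsQuasicoherent := M.property.1
  obtain ⟨G', p1, p2, g, hG', hinj, hg1, hg2⟩ := exists_graph_extension' hX M.obj V s
  let G : CohCat X := ⟨G', hG'⟩
  let P1 : G ⟶ OC X := ObjectProperty.homMk p1
  let P2 : G ⟶ M := ObjectProperty.homMk p2
  let fO : Coh.structureModule X ⟶ Coh.structureModule X := (φ.app (OC X)).hom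
  let fG : G' ⟶ G' := (φ.app G).hom
  let fM : M.obj ⟶ M.obj := (φ.app M).hom
  have n1 : p1 ≫ fO = fG ≫ p1 := congrArg (fun f => f.hom) (φ.naturality P1)
  have n2 : p2 ≫ fM = fG ≫ p2 := congrArg (fun f => f.hom) (φ.naturality P2)
  let ρ : Γ(X, V) := Coh.resTop X (op V) (centreElt φ)
  -- `φ_O (1|_V) = ρ`
  have hO : fO.app V (1 : X.ringCatSheaf.obj.obj (op V)) = ρ := by
    have hnat := fO.mapPresheaf.naturality (homOfLE (le_top : V ≤ ⊤)).op
    have h1 := congrArg (fun f => f (1 : X.ringCatSheaf.obj.obj (op ⊤))) hnat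
    have h2 : (Coh.structureModule X).presheaf.map (homOfLE (le_top : V ≤ ⊤)).op
        (1 : X.ringCatSheaf.obj.obj (op ⊤)) = (1 : X.ringCatSheaf.obj.obj (op V)) :=
      map_one (X.ringCatSheaf.obj.map (homOfLE (le_top : V ≤ ⊤)).op).hom
    change fO.app V ((Coh.structureModule X).presheaf.map
      (homOfLE (le_top : V ≤ ⊤)).op (1 : X.ringCatSheaf.obj.obj (op ⊤))) = _ at h1
    rw [h2] at h1
    exact h1
  have e1 : p1.app V (fG.app V g) = ρ := by
    have := app_congr n1 V g
    rw [comp_app_apply, comp_app_apply, hg1, hO] at this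
    exact this.symm
  have e2 : p1.app V (ρ • g) = ρ := by
    rw [Scheme.Modules.Hom.app_smul, hg1]
    exact mul_one ρ
  have e3 : fG.app V g = ρ • g := hinj (e1.trans e2.symm)
  have := app_congr n2 V g
  rw [comp_app_apply, comp_app_apply, hg2, e3, Scheme.Modules.Hom.app_smul, hg2] at this
  exact this

theorem hX_of_isNoetherian (X : Scheme.{u}) [IsNoetherian X] :
    ∀ x : X, ∃ U : X.Opens, x ∈ U ∧ TopologicalSpace.NoetherianSpace (U : Set X) := by
  intro x
  refine ⟨⊤, trivial, ?_⟩
  exact (TopologicalSpace.noetherianSpace_set_iff _).2 fun t _ =>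
    TopologicalSpace.NoetherianSpace.isCompact t

/-- existence part of the centre theorem -/
theorem toSheaf_map_eq_smulAb (X : Scheme.{u}) [IsNoetherian X]
    (φ : 𝟭 (CohCat X) ⟶ 𝟭 (CohCat X)) (M : CohCat X) :
    (SheafOfModules.toSheaf X.ringCatSheaf).map (φ.app M).hom = Coh.smulAb M.obj (centreElt φ) := by
  ext V m
  rw [Coh.smulAb_app]
  exact app_eq_smul (hX_of_isNoetherian X) φ M V.unop m

/-- uniqueness part of the centre theorem -/
theorem eq_centreElt (φ : 𝟭 (CohCat X) ⟶ 𝟭 (CohCat X)) (r : Coh.Γtop X)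
    (h : (SheafOfModules.toSheaf X.ringCatSheaf).map (φ.app (OC X)).hom =
      Coh.smulAb (OC X).obj r) : r = centreElt φ := by
  have h1 := congrArg (fun f => f.hom.app (op ⊤) (1 : X.ringCatSheaf.obj.obj (op ⊤))) h
  have h2 : (Coh.smulAb (OC X).obj r).hom.app (op ⊤) (1 : X.ringCatSheaf.obj.obj (op ⊤)) = r := by
    rw [Coh.smulAb_app]
    have h3 : Coh.resTop X (op ⊤) r = r := by
      change (X.ringCatSheaf.obj.map (homOfLE (le_top : (⊤ : X.Opens) ≤ ⊤)).op).hom r = r
      have h : homOfLE (le_top : (⊤ : X.Opens) ≤ ⊤) = 𝟙 _ := Subsingleton.elim _ _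
      rw [h]
      simp
    rw [h3]
    exact mul_one r
  exact (h1.trans h2).symm

end Centre

end Groth.Agent.Lib.Seat96.CohCentre
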