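import Mathlib
import Groth.Prelude.Def_RefHull
import Groth.Agent.S16485
import Groth.Agent.S6875
import Groth.Agent.Lib.Seat75HomCoh
import Groth.Agent.Lib.Seat75HomExt
import Groth.Agent.Lib.Seat75Ref1Iso
import Groth.Agent.Lib.Seat75Lattice
import Groth.Agent.Lib.Seat84RestrStalk
import Groth.Agent.Lib.Seat96CohCentre
import Groth.Agent.Lib.Helper2FibreCrit2
import Groth.Agent.Lib.Helper28DepthSk
import Groth.Agent.Lib.Seat55ReflAlg

/-!
# Stalks of the reflexive hull of a coherent module (helper55)

* `stalkEquivOfIso`: an isomorphism of modules induces linear equivalences of stalks.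
* `isCoh_dual`, `isCoh_ddual`: coherence of the dual and the reflexive hull (locally Noetherian).
* `ddualStalkEquiv`: `(F^**)_x ≃ Hom((F^*)_x, (O_X)_x)` for coherent `F`.
* `isReflexive_stalk_ddual`, `two_le_depth_stalk_ddual`: the stalks of the reflexive hull are reflexive, and of depth
  `≥ 2` where the local ring has depth `≥ 2` (integral locally Noetherian).
* `bijective_stalkMapₗ_bidualMap_iff`: for coherent `F` the stalk of `F ⟶ F^**` at `x` is bijective iff `F_x` is reflexive.
-/

set_option autoImplicit false
set_option linter.style.haveILetI false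
set_option linter.unusedSectionVars false
universe u
open CategoryTheory Limits AlgebraicGeometry TopologicalSpace Opposite

namespace Groth.Agent.Lib.Seat55.ReflHull

open RefHull Groth.Agent.Lib.Seat75.DualFrame

variable {X : Scheme.{u}}

/-- an isomorphism of modules induces linear equivalences of stalks. -/
noncomputable def stalkEquivOfIso {F G : X.Modules} (e : F ≅ G) (x : X) :
    F.presheaf.stalk x ≃ₗ[X.presheaf.stalk x] G.presheaf.stalk x :=
  LinearEquiv.ofBijective (stalkMapₗ e.hom x)
    (Groth.Agent.Lib.Seat75.HomExt.stalkMapₗ_bijective e.hom x)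

/-- the local ring is the stalk of the structure module. -/
noncomputable def oEquiv (x : X) :
    X.presheaf.stalk x ≃ₗ[X.presheaf.stalk x] (Coh.structureModule X).presheaf.stalk x :=
  genEquiv (oneGerm x) (bijective_smul_oneGerm x)

section Coh

variable [IsLocallyNoetherian X] (F : X.Modules)

theorem isFP_of_isCoh (hF : Coh.IsCoh F) : CohB1.IsFP F := by
  haveI := hF.1
  haveI := hF.2
  exact Groth.Agent.Lib.Helper23.FinType.isFinitePresentation_of_isFiniteType F

theorem isCoh_dual (hF : Coh.IsCoh F) : Coh.IsCoh (dual F) :=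
  Groth.Agent.Lib.Seat75.HomCoh.isCoh_homSh F _ hF
    (Groth.Agent.Lib.Seat96.CohCentre.isCoh_structureModule X)

theorem isCoh_ddual (hF : Coh.IsCoh F) : Coh.IsCoh (ddual F) :=
  isCoh_dual (dual F) (isCoh_dual F hF)

/-- the stalk of the dual as a Hom module. -/
noncomputable def dualStalkEquiv (hF : Coh.IsCoh F) (x : X) :
    (dual F).presheaf.stalk x ≃ₗ[X.presheaf.stalk x]
      (F.presheaf.stalk x →ₗ[X.presheaf.stalk x] (Coh.structureModule X).presheaf.stalk x) :=
  LinearEquiv.ofBijective (evalStalk F (Coh.structureModule X) x)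
    (Groth.Agent.S16485.result X _ _ (isFP_of_isCoh F hF) x)

theorem finite_stalk_of_isCoh (hF : Coh.IsCoh F) (x : X) :
    Module.Finite (X.presheaf.stalk x) (F.presheaf.stalk x) := by
  haveI := hF.1
  haveI := hF.2
  exact Groth.Agent.Lib.Helper2.FibreCrit.finite_stalk F x

/-- for coherent `F`, the stalk of `F ⟶ F^**` at `x` is bijective iff `F_x` is reflexive. -/
theorem bijective_stalkMapₗ_bidualMap_iff (hF : Coh.IsCoh F) (x : X) :
    Function.Bijective (stalkMapₗ (bidualMap F) x) ↔
      Module.IsReflexive (X.presheaf.stalk x) (F.presheaf.stalk x) := by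
  rw [← Groth.Agent.Lib.Seat55.ReflAlg.bijective_bidual_iff (oEquiv x) (dualStalkEquiv F hF x)]
  have hE := (dualStalkEquiv (dual F) (isCoh_dual F hF) x).bijective
  have hcomp : ⇑(Groth.Agent.Lib.Seat55.ReflAlg.bidual
        ((dualStalkEquiv F hF x : (dual F).presheaf.stalk x →ₗ[X.presheaf.stalk x] _))) =
      ⇑(dualStalkEquiv (dual F) (isCoh_dual F hF) x) ∘ ⇑(stalkMapₗ (bidualMap F) x) := by
    funext v
    have h1 := Groth.Agent.Lib.Seat75.Lattice.evalStalk_bidualMap F x v
    change _ = evalStalk (dual F) (Coh.structureModule X) x (stalkMapₗ (bidualMap F) x v)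
    rw [h1]
    rfl
  rw [hcomp, Function.Bijective.of_comp_iff' hE]

end Coh

section Integral

variable [IsIntegral X] [IsLocallyNoetherian X] (F : X.Modules)

/-- the stalks of the reflexive hull of a coherent module are reflexive. -/
theorem isReflexive_stalk_ddual (hF : Coh.IsCoh F) (x : X) :
    Module.IsReflexive (X.presheaf.stalk x) ((ddual F).presheaf.stalk x) := by
  haveI := finite_stalk_of_isCoh (dual F) (isCoh_dual F hF) x
  haveI : Module.Finite (X.presheaf.stalk x) ((Coh.structureModule X).presheaf.stalk x) :=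
    Module.Finite.equiv (oEquiv x)
  haveI : Module.Free (X.presheaf.stalk x) ((Coh.structureModule X).presheaf.stalk x) :=
    Module.Free.of_equiv (oEquiv x)
  haveI : Module.IsReflexive (X.presheaf.stalk x) ((Coh.structureModule X).presheaf.stalk x) :=
    inferInstance
  have := Groth.Agent.S6875.result (X.presheaf.stalk x) ((dual F).presheaf.stalk x)
    ((Coh.structureModule X).presheaf.stalk x)
  exact Module.equiv (dualStalkEquiv (dual F) (isCoh_dual F hF) x).symm

/-- the stalks of the reflexive hull have depth `≥ 2` where the local ring has. -/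
theorem two_le_depth_stalk_ddual (hF : Coh.IsCoh F) (x : X)
    (h : (2 : ℕ∞) ≤ LocCoh.depth (X.presheaf.stalk x) (X.presheaf.stalk x)) :
    (2 : ℕ∞) ≤ LocCoh.depth (X.presheaf.stalk x) ((ddual F).presheaf.stalk x) := by
  haveI := finite_stalk_of_isCoh (dual F) (isCoh_dual F hF) x
  haveI : Module.Finite (X.presheaf.stalk x) ((Coh.structureModule X).presheaf.stalk x) :=
    Module.Finite.equiv (oEquiv x)
  unfold LocCoh.depth at h ⊢
  rw [Groth.Agent.Lib.Helper28.idealDepth_congr (dualStalkEquiv (dual F) (isCoh_dual F hF) x)]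
  apply Groth.Agent.Lib.Helper28.two_le_idealDepth_hom
  rw [← Groth.Agent.Lib.Helper28.idealDepth_congr (oEquiv x)]
  exact h

end Integral

end Groth.Agent.Lib.Seat55.ReflHull
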