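import Mathlib
import Groth.Agent.Lib.Seat84RestrStalk
import Groth.Agent.Lib.Seat55ReflAlg

/-!
# Stalks of the restriction of a module to an open subscheme: semilinearity (helper55)

On top of helper84's `stalkIso M V y : (M|_V)_y ≅ M_{ι y}` (abelian groups): the ring isomorphism
`ringStalkEquiv V y : O_{V,y} ≃+* O_{X,ι y}`, semilinearity `stalkIso_smul`, and transport of reflexivity
`isReflexive_stalk_of_restrict`.
-/

set_option autoImplicit false
set_option linter.style.haveILetI false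
universe u
open CategoryTheory Limits AlgebraicGeometry TopologicalSpace Opposite

namespace Groth.Agent.Lib.Seat55.RestrStalk

open Groth.Agent.Lib.Seat84.RestrStalk

variable {X : Scheme.{u}}

/-- the isomorphism of local rings of an open subscheme. -/
noncomputable def ringStalkEquiv (V : X.Opens) (y : (V : Scheme.{u})) :
    (V : Scheme.{u}).presheaf.stalk y ≃+* X.presheaf.stalk (V.ι y) :=
  (asIso (V.ι.stalkMap y)).symm.commRingCatIsoToRingEquiv

theorem stalkMap_ringStalkEquiv (V : X.Opens) (y : (V : Scheme.{u}))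
    (r : (V : Scheme.{u}).presheaf.stalk y) :
    (V.ι.stalkMap y).hom (ringStalkEquiv V y r) = r := by
  change ((asIso (V.ι.stalkMap y)).inv ≫ (asIso (V.ι.stalkMap y)).hom) r = r
  rw [Iso.inv_hom_id]
  rfl

theorem ringStalkEquiv_germ (V : X.Opens) (y : (V : Scheme.{u})) (W : (V : Scheme.{u}).Opens)
    (hy : y ∈ W) (r : Γ((V : Scheme.{u}), W)) :
    ringStalkEquiv V y ((V : Scheme.{u}).presheaf.germ W y hy r) =
      X.presheaf.germ (V.ι ''ᵁ W) (V.ι y) ⟨y, hy, rfl⟩ ((V.ι.appIso W).inv r) := by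
  have hinj : Function.Injective (V.ι.stalkMap y).hom :=
    (ConcreteCategory.bijective_of_isIso (V.ι.stalkMap y)).1
  apply hinj
  rw [stalkMap_ringStalkEquiv]
  have h1 := Scheme.Hom.germ_stalkMap_apply V.ι (V.ι ''ᵁ W) y ⟨y, hy, rfl⟩ ((V.ι.appIso W).inv r)
  refine Eq.trans ?_ h1.symm
  have h2 := congrArg (fun φ => φ.hom r) (Scheme.Hom.appIso_inv_app_presheafMap V.ι W)
  simp only [CommRingCat.hom_comp, RingHom.coe_comp, Function.comp_apply, CommRingCat.hom_id,
    RingHom.id_apply] at h2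
  conv_lhs => rw [← h2]
  exact TopCat.Presheaf.germ_res_apply _ _ _ _ _

/-- semilinearity of helper84's stalk isomorphism. -/
theorem stalkIso_smul (M : X.Modules) (V : X.Opens) (y : (V : Scheme.{u}))
    (r : (V : Scheme.{u}).presheaf.stalk y) (m : ↑((M.restrict V.ι).presheaf.stalk y)) :
    (stalkIso M V y).hom (r • m) = ringStalkEquiv V y r • (stalkIso M V y).hom m := by
  obtain ⟨W₁, hy₁, r₁, rfl⟩ := TopCat.Presheaf.exists_germ_eq (V : Scheme.{u}).presheaf r
  obtain ⟨W₂, hy₂, m₂, rfl⟩ := TopCat.Presheaf.exists_germ_eq (M.restrict V.ι).presheaf m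
  have hy : y ∈ W₁ ⊓ W₂ := ⟨hy₁, hy₂⟩
  rw [← TopCat.Presheaf.germ_res_apply (V : Scheme.{u}).presheaf
      (homOfLE (inf_le_left : W₁ ⊓ W₂ ≤ W₁)) y hy r₁,
    ← TopCat.Presheaf.germ_res_apply (M.restrict V.ι).presheaf
      (homOfLE (inf_le_right : W₁ ⊓ W₂ ≤ W₂)) y hy m₂]
  set r₀ := ((V : Scheme.{u}).presheaf.map (homOfLE (inf_le_left : W₁ ⊓ W₂ ≤ W₁)).op).hom r₁
  set m₀ := ((M.restrict V.ι).presheaf.map (homOfLE (inf_le_right : W₁ ⊓ W₂ ≤ W₂)).op).hom m₂
  rw [← Mero.germ_smul, stalkIso_germ, stalkIso_germ, ringStalkEquiv_germ]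
  exact Mero.germ_smul M (V.ι ''ᵁ (W₁ ⊓ W₂)) (V.ι y) ⟨y, hy, rfl⟩ ((V.ι.appIso (W₁ ⊓ W₂)).inv r₀) m₀

theorem isReflexive_stalk_of_restrict (M : X.Modules) (V : X.Opens) (y : (V : Scheme.{u}))
    [Module.IsReflexive ((V : Scheme.{u}).presheaf.stalk y) ((M.restrict V.ι).presheaf.stalk y)] :
    Module.IsReflexive (X.presheaf.stalk (V.ι y)) (M.presheaf.stalk (V.ι y)) :=
  Groth.Agent.Lib.Seat55.ReflAlg.isReflexive_of_semilinear (ringStalkEquiv V y)
    (stalkIso M V y).addCommGroupIsoToAddEquiv (fun r m => stalkIso_smul M V y r m)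

end Groth.Agent.Lib.Seat55.RestrStalk
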