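import Mathlib
import Groth.Agent.S2250
import Groth.Agent.Lib.Helper23QCohLocal
import Groth.Agent.Lib.Seat55ReflBigOpen
import Groth.Agent.Lib.Seat55ReflHull
import Groth.Agent.Lib.Seat55RestrStalk

/-!
# Direct image of a coherent reflexive module across a closed subset of depth `≥ 2` (helper55)

`exists_iso_ddual_of_reflexive`: `X` integral locally Noetherian, `U` open with `depth O_{X,x} ≥ 2` off `U`,
`G` coherent on `U` with reflexive stalks.  Then `j_* G ≅ F^**` for a coherent `F` on `X`; in particular `j_* G` is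
coherent with reflexive stalks (`isCoh_push_of_reflexive`, `isReflexive_stalk_push_of_reflexive`).
-/

set_option autoImplicit false
set_option linter.style.haveILetI false
universe u
open CategoryTheory Limits AlgebraicGeometry TopologicalSpace Opposite

namespace Groth.Agent.Lib.Seat55.ReflPush

open RefHull Groth.Agent.Lib.Seat55.ReflHull Groth.Agent.Lib.Seat55.ReflBigOpen
  Groth.Agent.Lib.Seat55.RestrStalk Groth.Agent.Lib.Seat84.RestrStalk

variable {X : Scheme.{u}}

theorem isCoh_of_iso {F G : X.Modules} (e : F ≅ G) (hF : Coh.IsCoh F) : Coh.IsCoh G := by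
  haveI := hF.1
  haveI := hF.2
  exact ⟨Groth.Agent.Lib.Helper23.TensorQCoh.isQuasicoherent_of_iso e,
    Groth.Agent.Lib.Helper23.FinType.isFiniteType_of_iso e⟩

theorem locallyNoetherianSpace [IsLocallyNoetherian X] :
    ∀ x : X, ∃ U : X.Opens, x ∈ U ∧ TopologicalSpace.NoetherianSpace (U : Set X) := by
  intro x
  obtain ⟨_, ⟨W, hW, rfl⟩, hxW, -⟩ :=
    X.isBasis_affineOpens.exists_subset_of_mem_open (Set.mem_univ x) isOpen_univ
  haveI : IsNoetherianRing Γ(X, W) := IsLocallyNoetherian.component_noetherian ⟨W, hW⟩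
  exact ⟨W, hxW, noetherianSpace_of_isAffineOpen W hW⟩

/-- a morphism which is bijective on the stalks at the points of `U` restricts to an isomorphism over `U`. -/
theorem isIso_restrict_of_stalk_bijective {F R : X.Modules} (β : F ⟶ R) (U : X.Opens)
    (h : ∀ y : (U : Scheme.{u}), Function.Bijective (stalkMapₗ β (U.ι y))) :
    IsIso ((Scheme.Modules.restrictFunctor U.ι).map β) := by
  apply Groth.Agent.Lib.Seat75.Ref1Iso.isIso_of_stalkMapₗ_bijective
  intro y
  have hF := stalkIso_bijective F U y
  have hR := stalkIso_bijective R U y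
  have hnat : ⇑(stalkIso R U y).hom ∘ ⇑(stalkMapₗ ((Scheme.Modules.restrictFunctor U.ι).map β) y) =
      ⇑(stalkMapₗ β (U.ι y)) ∘ ⇑(stalkIso F U y).hom := by
    funext v
    exact stalkIso_naturality β U y v
  have h1 : Function.Bijective
      (⇑(stalkIso R U y).hom ∘ ⇑(stalkMapₗ ((Scheme.Modules.restrictFunctor U.ι).map β) y)) := by
    rw [hnat]
    exact (h y).comp hF
  exact (Function.Bijective.of_comp_iff' hR _).mp h1

section Main

variable [IsIntegral X] [IsLocallyNoetherian X] (U : X.Opens)
  (hU : ∀ x : X, x ∉ U → (2 : ℕ∞) ≤ LocCoh.depth (X.presheaf.stalk x) (X.presheaf.stalk x))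
  (G : (U : Scheme.{u}).Modules) (hG : Coh.IsCoh G)
  (hGr : ∀ y : (U : Scheme.{u}),
    Module.IsReflexive ((U : Scheme.{u}).presheaf.stalk y) (G.presheaf.stalk y))

include hU hG hGr in
/-- `j_* G` is the reflexive hull of a coherent module on `X`. -/
theorem exists_iso_ddual_of_reflexive :
    ∃ (F : X.Modules) (_ : Coh.IsCoh F),
      Nonempty ((Scheme.Modules.pushforward U.ι).obj G ≅ ddual F) := by
  haveI := hG.1
  haveI : ((Scheme.Modules.pushforward U.ι).obj G).IsQuasicoherent :=
    Groth.Agent.Lib.Helper23.QCohLocal.isQuasicoherent_pushforward U.ι G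
  -- coherent extension
  let i : G ⟶ ((Scheme.Modules.pushforward U.ι).obj G).restrict U.ι :=
    inv ((Scheme.Modules.restrictAdjunction U.ι).counit.app G)
  obtain ⟨F, -, e, -, hFq, hFt, -⟩ := Groth.Agent.S2250.result (X := X) locallyNoetherianSpace U
    ((Scheme.Modules.pushforward U.ι).obj G) G i hG.2
  have hF : Coh.IsCoh F := ⟨hFq, hFt⟩
  refine ⟨F, hF, ?_⟩
  have hR := isCoh_ddual F hF
  haveI := hR.1
  haveI := hR.2
  -- the unit of the reflexive hull is an isomorphism
  have hunit : IsIso ((Scheme.Modules.restrictAdjunction U.ι).unit.app (ddual F)) :=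
    isIso_unit_of_two_le_depth U (ddual F)
      (fun x hx => two_le_depth_stalk_ddual F hF x (hU x hx))
  -- the biduality map is an isomorphism over `U`
  have hβ : IsIso ((Scheme.Modules.restrictFunctor U.ι).map (bidualMap F)) := by
    apply isIso_restrict_of_stalk_bijective
    intro y
    rw [bijective_stalkMapₗ_bidualMap_iff F hF]
    haveI := hGr y
    haveI : Module.IsReflexive ((U : Scheme.{u}).presheaf.stalk y)
        ((F.restrict U.ι).presheaf.stalk y) := Module.equiv (stalkEquivOfIso e y).symm
    exact isReflexive_stalk_of_restrict F U y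
  exact ⟨(Scheme.Modules.pushforward U.ι).mapIso e.symm ≪≫
    (Scheme.Modules.pushforward U.ι).mapIso
      (asIso ((Scheme.Modules.restrictFunctor U.ι).map (bidualMap F))) ≪≫
    (asIso ((Scheme.Modules.restrictAdjunction U.ι).unit.app (ddual F))).symm⟩

include hU hG hGr in
theorem isCoh_push_of_reflexive : Coh.IsCoh ((Scheme.Modules.pushforward U.ι).obj G) := by
  obtain ⟨F, hF, ⟨e⟩⟩ := exists_iso_ddual_of_reflexive U hU G hG hGr
  exact isCoh_of_iso e.symm (isCoh_ddual F hF)

include hU hG hGr in
theorem isReflexive_stalk_push_of_reflexive (x : X) :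
    Module.IsReflexive (X.presheaf.stalk x)
      (((Scheme.Modules.pushforward U.ι).obj G).presheaf.stalk x) := by
  obtain ⟨F, hF, ⟨e⟩⟩ := exists_iso_ddual_of_reflexive U hU G hG hGr
  haveI := isReflexive_stalk_ddual F hF x
  exact Module.equiv (stalkEquivOfIso e x).symm

end Main

end Groth.Agent.Lib.Seat55.ReflPush
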