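import Mathlib
import Groth.Agent.Lib.Seat75Ref1Iso
import Groth.Agent.Lib.Helper23Restr2
import Groth.Agent.Lib.Helper23ModLocal
import Groth.Agent.Lib.Helper18Epi1
import Groth.Agent.Lib.Seat55ReflPush

/-!
# Extending invertible modules, part A (helper55): frames, restrictions, vanishing

* `exists_gen_of_isInvertible_restrict`, `isInvertible_restrict_of_gen`: `M|_U` is invertible iff `M` has frames near the
  points of `U`.
* `bijective_stalkMapₗ_bidualMap_of_gen`, `isIso_restrict_bidualMap_of_gen`: the biduality map is an isomorphism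
  where `M` has frames.
* `isZero_restrict_pushforward_of_disjoint`: `(k_* G)|_W = 0` if `W` does not meet the open `V`, `k : V → X`.
* `restrictBiprodIsoLeft/Right`: `(A ⊞ B)|_W ≅ A|_W` if `B|_W = 0`.
-/

set_option autoImplicit false
set_option linter.style.haveILetI false
universe u
open CategoryTheory Limits AlgebraicGeometry TopologicalSpace Opposite

namespace Groth.Agent.Lib.Seat55.InvExt

open Groth.Agent.Lib.Helper23.SecTw Groth.Agent.Lib.Helper23.GenLocus Groth.Agent.Lib.Helper6
  Groth.Agent.Lib.Seat75.SecOrd Groth.Agent.Lib.Seat75.DualFrame RefHull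

variable {X : Scheme.{u}}

/-- frames of `M` near the points of `U` from invertibility of `M|_U`. -/
theorem exists_gen_of_isInvertible_restrict (M : X.Modules) (U : X.Opens)
    (h : PicF.IsInvertible (M.restrict U.ι)) (x : X) (hx : x ∈ U) :
    ∃ (W : X.Opens) (e : Γ(M, W)), x ∈ W ∧ IsGen M W e := by
  obtain ⟨V, e, hxV, he⟩ := exists_gen _ h (⟨x, hx⟩ : (↑U : Scheme.{u}))
  exact ⟨U.ι ''ᵁ V, e, ⟨⟨x, hx⟩, hxV, rfl⟩, isGen_of_isGen_restrict M U V e he⟩

/-- `M|_U` is invertible if `M` has frames near the points of `U`. -/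
theorem isInvertible_restrict_of_gen (M : X.Modules) (U : X.Opens)
    (h : ∀ x : X, x ∈ U → ∃ (W : X.Opens) (e : Γ(M, W)), x ∈ W ∧ IsGen M W e) :
    PicF.IsInvertible (M.restrict U.ι) := by
  refine isInvertible_of_isGen _ (fun x => ?_)
  obtain ⟨W, e, hxW, he⟩ := h x.1 x.2
  have hle : U.ι ''ᵁ (U.ι ⁻¹ᵁ W) ≤ W := by
    rw [Scheme.Hom.image_preimage_eq_opensRange_inf]
    exact inf_le_right
  exact ⟨U.ι ⁻¹ᵁ W, _, hxW,
    isGen_restrict_of_isGen M U (U.ι ⁻¹ᵁ W) (res M hle e) (he.mono hle)⟩

/-- at a point with a frame the biduality map is bijective on stalks. -/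
theorem bijective_stalkMapₗ_bidualMap_of_gen (M : X.Modules) {V : X.Opens} {e : Γ(M, V)}
    (he : IsGen M V e) (x : X) (hxV : x ∈ V) :
    Function.Bijective (stalkMapₗ (bidualMap M) x) := by
  refine Groth.Agent.Lib.Seat75.Ref1Iso.bijective_of_gen _ (M.presheaf.germ V x hxV e)
    (bijective_smul_germ_of_isGen M he x hxV) ?_
  rw [stalkMapₗ_germ]
  exact bijective_smul_germ_of_isGen (ddual M) (isGen_bidual M he) x hxV

/-- the biduality map restricts to an isomorphism over an open where `M` has frames. -/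
theorem isIso_restrict_bidualMap_of_gen (M : X.Modules) (U : X.Opens)
    (h : ∀ x : X, x ∈ U → ∃ (W : X.Opens) (e : Γ(M, W)), x ∈ W ∧ IsGen M W e) :
    IsIso ((Scheme.Modules.restrictFunctor U.ι).map (bidualMap M)) := by
  apply Groth.Agent.Lib.Seat55.ReflPush.isIso_restrict_of_stalk_bijective
  intro y
  obtain ⟨W, e, hxW, he⟩ := h y.1 y.2
  exact bijective_stalkMapₗ_bidualMap_of_gen M he _ hxW

/-- frames of the reflexive hull from frames of `M`. -/
theorem exists_gen_ddual_of_gen (M : X.Modules) (x : X)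
    (h : ∃ (W : X.Opens) (e : Γ(M, W)), x ∈ W ∧ IsGen M W e) :
    ∃ (W : X.Opens) (e : Γ(ddual M, W)), x ∈ W ∧ IsGen (ddual M) W e := by
  obtain ⟨W, e, hxW, he⟩ := h
  exact ⟨W, _, hxW, isGen_bidual M he⟩

section Zero

/-- the pushforward from an open `V` restricts to zero on an open disjoint from `V`. -/
theorem isZero_restrict_pushforward_of_disjoint (V W : X.Opens) (h : V ⊓ W = ⊥)
    (G : (V : Scheme.{u}).Modules) :
    IsZero (((Scheme.Modules.pushforward V.ι).obj G).restrict W.ι) := by
  apply Groth.Agent.Lib.Helper23.ModLocal.isZero_of_forall_eq_zero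
  intro W' s
  have hbot : V.ι ⁻¹ᵁ (W.ι ''ᵁ W') = ⊥ := by
    ext y
    simp only [Opens.coe_bot, Set.mem_empty_iff_false, iff_false]
    rintro ⟨w, -, hw⟩
    have h1 : (V.ι y : X) ∈ V ⊓ W := ⟨y.2, by rw [← hw]; exact w.2⟩
    rw [h] at h1
    exact h1
  have hsub : Subsingleton Γ(G, V.ι ⁻¹ᵁ (W.ι ''ᵁ W')) := by
    rw [hbot]
    haveI : Subsingleton Γ((V : Scheme.{u}), ⊥) := inferInstance
    exact Module.subsingleton Γ((V : Scheme.{u}), ⊥) _
  exact @Subsingleton.elim _ hsub s 0

end Zero

section Biprod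

/-- `(A ⊞ B)|_W ≅ A|_W` if `B|_W = 0`. -/
noncomputable def restrictBiprodIsoLeft (A B : X.Modules) (W : X.Opens)
    (hB : IsZero (B.restrict W.ι)) : (A ⊞ B).restrict W.ι ≅ A.restrict W.ι :=
  haveI : (Scheme.Modules.restrictFunctor W.ι).Additive :=
    (Scheme.Modules.restrictAdjunction W.ι).left_adjoint_additive
  haveI : PreservesBinaryBiproducts (Scheme.Modules.restrictFunctor W.ι) :=
    preservesBinaryBiproducts_of_preservesBiproducts _
  (Scheme.Modules.restrictFunctor W.ι).mapBiprod A B ≪≫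
    { hom := biprod.fst
      inv := biprod.inl
      hom_inv_id := by
        apply biprod.hom_ext
        · simp
        · exact hB.eq_of_tgt _ _
      inv_hom_id := by simp }

/-- `(A ⊞ B)|_W ≅ B|_W` if `A|_W = 0`. -/
noncomputable def restrictBiprodIsoRight (A B : X.Modules) (W : X.Opens)
    (hA : IsZero (A.restrict W.ι)) : (A ⊞ B).restrict W.ι ≅ B.restrict W.ι :=
  haveI : (Scheme.Modules.restrictFunctor W.ι).Additive :=
    (Scheme.Modules.restrictAdjunction W.ι).left_adjoint_additive
  haveI : PreservesBinaryBiproducts (Scheme.Modules.restrictFunctor W.ι) :=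
    preservesBinaryBiproducts_of_preservesBiproducts _
  (Scheme.Modules.restrictFunctor W.ι).mapBiprod A B ≪≫
    { hom := biprod.snd
      inv := biprod.inr
      hom_inv_id := by
        apply biprod.hom_ext
        · exact hA.eq_of_tgt _ _
        · simp
      inv_hom_id := by simp }

end Biprod

end Groth.Agent.Lib.Seat55.InvExt
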