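import Mathlib
import Groth.Agent.Lib.Seat55InvExtA
import Groth.Agent.Lib.Seat55ReflHull
import Groth.Agent.Lib.Seat55RestrStalk
import Groth.Agent.Lib.Seat94LocIntegral
import Groth.Agent.Lib.Helper10RedFib2
import Groth.Agent.Lib.Helper23StalkLin

/-!
# Extending invertible modules, part B (helper55): stalks

* `subsingleton_stalk_of_mono_pushforward`: a submodule of `j_* L` (`j : U → X`) has zero stalks on
  opens disjoint from `U`.
* `isZero_restrict_ddual`: the reflexive hull restricts to zero where the stalks vanish.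
* `exists_isIntegral_nhd_of_isDomain_stalk`: integral open neighbourhoods of points with a domain as
  local ring (locally Noetherian).
* `isReflexive_stalk_ddual_of_isDomain`, `isReflexive_stalk_restrict`.
-/

set_option autoImplicit false
set_option linter.style.haveILetI false
universe u
open CategoryTheory Limits AlgebraicGeometry TopologicalSpace Opposite

namespace Groth.Agent.Lib.Seat55.InvExt

open Groth.Agent.Lib.Helper23.SecTw Groth.Agent.Lib.Helper23.GenLocus Groth.Agent.Lib.Helper6
  Groth.Agent.Lib.Seat75.SecOrd Groth.Agent.Lib.Seat75.DualFrame RefHull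
  Groth.Agent.Lib.Seat55.ReflHull Groth.Agent.Lib.Seat55.RestrStalk
  Groth.Agent.Lib.Seat84.RestrStalk

variable {X : Scheme.{u}}

/-- the stalks of `j_* L` vanish on opens disjoint from `U`. -/
theorem subsingleton_stalk_pushforward (U V : X.Opens) (h : U ⊓ V = ⊥)
    (L : (U : Scheme.{u}).Modules) (x : X) (hx : x ∈ V) :
    Subsingleton (((Scheme.Modules.pushforward U.ι).obj L).presheaf.stalk x) := by
  refine ⟨fun a b => ?_⟩
  have key : ∀ c : ((Scheme.Modules.pushforward U.ι).obj L).presheaf.stalk x, c = 0 := by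
    intro c
    obtain ⟨W, hxW, s, rfl⟩ := ((Scheme.Modules.pushforward U.ι).obj L).presheaf.exists_germ_eq c
    have hxWV : x ∈ W ⊓ V := ⟨hxW, hx⟩
    rw [← TopCat.Presheaf.germ_res_apply ((Scheme.Modules.pushforward U.ι).obj L).presheaf
      (homOfLE (inf_le_left : W ⊓ V ≤ W)) x hxWV s]
    have hbot : U.ι ⁻¹ᵁ (W ⊓ V) = ⊥ := by
      ext y
      simp only [Opens.coe_bot, Set.mem_empty_iff_false, iff_false]
      rintro ⟨-, hyV⟩
      have h1 : (U.ι y : X) ∈ U ⊓ V := ⟨y.2, hyV⟩
      rw [h] at h1
      exact h1
    have hsub : Subsingleton Γ((Scheme.Modules.pushforward U.ι).obj L, W ⊓ V) := by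
      change Subsingleton Γ(L, U.ι ⁻¹ᵁ (W ⊓ V))
      rw [hbot]
      haveI : Subsingleton Γ((U : Scheme.{u}), ⊥) := inferInstance
      exact Module.subsingleton Γ((U : Scheme.{u}), ⊥) _
    rw [@Subsingleton.elim _ hsub
      (((Scheme.Modules.pushforward U.ι).obj L).presheaf.map (homOfLE (inf_le_left : W ⊓ V ≤ W)).op s) 0,
      map_zero]
  rw [key a, key b]

/-- a submodule of `j_* L` has zero stalks on opens disjoint from `U`. -/
theorem subsingleton_stalk_of_mono_pushforward (U V : X.Opens) (h : U ⊓ V = ⊥)
    (L : (U : Scheme.{u}).Modules) {F : X.Modules} (i : F ⟶ (Scheme.Modules.pushforward U.ι).obj L)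
    [Mono i] (x : X) (hx : x ∈ V) : Subsingleton (F.presheaf.stalk x) := by
  haveI := subsingleton_stalk_pushforward U V h L x hx
  exact (Groth.Agent.Lib.Helper23.StalkLin.stalkLin_injective i x).subsingleton

section LN

variable [IsLocallyNoetherian X]

/-- the reflexive hull of a coherent module restricts to zero on an open where the stalks vanish. -/
theorem isZero_restrict_ddual (F : X.Modules) (hF : Coh.IsCoh F) (W : X.Opens)
    (h : ∀ x : X, x ∈ W → Subsingleton (F.presheaf.stalk x)) :
    IsZero ((ddual F).restrict W.ι) := by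
  apply Groth.Agent.Helper18Epi.isZero_of_subsingleton_stalk
  intro y
  haveI : Subsingleton (F.presheaf.stalk (W.ι y)) := h (W.ι y) y.2
  haveI : Subsingleton ((dual F).presheaf.stalk (W.ι y)) :=
    (dualStalkEquiv F hF (W.ι y)).toEquiv.subsingleton
  haveI : Subsingleton ((ddual F).presheaf.stalk (W.ι y)) :=
    (dualStalkEquiv (dual F) (isCoh_dual F hF) (W.ι y)).toEquiv.subsingleton
  exact (stalkIso_bijective (ddual F) W y).1.subsingleton

/-- the stalks of the reflexive hull of a coherent module are reflexive at points whose local ring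
is a domain. -/
theorem isReflexive_stalk_ddual_of_isDomain (F : X.Modules) (hF : Coh.IsCoh F) (x : X)
    [IsDomain (X.presheaf.stalk x)] :
    Module.IsReflexive (X.presheaf.stalk x) ((ddual F).presheaf.stalk x) := by
  haveI := finite_stalk_of_isCoh (dual F) (isCoh_dual F hF) x
  haveI : Module.Finite (X.presheaf.stalk x) ((Coh.structureModule X).presheaf.stalk x) :=
    Module.Finite.equiv (oEquiv x)
  haveI : Module.Free (X.presheaf.stalk x) ((Coh.structureModule X).presheaf.stalk x) :=
    Module.Free.of_equiv (oEquiv x)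
  haveI : Module.IsReflexive (X.presheaf.stalk x) ((Coh.structureModule X).presheaf.stalk x) :=
    inferInstance
  have := Groth.Agent.S6875.result (X.presheaf.stalk x) ((dual F).presheaf.stalk x)
    ((Coh.structureModule X).presheaf.stalk x)
  exact Module.equiv (dualStalkEquiv (dual F) (isCoh_dual F hF) x).symm

end LN

/-- reflexivity of a stalk passes to the restriction to an open. -/
theorem isReflexive_stalk_restrict (M : X.Modules) (V : X.Opens) (y : (V : Scheme.{u}))
    [Module.IsReflexive (X.presheaf.stalk (V.ι y)) (M.presheaf.stalk (V.ι y))] :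
    Module.IsReflexive ((V : Scheme.{u}).presheaf.stalk y) ((M.restrict V.ι).presheaf.stalk y) :=
  Groth.Agent.Lib.Seat55.ReflAlg.isReflexive_of_semilinear (ringStalkEquiv V y).symm
    (stalkIso M V y).addCommGroupIsoToAddEquiv.symm
    (Groth.Agent.Lib.Seat55.ReflAlg.symm_semilinear (ringStalkEquiv V y)
      (stalkIso M V y).addCommGroupIsoToAddEquiv (fun r m => stalkIso_smul M V y r m))

/-- on a locally Noetherian scheme a point whose local ring is a domain has an integral open
neighbourhood. -/
theorem exists_isIntegral_nhd_of_isDomain_stalk [IsLocallyNoetherian X] (x : X)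
    [IsDomain (X.presheaf.stalk x)] :
    ∃ W : X.Opens, x ∈ W ∧ IsIntegral (W : Scheme.{u}) := by
  obtain ⟨N, hN, hxN, hred⟩ := Groth.Agent.Lib.Helper10.RedFib.exists_affine_isReduced_of_stalk x
  haveI : IsAffine N.toScheme := hN
  haveI : _root_.IsReduced Γ(N.toScheme, ⊤) := by
    haveI := hred
    exact isReduced_of_injective N.topIso.hom.hom
      (ConcreteCategory.bijective_of_isIso N.topIso.hom).1
  haveI : IsReduced N.toScheme := isReduced_of_isAffine_isReduced _
  haveI : IsNoetherianRing Γ(X, N) := IsLocallyNoetherian.component_noetherian ⟨N, hN⟩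
  have hNoeth : NoetherianSpace ((N : Set X) : Type u) := noetherianSpace_of_isAffineOpen N hN
  haveI : NoetherianSpace N.toScheme := hNoeth
  let y' : N.toScheme := ⟨x, hxN⟩
  have hdom' : IsDomain (N.toScheme.presheaf.stalk y') := by
    have e := (asIso (N.ι.stalkMap y')).commRingCatIsoToRingEquiv
    have hd : IsDomain (X.presheaf.stalk (N.ι y')) := ‹IsDomain (X.presheaf.stalk x)›
    exact e.symm.toMulEquiv.isDomain _
  obtain ⟨U', hU'open, hyU', hU'irr⟩ :=
    Groth.Agent.Lib.Seat94.LocIntegral.exists_open_preirreducible y'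
      (fun Z₁ h₁ Z₂ h₂ hy₁ hy₂ =>
        Groth.Agent.Lib.Seat94.LocIntegral.eq_of_mem_irreducibleComponents_of_isDomain_stalk
          N.toScheme y' h₁ h₂ hy₁ hy₂)
  let U : X.Opens := N.ι ''ᵁ ⟨U', hU'open⟩
  have hxU : x ∈ U := ⟨y', hyU', rfl⟩
  refine ⟨U, hxU, ?_⟩
  have hirr : IsIrreducible (U : Set X) := by
    refine ⟨⟨x, hxU⟩, ?_⟩
    exact hU'irr.image _ N.ι.continuous.continuousOn
  have : IrreducibleSpace (U : Scheme.{u}) := Subtype.irreducibleSpace hirr
  have hUN : U ≤ N := by
    have := Scheme.Hom.image_le_opensRange N.ι ⟨U', hU'open⟩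
    rwa [Scheme.Opens.opensRange_ι] at this
  haveI : IsReduced (U : Scheme.{u}) := isReduced_of_isOpenImmersion (X.homOfLE hUN)
  exact isIntegral_of_irreducibleSpace_of_isReduced _

end Groth.Agent.Lib.Seat55.InvExt
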