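import Mathlib

/-!
# Rank one reflexive modules over a unique factorization domain are cyclic (helper55)

* `exists_injective_linear_form`: a nontrivial reflexive module which embeds semilinearly into
  the fraction field has an injective linear form;
* `exists_cyclic_of_reflexive`: over a UFD, a reflexive module with an injective linear form is
  cyclic (the form with `≺`-minimal value at a fixed vector has coprime image, so every linear
  form is a multiple of it, and reflexivity produces a vector on which it takes the value one).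
-/

set_option autoImplicit false
universe u

namespace Groth.Agent.Lib.Seat55.Ref1Alg

variable {R : Type*} [CommRing R] [IsDomain R] {M : Type*} [AddCommGroup M] [Module R M]

/-- divide a linear form by a common divisor of its values. -/
theorem exists_div_linear (f : M →ₗ[R] R) (v : R) (hv : v ≠ 0) (h : ∀ m, v ∣ f m) :
    ∃ f' : M →ₗ[R] R, ∀ m, f m = v * f' m := by
  choose q hq using h
  refine ⟨{ toFun := q, map_add' := ?_, map_smul' := ?_ }, hq⟩
  · intro a b
    apply mul_left_cancel₀ hv
    rw [← hq, map_add, hq a, hq b, mul_add]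
  · intro r a
    apply mul_left_cancel₀ hv
    simp only [RingHom.id_apply, smul_eq_mul]
    rw [← hq, map_smul, hq a, smul_eq_mul]
    ring

/-- a nontrivial reflexive module embedding semilinearly into the fraction field has an
injective linear form. -/
theorem exists_injective_linear_form {K : Type*} [Field K] [Algebra R K] [IsFractionRing R K]
    [Module.IsReflexive R M] (ψ : M → K) (hinj : Function.Injective ψ)
    (hsmul : ∀ (r : R) (m : M), ψ (r • m) = algebraMap R K r * ψ m) :
    ∃ f : M →ₗ[R] R, Function.Injective f := by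
  by_cases hM : Subsingleton M
  · exact ⟨0, fun a b _ => Subsingleton.elim a b⟩
  rw [not_subsingleton_iff_nontrivial] at hM
  have hψ0 : ψ 0 = 0 := by
    have := hsmul 0 0
    rwa [zero_smul, map_zero, zero_mul] at this
  obtain ⟨φ, hφ⟩ : ∃ φ : Module.Dual R M, φ ≠ 0 := by
    by_contra hall
    push Not at hall
    obtain ⟨m, hm⟩ := exists_ne (0 : M)
    apply hm
    apply (Module.bijective_dual_eval R M).1
    apply LinearMap.ext
    intro φ
    rw [hall φ]
    simp
  refine ⟨φ, ?_⟩
  rw [injective_iff_map_eq_zero]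
  intro m hm
  by_contra hm0
  obtain ⟨m₁, hm₁⟩ : ∃ m₁, φ m₁ ≠ 0 := by
    by_contra hall
    push Not at hall
    exact hφ (LinearMap.ext hall)
  have hψm : ψ m ≠ 0 := fun h0 => hm0 (hinj (h0.trans hψ0.symm))
  obtain ⟨a, b, hb, hq⟩ := IsFractionRing.div_surjective (A := R) (ψ m₁ / ψ m)
  have hb0 : algebraMap R K b ≠ 0 := by
    intro h0
    have : b = 0 := (IsFractionRing.injective R K) (h0.trans (map_zero _).symm)
    exact nonZeroDivisors.ne_zero hb this
  have h1 : algebraMap R K b * ψ m₁ = algebraMap R K a * ψ m := by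
    field_simp at hq
    rw [hq]
  have h2 : b • m₁ = a • m := hinj (by rw [hsmul, hsmul, h1])
  have h3 := congrArg φ h2
  rw [map_smul, map_smul, hm, smul_zero, smul_eq_mul] at h3
  rcases mul_eq_zero.mp h3 with h | h
  · exact nonZeroDivisors.ne_zero hb h
  · exact hm₁ h

variable [UniqueFactorizationMonoid R]

/-- over a UFD a reflexive module with an injective linear form is cyclic. -/
theorem exists_cyclic_of_reflexive [Module.IsReflexive R M] (f₀ : M →ₗ[R] R)
    (h₀ : Function.Injective f₀) : ∃ m₀ : M, ∀ m : M, ∃ r : R, m = r • m₀ := by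
  by_cases hM : Subsingleton M
  · exact ⟨0, fun m => ⟨0, Subsingleton.elim _ _⟩⟩
  rw [not_subsingleton_iff_nontrivial] at hM
  obtain ⟨m₁, hm₁⟩ := exists_ne (0 : M)
  let T : Set R := {r | ∃ f : M →ₗ[R] R, Function.Injective f ∧ f m₁ = r}
  have hT : T.Nonempty := ⟨f₀ m₁, f₀, h₀, rfl⟩
  obtain ⟨r₀, ⟨f, hf, rfl⟩, hmin⟩ :=
    WellFounded.has_min (wellFounded_dvdNotUnit (α := R)) T hT
  have hne : ∀ g : M →ₗ[R] R, Function.Injective g → g m₁ ≠ 0 := fun g hg h0 =>
    hm₁ (hg (h0.trans (map_zero g).symm))
  have hcop : ∀ v : R, (∀ m, v ∣ f m) → IsUnit v := by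
    intro v hv
    by_contra hvu
    have hv0 : v ≠ 0 := by
      rintro rfl
      have := hv m₁
      rw [zero_dvd_iff] at this
      exact hne f hf this
    obtain ⟨f', hf'⟩ := exists_div_linear f v hv0 hv
    have hf'inj : Function.Injective f' := by
      rw [injective_iff_map_eq_zero]
      intro m hm
      apply hf
      rw [hf' m, hm, mul_zero, map_zero]
    apply hmin (f' m₁) ⟨f', hf'inj, rfl⟩
    refine ⟨hne f' hf'inj, v, hvu, ?_⟩
    rw [hf' m₁, mul_comm]
  have ha : f m₁ ≠ 0 := hne f hf
  have hdual : ∀ φ : M →ₗ[R] R, ∃ r : R, φ = r • f := by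
    intro φ
    have hrel : ∀ m, f m₁ * φ m = φ m₁ * f m := by
      intro m
      have h1 : f m₁ • m = f m • m₁ := hf (by
        rw [map_smul, map_smul, smul_eq_mul, smul_eq_mul, mul_comm])
      have h2 := congrArg φ h1
      rw [map_smul, map_smul, smul_eq_mul, smul_eq_mul] at h2
      rw [h2, mul_comm]
    obtain ⟨a', b', c, hrp, hca, hcb⟩ :=
      UniqueFactorizationMonoid.exists_reduced_factors (f m₁) ha (φ m₁)
    have hc : c ≠ 0 := by
      rintro rfl
      exact ha (by rw [← hca, zero_mul])
    have hrel' : ∀ m, a' * φ m = b' * f m := by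
      intro m
      apply mul_left_cancel₀ hc
      rw [← mul_assoc, hca, ← mul_assoc, hcb]
      exact hrel m
    have hu : IsUnit a' := hcop a' (fun m => hrp.dvd_of_dvd_mul_left ⟨φ m, (hrel' m).symm⟩)
    obtain ⟨u, rfl⟩ := hu
    refine ⟨↑u⁻¹ * b', ?_⟩
    ext m
    rw [LinearMap.smul_apply, smul_eq_mul, mul_assoc, ← hrel' m, ← mul_assoc, Units.inv_mul,
      one_mul]
  let e₀ : R →ₗ[R] Module.Dual R M := LinearMap.toSpanSingleton R (Module.Dual R M) f
  have he₀ : Function.Bijective e₀ := by
    constructor
    · intro r r' hrr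
      have h1 := LinearMap.congr_fun hrr m₁
      change (r • f) m₁ = (r' • f) m₁ at h1
      rw [LinearMap.smul_apply, LinearMap.smul_apply, smul_eq_mul, smul_eq_mul] at h1
      exact mul_right_cancel₀ ha h1
    · intro φ
      obtain ⟨r, hr⟩ := hdual φ
      exact ⟨r, hr.symm⟩
  let e := LinearEquiv.ofBijective e₀ he₀
  let Φ : Module.Dual R (Module.Dual R M) := e.symm.toLinearMap
  obtain ⟨m₀, hm₀⟩ := (Module.bijective_dual_eval R M).2 Φ
  have h1 : f m₀ = 1 := by
    have h2 : Module.Dual.eval R M m₀ f = Φ f := by rw [hm₀]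
    have h3 : e.symm f = 1 := by
      rw [LinearEquiv.symm_apply_eq]
      change f = e₀ 1
      change f = (1 : R) • f
      rw [one_smul]
    rw [Module.Dual.eval_apply] at h2
    rw [h2]
    exact h3
  refine ⟨m₀, fun m => ⟨f m, hf ?_⟩⟩
  rw [map_smul, h1, smul_eq_mul, mul_one]

/-- rank one reflexive modules over a UFD are cyclic. -/
theorem exists_cyclic_of_reflexive_of_embedding {K : Type*} [Field K] [Algebra R K]
    [IsFractionRing R K] [Module.IsReflexive R M] (ψ : M → K) (hinj : Function.Injective ψ)
    (hsmul : ∀ (r : R) (m : M), ψ (r • m) = algebraMap R K r * ψ m) :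
    ∃ m₀ : M, ∀ m : M, ∃ r : R, m = r • m₀ := by
  obtain ⟨f, hf⟩ := exists_injective_linear_form ψ hinj hsmul
  exact exists_cyclic_of_reflexive f hf

end Groth.Agent.Lib.Seat55.Ref1Alg
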