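import Groth.Agent.Lib.Seat75Ref1Frame
import Groth.Agent.Lib.Seat55Ref1Alg

/-!
# Frames of rank one reflexive modules at factorial points (helper55)

`exists_gen_of_cyclic`: the spreading-out half of helper75's `exists_gen_codim_one`, with the
cyclicity of the stalk as a hypothesis; `exists_gen_of_ufd`: at a point whose local ring is
factorial and where the stalk is reflexive, a generically invertible reflexive module of finite type
has a frame.
-/

set_option autoImplicit false
set_option linter.style.haveILetI false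
universe u

open AlgebraicGeometry CategoryTheory TopologicalSpace Opposite

namespace Groth.Agent.Lib.Seat55.Ref1Free

open Groth.Agent.Lib.Helper23.SecTw Groth.Agent.Lib.Helper23.GenLocus Groth.Agent.Lib.Helper6
  Groth.Agent.Lib.Seat75.SecOrd Groth.Agent.Lib.Seat75.DualFrame RefHull
  Groth.Agent.Lib.Seat75.Ref1Frame

variable {X : Scheme.{u}} [IsIntegral X]

/-- the embedding of the stalk of a reflexive generically invertible module into the function
field, and the resulting frame near a point whose stalk is cyclic. -/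
theorem exists_gen_of_cyclic (F : X.Modules)
    (hft : SheafOfModules.IsFiniteType (R := X.ringCatSheaf) F)
    (hrefl : RefHull.IsReflexive F) (hgi : RefHull.GenInvertible F) (x : X)
    (hcyc : ∀ (ψ : F.presheaf.stalk x → X.functionField), Function.Injective ψ →
      (∀ (r : X.presheaf.stalk x) (m : F.presheaf.stalk x),
        ψ (r • m) = algebraMap (X.presheaf.stalk x) X.functionField r * ψ m) →
      ∃ m₀ : F.presheaf.stalk x, ∀ m : F.presheaf.stalk x, ∃ r : X.presheaf.stalk x, m = r • m₀) :
    ∃ (V : X.Opens) (e : Γ(F, V)), x ∈ V ∧ IsGen F V e := by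
  have hsx : genericPoint X ⤳ x := (genericPoint_spec X).specializes (Set.mem_univ x)
  -- a frame near the generic point
  obtain ⟨U₀, a, hηU₀, ha⟩ := exists_gen_generic F hgi
  have haη := bijective_smul_germ_of_isGen F ha (genericPoint X) hηU₀
  have haη0 : F.presheaf.germ U₀ (genericPoint X) hηU₀ a ≠ 0 := by
    intro h0
    have : (1 : X.presheaf.stalk (genericPoint X)) = 0 := by
      apply haη.1
      change (1 : X.presheaf.stalk (genericPoint X)) • F.presheaf.germ U₀ _ hηU₀ a =
        (0 : X.presheaf.stalk (genericPoint X)) • _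
      rw [h0, smul_zero, smul_zero]
    exact one_ne_zero this
  -- finite generation
  obtain ⟨U₁, hxU₁, ι, hfin, s, hs⟩ := Groth.Agent.Lib.Seat77.LocGen.exists_local_generators F hft x
  haveI := hfin
  -- the embedding of `F_x` into the function field
  let ψ : F.presheaf.stalk x → X.functionField := fun m =>
    (genEquiv (F.presheaf.germ U₀ (genericPoint X) hηU₀ a) haη).symm
      (F.presheaf.stalkSpecializes hsx m)
  have hψinj : Function.Injective ψ :=
    (LinearEquiv.injective _).comp (stalkSpecializes_injective F hrefl x hsx)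
  have hψsmul : ∀ (r : X.presheaf.stalk x) (m : F.presheaf.stalk x),
      ψ (r • m) = algebraMap (X.presheaf.stalk x) X.functionField r * ψ m := by
    intro r m
    change (genEquiv _ haη).symm (F.presheaf.stalkSpecializes hsx (r • m)) = _
    rw [stalkSpecializes_smul, map_smul]
    rfl
  obtain ⟨m₀, hm₀⟩ := hcyc ψ hψinj hψsmul
  obtain ⟨U₂, hxU₂, σ₀, rfl⟩ := F.presheaf.exists_germ_eq m₀
  -- spreading out
  have hc : ∀ i, ∃ c : X.presheaf.stalk x,
      F.presheaf.germ U₁ x hxU₁ (s i) = c • F.presheaf.germ U₂ x hxU₂ σ₀ := fun i => hm₀ _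
  choose c hc using hc
  obtain ⟨W, hxW, hWU, t, ht⟩ := exists_common_nhd_ring x c (U₁ ⊓ U₂) ⟨hxU₁, hxU₂⟩
  let ε : ι → Γ(F, W) := fun i =>
    res F (hWU.trans inf_le_left) (s i) - t i • res F (hWU.trans inf_le_right) σ₀
  have hε : ∀ i, F.presheaf.germ W x hxW (ε i) = 0 := by
    intro i
    change F.presheaf.germ W x hxW
      (res F (hWU.trans inf_le_left) (s i) - t i • res F (hWU.trans inf_le_right) σ₀) = 0
    rw [map_sub, germ_smul,
      TopCat.Presheaf.germ_res_apply F.presheaf (homOfLE (hWU.trans inf_le_left)) x hxW (s i),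
      TopCat.Presheaf.germ_res_apply F.presheaf (homOfLE (hWU.trans inf_le_right)) x hxW σ₀,
      ht, hc, sub_self]
  obtain ⟨V, hxV, hVW, hV0⟩ := exists_common_nhd_eq_zero F x hxW ε hε
  have hV₁ : V ≤ U₁ := (hVW.trans hWU).trans inf_le_left
  have hV₂ : V ≤ U₂ := (hVW.trans hWU).trans inf_le_right
  have hηV : genericPoint X ∈ V := hsx.mem_open V.isOpen hxV
  have hrel : ∀ i, res F hV₁ (s i) = resf hVW (t i) • res F hV₂ σ₀ := by
    intro i
    have h1 := hV0 i
    change res F hVW
      (res F (hWU.trans inf_le_left) (s i) - t i • res F (hWU.trans inf_le_right) σ₀) = 0 at h1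
    have hsub : ∀ a b : Γ(F, W), res F hVW (a - b) = res F hVW a - res F hVW b :=
      fun a b => map_sub _ a b
    rw [hsub, res_smul, res_res, res_res, sub_eq_zero] at h1
    exact h1
  -- the germ of `σ` spans every stalk over `V`
  have hspan : ∀ (y : X) (hy : y ∈ V) (m : F.presheaf.stalk y),
      ∃ r : X.presheaf.stalk y, r • F.presheaf.germ V y hy (res F hV₂ σ₀) = m := by
    intro y hy m
    have hle : Submodule.span (X.presheaf.stalk y)
        (Set.range fun i => F.presheaf.germ U₁ y (hV₁ hy) (s i)) ≤
        Submodule.span (X.presheaf.stalk y) {F.presheaf.germ V y hy (res F hV₂ σ₀)} := by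
      rw [Submodule.span_le]
      rintro _ ⟨i, rfl⟩
      refine Submodule.mem_span_singleton.2 ⟨X.presheaf.germ V y hy (resf hVW (t i)), ?_⟩
      rw [← germ_smul, ← hrel i]
      exact TopCat.Presheaf.germ_res_apply F.presheaf (homOfLE hV₁) y hy (s i)
    rw [hs y (hV₁ hy)] at hle
    obtain ⟨r, hr⟩ := Submodule.mem_span_singleton.1 (hle (Submodule.mem_top : m ∈ ⊤))
    exact ⟨r, hr⟩
  -- the germ of `σ` at the generic point is nonzero
  have hση : F.presheaf.germ V (genericPoint X) hηV (res F hV₂ σ₀) ≠ 0 := by
    intro h0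
    obtain ⟨r, hr⟩ := hspan (genericPoint X) hηV (F.presheaf.germ U₀ (genericPoint X) hηU₀ a)
    rw [h0, smul_zero] at hr
    exact haη0 hr.symm
  refine ⟨V, res F hV₂ σ₀, hxV, isGen_of_bijective_germ F V _ (fun y hy => ⟨?_, hspan y hy⟩)⟩
  -- injectivity
  have hsy : genericPoint X ⤳ y := (genericPoint_spec X).specializes (Set.mem_univ y)
  have key : ∀ d : X.presheaf.stalk y, d • F.presheaf.germ V y hy (res F hV₂ σ₀) = 0 → d = 0 := by
    intro d hd
    have h1 := congrArg (F.presheaf.stalkSpecializes hsy) hd
    rw [stalkSpecializes_smul, map_zero] at h1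
    have h2 : F.presheaf.stalkSpecializes hsy (F.presheaf.germ V y hy (res F hV₂ σ₀)) =
        F.presheaf.germ V (genericPoint X) hηV (res F hV₂ σ₀) :=
      ConcreteCategory.congr_hom (TopCat.Presheaf.germ_stalkSpecializes F.presheaf hy hsy) _
    rw [h2] at h1
    obtain ⟨u, hu⟩ := haη.2 (F.presheaf.germ V (genericPoint X) hηV (res F hV₂ σ₀))
    have hu0 : u ≠ 0 := by
      rintro rfl
      apply hση
      rw [← hu]
      exact zero_smul _ _
    have hu' : u • F.presheaf.germ U₀ (genericPoint X) hηU₀ a =
        F.presheaf.germ V (genericPoint X) hηV (res F hV₂ σ₀) := hu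
    rw [← hu', ← mul_smul] at h1
    have h3 : X.presheaf.stalkSpecializes hsy d * u = 0 := by
      apply haη.1
      change (X.presheaf.stalkSpecializes hsy d * u) • _ = (0 : X.presheaf.stalk (genericPoint X)) • _
      rw [h1, zero_smul]
    have h4 : X.presheaf.stalkSpecializes hsy d = 0 := by
      rcases mul_eq_zero.mp h3 with h | h
      · exact h
      · exact absurd h hu0
    have hinj : Function.Injective (algebraMap (X.presheaf.stalk y) X.functionField) :=
      IsFractionRing.injective _ _
    apply hinj
    rw [map_zero]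
    exact h4
  intro c₁ c₂ h12
  rw [← sub_eq_zero]
  apply key
  rw [sub_smul, sub_eq_zero]
  exact h12

/-- frames of reflexive generically invertible modules at points with factorial local ring and
reflexive stalk. -/
theorem exists_gen_of_ufd (F : X.Modules)
    (hft : SheafOfModules.IsFiniteType (R := X.ringCatSheaf) F)
    (hrefl : RefHull.IsReflexive F) (hgi : RefHull.GenInvertible F) (x : X)
    [UniqueFactorizationMonoid (X.presheaf.stalk x)]
    [Module.IsReflexive (X.presheaf.stalk x) (F.presheaf.stalk x)] :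
    ∃ (V : X.Opens) (e : Γ(F, V)), x ∈ V ∧ IsGen F V e :=
  exists_gen_of_cyclic F hft hrefl hgi x (fun ψ hinj hsmul =>
    Groth.Agent.Lib.Seat55.Ref1Alg.exists_cyclic_of_reflexive_of_embedding ψ hinj hsmul)

end Groth.Agent.Lib.Seat55.Ref1Free
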