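import Mathlib
import Groth.Agent.S2250
import Groth.Agent.S16080
import Groth.Agent.Lib.Seat55InvExtB
import Groth.Agent.Lib.Seat55Ref1Free
import Groth.Agent.Lib.Helper23TensorUnit
import Groth.Agent.Lib.Helper23AmpleIso
import Groth.Agent.Lib.Helper20ZClos20
import Groth.Agent.Lib.Helper23FinTypeLocal
import Groth.Agent.Lib.Helper23QCohLocal

/-!
# Extending invertible modules, part C (helper55): the extension theorem

On a locally Noetherian scheme an invertible module on an open `U` extends to an invertible module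
on `X` if the local rings at the points outside `U` are factorial: the reflexive hull of a coherent
extension inside `j_* L`, plus `k_* O_V` for `V` the interior of the complement of `U`.
-/

set_option autoImplicit false
set_option linter.style.haveILetI false
universe u
open CategoryTheory Limits AlgebraicGeometry TopologicalSpace Opposite

namespace Groth.Agent.Lib.Seat55.InvExt

open Groth.Agent.Lib.Helper23.SecTw Groth.Agent.Lib.Helper23.GenLocus Groth.Agent.Lib.Helper6
  Groth.Agent.Lib.Seat75.SecOrd Groth.Agent.Lib.Seat75.DualFrame RefHull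
  Groth.Agent.Lib.Seat55.ReflHull Groth.Agent.Lib.Seat55.RestrStalk
  Groth.Agent.Lib.Seat84.RestrStalk Groth.Agent.Lib.Helper23.AmpleIso

variable {X : Scheme.{u}}

/-- frames of the restriction to an open from frames of the module. -/
theorem exists_gen_restrict_of_gen (M : X.Modules) (W : X.Opens) (y : (W : Scheme.{u}))
    (h : ∃ (W₁ : X.Opens) (e : Γ(M, W₁)), (W.ι y : X) ∈ W₁ ∧ IsGen M W₁ e) :
    ∃ (V : (W : Scheme.{u}).Opens) (e : Γ(M.restrict W.ι, V)), y ∈ V ∧ IsGen (M.restrict W.ι) V e := by
  obtain ⟨W₁, e, hxW, he⟩ := h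
  have hle : W.ι ''ᵁ (W.ι ⁻¹ᵁ W₁) ≤ W₁ := by
    rw [Scheme.Hom.image_preimage_eq_opensRange_inf]
    exact inf_le_right
  exact ⟨W.ι ⁻¹ᵁ W₁, _, hxW,
    isGen_restrict_of_isGen M W (W.ι ⁻¹ᵁ W₁) (res M hle e) (he.mono hle)⟩

variable [IsLocallyNoetherian X]

/-- the reflexive hull of a coherent module `F` is invertible over an integral open `W` such that
`F` has frames over `W ∩ U`, `W ∩ U ≠ ∅`, and the local rings at the points of `W ∖ U` are
factorial. -/
theorem isInvertible_restrict_ddual_of_integral (F : X.Modules) (hF : Coh.IsCoh F) (U W : X.Opens)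
    [IsIntegral (W : Scheme.{u})]
    (hgen : ∀ x : X, x ∈ U → ∃ (W₁ : X.Opens) (e : Γ(F, W₁)), x ∈ W₁ ∧ IsGen F W₁ e)
    (hne : ((W ⊓ U : X.Opens) : Set X).Nonempty)
    (hufd : ∀ x : X, x ∈ W → x ∉ U → UniqueFactorizationMonoid (X.presheaf.stalk x)) :
    PicF.IsInvertible ((ddual F).restrict W.ι) := by
  have hE := isCoh_ddual F hF
  haveI := hE.1
  haveI := hE.2
  set N := (ddual F).restrict W.ι with hN
  have hNft : SheafOfModules.IsFiniteType (R := (W : Scheme.{u}).ringCatSheaf) N :=
    Groth.Agent.Lib.Helper23.FinType.isFiniteType_restrict W.ι (ddual F)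
  have hNc : Coh.IsCoh N := ⟨inferInstance, hNft⟩
  -- frames of the hull near the points of `U`
  have hgenE : ∀ x : X, x ∈ U →
      ∃ (W₁ : X.Opens) (e : Γ(ddual F, W₁)), x ∈ W₁ ∧ IsGen (ddual F) W₁ e :=
    fun x hx => exists_gen_ddual_of_gen F x (hgen x hx)
  -- stalks of `N` are reflexive
  have hstalk : ∀ y : (W : Scheme.{u}),
      Module.IsReflexive ((W : Scheme.{u}).presheaf.stalk y) (N.presheaf.stalk y) := by
    intro y
    haveI : IsDomain (X.presheaf.stalk (W.ι y)) :=
      (ringStalkEquiv W y).symm.toMulEquiv.isDomain _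
    haveI := isReflexive_stalk_ddual_of_isDomain F hF (W.ι y)
    exact isReflexive_stalk_restrict (ddual F) W y
  have h21 : (∀ y : (W : Scheme.{u}), RefHull.IsReflexiveAt N y) → RefHull.IsReflexive N :=
    ((Groth.Agent.S16080.result (W : Scheme.{u}) N hNc).out 1 0).mp
  have hNrefl : RefHull.IsReflexive N := h21 hstalk
  -- generic invertibility
  have hNgi : RefHull.GenInvertible N := by
    refine ⟨W.ι ⁻¹ᵁ U, ?_, ?_⟩
    · apply IsOpen.dense (W.ι ⁻¹ᵁ U).isOpen
      obtain ⟨z, hzW, hzU⟩ := hne
      exact ⟨⟨z, hzW⟩, hzU⟩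
    · apply isInvertible_restrict_of_gen
      intro y hy
      exact exists_gen_restrict_of_gen (ddual F) W y (hgenE (W.ι y) hy)
  refine isInvertible_of_isGen _ (fun y => ?_)
  by_cases hy : (W.ι y : X) ∈ U
  · exact exists_gen_restrict_of_gen (ddual F) W y (hgenE (W.ι y) hy)
  · haveI : UniqueFactorizationMonoid ((W : Scheme.{u}).presheaf.stalk y) := by
      haveI := hufd (W.ι y) y.2 hy
      exact (ringStalkEquiv W y).symm.toMulEquiv.uniqueFactorizationMonoid inferInstance
    haveI := hstalk y
    exact Groth.Agent.Lib.Seat55.Ref1Free.exists_gen_of_ufd N hNft hNrefl hNgi y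

/-- **extension of invertible modules across factorial points.** -/
theorem exists_invertible_extension (U : X.Opens) (L : (U : Scheme.{u}).Modules)
    (hL : PicF.IsInvertible L)
    (hufd : ∀ x : X, x ∉ U → UniqueFactorizationMonoid (X.presheaf.stalk x)) :
    ∃ L' : X.Modules, PicF.IsInvertible L' ∧ Nonempty (L'.restrict U.ι ≅ L) := by
  haveI hLq : L.IsQuasicoherent :=
    Groth.Agent.Lib.Helper20.WeakAss.isQuasicoherent_of_isInvertible L hL
  have hLft := Groth.Agent.Lib.Helper20.ZClosLib.isFiniteType_of_isInvertible L hL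
  haveI : ((Scheme.Modules.pushforward U.ι).obj L).IsQuasicoherent :=
    Groth.Agent.Lib.Helper23.QCohLocal.isQuasicoherent_pushforward U.ι L
  -- coherent extension inside `j_* L`
  let i₀ : L ⟶ ((Scheme.Modules.pushforward U.ι).obj L).restrict U.ι :=
    inv ((Scheme.Modules.restrictAdjunction U.ι).counit.app L)
  obtain ⟨F, i', e, hi', hFq, hFt, -⟩ := Groth.Agent.S2250.result (X := X)
    Groth.Agent.Lib.Seat55.ReflPush.locallyNoetherianSpace U
    ((Scheme.Modules.pushforward U.ι).obj L) L i₀ hLft
  have hF : Coh.IsCoh F := ⟨hFq, hFt⟩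
  haveI := hi'
  -- the open complement
  let V : X.Opens := ⟨interior ((U : Set X)ᶜ), isOpen_interior⟩
  have hUV : U ⊓ V = ⊥ := by
    ext z
    simp only [Opens.coe_inf, Opens.coe_bot, Set.mem_inter_iff, Set.mem_empty_iff_false,
      iff_false]
    rintro ⟨hzU, hzV⟩
    exact (interior_subset hzV) hzU
  let K : X.Modules := (Scheme.Modules.pushforward V.ι).obj (Coh.structureModule (V : Scheme.{u}))
  let E : X.Modules := ddual F
  -- frames of `F` near the points of `U`
  have hFU : PicF.IsInvertible (F.restrict U.ι) := isInvertible_of_iso e.symm hL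
  have hgen : ∀ x : X, x ∈ U → ∃ (W₁ : X.Opens) (e : Γ(F, W₁)), x ∈ W₁ ∧ IsGen F W₁ e :=
    fun x hx => exists_gen_of_isInvertible_restrict F U hFU x hx
  -- the restriction of the extension to `U`
  have hKU : IsZero (K.restrict U.ι) :=
    isZero_restrict_pushforward_of_disjoint V U (by rw [inf_comm]; exact hUV) _
  haveI := isIso_restrict_bidualMap_of_gen F U hgen
  let eU : (E ⊞ K).restrict U.ι ≅ L :=
    restrictBiprodIsoLeft E K U hKU ≪≫
      (asIso ((Scheme.Modules.restrictFunctor U.ι).map (bidualMap F))).symm ≪≫ e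
  refine ⟨E ⊞ K, ?_, ⟨eU⟩⟩
  apply isInvertible_of_restrict
  intro x
  by_cases hxU : x ∈ U
  · exact ⟨U, hxU, isInvertible_of_iso eU.symm hL⟩
  by_cases hxV : x ∈ V
  · refine ⟨V, hxV, ?_⟩
    have hEV : IsZero (E.restrict V.ι) :=
      isZero_restrict_ddual F hF V
        (fun z hz => subsingleton_stalk_of_mono_pushforward U V hUV L i' z hz)
    have eV : (E ⊞ K).restrict V.ι ≅ Coh.structureModule (V : Scheme.{u}) :=
      restrictBiprodIsoRight E K V hEV ≪≫
        asIso ((Scheme.Modules.restrictAdjunction V.ι).counit.app _)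
    exact isInvertible_of_iso eV.symm
      (Groth.Agent.Lib.Helper23.TensorUnit.isInvertible_structureModule _)
  · -- boundary points
    haveI : UniqueFactorizationMonoid (X.presheaf.stalk x) := hufd x hxU
    haveI : IsDomain (X.presheaf.stalk x) := IsDomain.mk
    obtain ⟨W, hxW, hWint⟩ := exists_isIntegral_nhd_of_isDomain_stalk x
    haveI := hWint
    refine ⟨W, hxW, ?_⟩
    have hxcl : x ∈ closure (U : Set X) := by
      by_contra hcl
      apply hxV
      change x ∈ interior ((U : Set X)ᶜ)
      rw [interior_compl]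
      exact hcl
    have hne : ((W ⊓ U : X.Opens) : Set X).Nonempty := by
      obtain ⟨z, hzW, hzU⟩ := mem_closure_iff.mp hxcl W W.isOpen hxW
      exact ⟨z, hzW, hzU⟩
    have hirr : IsPreirreducible (W : Set X) := by
      have h1 : PreirreducibleSpace ((W : Set X) : Type u) :=
        (inferInstance : IrreducibleSpace (W : Scheme.{u})).toPreirreducibleSpace
      exact isPreirreducible_iff_preirreducibleSpace.mpr h1
    have hWV : V ⊓ W = ⊥ := by
      ext z
      simp only [Opens.coe_inf, Opens.coe_bot, Set.mem_inter_iff, Set.mem_empty_iff_false,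
        iff_false]
      rintro ⟨hzV, hzW⟩
      obtain ⟨u, huW, huU⟩ := hne
      obtain ⟨w, -, hwU, hwV⟩ := hirr U V U.isOpen V.isOpen ⟨u, huW, huU⟩ ⟨z, hzW, hzV⟩
      have : w ∈ U ⊓ V := ⟨hwU, hwV⟩
      rw [hUV] at this
      exact this
    have hKW : IsZero (K.restrict W.ι) := isZero_restrict_pushforward_of_disjoint V W hWV _
    have hEW : PicF.IsInvertible (E.restrict W.ι) :=
      isInvertible_restrict_ddual_of_integral F hF U W hgen hne (fun z _ hzU => hufd z hzU)
    exact isInvertible_of_iso (restrictBiprodIsoLeft E K W hKW).symm hEW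

end Groth.Agent.Lib.Seat55.InvExt
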