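import Mathlib
import Groth.Prelude.Def_FlatCA
import Groth.Agent.Lib.Helper3SmDim
import Groth.Agent.Lib.Helper4FibDimA
import Groth.Agent.Lib.Helper7TopDim
import Groth.Agent.Lib.Helper20SuppBC
import Groth.Agent.Lib.Seat55DevBC

/-!
# One-step dévissage: fibre bases and the dimension drop (seat 55)

* `ringKrullDim_fiber_le_of_smoothRelDim`: the fibre rings of a ring map smooth of relative
  dimension `n` have dimension `≤ n`;
* `supportDim_fiberMod_lt`: if `pD` is prime and not in the support of the finite `D`-module `Q`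
  then the fibre module of `Q` over `p` has support of dimension `< n`;
* `le_supportDim_fiberMod`: transfer of the fibre support dimension from `(S, N)` to `(D, G)`;
* `exists_basis_map`: a map from a finite free module which is bijective over a residue field.
-/

set_option autoImplicit false
set_option linter.style.haveILetI false
set_option linter.unusedSectionVars false
universe u
open TensorProduct CategoryTheory AlgebraicGeometry

namespace Groth.Agent.Lib.Seat55.OneStep

open Groth.Agent.Lib.Helper4.FibDim Groth.Agent.Lib.Helper7.TopDim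

section FibreDim

variable {R D : Type u} [CommRing R] [CommRing D] [Algebra R D]

/-- local dimension of the fibres of a ring map smooth of relative dimension `n`. -/
theorem localDim_fiber_of_smoothRelDim (n : ℕ) (h : FlatCA.SmoothRelDim n R D)
    (q : PrimeSpectrum D) :
    FlatMor.localDim
      (PrimeSpectrum ((PrimeSpectrum.comap (algebraMap R D) q).asIdeal.Fiber D))
      (PrimeSpectrum.preimageHomeomorphFiber R D (PrimeSpectrum.comap (algebraMap R D) q)
        ⟨q, rfl⟩) = (n : WithBot ℕ∞) := by
  rw [← fibLD_comap_eq]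
  haveI : SmoothOfRelativeDimension n (Spec.map (CommRingCat.ofHom (algebraMap R D))) := h
  have h1 := Groth.Agent.Lib.Helper3.SmDim.fibreDimAt_eq_of_smoothOfRelativeDimension n
    (Spec.map (CommRingCat.ofHom (algebraMap R D))) q
  have h2 := fibreDimAt_eq_fibLD (Spec.map (CommRingCat.ofHom (algebraMap R D))) q
  exact h2.symm.trans h1

/-- the fibre rings of a ring map smooth of relative dimension `n` have dimension `≤ n`. -/
theorem ringKrullDim_fiber_le_of_smoothRelDim (n : ℕ) (h : FlatCA.SmoothRelDim n R D)
    (p : Ideal R) [hp : p.IsPrime] : ringKrullDim (p.Fiber D) ≤ (n : WithBot ℕ∞) := by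
  rw [← PrimeSpectrum.topologicalKrullDim_eq_ringKrullDim, topologicalKrullDim_eq_iSup_localDim]
  refine iSup_le fun Q => ?_
  obtain ⟨⟨q, hq⟩, rfl⟩ :=
    (PrimeSpectrum.preimageHomeomorphFiber R D ⟨p, hp⟩).surjective Q
  have hq' : PrimeSpectrum.comap (algebraMap R D) q = ⟨p, hp⟩ := hq
  obtain rfl : p = (PrimeSpectrum.comap (algebraMap R D) q).asIdeal := by rw [hq']
  exact (localDim_fiber_of_smoothRelDim n h q).le

end FibreDim


section Drop

variable {R D : Type u} [CommRing R] [CommRing D] [Algebra R D] (p : Ideal R) [p.IsPrime]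
  (Q : Type u) [AddCommGroup Q] [Module D Q] [Module R Q] [IsScalarTower R D Q]
  [Module.Finite D Q]

attribute [local instance] Algebra.TensorProduct.rightAlgebra

/-- if `pD` is prime and not in the support of `Q`, the fibre module of `Q` over `p` has support
of dimension less than the dimension of the fibre ring. -/
theorem supportDim_fiberMod_lt (n : ℕ) (hdim : ringKrullDim (p.Fiber D) ≤ (n : WithBot ℕ∞))
    [hP : (p.map (algebraMap R D)).IsPrime]
    (hQ : (⟨p.map (algebraMap R D), hP⟩ : PrimeSpectrum D) ∉ Module.support D Q) :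
    Module.supportDim (p.Fiber D) (FlatCA.fiberMod p D Q) < (n : WithBot ℕ∞) := by
  classical
  set P := p.map (algebraMap R D) with hPdef
  let e := PrimeSpectrum.primesOverOrderIsoFiber R D p
  have key : ∀ 𝔮 : PrimeSpectrum (p.Fiber D),
      𝔮 ∈ Module.support (p.Fiber D) (FlatCA.fiberMod p D Q) →
      P < ((e.symm 𝔮 : p.primesOver D) : Ideal D) := by
    intro 𝔮 h𝔮
    have h1 : 𝔮.comap (algebraMap D (p.Fiber D)) ∈ Module.support D Q :=
      Groth.Agent.Lib.Helper20.SuppBC.comap_mem_support_of_mem_support_baseChange 𝔮 h𝔮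
    have h2 : ((e.symm 𝔮 : p.primesOver D) : Ideal D) =
        (𝔮.comap (algebraMap D (p.Fiber D))).asIdeal := rfl
    have h3 : ((e.symm 𝔮 : p.primesOver D) : Ideal D).LiesOver p := (e.symm 𝔮).2.2
    refine lt_of_le_of_ne ?_ ?_
    · rw [hPdef, Ideal.map_le_iff_le_comap]
      exact h3.over.le
    · intro heq
      apply hQ
      have : (⟨P, hP⟩ : PrimeSpectrum D) = 𝔮.comap (algebraMap D (p.Fiber D)) :=
        PrimeSpectrum.ext (heq.trans h2)
      rw [this]
      exact h1
  by_cases hne : (Module.support (p.Fiber D) (FlatCA.fiberMod p D Q)).Nonempty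
  swap
  · rw [Module.supportDim]
    haveI : IsEmpty (Module.support (p.Fiber D) (FlatCA.fiberMod p D Q)) := by
      rw [Set.not_nonempty_iff_eq_empty] at hne
      rw [hne]
      infer_instance
    rw [Order.krullDim_eq_bot]
    exact WithBot.bot_lt_coe _
  obtain ⟨𝔮₀, h𝔮₀⟩ := hne
  have hPover : P.LiesOver p := by
    constructor
    apply le_antisymm
    · exact Ideal.le_comap_map
    · have hlt := key 𝔮₀ h𝔮₀
      have h3 : ((e.symm 𝔮₀ : p.primesOver D) : Ideal D).LiesOver p := (e.symm 𝔮₀).2.2
      conv_rhs => rw [h3.over]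
      exact Ideal.comap_mono hlt.le
  let ξ : PrimeSpectrum (p.Fiber D) := e ⟨P, hP, hPover⟩
  have hξ : ∀ 𝔮 ∈ Module.support (p.Fiber D) (FlatCA.fiberMod p D Q), ξ < 𝔮 := by
    intro 𝔮 h𝔮
    rw [← e.symm.lt_iff_lt, OrderIso.symm_apply_apply]
    exact key 𝔮 h𝔮
  have hlen : ∀ l : LTSeries (Module.support (p.Fiber D) (FlatCA.fiberMod p D Q)),
      l.length + 1 ≤ n := by
    intro l
    let l₁ : LTSeries (PrimeSpectrum (p.Fiber D)) := l.map Subtype.val (fun _ _ h => h)
    have hhead : l₁.head = l.head.1 := LTSeries.head_map l _ _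
    let l' : LTSeries (PrimeSpectrum (p.Fiber D)) := l₁.cons ξ (by
      show ξ < l₁.head
      rw [hhead]
      exact hξ _ l.head.2)
    have h1 : (l'.length : WithBot ℕ∞) ≤ ringKrullDim (p.Fiber D) :=
      Order.LTSeries.length_le_krullDim l'
    have h2 : l'.length = l.length + 1 := by
      calc l'.length = l₁.length + 1 := RelSeries.cons_length _ _ _
        _ = l.length + 1 := by rw [show l₁.length = l.length from LTSeries.map_length l _ _]
    have h3 := h1.trans hdim
    rw [h2] at h3
    exact_mod_cast h3
  have hn : 1 ≤ n := by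
    have := hlen (RelSeries.singleton _ ⟨𝔮₀, h𝔮₀⟩)
    simpa using this
  rw [Module.supportDim]
  calc Order.krullDim (Module.support (p.Fiber D) (FlatCA.fiberMod p D Q))
      ≤ ((n - 1 : ℕ) : WithBot ℕ∞) := by
        refine iSup_le fun l => ?_
        have := hlen l
        exact_mod_cast (by omega : l.length ≤ n - 1)
    _ < (n : WithBot ℕ∞) := by
        exact_mod_cast (by omega : n - 1 < n)

end Drop

section Transfer

variable {R S C D : Type u} [CommRing R] [CommRing S] [CommRing C] [CommRing D] [Algebra R S]
  [Algebra S C] [Algebra R C] [IsScalarTower R S C] [Algebra R D] [Algebra D C]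
  [IsScalarTower R D C] (p : Ideal R) [p.IsPrime]
  (N : Type u) [AddCommGroup N] [Module S N] [Module R N] [IsScalarTower R S N]
  [Module.Finite S N]
  (G : Type u) [AddCommGroup G] [Module C G] [Module S G] [IsScalarTower S C G]
  [Module D G] [IsScalarTower D C G] [Module R G] [IsScalarTower R D G]

/-- transfer of the dimension of the fibre support from `(S, N)` to `(D, G)`: `S → C` surjective,
`D → C` finite, `N ≅ G`. -/
theorem le_supportDim_fiberMod (e : N ≃ₗ[S] G) (hsurj : Function.Surjective (algebraMap S C))
    [Module.Finite D C] [Module.Finite C G] :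
    Module.supportDim (p.Fiber S) (FlatCA.fiberMod p S N) ≤
      Module.supportDim (p.Fiber D) (FlatCA.fiberMod p D G) := by
  let JC : Ideal C := Module.annihilator C G
  let f : S →ₐ[R] C ⧸ JC := (Ideal.Quotient.mkₐ R JC).comp (IsScalarTower.toAlgHom R S C)
  have hf : Function.Surjective f := (Ideal.Quotient.mkₐ_surjective R JC).comp hsurj
  have hker : RingHom.ker f = Module.annihilator S N := by
    ext s
    rw [RingHom.mem_ker, Module.mem_annihilator]
    change Ideal.Quotient.mk JC (algebraMap S C s) = 0 ↔ _
    rw [Ideal.Quotient.eq_zero_iff_mem, Module.mem_annihilator]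
    constructor
    · intro h x
      apply e.injective
      rw [map_smul, map_zero, ← algebraMap_smul C s (e x)]
      exact h _
    · intro h g
      rw [algebraMap_smul, ← e.apply_symm_apply g, ← map_smul, h, map_zero]
  have hS : Module.support S N = PrimeSpectrum.zeroLocus (RingHom.ker f : Ideal S) := by
    rw [hker]
    exact Module.support_eq_zeroLocus
  haveI : Module.Finite D G := Module.Finite.trans C G
  let JD : Ideal D := Module.annihilator D G
  have hD : Module.support D G = PrimeSpectrum.zeroLocus (JD : Set D) :=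
    Module.support_eq_zeroLocus
  rw [Groth.Agent.Lib.Seat55.DevBC.supportDim_fiberMod p S N _ hS,
    Groth.Agent.Lib.Seat55.DevBC.supportDim_fiberMod p D G _ hD]
  let eq1 : (S ⧸ RingHom.ker f) ≃ₐ[R] C ⧸ JC := Ideal.quotientKerAlgEquivOfSurjective hf
  rw [ringKrullDim_eq_of_ringEquiv (Algebra.TensorProduct.congr
    (AlgEquiv.refl : p.ResidueField ≃ₐ[R] p.ResidueField) eq1).toRingEquiv]
  have hle : JD ≤ JC.comap (algebraMap D C) := fun d hd => by
    rw [Ideal.mem_comap, Module.mem_annihilator]
    intro g
    rw [algebraMap_smul]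
    exact Module.mem_annihilator.1 hd g
  letI : Algebra (D ⧸ JD) (C ⧸ JC) := (Ideal.quotientMap JC (algebraMap D C) hle).toAlgebra
  haveI : IsScalarTower R (D ⧸ JD) (C ⧸ JC) := IsScalarTower.of_algebraMap_eq fun r => by
    change Ideal.Quotient.mk JC (algebraMap R C r) =
      Ideal.quotientMap JC (algebraMap D C) hle (Ideal.Quotient.mk JD (algebraMap R D r))
    rw [Ideal.quotientMap_mk, ← IsScalarTower.algebraMap_apply]
  haveI : IsScalarTower D (D ⧸ JD) (C ⧸ JC) := IsScalarTower.of_algebraMap_eq fun d => by
    change Ideal.Quotient.mk JC (algebraMap D C d) =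
      Ideal.quotientMap JC (algebraMap D C) hle (Ideal.Quotient.mk JD d)
    rw [Ideal.quotientMap_mk]
  haveI : Module.Finite D (C ⧸ JC) :=
    Module.Finite.of_surjective (Ideal.Quotient.mkₐ D JC).toLinearMap
      (Ideal.Quotient.mkₐ_surjective D JC)
  haveI : Module.Finite (D ⧸ JD) (C ⧸ JC) := Module.Finite.of_restrictScalars_finite D _ _
  exact ringKrullDim_fiber_le_of_quasiFinite (P := D ⧸ JD) (B := C ⧸ JC) p

end Transfer

section Basis

/-- a spanning set of a finite-dimensional vector space contains a basis indexed by `Fin r`. -/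
theorem exists_fin_basis_subset {K V : Type*} [Field K] [AddCommGroup V] [Module K V]
    [Module.Finite K V] (s : Set V) (hs : ⊤ ≤ Submodule.span K s) :
    ∃ (r : ℕ) (b : Module.Basis (Fin r) K V), ∀ i, b i ∈ s := by
  classical
  let b0 := Module.Basis.ofSpan hs
  haveI : Fintype _ := FiniteDimensional.fintypeBasisIndex b0
  refine ⟨_, b0.reindex (Fintype.equivFin _), fun i => ?_⟩
  apply Module.Basis.ofSpan_subset hs
  rw [Module.Basis.reindex_apply]
  exact Set.mem_range_self _

variable {D : Type u} [CommRing D] (G : Type u) [AddCommGroup G] [Module D G]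
  [Module.Finite D G] (P : Ideal D) [hP : P.IsPrime]

/-- a map from a finite free module to `G` which is bijective over `κ(P)`, for `P ∈ Supp G`. -/
theorem exists_basis_map (hPG : (⟨P, hP⟩ : PrimeSpectrum D) ∈ Module.support D G) :
    ∃ (r : ℕ) (α : (Fin r → D) →ₗ[D] G), 0 < r ∧
      Function.Bijective (α.baseChange P.ResidueField) := by
  classical
  haveI : Nontrivial (P.ResidueField ⊗[D] G) :=
    (Module.mem_support_iff_nontrivial_residueField_tensorProduct ⟨P, hP⟩).1 hPG
  let s : Set (P.ResidueField ⊗[D] G) := Set.range fun g : G => (1 : P.ResidueField) ⊗ₜ[D] g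
  have hs' : ∀ x : P.ResidueField ⊗[D] G, x ∈ Submodule.span P.ResidueField s := by
    intro x
    induction x using TensorProduct.induction_on with
    | zero => exact zero_mem _
    | tmul k g =>
      have : k ⊗ₜ[D] g = k • ((1 : P.ResidueField) ⊗ₜ[D] g) := by
        rw [TensorProduct.smul_tmul', smul_eq_mul, mul_one]
      rw [this]
      exact Submodule.smul_mem _ _ (Submodule.subset_span ⟨g, rfl⟩)
    | add x y hx hy => exact add_mem hx hy
  have hs : ⊤ ≤ Submodule.span P.ResidueField s := fun x _ => hs' x
  obtain ⟨r, b, hb'⟩ := exists_fin_basis_subset s hs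
  have hb : ∀ i, ∃ g : G, (1 : P.ResidueField) ⊗ₜ[D] g = b i := fun i => by
    obtain ⟨g, hg⟩ := hb' i
    exact ⟨g, hg⟩
  choose g hg using hb
  refine ⟨r, Fintype.linearCombination D g, Fin.pos_iff_nonempty.2 b.index_nonempty, ?_⟩
  let b' := (Pi.basisFun D (Fin r)).baseChange P.ResidueField
  have : (Fintype.linearCombination D g).baseChange P.ResidueField =
      (b'.equiv b (Equiv.refl _)).toLinearMap := by
    apply b'.ext
    intro i
    rw [LinearEquiv.coe_coe, Module.Basis.equiv_apply, Equiv.refl_apply,
      Module.Basis.baseChange_apply, LinearMap.baseChange_tmul, Pi.basisFun_apply, ← hg i,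
      Fintype.linearCombination_apply_single, one_smul]
  rw [this]
  exact (b'.equiv b (Equiv.refl _)).bijective

/-- the cokernel of a map which is surjective over `κ(P)` is not supported at `P`. -/
theorem not_mem_support_coker {r : ℕ} (α : (Fin r → D) →ₗ[D] G)
    (hα : Function.Surjective (α.baseChange P.ResidueField)) :
    (⟨P, hP⟩ : PrimeSpectrum D) ∉ Module.support D (G ⧸ LinearMap.range α) := by
  rw [Module.mem_support_iff_nontrivial_residueField_tensorProduct,
    not_nontrivial_iff_subsingleton]
  refine subsingleton_of_forall_eq 0 fun x => ?_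
  have hsurj : Function.Surjective ((LinearMap.range α).mkQ.baseChange P.ResidueField) := by
    rw [LinearMap.baseChange_eq_ltensor]
    exact LinearMap.lTensor_surjective _ (Submodule.mkQ_surjective _)
  obtain ⟨y, rfl⟩ := hsurj x
  obtain ⟨z, rfl⟩ := hα y
  rw [← LinearMap.comp_apply, ← LinearMap.baseChange_comp, LinearMap.range_mkQ_comp,
    LinearMap.baseChange_zero, LinearMap.zero_apply]

end Basis

end Groth.Agent.Lib.Seat55.OneStep
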