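import Mathlib
import Groth.Prelude.Def_DCoh3
import Groth.Prelude.Def_CxOX
import Groth.Agent.Lib.Seat0PerfLocal
import Groth.Agent.Lib.Helper1FLF1

/-!
# Perfect objects are locally bounded complexes of finite free modules (Seat55)

* `isZero_freeMod_zero`, `isFinLocFree_freeMod`, `isFinLocFree_of_iso_freeMod`;
* `exists_open_free_terms`: the terms of a strictly perfect complex are simultaneously free near
  a point;
* `FRep j K`: `K` restricted along `j` is a bounded complex of finite free modules;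
* `isPerfect_iff_frep`.
-/

set_option autoImplicit false
universe u
open CategoryTheory CategoryTheory.Limits AlgebraicGeometry
attribute [local instance] HasDerivedCategory.standard

namespace Groth.Agent.Lib.Seat55.PerfFree

open DerivedCategory Groth.Agent.Lib.Seat0.LocLift Groth.Agent.Lib.Seat0.PerfLocal
  Groth.Agent.Lib.Helper1.FLF Groth.Agent.Lib.Helper20.LocFree

variable {X : Scheme.{u}}

/-- the free module of rank zero is zero -/
lemma isZero_freeMod_zero (W : Scheme.{u}) : IsZero (FlatMod.freeMod W 0) :=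
  (IsZero.iff_id_eq_zero _).2 (Sigma.hom_ext _ _ fun i => i.elim0)

/-- a free module of finite rank is finite locally free -/
lemma isFinLocFree_freeMod (W : Scheme.{u}) (n : ℕ) : FlatMod.IsFinLocFree (FlatMod.freeMod W n) :=
  fun _ => ⟨⊤, n, trivial, ⟨Helper20.LocFree.restrictFreeMod (⊤ : W.Opens).ι n⟩⟩

lemma isFinLocFree_of_iso_freeMod {W : Scheme.{u}} {M : W.Modules} {n : ℕ}
    (e : M ≅ FlatMod.freeMod W n) : FlatMod.IsFinLocFree M :=
  isFinLocFree_of_iso e.symm (isFinLocFree_freeMod W n)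

/-- the terms of a strictly perfect complex are simultaneously free near a point -/
lemma exists_open_free_terms {W : Scheme.{u}} (E : CochainComplex W.Modules ℤ)
    (hE : DCoh.IsStrictlyPerfect E) (w : W) :
    ∃ U : W.Opens, w ∈ U ∧
      ∀ i : ℤ, ∃ n : ℕ, Nonempty ((E.X i).restrict U.ι ≅ FlatMod.freeMod (↑U) n) := by
  obtain ⟨⟨a, b, hv⟩, hf⟩ := hE
  have : Finite (Set.Icc a b) := (Set.finite_Icc a b).to_subtype
  obtain ⟨U, n, hw, e⟩ := exists_common_open (fun j : Set.Icc a b => E.X j.1) (fun j => hf j.1) w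
  refine ⟨U, hw, fun i => ?_⟩
  by_cases hi : a ≤ i ∧ i ≤ b
  · exact ⟨n ⟨i, hi⟩, e ⟨i, hi⟩⟩
  · have hz : IsZero (E.X i) := hv i (by omega)
    exact ⟨0, ⟨((Scheme.Modules.restrictFunctor U.ι).map_isZero hz).iso (isZero_freeMod_zero _)⟩⟩

/-- a bounded complex of finite free modules -/
def IsBddFree {W : Scheme.{u}} (P : CochainComplex W.Modules ℤ) : Prop :=
  ∃ a b : ℤ, DCoh.VanishesOutside P a b ∧
    ∀ i : ℤ, ∃ n : ℕ, Nonempty (P.X i ≅ FlatMod.freeMod W n)

lemma IsBddFree.isStrictlyPerfect {W : Scheme.{u}} {P : CochainComplex W.Modules ℤ}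
    (h : IsBddFree P) : DCoh.IsStrictlyPerfect P := by
  obtain ⟨a, b, hv, hf⟩ := h
  refine ⟨⟨a, b, hv⟩, fun i => ?_⟩
  obtain ⟨n, ⟨e⟩⟩ := hf i
  exact isFinLocFree_of_iso_freeMod e

/-- restriction of `restrictD` along equal open immersions -/
noncomputable def rdCongrIso {W : Scheme.{u}} {j j' : W ⟶ X} [IsOpenImmersion j]
    [IsOpenImmersion j'] (e : j = j') (K : DCoh.D X) :
    (DCoh.restrictD j).obj K ≅ (DCoh.restrictD j').obj K := by
  subst e
  exact Iso.refl _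

/-- shrinking a strictly perfect representative to a bounded finite free one -/
theorem exists_bddFree_of_sprep {V : X.Opens} {K : DCoh.D X} (h : SPRep V.ι K) (x : X)
    (hx : x ∈ V) :
    ∃ V' : X.Opens, x ∈ V' ∧ ∃ P : CochainComplex (V' : Scheme.{u}).Modules ℤ,
      IsBddFree P ∧ Nonempty ((DCoh.restrictD V'.ι).obj K ≅ Q.obj P) := by
  obtain ⟨E, hE, ⟨e⟩⟩ := h
  obtain ⟨U, hwU, hU⟩ := exists_open_free_terms E hE (⟨x, hx⟩ : (V : Scheme.{u}))
  let j' : (U : Scheme.{u}) ⟶ X := U.ι ≫ V.ι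
  let V' : X.Opens := j'.opensRange
  let i : (U : Scheme.{u}) ≅ (V' : Scheme.{u}) := IsOpenImmersion.isoOfRangeEq j' V'.ι (by
    simp only [V', Scheme.Opens.range_ι, Scheme.Hom.coe_opensRange])
  have hfac : i.inv ≫ j' = V'.ι := IsOpenImmersion.isoOfRangeEq_inv_fac _ _ _
  let j₁ : (V' : Scheme.{u}) ⟶ (V : Scheme.{u}) := i.inv ≫ U.ι
  have hfac' : V'.ι = j₁ ≫ V.ι := by rw [← hfac, Category.assoc]
  obtain ⟨⟨a, b, hv⟩, -⟩ := hE
  refine ⟨V', ⟨⟨⟨x, hx⟩, hwU⟩, rfl⟩, (Rc j₁).obj E, ⟨a, b, ?_, fun k => ?_⟩, ⟨?_⟩⟩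
  · exact fun k hk => (Scheme.Modules.restrictFunctor j₁).map_isZero (hv k hk)
  · obtain ⟨n, ⟨ek⟩⟩ := hU k
    exact ⟨n, ⟨(Scheme.Modules.restrictFunctorComp i.inv U.ι).app (E.X k) ≪≫
      (Scheme.Modules.restrictFunctor i.inv).mapIso ek ≪≫ Helper20.LocFree.restrictFreeMod i.inv n⟩⟩
  · exact rdCongrIso hfac' K ≪≫ rdCompObjIso j₁ V.ι K ≪≫ (DCoh.restrictD j₁).mapIso e ≪≫
      rdQIso j₁ E

end Groth.Agent.Lib.Seat55.PerfFree
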