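import Mathlib
import Groth.Agent.Lib.Helper20ZClos17
import Groth.Agent.Lib.Helper5RLR3
import Groth.Agent.Lib.Seat55ReflHull
import Groth.Agent.Lib.Seat55ReflSch

/-!
# Normal (Z-closed for codimension two) coherent modules and reflexivity (helper55)

Tools for S16489: on a regular integral locally Noetherian scheme a coherent module is reflexive iff
it is torsion-free and normal.
-/

set_option autoImplicit false
set_option linter.style.haveILetI false
set_option linter.unusedSectionVars false
universe u
open CategoryTheory Limits AlgebraicGeometry TopologicalSpace Opposite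

namespace Groth.Agent.Lib.Seat55.ReflNormal

open Groth.Agent.Lib.Helper20.ZClosLib

section Top

variable {X : Scheme.{u}} (Z : Set X) (F : X.Modules)

/-- on a locally Noetherian scheme the closure of a relatively closed subset of an open, contained
in a specialization-stable set `Z`, stays in `Z`. -/
theorem closure_diff_subset [IsLocallyNoetherian X] (hZ : StableUnderSpecialization Z)
    (W O : X.Opens) (h : (W : Set X) \ (O : Set X) ⊆ Z) :
    closure ((W : Set X) \ (O : Set X)) ⊆ Z := by
  intro y hy
  obtain ⟨_, ⟨A, hA, rfl⟩, hyA, -⟩ :=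
    X.isBasis_affineOpens.exists_subset_of_mem_open (Set.mem_univ y) isOpen_univ
  haveI : IsNoetherianRing Γ(X, A) := IsLocallyNoetherian.component_noetherian ⟨A, hA⟩
  have hN : NoetherianSpace ((A : Set X) : Type u) := noetherianSpace_of_isAffineOpen A hA
  have hQ : QuasiSober ((A : Set X) : Type u) := A.isOpen.isOpenEmbedding_subtypeVal.quasiSober
  have hK : IsClosed ((O : Set X)ᶜ) := O.isOpen.isClosed_compl
  have hS : (O : Set X)ᶜ ∩ (A : Set X) ∩ (W : Set X) ⊆ Z := by
    rintro z ⟨⟨hzO, -⟩, hzW⟩
    exact h ⟨hzW, hzO⟩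
  have hcl := @closure_subset_of_stableUnderSpecialization _ _ _ hZ A hN hQ W _ hK hS
  apply hcl
  rw [mem_closure_iff] at hy ⊢
  intro o ho hyo
  obtain ⟨z, ⟨hzo, hzA⟩, hzW, hzO⟩ := hy (o ∩ A) (ho.inter A.isOpen) ⟨hyo, hyA⟩
  exact ⟨z, hzo, ⟨hzO, hzA⟩, hzW⟩

/-- every open `O ≤ W` with `W ∖ O ⊆ Z` is `W ∖ T` for a closed `T ⊆ Z` (no affineness needed). -/
theorem exists_cl_inf_eq_of_open [IsLocallyNoetherian X] (hZ : StableUnderSpecialization Z)
    (W O : X.Opens) (hO : O ≤ W) (h : (W : Set X) \ (O : Set X) ⊆ Z) :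
    ∃ T : ZClos.Cl Z, W ⊓ T.U = O := by
  refine ⟨⟨⟨closure ((W : Set X) \ (O : Set X)), isClosed_closure⟩,
    closure_diff_subset Z hZ W O h⟩, ?_⟩
  ext y
  constructor
  · rintro ⟨hyW, hyT⟩
    by_contra hyO
    exact hyT (subset_closure ⟨hyW, hyO⟩)
  · intro hyO
    refine ⟨hO hyO, ?_⟩
    intro hyT
    have hyT' : y ∈ closure ((W : Set X) \ (O : Set X)) := hyT
    rw [mem_closure_iff] at hyT'
    obtain ⟨z, hzO, -, hzO'⟩ := hyT' O O.isOpen hyO
    exact hzO' hzO

/-- if `F` is `Z`-closed at every point of an arbitrary open `W`, it is `ClosedOn` `W`. -/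
theorem closedOn_of_forall_isZClosedAt_of_open [IsLocallyNoetherian X] [F.IsQuasicoherent]
    (hZ : StableUnderSpecialization Z) (W : X.Opens)
    (h : ∀ x ∈ W, ZClos.IsZClosedAt Z F x) : ClosedOn Z F W := by
  intro O hO hOZ
  obtain ⟨T, hT⟩ := exists_cl_inf_eq_of_open Z hZ W O hO hOZ
  have h1 : Function.Bijective ((ZClos.toDiagram Z F T).app W) := by
    let F' : TopCat.Sheaf AddCommGrpCat.{u} X.carrier := ⟨F.presheaf, F.isSheaf⟩
    let G' : TopCat.Sheaf AddCommGrpCat.{u} X.carrier :=
      ⟨((D Z F).obj T).presheaf, ((D Z F).obj T).isSheaf⟩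
    let f' : F' ⟶ G' := ⟨Scheme.Modules.Hom.mapPresheaf (ZClos.toDiagram Z F T)⟩
    exact TopCat.Presheaf.app_bijective_of_stalkFunctor_map_bijective f' W
      (fun x hx => υx_bijective_of_isZClosedAt Z F hZ x (h x hx) T)
  rw [toDiagram_app_bijective_iff] at h1
  exact (bijective_map_congr F hT rfl _ _).mp h1

/-- `ClosedOn` all opens implies `Z`-closed. -/
theorem isZClosed_of_forall_closedOn (h : ∀ W : X.Opens, ClosedOn Z F W) : ZClos.IsZClosed Z F := by
  refine isZClosed_of_closedOn Z F (fun W : X.affineOpens => (W : X.Opens)) ?_ (fun W => h _)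
  have : Set.range (fun W : X.affineOpens => (W : X.Opens)) = X.affineOpens := Subtype.range_coe
  rw [this]
  exact X.isBasis_affineOpens

end Top

section Alg

variable (R : Type u) [CommRing R]

/-- a regular local ring of dimension at least two has depth at least two. -/
theorem two_le_depth_of_isRegularLocalRing [IsRegularLocalRing R]
    (h : (2 : WithBot ℕ∞) ≤ ringKrullDim R) : (2 : ℕ∞) ≤ LocCoh.depth R R := by
  have hcm := Groth.Agent.Lib.Helper5.isCohenMacaulayLocalRing_of_isRegularLocalRing R
  have h1 := hcm.supportDim_eq_depth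
  rw [Module.supportDim_self_eq_ringKrullDim] at h1
  rw [h1] at h
  have h' : ((2 : ℕ∞) : WithBot ℕ∞) ≤ ((LocCoh.depth R R : ℕ∞) : WithBot ℕ∞) := h
  exact WithBot.coe_le_coe.mp h'

/-- a regular local domain of dimension at most one is a principal ideal ring. -/
theorem isPrincipalIdealRing_of_isRegularLocalRing [IsRegularLocalRing R] [IsDomain R]
    (h : ringKrullDim R ≤ 1) : IsPrincipalIdealRing R := by
  have h1 := (IsRegularLocalRing.iff_finrank_cotangentSpace R).mp inferInstance
  have h2 : Module.finrank (IsLocalRing.ResidueField R) (IsLocalRing.CotangentSpace R) ≤ 1 := by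
    rw [← h1] at h
    exact_mod_cast h
  exact ((tfae_of_isNoetherianRing_of_isLocalRing_of_isDomain R).out 5 0).mp h2

/-- finite torsion-free modules over a regular local domain of dimension at most one are free. -/
theorem free_of_isTorsionFree_of_isRegularLocalRing [IsRegularLocalRing R] [IsDomain R]
    (h : ringKrullDim R ≤ 1) (M : Type u) [AddCommGroup M] [Module R M] [Module.Finite R M]
    [Module.IsTorsionFree R M] : Module.Free R M := by
  haveI := isPrincipalIdealRing_of_isRegularLocalRing R h
  exact Module.free_of_finite_type_torsion_free'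

/-- a reflexive module over a domain is torsion-free. -/
theorem isTorsionFree_of_isReflexive [IsDomain R] (M : Type u) [AddCommGroup M] [Module R M]
    [Module.IsReflexive R M] : Module.IsTorsionFree R M := by
  haveI : Module.IsTorsionFree R (Module.Dual R (Module.Dual R M)) := inferInstance
  exact Function.Injective.moduleIsTorsionFree (Module.Dual.eval R M)
    (Module.bijective_dual_eval R M).injective (fun r m => map_smul _ r m)

end Alg

end Groth.Agent.Lib.Seat55.ReflNormal
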