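import Mathlib
import Groth.Agent.Lib.Helper23StalkLin
import Groth.Agent.Lib.Seat55ReflNormal

/-!
# Normality of kernels (helper55)

Tools for S16490: a coherent submodule of a reflexive module with torsion-free quotient is normal.
-/

set_option autoImplicit false
set_option linter.style.haveILetI false
set_option linter.unusedSectionVars false
universe u
open CategoryTheory Limits AlgebraicGeometry TopologicalSpace Opposite

namespace Groth.Agent.Lib.Seat55.ReflNormal

open Groth.Agent.Lib.Helper20.ZClosLib Groth.Agent.Lib.Helper28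

section Alg

variable (R : Type u) [CommRing R] [IsLocalRing R] [IsNoetherianRing R] [IsDomain R]

/-- a finite torsion-free module over a Noetherian local domain of positive dimension has depth
at least one. -/
theorem one_le_depth_of_isTorsionFree (h : (1 : WithBot ℕ∞) ≤ ringKrullDim R)
    (M : Type u) [AddCommGroup M] [Module R M] [Module.Finite R M] [Module.IsTorsionFree R M] :
    (1 : ℕ∞) ≤ LocCoh.depth R M := by
  unfold LocCoh.depth
  by_cases hIM : IsLocalRing.maximalIdeal R • (⊤ : Submodule R M) = ⊤
  · rw [idealDepth_eq_top_of_smul_top_eq_top _ _ hIM]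
    exact le_top
  · rw [one_le_idealDepth_iff hIM]
    have hnf : ¬ IsField R := by
      intro hf
      have := ringKrullDim_eq_zero_of_isField hf
      rw [this] at h
      exact absurd h (by decide)
    have hne : IsLocalRing.maximalIdeal R ≠ ⊥ := by
      intro hbot
      exact hnf (IsLocalRing.isField_iff_maximalIdeal_eq.mpr hbot)
    obtain ⟨a, ha, ha0⟩ := Submodule.exists_mem_ne_zero_of_ne_bot hne
    refine ⟨a, ha, ?_⟩
    exact Module.IsTorsionFree.isSMulRegular (IsRegular.of_ne_zero ha0)

/-- depth lemma for a kernel: depth of the middle `≥ 2`, quotient torsion-free. -/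
theorem two_le_depth_of_exact (h : (1 : WithBot ℕ∞) ≤ ringKrullDim R)
    {N' N N'' : Type u} [AddCommGroup N'] [Module R N'] [AddCommGroup N] [Module R N]
    [AddCommGroup N''] [Module R N''] [Module.Finite R N'] [Module.Finite R N]
    [Module.Finite R N''] [Module.IsTorsionFree R N'']
    (f : N' →ₗ[R] N) (g : N →ₗ[R] N'') (hf : Function.Injective f)
    (hg : Function.Surjective g) (hfg : Function.Exact f g)
    (h2 : (2 : ℕ∞) ≤ LocCoh.depth R N) : (2 : ℕ∞) ≤ LocCoh.depth R N' := by
  have h1 := one_le_depth_of_isTorsionFree R h N''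
  have h3 := min_idealDepth_le_left (IsLocalRing.maximalIdeal R) f g hf hg hfg
  unfold LocCoh.depth at h1 h2 ⊢
  refine le_trans (le_min h2 ?_) h3
  calc (2 : ℕ∞) = 1 + 1 := by norm_num
    _ ≤ _ := by gcongr

end Alg

end Groth.Agent.Lib.Seat55.ReflNormal
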