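/-
Seat55ShrinkCore: the standard shrinking of a one-step devissage, in the concrete form with
`Localization.Away` and `LocalizedModule` (assembly of `Seat55Shrink.shrink` with the existence
ingredients of `Seat55ShrinkEx`).  `core` takes `u` outside `q`, `w` outside `y` and a
divisibility `u | w^k` in `C`, and shrinks to `R[1/g]`, `S[1/hX]`, `C[1/hZ]`, `D[1/(w g)]`
with `u` invertible in `S[1/hX]`.
-/
import Mathlib
import Groth.Prelude.Def_FlatCA
import Groth.Agent.Lib.Seat55Shrink
import Groth.Agent.Lib.Seat55ShrinkEx

set_option autoImplicit false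
set_option linter.style.haveILetI false
set_option linter.unusedSectionVars false
universe u
open TensorProduct Topology CategoryTheory AlgebraicGeometry
open Groth.Agent.Lib.Seat55.ShrinkEx Groth.Agent.Lib.Seat55.Shrink

namespace Groth.Agent.Lib.Seat55.ShrinkCore

set_option maxHeartbeats 1600000 in
theorem core
    (R S : Type u) [CommRing R] [CommRing S] [Algebra R S] [Algebra.FiniteType R S]
    (N : Type u) [AddCommGroup N] [Module S N] [Module R N] [IsScalarTower R S N] [Module.Finite S N]
    (p : Ideal R) [p.IsPrime] (q : Ideal S) [q.IsPrime] [q.LiesOver p]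
    (C D G : Type u) [CommRing C] [CommRing D] [Algebra S C] [Algebra R C] [IsScalarTower R S C]
    [Algebra R D] [Algebra D C] [IsScalarTower R D C] [AddCommGroup G] [Module C G] [Module S G]
    [IsScalarTower S C G] (n : ℕ)
    (h : FlatCA.IsOneStepDevissage R S N p C D G n)
    (z : Ideal C) [z.IsPrime] (y : Ideal D) [y.IsPrime] [hzq : z.LiesOver q] [hzy : z.LiesOver y]
    [hyp : y.LiesOver p]
    (h1 : ∃ (ξ : PrimeSpectrum (p.Fiber S)) (hξ : ξ ∈ Module.support (p.Fiber S) (FlatCA.fiberMod p S N)),
      ξ.asIdeal = FlatCA.fiberIdeal p q ∧
      FlatMor.localDim (Module.support (p.Fiber S) (FlatCA.fiberMod p S N)) ⟨ξ, hξ⟩ = n)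
    (h3 : ∀ (z₁ : Ideal C) [z₁.IsPrime], z₁.LiesOver y → z₁ = z)
    (h4 : FlatCA.PurelyTranscendental p y)
    (u : S) (hu : u ∉ q) (w : D) (hw : w ∉ y)
    (hdiv : ∃ k : ℕ, algebraMap S C u ∣ algebraMap D C w ^ k) :
    ∃ (g : R) (hX : S) (hZ : C), g ∉ p ∧ hX ∉ q ∧ hZ ∉ z ∧ (w * algebraMap R D g) ∉ y ∧
      IsUnit (algebraMap S (Localization.Away hX) u) ∧
      ∃ (_ : Algebra (Localization.Away g) (Localization.Away hX)) (_ : IsScalarTower R (Localization.Away g) (Localization.Away hX))
        (_ : Algebra (Localization.Away g) (Localization.Away hZ)) (_ : IsScalarTower R (Localization.Away g) (Localization.Away hZ))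
        (_ : Algebra (Localization.Away g) (Localization.Away (w * algebraMap R D g))) (_ : IsScalarTower R (Localization.Away g) (Localization.Away (w * algebraMap R D g)))
        (_ : Algebra (Localization.Away hX) (Localization.Away hZ)) (_ : IsScalarTower S (Localization.Away hX) (Localization.Away hZ))
        (_ : IsScalarTower (Localization.Away g) (Localization.Away hX) (Localization.Away hZ))
        (_ : Algebra (Localization.Away (w * algebraMap R D g)) (Localization.Away hZ)) (_ : IsScalarTower D (Localization.Away (w * algebraMap R D g)) (Localization.Away hZ))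
        (_ : IsScalarTower (Localization.Away g) (Localization.Away (w * algebraMap R D g)) (Localization.Away hZ))
        (_ : Module (Localization.Away g) (LocalizedModule (Submonoid.powers hX) N)) (_ : IsScalarTower (Localization.Away g) (Localization.Away hX) (LocalizedModule (Submonoid.powers hX) N))
        (_ : Module (Localization.Away hX) (LocalizedModule (Submonoid.powers hZ) G)) (_ : IsScalarTower (Localization.Away hX) (Localization.Away hZ) (LocalizedModule (Submonoid.powers hZ) G))
        (_ : (Ideal.map (algebraMap R (Localization.Away g)) p).IsPrime) (_ : (Ideal.map (algebraMap D (Localization.Away (w * algebraMap R D g))) y).IsPrime) (_ : (Ideal.map (algebraMap D (Localization.Away (w * algebraMap R D g))) y).LiesOver (Ideal.map (algebraMap R (Localization.Away g)) p)),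
        FlatCA.IsOneStepDevissage (Localization.Away g) (Localization.Away hX) (LocalizedModule (Submonoid.powers hX) N) (Ideal.map (algebraMap R (Localization.Away g)) p) (Localization.Away hZ) (Localization.Away (w * algebraMap R D g)) (LocalizedModule (Submonoid.powers hZ) G) n ∧
        (∃ (ξ : PrimeSpectrum ((Ideal.map (algebraMap R (Localization.Away g)) p).Fiber (Localization.Away hX)))
            (hξ : ξ ∈ Module.support ((Ideal.map (algebraMap R (Localization.Away g)) p).Fiber (Localization.Away hX)) (FlatCA.fiberMod (Ideal.map (algebraMap R (Localization.Away g)) p) (Localization.Away hX) (LocalizedModule (Submonoid.powers hX) N))),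
          ξ.asIdeal = FlatCA.fiberIdeal (Ideal.map (algebraMap R (Localization.Away g)) p) (Ideal.map (algebraMap S (Localization.Away hX)) q) ∧
          FlatMor.localDim (Module.support ((Ideal.map (algebraMap R (Localization.Away g)) p).Fiber (Localization.Away hX)) (FlatCA.fiberMod (Ideal.map (algebraMap R (Localization.Away g)) p) (Localization.Away hX) (LocalizedModule (Submonoid.powers hX) N))) ⟨ξ, hξ⟩ = n) ∧
        (Ideal.map (algebraMap C (Localization.Away hZ)) z).LiesOver (Ideal.map (algebraMap S (Localization.Away hX)) q) ∧ (Ideal.map (algebraMap C (Localization.Away hZ)) z).LiesOver (Ideal.map (algebraMap D (Localization.Away (w * algebraMap R D g))) y) ∧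
        (∀ (z₂ : Ideal (Localization.Away hZ)) [z₂.IsPrime], z₂.LiesOver (Ideal.map (algebraMap D (Localization.Away (w * algebraMap R D g))) y) → z₂ = Ideal.map (algebraMap C (Localization.Away hZ)) z) ∧
        FlatCA.PurelyTranscendental (Ideal.map (algebraMap R (Localization.Away g)) p) (Ideal.map (algebraMap D (Localization.Away (w * algebraMap R D g))) y) := by
  have hsurjSC : Function.Surjective (algebraMap S C) := h.2.1
  haveI hfinDC : Module.Finite D C := h.2.2.2.1
  have hsm : FlatCA.SmoothRelDim n R D := h.2.2.2.2.2.1
  obtain ⟨g, hg, himg⟩ := exists_basicOpen_subset_image n hsm p y w hw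
  obtain ⟨s₀, hs₀⟩ := hsurjSC (algebraMap D C w)
  obtain ⟨k, hk⟩ := hdiv
  -- the three elements
  set hX : S := u * s₀ * algebraMap R S g with hXdef
  set hZ : C := algebraMap S C hX with hZdef
  set hY : D := w * algebraMap R D g with hYdef
  have hZeq : hZ = algebraMap S C u * algebraMap D C hY := by
    rw [hZdef, hXdef, hYdef, map_mul, map_mul, map_mul, hs₀, mul_assoc,
      ← IsScalarTower.algebraMap_apply R S C, ← IsScalarTower.algebraMap_apply R D C]
  have hgy : algebraMap R D g ∉ y := by
    intro hmem
    apply hg
    rw [hyp.over]
    exact hmem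
  have hhY : hY ∉ y := fun hmem => (‹y.IsPrime›.mem_or_mem hmem).elim hw hgy
  have hYz : algebraMap D C hY ∉ z := by
    intro hmem
    apply hhY
    rw [hzy.over]
    exact hmem
  have huz : algebraMap S C u ∉ z := by
    intro hmem
    apply hu
    rw [hzq.over]
    exact hmem
  have hhZ : hZ ∉ z := by
    rw [hZeq]
    exact fun hmem => (‹z.IsPrime›.mem_or_mem hmem).elim huz hYz
  have hhX : hX ∉ q := by
    intro hmem
    apply hhZ
    have : hX ∈ z.under S := by
      rw [← hzq.over]; exact hmem
    exact this
  -- units in the localizations
  have hXu : IsUnit (algebraMap S (Localization.Away hX) hX) :=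
    IsLocalization.Away.algebraMap_isUnit hX
  have huX : IsUnit (algebraMap S (Localization.Away hX) u) :=
    isUnit_of_dvd_away hX u ⟨s₀ * algebraMap R S g, by rw [hXdef, mul_assoc]⟩
  have hgX : IsUnit (algebraMap R (Localization.Away hX) g) := by
    rw [IsScalarTower.algebraMap_apply R S (Localization.Away hX)]
    exact isUnit_of_dvd_away hX _ ⟨u * s₀, by rw [hXdef, mul_comm]⟩
  have hXZ : IsUnit (algebraMap S (Localization.Away hZ) hX) := by
    rw [IsScalarTower.algebraMap_apply S C (Localization.Away hZ)]
    exact IsLocalization.Away.algebraMap_isUnit hZ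
  have hgZ : IsUnit (algebraMap R (Localization.Away hZ) g) := by
    rw [IsScalarTower.algebraMap_apply R S (Localization.Away hZ)]
    exact isUnit_of_dvd_unit (map_dvd _ ⟨u * s₀, by rw [hXdef, mul_comm]⟩) hXZ
  have hgY : IsUnit (algebraMap R (Localization.Away hY) g) := by
    rw [IsScalarTower.algebraMap_apply R D (Localization.Away hY)]
    exact isUnit_of_dvd_away hY _ ⟨w, by rw [hYdef, mul_comm]⟩
  have hYZ : IsUnit (algebraMap D (Localization.Away hZ) hY) := by
    rw [IsScalarTower.algebraMap_apply D C (Localization.Away hZ)]
    exact isUnit_of_dvd_away hZ _ ⟨algebraMap S C u, by rw [hZeq, mul_comm]⟩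
  -- algebra structures
  letI aRS : Algebra (Localization.Away g) (Localization.Away hX) := awayAlg g _ hgX
  haveI tRS : IsScalarTower R (Localization.Away g) (Localization.Away hX) := awayAlg_tower g _ hgX
  letI aRC : Algebra (Localization.Away g) (Localization.Away hZ) := awayAlg g _ hgZ
  haveI tRC : IsScalarTower R (Localization.Away g) (Localization.Away hZ) := awayAlg_tower g _ hgZ
  letI aRD : Algebra (Localization.Away g) (Localization.Away hY) := awayAlg g _ hgY
  haveI tRD : IsScalarTower R (Localization.Away g) (Localization.Away hY) := awayAlg_tower g _ hgY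
  letI aSC : Algebra (Localization.Away hX) (Localization.Away hZ) := awayAlg hX _ hXZ
  haveI tSC : IsScalarTower S (Localization.Away hX) (Localization.Away hZ) := awayAlg_tower hX _ hXZ
  letI aDC : Algebra (Localization.Away hY) (Localization.Away hZ) := awayAlg hY _ hYZ
  haveI tDC : IsScalarTower D (Localization.Away hY) (Localization.Away hZ) := awayAlg_tower hY _ hYZ
  haveI tRSC' : IsScalarTower R (Localization.Away hX) (Localization.Away hZ) := by
    refine IsScalarTower.of_algebraMap_eq fun r => ?_
    rw [IsScalarTower.algebraMap_apply R S (Localization.Away hX),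
      ← IsScalarTower.algebraMap_apply S (Localization.Away hX) (Localization.Away hZ),
      ← IsScalarTower.algebraMap_apply R S (Localization.Away hZ)]
  haveI tRDC' : IsScalarTower R (Localization.Away hY) (Localization.Away hZ) := by
    refine IsScalarTower.of_algebraMap_eq fun r => ?_
    rw [IsScalarTower.algebraMap_apply R D (Localization.Away hY),
      ← IsScalarTower.algebraMap_apply D (Localization.Away hY) (Localization.Away hZ),
      IsScalarTower.algebraMap_apply R C (Localization.Away hZ),
      IsScalarTower.algebraMap_apply D C (Localization.Away hZ),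
      ← IsScalarTower.algebraMap_apply R D C]
  haveI tRSC : IsScalarTower (Localization.Away g) (Localization.Away hX) (Localization.Away hZ) :=
    awayAlg_tower3 g (Localization.Away hX) (Localization.Away hZ) hgX hgZ
  haveI tRDC : IsScalarTower (Localization.Away g) (Localization.Away hY) (Localization.Away hZ) :=
    awayAlg_tower3 g (Localization.Away hY) (Localization.Away hZ) hgY hgZ
  -- module structures
  letI mRN : Module (Localization.Away g) (LocalizedModule (Submonoid.powers hX) N) :=
    Module.compHom _ (algebraMap (Localization.Away g) (Localization.Away hX))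
  haveI tRN : IsScalarTower (Localization.Away g) (Localization.Away hX)
      (LocalizedModule (Submonoid.powers hX) N) :=
    IsScalarTower.of_algebraMap_smul fun _ _ => rfl
  letI mSG : Module (Localization.Away hX) (LocalizedModule (Submonoid.powers hZ) G) :=
    Module.compHom _ (algebraMap (Localization.Away hX) (Localization.Away hZ))
  haveI tSG : IsScalarTower (Localization.Away hX) (Localization.Away hZ)
      (LocalizedModule (Submonoid.powers hZ) G) :=
    IsScalarTower.of_algebraMap_smul fun _ _ => rfl
  -- pushout squares
  haveI locZ : IsLocalization.Away (algebraMap S C hX) (Localization.Away hZ) :=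
    (inferInstance : IsLocalization.Away hZ (Localization.Away hZ))
  haveI poS : Algebra.IsPushout S (Localization.Away hX) C (Localization.Away hZ) :=
    isPushout_of_away hX
  have hwY : algebraMap D C w ∣ algebraMap D C hY := map_dvd _ ⟨algebraMap R D g, hYdef⟩
  haveI locZ' : IsLocalization.Away (algebraMap D C hY) (Localization.Away hZ) := by
    refine away_of_dvd_of_dvd_pow hZ (algebraMap D C hY) ⟨algebraMap S C u, by rw [hZeq, mul_comm]⟩
      (k + 1) ?_
    rw [hZeq, pow_succ]
    exact mul_dvd_mul (hk.trans (pow_dvd_pow_of_dvd hwY k)) dvd_rfl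
  haveI poD : Algebra.IsPushout D (Localization.Away hY) C (Localization.Away hZ) :=
    isPushout_of_away hY
  -- base changes
  have hfN : IsBaseChange (Localization.Away hX)
      (LocalizedModule.mkLinearMap (Submonoid.powers hX) N) :=
    IsLocalizedModule.isBaseChange (Submonoid.powers hX) (Localization.Away hX) _
  have hfG : IsBaseChange (Localization.Away hZ)
      (LocalizedModule.mkLinearMap (Submonoid.powers hZ) G) :=
    IsLocalizedModule.isBaseChange (Submonoid.powers hZ) (Localization.Away hZ) _
  -- surjectivity
  have hsurj : Function.Surjective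
      (PrimeSpectrum.comap (algebraMap (Localization.Away g) (Localization.Away hY))) :=
    comap_surjective_of_image (R := R) (D := D) g w himg
  -- primes
  haveI hp₁ : (p.map (algebraMap R (Localization.Away g))).IsPrime := away_map_isPrime g p hg
  haveI hy₁ : (y.map (algebraMap D (Localization.Away hY))).IsPrime := away_map_isPrime hY y hhY
  have hcp : (p.map (algebraMap R (Localization.Away g))).comap (algebraMap R (Localization.Away g))
      = p := away_comap_map g p hg
  have hcy : (y.map (algebraMap D (Localization.Away hY))).comap
      (algebraMap D (Localization.Away hY)) = y := away_comap_map hY y hhY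
  haveI hy₁p₁ : (y.map (algebraMap D (Localization.Away hY))).LiesOver
      (p.map (algebraMap R (Localization.Away g))) :=
    liesOver_of_square (A := R) (A₁ := Localization.Away g) (B := D) (B₁ := Localization.Away hY)
      g _ _ y p hcy hcp
  refine ⟨g, hX, hZ, hg, hhX, hhZ, hhY, huX, aRS, tRS, aRC, tRC, aRD, tRD, aSC, tSC, tRSC, aDC, tDC,
    tRDC, mRN, tRN, mSG, tSG, hp₁, hy₁, hy₁p₁, ?_⟩
  exact shrink R S N p q C D G n h z y h1 h3 h4
    (Localization.Away g) (Localization.Away hX) (Localization.Away hZ) (Localization.Away hY)
    g hX hY hZ hg hhX hhY hhZ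
    (LocalizedModule (Submonoid.powers hX) N) (LocalizedModule.mkLinearMap (Submonoid.powers hX) N) hfN
    (LocalizedModule (Submonoid.powers hZ) G) (LocalizedModule.mkLinearMap (Submonoid.powers hZ) G) hfG
    hsurj

end Groth.Agent.Lib.Seat55.ShrinkCore
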