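import Mathlib

/-!
# Noetherian models of G-unramified algebras (seat 55)

If `S` is of finite presentation and formally unramified over `R`, there is a finite type `ℤ`-subalgebra
`R₀ ⊆ R` and a finitely presented formally unramified `R₀`-algebra `S₀` with `R ⊗[R₀] S₀ ≃ S`.
-/

set_option autoImplicit false
universe u
open TensorProduct MvPolynomial

namespace Groth.Agent.Lib.Seat55.UnramDescent

section converse

variable {A : Type*} [CommRing A] {ι : Type*} [Fintype ι] [DecidableEq ι]
  {Q : Type*} [CommRing Q] [Algebra A Q] (π : MvPolynomial ι A →ₐ[A] Q)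

/-- chain rule for the universal derivation along a map from a polynomial ring. -/
theorem D_eq_sum (q : MvPolynomial ι A) :
    KaehlerDifferential.D A Q (π q) =
      ∑ k, π (pderiv k q) • KaehlerDifferential.D A Q (π (X k)) := by
  induction q using MvPolynomial.induction_on with
  | C a =>
    have : π (C a) = algebraMap A Q a := by
      rw [← MvPolynomial.algebraMap_eq, AlgHom.commutes]
    rw [this, Derivation.map_algebraMap]
    simp
  | add p q hp hq => simp [hp, hq, add_smul, Finset.sum_add_distrib]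
  | mul_X p i hp =>
    rw [map_mul, Derivation.leibniz, hp]
    simp only [pderiv_mul, pderiv_X, map_add, map_mul, add_smul, Finset.sum_add_distrib,
      Finset.smul_sum]
    rw [add_comm]
    congr 1
    · apply Finset.sum_congr rfl
      intro k _
      rw [mul_comm, mul_smul]
    · rw [Finset.sum_eq_single i]
      · rw [Pi.single_eq_same, map_one, mul_one]
      · intro k _ hk
        rw [Pi.single_eq_of_ne (Ne.symm hk), map_zero, mul_zero, zero_smul]
      · intro h; exact absurd (Finset.mem_univ i) h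

/-- Jacobian-type criterion: if every `dXᵢ` is killed by the relations, the quotient is formally
unramified. -/
theorem formallyUnramified_of_surjective (hπ : Function.Surjective π)
    (h : ∀ i : ι, ∃ g : MvPolynomial ι A, π g = 0 ∧ ∀ k : ι,
      π (pderiv k g) = if k = i then 1 else 0) :
    Algebra.FormallyUnramified A Q := by
  rw [Algebra.formallyUnramified_iff]
  have hX : ∀ i, KaehlerDifferential.D A Q (π (X i)) = 0 := by
    intro i
    obtain ⟨g, hg, hgk⟩ := h i
    have h0 : KaehlerDifferential.D A Q (π g) = 0 := by rw [hg, map_zero]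
    rw [D_eq_sum π g] at h0
    simp only [hgk, ite_smul, one_smul, zero_smul, Finset.sum_ite_eq', Finset.mem_univ,
      if_true] at h0
    exact h0
  have hD : ∀ x : Q, KaehlerDifferential.D A Q x = 0 := by
    intro x
    obtain ⟨q, rfl⟩ := hπ x
    rw [D_eq_sum π q]
    simp [hX]
  refine ⟨fun a b => ?_⟩
  have htop := KaehlerDifferential.span_range_derivation A Q
  have hbot : Submodule.span Q (Set.range (KaehlerDifferential.D A Q)) = ⊥ := by
    rw [Submodule.span_eq_bot]
    rintro _ ⟨x, rfl⟩
    exact hD x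
  have : (⊤ : Submodule Q Ω[Q⁄A]) = ⊥ := htop.symm.trans hbot
  have ha : a ∈ (⊥ : Submodule Q Ω[Q⁄A]) := this ▸ Submodule.mem_top
  have hb : b ∈ (⊥ : Submodule Q Ω[Q⁄A]) := this ▸ Submodule.mem_top
  rw [Submodule.mem_bot] at ha hb
  rw [ha, hb]

end converse

section direct

variable {R S : Type*} [CommRing R] [CommRing S] [Algebra R S] {ι : Type*} [DecidableEq ι]

/-- In a formally unramified algebra each `dXᵢ` comes from the kernel of a presentation. -/
theorem exists_ker_pderiv [Algebra.FormallyUnramified R S] (P : Algebra.Generators R S ι) (i : ι) :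
    ∃ g : P.Ring, g ∈ P.ker ∧ ∀ k, aeval P.val (pderiv k g) = if k = i then 1 else 0 := by
  have hsub : Subsingleton Ω[S⁄R] := inferInstance
  have hex := P.toExtension.exact_cotangentComplex_toKaehler
  have h0 : P.toExtension.toKaehler (P.cotangentSpaceBasis i) = 0 := Subsingleton.elim _ _
  obtain ⟨c, hc⟩ := (hex _).mp h0
  obtain ⟨g, rfl⟩ := Algebra.Extension.Cotangent.mk_surjective c
  refine ⟨g.1, g.2, fun k => ?_⟩
  rw [Algebra.Extension.cotangentComplex_mk] at hc
  have := congrArg (fun x => P.cotangentSpaceBasis.repr x k) hc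
  simp only [Algebra.Generators.cotangentSpaceBasis_repr_one_tmul, Module.Basis.repr_self] at this
  rw [this, Finsupp.single_apply]
  simp [eq_comm]

end direct

section main

/-- Descent of G-unramified algebras to a finite type `ℤ`-algebra. -/
theorem main (R : Type u) [CommRing R] (S : Type u) [CommRing S] [Algebra R S]
    [Algebra.FinitePresentation R S] [Algebra.FormallyUnramified R S] :
    ∃ (R₀ : Type u) (_ : CommRing R₀) (_ : Algebra.FiniteType ℤ R₀) (S₀ : Type u) (_ : CommRing S₀)
      (_ : Algebra R₀ S₀) (_ : Algebra.FinitePresentation R₀ S₀)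
      (_ : Algebra.FormallyUnramified R₀ S₀)
      (_ : Algebra R₀ R), Nonempty (R ⊗[R₀] S₀ ≃ₐ[R] S) := by
  classical
  obtain ⟨n, m, ⟨P⟩⟩ := Algebra.Presentation.exists_presentation_fin R S
  choose g hgker hgpd using fun i => exists_ker_pderiv P.toGenerators i
  have hh : ∀ i, ∃ h : Fin m → MvPolynomial (Fin n) R, ∑ j, h j * P.relation j = g i := by
    intro i
    have := hgker i
    rw [← P.span_range_relation_eq_ker, Ideal.mem_span_range_iff_exists_fun] at this
    exact this
  choose h hh using hh
  have hb : ∀ i k, ∃ b : Fin m → MvPolynomial (Fin n) R,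
      ∑ j, b j * P.relation j = pderiv k (g i) - (if k = i then 1 else 0) := by
    intro i k
    have : pderiv k (g i) - (if k = i then 1 else 0) ∈ P.ker := by
      rw [P.ker_eq_ker_aeval_val, RingHom.mem_ker, map_sub, hgpd i k]
      split_ifs <;> simp
    rw [← P.span_range_relation_eq_ker, Ideal.mem_span_range_iff_exists_fun] at this
    exact this
  choose b hb using hb
  let T : Set R := (P.coeffs ∪ (⋃ i, ⋃ j, ((h i j).coeffs : Set R))) ∪
    (⋃ i, ⋃ k, ⋃ j, ((b i k j).coeffs : Set R))
  have hT : T.Finite := by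
    refine Set.Finite.union (Set.Finite.union P.finite_coeffs ?_) ?_
    · exact Set.finite_iUnion fun _ => Set.finite_iUnion fun _ => Finset.finite_toSet _
    · exact Set.finite_iUnion fun _ => Set.finite_iUnion fun _ => Set.finite_iUnion fun _ =>
        Finset.finite_toSet _
  let R₀ : Subalgebra ℤ R := Algebra.adjoin ℤ T
  have hft : Algebra.FiniteType ℤ R₀ := Algebra.FiniteType.adjoin_of_finite hT
  have : P.HasCoeffs R₀ :=
    ⟨fun x hx => ⟨⟨x, Algebra.subset_adjoin (Or.inl (Or.inl hx))⟩, rfl⟩⟩
  have hinj : Function.Injective (MvPolynomial.map (σ := Fin n) (algebraMap R₀ R)) :=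
    MvPolynomial.map_injective _ Subtype.val_injective
  -- lift `h` and `b`
  have hh₀ : ∀ i j, ∃ q : MvPolynomial (Fin n) R₀, MvPolynomial.map (algebraMap R₀ R) q = h i j := by
    intro i j
    have : h i j ∈ Set.range (MvPolynomial.map (σ := Fin n) (algebraMap R₀ R)) := by
      rw [MvPolynomial.mem_range_map_iff_coeffs_subset]
      intro c hc
      exact ⟨⟨c, Algebra.subset_adjoin (Or.inl (Or.inr
        (Set.mem_iUnion.2 ⟨i, Set.mem_iUnion.2 ⟨j, hc⟩⟩)))⟩, rfl⟩
    exact this
  choose h₀ hh₀ using hh₀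
  have hb₀ : ∀ i k j, ∃ q : MvPolynomial (Fin n) R₀,
      MvPolynomial.map (algebraMap R₀ R) q = b i k j := by
    intro i k j
    have : b i k j ∈ Set.range (MvPolynomial.map (σ := Fin n) (algebraMap R₀ R)) := by
      rw [MvPolynomial.mem_range_map_iff_coeffs_subset]
      intro c hc
      exact ⟨⟨c, Algebra.subset_adjoin (Or.inr
        (Set.mem_iUnion.2 ⟨i, Set.mem_iUnion.2 ⟨k, Set.mem_iUnion.2 ⟨j, hc⟩⟩⟩))⟩, rfl⟩
    exact this
  choose b₀ hb₀ using hb₀
  let rel₀ := P.relationOfHasCoeffs R₀
  let I₀ : Ideal (MvPolynomial (Fin n) R₀) := Ideal.span (Set.range rel₀)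
  let g₀ : Fin n → MvPolynomial (Fin n) R₀ := fun i => ∑ j, h₀ i j * rel₀ j
  have hg₀map : ∀ i, MvPolynomial.map (algebraMap R₀ R) (g₀ i) = g i := by
    intro i
    simp only [g₀, map_sum, map_mul, hh₀, rel₀, P.map_relationOfHasCoeffs, hh]
  have hg₀pd : ∀ i k, pderiv k (g₀ i) - (if k = i then 1 else 0) = ∑ j, b₀ i k j * rel₀ j := by
    intro i k
    apply hinj
    rw [map_sub, ← MvPolynomial.pderiv_map, hg₀map]
    simp only [map_sum, map_mul, hb₀, rel₀, P.map_relationOfHasCoeffs, hb]
    split_ifs <;> simp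
  have hfu : Algebra.FormallyUnramified R₀ (P.ModelOfHasCoeffs R₀) := by
    refine formallyUnramified_of_surjective (Ideal.Quotient.mkₐ R₀ I₀)
      (Ideal.Quotient.mkₐ_surjective R₀ I₀) (fun i => ⟨g₀ i, ?_, fun k => ?_⟩)
    · rw [Ideal.Quotient.mkₐ_eq_mk, Ideal.Quotient.eq_zero_iff_mem]
      exact Ideal.sum_mem _ fun j _ => Ideal.mul_mem_left _ _ (Ideal.subset_span ⟨j, rfl⟩)
    · have hmem : pderiv k (g₀ i) - (if k = i then 1 else 0) ∈ I₀ := by
        rw [hg₀pd]
        exact Ideal.sum_mem _ fun j _ => Ideal.mul_mem_left _ _ (Ideal.subset_span ⟨j, rfl⟩)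
      have := (Ideal.Quotient.eq_zero_iff_mem (I := I₀)).2 hmem
      rw [map_sub, sub_eq_zero] at this
      rw [Ideal.Quotient.mkₐ_eq_mk, this]
      split_ifs <;> simp
  exact ⟨R₀, inferInstance, hft, P.ModelOfHasCoeffs R₀, inferInstance, inferInstance,
    inferInstance, hfu, inferInstance, ⟨P.tensorModelOfHasCoeffsEquiv R₀⟩⟩

end main

end Groth.Agent.Lib.Seat55.UnramDescent
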