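import Mathlib.LinearAlgebra.ExteriorPower.Basis
import Mathlib.LinearAlgebra.Alternating.Uncurry.Fin
import Mathlib.LinearAlgebra.Alternating.Curry
import Mathlib.LinearAlgebra.Projection

/-!
# Exterior powers of `P = L ⊕ W t` (seat 79)

`W` a commutative ring, `P = L ⊕ T` with `T ≃ W` generated by `tt`.  Then
`⋀^(q+1) P = L' ⊕ T'` with `L' = range (⋀^(q+1) L → ⋀^(q+1) P)` and
`T' = range (τ : ⋀^q L → ⋀^(q+1) P, ω ↦ tt ∧ ω)`, `τ` is injective (so `T' ≃ ⋀^q L`), and for every
ideal `J` the span of the wedges of elements of `L ⊔ J • T` is `L' ⊔ J • T'`.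

The retraction of `τ` is the interior product with the coordinate functional `ψ` of `tt`
(`contr`, a universe-polymorphic copy of `Seat79Cartan.contr`).
-/

set_option autoImplicit false
set_option linter.unusedSectionVars false
universe u v

open exteriorPower

namespace Groth.Agent.Lib.Seat79.ExtPowSplit

variable {W : Type u} [CommRing W] {P : Type v} [AddCommGroup P] [Module W P]

section Contr

/-- The interior product with the functional `ψ`. -/
noncomputable def contr (ψ : P →ₗ[W] W) (q : ℕ) : ↥(⋀[W]^(q + 1) P) →ₗ[W] ↥(⋀[W]^q P) :=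
  exteriorPower.alternatingMapLinearEquiv
    (AlternatingMap.alternatizeUncurryFin (ψ.smulRight (ιMulti W q)))

theorem contr_ιMulti (ψ : P →ₗ[W] W) (q : ℕ) (v : Fin (q + 1) → P) :
    contr ψ q (ιMulti W (q + 1) v) =
      ∑ i : Fin (q + 1), (-1 : ℤ) ^ (i : ℕ) • (ψ (v i) • ιMulti W q (i.removeNth v)) := by
  unfold contr
  rw [exteriorPower.alternatingMapLinearEquiv_apply_ιMulti,
    AlternatingMap.alternatizeUncurryFin_apply]
  rfl

theorem contr_eq_zero (ψ : P →ₗ[W] W) (q : ℕ) (v : Fin (q + 1) → P) (hv : ∀ i, ψ (v i) = 0) :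
    contr ψ q (ιMulti W (q + 1) v) = 0 := by
  rw [contr_ιMulti]
  refine Finset.sum_eq_zero fun i _ => ?_
  rw [hv, zero_smul, smul_zero]

theorem contr_cons (ψ : P →ₗ[W] W) (q : ℕ) (x : P) (e : Fin q → P) (he : ∀ i, ψ (e i) = 0) :
    contr ψ q (ιMulti W (q + 1) (Fin.cons x e : Fin (q + 1) → P)) = ψ x • ιMulti W q e := by
  rw [contr_ιMulti, Fin.sum_univ_succ]
  have h0 : (0 : Fin (q + 1)).removeNth (Fin.cons x e : Fin (q + 1) → P) = e := by
    rw [Fin.removeNth_zero, Fin.tail_cons]
  rw [h0, Fin.cons_zero, Fin.val_zero, pow_zero, one_smul, Finset.sum_eq_zero, add_zero]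
  intro i _
  rw [Fin.cons_succ, he, zero_smul, smul_zero]

end Contr

variable (L T : Submodule W P) (hLT : IsCompl L T) (e : T ≃ₗ[W] W)

/-- The generator of `T`. -/
noncomputable def tt : P := ((e.symm 1 : T) : P)

theorem tt_mem : tt T e ∈ T := (e.symm 1).2

/-- The coordinate functional of `tt`. -/
noncomputable def ψ : P →ₗ[W] W := e.toLinearMap ∘ₗ Submodule.projectionOnto T L hLT.symm

theorem ψ_tt : ψ L T hLT e (tt T e) = 1 := by
  unfold ψ tt
  rw [LinearMap.comp_apply, Submodule.projectionOnto_apply_left]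
  simp

theorem ψ_of_mem {x : P} (hx : x ∈ L) : ψ L T hLT e x = 0 := by
  unfold ψ
  rw [LinearMap.comp_apply, Submodule.projectionOnto_apply_of_mem_right hLT.symm hx, map_zero]

theorem eq_smul_tt {x : P} (hx : x ∈ T) : x = e ⟨x, hx⟩ • tt T e := by
  unfold tt
  rw [← Submodule.coe_smul, ← map_smul, smul_eq_mul, mul_one, LinearEquiv.symm_apply_apply]

theorem mem_smul_iff (J : Ideal W) (x : P) : x ∈ J • T ↔ ∃ c ∈ J, x = c • tt T e := by
  constructor
  · intro hx
    refine Submodule.smul_induction_on hx ?_ ?_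
    · intro i hi y hy
      refine ⟨i * e ⟨y, hy⟩, J.mul_mem_right _ hi, ?_⟩
      rw [mul_smul, ← eq_smul_tt T e hy]
    · rintro x y ⟨c, hc, rfl⟩ ⟨c', hc', rfl⟩
      exact ⟨c + c', J.add_mem hc hc', (add_smul _ _ _).symm⟩
  · rintro ⟨c, hc, rfl⟩
    exact Submodule.smul_mem_smul hc (tt_mem T e)

/-- `ω ↦ tt ∧ ω`. -/
noncomputable def τ (q : ℕ) : ↥(⋀[W]^q L) →ₗ[W] ↥(⋀[W]^(q + 1) P) :=
  exteriorPower.alternatingMapLinearEquiv
    (((ιMulti W (q + 1) (M := P)).curryLeft (tt T e)).compLinearMap L.subtype)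

theorem τ_ιMulti (q : ℕ) (l : Fin q → L) :
    τ L T e q (ιMulti W q l) =
      ιMulti W (q + 1) (Fin.cons (tt T e) (fun i => (l i : P)) : Fin (q + 1) → P) := by
  unfold τ
  rw [exteriorPower.alternatingMapLinearEquiv_apply_ιMulti]
  rfl

/-- The retraction of `τ`. -/
noncomputable def ρT (q : ℕ) : ↥(⋀[W]^(q + 1) P) →ₗ[W] ↥(⋀[W]^q L) :=
  exteriorPower.map q (Submodule.projectionOnto L T hLT) ∘ₗ contr (ψ L T hLT e) q

theorem ρT_comp_τ (q : ℕ) : ρT L T hLT e q ∘ₗ τ L T e q = LinearMap.id := by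
  apply exteriorPower.linearMap_ext
  refine AlternatingMap.ext fun l => ?_
  rw [LinearMap.compAlternatingMap_apply, LinearMap.compAlternatingMap_apply, LinearMap.comp_apply,
    τ_ιMulti, LinearMap.id_apply]
  unfold ρT
  rw [LinearMap.comp_apply, contr_cons _ _ _ _ (fun i => ψ_of_mem L T hLT e (l i).2), ψ_tt, one_smul,
    exteriorPower.map_apply_ιMulti]
  have h : (⇑(Submodule.projectionOnto L T hLT) ∘ fun i => ((l i : L) : P)) = l :=
    funext fun i => Submodule.projectionOnto_apply_left hLT (l i)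
  rw [h]

theorem ρT_τ (q : ℕ) (ω : ↥(⋀[W]^q L)) : ρT L T hLT e q (τ L T e q ω) = ω :=
  LinearMap.congr_fun (ρT_comp_τ L T hLT e q) ω

include hLT in
theorem τ_injective (q : ℕ) : Function.Injective (τ L T e q) :=
  Function.LeftInverse.injective (ρT_τ L T hLT e q)

theorem ρT_comp_map (q : ℕ) :
    ρT L T hLT e q ∘ₗ exteriorPower.map (q + 1) L.subtype = 0 := by
  apply exteriorPower.linearMap_ext
  refine AlternatingMap.ext fun l => ?_
  rw [LinearMap.compAlternatingMap_apply, LinearMap.compAlternatingMap_apply, LinearMap.comp_apply,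
    exteriorPower.map_apply_ιMulti, LinearMap.zero_apply]
  unfold ρT
  rw [LinearMap.comp_apply, contr_eq_zero _ _ (⇑L.subtype ∘ l)
    (fun i => ψ_of_mem L T hLT e (l i).2), map_zero]

/-- The image of `⋀^r L` in `⋀^r P`. -/
noncomputable def L' (r : ℕ) : Submodule W ↥(⋀[W]^r P) :=
  LinearMap.range (exteriorPower.map r L.subtype)

/-- The image of `τ`. -/
noncomputable def T' (q : ℕ) : Submodule W ↥(⋀[W]^(q + 1) P) := LinearMap.range (τ L T e q)

theorem ιMulti_mem_L' (r : ℕ) (l : Fin r → P) (hl : ∀ i, l i ∈ L) : ιMulti W r l ∈ L' L r :=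
  ⟨ιMulti W r (fun i => (⟨l i, hl i⟩ : L)), by rw [exteriorPower.map_apply_ιMulti]; rfl⟩

theorem cons_mem_T' (q : ℕ) (l : Fin q → P) (hl : ∀ i, l i ∈ L) :
    ιMulti W (q + 1) (Fin.cons (tt T e) l : Fin (q + 1) → P) ∈ T' L T e q :=
  ⟨ιMulti W q (fun i => (⟨l i, hl i⟩ : L)), by rw [τ_ιMulti]⟩

include hLT in
theorem disjoint (q : ℕ) : Disjoint (L' L (q + 1)) (T' L T e q) := by
  rw [Submodule.disjoint_def]
  rintro x ⟨a, rfl⟩ ⟨b, hb⟩
  have h1 : ρT L T hLT e q (exteriorPower.map (q + 1) L.subtype a) = 0 :=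
    LinearMap.congr_fun (ρT_comp_map L T hLT e q) a
  rw [← hb, ρT_τ] at h1
  rw [← hb, h1, map_zero]

section Key

omit L T in
theorem ιMulti_update_eq (q : ℕ) (i : Fin (q + 1)) (y : P) (v : Fin (q + 1) → P) :
    ιMulti W (q + 1) (Function.update v i y) =
      (-1 : ℤ) ^ (i : ℕ) • ιMulti W (q + 1) (Fin.cons y (i.removeNth v) : Fin (q + 1) → P) := by
  have h := AlternatingMap.map_insertNth (ιMulti W (q + 1) (M := P)) i y (i.removeNth v)
  rw [Fin.insertNth_removeNth] at h
  rw [h]
  rfl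

omit L T in
theorem ιMulti_cons_smul (q : ℕ) (c : W) (x : P) (v : Fin q → P) :
    ιMulti W (q + 1) (Fin.cons (c • x) v : Fin (q + 1) → P) =
      c • ιMulti W (q + 1) (Fin.cons x v : Fin (q + 1) → P) := by
  have h : (Fin.cons (c • x) v : Fin (q + 1) → P) =
      Function.update (Fin.cons x v : Fin (q + 1) → P) 0 (c • x) :=
    (Fin.update_cons_zero (α := fun _ => P) x v (c • x)).symm
  have hx : Function.update (Fin.cons x v : Fin (q + 1) → P) 0 x = Fin.cons x v :=
    Fin.update_cons_zero (α := fun _ => P) x v x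
  rw [h, AlternatingMap.map_update_smul, hx]

omit L T in
theorem ιMulti_eq_zero_of_two (r : ℕ) (w : Fin r → P) (y : P) (a b : W) (j k : Fin r)
    (hjk : j ≠ k) (hj : w j = a • y) (hk : w k = b • y) : ιMulti W r w = 0 := by
  have h1 : w = Function.update w k (b • y) := by rw [← hk, Function.update_eq_self]
  rw [h1, AlternatingMap.map_update_smul]
  have h2 : Function.update w k y = Function.update (Function.update w k y) j (a • y) := by
    rw [← hj]
    conv_lhs => rw [← Function.update_eq_self j (Function.update w k y)]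
    rw [Function.update_of_ne hjk]
  rw [h2, AlternatingMap.map_update_smul]
  have h3 : ιMulti W r (Function.update (Function.update w k y) j y) = 0 := by
    apply AlternatingMap.map_eq_zero_of_eq _ _ _ hjk
    rw [Function.update_self, Function.update_of_ne hjk.symm, Function.update_self]
  rw [h3, smul_zero, smul_zero]

theorem key (J : Ideal W) (q : ℕ) (v : Fin (q + 1) → P) (hv : ∀ j, v j ∈ L ⊔ J • T) :
    ιMulti W (q + 1) v ∈ L' L (q + 1) ⊔ J • T' L T e q := by
  classical
  have hdec : ∀ j, ∃ l ∈ L, ∃ c ∈ J, v j = l + c • tt T e := by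
    intro j
    obtain ⟨y, hy, z, hz, hyz⟩ := Submodule.mem_sup.1 (hv j)
    obtain ⟨c, hc, rfl⟩ := (mem_smul_iff T e J z).1 hz
    exact ⟨y, hy, c, hc, hyz.symm⟩
  choose l hl c hc hvl using hdec
  have hv' : v = l + fun j => c j • tt T e := funext hvl
  rw [hv']
  have hexp := (ιMulti W (q + 1) (M := P)).toMultilinearMap.map_add_univ l (fun j => c j • tt T e)
  rw [AlternatingMap.coe_multilinearMap] at hexp
  rw [hexp]
  refine Submodule.sum_mem _ fun s _ => ?_
  by_cases h1 : ∀ j, j ∈ s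
  · have : s.piecewise l (fun j => c j • tt T e) = l := by
      funext j
      exact Finset.piecewise_eq_of_mem _ _ _ (h1 j)
    rw [this]
    exact Submodule.mem_sup_left (ιMulti_mem_L' L _ l hl)
  · push Not at h1
    obtain ⟨j, hj⟩ := h1
    by_cases h2 : ∀ k, k ≠ j → k ∈ s
    · have : s.piecewise l (fun j => c j • tt T e) = Function.update l j (c j • tt T e) := by
        funext k
        by_cases hkj : k = j
        · subst hkj
          rw [Finset.piecewise_eq_of_notMem _ _ _ hj, Function.update_self]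
        · rw [Finset.piecewise_eq_of_mem _ _ _ (h2 k hkj), Function.update_of_ne hkj]
      rw [this, AlternatingMap.map_update_smul, ιMulti_update_eq]
      refine Submodule.mem_sup_right (Submodule.smul_mem_smul (hc j) ?_)
      refine Submodule.smul_of_tower_mem _ _ (cons_mem_T' L T e q _ fun i => ?_)
      exact hl _
    · push Not at h2
      obtain ⟨k, hkj, hk⟩ := h2
      rw [ιMulti_eq_zero_of_two _ _ (tt T e) (c j) (c k) j k (Ne.symm hkj)
        (Finset.piecewise_eq_of_notMem _ _ _ hj) (Finset.piecewise_eq_of_notMem _ _ _ hk)]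
      exact Submodule.zero_mem _

end Key

include hLT in
theorem codisjoint (q : ℕ) : Codisjoint (L' L (q + 1)) (T' L T e q) := by
  rw [codisjoint_iff, eq_top_iff, ← exteriorPower.ιMulti_span, Submodule.span_le]
  rintro _ ⟨v, rfl⟩
  have h := key L T e ⊤ q v (fun j => by
    rw [Submodule.top_smul, hLT.sup_eq_top]; exact Submodule.mem_top)
  rwa [Submodule.top_smul] at h

include hLT in
theorem isCompl (q : ℕ) : IsCompl (L' L (q + 1)) (T' L T e q) :=
  ⟨disjoint L T hLT e q, codisjoint L T hLT e q⟩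

/-- `T'` is isomorphic to `⋀^q L`. -/
noncomputable def T'Equiv (q : ℕ) : ↥(⋀[W]^q L) ≃ₗ[W] ↥(T' L T e q) :=
  LinearEquiv.ofInjective (τ L T e q) (τ_injective L T hLT e q)

theorem span_wedges (J : Ideal W) (q : ℕ) :
    Submodule.span W (Set.range fun x : Fin (q + 1) → ↥(L ⊔ J • T) =>
      ιMulti W (q + 1) (fun i => (x i : P))) = L' L (q + 1) ⊔ J • T' L T e q := by
  apply le_antisymm
  · rw [Submodule.span_le]
    rintro _ ⟨x, rfl⟩
    exact key L T e J q _ (fun j => (x j).2)
  · refine sup_le ?_ ?_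
    · unfold L'
      rw [LinearMap.range_eq_map, ← exteriorPower.ιMulti_span, Submodule.map_span, Submodule.span_le]
      rintro _ ⟨_, ⟨l, rfl⟩, rfl⟩
      rw [exteriorPower.map_apply_ιMulti]
      exact Submodule.subset_span
        ⟨fun i => ⟨(l i : P), Submodule.mem_sup_left (l i).2⟩, rfl⟩
    · rw [Submodule.smul_le]
      rintro c hc _ ⟨ω, rfl⟩
      have hω : ω ∈ Submodule.span W (Set.range (ιMulti W q (M := L))) := by
        rw [exteriorPower.ιMulti_span]; exact Submodule.mem_top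
      induction hω using Submodule.span_induction with
      | mem ω h =>
        obtain ⟨l, rfl⟩ := h
        rw [τ_ιMulti, ← ιMulti_cons_smul]
        refine Submodule.subset_span ⟨Fin.cons
          (⟨c • tt T e, Submodule.mem_sup_right (Submodule.smul_mem_smul hc (tt_mem T e))⟩ :
            ↥(L ⊔ J • T)) (fun i => ⟨(l i : P), Submodule.mem_sup_left (l i).2⟩), ?_⟩
        change ιMulti W (q + 1) _ = ιMulti W (q + 1) _
        congr 1
        funext i
        refine Fin.cases ?_ (fun i => ?_) i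
        · rw [Fin.cons_zero, Fin.cons_zero]
        · rw [Fin.cons_succ, Fin.cons_succ]
      | zero => rw [map_zero, smul_zero]; exact Submodule.zero_mem _
      | add ω₁ ω₂ _ _ h₁ h₂ => rw [map_add, smul_add]; exact Submodule.add_mem _ h₁ h₂
      | smul a ω _ h => rw [map_smul, smul_comm]; exact Submodule.smul_mem _ _ h

end Groth.Agent.Lib.Seat79.ExtPowSplit
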