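import Mathlib
import Groth.Agent.Lib.Seat79ExtPowSplit

/-!
# Top exterior power of a stably free module (helper56)

`det_of_stablyFree`: if `M × B^r ≃ B^(m+r)` then `⋀^m M ≃ B` and `⋀^(m+1) M = 0`.
Built on `Seat79ExtPowSplit` (exterior powers of `L ⊕ B·t`).
-/

set_option autoImplicit false
set_option linter.style.haveILetI false

universe u v w

namespace Groth.Agent.Lib.Seat56.ExtDet

open Groth.Agent.Lib.Seat79.ExtPowSplit

variable {B : Type u} [CommRing B]

section MapEquiv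

variable {M : Type v} {N : Type w} [AddCommGroup M] [Module B M] [AddCommGroup N] [Module B N]

/-- The exterior power of a linear equivalence. -/
noncomputable def mapEquiv (q : ℕ) (e : M ≃ₗ[B] N) : ↥(⋀[B]^q M) ≃ₗ[B] ↥(⋀[B]^q N) :=
  LinearEquiv.ofLinearMap (exteriorPower.map q e.toLinearMap) (exteriorPower.map q e.symm.toLinearMap)
    (by
      rw [← exteriorPower.map_comp]
      have : e.toLinearMap ∘ₗ e.symm.toLinearMap = LinearMap.id := by ext; simp
      rw [this, exteriorPower.map_id])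
    (by
      rw [← exteriorPower.map_comp]
      have : e.symm.toLinearMap ∘ₗ e.toLinearMap = LinearMap.id := by ext; simp
      rw [this, exteriorPower.map_id])

end MapEquiv

section Base

noncomputable instance uniqueTop (m : ℕ) : Unique (Set.powersetCard (Fin m) m) where
  default := ⟨Finset.univ, by simp [Set.powersetCard]⟩
  uniq s := by
    apply Subtype.ext
    exact Finset.eq_univ_of_card _ (by rw [Set.powersetCard.card_eq s, Fintype.card_fin])

instance isEmptySucc (m : ℕ) : IsEmpty (Set.powersetCard (Fin m) (m + 1)) :=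
  ⟨fun s => by
    have h1 := Set.powersetCard.card_eq s
    have h2 := Finset.card_le_univ (s : Finset (Fin m))
    rw [Fintype.card_fin] at h2
    omega⟩

variable (B) in
/-- The top exterior power of `B^m` is `B`. -/
noncomputable def topEquivFin (m : ℕ) : ↥(⋀[B]^m (Fin m → B)) ≃ₗ[B] B :=
  ((Pi.basisFun B (Fin m)).exteriorPower m).repr ≪≫ₗ Finsupp.uniqueLinearEquiv B B default

variable (B) in
theorem subsingleton_succ_fin (m : ℕ) : Subsingleton ↥(⋀[B]^(m + 1) (Fin m → B)) :=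
  ((Pi.basisFun B (Fin m)).exteriorPower (m + 1)).repr.toEquiv.subsingleton

end Base

section Split

variable {P : Type v} [AddCommGroup P] [Module B P]
  (L T : Submodule B P) (hLT : IsCompl L T) (e : T ≃ₗ[B] B)

include hLT e in
theorem subsingleton_of_succ (q : ℕ) [Subsingleton ↥(⋀[B]^(q + 1) P)] :
    Subsingleton ↥(⋀[B]^q L) :=
  (τ_injective L T hLT e q).subsingleton

/-- If `⋀^(q+1) L = 0` then `⋀^(q+1) (L ⊕ B t) ≃ ⋀^q L`. -/
noncomputable def topEquiv (q : ℕ) [Subsingleton ↥(⋀[B]^(q + 1) L)] :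
    ↥(⋀[B]^q L) ≃ₗ[B] ↥(⋀[B]^(q + 1) P) :=
  LinearEquiv.ofBijective (τ L T e q) ⟨τ_injective L T hLT e q, by
    rw [← LinearMap.range_eq_top]
    have h := (isCompl L T hLT e q).sup_eq_top
    have hL : L' L (q + 1) = ⊥ := by
      unfold L'
      rw [LinearMap.range_eq_bot]
      exact LinearMap.ext fun x => by rw [Subsingleton.elim x 0, map_zero, map_zero]
    rw [hL, bot_sup_eq] at h
    exact h⟩

end Split

section Prod

variable (M : Type v) [AddCommGroup M] [Module B M]

/-- `M ≃ range inl`. -/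
noncomputable def eL : M ≃ₗ[B] ↥(LinearMap.range (LinearMap.inl B M B)) :=
  LinearEquiv.ofInjective (LinearMap.inl B M B) LinearMap.inl_injective

/-- `range inr ≃ B`. -/
noncomputable def eT : ↥(LinearMap.range (LinearMap.inr B M B)) ≃ₗ[B] B :=
  (LinearEquiv.ofInjective (LinearMap.inr B M B) LinearMap.inr_injective).symm

theorem subsingleton_of_prod (q : ℕ) [Subsingleton ↥(⋀[B]^(q + 1) (M × B))] :
    Subsingleton ↥(⋀[B]^q M) := by
  haveI := subsingleton_of_succ (LinearMap.range (LinearMap.inl B M B))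
    (LinearMap.range (LinearMap.inr B M B)) LinearMap.isCompl_range_inl_inr (eT M) q
  exact (mapEquiv q (eL M)).toEquiv.subsingleton

/-- If `⋀^(q+1) M = 0` then `⋀^(q+1) (M × B) ≃ ⋀^q M`. -/
noncomputable def topProdEquiv (q : ℕ) [Subsingleton ↥(⋀[B]^(q + 1) M)] :
    ↥(⋀[B]^(q + 1) (M × B)) ≃ₗ[B] ↥(⋀[B]^q M) :=
  haveI : Subsingleton ↥(⋀[B]^(q + 1) (LinearMap.range (LinearMap.inl B M B))) :=
    (mapEquiv (q + 1) (eL M)).symm.toEquiv.subsingleton
  ((mapEquiv q (eL M)) ≪≫ₗ topEquiv (LinearMap.range (LinearMap.inl B M B))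
    (LinearMap.range (LinearMap.inr B M B)) LinearMap.isCompl_range_inl_inr (eT M) q).symm

end Prod

/-- **Determinant of a stably free module**: if `M × B^r ≃ B^(m+r)` then `⋀^m M ≃ B` and
`⋀^(m+1) M = 0`. -/
theorem det_of_stablyFree : ∀ (r m : ℕ) (M : Type (max u v)) [AddCommGroup M] [Module B M],
    ((M × (Fin r → B)) ≃ₗ[B] (Fin (m + r) → B)) →
      Nonempty (↥(⋀[B]^m M) ≃ₗ[B] B) ∧ Subsingleton ↥(⋀[B]^(m + 1) M) := by
  intro r
  induction r with
  | zero =>
    intro m M _ _ e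
    let e0 : M ≃ₗ[B] (Fin m → B) := (LinearEquiv.prodUnique (R := B) (M := M)
      (M₂ := (Fin 0 → B))).symm ≪≫ₗ e
    refine ⟨⟨mapEquiv m e0 ≪≫ₗ topEquivFin B m⟩, ?_⟩
    haveI := subsingleton_succ_fin B m
    exact (mapEquiv (m + 1) e0).toEquiv.subsingleton
  | succ r ih =>
    intro m M _ _ e
    let c : (B × (Fin r → B)) ≃ₗ[B] (Fin (r + 1) → B) := Fin.consLinearEquiv B (fun _ => B)
    let e' : ((M × B) × (Fin r → B)) ≃ₗ[B] (Fin ((m + 1) + r) → B) :=
      LinearEquiv.prodAssoc B M B (Fin r → B) ≪≫ₗ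
        LinearEquiv.prodCongr (LinearEquiv.refl B M) c ≪≫ₗ e ≪≫ₗ
        LinearEquiv.funCongrLeft B B (finCongr (by omega))
    obtain ⟨⟨d⟩, hs⟩ := ih (m + 1) (M × B) e'
    haveI := hs
    haveI : Subsingleton ↥(⋀[B]^(m + 1) M) := subsingleton_of_prod M (m + 1)
    exact ⟨⟨(topProdEquiv M m).symm ≪≫ₗ d⟩, inferInstance⟩

end Groth.Agent.Lib.Seat56.ExtDet
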