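import Mathlib
import Groth.Agent.Lib.Seat56ExtDet
import Groth.Agent.Lib.Seat56RegSyz

/-!
# The canonical module of a smooth complete intersection (helper56)

For `B = A[T_1..T_n]/(F_1..F_r)` smooth over `A` with `F` a (weakly) regular sequence:
* `cotangent_basis_of_syzygy`: `I/I²` is free on the classes of the `F_i`;
* `kaehler_prod_equiv`: `Ω_{B/A} × B^r ≃ B^n` (split conormal sequence);
* `canonical_equiv`: `(⋀^r I/I²)^∨ ⊗ (B ⊗ ⋀^n Ω_P) ≃ ⋀^(n-r) Ω_{B/A}` (both are free of rank one).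
-/

set_option autoImplicit false
set_option linter.style.haveILetI false

universe u

namespace Groth.Agent.Lib.Seat56.CanonCI

open TensorProduct Groth.Agent.Lib.Seat56.ExtDet

section CotBasis

variable {P : Type u} [CommRing P] {c : ℕ} (F : Fin c → P)

/-- If syzygies modulo `I²` have coefficients in `I`, the classes of the generators form a basis
of the conormal module. -/
theorem cotangent_basis_of_syzygy
    (h : ∀ s : Fin c → P, ∑ i, s i * F i ∈ Ideal.span (Set.range F) ^ 2 →
      ∀ i, s i ∈ Ideal.span (Set.range F)) :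
    LinearIndependent (P ⧸ Ideal.span (Set.range F))
        (fun i : Fin c => (Ideal.span (Set.range F)).toCotangent
          ⟨F i, Ideal.subset_span (Set.mem_range_self i)⟩) ∧
      Submodule.span (P ⧸ Ideal.span (Set.range F)) (Set.range
        (fun i : Fin c => (Ideal.span (Set.range F)).toCotangent
          ⟨F i, Ideal.subset_span (Set.mem_range_self i)⟩)) = ⊤ := by
  set I := Ideal.span (Set.range F) with hI
  have hsmul : ∀ (a : P) (x : I.Cotangent),
      (Ideal.Quotient.mk I a : P ⧸ I) • x = a • x := fun a x =>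
    algebraMap_smul (P ⧸ I) a x
  constructor
  · rw [Fintype.linearIndependent_iff]
    intro g hg i
    choose s hs using fun i => Ideal.Quotient.mk_surjective (g i)
    have h1 : ∑ j, g j • I.toCotangent ⟨F j, Ideal.subset_span (Set.mem_range_self j)⟩ =
        I.toCotangent (∑ j, s j • (⟨F j, Ideal.subset_span (Set.mem_range_self j)⟩ : I)) := by
      rw [map_sum]
      exact Finset.sum_congr rfl fun j _ => by rw [map_smul, ← hs j, hsmul]
    rw [h1, Ideal.toCotangent_eq_zero] at hg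
    have h2 : ((∑ j, s j • (⟨F j, Ideal.subset_span (Set.mem_range_self j)⟩ : I) : I) :
        P) = ∑ j, s j * F j := by
      rw [AddSubmonoidClass.coe_finsetSum]
      rfl
    rw [h2] at hg
    have h3 := h s hg i
    rw [← hs i]
    exact Ideal.Quotient.eq_zero_iff_mem.mpr h3
  · rw [eq_top_iff]
    intro x _
    obtain ⟨y, rfl⟩ := I.toCotangent_surjective x
    obtain ⟨a, ha⟩ := (Ideal.mem_span_range_iff_exists_fun).mp y.2
    have hy : y = ∑ j, a j • (⟨F j, Ideal.subset_span (Set.mem_range_self j)⟩ : I) := by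
      apply Subtype.ext
      rw [AddSubmonoidClass.coe_finsetSum, ← ha]
      rfl
    rw [hy, map_sum]
    refine Submodule.sum_mem _ fun j _ => ?_
    rw [map_smul, ← hsmul]
    exact Submodule.smul_mem _ _ (Submodule.subset_span ⟨j, rfl⟩)

/-- The conormal module of a weakly regular sequence is free. -/
theorem nonempty_cotangent_equiv_of_isWeaklyRegular
    (hreg : RingTheory.Sequence.IsWeaklyRegular P (List.ofFn F)) :
    Nonempty ((Ideal.span (Set.range F)).Cotangent ≃ₗ[P ⧸ Ideal.span (Set.range F)]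
      (Fin c → P ⧸ Ideal.span (Set.range F))) := by
  obtain ⟨h1, h2⟩ := cotangent_basis_of_syzygy F
    (fun s hs i => Groth.Agent.Lib.Seat56.RegSyz.mem_of_sum_mul_mem_sq F hreg s hs i)
  exact ⟨(Module.Basis.mk h1 (le_of_eq h2.symm)).equivFun⟩

end CotBasis

section Split

variable (A : Type u) [CommRing A] (n : ℕ) (I : Ideal (MvPolynomial (Fin n) A))
  [Algebra.FormallySmooth A (MvPolynomial (Fin n) A ⧸ I)]

/-- For a formally smooth quotient `B = A[T_1..T_n]/I` whose conormal module is free of rank `r`: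
`Ω_{B/A} × B^r ≃ B^n`. -/
theorem kaehler_prod_equiv (r m : ℕ) (hm : m + r = n)
    (eL : I.Cotangent ≃ₗ[MvPolynomial (Fin n) A ⧸ I] (Fin r → MvPolynomial (Fin n) A ⧸ I)) :
    Nonempty ((Ω[(MvPolynomial (Fin n) A ⧸ I)⁄A] × (Fin r → MvPolynomial (Fin n) A ⧸ I))
      ≃ₗ[MvPolynomial (Fin n) A ⧸ I] (Fin (m + r) → MvPolynomial (Fin n) A ⧸ I)) := by
  set P := MvPolynomial (Fin n) A with hP
  set B := P ⧸ I with hB
  have hsurj : Function.Surjective (algebraMap P B) := Ideal.Quotient.mk_surjective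
  obtain ⟨l, hl⟩ := (Algebra.FormallySmooth.iff_split_injection (R := A) (P := P) (A := B)
    hsurj).mp inferInstance
  have hex := KaehlerDifferential.exact_kerCotangentToTensor_mapBaseChange A P B hsurj
  have hg := KaehlerDifferential.mapBaseChange_surjective A P B hsurj
  let e := (Function.Exact.splitInjectiveEquiv
    (f := KaehlerDifferential.kerCotangentToTensor A P B)
    (g := (KaehlerDifferential.mapBaseChange A P B).restrictScalars P) hex hg ⟨l, hl⟩).1
  let eK : (RingHom.ker (algebraMap P B)).Cotangent ≃ₗ[P] I.Cotangent :=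
    Ideal.Cotangent.equivOfEq _ _ Ideal.mk_ker
  let bE : (B ⊗[P] Ω[P⁄A]) ≃ₗ[B] (Fin n → B) :=
    ((KaehlerDifferential.mvPolynomialBasis A (Fin n)).baseChange B).equivFun
  let t : (Ω[B⁄A] × (Fin r → B)) ≃ₗ[P] (Fin (m + r) → B) :=
    LinearEquiv.prodComm P _ _ ≪≫ₗ
      LinearEquiv.prodCongr ((eL.restrictScalars P).symm ≪≫ₗ eK.symm) (LinearEquiv.refl P _) ≪≫ₗ
      e.symm ≪≫ₗ bE.restrictScalars P ≪≫ₗ
      LinearEquiv.funCongrLeft P B (finCongr hm)
  exact ⟨t.extendScalarsOfSurjective hsurj⟩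

end Split

section Main

variable (A : Type u) [CommRing A] (n r : ℕ) (hrn : r ≤ n) (F : Fin r → MvPolynomial (Fin n) A)

include hrn in
/-- **Canonical module of a smooth complete intersection.** -/
theorem canonical_equiv
    (hreg : RingTheory.Sequence.IsWeaklyRegular (MvPolynomial (Fin n) A) (List.ofFn F))
    [Algebra.FormallySmooth A (MvPolynomial (Fin n) A ⧸ Ideal.span (Set.range F))] :
    Nonempty ((Module.Dual (MvPolynomial (Fin n) A ⧸ Ideal.span (Set.range F))
        (⋀[MvPolynomial (Fin n) A ⧸ Ideal.span (Set.range F)]^r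
          (Ideal.span (Set.range F)).Cotangent))
        ⊗[MvPolynomial (Fin n) A ⧸ Ideal.span (Set.range F)]
        ((MvPolynomial (Fin n) A ⧸ Ideal.span (Set.range F)) ⊗[MvPolynomial (Fin n) A]
          (⋀[MvPolynomial (Fin n) A]^n (Ω[MvPolynomial (Fin n) A⁄A])))
      ≃ₗ[MvPolynomial (Fin n) A ⧸ Ideal.span (Set.range F)]
        (⋀[MvPolynomial (Fin n) A ⧸ Ideal.span (Set.range F)]^(n - r)
          (Ω[(MvPolynomial (Fin n) A ⧸ Ideal.span (Set.range F))⁄A]))) := by
  let P := MvPolynomial (Fin n) A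
  let I : Ideal P := Ideal.span (Set.range F)
  let B := P ⧸ I
  obtain ⟨eL⟩ := nonempty_cotangent_equiv_of_isWeaklyRegular F hreg
  obtain ⟨eQ⟩ := kaehler_prod_equiv A n I r (n - r) (Nat.sub_add_cancel hrn) eL
  obtain ⟨⟨d⟩, -⟩ := det_of_stablyFree (B := B) r (n - r) (Ω[B⁄A]) eQ
  -- the left-hand side is free of rank one
  let e1 : (⋀[B]^r I.Cotangent) ≃ₗ[B] B := mapEquiv r eL ≪≫ₗ topEquivFin B r
  let e2 : Module.Dual B (⋀[B]^r I.Cotangent) ≃ₗ[B] B :=
    e1.symm.dualMap ≪≫ₗ LinearMap.ringLmapEquivSelf B B B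
  let e3 : (⋀[P]^n (Ω[P⁄A])) ≃ₗ[P] P :=
    mapEquiv n (KaehlerDifferential.mvPolynomialBasis A (Fin n)).equivFun ≪≫ₗ topEquivFin P n
  let e4 : (B ⊗[P] (⋀[P]^n (Ω[P⁄A]))) ≃ₗ[B] B :=
    TensorProduct.AlgebraTensorModule.congr (LinearEquiv.refl B B) e3 ≪≫ₗ
      TensorProduct.AlgebraTensorModule.rid P B B
  exact ⟨TensorProduct.congr e2 e4 ≪≫ₗ TensorProduct.lid B B ≪≫ₗ d.symm⟩

end Main

end Groth.Agent.Lib.Seat56.CanonCI
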