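import Mathlib

/-!
# Extending the universal derivation to an adic completion

For an `R`-algebra `A` and an ideal `I` of `A`, the universal derivation `d : A → Ω[A⁄R]` maps
`I ^ (n + 1)` into `I ^ n • Ω`, hence induces a map on completions
`AdicCompletion I A → AdicCompletion I Ω[A⁄R]` which is additive, satisfies the Leibniz rule, and
extends `d`.  When `A` is Noetherian and `Ω[A⁄R]` is finite over `A`, this yields an `R`-derivation
`Â → Â ⊗[A] Ω[A⁄R]` and a left inverse to `Â ⊗[A] Ω[A⁄R] → Ω[Â⁄R]`.
-/

set_option autoImplicit false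

namespace Groth.Agent.Lib.Seat56.ComplDer

open KaehlerDifferential TensorProduct

universe u

variable {R A : Type u} [CommRing R] [CommRing A] [Algebra R A] (I : Ideal A)

/-- `d (I ^ (n + 1)) ⊆ I ^ n • Ω`. -/
lemma D_mem_of_mem_pow_succ (n : ℕ) {a : A} (ha : a ∈ I ^ (n + 1)) :
    D R A a ∈ (I ^ n • ⊤ : Submodule A Ω[A⁄R]) := by
  induction n generalizing a with
  | zero => simp
  | succ n ih =>
    rw [pow_succ] at ha
    refine Submodule.mul_induction_on ha ?_ ?_
    · intro x hx y hy
      rw [Derivation.leibniz]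
      refine Submodule.add_mem _ (Submodule.smul_mem_smul hx Submodule.mem_top) ?_
      have h1 : y • D R A x ∈ I • (I ^ n • ⊤ : Submodule A Ω[A⁄R]) :=
        Submodule.smul_mem_smul hy (ih hx)
      rwa [← Submodule.mul_smul, ← pow_succ'] at h1
    · intro x y hx hy
      rw [map_add]
      exact Submodule.add_mem _ hx hy

/-- The level maps `A ⧸ I ^ (n + 1) → Ω ⧸ I ^ n Ω` induced by `d`. -/
noncomputable def lvl (n : ℕ) : (A ⧸ (I ^ (n + 1) • ⊤ : Submodule A A)) →ₗ[R]
    (Ω[A⁄R] ⧸ (I ^ n • ⊤ : Submodule A Ω[A⁄R])) :=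
  (Submodule.liftQ ((I ^ (n + 1) • ⊤ : Submodule A A).restrictScalars R)
    (((I ^ n • ⊤ : Submodule A Ω[A⁄R]).mkQ.restrictScalars R) ∘ₗ (D R A).toLinearMap) (by
      intro a ha
      have ha' : a ∈ I ^ (n + 1) := by
        have : a ∈ (I ^ (n + 1) • ⊤ : Submodule A A) := ha
        simpa using this
      simp only [LinearMap.mem_ker, LinearMap.coe_comp, Function.comp_apply,
        LinearMap.coe_restrictScalars, Submodule.mkQ_apply, Submodule.Quotient.mk_eq_zero]
      exact D_mem_of_mem_pow_succ (R := R) I n ha')) ∘ₗ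
    (Submodule.Quotient.restrictScalarsEquiv R _).symm.toLinearMap

@[simp]
lemma lvl_mk (n : ℕ) (a : A) :
    lvl (R := R) I n (Submodule.Quotient.mk a) = Submodule.Quotient.mk (D R A a) := by
  unfold lvl
  rw [LinearMap.comp_apply, LinearEquiv.coe_coe,
    Submodule.Quotient.restrictScalarsEquiv_symm_mk, Submodule.liftQ_apply]
  rfl

/-- The extension of `d` to the completions, as a function. -/
noncomputable def Dhat (x : AdicCompletion I A) : AdicCompletion I Ω[A⁄R] :=
  ⟨fun n => lvl (R := R) I n (x.val (n + 1)), by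
    intro m n hmn
    have hx : AdicCompletion.transitionMap I A (Nat.succ_le_succ hmn) (x.val (n + 1)) =
      x.val (m + 1) := x.property (Nat.succ_le_succ hmn)
    change AdicCompletion.transitionMap I Ω[A⁄R] hmn (lvl (R := R) I n (x.val (n + 1))) =
      lvl (R := R) I m (x.val (m + 1))
    rw [← hx]
    induction x.val (n + 1) using Submodule.Quotient.induction_on with
    | H a =>
      rw [lvl_mk]
      change Submodule.Quotient.mk (D R A a) = lvl (R := R) I m (Submodule.Quotient.mk a)
      rw [lvl_mk]⟩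

lemma Dhat_val (x : AdicCompletion I A) (n : ℕ) :
    (Dhat (R := R) I x).val n = lvl (R := R) I n (x.val (n + 1)) := rfl

lemma Dhat_add (x y : AdicCompletion I A) :
    Dhat (R := R) I (x + y) = Dhat (R := R) I x + Dhat (R := R) I y := by
  ext n
  simp [Dhat_val, AdicCompletion.val_add_apply]

lemma Dhat_of (a : A) :
    Dhat (R := R) I (AdicCompletion.of I A a) = AdicCompletion.of I Ω[A⁄R] (D R A a) := by
  ext n
  rw [Dhat_val]
  change lvl (R := R) I n (Submodule.Quotient.mk a) = Submodule.Quotient.mk (D R A a)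
  rw [lvl_mk]

lemma Dhat_mul (x y : AdicCompletion I A) :
    Dhat (R := R) I (x * y) = x • Dhat (R := R) I y + y • Dhat (R := R) I x := by
  ext n
  rw [AdicCompletion.val_add_apply, AdicCompletion.smul_eval, AdicCompletion.smul_eval,
    Dhat_val, Dhat_val, Dhat_val, AdicCompletion.val_mul]
  rw [← x.property (Nat.le_succ n), ← y.property (Nat.le_succ n)]
  induction x.val (n + 1) using Submodule.Quotient.induction_on with
  | H a =>
    induction y.val (n + 1) using Submodule.Quotient.induction_on with
    | H b =>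
      rw [lvl_mk, lvl_mk]
      change lvl (R := R) I n (Submodule.Quotient.mk (a * b)) =
        a • (Submodule.Quotient.mk (D R A b) : Ω[A⁄R] ⧸ (I ^ n • ⊤ : Submodule A Ω[A⁄R])) +
          b • (Submodule.Quotient.mk (D R A a) : Ω[A⁄R] ⧸ (I ^ n • ⊤ : Submodule A Ω[A⁄R]))
      rw [lvl_mk, Derivation.leibniz, Submodule.Quotient.mk_add, Submodule.Quotient.mk_smul,
        Submodule.Quotient.mk_smul]

section Noeth

variable [IsNoetherianRing A] [Module.Finite A Ω[A⁄R]]

/-- The `R`-derivation `Â → Â ⊗[A] Ω[A⁄R]` extending `d`. -/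
noncomputable def der : Derivation R (AdicCompletion I A) (AdicCompletion I A ⊗[A] Ω[A⁄R]) where
  toFun x := (AdicCompletion.ofTensorProductEquivOfFiniteNoetherian I Ω[A⁄R]).symm
    (Dhat (R := R) I x)
  map_add' x y := by rw [Dhat_add, map_add]
  map_smul' r x := by
    rw [Algebra.smul_def, AdicCompletion.algebraMap_apply, Dhat_mul, Dhat_of, map_add, map_smul,
      map_smul, Derivation.map_algebraMap, map_zero, map_zero, smul_zero, add_zero,
      ← AdicCompletion.algebraMap_apply, algebraMap_smul]
    rfl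
  map_one_eq_zero' := by
    change (AdicCompletion.ofTensorProductEquivOfFiniteNoetherian I Ω[A⁄R]).symm
      (Dhat (R := R) I 1) = 0
    have h1 : (1 : AdicCompletion I A) = AdicCompletion.of I A 1 := rfl
    rw [h1, Dhat_of, Derivation.map_one_eq_zero, map_zero, map_zero]
  leibniz' x y := by
    change (AdicCompletion.ofTensorProductEquivOfFiniteNoetherian I Ω[A⁄R]).symm
      (Dhat (R := R) I (x * y)) = x • (AdicCompletion.ofTensorProductEquivOfFiniteNoetherian I
        Ω[A⁄R]).symm (Dhat (R := R) I y) + y • (AdicCompletion.ofTensorProductEquivOfFiniteNoetherian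
        I Ω[A⁄R]).symm (Dhat (R := R) I x)
    rw [Dhat_mul, map_add, map_smul, map_smul]

lemma der_apply (x : AdicCompletion I A) :
    der (R := R) I x = (AdicCompletion.ofTensorProductEquivOfFiniteNoetherian I Ω[A⁄R]).symm
      (Dhat (R := R) I x) := rfl

lemma der_algebraMap (a : A) :
    der (R := R) I (algebraMap A (AdicCompletion I A) a) = 1 ⊗ₜ[A] D R A a := by
  rw [der_apply, AdicCompletion.algebraMap_apply, Algebra.algebraMap_self_apply, Dhat_of,
    AdicCompletion.ofTensorProductEquivOfFiniteNoetherian_symm_of]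

/-- A left inverse of `Â ⊗[A] Ω[A⁄R] → Ω[Â⁄R]`. -/
theorem exists_leftInverse :
    ∃ l : Ω[AdicCompletion I A⁄R] →ₗ[AdicCompletion I A] AdicCompletion I A ⊗[A] Ω[A⁄R],
      l ∘ₗ KaehlerDifferential.mapBaseChange R A (AdicCompletion I A) = LinearMap.id := by
  refine ⟨(der (R := R) I).liftKaehlerDifferential, ?_⟩
  have key : ∀ ω : Ω[A⁄R], (der (R := R) I).liftKaehlerDifferential
      (KaehlerDifferential.mapBaseChange R A (AdicCompletion I A) (1 ⊗ₜ[A] ω)) = 1 ⊗ₜ[A] ω := by
    intro ω
    have hω : ω ∈ Submodule.span A (Set.range (D R A)) := by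
      rw [KaehlerDifferential.span_range_derivation]; trivial
    induction hω using Submodule.span_induction with
    | mem ω h =>
      obtain ⟨a, rfl⟩ := h
      rw [KaehlerDifferential.mapBaseChange_tmul, one_smul, KaehlerDifferential.map_D,
        Derivation.liftKaehlerDifferential_comp_D, der_algebraMap]
    | zero => simp
    | add x y _ _ hx hy => rw [tmul_add, map_add, map_add, hx, hy]
    | smul a x _ hx =>
      rw [tmul_smul, ← algebraMap_smul (AdicCompletion I A) a
        ((1 : AdicCompletion I A) ⊗ₜ[A] x), map_smul, map_smul, hx]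
  refine LinearMap.ext fun t => ?_
  induction t using TensorProduct.induction_on with
  | zero => simp
  | tmul x ω =>
    have h1 : x ⊗ₜ[A] ω = x • ((1 : AdicCompletion I A) ⊗ₜ[A] ω) := by
      rw [smul_tmul', smul_eq_mul, mul_one]
    rw [LinearMap.comp_apply, LinearMap.id_apply, h1, map_smul, map_smul, key]
  | add x y hx hy => rw [map_add, hx, hy, map_add]

end Noeth

end Groth.Agent.Lib.Seat56.ComplDer
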