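import Mathlib
import Groth.Prelude.Def_CotT2

/-!
# Basic API for the Prelude's cotangent complex `L₂ → L₁ → L₀` of a presentation

Evaluation of `B`-linear maps out of `L₁`, `L₂` on the elements `1 ⊗ f`, `[1 ⊗ q]`, extensionality, and the
constructor of maps out of `L₂` from `R`-linear maps on the relation module killing the trivial relations.
-/

set_option autoImplicit false
set_option linter.unusedSectionVars false

universe u v w t m

open TensorProduct

namespace Groth.Agent.Lib.Seat56.CotTBasic

open CotT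

variable {A : Type u} {B : Type v} {ι : Type w} {σ : Type t}
variable [CommRing A] [CommRing B] [Algebra A B]
variable (P : Algebra.Presentation A B ι σ)

/-- `R → B` is surjective. -/
lemma algebraMap_surjective : Function.Surjective (algebraMap P.toExtension.Ring B) :=
  P.algebraMap_surjective

/-- every element of the kernel is `j` of something -/
lemma exists_jmap_eq {x : P.toExtension.Ring} (hx : algebraMap P.toExtension.Ring B x = 0) :
    ∃ f : relMod P, jmap P f = x := by
  have h : x ∈ LinearMap.range (jmap P) := by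
    rw [range_jmap]; exact hx
  exact h

/-- the element `1 ⊗ f` of `L₁` -/
noncomputable def mk1 (f : relMod P) : L1 P := (1 : B) ⊗ₜ[P.toExtension.Ring] f

lemma mk1_add (f g : relMod P) : mk1 P (f + g) = mk1 P f + mk1 P g := TensorProduct.tmul_add _ _ _

lemma mk1_zero : mk1 P 0 = 0 := TensorProduct.tmul_zero _ _

lemma mk1_sub (f g : relMod P) : mk1 P (f - g) = mk1 P f - mk1 P g := TensorProduct.tmul_sub _ _ _

lemma mk1_smul (r : P.toExtension.Ring) (f : relMod P) :
    mk1 P (r • f) = algebraMap P.toExtension.Ring B r • mk1 P f := by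
  unfold mk1
  rw [← TensorProduct.smul_tmul, TensorProduct.smul_tmul', Algebra.smul_def, mul_one, smul_eq_mul,
    mul_one]

lemma tmul_eq_smul_mk1 (b : B) (f : relMod P) :
    (b ⊗ₜ[P.toExtension.Ring] f : L1 P) = b • mk1 P f := by
  unfold mk1
  rw [TensorProduct.smul_tmul', smul_eq_mul, mul_one]

lemma mk1_of_mem_trivRel {f : relMod P} (hf : f ∈ trivRel P) : mk1 P f = 0 :=
  one_tmul_eq_zero_of_mem_trivRel P f hf

lemma mk1_single (s : σ) : mk1 P (Finsupp.single s 1) = L1basis P s := (L1basis_apply P s).symm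

/-- every element of `L₁` is of the form `1 ⊗ f` -/
lemma exists_mk1_eq (x : L1 P) : ∃ f : relMod P, mk1 P f = x := by
  induction x using TensorProduct.induction_on with
  | zero => exact ⟨0, mk1_zero P⟩
  | tmul b f =>
    obtain ⟨r, rfl⟩ := algebraMap_surjective P b
    exact ⟨r • f, by rw [mk1_smul, tmul_eq_smul_mk1]⟩
  | add x y hx hy =>
    obtain ⟨f, rfl⟩ := hx
    obtain ⟨g, rfl⟩ := hy
    exact ⟨f + g, mk1_add P f g⟩

/-- the class of `1 ⊗ q` in `L₂` -/
noncomputable def mk2 (q : relKer P) : L2 P :=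
  Submodule.Quotient.mk ((1 : B) ⊗ₜ[P.toExtension.Ring] q)

lemma mk2_add (q q' : relKer P) : mk2 P (q + q') = mk2 P q + mk2 P q' := by
  simp only [mk2, TensorProduct.tmul_add, Submodule.Quotient.mk_add]

lemma mk2_zero : mk2 P 0 = 0 := by
  simp only [mk2, TensorProduct.tmul_zero, Submodule.Quotient.mk_zero]

lemma mk2_smul (r : P.toExtension.Ring) (q : relKer P) :
    mk2 P (r • q) = algebraMap P.toExtension.Ring B r • mk2 P q := by
  simp only [mk2]
  rw [← Submodule.Quotient.mk_smul, TensorProduct.smul_tmul', ← TensorProduct.smul_tmul,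
    Algebra.smul_def, mul_one, smul_eq_mul, mul_one]

lemma mk_tmul_eq (b : B) (q : relKer P) :
    (Submodule.Quotient.mk (b ⊗ₜ[P.toExtension.Ring] q) : L2 P) = b • mk2 P q := by
  rw [mk2, ← Submodule.Quotient.mk_smul, TensorProduct.smul_tmul', smul_eq_mul, mul_one]

lemma mk2_eq_zero_of_mem_trivRel (q : relKer P) (hq : (q : relMod P) ∈ trivRel P) : mk2 P q = 0 := by
  rw [mk2, Submodule.Quotient.mk_eq_zero]
  exact ⟨(1 : B) ⊗ₜ ⟨q, hq⟩, rfl⟩

lemma d2_mk2 (q : relKer P) : d2 P (mk2 P q) = mk1 P (q : relMod P) := d2_mk_tmul P 1 q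

/-- every element of `L₂` is of the form `[1 ⊗ q]` -/
lemma exists_mk2_eq (x : L2 P) : ∃ q : relKer P, mk2 P q = x := by
  obtain ⟨z, rfl⟩ := Submodule.Quotient.mk_surjective _ x
  induction z using TensorProduct.induction_on with
  | zero => exact ⟨0, mk2_zero P⟩
  | tmul b q =>
    obtain ⟨r, rfl⟩ := algebraMap_surjective P b
    exact ⟨r • q, by rw [mk2_smul, mk_tmul_eq]⟩
  | add x y hx hy =>
    obtain ⟨q, hq⟩ := hx
    obtain ⟨q', hq'⟩ := hy
    exact ⟨q + q', by rw [mk2_add, hq, hq', Submodule.Quotient.mk_add]⟩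

section maps

variable {M : Type m} [AddCommGroup M] [Module B M]

/-- two maps out of `L₁` agreeing on the `1 ⊗ f` are equal -/
lemma L1_ext {ψ ψ' : L1 P →ₗ[B] M} (h : ∀ f, ψ (mk1 P f) = ψ' (mk1 P f)) : ψ = ψ' := by
  apply LinearMap.ext
  intro x
  obtain ⟨f, rfl⟩ := exists_mk1_eq P x
  exact h f

/-- two maps out of `L₁` agreeing on the basis are equal -/
lemma L1_ext_basis {ψ ψ' : L1 P →ₗ[B] M}
    (h : ∀ s, ψ (mk1 P (Finsupp.single s 1)) = ψ' (mk1 P (Finsupp.single s 1))) : ψ = ψ' := by
  refine (L1basis P).ext fun s => ?_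
  rw [← mk1_single]
  exact h s

/-- two maps out of `L₂` agreeing on the `[1 ⊗ q]` are equal -/
lemma L2_ext {ψ ψ' : L2 P →ₗ[B] M} (h : ∀ q, ψ (mk2 P q) = ψ' (mk2 P q)) : ψ = ψ' := by
  apply LinearMap.ext
  intro x
  obtain ⟨q, rfl⟩ := exists_mk2_eq P x
  exact h q

/-- The `B`-linear map `L₂ → M` attached to an additive map `g : Q → M` which is compatible with the scalar actions
(`g (r • q) = r̄ • g q`) and kills the trivial relations. -/
noncomputable def lift2 (g : relKer P →+ M)
    (hsmul : ∀ (r : P.toExtension.Ring) (q : relKer P), g (r • q) = algebraMap P.toExtension.Ring B r • g q)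
    (hg : ∀ q : relKer P, (q : relMod P) ∈ trivRel P → g q = 0) : L2 P →ₗ[B] M :=
  letI : Module P.toExtension.Ring M := Module.compHom M (algebraMap P.toExtension.Ring B)
  haveI : IsScalarTower P.toExtension.Ring B M := IsScalarTower.of_compHom P.toExtension.Ring B M
  let g' : relKer P →ₗ[P.toExtension.Ring] M :=
    { toFun := g
      map_add' := g.map_add
      map_smul' := fun r q => hsmul r q }
  Submodule.liftQ _ (LinearMap.liftBaseChange B g') (by
    rintro _ ⟨z, rfl⟩
    rw [LinearMap.mem_ker]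
    induction z using TensorProduct.induction_on with
    | zero => simp
    | add x y hx hy => rw [map_add, map_add, hx, hy, add_zero]
    | tmul b k =>
      rw [LinearMap.baseChange_tmul, LinearMap.liftBaseChange_tmul]
      have : g' ((trivRelKer P).subtype k) = 0 := hg _ k.2
      rw [this, smul_zero])

lemma lift2_mk2 (g : relKer P →+ M) (hsmul) (hg) (q : relKer P) :
    lift2 P g hsmul hg (mk2 P q) = g q := by
  unfold lift2 mk2
  erw [Submodule.liftQ_apply]
  erw [LinearMap.liftBaseChange_tmul]
  exact one_smul _ _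

end maps

end Groth.Agent.Lib.Seat56.CotTBasic
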