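import Groth.Agent.Lib.Helper19CotTVanish
import Groth.Agent.S2868
import Groth.Agent.Lib.Helper5RLR3

/-!
# Vanishing of `T²(B/A, -)` for a quotient `B = A/I` of a Noetherian local ring forces `I` to be generated by a
regular sequence

Uses the abstract `T²` of `Helper19KosDefs` (`Kos.T2 A B g hg M` for a surjection `A → B` with chosen generators `g` of the
kernel), its independence of the presentation, and the Koszul criterion `S2868`.
-/

set_option autoImplicit false
set_option linter.unusedSectionVars false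
set_option linter.style.haveILetI false

universe u v w t m

open TensorProduct

namespace Groth.Agent.Lib.Seat56.CotTCI

open Groth.Agent.Lib.Helper19.Kos Groth.Agent.Lib.Helper19.CotTVanish Groth.Agent.Lib.Helper19.CotTIndep

section transfer

variable {A : Type u} {B : Type v} [CommRing A] [CommRing B] [Algebra A B] {ι : Type w}
  {σ : Type t} (P : Algebra.Presentation A B ι σ) (M : Type m) [AddCommGroup M] [Module B M]

/-- For a surjection `A → B` with kernel generated by `g`, the Prelude's `T²` of any presentation of `B` over `A` is the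
abstract `T²` of `(A, g)`. -/
theorem nonempty_T2_equiv_kos (hsurj : Function.Surjective (algebraMap A B))
    {n : ℕ} (g : Fin n → A) (hg : ∀ i, algebraMap A B (g i) = 0)
    (hI : RingHom.ker (algebraMap A B) = Ideal.span (Set.range g)) :
    Nonempty (CotT.T2 P M ≃ₗ[B] T2 A B g hg M) := by
  haveI : Algebra.FormallySmooth A P.toExtension.Ring :=
    inferInstanceAs (Algebra.FormallySmooth A (MvPolynomial ι A))
  let h' : P.toExtension.Ring →ₐ[A] A :=
    (MvPolynomial.aeval (fun i => Function.surjInv hsurj (P.val i)) : MvPolynomial ι A →ₐ[A] A)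
  have hh' : ∀ x, algebraMap A B (h' x) = algebraMap P.toExtension.Ring B x := by
    intro x
    have : (Algebra.ofId A B).comp h' = IsScalarTower.toAlgHom A P.toExtension.Ring B := by
      refine MvPolynomial.algHom_ext fun i => ?_
      show algebraMap A B (MvPolynomial.aeval (fun i => Function.surjInv hsurj (P.val i))
        (MvPolynomial.X i)) = algebraMap P.toExtension.Ring B (MvPolynomial.X i)
      rw [MvPolynomial.aeval_X, Function.surjInv_eq hsurj, CotT.algebraMap_toExtension,
        MvPolynomial.aeval_X]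
    exact AlgHom.congr_fun this x
  obtain ⟨e⟩ := nonempty_T2_equiv_of_formallySmooth (A := A) (S := P.toExtension.Ring) (S' := A)
    (B := B) (f' := g)
    (CotT.algebraMap_rel P) hg (Algebra.ofId A P.toExtension.Ring)
    (fun x => (IsScalarTower.algebraMap_apply A P.toExtension.Ring B x).symm)
    h' hh'
    (jm_span P) (fun z hz => by
      have hz' : z ∈ Ideal.span (Set.range g) := by rw [← hI]; exact hz
      rw [Ideal.span, ← Finsupp.range_linearCombination] at hz'
      exact hz') M
  exact ⟨(bridge P M).trans e⟩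

end transfer

section koszul

variable {A : Type u} [CommRing A] {n : ℕ} (g : Fin n → A)

/-- the image in `Fin n → A` of a Koszul relation is in the span of the basic trivial relations -/
lemma kos_mem_triv (a b : Fin n →₀ A) :
    (Finsupp.linearEquivFunOnFinite A A (Fin n)) (jm A g a • b - jm A g b • a) ∈
      Groth.Agent.Lib.Helper11KoszulReg.triv g A := by
  induction a using Finsupp.induction_linear with
  | zero => simp
  | add a a' ha ha' =>
    have e : jm A g (a + a') • b - jm A g b • (a + a') =
        (jm A g a • b - jm A g b • a) + (jm A g a' • b - jm A g b • a') := by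
      rw [map_add, add_smul, smul_add]
      abel
    rw [e, map_add]
    exact Submodule.add_mem _ ha ha'
  | single i α =>
    induction b using Finsupp.induction_linear with
    | zero => simp
    | add b b' hb hb' =>
      have e : jm A g (Finsupp.single i α) • (b + b') - jm A g (b + b') • Finsupp.single i α =
          (jm A g (Finsupp.single i α) • b - jm A g b • Finsupp.single i α) +
          (jm A g (Finsupp.single i α) • b' - jm A g b' • Finsupp.single i α) := by
        rw [map_add, add_smul, smul_add]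
        abel
      rw [e, map_add]
      exact Submodule.add_mem _ hb hb'
    | single j β =>
      have e : (Finsupp.linearEquivFunOnFinite A A (Fin n))
          (jm A g (Finsupp.single i α) • Finsupp.single j β -
            jm A g (Finsupp.single j β) • Finsupp.single i α) =
          g i • (Pi.single j (α * β) : Fin n → A) - g j • (Pi.single i (α * β) : Fin n → A) := by
        rw [jm_single, jm_single, map_sub, map_smul, map_smul,
          Finsupp.linearEquivFunOnFinite_single, Finsupp.linearEquivFunOnFinite_single]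
        ext k
        simp only [Pi.sub_apply, Pi.smul_apply, Pi.single_apply, smul_eq_mul]
        split_ifs <;> ring
      rw [e]
      exact Groth.Agent.Lib.Helper11KoszulReg.triv_gen_mem g A j i (α * β)

/-- if all relations are Koszul then the first Koszul homology vanishes -/
theorem koszulH1Zero_of_Q_le_F0 (h : Q A g ≤ F0 A g) : CInt.KoszulH1Zero g A := by
  rw [Groth.Agent.Lib.Helper11KoszulReg.koszulH1Zero_iff]
  intro m hm
  let e := Finsupp.linearEquivFunOnFinite A A (Fin n)
  have hx : e.symm m ∈ Q A g := by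
    rw [mem_Q, jm, Finsupp.linearCombination_apply,
      (e.symm m).sum_fintype (fun i c => c • g i) (fun i => zero_smul _ _)]
    rw [← hm]
    refine Finset.sum_congr rfl fun i _ => ?_
    change m i • g i = g i • m i
    rw [smul_eq_mul, smul_eq_mul, mul_comm]
  have hF := h hx
  have hle : F0 A g ≤ (Groth.Agent.Lib.Helper11KoszulReg.triv g A).comap e.toLinearMap := by
    refine Submodule.span_le.mpr ?_
    rintro _ ⟨a, b, rfl⟩
    exact kos_mem_triv g a b
  have := hle hF
  rw [Submodule.mem_comap] at this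
  simpa using this

end koszul

section minimal

variable {A : Type u} [CommRing A] [IsLocalRing A]

lemma span_range_succAbove {m : ℕ} (g : Fin (m + 1) → A) (q : Fin (m + 1) →₀ A) (hq : jm A g q = 0)
    (j : Fin (m + 1)) (hu : IsUnit (q j)) :
    Ideal.span (Set.range (fun i : Fin m => g (j.succAbove i))) = Ideal.span (Set.range g) := by
  refine le_antisymm (Ideal.span_mono ?_) (Ideal.span_le.mpr ?_)
  · rintro _ ⟨i, rfl⟩
    exact ⟨_, rfl⟩
  · rintro _ ⟨i, rfl⟩
    by_cases hij : i = j
    · subst hij
      have h1 : ∑ k, q k * g k = 0 := by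
        rw [← hq, jm, Finsupp.linearCombination_apply,
          q.sum_fintype (fun i c => c • g i) (fun i => zero_smul _ _)]
        rfl
      rw [Fin.sum_univ_succAbove _ i] at h1
      obtain ⟨u, hu'⟩ := hu
      have h2 : g i = - (↑u⁻¹ * ∑ k : Fin m, q (i.succAbove k) * g (i.succAbove k)) := by
        have h3 : q i * g i = - ∑ k : Fin m, q (i.succAbove k) * g (i.succAbove k) :=
          eq_neg_of_add_eq_zero_left h1
        calc g i = ↑u⁻¹ * (q i * g i) := by
              rw [← mul_assoc, ← hu', Units.inv_mul, one_mul]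
          _ = _ := by rw [h3]; ring
      rw [h2]
      refine Ideal.neg_mem_iff _ |>.mpr (Ideal.mul_mem_left _ _ (Ideal.sum_mem _ fun k _ => ?_))
      exact Ideal.mul_mem_left _ _ (Ideal.subset_span ⟨k, rfl⟩)
    · obtain ⟨i', rfl⟩ := Fin.exists_succAbove_eq hij
      exact Ideal.subset_span ⟨i', rfl⟩

/-- a finitely generated ideal of a local ring has a generating family all of whose relations have coefficients in the
maximal ideal -/
lemma exists_minimal_generators (I : Ideal A) (hfg : I.FG) :
    ∃ (n : ℕ) (g : Fin n → A), Ideal.span (Set.range g) = I ∧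
      ∀ q : Fin n →₀ A, jm A g q = 0 → ∀ i, q i ∈ IsLocalRing.maximalIdeal A := by
  classical
  have hex : ∃ n, ∃ g : Fin n → A, Ideal.span (Set.range g) = I := by
    obtain ⟨n, s, hs⟩ := Submodule.fg_iff_exists_fin_generating_family.mp hfg
    exact ⟨n, s, hs⟩
  obtain ⟨g, hg⟩ := Nat.find_spec hex
  refine ⟨Nat.find hex, g, hg, ?_⟩
  intro q hq j
  by_contra hj
  have hu : IsUnit (q j) := by
    by_contra h
    exact hj ((IsLocalRing.mem_maximalIdeal _).mpr h)
  have key : ∀ (n : ℕ) (g : Fin n → A) (q : Fin n →₀ A) (j : Fin n), jm A g q = 0 → IsUnit (q j) →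
      Ideal.span (Set.range g) = I → ∃ m, m < n ∧ ∃ g' : Fin m → A, Ideal.span (Set.range g') = I := by
    intro n g q j hq hu hg
    cases n with
    | zero => exact j.elim0
    | succ m => exact ⟨m, Nat.lt_succ_self m, _, (span_range_succAbove g q hq j hu).trans hg⟩
  obtain ⟨m, hm, hg'⟩ := key _ g q j hq hu hg
  exact Nat.find_min hex hm hg'

end minimal

section nakayama

open IsLocalRing

variable {A : Type u} [CommRing A] [IsLocalRing A] [IsNoetherianRing A] (I : Ideal A)
  {n : ℕ} (g : Fin n → A) (hg : ∀ i, algebraMap A (A ⧸ I) (g i) = 0)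

lemma d2_mem_smul_top [IsLocalRing (A ⧸ I)]
    (hmin : ∀ q : Fin n →₀ A, jm A g q = 0 → ∀ i, q i ∈ maximalIdeal A) (x : L2 A (A ⧸ I) g) :
    d2 hg x ∈ (maximalIdeal (A ⧸ I)) • (⊤ : Submodule (A ⧸ I) (L1 A (A ⧸ I) (σ := Fin n))) := by
  obtain ⟨z, rfl⟩ := Submodule.Quotient.mk_surjective _ x
  induction z using TensorProduct.induction_on with
  | zero =>
    rw [Submodule.Quotient.mk_zero, map_zero]
    exact Submodule.zero_mem _
  | add x y hx hy =>
    rw [Submodule.Quotient.mk_add, map_add]
    exact Submodule.add_mem _ hx hy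
  | tmul b q =>
    rw [d2_mk_tmul]
    have hq : ((q : Q A g) : Fin n →₀ A) =
        ∑ i, ((q : Q A g) : Fin n →₀ A) i • Finsupp.single i (1 : A) := by
      conv_lhs => rw [← Finsupp.univ_sum_single ((q : Q A g) : Fin n →₀ A)]
      refine Finset.sum_congr rfl fun i _ => ?_
      rw [Finsupp.smul_single, smul_eq_mul, mul_one]
    rw [hq, TensorProduct.tmul_sum]
    refine Submodule.sum_mem _ fun i _ => ?_
    rw [TensorProduct.tmul_smul,
      ← algebraMap_smul (A ⧸ I) (((q : Q A g) : Fin n →₀ A) i) (b ⊗ₜ[A] Finsupp.single i (1 : A))]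
    refine Submodule.smul_mem_smul ?_ Submodule.mem_top
    exact (Groth.Agent.Lib.Helper5.mk_mem_maximalIdeal_quotient_iff I _).mpr
      (hmin q ((mem_Q A g _).mp q.2) i)

/-- if `T²` with coefficients in `L₂` vanishes and the generators are minimal then `L₂ = 0` -/
theorem L2_subsingleton_of_T2 [IsLocalRing (A ⧸ I)]
    (hmin : ∀ q : Fin n →₀ A, jm A g q = 0 → ∀ i, q i ∈ maximalIdeal A)
    (hT : Subsingleton (T2 A (A ⧸ I) g hg (L2 A (A ⧸ I) g))) : Subsingleton (L2 A (A ⧸ I) g) := by
  have h0 : (Submodule.Quotient.mk (LinearMap.id : L2 A (A ⧸ I) g →ₗ[A ⧸ I] L2 A (A ⧸ I) g) :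
      T2 A (A ⧸ I) g hg (L2 A (A ⧸ I) g)) = 0 := Subsingleton.elim _ _
  rw [Submodule.Quotient.mk_eq_zero] at h0
  obtain ⟨χ, hχ⟩ := h0
  have hχ' : ∀ x, χ (d2 hg x) = x := fun x => LinearMap.congr_fun hχ x
  have hle : (⊤ : Submodule (A ⧸ I) (L2 A (A ⧸ I) g)) ≤ maximalIdeal (A ⧸ I) • ⊤ := by
    intro x _
    rw [← hχ' x]
    have h1 := d2_mem_smul_top I g hg hmin x
    have h2 : (maximalIdeal (A ⧸ I) • (⊤ : Submodule (A ⧸ I) (L1 A (A ⧸ I) (σ := Fin n)))).map χ ≤
        maximalIdeal (A ⧸ I) • ⊤ := by
      rw [Submodule.map_smul'']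
      exact Submodule.smul_mono le_rfl le_top
    exact h2 (Submodule.mem_map_of_mem h1)
  have hjac : maximalIdeal (A ⧸ I) ≤ Ideal.jacobson ⊥ := by
    rw [IsLocalRing.jacobson_eq_maximalIdeal ⊥ bot_ne_top]
  have hfg : (⊤ : Submodule (A ⧸ I) (L2 A (A ⧸ I) g)).FG := Module.Finite.fg_top
  have hbot := Submodule.eq_bot_of_le_smul_of_le_jacobson_bot _ _ hfg hle hjac
  exact (Submodule.subsingleton_iff (A ⧸ I)).mp (subsingleton_of_bot_eq_top hbot.symm)

/-- if `L₂ = 0` then all relations are Koszul relations -/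
theorem Q_le_F0_of_L2_subsingleton (hI : I ≠ ⊤) (hsub : Subsingleton (L2 A (A ⧸ I) g)) :
    Q A g ≤ F0 A g := by
  have hrange : LinearMap.range ((F0Q A g).subtype.baseChange (A ⧸ I)) = ⊤ :=
    Submodule.Quotient.subsingleton_iff.mp hsub
  have key : Q A g ≤ F0 A g ⊔ I • Q A g := by
    intro q hq
    have hq1 : (1 : A ⧸ I) ⊗ₜ[A] (⟨q, hq⟩ : Q A g) ∈
        LinearMap.range ((F0Q A g).subtype.baseChange (A ⧸ I)) := by
      rw [hrange]
      trivial
    obtain ⟨z, hz⟩ := hq1
    obtain ⟨t, rfl⟩ := TensorProduct.mk_surjective A (F0Q A g) (A ⧸ I) Ideal.Quotient.mk_surjective z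
    have hz' : (1 : A ⧸ I) ⊗ₜ[A] (t : Q A g) = (1 : A ⧸ I) ⊗ₜ[A] (⟨q, hq⟩ : Q A g) := hz
    have h3 := congrArg (TensorProduct.quotTensorEquivQuotSMul (Q A g) I) hz'
    rw [← map_one (Ideal.Quotient.mk I), TensorProduct.quotTensorEquivQuotSMul_mk_tmul,
      TensorProduct.quotTensorEquivQuotSMul_mk_tmul, one_smul, one_smul, Submodule.Quotient.eq] at h3
    have h4 : (Q A g).subtype ((t : Q A g) - ⟨q, hq⟩) ∈
        (I • (⊤ : Submodule A (Q A g))).map (Q A g).subtype := Submodule.mem_map_of_mem h3
    rw [Submodule.map_smul'', Submodule.map_subtype_top] at h4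
    have h5 : (Q A g).subtype ((t : Q A g) - ⟨q, hq⟩) = ((t : Q A g) : Fin n →₀ A) - q := rfl
    rw [h5] at h4
    have e : q = ((t : Q A g) : Fin n →₀ A) - (((t : Q A g) : Fin n →₀ A) - q) := by abel
    rw [e]
    exact Submodule.sub_mem _ (Submodule.mem_sup_left t.2) (Submodule.mem_sup_right h4)
  have hfg : (Q A g).FG := IsNoetherian.noetherian _
  have hjac : I ≤ Ideal.jacobson ⊥ := by
    rw [IsLocalRing.jacobson_eq_maximalIdeal ⊥ bot_ne_top]
    exact IsLocalRing.le_maximalIdeal hI
  exact Submodule.le_of_le_smul_of_le_jacobson_bot hfg hjac key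

end nakayama

section main

open IsLocalRing

variable {A : Type u} [CommRing A] [IsLocalRing A] [IsNoetherianRing A]

/-- **`T²(B/A, -) = 0` forces a regular sequence.**  For a proper ideal `I` of a Noetherian local ring `A`, if
`T²((A/I)/A, M) = 0` for all `A/I`-modules `M`, then `I` is generated by a regular sequence. -/
theorem exists_isRegular_of_T2_subsingleton (I : Ideal A) (hI : I ≠ ⊤)
    (hT : ∀ (M : Type u) [AddCommGroup M] [Module (A ⧸ I) M],
      Subsingleton (CotT.T2 (CotT.canon A (A ⧸ I)) M)) :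
    ∃ rs : List A, Ideal.ofList rs = I ∧ RingTheory.Sequence.IsRegular A rs := by
  obtain ⟨n, g, hspan, hmin⟩ := exists_minimal_generators I (IsNoetherian.noetherian I)
  have hgI : ∀ i, g i ∈ I := fun i => by
    rw [← hspan]
    exact Ideal.subset_span ⟨i, rfl⟩
  have hg : ∀ i, algebraMap A (A ⧸ I) (g i) = 0 := fun i =>
    Ideal.Quotient.eq_zero_iff_mem.mpr (hgI i)
  have hker : RingHom.ker (algebraMap A (A ⧸ I)) = Ideal.span (Set.range g) := by
    rw [hspan, Ideal.Quotient.algebraMap_eq, Ideal.mk_ker]
  have hsurj : Function.Surjective (algebraMap A (A ⧸ I)) := Ideal.Quotient.mk_surjective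
  haveI : Nontrivial (A ⧸ I) := Ideal.Quotient.nontrivial_iff.mpr hI
  haveI : IsLocalRing (A ⧸ I) := IsLocalRing.of_surjective' (Ideal.Quotient.mk I) Ideal.Quotient.mk_surjective
  have hTk : ∀ (M : Type u) [AddCommGroup M] [Module (A ⧸ I) M], Subsingleton (T2 A (A ⧸ I) g hg M) := by
    intro M _ _
    obtain ⟨e⟩ := nonempty_T2_equiv_kos (CotT.canon A (A ⧸ I)) M hsurj g hg hker
    haveI := hT M
    exact e.symm.toEquiv.subsingleton
  have hL2 := L2_subsingleton_of_T2 I g hg hmin (hTk _)
  have hQ := Q_le_F0_of_L2_subsingleton I g hI hL2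
  have hK := koszulH1Zero_of_Q_le_F0 g hQ
  have hrad : ∀ i, g i ∈ (⊥ : Ideal A).jacobson := fun i => by
    rw [IsLocalRing.jacobson_eq_maximalIdeal ⊥ bot_ne_top]
    exact IsLocalRing.le_maximalIdeal hI (hgI i)
  have hreg := Groth.Agent.S2868.result g hrad A hK
  have hof : Ideal.ofList (List.ofFn g) = I := by
    rw [Groth.Agent.Lib.Helper5.ofList_ofFn_eq_span_range, hspan]
  refine ⟨List.ofFn g, hof, hreg, ?_⟩
  rw [hof, smul_eq_mul, Ideal.mul_top]
  exact fun h => hI h.symm

end main

end Groth.Agent.Lib.Seat56.CotTCI
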