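import Groth.Agent.Lib.Seat56CotTBasic

/-!
# Composition of morphisms of presentations and functoriality of the maps on `Tⁱ`
-/

set_option autoImplicit false
set_option linter.unusedSectionVars false

universe u v w t u' v' w' t' u'' v'' w'' t'' m

open TensorProduct

namespace Groth.Agent.Lib.Seat56.CotTComp

open CotT Groth.Agent.Lib.Seat56.CotTBasic

section mk

variable {A : Type u} {B : Type v} {ι : Type w} {σ : Type t}
variable {A' : Type u'} {B' : Type v'} {ι' : Type w'} {σ' : Type t'}
variable [CommRing A] [CommRing B] [Algebra A B] [CommRing A'] [CommRing B'] [Algebra A' B']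
variable [Algebra A A'] [Algebra B B'] [Algebra A B'] [IsScalarTower A A' B'] [IsScalarTower A B B']
variable {P : Algebra.Presentation A B ι σ} {P' : Algebra.Presentation A' B' ι' σ'}
variable (h : PresHom P P')

lemma L1map_mk1 (f : relMod P) : h.L1map (mk1 P f) = mk1 P' (h.relModMap f) := by
  unfold mk1
  rw [PresHom.L1map_tmul, map_one]

lemma L2map_mk2 (q : relKer P) : h.L2map (mk2 P q) = mk2 P' (h.relKerMap q) := by
  unfold mk2
  rw [PresHom.L2map_mk_tmul, map_one]

variable (M' : Type m) [AddCommGroup M'] [Module B' M'] [Module B M'] [IsScalarTower B B' M']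

lemma T0pull_coe (x : T0 P' M') : ((h.T0pull M' x : T0 P M') : L0 P →ₗ[B] M') = h.pull0 M' x.1 := rfl

lemma T1pull_mk (ψ : cocycles1 P' M') :
    h.T1pull M' (Submodule.Quotient.mk ψ) = Submodule.Quotient.mk (h.cocycles1Pull M' ψ) := rfl

lemma T2pull_mk (ψ : L2 P' →ₗ[B'] M') :
    h.T2pull M' (Submodule.Quotient.mk ψ) = Submodule.Quotient.mk (h.pull2 M' ψ) := rfl

end mk

section comp

variable {A : Type u} {B : Type v} {ι : Type w} {σ : Type t}
variable {A' : Type u'} {B' : Type v'} {ι' : Type w'} {σ' : Type t'}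
variable {A'' : Type u''} {B'' : Type v''} {ι'' : Type w''} {σ'' : Type t''}
variable [CommRing A] [CommRing B] [Algebra A B] [CommRing A'] [CommRing B'] [Algebra A' B']
variable [CommRing A''] [CommRing B''] [Algebra A'' B'']
variable [Algebra A A'] [Algebra B B'] [Algebra A B'] [IsScalarTower A A' B'] [IsScalarTower A B B']
variable [Algebra A' A''] [Algebra B' B''] [Algebra A' B''] [IsScalarTower A' A'' B'']
  [IsScalarTower A' B' B'']
variable [Algebra A A''] [Algebra B B''] [Algebra A B''] [IsScalarTower A A'' B'']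
  [IsScalarTower A B B'']
variable [IsScalarTower A A' A''] [IsScalarTower B B' B'']
variable {P : Algebra.Presentation A B ι σ} {P' : Algebra.Presentation A' B' ι' σ'}
  {P'' : Algebra.Presentation A'' B'' ι'' σ''}

lemma ringHom_comp_apply (h₂ : PresHom P' P'') (h₁ : PresHom P P') (r : P.toExtension.Ring) :
    (h₂.hom.comp h₁.hom).toExtensionHom.toRingHom r = h₂.ringHom (h₁.ringHom r) := by
  rw [Algebra.Generators.Hom.toExtensionHom_comp]
  rfl

/-- Composition of morphisms of presentations. -/
noncomputable def comp (h₂ : PresHom P' P'') (h₁ : PresHom P P') : PresHom P P'' where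
  hom := h₂.hom.comp h₁.hom
  relVal s := h₂.relModMap (h₁.relVal s)
  jmap_relVal s := by
    rw [h₂.jmap_relModMap, h₁.jmap_relVal, ringHom_comp_apply]

variable (h₂ : PresHom P' P'') (h₁ : PresHom P P')

lemma comp_ringHom (r : P.toExtension.Ring) :
    (comp h₂ h₁).ringHom r = h₂.ringHom (h₁.ringHom r) := ringHom_comp_apply h₂ h₁ r

lemma comp_relModMap (f : relMod P) :
    (comp h₂ h₁).relModMap f = h₂.relModMap (h₁.relModMap f) := by
  induction f using Finsupp.induction_linear with
  | zero => simp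
  | add f g hf hg => rw [map_add, map_add, map_add, hf, hg]
  | single s r =>
    rw [PresHom.relModMap_single, PresHom.relModMap_single, LinearMap.map_smulₛₗ, comp_ringHom]
    rfl

lemma comp_relKerMap (q : relKer P) :
    (comp h₂ h₁).relKerMap q = h₂.relKerMap (h₁.relKerMap q) :=
  Subtype.ext (comp_relModMap h₂ h₁ q)

lemma comp_L1map (x : L1 P) : (comp h₂ h₁).L1map x = h₂.L1map (h₁.L1map x) := by
  obtain ⟨f, rfl⟩ := exists_mk1_eq P x
  rw [L1map_mk1, L1map_mk1, L1map_mk1, comp_relModMap]

lemma comp_L2map (x : L2 P) : (comp h₂ h₁).L2map x = h₂.L2map (h₁.L2map x) := by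
  obtain ⟨q, rfl⟩ := exists_mk2_eq P x
  rw [L2map_mk2, L2map_mk2, L2map_mk2, comp_relKerMap]

lemma comp_L0map (x : L0 P) : (comp h₂ h₁).L0map x = h₂.L0map (h₁.L0map x) := by
  rw [PresHom.L0map_apply, PresHom.L0map_apply, PresHom.L0map_apply]
  change Algebra.Extension.CotangentSpace.map (h₂.hom.comp h₁.hom).toExtensionHom x = _
  rw [Algebra.Generators.Hom.toExtensionHom_comp, Algebra.Extension.CotangentSpace.map_comp]
  rfl

variable (M'' : Type m) [AddCommGroup M''] [Module B'' M''] [Module B' M''] [Module B M'']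
  [IsScalarTower B' B'' M''] [IsScalarTower B B'' M''] [IsScalarTower B B' M'']

lemma comp_pull0 (ψ : L0 P'' →ₗ[B''] M'') :
    (comp h₂ h₁).pull0 M'' ψ = h₁.pull0 M'' (h₂.pull0 M'' ψ) := by
  ext x
  simp only [PresHom.pull0_apply, comp_L0map]

lemma comp_pull1 (ψ : L1 P'' →ₗ[B''] M'') :
    (comp h₂ h₁).pull1 M'' ψ = h₁.pull1 M'' (h₂.pull1 M'' ψ) := by
  refine LinearMap.ext fun x => ?_
  simp only [PresHom.pull1_apply, comp_L1map]

lemma comp_pull2 (ψ : L2 P'' →ₗ[B''] M'') :
    (comp h₂ h₁).pull2 M'' ψ = h₁.pull2 M'' (h₂.pull2 M'' ψ) := by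
  refine LinearMap.ext fun x => ?_
  simp only [PresHom.pull2_apply, comp_L2map]

theorem comp_T0pull (x : T0 P'' M'') :
    (comp h₂ h₁).T0pull M'' x = h₁.T0pull M'' (h₂.T0pull M'' x) :=
  Subtype.ext (comp_pull0 h₂ h₁ M'' x.1)

theorem comp_T1pull (x : T1 P'' M'') :
    (comp h₂ h₁).T1pull M'' x = h₁.T1pull M'' (h₂.T1pull M'' x) := by
  obtain ⟨ψ, rfl⟩ := Submodule.Quotient.mk_surjective _ x
  rw [T1pull_mk, T1pull_mk, T1pull_mk]
  congr 1
  exact Subtype.ext (comp_pull1 h₂ h₁ M'' ψ.1)

theorem comp_T2pull (x : T2 P'' M'') :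
    (comp h₂ h₁).T2pull M'' x = h₁.T2pull M'' (h₂.T2pull M'' x) := by
  obtain ⟨ψ, rfl⟩ := Submodule.Quotient.mk_surjective _ x
  rw [T2pull_mk, T2pull_mk, T2pull_mk, comp_pull2]

end comp

section id

variable {A : Type u} {B : Type v} {ι : Type w} {σ : Type t}
variable [CommRing A] [CommRing B] [Algebra A B]
variable (P : Algebra.Presentation A B ι σ)

lemma id_ringHom (r : P.toExtension.Ring) : (PresHom.id P).ringHom r = r := by
  change (Algebra.Generators.Hom.id P.toGenerators).toExtensionHom.toRingHom r = r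
  rw [Algebra.Generators.Hom.toExtensionHom_id]
  rfl

lemma id_relModMap (f : relMod P) : (PresHom.id P).relModMap f = f := by
  induction f using Finsupp.induction_linear with
  | zero => simp
  | add f g hf hg => rw [map_add, hf, hg]
  | single s r =>
    rw [PresHom.relModMap_single, id_ringHom]
    change r • Finsupp.single s (1 : P.toExtension.Ring) = _
    rw [Finsupp.smul_single, smul_eq_mul, mul_one]

lemma id_relKerMap (q : relKer P) : (PresHom.id P).relKerMap q = q :=
  Subtype.ext (id_relModMap P q)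

lemma id_L1map (x : L1 P) : (PresHom.id P).L1map x = x := by
  obtain ⟨f, rfl⟩ := exists_mk1_eq P x
  rw [L1map_mk1, id_relModMap]

lemma id_L2map (x : L2 P) : (PresHom.id P).L2map x = x := by
  obtain ⟨q, rfl⟩ := exists_mk2_eq P x
  rw [L2map_mk2, id_relKerMap]

lemma id_L0map (x : L0 P) : (PresHom.id P).L0map x = x := by
  rw [PresHom.L0map_apply]
  change Algebra.Extension.CotangentSpace.map (Algebra.Generators.Hom.id P.toGenerators).toExtensionHom x = x
  rw [Algebra.Generators.Hom.toExtensionHom_id, Algebra.Extension.CotangentSpace.map_id]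
  rfl

variable (M : Type m) [AddCommGroup M] [Module B M]

theorem id_T0pull (x : T0 P M) : (PresHom.id P).T0pull M x = x := by
  apply Subtype.ext
  ext y
  rw [T0pull_coe, PresHom.pull0_apply, id_L0map]

theorem id_T1pull (x : T1 P M) : (PresHom.id P).T1pull M x = x := by
  obtain ⟨ψ, rfl⟩ := Submodule.Quotient.mk_surjective _ x
  rw [T1pull_mk]
  congr 1
  apply Subtype.ext
  refine LinearMap.ext fun y => ?_
  rw [PresHom.cocycles1Pull_coe, PresHom.pull1_apply, id_L1map]

theorem id_T2pull (x : T2 P M) : (PresHom.id P).T2pull M x = x := by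
  obtain ⟨ψ, rfl⟩ := Submodule.Quotient.mk_surjective _ x
  rw [T2pull_mk]
  congr 1
  refine LinearMap.ext fun y => ?_
  rw [PresHom.pull2_apply, id_L2map]

end id

end Groth.Agent.Lib.Seat56.CotTComp
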