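import Groth.Agent.Lib.Seat56CotTRing
import Groth.Agent.Lib.Seat56CotTComp

/-!
# The maps induced on `T⁰`, `T¹`, `T²` by a morphism of presentations do not depend on the morphism
-/

set_option autoImplicit false
set_option linter.unusedSectionVars false

universe u v w t u' v' w' t' m

open TensorProduct

namespace Groth.Agent.Lib.Seat56.CotTIndep

open CotT Groth.Agent.Lib.Seat56.CotTBasic Groth.Agent.Lib.Seat56.CotTRing Groth.Agent.Lib.Seat56.CotTComp

variable {A : Type u} {B : Type v} {ι : Type w} {σ : Type t}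
variable {A' : Type u'} {B' : Type v'} {ι' : Type w'} {σ' : Type t'}
variable [CommRing A] [CommRing B] [Algebra A B] [CommRing A'] [CommRing B'] [Algebra A' B']
variable [Algebra A A'] [Algebra B B'] [Algebra A B'] [IsScalarTower A A' B'] [IsScalarTower A B B']
variable {P : Algebra.Presentation A B ι σ} {P' : Algebra.Presentation A' B' ι' σ'}
variable (h h' : PresHom P P')

section prep

/-- `N' = F'/F'₀ → L₁' = B' ⊗ F'`, `[x] ↦ 1 ⊗ x`. -/
noncomputable def ιN (P' : Algebra.Presentation A' B' ι' σ') : NQ P' →ₗ[P'.toExtension.Ring] L1 P' :=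
  (trivRel P').liftQ (TensorProduct.mk P'.toExtension.Ring B' (relMod P') 1)
    (fun x hx => one_tmul_eq_zero_of_mem_trivRel P' x hx)

lemma ιN_mkN (x : relMod P') : ιN P' (mkN P' x) = mk1 P' x := rfl

lemma ιN_smul (r : P'.toExtension.Ring) (n : NQ P') :
    ιN P' (r • n) = algebraMap P'.toExtension.Ring B' r • ιN P' n := by
  rw [map_smul, algebraMap_smul]

/-- the class `ω_s = [v'_s] - [v_s] - d(rel_s)` in `N'`, which lies in the kernel of `j̄`. -/
noncomputable def ω (s : σ) : NQ P' :=
  mkN P' (h'.relVal s) - mkN P' (h.relVal s) - dtw h h' (rel P s)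

lemma jbar_ω (s : σ) : jbar P' (ω h h' s) = 0 := by
  unfold ω
  rw [map_sub, map_sub, jbar_mkN, jbar_mkN, jbar_dtw, h'.jmap_relVal, h.jmap_relVal]
  ring

lemma exists_w (s : σ) : ∃ x : relKer P', mkN P' (x : relMod P') = ω h h' s := by
  obtain ⟨x, hx⟩ := mkN_surjective P' (ω h h' s)
  refine ⟨⟨x, ?_⟩, hx⟩
  change jmap P' x = 0
  rw [← jbar_mkN, hx, jbar_ω]

/-- representatives `w_s ∈ Q'` of `ω_s` -/
noncomputable def wrep (s : σ) : relKer P' := (exists_w h h' s).choose

lemma mkN_wrep (s : σ) : mkN P' (wrep h h' s : relMod P') = ω h h' s := (exists_w h h' s).choose_spec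

/-- `F → Q'`, `e_s ↦ w_s`, semilinear over `τ`. -/
noncomputable def Wmap : relMod P →ₛₗ[h.ringHom] relKer P' where
  toFun f := Finsupp.linearCombination P'.toExtension.Ring (wrep h h') (Finsupp.mapRange h.ringHom (map_zero _) f)
  map_add' f g := by rw [Finsupp.mapRange_add (map_add _), map_add]
  map_smul' r f := by
    rw [← map_smul]
    congr 1
    ext s
    simp [Finsupp.mapRange_apply, map_mul]

@[simp] lemma Wmap_single (s : σ) (r : P.toExtension.Ring) :
    Wmap h h' (Finsupp.single s r) = h.ringHom r • wrep h h' s := by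
  simp [Wmap]

/-- the key identity in `N' = F'/F'₀` -/
lemma key_identity (f : relMod P) :
    mkN P' (h'.relModMap f) - mkN P' (h.relModMap f) - mkN P' (Wmap h h' f : relMod P') =
      dtw h h' (jmap P f) := by
  induction f using Finsupp.induction_linear with
  | zero => simp [dtw_zero]
  | add f g hf hg =>
    have e : jmap P (f + g) = jmap P f + jmap P g := map_add _ _ _
    rw [e, dtw_add, ← hf, ← hg]
    simp only [Submodule.coe_add, map_add]
    abel
  | single s r =>
    rw [PresHom.relModMap_single, PresHom.relModMap_single, Wmap_single, jmap_single, dtw_mul,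
      ← h'.jmap_relVal, jmap_smul_dtw]
    simp only [Submodule.coe_smul, map_smul, mkN_wrep]
    unfold ω
    simp only [smul_sub, sub_smul]
    abel

end prep

section indep

variable (M' : Type m) [AddCommGroup M'] [Module B' M'] [Module B M'] [IsScalarTower B B' M']

lemma L0map_one_tmul_D (r : P.toExtension.Ring) :
    h.L0map ((1 : B) ⊗ₜ[P.toExtension.Ring] KaehlerDifferential.D A P.toExtension.Ring r) =
      (1 : B') ⊗ₜ[P'.toExtension.Ring] KaehlerDifferential.D A' P'.toExtension.Ring (h.ringHom r) := by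
  rw [PresHom.L0map_apply, Algebra.Extension.CotangentSpace.map_tmul, map_one]
  rfl

lemma L0map_sub_eq (r : P.toExtension.Ring) (f : relMod P')
    (hf : jmap P' f = h'.ringHom r - h.ringHom r) :
    h'.L0map ((1 : B) ⊗ₜ[P.toExtension.Ring] KaehlerDifferential.D A P.toExtension.Ring r) -
      h.L0map ((1 : B) ⊗ₜ[P.toExtension.Ring] KaehlerDifferential.D A P.toExtension.Ring r) =
      d1 P' (mk1 P' f) := by
  rw [L0map_one_tmul_D, L0map_one_tmul_D]
  unfold mk1
  rw [d1_tmul, one_smul, hf, map_sub, TensorProduct.tmul_sub]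

/-- The map induced on `T⁰` by a morphism of presentations only depends on the underlying square of rings. -/
theorem T0pull_indep (x : T0 P' M') : h.T0pull M' x = h'.T0pull M' x := by
  apply Subtype.ext
  rw [T0pull_coe, T0pull_coe]
  refine P.cotangentSpaceBasis.ext fun i => ?_
  rw [Algebra.Generators.cotangentSpaceBasis_apply, PresHom.pull0_apply, PresHom.pull0_apply]
  symm
  rw [← sub_eq_zero, ← map_sub]
  have e := L0map_sub_eq h h' (MvPolynomial.X i) (fi h h' i) (jmap_fi h h' i)
  have hx : (x : L0 P' →ₗ[B'] M') ∘ₗ d1 P' = 0 := x.2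
  erw [e]
  exact LinearMap.congr_fun hx _

/-- `Δ r = ψ'(ι(d r))` for a `B'`-linear map `ψ'` on `L₁'` -/
noncomputable def Δ (ψ' : L1 P' →ₗ[B'] M') (r : P.toExtension.Ring) : M' := ψ' (ιN P' (dtw h h' r))

lemma Δ_add (ψ' : L1 P' →ₗ[B'] M') (a b : P.toExtension.Ring) :
    Δ h h' M' ψ' (a + b) = Δ h h' M' ψ' a + Δ h h' M' ψ' b := by
  unfold Δ
  rw [dtw_add, map_add, map_add]

lemma Δ_C (ψ' : L1 P' →ₗ[B'] M') (a : A) : Δ h h' M' ψ' (MvPolynomial.C a) = 0 := by
  unfold Δ
  rw [dtw_C, map_zero, map_zero]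

lemma Δ_mul (ψ' : L1 P' →ₗ[B'] M') (a b : P.toExtension.Ring) :
    Δ h h' M' ψ' (a * b) = algebraMap P.toExtension.Ring B a • Δ h h' M' ψ' b +
      algebraMap P.toExtension.Ring B b • Δ h h' M' ψ' a := by
  unfold Δ
  rw [dtw_mul, map_add, map_add, ιN_smul, ιN_smul, map_smul, map_smul, h.algebraMap_ringHom,
    h'.algebraMap_ringHom, IsScalarTower.algebraMap_smul B', IsScalarTower.algebraMap_smul B']

/-- the homotopy `L₀ → M'` -/
noncomputable def χ0 (ψ' : L1 P' →ₗ[B'] M') : L0 P →ₗ[B] M' :=
  P.cotangentSpaceBasis.constr B (fun i => Δ h h' M' ψ' (MvPolynomial.X i))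

lemma χ0_X (ψ' : L1 P' →ₗ[B'] M') (i : ι) :
    χ0 h h' M' ψ' ((1 : B) ⊗ₜ[P.toExtension.Ring] KaehlerDifferential.D A P.toExtension.Ring (MvPolynomial.X i)) =
      Δ h h' M' ψ' (MvPolynomial.X i) := by
  have e := P.cotangentSpaceBasis.constr_basis B (fun i => Δ h h' M' ψ' (MvPolynomial.X i)) i
  rw [Algebra.Generators.cotangentSpaceBasis_apply] at e
  exact e

/-- the variable `xᵢ` as an element of `P.toExtension.Ring` -/
noncomputable abbrev Xr (P : Algebra.Presentation A B ι σ) (i : ι) : P.toExtension.Ring := MvPolynomial.X i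

/-- induction principle for the polynomial ring of a presentation, phrased with the operations of
`P.toExtension.Ring` -/
lemma ring_induction {motive : P.toExtension.Ring → Prop} (r : P.toExtension.Ring)
    (hC : ∀ a : A, motive (algebraMap A P.toExtension.Ring a))
    (hadd : ∀ p q : P.toExtension.Ring, motive p → motive q → motive (p + q))
    (hmul : ∀ (p : P.toExtension.Ring) (i : ι), motive p →
      motive (p * Xr P i)) : motive r :=
  MvPolynomial.induction_on (motive := motive) r hC hadd hmul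

lemma one_tmul_smul (p : P.toExtension.Ring) (x : Ω[P.toExtension.Ring⁄A]) :
    ((1 : B) ⊗ₜ[P.toExtension.Ring] (p • x) : L0 P) =
      algebraMap P.toExtension.Ring B p • ((1 : B) ⊗ₜ[P.toExtension.Ring] x : L0 P) := by
  rw [← TensorProduct.smul_tmul, TensorProduct.smul_tmul', Algebra.smul_def, mul_one, smul_eq_mul, mul_one]

lemma χ0_D (ψ' : L1 P' →ₗ[B'] M') (r : P.toExtension.Ring) :
    χ0 h h' M' ψ' ((1 : B) ⊗ₜ[P.toExtension.Ring] KaehlerDifferential.D A P.toExtension.Ring r) =
      Δ h h' M' ψ' r := by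
  induction r using ring_induction with
  | hC a =>
    have e2 : Δ h h' M' ψ' (algebraMap A P.toExtension.Ring a) = 0 := Δ_C h h' M' ψ' a
    rw [Derivation.map_algebraMap, TensorProduct.tmul_zero, e2, map_zero]
  | hadd p q hp hq =>
    rw [map_add, TensorProduct.tmul_add, map_add, hp, hq, Δ_add]
  | hmul p i hp =>
    rw [Derivation.leibniz, TensorProduct.tmul_add, one_tmul_smul, one_tmul_smul, map_add,
      (χ0 h h' M' ψ').map_smul, (χ0 h h' M' ψ').map_smul, hp, χ0_X, Δ_mul]

lemma cocycle_ιN_ω (ψ' : cocycles1 P' M') (s : σ) :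
    (ψ' : L1 P' →ₗ[B'] M') (ιN P' (ω h h' s)) = 0 := by
  rw [← mkN_wrep, ιN_mkN, ← d2_mk2]
  have hx : (ψ' : L1 P' →ₗ[B'] M') ∘ₗ d2 P' = 0 := ψ'.2
  exact LinearMap.congr_fun hx _

lemma Δ_rel (ψ' : cocycles1 P' M') (s : σ) :
    Δ h h' M' (ψ' : L1 P' →ₗ[B'] M') (rel P s) =
      (ψ' : L1 P' →ₗ[B'] M') (mk1 P' (h'.relVal s)) - (ψ' : L1 P' →ₗ[B'] M') (mk1 P' (h.relVal s)) := by
  have e := cocycle_ιN_ω h h' M' ψ' s
  unfold ω at e
  rw [map_sub, map_sub, map_sub, map_sub, ιN_mkN, ιN_mkN, sub_eq_zero] at e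
  exact e.symm

/-- The map induced on `T¹` by a morphism of presentations only depends on the underlying square of rings. -/
theorem T1pull_indep (x : T1 P' M') : h.T1pull M' x = h'.T1pull M' x := by
  obtain ⟨ψ', rfl⟩ := Submodule.Quotient.mk_surjective _ x
  rw [T1pull_mk, T1pull_mk]
  symm
  rw [Submodule.Quotient.eq]
  refine ⟨χ0 h h' M' (ψ' : L1 P' →ₗ[B'] M'), ?_⟩
  apply L1_ext_basis
  intro s
  rw [d1Star_apply, LinearMap.comp_apply]
  have e1 : d1 P (mk1 P (Finsupp.single s 1)) =
      (1 : B) ⊗ₜ[P.toExtension.Ring] KaehlerDifferential.D A P.toExtension.Ring (rel P s) := by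
    unfold mk1
    rw [d1_tmul, one_smul, jmap_single, one_mul]
  rw [e1, χ0_D, Δ_rel]
  have e2 : h'.relModMap (Finsupp.single s 1) = h'.relVal s := by
    rw [PresHom.relModMap_single, map_one, one_smul]
  have e3 : h.relModMap (Finsupp.single s 1) = h.relVal s := by
    rw [PresHom.relModMap_single, map_one, one_smul]
  change _ = (ψ' : L1 P' →ₗ[B'] M') (h'.L1map (mk1 P (Finsupp.single s 1))) -
    (ψ' : L1 P' →ₗ[B'] M') (h.L1map (mk1 P (Finsupp.single s 1)))
  rw [L1map_mk1, L1map_mk1, e2, e3]

lemma mk2_sub (q q' : relKer P') : mk2 P' (q - q') = mk2 P' q - mk2 P' q' := by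
  rw [eq_sub_iff_add_eq, ← mk2_add]
  congr 1
  exact sub_add_cancel q q'

/-- the homotopy `L₁ → M'` -/
noncomputable def χ1 (ψ' : L2 P' →ₗ[B'] M') : L1 P →ₗ[B] M' :=
  (L1basis P).constr B (fun s => ψ' (mk2 P' (wrep h h' s)))

lemma χ1_mk1 (ψ' : L2 P' →ₗ[B'] M') (f : relMod P) :
    χ1 h h' M' ψ' (mk1 P f) = ψ' (mk2 P' (Wmap h h' f)) := by
  induction f using Finsupp.induction_linear with
  | zero => rw [mk1_zero, map_zero, map_zero, mk2_zero, map_zero]
  | add f g hf hg => rw [mk1_add, map_add, hf, hg, map_add, mk2_add, map_add]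
  | single s r =>
    have e : Finsupp.single s r = r • Finsupp.single s (1 : P.toExtension.Ring) := by
      rw [Finsupp.smul_single, smul_eq_mul, mul_one]
    rw [Wmap_single, mk2_smul, map_smul, h.algebraMap_ringHom, IsScalarTower.algebraMap_smul B', e, mk1_smul,
      map_smul, mk1_single]
    congr 1
    exact (L1basis P).constr_basis B _ s

lemma mk2_key (q : relKer P) :
    mk2 P' (h'.relKerMap q) - mk2 P' (h.relKerMap q) = mk2 P' (Wmap h h' (q : relMod P)) := by
  rw [← mk2_sub, ← sub_eq_zero, ← mk2_sub]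
  apply mk2_eq_zero_of_mem_trivRel
  have e := key_identity h h' (q : relMod P)
  rw [show jmap P (q : relMod P) = 0 from q.2, dtw_zero, ← map_sub, ← map_sub, mkN_eq_zero_iff] at e
  exact e

/-- The map induced on `T²` by a morphism of presentations only depends on the underlying square of rings. -/
theorem T2pull_indep (x : T2 P' M') : h.T2pull M' x = h'.T2pull M' x := by
  obtain ⟨ψ', rfl⟩ := Submodule.Quotient.mk_surjective _ x
  rw [T2pull_mk, T2pull_mk]
  symm
  rw [Submodule.Quotient.eq]
  refine ⟨χ1 h h' M' ψ', ?_⟩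
  apply L2_ext
  intro q
  rw [d2Star_apply, LinearMap.comp_apply, d2_mk2, χ1_mk1, ← mk2_key, map_sub]
  change _ = ψ' (h'.L2map (mk2 P q)) - ψ' (h.L2map (mk2 P q))
  rw [L2map_mk2, L2map_mk2]

end indep

section exists_hom

variable (P P')

lemma exists_relVal (hom : Algebra.Generators.Hom P.toGenerators P'.toGenerators) (s : σ) :
    ∃ f : relMod P', jmap P' f = hom.toExtensionHom.toRingHom (rel P s) := by
  apply exists_jmap_eq
  rw [hom.toExtensionHom.algebraMap_toRingHom, algebraMap_rel, map_zero]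

/-- a morphism of presentations over a given square, built from choices -/
noncomputable def someHom : PresHom P P' where
  hom := Algebra.Generators.defaultHom P.toGenerators P'.toGenerators
  relVal s := (exists_relVal P P' (Algebra.Generators.defaultHom P.toGenerators P'.toGenerators) s).choose
  jmap_relVal s :=
    (exists_relVal P P' (Algebra.Generators.defaultHom P.toGenerators P'.toGenerators) s).choose_spec

end exists_hom

section equiv

variable {ι₂ : Type w'} {σ₂ : Type t'}
variable {P₁ : Algebra.Presentation A B ι σ} {P₂ : Algebra.Presentation A B ι₂ σ₂}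
variable (g : PresHom P₁ P₂) (g' : PresHom P₂ P₁)
variable (M : Type m) [AddCommGroup M] [Module B M]

theorem T0pull_T0pull (x : T0 P₁ M) : g.T0pull M (g'.T0pull M x) = x := by
  rw [← comp_T0pull, T0pull_indep (comp g' g) (PresHom.id P₁), id_T0pull]

theorem T1pull_T1pull (x : T1 P₁ M) : g.T1pull M (g'.T1pull M x) = x := by
  rw [← comp_T1pull, T1pull_indep (comp g' g) (PresHom.id P₁), id_T1pull]

theorem T2pull_T2pull (x : T2 P₁ M) : g.T2pull M (g'.T2pull M x) = x := by
  rw [← comp_T2pull, T2pull_indep (comp g' g) (PresHom.id P₁), id_T2pull]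

/-- For two presentations of the same algebra, the map on `T⁰` induced by any morphism of presentations over the identity
square is bijective. -/
theorem T0pull_bijective : Function.Bijective (g.T0pull M) := by
  let g' : PresHom P₂ P₁ := someHom P₂ P₁
  exact ⟨Function.LeftInverse.injective (T0pull_T0pull g' g M),
    Function.RightInverse.surjective (T0pull_T0pull g g' M)⟩

theorem T1pull_bijective : Function.Bijective (g.T1pull M) := by
  let g' : PresHom P₂ P₁ := someHom P₂ P₁
  exact ⟨Function.LeftInverse.injective (T1pull_T1pull g' g M),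
    Function.RightInverse.surjective (T1pull_T1pull g g' M)⟩

theorem T2pull_bijective : Function.Bijective (g.T2pull M) := by
  let g' : PresHom P₂ P₁ := someHom P₂ P₁
  exact ⟨Function.LeftInverse.injective (T2pull_T2pull g' g M),
    Function.RightInverse.surjective (T2pull_T2pull g g' M)⟩

end equiv

end Groth.Agent.Lib.Seat56.CotTIndep
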