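import Groth.Agent.Lib.Seat56CotTBasic

/-!
# The ring `R ⊕ F/F₀` and the twisted derivation attached to two morphisms of presentations

For a presentation `P` with polynomial ring `R`, free module `F`, `j : F → R` and trivial relations `F₀`, the module
`N = F/F₀` is a commutative non-unital `R`-algebra for `m * n = j(m) • n`; its unitization `E = R ⊕ N` maps to `R` in two
ways (`(r, n) ↦ r` and `(r, n) ↦ r + j n`).  Two ring maps `τ, τ'` from a polynomial ring into `R` with `τ' - τ` valued in
the image of `j` lift to a ring map into `E`, whose second component is a twisted derivation `d` with `j ∘ d = τ' - τ`.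
-/

set_option autoImplicit false
set_option linter.unusedSectionVars false

universe u v w t u' v' w' t' m

open TensorProduct

namespace Groth.Agent.Lib.Seat56.CotTRing

open CotT Groth.Agent.Lib.Seat56.CotTBasic

section NQ

variable {A : Type u} {B : Type v} {ι : Type w} {σ : Type t}
variable [CommRing A] [CommRing B] [Algebra A B]
variable (P : Algebra.Presentation A B ι σ)

/-- `N = F/F₀`, the free module on the relations modulo the trivial relations. -/
def NQ : Type (max t w u) := relMod P ⧸ trivRel P

noncomputable instance : AddCommGroup (NQ P) := inferInstanceAs (AddCommGroup (relMod P ⧸ trivRel P))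

noncomputable instance : Module P.toExtension.Ring (NQ P) :=
  inferInstanceAs (Module P.toExtension.Ring (relMod P ⧸ trivRel P))

/-- the quotient map `F → N` -/
noncomputable def mkN : relMod P →ₗ[P.toExtension.Ring] NQ P := (trivRel P).mkQ

lemma mkN_surjective : Function.Surjective (mkN P) := Submodule.mkQ_surjective _

lemma mkN_eq_zero_iff (x : relMod P) : mkN P x = 0 ↔ x ∈ trivRel P :=
  Submodule.Quotient.mk_eq_zero _

lemma mkN_eq_mkN_iff (x y : relMod P) : mkN P x = mkN P y ↔ x - y ∈ trivRel P :=
  Submodule.Quotient.eq _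

/-- `j̄ : N → R` induced by `j`. -/
noncomputable def jbar : NQ P →ₗ[P.toExtension.Ring] P.toExtension.Ring :=
  (trivRel P).liftQ (jmap P) (trivRel_le_relKer P)

@[simp] lemma jbar_mkN (x : relMod P) : jbar P (mkN P x) = jmap P x := rfl

noncomputable instance : Mul (NQ P) := ⟨fun m n => jbar P m • n⟩

lemma mul_def (m n : NQ P) : m * n = jbar P m • n := rfl

lemma mul_comm' (m n : NQ P) : m * n = n * m := by
  obtain ⟨a, rfl⟩ := mkN_surjective P m
  obtain ⟨b, rfl⟩ := mkN_surjective P n
  rw [mul_def, mul_def, jbar_mkN, jbar_mkN, ← map_smul, ← map_smul, mkN_eq_mkN_iff]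
  exact Submodule.subset_span ⟨a, b, rfl⟩

noncomputable instance : NonUnitalCommRing (NQ P) where
  left_distrib a b c := by simp only [mul_def, smul_add]
  right_distrib a b c := by simp only [mul_def, map_add, add_smul]
  zero_mul a := by simp only [mul_def, map_zero, zero_smul]
  mul_zero a := by simp only [mul_def, smul_zero]
  mul_assoc a b c := by simp only [mul_def, map_smul, smul_eq_mul, mul_smul]
  mul_comm := mul_comm' P

instance : IsScalarTower P.toExtension.Ring (NQ P) (NQ P) :=
  ⟨fun r m n => by simp only [smul_eq_mul, mul_def, map_smul, mul_smul]⟩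

instance : SMulCommClass P.toExtension.Ring (NQ P) (NQ P) :=
  ⟨fun r m n => by simp only [smul_eq_mul, mul_def]; rw [smul_comm]⟩

/-- `j̄` as a non-unital algebra homomorphism. -/
noncomputable def jbarNA : NQ P →ₙₐ[P.toExtension.Ring] P.toExtension.Ring :=
  { jbar P with
    map_zero' := map_zero _
    map_mul' := fun m n => by
      change jbar P (m * n) = jbar P m * jbar P n
      rw [mul_def, map_smul, smul_eq_mul] }

/-- The ring `E = R ⊕ N`. -/
abbrev E : Type _ := Unitization P.toExtension.Ring (NQ P)

/-- `(r, n) ↦ r + j̄ n` -/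
noncomputable def sumHom : E P →ₐ[P.toExtension.Ring] P.toExtension.Ring := (jbarNA P).toAlgHom

lemma sumHom_apply (x : E P) : sumHom P x = x.fst + jbar P x.snd := rfl

/-- `(r, n) ↦ r` -/
noncomputable def fstHom : E P →ₐ[P.toExtension.Ring] P.toExtension.Ring :=
  Unitization.fstHom P.toExtension.Ring (NQ P)

lemma fstHom_apply (x : E P) : fstHom P x = x.fst := rfl

end NQ

section twisted

variable {A : Type u} {B : Type v} {ι : Type w} {σ : Type t}
variable {A' : Type u'} {B' : Type v'} {ι' : Type w'} {σ' : Type t'}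
variable [CommRing A] [CommRing B] [Algebra A B] [CommRing A'] [CommRing B'] [Algebra A' B']
variable [Algebra A A'] [Algebra B B'] [Algebra A B'] [IsScalarTower A A' B'] [IsScalarTower A B B']
variable {P : Algebra.Presentation A B ι σ} {P' : Algebra.Presentation A' B' ι' σ'}
variable (h h' : PresHom P P')

lemma exists_jmap_eq_sub (r : P.toExtension.Ring) :
    ∃ f : relMod P', jmap P' f = h'.ringHom r - h.ringHom r := by
  apply exists_jmap_eq
  rw [map_sub, h'.algebraMap_ringHom, h.algebraMap_ringHom, sub_self]

/-- chosen lifts to `F'` of the differences `τ'(xᵢ) - τ(xᵢ)` -/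
noncomputable def fi (i : ι) : relMod P' := (exists_jmap_eq_sub h h' (MvPolynomial.X i)).choose

lemma jmap_fi (i : ι) : jmap P' (fi h h' i) = h'.ringHom (MvPolynomial.X i) - h.ringHom (MvPolynomial.X i) :=
  (exists_jmap_eq_sub h h' (MvPolynomial.X i)).choose_spec

/-- The ring map `R → E' = R' ⊕ F'/F'₀` with first component `τ` and `fst + j̄ ∘ snd = τ'`. -/
noncomputable def Φ : P.toExtension.Ring →+* E P' :=
  MvPolynomial.eval₂Hom
    ((algebraMap P'.toExtension.Ring (E P')).comp
      ((algebraMap A' P'.toExtension.Ring).comp (algebraMap A A')))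
    (fun i => Unitization.inl (h.ringHom (MvPolynomial.X i)) + (mkN P' (fi h h' i) : E P'))

lemma ringHom_C (a : A) :
    h.ringHom (MvPolynomial.C a) = algebraMap A' P'.toExtension.Ring (algebraMap A A' a) :=
  h.hom.toExtensionHom.toRingHom_algebraMap a

lemma Φ_C (a : A) : Φ h h' (MvPolynomial.C a) =
    Unitization.inl (algebraMap A' P'.toExtension.Ring (algebraMap A A' a)) := by
  have e : Φ h h' (MvPolynomial.C a) = ((algebraMap P'.toExtension.Ring (E P')).comp
      ((algebraMap A' P'.toExtension.Ring).comp (algebraMap A A'))) a :=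
    MvPolynomial.eval₂Hom_C _ _ a
  rw [e]
  simp [Unitization.algebraMap_eq_inl]

lemma Φ_X (i : ι) : Φ h h' (MvPolynomial.X i) =
    Unitization.inl (h.ringHom (MvPolynomial.X i)) + (mkN P' (fi h h' i) : E P') :=
  MvPolynomial.eval₂Hom_X' _ _ i

lemma fst_Φ (r : P.toExtension.Ring) : (Φ h h' r).fst = h.ringHom r := by
  let Φ₀ : MvPolynomial ι A →+* E P' := Φ h h'
  let τ₀ : MvPolynomial ι A →+* P'.toExtension.Ring := h.ringHom
  suffices H : ∀ p : MvPolynomial ι A, (Φ₀ p).fst = τ₀ p from H r
  intro p
  induction p using MvPolynomial.induction_on with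
  | C a =>
    have e : Φ₀ (MvPolynomial.C a) = _ := Φ_C h h' a
    rw [e]
    exact (ringHom_C h a).symm
  | add p q hp hq => rw [map_add, map_add, Unitization.fst_add, hp, hq]
  | mul_X p i hp =>
    have e : Φ₀ (MvPolynomial.X i) = _ := Φ_X h h' i
    rw [map_mul, map_mul, Unitization.fst_mul, hp, e]
    simp [τ₀]
    rfl

lemma sum_Φ (r : P.toExtension.Ring) : sumHom P' (Φ h h' r) = h'.ringHom r := by
  let Φ₀ : MvPolynomial ι A →+* E P' := Φ h h'
  let τ₀ : MvPolynomial ι A →+* P'.toExtension.Ring := h'.ringHom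
  suffices H : ∀ p : MvPolynomial ι A, sumHom P' (Φ₀ p) = τ₀ p from H r
  intro p
  induction p using MvPolynomial.induction_on with
  | C a =>
    have e : Φ₀ (MvPolynomial.C a) = _ := Φ_C h h' a
    rw [e, sumHom_apply]
    simp only [Unitization.fst_inl, Unitization.snd_inl, map_zero, add_zero]
    exact (ringHom_C h' a).symm
  | add p q hp hq => rw [map_add, map_add, map_add, hp, hq]
  | mul_X p i hp =>
    have e : Φ₀ (MvPolynomial.X i) = _ := Φ_X h h' i
    rw [map_mul, map_mul, map_mul, hp, e, sumHom_apply]
    have e2 := jmap_fi h h' i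
    simp only [Unitization.fst_add, Unitization.fst_inl, Unitization.fst_inr, add_zero,
      Unitization.snd_add, Unitization.snd_inl, Unitization.snd_inr, zero_add, jbar_mkN, e2]
    simp [τ₀]
    rfl

/-- The twisted derivation `d : R → F'/F'₀`. -/
noncomputable def dtw (r : P.toExtension.Ring) : NQ P' := (Φ h h' r).snd

lemma dtw_add (a b : P.toExtension.Ring) : dtw h h' (a + b) = dtw h h' a + dtw h h' b := by
  unfold dtw
  rw [map_add, Unitization.snd_add]

lemma dtw_zero : dtw h h' 0 = 0 := by
  unfold dtw
  rw [map_zero, Unitization.snd_zero]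

lemma jbar_dtw (r : P.toExtension.Ring) : jbar P' (dtw h h' r) = h'.ringHom r - h.ringHom r := by
  have h1 := sum_Φ h h' r
  rw [sumHom_apply, fst_Φ] at h1
  unfold dtw
  rw [← h1]
  ring

lemma dtw_mul (a b : P.toExtension.Ring) :
    dtw h h' (a * b) = h.ringHom a • dtw h h' b + h'.ringHom b • dtw h h' a := by
  unfold dtw
  rw [map_mul, Unitization.snd_mul, fst_Φ, fst_Φ]
  change _ + jbar P' (dtw h h' a) • dtw h h' b = _
  rw [jbar_dtw]
  have e : dtw h h' a * dtw h h' b = dtw h h' b * dtw h h' a := mul_comm _ _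
  have e2 : jbar P' (dtw h h' a) • dtw h h' b = jbar P' (dtw h h' b) • dtw h h' a := e
  rw [← jbar_dtw, e2, jbar_dtw]
  unfold dtw
  module

lemma dtw_C (a : A) : dtw h h' (MvPolynomial.C a) = 0 := by
  unfold dtw
  rw [Φ_C, Unitization.snd_inl]

/-- symmetry: `τ'(x) • d r = j̄(d r) • [v]` when `τ' x = j v`. -/
lemma jmap_smul_dtw (v : relMod P') (r : P.toExtension.Ring) :
    jmap P' v • dtw h h' r = (h'.ringHom r - h.ringHom r) • mkN P' v := by
  have e : mkN P' v * dtw h h' r = dtw h h' r * mkN P' v := mul_comm _ _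
  rw [mul_def, mul_def, jbar_mkN, jbar_dtw] at e
  exact e

end twisted

end Groth.Agent.Lib.Seat56.CotTRing
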