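import Groth.Agent.Lib.Seat56CotTTriple

/-!
# The nine-term exact sequence of `T⁰`, `T¹`, `T²` for the composite presentation

For presentations `P` of `B/A` and `Q` of `C/B` and a `C`-module `M`, the morphisms `kP : P → Q.comp P`, `kQ : Q.comp P → Q`
induce the nine-term exact sequence
`0 → T⁰(Q) → T⁰(Q.comp P) → T⁰(P) → T¹(Q) → T¹(Q.comp P) → T¹(P) → T²(Q) → T²(Q.comp P) → T²(P)`.
-/

set_option autoImplicit false
set_option linter.unusedSectionVars false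

universe u v v' w t w' t' m

open TensorProduct

namespace Groth.Agent.Lib.Seat56.CotTSnake

open CotT Groth.Agent.Lib.Seat56.CotTBasic Groth.Agent.Lib.Seat56.CotTComp
  Groth.Agent.Lib.Seat56.CotTIndep Groth.Agent.Lib.Seat56.CotTTriple

section quot

variable {A : Type u} {B : Type v} {ι : Type w} {σ : Type t} [CommRing A] [CommRing B] [Algebra A B]
variable (X : Algebra.Presentation A B ι σ) (M : Type m) [AddCommGroup M] [Module B M]

lemma T1_mk_eq_zero_iff (c : cocycles1 X M) :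
    (Submodule.Quotient.mk c : T1 X M) = 0 ↔ ∃ η : L0 X →ₗ[B] M, d1Star X M η = c.1 := by
  rw [Submodule.Quotient.mk_eq_zero]
  exact Iff.rfl

lemma T1_mk_eq_mk_iff (c c' : cocycles1 X M) :
    (Submodule.Quotient.mk c : T1 X M) = Submodule.Quotient.mk c' ↔
      ∃ η : L0 X →ₗ[B] M, d1Star X M η = c.1 - c'.1 := by
  rw [Submodule.Quotient.eq]
  exact Iff.rfl

lemma T2_mk_eq_zero_iff (φ : L2 X →ₗ[B] M) :
    (Submodule.Quotient.mk φ : T2 X M) = 0 ↔ ∃ ψ : L1 X →ₗ[B] M, d2Star X M ψ = φ := by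
  rw [Submodule.Quotient.mk_eq_zero]
  exact Iff.rfl

lemma T2_mk_eq_mk_iff (φ φ' : L2 X →ₗ[B] M) :
    (Submodule.Quotient.mk φ : T2 X M) = Submodule.Quotient.mk φ' ↔
      ∃ ψ : L1 X →ₗ[B] M, d2Star X M ψ = φ - φ' := by
  rw [Submodule.Quotient.eq]
  exact Iff.rfl

lemma dd (η : L0 X →ₗ[B] M) : d2Star X M (d1Star X M η) = 0 :=
  LinearMap.congr_fun (d2Star_comp_d1Star X M) η

/-- an additive map on cocycles killing the coboundaries descends to `T¹` -/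
lemma exists_T1_desc {Y : Type*} [AddCommGroup Y] (g : cocycles1 X M →+ Y)
    (hg : ∀ c : cocycles1 X M, (∃ η : L0 X →ₗ[B] M, d1Star X M η = c.1) → g c = 0) :
    ∃ δ : T1 X M →+ Y, ∀ c : cocycles1 X M, δ (Submodule.Quotient.mk c) = g c :=
  ⟨QuotientAddGroup.lift (coboundaries1 X M).toAddSubgroup g (fun c hc => hg c hc), fun _ => rfl⟩

end quot

section snake

variable {A : Type u} {B : Type v} {C : Type v'} {ι : Type w} {σ : Type t} {ι' : Type w'} {σ' : Type t'}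
variable [CommRing A] [CommRing B] [CommRing C] [Algebra A B] [Algebra B C] [Algebra A C] [IsScalarTower A B C]
variable (P : Algebra.Presentation A B ι σ) (Q : Algebra.Presentation B C ι' σ')
variable (M : Type m) [AddCommGroup M] [Module C M] [Module B M] [IsScalarTower B C M]

local notation "a0" => PresHom.pull0 (kQ P Q) M
local notation "a1" => PresHom.pull1 (kQ P Q) M
local notation "a2" => PresHom.pull2 (kQ P Q) M
local notation "b0" => PresHom.pull0 (kP P Q) M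
local notation "b1" => PresHom.pull1 (kP P Q) M
local notation "b2" => PresHom.pull2 (kP P Q) M
local notation "dQ0" => d1Star Q M
local notation "dQ1" => d2Star Q M
local notation "dK0" => d1Star (Q.comp P) M
local notation "dK1" => d2Star (Q.comp P) M
local notation "dP0" => d1Star P M
local notation "dP1" => d2Star P M
local notation "s0" => sec0 P Q M
local notation "s1" => sec1 P Q M

lemma c1 (η : L0 Q →ₗ[C] M) : a1 (dQ0 η) = dK0 (a0 η) := (kQ P Q).pull1_d1Star M η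
lemma c2 (ψ : L1 Q →ₗ[C] M) : a2 (dQ1 ψ) = dK1 (a1 ψ) := (kQ P Q).pull2_d2Star M ψ
lemma c1' (η : L0 (Q.comp P) →ₗ[C] M) : b1 (dK0 η) = dP0 (b0 η) := (kP P Q).pull1_d1Star M η
lemma c2' (ψ : L1 (Q.comp P) →ₗ[C] M) : b2 (dK1 ψ) = dP1 (b1 ψ) := (kP P Q).pull2_d2Star M ψ

/-- 1. `T⁰(Q) → T⁰(Q.comp P)` is injective -/
theorem T0pull_kQ_injective : Function.Injective ((kQ P Q).T0pull M) := by
  intro x y h
  apply Subtype.ext
  apply pull0_kQ_injective P Q M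
  exact congrArg Subtype.val h

/-- 2. exactness at `T⁰(Q.comp P)` -/
theorem exact_T0 : Function.Exact ((kQ P Q).T0pull M) ((kP P Q).T0pull M) := by
  intro y
  constructor
  · intro h
    have h0 : b0 y.1 = 0 := congrArg Subtype.val h
    obtain ⟨φ', hφ'⟩ := exact0 P Q M y.1 h0
    have hy : dK0 y.1 = 0 := y.2
    have hmem : dQ0 φ' = 0 := by
      apply pull1_kQ_injective P Q M
      rw [c1, hφ', hy, map_zero]
    exact ⟨⟨φ', hmem⟩, Subtype.ext hφ'⟩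
  · rintro ⟨x, rfl⟩
    exact Subtype.ext (pull0_kP_kQ P Q M x.1)

/-- 3. exactness at `T¹(Q.comp P)` -/
theorem exact_T1 : Function.Exact ((kQ P Q).T1pull M) ((kP P Q).T1pull M) := by
  intro y
  obtain ⟨ψ, rfl⟩ := Submodule.Quotient.mk_surjective _ y
  rw [T1pull_mk]
  have hψ : dK1 ψ.1 = 0 := ψ.2
  constructor
  · intro h
    obtain ⟨η'', hη''⟩ := (T1_mk_eq_zero_iff P M _).mp h
    have hη2 : dP0 η'' = b1 ψ.1 := hη''
    have h0 : b1 (ψ.1 - dK0 (s0 η'')) = 0 := by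
      rw [map_sub, c1', pull0_kP_sec0, hη2, sub_self]
    obtain ⟨ψ', hψ'⟩ := exact1 P Q M _ h0
    have hmem : dQ1 ψ' = 0 := by
      apply pull2_kQ_injective P Q M
      rw [c2, hψ', map_sub, hψ, dd, sub_zero, map_zero]
    refine ⟨Submodule.Quotient.mk ⟨ψ', hmem⟩, ?_⟩
    rw [T1pull_mk, T1_mk_eq_mk_iff]
    refine ⟨- s0 η'', ?_⟩
    change _ = a1 ψ' - ψ.1
    rw [hψ', map_neg]
    abel
  · rintro ⟨x, hx⟩
    obtain ⟨ψ', rfl⟩ := Submodule.Quotient.mk_surjective _ x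
    rw [T1pull_mk, T1_mk_eq_mk_iff] at hx
    obtain ⟨η, hη⟩ := hx
    have hη2 : dK0 η = a1 ψ'.1 - ψ.1 := hη
    rw [T1_mk_eq_zero_iff]
    refine ⟨- b0 η, ?_⟩
    change _ = b1 ψ.1
    rw [map_neg, ← c1', hη2, map_sub, pull1_kP_kQ]
    abel

/-- 4. exactness at `T²(Q.comp P)` -/
theorem exact_T2 : Function.Exact ((kQ P Q).T2pull M) ((kP P Q).T2pull M) := by
  intro y
  obtain ⟨φ, rfl⟩ := Submodule.Quotient.mk_surjective _ y
  rw [T2pull_mk]
  constructor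
  · intro h
    obtain ⟨ψ'', hψ''⟩ := (T2_mk_eq_zero_iff P M _).mp h
    have h0 : b2 (φ - dK1 (s1 ψ'')) = 0 := by
      rw [map_sub, c2', pull1_kP_sec1, hψ'', sub_self]
    obtain ⟨θ, hθ⟩ := exact2 P Q M _ h0
    refine ⟨Submodule.Quotient.mk θ, ?_⟩
    rw [T2pull_mk, T2_mk_eq_mk_iff]
    refine ⟨- s1 ψ'', ?_⟩
    rw [hθ, map_neg]
    abel
  · rintro ⟨x, hx⟩
    obtain ⟨θ, rfl⟩ := Submodule.Quotient.mk_surjective _ x
    rw [T2pull_mk, T2_mk_eq_mk_iff] at hx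
    obtain ⟨ψ, hψ⟩ := hx
    rw [T2_mk_eq_zero_iff]
    refine ⟨- b1 ψ, ?_⟩
    rw [map_neg, ← c2', hψ, map_sub, pull2_kP_kQ]
    abel

/-! ### The connecting map `δ₀ : T⁰(P) → T¹(Q)` -/

lemma exists_pre0 (x : T0 P M) : ∃ ψ' : L1 Q →ₗ[C] M, a1 ψ' = dK0 (s0 x.1) := by
  apply exact1 P Q M
  have hx : dP0 x.1 = 0 := x.2
  rw [c1', pull0_kP_sec0, hx]

/-- the cocycle of `Q` representing `δ₀ x` -/
noncomputable def pre0 (x : T0 P M) : L1 Q →ₗ[C] M := (exists_pre0 P Q M x).choose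

lemma pre0_spec (x : T0 P M) : a1 (pre0 P Q M x) = dK0 (s0 x.1) := (exists_pre0 P Q M x).choose_spec

lemma pre0_cocycle (x : T0 P M) : dQ1 (pre0 P Q M x) = 0 := by
  apply pull2_kQ_injective P Q M
  rw [c2, pre0_spec, dd, map_zero]

lemma pre0_add (x y : T0 P M) : pre0 P Q M (x + y) = pre0 P Q M x + pre0 P Q M y := by
  apply pull1_kQ_injective P Q M
  rw [map_add, pre0_spec, pre0_spec, pre0_spec, Submodule.coe_add, map_add, map_add]

/-- the connecting map `δ₀` -/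
noncomputable def δ0 : T0 P M →+ T1 Q M :=
  AddMonoidHom.mk' (fun x => Submodule.Quotient.mk ⟨pre0 P Q M x, pre0_cocycle P Q M x⟩) (by
    intro x y
    rw [← Submodule.Quotient.mk_add]
    congr 1
    exact Subtype.ext (pre0_add P Q M x y))

lemma δ0_apply (x : T0 P M) :
    δ0 P Q M x = Submodule.Quotient.mk ⟨pre0 P Q M x, pre0_cocycle P Q M x⟩ := rfl

/-- 5. exactness at `T⁰(P)` -/
theorem exact_T0_δ0 : Function.Exact ((kP P Q).T0pull M) (δ0 P Q M) := by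
  intro x
  rw [δ0_apply, T1_mk_eq_zero_iff]
  constructor
  · rintro ⟨η', hη'⟩
    have hη2 : dQ0 η' = pre0 P Q M x := hη'
    have hmem : dK0 (s0 x.1 - a0 η') = 0 := by
      rw [map_sub, ← c1, hη2, pre0_spec, sub_self]
    refine ⟨⟨s0 x.1 - a0 η', hmem⟩, ?_⟩
    apply Subtype.ext
    change b0 (s0 x.1 - a0 η') = x.1
    rw [map_sub, pull0_kP_sec0, pull0_kP_kQ, sub_zero]
  · rintro ⟨y, rfl⟩
    have hy : dK0 y.1 = 0 := y.2
    have hx1 : (((kP P Q).T0pull M y : T0 P M) : L0 P →ₗ[B] M) = b0 y.1 := rfl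
    have h0 : b0 (s0 (b0 y.1) - y.1) = 0 := by
      rw [map_sub, pull0_kP_sec0, sub_self]
    obtain ⟨η', hη'⟩ := exact0 P Q M _ h0
    refine ⟨η', ?_⟩
    change dQ0 η' = pre0 P Q M _
    apply pull1_kQ_injective P Q M
    rw [c1, hη', pre0_spec, hx1, map_sub, hy, sub_zero]

/-- 6. exactness at `T¹(Q)` -/
theorem exact_δ0_T1 : Function.Exact (δ0 P Q M) ((kQ P Q).T1pull M) := by
  intro z
  obtain ⟨ψ', rfl⟩ := Submodule.Quotient.mk_surjective _ z
  rw [T1pull_mk, T1_mk_eq_zero_iff]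
  constructor
  · rintro ⟨φ, hφ⟩
    have hφ2 : dK0 φ = a1 ψ'.1 := hφ
    have hmem : dP0 (b0 φ) = 0 := by
      rw [← c1', hφ2, pull1_kP_kQ]
    refine ⟨⟨b0 φ, hmem⟩, ?_⟩
    rw [δ0_apply, T1_mk_eq_mk_iff]
    have h0 : b0 (s0 (b0 φ) - φ) = 0 := by
      rw [map_sub, pull0_kP_sec0, sub_self]
    obtain ⟨η', hη'⟩ := exact0 P Q M _ h0
    refine ⟨η', ?_⟩
    change dQ0 η' = pre0 P Q M _ - ψ'.1
    apply pull1_kQ_injective P Q M
    rw [c1, hη', map_sub, map_sub, pre0_spec, hφ2]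
  · rintro ⟨x, hx⟩
    rw [δ0_apply, T1_mk_eq_mk_iff] at hx
    obtain ⟨η', hη'⟩ := hx
    have hη2 : dQ0 η' = pre0 P Q M x - ψ'.1 := hη'
    refine ⟨s0 x.1 - a0 η', ?_⟩
    change _ = a1 ψ'.1
    rw [map_sub, ← c1, hη2, map_sub, pre0_spec]
    abel

/-! ### The connecting map `δ₁ : T¹(P) → T²(Q)` -/

lemma exists_pre1 (c : cocycles1 P M) : ∃ θ : L2 Q →ₗ[C] M, a2 θ = dK1 (s1 c.1) := by
  apply exact2 P Q M
  have hc : dP1 c.1 = 0 := c.2
  rw [c2', pull1_kP_sec1, hc]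

/-- the element of `Hom(L₂(Q), M)` representing `δ₁ [c]` -/
noncomputable def pre1 (c : cocycles1 P M) : L2 Q →ₗ[C] M := (exists_pre1 P Q M c).choose

lemma pre1_spec (c : cocycles1 P M) : a2 (pre1 P Q M c) = dK1 (s1 c.1) := (exists_pre1 P Q M c).choose_spec

lemma pre1_add (c c' : cocycles1 P M) : pre1 P Q M (c + c') = pre1 P Q M c + pre1 P Q M c' := by
  apply pull2_kQ_injective P Q M
  rw [map_add, pre1_spec, pre1_spec, pre1_spec, Submodule.coe_add, map_add, map_add]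

/-- `δ₁` on cocycles -/
noncomputable def g1 : cocycles1 P M →+ T2 Q M :=
  AddMonoidHom.mk' (fun c => Submodule.Quotient.mk (pre1 P Q M c)) (by
    intro c c'
    rw [← Submodule.Quotient.mk_add, pre1_add])

lemma g1_apply (c : cocycles1 P M) : g1 P Q M c = Submodule.Quotient.mk (pre1 P Q M c) := rfl

lemma g1_coboundary (c : cocycles1 P M) (hc : ∃ η : L0 P →ₗ[B] M, dP0 η = c.1) : g1 P Q M c = 0 := by
  obtain ⟨η'', hη''⟩ := hc
  rw [g1_apply, T2_mk_eq_zero_iff]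
  have h0 : b1 (s1 c.1 - dK0 (s0 η'')) = 0 := by
    rw [map_sub, pull1_kP_sec1, c1', pull0_kP_sec0, hη'', sub_self]
  obtain ⟨ξ, hξ⟩ := exact1 P Q M _ h0
  refine ⟨ξ, ?_⟩
  apply pull2_kQ_injective P Q M
  rw [c2, hξ, map_sub, dd, sub_zero, pre1_spec]

lemma exists_δ1 : ∃ δ : T1 P M →+ T2 Q M,
    ∀ c : cocycles1 P M, δ (Submodule.Quotient.mk c) = Submodule.Quotient.mk (pre1 P Q M c) :=
  exists_T1_desc P M (g1 P Q M) (g1_coboundary P Q M)

/-- the connecting map `δ₁` -/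
noncomputable def δ1 : T1 P M →+ T2 Q M := (exists_δ1 P Q M).choose

lemma δ1_mk (c : cocycles1 P M) :
    δ1 P Q M (Submodule.Quotient.mk c) = Submodule.Quotient.mk (pre1 P Q M c) :=
  (exists_δ1 P Q M).choose_spec c

/-- 7. exactness at `T¹(P)` -/
theorem exact_T1_δ1 : Function.Exact ((kP P Q).T1pull M) (δ1 P Q M) := by
  intro x
  obtain ⟨c, rfl⟩ := Submodule.Quotient.mk_surjective _ x
  rw [δ1_mk, T2_mk_eq_zero_iff]
  constructor
  · rintro ⟨ξ, hξ⟩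
    have hmem : dK1 (s1 c.1 - a1 ξ) = 0 := by
      rw [map_sub, ← c2, hξ, pre1_spec, sub_self]
    refine ⟨Submodule.Quotient.mk ⟨s1 c.1 - a1 ξ, hmem⟩, ?_⟩
    rw [T1pull_mk]
    congr 1
    apply Subtype.ext
    change b1 (s1 c.1 - a1 ξ) = c.1
    rw [map_sub, pull1_kP_sec1, pull1_kP_kQ, sub_zero]
  · rintro ⟨y, hy⟩
    obtain ⟨ψ, rfl⟩ := Submodule.Quotient.mk_surjective _ y
    have hψ : dK1 ψ.1 = 0 := ψ.2
    rw [T1pull_mk, T1_mk_eq_mk_iff] at hy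
    obtain ⟨η'', hη''⟩ := hy
    have hη2 : dP0 η'' = b1 ψ.1 - c.1 := hη''
    have h0 : b1 (s1 c.1 - ψ.1 + dK0 (s0 η'')) = 0 := by
      rw [map_add, map_sub, pull1_kP_sec1, c1', pull0_kP_sec0, hη2]
      abel
    obtain ⟨ξ, hξ⟩ := exact1 P Q M _ h0
    refine ⟨ξ, ?_⟩
    apply pull2_kQ_injective P Q M
    rw [c2, hξ, map_add, map_sub, dd, hψ, pre1_spec, sub_zero, add_zero]

/-- 8. exactness at `T²(Q)` -/
theorem exact_δ1_T2 : Function.Exact (δ1 P Q M) ((kQ P Q).T2pull M) := by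
  intro z
  obtain ⟨θ, rfl⟩ := Submodule.Quotient.mk_surjective _ z
  rw [T2pull_mk, T2_mk_eq_zero_iff]
  constructor
  · rintro ⟨ψ, hψ⟩
    have hmem : dP1 (b1 ψ) = 0 := by
      rw [← c2', hψ, pull2_kP_kQ]
    refine ⟨Submodule.Quotient.mk ⟨b1 ψ, hmem⟩, ?_⟩
    rw [δ1_mk, T2_mk_eq_mk_iff]
    have h0 : b1 (s1 (b1 ψ) - ψ) = 0 := by
      rw [map_sub, pull1_kP_sec1, sub_self]
    obtain ⟨ξ, hξ⟩ := exact1 P Q M _ h0
    refine ⟨ξ, ?_⟩
    apply pull2_kQ_injective P Q M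
    rw [c2, hξ, map_sub, map_sub, pre1_spec, hψ]
  · rintro ⟨x, hx⟩
    obtain ⟨c, rfl⟩ := Submodule.Quotient.mk_surjective _ x
    rw [δ1_mk, T2_mk_eq_mk_iff] at hx
    obtain ⟨ξ, hξ⟩ := hx
    refine ⟨s1 c.1 - a1 ξ, ?_⟩
    rw [map_sub, ← c2, hξ, map_sub, pre1_spec]
    abel

end snake

end Groth.Agent.Lib.Seat56.CotTSnake
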