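import Mathlib

/-!
# Flatness of `A[ι] → A[ι′ ⊕ ι]` and the equational criterion for a flat ring map
-/

set_option autoImplicit false

open MvPolynomial

namespace Groth.Agent.Lib.Seat56.FlatRel

universe u v w

/-- `rename Sum.inr : A[ι] → A[ι' ⊕ ι]` is flat -/
lemma rename_inr_flat (A : Type u) (ι' : Type v) (ι : Type w) [CommRing A] :
    (rename Sum.inr : MvPolynomial ι A →ₐ[A] MvPolynomial (ι' ⊕ ι) A).toRingHom.Flat := by
  have e : (rename Sum.inr : MvPolynomial ι A →ₐ[A] MvPolynomial (ι' ⊕ ι) A).toRingHom =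
      ((sumAlgEquiv A ι' ι).symm : MvPolynomial ι' (MvPolynomial ι A) →+* MvPolynomial (ι' ⊕ ι) A).comp
        (algebraMap (MvPolynomial ι A) (MvPolynomial ι' (MvPolynomial ι A))) := by
    ext x
    · simp
    · simp
  rw [e]
  exact RingHom.Flat.comp (RingHom.flat_algebraMap_iff.mpr inferInstance)
    (RingHom.Flat.of_bijective (AlgEquiv.bijective _))

/-- equational criterion of flatness for a flat ring map -/
lemma flat_relation {R : Type u} {R' : Type v} [CommRing R] [CommRing R'] (τ : R →+* R') (hτ : τ.Flat)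
    {σ : Type w} (S : Finset σ) (r : σ → R) (c : σ → R')
    (h : ∑ s ∈ S, c s * τ (r s) = 0) :
    ∃ (k : ℕ) (a : σ → Fin k → R) (y : Fin k → R'),
      (∀ s ∈ S, c s = ∑ j, τ (a s j) * y j) ∧ ∀ j, ∑ s ∈ S, r s * a s j = 0 := by
  let _ := τ.toAlgebra
  have _ : Module.Flat R R' := hτ
  have h' : ∑ s : S, (fun s : S => r s) s • (fun s : S => c s) s = 0 := by
    rw [← h, ← Finset.sum_coe_sort S]
    refine Finset.sum_congr rfl fun s _ => ?_
    rw [Algebra.smul_def, RingHom.algebraMap_toAlgebra, mul_comm]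
  obtain ⟨k, a, y, h1, h2⟩ := Module.Flat.isTrivialRelation_of_sum_smul_eq_zero (R := R) (M := R') h'
  classical
  refine ⟨k, fun s j => if hs : s ∈ S then a ⟨s, hs⟩ j else 0, y, ?_, ?_⟩
  · intro s hs
    have e := h1 ⟨s, hs⟩
    beta_reduce at e
    rw [e]
    refine Finset.sum_congr rfl fun j _ => ?_
    beta_reduce
    rw [dif_pos hs, Algebra.smul_def, RingHom.algebraMap_toAlgebra]
  · intro j
    have e := h2 j
    rw [← Finset.sum_coe_sort S]
    refine Eq.trans (Finset.sum_congr rfl fun s _ => ?_) e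
    beta_reduce
    rw [dif_pos s.2]

end Groth.Agent.Lib.Seat56.FlatRel
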