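import Groth.Agent.Lib.Seat56CotTIndep
import Groth.Agent.Lib.Seat56FlatRel

/-!
# The composite presentation of `A → B → C` and the exact sequence of cotangent complexes

For presentations `P` of `B/A` and `Q` of `C/B`, Mathlib's composite presentation `Q.comp P` of `C/A` comes with morphisms of
presentations `kP : P → Q.comp P` and `kQ : Q.comp P → Q`.  After `Hom(-, M)` the induced maps of complexes are split exact in
degrees `0`, `1` and left exact in degree `2`.
-/

set_option autoImplicit false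
set_option linter.unusedSectionVars false

universe u v v' w t w' t' m

open TensorProduct

namespace Groth.Agent.Lib.Seat56.CotTTriple

open CotT Groth.Agent.Lib.Seat56.CotTBasic Groth.Agent.Lib.Seat56.CotTRing Groth.Agent.Lib.Seat56.CotTComp
  Groth.Agent.Lib.Seat56.CotTIndep

section split

variable {B : Type u} {C : Type v} [CommRing B] [CommRing C] [Algebra B C]
variable {κ' : Type w'} {κ : Type w} {L : Type t} {L' : Type t'} {L'' : Type v'}
variable [AddCommGroup L] [Module C L] [AddCommGroup L'] [Module C L'] [AddCommGroup L''] [Module B L'']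
variable (bL : Module.Basis (κ' ⊕ κ) C L) (bL' : Module.Basis κ' C L') (bL'' : Module.Basis κ B L'')
variable (f'' : L'' →ₛₗ[(algebraMap B C : B →+* C)] L) (f' : L →ₛₗ[(algebraMap C C : C →+* C)] L')
variable (M : Type m) [AddCommGroup M] [Module C M] [Module B M] [IsScalarTower B C M]
variable (h1 : ∀ i, f'' (bL'' i) = bL (Sum.inr i)) (h2 : ∀ j, f' (bL (Sum.inl j)) = bL' j)
  (h3 : ∀ i, f' (bL (Sum.inr i)) = 0)

include h2 in
lemma split_inj {φ φ' : L' →ₗ[C] M} (h : ∀ x, φ (f' x) = φ' (f' x)) : φ = φ' := by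
  refine bL'.ext fun j => ?_
  rw [← h2 j]
  exact h _

/-- the section: extension by zero on the `inl` basis vectors -/
noncomputable def splitSec : (L'' →ₗ[B] M) →+ (L →ₗ[C] M) where
  toFun ψ := bL.constr C (Sum.elim (fun _ => 0) (fun i => ψ (bL'' i)))
  map_zero' := by
    apply bL.ext
    intro x
    rw [Module.Basis.constr_basis]
    cases x <;> simp
  map_add' ψ ψ' := by
    apply bL.ext
    intro x
    rw [LinearMap.add_apply, Module.Basis.constr_basis, Module.Basis.constr_basis, Module.Basis.constr_basis]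
    cases x <;> simp

include h1 in
lemma splitSec_apply (ψ : L'' →ₗ[B] M) (x : L'') : splitSec bL bL'' M ψ (f'' x) = ψ x := by
  have e : PresHom.linOfSemilinear M ((splitSec bL bL'' M ψ).comp f'') = ψ := by
    refine bL''.ext fun i => ?_
    rw [PresHom.linOfSemilinear_apply, LinearMap.comp_apply, h1]
    change bL.constr C (Sum.elim (fun _ => 0) (fun i => ψ (bL'' i))) (bL (Sum.inr i)) = _
    rw [Module.Basis.constr_basis, Sum.elim_inr]
  exact LinearMap.congr_fun e x

include h1 h2 h3 in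
lemma split_exact (φ : L →ₗ[C] M) (h : ∀ x, φ (f'' x) = 0) :
    ∃ φ' : L' →ₗ[C] M, ∀ x, φ' (f' x) = φ x := by
  refine ⟨bL'.constr C (fun j => φ (bL (Sum.inl j))), ?_⟩
  intro x
  have e : PresHom.linOfSemilinear M ((bL'.constr C (fun j => φ (bL (Sum.inl j)))).comp f') = φ := by
    refine bL.ext fun i => ?_
    rw [PresHom.linOfSemilinear_apply, LinearMap.comp_apply]
    cases i with
    | inl j => rw [h2, Module.Basis.constr_basis]
    | inr i => rw [h3, map_zero, ← h1, h]
  exact LinearMap.congr_fun e x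

end split

variable {A : Type u} {B : Type v} {C : Type v'} {ι : Type w} {σ : Type t} {ι' : Type w'} {σ' : Type t'}
variable [CommRing A] [CommRing B] [CommRing C] [Algebra A B] [Algebra B C] [Algebra A C] [IsScalarTower A B C]
variable (P : Algebra.Presentation A B ι σ) (Q : Algebra.Presentation B C ι' σ')

/-- `P → Q.comp P`: variables to the `inr` variables, `e_s ↦ e_{inr s}`. -/
noncomputable def kP : PresHom P (Q.comp P) where
  hom := Q.toGenerators.toComp P.toGenerators
  relVal s := Finsupp.single (Sum.inr s) 1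
  jmap_relVal s := by
    rw [jmap_single, one_mul]
    change (Q.comp P).relation (Sum.inr s) = (Q.toGenerators.toComp P.toGenerators).toAlgHom (P.relation s)
    rw [Algebra.Generators.toComp_toAlgHom]
    rfl

/-- `Q.comp P → Q`: the `inl` variables to the variables, the `inr` variables to constants, `e_{inl t} ↦ e_t`, `e_{inr s} ↦ 0`. -/
noncomputable def kQ : PresHom (Q.comp P) Q where
  hom := Q.toGenerators.ofComp P.toGenerators
  relVal := Sum.elim (fun t => Finsupp.single t 1) (fun _ => 0)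
  jmap_relVal s := by
    cases s with
    | inl t =>
      rw [Sum.elim_inl, jmap_single, one_mul]
      exact (Algebra.Presentation.comp_aeval_relation_inl Q P t).symm
    | inr s =>
      rw [Sum.elim_inr, map_zero]
      change 0 = (Q.toGenerators.ofComp P.toGenerators).toAlgHom (MvPolynomial.rename Sum.inr (P.relation s))
      rw [Algebra.Generators.toAlgHom_ofComp_rename]
      have e : algebraMap P.Ring B (P.relation s) = 0 := P.relation_mem_ker s
      rw [e, map_zero]

section bases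

lemma kP_ringHom_X (i : ι) : (kP P Q).ringHom (MvPolynomial.X i) = MvPolynomial.X (Sum.inr i) := by
  change (Q.toGenerators.toComp P.toGenerators).toAlgHom (MvPolynomial.X i) = _
  rw [Algebra.Generators.Hom.toAlgHom_X]
  rfl

lemma kQ_ringHom_X_inl (j : ι') : (kQ P Q).ringHom (MvPolynomial.X (Sum.inl j)) = MvPolynomial.X j := by
  change (Q.toGenerators.ofComp P.toGenerators).toAlgHom (MvPolynomial.X (Sum.inl j)) = _
  rw [Algebra.Generators.Hom.toAlgHom_X]
  rfl

lemma kQ_ringHom_X_inr (i : ι) :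
    (kQ P Q).ringHom (MvPolynomial.X (Sum.inr i)) = algebraMap B Q.toExtension.Ring (P.val i) := by
  change (Q.toGenerators.ofComp P.toGenerators).toAlgHom (MvPolynomial.X (Sum.inr i)) = _
  rw [Algebra.Generators.Hom.toAlgHom_X]
  rfl

lemma basis0_eq {A : Type u} {B : Type v} {ι : Type w} {σ : Type t} [CommRing A] [CommRing B] [Algebra A B]
    (P : Algebra.Presentation A B ι σ) (i : ι) :
    P.cotangentSpaceBasis i =
      ((1 : B) ⊗ₜ[P.toExtension.Ring] KaehlerDifferential.D A P.toExtension.Ring (MvPolynomial.X i) : L0 P) :=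
  Algebra.Generators.cotangentSpaceBasis_apply _ i

lemma L0map_kP_basis (i : ι) :
    (kP P Q).L0map (P.cotangentSpaceBasis i) = (Q.comp P).cotangentSpaceBasis (Sum.inr i) := by
  rw [basis0_eq, basis0_eq, L0map_one_tmul_D, kP_ringHom_X]

lemma L0map_kQ_basis_inl (j : ι') :
    (kQ P Q).L0map ((Q.comp P).cotangentSpaceBasis (Sum.inl j)) = Q.cotangentSpaceBasis j := by
  rw [basis0_eq, basis0_eq, L0map_one_tmul_D, kQ_ringHom_X_inl]

lemma L0map_kQ_basis_inr (i : ι) :
    (kQ P Q).L0map ((Q.comp P).cotangentSpaceBasis (Sum.inr i)) = 0 := by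
  rw [basis0_eq, L0map_one_tmul_D, kQ_ringHom_X_inr, Derivation.map_algebraMap, TensorProduct.tmul_zero]

lemma relModMap_kP_single (s : σ) (r : P.toExtension.Ring) :
    (kP P Q).relModMap (Finsupp.single s r) = Finsupp.single (Sum.inr s) ((kP P Q).ringHom r) := by
  rw [PresHom.relModMap_single]
  change _ • Finsupp.single (Sum.inr s) 1 = _
  rw [Finsupp.smul_single, smul_eq_mul, mul_one]

lemma relModMap_kQ_single_inl (t : σ') (r : (Q.comp P).toExtension.Ring) :
    (kQ P Q).relModMap (Finsupp.single (Sum.inl t) r) = Finsupp.single t ((kQ P Q).ringHom r) := by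
  rw [PresHom.relModMap_single]
  change _ • Finsupp.single t 1 = _
  rw [Finsupp.smul_single, smul_eq_mul, mul_one]

lemma relModMap_kQ_single_inr (s : σ) (r : (Q.comp P).toExtension.Ring) :
    (kQ P Q).relModMap (Finsupp.single (Sum.inr s) r) = 0 := by
  rw [PresHom.relModMap_single]
  change _ • (0 : relMod Q) = _
  rw [smul_zero]

lemma L1map_kP_basis (s : σ) : (kP P Q).L1map (L1basis P s) = L1basis (Q.comp P) (Sum.inr s) := by
  rw [← mk1_single, ← mk1_single, L1map_mk1, relModMap_kP_single, map_one]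

lemma L1map_kQ_basis_inl (t : σ') : (kQ P Q).L1map (L1basis (Q.comp P) (Sum.inl t)) = L1basis Q t := by
  rw [← mk1_single, ← mk1_single, L1map_mk1, relModMap_kQ_single_inl, map_one]

lemma L1map_kQ_basis_inr (s : σ) : (kQ P Q).L1map (L1basis (Q.comp P) (Sum.inr s)) = 0 := by
  rw [← mk1_single, L1map_mk1, relModMap_kQ_single_inr, mk1_zero]

end bases

section E01

variable (M : Type m) [AddCommGroup M] [Module C M] [Module B M] [IsScalarTower B C M]

lemma pull0_kQ_injective : Function.Injective ((kQ P Q).pull0 M) := by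
  intro φ φ' h
  refine split_inj (Q.comp P).cotangentSpaceBasis Q.cotangentSpaceBasis (kQ P Q).L0map M
    (L0map_kQ_basis_inl P Q) fun x => ?_
  exact LinearMap.congr_fun h x

/-- additive section of `pull0 kP` -/
noncomputable def sec0 : (L0 P →ₗ[B] M) →+ (L0 (Q.comp P) →ₗ[C] M) :=
  splitSec (Q.comp P).cotangentSpaceBasis P.cotangentSpaceBasis M

lemma pull0_kP_sec0 (η : L0 P →ₗ[B] M) : (kP P Q).pull0 M (sec0 P Q M η) = η := by
  ext x
  rw [PresHom.pull0_apply]
  exact splitSec_apply (Q.comp P).cotangentSpaceBasis P.cotangentSpaceBasis (kP P Q).L0map M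
    (L0map_kP_basis P Q) η x

lemma exact0 (φ : L0 (Q.comp P) →ₗ[C] M) (h : (kP P Q).pull0 M φ = 0) :
    ∃ φ' : L0 Q →ₗ[C] M, (kQ P Q).pull0 M φ' = φ := by
  obtain ⟨φ', hφ'⟩ := split_exact (Q.comp P).cotangentSpaceBasis Q.cotangentSpaceBasis P.cotangentSpaceBasis
    (kP P Q).L0map (kQ P Q).L0map M (L0map_kP_basis P Q) (L0map_kQ_basis_inl P Q) (L0map_kQ_basis_inr P Q) φ
    (fun x => LinearMap.congr_fun h x)
  exact ⟨φ', LinearMap.ext hφ'⟩

lemma pull0_kP_kQ (φ' : L0 Q →ₗ[C] M) : (kP P Q).pull0 M ((kQ P Q).pull0 M φ') = 0 := by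
  refine P.cotangentSpaceBasis.ext fun i => ?_
  rw [PresHom.pull0_apply, PresHom.pull0_apply, L0map_kP_basis, L0map_kQ_basis_inr, map_zero]
  rfl

lemma pull1_kQ_injective : Function.Injective ((kQ P Q).pull1 M) := by
  intro φ φ' h
  refine split_inj (L1basis (Q.comp P)) (L1basis Q) (kQ P Q).L1map M
    (L1map_kQ_basis_inl P Q) fun x => ?_
  exact LinearMap.congr_fun h x

/-- additive section of `pull1 kP` -/
noncomputable def sec1 : (L1 P →ₗ[B] M) →+ (L1 (Q.comp P) →ₗ[C] M) :=
  splitSec (L1basis (Q.comp P)) (L1basis P) M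

lemma pull1_kP_sec1 (η : L1 P →ₗ[B] M) : (kP P Q).pull1 M (sec1 P Q M η) = η := by
  refine LinearMap.ext fun x => ?_
  rw [PresHom.pull1_apply]
  exact splitSec_apply (L1basis (Q.comp P)) (L1basis P) (kP P Q).L1map M
    (L1map_kP_basis P Q) η x

lemma exact1 (φ : L1 (Q.comp P) →ₗ[C] M) (h : (kP P Q).pull1 M φ = 0) :
    ∃ φ' : L1 Q →ₗ[C] M, (kQ P Q).pull1 M φ' = φ := by
  obtain ⟨φ', hφ'⟩ := split_exact (L1basis (Q.comp P)) (L1basis Q) (L1basis P)
    (kP P Q).L1map (kQ P Q).L1map M (L1map_kP_basis P Q) (L1map_kQ_basis_inl P Q) (L1map_kQ_basis_inr P Q) φ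
    (fun x => LinearMap.congr_fun h x)
  exact ⟨φ', LinearMap.ext hφ'⟩

lemma pull1_kP_kQ (φ' : L1 Q →ₗ[C] M) : (kP P Q).pull1 M ((kQ P Q).pull1 M φ') = 0 := by
  refine (L1basis P).ext fun i => ?_
  rw [PresHom.pull1_apply, PresHom.pull1_apply, L1map_kP_basis, L1map_kQ_basis_inr, map_zero]
  rfl

end E01

section E2

/-- the submodule of `F_{PQ}` generated by the image of `F_P` -/
noncomputable def Finr : Submodule (Q.comp P).toExtension.Ring (relMod (Q.comp P)) :=
  Submodule.span _ (Set.range (kP P Q).relModMap)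

lemma relModMap_kQ_kP (f : relMod P) : (kQ P Q).relModMap ((kP P Q).relModMap f) = 0 := by
  induction f using Finsupp.induction_linear with
  | zero => simp
  | add f g hf hg => rw [map_add, map_add, hf, hg, add_zero]
  | single s r => rw [relModMap_kP_single, relModMap_kQ_single_inr]

lemma relModMap_kQ_of_mem_Finr {g : relMod (Q.comp P)} (hg : g ∈ Finr P Q) : (kQ P Q).relModMap g = 0 := by
  unfold Finr at hg
  induction hg using Submodule.span_induction with
  | mem x hx =>
    obtain ⟨f, rfl⟩ := hx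
    exact relModMap_kQ_kP P Q f
  | zero => exact map_zero _
  | add x y _ _ hx hy => rw [map_add, hx, hy, add_zero]
  | smul r x _ hx => rw [LinearMap.map_smulₛₗ, hx, smul_zero]

lemma ringHom_kQ_surjective : Function.Surjective (kQ P Q).ringHom :=
  Algebra.Generators.toAlgHom_ofComp_surjective Q.toGenerators P.toGenerators

lemma exists_Finr_jmap (x : (Q.comp P).toExtension.Ring) (hx : (kQ P Q).ringHom x = 0) :
    ∃ g ∈ Finr P Q, jmap (Q.comp P) g = x := by
  have hx' : x ∈ Ideal.map (Q.toGenerators.toComp P.toGenerators).toAlgHom P.toGenerators.ker := by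
    rw [Algebra.Generators.map_toComp_ker]
    exact hx
  clear hx
  unfold Ideal.map at hx'
  induction hx' using Submodule.span_induction with
  | mem y hy =>
    obtain ⟨p, hp, rfl⟩ := hy
    obtain ⟨f, rfl⟩ := exists_jmap_eq P (x := p) hp
    exact ⟨(kP P Q).relModMap f, Submodule.subset_span ⟨f, rfl⟩, (kP P Q).jmap_relModMap f⟩
  | zero => exact ⟨0, Submodule.zero_mem _, map_zero _⟩
  | add y z _ _ hy hz =>
    obtain ⟨g, hg, rfl⟩ := hy
    obtain ⟨g', hg', rfl⟩ := hz
    exact ⟨g + g', Submodule.add_mem _ hg hg', map_add _ _ _⟩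
  | smul r y _ hy =>
    obtain ⟨g, hg, rfl⟩ := hy
    let r' : (Q.comp P).toExtension.Ring := r
    exact ⟨r' • g, Submodule.smul_mem _ _ hg, map_smul (jmap (Q.comp P)) r' g⟩

lemma relModMap_kQ_surjective : Function.Surjective (kQ P Q).relModMap := by
  intro f
  induction f using Finsupp.induction_linear with
  | zero => exact ⟨0, map_zero _⟩
  | add f g hf hg =>
    obtain ⟨a, rfl⟩ := hf
    obtain ⟨b, rfl⟩ := hg
    exact ⟨a + b, map_add _ _ _⟩
  | single t r =>
    obtain ⟨r', rfl⟩ := ringHom_kQ_surjective P Q r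
    exact ⟨Finsupp.single (Sum.inl t) r', relModMap_kQ_single_inl P Q t r'⟩

lemma exists_trivRel_lift {t : relMod Q} (ht : t ∈ trivRel Q) :
    ∃ t' ∈ trivRel (Q.comp P), (kQ P Q).relModMap t' = t := by
  unfold trivRel at ht
  induction ht using Submodule.span_induction with
  | mem x hx =>
    obtain ⟨a, b, rfl⟩ := hx
    obtain ⟨a', rfl⟩ := relModMap_kQ_surjective P Q a
    obtain ⟨b', rfl⟩ := relModMap_kQ_surjective P Q b
    refine ⟨jmap _ a' • b' - jmap _ b' • a', Submodule.subset_span ⟨a', b', rfl⟩, ?_⟩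
    rw [map_sub, LinearMap.map_smulₛₗ, LinearMap.map_smulₛₗ, PresHom.jmap_relModMap, PresHom.jmap_relModMap]
  | zero => exact ⟨0, Submodule.zero_mem _, map_zero _⟩
  | add x y _ _ hx hy =>
    obtain ⟨x', hx', rfl⟩ := hx
    obtain ⟨y', hy', rfl⟩ := hy
    exact ⟨x' + y', Submodule.add_mem _ hx' hy', map_add _ _ _⟩
  | smul r x _ hx =>
    obtain ⟨r', rfl⟩ := ringHom_kQ_surjective P Q r
    obtain ⟨x', hx', rfl⟩ := hx
    exact ⟨r' • x', Submodule.smul_mem _ _ hx', LinearMap.map_smulₛₗ _ _ _⟩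

/-- every relation of `Q` lifts to a relation of `Q.comp P` -/
lemma exists_relKer_lift (q : relKer Q) : ∃ q' : relKer (Q.comp P), (kQ P Q).relKerMap q' = q := by
  obtain ⟨f, hf⟩ := relModMap_kQ_surjective P Q (q : relMod Q)
  have h0 : (kQ P Q).ringHom (jmap (Q.comp P) f) = 0 := by
    rw [← PresHom.jmap_relModMap, hf]
    exact q.2
  obtain ⟨g, hg, hgf⟩ := exists_Finr_jmap P Q _ h0
  refine ⟨⟨f - g, ?_⟩, ?_⟩
  · change jmap (Q.comp P) (f - g) = 0
    rw [map_sub, hgf, sub_self]
  · apply Subtype.ext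
    rw [PresHom.relKerMap_coe]
    change (kQ P Q).relModMap (f - g) = _
    rw [map_sub, hf, relModMap_kQ_of_mem_Finr P Q hg, sub_zero]

lemma smul_mem_sup (x : (Q.comp P).toExtension.Ring) (hx : (kQ P Q).ringHom x = 0) (f : relMod (Q.comp P)) :
    x • f ∈ Finr P Q ⊔ trivRel (Q.comp P) := by
  obtain ⟨g₀, hg₀, rfl⟩ := exists_Finr_jmap P Q x hx
  have e : jmap (Q.comp P) g₀ • f =
      jmap (Q.comp P) f • g₀ + (jmap (Q.comp P) g₀ • f - jmap (Q.comp P) f • g₀) := by abel
  rw [e]
  exact Submodule.add_mem_sup (Submodule.smul_mem _ _ hg₀) (Submodule.subset_span ⟨g₀, f, rfl⟩)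

lemma decomp (q : relMod (Q.comp P)) : ∃ (f₁ : σ' →₀ (Q.comp P).toExtension.Ring), ∃ g ∈ Finr P Q,
    q = Finsupp.mapDomain Sum.inl f₁ + g ∧
      (kQ P Q).relModMap q = Finsupp.mapRange (kQ P Q).ringHom (map_zero _) f₁ := by
  induction q using Finsupp.induction_linear with
  | zero => exact ⟨0, 0, Submodule.zero_mem _, by simp, by simp⟩
  | add a b ha hb =>
    obtain ⟨f₁, g, hg, h1, h2⟩ := ha
    obtain ⟨f₁', g', hg', h1', h2'⟩ := hb
    refine ⟨f₁ + f₁', g + g', Submodule.add_mem _ hg hg', ?_, ?_⟩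
    · rw [Finsupp.mapDomain_add, h1, h1']
      abel
    · rw [map_add, h2, h2', Finsupp.mapRange_add (map_add _)]
  | single i r =>
    cases i with
    | inl t =>
      exact ⟨Finsupp.single t r, 0, Submodule.zero_mem _, by rw [Finsupp.mapDomain_single, add_zero],
        by rw [relModMap_kQ_single_inl, Finsupp.mapRange_single]⟩
    | inr s =>
      refine ⟨0, Finsupp.single (Sum.inr s) r, ?_, by rw [Finsupp.mapDomain_zero, zero_add],
        by rw [relModMap_kQ_single_inr, Finsupp.mapRange_zero]⟩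
      have e : Finsupp.single (Sum.inr s) r = r • (kP P Q).relModMap (Finsupp.single s 1) := by
        rw [relModMap_kP_single, map_one, Finsupp.smul_single, smul_eq_mul, mul_one]
      rw [e]
      exact Submodule.smul_mem _ _ (Submodule.subset_span ⟨_, rfl⟩)

lemma ker_relModMap_kQ_le (q : relMod (Q.comp P)) (hq : (kQ P Q).relModMap q = 0) :
    q ∈ Finr P Q ⊔ trivRel (Q.comp P) := by
  obtain ⟨f₁, g, hg, rfl, h2⟩ := decomp P Q q
  rw [hq] at h2
  have h3 : ∀ t, (kQ P Q).ringHom (f₁ t) = 0 := by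
    intro t
    have := DFunLike.congr_fun h2 t
    rw [Finsupp.mapRange_apply] at this
    exact this.symm
  refine Submodule.add_mem _ ?_ (Submodule.mem_sup_left hg)
  rw [Finsupp.mapDomain]
  refine Submodule.sum_mem _ fun t _ => ?_
  have e : (Finsupp.single (Sum.inl t) (f₁ t) : relMod (Q.comp P)) =
      f₁ t • (Finsupp.single (Sum.inl t) (1 : (Q.comp P).toExtension.Ring) : relMod (Q.comp P)) := by
    rw [Finsupp.smul_single, smul_eq_mul, mul_one]
  beta_reduce
  rw [e]
  exact smul_mem_sup P Q _ (h3 t) _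

/-- the submodule of `Q_{PQ}` generated by the image of `Q_P` -/
noncomputable def FkerK : Submodule (Q.comp P).toExtension.Ring (relKer (Q.comp P)) :=
  Submodule.span _ (Set.range (kP P Q).relKerMap)

lemma ringHom_kP_flat : (kP P Q).ringHom.Flat := by
  have h := FlatRel.rename_inr_flat A ι' ι
  rw [← Algebra.Generators.toComp_toAlgHom Q.toGenerators P.toGenerators] at h
  exact h

lemma mem_FkerK_of_mem_Finr (g : relMod (Q.comp P)) (hg : g ∈ Finr P Q) (hj : jmap (Q.comp P) g = 0) :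
    ∃ g' ∈ FkerK P Q, (g' : relMod (Q.comp P)) = g := by
  unfold Finr at hg
  rw [Finsupp.mem_span_range_iff_exists_finsupp] at hg
  obtain ⟨c, rfl⟩ := hg
  have hj' : ∑ f ∈ c.support, c f * (kP P Q).ringHom (jmap P f) = 0 := by
    rw [← hj, Finsupp.sum, map_sum]
    refine Finset.sum_congr rfl fun f _ => ?_
    rw [map_smul, PresHom.jmap_relModMap, smul_eq_mul]
  obtain ⟨k, a, y, h1, h2⟩ :=
    FlatRel.flat_relation (kP P Q).ringHom (ringHom_kP_flat P Q) c.support (jmap P) c hj'
  let q : Fin k → relKer P := fun j => ⟨∑ f ∈ c.support, a f j • f, by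
    change jmap P _ = 0
    rw [map_sum, ← h2 j]
    refine Finset.sum_congr rfl fun f _ => ?_
    rw [map_smul, smul_eq_mul, mul_comm]⟩
  refine ⟨∑ j, y j • (kP P Q).relKerMap (q j),
    Submodule.sum_mem _ fun j _ => Submodule.smul_mem _ _ (Submodule.subset_span ⟨_, rfl⟩), ?_⟩
  have hq : ∀ j, (kP P Q).relModMap (q j : relMod P) =
      ∑ f ∈ c.support, (kP P Q).ringHom (a f j) • (kP P Q).relModMap f := by
    intro j
    change (kP P Q).relModMap (∑ f ∈ c.support, a f j • f) = _
    rw [map_sum]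
    refine Finset.sum_congr rfl fun f _ => ?_
    rw [LinearMap.map_smulₛₗ]
  rw [Submodule.coe_sum]
  simp only [Submodule.coe_smul, PresHom.relKerMap_coe, hq]
  rw [Finsupp.sum]
  simp only [Finset.smul_sum]
  rw [Finset.sum_comm]
  refine Finset.sum_congr rfl fun f hf => ?_
  rw [h1 f hf, Finset.sum_smul]
  refine Finset.sum_congr rfl fun j _ => ?_
  rw [smul_smul, mul_comm]

lemma exists_FkerK_sub_mem (q : relKer (Q.comp P))
    (hq : (kQ P Q).relModMap (q : relMod (Q.comp P)) ∈ trivRel Q) :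
    ∃ g' ∈ FkerK P Q, ((q - g' : relKer (Q.comp P)) : relMod (Q.comp P)) ∈ trivRel (Q.comp P) := by
  obtain ⟨t', ht', e⟩ := exists_trivRel_lift P Q hq
  have h0 : (kQ P Q).relModMap ((q : relMod (Q.comp P)) - t') = 0 := by rw [map_sub, e, sub_self]
  have h1 := ker_relModMap_kQ_le P Q _ h0
  obtain ⟨g, hg, t₂, ht₂, hsum⟩ := Submodule.mem_sup.mp h1
  have hqg : (q : relMod (Q.comp P)) - g = t' + t₂ := by
    rw [eq_sub_iff_add_eq] at hsum
    rw [← hsum]
    abel
  have hjg : jmap (Q.comp P) g = 0 := by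
    have e1 : g = (q : relMod (Q.comp P)) - (t' + t₂) := by
      rw [← hqg]
      abel
    have hq0 : jmap (Q.comp P) (q : relMod (Q.comp P)) = 0 := q.2
    have ht0 : jmap (Q.comp P) (t' + t₂) = 0 :=
      trivRel_le_relKer _ (Submodule.add_mem _ ht' ht₂)
    rw [e1, map_sub, hq0, ht0, sub_zero]
  obtain ⟨g', hg', hgg'⟩ := mem_FkerK_of_mem_Finr P Q g hg hjg
  refine ⟨g', hg', ?_⟩
  rw [Submodule.coe_sub, hgg', hqg]
  exact Submodule.add_mem _ ht' ht₂

variable (M : Type m) [AddCommGroup M] [Module C M] [Module B M] [IsScalarTower B C M]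

lemma kills_FkerK (φ : L2 (Q.comp P) →ₗ[C] M) (hφ : (kP P Q).pull2 M φ = 0) (g' : relKer (Q.comp P))
    (hg' : g' ∈ FkerK P Q) : φ (mk2 (Q.comp P) g') = 0 := by
  unfold FkerK at hg'
  induction hg' using Submodule.span_induction with
  | mem x hx =>
    obtain ⟨q0, rfl⟩ := hx
    rw [← L2map_mk2]
    exact LinearMap.congr_fun hφ (mk2 P q0)
  | zero => rw [mk2_zero, map_zero]
  | add x y _ _ hx hy => rw [mk2_add, map_add, hx, hy, add_zero]
  | smul r x _ hx => rw [mk2_smul, map_smul, hx, smul_zero]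

lemma kills (φ : L2 (Q.comp P) →ₗ[C] M) (hφ : (kP P Q).pull2 M φ = 0) (q : relKer (Q.comp P))
    (hq : (kQ P Q).relModMap (q : relMod (Q.comp P)) ∈ trivRel Q) : φ (mk2 (Q.comp P) q) = 0 := by
  obtain ⟨g', hg', ht⟩ := exists_FkerK_sub_mem P Q q hq
  have e1 : mk2 (Q.comp P) (q - g') = 0 := mk2_eq_zero_of_mem_trivRel _ _ ht
  rw [mk2_sub, sub_eq_zero] at e1
  rw [e1]
  exact kills_FkerK P Q M φ hφ g' hg'

lemma φ_congr (φ : L2 (Q.comp P) →ₗ[C] M) (hφ : (kP P Q).pull2 M φ = 0) (q₁ q₂ : relKer (Q.comp P))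
    (h : (kQ P Q).relKerMap q₁ = (kQ P Q).relKerMap q₂) :
    φ (mk2 (Q.comp P) q₁) = φ (mk2 (Q.comp P) q₂) := by
  rw [← sub_eq_zero, ← map_sub, ← mk2_sub]
  apply kills P Q M φ hφ
  rw [Submodule.coe_sub, map_sub, ← PresHom.relKerMap_coe, ← PresHom.relKerMap_coe, h, sub_self]
  exact Submodule.zero_mem _

lemma pull2_kQ_injective : Function.Injective ((kQ P Q).pull2 M) := by
  intro φ φ' h
  apply L2_ext
  intro q
  obtain ⟨q', rfl⟩ := exists_relKer_lift P Q q
  rw [← L2map_mk2]
  exact LinearMap.congr_fun h (mk2 _ q')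

/-- chosen lifts of relations -/
noncomputable def liftq (q : relKer Q) : relKer (Q.comp P) := (exists_relKer_lift P Q q).choose

lemma relKerMap_liftq (q : relKer Q) : (kQ P Q).relKerMap (liftq P Q q) = q :=
  (exists_relKer_lift P Q q).choose_spec

lemma exact2 (φ : L2 (Q.comp P) →ₗ[C] M) (hφ : (kP P Q).pull2 M φ = 0) :
    ∃ φ' : L2 Q →ₗ[C] M, (kQ P Q).pull2 M φ' = φ := by
  have hG : ∀ q' : relKer (Q.comp P),
      φ (mk2 _ (liftq P Q ((kQ P Q).relKerMap q'))) = φ (mk2 _ q') := fun q' =>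
    φ_congr P Q M φ hφ _ _ (relKerMap_liftq P Q _)
  let G : relKer Q →+ M := AddMonoidHom.mk' (fun q => φ (mk2 _ (liftq P Q q))) (by
    intro q₁ q₂
    obtain ⟨a, rfl⟩ := exists_relKer_lift P Q q₁
    obtain ⟨b, rfl⟩ := exists_relKer_lift P Q q₂
    rw [← map_add, hG, hG, hG, mk2_add, map_add])
  have hsmul : ∀ (r : Q.toExtension.Ring) (q : relKer Q),
      G (r • q) = algebraMap Q.toExtension.Ring C r • G q := by
    intro r q
    obtain ⟨r', rfl⟩ := ringHom_kQ_surjective P Q r
    obtain ⟨a, rfl⟩ := exists_relKer_lift P Q q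
    change φ (mk2 _ (liftq P Q _)) = _ • φ (mk2 _ (liftq P Q _))
    rw [← LinearMap.map_smulₛₗ, hG, hG, mk2_smul, map_smul, (kQ P Q).algebraMap_ringHom]
    rfl
  have hg : ∀ q : relKer Q, (q : relMod Q) ∈ trivRel Q → G q = 0 := by
    intro q hq
    apply kills P Q M φ hφ
    rw [← PresHom.relKerMap_coe, relKerMap_liftq]
    exact hq
  refine ⟨lift2 Q G hsmul hg, ?_⟩
  apply L2_ext
  intro q'
  rw [PresHom.pull2_apply, L2map_mk2, lift2_mk2]
  exact hG q'

lemma pull2_kP_kQ (φ' : L2 Q →ₗ[C] M) : (kP P Q).pull2 M ((kQ P Q).pull2 M φ') = 0 := by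
  apply L2_ext
  intro q
  rw [PresHom.pull2_apply, PresHom.pull2_apply, L2map_mk2, L2map_mk2]
  have e : (kQ P Q).relKerMap ((kP P Q).relKerMap q) = 0 := Subtype.ext (relModMap_kQ_kP P Q q)
  rw [e, mk2_zero, map_zero]
  rfl

end E2

end Groth.Agent.Lib.Seat56.CotTTriple
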