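import Mathlib.Algebra.Exact.Basic

/-!
# Transfer of `Function.Exact` along bijections, surjections and injections
-/

set_option autoImplicit false

namespace Groth.Agent.Lib.Seat56.ExactTransfer

/-- transfer of exactness through a bijection in the middle -/
lemma transfer_mid {X Y Y' Z : Type*} [Zero Z] {f' : X → Y'} {g' : Y' → Z} {f : X → Y} {g : Y → Z} {u : Y' → Y}
    (hf : ∀ x, f x = u (f' x)) (hg : ∀ y', g' y' = g (u y')) (hu : Function.Bijective u)
    (h : Function.Exact f' g') : Function.Exact f g := by
  intro y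
  obtain ⟨y', rfl⟩ := hu.2 y
  rw [← hg, h y']
  constructor
  · rintro ⟨x, rfl⟩
    exact ⟨x, hf x⟩
  · rintro ⟨x, hx⟩
    rw [hf] at hx
    exact ⟨x, hu.1 hx⟩

/-- transfer of exactness: changing the first map by a surjection on its source side -/
lemma transfer_right {Y Y' Z W : Type*} [Zero W] {g' : Y' → Z} {g : Y → Z} {u : Y' → Y} {δ : Z → W}
    (hg : ∀ y', g' y' = g (u y')) (hu : Function.Surjective u)
    (h : Function.Exact g' δ) : Function.Exact g δ := by
  intro z
  rw [h z]
  constructor
  · rintro ⟨y', rfl⟩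
    exact ⟨u y', (hg y').symm⟩
  · rintro ⟨y, rfl⟩
    obtain ⟨y', rfl⟩ := hu y
    exact ⟨y', hg y'⟩

/-- transfer of exactness: changing the second map by an injection on its target side -/
lemma transfer_left {W X Y Y' : Type*} [Zero Y] [Zero Y'] {f' : X → Y'} {f : X → Y} {u : Y' → Y} {δ : W → X}
    (hf : ∀ x, f x = u (f' x)) (hu : Function.Injective u) (hu0 : u 0 = 0)
    (h : Function.Exact δ f') : Function.Exact δ f := by
  intro x
  rw [← h x, hf]
  constructor
  · intro hx
    rw [← hu0] at hx
    exact hu hx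
  · intro hx
    rw [hx, hu0]

end Groth.Agent.Lib.Seat56.ExactTransfer
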