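import Mathlib
import Groth.Prelude.Def_RefHull
import Groth.Prelude.Def_DefoSh
import Groth.Prelude.Def_Formal
import Groth.Prelude.Def_KLin
import Groth.Prelude.Def_CohB1
import Groth.Agent.S0020
import Groth.Agent.Lib.Seat56StalkCoker
import Groth.Agent.Lib.Helper23QCohAbelian
import Groth.Agent.Lib.Helper23FinType

/-!
# Stalks of multiplication maps and openness of the injectivity locus (helper56)

* `stalkMapₗ_smulModΓ`: the stalk at `x` of multiplication by a global function `a` is
  multiplication by the germ `a_x`.
* `stalk_injective_iff`: `u_x` is injective iff the stalk of `kernel u` at `x` vanishes.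
* `isOpen_setOf_stalk_injective`: on a locally Noetherian scheme, for `u : F' ⟶ F` between
  quasi-coherent modules with `F'` of finite type, `{x | u_x injective}` is open.
-/

set_option autoImplicit false
set_option linter.style.haveILetI false
universe u

open CategoryTheory CategoryTheory.Limits AlgebraicGeometry TopologicalSpace Opposite

namespace Groth.Agent.Lib.Seat56.FibreRegA

variable {X : Scheme.{u}}

/-- The stalk of multiplication by a global function is multiplication by its germ. -/
theorem stalkMapₗ_smulModΓ (G : X.Modules) (a : Γ(X, ⊤)) (x : X) (v : ↑(G.presheaf.stalk x)) :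
    RefHull.stalkMapₗ (Formal.smulModΓ G a) x v = X.presheaf.germ ⊤ x trivial a • v := by
  obtain ⟨U, hxU, m, rfl⟩ := TopCat.Presheaf.exists_germ_eq G.presheaf v
  rw [RefHull.stalkMapₗ_germ, KLin.smulModΓ_app_apply, Mero.germ_smul]
  congr 1
  exact TopCat.Presheaf.germ_res_apply X.presheaf (homOfLE (le_top : U ≤ ⊤)) x hxU a

/-- a monomorphism of modules is injective on sections. -/
theorem app_injective_of_mono {F G : X.Modules} (φ : F ⟶ G) [Mono φ] (U : X.Opens) :
    Function.Injective (φ.mapPresheaf.app (op U)) := by
  have h2 : Mono ((Scheme.Modules.toPresheaf X).map φ) := inferInstance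
  have h3 : Mono (((Scheme.Modules.toPresheaf X).map φ).app (op U)) := inferInstance
  exact (AddCommGrpCat.mono_iff_injective _).1 h3

/-- a monomorphism of modules is injective on stalks. -/
theorem stalkMapₗ_injective_of_mono {F G : X.Modules} (φ : F ⟶ G) [Mono φ] (x : X) :
    Function.Injective (RefHull.stalkMapₗ φ x) :=
  TopCat.Presheaf.stalkFunctor_map_injective_of_app_injective
    (fun U => app_injective_of_mono φ U) x

variable {F' F : X.Modules} (u : F' ⟶ F) (x : X)

/-- `u_x` is injective iff the stalk of the kernel of `u` at `x` is zero. -/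
theorem stalk_injective_iff :
    Function.Injective (RefHull.stalkMapₗ u x) ↔
      Subsingleton ↑((kernel u).presheaf.stalk x) := by
  constructor
  · intro hinj
    refine ⟨fun a b => ?_⟩
    apply stalkMapₗ_injective_of_mono (kernel.ι u) x
    apply hinj
    rw [← DefoSh.stalkMapₗ_comp_apply, ← DefoSh.stalkMapₗ_comp_apply, kernel.condition,
      DefoSh.stalkMapₗ_zero_apply, DefoSh.stalkMapₗ_zero_apply]
  · intro hsub
    rw [← LinearMap.ker_eq_bot, LinearMap.ker_eq_bot']
    intro v hv
    let S : ShortComplex X.Modules := ShortComplex.mk (kernel.ι u) u (kernel.condition u)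
    let S' : ShortComplex X.Modules :=
      ShortComplex.mk (kernel.ι u) (Abelian.factorThruImage u) (by
        rw [← cancel_mono (Abelian.image.ι u), Category.assoc, Abelian.image.fac,
          kernel.condition, zero_comp])
    have hS' : S'.ShortExact :=
      { exact := by
          have h1 : S.Exact := ShortComplex.exact_of_f_is_kernel S (kernelIsKernel u)
          have h2 : S'.Exact := by
            refine (ShortComplex.exact_iff_of_epi_of_isIso_of_mono
              (S₁ := S') (S₂ := S)
              { τ₁ := 𝟙 _, τ₂ := 𝟙 _, τ₃ := Abelian.image.ι u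
                comm₁₂ := by simp [S, S']
                comm₂₃ := by simp [S, S'] }).2 h1
          exact h2
        mono_f := inferInstanceAs (Mono (kernel.ι u))
        epi_g := inferInstanceAs (Epi (Abelian.factorThruImage u)) }
    have hv' : RefHull.stalkMapₗ (Abelian.factorThruImage u) x v = 0 := by
      apply stalkMapₗ_injective_of_mono (Abelian.image.ι u) x
      rw [← DefoSh.stalkMapₗ_comp_apply, Abelian.image.fac, hv, map_zero]
    obtain ⟨a, ha⟩ := Groth.Agent.Lib.Seat56.StalkCoker.stalk_exact_of_shortExact S' hS' x v hv'
    rw [← ha, Subsingleton.elim a 0, map_zero]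

/-- **Openness of the injectivity locus** on a locally Noetherian scheme. -/
theorem isOpen_setOf_stalk_injective [IsLocallyNoetherian X] [F'.IsQuasicoherent]
    [F.IsQuasicoherent] [SheafOfModules.IsFiniteType (R := X.ringCatSheaf) F'] :
    IsOpen {x : X | Function.Injective (RefHull.stalkMapₗ u x)} := by
  haveI : (kernel u).IsQuasicoherent :=
    Groth.Agent.Lib.Helper23.QCohLocal.isQuasicoherent_kernel u
  haveI : SheafOfModules.IsFiniteType (R := X.ringCatSheaf) (kernel u) :=
    Groth.Agent.Lib.Helper23.FinType.isFiniteType_of_mono (N := kernel u) (M := F') (kernel.ι u)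
  have hcl := Groth.Agent.S0020.result X (kernel u) this
  have : {x : X | Function.Injective (RefHull.stalkMapₗ u x)} = (CohB1.support (kernel u))ᶜ := by
    ext y
    rw [Set.mem_compl_iff]
    change _ ↔ ¬ ¬ Subsingleton _
    rw [not_not]
    exact stalk_injective_iff u y
  rw [this]
  exact hcl.isOpen_compl

end Groth.Agent.Lib.Seat56.FibreRegA
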