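import Mathlib

/-!
# A localisation of a finitely presented algebra at a prime is essentially finitely presented over
the localisation of the base (helper56)

`exists_essFP_of_atPrime`: `R₀ → B` finitely presented, `R = (R₀)_p`, `S = B_q`, with a compatible
ring map `R → S`: then `S` is a localisation of the finitely presented `R`-algebra `R ⊗[R₀] B`.
-/

set_option autoImplicit false
set_option linter.style.haveILetI false
universe u

namespace Groth.Agent.Lib.Seat56.StalkEssFP

open TensorProduct

attribute [local instance] Algebra.TensorProduct.rightAlgebra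

theorem exists_essFP_of_atPrime {R₀ B R S : Type u} [CommRing R₀] [CommRing B] [CommRing R]
    [CommRing S] [Algebra R₀ B] [Algebra.FinitePresentation R₀ B] [Algebra R₀ R] [Algebra B S]
    [Algebra R S] [Algebra R₀ S] [IsScalarTower R₀ R S] [IsScalarTower R₀ B S]
    (p : Ideal R₀) [p.IsPrime] (q : Ideal B) [q.IsPrime]
    [IsLocalization.AtPrime R p] [IsLocalization.AtPrime S q] :
    ∃ (S₁ : Type u) (_ : CommRing S₁) (_ : Algebra R S₁) (_ : Algebra S₁ S)
      (_ : IsScalarTower R S₁ S) (W : Submonoid S₁),
      Algebra.FinitePresentation R S₁ ∧ IsLocalization W S := by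
  -- elements outside `p` map outside `q`
  have hpq : Algebra.algebraMapSubmonoid B p.primeCompl ≤ q.primeCompl := by
    rintro _ ⟨a, ha, rfl⟩ hmem
    have h1 : IsUnit (algebraMap R₀ R a) := IsLocalization.map_units R ⟨a, ha⟩
    have h2 : IsUnit (algebraMap R S (algebraMap R₀ R a)) := h1.map _
    rw [← IsScalarTower.algebraMap_apply, IsScalarTower.algebraMap_apply R₀ B S] at h2
    exact (IsLocalization.AtPrime.isUnit_to_map_iff S q _).1 h2 hmem
  let φ : R ⊗[R₀] B →ₐ[R] S :=
    Algebra.TensorProduct.lift (Algebra.ofId R S) (IsScalarTower.toAlgHom R₀ B S)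
      (fun _ _ => Commute.all _ _)
  letI algS₁S : Algebra (R ⊗[R₀] B) S := φ.toRingHom.toAlgebra
  have halg : ∀ z, algebraMap (R ⊗[R₀] B) S z = φ z := fun _ => rfl
  haveI : IsScalarTower R (R ⊗[R₀] B) S := .of_algebraMap_eq' (by
    ext r
    rw [RingHom.comp_apply, halg, AlgHom.commutes])
  haveI : IsScalarTower B (R ⊗[R₀] B) S := .of_algebraMap_eq' (by
    ext b
    rw [RingHom.comp_apply, halg]
    change algebraMap B S b = φ ((1 : R) ⊗ₜ[R₀] b)
    simp [φ])
  haveI : IsLocalization (Algebra.algebraMapSubmonoid B p.primeCompl) (R ⊗[R₀] B) :=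
    (Algebra.isLocalization_iff_isPushout p.primeCompl R).2 inferInstance
  haveI : IsLocalization (q.primeCompl.map (algebraMap B (R ⊗[R₀] B))) S :=
    IsLocalization.isLocalization_of_submonoid_le (R ⊗[R₀] B) S
      (Algebra.algebraMapSubmonoid B p.primeCompl) q.primeCompl hpq
  exact ⟨R ⊗[R₀] B, inferInstance, inferInstance, algS₁S, inferInstance,
    q.primeCompl.map (algebraMap B (R ⊗[R₀] B)), inferInstance, inferInstance⟩

end Groth.Agent.Lib.Seat56.StalkEssFP
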