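import Mathlib
import Groth.Prelude.Def_FlatCA
import Groth.Agent.Lib.Seat6NzdLemmas
import Groth.Agent.Lib.Seat6Content
import Groth.Agent.Lib.Helper3FlatBC

/-!
# Universal injectivity of a linear map `u : Y → X` up to torsion (helper56)

Generalisation of helper6's `SInj` / `STors` (multiplication maps) to arbitrary `B`-linear maps:

* `UInj A u`: `u ⊗[A] Q` is injective for every `A`-module `Q`;
* `UTors A u T`: the kernel of `u ⊗[A] Q` is `T`-torsion for every `A`-module `Q`;

with transfer along restriction of scalars, localisation and base change.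
-/

set_option autoImplicit false
set_option linter.style.haveILetI false
universe u

namespace Groth.Agent.Lib.Seat56.UMap

open TensorProduct

section Defs

variable (A : Type u) {B : Type u} [CommRing A] [CommRing B] [Algebra A B]
  {Y X : Type u} [AddCommGroup Y] [Module B Y] [Module A Y] [IsScalarTower A B Y]
  [AddCommGroup X] [Module B X] [Module A X] [IsScalarTower A B X]

/-- `u ⊗[A] Q` is injective for all `A`-modules `Q`. -/
def UInj (u : Y →ₗ[B] X) : Prop :=
  ∀ (Q : Type u) [AddCommGroup Q] [Module A Q] (z : Y ⊗[A] Q),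
    AlgebraTensorModule.rTensor A Q u z = 0 → z = 0

/-- The kernel of `u ⊗[A] Q` is `T`-torsion for all `A`-modules `Q`. -/
def UTors (u : Y →ₗ[B] X) (T : Submonoid B) : Prop :=
  ∀ (Q : Type u) [AddCommGroup Q] [Module A Q] (z : Y ⊗[A] Q),
    AlgebraTensorModule.rTensor A Q u z = 0 → ∃ t ∈ T, t • z = 0

variable {A}

theorem uInj_of_univInj (u : Y →ₗ[B] X) (hu : FlatCA.UnivInj A (u.restrictScalars A)) :
    UInj A u := by
  intro Q _ _ z hz
  have h2 : ∀ w : Y ⊗[A] Q, (TensorProduct.comm A X Q) (AlgebraTensorModule.rTensor A Q u w) =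
      (u.restrictScalars A).lTensor Q (TensorProduct.comm A Y Q w) := by
    intro w
    induction w using TensorProduct.induction_on with
    | zero => simp
    | tmul n q => simp
    | add a b ha hb => rw [map_add, map_add, ha, hb, map_add, map_add]
  have h3 : (u.restrictScalars A).lTensor Q (TensorProduct.comm A Y Q z) = 0 := by
    rw [← h2, hz, map_zero]
  have h4 := hu Q (h3.trans (map_zero _).symm)
  exact (TensorProduct.comm A Y Q).injective (by rw [h4, map_zero])

theorem univInj_of_uInj (u : Y →ₗ[B] X) (hu : UInj A u) :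
    FlatCA.UnivInj A (u.restrictScalars A) := by
  intro Q _ _
  rw [injective_iff_map_eq_zero]
  intro z hz
  have h2 : ∀ w : Q ⊗[A] Y, (TensorProduct.comm A Q X) ((u.restrictScalars A).lTensor Q w) =
      AlgebraTensorModule.rTensor A Q u (TensorProduct.comm A Q Y w) := by
    intro w
    induction w using TensorProduct.induction_on with
    | zero => simp
    | tmul q n => simp
    | add a b ha hb => rw [map_add, map_add, ha, hb, map_add, map_add]
  have h3 : AlgebraTensorModule.rTensor A Q u (TensorProduct.comm A Q Y z) = 0 := by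
    rw [← h2, hz, map_zero]
  have h4 := hu Q _ h3
  exact (TensorProduct.comm A Q Y).injective (by rw [h4, map_zero])

/-- Restriction of scalars `A → A'`. -/
theorem uInj_restrictScalars {A' : Type u} [CommRing A'] [Algebra A A'] [Algebra A' B]
    [IsScalarTower A A' B] [Module A' Y] [IsScalarTower A' B Y] [IsScalarTower A A' Y]
    [Module A' X] [IsScalarTower A' B X] [IsScalarTower A A' X] (u : Y →ₗ[B] X)
    (hu : UInj A' u) : UInj A u := by
  intro Q _ _ z hz
  let eY := TensorProduct.AlgebraTensorModule.cancelBaseChange A A' B Y Q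
  let eX := TensorProduct.AlgebraTensorModule.cancelBaseChange A A' B X Q
  have nat : ∀ w : Y ⊗[A'] (A' ⊗[A] Q), eX (AlgebraTensorModule.rTensor A' (A' ⊗[A] Q) u w) =
      AlgebraTensorModule.rTensor A Q u (eY w) := by
    intro w
    induction w using TensorProduct.induction_on with
    | zero => simp
    | tmul y t =>
      induction t using TensorProduct.induction_on with
      | zero => simp
      | tmul a q => simp [eX, eY]
      | add a b ha hb => rw [tmul_add, map_add, map_add, ha, hb, map_add, map_add]
    | add a b ha hb => rw [map_add, map_add, ha, hb, map_add, map_add]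
  have h1 : AlgebraTensorModule.rTensor A' (A' ⊗[A] Q) u (eY.symm z) = 0 := by
    apply eX.injective
    rw [nat, LinearEquiv.apply_symm_apply, hz, map_zero]
  have h2 := hu (A' ⊗[A] Q) _ h1
  exact eY.symm.injective (by rw [h2, map_zero])

end Defs

section Loc

variable {A B : Type u} [CommRing A] [CommRing B] [Algebra A B]
  {Y X Y' X' : Type u} [AddCommGroup Y] [Module B Y] [Module A Y] [IsScalarTower A B Y]
  [AddCommGroup X] [Module B X] [Module A X] [IsScalarTower A B X]
  [AddCommGroup Y'] [Module B Y'] [Module A Y'] [IsScalarTower A B Y']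
  [AddCommGroup X'] [Module B X'] [Module A X'] [IsScalarTower A B X']
  (T : Submonoid B) (gY : Y →ₗ[B] Y') (gX : X →ₗ[B] X')
  [IsLocalizedModule T gY] [IsLocalizedModule T gX]
  (u : Y →ₗ[B] X) (u' : Y' →ₗ[B] X')

include gX in
theorem rTensor_comm (hcomm : u' ∘ₗ gY = gX ∘ₗ u) (Q : Type u) [AddCommGroup Q] [Module A Q]
    (z : Y ⊗[A] Q) :
    AlgebraTensorModule.rTensor A Q u' (AlgebraTensorModule.rTensor A Q gY z) =
      AlgebraTensorModule.rTensor A Q gX (AlgebraTensorModule.rTensor A Q u z) := by
  induction z using TensorProduct.induction_on with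
  | zero => simp
  | tmul y q =>
    simp only [AlgebraTensorModule.rTensor_tmul]
    congr 1
    exact LinearMap.congr_fun hcomm y
  | add a b ha hb => rw [map_add, map_add, ha, hb, map_add, map_add]

omit [IsLocalizedModule T gX] in
/-- From the localisation back to the module: torsion statement. -/
theorem uTors_of_uInj_isLocalizedModule (hcomm : u' ∘ₗ gY = gX ∘ₗ u) (hu : UInj A u') :
    UTors A u T := by
  intro Q _ _ z hz
  have h1 : AlgebraTensorModule.rTensor A Q u' (AlgebraTensorModule.rTensor A Q gY z) = 0 := by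
    rw [rTensor_comm gY gX u u' hcomm, hz, map_zero]
  have h2 := hu Q _ h1
  obtain ⟨c, hc⟩ := (IsLocalizedModule.eq_zero_iff T (AlgebraTensorModule.rTensor A Q gY)).1 h2
  exact ⟨c.1, c.2, hc⟩

/-- From the module to its localisation. -/
theorem uInj_of_uTors_isLocalizedModule (hcomm : u' ∘ₗ gY = gX ∘ₗ u) (hu : UTors A u T) :
    UInj A u' := by
  intro Q _ _ y hy
  set GY := AlgebraTensorModule.rTensor A Q gY with hGY
  set GX := AlgebraTensorModule.rTensor A Q gX with hGX
  obtain ⟨⟨z, t⟩, hzt⟩ := IsLocalizedModule.surj T GY y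
  have hzt' : t.1 • y = GY z := hzt
  have h1 : GX (AlgebraTensorModule.rTensor A Q u z) = 0 := by
    rw [hGX, ← rTensor_comm gY gX u u' hcomm, ← hGY, ← hzt', map_smul, hy, smul_zero]
  obtain ⟨c, hc⟩ := (IsLocalizedModule.eq_zero_iff T GX).1 h1
  have h2 : AlgebraTensorModule.rTensor A Q u (c.1 • z) = 0 := by
    rw [map_smul]
    exact hc
  obtain ⟨t', ht', h3⟩ := hu Q _ h2
  have h4 : GY z = 0 := by
    rw [IsLocalizedModule.eq_zero_iff T GY]
    refine ⟨⟨t' * c.1, T.mul_mem ht' c.2⟩, ?_⟩
    change (t' * c.1) • z = 0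
    rw [mul_smul]
    exact h3
  rw [h4] at hzt'
  refine IsLocalizedModule.smul_injective GY t ?_
  change t.1 • y = t.1 • 0
  rw [smul_zero]
  exact hzt'

/-- Enlarging the torsion monoid. -/
theorem UTors.mono {T T' : Submonoid B} (h : T ≤ T') {u : Y →ₗ[B] X} (hu : UTors A u T) :
    UTors A u T' := by
  intro Q _ _ z hz
  obtain ⟨t, ht, h1⟩ := hu Q z hz
  exact ⟨t, h ht, h1⟩

end Loc

section BC

variable {A R : Type u} [CommRing A] [CommRing R] [Algebra A R]
  {SA SR : Type u} [CommRing SA] [CommRing SR] [Algebra A SA] [Algebra R SR] [Algebra SA SR]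
  {YA YR XA XR : Type u}
  [AddCommGroup YA] [Module A YA] [Module SA YA] [IsScalarTower A SA YA]
  [AddCommGroup XA] [Module A XA] [Module SA XA] [IsScalarTower A SA XA]
  [AddCommGroup YR] [Module R YR] [Module A YR] [IsScalarTower A R YR] [Module SR YR]
  [IsScalarTower R SR YR] [Module SA YR] [IsScalarTower SA SR YR] [IsScalarTower A SA YR]
  [AddCommGroup XR] [Module R XR] [Module A XR] [IsScalarTower A R XR] [Module SR XR]
  [IsScalarTower R SR XR] [Module SA XR] [IsScalarTower SA SR XR] [IsScalarTower A SA XR]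

omit [IsScalarTower SA SR XR] in
open Groth.Agent.Lib.Helper3.FlatLoc in
/-- Base change of the torsion statement. -/
theorem uTors_of_isBaseChange (φY : YA →ₗ[SA] YR) (φX : XA →ₗ[SA] XR)
    (hφY : IsBaseChange R (φY.restrictScalars A)) (hφX : IsBaseChange R (φX.restrictScalars A))
    (uA : YA →ₗ[SA] XA) (uR : YR →ₗ[SR] XR) (hcomm : ∀ y, uR (φY y) = φX (uA y))
    (TA : Submonoid SA) (TR : Submonoid SR) (hT : ∀ s ∈ TA, algebraMap SA SR s ∈ TR)
    (h : UTors A uA TA) : UTors R uR TR := by
  intro Q _ _ z' hz'
  letI : Module A Q := Module.compHom Q (algebraMap A R)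
  haveI : IsScalarTower A R Q := ⟨fun a r q => by
    change (a • r) • q = algebraMap A R a • (r • q)
    rw [Algebra.smul_def, mul_smul]⟩
  obtain ⟨z, rfl⟩ := (bcMap_bijective (φY.restrictScalars A) hφY Q).2 z'
  have comp : ∀ (b : SA) (z : YA ⊗[A] Q), bcMap (R := R) (φY.restrictScalars A) Q (b • z) =
      algebraMap SA SR b • bcMap (R := R) (φY.restrictScalars A) Q z := by
    intro b z
    induction z with
    | zero => simp
    | add a b ha hb => simp only [smul_add, map_add, ha, hb]
    | tmul m i =>
      rw [smul_tmul', bcMap_tmul, bcMap_tmul, smul_tmul', LinearMap.coe_restrictScalars,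
        map_smul, algebraMap_smul]
  have nat : ∀ z : YA ⊗[A] Q, bcMap (R := R) (φX.restrictScalars A) Q
      (AlgebraTensorModule.rTensor A Q uA z) =
        AlgebraTensorModule.rTensor R Q uR (bcMap (R := R) (φY.restrictScalars A) Q z) := by
    intro z
    induction z with
    | zero => simp
    | add a b ha hb => simp only [map_add, ha, hb]
    | tmul m i =>
      rw [AlgebraTensorModule.rTensor_tmul, bcMap_tmul, bcMap_tmul,
        AlgebraTensorModule.rTensor_tmul, LinearMap.coe_restrictScalars,
        LinearMap.coe_restrictScalars, hcomm]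
  have hz : AlgebraTensorModule.rTensor A Q uA z = 0 := by
    apply (bcMap_bijective (φX.restrictScalars A) hφX Q).1
    rw [nat, hz', map_zero]
  obtain ⟨t, ht, htz⟩ := h Q z hz
  exact ⟨algebraMap SA SR t, hT t ht, by rw [← comp, htz, map_zero]⟩

end BC

section Equiv

variable {A B : Type u} [CommRing A] [CommRing B] [Algebra A B]
  {Y X Y' X' : Type u} [AddCommGroup Y] [Module B Y] [Module A Y] [IsScalarTower A B Y]
  [AddCommGroup X] [Module B X] [Module A X] [IsScalarTower A B X]
  [AddCommGroup Y'] [Module B Y'] [Module A Y'] [IsScalarTower A B Y']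
  [AddCommGroup X'] [Module B X'] [Module A X'] [IsScalarTower A B X']

/-- Transport along isomorphisms. -/
theorem uTors_of_equiv (eY : Y ≃ₗ[B] Y') (eX : X ≃ₗ[B] X') (u : Y →ₗ[B] X) (u' : Y' →ₗ[B] X')
    (hcomm : ∀ y, u' (eY y) = eX (u y)) (T : Submonoid B) (h : UTors A u T) : UTors A u' T := by
  intro Q _ _ z hz
  have nat : ∀ w : Y ⊗[A] Q, AlgebraTensorModule.rTensor A Q eX.toLinearMap
      (AlgebraTensorModule.rTensor A Q u w) =
      AlgebraTensorModule.rTensor A Q u' (AlgebraTensorModule.rTensor A Q eY.toLinearMap w) := by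
    intro w
    induction w using TensorProduct.induction_on with
    | zero => simp
    | tmul y q => simp [hcomm]
    | add a b ha hb => rw [map_add, map_add, ha, hb, map_add, map_add]
  let EY : Y ⊗[A] Q ≃ₗ[B] Y' ⊗[A] Q := AlgebraTensorModule.congr eY (LinearEquiv.refl A Q)
  let EX : X ⊗[A] Q ≃ₗ[B] X' ⊗[A] Q := AlgebraTensorModule.congr eX (LinearEquiv.refl A Q)
  have hEY : ∀ w, EY w = AlgebraTensorModule.rTensor A Q eY.toLinearMap w := by
    intro w
    induction w using TensorProduct.induction_on with
    | zero => simp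
    | tmul y q => simp [EY]
    | add a b ha hb => rw [map_add, map_add, ha, hb]
  have hEX : ∀ w, EX w = AlgebraTensorModule.rTensor A Q eX.toLinearMap w := by
    intro w
    induction w using TensorProduct.induction_on with
    | zero => simp
    | tmul y q => simp [EX]
    | add a b ha hb => rw [map_add, map_add, ha, hb]
  have h1 : AlgebraTensorModule.rTensor A Q u (EY.symm z) = 0 := by
    apply EX.injective
    rw [hEX, nat, ← hEY, LinearEquiv.apply_symm_apply, hz, map_zero]
  obtain ⟨t, ht, h2⟩ := h Q _ h1
  refine ⟨t, ht, ?_⟩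
  apply EY.symm.injective
  rw [map_smul, h2, map_zero]

end Equiv

end Groth.Agent.Lib.Seat56.UMap
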