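import Mathlib
import Groth.Prelude.Def_FlatCA
import Groth.Agent.Lib.Seat56UMap
import Groth.Agent.Lib.Seat6NzdLemmas
import Groth.Agent.Lib.Seat6Content
import Groth.Agent.Lib.Helper5LocalFlat2
import Groth.Agent.Lib.Helper3FlatLocA
import Groth.Agent.Lib.Helper13Fiber

/-!
# The Noetherian step of the non-Noetherian injectivity criterion (Stacks 00R7), map version
-/

set_option autoImplicit false
set_option linter.style.haveILetI false
universe u

namespace Groth.Agent.Lib.Seat56.UMapNoeth

open TensorProduct Groth.Agent.Lib.Seat6.NzdLemmas Groth.Agent.Lib.Seat56.UMap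

/-- `UInj` only depends on the underlying function. -/
theorem uInj_congr {A B₁ B₂ : Type u} [CommRing A] [CommRing B₁] [CommRing B₂] [Algebra A B₁]
    [Algebra A B₂] {Y X : Type u} [AddCommGroup Y] [Module A Y] [AddCommGroup X] [Module A X]
    [Module B₁ Y] [IsScalarTower A B₁ Y] [Module B₁ X] [IsScalarTower A B₁ X]
    [Module B₂ Y] [IsScalarTower A B₂ Y] [Module B₂ X] [IsScalarTower A B₂ X]
    (u₁ : Y →ₗ[B₁] X) (u₂ : Y →ₗ[B₂] X) (h : ∀ y, u₁ y = u₂ y) (hu : UInj A u₁) : UInj A u₂ := by
  intro Q _ _ z hz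
  apply hu Q z
  rw [← hz]
  clear hz
  induction z using TensorProduct.induction_on with
  | zero => simp
  | tmul y q => simp [h]
  | add a b ha hb => rw [map_add, map_add, ha, hb]

/-- Noetherian step: if `u₀` is injective on the fibre at `p₀` near `q₀`, then the kernel of
`u₀ ⊗ Q` is killed by elements outside `q₀`, for all `R₀`-modules `Q`. -/
theorem uTors_noetherian {R₀ S₀ : Type u} [CommRing R₀] [CommRing S₀] [Algebra R₀ S₀]
    [IsNoetherianRing S₀] {N₀ Y₀ : Type u} [AddCommGroup N₀] [Module S₀ N₀] [Module R₀ N₀]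
    [IsScalarTower R₀ S₀ N₀]
    [AddCommGroup Y₀] [Module S₀ Y₀] [Module R₀ Y₀] [IsScalarTower R₀ S₀ Y₀] [Module.Finite S₀ Y₀]
    (p₀ : Ideal R₀) [p₀.IsPrime] (q₀ : Ideal S₀) [q₀.IsPrime]
    (hpq : q₀.comap (algebraMap R₀ S₀) = p₀)
    (hfl : Module.Flat R₀ (LocalizedModule q₀.primeCompl N₀)) (u₀ : Y₀ →ₗ[S₀] N₀)
    (hB : ∀ y : Y₀, u₀ y ∈ (p₀ • ⊤ : Submodule R₀ N₀) →
      ∃ w : S₀, w ∉ q₀ ∧ w • y ∈ (p₀ • ⊤ : Submodule R₀ Y₀)) :
    UTors R₀ u₀ q₀.primeCompl := by
  letI algRS : Algebra (Localization.AtPrime p₀) (Localization.AtPrime q₀) :=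
    (Localization.localRingHom p₀ q₀ (algebraMap R₀ S₀) hpq.symm).toAlgebra
  have halg : ∀ x : Localization.AtPrime p₀,
      algebraMap (Localization.AtPrime p₀) (Localization.AtPrime q₀) x =
        Localization.localRingHom p₀ q₀ (algebraMap R₀ S₀) hpq.symm x := fun _ => rfl
  haveI : IsLocalHom (algebraMap (Localization.AtPrime p₀) (Localization.AtPrime q₀)) :=
    Localization.isLocalHom_localRingHom p₀ q₀ (algebraMap R₀ S₀) hpq.symm
  -- module structures on the localised modules
  letI modRN : Module (Localization.AtPrime p₀) (LocalizedModule q₀.primeCompl N₀) :=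
    Module.compHom (LocalizedModule q₀.primeCompl N₀)
      (algebraMap (Localization.AtPrime p₀) (Localization.AtPrime q₀))
  letI modRY : Module (Localization.AtPrime p₀) (LocalizedModule q₀.primeCompl Y₀) :=
    Module.compHom (LocalizedModule q₀.primeCompl Y₀)
      (algebraMap (Localization.AtPrime p₀) (Localization.AtPrime q₀))
  have hsmulN : ∀ (r : Localization.AtPrime p₀) (n : LocalizedModule q₀.primeCompl N₀),
      r • n = algebraMap (Localization.AtPrime p₀) (Localization.AtPrime q₀) r • n :=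
    fun _ _ => rfl
  have hsmulY : ∀ (r : Localization.AtPrime p₀) (n : LocalizedModule q₀.primeCompl Y₀),
      r • n = algebraMap (Localization.AtPrime p₀) (Localization.AtPrime q₀) r • n :=
    fun _ _ => rfl
  haveI tow1N : IsScalarTower (Localization.AtPrime p₀) (Localization.AtPrime q₀)
      (LocalizedModule q₀.primeCompl N₀) := ⟨fun r x n => by
    rw [hsmulN, Algebra.smul_def, mul_smul]⟩
  haveI tow1Y : IsScalarTower (Localization.AtPrime p₀) (Localization.AtPrime q₀)
      (LocalizedModule q₀.primeCompl Y₀) := ⟨fun r x n => by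
    rw [hsmulY, Algebra.smul_def, mul_smul]⟩
  haveI tow2N : IsScalarTower R₀ (Localization.AtPrime p₀) (LocalizedModule q₀.primeCompl N₀) :=
    ⟨fun r x n => by
      rw [hsmulN, hsmulN, Algebra.smul_def, map_mul, mul_smul, halg (algebraMap _ _ r),
        Localization.localRingHom_to_map]
      rw [algebraMap_smul (Localization.AtPrime q₀), algebraMap_smul S₀]⟩
  haveI tow2Y : IsScalarTower R₀ (Localization.AtPrime p₀) (LocalizedModule q₀.primeCompl Y₀) :=
    ⟨fun r x n => by
      rw [hsmulY, hsmulY, Algebra.smul_def, map_mul, mul_smul, halg (algebraMap _ _ r),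
        Localization.localRingHom_to_map]
      rw [algebraMap_smul (Localization.AtPrime q₀), algebraMap_smul S₀]⟩
  haveI flat0 : Module.Flat R₀ (LocalizedModule q₀.primeCompl N₀) := hfl
  haveI flat1 : Module.Flat (Localization.AtPrime p₀) (LocalizedModule q₀.primeCompl N₀) :=
    (Module.flat_iff_of_isLocalization (Localization.AtPrime p₀) p₀.primeCompl
      (LocalizedModule q₀.primeCompl N₀)).2 flat0
  haveI fin1 : Module.Finite (Localization.AtPrime q₀) (LocalizedModule q₀.primeCompl Y₀) :=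
    inferInstance
  haveI noeth1 : IsNoetherianRing (Localization.AtPrime q₀) := inferInstance
  -- the localised map
  set gY := LocalizedModule.mkLinearMap q₀.primeCompl Y₀ with hgY
  set gX := LocalizedModule.mkLinearMap q₀.primeCompl N₀ with hgX
  set u'₀ : LocalizedModule q₀.primeCompl Y₀ →ₗ[S₀] LocalizedModule q₀.primeCompl N₀ :=
    IsLocalizedModule.map q₀.primeCompl gY gX u₀ with hu'₀
  have hcomm : u'₀ ∘ₗ gY = gX ∘ₗ u₀ := IsLocalizedModule.map_comp q₀.primeCompl gY gX u₀
  have hcomm' : ∀ y, u'₀ (gY y) = gX (u₀ y) := fun y => LinearMap.congr_fun hcomm y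
  let u'S : LocalizedModule q₀.primeCompl Y₀ →ₗ[Localization.AtPrime q₀]
      LocalizedModule q₀.primeCompl N₀ :=
    u'₀.extendScalarsOfIsLocalization q₀.primeCompl (Localization.AtPrime q₀)
  let u' : LocalizedModule q₀.primeCompl Y₀ →ₗ[Localization.AtPrime p₀]
      LocalizedModule q₀.primeCompl N₀ := u'S.restrictScalars (Localization.AtPrime p₀)
  have hu'_apply : ∀ y, u' y = u'₀ y := fun _ => rfl
  -- identification of the two submodules
  have hmax : IsLocalRing.maximalIdeal (Localization.AtPrime p₀) =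
      p₀.map (algebraMap R₀ (Localization.AtPrime p₀)) :=
    (Localization.AtPrime.map_eq_maximalIdeal).symm
  have hsubN : ∀ n : LocalizedModule q₀.primeCompl N₀,
      n ∈ (IsLocalRing.maximalIdeal (Localization.AtPrime p₀) • ⊤ :
        Submodule (Localization.AtPrime p₀) (LocalizedModule q₀.primeCompl N₀)) ↔
      n ∈ (p₀ • ⊤ : Submodule R₀ (LocalizedModule q₀.primeCompl N₀)) := by
    intro n
    rw [Groth.Agent.Helper13Fiber.smul_top_eq_restrictScalars p₀ (Localization.AtPrime p₀)
      (LocalizedModule q₀.primeCompl N₀), Submodule.restrictScalars_mem, hmax]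
  have hsubY : ∀ n : LocalizedModule q₀.primeCompl Y₀,
      n ∈ (IsLocalRing.maximalIdeal (Localization.AtPrime p₀) • ⊤ :
        Submodule (Localization.AtPrime p₀) (LocalizedModule q₀.primeCompl Y₀)) ↔
      n ∈ (p₀ • ⊤ : Submodule R₀ (LocalizedModule q₀.primeCompl Y₀)) := by
    intro n
    rw [Groth.Agent.Helper13Fiber.smul_top_eq_restrictScalars p₀ (Localization.AtPrime p₀)
      (LocalizedModule q₀.primeCompl Y₀), Submodule.restrictScalars_mem, hmax]
  have hres : ∀ y' : LocalizedModule q₀.primeCompl Y₀,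
      u' y' ∈ (IsLocalRing.maximalIdeal (Localization.AtPrime p₀) • ⊤ :
        Submodule (Localization.AtPrime p₀) (LocalizedModule q₀.primeCompl N₀)) →
      y' ∈ (IsLocalRing.maximalIdeal (Localization.AtPrime p₀) • ⊤ :
        Submodule (Localization.AtPrime p₀) (LocalizedModule q₀.primeCompl Y₀)) := by
    intro y' hy'
    rw [hsubN] at hy'
    rw [hsubY]
    rw [hu'_apply] at hy'
    obtain ⟨⟨x, w⟩, hxw⟩ := IsLocalizedModule.surj q₀.primeCompl gY y'
    have hxw' : w.1 • y' = gY x := hxw
    have h1 : gX (u₀ x) ∈ (p₀ • ⊤ : Submodule R₀ (LocalizedModule q₀.primeCompl N₀)) := by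
      rw [← hcomm', ← hxw', map_smul]
      exact smul_mem_smul_top p₀ w.1 hy'
    obtain ⟨t, ht, h2⟩ :=
      (mem_smul_top_iff_of_isLocalizedModule q₀.primeCompl gX p₀ (u₀ x)).1 h1
    have h3 : u₀ (t • x) ∈ (p₀ • ⊤ : Submodule R₀ N₀) := by rw [map_smul]; exact h2
    obtain ⟨r, hr, h4⟩ := hB _ h3
    have h5 : gY x ∈ (p₀ • ⊤ : Submodule R₀ (LocalizedModule q₀.primeCompl Y₀)) := by
      rw [mem_smul_top_iff_of_isLocalizedModule q₀.primeCompl gY p₀ x]
      refine ⟨r * t, q₀.primeCompl.mul_mem hr ht, ?_⟩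
      rw [mul_smul]
      exact h4
    rw [← hxw'] at h5
    exact mem_smul_top_of_smul_mem q₀.primeCompl gY p₀ w.2 y' h5
  have hinj : Function.Injective (u'.lTensor (Localization.AtPrime p₀ ⧸
      IsLocalRing.maximalIdeal (Localization.AtPrime p₀))) :=
    (Groth.Agent.Lib.Helper5.lTensor_quotient_injective_iff u' _).2 hres
  have hall := Groth.Agent.Lib.Helper5.lTensor_quotient_injective_of_residue
    (Localization.AtPrime q₀) u' hinj
  have hU : FlatCA.UnivInj (Localization.AtPrime p₀) u' := by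
    apply Groth.Agent.Lib.Seat6.Content.univInj_of_forall_ideal
    intro I n hn
    exact (Groth.Agent.Lib.Helper5.lTensor_quotient_injective_iff u' I).1 (hall I) n hn
  have hS1 : UInj (Localization.AtPrime p₀) u' := uInj_of_univInj u' hU
  haveI tow3 : IsScalarTower R₀ (Localization.AtPrime p₀) (Localization.AtPrime q₀) := by
    apply IsScalarTower.of_algebraMap_eq
    intro r
    rw [halg, Localization.localRingHom_to_map, ← IsScalarTower.algebraMap_apply]
  have hS2 : UInj R₀ u' := uInj_restrictScalars u' hS1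
  have hS3 : UInj R₀ u'₀ := uInj_congr u' u'₀ (fun _ => rfl) hS2
  exact uTors_of_uInj_isLocalizedModule q₀.primeCompl gY gX u₀ u'₀ hcomm hS3

end Groth.Agent.Lib.Seat56.UMapNoeth
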