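import Mathlib
import Groth.Agent.Lib.Helper3FlatDescA
import Groth.Agent.Lib.Helper3FlatDescB

/-!
# Matrix models of a linear map between finitely presented modules (helper56)

In helper3's `FlatDesc` framework a matrix `w : κ → ι → T₀` defines, for every `T₀`-algebra `T`, the
presented module `(ι → T) ⧸ KT w T`.  Here we add maps: matrices `wY`, `wN`, `U`, `C` over `T₀` with
`wY · U = C · wN` define a compatible family of `T`-linear maps between the presented modules.
We also show that a linear map `u : Y → N` between finitely presented modules over a polynomial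
ring `R[X₁..Xₙ]` is of this form, with all coefficients in a finitely generated `ℤ`-subalgebra of `R`.
-/

set_option autoImplicit false
set_option linter.style.haveILetI false

namespace Groth.Agent.Lib.Seat56.UMapMat

open Groth.Agent.Lib.Helper3.FlatDesc

section MatMap

variable {T₀ : Type*} [CommRing T₀] {ι κ ι' κ' : Type*} [Fintype κ] [Fintype κ'] [Fintype ι']
  (wN : κ → ι → T₀) (wY : κ' → ι' → T₀) (U : ι' → ι → T₀) (C : κ' → κ → T₀)

/-- Compatibility of the matrices: `wY · U = C · wN`. -/
def Compat : Prop := ∀ j' : κ', ∑ i', wY j' i' • U i' = ∑ j, C j' j • wN j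

variable (T : Type*) [CommRing T] [Algebra T₀ T]

omit [Fintype κ'] in
variable {wN wY U C} in
theorem WT_U_wT (h : Compat wN wY U C) (j' : κ') :
    WT U T (wT wY T j') = WT wN T (wT C T j') := by
  rw [WT_apply, WT_apply]
  funext i
  have h1 := congrFun (h j') i
  simp only [Finset.sum_apply, Pi.smul_apply, smul_eq_mul] at h1 ⊢
  simp only [wT]
  simp only [← map_mul, ← map_sum]
  rw [h1]

variable {wN wY U C} in
theorem WT_U_mem_KT (h : Compat wN wY U C) {x : ι' → T} (hx : x ∈ KT wY T) :
    WT U T x ∈ KT wN T := by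
  obtain ⟨a, rfl⟩ := hx
  rw [WT_apply wY, map_sum]
  refine Submodule.sum_mem _ fun j' _ => ?_
  rw [map_smul]
  refine Submodule.smul_mem _ _ ?_
  rw [WT_U_wT T h]
  exact ⟨_, rfl⟩

/-- The map between presented modules defined by the matrix `U`. -/
noncomputable def Umap (h : Compat wN wY U C) :
    ((ι' → T) ⧸ KT wY T) →ₗ[T] ((ι → T) ⧸ KT wN T) :=
  (KT wY T).liftQ ((KT wN T).mkQ ∘ₗ WT U T) (by
    intro x hx
    rw [LinearMap.mem_ker, LinearMap.comp_apply, Submodule.mkQ_apply,
      Submodule.Quotient.mk_eq_zero]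
    exact WT_U_mem_KT T h hx)

@[simp]
theorem Umap_mk (h : Compat wN wY U C) (x : ι' → T) :
    Umap wN wY U C T h (Submodule.Quotient.mk x) = Submodule.Quotient.mk (WT U T x) := rfl

variable (T' : Type*) [CommRing T'] [Algebra T₀ T'] [Algebra T T'] [IsScalarTower T₀ T T']

theorem Mmap_Umap (h : Compat wN wY U C) (y : (ι' → T) ⧸ KT wY T) :
    Mmap wN T T' (Umap wN wY U C T h y) = Umap wN wY U C T' h (Mmap wY T T' y) := by
  obtain ⟨x, rfl⟩ := Submodule.Quotient.mk_surjective _ y
  rw [Umap_mk, Mmap_mk, Mmap_mk, Umap_mk, WT_Fmap]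

end MatMap

section Lifts

open MvPolynomial

variable {R : Type*} [CommRing R] {σ : Type*}

/-- Finitely many polynomials have coefficients in a finitely generated `ℤ`-subalgebra. -/
theorem exists_subalgebra_lifts (F : Finset (MvPolynomial σ R)) :
    ∃ Λ : Subalgebra ℤ R, Λ.FG ∧ ∀ p ∈ F, ∃ f : MvPolynomial σ Λ,
      MvPolynomial.map (algebraMap Λ R) f = p := by
  classical
  let cs : Finset R := F.biUnion fun p => p.coeffs
  refine ⟨Algebra.adjoin ℤ (cs : Set R), Subalgebra.fg_adjoin_finset cs, ?_⟩
  intro p hp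
  apply MvPolynomial.mem_range_map_iff_coeffs_subset.mpr
  intro c hc
  refine ⟨⟨c, Algebra.subset_adjoin ?_⟩, rfl⟩
  exact Finset.mem_coe.2 (Finset.mem_biUnion.mpr ⟨p, hp, hc⟩)

end Lifts

end Groth.Agent.Lib.Seat56.UMapMat
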