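import Mathlib
import Groth.Agent.Lib.Seat56UMapMat

/-!
# Presenting a linear map of finitely presented modules over a polynomial ring by matrices with
coefficients in a finitely generated `ℤ`-subalgebra (helper56)
-/

set_option autoImplicit false
set_option linter.style.haveILetI false
universe u

namespace Groth.Agent.Lib.Seat56.UMapPres

open Groth.Agent.Lib.Helper3.FlatDesc Groth.Agent.Lib.Seat56.UMapMat MvPolynomial

attribute [local instance] MvPolynomial.algebraMvPolynomial

theorem linearMap_eq_linearCombination {T M : Type*} [CommRing T] [AddCommGroup M] [Module T M]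
    {m : ℕ} (g : (Fin m → T) →ₗ[T] M) :
    g = Fintype.linearCombination T (fun j => g (Pi.single j 1)) := by
  classical
  apply LinearMap.ext
  intro a
  rw [LinearMap.pi_apply_eq_sum_univ g a, Fintype.linearCombination_apply]
  refine Finset.sum_congr rfl fun j _ => ?_
  have hsingle : (Pi.single j 1 : Fin m → T) = fun j' => if j = j' then 1 else 0 := by
    funext j'
    simp [Pi.single_apply, eq_comm]
  rw [hsingle]

theorem exists_map_model_equiv {R : Type u} [CommRing R] {n r : ℕ} {N Y : Type u}
    [AddCommGroup N] [Module (MvPolynomial (Fin n) R) N]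
    [Module.FinitePresentation (MvPolynomial (Fin n) R) N]
    [AddCommGroup Y] [Module (MvPolynomial (Fin n) R) Y]
    [Module.FinitePresentation (MvPolynomial (Fin n) R) Y]
    (u : Y →ₗ[MvPolynomial (Fin n) R] N) (extra : Fin r → MvPolynomial (Fin n) R) :
    ∃ (k m k' m' : ℕ) (Λ : Subalgebra ℤ R) (_ : Λ.FG)
      (wN : Fin m → Fin k → MvPolynomial (Fin n) Λ)
      (wY : Fin m' → Fin k' → MvPolynomial (Fin n) Λ)
      (U : Fin k' → Fin k → MvPolynomial (Fin n) Λ)
      (C : Fin m' → Fin m → MvPolynomial (Fin n) Λ)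
      (extraΛ : Fin r → MvPolynomial (Fin n) Λ) (hC : Compat wN wY U C),
      (∀ j, MvPolynomial.map (algebraMap Λ R) (extraΛ j) = extra j) ∧
      ∃ (eN : ((Fin k → MvPolynomial (Fin n) R) ⧸ KT wN (MvPolynomial (Fin n) R)) ≃ₗ[
          MvPolynomial (Fin n) R] N)
        (eY : ((Fin k' → MvPolynomial (Fin n) R) ⧸ KT wY (MvPolynomial (Fin n) R)) ≃ₗ[
          MvPolynomial (Fin n) R] Y),
        ∀ y, u (eY y) = eN (Umap wN wY U C (MvPolynomial (Fin n) R) hC y) := by
  classical
  obtain ⟨k, m, π, g, hπ, hex⟩ :=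
    Module.FinitePresentation.exists_fin' (MvPolynomial (Fin n) R) N
  obtain ⟨k', m', π', g', hπ', hex'⟩ :=
    Module.FinitePresentation.exists_fin' (MvPolynomial (Fin n) R) Y
  let v : Fin m → Fin k → MvPolynomial (Fin n) R := fun j => g (Pi.single j 1)
  let v' : Fin m' → Fin k' → MvPolynomial (Fin n) R := fun j => g' (Pi.single j 1)
  have hg : g = Fintype.linearCombination _ v := linearMap_eq_linearCombination g
  have hg' : g' = Fintype.linearCombination _ v' := linearMap_eq_linearCombination g'
  -- lift of `u` on generators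
  have hU : ∀ i' : Fin k', ∃ x : Fin k → MvPolynomial (Fin n) R,
      π x = u (π' (Pi.single i' 1)) := fun i' => hπ _
  choose Ut hUt using hU
  have hπ'x : ∀ x : Fin k' → MvPolynomial (Fin n) R,
      u (π' x) = π (∑ i', x i' • Ut i') := by
    intro x
    rw [map_sum]
    simp only [map_smul, hUt]
    conv_lhs => rw [pi_eq_sum_univ' x]
    simp only [map_sum, map_smul]
  -- the relations
  have hCt : ∀ j' : Fin m', ∃ c : Fin m → MvPolynomial (Fin n) R,
      g c = ∑ i', v' j' i' • Ut i' := by
    intro j'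
    have h1 : π (∑ i', v' j' i' • Ut i') = 0 := by
      rw [← hπ'x]
      have : π' (v' j') = 0 := (hex' _).2 ⟨_, rfl⟩
      rw [this, map_zero]
    exact (hex _).1 h1
  choose Ct hCt using hCt
  -- the subalgebra of coefficients
  let F : Finset (MvPolynomial (Fin n) R) :=
    (Finset.univ.image fun ji : Fin m × Fin k => v ji.1 ji.2) ∪
    (Finset.univ.image fun ji : Fin m' × Fin k' => v' ji.1 ji.2) ∪
    (Finset.univ.image fun ji : Fin k' × Fin k => Ut ji.1 ji.2) ∪
    (Finset.univ.image fun ji : Fin m' × Fin m => Ct ji.1 ji.2) ∪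
    (Finset.univ.image extra)
  obtain ⟨Λ, hΛ, hlift⟩ := exists_subalgebra_lifts F
  have h1 : ∀ j i, ∃ f : MvPolynomial (Fin n) Λ, MvPolynomial.map (algebraMap Λ R) f = v j i :=
    fun j i => hlift _ (by
      simp only [F, Finset.mem_union, Finset.mem_image, Finset.mem_univ, true_and]
      exact Or.inl (Or.inl (Or.inl (Or.inl ⟨(j, i), rfl⟩))))
  have h2 : ∀ j i, ∃ f : MvPolynomial (Fin n) Λ, MvPolynomial.map (algebraMap Λ R) f = v' j i :=
    fun j i => hlift _ (by
      simp only [F, Finset.mem_union, Finset.mem_image, Finset.mem_univ, true_and]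
      exact Or.inl (Or.inl (Or.inl (Or.inr ⟨(j, i), rfl⟩))))
  have h3 : ∀ j i, ∃ f : MvPolynomial (Fin n) Λ, MvPolynomial.map (algebraMap Λ R) f = Ut j i :=
    fun j i => hlift _ (by
      simp only [F, Finset.mem_union, Finset.mem_image, Finset.mem_univ, true_and]
      exact Or.inl (Or.inl (Or.inr ⟨(j, i), rfl⟩)))
  have h4 : ∀ j i, ∃ f : MvPolynomial (Fin n) Λ, MvPolynomial.map (algebraMap Λ R) f = Ct j i :=
    fun j i => hlift _ (by
      simp only [F, Finset.mem_union, Finset.mem_image, Finset.mem_univ, true_and]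
      exact Or.inl (Or.inr ⟨(j, i), rfl⟩))
  have h5 : ∀ j, ∃ f : MvPolynomial (Fin n) Λ, MvPolynomial.map (algebraMap Λ R) f = extra j :=
    fun j => hlift _ (by
      simp only [F, Finset.mem_union, Finset.mem_image, Finset.mem_univ, true_and]
      exact Or.inr ⟨j, rfl⟩)
  choose wN hwN using h1
  choose wY hwY using h2
  choose U hU using h3
  choose C hCl using h4
  choose extraΛ hextra using h5
  have hinj : Function.Injective (MvPolynomial.map (algebraMap Λ R) :
      MvPolynomial (Fin n) Λ → MvPolynomial (Fin n) R) :=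
    MvPolynomial.map_injective (algebraMap Λ R) Subtype.val_injective
  have hC : Compat wN wY U C := by
    intro j'
    funext i
    apply hinj
    simp only [Finset.sum_apply, Pi.smul_apply, smul_eq_mul, map_sum, map_mul, hwN, hwY, hU, hCl]
    have := congrFun (hCt j') i
    rw [hg, Fintype.linearCombination_apply] at this
    simp only [Finset.sum_apply, Pi.smul_apply, smul_eq_mul] at this
    exact this.symm
  have hwTN : wT wN (MvPolynomial (Fin n) R) = v := by
    ext j i : 2
    exact hwN j i
  have hwTY : wT wY (MvPolynomial (Fin n) R) = v' := by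
    ext j i : 2
    exact hwY j i
  have hwTU : wT U (MvPolynomial (Fin n) R) = Ut := by
    ext j i : 2
    exact hU j i
  have hKN : KT wN (MvPolynomial (Fin n) R) = LinearMap.ker π := by
    rw [KT, WT, hwTN, ← hg]
    exact (LinearMap.exact_iff.mp hex).symm
  have hKY : KT wY (MvPolynomial (Fin n) R) = LinearMap.ker π' := by
    rw [KT, WT, hwTY, ← hg']
    exact (LinearMap.exact_iff.mp hex').symm
  let eN := (Submodule.quotEquivOfEq _ _ hKN) ≪≫ₗ (LinearMap.quotKerEquivOfSurjective π hπ)
  let eY := (Submodule.quotEquivOfEq _ _ hKY) ≪≫ₗ (LinearMap.quotKerEquivOfSurjective π' hπ')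
  refine ⟨k, m, k', m', Λ, hΛ, wN, wY, U, C, extraΛ, hC, hextra, eN, eY, ?_⟩
  intro y
  obtain ⟨x, rfl⟩ := Submodule.Quotient.mk_surjective _ y
  rw [Umap_mk]
  change u (π' x) = π (WT U (MvPolynomial (Fin n) R) x)
  rw [hπ'x, WT_apply, hwTU]

end Groth.Agent.Lib.Seat56.UMapPres
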