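import Mathlib
import Groth.Prelude.Def_FlatCA
import Groth.Agent.Lib.Seat56UMapNoeth
import Groth.Agent.Lib.Seat56UMapPres
import Groth.Agent.Lib.Seat6NzdCore
import Groth.Agent.Lib.Helper3FlatDescD
import Groth.Agent.Lib.Helper3FlatDescC

/-!
# Core of the non-Noetherian injectivity criterion over a polynomial ring (helper56)

`R` local, `P = R[X₁..Xₙ]`, `N`, `Y` finitely presented `P`-modules with `N` flat over `R`,
`u : Y → N`, `q` a prime of `P` over the maximal ideal, `h ∉ q` killing the kernel of `u` on the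
closed fibre.  Then for every `R`-module `Q` the kernel of `u ⊗ Q` is killed by elements outside `q`.
-/

set_option autoImplicit false
set_option linter.style.haveILetI false
universe u

namespace Groth.Agent.Lib.Seat56.UMapCore

open TensorProduct IsLocalRing MvPolynomial
open Groth.Agent.Lib.Helper3.FlatDesc Groth.Agent.Lib.Helper3.FlatLoc
open Groth.Agent.Lib.Helper3.FlatOpen
open Groth.Agent.Lib.Seat56.UMap Groth.Agent.Lib.Seat56.UMapMat Groth.Agent.Lib.Seat56.UMapPres
open Groth.Agent.Lib.Seat56.UMapNoeth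

attribute [local instance] MvPolynomial.algebraMvPolynomial

/-- A split injection stays injective after tensoring: field extensions. -/
theorem lTensor_injective_of_field_hom {A : Type u} [CommRing A] {K L : Type u} [Field K]
    [Field L] [Algebra A K] [Algebra A L] (ι : K →ₐ[A] L) (X : Type u) [AddCommGroup X]
    [Module A X] : Function.Injective (ι.toLinearMap.lTensor X) := by
  letI : Algebra K L := ι.toRingHom.toAlgebra
  haveI : IsScalarTower A K L := IsScalarTower.of_algebraMap_eq fun a => (ι.commutes a).symm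
  let ιK : K →ₗ[K] L := Algebra.linearMap K L
  have hιK : Function.Injective ιK := ι.toRingHom.injective
  obtain ⟨ρ, hρ⟩ := LinearMap.exists_leftInverse_of_injective ιK (LinearMap.ker_eq_bot.2 hιK)
  have h1 : (ρ.restrictScalars A) ∘ₗ ι.toLinearMap = LinearMap.id := by
    ext x
    exact LinearMap.congr_fun hρ x
  have h2 : ((ρ.restrictScalars A).lTensor X) ∘ₗ (ι.toLinearMap.lTensor X) = LinearMap.id := by
    rw [← LinearMap.lTensor_comp, h1, LinearMap.lTensor_id]
  exact Function.LeftInverse.injective (g := (ρ.restrictScalars A).lTensor X)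
    (fun z => LinearMap.congr_fun h2 z)

section Model

variable {Λ : Type u} [CommRing Λ] {R : Type u} [CommRing R] [IsLocalRing R] [Algebra Λ R]
  (A : Type u) [CommRing A] [Algebra Λ A] [Algebra A R] [IsScalarTower Λ A R]
  [IsNoetherianRing A] {n k m k' m' : ℕ}
  (wN : Fin m → Fin k → MvPolynomial (Fin n) Λ) (wY : Fin m' → Fin k' → MvPolynomial (Fin n) Λ)
  (U : Fin k' → Fin k → MvPolynomial (Fin n) Λ) (C : Fin m' → Fin m → MvPolynomial (Fin n) Λ)
  (hC : Compat wN wY U C)

theorem map_mem_smul_top_of_mem {A₀ R₀ : Type*} [CommRing A₀] [CommRing R₀] [Algebra A₀ R₀]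
    {X X' : Type*} [AddCommGroup X] [Module A₀ X] [AddCommGroup X'] [Module A₀ X'] [Module R₀ X']
    [IsScalarTower A₀ R₀ X'] (φ : X →ₗ[A₀] X') (I : Ideal R₀) {x : X}
    (hx : x ∈ (I.comap (algebraMap A₀ R₀) • ⊤ : Submodule A₀ X)) :
    φ x ∈ (I • ⊤ : Submodule R₀ X') := by
  refine Submodule.smul_induction_on hx ?_ ?_
  · intro a ha y _
    rw [map_smul, ← algebraMap_smul R₀ a (φ y)]
    exact Submodule.smul_mem_smul ha trivial
  · intro y z hy hz
    rw [map_add]
    exact Submodule.add_mem _ hy hz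

include hC in
theorem core_of_model
    (q : Ideal (MvPolynomial (Fin n) R)) [q.IsPrime]
    (hAflat : Module.Flat A (LocalizedModule
      (q.comap (algebraMap (MvPolynomial (Fin n) A) (MvPolynomial (Fin n) R))).primeCompl
      ((Fin k → MvPolynomial (Fin n) A) ⧸ KT wN (MvPolynomial (Fin n) A))))
    (hq : q.comap (algebraMap R (MvPolynomial (Fin n) R)) = maximalIdeal R)
    (hΛ : MvPolynomial (Fin n) Λ)
    (hh : algebraMap (MvPolynomial (Fin n) Λ) (MvPolynomial (Fin n) R) hΛ ∉ q)
    (hH : ∀ y : (Fin k' → MvPolynomial (Fin n) R) ⧸ KT wY (MvPolynomial (Fin n) R),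
      Umap wN wY U C (MvPolynomial (Fin n) R) hC y ∈ (maximalIdeal R • ⊤ :
        Submodule R ((Fin k → MvPolynomial (Fin n) R) ⧸ KT wN (MvPolynomial (Fin n) R))) →
      algebraMap (MvPolynomial (Fin n) Λ) (MvPolynomial (Fin n) R) hΛ • y ∈
        (maximalIdeal R • ⊤ :
          Submodule R ((Fin k' → MvPolynomial (Fin n) R) ⧸ KT wY (MvPolynomial (Fin n) R)))) :
    UTors R (Umap wN wY U C (MvPolynomial (Fin n) R) hC) q.primeCompl := by
  classical
  haveI : IsNoetherianRing (MvPolynomial (Fin n) A) := inferInstance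
  haveI := isScalarTower_mvPolynomial (σ := Fin n) Λ A R
  have hbN : IsBaseChange R
      ((Mmap wN (MvPolynomial (Fin n) A) (MvPolynomial (Fin n) R)).restrictScalars A) :=
    isBaseChange_restrictScalars_of_isPushout _ (isBaseChange_Mmap wN _ _)
  have hbY : IsBaseChange R
      ((Mmap wY (MvPolynomial (Fin n) A) (MvPolynomial (Fin n) R)).restrictScalars A) :=
    isBaseChange_restrictScalars_of_isPushout _ (isBaseChange_Mmap wY _ _)
  have hcomm : ∀ y, Umap wN wY U C (MvPolynomial (Fin n) R) hC
      (Mmap wY (MvPolynomial (Fin n) A) (MvPolynomial (Fin n) R) y) =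
      Mmap wN (MvPolynomial (Fin n) A) (MvPolynomial (Fin n) R)
        (Umap wN wY U C (MvPolynomial (Fin n) A) hC y) :=
    fun y => (Mmap_Umap wN wY U C _ _ hC y).symm
  -- the primes
  set p₀ : Ideal A := (maximalIdeal R).comap (algebraMap A R) with hp₀
  set q₀ : Ideal (MvPolynomial (Fin n) A) :=
    q.comap (algebraMap (MvPolynomial (Fin n) A) (MvPolynomial (Fin n) R)) with hq₀
  haveI : p₀.IsPrime := Ideal.comap_isPrime _ _
  haveI : q₀.IsPrime := Ideal.comap_isPrime _ _
  have hpq : q₀.comap (algebraMap A (MvPolynomial (Fin n) A)) = p₀ := by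
    ext a
    rw [hq₀, hp₀, Ideal.mem_comap, Ideal.mem_comap, Ideal.mem_comap, ← hq, Ideal.mem_comap,
      MvPolynomial.algebraMap_def, MvPolynomial.algebraMap_eq, MvPolynomial.map_C,
      MvPolynomial.algebraMap_eq]
  -- the element `h` at level `A`
  set hA : MvPolynomial (Fin n) A :=
    algebraMap (MvPolynomial (Fin n) Λ) (MvPolynomial (Fin n) A) hΛ with hhA
  have hhA' : algebraMap (MvPolynomial (Fin n) A) (MvPolynomial (Fin n) R) hA =
      algebraMap (MvPolynomial (Fin n) Λ) (MvPolynomial (Fin n) R) hΛ := by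
    rw [hhA, ← IsScalarTower.algebraMap_apply]
  -- the fibre condition on the model
  have hB : ∀ y : (Fin k' → MvPolynomial (Fin n) A) ⧸ KT wY (MvPolynomial (Fin n) A),
      Umap wN wY U C (MvPolynomial (Fin n) A) hC y ∈ (p₀ • ⊤ :
        Submodule A ((Fin k → MvPolynomial (Fin n) A) ⧸ KT wN (MvPolynomial (Fin n) A))) →
      ∃ w : MvPolynomial (Fin n) A, w ∉ q₀ ∧ w • y ∈ (p₀ • ⊤ :
        Submodule A ((Fin k' → MvPolynomial (Fin n) A) ⧸ KT wY (MvPolynomial (Fin n) A))) := by
    intro y hy
    have h1 : Mmap wN (MvPolynomial (Fin n) A) (MvPolynomial (Fin n) R)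
        (Umap wN wY U C (MvPolynomial (Fin n) A) hC y) ∈ (maximalIdeal R • ⊤ :
        Submodule R ((Fin k → MvPolynomial (Fin n) R) ⧸ KT wN (MvPolynomial (Fin n) R))) :=
      map_mem_smul_top_of_mem
        ((Mmap wN (MvPolynomial (Fin n) A) (MvPolynomial (Fin n) R)).restrictScalars A)
        (maximalIdeal R) hy
    rw [← hcomm] at h1
    have h2 := hH _ h1
    have h3 : Mmap wY (MvPolynomial (Fin n) A) (MvPolynomial (Fin n) R) (hA • y) ∈
        (maximalIdeal R • ⊤ :
          Submodule R ((Fin k' → MvPolynomial (Fin n) R) ⧸ KT wY (MvPolynomial (Fin n) R))) := by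
      rw [map_smul, ← algebraMap_smul (MvPolynomial (Fin n) R) hA
        (Mmap wY (MvPolynomial (Fin n) A) (MvPolynomial (Fin n) R) y), hhA']
      exact h2
    have h4 : (Mmap wY (MvPolynomial (Fin n) A) (MvPolynomial (Fin n) R) (hA • y)) ⊗ₜ[R]
        (1 : (maximalIdeal R).ResidueField) = 0 :=
      Groth.Agent.Lib.Seat6.NzdCore.tmul_one_eq_zero_of_mem _ h3
    have h5 : (hA • y) ⊗ₜ[A] (1 : (maximalIdeal R).ResidueField) = 0 := by
      apply (bcMap_bijective
        ((Mmap wY (MvPolynomial (Fin n) A) (MvPolynomial (Fin n) R)).restrictScalars A) hbY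
        (maximalIdeal R).ResidueField).1
      rw [bcMap_tmul, map_zero]
      exact h4
    let ι : p₀.ResidueField →ₐ[A] (maximalIdeal R).ResidueField :=
      Ideal.ResidueField.mapₐ p₀ (maximalIdeal R) (Algebra.ofId A R) rfl
    have h6 : (hA • y) ⊗ₜ[A] (1 : p₀.ResidueField) = 0 := by
      apply lTensor_injective_of_field_hom ι
      rw [map_zero, LinearMap.lTensor_tmul, AlgHom.toLinearMap_apply, map_one]
      exact h5
    have h7 : (1 : p₀.ResidueField) ⊗ₜ[A] (hA • y) = 0 := by
      have := congrArg (TensorProduct.comm A _ p₀.ResidueField) h6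
      simpa using this
    obtain ⟨t, ht, h8⟩ :=
      Groth.Agent.Helper13Fiber.exists_smul_mem_of_tmul_eq_zero p₀ (hA • y) h7
    refine ⟨algebraMap A (MvPolynomial (Fin n) A) t * hA, ?_, ?_⟩
    · intro hmem
      rcases Ideal.IsPrime.mem_or_mem inferInstance hmem with h | h
      · apply ht
        rw [← hpq]
        exact h
      · apply hh
        rw [← hhA']
        exact h
    · rw [mul_smul, algebraMap_smul]
      exact h8
  have h0 := uTors_noetherian p₀ q₀ hpq hAflat (Umap wN wY U C (MvPolynomial (Fin n) A) hC) hB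
  exact uTors_of_isBaseChange (Mmap wY (MvPolynomial (Fin n) A) (MvPolynomial (Fin n) R))
    (Mmap wN (MvPolynomial (Fin n) A) (MvPolynomial (Fin n) R)) hbY hbN _ _ hcomm
    q₀.primeCompl q.primeCompl (fun t ht => ht) h0

end Model

theorem core_P {R : Type u} [CommRing R] [IsLocalRing R] {n : ℕ}
    {N Y : Type u} [AddCommGroup N] [Module (MvPolynomial (Fin n) R) N] [Module R N]
    [IsScalarTower R (MvPolynomial (Fin n) R) N]
    [Module.FinitePresentation (MvPolynomial (Fin n) R) N]
    [AddCommGroup Y] [Module (MvPolynomial (Fin n) R) Y] [Module R Y]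
    [IsScalarTower R (MvPolynomial (Fin n) R) Y]
    [Module.FinitePresentation (MvPolynomial (Fin n) R) Y]
    (u : Y →ₗ[MvPolynomial (Fin n) R] N)
    (q : Ideal (MvPolynomial (Fin n) R)) [q.IsPrime]
    (hq : q.comap (algebraMap R (MvPolynomial (Fin n) R)) = maximalIdeal R)
    (hNflat : Module.Flat R (LocalizedModule q.primeCompl N))
    (h : MvPolynomial (Fin n) R) (hh : h ∉ q)
    (hH : ∀ y : Y, u y ∈ (maximalIdeal R • ⊤ : Submodule R N) →
      h • y ∈ (maximalIdeal R • ⊤ : Submodule R Y)) :
    UTors R u q.primeCompl := by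
  classical
  obtain ⟨k, m, k', m', Λ, hΛ, wN, wY, U, C, extraΛ, hC, hextra, eN, eY, hcompat⟩ :=
    exists_map_model_equiv u (fun _ : Fin 1 => h)
  haveI : Algebra.FiniteType ℤ Λ := (Subalgebra.fg_iff_finiteType Λ).1 hΛ
  haveI : IsNoetherianRing Λ := Algebra.FiniteType.isNoetherianRing ℤ Λ
  have hflat : Module.Flat R (LocalizedModule q.primeCompl
      ((Fin k → MvPolynomial (Fin n) R) ⧸ KT wN (MvPolynomial (Fin n) R))) := by
    let g := (LocalizedModule.mkLinearMap q.primeCompl N) ∘ₗ eN.toLinearMap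
    haveI : IsLocalizedModule q.primeCompl g := IsLocalizedModule.of_linearEquiv_right _ _ eN
    let e := IsLocalizedModule.iso q.primeCompl g
    exact Module.Flat.of_linearEquiv (e.restrictScalars R)
  obtain ⟨A, hAfg, -, hAflat⟩ := exists_fg_subalgebra_flat wN q hflat ∅
  haveI : Algebra.FiniteType Λ A := (Subalgebra.fg_iff_finiteType A).mp hAfg
  haveI : IsNoetherianRing A := Algebra.FiniteType.isNoetherianRing Λ A
  haveI : IsNoetherianRing (MvPolynomial (Fin n) A) := inferInstance
  haveI := isScalarTower_mvPolynomial (σ := Fin n) Λ A R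
  have hextra0 : algebraMap (MvPolynomial (Fin n) Λ) (MvPolynomial (Fin n) R) (extraΛ 0) = h := by
    rw [MvPolynomial.algebraMap_def]
    exact hextra 0
  have key := core_of_model (↥A) wN wY U C hC q hAflat hq (extraΛ 0)
    (by rw [hextra0]; exact hh) (by
      intro y hy
      rw [hextra0]
      have h1 : u (eY y) ∈ (maximalIdeal R • ⊤ : Submodule R N) := by
        rw [hcompat]
        exact Submodule.smul_top_le_comap_smul_top _ (eN.restrictScalars R).toLinearMap hy
      have h2 := hH _ h1
      have h3 : eY (h • y) ∈ (maximalIdeal R • ⊤ : Submodule R Y) := by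
        rw [map_smul]
        exact h2
      have h4 := Submodule.smul_top_le_comap_smul_top _ (eY.symm.restrictScalars R).toLinearMap h3
      simpa using h4)
  exact uTors_of_equiv eY eN _ u (fun y => hcompat y) q.primeCompl key

end Groth.Agent.Lib.Seat56.UMapCore
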