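import Mathlib
import Groth.Prelude.Def_FlatCA
import Groth.Agent.Lib.Seat56UMapCore
import Groth.Agent.Lib.Seat6NzdRed

/-!
# Reduction steps for the non-Noetherian injectivity criterion (Stacks 00R7), map version

* `exists_kill_fibre_kernel_map`: uniform killing of the kernel of `u` on the closed fibre.
* `core_B`: the global finitely presented form of the criterion.
-/

set_option autoImplicit false
set_option linter.style.haveILetI false
universe u

namespace Groth.Agent.Lib.Seat56.UMapRed

open TensorProduct IsLocalRing Groth.Agent.Lib.Seat6.NzdLemmas Groth.Agent.Lib.Seat6.NzdRed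
open Groth.Agent.Lib.Seat56.UMap Groth.Agent.Lib.Seat56.UMapCore

section FibreKernel

attribute [local instance] Algebra.TensorProduct.rightAlgebra

open Groth.Agent.Helper13Fiber FlatCA

variable {R S₁ : Type u} [CommRing R] [IsLocalRing R] [CommRing S₁] [Algebra R S₁]
  {N₁ Y₁ : Type u} [AddCommGroup N₁] [Module S₁ N₁] [Module R N₁] [IsScalarTower R S₁ N₁]
  [AddCommGroup Y₁] [Module S₁ Y₁] [Module R Y₁] [IsScalarTower R S₁ Y₁]
  [Algebra.FiniteType R S₁] [Module.Finite S₁ Y₁]

theorem exists_kill_fibre_kernel_map (q₁ : Ideal S₁) [q₁.IsPrime] (u₁ : Y₁ →ₗ[S₁] N₁)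
    (hloc : ∀ y : Y₁, u₁ y ∈ (maximalIdeal R • ⊤ : Submodule R N₁) →
      ∃ w : S₁, w ∉ q₁ ∧ w • y ∈ (maximalIdeal R • ⊤ : Submodule R Y₁)) :
    ∃ h' : S₁, h' ∉ q₁ ∧ ∀ y : Y₁, u₁ y ∈ (maximalIdeal R • ⊤ : Submodule R N₁) →
      h' • y ∈ (maximalIdeal R • ⊤ : Submodule R Y₁) := by
  classical
  haveI : IsNoetherianRing ((maximalIdeal R).Fiber S₁) :=
    Algebra.FiniteType.isNoetherianRing (maximalIdeal R).ResidueField ((maximalIdeal R).Fiber S₁)
  haveI : Module.Finite ((maximalIdeal R).Fiber S₁) (fiberMod (maximalIdeal R) S₁ Y₁) :=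
    inferInstanceAs (Module.Finite ((maximalIdeal R).Fiber S₁)
      (((maximalIdeal R).Fiber S₁) ⊗[S₁] Y₁))
  haveI : IsNoetherian ((maximalIdeal R).Fiber S₁) (fiberMod (maximalIdeal R) S₁ Y₁) :=
    isNoetherian_of_isNoetherianRing_of_finite _ _
  set φY := toFiberMod (maximalIdeal R) S₁ Y₁ with hφY
  set φN := toFiberMod (maximalIdeal R) S₁ N₁ with hφN
  let ub : fiberMod (maximalIdeal R) S₁ Y₁ →ₗ[(maximalIdeal R).Fiber S₁]
      fiberMod (maximalIdeal R) S₁ N₁ := u₁.baseChange ((maximalIdeal R).Fiber S₁)
  have hub : ∀ y, ub (φY y) = φN (u₁ y) := fun y => LinearMap.baseChange_tmul _ _ _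
  have hubS : ∀ (w : S₁) z, ub (w • z) = w • ub z := by
    intro w z
    rw [← algebraMap_smul ((maximalIdeal R).Fiber S₁) w z, map_smul, algebraMap_smul]
  set K' : Submodule ((maximalIdeal R).Fiber S₁) (fiberMod (maximalIdeal R) S₁ Y₁) :=
    LinearMap.ker ub with hK'
  -- pointwise killing
  have claim1 : ∀ z ∈ K', ∃ w : S₁, w ∉ q₁ ∧ w • z = 0 := by
    intro z hz
    rw [hK', LinearMap.mem_ker] at hz
    obtain ⟨t, ht, y, hty⟩ := exists_smul_eq_toFiberMod (maximalIdeal R) S₁ Y₁ z
    have h1 : φN (u₁ y) = 0 := by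
      rw [← hub, hφY, ← hty, hubS, hz, smul_zero]
    have h2 := (toFiberMod_eq_zero_iff_mem (u₁ y)).1 h1
    obtain ⟨w, hw, h3⟩ := hloc y h2
    have h4 : φY (w • y) = 0 := (toFiberMod_eq_zero_iff_mem (w • y)).2 h3
    have htu : IsUnit (algebraMap R S₁ t) := (IsLocalRing.notMem_maximalIdeal.mp ht).map _
    refine ⟨w * algebraMap R S₁ t, ?_, ?_⟩
    · intro hmem
      rcases Ideal.IsPrime.mem_or_mem inferInstance hmem with h | h
      · exact hw h
      · exact (Ideal.IsPrime.ne_top inferInstance) (Ideal.eq_top_of_isUnit_mem _ h htu)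
    · rw [mul_smul, hty, ← map_smul]
      exact h4
  -- uniform killing
  have claim2 : ∀ (gens : Finset (fiberMod (maximalIdeal R) S₁ Y₁)), (∀ z ∈ gens, z ∈ K') →
      ∃ h' : S₁, h' ∉ q₁ ∧ ∀ z ∈ Submodule.span ((maximalIdeal R).Fiber S₁)
        (gens : Set (fiberMod (maximalIdeal R) S₁ Y₁)), h' • z = 0 := by
    intro gens
    induction gens using Finset.induction_on with
    | empty =>
      intro _
      refine ⟨1, fun h => (Ideal.IsPrime.ne_top inferInstance) ((Ideal.eq_top_iff_one _).2 h), ?_⟩
      intro z hz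
      rw [Finset.coe_empty, Submodule.span_empty, Submodule.mem_bot] at hz
      rw [hz, smul_zero]
    | insert a gens ha ih =>
      intro hgens
      obtain ⟨h₁, hh₁, hkill⟩ := ih (fun z hz => hgens z (Finset.mem_insert_of_mem hz))
      obtain ⟨w, hw, hwa⟩ := claim1 a (hgens a (Finset.mem_insert_self a gens))
      refine ⟨w * h₁, ?_, ?_⟩
      · intro hmem
        rcases Ideal.IsPrime.mem_or_mem inferInstance hmem with h | h
        · exact hw h
        · exact hh₁ h
      · intro z hz
        rw [Finset.coe_insert, Submodule.mem_span_insert] at hz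
        obtain ⟨c, y, hy, rfl⟩ := hz
        have e1 : (w * h₁) • (c • a) = 0 := by
          rw [mul_comm, mul_smul, ← algebraMap_smul ((maximalIdeal R).Fiber S₁) w (c • a),
            smul_smul, mul_comm, ← smul_smul, algebraMap_smul, hwa, smul_zero, smul_zero]
        have e2 : (w * h₁) • y = 0 := by
          rw [mul_smul, hkill y hy, smul_zero]
        rw [smul_add, e1, e2, add_zero]
  obtain ⟨gens, hgens⟩ := IsNoetherian.noetherian K'
  obtain ⟨h', hh', hkill⟩ := claim2 gens (fun z hz => by
    rw [← hgens]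
    exact Submodule.subset_span hz)
  refine ⟨h', hh', ?_⟩
  intro y hy
  have h1 : φN (u₁ y) = 0 := (toFiberMod_eq_zero_iff_mem (u₁ y)).2 hy
  have h2 : φY y ∈ K' := by
    rw [hK', LinearMap.mem_ker, hub]
    exact h1
  rw [← hgens] at h2
  have h3 := hkill _ h2
  rw [← map_smul] at h3
  exact (toFiberMod_eq_zero_iff_mem (h' • y)).1 h3

end FibreKernel

section Surj

variable {P B : Type*} [CommRing P] [CommRing B] [Algebra P B]
  {X X' : Type*} [AddCommGroup X] [Module B X] [Module P X] [IsScalarTower P B X]
  [AddCommGroup X'] [Module B X'] [Module P X'] [IsScalarTower P B X']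

/-- Localisation over a quotient ring is localisation over the ring. -/
theorem isLocalizedModule_restrictScalars_of_surjective
    (hsurj : Function.Surjective (algebraMap P B)) (T : Submonoid B) (g : X →ₗ[B] X')
    [IsLocalizedModule T g] :
    IsLocalizedModule (T.comap (algebraMap P B)) (g.restrictScalars P) := by
  refine ⟨?_, ?_, ?_⟩
  · rintro ⟨x, hx⟩
    rw [Module.End.isUnit_iff]
    have h1 := (Module.End.isUnit_iff _).1 (IsLocalizedModule.map_units g ⟨algebraMap P B x, hx⟩)
    have h2 : ⇑((algebraMap P (Module.End P X')) x) =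
        ⇑((algebraMap B (Module.End B X')) (algebraMap P B x)) := by
      funext y
      simp only [Module.algebraMap_end_apply, algebraMap_smul]
    rw [show ((⟨x, hx⟩ : T.comap (algebraMap P B)) : P) = x from rfl, h2]
    exact h1
  · intro y
    obtain ⟨⟨x, t⟩, hxt⟩ := IsLocalizedModule.surj T g y
    obtain ⟨t', ht'⟩ := hsurj t.1
    refine ⟨⟨x, ⟨t', ?_⟩⟩, ?_⟩
    · change algebraMap P B t' ∈ T
      rw [ht']
      exact t.2
    · change t' • y = g x
      rw [← algebraMap_smul B t' y, ht']
      exact hxt
  · intro x₁ x₂ h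
    obtain ⟨c, hc⟩ := IsLocalizedModule.exists_of_eq (S := T) (f := g) h
    obtain ⟨c', hc'⟩ := hsurj c.1
    refine ⟨⟨c', ?_⟩, ?_⟩
    · change algebraMap P B c' ∈ T
      rw [hc']
      exact c.2
    · change c' • x₁ = c' • x₂
      rw [← algebraMap_smul B c' x₁, ← algebraMap_smul B c' x₂, hc']
      exact hc

end Surj

section CoreB

open MvPolynomial

/-- **Global finitely presented form of the injectivity criterion.**  `R` local, `B` a finitely
presented `R`-algebra, `q` a prime of `B` over the maximal ideal, `N`, `Y` finitely presented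
`B`-modules with `N_q` flat over `R`, and `u : Y → N` whose kernel on the closed fibre is killed by
some `h ∉ q`.  Then for all `R`-modules `Q` the kernel of `u ⊗ Q` is killed by elements outside
`q`. -/
theorem core_B {R : Type u} [CommRing R] [IsLocalRing R] {B : Type u} [CommRing B] [Algebra R B]
    [Algebra.FinitePresentation R B]
    {N Y : Type u} [AddCommGroup N] [Module B N] [Module R N] [IsScalarTower R B N]
    [Module.FinitePresentation B N]
    [AddCommGroup Y] [Module B Y] [Module R Y] [IsScalarTower R B Y]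
    [Module.FinitePresentation B Y]
    (u : Y →ₗ[B] N) (q : Ideal B) [q.IsPrime]
    (hq : q.comap (algebraMap R B) = maximalIdeal R)
    (hNflat : Module.Flat R (LocalizedModule q.primeCompl N))
    (h : B) (hh : h ∉ q)
    (hH : ∀ y : Y, u y ∈ (maximalIdeal R • ⊤ : Submodule R N) →
      h • y ∈ (maximalIdeal R • ⊤ : Submodule R Y)) :
    UTors R u q.primeCompl := by
  classical
  obtain ⟨n, f, hf, hker⟩ := Algebra.FinitePresentation.out (R := R) (A := B)
  letI algPB : Algebra (MvPolynomial (Fin n) R) B := f.toRingHom.toAlgebra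
  have halg : ∀ p, algebraMap (MvPolynomial (Fin n) R) B p = f p := fun _ => rfl
  haveI : IsScalarTower R (MvPolynomial (Fin n) R) B :=
    .of_algebraMap_eq' f.comp_algebraMap.symm
  letI modPN : Module (MvPolynomial (Fin n) R) N := Module.compHom N f.toRingHom
  letI modPY : Module (MvPolynomial (Fin n) R) Y := Module.compHom Y f.toRingHom
  haveI : IsScalarTower (MvPolynomial (Fin n) R) B N :=
    ⟨fun p s m => by
      change (f p * s) • m = f p • (s • m)
      rw [mul_smul]⟩
  haveI : IsScalarTower (MvPolynomial (Fin n) R) B Y :=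
    ⟨fun p s m => by
      change (f p * s) • m = f p • (s • m)
      rw [mul_smul]⟩
  haveI : IsScalarTower R (MvPolynomial (Fin n) R) N :=
    ⟨fun r p m => by
      change f (r • p) • m = r • (f p • m)
      rw [map_smul, smul_assoc]⟩
  haveI : IsScalarTower R (MvPolynomial (Fin n) R) Y :=
    ⟨fun r p m => by
      change f (r • p) • m = r • (f p • m)
      rw [map_smul, smul_assoc]⟩
  haveI : Module.FinitePresentation (MvPolynomial (Fin n) R) B := by
    refine Module.finitePresentation_of_surjective
      (Algebra.linearMap (MvPolynomial (Fin n) R) B) hf ?_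
    have : LinearMap.ker (Algebra.linearMap (MvPolynomial (Fin n) R) B) =
        (RingHom.ker f.toRingHom).restrictScalars _ := by
      ext x; rfl
    rw [this]
    exact hker
  haveI : Module.FinitePresentation (MvPolynomial (Fin n) R) N :=
    Module.FinitePresentation.trans (MvPolynomial (Fin n) R) N B
  haveI : Module.FinitePresentation (MvPolynomial (Fin n) R) Y :=
    Module.FinitePresentation.trans (MvPolynomial (Fin n) R) Y B
  -- the prime and the element upstairs
  set q' : Ideal (MvPolynomial (Fin n) R) := q.comap (algebraMap (MvPolynomial (Fin n) R) B)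
    with hq'
  haveI : q'.IsPrime := Ideal.comap_isPrime _ _
  have hq'R : q'.comap (algebraMap R (MvPolynomial (Fin n) R)) = maximalIdeal R := by
    rw [hq', Ideal.comap_comap, ← IsScalarTower.algebraMap_eq, hq]
  obtain ⟨h', hh'⟩ := hf h
  have hh'q : h' ∉ q' := by
    intro hmem
    apply hh
    rw [← hh']
    exact hmem
  -- flatness of the localisation
  have hcompl : q'.primeCompl = q.primeCompl.comap (algebraMap (MvPolynomial (Fin n) R) B) := by
    ext x
    rfl
  have hflat' : Module.Flat R (LocalizedModule q'.primeCompl N) := by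
    haveI : IsLocalizedModule q'.primeCompl
        ((LocalizedModule.mkLinearMap q.primeCompl N).restrictScalars (MvPolynomial (Fin n) R)) := by
      rw [hcompl]
      exact isLocalizedModule_restrictScalars_of_surjective hf q.primeCompl _
    let e := IsLocalizedModule.iso q'.primeCompl
      ((LocalizedModule.mkLinearMap q.primeCompl N).restrictScalars (MvPolynomial (Fin n) R))
    exact Module.Flat.of_linearEquiv (e.restrictScalars R)
  have hH' : ∀ y : Y, (u.restrictScalars (MvPolynomial (Fin n) R)) y ∈
      (maximalIdeal R • ⊤ : Submodule R N) → h' • y ∈ (maximalIdeal R • ⊤ : Submodule R Y) := by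
    intro y hy
    have : h' • y = h • y := by
      rw [← hh']
      rfl
    rw [this]
    exact hH y hy
  have key := core_P (u.restrictScalars (MvPolynomial (Fin n) R)) q' hq'R hflat' h' hh'q hH'
  intro Q _ _ z hz
  have hz' : AlgebraTensorModule.rTensor R Q (u.restrictScalars (MvPolynomial (Fin n) R)) z = 0 := by
    rw [← hz]
    clear hz
    induction z using TensorProduct.induction_on with
    | zero => simp
    | tmul y q => simp
    | add a b ha hb => rw [map_add, map_add, ha, hb]
  obtain ⟨t, ht, htz⟩ := key Q z hz'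
  refine ⟨algebraMap (MvPolynomial (Fin n) R) B t, ht, ?_⟩
  rw [algebraMap_smul]
  exact htz

end CoreB

end Groth.Agent.Lib.Seat56.UMapRed
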