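import Mathlib
import Groth.Prelude.Def_FlatCA
import Groth.Agent.Lib.Seat56UMapRed
import Groth.Agent.Lib.Helper5LocalFlat2
import Groth.Agent.Lib.Seat6Content

/-!
# The non-Noetherian "critère de platitude par fibres" for a map (Stacks 00R7 / EGA IV 11.3.7)

`R → S` local homomorphism of local rings with `S` a localisation of a finitely presented
`R`-algebra `S₁`, `M`, `N` finitely presented `S`-modules, `N` flat over `R`, `u : M → N` an
`S`-linear map injective modulo `𝔪_R`.  Then `u` is injective and its cokernel is `R`-flat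
(in fact `u` is `R`-universally injective).
-/

set_option autoImplicit false
set_option linter.style.haveILetI false
universe u

namespace Groth.Agent.Lib.Seat56.UMapMain

open TensorProduct IsLocalRing Groth.Agent.Lib.Seat6.NzdLemmas Groth.Agent.Lib.Seat6.NzdRed
open Groth.Agent.Lib.Seat56.UMap Groth.Agent.Lib.Seat56.UMapCore Groth.Agent.Lib.Seat56.UMapRed

theorem main {R S M N : Type u} [CommRing R] [CommRing S] [IsLocalRing R]
    [IsLocalRing S] [Algebra R S] [IsLocalHom (algebraMap R S)]
    {S₁ : Type u} [CommRing S₁] [Algebra R S₁] [Algebra S₁ S] [IsScalarTower R S₁ S]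
    (W : Submonoid S₁) [Algebra.FinitePresentation R S₁] [IsLocalization W S]
    [AddCommGroup M] [Module S M] [Module R M] [IsScalarTower R S M] [Module.FinitePresentation S M]
    [AddCommGroup N] [Module S N] [Module R N] [IsScalarTower R S N] [Module.FinitePresentation S N]
    [Module.Flat R N]
    (u : M →ₗ[S] N)
    (hu : ∀ x : M, u x ∈ (IsLocalRing.maximalIdeal R).map (algebraMap R S) • (⊤ : Submodule S N) →
      x ∈ (IsLocalRing.maximalIdeal R).map (algebraMap R S) • (⊤ : Submodule S M)) :
    Function.Injective u ∧ Module.Flat R (N ⧸ LinearMap.range u) := by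
  classical
  -- module structures over `S₁`
  letI : Module S₁ N := Module.compHom N (algebraMap S₁ S)
  letI : Module S₁ M := Module.compHom M (algebraMap S₁ S)
  have hsmN : ∀ (b : S₁) (n : N), b • n = algebraMap S₁ S b • n := fun _ _ => rfl
  have hsmM : ∀ (b : S₁) (n : M), b • n = algebraMap S₁ S b • n := fun _ _ => rfl
  haveI : IsScalarTower S₁ S N := ⟨fun b c n => by
    rw [hsmN, Algebra.smul_def, mul_smul]⟩
  haveI : IsScalarTower S₁ S M := ⟨fun b c n => by
    rw [hsmM, Algebra.smul_def, mul_smul]⟩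
  haveI : IsScalarTower R S₁ N := ⟨fun r b n => by
    rw [hsmN, hsmN, Algebra.smul_def, map_mul, mul_smul, ← IsScalarTower.algebraMap_apply,
      algebraMap_smul]⟩
  haveI : IsScalarTower R S₁ M := ⟨fun r b n => by
    rw [hsmM, hsmM, Algebra.smul_def, map_mul, mul_smul, ← IsScalarTower.algebraMap_apply,
      algebraMap_smul]⟩
  -- the prime
  set q₁ : Ideal S₁ := (maximalIdeal S).comap (algebraMap S₁ S) with hq₁def
  haveI : q₁.IsPrime := Ideal.comap_isPrime _ _
  have hq₁ : q₁.comap (algebraMap R S₁) = maximalIdeal R := by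
    rw [hq₁def, Ideal.comap_comap, ← IsScalarTower.algebraMap_eq]
    exact ((IsLocalRing.local_hom_TFAE (algebraMap R S)).out 0 4).mp ‹IsLocalHom (algebraMap R S)›
  have hunits : ∀ r ∈ q₁.primeCompl, IsUnit (algebraMap S₁ S r) := by
    intro r hr
    exact IsLocalRing.notMem_maximalIdeal.mp hr
  have hle : W ≤ q₁.primeCompl := by
    intro w hw hmem
    have h1 : algebraMap S₁ S w ∈ maximalIdeal S := hmem
    exact (IsLocalRing.mem_maximalIdeal _).1 h1 (IsLocalization.map_units S ⟨w, hw⟩)
  haveI hlocq : IsLocalization q₁.primeCompl S := IsLocalization.of_le W q₁.primeCompl hle hunits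
  -- finitely presented models of `N` and `M`
  obtain ⟨N₁, _, _, hfpN₁, gN, hgN⟩ := exists_fp_model_of_isLocalization (S := S) W N
  obtain ⟨M₁, _, _, hfpM₁, gM, hgM⟩ := exists_fp_model_of_isLocalization (S := S) W M
  haveI := hfpN₁
  haveI := hfpM₁
  letI : Module R N₁ := Module.compHom N₁ (algebraMap R S₁)
  letI : Module R M₁ := Module.compHom M₁ (algebraMap R S₁)
  have hsmN₁ : ∀ (r : R) (n : N₁), r • n = algebraMap R S₁ r • n := fun _ _ => rfl
  have hsmM₁ : ∀ (r : R) (n : M₁), r • n = algebraMap R S₁ r • n := fun _ _ => rfl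
  haveI : IsScalarTower R S₁ N₁ := ⟨fun r b n => by
    rw [hsmN₁, Algebra.smul_def, mul_smul]⟩
  haveI : IsScalarTower R S₁ M₁ := ⟨fun r b n => by
    rw [hsmM₁, Algebra.smul_def, mul_smul]⟩
  haveI : IsLocalizedModule q₁.primeCompl gN :=
    (isLocalizedModule_iff_isBaseChange q₁.primeCompl S gN).2 hgN
  haveI : IsLocalizedModule q₁.primeCompl gM :=
    (isLocalizedModule_iff_isBaseChange q₁.primeCompl S gM).2 hgM
  -- a model of `u`
  obtain ⟨u₁, s, hu₁⟩ := Module.FinitePresentation.exists_lift_of_isLocalizedModule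
    q₁.primeCompl gN ((u.restrictScalars S₁) ∘ₗ gM)
  have hu₁' : ∀ y : M₁, gN (u₁ y) = s.1 • u (gM y) := by
    intro y
    have := LinearMap.congr_fun hu₁ y
    exact this
  -- conversion between the two forms of `𝔪_R N`
  have hconvN : ∀ x : N, x ∈ (maximalIdeal R • ⊤ : Submodule R N) ↔
      x ∈ (maximalIdeal R).map (algebraMap R S) • (⊤ : Submodule S N) := by
    intro x
    rw [Groth.Agent.Helper13Fiber.smul_top_eq_restrictScalars (maximalIdeal R) S N]
    exact Iff.rfl
  have hconvM : ∀ x : M, x ∈ (maximalIdeal R • ⊤ : Submodule R M) ↔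
      x ∈ (maximalIdeal R).map (algebraMap R S) • (⊤ : Submodule S M) := by
    intro x
    rw [Groth.Agent.Helper13Fiber.smul_top_eq_restrictScalars (maximalIdeal R) S M]
    exact Iff.rfl
  -- pointwise killing on the closed fibre
  have hloc : ∀ y : M₁, u₁ y ∈ (maximalIdeal R • ⊤ : Submodule R N₁) →
      ∃ w : S₁, w ∉ q₁ ∧ w • y ∈ (maximalIdeal R • ⊤ : Submodule R M₁) := by
    intro y hy
    have h1 : gN (u₁ y) ∈ (maximalIdeal R • ⊤ : Submodule R N) :=
      map_mem_smul_top gN (maximalIdeal R) hy
    rw [hu₁'] at h1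
    have h2 : u (gM y) ∈ (maximalIdeal R • ⊤ : Submodule R N) :=
      mem_smul_top_of_smul_mem q₁.primeCompl gN (maximalIdeal R) s.2 _ h1
    have h3 : gM y ∈ (maximalIdeal R • ⊤ : Submodule R M) :=
      (hconvM _).2 (hu _ ((hconvN _).1 h2))
    obtain ⟨t, ht, h5⟩ := (mem_smul_top_iff_of_isLocalizedModule q₁.primeCompl gM
      (maximalIdeal R) y).1 h3
    exact ⟨t, ht, h5⟩
  obtain ⟨h', hh', hkill⟩ := exists_kill_fibre_kernel_map q₁ u₁ hloc
  -- flatness near `q₁`
  have hflatq : Module.Flat R (LocalizedModule q₁.primeCompl N₁) := by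
    let e : LocalizedModule q₁.primeCompl N₁ ≃ₗ[S₁] N := IsLocalizedModule.iso q₁.primeCompl gN
    exact Module.Flat.of_linearEquiv (e.restrictScalars R)
  have hcore : UTors R u₁ q₁.primeCompl := core_B u₁ q₁ hq₁ hflatq h' hh' hkill
  have hcomm : (s.1 • (u.restrictScalars S₁)) ∘ₗ gM = gN ∘ₗ u₁ := by
    rw [hu₁, LinearMap.smul_comp]
    rfl
  have hUI' : UInj R (s.1 • (u.restrictScalars S₁)) :=
    uInj_of_uTors_isLocalizedModule q₁.primeCompl gM gN u₁ _ hcomm hcore
  have hUI : UInj R (u.restrictScalars S₁) := by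
    intro Q _ _ z hz
    apply hUI' Q z
    have : ∀ w : M ⊗[R] Q, AlgebraTensorModule.rTensor R Q (s.1 • (u.restrictScalars S₁)) w =
        s.1 • AlgebraTensorModule.rTensor R Q (u.restrictScalars S₁) w := by
      intro w
      induction w using TensorProduct.induction_on with
      | zero => simp
      | tmul y q => simp [TensorProduct.smul_tmul']
      | add a b ha hb => rw [map_add, map_add, ha, hb, smul_add]
    rw [this, hz, smul_zero]
  have hUniv : FlatCA.UnivInj R (u.restrictScalars R) := univInj_of_uInj _ hUI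
  refine ⟨?_, ?_⟩
  · -- injectivity: take `Q = R`
    rw [injective_iff_map_eq_zero]
    intro x hx
    have h1 : (u.restrictScalars R).lTensor R ((1 : R) ⊗ₜ[R] x) = 0 := by
      rw [LinearMap.lTensor_tmul]
      change (1 : R) ⊗ₜ[R] u x = 0
      rw [hx, TensorProduct.tmul_zero]
    have h2 : (1 : R) ⊗ₜ[R] x = 0 := hUniv R (h1.trans (map_zero _).symm)
    have h3 := congrArg (TensorProduct.lid R M) h2
    rw [TensorProduct.lid_tmul, one_smul, map_zero] at h3
    exact h3
  · have hall : ∀ (I : Ideal R) (x : M), (u.restrictScalars R) x ∈ (I • ⊤ : Submodule R N) →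
        x ∈ (I • ⊤ : Submodule R M) := fun I =>
      (Groth.Agent.Lib.Helper5.lTensor_quotient_injective_iff (u.restrictScalars R) I).1
        (hUniv (R ⧸ I))
    have hflat := Groth.Agent.Lib.Seat6.Content.flat_coker_of_forall_ideal
      (u.restrictScalars R) hall
    have hrange : LinearMap.range (u.restrictScalars R) =
        (LinearMap.range u).restrictScalars R := by
      ext x
      rfl
    let e : (N ⧸ LinearMap.range u) ≃ₗ[R] (N ⧸ LinearMap.range (u.restrictScalars R)) :=
      (Submodule.Quotient.restrictScalarsEquiv R (LinearMap.range u)).symm ≪≫ₗ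
        (Submodule.quotEquivOfEq _ _ hrange.symm)
    exact Module.Flat.of_linearEquiv e

end Groth.Agent.Lib.Seat56.UMapMain
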