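import Mathlib
import Groth.Prelude.Def_FlatMod2
import Groth.Prelude.Def_RefHull
import Groth.Agent.Lib.Seat56StalkEssFP
import Groth.Agent.Lib.Seat56StalkCoker
import Groth.Agent.Lib.Seat56UMapMain
import Groth.Agent.Lib.Helper2FinPres
import Groth.Agent.Lib.Helper2FlatOver
import Groth.Agent.Lib.Helper5LocalFlat2
import Groth.Agent.Lib.Helper13Fiber

/-!
# EGA IV 11.3.7 at a stalk (helper56)

`f : X ⟶ Y` locally of finite presentation, `F`, `F'` quasi-coherent of finite presentation,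
`u : F' ⟶ F`, `F` `f`-flat at `x`: `u_x` injective with `Coker u` `f`-flat at `x` iff `u_x` is
injective modulo `𝔪_{f x}`.
-/

set_option autoImplicit false
set_option linter.style.haveILetI false
universe u

open CategoryTheory CategoryTheory.Limits AlgebraicGeometry TopologicalSpace Opposite

namespace Groth.Agent.Lib.Seat56.StalkMapCrit

open Groth.Agent.Lib.Helper2.FlatOver Groth.Agent.Lib.Helper2.FinPres

variable {X Y : Scheme.{u}}

/-- Stalks of finitely presented quasi-coherent modules are finitely presented. -/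
theorem stalk_finitePresentation (M : X.Modules) [M.IsQuasicoherent]
    [SheafOfModules.IsFinitePresentation (R := X.ringCatSheaf) M] (x : X) :
    Module.FinitePresentation ↑(X.presheaf.stalk x) ↑(M.presheaf.stalk x) := by
  obtain ⟨U, hU, hxU, -, hfpM⟩ := exists_affine_nhds_finitePresentation M x ⊤ trivial
  letI := X.presheaf.algebra_section_stalk ⟨x, hxU⟩
  haveI := hU.isLocalization_stalk ⟨x, hxU⟩
  letI := moduleStalkSections M U x hxU
  haveI := isLocalizedModule_germ hU M x hxU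
  haveI : IsScalarTower Γ(X, U) ↑(X.presheaf.stalk x) ↑(M.presheaf.stalk x) :=
    IsScalarTower.of_algebraMap_smul (fun _ _ => rfl)
  exact _root_.FinitePresentation.of_isBaseChange (germₗ M U x hxU)
    ((isLocalizedModule_iff_isBaseChange (hU.primeIdealOf ⟨x, hxU⟩).asIdeal.primeCompl
      ↑(X.presheaf.stalk x) _).mp inferInstance)

/-- The local ring of `X` at `x` is essentially of finite presentation over the local ring of `Y`
at `f x`. -/
theorem stalk_essFP (f : X ⟶ Y) [LocallyOfFinitePresentation f] (x : X) :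
    letI : Algebra ↑(Y.presheaf.stalk (f x)) ↑(X.presheaf.stalk x) := (f.stalkMap x).hom.toAlgebra
    ∃ (S₁ : Type u) (_ : CommRing S₁) (_ : Algebra ↑(Y.presheaf.stalk (f x)) S₁)
      (_ : Algebra S₁ ↑(X.presheaf.stalk x))
      (_ : IsScalarTower ↑(Y.presheaf.stalk (f x)) S₁ ↑(X.presheaf.stalk x)) (W : Submonoid S₁),
      Algebra.FinitePresentation ↑(Y.presheaf.stalk (f x)) S₁ ∧
        IsLocalization W ↑(X.presheaf.stalk x) := by
  letI algRS : Algebra ↑(Y.presheaf.stalk (f x)) ↑(X.presheaf.stalk x) :=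
    (f.stalkMap x).hom.toAlgebra
  obtain ⟨V, hV, hyV⟩ : ∃ V : Y.Opens, IsAffineOpen V ∧ f x ∈ V := by
    obtain ⟨_, ⟨V, hV, rfl⟩, hxV, -⟩ :=
      Y.isBasis_affineOpens.exists_subset_of_mem_open (Set.mem_univ (f x)) isOpen_univ
    exact ⟨V, hV, hxV⟩
  obtain ⟨U, hU, hxU, hUV⟩ : ∃ U : X.Opens, IsAffineOpen U ∧ x ∈ U ∧ U ≤ f ⁻¹ᵁ V := by
    obtain ⟨_, ⟨U, hU, rfl⟩, hxU, hUle⟩ :=
      X.isBasis_affineOpens.exists_subset_of_mem_open (show x ∈ f ⁻¹ᵁ V from hyV)
        (f ⁻¹ᵁ V).isOpen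
    exact ⟨U, hU, hxU, hUle⟩
  have hfp : (f.appLE V U hUV).hom.FinitePresentation :=
    HasRingHomProperty.appLE (P := @LocallyOfFinitePresentation) f inferInstance ⟨V, hV⟩ ⟨U, hU⟩ hUV
  letI aVU : Algebra Γ(Y, V) Γ(X, U) := (f.appLE V U hUV).hom.toAlgebra
  haveI : Algebra.FinitePresentation Γ(Y, V) Γ(X, U) := hfp
  letI aVR := Y.presheaf.algebra_section_stalk ⟨f x, hyV⟩
  haveI := hV.isLocalization_stalk ⟨f x, hyV⟩
  letI aUS := X.presheaf.algebra_section_stalk ⟨x, hxU⟩
  haveI := hU.isLocalization_stalk ⟨x, hxU⟩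
  letI aVS : Algebra Γ(Y, V) ↑(X.presheaf.stalk x) :=
    ((algebraMap ↑(Y.presheaf.stalk (f x)) ↑(X.presheaf.stalk x)).comp
      (algebraMap Γ(Y, V) ↑(Y.presheaf.stalk (f x)))).toAlgebra
  haveI : IsScalarTower Γ(Y, V) ↑(Y.presheaf.stalk (f x)) ↑(X.presheaf.stalk x) :=
    .of_algebraMap_eq' rfl
  haveI : IsScalarTower Γ(Y, V) Γ(X, U) ↑(X.presheaf.stalk x) := .of_algebraMap_eq' (by
    ext a
    exact stalkMap_germ_eq f hUV x hxU a)
  exact Groth.Agent.Lib.Seat56.StalkEssFP.exists_essFP_of_atPrime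
    (hV.primeIdealOf ⟨f x, hyV⟩).asIdeal (hU.primeIdealOf ⟨x, hxU⟩).asIdeal

section Alg

theorem smul_top_iff {R S : Type*} [CommRing R] [CommRing S] [Algebra R S] (I : Ideal R)
    {N : Type*} [AddCommGroup N] [Module S N] [Module R N] [IsScalarTower R S N] (x : N) :
    x ∈ (I • ⊤ : Submodule R N) ↔ x ∈ I.map (algebraMap R S) • (⊤ : Submodule S N) := by
  have h : (I • ⊤ : Submodule R N) =
      ((I.map (algebraMap R S) • ⊤ : Submodule S N)).restrictScalars R := by
    rw [Ideal.smul_restrictScalars, Submodule.restrictScalars_top]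
  rw [h]
  exact Iff.rfl

/-- An exact sequence `0 → M' → M → C → 0` with `C` flat over `R` stays injective modulo any
ideal of `R`. -/
theorem mem_of_flat_coker {R S : Type u} [CommRing R] [CommRing S] [Algebra R S] (I : Ideal R)
    {M' M C : Type u} [AddCommGroup M'] [AddCommGroup M] [AddCommGroup C]
    [Module S M'] [Module S M] [Module S C] [Module R M'] [Module R M] [Module R C]
    [IsScalarTower R S M'] [IsScalarTower R S M] [IsScalarTower R S C] [Module.Flat R C]
    (g : M' →ₗ[S] M) (hg : Function.Injective g) (π : M →ₗ[S] C) (hπ : Function.Surjective π)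
    (hex : LinearMap.ker π = LinearMap.range g) (m : M')
    (hm : g m ∈ I.map (algebraMap R S) • (⊤ : Submodule S M)) :
    m ∈ I.map (algebraMap R S) • (⊤ : Submodule S M') := by
  have hexact : Function.Exact (g.restrictScalars R) (π.restrictScalars R) := by
    intro y
    change π y = 0 ↔ y ∈ Set.range g
    rw [← LinearMap.mem_ker, hex]
    rfl
  have hinj := LinearMap.lTensor_injective_of_exact_of_flat (π.restrictScalars R) hπ
    (g.restrictScalars R) hg hexact (R ⧸ I)
  have h1 := (Groth.Agent.Lib.Helper5.lTensor_quotient_injective_iff (g.restrictScalars R) I).1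
    hinj m ((smul_top_iff I _).2 hm)
  exact (smul_top_iff I m).1 h1

end Alg

/-- **EGA IV 11.3.7, a) ⟺ b)** at the stalk. -/
theorem stalk_crit (f : X ⟶ Y) [LocallyOfFinitePresentation f] (F F' : X.Modules)
    [F.IsQuasicoherent] [F'.IsQuasicoherent]
    [SheafOfModules.IsFinitePresentation (R := X.ringCatSheaf) F]
    [SheafOfModules.IsFinitePresentation (R := X.ringCatSheaf) F']
    (u : F' ⟶ F) (x : X) (hflat : FlatMod.IsFlatOverAt f F x) :
    (Function.Injective (RefHull.stalkMapₗ u x) ∧ FlatMod.IsFlatOverAt f (cokernel u) x) ↔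
      ∀ m : ↑(F'.presheaf.stalk x),
        RefHull.stalkMapₗ u x m ∈
          (Ideal.map (f.stalkMap x).hom (IsLocalRing.maximalIdeal ↑(Y.presheaf.stalk (f x))) •
            (⊤ : Submodule ↑(X.presheaf.stalk x) ↑(F.presheaf.stalk x))) →
          m ∈ (Ideal.map (f.stalkMap x).hom (IsLocalRing.maximalIdeal ↑(Y.presheaf.stalk (f x))) •
            (⊤ : Submodule ↑(X.presheaf.stalk x) ↑(F'.presheaf.stalk x))) := by
  letI algRS : Algebra ↑(Y.presheaf.stalk (f x)) ↑(X.presheaf.stalk x) :=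
    (f.stalkMap x).hom.toAlgebra
  haveI : IsLocalHom (algebraMap ↑(Y.presheaf.stalk (f x)) ↑(X.presheaf.stalk x)) :=
    inferInstanceAs (IsLocalHom (f.stalkMap x).hom)
  letI mF := FlatMod.moduleStalkOver f F x
  letI mF' := FlatMod.moduleStalkOver f F' x
  letI mC := FlatMod.moduleStalkOver f (cokernel u) x
  haveI tF : IsScalarTower ↑(Y.presheaf.stalk (f x)) ↑(X.presheaf.stalk x)
      ↑(F.presheaf.stalk x) := IsScalarTower.of_algebraMap_smul (fun _ _ => rfl)
  haveI tF' : IsScalarTower ↑(Y.presheaf.stalk (f x)) ↑(X.presheaf.stalk x)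
      ↑(F'.presheaf.stalk x) := IsScalarTower.of_algebraMap_smul (fun _ _ => rfl)
  haveI tC : IsScalarTower ↑(Y.presheaf.stalk (f x)) ↑(X.presheaf.stalk x)
      ↑((cokernel u).presheaf.stalk x) := IsScalarTower.of_algebraMap_smul (fun _ _ => rfl)
  haveI : Module.FinitePresentation ↑(X.presheaf.stalk x) ↑(F.presheaf.stalk x) :=
    stalk_finitePresentation F x
  haveI : Module.FinitePresentation ↑(X.presheaf.stalk x) ↑(F'.presheaf.stalk x) :=
    stalk_finitePresentation F' x
  haveI hflat' : Module.Flat ↑(Y.presheaf.stalk (f x)) ↑(F.presheaf.stalk x) := hflat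
  constructor
  · rintro ⟨hinj, hC⟩ m hm
    haveI : Module.Flat ↑(Y.presheaf.stalk (f x)) ↑((cokernel u).presheaf.stalk x) := hC
    exact mem_of_flat_coker (IsLocalRing.maximalIdeal ↑(Y.presheaf.stalk (f x)))
      (RefHull.stalkMapₗ u x) hinj (RefHull.stalkMapₗ (cokernel.π u) x)
      (Groth.Agent.Lib.Seat56.StalkCoker.stalk_π_surjective u x)
      (Groth.Agent.Lib.Seat56.StalkCoker.ker_stalk_π u x) m hm
  · intro hu
    obtain ⟨S₁, _, _, _, _, W, hfp, hloc⟩ := stalk_essFP f x
    haveI := hfp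
    haveI := hloc
    obtain ⟨hinj, hfl⟩ := Groth.Agent.Lib.Seat56.UMapMain.main W (RefHull.stalkMapₗ u x) hu
    refine ⟨hinj, ?_⟩
    let e := (Groth.Agent.Lib.Seat56.StalkCoker.cokerEquiv u x).restrictScalars
      ↑(Y.presheaf.stalk (f x))
    exact Module.Flat.of_linearEquiv e.symm

end Groth.Agent.Lib.Seat56.StalkMapCrit
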