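import Mathlib
import Groth.Agent.Lib.Seat56FibreRegA
import Groth.Agent.Lib.Seat56StalkMapCrit
import Groth.Agent.Lib.Helper2FlatOpen
import Groth.Agent.Lib.Helper23FinPres
import Groth.Agent.Lib.Seat21DevGraph

/-!
# Openness of the locus where global functions are a fibrewise regular sequence (helper56)

EGA IV 11.3.8-type statement: `Y` locally Noetherian, `f : X ⟶ Y` locally of finite type, `G`
coherent; the set of `x` where `G` is `f`-flat and the germs of `gs` are a weakly regular sequence on
`G_x / 𝔪_{f x} G_x` is open.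
-/

set_option autoImplicit false
set_option linter.style.haveILetI false
universe u

open CategoryTheory CategoryTheory.Limits AlgebraicGeometry TopologicalSpace Opposite

namespace Groth.Agent.Lib.Seat56.FibreRegB

section Alg

variable {R : Type*} [CommRing R] (J : Ideal R) (a : R) {M C : Type*} [AddCommGroup M]
  [Module R M] [AddCommGroup C] [Module R C]

theorem isSMulRegular_quotient_iff :
    IsSMulRegular (M ⧸ (J • ⊤ : Submodule R M)) a ↔
      ∀ m : M, a • m ∈ (J • ⊤ : Submodule R M) → m ∈ (J • ⊤ : Submodule R M) := by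
  rw [isSMulRegular_iff_right_eq_zero_of_smul]
  constructor
  · intro h m hm
    have := h (Submodule.Quotient.mk m) (by
      rw [← Submodule.Quotient.mk_smul, Submodule.Quotient.mk_eq_zero]; exact hm)
    exact (Submodule.Quotient.mk_eq_zero _).1 this
  · intro h q hq
    obtain ⟨m, rfl⟩ := Submodule.Quotient.mk_surjective _ q
    rw [← Submodule.Quotient.mk_smul, Submodule.Quotient.mk_eq_zero] at hq
    exact (Submodule.Quotient.mk_eq_zero _).2 (h m hq)

variable (π : M →ₗ[R] C)

/-- the map `(M/JM)/a(M/JM) → C/JC` induced by `π : M → C`. -/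
noncomputable def quotMap : QuotSMulTop a (M ⧸ (J • ⊤ : Submodule R M)) →ₗ[R]
    C ⧸ (J • ⊤ : Submodule R C) := by
  classical
  exact if h : ∀ m : M, π (a • m) = 0 then
    Submodule.liftQ _ (Submodule.mapQ (J • ⊤ : Submodule R M) (J • ⊤ : Submodule R C) π (by
      rw [← Submodule.map_le_iff_le_comap, Submodule.map_smul'']
      exact Submodule.smul_mono le_rfl le_top)) (by
      intro q hq
      obtain ⟨q', -, rfl⟩ := (Submodule.mem_smul_pointwise_iff_exists _ _ _).1 hq
      obtain ⟨m, rfl⟩ := Submodule.Quotient.mk_surjective _ q'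
      rw [LinearMap.mem_ker, ← Submodule.Quotient.mk_smul, Submodule.mapQ_apply, h,
        Submodule.Quotient.mk_zero])
  else 0

theorem quotMap_mk (h : ∀ m : M, π (a • m) = 0) (m : M) :
    quotMap J a π (Submodule.Quotient.mk (Submodule.Quotient.mk m)) =
      Submodule.Quotient.mk (π m) := by
  unfold quotMap
  rw [dif_pos h]
  rfl

theorem quotMap_bijective (hπ : Function.Surjective π)
    (hker : ∀ m, π m = 0 ↔ ∃ m', m = a • m') :
    Function.Bijective (quotMap J a π) := by
  have h : ∀ m : M, π (a • m) = 0 := fun m => (hker _).2 ⟨m, rfl⟩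
  constructor
  · rw [← LinearMap.ker_eq_bot, LinearMap.ker_eq_bot']
    intro q hq
    obtain ⟨q', rfl⟩ := Submodule.Quotient.mk_surjective _ q
    obtain ⟨m, rfl⟩ := Submodule.Quotient.mk_surjective _ q'
    rw [quotMap_mk J a π h, Submodule.Quotient.mk_eq_zero] at hq
    have h1 : (J • ⊤ : Submodule R C) = Submodule.map π (J • ⊤ : Submodule R M) := by
      rw [Submodule.map_smul'', Submodule.map_top, LinearMap.range_eq_top.2 hπ]
    rw [h1] at hq
    obtain ⟨m₁, hm₁, hm₁'⟩ := hq
    obtain ⟨m', hm'⟩ := (hker (m - m₁)).1 (by rw [map_sub, hm₁', sub_self])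
    rw [Submodule.Quotient.mk_eq_zero, Submodule.mem_smul_pointwise_iff_exists]
    refine ⟨Submodule.Quotient.mk m', Submodule.mem_top, ?_⟩
    rw [← Submodule.Quotient.mk_smul, ← hm', Submodule.Quotient.mk_sub,
      (Submodule.Quotient.mk_eq_zero _).2 hm₁, sub_zero]
  · intro c
    obtain ⟨c', rfl⟩ := Submodule.Quotient.mk_surjective _ c
    obtain ⟨m, rfl⟩ := hπ c'
    exact ⟨_, quotMap_mk J a π h m⟩

end Alg

variable {X Y : Scheme.{u}}

open RingTheory.Sequence in
/-- The inductive step at a point: `a_x :: rs` is weakly regular on `G_x / 𝔪_y G_x` iff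
multiplication by `a` is injective on `G_x`, its cokernel `C` is `f`-flat at `x` and `rs` is weakly
regular on `C_x / 𝔪_y C_x`. -/
theorem isWeaklyRegular_cons_iff_stalk (f : X ⟶ Y) [LocallyOfFinitePresentation f]
    [IsLocallyNoetherian X] (G : X.Modules) (hG : Coh.IsCoh G) (a : Γ(X, ⊤)) (x : X)
    (rs : List ↑(X.presheaf.stalk x)) (hflat : FlatMod.IsFlatOverAt f G x) :
    IsWeaklyRegular
        (↑(G.presheaf.stalk x) ⧸ (Ideal.map (f.stalkMap x).hom
          (IsLocalRing.maximalIdeal ↑(Y.presheaf.stalk (f x))) •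
            (⊤ : Submodule ↑(X.presheaf.stalk x) ↑(G.presheaf.stalk x))))
        ((X.presheaf.germ ⊤ x trivial) a :: rs) ↔
      Function.Injective (RefHull.stalkMapₗ (Formal.smulModΓ G a) x) ∧
        (FlatMod.IsFlatOverAt f (cokernel (Formal.smulModΓ G a)) x ∧
          IsWeaklyRegular
            (↑((cokernel (Formal.smulModΓ G a)).presheaf.stalk x) ⧸
              (Ideal.map (f.stalkMap x).hom
                (IsLocalRing.maximalIdeal ↑(Y.presheaf.stalk (f x))) •
                (⊤ : Submodule ↑(X.presheaf.stalk x)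
                  ↑((cokernel (Formal.smulModΓ G a)).presheaf.stalk x)))) rs) := by
  obtain ⟨hq, hft⟩ := hG
  haveI : G.IsQuasicoherent := hq
  haveI : SheafOfModules.IsFiniteType (R := X.ringCatSheaf) G := hft
  haveI : SheafOfModules.IsFinitePresentation (R := X.ringCatSheaf) G :=
    Groth.Agent.Lib.Helper23.FinType.isFinitePresentation_of_isFiniteType G
  rw [isWeaklyRegular_cons_iff, isSMulRegular_quotient_iff]
  have h1 : (∀ m : ↑(G.presheaf.stalk x),
      (X.presheaf.germ ⊤ x trivial) a • m ∈ (Ideal.map (f.stalkMap x).hom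
          (IsLocalRing.maximalIdeal ↑(Y.presheaf.stalk (f x))) •
            (⊤ : Submodule ↑(X.presheaf.stalk x) ↑(G.presheaf.stalk x))) →
        m ∈ (Ideal.map (f.stalkMap x).hom
          (IsLocalRing.maximalIdeal ↑(Y.presheaf.stalk (f x))) •
            (⊤ : Submodule ↑(X.presheaf.stalk x) ↑(G.presheaf.stalk x)))) ↔
      (Function.Injective (RefHull.stalkMapₗ (Formal.smulModΓ G a) x) ∧
        FlatMod.IsFlatOverAt f (cokernel (Formal.smulModΓ G a)) x) := by
    rw [Groth.Agent.Lib.Seat56.StalkMapCrit.stalk_crit f G G (Formal.smulModΓ G a) x hflat]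
    refine forall_congr' fun m => ?_
    rw [Groth.Agent.Lib.Seat56.FibreRegA.stalkMapₗ_smulModΓ]
  rw [h1, and_assoc]
  have hker : ∀ m : ↑(G.presheaf.stalk x),
      RefHull.stalkMapₗ (cokernel.π (Formal.smulModΓ G a)) x m = 0 ↔
        ∃ m', m = (X.presheaf.germ ⊤ x trivial) a • m' := by
    intro m
    rw [← LinearMap.mem_ker, Groth.Agent.Lib.Seat56.StalkCoker.ker_stalk_π, LinearMap.mem_range]
    refine exists_congr fun m' => ?_
    rw [Groth.Agent.Lib.Seat56.FibreRegA.stalkMapₗ_smulModΓ]
    exact eq_comm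
  let e := LinearEquiv.ofBijective
    (quotMap (Ideal.map (f.stalkMap x).hom (IsLocalRing.maximalIdeal ↑(Y.presheaf.stalk (f x))))
      ((X.presheaf.germ ⊤ x trivial) a)
      (RefHull.stalkMapₗ (cokernel.π (Formal.smulModΓ G a)) x))
    (quotMap_bijective _ _ _
      (Groth.Agent.Lib.Seat56.StalkCoker.stalk_π_surjective (Formal.smulModΓ G a) x) hker)
  rw [e.isWeaklyRegular_congr]

open RingTheory.Sequence in
/-- **Openness of the locus of flatness and fibrewise regularity.** -/
theorem isOpen_setOf_flat_and_isWeaklyRegular [IsLocallyNoetherian Y] (f : X ⟶ Y)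
    [LocallyOfFiniteType f] (gs : List Γ(X, ⊤)) :
    ∀ (G : X.Modules), Coh.IsCoh G →
      IsOpen {x : X | FlatMod.IsFlatOverAt f G x ∧
        IsWeaklyRegular
          (↑(G.presheaf.stalk x) ⧸ (Ideal.map (f.stalkMap x).hom
            (IsLocalRing.maximalIdeal ↑(Y.presheaf.stalk (f x))) •
              (⊤ : Submodule ↑(X.presheaf.stalk x) ↑(G.presheaf.stalk x))))
          (gs.map fun a => (X.presheaf.germ ⊤ x trivial) a)} := by
  haveI : IsLocallyNoetherian X := LocallyOfFiniteType.isLocallyNoetherian f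
  induction gs with
  | nil =>
    intro G hG
    obtain ⟨hq, hft⟩ := hG
    haveI : G.IsQuasicoherent := hq
    haveI : SheafOfModules.IsFiniteType (R := X.ringCatSheaf) G := hft
    haveI : SheafOfModules.IsFinitePresentation (R := X.ringCatSheaf) G :=
      Groth.Agent.Lib.Helper23.FinType.isFinitePresentation_of_isFiniteType G
    simp only [List.map_nil, IsWeaklyRegular.nil, and_true]
    exact Groth.Agent.Lib.Helper2.FinPres.isOpen_setOf_isFlatOverAt f G
  | cons a as ih =>
    intro G hG
    have hC : Coh.IsCoh (cokernel (Formal.smulModΓ G a)) :=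
      Groth.Agent.Lib.Seat21.Dev.isCoh_cokernel hG hG _
    have h3 := ih _ hC
    obtain ⟨hq, hft⟩ := id hG
    haveI : G.IsQuasicoherent := hq
    haveI : SheafOfModules.IsFiniteType (R := X.ringCatSheaf) G := hft
    haveI : SheafOfModules.IsFinitePresentation (R := X.ringCatSheaf) G :=
      Groth.Agent.Lib.Helper23.FinType.isFinitePresentation_of_isFiniteType G
    have h1 := Groth.Agent.Lib.Helper2.FinPres.isOpen_setOf_isFlatOverAt f G
    have h2 := Groth.Agent.Lib.Seat56.FibreRegA.isOpen_setOf_stalk_injective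
      (Formal.smulModΓ G a)
    have hset : {x : X | FlatMod.IsFlatOverAt f G x ∧
        IsWeaklyRegular
          (↑(G.presheaf.stalk x) ⧸ (Ideal.map (f.stalkMap x).hom
            (IsLocalRing.maximalIdeal ↑(Y.presheaf.stalk (f x))) •
              (⊤ : Submodule ↑(X.presheaf.stalk x) ↑(G.presheaf.stalk x))))
          ((a :: as).map fun a => (X.presheaf.germ ⊤ x trivial) a)} =
        {x : X | FlatMod.IsFlatOverAt f G x} ∩
          ({x : X | Function.Injective (RefHull.stalkMapₗ (Formal.smulModΓ G a) x)} ∩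
            {x : X | FlatMod.IsFlatOverAt f (cokernel (Formal.smulModΓ G a)) x ∧
              IsWeaklyRegular
                (↑((cokernel (Formal.smulModΓ G a)).presheaf.stalk x) ⧸
                  (Ideal.map (f.stalkMap x).hom
                    (IsLocalRing.maximalIdeal ↑(Y.presheaf.stalk (f x))) •
                    (⊤ : Submodule ↑(X.presheaf.stalk x)
                      ↑((cokernel (Formal.smulModΓ G a)).presheaf.stalk x))))
                (as.map fun a => (X.presheaf.germ ⊤ x trivial) a)}) := by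
      ext x
      constructor
      · rintro ⟨hfl, hreg⟩
        exact ⟨hfl, (isWeaklyRegular_cons_iff_stalk f G hG a x
          (as.map fun a => (X.presheaf.germ ⊤ x trivial) a) hfl).1 hreg⟩
      · rintro ⟨hfl, h⟩
        exact ⟨hfl, (isWeaklyRegular_cons_iff_stalk f G hG a x
          (as.map fun a => (X.presheaf.germ ⊤ x trivial) a) hfl).2 h⟩
    rw [hset]
    exact h1.inter (h2.inter h3)

end Groth.Agent.Lib.Seat56.FibreRegB
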