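import Mathlib
import Groth.Agent.S0299

/-!
# Descent of flatness along a finite injective ring map (Ferrand's argument via character modules)

For `R → S` injective with `S` a finite `R`-module, and an `R`-module `M` with `S ⊗ M` flat over `S`,
`M` is flat over `R`.

Proof: `X = M⋆` (character module), `f : X → E` an injective hull over `R`.  `H = (S ⊗ M)⋆ ≅ Hom_R(S, X)`
is an injective `S`-module, and it sits inside `Hom_R(S, E)` as an essential `S`-submodule (because `S` is a
finite `R`-module), hence equals it.  As `R ⊆ S` and `E` is injective, every `e ∈ E` is `φ 1` for some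
`φ ∈ Hom_R(S, E) = Hom_R(S, X)`, so `E = X` and `X` is injective, i.e. `M` is flat.
-/

set_option autoImplicit false
universe u

open TensorProduct

namespace Groth.Agent.Lib.Seat86.FinInjFlat

section CoInd

variable (R S E : Type u) [CommRing R] [CommRing S] [Algebra R S] [AddCommGroup E] [Module R E]

/-- The coinduced module `Hom_R(S, E)`, as a type synonym carrying an `S`-module structure. -/
def CoInd : Type u := S →ₗ[R] E

instance : AddCommGroup (CoInd R S E) := inferInstanceAs (AddCommGroup (S →ₗ[R] E))

variable {R S E}

/-- the underlying linear map -/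
def CoInd.toLin (φ : CoInd R S E) : S →ₗ[R] E := φ

/-- a linear map as an element of the coinduced module -/
def CoInd.ofLin (φ : S →ₗ[R] E) : CoInd R S E := φ

@[simp] lemma CoInd.toLin_ofLin (φ : S →ₗ[R] E) : (CoInd.ofLin φ).toLin = φ := rfl
@[simp] lemma CoInd.ofLin_toLin (φ : CoInd R S E) : CoInd.ofLin φ.toLin = φ := rfl
@[simp] lemma CoInd.toLin_add (φ ψ : CoInd R S E) : (φ + ψ).toLin = φ.toLin + ψ.toLin := rfl
@[simp] lemma CoInd.toLin_sub (φ ψ : CoInd R S E) : (φ - ψ).toLin = φ.toLin - ψ.toLin := rfl
@[simp] lemma CoInd.toLin_zero : (0 : CoInd R S E).toLin = 0 := rfl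

lemma CoInd.ext {φ ψ : CoInd R S E} (h : ∀ t, φ.toLin t = ψ.toLin t) : φ = ψ :=
  LinearMap.ext h

instance : Module S (CoInd R S E) where
  smul s φ := CoInd.ofLin (φ.toLin.comp (LinearMap.mulLeft R s))
  one_smul φ := by
    apply CoInd.ext; intro t
    change φ.toLin ((1 : S) * t) = _
    rw [one_mul]
  mul_smul a b φ := by
    apply CoInd.ext; intro t
    change φ.toLin ((a * b) * t) = φ.toLin (b * (a * t))
    rw [mul_comm a b, mul_assoc]
  smul_zero a := by
    apply CoInd.ext; intro t
    rfl
  smul_add a φ ψ := by
    apply CoInd.ext; intro t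
    rfl
  add_smul a b φ := by
    apply CoInd.ext; intro t
    change φ.toLin ((a + b) * t) = φ.toLin (a * t) + φ.toLin (b * t)
    rw [add_mul, map_add]
  zero_smul φ := by
    apply CoInd.ext; intro t
    change φ.toLin ((0 : S) * t) = 0
    rw [zero_mul, map_zero]

lemma CoInd.smul_apply (s : S) (φ : CoInd R S E) (t : S) : (s • φ).toLin t = φ.toLin (s * t) := rfl

end CoInd

section Essential

variable {R : Type u} [CommRing R] {X E : Type u} [AddCommGroup X] [Module R X] [AddCommGroup E]
  [Module R E]

/-- elementwise form of essentiality -/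
lemma exists_smul_mem_range_of_ne_zero (f : X →ₗ[R] E) (hf : InjHull.IsEssentialInj f) (e : E)
    (he : e ≠ 0) : ∃ b : R, b • e ≠ 0 ∧ b • e ∈ LinearMap.range f := by
  have hne : Submodule.span R {e} ≠ ⊥ := by
    intro h
    apply he
    have : e ∈ Submodule.span R {e} := Submodule.mem_span_singleton_self e
    rw [h, Submodule.mem_bot] at this
    exact this
  have h2 := hf.essential _ hne
  obtain ⟨x, hx, hx0⟩ := Submodule.exists_mem_ne_zero_of_ne_bot h2
  obtain ⟨hx1, hx2⟩ := Submodule.mem_inf.mp hx
  obtain ⟨b, rfl⟩ := Submodule.mem_span_singleton.mp hx1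
  exact ⟨b, hx0, hx2⟩

/-- If `X ⊆ E` is essential and `δ : S → E` is a nonzero linear map from a finite module, some multiple
`a • δ` is nonzero with image in `X`. -/
theorem exists_smul_map_mem_range {S : Type u} [AddCommGroup S] [Module R S] [Module.Finite R S]
    (f : X →ₗ[R] E) (hf : InjHull.IsEssentialInj f) (δ : S →ₗ[R] E) (hδ : δ ≠ 0) :
    ∃ a : R, (∀ s, a • δ s ∈ LinearMap.range f) ∧ ∃ s, a • δ s ≠ 0 := by
  classical
  obtain ⟨t, ht⟩ := (Module.Finite.fg_top : (⊤ : Submodule R S).FG)
  have key : ∀ t : Finset S, ∀ c : R, (∃ s ∈ t, c • δ s ≠ 0) →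
      ∃ a : R, (∀ s ∈ t, (a * c) • δ s ∈ LinearMap.range f) ∧ ∃ s ∈ t, (a * c) • δ s ≠ 0 := by
    intro t
    induction t using Finset.induction_on with
    | empty =>
      rintro c ⟨s, hs, -⟩
      exact absurd hs (Finset.notMem_empty s)
    | insert s₀ t hs₀ ih =>
      intro c hc
      by_cases hct : ∃ s ∈ t, c • δ s ≠ 0
      · obtain ⟨a, ha1, s₁, hs₁, ha2⟩ := ih c hct
        by_cases h0 : (a * c) • δ s₀ ∈ LinearMap.range f
        · refine ⟨a, ?_, s₁, Finset.mem_insert_of_mem hs₁, ha2⟩
          intro s hs
          rcases Finset.mem_insert.mp hs with rfl | hs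
          · exact h0
          · exact ha1 s hs
        · have hne : (a * c) • δ s₀ ≠ 0 := by
            intro h
            apply h0
            rw [h]
            exact Submodule.zero_mem _
          obtain ⟨b, hb1, hb2⟩ := exists_smul_mem_range_of_ne_zero f hf _ hne
          refine ⟨b * a, ?_, s₀, Finset.mem_insert_self _ _, ?_⟩
          · intro s hs
            rcases Finset.mem_insert.mp hs with rfl | hs
            · rw [mul_assoc, mul_smul]
              exact hb2
            · rw [mul_assoc, mul_smul]
              exact Submodule.smul_mem _ _ (ha1 s hs)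
          · rw [mul_assoc, mul_smul]
            exact hb1
      · push Not at hct
        obtain ⟨s, hs, hcs⟩ := hc
        rcases Finset.mem_insert.mp hs with rfl | hs
        · obtain ⟨b, hb1, hb2⟩ := exists_smul_mem_range_of_ne_zero f hf _ hcs
          refine ⟨b, ?_, s, Finset.mem_insert_self _ _, ?_⟩
          · intro s' hs'
            rcases Finset.mem_insert.mp hs' with rfl | hs'
            · rw [mul_smul]
              exact hb2
            · rw [mul_smul, hct s' hs', smul_zero]
              exact Submodule.zero_mem _
          · rw [mul_smul]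
            exact hb1
        · exact absurd (hct s hs) hcs
  have hex : ∃ s ∈ t, (1 : R) • δ s ≠ 0 := by
    by_contra hcon
    push Not at hcon
    apply hδ
    apply LinearMap.ext_on_range (v := fun s : (t : Set S) => (s : S))
    · rw [Subtype.range_coe]
      exact ht
    · intro s
      have := hcon s.1 s.2
      rw [one_smul] at this
      rw [this, LinearMap.zero_apply]
  obtain ⟨a, ha1, s₁, hs₁, ha2⟩ := key t 1 hex
  rw [mul_one] at ha2
  refine ⟨a, ?_, s₁, ha2⟩
  intro s
  have hle : Submodule.span R (t : Set S) ≤ (LinearMap.range f).comap (a • δ) := by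
    rw [Submodule.span_le]
    intro s hs
    have := ha1 s hs
    rw [mul_one] at this
    exact this
  rw [ht] at hle
  exact hle (Submodule.mem_top (x := s))

end Essential

section Main

variable (R S : Type u) [CommRing R] [CommRing S] [Algebra R S] [Module.Finite R S]

/-- injectivity transfers along linear equivalences -/
lemma injective_of_linearEquiv {X E : Type u} [AddCommGroup X] [Module R X] [AddCommGroup E]
    [Module R E] (e : X ≃ₗ[R] E) (hE : Module.Injective R E) : Module.Injective R X := by
  refine ⟨fun A B _ _ _ _ i hi g => ?_⟩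
  obtain ⟨h, hh⟩ := hE.out i hi (e.toLinearMap ∘ₗ g)
  refine ⟨e.symm.toLinearMap ∘ₗ h, fun x => ?_⟩
  simp [hh]

/-- Descent of flatness along a finite injective ring map. -/
theorem flat_of_flat_baseChange (hinj : Function.Injective (algebraMap R S))
    (M : Type u) [AddCommGroup M] [Module R M] [Module.Flat S (S ⊗[R] M)] : Module.Flat R M := by
  classical
  -- the character module and its injective hull
  obtain ⟨E, _, _, f, hf⟩ := Groth.Agent.S0299.result R (CharacterModule M)
  have hfe : InjHull.IsEssentialInj f := hf.toIsEssentialInj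
  have hH : Module.Injective S (CharacterModule (S ⊗[R] M)) :=
    Module.Flat.iff_characterModule_injective.mp inferInstance
  -- the embedding of `H` into the coinduced module
  let j : CharacterModule (S ⊗[R] M) →ₗ[S] CoInd R S E :=
    { toFun := fun c => CoInd.ofLin (f ∘ₗ (CharacterModule.curry c))
      map_add' := by
        intro c c'
        apply CoInd.ext; intro t
        simp
      map_smul' := by
        intro s₀ c
        apply CoInd.ext; intro t
        rw [RingHom.id_apply, CoInd.smul_apply]
        simp only [CoInd.toLin_ofLin, LinearMap.comp_apply]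
        congr 1 }
  have hj_apply : ∀ (c : CharacterModule (S ⊗[R] M)) (t : S),
      (j c).toLin t = f (CharacterModule.curry c t) := fun c t => rfl
  have hj : Function.Injective j := by
    rw [injective_iff_map_eq_zero]
    intro c hc
    have h1 : ∀ t, CharacterModule.curry c t = 0 := by
      intro t
      apply hf.injective
      rw [map_zero, ← hj_apply, hc]
      rfl
    ext z
    induction z using TensorProduct.induction_on with
    | zero => simp
    | tmul t m =>
      have h3 : (CharacterModule.curry c t) m = (0 : CharacterModule M) m :=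
        congrArg (fun χ : CharacterModule M => χ m) (h1 t)
      exact h3
    | add x y hx hy =>
      rw [map_add, hx, hy]
      simp
  obtain ⟨ρ, hρ⟩ := hH.out j hj LinearMap.id
  -- every element of the coinduced module comes from `H`
  have key : ∀ φ : CoInd R S E, ∃ c, j c = φ := by
    intro φ
    by_contra hcon
    set δ : CoInd R S E := φ - j (ρ φ) with hδdef
    have hδ0 : δ.toLin ≠ 0 := by
      intro h
      apply hcon
      refine ⟨ρ φ, ?_⟩
      have : δ = 0 := CoInd.ext (fun t => by rw [h]; rfl)
      rw [hδdef, sub_eq_zero] at this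
      exact this.symm
    have hρδ : ρ δ = 0 := by
      rw [hδdef, map_sub, hρ]
      simp
    obtain ⟨a, ha1, s₁, ha2⟩ := exists_smul_map_mem_range f hfe δ.toLin hδ0
    let ψ : S →ₗ[R] CharacterModule M :=
      (LinearEquiv.ofInjective f hf.injective).symm.toLinearMap ∘ₗ
        (LinearMap.codRestrict (LinearMap.range f) (a • δ.toLin) ha1)
    have hψ : ∀ t, f (ψ t) = a • δ.toLin t := by
      intro t
      simp [ψ]
    let c : CharacterModule (S ⊗[R] M) := CharacterModule.uncurry ψ
    have hcψ : CharacterModule.curry c = ψ := CharacterModule.homEquiv.symm_apply_apply ψ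
    have hjc : j c = (algebraMap R S a) • δ := by
      apply CoInd.ext; intro t
      rw [hj_apply, hcψ, hψ, CoInd.smul_apply, ← Algebra.smul_def, map_smul]
    have hc0 : c = 0 := by
      have := hρ c
      rw [hjc, map_smul, hρδ, smul_zero] at this
      simpa using this.symm
    apply ha2
    rw [← hψ, ← hcψ, hc0]
    simp
  -- surjectivity of `f`
  have hsurj : Function.Surjective f := by
    intro e
    obtain ⟨φ, hφ⟩ := hf.isInjective.out (Algebra.linearMap R S) hinj
      (LinearMap.toSpanSingleton R E e)
    obtain ⟨c, hc⟩ := key (CoInd.ofLin φ)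
    refine ⟨CharacterModule.curry c 1, ?_⟩
    rw [← hj_apply, hc, CoInd.toLin_ofLin]
    have := hφ 1
    simp at this
    exact this
  have hX : Module.Injective R (CharacterModule M) :=
    injective_of_linearEquiv R (LinearEquiv.ofBijective f ⟨hf.injective, hsurj⟩) hf.isInjective
  exact Module.Flat.iff_characterModule_injective.mpr hX

end Main

end Groth.Agent.Lib.Seat86.FinInjFlat
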