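import Mathlib
import Groth.Agent.Lib.Helper3FlatDescE
import Groth.Agent.Lib.Seat86FinInjFlat

/-!
# Descent of flatness along injective integral ring maps, finitely presented case (helper56)

`flat_of_flat_baseChange_integral`: `R → S` injective integral, `M` finitely presented over
`R[x_1, …, x_n]`, `S ⊗_R M` flat over `S` ⟹ `M` flat over `R`.

Proof: write `M` as a presented module with coefficients in a f.g. `ℤ`-subalgebra `Λ ⊆ R` (Helper3
`exists_model_equiv`); flatness of the presented module over `S` descends to a f.g. `Λ`-subalgebra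
`A ⊆ S` (Helper3 `exists_fg_subalgebra_flat_global`); enlarge `Λ` to a f.g. subalgebra `R₁ ⊆ R` over
which the generators of `A` are integral, so that `A₁ = R₁[A] ⊆ S` is finite over `R₁`; conclude by
descent along the finite injective map `R₁ → A₁` (helper86 `Seat86.FinInjFlat`).
-/

set_option autoImplicit false
set_option linter.style.haveILetI false

universe u

namespace Groth.Agent.Lib.Seat56.IntFlat

open TensorProduct MvPolynomial
open Groth.Agent.Lib.Helper3.FlatOpen Groth.Agent.Lib.Helper3.FlatDesc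

attribute [local instance] MvPolynomial.algebraMvPolynomial

/-- An element of an `R`-algebra which is integral over `R` is integral over a subalgebra of `R`
containing the coefficients of an integral equation. -/
theorem isIntegral_subalgebra {Λ R S : Type*} [CommRing Λ] [CommRing R] [CommRing S] [Algebra Λ R]
    [Algebra R S] (R₁ : Subalgebra Λ R) (s : S) (p : Polynomial R) (hp : p.Monic)
    (hps : Polynomial.eval₂ (algebraMap R S) s p = 0) (hc : ∀ i, p.coeff i ∈ R₁) :
    IsIntegral R₁ s := by
  have hl : p ∈ Polynomial.lifts (algebraMap R₁ R) := by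
    rw [Polynomial.lifts_iff_coeff_lifts]
    intro i
    exact ⟨⟨p.coeff i, hc i⟩, rfl⟩
  obtain ⟨q, hq, -, hqm⟩ := Polynomial.lifts_and_natDegree_eq_and_monic hl hp
  refine ⟨q, hqm, ?_⟩
  rw [← hq, Polynomial.eval₂_map] at hps
  exact hps

/-- Descent of flatness of a presented module along a finite injective ring map. -/
theorem flat_of_finite_model {Λ R₁ A₁ : Type u} [CommRing Λ] [CommRing R₁] [CommRing A₁]
    [Algebra Λ R₁] [Algebra Λ A₁] [Algebra R₁ A₁] [IsScalarTower Λ R₁ A₁] [Module.Finite R₁ A₁]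
    (hinj : Function.Injective (algebraMap R₁ A₁)) {k m n : ℕ}
    (w : Fin m → Fin k → MvPolynomial (Fin n) Λ)
    (h : Module.Flat A₁ ((Fin k → MvPolynomial (Fin n) A₁) ⧸ KT w (MvPolynomial (Fin n) A₁))) :
    Module.Flat R₁ ((Fin k → MvPolynomial (Fin n) R₁) ⧸ KT w (MvPolynomial (Fin n) R₁)) := by
  obtain ⟨e₁⟩ := nonempty_tensor_equiv_model (Λ := Λ) (A₀ := R₁) (T := A₁) w
    (LinearEquiv.refl (MvPolynomial (Fin n) R₁)
      ((Fin k → MvPolynomial (Fin n) R₁) ⧸ KT w (MvPolynomial (Fin n) R₁)))
  haveI : Module.Flat A₁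
      (A₁ ⊗[R₁] ((Fin k → MvPolynomial (Fin n) R₁) ⧸ KT w (MvPolynomial (Fin n) R₁))) :=
    Module.Flat.of_linearEquiv e₁
  exact Groth.Agent.Lib.Seat86.FinInjFlat.flat_of_flat_baseChange R₁ A₁ hinj _

theorem flat_of_flat_baseChange_integral (R S : Type u) [CommRing R]
    [CommRing S] [Algebra R S] [Algebra.IsIntegral R S]
    (hinj : Function.Injective (algebraMap R S)) (n : ℕ)
    (M : Type u) [AddCommGroup M] [Module (MvPolynomial (Fin n) R) M] [Module R M]
    [IsScalarTower R (MvPolynomial (Fin n) R) M]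
    [Module.FinitePresentation (MvPolynomial (Fin n) R) M]
    [Module.Flat S (S ⊗[R] M)] : Module.Flat R M := by
  classical
  obtain ⟨k, m, Λ, hΛ, w, ⟨e⟩⟩ := exists_model_equiv (R := R) (n := n) (M := M)
  haveI : Algebra.FiniteType ℤ Λ := (Subalgebra.fg_iff_finiteType Λ).mp hΛ
  haveI : IsNoetherianRing Λ := Algebra.FiniteType.isNoetherianRing ℤ Λ
  -- the presented module over `S` is flat
  obtain ⟨eS⟩ := nonempty_tensor_equiv_model (Λ := Λ) (A₀ := R) (T := S) w e
  have hflatS : Module.Flat S
      ((Fin k → MvPolynomial (Fin n) S) ⧸ KT w (MvPolynomial (Fin n) S)) :=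
    Module.Flat.of_linearEquiv eS.symm
  -- descend to a finitely generated subalgebra of `S`
  obtain ⟨A, hAfg, -, hAflat⟩ := exists_fg_subalgebra_flat_global w hflatS ∅
  obtain ⟨t, ht⟩ := hAfg
  -- integral equations for the generators
  have hint : ∀ s : S, ∃ p : Polynomial R, p.Monic ∧ Polynomial.eval₂ (algebraMap R S) s p = 0 :=
    fun s => Algebra.IsIntegral.isIntegral (R := R) s
  choose p hpm hps using hint
  let c : Finset R := t.biUnion fun s => (p s).coeffs
  let R₁ : Subalgebra Λ R := Algebra.adjoin Λ (c : Set R)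
  have hR₁fg : R₁.FG := Subalgebra.fg_adjoin_finset c
  haveI : Algebra.FiniteType Λ R₁ := (Subalgebra.fg_iff_finiteType R₁).mp hR₁fg
  haveI : IsNoetherianRing R₁ := Algebra.FiniteType.isNoetherianRing Λ R₁
  have hti : ∀ s ∈ (t : Set S), IsIntegral R₁ s := by
    intro s hs
    refine isIntegral_subalgebra R₁ s (p s) (hpm s) (hps s) fun i => ?_
    by_cases hi : (p s).coeff i = 0
    · rw [hi]; exact zero_mem _
    · refine Algebra.subset_adjoin ?_
      refine Finset.mem_coe.mpr (Finset.mem_biUnion.mpr ⟨s, hs, ?_⟩)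
      exact Polynomial.coeff_mem_coeffs hi
  let A₁ : Subalgebra R₁ S := Algebra.adjoin R₁ (t : Set S)
  haveI : Module.Finite R₁ A₁ :=
    Module.Finite.iff_fg.mpr (fg_adjoin_of_finite t.finite_toSet hti)
  haveI : IsNoetherianRing A₁ := Algebra.FiniteType.isNoetherianRing R₁ A₁
  have hinj₁ : Function.Injective (algebraMap R₁ A₁) := by
    intro x y hxy
    have h1 : algebraMap R S (x : R) = algebraMap R S (y : R) := congrArg Subtype.val hxy
    exact Subtype.ext (hinj h1)
  letI : Algebra Λ A₁ := Subalgebra.algebra' A₁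
  haveI : IsScalarTower Λ R₁ A₁ := IsScalarTower.of_algebraMap_eq fun x => rfl
  -- `A ⊆ A₁`
  have hAA₁ : ∀ x : S, x ∈ A → x ∈ A₁ := by
    intro x hx
    rw [← ht] at hx
    induction hx using Algebra.adjoin_induction with
    | mem x hx => exact Algebra.subset_adjoin hx
    | algebraMap l => exact A₁.algebraMap_mem (algebraMap Λ R₁ l)
    | add x y _ _ hx hy => exact add_mem hx hy
    | mul x y _ _ hx hy => exact mul_mem hx hy
  let ψ : A →ₐ[Λ] A₁ :=
    { toFun := fun x => ⟨x.1, hAA₁ x.1 x.2⟩
      map_one' := rfl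
      map_mul' := fun _ _ => rfl
      map_zero' := rfl
      map_add' := fun _ _ => rfl
      commutes' := fun _ => rfl }
  have hflatA₁ := flat_model_of_algHom (A := A) (R := A₁) w ψ hAflat
  have hflatR₁ := flat_of_finite_model (R₁ := R₁) (A₁ := A₁) hinj₁ w hflatA₁
  have hflatR : Module.Flat R
      ((Fin k → MvPolynomial (Fin n) R) ⧸ KT w (MvPolynomial (Fin n) R)) :=
    flat_model_of_algHom w (IsScalarTower.toAlgHom Λ R₁ R) hflatR₁
  exact Module.Flat.of_linearEquiv (e.restrictScalars R).symm

end Groth.Agent.Lib.Seat56.IntFlat
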