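import Mathlib
import Groth.Agent.Lib.Seat56IntFlat
import Groth.Agent.Lib.Helper3FlatOpenFP

/-!
# Pointwise descent of flatness along injective integral ring maps (helper56)

`flat_atPrime_of_integral`: `R → S` injective integral, `B` a finitely presented `R`-algebra, `q` a
prime of `B`. If `(B ⊗_R S)_Q` is flat over `S` for every prime `Q` of `B ⊗_R S` over `q`, then `B_q`
is flat over `R`.

Proof: the flat locus of `B ⊗_R S` over `S` is open (Helper3) and contains the fibre of the closed
map `Spec (B ⊗_R S) → Spec B` over `q`; hence it contains the preimage of a principal open `D(g)`,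
`g ∉ q`, so `B_g ⊗_R S` is flat over `S` and `B_g` is flat over `R` by the global theorem
(`Seat56.IntFlat`).
-/

set_option autoImplicit false
set_option linter.style.haveILetI false

universe u

namespace Groth.Agent.Lib.Seat56.IntFlatPt

open TensorProduct

attribute [local instance] Algebra.TensorProduct.rightAlgebra

/-- Global version for finitely presented algebras. -/
theorem flat_of_finitePresentation_algebra (R S C : Type u) [CommRing R] [CommRing S] [CommRing C]
    [Algebra R S] [Algebra.IsIntegral R S] (hinj : Function.Injective (algebraMap R S))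
    [Algebra R C] [Algebra.FinitePresentation R C] [Module.Flat S (S ⊗[R] C)] :
    Module.Flat R C := by
  obtain ⟨n, f, hf, hker⟩ := Algebra.FinitePresentation.out (R := R) (A := C)
  letI : Algebra (MvPolynomial (Fin n) R) C := f.toRingHom.toAlgebra
  haveI : IsScalarTower R (MvPolynomial (Fin n) R) C :=
    .of_algebraMap_eq' f.comp_algebraMap.symm
  haveI : Module.FinitePresentation (MvPolynomial (Fin n) R) C :=
    Module.finitePresentation_of_surjective (Algebra.linearMap (MvPolynomial (Fin n) R) C) hf
      hker
  exact Groth.Agent.Lib.Seat56.IntFlat.flat_of_flat_baseChange_integral R S hinj n C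

/-- Flatness over `S` of an `S`-algebra `T` can be checked at the primes of `T`. -/
theorem flat_of_forall_prime {S T : Type u} [CommRing S] [CommRing T] [Algebra S T]
    (h : ∀ (P : Ideal T) [P.IsPrime], Module.Flat S (Localization.AtPrime P)) :
    Module.Flat S T :=
  Module.flat_of_isLocalized_maximal T T (fun P _ => Localization.AtPrime P)
    (fun P _ => Algebra.linearMap T (Localization.AtPrime P)) (fun P _ => h P)

/-- Transport of flatness along a `T`-linear equivalence, for an `S`-algebra `T`. -/
theorem flat_of_linearEquiv_restrict {S T M N : Type*} [CommRing S] [CommRing T] [Algebra S T]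
    [AddCommGroup M] [Module T M] [Module S M] [IsScalarTower S T M]
    [AddCommGroup N] [Module T N] [Module S N] [IsScalarTower S T N]
    (e : M ≃ₗ[T] N) [Module.Flat S M] : Module.Flat S N :=
  Module.Flat.of_linearEquiv (e.restrictScalars S).symm

/-- Flatness of a localization of `T` at the primes not containing `g` gives flatness of `T'`, a
localization of `T` at the powers of `g`. -/
theorem flat_away_of_forall_prime {S T T' : Type u} [CommRing S] [CommRing T] [CommRing T']
    [Algebra S T] [Algebra S T'] [Algebra T T'] [IsScalarTower S T T'] (M : Submonoid T)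
    [IsLocalization M T']
    (h : ∀ (P : Ideal T) [P.IsPrime], Disjoint (M : Set T) P →
      Module.Flat S (Localization.AtPrime P)) :
    Module.Flat S T' := by
  refine flat_of_forall_prime fun P _ => ?_
  let P' := P.comap (algebraMap T T')
  haveI : IsLocalization.AtPrime (Localization.AtPrime P) P' :=
    IsLocalization.isLocalization_isLocalization_atPrime_isLocalization M _ P
  have hdisj : Disjoint (M : Set T) P' := by
    rw [Set.disjoint_left]
    intro x hxM hxP
    have hu : IsUnit (algebraMap T T' x) := IsLocalization.map_units T' ⟨x, hxM⟩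
    exact (Ideal.IsPrime.ne_top inferInstance) (P.eq_top_of_isUnit_mem hxP hu)
  haveI := h P' hdisj
  let e : Localization.AtPrime P' ≃ₐ[T] Localization.AtPrime P :=
    IsLocalization.algEquiv P'.primeCompl _ _
  exact flat_of_linearEquiv_restrict (S := S) e.toLinearEquiv

/-- **Pointwise descent of flatness along an injective integral ring map.** -/
theorem flat_atPrime_of_integral (R S B : Type u) [CommRing R] [CommRing S] [CommRing B]
    [Algebra R S] [Algebra.IsIntegral R S] (hinj : Function.Injective (algebraMap R S))
    [Algebra R B] [Algebra.FinitePresentation R B] (q : Ideal B) [q.IsPrime]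
    (h : ∀ (Q : Ideal (B ⊗[R] S)) [Q.IsPrime], Q.comap (algebraMap B (B ⊗[R] S)) = q →
      Module.Flat S (Localization.AtPrime Q)) :
    Module.Flat R (Localization.AtPrime q) := by
  classical
  let T := B ⊗[R] S
  haveI : Algebra.FinitePresentation S T :=
    Algebra.FinitePresentation.equiv (Algebra.TensorProduct.commRight R S B)
  -- the flat locus is open
  have hopen := Groth.Agent.Lib.Helper3.FlatOpen.isOpen_flatLocus_of_finitePresentation
    (R := S) (S := T) (M := T)
  set W := {Q : PrimeSpectrum T | Module.Flat S (LocalizedModule Q.asIdeal.primeCompl T)} with hW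
  have hWiff : ∀ Q : PrimeSpectrum T, Q ∈ W ↔ Module.Flat S (Localization.AtPrime Q.asIdeal) := by
    intro Q
    let e : LocalizedModule Q.asIdeal.primeCompl T ≃ₗ[T] Localization.AtPrime Q.asIdeal :=
      IsLocalizedModule.iso Q.asIdeal.primeCompl (Algebra.linearMap T (Localization.AtPrime Q.asIdeal))
    constructor
    · intro hQ
      haveI : Module.Flat S (LocalizedModule Q.asIdeal.primeCompl T) := hQ
      exact flat_of_linearEquiv_restrict (S := S) e
    · intro hQ
      haveI : Module.Flat S (Localization.AtPrime Q.asIdeal) := hQ
      exact flat_of_linearEquiv_restrict (S := S) e.symm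
  -- the map on spectra is closed
  have hint : (algebraMap B T).IsIntegral := algebraMap_isIntegral_iff.mpr inferInstance
  have hcl := PrimeSpectrum.isClosedMap_comap_of_isIntegral (algebraMap B T) hint
  have hZ : IsClosed (PrimeSpectrum.comap (algebraMap B T) '' Wᶜ) := hcl _ hopen.isClosed_compl
  have hq : (⟨q, inferInstance⟩ : PrimeSpectrum B) ∈ (PrimeSpectrum.comap (algebraMap B T) '' Wᶜ)ᶜ := by
    rintro ⟨Q, hQW, hQq⟩
    apply hQW
    rw [hWiff]
    exact h Q.asIdeal (congrArg PrimeSpectrum.asIdeal hQq)
  obtain ⟨_, ⟨g, rfl⟩, hgq, hgZ⟩ :=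
    PrimeSpectrum.isTopologicalBasis_basic_opens.exists_subset_of_mem_open hq hZ.isOpen_compl
  have hgq' : g ∉ q := hgq
  have hgW : ∀ (P : Ideal T) [P.IsPrime], algebraMap B T g ∉ P →
      Module.Flat S (Localization.AtPrime P) := by
    intro P _ hgP
    have h1 : (⟨P, inferInstance⟩ : PrimeSpectrum T) ∈ W := by
      by_contra hnW
      exact hgZ (show PrimeSpectrum.comap (algebraMap B T) ⟨P, inferInstance⟩ ∈ _ from hgP)
        ⟨⟨P, inferInstance⟩, hnW, rfl⟩
    exact (hWiff _).mp h1
  -- the localization away from `g`
  let Bg := Localization.Away g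
  let T' := Bg ⊗[R] S
  let φ : T →ₐ[R] T' := Algebra.TensorProduct.map (IsScalarTower.toAlgHom R B Bg) (AlgHom.id R S)
  letI : Algebra T T' := φ.toRingHom.toAlgebra
  haveI : IsScalarTower B T T' := IsScalarTower.of_algebraMap_eq fun b => by
    change _ = φ (b ⊗ₜ 1)
    rw [Algebra.TensorProduct.algebraMap_apply]
    rfl
  haveI : IsScalarTower S T T' := IsScalarTower.of_algebraMap_eq fun s => by
    have h1 : φ ((1 : B) ⊗ₜ s) = (1 : Bg) ⊗ₜ s := by
      have := Algebra.TensorProduct.map_tmul (IsScalarTower.toAlgHom R B Bg) (AlgHom.id R S) (1 : B) s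
      rw [map_one] at this
      exact this
    change _ = φ ((1 : B) ⊗ₜ s)
    rw [h1]
    rfl
  haveI hloc : IsLocalization (Algebra.algebraMapSubmonoid T (Submonoid.powers g)) T' :=
    IsLocalization.tensorProduct_tensorProduct R S (Submonoid.powers g) Bg (by
      ext s
      have := Algebra.TensorProduct.map_tmul (IsScalarTower.toAlgHom R B Bg) (AlgHom.id R S) (1 : B) s
      rw [map_one] at this
      exact this)
  haveI : Module.Flat S T' := by
    refine flat_away_of_forall_prime (Algebra.algebraMapSubmonoid T (Submonoid.powers g)) ?_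
    intro P _ hdisj
    refine hgW P fun hgP => ?_
    exact Set.disjoint_left.mp hdisj ⟨g, Submonoid.mem_powers g, rfl⟩ hgP
  haveI : Module.Flat S (S ⊗[R] Bg) :=
    Module.Flat.of_linearEquiv (Algebra.TensorProduct.commRight R S Bg).toLinearEquiv
  haveI : Algebra.FinitePresentation R Bg :=
    Algebra.FinitePresentation.trans R B Bg
  have hBg : Module.Flat R Bg := flat_of_finitePresentation_algebra R S Bg hinj
  -- pass to the localization at `q`
  have hle : Submonoid.powers g ≤ q.primeCompl := by
    rw [Submonoid.powers_le]
    exact hgq'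
  letI : Algebra Bg (Localization.AtPrime q) :=
    IsLocalization.localizationAlgebraOfSubmonoidLe Bg _ _ _ hle
  haveI : IsScalarTower B Bg (Localization.AtPrime q) :=
    IsLocalization.localization_isScalarTower_of_submonoid_le _ _ _ _ hle
  haveI : IsLocalization (q.primeCompl.map (algebraMap B Bg)) (Localization.AtPrime q) :=
    IsLocalization.isLocalization_of_submonoid_le Bg _ _ _ hle
  haveI : Module.Flat Bg (Localization.AtPrime q) :=
    IsLocalization.flat _ (q.primeCompl.map (algebraMap B Bg))
  haveI : IsScalarTower R Bg (Localization.AtPrime q) := by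
    refine IsScalarTower.of_algebraMap_eq fun x => ?_
    rw [IsScalarTower.algebraMap_apply R B (Localization.AtPrime q),
      IsScalarTower.algebraMap_apply R B Bg,
      ← IsScalarTower.algebraMap_apply B Bg (Localization.AtPrime q)]
  exact Module.Flat.trans R Bg (Localization.AtPrime q)

end Groth.Agent.Lib.Seat56.IntFlatPt
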