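import Mathlib
import Groth.Agent.Lib.Seat56IntFlatPt
import Groth.Agent.Lib.Helper25FlatBC

/-!
# Flatness at a point descends along an injective integral base change (helper56)

Scheme-level form of `Seat56.IntFlatPt.flat_atPrime_of_integral` (EGA IV 11.5-type statement,
milestone S2564).
-/

set_option autoImplicit false
set_option linter.style.haveILetI false

universe u

open CategoryTheory CategoryTheory.Limits AlgebraicGeometry TensorProduct

namespace Groth.Agent.Lib.Seat56.IntFlatSch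

open Groth.Agent.Lib.Helper20.EtLocal Groth.Agent.Lib.Helper20.FlatDesc
  Groth.Agent.Lib.Helper25.FlatBC

/-- The map on global sections induced by `Spec.map φ` is injective if `φ` is. -/
theorem injective_appTop_specMap {A A' : CommRingCat.{u}} (φ : A ⟶ A')
    (h : Function.Injective φ.hom) : Function.Injective (Spec.map φ).appTop.hom := by
  have hnat := Scheme.ΓSpecIso_naturality φ
  have h1 : (Spec.map φ).appTop = (Scheme.ΓSpecIso A).hom ≫ φ ≫ (Scheme.ΓSpecIso A').inv := by
    rw [← Category.assoc, ← hnat, Category.assoc, Iso.hom_inv_id, Category.comp_id]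
  rw [h1]
  simp only [CommRingCat.hom_comp, RingHom.coe_comp]
  refine Function.Injective.comp (Function.Injective.comp ?_ h) ?_
  · exact (ConcreteCategory.bijective_of_isIso (Scheme.ΓSpecIso A').inv).injective
  · exact (ConcreteCategory.bijective_of_isIso (Scheme.ΓSpecIso A).hom).injective

/-- The map on global sections induced by `Spec.map φ` is integral if `φ` is. -/
theorem isIntegral_appTop_specMap {A A' : CommRingCat.{u}} (φ : A ⟶ A')
    (h : φ.hom.IsIntegral) : (Spec.map φ).appTop.hom.IsIntegral := by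
  have hnat := Scheme.ΓSpecIso_naturality φ
  have h1 : (Spec.map φ).appTop = (Scheme.ΓSpecIso A).hom ≫ φ ≫ (Scheme.ΓSpecIso A').inv := by
    rw [← Category.assoc, ← hnat, Category.assoc, Iso.hom_inv_id, Category.comp_id]
  rw [h1]
  simp only [CommRingCat.hom_comp]
  refine RingHom.IsIntegral.trans _ _ ?_ (RingHom.IsIntegral.trans _ _ h ?_)
  · exact RingHom.isIntegral_of_surjective _
      (ConcreteCategory.bijective_of_isIso (Scheme.ΓSpecIso A).hom).surjective
  · exact RingHom.isIntegral_of_surjective _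
      (ConcreteCategory.bijective_of_isIso (Scheme.ΓSpecIso A').inv).surjective

set_option maxHeartbeats 1600000 in
/-- **Flatness at a point descends along an injective integral base change.** -/
theorem flat_stalkMap_of_integral {A A' : Type u} [CommRing A] [CommRing A']
    [Algebra A A'] [Algebra.IsIntegral A A'] (hinj : Function.Injective (algebraMap A A'))
    {X : Scheme.{u}} (f : X ⟶ Spec (CommRingCat.of A)) [LocallyOfFinitePresentation f] (x : X)
    (h : ∀ x' : ↥(pullback f (Spec.map (CommRingCat.ofHom (algebraMap A A')))),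
      (pullback.fst f _).base x' = x →
      ((pullback.snd f (Spec.map (CommRingCat.ofHom (algebraMap A A')))).stalkMap x').hom.Flat) :
    (f.stalkMap x).hom.Flat := by
  set g := Spec.map (CommRingCat.ofHom (algebraMap A A')) with hg
  let Y : Scheme.{u} := Spec (CommRingCat.of A)
  let Y' : Scheme.{u} := Spec (CommRingCat.of A')
  let W : Y.Opens := ⊤
  have hW : IsAffineOpen W := isAffineOpen_top Y
  obtain ⟨_, ⟨V, hV, rfl⟩, hxV, -⟩ := X.isBasis_affineOpens.exists_subset_of_mem_open
    (Set.mem_univ x) isOpen_univ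
  have hVW : V ≤ f ⁻¹ᵁ W := le_top
  let W' : Y'.Opens := ⊤
  have hW' : IsAffineOpen W' := isAffineOpen_top Y'
  have hW'W : W' ≤ g ⁻¹ᵁ W := le_top
  -- properties of the ring maps
  have hfp : (f.appLE W V hVW).hom.FinitePresentation :=
    HasRingHomProperty.appLE (P := @LocallyOfFinitePresentation) f inferInstance ⟨W, hW⟩ ⟨V, hV⟩ hVW
  have happ : g.appLE W W' hW'W = g.appTop := by
    rw [Scheme.Hom.appTop, Scheme.Hom.app_eq_appLE]
    rfl
  have hginj : Function.Injective (g.appLE W W' hW'W).hom := by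
    rw [happ]
    exact injective_appTop_specMap _ hinj
  have hgint : (g.appLE W W' hW'W).hom.IsIntegral := by
    rw [happ]
    exact isIntegral_appTop_specMap _ (algebraMap_isIntegral_iff.mpr inferInstance)
  algebraize [(f.appLE W V hVW).hom, (g.appLE W W' hW'W).hom]
  let _ : Algebra Γ(Y', W') (Γ(X, V) ⊗[Γ(Y, W)] Γ(Y', W')) := Algebra.TensorProduct.rightAlgebra
  haveI : Algebra.FinitePresentation Γ(Y, W) Γ(X, V) := hfp
  haveI : Algebra.IsIntegral Γ(Y, W) Γ(Y', W') := algebraMap_isIntegral_iff.mp hgint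
  have e₁ : Spec.map (CommRingCat.ofHom (algebraMap Γ(Y, W) Γ(X, V))) ≫ hW.fromSpec =
      hV.fromSpec ≫ f := IsAffineOpen.SpecMap_appLE_fromSpec f hW hV hVW
  have e₂ : Spec.map (CommRingCat.ofHom (algebraMap Γ(Y, W) Γ(Y', W'))) ≫ hW.fromSpec =
      hW'.fromSpec ≫ g := IsAffineOpen.SpecMap_appLE_fromSpec g hW hW' hW'W
  let j0 := pullback.map _ _ f g hV.fromSpec hW'.fromSpec hW.fromSpec e₁ e₂
  let j := (pullbackSpecIso Γ(Y, W) Γ(X, V) Γ(Y', W')).inv ≫ j0
  have hj1 : j ≫ pullback.fst f g =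
      Spec.map (CommRingCat.ofHom (algebraMap Γ(X, V) (Γ(X, V) ⊗[Γ(Y, W)] Γ(Y', W')))) ≫
        hV.fromSpec := by
    simp only [j, j0, Category.assoc, pullback.lift_fst, pullback.map]
    rw [← Category.assoc, pullbackSpecIso_inv_fst']
  have hj2 : j ≫ pullback.snd f g =
      Spec.map (CommRingCat.ofHom (algebraMap Γ(Y', W') (Γ(X, V) ⊗[Γ(Y, W)] Γ(Y', W')))) ≫
        hW'.fromSpec := by
    simp only [j, j0, Category.assoc, pullback.lift_snd, pullback.map]
    rw [← Category.assoc, pullbackSpecIso_inv_snd]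
    rfl
  have : IsOpenImmersion hW.fromSpec := hW.isOpenImmersion_fromSpec
  have : IsOpenImmersion hV.fromSpec := hV.isOpenImmersion_fromSpec
  have : IsOpenImmersion hW'.fromSpec := hW'.isOpenImmersion_fromSpec
  have : Mono hW.fromSpec := inferInstance
  have : IsOpenImmersion j0 := inferInstance
  have : IsOpenImmersion j := inferInstance
  have hQ := RingHom.Flat.respectsIso
  rw [flat_stalkMap_iff_chart' W hW V hV hVW hxV]
  refine Groth.Agent.Lib.Seat56.IntFlatPt.flat_atPrime_of_integral Γ(Y, W) Γ(Y', W') Γ(X, V) hginj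
    (hV.primeIdealOf ⟨x, hxV⟩).asIdeal ?_
  intro Q _ hQq
  let Qp : PrimeSpectrum (Γ(X, V) ⊗[Γ(Y, W)] Γ(Y', W')) := ⟨Q, inferInstance⟩
  have hx' : pullback.fst f g (j Qp) = x := by
    have h3 : pullback.fst f g (j Qp) = hV.fromSpec ((Spec.map (CommRingCat.ofHom
        (algebraMap Γ(X, V) (Γ(X, V) ⊗[Γ(Y, W)] Γ(Y', W'))))) Qp) := by
      rw [← Scheme.Hom.comp_apply, ← Scheme.Hom.comp_apply, hj1]
    rw [h3]
    have h4 : (Spec.map (CommRingCat.ofHom
        (algebraMap Γ(X, V) (Γ(X, V) ⊗[Γ(Y, W)] Γ(Y', W'))))) Qp = hV.primeIdealOf ⟨x, hxV⟩ := by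
      apply PrimeSpectrum.ext
      exact hQq
    rw [h4, hV.fromSpec_primeIdealOf]
  have H := h (j Qp) hx'
  have hA1 := (stalkMap_comp_iff_left hQ j (pullback.snd f g) Qp).mpr H
  have hA2 := (stalkMap_congr_iff (Q := RingHom.Flat) hj2 Qp).mp hA1
  have hA3 : ((Spec.map (CommRingCat.ofHom (algebraMap Γ(Y', W')
      (Γ(X, V) ⊗[Γ(Y, W)] Γ(Y', W'))))).stalkMap Qp).hom.Flat :=
    (stalkMap_comp_iff_right hQ (Spec.map (CommRingCat.ofHom (algebraMap Γ(Y', W')
      (Γ(X, V) ⊗[Γ(Y, W)] Γ(Y', W'))))) hW'.fromSpec Qp).mp hA2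
  have hA4 := (hQ.arrow_mk_iso_iff (Scheme.arrowStalkMapSpecIso (CommRingCat.ofHom
    (algebraMap Γ(Y', W') (Γ(X, V) ⊗[Γ(Y, W)] Γ(Y', W')))) Qp)).mp hA3
  exact (flat_localRingHom_iff (A := Γ(Y', W')) Q).mp hA4

end Groth.Agent.Lib.Seat56.IntFlatSch
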