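import Mathlib

/-!
# A matrix with independent rows has a nonzero maximal minor (helper56)

`exists_embedding_det_ne_zero`: over a field, a `c × n` matrix with linearly independent rows has
`c` distinct columns whose `c × c` minor is nonzero.
-/

set_option autoImplicit false

namespace Groth.Agent.Lib.Seat56.JacMinor

open Module

theorem exists_embedding_det_ne_zero {K : Type*} [Field K] {c n : ℕ}
    (M : Matrix (Fin c) (Fin n) K) (h : LinearIndependent K M.row) :
    ∃ I : Fin c ↪ Fin n, (M.submatrix id I).det ≠ 0 := by
  classical
  -- the columns span `K^c`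
  have hrank : M.rank = c := by
    rw [Matrix.rank_eq_finrank_span_row, finrank_span_eq_card h, Fintype.card_fin]
  have hspan : Submodule.span K (Set.range M.col) = ⊤ := by
    apply Submodule.eq_top_of_finrank_eq
    rw [← Matrix.rank_eq_finrank_span_cols, hrank, Module.finrank_pi, Fintype.card_fin]
  -- extract a basis among the columns
  obtain ⟨κ, a, ha, hsp, hli⟩ := exists_linearIndependent' K M.col
  rw [hspan] at hsp
  let b : Basis κ K (Fin c → K) := Basis.mk hli (le_of_eq hsp.symm)
  haveI : Fintype κ := FiniteDimensional.fintypeBasisIndex b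
  have hcard : Fintype.card κ = c := by
    rw [← Module.finrank_eq_card_basis b, Module.finrank_pi, Fintype.card_fin]
  let e : Fin c ≃ κ := (Fintype.equivFinOfCardEq hcard).symm
  refine ⟨⟨a ∘ e, ha.comp e.injective⟩, ?_⟩
  have hcols : LinearIndependent K (M.submatrix id (a ∘ e)).col := by
    have : (M.submatrix id (a ∘ e)).col = (M.col ∘ a) ∘ e := by
      ext k j
      rfl
    rw [this]
    exact hli.comp e e.injective
  have hu := Matrix.linearIndependent_cols_iff_isUnit.mp hcols
  exact ((Matrix.isUnit_iff_isUnit_det _).mp hu).ne_zero

end Groth.Agent.Lib.Seat56.JacMinor
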