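import Mathlib

/-!
# Local splitting of a presentation with locally projective cokernel (helper56)

`exists_retraction_of_localized`: for an exact sequence `C --d--> E --π--> Ω → 0` of modules over
`S`, with `E` finitely presented, `ker d` vanishing at the prime `q` and `Ω_q` projective, there is
`ρ : E → C` with `ρ ∘ d = t • id` up to `q`-torsion, for some `t ∉ q`.
-/

set_option autoImplicit false
set_option linter.style.haveILetI false

namespace Groth.Agent.Lib.Seat56.JacSplit

theorem mk_eq_zero_iff' {S : Type*} [CommRing S] {p : Submonoid S} {M : Type*} [AddCommGroup M]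
    [Module S M] (m : M) (s : p) :
    LocalizedModule.mk m s = 0 ↔ ∃ u : p, u • m = 0 := by
  rw [← LocalizedModule.zero_mk s, LocalizedModule.mk_eq]
  constructor
  · rintro ⟨u, hu⟩
    refine ⟨u * s, ?_⟩
    rw [smul_zero, smul_zero] at hu
    rw [mul_smul]
    exact hu
  · rintro ⟨u, hu⟩
    refine ⟨u, ?_⟩
    rw [smul_zero, smul_zero, smul_comm, hu, smul_zero]

theorem exists_retraction_of_localized {S : Type*} [CommRing S] (q : Ideal S) [q.IsPrime]
    {C E Ω : Type*} [AddCommGroup C] [Module S C] [AddCommGroup E] [Module S E]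
    [AddCommGroup Ω] [Module S Ω] [Module.FinitePresentation S E]
    (d : C →ₗ[S] E) (π : E →ₗ[S] Ω) (hex : Function.Exact d π) (hπ : Function.Surjective π)
    (hker : ∀ z, d z = 0 → ∃ t : S, t ∉ q ∧ t • z = 0)
    (hproj : Module.Projective (Localization.AtPrime q) (LocalizedModule q.primeCompl Ω)) :
    ∃ (ρ : E →ₗ[S] C) (t : S), t ∉ q ∧ ∀ z : C, ∃ u : S, u ∉ q ∧ u • ρ (d z) = (u * t) • z := by
  classical
  let p := q.primeCompl
  let dq := LocalizedModule.map p d
  let πq := LocalizedModule.map p π
  have hexq : Function.Exact dq πq := LocalizedModule.map_exact p d π hex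
  have hsurjq : Function.Surjective πq := LocalizedModule.map_surjective p π hπ
  have hinjq : Function.Injective dq := by
    rw [injective_iff_map_eq_zero]
    intro x hx
    induction x using LocalizedModule.induction_on with
    | h z s =>
      have h1 : dq (LocalizedModule.mk z s) = LocalizedModule.mk (d z) s :=
        LocalizedModule.map_mk p d z s
      rw [h1, mk_eq_zero_iff'] at hx
      obtain ⟨u, hu⟩ := hx
      have h2 : d ((u : S) • z) = 0 := by rw [map_smul]; exact hu
      obtain ⟨t, ht, htz⟩ := hker _ h2
      rw [mk_eq_zero_iff']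
      refine ⟨⟨t, ht⟩ * u, ?_⟩
      rw [mul_smul]
      exact htz
  obtain ⟨-, rq, hrq⟩ := ((hexq.split_tfae'.out 0 1 rfl rfl).mp
    ⟨hinjq, Module.projective_lifting_property _ _ hsurjq⟩)
  obtain ⟨ρ, t, hρ⟩ := Module.FinitePresentation.exists_lift_of_isLocalizedModule p
    (LocalizedModule.mkLinearMap p C)
    ((rq.restrictScalars S) ∘ₗ LocalizedModule.mkLinearMap p E)
  refine ⟨ρ, t, t.2, fun z => ?_⟩
  have h1 : LocalizedModule.mkLinearMap p C (ρ (d z)) =
      LocalizedModule.mkLinearMap p C ((t : S) • z) := by
    have h2 := LinearMap.congr_fun hρ (d z)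
    simp only [LinearMap.coe_comp, Function.comp_apply, LinearMap.smul_apply,
      LinearMap.coe_restrictScalars] at h2
    rw [h2, map_smul]
    congr 1
    have h3 : LocalizedModule.mkLinearMap p E (d z) = dq (LocalizedModule.mkLinearMap p C z) := by
      simp only [LocalizedModule.mkLinearMap_apply]
      exact (LocalizedModule.map_mk p d z 1).symm
    rw [h3]
    exact LinearMap.congr_fun hrq _
  obtain ⟨u, hu⟩ := IsLocalizedModule.exists_of_eq (S := p)
    (f := LocalizedModule.mkLinearMap p C) h1
  refine ⟨u, u.2, ?_⟩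
  rw [mul_smul]
  exact hu

end Groth.Agent.Lib.Seat56.JacSplit
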