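import Mathlib
import Groth.Prelude
import Groth.Agent.Lib.Seat56RelGCI5
import Groth.Agent.Lib.Seat56JacSplit
import Groth.Agent.Lib.Seat56JacMinor

/-!
# Jacobian criterion for relative global complete intersections (helper56)

For `S = R[x_1, …, x_n]/(F_1, …, F_c)` a relative global complete intersection and `q` a prime of
`S`: `R → S` is smooth at `q` iff some `c × c` minor of the Jacobian matrix lies outside `q`.

* `isSmoothAt_of_minor` (no relGCI hypothesis needed): the localization of `S` at the minor is
  standard smooth.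
* `exists_minor_of_isSmoothAt`: smoothness at `q` gives vanishing of `H¹(L_{S/R})` at `q` and
  local freeness of `Ω`, so the conormal sequence splits locally at `q`; since `(F)/(F)²` is free on
  the `F_j` (Stacks 00SV), the Jacobian matrix has independent rows over `κ(q)`.
-/

set_option autoImplicit false
set_option linter.style.haveILetI false

universe u

namespace Groth.Agent.Lib.Seat56.JacCrit

open Algebra MvPolynomial

variable (R : Type u) [CommRing R] (n c : ℕ) (F : Fin c → MvPolynomial (Fin n) R)

theorem jacobian_naive (I : Fin c ↪ Fin n) :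
    (Algebra.PreSubmersivePresentation.naive (v := F) I I.injective).jacobian =
      Ideal.Quotient.mk (Ideal.span (Set.range F))
        (Matrix.det (Matrix.of fun j i => MvPolynomial.pderiv (I i) (F j))) := by
  classical
  rw [Algebra.PreSubmersivePresentation.jacobian_eq_jacobiMatrix_det]
  rw [← Matrix.det_transpose]
  congr 2
  ext i j
  simp [Algebra.PreSubmersivePresentation.jacobiMatrix_naive]

theorem isSmoothAt_of_minor (q : Ideal (Synt.RelGCIRing R n c F)) [q.IsPrime]
    (I : Fin c ↪ Fin n)
    (hI : Ideal.Quotient.mk (Ideal.span (Set.range F))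
        (Matrix.det (Matrix.of fun j i => MvPolynomial.pderiv (I i) (F j))) ∉ q) :
    Algebra.IsSmoothAt R q := by
  classical
  let S := Synt.RelGCIRing R n c F
  let P₁ := Algebra.PreSubmersivePresentation.naive (v := F) I I.injective
  set g : S := Ideal.Quotient.mk (Ideal.span (Set.range F))
        (Matrix.det (Matrix.of fun j i => MvPolynomial.pderiv (I i) (F j))) with hg
  have hjac : P₁.jacobian = g := jacobian_naive R n c F I
  let Q := Algebra.PreSubmersivePresentation.localizationAway (Localization.Away g) g
  have hQ : Q.jacobian = algebraMap S (Localization.Away g) g :=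
    Algebra.PreSubmersivePresentation.localizationAway_jacobian g
  have hunit : IsUnit (Q.comp P₁).jacobian := by
    rw [Algebra.PreSubmersivePresentation.comp_jacobian_eq_jacobian_smul_jacobian, hjac, hQ,
      Algebra.smul_def]
    exact (IsLocalization.Away.algebraMap_isUnit g).mul (IsLocalization.Away.algebraMap_isUnit g)
  let PP : Algebra.SubmersivePresentation R (Localization.Away g) (Unit ⊕ Fin n) (Unit ⊕ Fin c) :=
    ⟨Q.comp P₁, hunit⟩
  haveI : Algebra.IsStandardSmooth R (Localization.Away g) := PP.isStandardSmooth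
  haveI : Algebra.FinitePresentation R S :=
    Algebra.FinitePresentation.quotient (Submodule.fg_span (Set.finite_range F))
  have hsub := (Algebra.basicOpen_subset_smoothLocus_iff_smooth (R := R) (A := S) (f := g)).mpr
    inferInstance
  exact hsub (show (⟨q, inferInstance⟩ : PrimeSpectrum S) ∈ PrimeSpectrum.basicOpen g from hI)

open Groth.Agent.Lib.Seat56.RelGCI in
theorem exists_minor_of_isSmoothAt (hF : Synt.IsRelGCI R n c F)
    (q : Ideal (Synt.RelGCIRing R n c F)) [q.IsPrime] (hq : Algebra.IsSmoothAt R q) :
    ∃ I : Fin c ↪ Fin n, Ideal.Quotient.mk (Ideal.span (Set.range F))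
        (Matrix.det (Matrix.of fun j i => MvPolynomial.pderiv (I i) (F j))) ∉ q := by
  classical
  let S := Synt.RelGCIRing R n c F
  haveI : Algebra.FinitePresentation R S :=
    Algebra.FinitePresentation.quotient (Submodule.fg_span (Set.finite_range F))
  let P₀ : Algebra.Presentation R S (Fin n) (Fin c) := Algebra.Presentation.naive (v := F)
  have hker : P₀.ker = Ideal.span (Set.range F) :=
    Algebra.Generators.ker_naive (Function.surjInv Ideal.Quotient.mk_surjective)
      (Function.surjInv_eq _)
  -- smoothness at `q` in terms of `H¹` and `Ω`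
  have hmem : (⟨q, inferInstance⟩ : PrimeSpectrum S) ∈ Algebra.smoothLocus R S := hq
  rw [Algebra.smoothLocus_eq_compl_support_inter] at hmem
  obtain ⟨hsupp, hfree⟩ := hmem
  rw [Set.mem_compl_iff, Module.notMem_support_iff'] at hsupp
  rw [Module.mem_freeLocus] at hfree
  change Module.Free (Localization.AtPrime q) (LocalizedModule q.primeCompl Ω[S⁄R]) at hfree
  haveI := hfree
  -- the cotangent complex of the presentation
  let d := P₀.toExtension.cotangentComplex
  let π := P₀.toExtension.toKaehler
  have hex : Function.Exact d π := Algebra.Extension.exact_cotangentComplex_toKaehler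
  have hπ : Function.Surjective π := Algebra.Extension.toKaehler_surjective
  have hkerd : ∀ z, d z = 0 → ∃ t : S, t ∉ q ∧ t • z = 0 := by
    intro z hz
    let z' : P₀.toExtension.H1Cotangent := ⟨z, hz⟩
    obtain ⟨t, ht, htz⟩ := hsupp (P₀.equivH1Cotangent z')
    refine ⟨t, ht, ?_⟩
    rw [← map_smul] at htz
    have h0 : t • z' = 0 := P₀.equivH1Cotangent.injective (by rw [htz, map_zero])
    exact congrArg Subtype.val h0
  haveI : Module.Finite S P₀.toExtension.CotangentSpace :=
    Module.Finite.of_basis P₀.cotangentSpaceBasis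
  haveI : Module.FinitePresentation S P₀.toExtension.CotangentSpace :=
    Module.finitePresentation_of_projective S _
  obtain ⟨ρ, t, htq, hρ⟩ := Groth.Agent.Lib.Seat56.JacSplit.exists_retraction_of_localized q d π
    hex hπ hkerd inferInstance
  -- the basis of the conormal module
  have hFmem : ∀ j, F j ∈ P₀.toExtension.ker := fun j =>
    hker.symm.le (Ideal.subset_span ⟨j, rfl⟩)
  have hspanC := Algebra.Extension.Cotangent.span_eq_top_of_span_eq_ker (P := P₀.toExtension) F
    hker.symm
  set mkF : Fin c → P₀.toExtension.Cotangent := fun j =>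
    Algebra.Extension.Cotangent.mk ⟨F j, hFmem j⟩ with hmkF
  have hindep : ∀ b : Fin c → S, ∑ j, b j • mkF j = 0 → ∀ j, b j = 0 := by
    intro b hb j
    have hsurj : ∀ j, ∃ s : P₀.toExtension.Ring, algebraMap P₀.toExtension.Ring S s = b j :=
      fun j => P₀.toExtension.algebraMap_surjective (b j)
    choose s hs using hsurj
    have h1 : ∑ j, b j • mkF j =
        Algebra.Extension.Cotangent.mk (P := P₀.toExtension) (∑ j, s j • ⟨F j, hFmem j⟩) := by
      rw [map_sum]
      refine Finset.sum_congr rfl fun j _ => ?_
      rw [map_smul, ← hs j]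
      exact (algebraMap_smul S (s j) (mkF j))
    rw [h1, Algebra.Extension.Cotangent.mk_eq_zero_iff] at hb
    let s' : Fin c → MvPolynomial (Fin n) R := fun j => s j
    have h2 : ((∑ j, s j • (⟨F j, hFmem j⟩ : P₀.toExtension.ker) : P₀.toExtension.ker) :
        P₀.toExtension.Ring) = (show P₀.toExtension.Ring from ∑ j, s' j * F j) := by
      rw [AddSubmonoidClass.coe_finsetSum]
      rfl
    rw [h2] at hb
    have h3 : ∑ j, s' j * F j ∈ Ideal.span (Set.range F) ^ 2 := by
      rw [← hker]; exact hb
    have h4 := mem_span_of_sum_mul_mem_sq hF s' h3 j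
    rw [← hs j]
    exact (Ideal.Quotient.eq_zero_iff_mem (I := Ideal.span (Set.range F))).mpr h4
  -- the Jacobian matrix
  let Jm : Matrix (Fin c) (Fin n) S := fun j i =>
    Ideal.Quotient.mk (Ideal.span (Set.range F)) (pderiv i (F j))
  have hrepr : ∀ j i, P₀.cotangentSpaceBasis.repr (d (mkF j)) i = Jm j i := by
    intro j i
    have h1 : d (mkF j) = (1 : S) ⊗ₜ[P₀.toExtension.Ring] KaehlerDifferential.D R P₀.toExtension.Ring (F j) :=
      Algebra.Extension.cotangentComplex_mk (P := P₀.toExtension) ⟨F j, hFmem j⟩
    rw [h1]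
    have h2 := P₀.cotangentSpaceBasis_repr_one_tmul (F j) i
    rw [← P₀.algebraMap_apply] at h2
    exact h2
  have hd : ∀ j, d (mkF j) = ∑ i, Jm j i • P₀.cotangentSpaceBasis i := by
    intro j
    rw [← P₀.cotangentSpaceBasis.sum_repr (d (mkF j))]
    exact Finset.sum_congr rfl fun i _ => by rw [hrepr]
  -- the matrix of `ρ`
  have hN : ∀ i, ∃ a : Fin c → S, ρ (P₀.cotangentSpaceBasis i) = ∑ k, a k • mkF k := by
    intro i
    have hmem : ρ (P₀.cotangentSpaceBasis i) ∈ Submodule.span S (Set.range mkF) := by
      rw [hspanC]; trivial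
    obtain ⟨a, ha⟩ := (Submodule.mem_span_range_iff_exists_fun S).mp hmem
    exact ⟨a, ha.symm⟩
  choose N hN using hN
  let A : Fin c → Fin c → S := fun j k => ∑ i, Jm j i * N i k
  have hρd : ∀ j, ρ (d (mkF j)) = ∑ k, A j k • mkF k := by
    intro j
    rw [hd, map_sum]
    simp_rw [map_smul, hN, Finset.smul_sum, smul_smul]
    rw [Finset.sum_comm]
    refine Finset.sum_congr rfl fun k _ => ?_
    rw [← Finset.sum_smul]
  have hkey : ∀ j, ∃ u : S, u ∉ q ∧ ∀ k, u * A j k = if j = k then u * t else 0 := by
    intro j
    obtain ⟨u, hu, huj⟩ := hρ (mkF j)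
    refine ⟨u, hu, ?_⟩
    have h0 : ∑ k, (u * A j k - (if j = k then u * t else 0)) • mkF k = 0 := by
      have e1 : ∑ k, (u * A j k - (if j = k then u * t else 0)) • mkF k =
          ∑ k, (u * A j k) • mkF k - ∑ k, (if j = k then u * t else 0) • mkF k := by
        rw [← Finset.sum_sub_distrib]
        exact Finset.sum_congr rfl fun k _ => sub_smul _ _ _
      have e2 : ∑ k, (u * A j k) • mkF k = u • ρ (d (mkF j)) := by
        rw [hρd j, Finset.smul_sum]
        exact Finset.sum_congr rfl fun k _ => mul_smul _ _ _
      have e3 : ∑ k, (if j = k then u * t else 0) • mkF k = (u * t) • mkF j := by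
        rw [Finset.sum_eq_single j]
        · rw [if_pos rfl]
        · intro k _ hk
          rw [if_neg (Ne.symm hk), zero_smul]
        · intro h
          exact absurd (Finset.mem_univ j) h
      rw [e1, e2, e3, huj, sub_self]
    intro k
    exact sub_eq_zero.mp (hindep _ h0 k)
  choose u hu huA using hkey
  -- pass to the residue field
  let κ := q.ResidueField
  let φ : S →+* κ := algebraMap S κ
  have hφ0 : ∀ x : S, φ x = 0 ↔ x ∈ q := fun x => Ideal.algebraMap_residueField_eq_zero
  have hφA : ∀ j k, φ (A j k) = if j = k then φ t else 0 := by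
    intro j k
    have h1 := congrArg φ (huA j k)
    rw [map_mul] at h1
    have hu0 : φ (u j) ≠ 0 := fun h => hu j ((hφ0 _).mp h)
    apply mul_left_cancel₀ hu0
    rw [h1]
    split_ifs
    · rw [map_mul]
    · rw [map_zero, mul_zero]
  let M : Matrix (Fin c) (Fin n) κ := fun j i => φ (Jm j i)
  have hrows : LinearIndependent κ M.row := by
    rw [Fintype.linearIndependent_iff]
    intro a ha k
    have hai : ∀ i, ∑ j, a j * φ (Jm j i) = 0 := by
      intro i
      have h1 := congrFun ha i
      rw [Finset.sum_apply] at h1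
      exact h1
    have h2 : ∑ j, a j * φ (A j k) = a k * φ t := by
      rw [Finset.sum_eq_single k]
      · rw [hφA, if_pos rfl]
      · intro j _ hj
        rw [hφA, if_neg hj, mul_zero]
      · intro h
        exact absurd (Finset.mem_univ k) h
    have h3 : ∑ j, a j * φ (A j k) = 0 := by
      have h4 : ∀ j, a j * φ (A j k) = ∑ i, (a j * φ (Jm j i)) * φ (N i k) := by
        intro j
        rw [map_sum, Finset.mul_sum]
        exact Finset.sum_congr rfl fun i _ => by rw [map_mul, mul_assoc]
      simp_rw [h4]
      rw [Finset.sum_comm]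
      refine Finset.sum_eq_zero fun i _ => ?_
      rw [← Finset.sum_mul, hai i, zero_mul]
    rw [h3] at h2
    have ht0 : φ t ≠ 0 := fun h => htq ((hφ0 _).mp h)
    exact (mul_eq_zero.mp h2.symm).resolve_right ht0
  obtain ⟨I, hI⟩ := Groth.Agent.Lib.Seat56.JacMinor.exists_embedding_det_ne_zero M hrows
  refine ⟨I, fun hmem => hI ?_⟩
  have h5 : (M.submatrix id I) = (φ.comp (Ideal.Quotient.mk (Ideal.span (Set.range F)))).mapMatrix
      (Matrix.of fun j i => MvPolynomial.pderiv (I i) (F j)) := by
    ext j i
    rfl
  rw [h5, ← RingHom.map_det, RingHom.comp_apply]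
  exact (hφ0 _).mpr hmem

end Groth.Agent.Lib.Seat56.JacCrit
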