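import Groth.Agent.Lib.Helper4LambdaBinom
import Groth.Agent.Lib.Helper4Lambda

/-!
# Seat56: `λ_t(c y) = λ_t(y)^c` for a binomial scalar `c`

Let `K` be a binomial ring with its binomial λ-structure and `A` a special λ-ring which is a
`K`-λ-algebra.  Then for `c : K` and `y : A`

  `λ_t(c • y) = Σ_k C(c, k) (λ_t(y) - 1)^k`   and   `γ_t(c • y) = Σ_k C(c, k) (γ_t(y) - 1)^k`,

the right-hand sides being `(binomialSeries A c).subst (· - 1)`.

The proof compares the two sides in the torsion-free ring `K[Y_0, Y_1, …]`, where both satisfy the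
same Newton recursion (logarithmic derivative `c ·` that of `1 + Σ Y_j t^(j+1)`).
-/

set_option autoImplicit false
universe u v
open Finset LambdaRing

namespace Groth.Agent.Lib.Seat56.LamBinom

open Groth.Agent.Lib.Helper4.LUniv
open Groth.Agent.Lib.Helper4.Newton (coeff_ode coeff_lamSeries')

section PS

open PowerSeries

variable {R : Type*} [CommRing R]

theorem coeff_pow_eq_zero_of_lt {g : R⟦X⟧} (hg : constantCoeff g = 0) (d n : ℕ) (h : n < d) :
    coeff n (g ^ d) = 0 := by
  induction d generalizing n with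
  | zero => omega
  | succ d ih =>
    rw [pow_succ, coeff_mul]
    apply sum_eq_zero
    rintro ⟨i, j⟩ hij
    have hij' : i + j = n := by simpa using hij
    by_cases hi : i < d
    · rw [ih i hi, zero_mul]
    · have hj : j = 0 := by omega
      subst hj
      rw [coeff_zero_eq_constantCoeff_apply, hg, mul_zero]

theorem map_derivative' {S : Type*} [CommRing S] (f : R →+* S) (g : R⟦X⟧) :
    PowerSeries.map f (derivative R g) = derivative S (PowerSeries.map f g) := by
  ext n
  simp [coeff_derivative]

/-- the ODE `H' = Ψ H` from its coefficient form -/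
theorem ode_of_coeff {Ψ H : R⟦X⟧}
    (h : ∀ n, coeff (n + 1) H * ((n : R) + 1) =
      ∑ k ∈ range (n + 1), coeff k Ψ * coeff (n - k) H) : derivative R H = Ψ * H := by
  ext n
  rw [coeff_derivative, h n, coeff_mul, Finset.Nat.sum_antidiagonal_eq_sum_range_succ_mk]

end PS

section Generic

open PowerSeries

variable (K : Type u) [CommRing K]

/-- the generic sequence `1, Y_0, Y_1, …` -/
noncomputable def eY : ℕ → MvPolynomial ℕ K :=
  fun n => if n = 0 then 1 else MvPolynomial.X (n - 1)

theorem eY_zero : eY K 0 = 1 := by simp [eY]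

theorem eY_succ (j : ℕ) : eY K (j + 1) = MvPolynomial.X j := by simp [eY]

/-- the generic series `1 + Σ Y_j t^(j+1)` -/
noncomputable def GY : PowerSeries (MvPolynomial ℕ K) := PowerSeries.mk (eY K)

theorem coeff_GY (n : ℕ) : coeff n (GY K) = eY K n := by rw [GY, coeff_mk]

theorem constantCoeff_GY : constantCoeff (GY K) = 1 := by
  rw [← coeff_zero_eq_constantCoeff_apply, coeff_GY, eY_zero]

theorem hasSubst_GY_sub_one : HasSubst (GY K - 1) :=
  HasSubst.of_constantCoeff_zero' (by rw [map_sub, constantCoeff_GY, map_one, sub_self])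

/-- the generic Newton polynomials `ν_k(Y)` -/
noncomputable def nuY (k : ℕ) : MvPolynomial ℕ K :=
  MvPolynomial.aeval (fun i => eY K (i + 1)) (nu k)

/-- the logarithmic derivative of the generic series -/
noncomputable def PsiY : PowerSeries (MvPolynomial ℕ K) :=
  PowerSeries.mk fun k => (-1) ^ k * nuY K (k + 1)

theorem derivative_GY : derivative _ (GY K) = PsiY K * GY K := by
  apply ode_of_coeff
  intro n
  have h := NR_nu (eY K) (eY_zero K) n
  rw [coeff_GY, h]
  apply sum_congr rfl
  intro k _
  rw [PsiY, coeff_mk, coeff_GY]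
  rfl

end Generic

section Binomial

open PowerSeries

variable {K : Type u} [CommRing K] [LambdaOps K] [BinomialRing K]

theorem map_lamSeries_eq_binomialSeries (hKb : IsBinomial K) {B : Type*} [CommRing B] [Algebra K B]
    (c : K) : PowerSeries.map (algebraMap K B) (lamSeries c) = binomialSeries B c := by
  ext n
  rw [coeff_map, coeff_lamSeries', hKb, binomialSeries_coeff, Algebra.algebraMap_eq_smul_one]

theorem ode_binomialSeries (hKb : IsBinomial K) {B : Type*} [CommRing B] [Algebra K B] (c : K) :
    (1 + X) * derivative B (binomialSeries B c) =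
      C (algebraMap K B c) * binomialSeries B c := by
  have h := congrArg (PowerSeries.map (algebraMap K B)) (ode_of_isBinomial hKb c)
  rw [map_mul, map_mul, map_derivative', map_lamSeries_eq_binomialSeries hKb, map_add, map_one,
    map_X, map_C] at h
  exact h

variable (hKb : IsBinomial K) (c : K)

/-- the series `(1 + (G - 1))^c` over `K[Y]` -/
noncomputable def HY : PowerSeries (MvPolynomial ℕ K) :=
  (binomialSeries (MvPolynomial ℕ K) c).subst (GY K - 1)

omit [LambdaOps K] in
theorem constantCoeff_HY : constantCoeff (HY c) = 1 := by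
  have hs := hasSubst_GY_sub_one K
  have h1 : binomialSeries (MvPolynomial ℕ K) c = 1 + (binomialSeries (MvPolynomial ℕ K) c - 1) := by
    ring
  rw [HY, h1, subst_add hs, map_add]
  have h2 : (1 : PowerSeries (MvPolynomial ℕ K)).subst (GY K - 1) = 1 := by
    rw [← coe_substAlgHom hs, map_one]
  rw [h2, map_one]
  have h3 : constantCoeff ((binomialSeries (MvPolynomial ℕ K) c - 1).subst (GY K - 1)) = 0 := by
    have ha : constantCoeff (GY K - 1) = 0 := by
      rw [map_sub, constantCoeff_GY, map_one, sub_self]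
    exact constantCoeff_subst_eq_zero ha _
      (by rw [map_sub, binomialSeries_constantCoeff, map_one, sub_self])
  rw [h3, add_zero]

include hKb in
theorem derivative_HY :
    derivative _ (HY c) = (C (MvPolynomial.C c) * PsiY K) * HY c := by
  have hs := hasSubst_GY_sub_one K
  have hG : IsUnit (GY K) := by
    rw [PowerSeries.isUnit_iff_constantCoeff, constantCoeff_GY]; exact isUnit_one
  have h1 : derivative _ (HY c) =
      (derivative _ (binomialSeries (MvPolynomial ℕ K) c)).subst (GY K - 1) *
        derivative _ (GY K) := by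
    rw [HY, derivative_subst hs]
    congr 1
    rw [map_sub, derivative_one, sub_zero]
  have h2 : GY K * (derivative _ (binomialSeries (MvPolynomial ℕ K) c)).subst (GY K - 1) =
      C (MvPolynomial.C c) * HY c := by
    have h := congrArg (fun f => PowerSeries.subst (GY K - 1) f)
      (ode_binomialSeries (B := MvPolynomial ℕ K) hKb c)
    rw [subst_mul hs, subst_mul hs, subst_add hs, subst_X hs] at h
    have e1 : (1 : PowerSeries (MvPolynomial ℕ K)).subst (GY K - 1) = 1 := by
      rw [← coe_substAlgHom hs, map_one]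
    have e2 : (C (algebraMap K (MvPolynomial ℕ K) c)).subst (GY K - 1) =
        (C (MvPolynomial.C c) : PowerSeries (MvPolynomial ℕ K)) := by
      rw [subst_C]
      rfl
    rw [e1, e2] at h
    rw [HY, ← h]
    ring
  apply hG.mul_left_cancel
  rw [h1, ← mul_assoc, h2, derivative_GY]
  ring

/-- the universal expression of `λ^n(c y)` over `K[Y]`. -/
noncomputable def rho : MvPolynomial (ℕ ⊕ ℕ) ℤ →ₐ[ℤ] MvPolynomial ℕ K :=
  MvPolynomial.aeval (Sum.elim (fun k => MvPolynomial.C (Ring.choose c (k + 1)))
    (fun k => MvPolynomial.X k))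

include hKb in
theorem aeval_choose_nu (k : ℕ) :
    MvPolynomial.aeval (fun i => Ring.choose c (i + 1)) (nu (k + 1)) = c := by
  have h := adamsOp_eq_aeval_nu c k
  rw [adamsOp_of_isBinomial hKb] at h
  have h2 : (fun i => Ring.choose c (i + 1)) = fun i => LambdaOps.lam (i + 1) c := by
    funext i; exact (hKb (i + 1) c).symm
  rw [h2]
  exact h.symm

include hKb in
theorem NR_rho (hP : ∀ n : ℕ, ∃ P : MvPolynomial (Fin n ⊕ Fin n) ℤ, IsMulPoly n P) :
    NR (fun n => rho c (Pt hP n)) (fun k => MvPolynomial.C c * nuY K k) := by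
  have h0 : rho c (Pt hP 0) = 1 := by rw [Pt_zero (Pt hP) (Pt_spec hP), map_one]
  have h := NR_nu (fun n => rho c (Pt hP n)) h0
  apply NR_congr_right h
  intro k
  have h1 : MvPolynomial.aeval (fun i => rho c (Pt hP (i + 1))) (nu (k + 1)) =
      rho c (MvPolynomial.aeval (fun i => Pt hP (i + 1)) (nu (k + 1))) := by
    rw [← AlgHom.comp_apply, MvPolynomial.comp_aeval]
  rw [h1, nu_mulPoly (Pt hP) (Pt_spec hP) k, map_mul, rho, MvPolynomial.aeval_rename,
    MvPolynomial.aeval_rename]
  congr 1
  · have h2 : (Sum.elim (fun k => (MvPolynomial.C (Ring.choose c (k + 1)) : MvPolynomial ℕ K))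
        (fun k => MvPolynomial.X k) ∘ Sum.inl) =
        fun i => (MvPolynomial.C : K →+* MvPolynomial ℕ K).toIntAlgHom (Ring.choose c (i + 1)) := by
      funext i; rfl
    rw [h2]
    have h3 := MvPolynomial.comp_aeval_apply (R := ℤ) (f := fun i => Ring.choose c (i + 1))
      (φ := (MvPolynomial.C : K →+* MvPolynomial ℕ K).toIntAlgHom) (nu (k + 1))
    rw [aeval_choose_nu hKb] at h3
    exact h3.symm

include hKb in
theorem NR_HY : NR (fun n => coeff n (HY c)) (fun k => MvPolynomial.C c * nuY K k) := by
  intro n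
  have h := coeff_ode (derivative_HY hKb c) n
  rw [h]
  apply sum_congr rfl
  intro k _
  congr 1
  rw [coeff_C_mul, PsiY, coeff_mk]
  ring

omit [LambdaOps K] in
theorem natCancel_mvPolynomial : NatCancel (MvPolynomial ℕ K) := by
  intro n a b hab
  have hn : ((n : MvPolynomial ℕ K) + 1) = MvPolynomial.C ((n : K) + 1) := by simp
  simp only [hn] at hab
  ext μ
  have h := congrArg (MvPolynomial.coeff μ) hab
  rw [mul_comm a, mul_comm b, MvPolynomial.coeff_C_mul, MvPolynomial.coeff_C_mul,
    mul_comm _ (MvPolynomial.coeff μ a), mul_comm _ (MvPolynomial.coeff μ b)] at h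
  have := BinomialRing.toIsAddTorsionFree (R := K)
  exact natCancel_of_isAddTorsionFree n h

include hKb in
theorem rho_Pt_eq (hP : ∀ n : ℕ, ∃ P : MvPolynomial (Fin n ⊕ Fin n) ℤ, IsMulPoly n P) (n : ℕ) :
    rho c (Pt hP n) = coeff n (HY c) := by
  refine NR_unique natCancel_mvPolynomial ?_ ?_ (NR_rho hKb c hP) (NR_HY hKb c) n
  · rw [Pt_zero (Pt hP) (Pt_spec hP), map_one]
  · rw [coeff_zero_eq_constantCoeff_apply, constantCoeff_HY]

end Binomial

section Main

open PowerSeries

variable {K : Type u} [CommRing K] [LambdaOps K] [BinomialRing K] (hKb : IsBinomial K)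
  {A : Type v} [CommRing A] [LambdaOps A] [Algebra K A] (hA : IsSpecial A)
  (hAlg : IsLambdaAlg K A)
  (hP : ∀ n : ℕ, ∃ P : MvPolynomial (Fin n ⊕ Fin n) ℤ, IsMulPoly n P)

/-- evaluation `Y_j ↦ λ^(j+1)(y)` -/
noncomputable def phiY (y : A) : MvPolynomial ℕ K →ₐ[K] A :=
  MvPolynomial.aeval (fun j => LambdaOps.lam (j + 1) y)

omit [LambdaOps K] [BinomialRing K] in
theorem map_phiY_GY (y : A) :
    PowerSeries.map (phiY (K := K) y : MvPolynomial ℕ K →+* A) (GY K) = lamSeries y := by
  ext n
  rw [coeff_map, coeff_GY, coeff_lamSeries']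
  rcases n with _ | n
  · rw [eY_zero, LambdaOps.lam_zero]; exact map_one _
  · rw [eY_succ]
    simp [phiY]

omit [LambdaOps K] in
theorem map_phiY_binomialSeries (y : A) (c : K) :
    PowerSeries.map (phiY (K := K) y : MvPolynomial ℕ K →+* A)
      (binomialSeries (MvPolynomial ℕ K) c) = binomialSeries A c := by
  ext n
  rw [coeff_map, binomialSeries_coeff, binomialSeries_coeff]
  change (phiY (K := K) y) (Ring.choose c n • (1 : MvPolynomial ℕ K)) = _
  rw [map_smul, map_one]

include hKb hA hAlg hP in
/-- **(B)**: `λ_t(c y) = λ_t(y)^c`. -/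
theorem lamSeries_algebraMap_mul (c : K) (y : A) :
    lamSeries (algebraMap K A c * y) = (binomialSeries A c).subst (lamSeries y - 1) := by
  ext n
  rw [coeff_lamSeries', lam_mul_eq_ev2 hA hP]
  have h1 : ev2 (algebraMap K A c) y (Pt hP n) = phiY (K := K) y (rho c (Pt hP n)) := by
    rw [rho, ev2]
    have hc := MvPolynomial.comp_aeval_apply (R := ℤ)
      (f := Sum.elim (fun k => (MvPolynomial.C (Ring.choose c (k + 1)) : MvPolynomial ℕ K))
        (fun k => MvPolynomial.X k))
      (φ := (phiY (K := K) y).toRingHom.toIntAlgHom) (Pt hP n)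
    refine Eq.trans ?_ hc.symm
    congr 2
    funext i
    rcases i with i | i
    · simp only [Sum.elim_inl]
      change _ = phiY (K := K) y (MvPolynomial.C (Ring.choose c (i + 1)))
      rw [phiY, MvPolynomial.aeval_C, ← hKb, hAlg]
    · simp only [Sum.elim_inr]
      change _ = phiY (K := K) y (MvPolynomial.X i)
      rw [phiY, MvPolynomial.aeval_X]
  rw [h1, rho_Pt_eq hKb c hP n]
  have h2 : phiY (K := K) y (coeff n (HY c)) =
      coeff n (PowerSeries.map (phiY (K := K) y : MvPolynomial ℕ K →+* A) (HY c)) := by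
    rw [coeff_map]; rfl
  rw [h2, HY]
  have h3 := PowerSeries.map_subst (hasSubst_GY_sub_one K)
    (h := (phiY (K := K) y : MvPolynomial ℕ K →+* A)) (binomialSeries (MvPolynomial ℕ K) c)
  have h4 : PowerSeries.map (phiY (K := K) y : MvPolynomial ℕ K →+* A)
      ((binomialSeries (MvPolynomial ℕ K) c).subst (GY K - 1)) =
      (binomialSeries A c).subst (lamSeries y - 1) := by
    rw [← map_phiY_binomialSeries y c, ← map_phiY_GY (K := K) y]
    have : PowerSeries.map (phiY (K := K) y : MvPolynomial ℕ K →+* A) (GY K) - 1 =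
        PowerSeries.map (phiY (K := K) y : MvPolynomial ℕ K →+* A) (GY K - 1) := by
      rw [map_sub, map_one]
    rw [this]
    exact h3
  rw [h4]

include hKb hA hAlg hP in
/-- **(B)** for the `γ`-series. -/
theorem gammaSeries_algebraMap_mul (c : K) (y : A) :
    Groth.Agent.Lib.Helper4.gammaSeries (algebraMap K A c * y) =
      (binomialSeries A c).subst (Groth.Agent.Lib.Helper4.gammaSeries y - 1) := by
  have hs : HasSubst (lamSeries y - 1) := HasSubst.of_constantCoeff_zero' (by
    rw [map_sub, Groth.Agent.Lib.Helper4.Newton.constantCoeff_lamSeries', map_one, sub_self])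
  have ht := Groth.Agent.Lib.Helper4.hasSubst_tau (K := A)
  rw [Groth.Agent.Lib.Helper4.gammaSeries_eq_subst, lamSeries_algebraMap_mul hKb hA hAlg hP,
    subst_comp_subst_apply hs ht, subst_sub ht, ← Groth.Agent.Lib.Helper4.gammaSeries_eq_subst]
  congr 2
  rw [← coe_substAlgHom ht, map_one]

include hKb hA hAlg hP in
/-- coefficient form of **(B)** for `γ`. -/
theorem gamma_algebraMap_mul (c : K) (y : A) (n : ℕ) :
    gamma n (algebraMap K A c * y) = ∑ d ∈ range (n + 1),
      Ring.choose c d • coeff n ((Groth.Agent.Lib.Helper4.gammaSeries y - 1) ^ d) := by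
  have hc0 : constantCoeff (Groth.Agent.Lib.Helper4.gammaSeries y - 1) = 0 := by
    rw [map_sub, Groth.Agent.Lib.Helper4.constantCoeff_gammaSeries, map_one, sub_self]
  have hs : HasSubst (Groth.Agent.Lib.Helper4.gammaSeries y - 1) :=
    HasSubst.of_constantCoeff_zero' hc0
  rw [← Groth.Agent.Lib.Helper4.coeff_gammaSeries, gammaSeries_algebraMap_mul hKb hA hAlg hP,
    coeff_subst' hs]
  rw [finsum_eq_sum_of_support_subset (s := range (n + 1))]
  · apply sum_congr rfl
    intro d _
    rw [binomialSeries_coeff, smul_assoc, one_smul]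
  · intro d hd
    simp only [Function.mem_support, ne_eq] at hd
    simp only [coe_range, Set.mem_Iio]
    by_contra hlt
    apply hd
    rw [coeff_pow_eq_zero_of_lt hc0 d n (by omega), smul_zero]

end Main

end Groth.Agent.Lib.Seat56.LamBinom
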