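import Groth.Agent.Lib.Seat56LamTrunc

/-!
# Seat56: `γ^p(z · γ^d(n))` is divisible by `γ^d(n)` with a quotient of filtration `≥ p - d`

Let `A` be an augmented `K`-λ-algebra over a binomial ring `K`, `n ∈ A` with `ε n = 0` and
`γ^k(n) = 0` for `k > d` (`d ≥ 1`), `m = γ^d(n)`.

* `gamma_mul_mem`: for `z ∈ Fil^i` and `p ≥ 1`, `γ^p(z m) ∈ (m) · Fil^(max i (p - d))`.
* `gamma_mul_sub_mem`: for `z ∈ Fil^i`, `γ^(d+i)(z m) - (-1)^(d+i-1) (d+i-1)! z m ∈ (m) · Fil^(i+1)`.
* `gamma_sub_natCast_eq_zero`, `gamma_sub_natCast_top`: for `N` with `λ^k(N) = 0`, `k > d`, the element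
  `n = N - d` has `γ^k(n) = 0` for `k > d` and `γ^d(n) = (-1)^d λ_{-1}(N)`.
-/

set_option autoImplicit false
universe u v
open Finset LambdaRing

namespace Groth.Agent.Lib.Seat56.LamDiv

open Groth.Agent.Lib.Helper4 (gammaSeries coeff_gammaSeries gammaSeries_add gammaSeries_zero
  gammaSeries_sum constantCoeff_gammaSeries)
open Groth.Agent.Lib.Seat56.LamOps Groth.Agent.Lib.Seat56.LamSym Groth.Agent.Lib.Seat56.LamFil
  Groth.Agent.Lib.Seat56.LamGr Groth.Agent.Lib.Seat56.LamTrunc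

section ListRepr

variable {A : Type v} [CommRing A] [LambdaOps A]

/-- the family of second components of a list -/
def listFam (l : List (ℕ × A)) : ULift.{v} (Fin l.length) → A := fun s => (l[s.down.1]).2

/-- the monomial `∏ X_{s, i_s - 1}` of a list -/
noncomputable def listPoly (l : List (ℕ × A)) : U (ULift.{v} (Fin l.length)) :=
  ∏ s : ULift.{v} (Fin l.length), (if (l[s.down.1]).1 = 0 then 1
      else MvPolynomial.X (s, (l[s.down.1]).1 - 1))

theorem inW_listPoly (l : List (ℕ × A)) : InW ((l.map Prod.fst).sum) (listPoly l) := by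
  classical
  have hsum : (l.map Prod.fst).sum = ∑ s : ULift.{v} (Fin l.length), (l[s.down.1]).1 := by
    rw [← Fin.sum_univ_fun_getElem l Prod.fst]
    exact (Equiv.sum_comp Equiv.ulift (fun i : Fin l.length => (l[i.1]).1)).symm
  rw [hsum, listPoly]
  apply inW_prod
  intro s _
  by_cases h0 : (l[s.down.1]).1 = 0
  · rw [if_pos h0, h0]; exact inW_one
  · rw [if_neg h0]
    have := inW_X (ι := ULift.{v} (Fin l.length)) (s, (l[s.down.1]).1 - 1)
    have e : (l[s.down.1]).1 - 1 + 1 = (l[s.down.1]).1 := by omega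
    simp only [e] at this
    exact this

theorem evG_listPoly (l : List (ℕ × A)) :
    evG (listFam l) (listPoly l) = (l.map fun p => gamma p.1 p.2).prod := by
  classical
  rw [listPoly, map_prod, ← Fin.prod_univ_fun_getElem l (fun p => gamma p.1 p.2)]
  rw [← Equiv.prod_comp Equiv.ulift (fun i : Fin l.length => gamma (l[i.1]).1 (l[i.1]).2)]
  apply Finset.prod_congr rfl
  intro s _
  by_cases h0 : (l[s.down.1]).1 = 0
  · rw [if_pos h0, map_one]
    simp only [Equiv.ulift_apply]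
    rw [h0, gamma, if_pos rfl]
  · rw [if_neg h0, evG_X]
    simp only [Equiv.ulift_apply, listFam]
    have e : (l[s.down.1]).1 - 1 + 1 = (l[s.down.1]).1 := by omega
    rw [e]

end ListRepr

section CongP

variable {A : Type v} [CommRing A] [LambdaOps A] (I₁ I₂ : Ideal A) (q : ℕ) (c : A)

/-- `γ^j(w) ∈ I₁` for `j ≥ 1` and `γ^q(w) ≡ c w` modulo `I₂`. -/
def CongP (w : A) : Prop := (∀ j, 1 ≤ j → gamma j w ∈ I₁) ∧ gamma q w - c * w ∈ I₂

theorem congP_zero (hq : 1 ≤ q) : CongP I₁ I₂ q c (0 : A) := by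
  refine ⟨fun j hj => ?_, ?_⟩
  · rw [gamma_zero_arg j hj]; exact zero_mem _
  · rw [gamma_zero_arg q hq, mul_zero, sub_zero]; exact zero_mem _

variable {I₁ I₂ q c}

theorem congP_add (hq : 1 ≤ q) (h12 : I₁ * I₁ ≤ I₂) {z w : A} (hz : CongP I₁ I₂ q c z)
    (hw : CongP I₁ I₂ q c w) : CongP I₁ I₂ q c (z + w) := by
  obtain ⟨hz1, hz2⟩ := hz
  obtain ⟨hw1, hw2⟩ := hw
  have hexp : ∀ i, gamma i (z + w) =
      ∑ p ∈ Finset.HasAntidiagonal.antidiagonal i, gamma p.1 z * gamma p.2 w := by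
    intro i
    rw [← coeff_gammaSeries, gammaSeries_add, PowerSeries.coeff_mul]
    apply Finset.sum_congr rfl
    intro p _
    rw [coeff_gammaSeries, coeff_gammaSeries]
  refine ⟨fun i hi => ?_, ?_⟩
  · rw [hexp]
    apply Ideal.sum_mem
    rintro ⟨a, b⟩ hp
    rw [Finset.HasAntidiagonal.mem_antidiagonal] at hp
    simp only at hp ⊢
    rcases Nat.eq_zero_or_pos a with rfl | ha
    · exact Ideal.mul_mem_left _ _ (hw1 b (by omega))
    · exact Ideal.mul_mem_right _ _ (hz1 a ha)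
  · obtain ⟨m', rfl⟩ : ∃ m', q = m' + 1 := ⟨q - 1, by omega⟩
    rw [hexp, Finset.Nat.sum_antidiagonal_eq_sum_range_succ
      (fun a b => gamma a z * gamma b w), Finset.sum_range_succ, Finset.sum_range_succ']
    simp only [Nat.sub_self, Nat.sub_zero, gamma_zero_eq_one, mul_one, one_mul]
    have hmid : ∑ k ∈ range m', gamma (k + 1) z * gamma (m' + 1 - (k + 1)) w ∈ I₂ := by
      apply Ideal.sum_mem
      intro k hk
      rw [Finset.mem_range] at hk
      exact h12 (Ideal.mul_mem_mul (hz1 (k + 1) (by omega)) (hw1 (m' + 1 - (k + 1)) (by omega)))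
    have := Ideal.add_mem _ hmid (Ideal.add_mem _ hz2 hw2)
    convert this using 1
    ring

end CongP

section CongSmul

variable {K : Type u} [CommRing K] [LambdaOps K] [BinomialRing K] (hKb : IsBinomial K)
  {A : Type v} [CommRing A] [LambdaOps A] [Algebra K A] (hA : IsSpecial A)
  (hAlg : IsLambdaAlg K A)
  (hP : ∀ n : ℕ, ∃ P : MvPolynomial (Fin n ⊕ Fin n) ℤ, IsMulPoly n P)
  {I₁ I₂ : Ideal A} {q : ℕ} {c : A}

include hKb hA hAlg hP in
theorem congP_smul (hq : 1 ≤ q) (h12 : I₁ * I₁ ≤ I₂) (k : K) {g : A}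
    (h : CongP I₁ I₂ q c g) : CongP I₁ I₂ q c (algebraMap K A k * g) := by
  obtain ⟨h1, h2⟩ := h
  set hser : PowerSeries A := gammaSeries g - 1 with hh
  have hcoeff : ∀ i, 1 ≤ i → PowerSeries.coeff i hser = gamma i g := by
    intro i hi
    rw [hh, map_sub, coeff_gammaSeries, PowerSeries.coeff_one, if_neg (by omega), sub_zero]
  have hall : AllIn I₁ hser := by
    intro i
    rcases Nat.eq_zero_or_pos i with rfl | hi
    · rw [hh, map_sub, coeff_gammaSeries, gamma_zero_eq_one, PowerSeries.coeff_one, if_pos rfl,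
        sub_self]
      exact zero_mem _
    · rw [hcoeff i hi]; exact h1 i hi
  have hpow : ∀ d, 1 ≤ d → AllIn I₁ (hser ^ d) := by
    intro d hd
    obtain ⟨d', rfl⟩ : ∃ d', d = d' + 1 := ⟨d - 1, by omega⟩
    rw [pow_succ']
    exact allIn_mul_right hall _
  have hpow2 : ∀ d, AllIn I₂ (hser ^ (d + 2)) := by
    intro d
    rw [pow_add, pow_two, mul_comm]
    apply allIn_mul_right
    intro i
    exact h12 (allIn_mul hall hall i)
  refine ⟨fun i hi => ?_, ?_⟩
  · rw [LamBinom.gamma_algebraMap_mul hKb hA hAlg hP]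
    apply Ideal.sum_mem
    intro d _
    rw [Algebra.smul_def]
    apply Ideal.mul_mem_left
    rcases Nat.eq_zero_or_pos d with rfl | hd
    · rw [pow_zero, PowerSeries.coeff_one, if_neg (by omega)]; exact zero_mem _
    · exact hpow d hd i
  · obtain ⟨m', rfl⟩ : ∃ m', q = m' + 1 := ⟨q - 1, by omega⟩
    rw [LamBinom.gamma_algebraMap_mul hKb hA hAlg hP, Finset.sum_range_succ',
      Finset.sum_range_succ']
    have hS : ∑ d ∈ range m', Ring.choose k (d + 1 + 1) •
        PowerSeries.coeff (m' + 1) (hser ^ (d + 1 + 1)) ∈ I₂ := by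
      apply Ideal.sum_mem
      intro d _
      rw [Algebra.smul_def]
      exact Ideal.mul_mem_left _ _ (hpow2 d (m' + 1))
    have hmain := Ideal.add_mem _ hS (Ideal.mul_mem_left _ (algebraMap K A k) h2)
    convert hmain using 1
    rw [zero_add, pow_one, pow_zero, hcoeff (m' + 1) (by omega), PowerSeries.coeff_one,
      if_neg (by omega), smul_zero, add_zero, Ring.choose_one_right, Algebra.smul_def]
    ring

end CongSmul

section LFam

variable {K : Type u} [CommRing K] {A : Type v} [CommRing A] [LambdaOps A] (ε : A →+* K)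
  (m : A) (d i : ℕ)

/-- the graded family `L_0 = ⊤`, `L_j = (m) · Fil^(max i (j - d))`. -/
def Lfam : ℕ → Ideal A := fun j =>
  if j = 0 then ⊤ else Ideal.span {m} * gammaFil ε (max i (j - d))

theorem Lfam_zero : Lfam ε m d i 0 = ⊤ := by rw [Lfam, if_pos rfl]

theorem Lfam_pos {j : ℕ} (hj : 1 ≤ j) :
    Lfam ε m d i j = Ideal.span {m} * gammaFil ε (max i (j - d)) := by
  rw [Lfam, if_neg (by omega)]

variable {m d}

theorem Lfam_mul (hm : m ∈ gammaFil ε d) (a b : ℕ) :
    Lfam ε m d i a * Lfam ε m d i b ≤ Lfam ε m d i (a + b) := by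
  by_cases ha : a = 0
  · subst ha; rw [zero_add]
    exact Ideal.mul_le.mpr (fun r _ s hs => Ideal.mul_mem_left _ r hs)
  by_cases hb : b = 0
  · subst hb; rw [add_zero]
    exact Ideal.mul_le.mpr (fun r hr s _ => Ideal.mul_mem_right s _ hr)
  rw [Lfam_pos ε m d i (by omega : 1 ≤ a), Lfam_pos ε m d i (by omega : 1 ≤ b),
    Lfam_pos ε m d i (by omega : 1 ≤ a + b), Ideal.mul_le]
  intro r hr s hs
  obtain ⟨r', hr', rfl⟩ := Ideal.mem_span_singleton_mul.mp hr
  obtain ⟨s', hs', rfl⟩ := Ideal.mem_span_singleton_mul.mp hs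
  have : m * r' * (m * s') = m * (m * r' * s') := by ring
  rw [this]
  apply Ideal.mul_mem_mul (Ideal.mem_span_singleton_self m)
  refine gammaFil_anti ε ?_ (mul_mem_gammaFil ε (mul_mem_gammaFil ε hm hr') hs')
  rcases le_total i (a - d) with h1 | h1 <;> rcases le_total i (b - d) with h2 | h2 <;>
    rcases le_total i (a + b - d) with h3 | h3 <;>
    simp only [max_eq_left, max_eq_right, h1, h2, h3] <;> omega

theorem Lfam_le {j : ℕ} (hj : 1 ≤ j) :
    Lfam ε m d i j ≤ Ideal.span {m} * gammaFil ε i := by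
  rw [Lfam_pos ε m d i hj]
  exact Ideal.mul_mono_right (gammaFil_anti ε (le_max_left _ _))

theorem Lfam_succ_le (j : ℕ) : Lfam ε m d (i + 1) j ≤ Lfam ε m d i j := by
  by_cases hj : j = 0
  · subst hj; rw [Lfam_zero, Lfam_zero]
  · rw [Lfam_pos ε m d _ (by omega : 1 ≤ j), Lfam_pos ε m d _ (by omega : 1 ≤ j)]
    exact Ideal.mul_mono_right (gammaFil_anti ε (max_le_max (Nat.le_succ i) le_rfl))

theorem span_mul_fil_sq_le (hm : m ∈ gammaFil ε d) (hd : 1 ≤ d) :
    (Ideal.span {m} * gammaFil ε i) * (Ideal.span {m} * gammaFil ε i) ≤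
      Ideal.span {m} * gammaFil ε (i + 1) := by
  rw [Ideal.mul_le]
  intro r hr s hs
  obtain ⟨r', hr', rfl⟩ := Ideal.mem_span_singleton_mul.mp hr
  obtain ⟨s', hs', rfl⟩ := Ideal.mem_span_singleton_mul.mp hs
  have : m * r' * (m * s') = m * (m * r' * s') := by ring
  rw [this]
  apply Ideal.mul_mem_mul (Ideal.mem_span_singleton_self m)
  exact gammaFil_anti ε (by omega) (mul_mem_gammaFil ε (mul_mem_gammaFil ε hm hr') hs')

end LFam

section Main

variable {K : Type u} [CommRing K] [LambdaOps K] [BinomialRing K] (hKb : IsBinomial K)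
  {A : Type v} [CommRing A] [LambdaOps A] [Algebra K A] (hA : IsSpecial A)
  (hAlg : IsLambdaAlg K A)
  (hP : ∀ n : ℕ, ∃ P : MvPolynomial (Fin n ⊕ Fin n) ℤ, IsMulPoly n P)
  (hQ : ∀ i j : ℕ, ∃ Q : MvPolynomial (Fin (i * j)) ℤ, IsCompPoly i j Q)
  (ε : A →+* K) (hεK : ∀ c : K, ε (algebraMap K A c) = c)
  {n : A} (hεn : ε n = 0) {d : ℕ} (hd : 1 ≤ d) (hn : ∀ k, d < k → gamma k n = 0)

/-- the property of `w = z · γ^d(n)` proved by induction. -/
def QP (n : A) (d i : ℕ) (w : A) : Prop :=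
  JGood (Lfam ε (gamma d n) d i) (gammaSeries w) ∧
    CongP (Ideal.span {gamma d n} * gammaFil ε i) (Ideal.span {gamma d n} * gammaFil ε (i + 1))
      (d + i) ((-1 : A) ^ (d + i - 1) * ((d + i - 1).factorial : A)) w

include hεn in
theorem hm_mem : gamma d n ∈ gammaFil ε d := gamma_mem_gammaFil ε hεn d

include hd in
theorem qP_zero (i : ℕ) : QP ε n d i 0 := by
  refine ⟨?_, congP_zero _ _ _ _ (by omega)⟩
  rw [gammaSeries_zero]
  exact jgood_one (Lfam_zero ε _ d i)

include hεn hd in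
theorem qP_add {i : ℕ} {w w' : A} (h : QP ε n d i w) (h' : QP ε n d i w') :
    QP ε n d i (w + w') := by
  refine ⟨?_, congP_add (by omega) (span_mul_fil_sq_le ε i (hm_mem ε hεn) hd) h.2 h'.2⟩
  rw [gammaSeries_add]
  exact jgood_mul (Lfam_mul ε i (hm_mem ε hεn)) h.1 h'.1

include hKb hA hAlg hP hεn hd in
theorem qP_smul {i : ℕ} (k : K) {w : A} (h : QP ε n d i w) :
    QP ε n d i (algebraMap K A k * w) :=
  ⟨jgood_binom hKb hA hAlg hP (Lfam_zero ε _ d i) (Lfam_mul ε i (hm_mem ε hεn)) k h.1,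
    congP_smul hKb hA hAlg hP (by omega) (span_mul_fil_sq_le ε i (hm_mem ε hεn) hd) k h.2⟩

include hd in
/-- from level `i + 1` to level `i`. -/
theorem qP_of_succ {i : ℕ} {z : A} (hz : z ∈ gammaFil ε (i + 1))
    (h : JGood (Lfam ε (gamma d n) d (i + 1)) (gammaSeries (z * gamma d n))) :
    QP ε n d i (z * gamma d n) := by
  have hI : ∀ j, 1 ≤ j → gamma j (z * gamma d n) ∈
      Ideal.span {gamma d n} * gammaFil ε (i + 1) := by
    intro j hj
    have := h j
    rw [coeff_gammaSeries] at this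
    exact Lfam_le ε (i + 1) hj this
  refine ⟨fun j => Lfam_succ_le ε i j (h j), fun j hj => ?_, ?_⟩
  · exact Ideal.mul_mono_right (gammaFil_anti ε (Nat.le_succ i)) (hI j hj)
  · apply Ideal.sub_mem _ (hI _ (by omega))
    apply Ideal.mul_mem_left
    rw [mul_comm z]
    exact Ideal.mul_mem_mul (Ideal.mem_span_singleton_self _) hz

include hA hP hQ hεn hd hn in
/-- the base case: `z` a generator of `Fil^i`. -/
theorem qP_base {i : ℕ} (l : List (ℕ × A)) (hl : ∀ p ∈ l, ε p.2 = 0)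
    (hi : i ≤ (l.map Prod.fst).sum) :
    QP ε n d i ((l.map fun p => gamma p.1 p.2).prod * gamma d n) := by
  classical
  set l' : List (ℕ × A) := (0, n) :: l with hl'
  set x := listFam l' with hx
  set F := listPoly l' with hF
  set n₀ : ULift.{v} (Fin l'.length) := ⟨⟨0, by rw [hl']; simp⟩⟩ with hn₀
  have hxn : x n₀ = n := by rw [hx, listFam, hn₀]; simp [hl']
  have hxε : ∀ s, ε (x s) = 0 := by
    intro s
    rw [hx, listFam]
    have : l'[s.down.1] ∈ (0, n) :: l := List.getElem_mem _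
    rcases List.mem_cons.mp this with h | h
    · rw [h]; exact hεn
    · exact hl _ h
  have hFW : InW i F := by
    refine inW_mono ?_ (inW_listPoly l')
    rw [hl']; simpa using hi
  have hFev : evG x F = (l.map fun p => gamma p.1 p.2).prod := by
    rw [hx, hF, evG_listPoly, hl']
    simp [gamma_zero_eq_one]
  have hadm : ∀ k, d ≤ k → gamma (k + 1) (x n₀) = 0 := by
    intro k hk
    rw [hxn]
    exact hn _ (by omega)
  have hgood : JGood (Lfam ε (gamma d n) d i)
      (gammaSeries ((l.map fun p => gamma p.1 p.2).prod * gamma d n)) := by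
    intro p
    rcases Nat.eq_zero_or_pos p with rfl | hp
    · rw [Lfam_zero]; trivial
    · obtain ⟨G, hG1, hG2, -, hG⟩ := exists_div n₀ hP hQ hd hp hFW
      have h1 := hG A hA x hadm
      rw [hxn, hFev] at h1
      rw [coeff_gammaSeries, h1, Lfam_pos ε _ d i hp]
      apply Ideal.mul_mem_mul (Ideal.mem_span_singleton_self _)
      rcases le_total i (p - d) with h | h
      · rw [max_eq_right h]; exact evG_mem_gammaFil ε x hxε hG2
      · rw [max_eq_left h]; exact evG_mem_gammaFil ε x hxε hG1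
  refine ⟨hgood, fun j hj => ?_, ?_⟩
  · have := hgood j
    rw [coeff_gammaSeries] at this
    exact Lfam_le ε i hj this
  · obtain ⟨G, -, -, hG3, hG⟩ := exists_div n₀ hP hQ hd (by omega : 1 ≤ d + i) hFW
    have h1 := hG A hA x hadm
    rw [hxn, hFev] at h1
    have h3 := evG_mem_gammaFil ε x hxε (hG3 rfl)
    rw [map_sub, map_mul, evG_kill n₀ d x hadm, hFev] at h3
    have hc : evG x (MvPolynomial.C ((-1 : ℤ) ^ (d + i - 1) * ((d + i - 1).factorial : ℤ))) =
        (-1 : A) ^ (d + i - 1) * ((d + i - 1).factorial : A) := by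
      rw [evG, MvPolynomial.aeval_C]
      simp
    rw [hc] at h3
    rw [h1]
    have := Ideal.mul_mem_mul (Ideal.mem_span_singleton_self (gamma d n)) h3
    convert this using 1
    ring

include hKb hA hAlg hP hQ hεK hεn hd hn in
theorem qP_of_mem {i : ℕ} {z : A} (hz : z ∈ gammaFil ε i) : QP ε n d i (z * gamma d n) := by
  have key : ∀ a : A, QP ε n d i (a * z * gamma d n) := by
    rw [gammaFil_eq_span] at hz
    refine Submodule.span_induction (p := fun z _ => ∀ a : A, QP ε n d i (a * z * gamma d n))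
      ?_ ?_ ?_ ?_ hz
    · intro y hy a
      obtain ⟨l, hl, hi, rfl⟩ := hy
      set c : K := ε a with hc
      set a' : A := a - algebraMap K A c with ha'
      have hεa' : ε a' = 0 := by rw [ha', map_sub, hεK, hc, sub_self]
      set y := (l.map fun p => gamma p.1 p.2).prod with hy
      have hsplit : a * y * gamma d n =
          algebraMap K A c * (y * gamma d n) + a' * y * gamma d n := by rw [ha']; ring
      rw [hsplit]
      apply qP_add ε hεn hd
      · exact qP_smul hKb hA hAlg hP ε hεn hd c (qP_base hA hP hQ ε hεn hd hn l hl hi)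
      · have hb := qP_base hA hP hQ ε hεn hd hn (i := i + 1) ((1, a') :: l)
          (by
            intro p hp
            rcases List.mem_cons.mp hp with rfl | hp
            · exact hεa'
            · exact hl p hp)
          (by simp only [List.map_cons, List.sum_cons]; omega)
        simp only [List.map_cons, List.prod_cons, gamma_one_eq] at hb
        refine qP_of_succ ε hd ?_ hb.1
        refine Ideal.subset_span ⟨(1, a') :: l, ?_, ?_, ?_⟩
        · intro p hp
          rcases List.mem_cons.mp hp with rfl | hp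
          · exact hεa'
          · exact hl p hp
        · simp only [List.map_cons, List.sum_cons]; omega
        · simp only [List.map_cons, List.prod_cons, gamma_one_eq, hy]
    · intro a
      rw [mul_zero, zero_mul]
      exact qP_zero ε hd i
    · intro z w _ _ hz hw a
      rw [mul_add, add_mul]
      exact qP_add ε hεn hd (hz a) (hw a)
    · intro b z _ hz a
      rw [smul_eq_mul, ← mul_assoc]
      exact hz (a * b)
  simpa using key 1

include hKb hA hAlg hP hQ hεK hεn hd hn in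
/-- `γ^p(z · γ^d(n)) ∈ (γ^d(n)) · Fil^(max i (p - d))` for `z ∈ Fil^i`, `p ≥ 1`. -/
theorem gamma_mul_mem {i : ℕ} {z : A} (hz : z ∈ gammaFil ε i) (p : ℕ) (hp : 1 ≤ p) :
    gamma p (z * gamma d n) ∈ Ideal.span {gamma d n} * gammaFil ε (max i (p - d)) := by
  have := (qP_of_mem hKb hA hAlg hP hQ ε hεK hεn hd hn hz).1 p
  rwa [coeff_gammaSeries, Lfam_pos ε _ d i hp] at this

include hKb hA hAlg hP hQ hεK hεn hd hn in
/-- `γ^(d+i)(z · γ^d(n)) ≡ (-1)^(d+i-1) (d+i-1)! z γ^d(n)` modulo `(γ^d(n)) · Fil^(i+1)`. -/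
theorem gamma_mul_sub_mem {i : ℕ} {z : A} (hz : z ∈ gammaFil ε i) :
    gamma (d + i) (z * gamma d n) -
        (-1 : A) ^ (d + i - 1) * ((d + i - 1).factorial : A) * (z * gamma d n) ∈
      Ideal.span {gamma d n} * gammaFil ε (i + 1) :=
  (qP_of_mem hKb hA hAlg hP hQ ε hεK hεn hd hn hz).2.2

end Main

section Rank

variable {A : Type v} [CommRing A] [LambdaOps A]

omit [LambdaOps A] in
theorem coeff_one_sub_X_pow (n j : ℕ) :
    PowerSeries.coeff j ((1 - PowerSeries.X : PowerSeries A) ^ n) =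
      (-1 : A) ^ j * (n.choose j : A) := by
  have h1 : (1 - PowerSeries.X : PowerSeries A) =
      PowerSeries.rescale (-1 : A) (1 + PowerSeries.X) := by
    rw [map_add, map_one, PowerSeries.rescale_X, map_neg, map_one]
    ring
  have h2 : ((1 + PowerSeries.X : PowerSeries A)) ^ n =
      (((1 + Polynomial.X : Polynomial A) ^ n : Polynomial A) : PowerSeries A) := by
    rw [Polynomial.coe_pow, Polynomial.coe_add, Polynomial.coe_one, Polynomial.coe_X]
  rw [h1, ← map_pow, PowerSeries.coeff_rescale, h2, Polynomial.coeff_coe,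
    Polynomial.coeff_one_add_X_pow]

/-- the coefficients of `γ_t(N - d)` when `λ^k(N) = 0` for `k > d`. -/
theorem gamma_sub_natCast (h1 : ∀ k : ℕ, 2 ≤ k → LambdaOps.lam k (1 : A) = 0) (N : A) (d : ℕ)
    (hN : ∀ k, d < k → LambdaOps.lam k N = 0) (k : ℕ) :
    gamma k (N - (d : A)) = ∑ i ∈ range (d + 1), LambdaOps.lam i N *
      (if i ≤ k then (-1 : A) ^ (k - i) * ((d - i).choose (k - i) : A) else 0) := by
  rw [← coeff_gammaSeries, Groth.Agent.Lib.Helper4.gammaSeries_sub_natCast h1 N d hN, map_sum]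
  apply Finset.sum_congr rfl
  intro i _
  rw [PowerSeries.coeff_C_mul, PowerSeries.coeff_X_pow_mul']
  split_ifs with h
  · rw [coeff_one_sub_X_pow]
  · rfl

theorem gamma_sub_natCast_eq_zero (h1 : ∀ k : ℕ, 2 ≤ k → LambdaOps.lam k (1 : A) = 0) (N : A)
    (d : ℕ) (hN : ∀ k, d < k → LambdaOps.lam k N = 0) (k : ℕ) (hk : d < k) :
    gamma k (N - (d : A)) = 0 := by
  rw [gamma_sub_natCast h1 N d hN]
  apply Finset.sum_eq_zero
  intro i hi
  rw [Finset.mem_range] at hi
  rw [if_pos (by omega), Nat.choose_eq_zero_of_lt (by omega), Nat.cast_zero, mul_zero, mul_zero]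

theorem gamma_sub_natCast_top (h1 : ∀ k : ℕ, 2 ≤ k → LambdaOps.lam k (1 : A) = 0) (N : A)
    (d : ℕ) (hN : ∀ k, d < k → LambdaOps.lam k N = 0) :
    gamma d (N - (d : A)) =
      (-1 : A) ^ d * ∑ j ∈ range (d + 1), (-1 : A) ^ j * LambdaOps.lam j N := by
  rw [gamma_sub_natCast h1 N d hN, Finset.mul_sum]
  apply Finset.sum_congr rfl
  intro i hi
  rw [Finset.mem_range] at hi
  rw [if_pos (by omega), Nat.choose_self, Nat.cast_one, mul_one]
  have : (-1 : A) ^ (d - i) = (-1) ^ d * (-1) ^ i := by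
    have e : d + i = (d - i) + 2 * i := by omega
    rw [← pow_add, e, pow_add, pow_mul]
    simp
  rw [this]
  ring

end Rank

section Final

variable {K : Type u} [CommRing K] [LambdaOps K] [BinomialRing K] (hKb : IsBinomial K)
  {A : Type v} [CommRing A] [LambdaOps A] [Algebra K A] (hA : IsSpecial A)
  (hAlg : IsLambdaAlg K A)
  (hP : ∀ n : ℕ, ∃ P : MvPolynomial (Fin n ⊕ Fin n) ℤ, IsMulPoly n P)
  (hQ : ∀ i j : ℕ, ∃ Q : MvPolynomial (Fin (i * j)) ℤ, IsCompPoly i j Q)
  (ε : A →+* K) (hεK : ∀ c : K, ε (algebraMap K A c) = c)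
  {d : ℕ} (hd : 1 ≤ d) {N : A} (hN : ∀ k : ℕ, d < k → LambdaOps.lam k N = 0)
  (hNε : ε N = (d : K))
  (hnzd : (∑ j ∈ range (d + 1), (-1 : A) ^ j * LambdaOps.lam j N) ∈ nonZeroDivisors A)

include hKb hA hAlg hP hQ hεK hd hN hNε hnzd in
/-- if `y · λ_{-1}(N) = γ^p(x · λ_{-1}(N))` then `y ∈ Fil^(p - d)`. -/
theorem mem_gammaFil_of_mul_lamAlt_eq_gamma (p : ℕ) (hp : 1 ≤ p) (x y : A)
    (hy : y * (∑ j ∈ range (d + 1), (-1 : A) ^ j * LambdaOps.lam j N) =
      gamma p (x * (∑ j ∈ range (d + 1), (-1 : A) ^ j * LambdaOps.lam j N))) :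
    y ∈ gammaFil ε (p - d) := by
  set μ : A := ∑ j ∈ range (d + 1), (-1 : A) ^ j * LambdaOps.lam j N with hμ
  set n : A := N - (d : A) with hn
  have hεn : ε n = 0 := by rw [hn, map_sub, hNε, map_natCast, sub_self]
  have hvan : ∀ k, d < k → gamma k n = 0 :=
    fun k hk => gamma_sub_natCast_eq_zero hA.lam_one_eq_zero N d hN k hk
  have htop : gamma d n = (-1 : A) ^ d * μ := gamma_sub_natCast_top hA.lam_one_eq_zero N d hN
  have hsq : (-1 : A) ^ d * (-1 : A) ^ d = 1 := by
    rw [← pow_add, ← two_mul, pow_mul, neg_one_sq, one_pow]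
  have hxm : x * μ = ((-1 : A) ^ d * x) * gamma d n := by
    rw [htop]
    calc x * μ = ((-1 : A) ^ d * (-1 : A) ^ d) * (x * μ) := by rw [hsq, one_mul]
      _ = _ := by ring
  have hz : (-1 : A) ^ d * x ∈ gammaFil ε 0 := by rw [gammaFil_zero]; trivial
  have h1 := gamma_mul_mem hKb hA hAlg hP hQ ε hεK hεn hd hvan hz p hp
  rw [← hxm, ← hy, max_eq_right (Nat.zero_le _)] at h1
  obtain ⟨h, hh, e⟩ := Ideal.mem_span_singleton_mul.mp h1
  rw [htop] at e
  have e2 : ((-1 : A) ^ d * h) * μ = y * μ := by rw [← e]; ring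
  have e3 : (-1 : A) ^ d * h = y :=
    (mul_cancel_right_mem_nonZeroDivisors hnzd).mp e2
  rw [← e3]
  exact Ideal.mul_mem_left _ _ hh

include hKb hA hAlg hP hQ hεK hd hN hNε hnzd in
/-- if `x ∈ Fil^i` and `y · λ_{-1}(N) = γ^(d+i)(x · λ_{-1}(N))` then
`y ≡ (-1)^(d+i-1) (d+i-1)! x` modulo `Fil^(i+1)`. -/
theorem sub_mem_gammaFil_of_mul_lamAlt_eq_gamma (i : ℕ) (x : A) (hx : x ∈ gammaFil ε i) (y : A)
    (hy : y * (∑ j ∈ range (d + 1), (-1 : A) ^ j * LambdaOps.lam j N) =
      gamma (d + i) (x * (∑ j ∈ range (d + 1), (-1 : A) ^ j * LambdaOps.lam j N))) :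
    y - (-1 : A) ^ (d + i - 1) * ((d + i - 1).factorial : A) * x ∈ gammaFil ε (i + 1) := by
  set μ : A := ∑ j ∈ range (d + 1), (-1 : A) ^ j * LambdaOps.lam j N with hμ
  set n : A := N - (d : A) with hn
  have hεn : ε n = 0 := by rw [hn, map_sub, hNε, map_natCast, sub_self]
  have hvan : ∀ k, d < k → gamma k n = 0 :=
    fun k hk => gamma_sub_natCast_eq_zero hA.lam_one_eq_zero N d hN k hk
  have htop : gamma d n = (-1 : A) ^ d * μ := gamma_sub_natCast_top hA.lam_one_eq_zero N d hN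
  have hsq : (-1 : A) ^ d * (-1 : A) ^ d = 1 := by
    rw [← pow_add, ← two_mul, pow_mul, neg_one_sq, one_pow]
  have hxm : x * μ = ((-1 : A) ^ d * x) * gamma d n := by
    rw [htop]
    calc x * μ = ((-1 : A) ^ d * (-1 : A) ^ d) * (x * μ) := by rw [hsq, one_mul]
      _ = _ := by ring
  have hz : (-1 : A) ^ d * x ∈ gammaFil ε i := Ideal.mul_mem_left _ _ hx
  have h1 := gamma_mul_sub_mem hKb hA hAlg hP hQ ε hεK hεn hd hvan hz
  rw [← hxm, ← hy] at h1
  obtain ⟨h, hh, e⟩ := Ideal.mem_span_singleton_mul.mp h1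
  rw [htop] at e
  set c : A := (-1 : A) ^ (d + i - 1) * ((d + i - 1).factorial : A) with hc
  have e2 : ((-1 : A) ^ d * h) * μ = (y - c * x) * μ := by
    have e' : (y - c * x) * μ = y * μ - c * (x * μ) := by ring
    rw [e', ← e]; ring
  have e3 : (-1 : A) ^ d * h = y - c * x :=
    (mul_cancel_right_mem_nonZeroDivisors hnzd).mp e2
  rw [← e3]
  exact Ideal.mul_mem_left _ _ hh

end Final

end Groth.Agent.Lib.Seat56.LamDiv
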