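import Groth.Agent.Lib.Helper4LambdaBinom
import Groth.Agent.Lib.Helper4Lambda

/-!
# Seat56: natural operations of special λ-rings as polynomials

`U ι = ℤ[X_{s,k}]` (`s ∈ ι`, `k ∈ ℕ`).  For a family `x : ι → A` in a λ-ring, `evL x` sends
`X_{s,k}` to `λ^{k+1}(x_s)` and `evG x` sends it to `γ^{k+1}(x_s)`.

* `exists_repL`: for every `F : U ι` and `n` there is `G : U ι` with `λ^n(evL x F) = evL x G` for every
  special λ-ring `A` (in a fixed universe) and every family `x`.
* `exists_repG`: the same for `γ^n` and `evG`.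
-/

set_option autoImplicit false
universe v w
open MvPolynomial Finset LambdaRing

namespace Groth.Agent.Lib.Seat56.LamOps

open Groth.Agent.Lib.Helper4.LUniv (Pt Qt ev1 ev2 lam_mul_eq_ev2 lam_lam_eq_ev1)

/-- The ring of operation polynomials on generators indexed by `ι`. -/
abbrev U (ι : Type w) : Type w := MvPolynomial (ι × ℕ) ℤ

section Ev

variable {ι : Type w} {A : Type v} [CommRing A] [LambdaOps A]

/-- `X_{s,k} ↦ λ^{k+1}(x_s)`. -/
noncomputable def evL (x : ι → A) : U ι →ₐ[ℤ] A :=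
  aeval (fun p : ι × ℕ => LambdaOps.lam (p.2 + 1) (x p.1))

/-- `X_{s,k} ↦ γ^{k+1}(x_s)`. -/
noncomputable def evG (x : ι → A) : U ι →ₐ[ℤ] A :=
  aeval (fun p : ι × ℕ => gamma (p.2 + 1) (x p.1))

@[simp] theorem evL_X (x : ι → A) (p : ι × ℕ) : evL x (X p) = LambdaOps.lam (p.2 + 1) (x p.1) := by
  simp [evL]

@[simp] theorem evG_X (x : ι → A) (p : ι × ℕ) : evG x (X p) = gamma (p.2 + 1) (x p.1) := by
  simp [evG]

theorem lam_zero_arg (n : ℕ) : LambdaOps.lam n (0 : A) = if n = 0 then 1 else 0 := by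
  have := congrArg (PowerSeries.coeff n) (Groth.Agent.Lib.Helper4.lamSeries_zero (K := A))
  rwa [Groth.Agent.Lib.Helper4.Newton.coeff_lamSeries', PowerSeries.coeff_one] at this

theorem lam_neg_rec (n : ℕ) (y : A) :
    LambdaOps.lam (n + 1) (-y) =
      -∑ i ∈ range (n + 1), LambdaOps.lam (i + 1) y * LambdaOps.lam (n - i) (-y) := by
  have h := LambdaOps.lam_add (n + 1) y (-y)
  rw [add_neg_cancel, lam_zero_arg, if_neg (Nat.succ_ne_zero n), sum_range_succ', LambdaOps.lam_zero,
    one_mul] at h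
  have h2 : LambdaOps.lam (n + 1) (-y) =
      -∑ i ∈ range (n + 1), LambdaOps.lam (i + 1) y * LambdaOps.lam (n + 1 - (i + 1)) (-y) := by
    rw [eq_neg_iff_add_eq_zero, add_comm]
    exact h.symm
  rw [h2]
  congr 1
  apply sum_congr rfl
  intro i _
  rw [Nat.add_sub_add_right]

end Ev

variable {ι : Type w}

/-- `G` represents `λ^n ∘ F` on all special λ-rings in universe `v`. -/
def RepL (n : ℕ) (F G : U ι) : Prop :=
  ∀ (A : Type v) [CommRing A] [LambdaOps A], IsSpecial A → ∀ x : ι → A,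
    LambdaOps.lam n (evL x F) = evL x G

/-- all `λ^n ∘ F` are representable -/
def Rep (F : U ι) : Prop := ∀ n : ℕ, ∃ G : U ι, RepL.{v} n F G

theorem rep_zero : Rep.{v} (0 : U ι) := by
  intro n
  refine ⟨if n = 0 then 1 else 0, ?_⟩
  intro A _ _ _ x
  rw [map_zero, lam_zero_arg]
  split_ifs <;> simp

theorem rep_one : Rep.{v} (1 : U ι) := by
  intro n
  refine ⟨if n ≤ 1 then 1 else 0, ?_⟩
  intro A _ _ hA x
  rw [map_one]
  rcases n with _ | _ | n
  · simp [LambdaOps.lam_zero]
  · simp [LambdaOps.lam_one]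
  · rw [hA.lam_one_eq_zero _ (by omega), if_neg (by omega), map_zero]

theorem rep_add {F F' : U ι} (hF : Rep.{v} F) (hF' : Rep.{v} F') : Rep.{v} (F + F') := by
  intro n
  choose G hG using hF
  choose G' hG' using hF'
  refine ⟨∑ i ∈ range (n + 1), G i * G' (n - i), ?_⟩
  intro A _ _ hA x
  rw [map_add, LambdaOps.lam_add, map_sum]
  apply sum_congr rfl
  intro i _
  rw [map_mul, hG i A hA x, hG' (n - i) A hA x]

theorem rep_neg {F : U ι} (hF : Rep.{v} F) : Rep.{v} (-F) := by
  choose G hG using hF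
  intro n
  induction n using Nat.strong_induction_on with
  | _ n ih =>
    rcases n with _ | n
    · refine ⟨1, ?_⟩
      intro A _ _ _ x
      rw [LambdaOps.lam_zero, map_one]
    · choose! H hH using ih
      refine ⟨-∑ i ∈ range (n + 1), G (i + 1) * H (n - i), ?_⟩
      intro A _ _ hA x
      rw [map_neg, lam_neg_rec, map_neg, map_sum]
      congr 1
      apply sum_congr rfl
      intro i hi
      rw [mem_range] at hi
      rw [map_mul, hG (i + 1) A hA x, ← hH (n - i) (by omega) A hA x, map_neg]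

theorem rep_intCast (a : ℤ) : Rep.{v} (C a : U ι) := by
  have hnat : ∀ m : ℕ, Rep.{v} (C (m : ℤ) : U ι) := by
    intro m
    induction m with
    | zero => simpa using rep_zero
    | succ m ih =>
      have : (C ((m + 1 : ℕ) : ℤ) : U ι) = C (m : ℤ) + 1 := by
        push_cast
        rw [map_add, map_one]
      rw [this]
      exact rep_add ih rep_one
  rcases a with m | m
  · exact hnat m
  · have : (C (Int.negSucc m) : U ι) = -C ((m + 1 : ℕ) : ℤ) := by
      rw [← map_neg]
      rfl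
    rw [this]
    exact rep_neg (hnat (m + 1))

theorem rep_mul (hP : ∀ n : ℕ, ∃ P : MvPolynomial (Fin n ⊕ Fin n) ℤ, IsMulPoly n P)
    {F F' : U ι} (hF : Rep.{v} F) (hF' : Rep.{v} F') : Rep.{v} (F * F') := by
  intro n
  choose G hG using hF
  choose G' hG' using hF'
  refine ⟨aeval (Sum.elim (fun i => G (i + 1)) (fun i => G' (i + 1))) (Pt hP n), ?_⟩
  intro A _ _ hA x
  rw [map_mul, lam_mul_eq_ev2 hA hP, ev2, ← AlgHom.comp_apply, comp_aeval]
  congr 2
  funext i
  rcases i with i | i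
  · simp only [Sum.elim_inl]
    exact hG (i + 1) A hA x
  · simp only [Sum.elim_inr]
    exact hG' (i + 1) A hA x

theorem rep_X (hQ : ∀ i j : ℕ, ∃ Q : MvPolynomial (Fin (i * j)) ℤ, IsCompPoly i j Q)
    (p : ι × ℕ) : Rep.{v} (X p : U ι) := by
  intro n
  refine ⟨rename (fun i : ℕ => (p.1, i)) (Qt hQ (p.2 + 1) n), ?_⟩
  intro A _ _ hA x
  rw [evL_X, lam_lam_eq_ev1 hA hQ, ev1, evL, aeval_rename]
  rfl

/-- Every operation polynomial is closed under the `λ^n`. -/
theorem exists_repL (hP : ∀ n : ℕ, ∃ P : MvPolynomial (Fin n ⊕ Fin n) ℤ, IsMulPoly n P)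
    (hQ : ∀ i j : ℕ, ∃ Q : MvPolynomial (Fin (i * j)) ℤ, IsCompPoly i j Q) (F : U ι) :
    Rep.{v} F := by
  induction F using MvPolynomial.induction_on with
  | C a => exact rep_intCast a
  | add p q hp hq => exact rep_add hp hq
  | mul_X p i hp => exact rep_mul hP hp (rep_X hQ i)

/-! ### From `λ` to `γ` and back -/

/-- `γ^{k+1} = Σ_{j ≤ k} C(k,j) λ^{j+1}` as an operation polynomial. -/
noncomputable def theta (p : ι × ℕ) : U ι :=
  ∑ j ∈ range (p.2 + 1), (Nat.choose p.2 j : U ι) * X (p.1, j)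

theorem gamma_succ_eq {A : Type v} [CommRing A] [LambdaOps A] (k : ℕ) (y : A) :
    gamma (k + 1) y = ∑ j ∈ range (k + 1), (Nat.choose k j : A) * LambdaOps.lam (j + 1) y := by
  rw [gamma, if_neg (Nat.succ_ne_zero k), sum_range_succ']
  simp

theorem evL_theta {A : Type v} [CommRing A] [LambdaOps A] (x : ι → A) (p : ι × ℕ) :
    evL x (theta p) = gamma (p.2 + 1) (x p.1) := by
  rw [theta, map_sum, gamma_succ_eq]
  apply sum_congr rfl
  intro j _
  rw [map_mul, map_natCast, evL_X]

/-- change of variables `γ ↦ λ` -/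
noncomputable def toL : U ι →ₐ[ℤ] U ι := aeval theta

theorem evL_toL {A : Type v} [CommRing A] [LambdaOps A] (x : ι → A) (F : U ι) :
    evL x (toL F) = evG x F := by
  rw [toL, ← AlgHom.comp_apply, comp_aeval, evG]
  congr 2
  funext p
  exact evL_theta x p

/-- `λ^{k+1}` in terms of the `γ^{j+1}`, `j ≤ k`, by recursion. -/
noncomputable def thetaInv (s : ι) : ℕ → U ι
  | k => X (s, k) - ∑ j : Fin k, (Nat.choose k j : U ι) * thetaInv s j
decreasing_by exact j.2

theorem thetaInv_eq (s : ι) (k : ℕ) :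
    thetaInv s k = X (s, k) - ∑ j ∈ range k, (Nat.choose k j : U ι) * thetaInv s j := by
  rw [thetaInv, Finset.sum_range]

theorem evG_thetaInv {A : Type v} [CommRing A] [LambdaOps A] (x : ι → A) (s : ι) (k : ℕ) :
    evG x (thetaInv s k) = LambdaOps.lam (k + 1) (x s) := by
  induction k using Nat.strong_induction_on with
  | _ k ih =>
    rw [thetaInv_eq, map_sub, evG_X, map_sum, gamma_succ_eq, sum_range_succ, Nat.choose_self,
      Nat.cast_one, one_mul]
    have : ∑ j ∈ range k, evG x ((Nat.choose k j : U ι) * thetaInv s j) =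
        ∑ j ∈ range k, (Nat.choose k j : A) * LambdaOps.lam (j + 1) (x s) := by
      apply sum_congr rfl
      intro j hj
      rw [mem_range] at hj
      rw [map_mul, map_natCast, ih j hj]
    rw [this]
    simp

/-- change of variables `λ ↦ γ` -/
noncomputable def toG : U ι →ₐ[ℤ] U ι := aeval (fun p : ι × ℕ => thetaInv p.1 p.2)

theorem evG_toG {A : Type v} [CommRing A] [LambdaOps A] (x : ι → A) (F : U ι) :
    evG x (toG F) = evL x F := by
  rw [toG, ← AlgHom.comp_apply, comp_aeval, evL]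
  congr 2
  funext p
  exact evG_thetaInv x p.1 p.2

/-- `G` represents `γ^n ∘ F` (in the `γ`-variables) on all special λ-rings in universe `v`. -/
def RepG (n : ℕ) (F G : U ι) : Prop :=
  ∀ (A : Type v) [CommRing A] [LambdaOps A], IsSpecial A → ∀ x : ι → A,
    gamma n (evG x F) = evG x G

theorem exists_repG (hP : ∀ n : ℕ, ∃ P : MvPolynomial (Fin n ⊕ Fin n) ℤ, IsMulPoly n P)
    (hQ : ∀ i j : ℕ, ∃ Q : MvPolynomial (Fin (i * j)) ℤ, IsCompPoly i j Q) (F : U ι) (n : ℕ) :
    ∃ G : U ι, RepG.{v} n F G := by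
  choose H hH using exists_repL.{v} hP hQ (toL F)
  refine ⟨toG (if n = 0 then 1 else ∑ j ∈ range (n + 1),
    (Nat.choose (n - 1) (j - 1) : U ι) * (if j = 0 then 0 else H j)), ?_⟩
  intro A _ _ hA x
  rw [evG_toG, gamma]
  split_ifs with h
  · rw [map_one]
  · rw [map_sum]
    apply sum_congr rfl
    intro j _
    rw [map_mul, map_natCast]
    congr 1
    split_ifs with hj
    · rw [map_zero]
    · rw [← hH j A hA x, evL_toL]

end Groth.Agent.Lib.Seat56.LamOps
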