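import Mathlib
import Groth.Agent.Lib.Helper4SymWeight

/-!
# Seat56: elementary symmetric functions of several families of variables

For a finite index type `ι` and `N : ℕ`, `efam N s k` is the `k`-th elementary symmetric polynomial of
the variables `u_{s,a}` (`a : Fin N`) in `ℚ[u_{s,a} : s ∈ ι, a < N]`.

* `algebraicIndependent_egen`: the `e_{k+1}(u_{s,·})`, `s ∈ ι`, `k < N`, are algebraically independent
  over `ℚ` (transcendence degree argument: the polynomial ring is integral over the subalgebra they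
  generate).
* `EN ι N : ℤ[X_{s,k} : s ∈ ι, k ∈ ℕ] → ℚ[u]`, `X_{s,k} ↦ e_{k+1}(u_{s,·})`.
  `EN_eq_zero`: injective on polynomials involving only `X_{s,k}` with `k < N`.
* `inW_of_highDeg`: if all monomials of `EN ι N F` have degree `≥ n` for all `N`, then all monomials
  of `F` have weight `≥ n` (`X_{s,k}` of weight `k + 1`); `highDeg_EN_of_inW` is the converse.
-/

set_option autoImplicit false
universe v
open MvPolynomial Finset

namespace Groth.Agent.Lib.Seat56.LamSym

open Groth.Agent.Lib.Helper4 (HighDeg highDeg_of_zero esymm_isHomogeneous')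

variable {ι : Type v} (N : ℕ)

/-- `e_k` of the variables `(s, ·)`. -/
noncomputable def efam (s : ι) (k : ℕ) : MvPolynomial (ι × Fin N) ℚ :=
  rename (fun a : Fin N => (s, a)) (esymm (Fin N) ℚ k)

theorem efam_isHomogeneous (s : ι) (k : ℕ) : (efam N s k).IsHomogeneous k :=
  (esymm_isHomogeneous' (R := ℚ) (Fin N) k).rename_isHomogeneous

theorem efam_zero (s : ι) : efam N s 0 = 1 := by
  rw [efam, esymm_zero, map_one]

theorem efam_eq_sum (s : ι) (k : ℕ) :
    efam N s k = ∑ t ∈ (univ : Finset (Fin N)).powersetCard k,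
      ∏ a ∈ t, (X (s, a) : MvPolynomial (ι × Fin N) ℚ) := by
  rw [efam, esymm, map_sum]
  apply sum_congr rfl
  intro t _
  rw [map_prod]
  simp

/-- the generators `e_{k+1}(u_{s,·})`, `k < N`. -/
noncomputable def egen (p : ι × Fin N) : MvPolynomial (ι × Fin N) ℚ := efam N p.1 (p.2 + 1)

theorem efam_mem_adjoin (s : ι) (j : ℕ) (hj : j ≤ N) :
    efam N s j ∈ Algebra.adjoin ℚ (Set.range (egen (ι := ι) N)) := by
  rcases j with _ | j
  · rw [efam_zero]; exact Subalgebra.one_mem _
  · exact Algebra.subset_adjoin ⟨(s, ⟨j, by omega⟩), rfl⟩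

theorem isIntegral_X (s : ι) (a : Fin N) :
    IsIntegral (Algebra.adjoin ℚ (Set.range (egen (ι := ι) N)))
      (X (s, a) : MvPolynomial (ι × Fin N) ℚ) := by
  classical
  set S := Algebra.adjoin ℚ (Set.range (egen (ι := ι) N)) with hS
  set m : Multiset (MvPolynomial (ι × Fin N) ℚ) :=
    (univ : Finset (Fin N)).val.map (fun b => (X (s, b) : MvPolynomial (ι × Fin N) ℚ)) with hm
  set f : Polynomial (MvPolynomial (ι × Fin N) ℚ) :=
    (m.map fun t => Polynomial.X - Polynomial.C t).prod with hf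
  have hcard : Multiset.card m = N := by simp [hm]
  have hmonic : f.Monic :=
    Polynomial.monic_multiset_prod_of_monic _ _ (fun t _ => Polynomial.monic_X_sub_C t)
  have hroot : f.eval (X (s, a)) = 0 := by
    rw [hf, Polynomial.eval_multiset_prod]
    apply Multiset.prod_eq_zero
    rw [Multiset.mem_map]
    refine ⟨Polynomial.X - Polynomial.C (X (s, a)), ?_, by simp⟩
    rw [Multiset.mem_map]
    exact ⟨X (s, a), by simp [hm], rfl⟩
  have hes : ∀ j, j ≤ N → m.esymm j ∈ S := by
    intro j hj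
    have : m.esymm j = efam N s j := by
      rw [efam, hm]
      have hren : (rename (fun a : Fin N => (s, a)) (esymm (Fin N) ℚ j) :
          MvPolynomial (ι × Fin N) ℚ) =
          aeval (fun b : Fin N => (X (s, b) : MvPolynomial (ι × Fin N) ℚ)) (esymm (Fin N) ℚ j) := by
        rw [rename_eq_aeval]; rfl
      rw [hren]
      exact (aeval_esymm_eq_multiset_esymm (Fin N) ℚ j
        (fun b : Fin N => (X (s, b) : MvPolynomial (ι × Fin N) ℚ))).symm
    rw [this]
    exact efam_mem_adjoin N s j hj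
  have hlift : f ∈ Polynomial.lifts (algebraMap S (MvPolynomial (ι × Fin N) ℚ)) := by
    rw [hf, Multiset.prod_X_sub_X_eq_sum_esymm]
    apply Subsemiring.sum_mem
    intro j hj
    rw [mem_range, hcard] at hj
    apply Subsemiring.mul_mem
    · apply Subsemiring.pow_mem
      have : (-1 : Polynomial (MvPolynomial (ι × Fin N) ℚ)) =
          Polynomial.C (algebraMap S (MvPolynomial (ι × Fin N) ℚ) (-1)) := by simp
      rw [this]
      exact Polynomial.C_mem_lifts _ _
    · apply Subsemiring.mul_mem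
      · have : Polynomial.C (m.esymm j) = Polynomial.C
            (algebraMap S (MvPolynomial (ι × Fin N) ℚ) ⟨m.esymm j, hes j (by omega)⟩) := rfl
        rw [this]
        exact Polynomial.C_mem_lifts _ _
      · exact Subsemiring.pow_mem _ (Polynomial.X_mem_lifts _) _
  obtain ⟨q, hq, -, hqm⟩ := Polynomial.lifts_and_natDegree_eq_and_monic hlift hmonic
  refine ⟨q, hqm, ?_⟩
  rw [← Polynomial.eval_map, hq]
  exact hroot

theorem isIntegral_all (p : MvPolynomial (ι × Fin N) ℚ) :
    IsIntegral (Algebra.adjoin ℚ (Set.range (egen (ι := ι) N))) p := by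
  induction p using MvPolynomial.induction_on with
  | C c =>
    have : (C c : MvPolynomial (ι × Fin N) ℚ) =
        algebraMap (Algebra.adjoin ℚ (Set.range (egen (ι := ι) N))) (MvPolynomial (ι × Fin N) ℚ)
          (algebraMap ℚ _ c) := rfl
    rw [this]
    exact isIntegral_algebraMap
  | add p q hp hq => exact hp.add hq
  | mul_X p i hp => exact hp.mul (isIntegral_X N i.1 i.2)

theorem algebraicIndependent_egen [Finite ι] :
    AlgebraicIndependent ℚ (egen (ι := ι) N) := by
  have : Algebra.IsIntegral (Algebra.adjoin ℚ (Set.range (egen (ι := ι) N)))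
      (MvPolynomial (ι × Fin N) ℚ) := ⟨isIntegral_all N⟩
  have : Algebra.IsAlgebraic (Algebra.adjoin ℚ (Set.range (egen (ι := ι) N)))
      (MvPolynomial (ι × Fin N) ℚ) := Algebra.IsIntegral.isAlgebraic
  have le : Cardinal.mk (ι × Fin N) ≤ Algebra.trdeg ℚ (MvPolynomial (ι × Fin N) ℚ) := by
    rw [MvPolynomial.trdeg_of_isDomain, Cardinal.lift_uzero]
  exact (Algebra.IsAlgebraic.isTranscendenceBasis_of_le_trdeg_of_finite ℚ (egen (ι := ι) N) le).1

/-! ### The universal evaluation -/

/-- `X_{s,k} ↦ e_{k+1}(u_{s,·})`. -/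
noncomputable def EN (ι : Type v) (N : ℕ) :
    MvPolynomial (ι × ℕ) ℤ →ₐ[ℤ] MvPolynomial (ι × Fin N) ℚ :=
  aeval (fun p : ι × ℕ => efam N p.1 (p.2 + 1))

@[simp] theorem EN_X (p : ι × ℕ) : EN ι N (X p) = efam N p.1 (p.2 + 1) := by
  simp [EN]

theorem EN_eq_zero [Finite ι] (F : MvPolynomial (ι × ℕ) ℤ)
    (hF : ∀ p ∈ F.vars, p.2 < N) (h : EN ι N F = 0) : F = 0 := by
  classical
  set j : ι × Fin N → ι × ℕ := Prod.map id Fin.val with hj
  have hjinj : Function.Injective j := Function.Injective.prodMap Function.injective_id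
    Fin.val_injective
  have hvars : (F.vars : Set (ι × ℕ)) ⊆ Set.range j := by
    intro p hp
    exact ⟨(p.1, ⟨p.2, hF p hp⟩), rfl⟩
  obtain ⟨F₀, hF₀⟩ := exists_rename_eq_of_vars_subset_range F j hjinj hvars
  have h1 : EN ι N F = aeval (egen (ι := ι) N) (map (Int.castRingHom ℚ) F₀) := by
    rw [← hF₀, EN, aeval_rename]
    have : (map (Int.castRingHom ℚ) F₀) = map (algebraMap ℤ ℚ) F₀ := rfl
    rw [this, aeval_map_algebraMap]
    rfl
  rw [h1] at h
  have h2 : map (Int.castRingHom ℚ) F₀ = 0 := by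
    apply algebraicIndependent_egen N
    rw [h, map_zero]
  have h3 : F₀ = 0 := by
    apply map_injective (Int.castRingHom ℚ) Int.cast_injective
    rw [h2, map_zero]
  rw [← hF₀, h3, map_zero]

/-! ### Weights -/

/-- the weight of the variable `X_{s,k}` is `k + 1`. -/
def wfun : ι × ℕ → ℕ := fun p => p.2 + 1

/-- all monomials of `F` have weight `≥ n`. -/
def InW (n : ℕ) (F : MvPolynomial (ι × ℕ) ℤ) : Prop :=
  ∀ μ ∈ F.support, n ≤ Finsupp.weight (wfun (ι := ι)) μ

theorem EN_monomial_isHomogeneous (μ : ι × ℕ →₀ ℕ) (c : ℤ) :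
    (EN ι N (monomial μ c)).IsHomogeneous (Finsupp.weight (wfun (ι := ι)) μ) := by
  rw [EN, aeval_monomial]
  have h1 : (∏ p ∈ μ.support, efam N p.1 (p.2 + 1) ^ μ p).IsHomogeneous
      (∑ p ∈ μ.support, (p.2 + 1) * μ p) :=
    IsHomogeneous.prod _ _ _ fun p _ => (efam_isHomogeneous N p.1 (p.2 + 1)).pow (μ p)
  have h2 : ∑ p ∈ μ.support, (p.2 + 1) * μ p = Finsupp.weight (wfun (ι := ι)) μ := by
    rw [Finsupp.weight_apply, Finsupp.sum]
    apply Finset.sum_congr rfl
    intro k _
    rw [smul_eq_mul, mul_comm, wfun]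
  rw [h2] at h1
  have h3 : (μ.prod fun p k => efam N p.1 (p.2 + 1) ^ k) =
      ∏ p ∈ μ.support, efam N p.1 (p.2 + 1) ^ μ p := rfl
  rw [h3]
  have : (algebraMap ℤ (MvPolynomial (ι × Fin N) ℚ) c) = C (c : ℚ) := by
    simp
  rw [this]
  exact h1.C_mul _

theorem highDeg_of_isHomogeneous {σ : Type*} {p : MvPolynomial σ ℚ} {w n : ℕ}
    (hp : p.IsHomogeneous w) (hn : n ≤ w) : HighDeg n p := by
  intro μ hμ
  by_contra hlt
  have : μ.degree ≠ w := by omega
  exact (mem_support_iff.mp hμ) (hp.coeff_eq_zero this)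

theorem highDeg_EN_of_inW {n : ℕ} {F : MvPolynomial (ι × ℕ) ℤ} (h : InW n F) :
    HighDeg n (EN ι N F) := by
  rw [← support_sum_monomial_coeff F, map_sum]
  apply HighDeg.sum
  intro μ hμ
  exact highDeg_of_isHomogeneous (EN_monomial_isHomogeneous N μ _) (h μ hμ)

/-- all monomials have degree `< n` -/
def LowDeg {σ : Type*} (n : ℕ) (p : MvPolynomial σ ℚ) : Prop := ∀ μ ∈ p.support, μ.degree < n

theorem LowDeg.sum {σ : Type*} {κ : Type*} {n : ℕ} (s : Finset κ) (f : κ → MvPolynomial σ ℚ)
    (h : ∀ i ∈ s, LowDeg n (f i)) : LowDeg n (∑ i ∈ s, f i) := by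
  classical
  intro μ hμ
  obtain ⟨i, hi, hμi⟩ : ∃ i ∈ s, μ ∈ (f i).support := by
    by_contra hne
    push Not at hne
    have : coeff μ (∑ i ∈ s, f i) = 0 := by
      rw [coeff_sum]
      exact sum_eq_zero fun i hi => notMem_support_iff.mp (hne i hi)
    exact (mem_support_iff.mp hμ) this
  exact h i hi μ hμi

theorem lowDeg_of_isHomogeneous {σ : Type*} {p : MvPolynomial σ ℚ} {w n : ℕ}
    (hp : p.IsHomogeneous w) (hn : w < n) : LowDeg n p := by
  intro μ hμ
  by_contra hlt
  have : μ.degree ≠ w := by omega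
  exact (mem_support_iff.mp hμ) (hp.coeff_eq_zero this)

theorem eq_zero_of_highDeg_of_lowDeg {σ : Type*} {p : MvPolynomial σ ℚ} {n : ℕ}
    (h1 : HighDeg n p) (h2 : LowDeg n p) : p = 0 := by
  rw [← support_eq_empty]
  apply Finset.eq_empty_of_forall_notMem
  intro μ hμ
  have := h1 μ hμ
  have := h2 μ hμ
  omega

/-- **Weight principle.** -/
theorem inW_of_highDeg [Finite ι] {n : ℕ} (F : MvPolynomial (ι × ℕ) ℤ)
    (h : ∀ N, HighDeg n (EN ι N F)) : InW n F := by
  classical
  set N := F.vars.sup (fun p => p.2) + 1 with hN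
  set lo := F.support.filter (fun μ => Finsupp.weight (wfun (ι := ι)) μ < n) with hlo
  set hi := F.support.filter (fun μ => ¬ Finsupp.weight (wfun (ι := ι)) μ < n) with hhi
  set Flo := ∑ μ ∈ lo, monomial μ (coeff μ F) with hFlo
  set Fhi := ∑ μ ∈ hi, monomial μ (coeff μ F) with hFhi
  have hsplit : F = Flo + Fhi := by
    conv_lhs => rw [← support_sum_monomial_coeff F]
    rw [hFlo, hFhi, hlo, hhi, Finset.sum_filter_add_sum_filter_not]
  have hhiW : InW n Fhi := by
    intro μ hμ
    have hsub : Fhi.support ⊆ hi := by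
      rw [hFhi]
      refine (MvPolynomial.support_sum).trans ?_
      intro ν hν
      rw [Finset.mem_biUnion] at hν
      obtain ⟨ν', hν', hνν'⟩ := hν
      have := support_monomial_subset hνν'
      rw [Finset.mem_singleton] at this
      rw [this]; exact hν'
    have := hsub hμ
    rw [hhi, Finset.mem_filter] at this
    omega
  have h1 : HighDeg n (EN ι N Flo) := by
    have : EN ι N Flo = EN ι N F - EN ι N Fhi := by
      rw [hsplit, map_add]; ring
    rw [this]
    exact (h N).sub (highDeg_EN_of_inW N hhiW)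
  have h2 : LowDeg n (EN ι N Flo) := by
    rw [hFlo, map_sum]
    apply LowDeg.sum
    intro μ hμ
    rw [hlo, Finset.mem_filter] at hμ
    exact lowDeg_of_isHomogeneous (EN_monomial_isHomogeneous N μ _) hμ.2
  have h3 : EN ι N Flo = 0 := eq_zero_of_highDeg_of_lowDeg h1 h2
  have hvars : ∀ p ∈ Flo.vars, p.2 < N := by
    intro p hp
    have hsub : Flo.vars ⊆ F.vars := by
      rw [hFlo]
      refine (vars_sum_subset _ _).trans ?_
      intro q hq
      rw [Finset.mem_biUnion] at hq
      obtain ⟨μ, hμ, hqμ⟩ := hq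
      rw [hlo, Finset.mem_filter] at hμ
      rw [vars_monomial (mem_support_iff.mp hμ.1)] at hqμ
      exact (mem_vars_iff_mem_support q).mpr ⟨μ, hμ.1, hqμ⟩
    have : p.2 ≤ F.vars.sup (fun p => p.2) := Finset.le_sup (f := fun p : ι × ℕ => p.2) (hsub hp)
    omega
  have h4 : Flo = 0 := EN_eq_zero N Flo hvars h3
  intro μ hμ
  by_contra hlt
  push Not at hlt
  have hμlo : μ ∈ lo := by
    rw [hlo, Finset.mem_filter]; exact ⟨hμ, hlt⟩
  have : coeff μ Flo = coeff μ F := by
    rw [hFlo, coeff_sum]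
    rw [Finset.sum_eq_single μ]
    · rw [coeff_monomial, if_pos rfl]
    · intro ν _ hne
      rw [coeff_monomial, if_neg hne]
    · intro hnot; exact absurd hμlo hnot
  rw [h4, coeff_zero] at this
  exact (mem_support_iff.mp hμ) this.symm

end Groth.Agent.Lib.Seat56.LamSym
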