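import Groth.Agent.Lib.Seat56LamPoly
import Groth.Agent.Lib.Seat56LamOps
import Groth.Agent.Lib.Seat56LamSym

/-!
# Seat56: universal weight theorems for the `γ`-operations

`U ι = ℤ[X_{s,k}]`, with `X_{s,k}` standing for `γ^{k+1}(x_s)` and of weight `k + 1`.

* `exists_repG_inW`: if `F` has no constant term, `γ^β ∘ F` is represented by a polynomial all of whose
  monomials have weight `≥ β`.
* `exists_repG_inW_of_inW`: if all monomials of `F` have weight `≥ w ≥ 1` then `γ^i ∘ F` (`i ≥ 1`) is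
  represented by such a polynomial too.
* `exists_repG_sub_inW`: and `γ^w ∘ F - (-1)^(w-1) (w-1)! F` is represented by a polynomial all of
  whose monomials have weight `≥ w + 1`.

Proofs: evaluate in the special λ-ring `ℚ[u_{s,a}]` at `x_s = Σ_a u_{s,a}`, where
`γ^k(x_s) = e_k(u_{s,·})`, and use algebraic independence of the `e_k(u_{s,·})`.
-/

set_option autoImplicit false
universe v
open MvPolynomial Finset LambdaRing

namespace Groth.Agent.Lib.Seat56.LamUniv

open Groth.Agent.Lib.Seat56.LamPoly Groth.Agent.Lib.Seat56.LamOps Groth.Agent.Lib.Seat56.LamSym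
open Groth.Agent.Lib.Helper4 (HighDeg gammaSeries coeff_gammaSeries gammaSeries_sum
  coeff_prod_one_add_C_mul_X)

attribute [local instance] polyOps

variable {ι : Type v}

/-- the universal family `x_s = Σ_a u_{s,a}`. -/
noncomputable def xuniv (N : ℕ) : ι → MvPolynomial (ι × Fin N) ℚ :=
  fun s => ∑ a : Fin N, X (s, a)

theorem gammaSeries_X {σ : Type v} (i : σ) :
    gammaSeries (X i : MvPolynomial σ ℚ) = 1 + PowerSeries.C (X i) * PowerSeries.X := by
  have h := gammaSeries_sub_one_of_mem_L (one_add_X_mem_L i)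
  rwa [add_sub_cancel_left] at h

theorem gamma_xuniv (N : ℕ) (s : ι) (k : ℕ) : gamma k (xuniv N s) = efam N s k := by
  classical
  rw [← coeff_gammaSeries, xuniv, gammaSeries_sum, efam_eq_sum]
  have : ∏ a : Fin N, gammaSeries (X (s, a) : MvPolynomial (ι × Fin N) ℚ) =
      ∏ a : Fin N, (1 + PowerSeries.C (X (s, a) : MvPolynomial (ι × Fin N) ℚ) * PowerSeries.X) :=
    prod_congr rfl fun a _ => gammaSeries_X (s, a)
  rw [this, coeff_prod_one_add_C_mul_X]

theorem evG_xuniv (N : ℕ) (F : U ι) : evG (xuniv N) F = EN ι N F := by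
  rw [evG, EN]
  congr 2
  funext p
  exact gamma_xuniv N p.1 (p.2 + 1)

theorem efam_succ_mem_D (N : ℕ) (s : ι) (k : ℕ) : efam N s (k + 1) ∈ D (ι × Fin N) := by
  rw [efam_eq_sum]
  apply D_sum
  intro t ht
  rw [mem_powersetCard] at ht
  apply D_prod
  · rw [← Finset.card_pos, ht.2]; omega
  · intro a _
    exact X_mem_D (s, a)

theorem EN_sub_const_mem_D (N : ℕ) (F : U ι) :
    EN ι N F - ((constantCoeff F : ℤ) : MvPolynomial (ι × Fin N) ℚ) ∈ D (ι × Fin N) := by
  induction F using MvPolynomial.induction_on with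
  | C a =>
    have : EN ι N (C a) = ((a : ℤ) : MvPolynomial (ι × Fin N) ℚ) := by
      rw [EN, aeval_C]; simp
    rw [this, constantCoeff_C, sub_self]
    exact (D _).zero_mem
  | add p q hp hq =>
    have : EN ι N (p + q) - ((constantCoeff (p + q) : ℤ) : MvPolynomial (ι × Fin N) ℚ) =
        (EN ι N p - ((constantCoeff p : ℤ) : MvPolynomial (ι × Fin N) ℚ)) +
          (EN ι N q - ((constantCoeff q : ℤ) : MvPolynomial (ι × Fin N) ℚ)) := by
      rw [map_add, map_add]; push_cast; ring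
    rw [this]
    exact (D _).add_mem hp hq
  | mul_X p i hp =>
    have hc : constantCoeff (p * X i) = 0 := by
      rw [map_mul, constantCoeff_X, mul_zero]
    have he := efam_succ_mem_D N i.1 i.2
    have : EN ι N (p * X i) - ((constantCoeff (p * X i) : ℤ) : MvPolynomial (ι × Fin N) ℚ) =
        (EN ι N p - ((constantCoeff p : ℤ) : MvPolynomial (ι × Fin N) ℚ)) * efam N i.1 (i.2 + 1) +
          ((constantCoeff p : ℤ) : MvPolynomial (ι × Fin N) ℚ) * efam N i.1 (i.2 + 1) := by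
      rw [hc, map_mul, EN_X]; push_cast; ring
    rw [this]
    exact (D _).add_mem (D_mul hp he) (D_intCast_mul he _)

theorem EN_mem_D (N : ℕ) (F : U ι) (hF : constantCoeff F = 0) : EN ι N F ∈ D (ι × Fin N) := by
  have := EN_sub_const_mem_D N F
  rwa [hF, Int.cast_zero, sub_zero] at this

variable [Finite ι]

/-- **UWT**: `γ^β` of an operation polynomial without constant term has weight `≥ β`. -/
theorem exists_repG_inW (hP : ∀ n : ℕ, ∃ P : MvPolynomial (Fin n ⊕ Fin n) ℤ, IsMulPoly n P)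
    (hQ : ∀ i j : ℕ, ∃ Q : MvPolynomial (Fin (i * j)) ℤ, IsCompPoly i j Q)
    (F : U ι) (hF : constantCoeff F = 0) (β : ℕ) :
    ∃ G : U ι, InW β G ∧ RepG.{v} β F G := by
  obtain ⟨G, hG⟩ := exists_repG.{v} hP hQ F β
  refine ⟨G, ?_, hG⟩
  apply inW_of_highDeg
  intro N
  rw [← evG_xuniv, ← hG (MvPolynomial (ι × Fin N) ℚ) isSpecial (xuniv N), evG_xuniv]
  exact highDeg_gamma_of_mem_D (EN_mem_D N F hF) β

/-- **UWT2a**: `γ^i`, `i ≥ 1`, preserves "weight `≥ w`". -/
theorem exists_repG_inW_of_inW (hP : ∀ n : ℕ, ∃ P : MvPolynomial (Fin n ⊕ Fin n) ℤ, IsMulPoly n P)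
    (hQ : ∀ i j : ℕ, ∃ Q : MvPolynomial (Fin (i * j)) ℤ, IsCompPoly i j Q)
    (F : U ι) (w : ℕ) (hw : 1 ≤ w) (hF : InW w F) (i : ℕ) (hi : 1 ≤ i) :
    ∃ G : U ι, InW w G ∧ RepG.{v} i F G := by
  obtain ⟨G, hG⟩ := exists_repG.{v} hP hQ F i
  refine ⟨G, ?_, hG⟩
  apply inW_of_highDeg
  intro N
  rw [← evG_xuniv, ← hG (MvPolynomial (ι × Fin N) ℚ) isSpecial (xuniv N), evG_xuniv]
  exact highDeg_gamma hw (highDeg_EN_of_inW N hF) i hi

/-- **UWT2b**: `γ^w(F) ≡ (-1)^(w-1) (w-1)! F` modulo weight `≥ w + 1` when `F` has weight `≥ w`. -/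
theorem exists_repG_sub_inW (hP : ∀ n : ℕ, ∃ P : MvPolynomial (Fin n ⊕ Fin n) ℤ, IsMulPoly n P)
    (hQ : ∀ i j : ℕ, ∃ Q : MvPolynomial (Fin (i * j)) ℤ, IsCompPoly i j Q)
    (F : U ι) (w : ℕ) (hw : 1 ≤ w) (hF : InW w F) :
    ∃ G : U ι, RepG.{v} w F G ∧
      InW (w + 1) (G - C ((-1 : ℤ) ^ (w - 1) * ((w - 1).factorial : ℤ)) * F) := by
  obtain ⟨G, hG⟩ := exists_repG.{v} hP hQ F w
  refine ⟨G, hG, ?_⟩
  apply inW_of_highDeg
  intro N
  have hc : EN ι N (C ((-1 : ℤ) ^ (w - 1) * ((w - 1).factorial : ℤ))) =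
      (C ((-1 : ℚ) ^ (w - 1) * ((w - 1).factorial : ℚ)) : MvPolynomial (ι × Fin N) ℚ) := by
    rw [EN, aeval_C]
    simp
  rw [map_sub, map_mul, hc, ← evG_xuniv, ← hG (MvPolynomial (ι × Fin N) ℚ) isSpecial (xuniv N),
    evG_xuniv]
  exact highDeg_gamma_sub hw (highDeg_EN_of_inW N hF)

end Groth.Agent.Lib.Seat56.LamUniv
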