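import Groth.Agent.Lib.Seat56LamBinom
import Groth.Agent.Lib.Seat56LamUniv

/-!
# Seat56: the γ-filtration `gammaFil ε n` and graded families of ideals

* basic facts on `gammaFil`: antitone, multiplicative, contains `γ^i(x)` for `ε x = 0`;
  `evG_mem_gammaFil`: an operation polynomial of weight `≥ n` evaluated at elements of the
  augmentation ideal lies in `gammaFil ε n`.
* a calculus of "good" power series for a multiplicative family of ideals `J`
  (`J 0 = ⊤`, `J i * J j ≤ J (i + j)`): `f` is good when `coeff i f ∈ J i` for all `i`.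
  `jgood_binom`: if `γ_t(y)` is good then so is `γ_t(c • y)` for a binomial scalar `c`.
* `gammaFil_le_of_gamma_mem`: if `γ^i(z) ∈ J i` whenever `ε z = 0`, then `gammaFil ε k ≤ J k`.
-/

set_option autoImplicit false
universe u v w
open Finset LambdaRing

namespace Groth.Agent.Lib.Seat56.LamFil

open Groth.Agent.Lib.Helper4 (gammaSeries coeff_gammaSeries gammaSeries_add gammaSeries_zero
  gammaSeries_sum constantCoeff_gammaSeries)
open Groth.Agent.Lib.Seat56.LamOps Groth.Agent.Lib.Seat56.LamSym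

section Fil

variable {K : Type u} [CommRing K] {A : Type v} [CommRing A] [LambdaOps A] (ε : A →+* K)

/-- generators of `gammaFil ε n` -/
def filGen (n : ℕ) : Set A :=
  {y | ∃ l : List (ℕ × A), (∀ p ∈ l, ε p.2 = 0) ∧ n ≤ (l.map Prod.fst).sum ∧
    y = (l.map fun p => gamma p.1 p.2).prod}

theorem gammaFil_eq_span (n : ℕ) : gammaFil ε n = Ideal.span (filGen ε n) := rfl

theorem gammaFil_anti {m n : ℕ} (h : m ≤ n) : gammaFil ε n ≤ gammaFil ε m := by
  apply Ideal.span_mono
  rintro y ⟨l, hl, hn, rfl⟩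
  exact ⟨l, hl, h.trans hn, rfl⟩

theorem gammaFil_zero : gammaFil ε 0 = ⊤ := by
  rw [Ideal.eq_top_iff_one]
  exact Ideal.subset_span ⟨[], by simp, by simp, by simp⟩

theorem gammaFil_mul_le (i j : ℕ) : gammaFil ε i * gammaFil ε j ≤ gammaFil ε (i + j) := by
  rw [gammaFil_eq_span, gammaFil_eq_span, Ideal.span_mul_span']
  apply Ideal.span_mono
  rintro y ⟨a, ⟨l₁, h₁, hn₁, rfl⟩, b, ⟨l₂, h₂, hn₂, rfl⟩, rfl⟩
  refine ⟨l₁ ++ l₂, ?_, ?_, ?_⟩
  · intro p hp
    rcases List.mem_append.mp hp with h | h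
    · exact h₁ p h
    · exact h₂ p h
  · rw [List.map_append, List.sum_append]; omega
  · rw [List.map_append, List.prod_append]

theorem mul_mem_gammaFil {i j : ℕ} {a b : A} (ha : a ∈ gammaFil ε i) (hb : b ∈ gammaFil ε j) :
    a * b ∈ gammaFil ε (i + j) :=
  gammaFil_mul_le ε i j (Ideal.mul_mem_mul ha hb)

theorem gamma_mem_gammaFil {x : A} (hx : ε x = 0) (i : ℕ) : gamma i x ∈ gammaFil ε i :=
  Ideal.subset_span ⟨[(i, x)], by simpa using hx, by simp, by simp⟩

theorem map_gamma_of_map_lam [LambdaOps K]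
    (h : ∀ (n : ℕ) (a : A), ε (LambdaOps.lam n a) = LambdaOps.lam n (ε a)) (k : ℕ) (a : A) :
    ε (gamma k a) = gamma k (ε a) := by
  unfold gamma
  split_ifs with hk
  · exact map_one ε
  · rw [map_sum]
    refine sum_congr rfl fun j _ => ?_
    rw [map_mul, map_natCast]
    split_ifs with hj
    · rw [map_zero]
    · rw [h]

theorem gamma_zero_arg (k : ℕ) (hk : 1 ≤ k) : gamma k (0 : A) = 0 := by
  have := congrArg (PowerSeries.coeff k) (gammaSeries_zero (K := A))
  rwa [coeff_gammaSeries, PowerSeries.coeff_one, if_neg (by omega)] at this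

end Fil

section Good

variable {B : Type v} [CommRing B] (J : ℕ → Ideal B)

/-- `coeff i f ∈ J i` for all `i` -/
def JGood (f : PowerSeries B) : Prop := ∀ i, PowerSeries.coeff i f ∈ J i

variable {J} (hJ0 : J 0 = ⊤) (hJmul : ∀ i j, J i * J j ≤ J (i + j))

include hJ0 in
theorem jgood_one : JGood J (1 : PowerSeries B) := by
  intro i
  rw [PowerSeries.coeff_one]
  split_ifs with h
  · subst h; rw [hJ0]; trivial
  · exact (J i).zero_mem

include hJmul in
theorem jgood_mul {f g : PowerSeries B} (hf : JGood J f) (hg : JGood J g) : JGood J (f * g) := by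
  intro i
  rw [PowerSeries.coeff_mul]
  apply Ideal.sum_mem
  rintro ⟨p, q⟩ hpq
  have hpq' : p + q = i := by simpa using hpq
  rw [← hpq']
  exact hJmul p q (Ideal.mul_mem_mul (hf p) (hg q))

include hJ0 hJmul in
theorem jgood_pow {f : PowerSeries B} (hf : JGood J f) (d : ℕ) : JGood J (f ^ d) := by
  induction d with
  | zero => rw [pow_zero]; exact jgood_one hJ0
  | succ d ih => rw [pow_succ]; exact jgood_mul hJmul ih hf

include hJ0 hJmul in
theorem jgood_prod {κ : Type*} (s : Finset κ) (f : κ → PowerSeries B)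
    (h : ∀ i ∈ s, JGood J (f i)) : JGood J (∏ i ∈ s, f i) := by
  classical
  induction s using Finset.induction_on with
  | empty => rw [prod_empty]; exact jgood_one hJ0
  | insert a s ha ih =>
    rw [prod_insert ha]
    exact jgood_mul hJmul (h a (mem_insert_self a s)) (ih fun i hi => h i (mem_insert_of_mem hi))

include hJ0 in
theorem jgood_sub_one {f : PowerSeries B} (hf : JGood J f) : JGood J (f - 1) := by
  intro i
  rw [map_sub, PowerSeries.coeff_one]
  split_ifs with h
  · subst h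
    exact (J 0).sub_mem (hf 0) (by rw [hJ0]; trivial)
  · rw [sub_zero]; exact hf i

end Good

section Binom

variable {K : Type u} [CommRing K] [LambdaOps K] [BinomialRing K] (hKb : IsBinomial K)
  {B : Type v} [CommRing B] [LambdaOps B] [Algebra K B] (hB : IsSpecial B)
  (hAlg : IsLambdaAlg K B)
  (hP : ∀ n : ℕ, ∃ P : MvPolynomial (Fin n ⊕ Fin n) ℤ, IsMulPoly n P)
  {J : ℕ → Ideal B} (hJ0 : J 0 = ⊤) (hJmul : ∀ i j, J i * J j ≤ J (i + j))

include hKb hB hAlg hP hJ0 hJmul in
/-- if `γ_t(y)` is good then so is `γ_t(c • y)` for `c : K`. -/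
theorem jgood_binom (c : K) {y : B} (h : JGood J (gammaSeries y)) :
    JGood J (gammaSeries (algebraMap K B c * y)) := by
  intro n
  rw [coeff_gammaSeries, LamBinom.gamma_algebraMap_mul hKb hB hAlg hP]
  apply Ideal.sum_mem
  intro d _
  rw [Algebra.smul_def]
  exact Ideal.mul_mem_left _ _ (jgood_pow hJ0 hJmul (jgood_sub_one hJ0 h) d n)

end Binom

section Le

variable {K : Type u} [CommRing K] {A : Type v} [CommRing A] [LambdaOps A] (ε : A →+* K)
  {J : ℕ → Ideal A} (hJ0 : J 0 = ⊤) (hJmul : ∀ i j, J i * J j ≤ J (i + j))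
  (hJanti : ∀ i j, i ≤ j → J j ≤ J i)

include hJ0 hJmul hJanti in
theorem gammaFil_le_of_gamma_mem (h : ∀ z : A, ε z = 0 → ∀ i, gamma i z ∈ J i) (k : ℕ) :
    gammaFil ε k ≤ J k := by
  rw [gammaFil_eq_span, Ideal.span_le]
  rintro y ⟨l, hl, hk, rfl⟩
  refine hJanti _ _ hk ?_
  clear hk
  induction l with
  | nil =>
    simp only [List.map_nil, List.prod_nil, List.sum_nil]
    rw [hJ0]; trivial
  | cons p l ih =>
    simp only [List.map_cons, List.prod_cons, List.sum_cons]
    exact hJmul _ _ (Ideal.mul_mem_mul (h p.2 (hl p (by simp)) p.1)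
      (ih fun q hq => hl q (List.mem_cons_of_mem _ hq)))

end Le

section Ev

variable {K : Type u} [CommRing K] {A : Type v} [CommRing A] [LambdaOps A] (ε : A →+* K)
  {ι : Type w}

theorem pow_mem_gammaFil {a : A} {i : ℕ} (ha : a ∈ gammaFil ε i) (k : ℕ) :
    a ^ k ∈ gammaFil ε (i * k) := by
  induction k with
  | zero => rw [mul_zero, gammaFil_zero]; trivial
  | succ k ih => rw [pow_succ, mul_add, mul_one]; exact mul_mem_gammaFil ε ih ha

theorem prod_mem_gammaFil {κ : Type*} (s : Finset κ) (f : κ → A) (d : κ → ℕ)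
    (h : ∀ i ∈ s, f i ∈ gammaFil ε (d i)) : ∏ i ∈ s, f i ∈ gammaFil ε (∑ i ∈ s, d i) := by
  classical
  induction s using Finset.induction_on with
  | empty => rw [sum_empty, gammaFil_zero]; trivial
  | insert a s ha ih =>
    rw [prod_insert ha, sum_insert ha]
    exact mul_mem_gammaFil ε (h a (mem_insert_self a s)) (ih fun i hi => h i (mem_insert_of_mem hi))

/-- an operation polynomial of weight `≥ n` evaluated on the augmentation ideal lies in `Fil^n`. -/
theorem evG_mem_gammaFil (x : ι → A) (hx : ∀ s, ε (x s) = 0) {n : ℕ} {F : U ι} (hF : InW n F) :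
    evG x F ∈ gammaFil ε n := by
  rw [← MvPolynomial.support_sum_monomial_coeff F, map_sum]
  apply Ideal.sum_mem
  intro μ hμ
  rw [evG, MvPolynomial.aeval_monomial]
  apply Ideal.mul_mem_left
  refine gammaFil_anti ε (hF μ hμ) ?_
  have h1 : (μ.prod fun p k => gamma (p.2 + 1) (x p.1) ^ k) =
      ∏ p ∈ μ.support, gamma (p.2 + 1) (x p.1) ^ μ p := rfl
  have h2 : Finsupp.weight (wfun (ι := ι)) μ = ∑ p ∈ μ.support, (p.2 + 1) * μ p := by
    rw [Finsupp.weight_apply, Finsupp.sum]
    apply Finset.sum_congr rfl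
    intro k _
    rw [smul_eq_mul, mul_comm, wfun]
  rw [h1, h2]
  apply prod_mem_gammaFil
  intro p _
  exact pow_mem_gammaFil ε (gamma_mem_gammaFil ε (hx p.1) _) _

end Ev

section EvJ

variable {B : Type v} [CommRing B] [LambdaOps B] {J : ℕ → Ideal B} (hJ0 : J 0 = ⊤)
  (hJmul : ∀ i j, J i * J j ≤ J (i + j)) (hJanti : ∀ i j, i ≤ j → J j ≤ J i) {ι : Type w}

omit [LambdaOps B] in
include hJ0 hJmul in
theorem jpow_mem {a : B} {i : ℕ} (ha : a ∈ J i) (k : ℕ) : a ^ k ∈ J (i * k) := by
  induction k with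
  | zero => rw [mul_zero, hJ0]; trivial
  | succ k ih => rw [pow_succ, mul_add, mul_one]; exact hJmul _ _ (Ideal.mul_mem_mul ih ha)

omit [LambdaOps B] in
include hJ0 hJmul in
theorem jprod_mem {κ : Type*} (s : Finset κ) (f : κ → B) (d : κ → ℕ)
    (h : ∀ i ∈ s, f i ∈ J (d i)) : ∏ i ∈ s, f i ∈ J (∑ i ∈ s, d i) := by
  classical
  induction s using Finset.induction_on with
  | empty => rw [sum_empty, hJ0]; trivial
  | insert a s ha ih =>
    rw [prod_insert ha, sum_insert ha]
    exact hJmul _ _ (Ideal.mul_mem_mul (h a (mem_insert_self a s))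
      (ih fun i hi => h i (mem_insert_of_mem hi)))

include hJ0 hJmul hJanti in
/-- an operation polynomial of weight `≥ n` evaluated at a family all of whose `γ^k` lie in `J k`
lies in `J n`. -/
theorem evG_mem_of_gen_mem (x : ι → B)
    (hx : ∀ p : ι × ℕ, gamma (p.2 + 1) (x p.1) ∈ J (p.2 + 1)) {n : ℕ} {F : U ι}
    (hF : InW n F) : evG x F ∈ J n := by
  rw [← MvPolynomial.support_sum_monomial_coeff F, map_sum]
  apply Ideal.sum_mem
  intro μ hμ
  rw [evG, MvPolynomial.aeval_monomial]
  apply Ideal.mul_mem_left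
  refine hJanti _ _ (hF μ hμ) ?_
  have h1 : (μ.prod fun p k => gamma (p.2 + 1) (x p.1) ^ k) =
      ∏ p ∈ μ.support, gamma (p.2 + 1) (x p.1) ^ μ p := rfl
  have h2 : Finsupp.weight (wfun (ι := ι)) μ = ∑ p ∈ μ.support, (p.2 + 1) * μ p := by
    rw [Finsupp.weight_apply, Finsupp.sum]
    apply Finset.sum_congr rfl
    intro k _
    rw [smul_eq_mul, mul_comm, wfun]
  rw [h1, h2]
  apply jprod_mem hJ0 hJmul
  intro p _
  exact jpow_mem hJ0 hJmul (hx p) _

end EvJ

section Functorial

variable {K : Type u} [CommRing K] {A : Type v} [CommRing A] [LambdaOps A]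
  {B : Type w} [CommRing B] [LambdaOps B] (εA : A →+* K) (εB : B →+* K) (f : A →+* B)

theorem map_mem_gammaFil (hf : ∀ (k : ℕ) (a : A), f (gamma k a) = gamma k (f a))
    (hε : ∀ a, εA a = 0 → εB (f a) = 0) {i : ℕ} {a : A} (ha : a ∈ gammaFil εA i) :
    f a ∈ gammaFil εB i := by
  rw [gammaFil_eq_span] at ha
  induction ha using Submodule.span_induction with
  | mem y hy =>
    obtain ⟨l, hl, hn, rfl⟩ := hy
    refine Ideal.subset_span ⟨l.map (fun p => (p.1, f p.2)), ?_, ?_, ?_⟩
    · intro p hp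
      obtain ⟨q, hq, rfl⟩ := List.mem_map.mp hp
      exact hε q.2 (hl q hq)
    · rw [List.map_map]
      exact hn
    · rw [List.map_map, map_list_prod, List.map_map]
      congr 1
      apply List.map_congr_left
      intro p _
      exact hf p.1 p.2
  | zero => rw [map_zero]; exact (gammaFil εB i).zero_mem
  | add x y _ _ hx hy => rw [map_add]; exact (gammaFil εB i).add_mem hx hy
  | smul r x _ hx => rw [smul_eq_mul, map_mul]; exact Ideal.mul_mem_left _ _ hx

end Functorial

end Groth.Agent.Lib.Seat56.LamFil
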