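import Groth.Agent.Lib.Seat56LamFil

/-!
# Seat56: Chern classes in the graded ring of the γ-filtration

* `InW` calculus (`inW_one`, `inW_X`, `inW_mul`, `inW_prod`, `inW_mono`).
* `exists_evG_of_mem_filGen`: every generator of `gammaFil ε n` is the value of an operation
  polynomial of weight `≥ n` at a finite family of elements of the augmentation ideal.
* `gamma_sub_mem_gammaFil_succ`: for `z ∈ Fil^m`, `m ≥ 1`,
  `γ^m(z) ≡ (-1)^(m-1) (m-1)! z` modulo `Fil^(m+1)`; also `γ^i (Fil^m) ⊆ Fil^m` for `i ≥ 1`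
  (`gamma_mem_gammaFil_of_mem`).
-/

set_option autoImplicit false
universe u v w
open Finset LambdaRing

namespace Groth.Agent.Lib.Seat56.LamGr

open Groth.Agent.Lib.Helper4 (gammaSeries coeff_gammaSeries gammaSeries_add gammaSeries_zero
  gammaSeries_sum constantCoeff_gammaSeries)
open Groth.Agent.Lib.Seat56.LamOps Groth.Agent.Lib.Seat56.LamSym Groth.Agent.Lib.Seat56.LamFil

section InW

variable {ι : Type w}

theorem inW_mono {a b : ℕ} (h : a ≤ b) {F : U ι} (hF : InW b F) : InW a F :=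
  fun μ hμ => h.trans (hF μ hμ)

theorem inW_zero_left (F : U ι) : InW 0 F := fun _ _ => Nat.zero_le _

theorem inW_one : InW 0 (1 : U ι) := inW_zero_left 1

theorem inW_X (p : ι × ℕ) : InW (p.2 + 1) (MvPolynomial.X p : U ι) := by
  classical
  intro μ hμ
  rw [MvPolynomial.support_X, Finset.mem_singleton] at hμ
  subst hμ
  rw [Finsupp.weight_single, one_smul]
  exact le_refl _

theorem inW_mul {a b : ℕ} {F G : U ι} (hF : InW a F) (hG : InW b G) : InW (a + b) (F * G) := by
  classical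
  intro μ hμ
  have := MvPolynomial.support_mul F G hμ
  rw [Finset.mem_add] at this
  obtain ⟨μ1, h1, μ2, h2, rfl⟩ := this
  rw [map_add]
  exact add_le_add (hF _ h1) (hG _ h2)

theorem inW_prod {κ : Type*} (s : Finset κ) (F : κ → U ι) (d : κ → ℕ)
    (h : ∀ i ∈ s, InW (d i) (F i)) : InW (∑ i ∈ s, d i) (∏ i ∈ s, F i) := by
  classical
  induction s using Finset.induction_on with
  | empty => rw [sum_empty, prod_empty]; exact inW_one
  | insert a s ha ih =>
    rw [prod_insert ha, sum_insert ha]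
    exact inW_mul (h a (mem_insert_self a s)) (ih fun i hi => h i (mem_insert_of_mem hi))

theorem inW_add {a : ℕ} {F G : U ι} (hF : InW a F) (hG : InW a G) : InW a (F + G) := by
  classical
  intro μ hμ
  rcases Finset.mem_union.mp (MvPolynomial.support_add hμ) with h | h
  · exact hF μ h
  · exact hG μ h

theorem inW_neg {a : ℕ} {F : U ι} (hF : InW a F) : InW a (-F) := by
  intro μ hμ
  rw [MvPolynomial.support_neg] at hμ
  exact hF μ hμ

theorem inW_sub {a : ℕ} {F G : U ι} (hF : InW a F) (hG : InW a G) : InW a (F - G) := by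
  rw [sub_eq_add_neg]
  exact inW_add hF (inW_neg hG)

theorem inW_C_mul {a : ℕ} (c : ℤ) {F : U ι} (hF : InW a F) : InW a (MvPolynomial.C c * F) := by
  have := inW_mul (inW_zero_left (MvPolynomial.C c : U ι)) hF
  rwa [zero_add] at this

end InW

section Repr

variable {K : Type u} [CommRing K] {A : Type v} [CommRing A] [LambdaOps A] (ε : A →+* K)

/-- every generator of `gammaFil ε n` is the value of an operation polynomial of weight `≥ n` at a
finite family of elements of the augmentation ideal. -/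
theorem exists_evG_of_mem_filGen {n : ℕ} {y : A} (hy : y ∈ filGen ε n) :
    ∃ (r : ℕ) (x : ULift.{v} (Fin r) → A) (F : U (ULift.{v} (Fin r))),
      (∀ s, ε (x s) = 0) ∧ InW n F ∧ evG x F = y := by
  classical
  obtain ⟨l, hl, hn, rfl⟩ := hy
  refine ⟨l.length, fun s => (l[s.down.1]).2,
    ∏ s : ULift.{v} (Fin l.length), (if (l[s.down.1]).1 = 0 then 1
      else MvPolynomial.X (s, (l[s.down.1]).1 - 1)), ?_, ?_, ?_⟩
  · intro s
    exact hl _ (List.getElem_mem _)
  · have hsum : (l.map Prod.fst).sum = ∑ s : ULift.{v} (Fin l.length), (l[s.down.1]).1 := by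
      rw [← Fin.sum_univ_fun_getElem l Prod.fst]
      exact (Equiv.sum_comp Equiv.ulift (fun i : Fin l.length => (l[i.1]).1)).symm
    refine inW_mono (hn.trans hsum.le) ?_
    apply inW_prod
    intro s _
    by_cases h0 : (l[s.down.1]).1 = 0
    · rw [if_pos h0, h0]; exact inW_one
    · rw [if_neg h0]
      have := inW_X (ι := ULift.{v} (Fin l.length)) (s, (l[s.down.1]).1 - 1)
      have e : (l[s.down.1]).1 - 1 + 1 = (l[s.down.1]).1 := by omega
      simp only [e] at this
      exact this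
  · rw [map_prod, ← Fin.prod_univ_fun_getElem l (fun p => gamma p.1 p.2)]
    rw [← Equiv.prod_comp Equiv.ulift (fun i : Fin l.length => gamma (l[i.1]).1 (l[i.1]).2)]
    apply Finset.prod_congr rfl
    intro s _
    by_cases h0 : (l[s.down.1]).1 = 0
    · rw [if_pos h0, map_one]
      simp only [Equiv.ulift_apply]
      rw [h0, gamma, if_pos rfl]
    · rw [if_neg h0, evG_X]
      simp only [Equiv.ulift_apply]
      have e : (l[s.down.1]).1 - 1 + 1 = (l[s.down.1]).1 := by omega
      rw [e]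

end Repr

section AllIn

variable {B : Type*} [CommRing B]

/-- all coefficients of the power series `f` lie in the ideal `I`. -/
def AllIn (I : Ideal B) (f : PowerSeries B) : Prop := ∀ i, PowerSeries.coeff i f ∈ I

theorem allIn_mul {I I' : Ideal B} {f g : PowerSeries B} (hf : AllIn I f) (hg : AllIn I' g) :
    AllIn (I * I') (f * g) := by
  intro n
  rw [PowerSeries.coeff_mul]
  exact Ideal.sum_mem _ fun p _ => Ideal.mul_mem_mul (hf _) (hg _)

theorem allIn_mul_right {I : Ideal B} {f : PowerSeries B} (hf : AllIn I f) (g : PowerSeries B) :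
    AllIn I (f * g) := by
  intro n
  rw [PowerSeries.coeff_mul]
  exact Ideal.sum_mem _ fun p _ => Ideal.mul_mem_right _ _ (hf _)

end AllIn

section Chern

variable {K : Type u} [CommRing K] {A : Type v} [CommRing A] [LambdaOps A] (ε : A →+* K)

/-- `z` behaves like an element of `Fil^m` for the γ-operations: `γ^i(z) ∈ Fil^m` for `i ≥ 1` and
`γ^m(z) ≡ (-1)^(m-1) (m-1)! z` modulo `Fil^(m+1)`. -/
def Chern (m : ℕ) (z : A) : Prop :=
  (∀ i, 1 ≤ i → gamma i z ∈ gammaFil ε m) ∧
    gamma m z - (-1 : A) ^ (m - 1) * ((m - 1).factorial : A) * z ∈ gammaFil ε (m + 1)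

theorem gamma_zero_eq_one (z : A) : gamma 0 z = 1 := by rw [gamma, if_pos rfl]

theorem gamma_one_eq (z : A) : gamma 1 z = z := by
  simp [gamma, Finset.sum_range_succ, LambdaOps.lam_one]

theorem chern_zero (m : ℕ) (hm : 1 ≤ m) : Chern ε m (0 : A) := by
  refine ⟨fun i hi => ?_, ?_⟩
  · rw [gamma_zero_arg i hi]; exact zero_mem _
  · rw [gamma_zero_arg m hm, mul_zero, sub_zero]; exact zero_mem _

theorem chern_add {m : ℕ} (hm : 1 ≤ m) {z w : A} (hz : Chern ε m z) (hw : Chern ε m w) :
    Chern ε m (z + w) := by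
  obtain ⟨hz1, hz2⟩ := hz
  obtain ⟨hw1, hw2⟩ := hw
  have hexp : ∀ i, gamma i (z + w) =
      ∑ p ∈ Finset.HasAntidiagonal.antidiagonal i, gamma p.1 z * gamma p.2 w := by
    intro i
    rw [← coeff_gammaSeries, gammaSeries_add, PowerSeries.coeff_mul]
    apply Finset.sum_congr rfl
    intro p _
    rw [coeff_gammaSeries, coeff_gammaSeries]
  refine ⟨fun i hi => ?_, ?_⟩
  · rw [hexp]
    apply Ideal.sum_mem
    rintro ⟨a, b⟩ hp
    rw [Finset.HasAntidiagonal.mem_antidiagonal] at hp
    simp only at hp ⊢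
    rcases Nat.eq_zero_or_pos a with rfl | ha
    · exact Ideal.mul_mem_left _ _ (hw1 b (by omega))
    · exact Ideal.mul_mem_right _ _ (hz1 a ha)
  · obtain ⟨m', rfl⟩ : ∃ m', m = m' + 1 := ⟨m - 1, by omega⟩
    rw [hexp, Finset.Nat.sum_antidiagonal_eq_sum_range_succ
      (fun a b => gamma a z * gamma b w), Finset.sum_range_succ, Finset.sum_range_succ']
    simp only [Nat.sub_self, Nat.sub_zero, gamma_zero_eq_one, mul_one, one_mul]
    have hmid : ∑ k ∈ range m', gamma (k + 1) z * gamma (m' + 1 - (k + 1)) w ∈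
        gammaFil ε (m' + 1 + 1) := by
      apply Ideal.sum_mem
      intro k hk
      rw [Finset.mem_range] at hk
      refine gammaFil_anti ε (by omega) (mul_mem_gammaFil ε (hz1 (k + 1) (by omega))
        (hw1 (m' + 1 - (k + 1)) (by omega)))
    have := Ideal.add_mem _ hmid (Ideal.add_mem _ hz2 hw2)
    convert this using 1
    ring

theorem chern_of_forall_gamma_mem_succ {m : ℕ} (hm : 1 ≤ m) {z : A}
    (h : ∀ i, 1 ≤ i → gamma i z ∈ gammaFil ε (m + 1)) : Chern ε m z := by
  refine ⟨fun i hi => gammaFil_anti ε (Nat.le_succ m) (h i hi), ?_⟩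
  have h1 : z ∈ gammaFil ε (m + 1) := by
    have := h 1 le_rfl
    rwa [gamma_one_eq] at this
  exact Ideal.sub_mem _ (h m hm) (Ideal.mul_mem_left _ _ h1)

end Chern

section Universal

variable {K : Type u} [CommRing K] {A : Type v} [CommRing A] [LambdaOps A] (ε : A →+* K)
  (hA : IsSpecial A)
  (hP : ∀ n : ℕ, ∃ P : MvPolynomial (Fin n ⊕ Fin n) ℤ, IsMulPoly n P)
  (hQ : ∀ i j : ℕ, ∃ Q : MvPolynomial (Fin (i * j)) ℤ, IsCompPoly i j Q)
  {ι : Type v} [Finite ι]

include hA hP hQ in
theorem gamma_evG_mem (x : ι → A) (hx : ∀ s, ε (x s) = 0) {m : ℕ} (hm : 1 ≤ m) {F : U ι}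
    (hF : InW m F) (i : ℕ) (hi : 1 ≤ i) : gamma i (evG x F) ∈ gammaFil ε m := by
  obtain ⟨G, hGW, hG⟩ := LamUniv.exists_repG_inW_of_inW.{v} hP hQ F m hm hF i hi
  rw [hG A hA x]
  exact evG_mem_gammaFil ε x hx hGW

include hA hP hQ in
theorem chern_evG (x : ι → A) (hx : ∀ s, ε (x s) = 0) {m : ℕ} (hm : 1 ≤ m) {F : U ι}
    (hF : InW m F) : Chern ε m (evG x F) := by
  refine ⟨fun i hi => gamma_evG_mem ε hA hP hQ x hx hm hF i hi, ?_⟩
  obtain ⟨G, hG, hGW⟩ := LamUniv.exists_repG_sub_inW.{v} hP hQ F m hm hF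
  have := evG_mem_gammaFil ε x hx hGW
  rw [map_sub, map_mul, ← hG A hA x] at this
  convert this using 3
  rw [evG, MvPolynomial.aeval_C]
  simp

include hA hP hQ in
theorem chern_evG_succ (x : ι → A) (hx : ∀ s, ε (x s) = 0) {m : ℕ} (hm : 1 ≤ m) {F : U ι}
    (hF : InW (m + 1) F) : Chern ε m (evG x F) :=
  chern_of_forall_gamma_mem_succ ε hm fun i hi =>
    gamma_evG_mem ε hA hP hQ x hx (Nat.succ_pos m) hF i hi

end Universal

section Scalar

variable {K : Type u} [CommRing K] [LambdaOps K] [BinomialRing K] (hKb : IsBinomial K)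
  {A : Type v} [CommRing A] [LambdaOps A] [Algebra K A] (hA : IsSpecial A)
  (hAlg : IsLambdaAlg K A)
  (hP : ∀ n : ℕ, ∃ P : MvPolynomial (Fin n ⊕ Fin n) ℤ, IsMulPoly n P)
  (hQ : ∀ i j : ℕ, ∃ Q : MvPolynomial (Fin (i * j)) ℤ, IsCompPoly i j Q)
  (ε : A →+* K)

include hKb hA hAlg hP in
theorem chern_smul {m : ℕ} (hm : 1 ≤ m) (c : K) {g : A} (h : Chern ε m g) :
    Chern ε m (algebraMap K A c * g) := by
  obtain ⟨h1, h2⟩ := h
  set hser : PowerSeries A := gammaSeries g - 1 with hh
  have hcoeff : ∀ i, 1 ≤ i → PowerSeries.coeff i hser = gamma i g := by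
    intro i hi
    rw [hh, map_sub, coeff_gammaSeries, PowerSeries.coeff_one, if_neg (by omega), sub_zero]
  have hall : AllIn (gammaFil ε m) hser := by
    intro i
    rcases Nat.eq_zero_or_pos i with rfl | hi
    · rw [hh, map_sub, coeff_gammaSeries, gamma_zero_eq_one, PowerSeries.coeff_one, if_pos rfl,
        sub_self]
      exact zero_mem _
    · rw [hcoeff i hi]; exact h1 i hi
  have hpow : ∀ d, 1 ≤ d → AllIn (gammaFil ε m) (hser ^ d) := by
    intro d hd
    obtain ⟨d', rfl⟩ : ∃ d', d = d' + 1 := ⟨d - 1, by omega⟩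
    rw [pow_succ']
    exact allIn_mul_right hall _
  have hpow2 : ∀ d, AllIn (gammaFil ε (m + 1)) (hser ^ (d + 2)) := by
    intro d
    rw [pow_add, pow_two, mul_comm]
    apply allIn_mul_right
    intro i
    exact gammaFil_anti ε (by omega) (gammaFil_mul_le ε m m (allIn_mul hall hall i))
  refine ⟨fun i hi => ?_, ?_⟩
  · rw [LamBinom.gamma_algebraMap_mul hKb hA hAlg hP]
    apply Ideal.sum_mem
    intro d _
    rw [Algebra.smul_def]
    apply Ideal.mul_mem_left
    rcases Nat.eq_zero_or_pos d with rfl | hd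
    · rw [pow_zero, PowerSeries.coeff_one, if_neg (by omega)]; exact zero_mem _
    · exact hpow d hd i
  · obtain ⟨m', rfl⟩ : ∃ m', m = m' + 1 := ⟨m - 1, by omega⟩
    rw [LamBinom.gamma_algebraMap_mul hKb hA hAlg hP, Finset.sum_range_succ',
      Finset.sum_range_succ']
    have hS : ∑ d ∈ range m', Ring.choose c (d + 1 + 1) •
        PowerSeries.coeff (m' + 1) (hser ^ (d + 1 + 1)) ∈ gammaFil ε (m' + 1 + 1) := by
      apply Ideal.sum_mem
      intro d _
      rw [Algebra.smul_def]
      exact Ideal.mul_mem_left _ _ (hpow2 d (m' + 1))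
    have hmain := Ideal.add_mem _ hS (Ideal.mul_mem_left _ (algebraMap K A c) h2)
    convert hmain using 1
    rw [zero_add, pow_one, pow_zero, hcoeff (m' + 1) (by omega), PowerSeries.coeff_one,
      if_neg (by omega), smul_zero, add_zero, Ring.choose_one_right, Algebra.smul_def]
    ring

end Scalar

section Main

variable {K : Type u} [CommRing K] [LambdaOps K] [BinomialRing K] (hKb : IsBinomial K)
  {A : Type v} [CommRing A] [LambdaOps A] [Algebra K A] (hA : IsSpecial A)
  (hAlg : IsLambdaAlg K A)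
  (hP : ∀ n : ℕ, ∃ P : MvPolynomial (Fin n ⊕ Fin n) ℤ, IsMulPoly n P)
  (hQ : ∀ i j : ℕ, ∃ Q : MvPolynomial (Fin (i * j)) ℤ, IsCompPoly i j Q)
  (ε : A →+* K) (hεK : ∀ c : K, ε (algebraMap K A c) = c)

include hKb hA hAlg hP hQ hεK in
/-- every element of `Fil^m` (`m ≥ 1`) satisfies `Chern ε m`. -/
theorem chern_of_mem {m : ℕ} (hm : 1 ≤ m) {z : A} (hz : z ∈ gammaFil ε m) : Chern ε m z := by
  have key : ∀ a : A, Chern ε m (a * z) := by
    rw [gammaFil_eq_span] at hz
    refine Submodule.span_induction (p := fun z _ => ∀ a : A, Chern ε m (a * z))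
      ?_ ?_ ?_ ?_ hz
    · intro y hy a
      set c : K := ε a with hc
      set a' : A := a - algebraMap K A c with ha'
      have hεa' : ε a' = 0 := by rw [ha', map_sub, hεK, hc, sub_self]
      have hsplit : a * y = algebraMap K A c * y + a' * y := by rw [ha']; ring
      rw [hsplit]
      apply chern_add ε hm
      · obtain ⟨r, x, F, hx, hF, rfl⟩ := exists_evG_of_mem_filGen ε hy
        exact chern_smul hKb hA hAlg hP ε hm c (chern_evG ε hA hP hQ x hx hm hF)
      · have hy' : a' * y ∈ filGen ε (m + 1) := by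
          obtain ⟨l, hl, hn, rfl⟩ := hy
          refine ⟨(1, a') :: l, ?_, ?_, ?_⟩
          · intro p hp
            rcases List.mem_cons.mp hp with rfl | hp
            · exact hεa'
            · exact hl p hp
          · simp only [List.map_cons, List.sum_cons]; omega
          · simp only [List.map_cons, List.prod_cons, gamma_one_eq]
        obtain ⟨r, x, F, hx, hF, hxF⟩ := exists_evG_of_mem_filGen ε hy'
        rw [← hxF]
        exact chern_evG_succ ε hA hP hQ x hx hm hF
    · intro a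
      rw [mul_zero]
      exact chern_zero ε m hm
    · intro z w _ _ hz hw a
      rw [mul_add]
      exact chern_add ε hm (hz a) (hw a)
    · intro b z _ hz a
      rw [smul_eq_mul, ← mul_assoc]
      exact hz (a * b)
  simpa using key 1

include hKb hA hAlg hP hQ hεK in
/-- `γ^m(z) ≡ (-1)^(m-1) (m-1)! z` modulo `Fil^(m+1)` for `z ∈ Fil^m`, `m ≥ 1`. -/
theorem gamma_sub_mem_gammaFil_succ {m : ℕ} (hm : 1 ≤ m) {z : A} (hz : z ∈ gammaFil ε m) :
    gamma m z - (-1 : A) ^ (m - 1) * ((m - 1).factorial : A) * z ∈ gammaFil ε (m + 1) :=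
  (chern_of_mem hKb hA hAlg hP hQ ε hεK hm hz).2

include hKb hA hAlg hP hQ hεK in
/-- `γ^i (Fil^m) ⊆ Fil^m` for `i, m ≥ 1`. -/
theorem gamma_mem_gammaFil_of_mem {m : ℕ} (hm : 1 ≤ m) {z : A} (hz : z ∈ gammaFil ε m)
    (i : ℕ) (hi : 1 ≤ i) : gamma i z ∈ gammaFil ε m :=
  (chern_of_mem hKb hA hAlg hP hQ ε hεK hm hz).1 i hi

end Main

end Groth.Agent.Lib.Seat56.LamGr
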