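import Groth.Agent.Lib.Helper4LambdaBinom
import Groth.Agent.Lib.Helper4Lambda
import Groth.Agent.Lib.Helper4SymWeight

/-!
# Seat56: the polynomial ring `ℚ[u_i]` as a special λ-ring with line elements `1 + u_i`

The λ-structure is the one whose Adams operations are the ring endomorphisms
`ψ^k : u_i ↦ (1 + u_i)^k - 1`.  We prove:

* `isSpecial`: it is a λ-ring in the strict sense;
* `good_gammaSeries_of_mem_D`: for `p` in the additive group `D` generated by the `y - 1`, `y` a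
  monomial in the `1 + u_i`, the coefficient of `t^i` in `γ_t(p)` has all monomials of degree `≥ i`;
  `D` is closed under products and contains the `u_i`;
* `highDeg_gamma`, `highDeg_gamma_sub`: if all monomials of `p` have degree `≥ m ≥ 1` then so do
  those of `γ^i(p)` (`i ≥ 1`), and `γ^m(p) ≡ (-1)^(m-1) (m-1)! p` modulo degree `≥ m+1`.
-/

set_option autoImplicit false
universe v
open MvPolynomial Finset LambdaRing

namespace Groth.Agent.Lib.Seat56.LamPoly

open Groth.Agent.Lib.Helper4 (HighDeg highDeg_zero' highDeg_of_zero highDeg_X highDeg_C_mul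
  gammaSeries coeff_gammaSeries gammaSeries_add gammaSeries_zero gammaSeries_neg_mul
  gammaSeries_sub_one constantCoeff_gammaSeries exists_one_add_pow_eq)

variable {σ : Type v}

/-- `ψ^k` on `ℚ[u]`: `u_i ↦ (1 + u_i)^k - 1`. -/
noncomputable def psi (σ : Type v) (k : ℕ) : MvPolynomial σ ℚ →ₐ[ℚ] MvPolynomial σ ℚ :=
  aeval (fun i => (1 + X i) ^ k - 1)

theorem psi_X (k : ℕ) (i : σ) : psi σ k (X i) = (1 + X i) ^ k - 1 := by
  simp [psi]

theorem psi_one_add_X (k : ℕ) (i : σ) : psi σ k (1 + X i) = (1 + X i) ^ k := by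
  rw [map_add, map_one, psi_X]; ring

theorem psi_one_eq : psi σ 1 = AlgHom.id ℚ (MvPolynomial σ ℚ) := by
  apply MvPolynomial.algHom_ext
  intro i
  simp [psi]

theorem psi_comp (k l : ℕ) : (psi σ k).comp (psi σ l) = psi σ (l * k) := by
  apply MvPolynomial.algHom_ext
  intro i
  simp only [AlgHom.comp_apply, psi_X, map_sub, map_pow, map_one, psi_one_add_X]
  rw [← pow_mul, mul_comm]

/-- `ψ^k` as an additive map. -/
noncomputable def psiAdd (σ : Type v) (k : ℕ) : MvPolynomial σ ℚ →+ MvPolynomial σ ℚ :=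
  ((psi σ k : MvPolynomial σ ℚ →+* MvPolynomial σ ℚ) : MvPolynomial σ ℚ →+ MvPolynomial σ ℚ)

theorem psiAdd_apply (k : ℕ) (x : MvPolynomial σ ℚ) : psiAdd σ k x = psi σ k x := rfl

theorem psiAdd_one : psiAdd σ 1 = AddMonoidHom.id (MvPolynomial σ ℚ) := by
  refine AddMonoidHom.ext fun x => ?_
  rw [psiAdd_apply, psi_one_eq]
  rfl

/-- The λ-structure on `ℚ[u]` with Adams operations `ψ^k`. -/
@[reducible] noncomputable def polyOps (σ : Type v) : LambdaOps (MvPolynomial σ ℚ) :=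
  Groth.Agent.Lib.Helper4.Newton.opsOf (psiAdd σ) psiAdd_one

attribute [local instance] polyOps

theorem adamsOp_eq (k : ℕ) (hk : 1 ≤ k) (x : MvPolynomial σ ℚ) : adamsOp k x = psi σ k x := by
  obtain ⟨k, rfl⟩ := Nat.exists_eq_succ_of_ne_zero (by omega : k ≠ 0)
  exact Groth.Agent.Lib.Helper4.Newton.adamsOp_opsOf (psiAdd σ) psiAdd_one k x

theorem isSpecial : IsSpecial (MvPolynomial σ ℚ) := by
  apply Groth.Agent.Lib.Helper4.LUniv.isSpecial_of_adamsOp
  · intro k hk
    rw [adamsOp_eq k hk, map_one]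
  · intro k hk x y
    rw [adamsOp_eq k hk, adamsOp_eq k hk, adamsOp_eq k hk, map_mul]
  · intro k k' hk hk' x
    rw [adamsOp_eq k' hk', adamsOp_eq k hk, adamsOp_eq _ (Nat.mul_pos hk hk'), mul_comm k k',
      ← psi_comp]
    rfl

theorem lam_one_eq_zero (k : ℕ) (hk : 2 ≤ k) : LambdaOps.lam k (1 : MvPolynomial σ ℚ) = 0 :=
  isSpecial.lam_one_eq_zero k hk

/-! ### Line elements -/

/-- The monoid of monomials in the `1 + u_i`. -/
noncomputable def L (σ : Type v) : Submonoid (MvPolynomial σ ℚ) :=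
  Submonoid.closure (Set.range fun i : σ => (1 + X i : MvPolynomial σ ℚ))

theorem one_add_X_mem_L (i : σ) : (1 + X i : MvPolynomial σ ℚ) ∈ L σ :=
  Submonoid.subset_closure ⟨i, rfl⟩

theorem psi_of_mem_L {y : MvPolynomial σ ℚ} (hy : y ∈ L σ) (k : ℕ) : psi σ k y = y ^ k := by
  induction hy using Submonoid.closure_induction with
  | mem y hy =>
    obtain ⟨i, rfl⟩ := hy
    exact psi_one_add_X k i
  | one => simp
  | mul x y _ _ hx hy => rw [map_mul, hx, hy, mul_pow]

theorem highDeg_sub_one_of_mem_L {y : MvPolynomial σ ℚ} (hy : y ∈ L σ) : HighDeg 1 (y - 1) := by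
  induction hy using Submonoid.closure_induction with
  | mem y hy =>
    obtain ⟨i, rfl⟩ := hy
    rw [add_sub_cancel_left]
    exact highDeg_X i
  | one => rw [sub_self]; exact highDeg_of_zero 1
  | mul x y _ _ hx hy =>
    have e : x * y - 1 = (x - 1) * (y - 1) + (x - 1) + (y - 1) := by ring
    rw [e]
    exact (((hx.mul hy).mono (by omega)).add hx).add hy

theorem lam_eq_zero_of_mem_L {y : MvPolynomial σ ℚ} (hy : y ∈ L σ) (n : ℕ) (hn : 2 ≤ n) :
    LambdaOps.lam n y = 0 := by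
  induction n using Nat.strong_induction_on with
  | _ n ih =>
    obtain ⟨n, rfl⟩ : ∃ m, n = m + 2 := ⟨n - 2, by omega⟩
    have hN := Groth.Agent.Lib.Helper4.Newton.newton y (n + 1)
    have hsum : ∑ k ∈ range (n + 1 + 1), ((-1 : MvPolynomial σ ℚ) ^ k * adamsOp (k + 1) y) *
        LambdaOps.lam (n + 1 - k) y = 0 := by
      rw [sum_range_succ, sum_range_succ]
      rw [sum_eq_zero]
      · rw [Nat.sub_self, LambdaOps.lam_zero, show n + 1 - n = 1 by omega, LambdaOps.lam_one,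
          adamsOp_eq _ (by omega), adamsOp_eq _ (by omega), psi_of_mem_L hy, psi_of_mem_L hy]
        ring
      · intro k hk
        rw [mem_range] at hk
        rw [ih (n + 1 - k) (by omega) (by omega), mul_zero]
    rw [hsum] at hN
    have h2 : ((n + 1 : ℕ) : MvPolynomial σ ℚ) + 1 ≠ 0 := by
      have : ((n + 1 : ℕ) : MvPolynomial σ ℚ) + 1 = ((n + 2 : ℕ) : MvPolynomial σ ℚ) := by
        push_cast; ring
      rw [this]
      exact Nat.cast_ne_zero.mpr (by omega)
    rcases mul_eq_zero.mp hN with h | h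
    · exact h
    · exact absurd h h2

theorem gammaSeries_sub_one_of_mem_L {y : MvPolynomial σ ℚ} (hy : y ∈ L σ) :
    gammaSeries (y - 1) = 1 + PowerSeries.C (y - 1) * PowerSeries.X :=
  gammaSeries_sub_one lam_one_eq_zero y (lam_eq_zero_of_mem_L hy)

/-! ### Good series -/

/-- A power series whose `i`-th coefficient has all monomials of degree `≥ i`. -/
def Good (f : PowerSeries (MvPolynomial σ ℚ)) : Prop := ∀ i, HighDeg i (PowerSeries.coeff i f)

theorem good_one : Good (1 : PowerSeries (MvPolynomial σ ℚ)) := by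
  intro i
  rw [PowerSeries.coeff_one]
  split_ifs with h
  · subst h; exact highDeg_zero' _
  · exact highDeg_of_zero _

theorem good_mul {f g : PowerSeries (MvPolynomial σ ℚ)} (hf : Good f) (hg : Good g) :
    Good (f * g) := by
  intro i
  rw [PowerSeries.coeff_mul]
  apply HighDeg.sum
  rintro ⟨p, q⟩ hpq
  have hpq' : p + q = i := by simpa using hpq
  rw [← hpq']
  exact (hf p).mul (hg q)

theorem good_inv {f g : PowerSeries (MvPolynomial σ ℚ)} (hf : Good f)
    (hf0 : PowerSeries.coeff 0 f = 1) (h : g * f = 1) : Good g := by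
  intro i
  induction i using Nat.strong_induction_on with
  | _ i ih =>
    have hc := congrArg (PowerSeries.coeff i) h
    rw [PowerSeries.coeff_mul, Finset.Nat.sum_antidiagonal_eq_sum_range_succ_mk,
      Finset.sum_range_succ, Nat.sub_self, hf0, mul_one] at hc
    have : PowerSeries.coeff i g = PowerSeries.coeff i (1 : PowerSeries (MvPolynomial σ ℚ)) -
        ∑ p ∈ range i, PowerSeries.coeff p g * PowerSeries.coeff (i - p) f := by
      rw [← hc]; ring
    rw [this]
    apply HighDeg.sub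
    · exact good_one i
    · apply HighDeg.sum
      intro p hp
      rw [Finset.mem_range] at hp
      have := (ih p hp).mul (hf (i - p))
      rwa [Nat.add_sub_cancel' hp.le] at this

theorem good_one_add_C_mul_X {a : MvPolynomial σ ℚ} (ha : HighDeg 1 a) :
    Good (1 + PowerSeries.C a * PowerSeries.X) := by
  intro i
  rcases i with _ | _ | i
  · exact highDeg_zero' _
  · simpa [PowerSeries.coeff_one] using ha
  · have : PowerSeries.coeff (i + 1 + 1) (1 + PowerSeries.C a * PowerSeries.X :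
        PowerSeries (MvPolynomial σ ℚ)) = 0 := by
      rw [map_add, PowerSeries.coeff_one, if_neg (by omega), PowerSeries.coeff_succ_mul_X,
        PowerSeries.coeff_C, if_neg (by omega), add_zero]
    rw [this]
    exact highDeg_of_zero _

/-! ### The group `D` -/

/-- The additive group generated by the `y - 1`, `y` a monomial in the `1 + u_i`. -/
noncomputable def D (σ : Type v) : AddSubgroup (MvPolynomial σ ℚ) :=
  AddSubgroup.closure {p | ∃ y ∈ L σ, p = y - 1}

theorem X_mem_D (i : σ) : (X i : MvPolynomial σ ℚ) ∈ D σ :=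
  AddSubgroup.subset_closure ⟨1 + X i, one_add_X_mem_L i, by ring⟩

theorem D_mul {p q : MvPolynomial σ ℚ} (hp : p ∈ D σ) (hq : q ∈ D σ) : p * q ∈ D σ := by
  induction hp using AddSubgroup.closure_induction with
  | mem p hp =>
    obtain ⟨y, hy, rfl⟩ := hp
    induction hq using AddSubgroup.closure_induction with
    | mem q hq =>
      obtain ⟨z, hz, rfl⟩ := hq
      have e : (y - 1) * (z - 1) = (y * z - 1) - (y - 1) - (z - 1) := by ring
      rw [e]
      exact (D σ).sub_mem ((D σ).sub_mem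
        (AddSubgroup.subset_closure ⟨y * z, (L σ).mul_mem hy hz, rfl⟩)
        (AddSubgroup.subset_closure ⟨y, hy, rfl⟩)) (AddSubgroup.subset_closure ⟨z, hz, rfl⟩)
    | zero => rw [mul_zero]; exact (D σ).zero_mem
    | add a b _ _ ha hb => rw [mul_add]; exact (D σ).add_mem ha hb
    | neg a _ ha => rw [mul_neg]; exact (D σ).neg_mem ha
  | zero => rw [zero_mul]; exact (D σ).zero_mem
  | add a b _ _ ha hb => rw [add_mul]; exact (D σ).add_mem ha hb
  | neg a _ ha => rw [neg_mul]; exact (D σ).neg_mem ha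

theorem D_intCast_mul {p : MvPolynomial σ ℚ} (hp : p ∈ D σ) (c : ℤ) :
    (c : MvPolynomial σ ℚ) * p ∈ D σ := by
  rw [← zsmul_eq_mul]
  exact (D σ).zsmul_mem hp c

theorem D_sum {ι : Type*} (s : Finset ι) (f : ι → MvPolynomial σ ℚ) (h : ∀ i ∈ s, f i ∈ D σ) :
    ∑ i ∈ s, f i ∈ D σ := (D σ).sum_mem h

theorem D_prod {ι : Type*} (s : Finset ι) (hs : s.Nonempty) (f : ι → MvPolynomial σ ℚ)
    (h : ∀ i ∈ s, f i ∈ D σ) : ∏ i ∈ s, f i ∈ D σ := by
  classical
  induction hs using Finset.Nonempty.cons_induction with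
  | singleton a => simpa using h a (by simp)
  | cons a s ha hs ih =>
    rw [Finset.prod_cons]
    exact D_mul (h a (by simp)) (ih fun i hi => h i (by simp [hi]))

theorem good_gammaSeries_of_mem_D {p : MvPolynomial σ ℚ} (hp : p ∈ D σ) :
    Good (gammaSeries p) := by
  induction hp using AddSubgroup.closure_induction with
  | mem p hp =>
    obtain ⟨y, hy, rfl⟩ := hp
    rw [gammaSeries_sub_one_of_mem_L hy]
    exact good_one_add_C_mul_X (highDeg_sub_one_of_mem_L hy)
  | zero => rw [gammaSeries_zero]; exact good_one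
  | add a b _ _ ha hb => rw [gammaSeries_add]; exact good_mul ha hb
  | neg a _ ha =>
    refine good_inv ha ?_ (gammaSeries_neg_mul a)
    rw [PowerSeries.coeff_zero_eq_constantCoeff_apply, constantCoeff_gammaSeries]

theorem highDeg_gamma_of_mem_D {p : MvPolynomial σ ℚ} (hp : p ∈ D σ) (i : ℕ) :
    HighDeg i (gamma i p) := by
  have := good_gammaSeries_of_mem_D hp i
  rwa [coeff_gammaSeries] at this

/-! ### Adams operations and degrees -/

theorem highDeg_pow {m : ℕ} {p : MvPolynomial σ ℚ} (hp : HighDeg m p) (k : ℕ) :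
    HighDeg (m * k) (p ^ k) := by
  induction k with
  | zero => rw [mul_zero]; exact highDeg_zero' _
  | succ k ih => rw [pow_succ, mul_add, mul_one]; exact ih.mul hp

theorem highDeg_psi_X (n : ℕ) (i : σ) : HighDeg 1 (psi σ n (X i)) := by
  obtain ⟨h, hh⟩ := exists_one_add_pow_eq (X i : MvPolynomial σ ℚ) n
  rw [psi_X, hh]
  have e : (1 + (n : MvPolynomial σ ℚ) * X i + X i ^ 2 * h - 1 : MvPolynomial σ ℚ) =
      C (n : ℚ) * X i + X i * (X i * h) := by
    rw [map_natCast]; ring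
  rw [e]
  refine (highDeg_C_mul _ (highDeg_X i)).add ?_
  have := (highDeg_X (R := ℚ) i).mul (highDeg_zero' (X i * h))
  simpa using this

/-- `p` has "Adams weight" `m` for `ψ^n`. -/
def AW (n m : ℕ) (p : MvPolynomial σ ℚ) : Prop :=
  HighDeg m p ∧ HighDeg m (psi σ n p) ∧ HighDeg (m + 1) (psi σ n p - C ((n : ℚ) ^ m) * p)

theorem aw_C (n : ℕ) (c : ℚ) : AW n 0 (C c : MvPolynomial σ ℚ) := by
  refine ⟨highDeg_zero' _, highDeg_zero' _, ?_⟩
  have : psi σ n (C c) - C ((n : ℚ) ^ 0) * C c = 0 := by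
    rw [pow_zero, map_one, one_mul]
    simp [psi]
  rw [this]
  exact highDeg_of_zero _

theorem aw_X (n : ℕ) (i : σ) : AW n 1 (X i : MvPolynomial σ ℚ) := by
  refine ⟨highDeg_X i, highDeg_psi_X n i, ?_⟩
  obtain ⟨h, hh⟩ := exists_one_add_pow_eq (X i : MvPolynomial σ ℚ) n
  rw [psi_X, hh, pow_one]
  have e : (1 + (n : MvPolynomial σ ℚ) * X i + X i ^ 2 * h - 1 - C (n : ℚ) * X i :
      MvPolynomial σ ℚ) = X i * (X i * h) := by
    rw [map_natCast]; ring
  rw [e]
  have := (highDeg_X (R := ℚ) i).mul ((highDeg_X (R := ℚ) i).mul (highDeg_zero' h))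
  simpa using this

theorem AW.mul {n a b : ℕ} {p q : MvPolynomial σ ℚ} (hp : AW n a p) (hq : AW n b q) :
    AW n (a + b) (p * q) := by
  refine ⟨hp.1.mul hq.1, by rw [map_mul]; exact hp.2.1.mul hq.2.1, ?_⟩
  have e : psi σ n (p * q) - C ((n : ℚ) ^ (a + b)) * (p * q) =
      (psi σ n p - C ((n : ℚ) ^ a) * p) * psi σ n q +
        C ((n : ℚ) ^ a) * (p * (psi σ n q - C ((n : ℚ) ^ b) * q)) := by
    rw [map_mul, pow_add, map_mul]; ring
  rw [e]
  apply HighDeg.add
  · have := hp.2.2.mul hq.2.1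
    rwa [show a + 1 + b = a + b + 1 by ring] at this
  · apply highDeg_C_mul
    have := hp.1.mul hq.2.2
    rwa [show a + (b + 1) = a + b + 1 by ring] at this

theorem AW.pow {n a : ℕ} {p : MvPolynomial σ ℚ} (hp : AW n a p) (k : ℕ) : AW n (a * k) (p ^ k) := by
  induction k with
  | zero =>
    rw [mul_zero, pow_zero]
    have := aw_C (σ := σ) n 1
    rwa [map_one] at this
  | succ k ih => rw [pow_succ, mul_add, mul_one]; exact ih.mul hp

theorem AW.prod {n : ℕ} {ι : Type*} (s : Finset ι) (f : ι → MvPolynomial σ ℚ) (d : ι → ℕ)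
    (h : ∀ i ∈ s, AW n (d i) (f i)) : AW n (∑ i ∈ s, d i) (∏ i ∈ s, f i) := by
  classical
  induction s using Finset.induction_on with
  | empty =>
    rw [sum_empty, prod_empty]
    have := aw_C (σ := σ) n 1
    rwa [map_one] at this
  | insert a s ha ih =>
    rw [sum_insert ha, prod_insert ha]
    exact (h a (mem_insert_self a s)).mul (ih fun i hi => h i (mem_insert_of_mem hi))

theorem aw_monomial (n : ℕ) (μ : σ →₀ ℕ) (c : ℚ) : AW n μ.degree (monomial μ c) := by
  rw [monomial_eq]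
  have h1 : AW n (∑ i ∈ μ.support, 1 * μ i) (∏ i ∈ μ.support, (X i : MvPolynomial σ ℚ) ^ μ i) :=
    AW.prod _ _ _ fun i _ => (aw_X n i).pow (μ i)
  have h2 := (aw_C (σ := σ) n c).mul h1
  have e : 0 + ∑ i ∈ μ.support, 1 * μ i = μ.degree := by
    simp [Finsupp.degree]
  rw [e] at h2
  exact h2

theorem AW.weaken {n a b : ℕ} {p : MvPolynomial σ ℚ} (hp : AW n a p) (hba : b ≤ a) :
    HighDeg b p ∧ HighDeg b (psi σ n p) ∧ HighDeg (b + 1) (psi σ n p - C ((n : ℚ) ^ b) * p) := by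
  refine ⟨hp.1.mono hba, hp.2.1.mono hba, ?_⟩
  rcases Nat.lt_or_ge b a with h | h
  · exact (hp.2.1.mono (by omega)).sub (highDeg_C_mul _ (hp.1.mono (by omega)))
  · have : a = b := le_antisymm h hba
    subst this
    exact hp.2.2

theorem aw_of_highDeg (n : ℕ) {m : ℕ} {p : MvPolynomial σ ℚ} (hp : HighDeg m p) : AW n m p := by
  rw [← support_sum_monomial_coeff p]
  have key : ∀ μ ∈ p.support, AW n m (monomial μ (coeff μ p)) := fun μ hμ =>
    (aw_monomial n μ (coeff μ p)).weaken (hp μ hμ)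
  refine ⟨HighDeg.sum _ _ fun μ hμ => (key μ hμ).1, ?_, ?_⟩
  · rw [map_sum]
    exact HighDeg.sum _ _ fun μ hμ => (key μ hμ).2.1
  · rw [map_sum, mul_sum, ← sum_sub_distrib]
    exact HighDeg.sum _ _ fun μ hμ => (key μ hμ).2.2

/-! ### Newton's identities and degrees -/

theorem highDeg_lam {m : ℕ} (_hm : 1 ≤ m) {p : MvPolynomial σ ℚ} (hp : HighDeg m p) (n : ℕ)
    (hn : 1 ≤ n) : HighDeg m (LambdaOps.lam n p) := by
  induction n using Nat.strong_induction_on with
  | _ n ih =>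
    obtain ⟨n, rfl⟩ : ∃ k, n = k + 1 := ⟨n - 1, by omega⟩
    have hN := Groth.Agent.Lib.Helper4.Newton.newton p n
    have hS : HighDeg m (∑ k ∈ range (n + 1), ((-1 : MvPolynomial σ ℚ) ^ k * adamsOp (k + 1) p) *
        LambdaOps.lam (n - k) p) := by
      apply HighDeg.sum
      intro k hk
      rw [adamsOp_eq _ (by omega)]
      have h1 : HighDeg m ((-1 : MvPolynomial σ ℚ) ^ k * psi σ (k + 1) p) := by
        have : ((-1 : MvPolynomial σ ℚ) ^ k) = C ((-1 : ℚ) ^ k) := by simp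
        rw [this]
        exact highDeg_C_mul _ (aw_of_highDeg (k + 1) hp).2.1
      have := h1.mul (highDeg_zero' (LambdaOps.lam (n - k) p))
      simpa using this
    have hinv : LambdaOps.lam (n + 1) p = C (1 / ((n : ℚ) + 1)) *
        (LambdaOps.lam (n + 1) p * ((n : MvPolynomial σ ℚ) + 1)) := by
      have h0 : ((n : ℚ) + 1) ≠ 0 := by positivity
      have : ((n : MvPolynomial σ ℚ) + 1) = C ((n : ℚ) + 1) := by simp
      rw [this, mul_comm (LambdaOps.lam (n + 1) p), ← mul_assoc, ← map_mul,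
        one_div_mul_cancel h0, map_one, one_mul]
    rw [hinv, hN]
    exact highDeg_C_mul _ hS

theorem highDeg_lam_sub {m : ℕ} (hm : 1 ≤ m) {p : MvPolynomial σ ℚ} (hp : HighDeg m p) (n : ℕ) :
    HighDeg (m + 1) (LambdaOps.lam (n + 1) p -
      C ((-1 : ℚ) ^ n * ((n : ℚ) + 1) ^ (m - 1)) * p) := by
  have hN := Groth.Agent.Lib.Helper4.Newton.newton p n
  rw [sum_range_succ, Nat.sub_self, LambdaOps.lam_zero, mul_one, adamsOp_eq _ (by omega)] at hN
  have hS : HighDeg (m + 1) (∑ k ∈ range n, ((-1 : MvPolynomial σ ℚ) ^ k * adamsOp (k + 1) p) *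
      LambdaOps.lam (n - k) p) := by
    apply HighDeg.sum
    intro k hk
    rw [mem_range] at hk
    rw [adamsOp_eq _ (by omega)]
    have h1 : HighDeg m ((-1 : MvPolynomial σ ℚ) ^ k * psi σ (k + 1) p) := by
      have : ((-1 : MvPolynomial σ ℚ) ^ k) = C ((-1 : ℚ) ^ k) := by simp
      rw [this]
      exact highDeg_C_mul _ (aw_of_highDeg (k + 1) hp).2.1
    exact (h1.mul (highDeg_lam hm hp (n - k) (by omega))).mono (by omega)
  have hA := (aw_of_highDeg (n + 1) hp).2.2
  have h0 : ((n : ℚ) + 1) ≠ 0 := by positivity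
  have hcast : ((n : MvPolynomial σ ℚ) + 1) = C ((n : ℚ) + 1) := by simp
  have hneg : ((-1 : MvPolynomial σ ℚ) ^ n) = C ((-1 : ℚ) ^ n) := by simp
  have hpow : ((n : ℚ) + 1) ^ m = ((n : ℚ) + 1) ^ (m - 1) * ((n : ℚ) + 1) := by
    rw [← pow_succ]; congr 1; omega
  have key : LambdaOps.lam (n + 1) p - C ((-1 : ℚ) ^ n * ((n : ℚ) + 1) ^ (m - 1)) * p =
      C (1 / ((n : ℚ) + 1)) * (∑ k ∈ range n, ((-1 : MvPolynomial σ ℚ) ^ k * adamsOp (k + 1) p) *
        LambdaOps.lam (n - k) p +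
        C ((-1 : ℚ) ^ n) * (psi σ (n + 1) p - C (((n + 1 : ℕ) : ℚ) ^ m) * p)) := by
    have h3 : LambdaOps.lam (n + 1) p = C (1 / ((n : ℚ) + 1)) *
        (LambdaOps.lam (n + 1) p * ((n : MvPolynomial σ ℚ) + 1)) := by
      rw [hcast, mul_comm (LambdaOps.lam (n + 1) p), ← mul_assoc, ← map_mul,
        one_div_mul_cancel h0, map_one, one_mul]
    rw [h3, hN, hneg]
    have h4 : C ((-1 : ℚ) ^ n * ((n : ℚ) + 1) ^ (m - 1)) * p =
        C (1 / ((n : ℚ) + 1)) * (C ((-1 : ℚ) ^ n) * (C (((n + 1 : ℕ) : ℚ) ^ m) * p)) := by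
      rw [← mul_assoc, ← mul_assoc, ← map_mul, ← map_mul]
      congr 2
      push_cast
      rw [hpow]
      field_simp
    rw [h4]
    ring
  rw [key]
  exact highDeg_C_mul _ (hS.add (highDeg_C_mul _ hA))

theorem highDeg_gamma {m : ℕ} (hm : 1 ≤ m) {p : MvPolynomial σ ℚ} (hp : HighDeg m p) (i : ℕ)
    (hi : 1 ≤ i) : HighDeg m (gamma i p) := by
  rw [gamma, if_neg (by omega)]
  apply HighDeg.sum
  intro j _
  have : ((Nat.choose (i - 1) (j - 1) : ℕ) : MvPolynomial σ ℚ) =
      C ((Nat.choose (i - 1) (j - 1) : ℕ) : ℚ) := by simp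
  rw [this]
  apply highDeg_C_mul
  split_ifs with h
  · exact highDeg_of_zero _
  · exact highDeg_lam hm hp j (by omega)

/-- the alternating sum `Σ_k (-1)^k C(n,k) (k+1)^n = (-1)^n n!`. -/
theorem alt_sum_choose_pow (n : ℕ) :
    ∑ k ∈ range (n + 1), (-1 : ℚ) ^ k * (n.choose k : ℚ) * ((k : ℚ) + 1) ^ n =
      (-1 : ℚ) ^ n * (n.factorial : ℚ) := by
  have h1 := congrFun (fwdDiff_iter_eq_factorial (R := ℚ) (n := n)) 1
  rw [fwdDiff_iter_eq_sum_shift] at h1
  have h2 : (-1 : ℚ) ^ n * ∑ k ∈ range (n + 1), ((-1 : ℤ) ^ (n - k) * (n.choose k : ℤ)) •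
      ((1 : ℚ) + k • (1 : ℚ)) ^ n = (-1 : ℚ) ^ n * (n.factorial : ℚ) := by
    rw [h1]; simp
  rw [← h2, mul_sum]
  apply sum_congr rfl
  intro k hk
  rw [mem_range] at hk
  have h3 : (-1 : ℚ) ^ n * (-1 : ℚ) ^ (n - k) = (-1 : ℚ) ^ k := by
    rw [← pow_add]
    have : n + (n - k) = 2 * (n - k) + k := by omega
    rw [this, pow_add, pow_mul]
    simp
  rw [zsmul_eq_mul]
  push_cast
  rw [← h3]
  simp only [nsmul_eq_mul, mul_one]
  ring

theorem highDeg_gamma_sub {m : ℕ} (hm : 1 ≤ m) {p : MvPolynomial σ ℚ} (hp : HighDeg m p) :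
    HighDeg (m + 1) (gamma m p - C ((-1 : ℚ) ^ (m - 1) * ((m - 1).factorial : ℚ)) * p) := by
  obtain ⟨n, rfl⟩ : ∃ k, m = k + 1 := ⟨m - 1, by omega⟩
  rw [gamma, if_neg (by omega), Nat.add_sub_cancel, sum_range_succ', ← alt_sum_choose_pow n,
    map_sum, sum_mul]
  simp only [if_pos, mul_zero, add_zero, Nat.add_sub_cancel, Nat.succ_ne_zero, if_false]
  rw [← sum_sub_distrib]
  apply HighDeg.sum
  intro k _
  have hk := highDeg_lam_sub hm hp k
  rw [Nat.add_sub_cancel] at hk
  have e : ((n.choose k : ℕ) : MvPolynomial σ ℚ) * LambdaOps.lam (k + 1) p -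
      C ((-1 : ℚ) ^ k * (n.choose k : ℚ) * ((k : ℚ) + 1) ^ n) * p =
      C ((n.choose k : ℕ) : ℚ) * (LambdaOps.lam (k + 1) p -
        C ((-1 : ℚ) ^ k * ((k : ℚ) + 1) ^ n) * p) := by
    rw [mul_sub, ← mul_assoc, ← map_mul]
    have e1 : ((n.choose k : ℕ) : MvPolynomial σ ℚ) = C ((n.choose k : ℕ) : ℚ) := by simp
    have e2 : (-1 : ℚ) ^ k * (n.choose k : ℚ) * ((k : ℚ) + 1) ^ n =
        ((n.choose k : ℕ) : ℚ) * ((-1 : ℚ) ^ k * ((k : ℚ) + 1) ^ n) := by ring
    rw [e1, e2]
  rw [e]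
  exact highDeg_C_mul _ hk

end Groth.Agent.Lib.Seat56.LamPoly
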