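import Groth.Agent.Lib.Seat56LamUniv

/-!
# Seat56: elementary symmetric functions of several families of variables of *different* sizes

For a finite index type `ι` and `Nf : ι → ℕ`, the variables are `u_{s,a}`, `s ∈ ι`, `a : Fin (Nf s)`;
`efamF Nf s k` is the `k`-th elementary symmetric polynomial of the family `s`.

* `algebraicIndependent_egenF`: the `e_{k+1}(u_{s,·})`, `k < Nf s`, are algebraically independent.
* `ENF ι Nf : ℤ[X_{s,k}] → ℚ[u]`, `X_{s,k} ↦ e_{k+1}(u_{s,·})`; `ENF_eq_zero`: injective on polynomials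
  involving only `X_{s,k}` with `k < Nf s`.
* `xunivF Nf s = Σ_a u_{s,a}` in the special λ-ring `ℚ[u]` (`LamPoly.polyOps`), `gamma_xunivF`,
  `evG_xunivF`.
-/

set_option autoImplicit false
universe v
open MvPolynomial Finset LambdaRing

namespace Groth.Agent.Lib.Seat56.LamSymF

open Groth.Agent.Lib.Helper4 (HighDeg highDeg_of_zero esymm_isHomogeneous' gammaSeries
  coeff_gammaSeries gammaSeries_sum coeff_prod_one_add_C_mul_X)
open Groth.Agent.Lib.Seat56.LamPoly Groth.Agent.Lib.Seat56.LamOps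

variable {ι : Type v} (Nf : ι → ℕ)

/-- the variables: pairs `(s, a)` with `a < Nf s`. -/
abbrev Var : Type v := (s : ι) × Fin (Nf s)

/-- `e_k` of the variables `(s, ·)`. -/
noncomputable def efamF (s : ι) (k : ℕ) : MvPolynomial (Var Nf) ℚ :=
  rename (fun a : Fin (Nf s) => (⟨s, a⟩ : Var Nf)) (esymm (Fin (Nf s)) ℚ k)

theorem efamF_zero (s : ι) : efamF Nf s 0 = 1 := by
  rw [efamF, esymm_zero, map_one]

theorem efamF_eq_sum (s : ι) (k : ℕ) :
    efamF Nf s k = ∑ t ∈ (univ : Finset (Fin (Nf s))).powersetCard k,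
      ∏ a ∈ t, (X (⟨s, a⟩ : Var Nf) : MvPolynomial (Var Nf) ℚ) := by
  rw [efamF, esymm, map_sum]
  apply sum_congr rfl
  intro t _
  rw [map_prod]
  simp

theorem efamF_eq_zero_of_lt (s : ι) (k : ℕ) (h : Nf s < k) : efamF Nf s k = 0 := by
  rw [efamF_eq_sum]
  apply Finset.sum_eq_zero
  intro t ht
  rw [Finset.mem_powersetCard] at ht
  have := Finset.card_le_univ t
  rw [Fintype.card_fin] at this
  omega

/-- the generators `e_{k+1}(u_{s,·})`, `k < Nf s`. -/
noncomputable def egenF (p : Var Nf) : MvPolynomial (Var Nf) ℚ := efamF Nf p.1 (p.2 + 1)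

theorem efamF_mem_adjoin (s : ι) (j : ℕ) (hj : j ≤ Nf s) :
    efamF Nf s j ∈ Algebra.adjoin ℚ (Set.range (egenF Nf)) := by
  rcases j with _ | j
  · rw [efamF_zero]; exact Subalgebra.one_mem _
  · exact Algebra.subset_adjoin ⟨⟨s, ⟨j, by omega⟩⟩, rfl⟩

theorem isIntegral_X (s : ι) (a : Fin (Nf s)) :
    IsIntegral (Algebra.adjoin ℚ (Set.range (egenF Nf)))
      (X (⟨s, a⟩ : Var Nf) : MvPolynomial (Var Nf) ℚ) := by
  classical
  set S := Algebra.adjoin ℚ (Set.range (egenF Nf)) with hS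
  set m : Multiset (MvPolynomial (Var Nf) ℚ) :=
    (univ : Finset (Fin (Nf s))).val.map
      (fun b => (X (⟨s, b⟩ : Var Nf) : MvPolynomial (Var Nf) ℚ)) with hm
  set f : Polynomial (MvPolynomial (Var Nf) ℚ) :=
    (m.map fun t => Polynomial.X - Polynomial.C t).prod with hf
  have hcard : Multiset.card m = Nf s := by simp [hm]
  have hmonic : f.Monic :=
    Polynomial.monic_multiset_prod_of_monic _ _ (fun t _ => Polynomial.monic_X_sub_C t)
  have hroot : f.eval (X (⟨s, a⟩ : Var Nf)) = 0 := by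
    rw [hf, Polynomial.eval_multiset_prod]
    apply Multiset.prod_eq_zero
    rw [Multiset.mem_map]
    refine ⟨Polynomial.X - Polynomial.C (X (⟨s, a⟩ : Var Nf)), ?_, by simp⟩
    rw [Multiset.mem_map]
    exact ⟨X (⟨s, a⟩ : Var Nf), by simp [hm], rfl⟩
  have hes : ∀ j, j ≤ Nf s → m.esymm j ∈ S := by
    intro j hj
    have : m.esymm j = efamF Nf s j := by
      rw [efamF, hm]
      have hren : (rename (fun a : Fin (Nf s) => (⟨s, a⟩ : Var Nf)) (esymm (Fin (Nf s)) ℚ j) :
          MvPolynomial (Var Nf) ℚ) =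
          aeval (fun b : Fin (Nf s) => (X (⟨s, b⟩ : Var Nf) : MvPolynomial (Var Nf) ℚ))
            (esymm (Fin (Nf s)) ℚ j) := by
        rw [rename_eq_aeval]; rfl
      rw [hren]
      exact (aeval_esymm_eq_multiset_esymm (Fin (Nf s)) ℚ j
        (fun b : Fin (Nf s) => (X (⟨s, b⟩ : Var Nf) : MvPolynomial (Var Nf) ℚ))).symm
    rw [this]
    exact efamF_mem_adjoin Nf s j hj
  have hlift : f ∈ Polynomial.lifts (algebraMap S (MvPolynomial (Var Nf) ℚ)) := by
    rw [hf, Multiset.prod_X_sub_X_eq_sum_esymm]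
    apply Subsemiring.sum_mem
    intro j hj
    rw [mem_range, hcard] at hj
    apply Subsemiring.mul_mem
    · apply Subsemiring.pow_mem
      have : (-1 : Polynomial (MvPolynomial (Var Nf) ℚ)) =
          Polynomial.C (algebraMap S (MvPolynomial (Var Nf) ℚ) (-1)) := by simp
      rw [this]
      exact Polynomial.C_mem_lifts _ _
    · apply Subsemiring.mul_mem
      · have : Polynomial.C (m.esymm j) = Polynomial.C
            (algebraMap S (MvPolynomial (Var Nf) ℚ) ⟨m.esymm j, hes j (by omega)⟩) := rfl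
        rw [this]
        exact Polynomial.C_mem_lifts _ _
      · exact Subsemiring.pow_mem _ (Polynomial.X_mem_lifts _) _
  obtain ⟨q, hq, -, hqm⟩ := Polynomial.lifts_and_natDegree_eq_and_monic hlift hmonic
  refine ⟨q, hqm, ?_⟩
  rw [← Polynomial.eval_map, hq]
  exact hroot

theorem isIntegral_all (p : MvPolynomial (Var Nf) ℚ) :
    IsIntegral (Algebra.adjoin ℚ (Set.range (egenF Nf))) p := by
  induction p using MvPolynomial.induction_on with
  | C c =>
    have : (C c : MvPolynomial (Var Nf) ℚ) =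
        algebraMap (Algebra.adjoin ℚ (Set.range (egenF Nf))) (MvPolynomial (Var Nf) ℚ)
          (algebraMap ℚ _ c) := rfl
    rw [this]
    exact isIntegral_algebraMap
  | add p q hp hq => exact hp.add hq
  | mul_X p i hp => exact hp.mul (isIntegral_X Nf i.1 i.2)

theorem algebraicIndependent_egenF [Finite ι] :
    AlgebraicIndependent ℚ (egenF Nf) := by
  have : Algebra.IsIntegral (Algebra.adjoin ℚ (Set.range (egenF Nf)))
      (MvPolynomial (Var Nf) ℚ) := ⟨isIntegral_all Nf⟩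
  have : Algebra.IsAlgebraic (Algebra.adjoin ℚ (Set.range (egenF Nf)))
      (MvPolynomial (Var Nf) ℚ) := Algebra.IsIntegral.isAlgebraic
  have le : Cardinal.mk (Var Nf) ≤ Algebra.trdeg ℚ (MvPolynomial (Var Nf) ℚ) := by
    rw [MvPolynomial.trdeg_of_isDomain, Cardinal.lift_uzero]
  exact (Algebra.IsAlgebraic.isTranscendenceBasis_of_le_trdeg_of_finite ℚ (egenF Nf) le).1

/-! ### The universal evaluation -/

/-- `X_{s,k} ↦ e_{k+1}(u_{s,·})`. -/
noncomputable def ENF (ι : Type v) (Nf : ι → ℕ) :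
    MvPolynomial (ι × ℕ) ℤ →ₐ[ℤ] MvPolynomial (Var Nf) ℚ :=
  aeval (fun p : ι × ℕ => efamF Nf p.1 (p.2 + 1))

@[simp] theorem ENF_X (p : ι × ℕ) : ENF ι Nf (X p) = efamF Nf p.1 (p.2 + 1) := by
  simp [ENF]

theorem ENF_eq_zero [Finite ι] (F : MvPolynomial (ι × ℕ) ℤ)
    (hF : ∀ p ∈ F.vars, p.2 < Nf p.1) (h : ENF ι Nf F = 0) : F = 0 := by
  classical
  set j : Var Nf → ι × ℕ := fun q => (q.1, q.2.val) with hj
  have hjinj : Function.Injective j := by
    rintro ⟨s, a⟩ ⟨s', a'⟩ h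
    simp only [hj, Prod.mk.injEq] at h
    obtain ⟨rfl, h2⟩ := h
    congr
    exact Fin.ext h2
  have hvars : (F.vars : Set (ι × ℕ)) ⊆ Set.range j := by
    intro p hp
    exact ⟨⟨p.1, ⟨p.2, hF p hp⟩⟩, rfl⟩
  obtain ⟨F₀, hF₀⟩ := exists_rename_eq_of_vars_subset_range F j hjinj hvars
  have h1 : ENF ι Nf F = aeval (egenF Nf) (map (Int.castRingHom ℚ) F₀) := by
    rw [← hF₀, ENF, aeval_rename]
    have : (map (Int.castRingHom ℚ) F₀) = map (algebraMap ℤ ℚ) F₀ := rfl
    rw [this, aeval_map_algebraMap]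
    rfl
  rw [h1] at h
  have h2 : map (Int.castRingHom ℚ) F₀ = 0 := by
    apply algebraicIndependent_egenF Nf
    rw [h, map_zero]
  have h3 : F₀ = 0 := by
    apply map_injective (Int.castRingHom ℚ) Int.cast_injective
    rw [h2, map_zero]
  rw [← hF₀, h3, map_zero]

/-! ### The λ-ring side -/

attribute [local instance] polyOps

/-- the universal family `x_s = Σ_a u_{s,a}`. -/
noncomputable def xunivF : ι → MvPolynomial (Var Nf) ℚ :=
  fun s => ∑ a : Fin (Nf s), X (⟨s, a⟩ : Var Nf)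

theorem gamma_xunivF (s : ι) (k : ℕ) : gamma k (xunivF Nf s) = efamF Nf s k := by
  classical
  rw [← coeff_gammaSeries, xunivF, gammaSeries_sum, efamF_eq_sum]
  have : ∏ a : Fin (Nf s), gammaSeries (X (⟨s, a⟩ : Var Nf) : MvPolynomial (Var Nf) ℚ) =
      ∏ a : Fin (Nf s), (1 + PowerSeries.C (X (⟨s, a⟩ : Var Nf) : MvPolynomial (Var Nf) ℚ) *
        PowerSeries.X) :=
    prod_congr rfl fun a _ => LamUniv.gammaSeries_X (⟨s, a⟩ : Var Nf)
  rw [this, coeff_prod_one_add_C_mul_X]

theorem evG_xunivF (F : U ι) : evG (xunivF Nf) F = ENF ι Nf F := by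
  rw [evG, ENF]
  congr 2
  funext p
  exact gamma_xunivF Nf p.1 (p.2 + 1)

end Groth.Agent.Lib.Seat56.LamSymF
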