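import Groth.Agent.Lib.Seat56LamSymF
import Groth.Agent.Lib.Seat56LamGr

/-!
# Seat56: universal operation polynomials modulo "`γ^k(n₀) = 0` for `k > d`" and division by `γ^d(n₀)`

* `kill n₀ e`: the endomorphism of `U ι` killing the variables `X_{n₀,k}`, `k ≥ e`
  (`evG_kill`, `kill_kill`, `coeff_kill`, `inW_kill`).
* weight statements for an arbitrary representing polynomial: `inW_of_repG`, `inW_of_repG_of_inW`,
  `inW_sub_of_repG`.
* `kill_repG_eq_zero`: the universal polynomial of `γ^p(F · γ^d(n₀))`, `p ≥ 1`, vanishes modulo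
  `X_{n₀,k}`, `k ≥ d - 1`.
* `exists_div`: `γ^p(F · γ^d(n₀)) = γ^d(n₀) · G` on families with `γ^k(n₀) = 0` for `k > d`, with `G` of
  weight `≥ max i (p - d)` when `F` has weight `≥ i`, and `G ≡ (-1)^(p-1) (p-1)! F` modulo weight
  `≥ i + 1` when `p = d + i`.
-/

set_option autoImplicit false
universe v
open Finset LambdaRing MvPolynomial

namespace Groth.Agent.Lib.Seat56.LamTrunc

open Groth.Agent.Lib.Helper4 (HighDeg gammaSeries coeff_gammaSeries)
open Groth.Agent.Lib.Seat56.LamPoly Groth.Agent.Lib.Seat56.LamOps Groth.Agent.Lib.Seat56.LamSym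
  Groth.Agent.Lib.Seat56.LamUniv Groth.Agent.Lib.Seat56.LamSymF Groth.Agent.Lib.Seat56.LamGr

section Kill

variable {ι : Type v} [DecidableEq ι] (n₀ : ι)

/-- the variable `p` is killed -/
def Killed (e : ℕ) (p : ι × ℕ) : Prop := p.1 = n₀ ∧ e ≤ p.2

instance (e : ℕ) (p : ι × ℕ) : Decidable (Killed n₀ e p) := by unfold Killed; infer_instance

/-- kill the variables `X_{n₀,k}`, `k ≥ e`. -/
noncomputable def kill (e : ℕ) : U ι →ₐ[ℤ] U ι :=
  aeval (fun p : ι × ℕ => if Killed n₀ e p then (0 : U ι) else X p)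

theorem kill_X (e : ℕ) (p : ι × ℕ) :
    kill n₀ e (X p) = if Killed n₀ e p then (0 : U ι) else X p := by
  rw [kill, aeval_X]

theorem evG_kill {A : Type*} [CommRing A] [LambdaOps A] (e : ℕ) (x : ι → A)
    (hx : ∀ k, e ≤ k → gamma (k + 1) (x n₀) = 0) (F : U ι) :
    evG x (kill n₀ e F) = evG x F := by
  have : (evG x).comp (kill n₀ e) = evG x := by
    apply MvPolynomial.algHom_ext
    intro p
    rw [AlgHom.comp_apply, kill_X]
    split_ifs with h
    · obtain ⟨h1, h2⟩ := h
      rw [map_zero, evG_X, h1, hx _ h2]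
    · rfl
  exact DFunLike.congr_fun this F

theorem kill_kill {e e' : ℕ} (h : e ≤ e') (F : U ι) :
    kill n₀ e (kill n₀ e' F) = kill n₀ e F := by
  have : (kill n₀ e).comp (kill n₀ e') = kill n₀ e := by
    apply MvPolynomial.algHom_ext
    intro p
    rw [AlgHom.comp_apply, kill_X]
    split_ifs with h'
    · rw [map_zero, kill_X, if_pos ⟨h'.1, h.trans h'.2⟩]
    · rfl
  exact DFunLike.congr_fun this F

/-- the monomial `μ` involves no killed variable -/
def Avoids (e : ℕ) (μ : ι × ℕ →₀ ℕ) : Prop := ∀ p ∈ μ.support, ¬ Killed n₀ e p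

instance (e : ℕ) (μ : ι × ℕ →₀ ℕ) : Decidable (Avoids n₀ e μ) := by
  unfold Avoids; infer_instance

theorem kill_monomial (e : ℕ) (μ : ι × ℕ →₀ ℕ) (c : ℤ) :
    kill n₀ e (monomial μ c) = if Avoids n₀ e μ then monomial μ c else 0 := by
  rw [kill, aeval_monomial]
  split_ifs with h
  · rw [monomial_eq]
    congr 1
    apply Finset.prod_congr rfl
    intro p hp
    simp only
    rw [if_neg (h p hp)]
  · unfold Avoids at h
    push Not at h
    obtain ⟨p, hp, hk⟩ := h
    have : (μ.prod fun p k => (if Killed n₀ e p then (0 : U ι) else X p) ^ k) = 0 := by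
      apply Finset.prod_eq_zero hp
      show (if Killed n₀ e p then (0 : U ι) else X p) ^ (μ p) = 0
      rw [if_pos hk]
      exact zero_pow (Finsupp.mem_support_iff.mp hp)
    rw [this, mul_zero]

theorem coeff_kill (e : ℕ) (F : U ι) (ν : ι × ℕ →₀ ℕ) :
    coeff ν (kill n₀ e F) = if Avoids n₀ e ν then coeff ν F else 0 := by
  conv_lhs => rw [← MvPolynomial.support_sum_monomial_coeff F]
  rw [map_sum, coeff_sum]
  simp only [kill_monomial]
  by_cases hν : Avoids n₀ e ν
  · rw [if_pos hν]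
    by_cases hs : ν ∈ F.support
    · rw [Finset.sum_eq_single ν]
      · rw [if_pos hν, coeff_monomial, if_pos rfl]
      · intro μ _ hμ
        split_ifs
        · rw [coeff_monomial, if_neg hμ]
        · rw [coeff_zero]
      · intro h; exact absurd hs h
    · rw [MvPolynomial.notMem_support_iff.mp hs]
      apply Finset.sum_eq_zero
      intro μ hμ
      split_ifs
      · rw [coeff_monomial, if_neg (fun h : μ = ν => hs (h ▸ hμ))]
      · rw [coeff_zero]
  · rw [if_neg hν]
    apply Finset.sum_eq_zero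
    intro μ _
    split_ifs with h
    · rw [coeff_monomial, if_neg (fun h' : μ = ν => hν (h' ▸ h))]
    · rw [coeff_zero]

theorem inW_kill {w : ℕ} (e : ℕ) {F : U ι} (hF : InW w F) : InW w (kill n₀ e F) := by
  intro ν hν
  rw [MvPolynomial.mem_support_iff, coeff_kill] at hν
  split_ifs at hν with h
  · exact hF ν (MvPolynomial.mem_support_iff.mpr hν)
  · exact absurd rfl hν

theorem avoids_of_mem_support_kill (e : ℕ) {F : U ι} {ν : ι × ℕ →₀ ℕ}
    (hν : ν ∈ (kill n₀ e F).support) : Avoids n₀ e ν := by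
  rw [MvPolynomial.mem_support_iff, coeff_kill] at hν
  by_contra h
  rw [if_neg h] at hν
  exact hν rfl

theorem not_killed_of_mem_vars_kill (e : ℕ) {F : U ι} {p : ι × ℕ}
    (hp : p ∈ (kill n₀ e F).vars) : ¬ Killed n₀ e p := by
  rw [MvPolynomial.mem_vars_iff_mem_support] at hp
  obtain ⟨ν, hν, hpν⟩ := hp
  exact avoids_of_mem_support_kill n₀ e hν p hpν

end Kill

section Div

variable {ι : Type v}

/-- dividing by a variable lowers weights by its weight. -/
theorem inW_divMonomial {w : ℕ} (i₀ : ι × ℕ) {P : U ι} (hP : InW w P) :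
    InW (w - (i₀.2 + 1)) (divMonomial P (Finsupp.single i₀ 1)) := by
  intro ν hν
  rw [MvPolynomial.mem_support_iff, coeff_divMonomial] at hν
  have h1 := hP _ (MvPolynomial.mem_support_iff.mpr hν)
  rw [map_add, Finsupp.weight_single, one_smul] at h1
  have : wfun i₀ = i₀.2 + 1 := rfl
  omega

theorem inW_of_inW_X_mul {w : ℕ} (i₀ : ι × ℕ) {H : U ι} (h : InW w (X i₀ * H)) :
    InW (w - (i₀.2 + 1)) H := by
  have := inW_divMonomial i₀ h
  rwa [X_mul_divMonomial] at this

/-- a polynomial all of whose monomials contain `X i₀` is divisible by `X i₀`. -/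
theorem eq_X_mul_divMonomial (i₀ : ι × ℕ) (P : U ι) (h : ∀ ν ∈ P.support, ν i₀ ≠ 0) :
    P = X i₀ * (divMonomial P (Finsupp.single i₀ 1)) := by
  have h0 : modMonomial P (Finsupp.single i₀ 1) = 0 := by
    ext ν
    rw [coeff_zero]
    by_cases hle : Finsupp.single i₀ 1 ≤ ν
    · exact coeff_modMonomial_of_le P hle
    · rw [coeff_modMonomial_of_not_le P hle]
      by_contra hne
      apply hle
      rw [Finsupp.single_le_iff]
      exact Nat.one_le_iff_ne_zero.mpr (h ν (MvPolynomial.mem_support_iff.mpr hne))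
  have := divMonomial_add_modMonomial_single P i₀
  rw [h0, add_zero] at this
  exact this.symm

end Div

section Weights

attribute [local instance] polyOps

variable {ι : Type v} [Finite ι]

/-- `γ^β` of an operation polynomial without constant term has weight `≥ β`
(for any representing polynomial). -/
theorem inW_of_repG {F G : U ι} {β : ℕ} (hG : RepG.{v} β F G) (hF : constantCoeff F = 0) :
    InW β G := by
  apply inW_of_highDeg
  intro N
  rw [← evG_xuniv, ← hG (MvPolynomial (ι × Fin N) ℚ) isSpecial (xuniv N), evG_xuniv]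
  exact highDeg_gamma_of_mem_D (EN_mem_D N F hF) β

theorem inW_of_repG_of_inW {F G : U ι} {w i : ℕ} (hG : RepG.{v} i F G) (hw : 1 ≤ w)
    (hF : InW w F) (hi : 1 ≤ i) : InW w G := by
  apply inW_of_highDeg
  intro N
  rw [← evG_xuniv, ← hG (MvPolynomial (ι × Fin N) ℚ) isSpecial (xuniv N), evG_xuniv]
  exact highDeg_gamma hw (highDeg_EN_of_inW N hF) i hi

theorem inW_sub_of_repG {F G : U ι} {w : ℕ} (hG : RepG.{v} w F G) (hw : 1 ≤ w)
    (hF : InW w F) :
    InW (w + 1) (G - C ((-1 : ℤ) ^ (w - 1) * ((w - 1).factorial : ℤ)) * F) := by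
  apply inW_of_highDeg
  intro N
  have hc : EN ι N (C ((-1 : ℤ) ^ (w - 1) * ((w - 1).factorial : ℤ))) =
      (C ((-1 : ℚ) ^ (w - 1) * ((w - 1).factorial : ℚ)) : MvPolynomial (ι × Fin N) ℚ) := by
    rw [EN, aeval_C]
    simp
  rw [map_sub, map_mul, hc, ← evG_xuniv, ← hG (MvPolynomial (ι × Fin N) ℚ) isSpecial (xuniv N),
    evG_xuniv]
  exact highDeg_gamma_sub hw (highDeg_EN_of_inW N hF)

end Weights

section Main

attribute [local instance] polyOps

variable {ι : Type v} [Finite ι] [DecidableEq ι] (n₀ : ι)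

/-- the universal polynomial of `γ^p(F · γ^d(n₀))`, `p ≥ 1`, vanishes modulo the variables
`X_{n₀,k}`, `k ≥ d - 1` (i.e. when `γ^k(n₀) = 0` for `k ≥ d`). -/
theorem kill_repG_eq_zero {d p : ℕ} (hd : 1 ≤ d) (hp : 1 ≤ p) {F Φ : U ι}
    (hΦ : RepG.{v} p (F * X (n₀, d - 1)) Φ) : kill n₀ (d - 1) Φ = 0 := by
  classical
  set Ψ := kill n₀ (d - 1) Φ with hΨ
  set N := Ψ.vars.sup (fun p => p.2) + 1 with hN
  set Nf : ι → ℕ := fun s => if s = n₀ then d - 1 else N with hNf
  have hNf0 : Nf n₀ = d - 1 := by rw [hNf]; simp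
  apply ENF_eq_zero Nf Ψ
  · intro q hq
    by_cases h : q.1 = n₀
    · have hk := not_killed_of_mem_vars_kill n₀ (d - 1) hq
      have : ¬ (d - 1 ≤ q.2) := fun h' => hk ⟨h, h'⟩
      rw [h, hNf0]
      omega
    · have : Nf q.1 = N := by rw [hNf]; simp [h]
      rw [this, hN]
      exact Nat.lt_succ_of_le (Finset.le_sup (f := fun p : ι × ℕ => p.2) hq)
  · have hvan : ∀ k, d - 1 ≤ k → gamma (k + 1) (xunivF Nf n₀) = 0 := by
      intro k hk
      rw [gamma_xunivF]
      apply efamF_eq_zero_of_lt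
      rw [hNf0]; omega
    rw [← evG_xunivF, hΨ, evG_kill n₀ (d - 1) (xunivF Nf) hvan,
      ← hΦ (MvPolynomial (Var Nf) ℚ) isSpecial (xunivF Nf), map_mul, evG_X]
    have : d - 1 + 1 = (d - 1) + 1 := rfl
    rw [hvan (d - 1) le_rfl, mul_zero]
    exact LamFil.gamma_zero_arg p hp

/-- **division by `γ^d(n₀)`**. -/
theorem exists_div (hP : ∀ n : ℕ, ∃ P : MvPolynomial (Fin n ⊕ Fin n) ℤ, IsMulPoly n P)
    (hQ : ∀ i j : ℕ, ∃ Q : MvPolynomial (Fin (i * j)) ℤ, IsCompPoly i j Q)
    {d p i : ℕ} (hd : 1 ≤ d) (hp : 1 ≤ p) {F : U ι} (hF : InW i F) :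
    ∃ G : U ι, InW i G ∧ InW (p - d) G ∧
      (p = d + i → InW (i + 1)
        (G - C ((-1 : ℤ) ^ (p - 1) * ((p - 1).factorial : ℤ)) * kill n₀ d F)) ∧
      ∀ (A : Type v) [CommRing A] [LambdaOps A], IsSpecial A → ∀ x : ι → A,
        (∀ k, d ≤ k → gamma (k + 1) (x n₀) = 0) →
        gamma p (evG x F * gamma d (x n₀)) = gamma d (x n₀) * evG x G := by
  classical
  set i₀ : ι × ℕ := (n₀, d - 1) with hi₀
  have hwi₀ : i₀.2 + 1 = d := by rw [hi₀]; simp only; omega
  obtain ⟨Φ, hΦ⟩ := exists_repG.{v} hP hQ (F * X i₀) p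
  have hFX : InW (i + d) (F * X i₀) := by
    have := inW_mul hF (inW_X i₀)
    rwa [hwi₀] at this
  have hc0 : constantCoeff (F * X i₀) = 0 := by rw [map_mul, constantCoeff_X, mul_zero]
  have hW1 : InW p Φ := inW_of_repG hΦ hc0
  have hW2 : InW (i + d) Φ := inW_of_repG_of_inW hΦ (by omega) hFX hp
  set P := kill n₀ d Φ with hPdef
  have hPkill : kill n₀ (d - 1) P = 0 := by
    rw [hPdef, kill_kill n₀ (Nat.sub_le d 1), kill_repG_eq_zero n₀ hd hp hΦ]
  have hPsupp : ∀ ν ∈ P.support, ν i₀ ≠ 0 := by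
    intro ν hν h0
    have hav : Avoids n₀ d ν := avoids_of_mem_support_kill n₀ d hν
    have hav' : Avoids n₀ (d - 1) ν := by
      intro q hq hk
      by_cases hq2 : d ≤ q.2
      · exact hav q hq ⟨hk.1, hq2⟩
      · have : q = i₀ := by
          rw [hi₀]
          ext
          · exact hk.1
          · have := hk.2; simp only; omega
        rw [this] at hq
        exact (Finsupp.mem_support_iff.mp hq) h0
    have : coeff ν (kill n₀ (d - 1) P) = coeff ν P := by
      rw [coeff_kill, if_pos hav']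
    rw [hPkill, coeff_zero] at this
    exact (MvPolynomial.mem_support_iff.mp hν) this.symm
  set G := divMonomial P (Finsupp.single i₀ 1) with hGdef
  have hPG : P = X i₀ * G := eq_X_mul_divMonomial i₀ P hPsupp
  have hkX : kill n₀ d (X i₀) = X i₀ := by
    rw [kill_X, if_neg]
    rintro ⟨-, h2⟩
    rw [hi₀] at h2
    simp only at h2
    omega
  refine ⟨G, ?_, ?_, ?_, ?_⟩
  · have := inW_divMonomial i₀ (inW_kill n₀ d hW2)
    rw [hwi₀] at this
    have e : i + d - d = i := by omega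
    rwa [e] at this
  · have := inW_divMonomial i₀ (inW_kill n₀ d hW1)
    rwa [hwi₀] at this
  · intro hpe
    have hpe' : i + d = p := by omega
    have hsub := inW_sub_of_repG (hpe' ▸ hΦ) (by omega) hFX
    rw [hpe'] at hsub
    have h2 := inW_kill n₀ d hsub
    generalize (-1 : ℤ) ^ (p - 1) * ((p - 1).factorial : ℤ) = c at h2 ⊢
    have hC : kill n₀ d (C c) = C c := by
      rw [kill, aeval_C]; rfl
    have h3 : kill n₀ d (Φ - C c * (F * X i₀)) = X i₀ * (G - C c * kill n₀ d F) := by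
      rw [map_sub, map_mul (kill n₀ d) (C c), map_mul (kill n₀ d) F, hkX, hC, ← hPdef, hPG]
      ring
    rw [h3] at h2
    have h4 := inW_of_inW_X_mul i₀ h2
    rw [hwi₀] at h4
    have e : p + 1 - d = i + 1 := by omega
    rwa [e] at h4
  · intro A _ _ hA x hx
    have h1 := hΦ A hA x
    rw [map_mul, evG_X] at h1
    have e : i₀.2 + 1 = d := hwi₀
    have e1 : i₀.1 = n₀ := rfl
    rw [e, e1] at h1
    rw [h1, ← evG_kill n₀ d x hx Φ, ← hPdef, hPG, map_mul, evG_X, e, e1]

end Main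

end Groth.Agent.Lib.Seat56.LamTrunc
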