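import Mathlib

/-!
# Lifting freeness of flat modules along surjections with nilpotent kernel (helper56)

* `subsingleton_of_subsingleton_tensor`: nilpotent Nakayama, tensor form (no finiteness).
* `free_of_free_tensor_of_nilpotent`: if `R → k` is surjective with nilpotent kernel, `N` is a flat
  `R`-module and `k ⊗[R] N` is free over `k`, then `N` is free over `R`.
-/

set_option autoImplicit false
set_option linter.style.haveILetI false

namespace Groth.Agent.Lib.Seat56.NilFree

open TensorProduct

section Nak

variable {R : Type*} [CommRing R] {k : Type*} [CommRing k] [Algebra R k]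

/-- If `1 ⊗ q = 0` in `k ⊗ Q` with `R → k` surjective, then `q ∈ (ker) • ⊤`. -/
theorem mem_ker_smul_top_of_one_tmul_eq_zero (hsurj : Function.Surjective (algebraMap R k))
    {Q : Type*} [AddCommGroup Q] [Module R Q] (q : Q) (hq : (1 : k) ⊗ₜ[R] q = 0) :
    q ∈ (RingHom.ker (algebraMap R k) • ⊤ : Submodule R Q) := by
  set I : Ideal R := RingHom.ker (algebraMap R k) with hI
  have hexact : Function.Exact (I.subtype : I →ₗ[R] R) (Algebra.linearMap R k) := by
    intro x
    rw [Algebra.linearMap_apply]
    constructor
    · intro hx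
      exact ⟨⟨x, (RingHom.mem_ker).mpr hx⟩, rfl⟩
    · rintro ⟨y, rfl⟩
      exact (RingHom.mem_ker).mp y.2
  have hex := rTensor_exact Q hexact hsurj
  have h1 : (Algebra.linearMap R k).rTensor Q ((1 : R) ⊗ₜ[R] q) = 0 := by
    rw [LinearMap.rTensor_tmul, Algebra.linearMap_apply, map_one, hq]
  obtain ⟨z, hz⟩ := (hex _).mp h1
  have h2 : ∀ z : I ⊗[R] Q, TensorProduct.lid R Q (I.subtype.rTensor Q z) ∈
      (I • ⊤ : Submodule R Q) := by
    intro z
    induction z with
    | zero => simp
    | add a b ha hb => rw [map_add, map_add]; exact Submodule.add_mem _ ha hb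
    | tmul i q' =>
      rw [LinearMap.rTensor_tmul, TensorProduct.lid_tmul]
      exact Submodule.smul_mem_smul i.2 Submodule.mem_top
  have := h2 z
  rwa [hz, TensorProduct.lid_tmul, one_smul] at this

/-- Nilpotent Nakayama: if `R → k` is surjective with nilpotent kernel and `k ⊗ Q = 0`
then `Q = 0`. -/
theorem subsingleton_of_subsingleton_tensor (hsurj : Function.Surjective (algebraMap R k))
    (hnil : IsNilpotent (RingHom.ker (algebraMap R k)))
    (Q : Type*) [AddCommGroup Q] [Module R Q] [Subsingleton (k ⊗[R] Q)] : Subsingleton Q := by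
  set I : Ideal R := RingHom.ker (algebraMap R k) with hI
  have h1 : (⊤ : Submodule R Q) ≤ I • ⊤ := fun q _ =>
    mem_ker_smul_top_of_one_tmul_eq_zero hsurj q (Subsingleton.elim _ _)
  have h2 : ∀ n : ℕ, (⊤ : Submodule R Q) ≤ I ^ n • ⊤ := by
    intro n
    induction n with
    | zero => rw [pow_zero, Ideal.one_eq_top, Submodule.top_smul]
    | succ n ih =>
      calc (⊤ : Submodule R Q) ≤ I ^ n • ⊤ := ih
        _ ≤ I ^ n • (I • ⊤) := Submodule.smul_mono le_rfl h1
        _ = I ^ (n + 1) • ⊤ := by rw [← Submodule.mul_smul, pow_succ]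
  obtain ⟨n, hn⟩ := hnil
  have h3 := h2 n
  rw [hn, Ideal.zero_eq_bot, Submodule.bot_smul] at h3
  refine ⟨fun a b => ?_⟩
  have ha : a ∈ (⊥ : Submodule R Q) := h3 Submodule.mem_top
  have hb : b ∈ (⊥ : Submodule R Q) := h3 Submodule.mem_top
  rw [Submodule.mem_bot] at ha hb
  rw [ha, hb]

end Nak

section Lift

variable {R : Type*} [CommRing R] {k : Type*} [CommRing k] [Algebra R k]
  {N : Type*} [AddCommGroup N] [Module R N]

/-- **Lifting freeness**: if `R → k` is surjective with nilpotent kernel, `N` is `R`-flat and
`k ⊗[R] N` is `k`-free, then `N` is `R`-free. -/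
theorem free_of_free_tensor_of_nilpotent (hsurj : Function.Surjective (algebraMap R k))
    (hnil : IsNilpotent (RingHom.ker (algebraMap R k))) [Module.Flat R N]
    [Module.Free k (k ⊗[R] N)] : Module.Free R N := by
  classical
  obtain ⟨⟨ι, b⟩⟩ := Module.Free.exists_basis (R := k) (M := k ⊗[R] N)
  -- lift the basis
  have hlift : ∀ x : k ⊗[R] N, ∃ n : N, (1 : k) ⊗ₜ[R] n = x := by
    intro x
    induction x with
    | zero => exact ⟨0, by simp⟩
    | add a b ha hb =>
      obtain ⟨na, rfl⟩ := ha
      obtain ⟨nb, rfl⟩ := hb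
      exact ⟨na + nb, by rw [tmul_add]⟩
    | tmul c n =>
      obtain ⟨r, rfl⟩ := hsurj c
      refine ⟨r • n, ?_⟩
      rw [tmul_smul, smul_tmul', Algebra.smul_def, mul_one]
  choose v hv using fun i => hlift (b i)
  let φ : (ι →₀ R) →ₗ[R] N := Finsupp.linearCombination R v
  have hφ : ∀ i, φ (Finsupp.single i 1) = v i := fun i => by
    simp [φ]
  -- the base change of `φ` is bijective
  let B' : Module.Basis ι k (k ⊗[R] (ι →₀ R)) :=
    (Finsupp.basisSingleOne (R := R) (ι := ι)).baseChange k
  have hB' : ∀ i, LinearMap.baseChange k φ (B' i) = b i := by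
    intro i
    rw [Module.Basis.baseChange_apply, LinearMap.baseChange_tmul, Finsupp.coe_basisSingleOne, hφ,
      hv]
  have hbc : LinearMap.baseChange k φ = (B'.equiv b (Equiv.refl ι)).toLinearMap := by
    apply B'.ext
    intro i
    rw [hB', LinearEquiv.coe_coe, Module.Basis.equiv_apply, Equiv.refl_apply]
  have hbij : Function.Bijective (LinearMap.baseChange k φ) := by
    rw [hbc]
    exact (B'.equiv b (Equiv.refl ι)).bijective
  -- surjectivity
  have hsurjφ : Function.Surjective φ := by
    rw [← LinearMap.range_eq_top]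
    set P := LinearMap.range φ with hP
    haveI : Subsingleton (k ⊗[R] (N ⧸ P)) := by
      have h0 : LinearMap.baseChange k P.mkQ ∘ₗ LinearMap.baseChange k φ = 0 := by
        rw [← LinearMap.baseChange_comp]
        have : P.mkQ ∘ₗ φ = 0 := by
          ext x
          simp [hP]
        rw [this, LinearMap.baseChange_zero]
      have h1 : LinearMap.baseChange k P.mkQ = 0 := by
        ext x
        obtain ⟨y, hy⟩ := hbij.2 (1 ⊗ₜ x)
        have := LinearMap.congr_fun h0 y
        rw [LinearMap.comp_apply, hy] at this
        exact this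
      have h2 : Function.Surjective (LinearMap.baseChange k P.mkQ) :=
        LinearMap.lTensor_surjective k (Submodule.mkQ_surjective P)
      refine ⟨fun a b => ?_⟩
      obtain ⟨a', rfl⟩ := h2 a
      obtain ⟨b', rfl⟩ := h2 b
      rw [h1, LinearMap.zero_apply, LinearMap.zero_apply]
    haveI := subsingleton_of_subsingleton_tensor hsurj hnil (N ⧸ P)
    exact Submodule.Quotient.subsingleton_iff.mp inferInstance
  -- injectivity
  have hinjφ : Function.Injective φ := by
    rw [← LinearMap.ker_eq_bot]
    set K := LinearMap.ker φ with hK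
    have hex : Function.Exact K.subtype φ := by
      intro x
      rw [Submodule.coe_subtype, Subtype.range_coe_subtype]
      exact Iff.rfl
    have hinj :=
      LinearMap.lTensor_injective_of_exact_of_flat (M := K) (N := ι →₀ R) (P := N) φ hsurjφ
        K.subtype K.injective_subtype hex k
    haveI : Subsingleton (k ⊗[R] K) := by
      refine ⟨fun a b => hinj ?_⟩
      apply hbij.1
      have h0 : ∀ z : k ⊗[R] K, LinearMap.baseChange k φ (K.subtype.lTensor k z) = 0 := by
        intro z
        induction z with
        | zero => simp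
        | add a b ha hb => rw [map_add, map_add, ha, hb, add_zero]
        | tmul c x =>
          rw [LinearMap.lTensor_tmul, LinearMap.baseChange_tmul, Submodule.subtype_apply]
          have : φ x = 0 := x.2
          rw [this, tmul_zero]
      rw [h0, h0]
    haveI := subsingleton_of_subsingleton_tensor hsurj hnil K
    exact Submodule.subsingleton_iff_eq_bot.mp inferInstance
  exact Module.Free.of_equiv (LinearEquiv.ofBijective φ ⟨hinjφ, hsurjφ⟩)

end Lift

end Groth.Agent.Lib.Seat56.NilFree
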