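import Mathlib
import Groth.Agent.Lib.Seat56NilFree

/-!
# Freeness near a nilpotent prime (helper56)

* `free_tensor_of_nilpotent_prime`: `R` a ring, `P` a nilpotent prime ideal, `N` a flat `R`-module,
  `s ∉ P` such that `(R/P)_s ⊗[R] N` is free over `(R/P)_s`.  Then `R' ⊗[R] N` is `R'`-free for every
  `R`-algebra `R'` in which `s` is invertible.
-/

set_option autoImplicit false
set_option linter.style.haveILetI false

namespace Groth.Agent.Lib.Seat56.NilFree

open TensorProduct

section Core

variable {R : Type*} [CommRing R] (P : Ideal R) [P.IsPrime]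

/-- Freeness of `R_s ⊗ N` from freeness modulo a nilpotent prime. -/
theorem free_away_tensor_of_nilpotent_prime (hnil : IsNilpotent P)
    (N : Type*) [AddCommGroup N] [Module R N] [Module.Flat R N] (s : R) (hs : s ∉ P)
    (hfree : Module.Free (Localization.Away (Ideal.Quotient.mk P s))
      (Localization.Away (Ideal.Quotient.mk P s) ⊗[R] N)) :
    Module.Free (Localization.Away s) (Localization.Away s ⊗[R] N) := by
  set D := R ⧸ P with hD
  set f : D := Ideal.Quotient.mk P s with hf
  set k := Localization.Away f with hk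
  set Rs := Localization.Away s with hRs
  have hf0 : f ≠ 0 := by
    rw [hf, Ne, Ideal.Quotient.eq_zero_iff_mem]
    exact hs
  have hRk : ∀ r : R, algebraMap R k r = algebraMap D k (Ideal.Quotient.mk P r) := fun r => by
    rw [IsScalarTower.algebraMap_apply R D k]
    rfl
  have hunit : IsUnit (algebraMap R k s) := by
    rw [hRk]
    exact IsLocalization.Away.algebraMap_isUnit f
  letI : Algebra Rs k := (IsLocalization.Away.lift s hunit).toAlgebra
  have hRsk : ∀ r : R, algebraMap Rs k (algebraMap R Rs r) = algebraMap R k r := fun r =>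
    IsLocalization.Away.lift_eq s hunit r
  haveI : IsScalarTower R Rs k := IsScalarTower.of_algebraMap_eq fun r => (hRsk r).symm
  -- the inverse of `s`
  set si : Rs := IsLocalization.Away.invSelf s with hsi
  have hssi : algebraMap R Rs s * si = 1 := IsLocalization.Away.mul_invSelf s
  have hkinv : algebraMap R k s * algebraMap Rs k si = 1 := by
    rw [← hRsk, ← map_mul, hssi, map_one]
  -- surjectivity
  have hsurj : Function.Surjective (algebraMap Rs k) := by
    intro y
    obtain ⟨n, d, hd⟩ := IsLocalization.Away.surj f y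
    obtain ⟨r, rfl⟩ := Ideal.Quotient.mk_surjective d
    refine ⟨algebraMap R Rs r * si ^ n, ?_⟩
    rw [map_mul, map_pow, hRsk, hRk, ← hd, ← hRk s, mul_assoc, ← mul_pow, hkinv, one_pow, mul_one]
  -- the kernel
  have hker : RingHom.ker (algebraMap Rs k) ≤ P.map (algebraMap R Rs) := by
    intro x hx
    rw [RingHom.mem_ker] at hx
    obtain ⟨n, r, hr⟩ := IsLocalization.Away.surj s x
    have h1 : algebraMap R k r = 0 := by
      rw [← hRsk, ← hr, map_mul, hx, zero_mul]
    rw [hRk, IsLocalization.map_eq_zero_iff (Submonoid.powers f) k] at h1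
    obtain ⟨⟨_, m, rfl⟩, hm⟩ := h1
    have h2 : Ideal.Quotient.mk P r = 0 := by
      rcases mul_eq_zero.mp hm with h | h
      · exact absurd (eq_zero_of_pow_eq_zero h) hf0
      · exact h
    have h3 : r ∈ P := Ideal.Quotient.eq_zero_iff_mem.mp h2
    have h4 : x = algebraMap R Rs r * si ^ n := by
      rw [← hr, mul_assoc, ← mul_pow, hssi, one_pow, mul_one]
    rw [h4]
    exact Ideal.mul_mem_right _ _ (Ideal.mem_map_of_mem _ h3)
  have hnil' : IsNilpotent (RingHom.ker (algebraMap Rs k)) := by
    obtain ⟨n, hn⟩ := hnil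
    refine ⟨n, ?_⟩
    have h1 : RingHom.ker (algebraMap Rs k) ^ n ≤ (P.map (algebraMap R Rs)) ^ n :=
      Ideal.pow_right_mono hker n
    rw [← Ideal.map_pow, hn, Ideal.zero_eq_bot, Ideal.map_bot] at h1
    exact le_bot_iff.mp h1
  haveI : Module.Free k (k ⊗[Rs] (Rs ⊗[R] N)) :=
    Module.Free.of_equiv (AlgebraTensorModule.cancelBaseChange R Rs k k N).symm
  exact free_of_free_tensor_of_nilpotent (R := Rs) (k := k) hsurj hnil'

/-- Freeness of `R' ⊗ N` for every `R`-algebra `R'` in which `s` is invertible. -/
theorem free_tensor_of_nilpotent_prime (hnil : IsNilpotent P)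
    (N : Type*) [AddCommGroup N] [Module R N] [Module.Flat R N] (s : R) (hs : s ∉ P)
    (hfree : Module.Free (Localization.Away (Ideal.Quotient.mk P s))
      (Localization.Away (Ideal.Quotient.mk P s) ⊗[R] N))
    (R' : Type*) [CommRing R'] [Algebra R R'] (hu : IsUnit (algebraMap R R' s)) :
    Module.Free R' (R' ⊗[R] N) := by
  haveI := free_away_tensor_of_nilpotent_prime P hnil N s hs hfree
  letI : Algebra (Localization.Away s) R' := (IsLocalization.Away.lift s hu).toAlgebra
  haveI : IsScalarTower R (Localization.Away s) R' :=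
    IsScalarTower.of_algebraMap_eq fun r => (IsLocalization.Away.lift_eq s hu r).symm
  exact Module.Free.of_equiv
    (AlgebraTensorModule.cancelBaseChange R (Localization.Away s) R' R' N)

end Core

end Groth.Agent.Lib.Seat56.NilFree
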