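import Mathlib
import Groth.Agent.Lib.Seat56NilFree2
import Groth.Agent.Lib.Helper2GenFree2
import Groth.Agent.Lib.Helper3FlatModelMod
import Groth.Agent.Lib.Helper3FlatBC

/-!
# Generic freeness at a unique minimal prime, flat case (helper56)

* `exists_free_away_tensor`: generic freeness after base change to a domain.
* `exists_free_tensor_of_flat`: `A` a ring with a unique minimal prime `p`, `B` a finitely presented
  `A`-algebra, `M` a finitely presented `B`-module flat over `A`; then there is `s ∉ p` such that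
  `A' ⊗[A] M` is free over every `A`-algebra `A'` in which `s` is invertible.
-/

set_option autoImplicit false
set_option linter.style.haveILetI false

universe u

namespace Groth.Agent.Lib.Seat56.NilFree

open TensorProduct

section GF

attribute [local instance] Algebra.TensorProduct.rightAlgebra

/-- Generic freeness after base change to a domain `D`. -/
theorem exists_free_away_tensor (R₀ D S₀ M₀ : Type u) [CommRing R₀] [CommRing D] [IsDomain D]
    [Algebra R₀ D] [CommRing S₀] [Algebra R₀ S₀] [Algebra.FiniteType R₀ S₀] [AddCommGroup M₀]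
    [Module S₀ M₀] [Module R₀ M₀] [IsScalarTower R₀ S₀ M₀] [Module.Finite S₀ M₀] :
    ∃ f : D, f ≠ 0 ∧ Module.Free (Localization.Away f) (Localization.Away f ⊗[R₀] M₀) := by
  obtain ⟨f, hf, -, hM, -, -⟩ :=
    Groth.Agent.Lib.Helper2.GenFree.exists_freeAway D (D ⊗[R₀] S₀) ((D ⊗[R₀] S₀) ⊗[S₀] M₀)
  refine ⟨f, hf, ?_⟩
  have e : (D ⊗[R₀] S₀) ⊗[S₀] M₀ ≃ₗ[D] D ⊗[R₀] M₀ :=
    Algebra.IsPushout.cancelBaseChange R₀ D S₀ (D ⊗[R₀] S₀) M₀
  have hM' := hM.of_linearEquiv e
  haveI := hM'.free (Localization.Away f)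
    (TensorProduct.mk D (Localization.Away f) (D ⊗[R₀] M₀) 1)
  exact Module.Free.of_equiv
    (AlgebraTensorModule.cancelBaseChange R₀ D (Localization.Away f) (Localization.Away f) M₀)

end GF

section Flat

open Groth.Agent.Lib.Helper3.FlatModelMod Groth.Agent.Lib.Helper3.FlatLoc

/-- A unique minimal prime is contained in the nilradical. -/
theorem le_nilradical_of_minimalPrimes_eq {A : Type*} [CommRing A] (p : Ideal A)
    (hp : minimalPrimes A = {p}) : p ≤ nilradical A := by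
  have h1 : sInf (minimalPrimes A) = nilradical A := by
    rw [minimalPrimes, Ideal.sInf_minimalPrimes]
    rfl
  rw [hp, sInf_singleton] at h1
  exact h1.le

/-- **Generic freeness at a unique minimal prime, flat case.** -/
theorem exists_free_tensor_of_flat {A B : Type u} [CommRing A] [CommRing B] [Algebra A B]
    [Algebra.FinitePresentation A B] (p : Ideal A) [p.IsPrime] (hp : minimalPrimes A = {p})
    (M : Type u) [AddCommGroup M] [Module B M] [Module A M] [IsScalarTower A B M]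
    [Module.FinitePresentation B M] [Module.Flat A M] :
    ∃ s : A, s ∉ p ∧ ∀ (A' : Type u) [CommRing A'] [Algebra A A'],
      IsUnit (algebraMap A A' s) → Module.Free A' (A' ⊗[A] M) := by
  obtain ⟨R₀, _, _, S₀, _, _, _, _, _, _, M₀, _, _, _, _, _, _, f, hR₀, hS₀, hM₀fin, hM₀flat,
    hpush, hbc⟩ := exists_flat_module_model A B M
  -- the `R₀`-module structure on `M`
  letI : Module R₀ M := Module.compHom M (algebraMap R₀ A)
  have hsmul : ∀ (r : R₀) (m : M), r • m = algebraMap R₀ A r • m := fun _ _ => rfl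
  haveI : IsScalarTower R₀ A M := ⟨fun r a m => by
    rw [hsmul, Algebra.smul_def, mul_smul]⟩
  haveI : IsScalarTower R₀ S₀ M := ⟨fun r s₀ m => by
    rw [hsmul, ← algebraMap_smul B (r • s₀) m, ← algebraMap_smul B s₀ m,
      ← algebraMap_smul B (algebraMap R₀ A r), Algebra.smul_def, map_mul, mul_smul,
      ← IsScalarTower.algebraMap_apply R₀ S₀ B, ← IsScalarTower.algebraMap_apply R₀ A B]⟩
  have hbcA : IsBaseChange A (f.restrictScalars R₀) :=
    isBaseChange_restrictScalars_of_isPushout f hbc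
  -- Noetherianity
  haveI : IsNoetherianRing R₀ := Algebra.FiniteType.isNoetherianRing ℤ R₀
  -- the image of `R₀` in `A`
  set K : Ideal R₀ := RingHom.ker (algebraMap R₀ A) with hK
  letI : Algebra (R₀ ⧸ K) A := (RingHom.kerLift (algebraMap R₀ A)).toAlgebra
  have hinj : Function.Injective (algebraMap (R₀ ⧸ K) A) := RingHom.kerLift_injective _
  haveI : IsScalarTower R₀ (R₀ ⧸ K) A := IsScalarTower.of_algebraMap_eq fun r => rfl
  set P₁ : Ideal (R₀ ⧸ K) := p.comap (algebraMap (R₀ ⧸ K) A) with hP₁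
  haveI : P₁.IsPrime := Ideal.comap_isPrime _ _
  have hpnil := le_nilradical_of_minimalPrimes_eq p hp
  have hP₁nil : P₁ ≤ nilradical (R₀ ⧸ K) := by
    intro x hx
    obtain ⟨n, hn⟩ := hpnil (show algebraMap (R₀ ⧸ K) A x ∈ p from hx)
    refine ⟨n, hinj ?_⟩
    rw [map_pow, hn, map_zero]
  have hnil : IsNilpotent P₁ := by
    obtain ⟨n, hn⟩ := IsNoetherianRing.isNilpotent_nilradical (R₀ ⧸ K)
    refine ⟨n, ?_⟩
    have := Ideal.pow_right_mono hP₁nil n
    rw [hn, Ideal.zero_eq_bot] at this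
    exact le_bot_iff.mp this
  -- generic freeness over the domain `(R₀ ⧸ K) ⧸ P₁`
  obtain ⟨f₁, hf₁, hfree⟩ := exists_free_away_tensor R₀ ((R₀ ⧸ K) ⧸ P₁) S₀ M₀
  obtain ⟨s₁, rfl⟩ := Ideal.Quotient.mk_surjective f₁
  have hs₁ : s₁ ∉ P₁ := fun h => hf₁ (Ideal.Quotient.eq_zero_iff_mem.mpr h)
  haveI : Module.Free (Localization.Away (Ideal.Quotient.mk P₁ s₁))
      (Localization.Away (Ideal.Quotient.mk P₁ s₁) ⊗[R₀ ⧸ K] ((R₀ ⧸ K) ⊗[R₀] M₀)) :=
    Module.Free.of_equiv (AlgebraTensorModule.cancelBaseChange R₀ (R₀ ⧸ K)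
      (Localization.Away (Ideal.Quotient.mk P₁ s₁)) (Localization.Away (Ideal.Quotient.mk P₁ s₁))
      M₀).symm
  refine ⟨algebraMap (R₀ ⧸ K) A s₁, fun h => hs₁ h, ?_⟩
  intro A' _ _ hu
  letI : Algebra R₀ A' := ((algebraMap A A').comp (algebraMap R₀ A)).toAlgebra
  haveI : IsScalarTower R₀ A A' := IsScalarTower.of_algebraMap_eq fun r => rfl
  letI : Algebra (R₀ ⧸ K) A' := ((algebraMap A A').comp (algebraMap (R₀ ⧸ K) A)).toAlgebra
  haveI : IsScalarTower (R₀ ⧸ K) A A' := IsScalarTower.of_algebraMap_eq fun r => rfl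
  haveI : IsScalarTower R₀ (R₀ ⧸ K) A' := IsScalarTower.of_algebraMap_eq fun r => rfl
  have hu' : IsUnit (algebraMap (R₀ ⧸ K) A' s₁) := hu
  haveI : Module.Free A' (A' ⊗[R₀ ⧸ K] ((R₀ ⧸ K) ⊗[R₀] M₀)) :=
    free_tensor_of_nilpotent_prime P₁ hnil ((R₀ ⧸ K) ⊗[R₀] M₀) s₁ hs₁ inferInstance A' hu'
  have e1 : A' ⊗[R₀ ⧸ K] ((R₀ ⧸ K) ⊗[R₀] M₀) ≃ₗ[A'] A' ⊗[R₀] M₀ :=
    AlgebraTensorModule.cancelBaseChange R₀ (R₀ ⧸ K) A' A' M₀
  have e2 : A' ⊗[A] (A ⊗[R₀] M₀) ≃ₗ[A'] A' ⊗[R₀] M₀ :=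
    AlgebraTensorModule.cancelBaseChange R₀ A A' A' M₀
  have e3 : A' ⊗[A] (A ⊗[R₀] M₀) ≃ₗ[A'] A' ⊗[A] M :=
    AlgebraTensorModule.congr (LinearEquiv.refl A' A') hbcA.equiv
  exact Module.Free.of_equiv (e1.trans (e2.symm.trans e3))

end Flat

end Groth.Agent.Lib.Seat56.NilFree
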