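import Mathlib
import Groth.Agent.Lib.Seat56NilFree3
import Groth.Agent.Lib.Helper3FlatOpenFP

/-!
# Generic freeness at a unique minimal prime (helper56)

* `isLocalizedModule_away_comp`: a localization away from `t` followed by a localization away from
  `t * s` is a localization away from `t * s`.
* `exists_flat_localizedModule_powers`: if `A` has a unique minimal prime `p`, `B` is a finitely
  presented `A`-algebra, `M` a finitely presented `B`-module with `M_p` flat over `A_p`, then `M_t`
  is flat over `A` for some `t ∉ p`.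
* `exists_free_localizedModule_powers`: then `M_t` is even free over `A_t` for some `t ∉ p`
  (EGA IV 11.3.? / 8.9.5-type statement).
-/

set_option autoImplicit false
set_option linter.style.haveILetI false

universe u

namespace Groth.Agent.Lib.Seat56.NilFree

open TensorProduct Groth.Agent.Lib.Helper3.FlatLoc Groth.Agent.Lib.Helper3.FlatOpen

section Comp

variable {R : Type*} [CommRing R] {M N₁ N₂ : Type*} [AddCommGroup M] [AddCommGroup N₁]
  [AddCommGroup N₂] [Module R M] [Module R N₁] [Module R N₂]

theorem isLocalizedModule_away_comp (t s : R) (g₁ : M →ₗ[R] N₁) (g₂ : N₁ →ₗ[R] N₂)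
    [IsLocalizedModule (Submonoid.powers t) g₁] [IsLocalizedModule (Submonoid.powers (t * s)) g₂] :
    IsLocalizedModule (Submonoid.powers (t * s)) (g₂ ∘ₗ g₁) := by
  refine IsLocalizedModule.Away.mk_of_addCommGroup
    (IsLocalizedModule.Away.isUnit_algebraMap g₂ (t * s)) ?_ ?_
  · intro x
    obtain ⟨n, y₁, hy₁⟩ := IsLocalizedModule.Away.surj g₂ (t * s) x
    obtain ⟨m, y, hy⟩ := IsLocalizedModule.Away.surj g₁ t y₁
    refine ⟨m + n, s ^ m • y, ?_⟩
    rw [LinearMap.comp_apply, map_smul, ← hy, pow_add, mul_smul, hy₁, ← map_smul,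
      smul_smul, ← mul_pow, mul_comm s t]
  · intro x hx
    rw [LinearMap.comp_apply] at hx
    obtain ⟨n, hn⟩ := IsLocalizedModule.Away.exists_of_eq (f := g₂) (t * s)
      (hx.trans (map_zero g₂).symm)
    rw [smul_zero, ← map_smul] at hn
    obtain ⟨m, hm⟩ := IsLocalizedModule.Away.exists_of_eq (f := g₁) t (hn.trans (map_zero g₁).symm)
    rw [smul_zero] at hm
    refine ⟨m + n, ?_⟩
    rw [pow_add, mul_smul, mul_pow, mul_comm (t ^ m), mul_smul, hm, smul_zero]

end Comp

section Spread

variable {A B : Type u} [CommRing A] [CommRing B] [Algebra A B] [Algebra.FinitePresentation A B]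
  (p : Ideal A) [p.IsPrime] (M : Type u) [AddCommGroup M] [Module B M] [Module A M]
  [IsScalarTower A B M] [Module.FinitePresentation B M]

/-- Flatness at the unique minimal prime spreads out to a principal open neighbourhood. -/
theorem exists_flat_localizedModule_powers (hp : minimalPrimes A = {p})
    (hflat : Module.Flat A (LocalizedModule p.primeCompl M)) :
    ∃ t : A, t ∉ p ∧
      Module.Flat A (LocalizedModule (Submonoid.powers (algebraMap A B t)) M) := by
  classical
  have hpnil := le_nilradical_of_minimalPrimes_eq p hp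
  -- flatness at the primes of `B` over `p`
  have hq : ∀ (q : Ideal B) [q.IsPrime], q.comap (algebraMap A B) = p →
      Module.Flat A (LocalizedModule q.primeCompl M) := by
    intro q _ hqp
    rw [flat_localizedModule_iff (R := A) (S := B)]
    have h := (flat_localizedModule_iff (R := A) (S := A) (M := M) p.primeCompl).mp hflat
    intro I hI z hz
    obtain ⟨a, ha, haz⟩ := h I hI z hz
    refine ⟨algebraMap A B a, fun hmem => ha ?_, ?_⟩
    · rw [← hqp]
      exact hmem
    · rw [algebraMap_smul]
      exact haz
  -- the flat locus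
  have hopen := isOpen_flatLocus_of_finitePresentation (R := A) (S := B) (M := M)
  obtain ⟨J, hJ⟩ := (PrimeSpectrum.isClosed_iff_zeroLocus_ideal _).mp hopen.isClosed_compl
  have hJ' : ∀ (q : Ideal B) [q.IsPrime], J ≤ q ↔
      ¬ Module.Flat A (LocalizedModule q.primeCompl M) := by
    intro q hq
    have : (⟨q, hq⟩ : PrimeSpectrum B) ∈
        {q : PrimeSpectrum B | Module.Flat A (LocalizedModule q.asIdeal.primeCompl M)}ᶜ ↔
        (⟨q, hq⟩ : PrimeSpectrum B) ∈ PrimeSpectrum.zeroLocus (J : Set B) := by rw [hJ]
    rw [PrimeSpectrum.mem_zeroLocus, SetLike.coe_subset_coe] at this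
    exact this.symm
  have hex : ∃ s : A, s ∉ p ∧ algebraMap A B s ∈ J ⊔ p.map (algebraMap A B) := by
    by_contra hcon
    push Not at hcon
    have hdisj : Disjoint ((J ⊔ p.map (algebraMap A B) : Ideal B) : Set B)
        (Algebra.algebraMapSubmonoid B p.primeCompl : Set B) := by
      rw [Set.disjoint_left]
      rintro _ hx ⟨a, ha, rfl⟩
      exact hcon a ha hx
    obtain ⟨q, hqprime, hle, hqdisj⟩ := Ideal.exists_le_prime_disjoint _ _ hdisj
    have hqp : q.comap (algebraMap A B) = p := by
      apply le_antisymm
      · intro a ha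
        by_contra hap
        exact Set.disjoint_left.mp hqdisj ha ⟨a, hap, rfl⟩
      · exact Ideal.le_comap_of_map_le (le_sup_right.trans hle)
    exact (hJ' q).mp (le_sup_left.trans hle) (hq q hqp)
  obtain ⟨t, htp, htJ⟩ := hex
  obtain ⟨j, hj, ν, hν, hjν⟩ := Submodule.mem_sup.mp htJ
  have hνnil : IsNilpotent ν := by
    have h1 : p.map (algebraMap A B) ≤ nilradical B :=
      Ideal.map_le_iff_le_comap.mpr fun a ha =>
        mem_nilradical.mpr ((mem_nilradical.mp (hpnil ha)).map _)
    exact mem_nilradical.mp (h1 hν)
  have hUt : ∀ (q : Ideal B) [q.IsPrime], algebraMap A B t ∉ q →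
      Module.Flat A (LocalizedModule q.primeCompl M) := by
    intro q hqprime htq
    by_contra hnf
    have hJq : J ≤ q := (hJ' q).mpr hnf
    apply htq
    rw [← hjν]
    obtain ⟨n, hn⟩ := hνnil
    exact q.add_mem (hJq hj) (hqprime.mem_of_pow_mem n (by rw [hn]; exact q.zero_mem))
  refine ⟨t, htp, ?_⟩
  rw [flat_localizedModule_iff' (R := A) (S := B)]
  intro I z hz
  by_contra hcon
  push Not at hcon
  have hdisj : Disjoint ((Ideal.torsionOf B (M ⊗[A] I) z : Ideal B) : Set B)
      (Submonoid.powers (algebraMap A B t) : Set B) := by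
    rw [Set.disjoint_left]
    intro x hx hxT
    exact hcon x hxT ((Ideal.mem_torsionOf_iff _ _).mp hx)
  obtain ⟨q, hqprime, hle, hqdisj⟩ := Ideal.exists_le_prime_disjoint _ _ hdisj
  have htq : algebraMap A B t ∉ q := fun h =>
    Set.disjoint_left.mp hqdisj h (Submonoid.mem_powers _)
  have hfl := hUt q htq
  rw [flat_localizedModule_iff' (R := A) (S := B)] at hfl
  obtain ⟨s, hs, hsz⟩ := hfl I z hz
  exact hs (hle ((Ideal.mem_torsionOf_iff _ _).mpr hsz))

end Spread

/-- **Generic freeness at a unique minimal prime.** -/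
theorem exists_free_localizedModule_powers {A : Type u} (B : Type u) [CommRing A] [CommRing B]
    [Algebra A B] [Algebra.FinitePresentation A B] (p : Ideal A) [p.IsPrime] (M : Type u)
    [AddCommGroup M] [Module B M] [Module A M] [IsScalarTower A B M] [Module.FinitePresentation B M]
    (hp : minimalPrimes A = {p})
    (hflat : Module.Flat A (LocalizedModule p.primeCompl M)) :
    ∃ t : A, t ∉ p ∧
      Module.Free (Localization.Away t) (LocalizedModule (Submonoid.powers t) M) := by
  obtain ⟨t, htp, hflat_t⟩ := exists_flat_localizedModule_powers (B := B) p M hp hflat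
  set tB := algebraMap A B t with htB
  haveI : Algebra.FinitePresentation B (Localization.Away tB) :=
    IsLocalization.Away.finitePresentation tB
  haveI : Algebra.FinitePresentation A (Localization.Away tB) :=
    Algebra.FinitePresentation.trans A B (Localization.Away tB)
  obtain ⟨s, hsp, hfree⟩ := exists_free_tensor_of_flat (A := A) (B := Localization.Away tB) p hp
    (LocalizedModule (Submonoid.powers tB) M)
  refine ⟨t * s, fun h => (‹p.IsPrime›.mem_or_mem h).elim htp hsp, ?_⟩
  have hu : IsUnit (algebraMap A (Localization.Away (t * s)) s) := by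
    have h1 := IsLocalization.Away.algebraMap_isUnit (S := Localization.Away (t * s)) (t * s)
    rw [map_mul] at h1
    exact isUnit_of_mul_isUnit_right h1
  haveI := hfree (Localization.Away (t * s)) hu
  let g₁ : M →ₗ[A] LocalizedModule (Submonoid.powers tB) M :=
    (LocalizedModule.mkLinearMap (Submonoid.powers tB) M).restrictScalars A
  haveI : IsLocalizedModule (Submonoid.powers t) g₁ :=
    IsLocalizedModule.restrictScalars_powers t (LocalizedModule.mkLinearMap (Submonoid.powers tB) M)
  let g₂ : LocalizedModule (Submonoid.powers tB) M →ₗ[A]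
      Localization.Away (t * s) ⊗[A] LocalizedModule (Submonoid.powers tB) M :=
    TensorProduct.mk A (Localization.Away (t * s)) (LocalizedModule (Submonoid.powers tB) M) 1
  haveI : IsLocalizedModule (Submonoid.powers (t * s)) g₂ := inferInstance
  haveI : IsLocalizedModule (Submonoid.powers (t * s)) (g₂ ∘ₗ g₁) :=
    isLocalizedModule_away_comp t s g₁ g₂
  let e : LocalizedModule (Submonoid.powers (t * s)) M ≃ₗ[A]
      Localization.Away (t * s) ⊗[A] LocalizedModule (Submonoid.powers tB) M :=
    IsLocalizedModule.iso (Submonoid.powers (t * s)) (g₂ ∘ₗ g₁)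
  let e' : LocalizedModule (Submonoid.powers (t * s)) M ≃ₗ[Localization.Away (t * s)]
      Localization.Away (t * s) ⊗[A] LocalizedModule (Submonoid.powers tB) M :=
    e.extendScalarsOfIsLocalization (Submonoid.powers (t * s)) (Localization.Away (t * s))
  exact Module.Free.of_equiv e'.symm

end Groth.Agent.Lib.Seat56.NilFree
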