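import Mathlib
import Groth.Prelude.Def_RegImm

/-!
# Square presentations (as many relations as variables) (seat 56)

`IsSq A B`: the `A`-algebra `B` has a presentation with finitely many variables and equally many
relations.  Stable under algebra isomorphisms, localization away from an element, and binary
products (`R[x,y,E]/(E f + (1-E) x, (1-E) g + E y, E² - E)`).
-/

set_option autoImplicit false
universe u
open MvPolynomial

namespace Groth.Agent.Lib.Seat56.SqPres

/-- `B` has a square presentation over `A`: finitely many variables, equally many relations. -/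
def IsSq (A B : Type u) [CommRing A] [CommRing B] [Algebra A B] : Prop :=
  ∃ (ι σ : Type) (_ : Finite ι) (_ : Finite σ) (_ : Algebra.Presentation A B ι σ),
    Nat.card ι = Nat.card σ

section basics

variable {A B : Type u} [CommRing A] [CommRing B] [Algebra A B]

theorem IsSq.of_algEquiv {B' : Type u} [CommRing B'] [Algebra A B'] (e : B ≃ₐ[A] B')
    (h : IsSq A B) : IsSq A B' := by
  obtain ⟨ι, σ, hι, hσ, P, hc⟩ := h
  exact ⟨ι, σ, hι, hσ, P.ofAlgEquiv e, hc⟩

theorem IsSq.away {C : Type u} [CommRing C] [Algebra A C] [Algebra C B] [IsScalarTower A C B]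
    (g : C) [IsLocalization.Away g B] (h : IsSq A C) : IsSq A B := by
  obtain ⟨ι, σ, hι, hσ, P, hc⟩ := h
  refine ⟨Unit ⊕ ι, Unit ⊕ σ, inferInstance, inferInstance,
    (Algebra.Presentation.localizationAway B g).comp P, ?_⟩
  rw [Nat.card_sum, Nat.card_sum, hc]

theorem isSq_quotient {ι σ : Type} [Finite ι] [Finite σ] (hc : Nat.card ι = Nat.card σ)
    (v : σ → MvPolynomial ι A) : IsSq A (MvPolynomial ι A ⧸ Ideal.span (Set.range v)) :=
  ⟨ι, σ, inferInstance, inferInstance, Algebra.Presentation.naive (v := v), hc⟩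

theorem IsSq.exists_fin (h : IsSq A B) :
    ∃ (n : ℕ) (F : Fin n → MvPolynomial (Fin n) A),
      Nonempty (B ≃ₐ[A] Synt.RelGCIRing A n n F) := by
  obtain ⟨ι, σ, hι, hσ, P, hc⟩ := h
  have eι : ι ≃ Fin (Nat.card ι) := Finite.equivFin ι
  have eσ : σ ≃ Fin (Nat.card ι) := hc ▸ Finite.equivFin σ
  let P' := P.reindex eι.symm eσ.symm
  refine ⟨Nat.card ι, P'.relation, ⟨?_⟩⟩
  have e1 : P'.Quotient ≃ₐ[A] B := P'.quotientEquiv.restrictScalars A
  have e2 : (MvPolynomial (Fin (Nat.card ι)) A ⧸ Ideal.span (Set.range P'.relation)) ≃ₐ[A]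
      P'.Quotient := Ideal.quotientEquivAlgOfEq A P'.span_range_relation_eq_ker
  exact (e2.trans e1).symm

theorem isSq_of_fin (n : ℕ) (F : Fin n → MvPolynomial (Fin n) A)
    (e : B ≃ₐ[A] Synt.RelGCIRing A n n F) : IsSq A B :=
  (isSq_quotient rfl F).of_algEquiv e.symm

theorem isSq_of_subsingleton [Subsingleton B] : IsSq A B := by
  have h : IsSq A (MvPolynomial Unit A ⧸
      Ideal.span (Set.range (fun _ : Unit => (1 : MvPolynomial Unit A)))) := isSq_quotient rfl _
  have hs : Subsingleton (MvPolynomial Unit A ⧸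
      Ideal.span (Set.range (fun _ : Unit => (1 : MvPolynomial Unit A)))) := by
    rw [Ideal.Quotient.subsingleton_iff]
    simp
  refine h.of_algEquiv ?_
  exact
    { toFun := fun _ => 0
      invFun := fun _ => 0
      left_inv := fun _ => Subsingleton.elim _ _
      right_inv := fun _ => Subsingleton.elim _ _
      map_mul' := fun _ _ => Subsingleton.elim _ _
      map_add' := fun _ _ => Subsingleton.elim _ _
      commutes' := fun _ => Subsingleton.elim _ _ }

end basics

section prod

variable {A : Type u} [CommRing A]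

/-- Half of the kernel computation for the product presentation. -/
theorem mul_mem_of_retract {ι ι₁ : Type*} (j : ι₁ → ι)
    (π : MvPolynomial ι A →ₐ[A] MvPolynomial ι₁ A) (e : MvPolynomial ι A)
    (I : Ideal (MvPolynomial ι A)) (K₁ : Ideal (MvPolynomial ι₁ A))
    (h1 : ∀ k : ι, e * (X k - rename j (π (X k))) ∈ I)
    (h2 : ∀ q ∈ K₁, e * rename j q ∈ I)
    (p : MvPolynomial ι A) (hp : π p ∈ K₁) : e * p ∈ I := by
  have key : ∀ p : MvPolynomial ι A, e * (p - rename j (π p)) ∈ I := by
    intro p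
    induction p using MvPolynomial.induction_on with
    | C a =>
      have h : π (C a) = C a := π.commutes a
      rw [h, rename_C, sub_self, mul_zero]
      exact I.zero_mem
    | add p q hp hq =>
      have : e * (p + q - rename j (π (p + q))) =
          e * (p - rename j (π p)) + e * (q - rename j (π q)) := by
        simp only [map_add]; ring
      rw [this]; exact I.add_mem hp hq
    | mul_X p k hp =>
      have : e * (p * X k - rename j (π (p * X k))) =
          (e * (p - rename j (π p))) * X k +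
            rename j (π p) * (e * (X k - rename j (π (X k)))) := by
        simp only [map_mul]; ring
      rw [this]; exact I.add_mem (I.mul_mem_right _ hp) (I.mul_mem_left _ (h1 k))
  have : e * p = e * (p - rename j (π p)) + e * rename j (π p) := by ring
  rw [this]; exact I.add_mem (key p) (h2 _ hp)

variable {S₁ S₂ : Type u} [CommRing S₁] [CommRing S₂] [Algebra A S₁] [Algebra A S₂]

theorem isSq_prod_aux {ι₁ ι₂ : Type} [Finite ι₁] [Finite ι₂]
    (P₁ : Algebra.Presentation A S₁ ι₁ ι₁) (P₂ : Algebra.Presentation A S₂ ι₂ ι₂) :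
    IsSq A (S₁ × S₂) := by
  classical
  -- notation
  let E : MvPolynomial (ι₁ ⊕ ι₂ ⊕ Unit) A := X (Sum.inr (Sum.inr ()))
  let val : ι₁ ⊕ ι₂ ⊕ Unit → S₁ × S₂ :=
    Sum.elim (fun i => (P₁.val i, 0)) (Sum.elim (fun j => (0, P₂.val j)) (fun _ => (1, 0)))
  let rel : ι₁ ⊕ ι₂ ⊕ Unit → MvPolynomial (ι₁ ⊕ ι₂ ⊕ Unit) A :=
    Sum.elim (fun i => E * rename Sum.inl (P₁.relation i) + (1 - E) * X (Sum.inl i))
      (Sum.elim (fun j => (1 - E) * rename (Sum.inr ∘ Sum.inl) (P₂.relation j) +
        E * X (Sum.inr (Sum.inl j))) (fun _ => E * E - E))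
  let π₁ : MvPolynomial (ι₁ ⊕ ι₂ ⊕ Unit) A →ₐ[A] MvPolynomial ι₁ A :=
    aeval (Sum.elim X (Sum.elim (fun _ => 0) (fun _ => 1)))
  let π₂ : MvPolynomial (ι₁ ⊕ ι₂ ⊕ Unit) A →ₐ[A] MvPolynomial ι₂ A :=
    aeval (Sum.elim (fun _ => 0) (Sum.elim X (fun _ => 0)))
  have hfst : ∀ p : MvPolynomial (ι₁ ⊕ ι₂ ⊕ Unit) A, (aeval val p).1 = aeval P₁.val (π₁ p) := by
    have : (AlgHom.fst A S₁ S₂).comp (aeval val) = (aeval P₁.val).comp π₁ := by
      apply MvPolynomial.algHom_ext
      rintro (i | j | _) <;> simp [val, π₁]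
    intro p
    exact DFunLike.congr_fun this p
  have hsnd : ∀ p : MvPolynomial (ι₁ ⊕ ι₂ ⊕ Unit) A, (aeval val p).2 = aeval P₂.val (π₂ p) := by
    have : (AlgHom.snd A S₁ S₂).comp (aeval val) = (aeval P₂.val).comp π₂ := by
      apply MvPolynomial.algHom_ext
      rintro (i | j | _) <;> simp [val, π₂]
    intro p
    exact DFunLike.congr_fun this p
  have hπ₁E : π₁ E = 1 := by simp [π₁, E]
  have hπ₂E : π₂ E = 0 := by simp [π₂, E]
  have hπ₁l : ∀ q, π₁ (rename Sum.inl q) = q := by
    intro q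
    show aeval (Sum.elim X (Sum.elim (fun _ => 0) (fun _ => 1))) (rename Sum.inl q) = q
    rw [aeval_rename]
    have : ((Sum.elim X (Sum.elim (fun _ => 0) (fun _ => 1)) :
        ι₁ ⊕ ι₂ ⊕ Unit → MvPolynomial ι₁ A) ∘ Sum.inl) = X := rfl
    rw [this, aeval_X_left]; rfl
  have hπ₂r : ∀ q, π₂ (rename (Sum.inr ∘ Sum.inl) q) = q := by
    intro q
    show aeval (Sum.elim (fun _ => 0) (Sum.elim X (fun _ => 0)))
      (rename (Sum.inr ∘ Sum.inl) q) = q
    rw [aeval_rename]
    have : ((Sum.elim (fun _ => 0) (Sum.elim X (fun _ => 0)) :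
        ι₁ ⊕ ι₂ ⊕ Unit → MvPolynomial ι₂ A) ∘ (Sum.inr ∘ Sum.inl)) = X := rfl
    rw [this, aeval_X_left]; rfl
  -- surjectivity
  have hsurj : Function.Surjective (aeval (R := A) val) := by
    rintro ⟨s₁, s₂⟩
    obtain ⟨p₁, rfl⟩ := P₁.aeval_val_surjective s₁
    obtain ⟨p₂, rfl⟩ := P₂.aeval_val_surjective s₂
    refine ⟨E * rename Sum.inl p₁ + (1 - E) * rename (Sum.inr ∘ Sum.inl) p₂, ?_⟩
    refine Prod.ext ?_ ?_
    · rw [hfst]
      simp only [map_add, map_mul, map_sub, map_one, hπ₁E, hπ₁l, sub_self, zero_mul, add_zero,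
        one_mul]
    · rw [hsnd]
      simp only [map_add, map_mul, map_sub, map_one, hπ₂E, hπ₂r, sub_zero, zero_mul, zero_add,
        one_mul]
  -- the ideal of relations
  let I : Ideal (MvPolynomial (ι₁ ⊕ ι₂ ⊕ Unit) A) := Ideal.span (Set.range rel)
  have hrel : ∀ k, rel k ∈ I := fun k => Ideal.subset_span ⟨k, rfl⟩
  have m0 : E * E - E ∈ I := hrel (Sum.inr (Sum.inr ()))
  have m1 : ∀ i, E * rename Sum.inl (P₁.relation i) ∈ I := by
    intro i
    have h := hrel (Sum.inl i)
    have : E * rename Sum.inl (P₁.relation i) =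
        E * rel (Sum.inl i) - (E * E - E) * rename Sum.inl (P₁.relation i)
          + (E * E - E) * X (Sum.inl i) := by
      simp only [rel, Sum.elim_inl]; ring
    rw [this]
    exact I.add_mem (I.sub_mem (I.mul_mem_left _ h) (I.mul_mem_right _ m0)) (I.mul_mem_right _ m0)
  have m2 : ∀ i, (1 - E) * X (Sum.inl i) ∈ I := by
    intro i
    have h := hrel (Sum.inl i)
    have : (1 - E) * X (Sum.inl i) = rel (Sum.inl i) - E * rename Sum.inl (P₁.relation i) := by
      simp only [rel, Sum.elim_inl]; ring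
    rw [this]
    exact I.sub_mem h (m1 i)
  have m3 : ∀ j, (1 - E) * rename (Sum.inr ∘ Sum.inl) (P₂.relation j) ∈ I := by
    intro j
    have h := hrel (Sum.inr (Sum.inl j))
    have : (1 - E) * rename (Sum.inr ∘ Sum.inl) (P₂.relation j) =
        (1 - E) * rel (Sum.inr (Sum.inl j))
          - (E * E - E) * rename (Sum.inr ∘ Sum.inl) (P₂.relation j)
          + (E * E - E) * X (Sum.inr (Sum.inl j)) := by
      simp only [rel, Sum.elim_inl, Sum.elim_inr]; ring
    rw [this]
    exact I.add_mem (I.sub_mem (I.mul_mem_left _ h) (I.mul_mem_right _ m0)) (I.mul_mem_right _ m0)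
  have m4 : ∀ j, E * X (Sum.inr (Sum.inl j)) ∈ I := by
    intro j
    have h := hrel (Sum.inr (Sum.inl j))
    have : E * X (Sum.inr (Sum.inl j)) = rel (Sum.inr (Sum.inl j))
        - (1 - E) * rename (Sum.inr ∘ Sum.inl) (P₂.relation j) := by
      simp only [rel, Sum.elim_inl, Sum.elim_inr]; ring
    rw [this]
    exact I.sub_mem h (m3 j)
  -- the two halves
  have half₁ : ∀ p, π₁ p ∈ Ideal.span (Set.range P₁.relation) → E * p ∈ I := by
    intro p hp
    refine mul_mem_of_retract Sum.inl π₁ E I _ ?_ ?_ p hp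
    · rintro (i | j | _)
      · have : π₁ (X (Sum.inl i)) = X i := by simp [π₁]
        rw [this, rename_X, sub_self, mul_zero]; exact I.zero_mem
      · have : π₁ (X (Sum.inr (Sum.inl j))) = 0 := by simp [π₁]
        rw [this, map_zero, sub_zero]; exact m4 j
      · have : π₁ (X (Sum.inr (Sum.inr ()))) = 1 := by simp [π₁]
        rw [this, map_one]
        have : E * (X (Sum.inr (Sum.inr ())) - 1) = E * E - E := by simp only [E]; ring
        rw [this]; exact m0
    · intro q hq
      induction hq using Submodule.span_induction with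
      | mem x hx => obtain ⟨i, rfl⟩ := hx; exact m1 i
      | zero => simp
      | add x y _ _ hx hy => rw [map_add, mul_add]; exact I.add_mem hx hy
      | smul a x _ hx =>
        rw [smul_eq_mul, map_mul, mul_left_comm]; exact I.mul_mem_left _ hx
  have half₂ : ∀ p, π₂ p ∈ Ideal.span (Set.range P₂.relation) → (1 - E) * p ∈ I := by
    intro p hp
    refine mul_mem_of_retract (Sum.inr ∘ Sum.inl) π₂ (1 - E) I _ ?_ ?_ p hp
    · rintro (i | j | _)
      · have : π₂ (X (Sum.inl i)) = 0 := by simp [π₂]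
        rw [this, map_zero, sub_zero]; exact m2 i
      · have : π₂ (X (Sum.inr (Sum.inl j))) = X j := by simp [π₂]
        rw [this, rename_X, Function.comp_apply, sub_self, mul_zero]; exact I.zero_mem
      · have : π₂ (X (Sum.inr (Sum.inr ()))) = 0 := by simp [π₂]
        rw [this, map_zero, sub_zero]
        have : (1 - E) * X (Sum.inr (Sum.inr ())) = -(E * E - E) := by simp only [E]; ring
        rw [this]; exact I.neg_mem m0
    · intro q hq
      induction hq using Submodule.span_induction with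
      | mem x hx => obtain ⟨i, rfl⟩ := hx; exact m3 i
      | zero => simp
      | add x y _ _ hx hy => rw [map_add, mul_add]; exact I.add_mem hx hy
      | smul a x _ hx =>
        rw [smul_eq_mul, map_mul, mul_left_comm]; exact I.mul_mem_left _ hx
  -- the presentation
  refine ⟨ι₁ ⊕ ι₂ ⊕ Unit, ι₁ ⊕ ι₂ ⊕ Unit, inferInstance, inferInstance,
    { toGenerators := Algebra.Generators.ofSurjective val hsurj
      relation := rel
      span_range_relation_eq_ker := ?_ }, rfl⟩
  rw [Algebra.Generators.ker_eq_ker_aeval_val]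
  show I = RingHom.ker (aeval val)
  apply le_antisymm
  · refine Ideal.span_le.mpr ?_
    rintro _ ⟨k, rfl⟩
    rw [SetLike.mem_coe, RingHom.mem_ker]
    refine Prod.ext ?_ ?_
    · rw [hfst]
      rcases k with i | j | _
      · simp only [rel, Sum.elim_inl, map_add, map_mul, map_sub, map_one, hπ₁E, hπ₁l, sub_self,
          zero_mul, add_zero, one_mul, P₁.aeval_val_relation]; rfl
      · simp only [rel, Sum.elim_inl, Sum.elim_inr, map_add, map_mul, map_sub, map_one, hπ₁E,
          sub_self, zero_mul, zero_add, one_mul]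
        have : π₁ (X (Sum.inr (Sum.inl j))) = 0 := by simp [π₁]
        rw [this, map_zero]; rfl
      · simp only [rel, Sum.elim_inr, map_sub, map_mul, hπ₁E, one_mul, sub_self]; rfl
    · rw [hsnd]
      rcases k with i | j | _
      · simp only [rel, Sum.elim_inl, map_add, map_mul, map_sub, map_one, hπ₂E, sub_zero,
          zero_mul, zero_add, one_mul]
        have : π₂ (X (Sum.inl i)) = 0 := by simp [π₂]
        rw [this, map_zero]; rfl
      · simp only [rel, Sum.elim_inl, Sum.elim_inr, map_add, map_mul, map_sub, map_one, hπ₂E,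
          hπ₂r, sub_zero, zero_mul, add_zero, one_mul, P₂.aeval_val_relation]; rfl
      · simp only [rel, Sum.elim_inr, map_sub, map_mul, hπ₂E, mul_zero, map_zero, sub_self]; rfl
  · intro p hp
    rw [RingHom.mem_ker] at hp
    have h1 : π₁ p ∈ Ideal.span (Set.range P₁.relation) := by
      rw [P₁.span_range_relation_eq_ker, P₁.ker_eq_ker_aeval_val, RingHom.mem_ker, ← hfst, hp]; rfl
    have h2 : π₂ p ∈ Ideal.span (Set.range P₂.relation) := by
      rw [P₂.span_range_relation_eq_ker, P₂.ker_eq_ker_aeval_val, RingHom.mem_ker, ← hsnd, hp]; rfl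
    have : p = E * p + (1 - E) * p := by ring
    rw [this]
    exact I.add_mem (half₁ p h1) (half₂ p h2)

/-- A product of two algebras with square presentations has a square presentation. -/
theorem IsSq.prod (h₁ : IsSq A S₁) (h₂ : IsSq A S₂) : IsSq A (S₁ × S₂) := by
  obtain ⟨ι₁, σ₁, hι₁, hσ₁, P₁, hc₁⟩ := h₁
  obtain ⟨ι₂, σ₂, hι₂, hσ₂, P₂, hc₂⟩ := h₂
  have e₁ : ι₁ ≃ σ₁ := (Finite.equivFin ι₁).trans ((hc₁ ▸ Finite.equivFin σ₁).symm)
  have e₂ : ι₂ ≃ σ₂ := (Finite.equivFin ι₂).trans ((hc₂ ▸ Finite.equivFin σ₂).symm)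
  exact isSq_prod_aux (P₁.reindex (Equiv.refl ι₁) e₁) (P₂.reindex (Equiv.refl ι₂) e₂)

end prod

end Groth.Agent.Lib.Seat56.SqPres
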