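import Mathlib
import Groth.Agent.Lib.Seat56SqPres
import Groth.Agent.Lib.Seat41SyntLocal
import Groth.Agent.Lib.Seat42GCILoc

/-!
# Finite local complete intersection algebras over a field have square presentations (seat 56)
-/

set_option autoImplicit false
universe u
open MvPolynomial

namespace Groth.Agent.Lib.Seat56.SqArt

open Groth.Agent.Lib.Seat56.SqPres Groth.Agent.Lib.Seat41.SyntLocal

variable (K : Type u) [Field K]

/-- An Artinian global complete intersection over a field has a square presentation. -/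
theorem isSq_of_isGlobalCI {T : Type u} [CommRing T] [Algebra K T] [IsArtinianRing T]
    (h : Synt.IsGlobalCI K T) : IsSq K T := by
  rcases h with h | ⟨n, c, hcn, φ, r, hφ, hker, hdim⟩
  · exact isSq_of_subsingleton
  · rcases subsingleton_or_nontrivial T with hT | hT
    · exact isSq_of_subsingleton
    · have h0 : ringKrullDim T = 0 := by
        have : Ring.KrullDimLE 0 T :=
          (isArtinianRing_iff_isNoetherianRing_krullDimLE_zero.mp inferInstance).2
        exact ringKrullDimZero_iff_ringKrullDim_eq_zero.mp this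
      rw [h0] at hdim
      have hnc : n - c = 0 := by exact_mod_cast hdim.symm
      have hnc' : n = c := by omega
      subst hnc'
      refine ⟨Fin n, Fin n, inferInstance, inferInstance,
        { toGenerators := Algebra.Generators.ofAlgHom φ hφ
          relation := r
          span_range_relation_eq_ker := ?_ }, rfl⟩
      rw [Algebra.Generators.ker_ofAlgHom]
      exact hker.symm

/-- A finite local complete intersection algebra over a field has a square presentation. -/
theorem isSq_of_isLCIOver_aux : ∀ (d : ℕ) (S : Type u) [CommRing S] [Algebra K S]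
    [Module.Finite K S], Module.finrank K S = d → Synt.IsLCIOver K S → IsSq K S := by
  intro d
  induction d using Nat.strong_induction_on with
  | _ d ih =>
  intro S _ _ _ hd hS
  rcases subsingleton_or_nontrivial S with hS0 | hS0
  · exact isSq_of_subsingleton
  have hArt : IsArtinianRing S := IsArtinianRing.of_finite K S
  obtain ⟨𝔫, h𝔫⟩ := Ideal.exists_maximal S
  obtain ⟨g, hg𝔫, hgCI⟩ := hS.2 ⟨𝔫, h𝔫.isPrime⟩
  change g ∉ 𝔫 at hg𝔫
  -- the idempotent
  obtain ⟨n, y, hy⟩ := IsArtinian.exists_pow_succ_smul_dvd g (1 : S)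
  simp only [smul_eq_mul, mul_one, Nat.succ_eq_add_one] at hy
  have h1 : g ^ (n + 1) = g ^ (n + 1 + 1) * y := by
    rw [pow_succ g (n + 1), mul_right_comm, hy, pow_succ]
  have h2 : ∀ k, g ^ (n + 1) = g ^ (n + 1 + k) * y ^ k := by
    intro k
    induction k with
    | zero => simp
    | succ k ihk =>
      calc g ^ (n + 1) = g ^ (n + 1 + k) * y ^ k := ihk
        _ = g ^ (n + 1) * (g ^ k * y ^ k) := by rw [pow_add]; ring
        _ = g ^ (n + 1 + 1) * y * (g ^ k * y ^ k) := by rw [← h1]
        _ = g ^ (n + 1 + (k + 1)) * y ^ (k + 1) := by ring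
  obtain ⟨e, he⟩ : ∃ e, e = g ^ (n + 1) * y ^ (n + 1) := ⟨_, rfl⟩
  have hgNe : g ^ (n + 1) * e = g ^ (n + 1) := by
    rw [he, ← mul_assoc, ← pow_add, ← h2 (n + 1)]
  have hid : IsIdempotentElem e := by
    unfold IsIdempotentElem
    calc e * e = (g ^ (n + 1) * e) * y ^ (n + 1) := by rw [he]; ring
      _ = e := by rw [hgNe, he]
  have he0 : e ≠ 0 := by
    intro h0
    have : g ^ (n + 1) = 0 := by rw [← hgNe, h0, mul_zero]
    exact hg𝔫 (h𝔫.isPrime.mem_of_pow_mem (n + 1) (this ▸ 𝔫.zero_mem))
  -- decomposition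
  have eprod : S ≃ₐ[K] (S ⧸ Ideal.span {1 - e}) × (S ⧸ Ideal.span {e}) :=
    AlgEquiv.prodQuotientOfIsIdempotentElem K hid.one_sub hid (by ring)
      (by rw [sub_mul, one_mul, hid.eq, sub_self])
  -- first factor is `S_g`
  have hT₁ : IsLocalization.Away g (S ⧸ Ideal.span {1 - e}) := by
    have hmk1 : Ideal.Quotient.mk (Ideal.span {1 - e}) e = 1 := by
      rw [eq_comm, ← sub_eq_zero, ← map_one (Ideal.Quotient.mk (Ideal.span {1 - e})), ← map_sub,
        Ideal.Quotient.eq_zero_iff_mem]
      exact Ideal.mem_span_singleton_self _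
    refine
      { map_units := ?_
        surj := ?_
        exists_of_eq := ?_ }
    · rintro ⟨_, k, rfl⟩
      show IsUnit (algebraMap S (S ⧸ Ideal.span {1 - e}) (g ^ k))
      rw [map_pow]
      refine IsUnit.pow k ?_
      refine IsUnit.of_mul_eq_one
        (algebraMap S (S ⧸ Ideal.span {1 - e}) (g ^ n * y ^ (n + 1))) ?_
      rw [← map_mul]
      have : g * (g ^ n * y ^ (n + 1)) = e := by rw [he]; ring
      rw [this]
      exact hmk1
    · intro z
      obtain ⟨s, rfl⟩ := Ideal.Quotient.mk_surjective z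
      exact ⟨(s, 1), by simp⟩
    · intro x y' hxy
      have : x - y' ∈ Ideal.span {1 - e} := by
        rw [← Ideal.Quotient.eq_zero_iff_mem, map_sub, sub_eq_zero]
        exact hxy
      obtain ⟨u, hu⟩ := Ideal.mem_span_singleton'.mp this
      refine ⟨⟨g ^ (n + 1), n + 1, rfl⟩, ?_⟩
      show g ^ (n + 1) * x = g ^ (n + 1) * y'
      rw [← sub_eq_zero, ← mul_sub, ← hu]
      calc g ^ (n + 1) * (u * (1 - e)) = u * (g ^ (n + 1) - g ^ (n + 1) * e) := by ring
        _ = 0 := by rw [hgNe, sub_self, mul_zero]
  have hT₁CI : Synt.IsGlobalCI K (S ⧸ Ideal.span {1 - e}) :=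
    isGlobalCI_of_algEquiv K _ _
      ((IsLocalization.algEquiv (Submonoid.powers g) (Localization.Away g)
        (S ⧸ Ideal.span {1 - e})).restrictScalars K) hgCI
  have hT₁sq : IsSq K (S ⧸ Ideal.span {1 - e}) := isSq_of_isGlobalCI K hT₁CI
  -- second factor
  have hT₂ : IsLocalization.Away (1 - e) (S ⧸ Ideal.span {e}) :=
    IsLocalization.away_of_isIdempotentElem hid.one_sub (by simp [Ideal.mk_ker])
      Ideal.Quotient.mk_surjective
  have hFT : Algebra.FiniteType K S := inferInstance
  have hT₂LCI : Synt.IsLCIOver K (S ⧸ Ideal.span {e}) :=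
    isLCIOver_of_algEquiv K _ _
      ((IsLocalization.algEquiv (Submonoid.powers (1 - e)) (Localization.Away (1 - e))
        (S ⧸ Ideal.span {e})).restrictScalars K)
      (Groth.Agent.Lib.Seat42.GCILoc.isLCIOver_away K (1 - e) hS)
  have hlt : Module.finrank K (S ⧸ Ideal.span {e}) < d := by
    rw [Submodule.finrank_quotient, ← hd]
    have hpos : 0 < Module.finrank K (Ideal.span {e} : Ideal S) := by
      have : Nontrivial (Ideal.span {e} : Ideal S) :=
        ⟨⟨⟨e, Ideal.mem_span_singleton_self e⟩, 0, fun h => he0 (congrArg Subtype.val h)⟩⟩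
      exact Module.finrank_pos
    have hpos' : 0 < Module.finrank K S := Module.finrank_pos
    omega
  have hT₂sq : IsSq K (S ⧸ Ideal.span {e}) := ih _ hlt _ rfl hT₂LCI
  exact (hT₁sq.prod hT₂sq).of_algEquiv eprod.symm

/-- A finite local complete intersection algebra over a field has a square presentation. -/
theorem isSq_of_isLCIOver (S : Type u) [CommRing S] [Algebra K S] [Module.Finite K S]
    (h : Synt.IsLCIOver K S) : IsSq K S :=
  isSq_of_isLCIOver_aux K _ S rfl h

end Groth.Agent.Lib.Seat56.SqArt
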