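import Mathlib
import Groth.Agent.Lib.Seat56SqPres
import Groth.Agent.Lib.Helper7LeastIdeal
import Groth.Agent.Lib.Helper10Tensor

/-!
# Lifting a square presentation of the closed fibre of a finite flat algebra over a local ring
(seat 56)
-/

set_option autoImplicit false
universe u
open MvPolynomial TensorProduct

namespace Groth.Agent.Lib.Seat56.SqLift

open Groth.Agent.Lib.Seat56.SqPres

/-- In a finite algebra, an element congruent to `1` modulo `I B`, `I` in the Jacobson radical, is
a unit. -/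
theorem isUnit_of_sub_one_mem {A B : Type*} [CommRing A] [CommRing B] [Algebra A B]
    [Module.Finite A B] (I : Ideal A) (hI : I ≤ Ideal.jacobson ⊥) (x : B)
    (hx : x - 1 ∈ (I • ⊤ : Submodule A B)) : IsUnit x := by
  have hle : (⊤ : Submodule A B) ≤ (Ideal.span {x}).restrictScalars A := by
    apply Submodule.le_of_le_smul_of_le_jacobson_bot (Module.finite_def.mp inferInstance) hI
    intro z _
    have hz : z = z * x - z * (x - 1) := by ring
    rw [hz]
    refine Submodule.sub_mem _ (Submodule.mem_sup_left ?_) (Submodule.mem_sup_right ?_)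
    · exact Ideal.mul_mem_left _ _ (Ideal.mem_span_singleton_self x)
    · rw [Ideal.smul_top_eq_map] at hx ⊢
      exact Ideal.mul_mem_left _ z hx
  have h1 : (1 : B) ∈ Ideal.span {x} := hle Submodule.mem_top
  exact Ideal.span_singleton_eq_top.mp ((Ideal.eq_top_iff_one _).mpr h1)

variable {A : Type u} [CommRing A] [IsLocalRing A] {K : Type u} [Field K] [Algebra A K]
  {B : Type u} [CommRing B] [Algebra A B]

/-- A finite flat finitely presented algebra over a local ring whose closed fibre has a square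
presentation has a square presentation. -/
theorem isSq_of_fibre (hK : Function.Surjective (algebraMap A K)) [Module.Finite A B]
    [Module.Flat A B] [Algebra.FinitePresentation A B] (h : IsSq K (K ⊗[A] B)) : IsSq A B := by
  classical
  obtain ⟨ι, σ, hι, hσ, P, hc⟩ := h
  obtain ⟨𝔪, h𝔪⟩ : ∃ 𝔪 : Ideal A, 𝔪 = RingHom.ker (algebraMap A K) := ⟨_, rfl⟩
  have h𝔪jac : 𝔪 ≤ Ideal.jacobson ⊥ := by
    rw [IsLocalRing.jacobson_eq_maximalIdeal ⊥ bot_ne_top, h𝔪]
    exact IsLocalRing.le_maximalIdeal (RingHom.ker_ne_top _)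
  -- lift generators
  choose b hb using fun i => TensorProduct.mk_surjective A B K hK (P.val i)
  have hb' : ∀ i, (1 : K) ⊗ₜ[A] b i = P.val i := hb
  let φ : MvPolynomial ι A →ₐ[A] B := aeval b
  let π : MvPolynomial ι A →+* MvPolynomial ι K := MvPolynomial.map (algebraMap A K)
  have hπsurj : Function.Surjective π := MvPolynomial.map_surjective _ hK
  have hcompat : ∀ p, aeval P.val (π p) = (1 : K) ⊗ₜ[A] φ p := by
    have : ((aeval (R := K) P.val).restrictScalars A).comp
        (MvPolynomial.mapAlgHom (Algebra.ofId A K)) =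
        (Algebra.TensorProduct.includeRight : B →ₐ[A] K ⊗[A] B).comp φ := by
      apply MvPolynomial.algHom_ext
      intro i
      simp [φ, hb']
    intro p
    exact DFunLike.congr_fun this p
  have hker1 : ∀ x : B, (1 : K) ⊗ₜ[A] x = 0 ↔ x ∈ (𝔪 • ⊤ : Submodule A B) := fun x => by
    rw [h𝔪]; exact Groth.Agent.Lib.Helper10.one_tmul_eq_zero_iff_of_surjective hK x
  have hkerπ : RingHom.ker π = 𝔪.map (C : A →+* MvPolynomial ι A) := by rw [h𝔪]; exact MvPolynomial.ker_map _
  -- `φ` is surjective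
  have hφsurj : Function.Surjective φ := by
    have : Function.Surjective φ.toLinearMap := by
      apply LinearMap.surjective_of_surjective_comp_mkQ φ.toLinearMap 𝔪 h𝔪jac
      intro z
      obtain ⟨x, rfl⟩ := Submodule.mkQ_surjective _ z
      obtain ⟨p', hp'⟩ := P.aeval_val_surjective ((1 : K) ⊗ₜ[A] x)
      obtain ⟨p, rfl⟩ := hπsurj p'
      refine ⟨p, ?_⟩
      rw [hcompat] at hp'
      show Submodule.mkQ _ (φ p) = Submodule.mkQ _ x
      rw [← sub_eq_zero, ← map_sub, Submodule.mkQ_apply, Submodule.Quotient.mk_eq_zero, ← hker1,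
        tmul_sub, hp', sub_self]
    exact this
  have hJfg : (RingHom.ker φ.toRingHom).FG :=
    Algebra.FinitePresentation.ker_fG_of_surjective φ hφsurj
  obtain ⟨J, hJ⟩ : ∃ J : Ideal (MvPolynomial ι A), J = RingHom.ker φ.toRingHom := ⟨_, rfl⟩
  have hmemJ : ∀ p, p ∈ J ↔ φ p = 0 := fun p => by rw [hJ]; exact RingHom.mem_ker
  rw [← hJ] at hJfg
  -- elements of `𝔪 B` lift to `ker π`
  have hlift𝔪 : ∀ x ∈ (𝔪 • ⊤ : Submodule A B), ∃ q, π q = 0 ∧ φ q = x := by
    intro x hx
    refine Submodule.smul_induction_on hx ?_ ?_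
    · intro a ha y _
      obtain ⟨q, rfl⟩ := hφsurj y
      refine ⟨C a * q, ?_, ?_⟩
      · rw [map_mul]
        have : π (C a) = 0 := by
          rw [← RingHom.mem_ker, hkerπ]; exact Ideal.mem_map_of_mem _ ha
        rw [this, zero_mul]
      · rw [map_mul, Algebra.smul_def]
        congr 1
        exact φ.commutes a
    · rintro x y ⟨q₁, h1, h2⟩ ⟨q₂, h3, h4⟩
      exact ⟨q₁ + q₂, by rw [map_add, h1, h3, add_zero], by rw [map_add, h2, h4]⟩
  -- lift relations into `J`
  have hliftrel : ∀ j : σ, ∃ r : MvPolynomial ι A, r ∈ J ∧ π r = P.relation j := by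
    intro j
    obtain ⟨r', hr'⟩ := hπsurj (P.relation j)
    have h1 : (1 : K) ⊗ₜ[A] φ r' = 0 := by rw [← hcompat, hr', P.aeval_val_relation]
    obtain ⟨q, hqπ, hqφ⟩ := hlift𝔪 _ ((hker1 _).mp h1)
    refine ⟨r' - q, ?_, ?_⟩
    · rw [hmemJ, map_sub, hqφ, sub_self]
    · rw [map_sub, hqπ, sub_zero, hr']
  choose r hrJ hrπ using hliftrel
  obtain ⟨N, hN⟩ : ∃ N : Ideal (MvPolynomial ι A), N = Ideal.span (Set.range r) := ⟨_, rfl⟩
  have hNJ : N ≤ J := by
    rw [hN]; refine Ideal.span_le.mpr ?_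
    rintro _ ⟨j, rfl⟩; exact hrJ j
  -- Nakayama hypothesis
  have hJle : J ≤ N ⊔ (𝔪.map (C : A →+* MvPolynomial ι A)) • J := by
    intro p hp
    have h1 : π p ∈ Ideal.map π N := by
      rw [hN, Ideal.map_span, ← Set.range_comp]
      have : (π ∘ r) = P.relation := funext hrπ
      rw [this, P.span_range_relation_eq_ker, P.ker_eq_ker_aeval_val, RingHom.mem_ker, hcompat,
        (hmemJ p).mp hp, tmul_zero]
    obtain ⟨q, hqN, hqπ⟩ := (Ideal.mem_map_iff_of_surjective π hπsurj).mp h1
    have h2 : p - q ∈ J := J.sub_mem hp (hNJ hqN)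
    have h3 : p - q ∈ 𝔪.map (C : A →+* MvPolynomial ι A) := by
      rw [← hkerπ, RingHom.mem_ker, map_sub, hqπ, sub_self]
    have h4 : p - q ∈ (𝔪 • LinearMap.ker φ.toLinearMap : Submodule A (MvPolynomial ι A)) := by
      apply Groth.Agent.Lib.Helper7.LeastIdeal.ker_inf_smul_le φ.toLinearMap hφsurj 𝔪
      refine ⟨(hmemJ _).mp h2, ?_⟩
      rw [Ideal.smul_top_eq_map]
      exact h3
    have h5 : p - q ∈ (𝔪.map (C : A →+* MvPolynomial ι A)) • J := by
      refine Submodule.smul_induction_on h4 ?_ ?_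
      · intro a ha x hx
        rw [Algebra.smul_def]
        exact Submodule.smul_mem_smul (Ideal.mem_map_of_mem _ ha) ((hmemJ x).mpr hx)
      · intro x y hx hy; exact Submodule.add_mem _ hx hy
    have : p = q + (p - q) := by ring
    rw [this]
    exact Submodule.add_mem_sup hqN h5
  obtain ⟨a, ha1, haJ⟩ :=
    Submodule.exists_sub_one_mem_and_smul_le_of_fg_of_le_sup hJfg le_rfl hJle
  have haJ' : ∀ p ∈ J, a * p ∈ N := fun p hp =>
    haJ (Submodule.smul_mem_pointwise_smul p a J hp)
  -- `φ a` is a unit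
  have hφa : IsUnit (φ a) := by
    refine isUnit_of_sub_one_mem 𝔪 h𝔪jac _ ?_
    rw [← hker1, ← map_one φ, ← map_sub, ← hcompat]
    have : π (a - 1) = 0 := by rw [← RingHom.mem_ker, hkerπ]; exact ha1
    rw [this, map_zero]
  -- the quotient `A[X]/N` and its map to `B`
  subst hN
  have hNle : ∀ x ∈ Ideal.span (Set.range r), φ x = 0 := fun x hx => (hmemJ x).mp (hNJ hx)
  let ψ : (MvPolynomial ι A ⧸ Ideal.span (Set.range r)) →ₐ[A] B :=
    Ideal.Quotient.liftₐ (Ideal.span (Set.range r)) φ hNle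
  let _ : Algebra (MvPolynomial ι A ⧸ Ideal.span (Set.range r)) B := ψ.toRingHom.toAlgebra
  have : IsScalarTower A (MvPolynomial ι A ⧸ Ideal.span (Set.range r)) B :=
    IsScalarTower.of_algebraMap_eq (fun x => (ψ.commutes x).symm)
  have hψmk : ∀ p, algebraMap (MvPolynomial ι A ⧸ Ideal.span (Set.range r)) B
      (Ideal.Quotient.mk (Ideal.span (Set.range r)) p) = φ p := fun p => rfl
  have : IsLocalization.Away (Ideal.Quotient.mk (Ideal.span (Set.range r)) a) B := by
    refine { map_units := ?_, surj := ?_, exists_of_eq := ?_ }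
    · rintro ⟨_, k, rfl⟩
      show IsUnit (algebraMap _ B ((Ideal.Quotient.mk (Ideal.span (Set.range r)) a) ^ k))
      rw [map_pow, hψmk]
      exact hφa.pow k
    · intro z
      obtain ⟨p, rfl⟩ := hφsurj z
      exact ⟨(Ideal.Quotient.mk _ p, 1), by simp [hψmk]⟩
    · intro x y hxy
      obtain ⟨p, rfl⟩ := Ideal.Quotient.mk_surjective x
      obtain ⟨q, rfl⟩ := Ideal.Quotient.mk_surjective y
      rw [hψmk, hψmk] at hxy
      have : p - q ∈ J := by rw [hmemJ, map_sub, hxy, sub_self]
      refine ⟨⟨Ideal.Quotient.mk _ a, 1, pow_one _⟩, ?_⟩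
      show Ideal.Quotient.mk (Ideal.span (Set.range r)) a * Ideal.Quotient.mk _ p =
        Ideal.Quotient.mk _ a * Ideal.Quotient.mk _ q
      rw [← sub_eq_zero, ← mul_sub, ← map_sub, ← map_mul, Ideal.Quotient.eq_zero_iff_mem]
      exact haJ' _ this
  have hC : IsSq A (MvPolynomial ι A ⧸ Ideal.span (Set.range r)) := isSq_quotient hc r
  exact IsSq.away (Ideal.Quotient.mk (Ideal.span (Set.range r)) a) hC

end Groth.Agent.Lib.Seat56.SqLift
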