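import Mathlib
import Groth.Agent.Lib.Seat56NilFree3

/-!
# Principal stratifications making a flat module free (helper56)

Setting: `R₀` a ring, `S₀` a finite type `R₀`-algebra, `M₀` a finite `S₀`-module flat over `R₀`.

* `exists_free_tensor_of_nilpotent_prime_algebra` : for an `R₀`-algebra `R₂` with a nilpotent prime
  `P₂` there is `s₂ ∉ P₂` such that `R' ⊗[R₀] M₀` is free over every `R₂`-algebra `R'` in which
  `s₂` is invertible.
* `exists_free_tensor_of_ne_top` : (`R₀` Noetherian) for every proper ideal `I` there is `g ∉ I`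
  such that `R' ⊗[R₀] M₀` is free over every `R₀`-algebra `R'` killed by `I` in which `g` is
  invertible.
* `exists_stratification` : a finite sequence `g₁, …, gₙ` generating the unit ideal such that
  `R' ⊗[R₀] M₀` is free whenever `g₁, …, gᵢ` vanish in `R'` and `g_{i+1}` is invertible in `R'`.
-/

set_option autoImplicit false
set_option linter.style.haveILetI false

universe u

namespace Groth.Agent.Lib.Seat56.Strat

open TensorProduct Groth.Agent.Lib.Seat56.NilFree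

section G

variable (R₀ S₀ M₀ : Type u) [CommRing R₀] [CommRing S₀] [Algebra R₀ S₀] [Algebra.FiniteType R₀ S₀]
  [AddCommGroup M₀] [Module S₀ M₀] [Module R₀ M₀] [IsScalarTower R₀ S₀ M₀] [Module.Finite S₀ M₀]
  [Module.Flat R₀ M₀]

include S₀ in
theorem exists_free_tensor_of_nilpotent_prime_algebra (R₂ : Type u) [CommRing R₂] [Algebra R₀ R₂]
    (P₂ : Ideal R₂) [P₂.IsPrime] (hnil : IsNilpotent P₂) :
    ∃ s₂ : R₂, s₂ ∉ P₂ ∧ ∀ (R' : Type u) [CommRing R'] [Algebra R₀ R'] [Algebra R₂ R']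
      [IsScalarTower R₀ R₂ R'], IsUnit (algebraMap R₂ R' s₂) → Module.Free R' (R' ⊗[R₀] M₀) := by
  obtain ⟨f₁, hf₁, hfree⟩ := exists_free_away_tensor R₀ (R₂ ⧸ P₂) S₀ M₀
  obtain ⟨s₂, rfl⟩ := Ideal.Quotient.mk_surjective f₁
  have hs₂ : s₂ ∉ P₂ := fun h => hf₁ (Ideal.Quotient.eq_zero_iff_mem.mpr h)
  haveI : Module.Free (Localization.Away (Ideal.Quotient.mk P₂ s₂))
      (Localization.Away (Ideal.Quotient.mk P₂ s₂) ⊗[R₂] (R₂ ⊗[R₀] M₀)) :=
    Module.Free.of_equiv (AlgebraTensorModule.cancelBaseChange R₀ R₂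
      (Localization.Away (Ideal.Quotient.mk P₂ s₂)) (Localization.Away (Ideal.Quotient.mk P₂ s₂))
      M₀).symm
  refine ⟨s₂, hs₂, ?_⟩
  intro R' _ _ _ _ hu
  haveI : Module.Free R' (R' ⊗[R₂] (R₂ ⊗[R₀] M₀)) :=
    free_tensor_of_nilpotent_prime P₂ hnil (R₂ ⊗[R₀] M₀) s₂ hs₂ inferInstance R' hu
  exact Module.Free.of_equiv (AlgebraTensorModule.cancelBaseChange R₀ R₂ R' R' M₀)

end G

section H

variable (R₀ S₀ M₀ : Type u) [CommRing R₀] [CommRing S₀] [Algebra R₀ S₀] [Algebra.FiniteType R₀ S₀]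
  [AddCommGroup M₀] [Module S₀ M₀] [Module R₀ M₀] [IsScalarTower R₀ S₀ M₀] [Module.Finite S₀ M₀]
  [Module.Flat R₀ M₀] [IsNoetherianRing R₀]

/-- In a Noetherian ring, a minimal prime can be isolated by a single element. -/
theorem exists_notMem_forall_mem_minimalPrimes {R : Type*} [CommRing R] [IsNoetherianRing R]
    (Q : Ideal R) (hQ : Q ∈ minimalPrimes R) :
    ∃ h : R, h ∉ Q ∧ ∀ Q' ∈ minimalPrimes R, Q' ≠ Q → h ∈ Q' := by
  classical
  haveI : Q.IsPrime := hQ.1.1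
  have hfin : (minimalPrimes R).Finite := minimalPrimes.finite_of_isNoetherianRing R
  have hx : ∀ Q' : Ideal R, ∃ x : R, Q' ∈ minimalPrimes R → Q' ≠ Q → x ∈ Q' ∧ x ∉ Q := by
    intro Q'
    by_cases h : Q' ∈ minimalPrimes R ∧ Q' ≠ Q
    · have hnle : ¬ Q' ≤ Q := by
        intro hle
        exact h.2 (le_antisymm hle (hQ.2 ⟨h.1.1.1, bot_le⟩ hle))
      obtain ⟨x, hxQ', hxQ⟩ := Set.not_subset.mp hnle
      exact ⟨x, fun _ _ => ⟨hxQ', hxQ⟩⟩
    · exact ⟨0, fun h1 h2 => absurd ⟨h1, h2⟩ h⟩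
  choose x hx using hx
  refine ⟨∏ Q' ∈ hfin.toFinset.erase Q, x Q', ?_, ?_⟩
  · intro hmem
    rw [Ideal.IsPrime.prod_mem_iff] at hmem
    obtain ⟨Q', hQ'T, hxQ⟩ := hmem
    rw [Finset.mem_erase, Set.Finite.mem_toFinset] at hQ'T
    exact (hx Q' hQ'T.2 hQ'T.1).2 hxQ
  · intro Q' hQ' hne
    have hQ'T : Q' ∈ hfin.toFinset.erase Q := by
      rw [Finset.mem_erase, Set.Finite.mem_toFinset]
      exact ⟨hne, hQ'⟩
    rw [← Finset.mul_prod_erase _ _ hQ'T]
    exact Ideal.mul_mem_right _ _ (hx Q' hQ' hne).1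

include S₀ in
theorem exists_free_tensor_of_ne_top (I : Ideal R₀) (hI : I ≠ ⊤) :
    ∃ g : R₀, g ∉ I ∧ ∀ (R' : Type u) [CommRing R'] [Algebra R₀ R'],
      I ≤ RingHom.ker (algebraMap R₀ R') → IsUnit (algebraMap R₀ R' g) →
        Module.Free R' (R' ⊗[R₀] M₀) := by
  classical
  haveI : Nontrivial (R₀ ⧸ I) := Ideal.Quotient.nontrivial_iff.mpr hI
  -- a minimal prime of the quotient
  obtain ⟨𝔪, h𝔪⟩ := Ideal.exists_le_maximal (⊥ : Ideal (R₀ ⧸ I)) bot_ne_top
  haveI : 𝔪.IsPrime := h𝔪.1.isPrime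
  obtain ⟨Q, hQ, -⟩ := Ideal.exists_minimalPrimes_le (bot_le : (⊥ : Ideal (R₀ ⧸ I)) ≤ 𝔪)
  haveI hQprime : Q.IsPrime := hQ.1.1
  obtain ⟨hbar, hhQ, hhQ'⟩ := exists_notMem_forall_mem_minimalPrimes Q hQ
  -- the localization
  have hdisj : Disjoint (Submonoid.powers hbar : Set (R₀ ⧸ I)) (Q : Set (R₀ ⧸ I)) := by
    rw [Set.disjoint_left]
    rintro _ ⟨n, rfl⟩ hn
    exact hhQ (hQprime.mem_of_pow_mem n hn)
  set R₂ := Localization.Away hbar with hR₂
  set P₂ : Ideal R₂ := Q.map (algebraMap (R₀ ⧸ I) R₂) with hP₂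
  haveI : P₂.IsPrime :=
    IsLocalization.isPrime_of_isPrime_disjoint (Submonoid.powers hbar) R₂ Q hQprime hdisj
  haveI : IsNoetherianRing R₂ :=
    IsLocalization.isNoetherianRing (Submonoid.powers hbar) R₂ inferInstance
  have hP₂nil : P₂ ≤ nilradical R₂ := by
    rw [nilradical_eq_sInf]
    refine le_sInf fun 𝔮₂ h𝔮₂ => ?_
    haveI : 𝔮₂.IsPrime := h𝔮₂
    rw [hP₂, Ideal.map_le_iff_le_comap]
    have hh𝔮 : hbar ∉ 𝔮₂.comap (algebraMap (R₀ ⧸ I) R₂) := by
      intro hmem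
      exact h𝔮₂.ne_top (Ideal.eq_top_of_isUnit_mem _ hmem
        (IsLocalization.Away.algebraMap_isUnit hbar))
    obtain ⟨Q', hQ', hle⟩ := Ideal.exists_minimalPrimes_le
      (bot_le : (⊥ : Ideal (R₀ ⧸ I)) ≤ 𝔮₂.comap (algebraMap (R₀ ⧸ I) R₂))
    have hQQ' : Q' = Q := by
      by_contra hne
      exact hh𝔮 (hle (hhQ' Q' hQ' hne))
    rw [← hQQ']
    exact hle
  have hnil : IsNilpotent P₂ := by
    obtain ⟨n, hn⟩ := IsNoetherianRing.isNilpotent_nilradical R₂
    refine ⟨n, ?_⟩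
    have := Ideal.pow_right_mono hP₂nil n
    rw [hn, Ideal.zero_eq_bot] at this
    exact le_bot_iff.mp this
  obtain ⟨s₂, hs₂, hfree⟩ := exists_free_tensor_of_nilpotent_prime_algebra R₀ S₀ M₀ R₂ P₂ hnil
  obtain ⟨m, rbar, hrbar⟩ := IsLocalization.Away.surj hbar s₂
  obtain ⟨h, hh⟩ := Ideal.Quotient.mk_surjective hbar
  obtain ⟨r, hr⟩ := Ideal.Quotient.mk_surjective rbar
  have hunit : IsUnit (algebraMap (R₀ ⧸ I) R₂ hbar) := IsLocalization.Away.algebraMap_isUnit hbar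
  refine ⟨h * r, ?_, ?_⟩
  · intro hg
    have h1 : hbar * rbar = 0 := by
      rw [← hh, ← hr, ← map_mul]
      exact Ideal.Quotient.eq_zero_iff_mem.mpr hg
    have h2 : algebraMap (R₀ ⧸ I) R₂ hbar * algebraMap (R₀ ⧸ I) R₂ rbar = 0 := by
      rw [← map_mul, h1, map_zero]
    have h3 : algebraMap (R₀ ⧸ I) R₂ rbar = 0 := (hunit.mul_right_eq_zero).mp h2
    rw [h3] at hrbar
    have h4 : s₂ = 0 := ((hunit.pow m).mul_left_eq_zero).mp hrbar
    exact hs₂ (h4 ▸ P₂.zero_mem)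
  · intro R' _ _ hker hu
    rw [map_mul] at hu
    have hu_h : IsUnit (algebraMap R₀ R' h) := isUnit_of_mul_isUnit_left hu
    have hu_r : IsUnit (algebraMap R₀ R' r) := isUnit_of_mul_isUnit_right hu
    letI : Algebra (R₀ ⧸ I) R' :=
      (Ideal.Quotient.lift I (algebraMap R₀ R') (fun a ha => hker ha)).toAlgebra
    haveI : IsScalarTower R₀ (R₀ ⧸ I) R' := IsScalarTower.of_algebraMap_eq fun a => rfl
    have hu_hbar : IsUnit (algebraMap (R₀ ⧸ I) R' hbar) := by
      rw [← hh]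
      exact hu_h
    have hu_rbar : IsUnit (algebraMap (R₀ ⧸ I) R' rbar) := by
      rw [← hr]
      exact hu_r
    letI : Algebra R₂ R' := (IsLocalization.Away.lift hbar hu_hbar).toAlgebra
    haveI : IsScalarTower (R₀ ⧸ I) R₂ R' := IsScalarTower.of_algebraMap_eq fun a =>
      (IsLocalization.Away.lift_eq hbar hu_hbar a).symm
    haveI : IsScalarTower R₀ R₂ R' := IsScalarTower.of_algebraMap_eq fun a => by
      rw [IsScalarTower.algebraMap_apply R₀ (R₀ ⧸ I) R₂,
        ← IsScalarTower.algebraMap_apply (R₀ ⧸ I) R₂ R',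
        ← IsScalarTower.algebraMap_apply R₀ (R₀ ⧸ I) R']
    have hus₂ : IsUnit (algebraMap R₂ R' s₂) := by
      have h1 := congrArg (algebraMap R₂ R') hrbar
      rw [map_mul, map_pow, ← IsScalarTower.algebraMap_apply (R₀ ⧸ I) R₂ R',
        ← IsScalarTower.algebraMap_apply (R₀ ⧸ I) R₂ R'] at h1
      rw [← h1] at hu_rbar
      exact isUnit_of_mul_isUnit_left hu_rbar
    exact hfree R' hus₂

end H

section S

variable (R₀ S₀ M₀ : Type u) [CommRing R₀] [CommRing S₀] [Algebra R₀ S₀] [Algebra.FiniteType R₀ S₀]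
  [AddCommGroup M₀] [Module S₀ M₀] [Module R₀ M₀] [IsScalarTower R₀ S₀ M₀] [Module.Finite S₀ M₀]
  [Module.Flat R₀ M₀] [IsNoetherianRing R₀]

include S₀ in
theorem exists_stratification_aux (I : Ideal R₀) :
    ∃ l : List R₀, I ⊔ Ideal.span {a | a ∈ l} = ⊤ ∧
      ∀ (i : ℕ) (hi : i < l.length) (R' : Type u) [CommRing R'] [Algebra R₀ R'],
        I ≤ RingHom.ker (algebraMap R₀ R') → (∀ a ∈ l.take i, algebraMap R₀ R' a = 0) →
        IsUnit (algebraMap R₀ R' l[i]) → Module.Free R' (R' ⊗[R₀] M₀) := by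
  induction I using IsNoetherian.induction with
  | hgt I ih =>
    by_cases hI : I = ⊤
    · refine ⟨[], by rw [hI, top_sup_eq], ?_⟩
      intro i hi
      exact absurd hi (by simp)
    · obtain ⟨g, hgI, hg⟩ := exists_free_tensor_of_ne_top R₀ S₀ M₀ I hI
      have hlt : I < I ⊔ Ideal.span {g} := by
        refine lt_of_le_of_ne le_sup_left fun heq => hgI ?_
        rw [heq]
        exact le_sup_right (a := I) (Ideal.subset_span rfl)
      obtain ⟨l, hl, hfree⟩ := ih _ hlt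
      refine ⟨g :: l, ?_, ?_⟩
      · have : {a | a ∈ g :: l} = insert g {a | a ∈ l} := by
          ext a
          simp
        rw [this, Ideal.span_insert, ← sup_assoc]
        exact hl
      · intro i hi R' _ _ hker hzero hunit
        cases i with
        | zero => exact hg R' hker hunit
        | succ i =>
          have hi' : i < l.length := by simpa using hi
          rw [List.take_succ_cons] at hzero
          rw [List.getElem_cons_succ] at hunit
          refine hfree i hi' R' ?_ (fun a ha => hzero a (List.mem_cons_of_mem _ ha)) hunit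
          refine sup_le hker ?_
          rw [Ideal.span_le]
          intro a ha
          rw [Set.mem_singleton_iff] at ha
          rw [ha]
          exact (RingHom.mem_ker).mpr (hzero g List.mem_cons_self)

include S₀ in
/-- **Principal stratification** (Noetherian case, base-change invariant form). -/
theorem exists_stratification :
    ∃ l : List R₀, Ideal.span {a | a ∈ l} = ⊤ ∧
      ∀ (i : ℕ) (hi : i < l.length) (R' : Type u) [CommRing R'] [Algebra R₀ R'],
        (∀ a ∈ l.take i, algebraMap R₀ R' a = 0) →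
        IsUnit (algebraMap R₀ R' l[i]) → Module.Free R' (R' ⊗[R₀] M₀) := by
  obtain ⟨l, hl, hfree⟩ := exists_stratification_aux R₀ S₀ M₀ ⊥
  rw [bot_sup_eq] at hl
  exact ⟨l, hl, fun i hi R' _ _ hzero hunit => hfree i hi R' bot_le hzero hunit⟩

end S

end Groth.Agent.Lib.Seat56.Strat
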