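import Mathlib
import Groth.Agent.Lib.Helper13TorBC2
import Groth.Agent.Lib.Seat26TorDim
import Groth.Agent.Lib.Helper13TorColim
import Groth.Agent.Lib.Helper13Devissage
import Groth.Agent.Lib.Helper13TorAR
import Groth.Agent.Lib.Helper13TorMore

/-!
# A flatness criterion from partial Tor-vanishing (seat 56)

`M` is flat over `A` as soon as, for `I = (f_1, …, f_r)`, each `M_{f_i}` is flat over `A_{f_i}`,
`M/IM` is flat over `A/I` and `Tor_i^A(M, A/I) = 0` for `1 ≤ i ≤ r + 1`.
-/

set_option autoImplicit false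
set_option linter.style.haveILetI false
universe u
open TensorProduct CategoryTheory CategoryTheory.Limits MonoidalCategory
open Groth.Agent.Helper13Tor

namespace Groth.Agent.Lib.Seat56.TorFlat

section A1

variable {A : Type u} [CommRing A] (I : Ideal A) (M : Type u) [AddCommGroup M] [Module A M]

/-- For modules killed by `I`, tensoring with `M` preserves injections as soon as `M/IM` is flat
over `A/I`. -/
theorem lTensor_injective_of_killed
    (hflat : Module.Flat (A ⧸ I) ((A ⧸ I) ⊗[A] M))
    {K F : Type u} [AddCommGroup K] [Module A K] [AddCommGroup F] [Module A F]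
    (hK : ∀ a ∈ I, ∀ x : K, a • x = 0) (hF : ∀ a ∈ I, ∀ x : F, a • x = 0)
    (g : K →ₗ[A] F) (hg : Function.Injective g) :
    Function.Injective (LinearMap.lTensor M g) := by
  have hK' : Module.IsTorsionBySet A K (I : Set A) := fun x a => hK a.1 a.2 x
  have hF' : Module.IsTorsionBySet A F (I : Set A) := fun x a => hF a.1 a.2 x
  letI : Module (A ⧸ I) K := hK'.module
  letI : Module (A ⧸ I) F := hF'.module
  haveI : IsScalarTower A (A ⧸ I) K := hK'.isScalarTower
  haveI : IsScalarTower A (A ⧸ I) F := hF'.isScalarTower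
  let gB : K →ₗ[A ⧸ I] F :=
    { toFun := g
      map_add' := g.map_add
      map_smul' := by
        intro b x
        obtain ⟨a, rfl⟩ := Ideal.Quotient.mk_surjective b
        simp only [RingHom.id_apply]
        rw [← Ideal.Quotient.algebraMap_eq, algebraMap_smul, algebraMap_smul, map_smul] }
  have h1 : Function.Injective (gB.lTensor ((A ⧸ I) ⊗[A] M)) :=
    Module.Flat.lTensor_preserves_injective_linearMap gB hg
  let eK : ((A ⧸ I) ⊗[A] M) ⊗[A ⧸ I] K ≃ₗ[A ⧸ I] K ⊗[A] M :=
    (TensorProduct.comm (A ⧸ I) _ K) ≪≫ₗ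
      (TensorProduct.AlgebraTensorModule.cancelBaseChange A (A ⧸ I) (A ⧸ I) K M)
  let eF : ((A ⧸ I) ⊗[A] M) ⊗[A ⧸ I] F ≃ₗ[A ⧸ I] F ⊗[A] M :=
    (TensorProduct.comm (A ⧸ I) _ F) ≪≫ₗ
      (TensorProduct.AlgebraTensorModule.cancelBaseChange A (A ⧸ I) (A ⧸ I) F M)
  -- the square commutes
  have hsq : ∀ z, eF (gB.lTensor ((A ⧸ I) ⊗[A] M) z) = (LinearMap.rTensor M g) (eK z) := by
    intro z
    induction z using TensorProduct.induction_on with
    | zero => simp
    | add z w hz hw => simp only [map_add, hz, hw]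
    | tmul q k =>
      induction q using TensorProduct.induction_on with
      | zero => simp
      | add z w hz hw => simp only [TensorProduct.add_tmul, map_add, hz, hw]
      | tmul b m =>
        simp only [eF, eK, LinearMap.lTensor_tmul, LinearEquiv.trans_apply,
          TensorProduct.comm_tmul,
          TensorProduct.AlgebraTensorModule.cancelBaseChange_tmul, LinearMap.rTensor_tmul]
        congr 1
        exact (gB.map_smul b k).symm
  have h2 : Function.Injective (LinearMap.rTensor M g) := by
    intro x y hxy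
    obtain ⟨x', rfl⟩ := eK.surjective x
    obtain ⟨y', rfl⟩ := eK.surjective y
    rw [← hsq, ← hsq] at hxy
    rw [h1 (eF.injective hxy)]
  -- pass from rTensor to lTensor
  intro x y hxy
  apply (TensorProduct.comm A M K).injective
  apply h2
  have : ∀ z, LinearMap.rTensor M g (TensorProduct.comm A M K z) =
      TensorProduct.comm A M F (LinearMap.lTensor M g z) := by
    intro z
    induction z using TensorProduct.induction_on with
    | zero => simp
    | add z w hz hw => simp only [map_add, hz, hw]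
    | tmul m k => simp
  rw [this, this, hxy]

end A1

variable {A : Type u} [CommRing A]

/-- `Tor_p(M, -)` commutes with coproducts: vanishing passes to coproducts. -/
theorem isZero_tor_sigma (M : ModuleCat.{u} A) {α : Type u} (f : α → ModuleCat.{u} A) (p : ℕ)
    (h : ∀ a, IsZero (((Tor (ModuleCat.{u} A) p).obj M).obj (f a))) :
    IsZero (((Tor (ModuleCat.{u} A) p).obj M).obj (∐ f)) := by
  obtain ⟨θ, hθ⟩ := exists_natural_iso M (projectiveResolution M) p
  have e : (Tor (ModuleCat.{u} A) p).obj M ≅
      tRF (projectiveResolution M).complex ⋙ HomologicalComplex.homologyFunctor _ _ p :=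
    NatIso.ofComponents θ (by intro N N' g; exact hθ g)
  haveI : PreservesColimitsOfShape (Discrete α) ((Tor (ModuleCat.{u} A) p).obj M) :=
    preservesColimitsOfShape_of_natIso e.symm
  have hc := isColimitOfPreserves ((Tor (ModuleCat.{u} A) p).obj M)
    (colimit.isColimit (Discrete.functor f))
  rw [IsZero.iff_id_eq_zero]
  refine hc.hom_ext (fun ⟨a⟩ => ?_)
  exact (h a).eq_of_src _ _

/-- a coproduct of modules killed by `a` is killed by `a` -/
theorem sigma_smul_eq_zero {α : Type u} (f : α → ModuleCat.{u} A) (a : A)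
    (h : ∀ i, ∀ n : f i, a • n = 0) (y : (∐ f : ModuleCat.{u} A)) : a • y = 0 := by
  have h0 : (ModuleCat.ofHom (LinearMap.lsmul A _ a) : (∐ f) ⟶ (∐ f)) = 0 := by
    refine Sigma.hom_ext _ _ (fun x => ?_)
    rw [comp_zero]
    apply ModuleCat.hom_ext
    apply LinearMap.ext
    intro n
    simp only [ModuleCat.hom_comp, LinearMap.comp_apply, ModuleCat.hom_ofHom,
      ModuleCat.hom_zero, LinearMap.zero_apply]
    show a • (ModuleCat.Hom.hom (Sigma.ι f x)) n = 0
    rw [← LinearMap.map_smul, h x n, map_zero]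
  have := congr_arg (fun t => t.hom y) h0
  simp only [ModuleCat.hom_ofHom, ModuleCat.hom_zero, LinearMap.zero_apply] at this
  exact this

section main

variable (M : ModuleCat.{u} A) (I : Ideal A)

/-- Step A: vanishing of `Tor_j(M, N)`, `1 ≤ j ≤ r`, for modules `N` killed by `I`. -/
theorem isZero_tor_of_killed
    (hflat : Module.Flat (A ⧸ I) ((A ⧸ I) ⊗[A] M)) (r : ℕ)
    (h3 : ∀ i : ℕ, 1 ≤ i → i ≤ r →
      IsZero (((Tor (ModuleCat.{u} A) i).obj M).obj (ModuleCat.of A (A ⧸ I)))) :
    ∀ j : ℕ, 1 ≤ j → j ≤ r → ∀ N : ModuleCat.{u} A, (∀ a ∈ I, ∀ x : N, a • x = 0) →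
      IsZero (((Tor (ModuleCat.{u} A) j).obj M).obj N) := by
  intro j hj
  induction j, hj using Nat.le_induction with
  | base =>
    intro hr N hN
    obtain ⟨α, π, hπ, hK⟩ := Groth.Agent.Helper13TorAR.exists_presentation_of_killed I N hN
    have hS : (ShortComplex.mk (kernel.ι π) π (kernel.condition π)).ShortExact :=
      { exact := ShortComplex.exact_kernel π }
    have h₂ : IsZero (((Tor (ModuleCat.{u} A) 1).obj M).obj
        (∐ fun _ : α => ModuleCat.of A (A ⧸ I))) :=
      isZero_tor_sigma M _ 1 (fun _ => h3 1 le_rfl hr)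
    refine (isZero_tor_one_iff_lTensor_injective M _ hS h₂).2 ?_
    have hF : ∀ a ∈ I, ∀ y : (∐ fun _ : α => ModuleCat.of A (A ⧸ I) : ModuleCat.{u} A),
        a • y = 0 := by
      intro a ha y
      refine sigma_smul_eq_zero _ a (fun _ n => ?_) y
      obtain ⟨b, rfl⟩ := Submodule.Quotient.mk_surjective _ n
      rw [← Submodule.Quotient.mk_smul, Submodule.Quotient.mk_eq_zero]
      exact I.mul_mem_right _ ha
    exact lTensor_injective_of_killed I M hflat hK hF (kernel.ι π).hom
      ((ModuleCat.mono_iff_injective _).1 inferInstance)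
  | succ j hj ih =>
    intro hr N hN
    obtain ⟨α, π, hπ, hK⟩ := Groth.Agent.Helper13TorAR.exists_presentation_of_killed I N hN
    have hS : (ShortComplex.mk (kernel.ι π) π (kernel.condition π)).ShortExact :=
      { exact := ShortComplex.exact_kernel π }
    have h₂ : IsZero (((Tor (ModuleCat.{u} A) (j + 1)).obj M).obj
        (∐ fun _ : α => ModuleCat.of A (A ⧸ I))) :=
      isZero_tor_sigma M _ (j + 1) (fun _ => h3 (j + 1) (by omega) hr)
    exact isZero_tor₂_X₃ M _ hS j h₂ (ih (by omega) (kernel π) hK)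

/-- Step B: the same for modules killed by a power of `I`. -/
theorem isZero_tor_of_killed_pow
    (hflat : Module.Flat (A ⧸ I) ((A ⧸ I) ⊗[A] M)) (r : ℕ)
    (h3 : ∀ i : ℕ, 1 ≤ i → i ≤ r →
      IsZero (((Tor (ModuleCat.{u} A) i).obj M).obj (ModuleCat.of A (A ⧸ I)))) :
    ∀ (n : ℕ) (N : Type u) [AddCommGroup N] [Module A N], (∀ a ∈ I ^ n, ∀ x : N, a • x = 0) →
      ∀ j : ℕ, 1 ≤ j → j ≤ r →
        IsZero (((Tor (ModuleCat.{u} A) j).obj M).obj (ModuleCat.of A N)) := by
  intro n
  induction n with
  | zero =>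
    intro N _ _ hN j hj _
    have hsub : Subsingleton N := by
      refine ⟨fun x y => ?_⟩
      have hx := hN 1 (by simp) x
      have hy := hN 1 (by simp) y
      rw [one_smul] at hx hy
      rw [hx, hy]
    have : Module.Flat A (ModuleCat.of A N) := inferInstanceAs (Module.Flat A N)
    exact isZero_tor_of_flat_right M (ModuleCat.of A N) j (by omega)
  | succ n ih =>
    intro N _ _ hN j hj hjr
    let N₀ : Submodule A N := I • ⊤
    have hS := Groth.Agent.Helper13Devissage.shortExact_mk (A := A) N₀.subtype N₀.mkQ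
      (Submodule.injective_subtype _) (Submodule.mkQ_surjective _)
      (LinearMap.exact_subtype_mkQ N₀)
    have h₁ : ∀ a ∈ I ^ n, ∀ x : N₀, a • x = 0 := by
      intro a ha x
      apply Subtype.ext
      show a • (x : N) = 0
      have hx : (x : N) ∈ I • (⊤ : Submodule A N) := x.2
      refine Submodule.smul_induction_on hx ?_ ?_
      · intro b hb y _
        rw [← mul_smul]
        exact hN _ (by rw [pow_succ]; exact Ideal.mul_mem_mul ha hb) y
      · intro y z hy hz
        rw [smul_add, hy, hz, add_zero]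
    have h₃ : ∀ a ∈ I, ∀ x : N ⧸ N₀, a • x = 0 := by
      intro a ha x
      obtain ⟨y, rfl⟩ := Submodule.Quotient.mk_surjective _ x
      rw [← Submodule.Quotient.mk_smul, Submodule.Quotient.mk_eq_zero]
      exact Submodule.smul_mem_smul ha Submodule.mem_top
    exact isZero_tor₂_X₂ M _ hS j (ih N₀ h₁ j hj hjr)
      (isZero_tor_of_killed M I hflat r h3 j hj hjr (ModuleCat.of A (N ⧸ N₀)) h₃)

/-- Step C: the same for `I`-power torsion modules. -/
theorem isZero_tor_of_powTorsion
    (hflat : Module.Flat (A ⧸ I) ((A ⧸ I) ⊗[A] M)) (r : ℕ)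
    (h3 : ∀ i : ℕ, 1 ≤ i → i ≤ r →
      IsZero (((Tor (ModuleCat.{u} A) i).obj M).obj (ModuleCat.of A (A ⧸ I))))
    (N : ModuleCat.{u} A) (hN : ∀ x : N, ∃ n : ℕ, ∀ a ∈ I ^ n, a • x = 0)
    (j : ℕ) (hj : 1 ≤ j) (hjr : j ≤ r) :
    IsZero (((Tor (ModuleCat.{u} A) j).obj M).obj N) := by
  refine Groth.Agent.Helper13Devissage.isZero_of_fg ((Tor (ModuleCat.{u} A) j).obj M)
    (fun J _ _ => preservesColimitsOfShape_tor M j J) N (fun N' hN' => ?_)
  obtain ⟨S, rfl⟩ := hN'
  choose n hn using hN
  let m : ℕ := S.sup n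
  refine isZero_tor_of_killed_pow M I hflat r h3 m _ ?_ j hj hjr
  intro a ha x
  apply Subtype.ext
  show a • (x : N) = 0
  have hx : (x : N) ∈ Submodule.span A (S : Set N) := x.2
  refine Submodule.span_induction ?_ ?_ ?_ ?_ hx
  · intro y hy
    exact hn y a (Ideal.pow_le_pow_right (Finset.le_sup (f := n) hy) ha)
  · exact smul_zero a
  · intro y z _ _ hy hz
    rw [smul_add, hy, hz, add_zero]
  · intro b y _ hy
    rw [smul_comm, hy, smul_zero]

/-- Step E: `Tor_j(M, L) = 0` for `j > 0` when `L` is a module over `A_g` and `M_g` is flat over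
`A_g`. -/
theorem isZero_tor_of_localization (g : A)
    (hflat : Module.Flat (Localization.Away g) (LocalizedModule (Submonoid.powers g) M))
    (L : Type u) [AddCommGroup L] [Module A L] [Module (Localization.Away g) L]
    [IsScalarTower A (Localization.Away g) L] (j : ℕ) (hj : 0 < j) :
    IsZero (((Tor (ModuleCat.{u} A) j).obj M).obj (ModuleCat.of A L)) := by
  have hTor : ∀ q : ℕ, 0 < q → IsZero (((Tor (ModuleCat.{u} A) q).obj M).obj
      (ModuleCat.of A (Localization.Away g))) := by
    intro q hq
    have : Module.Flat A (ModuleCat.of A (Localization.Away g)) :=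
      inferInstanceAs (Module.Flat A (Localization.Away g))
    exact isZero_tor_of_flat_right M _ q hq
  obtain ⟨e⟩ := Groth.Agent.Helper13TorBC.nonempty_restrict_tor_iso (A' := Localization.Away g)
    L M hTor j
  refine IsZero.of_iso ?_ e.symm
  have hE : Module.Flat (Localization.Away g)
      ((Groth.Agent.Helper13TorBC.E A (Localization.Away g)).obj M) := by
    have e1 := Groth.Agent.S2380.bridge A (Localization.Away g) M
    have e2 : (Localization.Away g) ⊗[A] M ≃ₗ[Localization.Away g]
        LocalizedModule (Submonoid.powers g) M :=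
      (IsLocalizedModule.isBaseChange (Submonoid.powers g) (Localization.Away g)
        (LocalizedModule.mkLinearMap (Submonoid.powers g) M)).equiv
    exact Module.Flat.of_linearEquiv (e1 ≪≫ₗ e2)
  have hz := isZero_tor_of_flat (ModuleCat.of (Localization.Away g) L)
    ((Groth.Agent.Helper13TorBC.E A (Localization.Away g)).obj M) j hj
  exact Functor.map_isZero _ hz

/-- torsion condition: every element is killed by a power of `f i`, for each `i < s`. -/
def TorsBy {r : ℕ} (f : Fin r → A) (s : ℕ) (N : Type u) [AddCommGroup N] [Module A N] : Prop :=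
  ∀ x : N, ∀ i : Fin r, (i : ℕ) < s → ∃ n : ℕ, f i ^ n • x = 0

/-- Step D: descending induction on the number of torsion conditions. -/
theorem isZero_tor_of_torsBy {r : ℕ} (f : Fin r → A)
    (h1 : ∀ i, Module.Flat (Localization.Away (f i))
      (LocalizedModule (Submonoid.powers (f i)) M))
    (h2 : Module.Flat (A ⧸ Ideal.span (Set.range f)) ((A ⧸ Ideal.span (Set.range f)) ⊗[A] M))
    (h3 : ∀ i : ℕ, 1 ≤ i → i ≤ r + 1 → IsZero (((Tor (ModuleCat.{u} A) i).obj M).obj
      (ModuleCat.of A (A ⧸ Ideal.span (Set.range f))))) :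
    ∀ (k s : ℕ), s + k = r → ∀ (N : Type u) [AddCommGroup N] [Module A N], TorsBy f s N →
      ∀ j : ℕ, 1 ≤ j → j ≤ s + 1 →
        IsZero (((Tor (ModuleCat.{u} A) j).obj M).obj (ModuleCat.of A N)) := by
  intro k
  induction k with
  | zero =>
    intro s hs N _ _ hT j hj hjs
    have hsr : s = r := by omega
    subst hsr
    refine isZero_tor_of_powTorsion M (Ideal.span (Set.range f)) h2 (s + 1) h3
      (ModuleCat.of A N) ?_ j hj hjs
    intro x
    choose n hn using fun i : Fin s => hT x i i.2
    let J : Ideal A := Ideal.span (Set.range fun i => f i ^ n i)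
    have hJ : J ≤ LinearMap.ker (LinearMap.toSpanSingleton A N x) := by
      refine Ideal.span_le.2 ?_
      rintro _ ⟨i, rfl⟩
      show _ ∈ LinearMap.ker _
      rw [LinearMap.mem_ker, LinearMap.toSpanSingleton_apply]
      exact hn i
    have hrad : Ideal.span (Set.range f) ≤ J.radical := by
      refine Ideal.span_le.2 ?_
      rintro _ ⟨i, rfl⟩
      exact ⟨n i, Ideal.subset_span ⟨i, rfl⟩⟩
    have hfg : (Ideal.span (Set.range f)).FG := Submodule.fg_span (Set.finite_range f)
    obtain ⟨m, hm⟩ := Ideal.exists_pow_le_of_le_radical_of_fg hrad hfg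
    refine ⟨m, fun a ha => ?_⟩
    have := hJ (hm ha)
    rwa [LinearMap.mem_ker, LinearMap.toSpanSingleton_apply] at this
  | succ k ih =>
    intro s hs N _ _ hT j hj hjs
    have hsr : s < r := by omega
    let g : A := f ⟨s, hsr⟩
    have hfg : ∀ i : Fin r, (i : ℕ) = s → f i = g := by
      intro i hi
      have : i = ⟨s, hsr⟩ := Fin.ext hi
      rw [this]
    let φ : N →ₗ[A] LocalizedModule (Submonoid.powers g) N :=
      LocalizedModule.mkLinearMap (Submonoid.powers g) N
    -- the two short exact sequences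
    have hS1 := Groth.Agent.Helper13Devissage.shortExact_mk (A := A)
      (LinearMap.ker φ).subtype φ.rangeRestrict
      (Submodule.injective_subtype _) φ.surjective_rangeRestrict
      (by
        rw [LinearMap.exact_iff, LinearMap.ker_rangeRestrict, Submodule.range_subtype])
    have hS2 := Groth.Agent.Helper13Devissage.shortExact_mk (A := A)
      (LinearMap.range φ).subtype (LinearMap.range φ).mkQ
      (Submodule.injective_subtype _) (Submodule.mkQ_surjective _)
      (LinearMap.exact_subtype_mkQ _)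
    -- torsion conditions
    have hT1 : TorsBy f (s + 1) (LinearMap.ker φ) := by
      intro x i hi
      rcases Nat.lt_succ_iff_lt_or_eq.1 hi with hlt | heq
      · obtain ⟨n, hn⟩ := hT x.1 i hlt
        exact ⟨n, Subtype.ext hn⟩
      · rw [hfg i heq]
        have hx : φ x.1 = 0 := x.2
        obtain ⟨c, hc⟩ := (IsLocalizedModule.eq_zero_iff (Submonoid.powers g) φ).1 hx
        obtain ⟨n, hn⟩ := (Submonoid.mem_powers_iff _ _).1 c.2
        refine ⟨n, Subtype.ext ?_⟩
        show g ^ n • (x : N) = 0
        rw [hn]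
        exact hc
    have hT3 : TorsBy f (s + 1) (LocalizedModule (Submonoid.powers g) N ⧸ LinearMap.range φ) := by
      intro x i hi
      obtain ⟨y, rfl⟩ := Submodule.Quotient.mk_surjective _ x
      obtain ⟨⟨z, t⟩, hzt⟩ := IsLocalizedModule.surj (Submonoid.powers g) φ y
      rcases Nat.lt_succ_iff_lt_or_eq.1 hi with hlt | heq
      · obtain ⟨n, hn⟩ := hT z i hlt
        refine ⟨n, ?_⟩
        rw [← Submodule.Quotient.mk_smul]
        have : f i ^ n • y = 0 := by
          apply IsLocalizedModule.smul_injective φ t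
          show t • (f i ^ n • y) = t • 0
          rw [smul_zero, smul_comm, hzt, ← map_smul, hn, map_zero]
        rw [this, Submodule.Quotient.mk_zero]
      · rw [hfg i heq]
        obtain ⟨n, hn⟩ := (Submonoid.mem_powers_iff _ _).1 t.2
        refine ⟨n, ?_⟩
        rw [← Submodule.Quotient.mk_smul, Submodule.Quotient.mk_eq_zero, hn]
        exact ⟨z, hzt.symm⟩
    have hg : ∀ j : ℕ, 0 < j → IsZero (((Tor (ModuleCat.{u} A) j).obj M).obj
        (ModuleCat.of A (LocalizedModule (Submonoid.powers g) N))) :=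
      fun j hj => isZero_tor_of_localization M g (h1 ⟨s, hsr⟩) _ j hj
    have hk1 := ih (s + 1) (by omega) (LinearMap.ker φ) hT1
    have hk3 := ih (s + 1) (by omega) _ hT3
    have hrange : IsZero (((Tor (ModuleCat.{u} A) j).obj M).obj
        (ModuleCat.of A (LinearMap.range φ))) :=
      isZero_tor₂_X₁ M _ hS2 j (hk3 (j + 1) (by omega) (by omega)) (hg j (by omega))
    exact isZero_tor₂_X₂ M _ hS1 j (hk1 j hj (by omega)) hrange

/-- **Flatness criterion**: `M` is flat as soon as each `M_{f_i}` is flat over `A_{f_i}`, `M/IM`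
is flat over `A/I` and `Tor_i(M, A/I) = 0` for `1 ≤ i ≤ r + 1`, where `I = (f_1, …, f_r)`. -/
theorem flat_of_tor_vanishing {r : ℕ} (f : Fin r → A)
    (h1 : ∀ i, Module.Flat (Localization.Away (f i))
      (LocalizedModule (Submonoid.powers (f i)) M))
    (h2 : Module.Flat (A ⧸ Ideal.span (Set.range f)) ((A ⧸ Ideal.span (Set.range f)) ⊗[A] M))
    (h3 : ∀ i : ℕ, 1 ≤ i → i ≤ r + 1 → IsZero (((Tor (ModuleCat.{u} A) i).obj M).obj
      (ModuleCat.of A (A ⧸ Ideal.span (Set.range f))))) :
    Module.Flat A M :=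
  Groth.Agent.Lib.Seat26.TorDim.flat_of_isZero_tor_one M (fun N =>
    isZero_tor_of_torsBy M f h1 h2 h3 r 0 (by omega) N
      (fun _ _ hi => absurd hi (Nat.not_lt_zero _)) 1 le_rfl (by omega))

end main

end Groth.Agent.Lib.Seat56.TorFlat
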