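import Mathlib

/-!
# Finitely presented covers of finite modules with the same fibre (helper56)

`exists_fp_cover`: if `S ⧸ I` is Noetherian and `N` is a finite `S`-module there is a finitely
presented `S`-module `N'` with a surjection `ρ : N' → N` which is injective modulo `I`.
-/

set_option autoImplicit false
universe u

namespace Groth.Agent.Lib.Seat56.ValMapA

theorem exists_fp_cover {S : Type u} [CommRing S] (I : Ideal S) [IsNoetherianRing (S ⧸ I)]
    (N : Type u) [AddCommGroup N] [Module S N] [Module.Finite S N] :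
    ∃ (N' : Type u) (_ : AddCommGroup N') (_ : Module S N') (_ : Module.FinitePresentation S N')
      (ρ : N' →ₗ[S] N), Function.Surjective ρ ∧
        ∀ x : N', ρ x ∈ (I • ⊤ : Submodule S N) → x ∈ (I • ⊤ : Submodule S N') := by
  classical
  obtain ⟨k, π, hπ⟩ := Module.Finite.exists_fin' S N
  -- reduction modulo `I`
  let red : (Fin k → S) →ₗ[S] (Fin k → S ⧸ I) :=
    (Ideal.Quotient.mkₐ S I).toLinearMap.compLeft (Fin k)
  have hred : ∀ v i, red v i = Ideal.Quotient.mk I (v i) := fun _ _ => rfl
  have hker : ∀ v, red v = 0 → v ∈ (I • ⊤ : Submodule S (Fin k → S)) := by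
    intro v hv
    have hvi : ∀ i, v i ∈ I := by
      intro i
      have := congrFun hv i
      rw [hred, Pi.zero_apply, Ideal.Quotient.eq_zero_iff_mem] at this
      exact this
    have hsum : v = ∑ i, v i • (Pi.single i (1 : S) : Fin k → S) := by
      ext j
      simp [Finset.sum_apply, Pi.single_apply]
    rw [hsum]
    exact Submodule.sum_mem _ fun i _ => Submodule.smul_mem_smul (hvi i) trivial
  set K : Submodule S (Fin k → S) := LinearMap.ker π with hK
  have hfg : (Submodule.span (S ⧸ I) (red '' (K : Set (Fin k → S)))).FG :=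
    IsNoetherian.noetherian _
  obtain ⟨s', hs'sub, hs'⟩ := (Submodule.fg_span_iff_fg_span_finset_subset _).1 hfg
  have hchoose : ∀ z : (s' : Set (Fin k → S ⧸ I)), ∃ w ∈ K, red w = z.1 := by
    intro z
    obtain ⟨w, hw, hwz⟩ := hs'sub z.2
    exact ⟨w, hw, hwz⟩
  choose kz hkzK hkz using hchoose
  set L : Submodule S (Fin k → S) := Submodule.span S (Set.range kz) with hL
  have hLK : L ≤ K := by
    rw [hL, Submodule.span_le]
    rintro _ ⟨z, rfl⟩
    exact hkzK z
  have hLfg : L.FG := by
    rw [hL]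
    exact Submodule.fg_span (Set.finite_range _)
  -- elements of the span lift to `L`
  have hlift : ∀ z ∈ Submodule.span (S ⧸ I) (s' : Set (Fin k → S ⧸ I)), ∃ l ∈ L, red l = z := by
    intro z hz
    induction hz using Submodule.span_induction with
    | mem z hz =>
      exact ⟨kz ⟨z, hz⟩, Submodule.subset_span ⟨_, rfl⟩, hkz ⟨z, hz⟩⟩
    | zero => exact ⟨0, L.zero_mem, map_zero _⟩
    | add z₁ z₂ _ _ h₁ h₂ =>
      obtain ⟨l₁, hl₁, e₁⟩ := h₁
      obtain ⟨l₂, hl₂, e₂⟩ := h₂
      exact ⟨l₁ + l₂, L.add_mem hl₁ hl₂, by rw [map_add, e₁, e₂]⟩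
    | smul c z _ h =>
      obtain ⟨l, hl, e⟩ := h
      obtain ⟨c, rfl⟩ := Ideal.Quotient.mk_surjective c
      refine ⟨c • l, L.smul_mem c hl, ?_⟩
      rw [map_smul, e]
      rfl
  refine ⟨(Fin k → S) ⧸ L, inferInstance, inferInstance, ?_, L.liftQ π hLK, ?_, ?_⟩
  · refine Module.finitePresentation_of_surjective L.mkQ (Submodule.mkQ_surjective _) ?_
    rw [Submodule.ker_mkQ]
    exact hLfg
  · intro n
    obtain ⟨v, rfl⟩ := hπ n
    exact ⟨L.mkQ v, by simp⟩
  · intro x hx
    obtain ⟨v, rfl⟩ := L.mkQ_surjective x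
    have h1 : π v ∈ (I • ⊤ : Submodule S N) := by simpa using hx
    have h2 : (I • ⊤ : Submodule S N) = Submodule.map π (I • ⊤ : Submodule S (Fin k → S)) := by
      rw [Submodule.map_smul'', Submodule.map_top, LinearMap.range_eq_top.2 hπ]
    rw [h2] at h1
    obtain ⟨v', hv', hvv'⟩ := h1
    have h3 : v - v' ∈ K := by
      rw [hK, LinearMap.mem_ker, map_sub, hvv', sub_self]
    have h4 : red (v - v') ∈ Submodule.span (S ⧸ I) (s' : Set (Fin k → S ⧸ I)) := by
      rw [← hs']
      exact Submodule.subset_span ⟨_, h3, rfl⟩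
    obtain ⟨l, hl, e⟩ := hlift _ h4
    have h5 : v - v' - l ∈ (I • ⊤ : Submodule S (Fin k → S)) := by
      apply hker
      rw [map_sub, e, sub_self]
    have h6 : L.mkQ v = L.mkQ (v - v' - l) + L.mkQ v' := by
      have hl0 : L.mkQ l = 0 := by
        rw [Submodule.mkQ_apply]
        exact (Submodule.Quotient.mk_eq_zero L).2 hl
      rw [map_sub, map_sub, hl0]
      abel
    rw [h6]
    refine Submodule.add_mem _ ?_ ?_
    · have := Submodule.mem_map_of_mem (f := L.mkQ) h5
      rw [Submodule.map_smul''] at this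
      exact Submodule.smul_mono le_rfl le_top this
    · have := Submodule.mem_map_of_mem (f := L.mkQ) hv'
      rw [Submodule.map_smul''] at this
      exact Submodule.smul_mono le_rfl le_top this

end Groth.Agent.Lib.Seat56.ValMapA
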