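import Mathlib
import Groth.Agent.Lib.Seat56UMapMain
import Groth.Agent.Lib.Seat56ValMapA
import Groth.Agent.Lib.Seat52ValFP

/-!
# Stacks 00R7 over a valuation ring, for finite modules over an essentially finite type algebra

* `main_finite`: the non-Noetherian criterion `Seat56.UMapMain.main` with the source module only
  finite (closed fibre Noetherian).
* `exists_local_cover`: a local ring `B` essentially of finite type over `A` is a quotient of a
  localisation of a polynomial ring at a prime.
* `valuation_main`: `A` valuation ring, `A → B` local essentially of finite type, `u : N → M` map of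
  finite `B`-modules, `M` flat over `A`, `u` injective modulo `𝔪_A` ⟹ `u` injective with `A`-flat
  cokernel.
-/

set_option autoImplicit false
set_option linter.style.haveILetI false
universe u

namespace Groth.Agent.Lib.Seat56.ValMapB

open IsLocalRing

section MainFinite

theorem main_finite {R S M N : Type u} [CommRing R] [CommRing S] [IsLocalRing R]
    [IsLocalRing S] [Algebra R S] [IsLocalHom (algebraMap R S)]
    {S₁ : Type u} [CommRing S₁] [Algebra R S₁] [Algebra S₁ S] [IsScalarTower R S₁ S]
    (W : Submonoid S₁) [Algebra.FinitePresentation R S₁] [IsLocalization W S]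
    [IsNoetherianRing (S ⧸ (maximalIdeal R).map (algebraMap R S))]
    [AddCommGroup M] [Module S M] [Module R M] [IsScalarTower R S M] [Module.Finite S M]
    [AddCommGroup N] [Module S N] [Module R N] [IsScalarTower R S N] [Module.FinitePresentation S N]
    [Module.Flat R N]
    (u : M →ₗ[S] N)
    (hu : ∀ x : M, u x ∈ (maximalIdeal R).map (algebraMap R S) • (⊤ : Submodule S N) →
      x ∈ (maximalIdeal R).map (algebraMap R S) • (⊤ : Submodule S M)) :
    Function.Injective u ∧ Module.Flat R (N ⧸ LinearMap.range u) := by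
  obtain ⟨M', _, _, hfp, ρ, hρ, hρI⟩ := Groth.Agent.Lib.Seat56.ValMapA.exists_fp_cover
    ((maximalIdeal R).map (algebraMap R S)) M
  haveI := hfp
  letI : Module R M' := Module.compHom M' (algebraMap R S)
  have hsm : ∀ (r : R) (m : M'), r • m = algebraMap R S r • m := fun _ _ => rfl
  haveI : IsScalarTower R S M' := ⟨fun r b m => by
    rw [hsm, Algebra.smul_def, mul_smul]⟩
  have hu' : ∀ x : M', (u ∘ₗ ρ) x ∈ (maximalIdeal R).map (algebraMap R S) • (⊤ : Submodule S N) →
      x ∈ (maximalIdeal R).map (algebraMap R S) • (⊤ : Submodule S M') :=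
    fun x hx => hρI x (hu (ρ x) hx)
  obtain ⟨hinj, hflat⟩ := Groth.Agent.Lib.Seat56.UMapMain.main W (u ∘ₗ ρ) hu'
  have hrange : LinearMap.range (u ∘ₗ ρ) = LinearMap.range u :=
    LinearMap.range_comp_of_range_eq_top u (LinearMap.range_eq_top.2 hρ)
  rw [hrange] at hflat
  refine ⟨?_, hflat⟩
  rw [injective_iff_map_eq_zero]
  intro x hx
  obtain ⟨y, rfl⟩ := hρ x
  have : y = 0 := hinj (by rw [map_zero]; exact hx)
  rw [this, map_zero]

end MainFinite

section Cover

open MvPolynomial

theorem exists_local_cover {A B : Type u} [CommRing A] [CommRing B] [IsLocalRing B]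
    [Algebra A B] [Algebra.EssFiniteType A B] :
    ∃ (n : ℕ) (q : Ideal (MvPolynomial (Fin n) A)) (_ : q.IsPrime)
      (χ : Localization.AtPrime q →ₐ[A] B), Function.Surjective χ := by
  classical
  obtain ⟨n, φ, hφ⟩ := Algebra.FiniteType.iff_quotient_mvPolynomial''.mp
    (inferInstance : Algebra.FiniteType A (Algebra.EssFiniteType.subalgebra A B))
  let ψ : MvPolynomial (Fin n) A →ₐ[A] B := (Algebra.EssFiniteType.subalgebra A B).val.comp φ
  have hψ : ∀ p, ψ p = (φ p : B) := fun _ => rfl
  let q : Ideal (MvPolynomial (Fin n) A) := (maximalIdeal B).comap ψ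
  haveI hqp : q.IsPrime := Ideal.comap_isPrime _ _
  have hunit : ∀ y : q.primeCompl, IsUnit (ψ y) := fun y =>
    IsLocalRing.notMem_maximalIdeal.mp y.2
  refine ⟨n, q, hqp, IsLocalization.liftAlgHom (M := q.primeCompl) (f := ψ) hunit, ?_⟩
  intro b
  obtain ⟨⟨b₀, t⟩, hbt⟩ := IsLocalization.surj (Algebra.EssFiniteType.submonoid A B) b
  obtain ⟨p₀, hp₀⟩ := hφ b₀
  obtain ⟨pt, hpt⟩ := hφ t.1
  have htunit : IsUnit (ψ pt) := by
    rw [hψ, hpt]
    exact t.2
  have hptq : pt ∈ q.primeCompl := by
    intro hmem
    exact (IsLocalRing.mem_maximalIdeal _).1 hmem htunit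
  refine ⟨IsLocalization.mk' (Localization.AtPrime q) p₀ ⟨pt, hptq⟩, ?_⟩
  rw [IsLocalization.liftAlgHom_apply, IsLocalization.lift_mk']
  rw [Units.mul_inv_eq_iff_eq_mul]
  have h1 : (ψ p₀ : B) = algebraMap _ B b₀ := by rw [hψ, hp₀]; rfl
  have h2 : (ψ pt : B) = algebraMap _ B t.1 := by rw [hψ, hpt]; rfl
  change (ψ : _ →+* B) p₀ = b * ψ pt
  change ψ p₀ = b * ψ pt
  rw [h1, h2]
  exact hbt.symm

end Cover

section Val

theorem valuation_main {A B : Type u} [CommRing A] [IsDomain A] [ValuationRing A] [CommRing B]
    [IsLocalRing B] [Algebra A B] [IsLocalHom (algebraMap A B)] [Algebra.EssFiniteType A B]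
    {N M : Type u} [AddCommGroup N] [Module B N] [Module A N] [IsScalarTower A B N]
    [Module.Finite B N]
    [AddCommGroup M] [Module B M] [Module A M] [IsScalarTower A B M] [Module.Finite B M]
    [Module.Flat A M]
    (u : N →ₗ[B] M)
    (hu : ∀ n : N, u n ∈ (maximalIdeal A • ⊤ : Submodule A M) →
      n ∈ (maximalIdeal A • ⊤ : Submodule A N)) :
    Function.Injective u ∧ Module.Flat A (M ⧸ LinearMap.range u) := by
  classical
  obtain ⟨n, q, hqp, χ, hχ⟩ := exists_local_cover (A := A) (B := B)
  haveI := hqp
  -- `B` as an algebra over `S = A[X]_q`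
  letI : Algebra (Localization.AtPrime q) B := χ.toRingHom.toAlgebra
  have halg : ∀ s, algebraMap (Localization.AtPrime q) B s = χ s := fun _ => rfl
  haveI : IsScalarTower A (Localization.AtPrime q) B :=
    .of_algebraMap_eq' (by
      ext a
      rw [RingHom.comp_apply, halg, AlgHom.commutes])
  haveI : IsLocalHom (algebraMap A (Localization.AtPrime q)) := by
    refine ⟨fun a ha => ?_⟩
    have h1 : IsUnit (algebraMap (Localization.AtPrime q) B
        (algebraMap A (Localization.AtPrime q) a)) := ha.map _
    rw [← IsScalarTower.algebraMap_apply] at h1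
    exact isUnit_of_map_unit (algebraMap A B) a h1
  haveI : Module.Finite (Localization.AtPrime q) B :=
    Module.Finite.of_surjective (Algebra.linearMap (Localization.AtPrime q) B) hχ
  -- module structures
  letI : Module (Localization.AtPrime q) N := Module.compHom N χ.toRingHom
  letI : Module (Localization.AtPrime q) M := Module.compHom M χ.toRingHom
  have hsmN : ∀ (s : Localization.AtPrime q) (x : N), s • x = χ s • x := fun _ _ => rfl
  have hsmM : ∀ (s : Localization.AtPrime q) (x : M), s • x = χ s • x := fun _ _ => rfl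
  haveI : IsScalarTower (Localization.AtPrime q) B N := ⟨fun s b x => by
    rw [hsmN, Algebra.smul_def, halg, mul_smul]⟩
  haveI : IsScalarTower (Localization.AtPrime q) B M := ⟨fun s b x => by
    rw [hsmM, Algebra.smul_def, halg, mul_smul]⟩
  haveI : IsScalarTower A (Localization.AtPrime q) N := ⟨fun a s x => by
    rw [hsmN, hsmN, map_smul, smul_assoc]⟩
  haveI : IsScalarTower A (Localization.AtPrime q) M := ⟨fun a s x => by
    rw [hsmM, hsmM, map_smul, smul_assoc]⟩
  haveI : Module.Finite (Localization.AtPrime q) N := Module.Finite.trans B N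
  haveI : Module.Finite (Localization.AtPrime q) M := Module.Finite.trans B M
  -- `M` is finitely presented
  have htf : ∀ (a : A) (x : M), a ≠ 0 → a • x = 0 → x = 0 := by
    intro a x ha hx
    exact Module.Flat.isSMulRegular_of_nonZeroDivisors (M := M)
      (mem_nonZeroDivisors_of_ne_zero ha) (by simpa using hx)
  haveI : Module.FinitePresentation (Localization.AtPrime q) M :=
    Groth.Agent.Lib.Seat52.ValFP.fp_of_essFiniteType (A := A) (B := Localization.AtPrime q) htf
  -- the closed fibre is Noetherian
  haveI : IsNoetherianRing (A ⧸ maximalIdeal A) := by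
    letI : Field (A ⧸ maximalIdeal A) := Ideal.Quotient.field _
    infer_instance
  haveI : IsNoetherianRing (Localization.AtPrime q ⧸
      (maximalIdeal A).map (algebraMap A (Localization.AtPrime q))) :=
    Algebra.EssFiniteType.isNoetherianRing (A ⧸ maximalIdeal A) (Localization.AtPrime q ⧸
      (maximalIdeal A).map (algebraMap A (Localization.AtPrime q)))
  -- the hypothesis
  have hconvN : ∀ x : N, x ∈ (maximalIdeal A • ⊤ : Submodule A N) ↔
      x ∈ (maximalIdeal A).map (algebraMap A (Localization.AtPrime q)) •
        (⊤ : Submodule (Localization.AtPrime q) N) := by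
    intro x
    rw [Groth.Agent.Helper13Fiber.smul_top_eq_restrictScalars (maximalIdeal A)
      (Localization.AtPrime q) N]
    exact Iff.rfl
  have hconvM : ∀ x : M, x ∈ (maximalIdeal A • ⊤ : Submodule A M) ↔
      x ∈ (maximalIdeal A).map (algebraMap A (Localization.AtPrime q)) •
        (⊤ : Submodule (Localization.AtPrime q) M) := by
    intro x
    rw [Groth.Agent.Helper13Fiber.smul_top_eq_restrictScalars (maximalIdeal A)
      (Localization.AtPrime q) M]
    exact Iff.rfl
  have hu' : ∀ x : N, (u.restrictScalars (Localization.AtPrime q)) x ∈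
      (maximalIdeal A).map (algebraMap A (Localization.AtPrime q)) •
        (⊤ : Submodule (Localization.AtPrime q) M) →
      x ∈ (maximalIdeal A).map (algebraMap A (Localization.AtPrime q)) •
        (⊤ : Submodule (Localization.AtPrime q) N) :=
    fun x hx => (hconvN x).1 (hu x ((hconvM _).2 hx))
  obtain ⟨hinj, hflat⟩ := main_finite (R := A) (S := Localization.AtPrime q)
    (S₁ := MvPolynomial (Fin n) A) q.primeCompl (u.restrictScalars (Localization.AtPrime q)) hu'
  refine ⟨hinj, ?_⟩
  have hrange : (LinearMap.range (u.restrictScalars (Localization.AtPrime q))).restrictScalars A =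
      (LinearMap.range u).restrictScalars A := by
    ext x
    rfl
  let e : (M ⧸ LinearMap.range u) ≃ₗ[A]
      (M ⧸ LinearMap.range (u.restrictScalars (Localization.AtPrime q))) :=
    (Submodule.Quotient.restrictScalarsEquiv A (LinearMap.range u)).symm ≪≫ₗ
      (Submodule.quotEquivOfEq _ _ hrange.symm) ≪≫ₗ
      (Submodule.Quotient.restrictScalarsEquiv A
        (LinearMap.range (u.restrictScalars (Localization.AtPrime q))))
  exact Module.Flat.of_linearEquiv e

end Val

end Groth.Agent.Lib.Seat56.ValMapB
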