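import Mathlib

/-!
# Seat57CoprodCI: `coprod.desc a b` of two closed immersions with disjoint ranges is a
closed immersion; likewise for immersions whose ranges are "separated".
-/

set_option autoImplicit false
universe u
open CategoryTheory CategoryTheory.Limits AlgebraicGeometry TopologicalSpace Opposite

namespace Groth.Agent.Lib.Seat57.CoprodCI

variable {X X' Z : Scheme.{u}} (a : X ⟶ Z) (b : X' ⟶ Z)

theorem desc_coprodMk (x : X ⊕ X') :
    (coprod.desc a b) (coprodMk X X' x) = Sum.elim (fun x => a x) (fun x => b x) x := by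
  rcases x with x | x
  · rw [coprodMk_inl, ← Scheme.Hom.comp_apply, coprod.inl_desc]; rfl
  · rw [coprodMk_inr, ← Scheme.Hom.comp_apply, coprod.inr_desc]; rfl

theorem surjectiveOnStalks_desc [SurjectiveOnStalks a] [SurjectiveOnStalks b] :
    SurjectiveOnStalks (coprod.desc a b) := by
  rw [IsZariskiLocalAtSource.iff_of_openCover (P := @SurjectiveOnStalks)
    (coprodOpenCover.{u, 0} X X')]
  rintro (⟨⟩ | ⟨⟩)
  · change SurjectiveOnStalks (coprod.inl ≫ coprod.desc a b)
    rw [coprod.inl_desc]; infer_instance
  · change SurjectiveOnStalks (coprod.inr ≫ coprod.desc a b)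
    rw [coprod.inr_desc]; infer_instance

theorem isClosedImmersion_desc [IsClosedImmersion a] [IsClosedImmersion b]
    (hd : Disjoint (Set.range a) (Set.range b)) :
    IsClosedImmersion (coprod.desc a b) := by
  have := surjectiveOnStalks_desc a b
  refine ⟨?_⟩
  have h1 : Topology.IsClosedEmbedding (Sum.elim (fun x => a x) (fun x => b x)) :=
    Topology.IsClosedEmbedding.sumElim a.isClosedEmbedding b.isClosedEmbedding
      (Sum.elim_injective.2 ⟨a.isClosedEmbedding.injective, b.isClosedEmbedding.injective,
        fun x y h => Set.disjoint_iff_forall_ne.mp hd ⟨x, rfl⟩ ⟨y, rfl⟩ h⟩)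
  have h2 : (fun z => (coprod.desc a b) z) =
      Sum.elim (fun x => a x) (fun x => b x) ∘ (coprodMk X X').symm := by
    funext z
    obtain ⟨x, rfl⟩ := (coprodMk X X').surjective z
    simp only [Function.comp_apply, Homeomorph.symm_apply_apply]
    exact desc_coprodMk a b x
  change Topology.IsClosedEmbedding (fun z => (coprod.desc a b) z)
  rw [h2]
  exact h1.comp (coprodMk X X').symm.isClosedEmbedding

end Groth.Agent.Lib.Seat57.CoprodCI
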