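import Mathlib
import Groth.Prelude.Def_RelProj3
import Groth.Agent.Lib.Helper2RelTwistPullback
import Groth.Agent.Lib.Helper13RLb

/-!
# Seat57: functions pulled back from the base, read in the charts of a relative `Proj`

* `funVal_toSpecZero_appTop` : the value at `y` of the pullback to `Proj 𝒜` of a function `t` on `Spec 𝒜₀`
  is `t / 1`.
* `funVal_emb_app_appLE` : for `p : P ⟶ S` a relative `Proj` of `𝒮`, `a ∈ Γ(S, U)` with `U` affine, the function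
  `p^♯ a`, read in the chart over `U`, has the value `str(a) / 1` at every point.
-/

set_option autoImplicit false
universe u
open CategoryTheory Limits AlgebraicGeometry TopologicalSpace Opposite HomogeneousLocalization
open scoped HomogeneousIdeal

namespace Groth.Agent.Lib.Seat57.FunVal

open Groth.Agent.Lib.Helper2GrModSect

section ring

variable {A σ : Type u} [CommRing A] [SetLike σ A] [AddSubgroupClass σ A] (𝒜 : ℕ → σ)
  [GradedRing 𝒜]

variable {f : A} {m : ℕ} (f_deg : f ∈ 𝒜 m) (hm : 0 < m)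

theorem awayι_appTop_toSpecZero (t : Γ(Spec (.of (𝒜 0)), ⊤)) :
    (Scheme.ΓSpecIso _).hom ((Proj.awayι 𝒜 f f_deg hm).appTop ((Proj.toSpecZero 𝒜).appTop t)) =
      fromZeroRingHom 𝒜 _ ((Scheme.ΓSpecIso _).hom t) := by
  have h1 := Proj.awayι_toSpecZero 𝒜 f f_deg hm
  have h2 := congrArg Scheme.Hom.appTop h1
  rw [Scheme.Hom.comp_appTop] at h2
  have h3 := Scheme.ΓSpecIso_naturality (CommRingCat.ofHom
    (fromZeroRingHom 𝒜 (Submonoid.powers f)))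
  rw [← h2] at h3
  exact congr($h3 t)

/-- the restriction of a global function to `D₊(f)`, through `awayι`. -/
theorem awayToSection_awayι_appTop (s : Γ(Proj 𝒜, ⊤)) :
    (Proj.awayToSection 𝒜 f).hom ((Scheme.ΓSpecIso _).hom ((Proj.awayι 𝒜 f f_deg hm).appTop s)) =
      (Proj 𝒜).presheaf.map (homOfLE (le_top : Proj.basicOpen 𝒜 f ≤ ⊤)).op s := by
  set e := Proj.basicOpenIsoSpec 𝒜 f f_deg hm with he
  have h1 : (Proj.awayι 𝒜 f f_deg hm).appTop s = e.inv.appTop ((Proj.basicOpen 𝒜 f).ι.appTop s) := by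
    rw [← Proj.basicOpenIsoSpec_inv_ι, Scheme.Hom.comp_appTop]
    rfl
  set u := (Proj.basicOpen 𝒜 f).ι.appTop s with hu
  have h2 : e.hom.appTop (e.inv.appTop u) = u := by
    have : e.inv.appTop ≫ e.hom.appTop = 𝟙 _ := by
      rw [← Scheme.Hom.comp_appTop, e.hom_inv_id]
      rfl
    exact congr($this u)
  have h3 : e.hom.appTop = (Scheme.ΓSpecIso _).hom ≫ Proj.awayToSection 𝒜 f ≫
      (Proj.basicOpen 𝒜 f).topIso.inv := by
    rw [he, Proj.basicOpenIsoSpec_hom]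
    exact Proj.basicOpenToSpec_app_top 𝒜 f
  rw [h3] at h2
  have h4 : (Proj.basicOpen 𝒜 f).topIso.inv ((Proj.awayToSection 𝒜 f).hom
      ((Scheme.ΓSpecIso _).hom (e.inv.appTop u))) = u := h2
  rw [h1]
  have h5 := congrArg (Proj.basicOpen 𝒜 f).topIso.hom h4
  have h6 : (Proj.basicOpen 𝒜 f).topIso.hom ((Proj.basicOpen 𝒜 f).topIso.inv
      ((Proj.awayToSection 𝒜 f).hom ((Scheme.ΓSpecIso _).hom (e.inv.appTop u)))) =
      (Proj.awayToSection 𝒜 f).hom ((Scheme.ΓSpecIso _).hom (e.inv.appTop u)) := by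
    exact congr($((Proj.basicOpen 𝒜 f).topIso.inv_hom_id) _)
  rw [h6] at h5
  rw [h5, hu, Scheme.Opens.ι_appTop, Scheme.Opens.topIso_hom]
  change ((Proj 𝒜).presheaf.map (homOfLE _).op ≫ (Proj 𝒜).presheaf.map (eqToHom _).op) s = _
  rw [← Functor.map_comp]
  rfl

/-- the value of a function pulled back from `Spec 𝒜₀`. -/
theorem funVal_toSpecZero_appTop (t : Γ(Spec (.of (𝒜 0)), ⊤)) (y : ProjectiveSpectrum 𝒜) :
    (funVal 𝒜 ⊤ ((Proj.toSpecZero 𝒜).appTop t) y trivial).val =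
      (Localization.mk (((Scheme.ΓSpecIso (.of (𝒜 0))).hom t : 𝒜 0) : A) 1 : GrTwist.Loc 𝒜 y) := by
  obtain ⟨n, g, hn, hg, hyg⟩ := Groth.Agent.Helper13RL.exists_mem_basicOpen_pos 𝒜 y
  have h1 : funVal 𝒜 ⊤ ((Proj.toSpecZero 𝒜).appTop t) y trivial =
      funVal 𝒜 (Proj.basicOpen 𝒜 g) ((Proj 𝒜).presheaf.map
        (homOfLE (le_top : Proj.basicOpen 𝒜 g ≤ ⊤)).op ((Proj.toSpecZero 𝒜).appTop t)) y hyg := rfl
  rw [h1, ← awayToSection_awayι_appTop 𝒜 hg hn, awayι_appTop_toSpecZero 𝒜 hg hn]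
  set z := (Scheme.ΓSpecIso (.of (𝒜 0))).hom t with hz
  have h2 : fromZeroRingHom 𝒜 (Submonoid.powers g) z =
      Away.mk 𝒜 hg 0 (z : A) (by rw [zero_smul]; exact z.2) := by
    apply HomogeneousLocalization.val_injective
    rw [Away.val_mk]
    change Localization.mk (z : A) 1 = _
    rw [Localization.mk_eq_mk_iff, Localization.r_iff_exists]
    exact ⟨1, by simp⟩
  rw [h2, funVal_awayToSection_val hg 0 (z : A) _ y hyg, Localization.mk_eq_mk_iff,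
    Localization.r_iff_exists]
  exact ⟨1, by simp⟩

end ring

section rel

open RelProj

variable {S P : Scheme.{u}} {𝒮 : RelProj.QCGrAlg S} (p : P ⟶ S)
  (chart : ∀ (U : S.Opens) (hU : IsAffineOpen U), (((p ⁻¹ᵁ U : P.Opens) : Scheme.{u}) ≅ Proj (𝒮.deg U hU)))

theorem emb_comp (hP : RelProj.IsRelProj 𝒮 p chart) (U : S.Opens) (hU : IsAffineOpen U) :
    RelProj.emb p chart U hU ≫ p =
      Proj.toSpecZero (𝒮.deg U hU) ≫ Spec.map (𝒮.strZero U hU) ≫ hU.fromSpec := by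
  rw [RelProj.emb, Category.assoc, ← hP.chart_over U hU, Iso.inv_hom_id_assoc]

theorem fromSpec_appLE_top {X : Scheme.{u}} {U : X.Opens} (hU : IsAffineOpen U)
    (e : (⊤ : (Spec Γ(X, U)).Opens) ≤ hU.fromSpec ⁻¹ᵁ U) :
    hU.fromSpec.appLE U ⊤ e = (Scheme.ΓSpecIso Γ(X, U)).inv := by
  rw [Scheme.Hom.appLE, hU.fromSpec_app_self, Category.assoc, ← Functor.map_comp]
  convert Category.comp_id _
  exact CategoryTheory.Functor.map_id _ _

/-- the function `p^♯ a`, read in the chart over `U`. -/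
theorem funVal_emb_app_appLE (hP : RelProj.IsRelProj 𝒮 p chart) (U : S.Opens) (hU : IsAffineOpen U)
    (O : P.Opens) (hO : O ≤ p ⁻¹ᵁ U) (a : Γ(S, U)) (y : ProjectiveSpectrum (𝒮.deg U hU))
    (hy : (RelProj.emb p chart U hU) y ∈ O) :
    (funVal (𝒮.deg U hU) ((RelProj.emb p chart U hU) ⁻¹ᵁ O)
      ((RelProj.emb p chart U hU).app O (p.appLE U O hO a)) y hy).val =
      (Localization.mk ((𝒮.str.app (op U)).hom a) 1 : GrTwist.Loc (𝒮.deg U hU) y) := by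
  set e := RelProj.emb p chart U hU with he
  have hle : e ⁻¹ᵁ O ≤ (e ≫ p) ⁻¹ᵁ U := fun z hz => hO hz
  have e1 : e.app O (p.appLE U O hO a) = (e ≫ p).appLE U (e ⁻¹ᵁ O) hle a := by
    rw [← Scheme.Hom.appLE_comp_appLE e p U O (e ⁻¹ᵁ O) hO le_rfl, Scheme.Hom.app_eq_appLE]
    rfl
  set θ := Proj.toSpecZero (𝒮.deg U hU) ≫ Spec.map (𝒮.strZero U hU) ≫ hU.fromSpec with hθ
  have hcomp : e ≫ p = θ := emb_comp p chart hP U hU
  have e2 : (e ≫ p).appLE U (e ⁻¹ᵁ O) hle a = θ.appLE U (e ⁻¹ᵁ O) (hcomp ▸ hle) a := by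
    rw [Groth.Agent.Lib.Helper2.RelTwistPullback.appLE_of_eq hcomp]
  have htop : (⊤ : (Proj (𝒮.deg U hU)).Opens) ≤ θ ⁻¹ᵁ U := by
    intro z _
    change (hU.fromSpec) ((Spec.map (𝒮.strZero U hU)) ((Proj.toSpecZero (𝒮.deg U hU)) z)) ∈ U
    have : (hU.fromSpec) ((Spec.map (𝒮.strZero U hU)) ((Proj.toSpecZero (𝒮.deg U hU)) z)) ∈
        hU.fromSpec.opensRange := ⟨_, rfl⟩
    rwa [hU.opensRange_fromSpec] at this
  have e3 : θ.appLE U (e ⁻¹ᵁ O) (hcomp ▸ hle) a =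
      (Proj (𝒮.deg U hU)).presheaf.map (homOfLE (le_top : e ⁻¹ᵁ O ≤ ⊤)).op (θ.appLE U ⊤ htop a) := by
    have := congrArg (fun f => f.hom a)
      (Scheme.Hom.appLE_map θ htop (homOfLE (le_top : e ⁻¹ᵁ O ≤ ⊤)).op)
    exact this.symm
  rw [e1, e2, e3, funVal_map]
  -- now compute `θ.appLE U ⊤ a`
  have h1top : (⊤ : (Spec (CommRingCat.of (𝒮.deg U hU 0))).Opens) ≤
      (Spec.map (𝒮.strZero U hU) ≫ hU.fromSpec) ⁻¹ᵁ U := by
    intro z _
    change (hU.fromSpec) ((Spec.map (𝒮.strZero U hU)) z) ∈ U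
    have : (hU.fromSpec) ((Spec.map (𝒮.strZero U hU)) z) ∈ hU.fromSpec.opensRange := ⟨_, rfl⟩
    rwa [hU.opensRange_fromSpec] at this
  have h2top : (⊤ : (Spec Γ(S, U)).Opens) ≤ hU.fromSpec ⁻¹ᵁ U := by
    rw [hU.fromSpec_preimage_self]
  have e4 : θ.appLE U ⊤ htop a =
      (Proj.toSpecZero (𝒮.deg U hU)).appTop
        ((Spec.map (𝒮.strZero U hU)).appTop ((Scheme.ΓSpecIso Γ(S, U)).inv a)) := by
    have s1 := Scheme.Hom.appLE_comp_appLE (Proj.toSpecZero (𝒮.deg U hU))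
      (Spec.map (𝒮.strZero U hU) ≫ hU.fromSpec) U ⊤ ⊤ h1top le_top
    have s2 := Scheme.Hom.appLE_comp_appLE (Spec.map (𝒮.strZero U hU)) hU.fromSpec U ⊤ ⊤ h2top le_top
    rw [fromSpec_appLE_top hU h2top] at s2
    have s3 : θ.appLE U ⊤ htop = ((Scheme.ΓSpecIso Γ(S, U)).inv ≫
        (Spec.map (𝒮.strZero U hU)).appLE ⊤ ⊤ le_top) ≫
        (Proj.toSpecZero (𝒮.deg U hU)).appLE ⊤ ⊤ le_top := by
      rw [s2, s1]
    rw [s3]
    rfl
  rw [e4, funVal_toSpecZero_appTop]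
  have h5 : (Scheme.ΓSpecIso (CommRingCat.of (𝒮.deg U hU 0))).hom
      ((Spec.map (𝒮.strZero U hU)).appTop ((Scheme.ΓSpecIso Γ(S, U)).inv a)) =
      (𝒮.strZero U hU).hom a := by
    have h3 := Scheme.ΓSpecIso_naturality (𝒮.strZero U hU)
    have h4 := congr($h3 ((Scheme.ΓSpecIso Γ(S, U)).inv a))
    refine h4.trans ?_
    have h6 : (Scheme.ΓSpecIso Γ(S, U)).hom ((Scheme.ΓSpecIso Γ(S, U)).inv a) = a :=
      congr($((Scheme.ΓSpecIso Γ(S, U)).inv_hom_id) a)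
    change (𝒮.strZero U hU).hom ((Scheme.ΓSpecIso Γ(S, U)).hom ((Scheme.ΓSpecIso Γ(S, U)).inv a)) = _
    rw [h6]
  rw [h5]
  rfl

end rel

end Groth.Agent.Lib.Seat57.FunVal
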