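import Mathlib
import Groth.Prelude.Def_RelProj3
import Groth.Agent.Lib.Helper2RelTwistPullback

/-!
# Seat57: pulling back `O_P(1)` of a relative Proj along an arbitrary morphism, via frames

`nonempty_pullback_iso_of_frames`: for `f : X ⟶ P = Proj(𝒮)`, a module `N` on `X` with generating
sections `s i` over opens `W i ≤ f⁻¹(D₊(t_{κ i}))` covering `X` whose transition functions are the
pullbacks of those of the standard frames `t_{κ i} / 1` of `O_P(1)` is isomorphic to `f^* O_P(1)`.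
-/

set_option autoImplicit false
universe u
open CategoryTheory Limits AlgebraicGeometry TopologicalSpace Opposite
open scoped HomogeneousIdeal

namespace Groth.Agent.Lib.Seat57.TwistPull

open Groth.Agent.Lib.Helper2GrModSect
open Groth.Agent.Lib.Helper2.RelTildeQCoh Groth.Agent.Lib.Helper23.SecTw Groth.Agent.Lib.Helper6
  Groth.Agent.Lib.Helper2.Push Groth.Agent.Lib.Helper2.RelTwistGen Groth.Agent.Lib.Helper2.IsGenCover
  Groth.Agent.Lib.Helper2.RelTwistTriv Groth.Agent.Lib.Helper2.RelTwistTensor RelProj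
  Groth.Agent.Lib.Helper23.GenLocus Groth.Agent.Lib.Helper2.RelTwistInv Groth.Agent.Lib.Helper23.PB
  Groth.Agent.Helper13PullbackUnit

variable {S P X : Scheme.{u}} {𝒮 : RelProj.QCGrAlg S} (p : P ⟶ S)
  (chart : ∀ (U : S.Opens) (hU : IsAffineOpen U), (((p ⁻¹ᵁ U : P.Opens) : Scheme.{u}) ≅ Proj (𝒮.deg U hU)))
  (O1 : P.Modules)
  (lam : ∀ (U : S.Opens) (hU : IsAffineOpen U),
    O1 ⟶ (Scheme.Modules.pushforward (RelProj.emb p chart U hU)).obj (GrTwist.twist (𝒮.deg U hU) 1))
  (hO1 : RelProj.IsRelTwist 𝒮 p chart 1 O1 lam)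

/-- the standard frame `t / 1` of `O_P(1)` over `D₊(t)` -/
noncomputable abbrev e1 (i : Idx 𝒮) : Γ(O1, VF p chart i) :=
  eF p chart 1 O1 lam hO1 1 0 (by norm_num) i

include hO1 in
theorem isQuasicoherent_O1 : O1.IsQuasicoherent := by
  have hT : ∀ (U : S.Opens) (hU : IsAffineOpen U),
      (GrTwist.twist (𝒮.deg U hU) 1).IsQuasicoherent := by
    intro U hU
    have h0 : GrMod.tilde (𝒮.deg U hU) (𝒮.deg U hU) 1 = GrTwist.twist (𝒮.deg U hU) 1 := rfl
    rw [← h0]
    exact Groth.Agent.Lib.Helper2GrModSect.isQuasicoherent_tilde (𝒮.deg U hU) (𝒮.deg U hU) 1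
  exact isQuasicoherent_of_relCharts p chart O1
    (fun U hU => GrTwist.twist (𝒮.deg U hU) 1) hT lam hO1.bijective

theorem isAffineOpen_VF (i : Idx 𝒮) : IsAffineOpen (VF p chart i) := by
  have h := Proj.isAffineOpen_basicOpen (𝒮.deg i.1.1 i.1.2) i.2.1 i.2.2 one_pos
  exact h.image_of_isOpenImmersion (RelProj.emb p chart i.1.1 i.1.2)

include hO1 in
/-- **Pullback of `O_P(1)` via frames.** -/
theorem nonempty_pullback_iso_of_frames (f : X ⟶ P) (N : X.Modules)
    {I : Type*} (κ : I → Idx 𝒮) (W : I → X.Opens)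
    (hW : ∀ i, W i ≤ f ⁻¹ᵁ (VF p chart (κ i))) (hcov : ∀ x : X, ∃ i, x ∈ W i)
    (s : ∀ i, Γ(N, W i)) (hs : ∀ i, IsGen N (W i) (s i))
    (hc : ∀ (i j : I) (γ : Γ(P, VF p chart (κ i) ⊓ VF p chart (κ j))),
      res O1 inf_le_left (e1 p chart O1 lam hO1 (κ i)) =
        γ • res O1 inf_le_right (e1 p chart O1 lam hO1 (κ j)) →
      res N inf_le_left (s i) =
        f.appLE (VF p chart (κ i) ⊓ VF p chart (κ j)) (W i ⊓ W j)
          (fun _ hz => ⟨hW i hz.1, hW j hz.2⟩) γ • res N inf_le_right (s j)) :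
    Nonempty ((Scheme.Modules.pullback f).obj O1 ≅ N) := by
  have : O1.IsQuasicoherent := isQuasicoherent_O1 p chart O1 lam hO1
  have hgA : ∀ i : I, IsGen ((Scheme.Modules.pullback f).obj O1) (W i)
      (res ((Scheme.Modules.pullback f).obj O1) (hW i)
        (unitSec f O1 le_rfl (e1 p chart O1 lam hO1 (κ i)))) :=
    fun i => (isGen_unitSec f O1 (isAffineOpen_VF p chart (κ i)) _
      (isGen_eF p chart 1 O1 lam hO1 1 0 (by norm_num) (κ i))).mono (hW i)
  obtain ⟨Φ, -⟩ := exists_iso_of_frames ((Scheme.Modules.pullback f).obj O1) N W hcov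
    (fun i => res ((Scheme.Modules.pullback f).obj O1) (hW i)
      (unitSec f O1 le_rfl (e1 p chart O1 lam hO1 (κ i)))) s hgA hs
    (by
      intro i j
      obtain ⟨γ, hγ⟩ := exists_transition' (e1 p chart O1 lam hO1 (κ i))
        (isGen_eF p chart 1 O1 lam hO1 1 0 (by norm_num) (κ j))
      have hle : W i ⊓ W j ≤ f ⁻¹ᵁ (VF p chart (κ i) ⊓ VF p chart (κ j)) :=
        fun _ hz => ⟨hW i hz.1, hW j hz.2⟩
      refine cocycle_of_transition (hgA j)
        (f.appLE (VF p chart (κ i) ⊓ VF p chart (κ j)) _ hle γ) ?_ (hc i j γ hγ)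
      rw [res_res, res_res,
        res_unitSec f O1 le_rfl hle inf_le_left (inf_le_left.trans (hW i)),
        res_unitSec f O1 le_rfl hle inf_le_right (inf_le_right.trans (hW j)), hγ, unitSec_smul])
  exact ⟨Φ⟩

end Groth.Agent.Lib.Seat57.TwistPull
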