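import Mathlib
import Groth.Prelude.Def_RelProj3
import Groth.Agent.Lib.Seat57TwistPull
import Groth.Agent.Lib.Seat57FunVal
import Groth.Agent.Lib.Helper13ProjLine

/-!
# Seat57: `O_{P(L)}(1)` for an invertible module `L`

For `L` invertible on `X`, `(𝒮L, j)` a graded symmetric algebra of `L`, `pL : PL ⟶ X` its relative `Proj`
(an isomorphism) with fundamental sheaf `O1`, the inverse image of `O1` along the section `inv pL` is `L`.
-/

set_option autoImplicit false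
universe u
open CategoryTheory Limits AlgebraicGeometry TopologicalSpace Opposite
open scoped HomogeneousIdeal

namespace Groth.Agent.Lib.Seat57.K1

open Groth.Agent.Lib.Helper2GrModSect
open Groth.Agent.Lib.Helper2.RelTildeQCoh Groth.Agent.Lib.Helper23.SecTw Groth.Agent.Lib.Helper6
  Groth.Agent.Lib.Helper2.Push Groth.Agent.Lib.Helper2.RelTwistGen Groth.Agent.Lib.Helper2.IsGenCover
  Groth.Agent.Lib.Helper2.RelTwistTriv Groth.Agent.Lib.Helper2.RelTwistTensor RelProj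
  Groth.Agent.Lib.Helper23.GenLocus Groth.Agent.Lib.Helper2.RelTwistInv Groth.Agent.Lib.Helper23.PB
  Groth.Agent.Helper13PullbackUnit Groth.Agent.Helper13SymAlg Groth.Agent.Lib.Seat57.TwistPull
  Groth.Agent.Lib.Seat57.FunVal

section NM

variable {S : Scheme.{u}} (E : S.Modules) [E.IsQuasicoherent]
  (𝒮 : RelProj.QCGrAlg S) (j : E ⟶ 𝒮.toModule) (hj : RelProj.IsGrSymAlg E 𝒮 j)

include hj in
/-- ring homomorphisms out of the sections of a symmetric algebra over an affine open are determined by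
their values on functions and on `j`. -/
theorem ringHom_ext_of_isGrSymAlg (U : S.Opens) (hU : IsAffineOpen U) {B : Type u} [CommRing B]
    (ψ ψ' : 𝒮.presheaf.obj (op U) →+* B)
    (h1 : ∀ a : Γ(S, U), ψ ((𝒮.str.app (op U)).hom a) = ψ' ((𝒮.str.app (op U)).hom a))
    (h2 : ∀ m : Γ(E, U), ψ (φAdd E 𝒮.toQCAlg j U m) = ψ' (φAdd E 𝒮.toQCAlg j U m)) : ψ = ψ' := by
  have hσ := bijective_σ E U hU hj.1
  have h3 : ψ.comp (σ E 𝒮.toQCAlg j U) = ψ'.comp (σ E 𝒮.toQCAlg j U) := by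
    refine Groth.Agent.Helper13SymLoc.ringHom_ext (fun a => ?_) (fun m => ?_)
    · unfold σ
      rw [RingHom.comp_apply, RingHom.comp_apply, Groth.Agent.Helper13SymLoc.symLift_algebraMap]
      exact h1 a
    · unfold σ
      rw [RingHom.comp_apply, RingHom.comp_apply, Groth.Agent.Helper13SymLoc.symLift_ι]
      exact h2 m
  refine RingHom.ext fun x => ?_
  obtain ⟨z, rfl⟩ := hσ.2 x
  exact RingHom.congr_fun h3 z

include hj in
/-- the opens `D₊(j m)` cover `Proj 𝒮(U)`. -/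
theorem exists_not_mem (U : S.Opens) (hU : IsAffineOpen U) (y : ProjectiveSpectrum (𝒮.deg U hU)) :
    ∃ m : Γ(E, U), φAdd E 𝒮.toQCAlg j U m ∉ y.asHomogeneousIdeal := by
  by_contra hcon
  push Not at hcon
  apply y.not_irrelevant_le
  let I : Ideal (𝒮.presheaf.obj (op U)) := y.asHomogeneousIdeal.toIdeal
  let ψ : 𝒮.presheaf.obj (op U) →+* (𝒮.presheaf.obj (op U)) ⧸ I := Ideal.Quotient.mk I
  let ψ' : 𝒮.presheaf.obj (op U) →+* (𝒮.presheaf.obj (op U)) ⧸ I :=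
    (Ideal.Quotient.mk I).comp (GradedRing.projZeroRingHom (𝒮.deg U hU))
  have hψ : ψ = ψ' := by
    apply ringHom_ext_of_isGrSymAlg E 𝒮 j hj U hU
    · intro c
      change _ = Ideal.Quotient.mk I (GradedRing.projZeroRingHom (𝒮.deg U hU) _)
      rw [GradedRing.projZeroRingHom_apply,
        DirectSum.decompose_of_mem_same (𝒮.deg U hU) (𝒮.str_mem U hU c)]
    · intro m
      change Ideal.Quotient.mk I _ = Ideal.Quotient.mk I (GradedRing.projZeroRingHom (𝒮.deg U hU) _)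
      have hm1 : φAdd E 𝒮.toQCAlg j U m ∈ 𝒮.deg U hU 1 := hj.2 U hU m
      rw [GradedRing.projZeroRingHom_apply,
        DirectSum.decompose_of_mem_ne (𝒮.deg U hU) hm1 one_ne_zero,
        map_zero, Ideal.Quotient.eq_zero_iff_mem]
      exact hcon m
  intro a ha
  have h1 := congrArg (fun φ => φ a) hψ
  change Ideal.Quotient.mk I a = Ideal.Quotient.mk I (GradedRing.projZeroRingHom (𝒮.deg U hU) a) at h1
  rw [GradedRing.projZeroRingHom_apply, ← GradedRing.proj_apply,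
    (HomogeneousIdeal.mem_irrelevant_iff _ _).mp ha, map_zero, Ideal.Quotient.eq_zero_iff_mem] at h1
  exact h1

include hj in
/-- a generator of `E` over an affine open gives a chart `D₊(j b)` which is all of `Proj 𝒮(U)`. -/
theorem not_mem_of_isGen (U : S.Opens) (hU : IsAffineOpen U) (b : Γ(E, U)) (hb : IsGen E U b)
    (y : ProjectiveSpectrum (𝒮.deg U hU)) :
    φAdd E 𝒮.toQCAlg j U b ∉ y.asHomogeneousIdeal := by
  obtain ⟨m, hm⟩ := exists_not_mem E 𝒮 j hj U hU y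
  obtain ⟨r, hr⟩ := (hb U le_rfl).2 m
  simp only [res_self] at hr
  intro hmem
  apply hm
  rw [← hr, φAdd_smul]
  exact Ideal.mul_mem_left _ _ hmem

end NM

section zv

variable {A σ : Type u} [CommRing A] [SetLike σ A] [AddSubgroupClass σ A] {𝒜 : ℕ → σ}
  [GradedRing 𝒜]

theorem zv_congr (y : ProjectiveSpectrum 𝒜) {t t' : A} (h : t = t') (ht : t ∉ y.asHomogeneousIdeal)
    (ht' : t' ∉ y.asHomogeneousIdeal) (pp qq : ℕ) : zv y t ht pp qq = zv y t' ht' pp qq := by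
  subst h; rfl

theorem zv_mul_one_zero (y : ProjectiveSpectrum 𝒜) (s t : A) (hst : s * t ∉ y.asHomogeneousIdeal)
    (ht : t ∉ y.asHomogeneousIdeal) :
    zv y (s * t) hst 1 0 = (Localization.mk s 1 : GrTwist.Loc 𝒜 y) * zv y t ht 1 0 := by
  unfold zv
  rw [Localization.mk_mul, Localization.mk_eq_mk_iff, Localization.r_iff_exists]
  exact ⟨1, by simp⟩

end zv

section main

variable {X PL : Scheme.{u}} (L : X.Modules) [L.IsQuasicoherent]
  (𝒮L : RelProj.QCGrAlg X) (j : L ⟶ 𝒮L.toModule) (hj : RelProj.IsGrSymAlg L 𝒮L j)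
  (pL : PL ⟶ X)
  (chartL : ∀ (U : X.Opens) (hU : IsAffineOpen U),
    (((pL ⁻¹ᵁ U : PL.Opens) : Scheme.{u}) ≅ Proj (𝒮L.deg U hU)))
  (hPL : RelProj.IsRelProj 𝒮L pL chartL)
  (O1 : PL.Modules)
  (lam : ∀ (U : X.Opens) (hU : IsAffineOpen U),
    O1 ⟶ (Scheme.Modules.pushforward (RelProj.emb pL chartL U hU)).obj (GrTwist.twist (𝒮L.deg U hU) 1))
  (hO1 : RelProj.IsRelTwist 𝒮L pL chartL 1 O1 lam)

/-- the index of the frame attached to an affine open with a generator of `L`. -/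
noncomputable def κ (a : AFr L) : Idx 𝒮L :=
  ⟨⟨a.1.1, a.2.1⟩, ⟨φAdd L 𝒮L.toQCAlg j a.1.1 a.1.2, hj.2 a.1.1 a.2.1 a.1.2⟩⟩

theorem VF_κ (a : AFr L) : VF pL chartL (κ L 𝒮L j hj a) = pL ⁻¹ᵁ a.1.1 := by
  apply le_antisymm (VF_le pL chartL _)
  intro x hx
  obtain ⟨y, hy⟩ := le_opensRange_emb pL chartL a.1.1 a.2.1 hx
  exact ⟨y, (ProjectiveSpectrum.mem_basicOpen _ _ y).mpr
    (not_mem_of_isGen L 𝒮L j hj a.1.1 a.2.1 a.1.2 a.2.2 y), hy⟩

omit [L.IsQuasicoherent] in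
theorem VF_inf_le (a a' : AFr L) :
    VF pL chartL (κ L 𝒮L j hj a) ⊓ VF pL chartL (κ L 𝒮L j hj a') ≤ pL ⁻¹ᵁ (a.1.1 ⊓ a'.1.1) :=
  fun _ hz => ⟨VF_le pL chartL _ hz.1, VF_le pL chartL _ hz.2⟩

include hPL in
/-- the transition functions of the frames `j(b)/1` of `O(1)` are the pullbacks of those of the generators `b`. -/
theorem res_e1_eq (a a' : AFr L) (c : Γ(X, a.1.1 ⊓ a'.1.1))
    (hc : res L inf_le_left a.1.2 = c • res L inf_le_right a'.1.2) :
    res O1 inf_le_left (e1 pL chartL O1 lam hO1 (κ L 𝒮L j hj a)) =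
      pL.appLE (a.1.1 ⊓ a'.1.1) (VF pL chartL (κ L 𝒮L j hj a) ⊓ VF pL chartL (κ L 𝒮L j hj a'))
        (VF_inf_le L 𝒮L j hj pL chartL a a') c •
        res O1 inf_le_right (e1 pL chartL O1 lam hO1 (κ L 𝒮L j hj a')) := by
  set O := VF pL chartL (κ L 𝒮L j hj a) ⊓ VF pL chartL (κ L 𝒮L j hj a') with hO
  have key : ∀ x : O, ∃ (O'' : PL.Opens) (hO'' : O'' ≤ O), x.1 ∈ O'' ∧
      res O1 hO'' (res O1 inf_le_left (e1 pL chartL O1 lam hO1 (κ L 𝒮L j hj a))) =
      res O1 hO'' (pL.appLE (a.1.1 ⊓ a'.1.1) O (VF_inf_le L 𝒮L j hj pL chartL a a') c •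
        res O1 inf_le_right (e1 pL chartL O1 lam hO1 (κ L 𝒮L j hj a'))) := by
    intro x
    have hxW := VF_inf_le L 𝒮L j hj pL chartL a a' x.2
    obtain ⟨r, r', hrr', hx⟩ := exists_basicOpen_le_affine_inter a.2.1 a'.2.1 (pL x.1) hxW
    have hle₂ : X.basicOpen r ≤ a'.1.1 := hrr' ▸ X.basicOpen_le r'
    have hleW : X.basicOpen r ≤ a.1.1 ⊓ a'.1.1 := le_inf (X.basicOpen_le r) hle₂
    refine ⟨O ⊓ pL ⁻¹ᵁ (X.basicOpen r), inf_le_left, ⟨x.2, hx⟩, ?_⟩
    rw [res_res, res_smul, res_res]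
    -- the restricted function is a pullback from the basic open
    have hcc : resf (inf_le_left : O ⊓ pL ⁻¹ᵁ (X.basicOpen r) ≤ O)
        (pL.appLE (a.1.1 ⊓ a'.1.1) O (VF_inf_le L 𝒮L j hj pL chartL a a') c) =
        pL.appLE (X.basicOpen r) (O ⊓ pL ⁻¹ᵁ (X.basicOpen r)) inf_le_right (resf hleW c) := by
      have h1 := congrArg (fun f => f.hom c)
        (Scheme.Hom.appLE_map pL (VF_inf_le L 𝒮L j hj pL chartL a a')
          (homOfLE (inf_le_left : O ⊓ pL ⁻¹ᵁ (X.basicOpen r) ≤ O)).op)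
      have h2 := congrArg (fun f => f.hom c)
        (Scheme.Hom.map_appLE pL (inf_le_right : O ⊓ pL ⁻¹ᵁ (X.basicOpen r) ≤ pL ⁻¹ᵁ (X.basicOpen r))
          (homOfLE hleW).op)
      exact h1.trans h2.symm
    rw [hcc]
    refine (res_eF_eq_smul_iff pL chartL 1 O1 lam hO1 1 0 (by norm_num) hPL (κ L 𝒮L j hj a)
      (κ L 𝒮L j hj a') r r' (X.basicOpen r) (a.2.1.basicOpen r) rfl hrr' (X.basicOpen_le r) hle₂
      (O ⊓ pL ⁻¹ᵁ (X.basicOpen r)) (inf_le_left.trans inf_le_left) (inf_le_left.trans inf_le_right)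
      inf_le_right _).mpr ?_
    intro y'' hy''
    rw [funVal_emb_app_appLE pL chartL hPL (X.basicOpen r) (a.2.1.basicOpen r) _ inf_le_right
      (resf hleW c) y'' hy'']
    -- the algebraic identity `j(b)|_{D(r)} = str(c) * j(b')|_{D(r)}`
    have hb : res L (X.basicOpen_le r) a.1.2 = resf hleW c • res L hle₂ a'.1.2 := by
      have := congrArg (res L hleW) hc
      rwa [res_res, res_smul, res_res] at this
    have hjb : 𝒮L.res a.2.1 (a.2.1.basicOpen r) (X.basicOpen_le r) (κ L 𝒮L j hj a).2.1 =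
        (𝒮L.str.app (op (X.basicOpen r))).hom (resf hleW c) *
          𝒮L.res a'.2.1 (a.2.1.basicOpen r) hle₂ (κ L 𝒮L j hj a').2.1 := by
      have h1 := φAdd_res L 𝒮L.toQCAlg j (X.basicOpen_le r) a.1.2
      have h2 := φAdd_res L 𝒮L.toQCAlg j hle₂ a'.1.2
      change (𝒮L.presheaf.map (homOfLE (X.basicOpen_le r)).op).hom (φAdd L 𝒮L.toQCAlg j a.1.1 a.1.2) =
        _ * (𝒮L.presheaf.map (homOfLE hle₂).op).hom (φAdd L 𝒮L.toQCAlg j a'.1.1 a'.1.2)
      rw [← h1, ← h2, ← φAdd_smul]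
      exact congrArg (φAdd L 𝒮L.toQCAlg j (X.basicOpen r)) hb
    have hOi : O ⊓ pL ⁻¹ᵁ (X.basicOpen r) ≤ VF pL chartL (κ L 𝒮L j hj a) :=
      inf_le_left.trans inf_le_left
    have hOj : O ⊓ pL ⁻¹ᵁ (X.basicOpen r) ≤ VF pL chartL (κ L 𝒮L j hj a') :=
      inf_le_left.trans inf_le_right
    have hnm1 := res_not_mem pL chartL hPL (κ L 𝒮L j hj a) r (X.basicOpen r)
      (a.2.1.basicOpen r) rfl (X.basicOpen_le r) y'' (hOi hy'')
    have hnm2 := res_not_mem pL chartL hPL (κ L 𝒮L j hj a') r' (X.basicOpen r)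
      (a.2.1.basicOpen r) hrr' hle₂ y'' (hOj hy'')
    have hnm3 : (𝒮L.str.app (op (X.basicOpen r))).hom (resf hleW c) *
          𝒮L.res a'.2.1 (a.2.1.basicOpen r) hle₂ (κ L 𝒮L j hj a').2.1 ∉ y''.asHomogeneousIdeal := by
      rw [← hjb]; exact hnm1
    exact (zv_congr y'' hjb hnm1 hnm3 1 0).trans (zv_mul_one_zero y'' _ _ hnm3 hnm2)
  choose O'' hO'' hxO'' hres using key
  refine (modSheaf O1).eq_of_locally_eq' (fun x : O => O'' x) _ (fun x => homOfLE (hO'' x)) ?_ _ _ hres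
  intro x hx'
  exact Opens.mem_iSup.mpr ⟨⟨x, hx'⟩, hxO'' _⟩

theorem id_appLE' {Z : Scheme.{u}} (T : Z.Opens) (e : T ≤ (𝟙 Z) ⁻¹ᵁ T) (a : Γ(Z, T)) :
    (𝟙 Z : Z ⟶ Z).appLE T T e a = a := by
  change (𝟙 Γ(Z, T) ≫ Z.presheaf.map (homOfLE e).op) a = a
  have : (homOfLE e).op = 𝟙 (op T) := rfl
  rw [this, Z.presheaf.map_id, Category.comp_id]
  rfl

include hj hPL hO1 in
/-- **`O_{P(L)}(1)` pulls back to `L` along a section of `P(L) ⟶ X`.** -/
theorem nonempty_pullback_section_iso (hL : PicF.IsInvertible L) (i : X ⟶ PL) (hi : i ≫ pL = 𝟙 X) :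
    Nonempty ((Scheme.Modules.pullback i).obj O1 ≅ L) := by
  have hpi : ∀ x : X, pL (i x) = x := fun x => by
    rw [← Scheme.Hom.comp_apply, hi]; rfl
  have hW : ∀ a : AFr L, a.1.1 ≤ i ⁻¹ᵁ (VF pL chartL (κ L 𝒮L j hj a)) := by
    intro a x hx
    rw [VF_κ]
    change pL (i x) ∈ a.1.1
    rw [hpi]; exact hx
  refine nonempty_pullback_iso_of_frames pL chartL O1 lam hO1 i L (κ L 𝒮L j hj)
    (fun a => a.1.1) hW (fun x => ?_) (fun a => a.1.2) (fun a => a.2.2) ?_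
  · obtain ⟨W, e, hxW, hWa, he⟩ := exists_affine_gen L hL x
    exact ⟨⟨⟨W, e⟩, hWa, he⟩, hxW⟩
  · intro a a' γ hγ
    obtain ⟨c, hc⟩ := exists_transition' a.1.2 a'.2.2
    have h1 := res_e1_eq L 𝒮L j hj pL chartL hPL O1 lam hO1 a a' c hc
    have hg := (isGen_eF pL chartL 1 O1 lam hO1 1 0 (by norm_num) (κ L 𝒮L j hj a'))
      (VF pL chartL (κ L 𝒮L j hj a) ⊓ VF pL chartL (κ L 𝒮L j hj a')) inf_le_right
    have hγc : γ = pL.appLE (a.1.1 ⊓ a'.1.1)
        (VF pL chartL (κ L 𝒮L j hj a) ⊓ VF pL chartL (κ L 𝒮L j hj a'))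
        (VF_inf_le L 𝒮L j hj pL chartL a a') c := by
      apply hg.1
      change γ • _ = _ • _
      rw [← hγ, ← h1]
    rw [hc, hγc]
    congr 1
    have h2 := congrArg (fun f => f.hom c)
      (Scheme.Hom.appLE_comp_appLE i pL (a.1.1 ⊓ a'.1.1)
        (VF pL chartL (κ L 𝒮L j hj a) ⊓ VF pL chartL (κ L 𝒮L j hj a')) (a.1.1 ⊓ a'.1.1)
        (VF_inf_le L 𝒮L j hj pL chartL a a') (fun _ hz => ⟨hW a hz.1, hW a' hz.2⟩))
    refine Eq.trans ?_ h2.symm
    change c = ((i ≫ pL).appLE _ _ _) c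
    rw [Groth.Agent.Lib.Helper2.RelTwistPullback.appLE_of_eq hi, id_appLE']

end main

end Groth.Agent.Lib.Seat57.K1
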