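import Mathlib

/-!
# Seat57: the grading of the symmetric algebra by symmetric powers (pure Mathlib)

* `symDeg R M n = (range ι)^n`, `gradedAlgebra : GradedAlgebra (symDeg R M)`.
* `ι_mem_symDeg_one`, `map_mem_symDeg` (semilinear ring maps preserving `ι` preserve degrees).
* `comapGrading e ℬ`: transport of a grading by additive subgroups along a ring isomorphism.
-/

set_option autoImplicit false
universe u v

namespace Groth.Agent.Lib.Seat57.SymGrading

open scoped DirectSum

section Grading

variable (R : Type u) (M : Type v) [CommRing R] [AddCommGroup M] [Module R M]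

/-- the `n`-th symmetric power inside the symmetric algebra -/
def symDeg (n : ℕ) : Submodule R (SymmetricAlgebra R M) :=
  LinearMap.range (SymmetricAlgebra.ι R M) ^ n

theorem ι_mem_symDeg_one (m : M) : SymmetricAlgebra.ι R M m ∈ symDeg R M 1 := by
  unfold symDeg
  rw [pow_one]
  exact LinearMap.mem_range_self _ m

theorem algebraMap_mem_symDeg_zero (r : R) :
    algebraMap R (SymmetricAlgebra R M) r ∈ symDeg R M 0 := by
  unfold symDeg
  rw [pow_zero]
  exact Submodule.algebraMap_mem r

instance gradedMonoid : SetLike.GradedMonoid (symDeg R M) := by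
  unfold symDeg
  infer_instance

/-- auxiliary map into the direct sum -/
def gι : M →ₗ[R] ⨁ i : ℕ, ↥(symDeg R M i) :=
  DirectSum.lof R ℕ (fun i => ↥(symDeg R M i)) 1 ∘ₗ
    (SymmetricAlgebra.ι R M).codRestrict _ (ι_mem_symDeg_one R M)

theorem gι_apply (m : M) :
    gι R M m = DirectSum.of (fun i : ℕ => ↥(symDeg R M i)) 1
      ⟨SymmetricAlgebra.ι R M m, ι_mem_symDeg_one R M m⟩ := rfl

/-- The symmetric algebra is graded by the powers of the range of `ι`. -/
instance gradedAlgebra : GradedAlgebra (symDeg R M) :=
  GradedAlgebra.ofAlgHom _ (SymmetricAlgebra.lift (gι R M))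
    (by
      apply SymmetricAlgebra.algHom_ext
      ext m
      change DirectSum.coeAlgHom (symDeg R M) (SymmetricAlgebra.lift (gι R M)
        (SymmetricAlgebra.ι R M m)) = SymmetricAlgebra.ι R M m
      rw [SymmetricAlgebra.lift_ι_apply, gι_apply, DirectSum.coeAlgHom_of])
    (fun i x => by
      obtain ⟨x, hx⟩ := x
      dsimp only [Subtype.coe_mk, DirectSum.lof_eq_of]
      unfold symDeg at hx
      induction hx using Submodule.pow_induction_on_left' with
      | algebraMap r =>
        rw [AlgHom.commutes, DirectSum.algebraMap_apply]; rfl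
      | add x y i hx hy ihx ihy =>
        rw [map_add, ihx, ihy, ← map_add]
        rfl
      | mem_mul m hm i x hx ih =>
        obtain ⟨m, rfl⟩ := hm
        rw [map_mul, ih, SymmetricAlgebra.lift_ι_apply, gι_apply, DirectSum.of_mul_of]
        exact DirectSum.of_eq_of_gradedMonoid_eq (Sigma.subtype_ext (add_comm _ _) rfl))

end Grading

end Groth.Agent.Lib.Seat57.SymGrading

namespace Groth.Agent.Lib.Seat57.SymGrading

open scoped DirectSum

section MapMem

variable {R : Type u} {M : Type v} [CommRing R] [AddCommGroup M] [Module R M]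
variable {R' : Type u} {M' : Type v} [CommRing R'] [AddCommGroup M'] [Module R' M']

/-- a ring homomorphism of symmetric algebras that maps scalars to scalars and generators to
generators preserves the grading by symmetric powers -/
theorem map_mem_symDeg (f : SymmetricAlgebra R M →+* SymmetricAlgebra R' M')
    (h0 : ∀ r : R, ∃ r' : R', f (algebraMap R _ r) = algebraMap R' _ r')
    (h1 : ∀ m : M, ∃ m' : M', f (SymmetricAlgebra.ι R M m) = SymmetricAlgebra.ι R' M' m')
    {n : ℕ} {x : SymmetricAlgebra R M} (hx : x ∈ symDeg R M n) : f x ∈ symDeg R' M' n := by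
  unfold symDeg at hx
  induction hx using Submodule.pow_induction_on_left' with
  | algebraMap r =>
    obtain ⟨r', hr'⟩ := h0 r
    rw [hr']
    exact algebraMap_mem_symDeg_zero R' M' r'
  | add x y i hx hy ihx ihy =>
    rw [map_add]
    exact add_mem ihx ihy
  | mem_mul m hm i x hx ih =>
    obtain ⟨m, rfl⟩ := hm
    obtain ⟨m', hm'⟩ := h1 m
    rw [map_mul, hm']
    have := SetLike.mul_mem_graded (A := symDeg R' M') (ι_mem_symDeg_one R' M' m') ih
    rwa [add_comm] at this

/-- a ring homomorphism out of the symmetric algebra into a graded ring that maps scalars to degree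
zero and generators to degree one is graded -/
theorem map_symDeg_mem {B : Type*} [CommRing B] {σ : Type*} [SetLike σ B] [AddSubgroupClass σ B]
    (ℬ : ℕ → σ) [GradedRing ℬ] (f : SymmetricAlgebra R M →+* B)
    (h0 : ∀ r : R, f (algebraMap R _ r) ∈ ℬ 0)
    (h1 : ∀ m : M, f (SymmetricAlgebra.ι R M m) ∈ ℬ 1)
    {n : ℕ} {x : SymmetricAlgebra R M} (hx : x ∈ symDeg R M n) : f x ∈ ℬ n := by
  unfold symDeg at hx
  induction hx using Submodule.pow_induction_on_left' with
  | algebraMap r => exact h0 r
  | add x y i hx hy ihx ihy =>
    rw [map_add]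
    exact add_mem ihx ihy
  | mem_mul m hm i x hx ih =>
    obtain ⟨m, rfl⟩ := hm
    rw [map_mul]
    have := SetLike.mul_mem_graded (A := ℬ) (h1 m) ih
    rwa [add_comm] at this

/-- the symmetric algebra is generated by its parts of degree zero and one -/
theorem closure_symDeg_zero_one :
    Subring.closure (((symDeg R M 0 : Submodule R (SymmetricAlgebra R M)) : Set (SymmetricAlgebra R M)) ∪
      ((symDeg R M 1 : Submodule R (SymmetricAlgebra R M)) : Set (SymmetricAlgebra R M))) = ⊤ := by
  rw [eq_top_iff]
  intro x hx
  clear hx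
  induction x using SymmetricAlgebra.induction with
  | algebraMap r =>
    exact Subring.subset_closure (Or.inl (algebraMap_mem_symDeg_zero R M r))
  | ι m => exact Subring.subset_closure (Or.inr (ι_mem_symDeg_one R M m))
  | mul a b ha hb => exact Subring.mul_mem _ ha hb
  | add a b ha hb => exact Subring.add_mem _ ha hb

end MapMem

section Transport

variable {A B : Type u} [CommRing A] [CommRing B] (e : A ≃+* B)
  {σ : Type*} [SetLike σ B] [AddSubgroupClass σ B] (ℬ : ℕ → σ)

/-- transport of a family of additive subgroups along a ring isomorphism -/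
def comapDeg (n : ℕ) : AddSubgroup A where
  carrier := {a | e a ∈ ℬ n}
  zero_mem' := by
    change e 0 ∈ ℬ n
    rw [map_zero]
    exact zero_mem _
  add_mem' := by
    intro a b ha hb
    change e (a + b) ∈ ℬ n
    rw [map_add]
    exact add_mem ha hb
  neg_mem' := by
    intro a ha
    change e (-a) ∈ ℬ n
    rw [map_neg]
    exact neg_mem ha

theorem mem_comapDeg {n : ℕ} {a : A} : a ∈ comapDeg e ℬ n ↔ e a ∈ ℬ n := Iff.rfl

variable [GradedRing ℬ]

instance comapGradedMonoid : SetLike.GradedMonoid (comapDeg e ℬ) where
  one_mem := by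
    rw [mem_comapDeg, map_one]
    exact SetLike.GradedOne.one_mem
  mul_mem := by
    intro i j a b ha hb
    rw [mem_comapDeg, map_mul]
    exact SetLike.mul_mem_graded ha hb

/-- restriction of `e.symm` to the pieces -/
def pieceFrom (i : ℕ) : ℬ i →+ comapDeg e ℬ i where
  toFun b := ⟨e.symm b.1, by rw [mem_comapDeg, RingEquiv.apply_symm_apply]; exact b.2⟩
  map_zero' := Subtype.ext (map_zero e.symm)
  map_add' a b := Subtype.ext (map_add e.symm a.1 b.1)

theorem coe_map_pieceFrom (y : ⨁ i, ℬ i) :
    DirectSum.coeAddMonoidHom (comapDeg e ℬ) (DirectSum.map (pieceFrom e ℬ) y) =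
      e.symm (DirectSum.coeAddMonoidHom ℬ y) := by
  induction y using DirectSum.induction_on with
  | zero => simp
  | of i x =>
    rw [DirectSum.map_of, DirectSum.coeAddMonoidHom_of, DirectSum.coeAddMonoidHom_of]
    rfl
  | add x y hx hy => rw [map_add, map_add, hx, hy, map_add, map_add]

/-- the decomposition map of the transported grading -/
def comapDecompose : A →+ ⨁ i, comapDeg e ℬ i :=
  (DirectSum.map (pieceFrom e ℬ)).comp
    ((DirectSum.decomposeAddEquiv ℬ).toAddMonoidHom.comp (e : A →+* B).toAddMonoidHom)

theorem comapDecompose_apply (a : A) :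
    comapDecompose e ℬ a = DirectSum.map (pieceFrom e ℬ) (DirectSum.decompose ℬ (e a)) := rfl

/-- the transported grading -/
instance comapGradedRing : GradedRing (comapDeg e ℬ) where
  toGradedMonoid := comapGradedMonoid e ℬ
  toDecomposition := DirectSum.Decomposition.ofAddHom _ (comapDecompose e ℬ)
    (by
      ext a
      change DirectSum.coeAddMonoidHom (comapDeg e ℬ) (comapDecompose e ℬ a) = a
      rw [comapDecompose_apply, coe_map_pieceFrom]
      have : DirectSum.coeAddMonoidHom ℬ (DirectSum.decompose ℬ (e a)) = e a :=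
        (DirectSum.decompose ℬ).left_inv (e a)
      rw [this, RingEquiv.symm_apply_apply])
    (by
      refine DirectSum.addHom_ext fun i x => ?_
      change comapDecompose e ℬ (DirectSum.coeAddMonoidHom (comapDeg e ℬ)
        (DirectSum.of (fun i => comapDeg e ℬ i) i x)) = DirectSum.of (fun i => comapDeg e ℬ i) i x
      rw [DirectSum.coeAddMonoidHom_of, comapDecompose_apply]
      have hx : e x.1 ∈ ℬ i := x.2
      rw [DirectSum.decompose_of_mem ℬ hx, DirectSum.map_of]
      congr 1
      exact Subtype.ext (e.symm_apply_apply x.1))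

/-- the decomposition of the transported grading, componentwise -/
theorem coe_decompose_comapDeg (a : A) (i : ℕ) :
    ((DirectSum.decompose (comapDeg e ℬ) a i : comapDeg e ℬ i) : A) =
      e.symm (DirectSum.decompose ℬ (e a) i : B) := by
  change ((comapDecompose e ℬ a) i : A) = _
  rw [comapDecompose_apply, DirectSum.map_apply]
  rfl

end Transport

end Groth.Agent.Lib.Seat57.SymGrading
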