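import Mathlib
import Groth.Prelude.Def_RelProj3
import Groth.Prelude.Def_RelProj4
import Groth.Agent.Lib.Helper13SymPullback
import Groth.Agent.Lib.Seat57K1
import Groth.Agent.Lib.Seat57SymGrading

/-!
# Seat57: the graded symmetric algebra commutes with base change

For `g : S' ⟶ S`, `E` quasi-coherent on `S`, `(𝒮, j)` a graded symmetric algebra of `E` and `(𝒮', j')` a graded
symmetric algebra of `g^* E`, we construct the canonical graded `g`-morphism `symBC : 𝒮 → g_* 𝒮'`
(`RelProj.QGrHom g 𝒮 𝒮'`) and show that it is a base change (`RelSpec.IsQBaseChange`).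
-/

set_option autoImplicit false
universe u
open CategoryTheory Limits AlgebraicGeometry TopologicalSpace Opposite
open scoped HomogeneousIdeal

namespace Groth.Agent.Lib.Seat57.SymBC

open Groth.Agent.Helper13SymAlg Groth.Agent.Helper13SymLoc Groth.Agent.Helper13PullbackUnit
  Scheme.AffineZariskiSite

section sheaf

variable {S : Scheme.{u}}

/-- extension of a family on affine opens to a map into a sheaf -/
noncomputable def extendSheaf {F : TopCat.Presheaf CommRingCat.{u} S.carrier}
    (G : TopCat.Sheaf CommRingCat.{u} S.carrier)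
    (d : ∀ (U : S.Opens) (_ : IsAffineOpen U), F.obj (op U) ⟶ G.obj.obj (op U))
    (hd : ∀ {U V : S.AffineZariskiSite} (i : V ⟶ U),
      F.map (homOfLE (toOpens_mono i.le)).op ≫ d V.1 V.2 =
        d U.1 U.2 ≫ G.obj.map (homOfLE (toOpens_mono i.le)).op) : F ⟶ G.obj :=
  Functor.IsCoverDense.restrictHomEquivHom (G := toOpensFunctor S)
    (K := Opens.grothendieckTopology S) (ℱ := F) (ℱ' := G)
    { app := fun U => d U.unop.1 U.unop.2
      naturality := fun _ _ i => hd i.unop }

theorem extendSheaf_app {F : TopCat.Presheaf CommRingCat.{u} S.carrier}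
    (G : TopCat.Sheaf CommRingCat.{u} S.carrier)
    (d : ∀ (U : S.Opens) (_ : IsAffineOpen U), F.obj (op U) ⟶ G.obj.obj (op U))
    (hd : ∀ {U V : S.AffineZariskiSite} (i : V ⟶ U),
      F.map (homOfLE (toOpens_mono i.le)).op ≫ d V.1 V.2 =
        d U.1 U.2 ≫ G.obj.map (homOfLE (toOpens_mono i.le)).op)
    (U : S.Opens) (hU : IsAffineOpen U) : (extendSheaf G d hd).app (op U) = d U hU := by
  have h := (Functor.IsCoverDense.restrictHomEquivHom (G := toOpensFunctor S)
    (K := Opens.grothendieckTopology S) (ℱ := F) (ℱ' := G)).symm_apply_apply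
      ({ app := fun U => d U.unop.1 U.unop.2
         naturality := fun _ _ i => hd i.unop } :
        (toOpensFunctor S).op ⋙ F ⟶ (toOpensFunctor S).op ⋙ G.obj)
  exact NatTrans.congr_app h (op ⟨U, hU⟩)

/-- presheaf maps into a sheaf agree if they agree on affine opens -/
theorem sheaf_hom_ext_affine {F : TopCat.Presheaf CommRingCat.{u} S.carrier}
    (G : TopCat.Sheaf CommRingCat.{u} S.carrier) {α β : F ⟶ G.obj}
    (h : ∀ (U : S.Opens) (_ : IsAffineOpen U), α.app (op U) = β.app (op U)) : α = β := by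
  apply (Functor.IsCoverDense.restrictHomEquivHom (G := toOpensFunctor S)
    (K := Opens.grothendieckTopology S) (ℱ := F) (ℱ' := G)).symm.injective
  ext U : 2
  exact h U.unop.1 U.unop.2

end sheaf

section BC

variable {S S' : Scheme.{u}} (g : S' ⟶ S) (E : S.Modules) [E.IsQuasicoherent]
  {A : RelSpec.QCAlg S} {j : E ⟶ A.toModule} (hA : RelSpec.IsSymAlg E A j)
  (B : RelSpec.QCAlg S') (j' : (Scheme.Modules.pullback g).obj E ⟶ B.toModule)

/-- the map on functions `Γ(S, U) → B(g⁻¹ U)` -/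
noncomputable def ρ (U : S.Opens) : Γ(S, U) →+* B.presheaf.obj (op (g ⁻¹ᵁ U)) :=
  (B.str.app (op (g ⁻¹ᵁ U))).hom.comp (g.app U).hom

/-- the map on sections `Γ(E, U) → B(g⁻¹ U)` -/
noncomputable def θ (U : S.Opens) : Γ(E, U) →+ B.presheaf.obj (op (g ⁻¹ᵁ U)) :=
  (φAdd ((Scheme.Modules.pullback g).obj E) B j' (g ⁻¹ᵁ U)).comp (unitSec g E (le_refl (g ⁻¹ᵁ U)))

theorem θ_smul (U : S.Opens) (a : Γ(S, U)) (m : Γ(E, U)) :
    θ g E B j' U (a • m) = ρ g B U a * θ g E B j' U m := by
  unfold θ ρ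
  rw [AddMonoidHom.comp_apply, unitSec_smul, φAdd_smul]
  have h1 : g.appLE U (g ⁻¹ᵁ U) (le_refl _) = g.app U := (Scheme.Hom.app_eq_appLE g).symm
  rw [h1]
  rfl

/-- the base change map over an affine open -/
noncomputable def dAff (U : S.Opens) (hU : IsAffineOpen U) :
    A.presheaf.obj (op U) ⟶ B.presheaf.obj (op (g ⁻¹ᵁ U)) :=
  (σIso E hA U hU).inv ≫ CommRingCat.ofHom (symLift (ρ g B U) (θ g E B j' U) (θ_smul g E B j' U))

theorem dAff_σ (U : S.Opens) (hU : IsAffineOpen U) (z : SymmetricAlgebra Γ(S, U) Γ(E, U)) :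
    (dAff g E hA B j' U hU).hom (σ E A j U z) =
      symLift (ρ g B U) (θ g E B j' U) (θ_smul g E B j' U) z := by
  unfold dAff
  rw [CommRingCat.hom_comp, RingHom.comp_apply]
  have h1 : (σIso E hA U hU).inv.hom (σ E A j U z) = z := by
    have := congr($((σIso E hA U hU).hom_inv_id) z)
    exact this
  rw [h1]
  rfl

theorem dAff_str (U : S.Opens) (hU : IsAffineOpen U) (a : Γ(S, U)) :
    (dAff g E hA B j' U hU).hom ((A.str.app (op U)).hom a) = ρ g B U a := by
  have h1 : σ E A j U (algebraMap _ _ a) = (A.str.app (op U)).hom a := by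
    unfold σ; rw [symLift_algebraMap]
  rw [← h1, dAff_σ, symLift_algebraMap]

theorem dAff_j (U : S.Opens) (hU : IsAffineOpen U) (m : Γ(E, U)) :
    (dAff g E hA B j' U hU).hom (φAdd E A j U m) = θ g E B j' U m := by
  have h1 : σ E A j U (SymmetricAlgebra.ι _ _ m) = φAdd E A j U m := by
    unfold σ; rw [symLift_ι]
  rw [← h1, dAff_σ, symLift_ι]

include hA in
/-- ring homomorphisms out of `A(U)`, `U` affine, are determined on functions and on `j`. -/
theorem ringHom_ext_sym (U : S.Opens) (hU : IsAffineOpen U) {T : Type u} [CommRing T]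
    (ψ ψ' : A.presheaf.obj (op U) →+* T)
    (h1 : ∀ a : Γ(S, U), ψ ((A.str.app (op U)).hom a) = ψ' ((A.str.app (op U)).hom a))
    (h2 : ∀ m : Γ(E, U), ψ (φAdd E A j U m) = ψ' (φAdd E A j U m)) : ψ = ψ' := by
  have hσ := bijective_σ E U hU hA
  have h3 : ψ.comp (σ E A j U) = ψ'.comp (σ E A j U) := by
    refine Groth.Agent.Helper13SymLoc.ringHom_ext (fun a => ?_) (fun m => ?_)
    · unfold σ
      rw [RingHom.comp_apply, RingHom.comp_apply, symLift_algebraMap]
      exact h1 a
    · unfold σ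
      rw [RingHom.comp_apply, RingHom.comp_apply, symLift_ι]
      exact h2 m
  refine RingHom.ext fun x => ?_
  obtain ⟨z, rfl⟩ := hσ.2 x
  exact RingHom.congr_fun h3 z

theorem θ_res {U V : S.Opens} (h : V ≤ U) (m : Γ(E, U)) :
    θ g E B j' V (resE E h m) =
      (B.presheaf.map (homOfLE (g.preimage_mono h)).op).hom (θ g E B j' U m) := by
  unfold θ
  rw [AddMonoidHom.comp_apply, AddMonoidHom.comp_apply]
  have h1 := φAdd_res ((Scheme.Modules.pullback g).obj E) B j' (g.preimage_mono h)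
    (unitSec g E (le_refl (g ⁻¹ᵁ U)) m)
  rw [← h1]
  congr 1
  have h2 := Groth.Agent.Lib.Helper23.PB.res_unitSec g E (le_refl (g ⁻¹ᵁ U)) (le_refl (g ⁻¹ᵁ V)) h
    (g.preimage_mono h) m
  exact h2.symm

theorem ρ_res {U V : S.Opens} (h : V ≤ U) (a : Γ(S, U)) :
    ρ g B V ((S.presheaf.map (homOfLE h).op).hom a) =
      (B.presheaf.map (homOfLE (g.preimage_mono h)).op).hom (ρ g B U a) := by
  unfold ρ
  rw [RingHom.comp_apply, RingHom.comp_apply]
  have h1 : (g.app V).hom ((S.presheaf.map (homOfLE h).op).hom a) =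
      (S'.presheaf.map (homOfLE (g.preimage_mono h)).op).hom ((g.app U).hom a) :=
    congrArg (fun t => t.hom a) (g.naturality (homOfLE h).op)
  rw [h1]
  exact congrArg (fun t => t.hom ((g.app U).hom a))
    (B.str.naturality (homOfLE (g.preimage_mono h)).op)

theorem dAff_nat {U V : S.AffineZariskiSite} (i : V ⟶ U) :
    A.presheaf.map (homOfLE (toOpens_mono i.le)).op ≫ dAff g E hA B j' V.1 V.2 =
      dAff g E hA B j' U.1 U.2 ≫
        B.presheaf.map (homOfLE (g.preimage_mono (toOpens_mono i.le))).op := by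
  ext1
  refine ringHom_ext_sym E hA U.1 U.2 _ _ (fun a => ?_) (fun m => ?_)
  · rw [CommRingCat.hom_comp, CommRingCat.hom_comp, RingHom.comp_apply, RingHom.comp_apply, dAff_str]
    have h1 := congrArg (fun t => t.hom a) (A.str.naturality (homOfLE (toOpens_mono i.le)).op)
    change (A.str.app (op V.1)).hom ((S.presheaf.map (homOfLE (toOpens_mono i.le)).op).hom a) =
      (A.presheaf.map (homOfLE (toOpens_mono i.le)).op).hom ((A.str.app (op U.1)).hom a) at h1
    rw [← h1, dAff_str, ρ_res]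
  · rw [CommRingCat.hom_comp, CommRingCat.hom_comp, RingHom.comp_apply, RingHom.comp_apply, dAff_j,
      ← φAdd_res E A j (toOpens_mono i.le) m, dAff_j, θ_res]

/-- the direct image of `B`, as a sheaf of rings on `S` -/
noncomputable def pushSheaf : TopCat.Sheaf CommRingCat.{u} S.carrier :=
  ⟨g.base _* B.presheaf, TopCat.Sheaf.pushforward_sheaf_of_sheaf g.base B.isSheaf⟩

/-- the base change map as a map of presheaves `A ⟶ g_* B` -/
noncomputable def uHom : A.presheaf ⟶ g.base _* B.presheaf :=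
  extendSheaf (pushSheaf g B) (fun U hU => dAff g E hA B j' U hU) (fun i => dAff_nat g E hA B j' i)

theorem uHom_app (U : S.Opens) (hU : IsAffineOpen U) :
    (uHom g E hA B j').app (op U) = dAff g E hA B j' U hU :=
  extendSheaf_app (pushSheaf g B) _ _ U hU

theorem uHom_str :
    A.str ≫ uHom g E hA B j' = g.c ≫ (TopCat.Presheaf.pushforward CommRingCat.{u} g.base).map B.str := by
  refine sheaf_hom_ext_affine (pushSheaf g B) (fun U hU => ?_)
  rw [NatTrans.comp_app, NatTrans.comp_app, uHom_app g E hA B j' U hU]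
  ext1
  refine RingHom.ext fun a => ?_
  rw [CommRingCat.hom_comp, RingHom.comp_apply, dAff_str]
  rfl

/-- **the canonical `g`-morphism `Sym(E) → g_* Sym(g^* E)`** -/
noncomputable def symBC : RelSpec.QHom g A B where
  app U := (uHom g E hA B j').app (op U)
  naturality i := ((uHom g E hA B j').naturality (homOfLE i).op).symm
  str_app U := NatTrans.congr_app (uHom_str g E hA B j') (op U)

theorem symBC_app (U : S.Opens) (hU : IsAffineOpen U) :
    (symBC g E hA B j').app U = dAff g E hA B j' U hU := uHom_app g E hA B j' U hU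

theorem symBC_j (U : S.Opens) (hU : IsAffineOpen U) (x : Γ(E, U)) :
    ((symBC g E hA B j').app U).hom ((j.app U) x) =
      (j'.app (g ⁻¹ᵁ U)) (((Scheme.Modules.pullbackPushforwardAdjunction g).unit.app E).app U x) := by
  rw [symBC_app g E hA B j' U hU]
  refine (dAff_j g E hA B j' U hU x).trans ?_
  unfold θ
  rw [AddMonoidHom.comp_apply, unitSec_apply]
  have : ((Scheme.Modules.pullback g).obj E).presheaf.map (homOfLE (le_refl (g ⁻¹ᵁ U))).op = 𝟙 _ :=
    ((Scheme.Modules.pullback g).obj E).presheaf.map_id _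
  rw [this]
  rfl

end BC

section alg

open Groth.Agent.Lib.Seat57.SymGrading

variable {R M B : Type u} [CommRing R] [AddCommGroup M] [Module R M] [CommRing B]
  (ℬ : ℕ → AddSubgroup B) [GradedRing ℬ]

/-- a surjective ring homomorphism out of the symmetric algebra into a graded ring, mapping scalars to degree zero
and generators to degree one, maps the symmetric powers ONTO the graded pieces. -/
theorem exists_symDeg_of_mem (f : SymmetricAlgebra R M →+* B) (hf : Function.Surjective f)
    (h0 : ∀ r : R, f (algebraMap R _ r) ∈ ℬ 0)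
    (h1 : ∀ m : M, f (SymmetricAlgebra.ι R M m) ∈ ℬ 1) {d : ℕ} {x : B} (hx : x ∈ ℬ d) :
    ∃ z ∈ symDeg R M d, f z = x := by
  obtain ⟨z, rfl⟩ := hf x
  let ψ : symDeg R M →+*ᵍ ℬ :=
    { f with map_mem := fun hz => map_symDeg_mem ℬ f h0 h1 hz }
  refine ⟨(DirectSum.decompose (symDeg R M) z d : SymmetricAlgebra R M), SetLike.coe_mem _, ?_⟩
  have h2 := ψ.map_directSumDecompose (x := z) (i := d)
  have h3 : (DirectSum.decompose ℬ (f z) d : B) = f z := DirectSum.decompose_of_mem_same ℬ hx
  exact h2.trans h3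

omit [GradedRing ℬ] in
/-- a surjective ring homomorphism out of the symmetric algebra into a graded ring, mapping scalars to degree zero
and generators to degree one: the target is generated in degrees zero and one. -/
theorem closure_eq_top_of_surjective (f : SymmetricAlgebra R M →+* B) (hf : Function.Surjective f)
    (h0 : ∀ r : R, f (algebraMap R _ r) ∈ ℬ 0)
    (h1 : ∀ m : M, f (SymmetricAlgebra.ι R M m) ∈ ℬ 1) :
    Subring.closure (((ℬ 0 : AddSubgroup B) : Set B) ∪ ((ℬ 1 : AddSubgroup B) : Set B)) = ⊤ := by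
  have key : ∀ z, f z ∈ Subring.closure (((ℬ 0 : AddSubgroup B) : Set B) ∪ ((ℬ 1 : AddSubgroup B) : Set B)) := by
    intro z
    induction z using SymmetricAlgebra.induction with
    | algebraMap r => exact Subring.subset_closure (Or.inl (h0 r))
    | ι m => exact Subring.subset_closure (Or.inr (h1 m))
    | mul a b ha hb => rw [map_mul]; exact Subring.mul_mem _ ha hb
    | add a b ha hb => rw [map_add]; exact Subring.add_mem _ ha hb
  rw [eq_top_iff]
  intro x _
  obtain ⟨z, rfl⟩ := hf x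
  exact key z

end alg

section Graded

variable {S S' : Scheme.{u}} (g : S' ⟶ S) (E : S.Modules) [E.IsQuasicoherent]
  {𝒮 : RelProj.QCGrAlg S} {j : E ⟶ 𝒮.toModule} (hj : RelProj.IsGrSymAlg E 𝒮 j)
  {𝒮' : RelProj.QCGrAlg S'} {j' : (Scheme.Modules.pullback g).obj E ⟶ 𝒮'.toModule}
  (hj' : RelProj.IsGrSymAlg ((Scheme.Modules.pullback g).obj E) 𝒮' j')

omit hj in
theorem σ_str_mem (U : S.Opens) (hU : IsAffineOpen U) (r : Γ(S, U)) :
    σ E 𝒮.toQCAlg j U (algebraMap _ _ r) ∈ 𝒮.deg U hU 0 := by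
  unfold σ
  rw [symLift_algebraMap]
  exact 𝒮.str_mem U hU r

include hj in
theorem σ_ι_mem (U : S.Opens) (hU : IsAffineOpen U) (m : Γ(E, U)) :
    σ E 𝒮.toQCAlg j U (SymmetricAlgebra.ι _ _ m) ∈ 𝒮.deg U hU 1 := by
  unfold σ
  rw [symLift_ι]
  exact hj.2 U hU m

include hj in
/-- a graded symmetric algebra is generated in degree one -/
theorem isGenDegOne_of_isGrSymAlg : 𝒮.IsGenDegOne := fun U hU =>
  closure_eq_top_of_surjective (𝒮.deg U hU) (σ E 𝒮.toQCAlg j U) (bijective_σ E U hU hj.1).2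
    (σ_str_mem E (j := j) U hU) (σ_ι_mem E hj U hU)

/-- **the canonical graded `g`-morphism `Sym(E) → g_* Sym(g^* E)`** -/
noncomputable def symBCGr : RelProj.QGrHom g 𝒮 𝒮' where
  toQHom := symBC g E hj.1 𝒮'.toQCAlg j'
  map_mem U hU U' hU' hle d x hx := by
    obtain ⟨z, hz, rfl⟩ := exists_symDeg_of_mem (𝒮.deg U hU) (σ E 𝒮.toQCAlg j U)
      (bijective_σ E U hU hj.1).2 (σ_str_mem E (j := j) U hU) (σ_ι_mem E hj U hU) hx
    rw [symBC_app g E hj.1 𝒮'.toQCAlg j' U hU, dAff_σ]
    let F : SymmetricAlgebra Γ(S, U) Γ(E, U) →+* 𝒮'.presheaf.obj (op U') :=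
      (𝒮'.presheaf.map (homOfLE hle).op).hom.comp
        (symLift (ρ g 𝒮'.toQCAlg U) (θ g E 𝒮'.toQCAlg j' U) (θ_smul g E 𝒮'.toQCAlg j' U))
    change F z ∈ 𝒮'.deg U' hU' d
    refine Groth.Agent.Lib.Seat57.SymGrading.map_symDeg_mem (𝒮'.deg U' hU') F (fun r => ?_) (fun m => ?_) hz
    · change (𝒮'.presheaf.map (homOfLE hle).op).hom (symLift _ _ _ (algebraMap _ _ r)) ∈ _
      rw [symLift_algebraMap]
      have h1 : (𝒮'.presheaf.map (homOfLE hle).op).hom
          ((𝒮'.str.app (op (g ⁻¹ᵁ U))).hom ((g.app U).hom r)) =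
          (𝒮'.str.app (op U')).hom ((S'.presheaf.map (homOfLE hle).op).hom ((g.app U).hom r)) :=
        (congrArg (fun t => t.hom ((g.app U).hom r)) (𝒮'.str.naturality (homOfLE hle).op)).symm
      change (𝒮'.presheaf.map (homOfLE hle).op).hom ((𝒮'.str.app (op (g ⁻¹ᵁ U))).hom ((g.app U).hom r)) ∈ _
      rw [h1]
      exact 𝒮'.str_mem U' hU' _
    · change (𝒮'.presheaf.map (homOfLE hle).op).hom (symLift _ _ _ (SymmetricAlgebra.ι _ _ m)) ∈ _
      rw [symLift_ι]
      unfold θ
      rw [AddMonoidHom.comp_apply,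
        ← φAdd_res ((Scheme.Modules.pullback g).obj E) 𝒮'.toQCAlg j' hle]
      exact hj'.2 U' hU' _

theorem symBCGr_toQHom : (symBCGr g E hj hj').toQHom = symBC g E hj.1 𝒮'.toQCAlg j' := rfl

/-- the canonical graded `g`-morphism exhibits `𝒮'` as the base change of `𝒮`. -/
theorem isQBaseChange_symBCGr : RelSpec.IsQBaseChange (symBCGr g E hj hj').toQHom := by
  intro U hU U' hU' hle
  have : ((Scheme.Modules.pullback g).obj E).IsQuasicoherent :=
    Groth.Agent.Lib.Helper2.PullbackSec.isQuasicoherent_pullback g E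
  have hsym := isPushout_sym_of_lift (g.appLE U U' hle).hom (unitSec g E hle)
    (unitSec_smul g E hle) (fun N _ _ l hl => existsUnique_lift g E hU hU' hle N l hl)
  refine IsPushout.of_iso hsym (Iso.refl _) (Iso.refl _) (σIso E hj.1 U hU)
    (σIso ((Scheme.Modules.pullback g).obj E) hj'.1 U' hU') ?_ ?_ ?_ ?_
  · rw [Iso.refl_hom, Iso.refl_hom, Category.id_comp, Category.comp_id]
    rfl
  · rw [σIso_hom, Iso.refl_hom, Category.id_comp]
    ext1
    refine RingHom.ext fun a => ?_
    change σ E 𝒮.toQCAlg j U (algebraMap _ _ a) = _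
    unfold σ
    rw [symLift_algebraMap]
  · rw [σIso_hom, Iso.refl_hom, Category.id_comp]
    ext1
    refine RingHom.ext fun a => ?_
    change σ _ 𝒮'.toQCAlg j' U' (algebraMap _ _ a) = _
    unfold σ
    rw [symLift_algebraMap]
  · rw [σIso_hom, σIso_hom]
    ext1
    refine Groth.Agent.Helper13SymLoc.ringHom_ext (fun a => ?_) (fun m => ?_)
    · change σ _ 𝒮'.toQCAlg j' U' (symMap _ _ _ (algebraMap _ _ a)) =
        ((symBCGr g E hj hj').toQHom.appLE U U' hle).hom (σ E 𝒮.toQCAlg j U (algebraMap _ _ a))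
      unfold σ
      rw [symMap_algebraMap, symLift_algebraMap, symLift_algebraMap]
      exact (congrArg (fun t : Γ(S, U) ⟶ _ => t.hom a)
        ((symBCGr g E hj hj').toQHom.str_appLE U U' hle)).symm
    · change σ _ 𝒮'.toQCAlg j' U' (symMap _ _ _ (SymmetricAlgebra.ι _ _ m)) =
        ((symBCGr g E hj hj').toQHom.appLE U U' hle).hom (σ E 𝒮.toQCAlg j U (SymmetricAlgebra.ι _ _ m))
      unfold σ
      rw [symMap_ι, symLift_ι, symLift_ι]
      have e1 : unitSec g E hle m = resE ((Scheme.Modules.pullback g).obj E) hle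
          (((Scheme.Modules.pullbackPushforwardAdjunction g).unit.app E).app U m) := rfl
      have e3 := φAdd_res ((Scheme.Modules.pullback g).obj E) 𝒮'.toQCAlg j' hle
        (show Γ((Scheme.Modules.pullback g).obj E, g ⁻¹ᵁ U) from
          (((Scheme.Modules.pullbackPushforwardAdjunction g).unit.app E).app U m))
      have e2 : φAdd ((Scheme.Modules.pullback g).obj E) 𝒮'.toQCAlg j' (g ⁻¹ᵁ U)
          (((Scheme.Modules.pullbackPushforwardAdjunction g).unit.app E).app U m) =
          ((symBCGr g E hj hj').toQHom.app U).hom ((j.app U) m) :=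
        (symBC_j g E hj.1 𝒮'.toQCAlg j' U hU m).symm
      refine (congrArg _ e1).trans (e3.trans ?_)
      exact congrArg (𝒮'.presheaf.map (homOfLE hle).op).hom e2

end Graded

end Groth.Agent.Lib.Seat57.SymBC
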