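import Mathlib
import Groth.Prelude.Def_RelProj3
import Groth.Agent.Lib.Seat57K1
import Groth.Agent.Lib.Seat57SymBC
import Groth.Agent.Lib.Seat57CoprodCI
import Groth.Agent.Lib.Helper23QCohAbelian
import Groth.Agent.S8262
import Groth.Agent.S8292

/-!
# Seat57Biprod: the closed subscheme `P(E) ⨿ P(F) ⊆ P(E ⊕ F)`

* `exists_of_mem_deg_one`: degree one sections of a graded symmetric algebra over an affine open come
  from `E`;
* `isClosedImmersion_of_surj`: for `q : M ⟶ E` surjective on affine sections, `P(E) → P(M)` is a closed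
  immersion;
* `disjoint_range`: the images of `P(E)` and `P(F)` in `P(E ⊕ F)` are disjoint;
* `isClosedImmersion_coprod`.
-/

set_option autoImplicit false
universe u
open CategoryTheory CategoryTheory.Limits AlgebraicGeometry TopologicalSpace Opposite
open scoped HomogeneousIdeal

namespace Groth.Agent.Lib.Seat57.Biprod

open Groth.Agent.Helper13SymAlg Groth.Agent.Helper13SymLoc Groth.Agent.Lib.Seat57.SymBC
  Groth.Agent.Lib.Helper2.RelTildeQCoh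

section One

variable {Y : Scheme.{u}} (E : Y.Modules) [E.IsQuasicoherent]
  {𝒮 : RelProj.QCGrAlg Y} {j : E ⟶ 𝒮.toModule} (hj : RelProj.IsGrSymAlg E 𝒮 j)

include hj in
theorem exists_of_mem_deg_one (U : Y.Opens) (hU : IsAffineOpen U) (s : 𝒮.presheaf.obj (op U))
    (hs : s ∈ 𝒮.deg U hU 1) : ∃ e : Γ(E, U), φAdd E 𝒮.toQCAlg j U e = s := by
  obtain ⟨z, hz, rfl⟩ := exists_symDeg_of_mem (𝒮.deg U hU) (σ E 𝒮.toQCAlg j U)
    (bijective_σ E U hU hj.1).2 (σ_str_mem E (j := j) U hU) (σ_ι_mem E hj U hU) hs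
  unfold Groth.Agent.Lib.Seat57.SymGrading.symDeg at hz
  rw [pow_one] at hz
  obtain ⟨e, rfl⟩ := hz
  refine ⟨e, ?_⟩
  unfold σ
  rw [symLift_ι]

end One

section CI

variable {Y PM PE : Scheme.{u}} (M E : Y.Modules) [M.IsQuasicoherent] [E.IsQuasicoherent]
  (q : M ⟶ E)
  (hq : ∀ (U : Y.Opens) (_ : IsAffineOpen U) (e : Γ(E, U)), ∃ m : Γ(M, U), (q.app U).hom m = e)
  {𝒮E 𝒮 : RelProj.QCGrAlg Y}
  {jE : E ⟶ 𝒮E.toModule} (hjE : RelProj.IsGrSymAlg E 𝒮E jE)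
  {j : M ⟶ 𝒮.toModule} (hj : RelProj.IsGrSymAlg M 𝒮 j)
  {πE : 𝒮.toQCAlg ⟶ 𝒮E.toQCAlg} (hπE : RelProj.IsGradedHom πE)
  (hjπE : j ≫ RelSpec.QCAlg.Hom.toModuleMap πE = q ≫ jE)
  (hirrE : ∀ (U : Y.Opens) (hU : IsAffineOpen U),
    (𝒮E.deg U hU)₊ ≤ ((𝒮.deg U hU)₊).map (RelProj.gradedHomAt πE hπE U hU))
  {p : PM ⟶ Y} {pE : PE ⟶ Y}
  {chart : ∀ (U : Y.Opens) (hU : IsAffineOpen U), ((p ⁻¹ᵁ U : PM.Opens) : Scheme.{u}) ≅ Proj (𝒮.deg U hU)}
  {chartE : ∀ (U : Y.Opens) (hU : IsAffineOpen U), ((pE ⁻¹ᵁ U : PE.Opens) : Scheme.{u}) ≅ Proj (𝒮E.deg U hU)}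
  (hP : RelProj.IsRelProj 𝒮 p chart) (hPE : RelProj.IsRelProj 𝒮E pE chartE)
  {hE' : PE ⟶ PM} (hhE : RelProj.IsRelProjMap πE hπE hirrE chart chartE hE')

include hq hjE hj hjπE hP hPE hhE in
theorem isClosedImmersion_of_surj : IsClosedImmersion hE' := by
  refine Groth.Agent.S8292.result 𝒮E 𝒮 (isGenDegOne_of_isGrSymAlg E hjE) M inferInstance
    (q ≫ jE) (fun U hU x => hjE.2 U hU _) (fun U hU s hs => ?_) j hj πE hπE hjπE hirrE p pE chart chartE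
    hP hPE hE' hhE
  obtain ⟨e, rfl⟩ := exists_of_mem_deg_one E hjE U hU s hs
  obtain ⟨m, rfl⟩ := hq U hU e
  exact ⟨m, rfl⟩

end CI

section Disjoint

variable {Y PE PF P : Scheme.{u}} (E F : Y.Modules) [E.IsQuasicoherent] [F.IsQuasicoherent]
  {𝒮E 𝒮F 𝒮 : RelProj.QCGrAlg Y}
  {jE : E ⟶ 𝒮E.toModule} {jF : F ⟶ 𝒮F.toModule}
  {j : E ⊞ F ⟶ 𝒮.toModule} (hj : RelProj.IsGrSymAlg (E ⊞ F) 𝒮 j)
  {πE : 𝒮.toQCAlg ⟶ 𝒮E.toQCAlg} (hπE : RelProj.IsGradedHom πE)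
  (hjπE : j ≫ RelSpec.QCAlg.Hom.toModuleMap πE = biprod.fst ≫ jE)
  {πF : 𝒮.toQCAlg ⟶ 𝒮F.toQCAlg} (hπF : RelProj.IsGradedHom πF)
  (hjπF : j ≫ RelSpec.QCAlg.Hom.toModuleMap πF = biprod.snd ≫ jF)
  (hirrE : ∀ (U : Y.Opens) (hU : IsAffineOpen U),
    (𝒮E.deg U hU)₊ ≤ ((𝒮.deg U hU)₊).map (RelProj.gradedHomAt πE hπE U hU))
  (hirrF : ∀ (U : Y.Opens) (hU : IsAffineOpen U),
    (𝒮F.deg U hU)₊ ≤ ((𝒮.deg U hU)₊).map (RelProj.gradedHomAt πF hπF U hU))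
  {p : P ⟶ Y} {pE : PE ⟶ Y} {pF : PF ⟶ Y}
  {chart : ∀ (U : Y.Opens) (hU : IsAffineOpen U), ((p ⁻¹ᵁ U : P.Opens) : Scheme.{u}) ≅ Proj (𝒮.deg U hU)}
  {chartE : ∀ (U : Y.Opens) (hU : IsAffineOpen U), ((pE ⁻¹ᵁ U : PE.Opens) : Scheme.{u}) ≅ Proj (𝒮E.deg U hU)}
  {chartF : ∀ (U : Y.Opens) (hU : IsAffineOpen U), ((pF ⁻¹ᵁ U : PF.Opens) : Scheme.{u}) ≅ Proj (𝒮F.deg U hU)}
  (hP : RelProj.IsRelProj 𝒮 p chart) (hPE : RelProj.IsRelProj 𝒮E pE chartE)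
  (hPF : RelProj.IsRelProj 𝒮F pF chartF)
  {hE' : PE ⟶ P} (hhE : RelProj.IsRelProjMap πE hπE hirrE chart chartE hE')
  {hF' : PF ⟶ P} (hhF : RelProj.IsRelProjMap πF hπF hirrF chart chartF hF')

omit [E.IsQuasicoherent] [F.IsQuasicoherent] in
include hjπF in
theorem πF_j_inl (U : Y.Opens) (hU : IsAffineOpen U) (e : Γ(E, U)) :
    RelProj.gradedHomAt πF hπF U hU
      (φAdd (E ⊞ F) 𝒮.toQCAlg j U (((biprod.inl : E ⟶ E ⊞ F).app U).hom e)) = 0 := by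
  have h1 : ((biprod.inl ≫ j ≫ RelSpec.QCAlg.Hom.toModuleMap πF).app U).hom e = 0 := by
    rw [hjπF, biprod.inl_snd_assoc, zero_comp]
    rfl
  exact h1

omit [E.IsQuasicoherent] [F.IsQuasicoherent] in
include hjπE in
theorem πE_j_inr (U : Y.Opens) (hU : IsAffineOpen U) (f : Γ(F, U)) :
    RelProj.gradedHomAt πE hπE U hU
      (φAdd (E ⊞ F) 𝒮.toQCAlg j U (((biprod.inr : F ⟶ E ⊞ F).app U).hom f)) = 0 := by
  have h1 : ((biprod.inr ≫ j ≫ RelSpec.QCAlg.Hom.toModuleMap πE).app U).hom f = 0 := by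
    rw [hjπE, biprod.inr_fst_assoc, zero_comp]
    rfl
  exact h1

include hj hjπE hjπF hP hPE hPF hhE hhF in
theorem disjoint_range : Disjoint (Set.range hE') (Set.range hF') := by
  have : (E ⊞ F).IsQuasicoherent := Groth.Agent.Lib.Helper23.QCohLocal.isQuasicoherent_biprod E F
  rw [Set.disjoint_iff_forall_ne]
  rintro _ ⟨x, rfl⟩ _ ⟨y, rfl⟩ hxy
  have hpE : hE' ≫ p = pE :=
    (Groth.Agent.S8262.result πE hπE hirrE p pE chart chartE hP hPE).2 hE' hhE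
  have hpF : hF' ≫ p = pF :=
    (Groth.Agent.S8262.result πF hπF hirrF p pF chart chartF hP hPF).2 hF' hhF
  obtain ⟨_, ⟨U, hU : IsAffineOpen U, rfl⟩, hxU, -⟩ :=
    Y.isBasis_affineOpens.exists_subset_of_mem_open (Set.mem_univ (pE x)) isOpen_univ
  have hx' : x ∈ pE ⁻¹ᵁ U := hxU
  have hy' : y ∈ pF ⁻¹ᵁ U := by
    change pF y ∈ U
    rw [← hpF, Scheme.Hom.comp_apply, ← hxy, ← Scheme.Hom.comp_apply, hpE]
    exact hxU
  obtain ⟨x', rfl⟩ := le_opensRange_emb pE chartE U hU hx'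
  obtain ⟨y', rfl⟩ := le_opensRange_emb pF chartF U hU hy'
  rw [Groth.Agent.Lib.Helper2.RelTwistPullback.emb_comp_apply πE hπE hirrE p pE chart chartE hE' hhE U hU x',
    Groth.Agent.Lib.Helper2.RelTwistPullback.emb_comp_apply πF hπF hirrF p pF chart chartF hF' hhF U hU y'] at hxy
  have h3 := (RelProj.emb p chart U hU).isOpenEmbedding.injective hxy
  obtain ⟨m, hm⟩ := Groth.Agent.Lib.Seat57.K1.exists_not_mem (E ⊞ F) 𝒮 j hj U hU
    (ProjectiveSpectrum.comap (RelProj.gradedHomAt πE hπE U hU) (hirrE U hU) x')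
  apply hm
  have hm1 : m = ((biprod.inl : E ⟶ E ⊞ F).app U).hom (((biprod.fst : E ⊞ F ⟶ E).app U).hom m) +
      ((biprod.inr : F ⟶ E ⊞ F).app U).hom (((biprod.snd : E ⊞ F ⟶ F).app U).hom m) := by
    have := congrArg (fun t : E ⊞ F ⟶ E ⊞ F => (t.app U).hom m) (biprod.total (X := E) (Y := F))
    exact this.symm
  rw [hm1, map_add]
  refine Ideal.add_mem _ ?_ ?_
  · rw [h3]
    change RelProj.gradedHomAt πF hπF U hU _ ∈ y'.asHomogeneousIdeal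
    rw [πF_j_inl E F hπF hjπF U hU]
    exact zero_mem _
  · change RelProj.gradedHomAt πE hπE U hU _ ∈ x'.asHomogeneousIdeal
    rw [πE_j_inr E F hπE hjπE U hU]
    exact zero_mem _

include hj hjπE hjπF hP hPE hPF hhE hhF in
theorem isClosedImmersion_coprod (hjE : RelProj.IsGrSymAlg E 𝒮E jE)
    (hjF : RelProj.IsGrSymAlg F 𝒮F jF) : IsClosedImmersion (coprod.desc hE' hF') := by
  have : (E ⊞ F).IsQuasicoherent := Groth.Agent.Lib.Helper23.QCohLocal.isQuasicoherent_biprod E F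
  have : IsClosedImmersion hE' :=
    isClosedImmersion_of_surj (E ⊞ F) E biprod.fst
      (fun U _ e => ⟨((biprod.inl : E ⟶ E ⊞ F).app U).hom e, by
        have : (((biprod.inl : E ⟶ E ⊞ F) ≫ biprod.fst).app U).hom e = e := by
          rw [biprod.inl_fst]; rfl
        exact this⟩)
      hjE hj hπE hjπE hirrE hP hPE hhE
  have : IsClosedImmersion hF' :=
    isClosedImmersion_of_surj (E ⊞ F) F biprod.snd
      (fun U _ e => ⟨((biprod.inr : F ⟶ E ⊞ F).app U).hom e, by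
        have : (((biprod.inr : F ⟶ E ⊞ F) ≫ biprod.snd).app U).hom e = e := by
          rw [biprod.inr_snd]; rfl
        exact this⟩)
      hjF hj hπF hjπF hirrF hP hPF hhF
  exact Groth.Agent.Lib.Seat57.CoprodCI.isClosedImmersion_desc hE' hF'
    (disjoint_range E F hj hπE hjπE hπF hjπF hirrE hirrF hP hPE hPF hhE hhF)

end Disjoint

end Groth.Agent.Lib.Seat57.Biprod
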