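import Mathlib
import Groth.Agent.Lib.Helper23ModLocal

/-!
# Seat57ModCoprod: modules on a scheme covered by two disjoint open subschemes

For open immersions `a : X ⟶ Z`, `b : X' ⟶ Z` with disjoint, jointly covering ranges, every module `B`
on `Z` is the biproduct `a_* a^* B ⊞ b_* b^* B`; hence modules with isomorphic restrictions to `X` and
`X'` are isomorphic (`nonempty_iso_of_pullback_iso`).
-/

set_option autoImplicit false
universe u
open CategoryTheory CategoryTheory.Limits AlgebraicGeometry TopologicalSpace Opposite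

namespace Groth.Agent.Lib.Seat57.ModCoprod

section Cat

variable {C D : Type*} [Category C] [Category D] [Preadditive C] [Preadditive D]
  [HasBinaryBiproducts C] (F : C ⥤ D) [F.Additive]

theorem isIso_map_fst_of_isZero {Y1 Y2 : C} (hz : IsZero (F.obj Y2)) :
    IsIso (F.map (biprod.fst : Y1 ⊞ Y2 ⟶ Y1)) := by
  refine ⟨F.map biprod.inl, ?_, ?_⟩
  · rw [← F.map_comp]
    have h1 : (biprod.fst : Y1 ⊞ Y2 ⟶ Y1) ≫ biprod.inl = 𝟙 _ - biprod.snd ≫ biprod.inr := by
      rw [eq_sub_iff_add_eq, biprod.total]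
    rw [h1, F.map_sub, F.map_id, F.map_comp, hz.eq_of_tgt (F.map biprod.snd) 0, zero_comp, sub_zero]
  · rw [← F.map_comp, biprod.inl_fst, F.map_id]

theorem isIso_map_snd_of_isZero {Y1 Y2 : C} (hz : IsZero (F.obj Y1)) :
    IsIso (F.map (biprod.snd : Y1 ⊞ Y2 ⟶ Y2)) := by
  refine ⟨F.map biprod.inr, ?_, ?_⟩
  · rw [← F.map_comp]
    have h1 : (biprod.snd : Y1 ⊞ Y2 ⟶ Y2) ≫ biprod.inr = 𝟙 _ - biprod.fst ≫ biprod.inl := by
      rw [eq_sub_iff_add_eq, add_comm, biprod.total]
    rw [h1, F.map_sub, F.map_id, F.map_comp, hz.eq_of_tgt (F.map biprod.fst) 0, zero_comp, sub_zero]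
  · rw [← F.map_comp, biprod.inr_snd, F.map_id]

theorem isIso_map_lift_of_isZero_right {W Y1 Y2 : C} (f : W ⟶ Y1) (g : W ⟶ Y2)
    (hf : IsIso (F.map f)) (hz : IsZero (F.obj Y2)) : IsIso (F.map (biprod.lift f g)) := by
  have h1 := isIso_map_fst_of_isZero F (Y1 := Y1) hz
  have h2 : IsIso (F.map (biprod.lift f g) ≫ F.map (biprod.fst : Y1 ⊞ Y2 ⟶ Y1)) := by
    rw [← F.map_comp, biprod.lift_fst]; exact hf
  exact IsIso.of_isIso_comp_right _ (F.map (biprod.fst : Y1 ⊞ Y2 ⟶ Y1))

theorem isIso_map_lift_of_isZero_left {W Y1 Y2 : C} (f : W ⟶ Y1) (g : W ⟶ Y2)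
    (hg : IsIso (F.map g)) (hz : IsZero (F.obj Y1)) : IsIso (F.map (biprod.lift f g)) := by
  have h1 := isIso_map_snd_of_isZero F (Y2 := Y2) hz
  have h2 : IsIso (F.map (biprod.lift f g) ≫ F.map (biprod.snd : Y1 ⊞ Y2 ⟶ Y2)) := by
    rw [← F.map_comp, biprod.lift_snd]; exact hg
  exact IsIso.of_isIso_comp_right _ (F.map (biprod.snd : Y1 ⊞ Y2 ⟶ Y2))

end Cat

open Scheme.Modules

variable {X X' Z : Scheme.{u}} (a : X ⟶ Z) (b : X' ⟶ Z) [IsOpenImmersion a] [IsOpenImmersion b]

instance : (restrictFunctor a).Additive :=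
  Functor.additive_of_iso (restrictFunctorIsoPullback a).symm

/-- sections of a module over the empty open vanish -/
theorem eq_zero_of_bot (M : Z.Modules) (U : Z.Opens) (hU : U = ⊥) (s : Γ(M, U)) : s = 0 := by
  subst hU
  have h : (1 : Γ(Z, ⊥)) = 0 := Subsingleton.elim _ _
  calc s = (1 : Γ(Z, ⊥)) • s := (one_smul _ _).symm
    _ = 0 := by rw [h, zero_smul]

omit [IsOpenImmersion b] in
theorem isZero_restrict_pushforward (hd : Disjoint (Set.range a) (Set.range b)) (M : X'.Modules) :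
    IsZero ((restrictFunctor a).obj ((pushforward b).obj M)) := by
  refine Groth.Agent.Lib.Helper23.ModLocal.isZero_of_forall_eq_zero (fun U s => ?_)
  have hU : b ⁻¹ᵁ (a ''ᵁ U) = ⊥ := by
    ext x
    simp only [Opens.coe_bot, Set.mem_empty_iff_false, iff_false]
    rintro ⟨y, -, hy⟩
    exact Set.disjoint_iff_forall_ne.mp hd ⟨y, rfl⟩ ⟨x, rfl⟩ hy
  exact eq_zero_of_bot M (b ⁻¹ᵁ (a ''ᵁ U)) hU s

variable (B : Z.Modules)

/-- the comparison map `B ⟶ a_* a^* B ⊞ b_* b^* B` -/
noncomputable def ψ : B ⟶ (pushforward a).obj ((restrictFunctor a).obj B) ⊞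
    (pushforward b).obj ((restrictFunctor b).obj B) :=
  biprod.lift ((restrictAdjunction a).unit.app B) ((restrictAdjunction b).unit.app B)

theorem isIso_map_unit : IsIso ((restrictFunctor a).map ((restrictAdjunction a).unit.app B)) := by
  have h := (restrictAdjunction a).left_triangle_components B
  have : (restrictFunctor a).map ((restrictAdjunction a).unit.app B) =
      inv ((restrictAdjunction a).counit.app ((restrictFunctor a).obj B)) :=
    IsIso.eq_inv_of_inv_hom_id h
  rw [this]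
  infer_instance

theorem isIso_ψ (hd : Disjoint (Set.range a) (Set.range b))
    (hcov : ∀ z : Z, (∃ x, a x = z) ∨ (∃ x, b x = z)) : IsIso (ψ a b B) := by
  let W : Bool → Scheme.{u} := fun i => cond i X X'
  let j : ∀ i, W i ⟶ Z := fun i => Bool.rec (motive := fun i => W i ⟶ Z) b a i
  have hj : ∀ i, IsOpenImmersion (j i) := fun i => by
    cases i
    · exact inferInstanceAs (IsOpenImmersion b)
    · exact inferInstanceAs (IsOpenImmersion a)
  refine Groth.Agent.Lib.Helper23.ModLocal.isIso_of_isIso_restrict (ψ a b B) W j ?_ ?_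
  · intro z
    rcases hcov z with ⟨x, hx⟩ | ⟨x, hx⟩
    · exact ⟨true, x, hx⟩
    · exact ⟨false, x, hx⟩
  · rintro (_ | _)
    · exact isIso_map_lift_of_isZero_left (restrictFunctor b) _ _ (isIso_map_unit b B)
        (isZero_restrict_pushforward b a hd.symm _)
    · exact isIso_map_lift_of_isZero_right (restrictFunctor a) _ _ (isIso_map_unit a B)
        (isZero_restrict_pushforward a b hd _)

/-- modules on `Z = X ⊔ X'` with isomorphic restrictions are isomorphic -/
theorem nonempty_iso_of_restrict_iso (hd : Disjoint (Set.range a) (Set.range b))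
    (hcov : ∀ z : Z, (∃ x, a x = z) ∨ (∃ x, b x = z)) (A B : Z.Modules)
    (α : (restrictFunctor a).obj A ≅ (restrictFunctor a).obj B)
    (β : (restrictFunctor b).obj A ≅ (restrictFunctor b).obj B) : Nonempty (A ≅ B) := by
  have := isIso_ψ a b A hd hcov
  have := isIso_ψ a b B hd hcov
  exact ⟨asIso (ψ a b A) ≪≫ biprod.mapIso ((pushforward a).mapIso α) ((pushforward b).mapIso β) ≪≫
    (asIso (ψ a b B)).symm⟩

theorem nonempty_iso_of_pullback_iso (hd : Disjoint (Set.range a) (Set.range b))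
    (hcov : ∀ z : Z, (∃ x, a x = z) ∨ (∃ x, b x = z)) (A B : Z.Modules)
    (α : (Scheme.Modules.pullback a).obj A ≅ (Scheme.Modules.pullback a).obj B)
    (β : (Scheme.Modules.pullback b).obj A ≅ (Scheme.Modules.pullback b).obj B) : Nonempty (A ≅ B) :=
  nonempty_iso_of_restrict_iso a b hd hcov A B
    ((restrictFunctorIsoPullback a).app A ≪≫ α ≪≫ ((restrictFunctorIsoPullback a).app B).symm)
    ((restrictFunctorIsoPullback b).app A ≪≫ β ≪≫ ((restrictFunctorIsoPullback b).app B).symm)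

/-- the case of a coproduct of schemes -/
theorem nonempty_iso_coprod {X X' : Scheme.{u}} (A B : (X ⨿ X').Modules)
    (α : (Scheme.Modules.pullback (coprod.inl : X ⟶ X ⨿ X')).obj A ≅
      (Scheme.Modules.pullback (coprod.inl : X ⟶ X ⨿ X')).obj B)
    (β : (Scheme.Modules.pullback (coprod.inr : X' ⟶ X ⨿ X')).obj A ≅
      (Scheme.Modules.pullback (coprod.inr : X' ⟶ X ⨿ X')).obj B) :
    Nonempty (A ≅ B) := by
  refine nonempty_iso_of_pullback_iso coprod.inl coprod.inr (isCompl_range_inl_inr X X').disjoint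
    (fun z => ?_) A B α β
  obtain ⟨x | x, rfl⟩ := (coprodMk X X').surjective z
  · exact Or.inl ⟨x, (coprodMk_inl X X' x).symm⟩
  · exact Or.inr ⟨x, (coprodMk_inr X X' x).symm⟩

end Groth.Agent.Lib.Seat57.ModCoprod
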