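import Mathlib
import Groth.Prelude.Def_RelProj2
import Groth.Agent.Lib.Helper13SymAlg
import Groth.Agent.Lib.Seat57SymGrading

/-!
# Seat57: the GRADED symmetric algebra of a quasi-coherent module

`grSymAlg E : RelProj.QCGrAlg S` with underlying algebra `Helper13SymAlg.symAlg E`, graded over each
affine open by the symmetric powers; `isGrSymAlg E : RelProj.IsGrSymAlg E (grSymAlg E) (j E)`.
-/

set_option autoImplicit false
universe u

namespace Groth.Agent.Lib.Seat57.GrSym

open CategoryTheory CategoryTheory.Limits AlgebraicGeometry Opposite TopologicalSpace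
open Scheme.AffineZariskiSite
open Groth.Agent.Helper13SymAlg Groth.Agent.Helper13SymLoc
open Groth.Agent.Lib.Seat57.SymGrading


section General

variable {S : Scheme.{u}}

/-- a ring hom preserving degrees commutes with decompositions -/
theorem map_decompose_of_map_mem {A B : Type u} [CommRing A] [CommRing B]
    (𝒜 : ℕ → AddSubgroup A) (ℬ : ℕ → AddSubgroup B) [GradedRing 𝒜] [GradedRing ℬ]
    (φ : A →+* B) (hφ : ∀ {k : ℕ} {z : A}, z ∈ 𝒜 k → φ z ∈ ℬ k) (y : A) (k : ℕ) :
    φ (DirectSum.decompose 𝒜 y k : A) = (DirectSum.decompose ℬ (φ y) k : B) := by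
  let ψ : 𝒜 →+*ᵍ ℬ := { φ with map_mem := fun hx => hφ hx }
  exact ψ.map_directSumDecompose

/-- Degrees are preserved by all restrictions between affine opens as soon as they are preserved by
the restrictions to basic opens. -/
theorem map_mem_of_basic (A : RelSpec.QCAlg S)
    (deg : ∀ (U : S.Opens), IsAffineOpen U → ℕ → AddSubgroup (A.presheaf.obj (op U)))
    (graded : ∀ (U : S.Opens) (hU : IsAffineOpen U), GradedRing (deg U hU))
    (hb : ∀ (U : S.Opens) (hU : IsAffineOpen U) (r : Γ(S, U)) (d : ℕ) (x : A.presheaf.obj (op U)),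
      x ∈ deg U hU d → (A.presheaf.map (homOfLE (S.basicOpen_le r)).op).hom x ∈
        deg (S.basicOpen r) (hU.basicOpen r) d)
    {U V : S.Opens} (hU : IsAffineOpen U) (hV : IsAffineOpen V) (i : V ≤ U) {d : ℕ}
    {x : A.presheaf.obj (op U)} (hx : x ∈ deg U hU d) :
    (A.presheaf.map (homOfLE i).op).hom x ∈ deg V hV d := by
  have := graded
  -- restriction to an open which is basic in `U`, in a form allowing substitution
  have hb' : ∀ (U : S.Opens) (hU : IsAffineOpen U) (W : S.Opens) (hW : IsAffineOpen W)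
      (hWU : W ≤ U) (f : Γ(S, U)) (_ : S.basicOpen f = W) (k : ℕ) (z : A.presheaf.obj (op U)),
      z ∈ deg U hU k → (A.presheaf.map (homOfLE hWU).op).hom z ∈ deg W hW k := by
    intro U hU W hW hWU f hf k z hz
    subst hf
    exact hb U hU f k z hz
  set y := (A.presheaf.map (homOfLE i).op).hom x with hy
  have hyd : (DirectSum.decompose (deg V hV) y d : A.presheaf.obj (op V)) ∈ deg V hV d :=
    SetLike.coe_mem _
  suffices h : y = (DirectSum.decompose (deg V hV) y d : A.presheaf.obj (op V)) by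
    rw [h]; exact hyd
  -- the cover of `V` by opens basic in both `U` and `V`
  let ι := {p : Γ(S, U) × Γ(S, V) // S.basicOpen p.1 = S.basicOpen p.2}
  let W : ι → S.Opens := fun p => S.basicOpen p.1.2
  have hWV : ∀ p : ι, W p ≤ V := fun p => S.basicOpen_le _
  have hcover : V ≤ iSup W := by
    intro v hv
    obtain ⟨f, g, hfg, hvf⟩ := exists_basicOpen_le_affine_inter hU hV v ⟨i hv, hv⟩
    refine TopologicalSpace.Opens.mem_iSup.mpr ⟨⟨(f, g), hfg⟩, ?_⟩
    change v ∈ S.basicOpen g
    rw [← hfg]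
    exact hvf
  refine TopCat.Sheaf.eq_of_locally_eq' ⟨A.presheaf, A.isSheaf⟩ W V (fun p => homOfLE (hWV p))
    hcover _ _ fun p => ?_
  obtain ⟨⟨f, g⟩, hfg⟩ := p
  have hW : IsAffineOpen (S.basicOpen g) := hV.basicOpen g
  have hWU : S.basicOpen g ≤ U := (S.basicOpen_le g).trans i
  -- restriction from `V` preserves degrees
  have hφ : ∀ {k : ℕ} {z : A.presheaf.obj (op V)}, z ∈ deg V hV k →
      (A.presheaf.map (homOfLE (S.basicOpen_le g)).op).hom z ∈ deg (S.basicOpen g) hW k :=
    fun {k z} hz => hb V hV g k z hz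
  have h1 : (A.presheaf.map (homOfLE (S.basicOpen_le g)).op).hom y ∈ deg (S.basicOpen g) hW d := by
    have h2 := hb' U hU (S.basicOpen g) hW hWU f hfg d x hx
    have h3 : (A.presheaf.map (homOfLE (S.basicOpen_le g)).op).hom y =
        (A.presheaf.map (homOfLE hWU).op).hom x := by
      rw [hy, ← CommRingCat.comp_apply, ← Functor.map_comp]
      rfl
    rw [h3]
    exact h2
  change (A.presheaf.map (homOfLE (S.basicOpen_le g)).op).hom y =
    (A.presheaf.map (homOfLE (S.basicOpen_le g)).op).hom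
      (DirectSum.decompose (deg V hV) y d : A.presheaf.obj (op V))
  rw [map_decompose_of_map_mem (deg V hV) (deg (S.basicOpen g) hW) _ hφ y d,
    DirectSum.decompose_of_mem_same _ h1]

end General

noncomputable section

variable {S : Scheme.{u}} (E : S.Modules) [E.IsQuasicoherent]

/-- `γ` as a ring equivalence -/
def γEquiv (U : S.Opens) (hU : IsAffineOpen U) :
    (symAlg E).presheaf.obj (op U) ≃+* SymmetricAlgebra Γ(S, U) Γ(E, U) :=
  (asIso (γ E U hU)).commRingCatIsoToRingEquiv

theorem γEquiv_apply (U : S.Opens) (hU : IsAffineOpen U) (x : (symAlg E).presheaf.obj (op U)) :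
    γEquiv E U hU x = (γ E U hU).hom x := rfl

theorem γEquiv_symm_apply (U : S.Opens) (hU : IsAffineOpen U)
    (x : SymmetricAlgebra Γ(S, U) Γ(E, U)) :
    (γEquiv E U hU).symm x = (inv (γ E U hU)).hom x := rfl

/-- the degree-`n` part of `Sym(E)(U)` -/
def symDegAt (U : S.Opens) (hU : IsAffineOpen U) (n : ℕ) :
    AddSubgroup ((symAlg E).presheaf.obj (op U)) :=
  comapDeg (γEquiv E U hU) (symDeg Γ(S, U) Γ(E, U)) n

theorem mem_symDegAt {U : S.Opens} {hU : IsAffineOpen U} {n : ℕ}
    {x : (symAlg E).presheaf.obj (op U)} :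
    x ∈ symDegAt E U hU n ↔ (γ E U hU).hom x ∈ symDeg Γ(S, U) Γ(E, U) n := Iff.rfl

theorem γ_res {U : S.Opens} (hU : IsAffineOpen U) (r : Γ(S, U))
    (x : (symAlg E).presheaf.obj (op U)) :
    (γ E (S.basicOpen r) (hU.basicOpen r)).hom
        (((symAlg E).presheaf.map (homOfLE (S.basicOpen_le r)).op).hom x) =
      symRes E (S.basicOpen_le r) ((γ E U hU).hom x) := by
  have h := γ_naturality E (U := ⟨U, hU⟩) (V := ⟨S.basicOpen r, hU.basicOpen r⟩)
    (homOfLE (Scheme.AffineZariskiSite.basicOpen_le ⟨U, hU⟩ r))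
  exact congrArg (fun t : (symAlg E).presheaf.obj (op U) ⟶ _ => t.hom x) h

theorem symDegAt_basic (U : S.Opens) (hU : IsAffineOpen U) (r : Γ(S, U)) (d : ℕ)
    (x : (symAlg E).presheaf.obj (op U)) (hx : x ∈ symDegAt E U hU d) :
    ((symAlg E).presheaf.map (homOfLE (S.basicOpen_le r)).op).hom x ∈
      symDegAt E (S.basicOpen r) (hU.basicOpen r) d := by
  rw [mem_symDegAt] at hx ⊢
  rw [γ_res E hU r]
  refine map_mem_symDeg (symRes E (S.basicOpen_le r)) (fun a => ⟨resO (S.basicOpen_le r) a, ?_⟩)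
    (fun m => ⟨resE E (S.basicOpen_le r) m, ?_⟩) hx
  · unfold symRes
    rw [symMap_algebraMap]
  · unfold symRes
    rw [symMap_ι]

theorem γ_str (U : S.Opens) (hU : IsAffineOpen U) (r : Γ(S, U)) :
    (γ E U hU).hom (((symAlg E).str.app (op U)).hom r) =
      algebraMap Γ(S, U) (SymmetricAlgebra Γ(S, U) Γ(E, U)) r := by
  have h := str_γ E U hU
  exact congrArg (fun t : Γ(S, U) ⟶ _ => t.hom r) h

/-- the graded symmetric algebra of a quasi-coherent module -/
def grSymAlg : RelProj.QCGrAlg S where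
  toQCAlg := symAlg E
  deg U hU n := symDegAt E U hU n
  graded U hU := comapGradedRing (γEquiv E U hU) (symDeg Γ(S, U) Γ(E, U))
  map_mem := by
    intro U V hU hV i d x hx
    exact map_mem_of_basic (symAlg E) (symDegAt E)
      (fun U hU => comapGradedRing (γEquiv E U hU) (symDeg Γ(S, U) Γ(E, U)))
      (symDegAt_basic E) hU hV i hx
  str_mem := by
    intro U hU r
    rw [mem_symDegAt, γ_str]
    exact algebraMap_mem_symDeg_zero _ _ r

@[simp] theorem grSymAlg_toQCAlg : (grSymAlg E).toQCAlg = symAlg E := rfl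

theorem mem_deg_grSymAlg {U : S.Opens} {hU : IsAffineOpen U} {n : ℕ}
    {x : (symAlg E).presheaf.obj (op U)} :
    x ∈ (grSymAlg E).deg U hU n ↔ (γ E U hU).hom x ∈ symDeg Γ(S, U) Γ(E, U) n := Iff.rfl

theorem γ_j (U : S.Opens) (hU : IsAffineOpen U) (m : Γ(E, U)) :
    (γ E U hU).hom ((j E).app U m) = SymmetricAlgebra.ι Γ(S, U) Γ(E, U) m := by
  rw [j_app E U hU]
  rw [jAff_apply, γ_inv_γ]

/-- the graded symmetric algebra is the graded symmetric algebra -/
theorem isGrSymAlg : RelProj.IsGrSymAlg E (grSymAlg E) (j E) := by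
  refine ⟨isSymAlg E, fun U hU x => ?_⟩
  have h : (γ E U hU).hom ((j E).app U x) ∈ symDeg Γ(S, U) Γ(E, U) 1 := by
    rw [γ_j]
    exact ι_mem_symDeg_one _ _ x
  exact h

/-- the graded symmetric algebra is generated in degree one -/
theorem isGenDegOne_grSymAlg : (grSymAlg E).IsGenDegOne := by
  intro U hU
  rw [eq_top_iff]
  intro x _
  have hx : (γEquiv E U hU) x ∈ (⊤ : Subring (SymmetricAlgebra Γ(S, U) Γ(E, U))) := trivial
  rw [← closure_symDeg_zero_one] at hx
  have key : ∀ y ∈ Subring.closure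
      (((symDeg Γ(S, U) Γ(E, U) 0 : Submodule _ _) : Set (SymmetricAlgebra Γ(S, U) Γ(E, U))) ∪
        ((symDeg Γ(S, U) Γ(E, U) 1 : Submodule _ _) : Set (SymmetricAlgebra Γ(S, U) Γ(E, U)))),
      (γEquiv E U hU).symm y ∈ Subring.closure
        ((((grSymAlg E).deg U hU 0 : AddSubgroup _) : Set ((grSymAlg E).presheaf.obj (op U))) ∪
          (((grSymAlg E).deg U hU 1 : AddSubgroup _) : Set ((grSymAlg E).presheaf.obj (op U)))) := by
    intro y hy
    induction hy using Subring.closure_induction with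
    | mem y hy =>
      apply Subring.subset_closure
      rcases hy with hy | hy
      · left
        change (γEquiv E U hU) ((γEquiv E U hU).symm y) ∈ symDeg Γ(S, U) Γ(E, U) 0
        rw [RingEquiv.apply_symm_apply]
        exact hy
      · right
        change (γEquiv E U hU) ((γEquiv E U hU).symm y) ∈ symDeg Γ(S, U) Γ(E, U) 1
        rw [RingEquiv.apply_symm_apply]
        exact hy
    | zero => rw [map_zero]; exact zero_mem _
    | one => rw [map_one]; exact one_mem _
    | add a b _ _ ha hb => rw [map_add]; exact add_mem ha hb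
    | neg a _ ha => rw [map_neg]; exact neg_mem ha
    | mul a b _ _ ha hb => rw [map_mul]; exact mul_mem ha hb
  have := key _ hx
  have e : (γEquiv E U hU).symm ((γEquiv E U hU) x) = x := (γEquiv E U hU).symm_apply_apply x
  rw [e] at this
  exact this

/-- an algebra homomorphism out of the graded symmetric algebra is graded as soon as it maps `E` into
degree one -/
theorem isGradedHom_of_j (𝒮 : RelProj.QCGrAlg S) (ψ : (grSymAlg E).toQCAlg ⟶ 𝒮.toQCAlg)
    (h1 : ∀ (U : S.Opens) (hU : IsAffineOpen U) (x : Γ(E, U)),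
      (ψ.hom.app (op U)).hom ((j E).app U x) ∈ 𝒮.deg U hU 1) :
    RelProj.IsGradedHom ψ := by
  intro U hU d x hx
  have hx' : (γ E U hU).hom x ∈ symDeg Γ(S, U) Γ(E, U) d := hx
  let f : SymmetricAlgebra Γ(S, U) Γ(E, U) →+* 𝒮.presheaf.obj (op U) :=
    (ψ.hom.app (op U)).hom.comp (γEquiv E U hU).symm.toRingHom
  have hf : ∀ y, f ((γ E U hU).hom y) = (ψ.hom.app (op U)).hom y := by
    intro y
    change (ψ.hom.app (op U)).hom ((γEquiv E U hU).symm ((γEquiv E U hU) y)) = _
    rw [RingEquiv.symm_apply_apply]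
  have hfx := hf x
  rw [← hfx]
  refine map_symDeg_mem (𝒮.deg U hU) f (fun r => ?_) (fun m => ?_) hx'
  · rw [← γ_str E U hU r, hf]
    have h0 := NatTrans.congr_app ψ.comm (op U)
    have h2 : (ψ.hom.app (op U)).hom (((symAlg E).str.app (op U)).hom r) =
        (𝒮.str.app (op U)).hom r :=
      congrArg (fun t : Γ(S, U) ⟶ _ => t.hom r) h0
    rw [h2]
    exact 𝒮.str_mem U hU r
  · have e := hf ((j E).app U m)
    rw [γ_j E U hU m] at e
    rw [e]
    exact h1 U hU m

end

end Groth.Agent.Lib.Seat57.GrSym
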