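import Mathlib
import Groth.Prelude.Def_RelProj2
import Groth.Agent.Lib.Seat57GrSym
import Groth.Agent.Lib.Helper13ModAffine
import Groth.Agent.Lib.Helper18QCAlg1
import Groth.Agent.Lib.Helper27RelProj5
import Groth.Agent.Lib.Helper2RelTwistPullback
import Groth.Agent.S8258
import Groth.Agent.S8284
import Groth.Agent.S8262
import Groth.Agent.S8292

/-!
# Seat57: the projection onto the degree-one part of a quasi-coherent graded algebra, as a module map,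
and the graded homomorphism `Sym(𝒮) → 𝒮` it induces
-/

set_option autoImplicit false
universe u

namespace Groth.Agent.Lib.Seat57.VA1

open CategoryTheory CategoryTheory.Limits AlgebraicGeometry Opposite TopologicalSpace
open Scheme.AffineZariskiSite
open scoped HomogeneousIdeal
open Groth.Agent.Helper13SymAlg Groth.Agent.Helper13ModAffine
open Groth.Agent.Lib.Seat57.GrSym

noncomputable section

variable {S : Scheme.{u}} (𝒮 : RelProj.QCGrAlg S)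

/-- the projection onto the degree-`d` part over an affine open -/
def projAt (d : ℕ) (U : S.Opens) (hU : IsAffineOpen U) : Γ(𝒮.toModule, U) ⟶ Γ(𝒮.toModule, U) :=
  AddCommGrpCat.ofHom (X := AddCommGrpCat.of (𝒮.presheaf.obj (op U)))
    (Y := AddCommGrpCat.of (𝒮.presheaf.obj (op U)))
    (show 𝒮.presheaf.obj (op U) →+ 𝒮.presheaf.obj (op U) from GradedRing.proj (𝒮.deg U hU) d)

theorem projAt_apply (d : ℕ) (U : S.Opens) (hU : IsAffineOpen U) (x : 𝒮.presheaf.obj (op U)) :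
    (projAt 𝒮 d U hU).hom x = (DirectSum.decompose (𝒮.deg U hU) x d : 𝒮.presheaf.obj (op U)) := rfl

theorem projAt_nat (d : ℕ) {U V : S.AffineZariskiSite} (i : V ⟶ U) :
    𝒮.toModule.presheaf.map (homOfLE (toOpens_mono i.le)).op ≫ projAt 𝒮 d V.1 V.2 =
      projAt 𝒮 d U.1 U.2 ≫ 𝒮.toModule.presheaf.map (homOfLE (toOpens_mono i.le)).op := by
  ext x
  change (DirectSum.decompose (𝒮.deg V.1 V.2)
      ((𝒮.presheaf.map (homOfLE (toOpens_mono i.le)).op).hom x) d : 𝒮.presheaf.obj (op V.1)) =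
    (𝒮.presheaf.map (homOfLE (toOpens_mono i.le)).op).hom
      (DirectSum.decompose (𝒮.deg U.1 U.2) x d : 𝒮.presheaf.obj (op U.1))
  exact ((𝒮.res U.2 V.2 (toOpens_mono i.le)).map_directSumDecompose (x := x) (i := d)).symm

theorem projAt_lin (d : ℕ) (U : S.Opens) (hU : IsAffineOpen U) (a : Γ(S, U))
    (m : Γ(𝒮.toModule, U)) : projAt 𝒮 d U hU (a • m) = a • projAt 𝒮 d U hU m := by
  let m' : 𝒮.presheaf.obj (op U) := m
  change (DirectSum.decompose (𝒮.deg U hU)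
      ((𝒮.str.app (op U)).hom a * m') d : 𝒮.presheaf.obj (op U)) =
    (𝒮.str.app (op U)).hom a *
      (DirectSum.decompose (𝒮.deg U hU) m' d : 𝒮.presheaf.obj (op U))
  exact DirectSum.coe_decompose_mul_of_left_mem_zero (𝒮.deg U hU) (𝒮.str_mem U hU a)

/-- the projection onto the degree-`d` part, as an endomorphism of the module `𝒮` -/
def proj (d : ℕ) : 𝒮.toModule ⟶ 𝒮.toModule :=
  homOfAffine (fun U hU => projAt 𝒮 d U hU) (fun i => projAt_nat 𝒮 d i)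
    (fun U hU a m => projAt_lin 𝒮 d U hU a m)

theorem proj_app (d : ℕ) (U : S.Opens) (hU : IsAffineOpen U) :
    (proj 𝒮 d).app U = projAt 𝒮 d U hU := homOfAffine_app _ _ _ U hU

theorem proj_app_apply (d : ℕ) (U : S.Opens) (hU : IsAffineOpen U) (x : 𝒮.presheaf.obj (op U)) :
    ((proj 𝒮 d).app U (show Γ(𝒮.toModule, U) from x) : 𝒮.presheaf.obj (op U)) =
      (DirectSum.decompose (𝒮.deg U hU) x d : 𝒮.presheaf.obj (op U)) := by
  rw [proj_app 𝒮 d U hU]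
  rfl

theorem proj_mem (d : ℕ) (U : S.Opens) (hU : IsAffineOpen U) (x : Γ(𝒮.toModule, U)) :
    ((proj 𝒮 d).app U) x ∈ 𝒮.deg U hU d := by
  have h := proj_app_apply 𝒮 d U hU x
  rw [h]
  exact SetLike.coe_mem _

theorem proj_of_mem (d : ℕ) (U : S.Opens) (hU : IsAffineOpen U) (s : 𝒮.presheaf.obj (op U))
    (hs : s ∈ 𝒮.deg U hU d) : ((proj 𝒮 d).app U) (show Γ(𝒮.toModule, U) from s) = s := by
  have h := proj_app_apply 𝒮 d U hU s
  rw [h]
  exact DirectSum.decompose_of_mem_same (𝒮.deg U hU) hs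

section Assemble

variable {S : Scheme.{u}} (𝒮 : RelProj.QCGrAlg S)

instance : 𝒮.toModule.IsQuasicoherent :=
  Groth.Agent.Helper18QCAlg.isQuasicoherent_toModule 𝒮.toQCAlg

/-- the graded symmetric algebra of the module `𝒮` -/
abbrev 𝒯 : RelProj.QCGrAlg S := grSymAlg 𝒮.toModule

/-- the algebra homomorphism `Sym(𝒮) → 𝒮` extending the projection onto degree one -/
def ubar : (𝒯 𝒮).toQCAlg ⟶ 𝒮.toQCAlg :=
  ((isGrSymAlg 𝒮.toModule).1 𝒮.toQCAlg (proj 𝒮 1)).exists.choose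

theorem j_ubar : j 𝒮.toModule ≫ RelSpec.QCAlg.Hom.toModuleMap (ubar 𝒮) = proj 𝒮 1 :=
  ((isGrSymAlg 𝒮.toModule).1 𝒮.toQCAlg (proj 𝒮 1)).exists.choose_spec

theorem ubar_j_apply (U : S.Opens) (x : Γ(𝒮.toModule, U)) :
    ((ubar 𝒮).hom.app (op U)).hom ((j 𝒮.toModule).app U x) = (proj 𝒮 1).app U x := by
  have h := congrArg (fun t : 𝒮.toModule ⟶ 𝒮.toModule => (t.app U) x) (j_ubar 𝒮)
  exact h

theorem isGradedHom_ubar : RelProj.IsGradedHom (ubar 𝒮) := by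
  refine isGradedHom_of_j 𝒮.toModule 𝒮 (ubar 𝒮) fun U hU x => ?_
  rw [ubar_j_apply]
  exact proj_mem 𝒮 1 U hU x

theorem ubar_surj_one (U : S.Opens) (hU : IsAffineOpen U) (b : 𝒮.presheaf.obj (op U))
    (hb : b ∈ 𝒮.deg U hU 1) : ∃ x, RelProj.gradedHomAt (ubar 𝒮) (isGradedHom_ubar 𝒮) U hU x = b := by
  refine ⟨(j 𝒮.toModule).app U (show Γ(𝒮.toModule, U) from b), ?_⟩
  change ((ubar 𝒮).hom.app (op U)).hom ((j 𝒮.toModule).app U (show Γ(𝒮.toModule, U) from b)) = b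
  rw [ubar_j_apply]
  exact proj_of_mem 𝒮 1 U hU b hb

theorem hirr_ubar (hgen : 𝒮.IsGenDegOne) (U : S.Opens) (hU : IsAffineOpen U) :
    (𝒮.deg U hU)₊ ≤ (((𝒯 𝒮).deg U hU)₊).map (RelProj.gradedHomAt (ubar 𝒮) (isGradedHom_ubar 𝒮) U hU) := by
  rw [HomogeneousIdeal.irrelevant_le]
  intro n hn b hb
  obtain ⟨x, hx, rfl⟩ := Groth.Agent.Lib.Helper27RelProj5.surjective_pos_of_gen
    (RelProj.gradedHomAt (ubar 𝒮) (isGradedHom_ubar 𝒮) U hU) (hgen U hU)
    (ubar_surj_one 𝒮 U hU) n hn b hb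
  exact Ideal.mem_map_of_mem _ (HomogeneousIdeal.mem_irrelevant_of_mem _ hn hx)

end Assemble

section Main

variable {X Y P : Scheme.{u}}

/-- EGA II 4.4.1 (b') ⇒ (a): an immersion into `Proj` of an algebra generated in degree one pulling
`O(1)` back to `L` makes `L` relatively very ample. -/
theorem isRelVeryAmple_of_immersion_genDegOne (q : X ⟶ Y) (L : X.Modules)
    (𝒮 : RelProj.QCGrAlg Y) (h𝒮 : 𝒮.IsGenDegOne) (p : P ⟶ Y)
    (chart : ∀ (U : Y.Opens) (hU : IsAffineOpen U), ((p ⁻¹ᵁ U : P.Opens) : Scheme.{u}) ≅ Proj (𝒮.deg U hU))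
    (hP : RelProj.IsRelProj 𝒮 p chart) (O1 : P.Modules)
    (lam : ∀ (U : Y.Opens) (hU : IsAffineOpen U),
      O1 ⟶ (Scheme.Modules.pushforward (RelProj.emb p chart U hU)).obj (GrTwist.twist (𝒮.deg U hU) 1))
    (hO1 : RelProj.IsRelTwist 𝒮 p chart 1 O1 lam) (i : X ⟶ P) [IsImmersion i] (hi : i ≫ p = q)
    (e : L ≅ (Scheme.Modules.pullback i).obj O1) : RelProj.IsRelVeryAmple q L := by
  obtain ⟨PT, pT, chartT, hPT⟩ := Groth.Agent.S8258.result (𝒯 𝒮)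
  obtain ⟨O1T, lamT, hO1T⟩ := Groth.Agent.S8284.result (𝒯 𝒮) pT chartT hPT 1
  obtain ⟨⟨h, hh, -⟩, hover⟩ := Groth.Agent.S8262.result (ubar 𝒮) (isGradedHom_ubar 𝒮)
    (hirr_ubar 𝒮 h𝒮) pT p chartT chart hPT hP
  have hcl : IsClosedImmersion h :=
    Groth.Agent.S8292.result 𝒮 (𝒯 𝒮) h𝒮 𝒮.toModule
      (Groth.Agent.Helper18QCAlg.isQuasicoherent_toModule 𝒮.toQCAlg) (proj 𝒮 1)
      (fun U hU x => proj_mem 𝒮 1 U hU x)
      (fun U hU s hs => ⟨(show Γ(𝒮.toModule, U) from s), proj_of_mem 𝒮 1 U hU s hs⟩)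
      (j 𝒮.toModule) (isGrSymAlg 𝒮.toModule) (ubar 𝒮) (isGradedHom_ubar 𝒮) (j_ubar 𝒮)
      (hirr_ubar 𝒮 h𝒮) pT p chartT chart hPT hP h hh
  obtain ⟨e2⟩ := Groth.Agent.Lib.Helper2.RelTwistPullback.nonempty_pullback_iso (ubar 𝒮)
    (isGradedHom_ubar 𝒮) (hirr_ubar 𝒮 h𝒮) pT p chartT chart h 1 O1T lamT hO1T O1 lam hO1 hPT hP hh
    (isGenDegOne_grSymAlg 𝒮.toModule)
  refine ⟨𝒮.toModule, Groth.Agent.Helper18QCAlg.isQuasicoherent_toModule 𝒮.toQCAlg, 𝒯 𝒮,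
    j 𝒮.toModule, isGrSymAlg 𝒮.toModule, PT, pT, chartT, hPT, O1T, lamT, hO1T, i ≫ h,
    inferInstance, ?_, ⟨?_⟩⟩
  · rw [Category.assoc, hover h hh, hi]
  · exact e ≪≫ (Scheme.Modules.pullback i).mapIso e2.symm ≪≫
      (Scheme.Modules.pullbackComp i h).app O1T

end Main

end

end Groth.Agent.Lib.Seat57.VA1
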