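import Mathlib
import Groth.Prelude.Def_RelProj3
import Groth.Agent.Lib.Seat57Biprod
import Groth.Agent.Lib.Seat57ModCoprod
import Groth.Agent.Lib.Seat57VA1

/-!
# Seat57Biprod2: very ample modules on a disjoint union

* `πq q jE`: the algebra homomorphism `Sym(M) → 𝒮E` induced by a module map `q : M ⟶ E`, where
  `(𝒮E, jE)` is a graded symmetric algebra of `E`; it is graded, and if `q` is surjective on affine
  sections it satisfies the irrelevant ideal condition.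
* `isRelVeryAmple_coprod`: EGA II 4.4.10 (iii) ⇐.
-/

set_option autoImplicit false
universe u
open CategoryTheory CategoryTheory.Limits AlgebraicGeometry TopologicalSpace Opposite
open scoped HomogeneousIdeal

namespace Groth.Agent.Lib.Seat57.Biprod

open Groth.Agent.Helper13SymAlg Groth.Agent.Helper13SymLoc Groth.Agent.Lib.Seat57.SymBC
  Groth.Agent.Lib.Helper2.RelTildeQCoh Groth.Agent.Lib.Seat57.GrSym

noncomputable section

section Pi

variable {Y : Scheme.{u}} (M E : Y.Modules) [M.IsQuasicoherent] [E.IsQuasicoherent]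
  (q : M ⟶ E) {𝒮E : RelProj.QCGrAlg Y} (jE : E ⟶ 𝒮E.toModule)

/-- the algebra homomorphism `Sym(M) → 𝒮E` induced by `q : M ⟶ E` -/
def πq : (grSymAlg M).toQCAlg ⟶ 𝒮E.toQCAlg :=
  ((isGrSymAlg M).1 𝒮E.toQCAlg (q ≫ jE)).exists.choose

theorem j_πq : j M ≫ RelSpec.QCAlg.Hom.toModuleMap (πq M E q jE) = q ≫ jE :=
  ((isGrSymAlg M).1 𝒮E.toQCAlg (q ≫ jE)).exists.choose_spec

theorem πq_j_apply (U : Y.Opens) (x : Γ(M, U)) :
    ((πq M E q jE).hom.app (op U)).hom ((j M).app U x) = (jE.app U).hom ((q.app U).hom x) := by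
  have h := congrArg (fun t : M ⟶ 𝒮E.toModule => (t.app U) x) (j_πq M E q jE)
  exact h

variable {jE} (hjE : RelProj.IsGrSymAlg E 𝒮E jE)

include hjE in
theorem isGradedHom_πq : RelProj.IsGradedHom (πq M E q jE) := by
  refine isGradedHom_of_j M 𝒮E (πq M E q jE) fun U hU x => ?_
  rw [πq_j_apply]
  exact hjE.2 U hU _

variable (hq : ∀ (U : Y.Opens) (_ : IsAffineOpen U) (e : Γ(E, U)), ∃ m : Γ(M, U), (q.app U).hom m = e)

include hq in
theorem πq_surj_one (U : Y.Opens) (hU : IsAffineOpen U) (b : 𝒮E.presheaf.obj (op U))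
    (hb : b ∈ 𝒮E.deg U hU 1) :
    ∃ x, RelProj.gradedHomAt (πq M E q jE) (isGradedHom_πq M E q hjE) U hU x = b := by
  obtain ⟨e, rfl⟩ := exists_of_mem_deg_one E hjE U hU b hb
  obtain ⟨m, rfl⟩ := hq U hU e
  refine ⟨(j M).app U m, ?_⟩
  change ((πq M E q jE).hom.app (op U)).hom ((j M).app U m) = _
  rw [πq_j_apply]
  rfl

include hq in
theorem hirr_πq (U : Y.Opens) (hU : IsAffineOpen U) :
    (𝒮E.deg U hU)₊ ≤ (((grSymAlg M).deg U hU)₊).map
      (RelProj.gradedHomAt (πq M E q jE) (isGradedHom_πq M E q hjE) U hU) := by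
  rw [HomogeneousIdeal.irrelevant_le]
  intro n hn b hb
  obtain ⟨x, hx, rfl⟩ := Groth.Agent.Lib.Helper27RelProj5.surjective_pos_of_gen
    (RelProj.gradedHomAt (πq M E q jE) (isGradedHom_πq M E q hjE) U hU)
    (isGenDegOne_of_isGrSymAlg E hjE U hU)
    (πq_surj_one M E q hjE hq U hU) n hn b hb
  exact Ideal.mem_map_of_mem _ (HomogeneousIdeal.mem_irrelevant_of_mem _ hn hx)

end Pi

section Main

variable {X X' Y : Scheme.{u}}

/-- EGA II 4.4.10 (iii), ⇐: if `L` on `X` and `L'` on `X'` are very ample relative to `f`, `f'`, then a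
module on `X ⨿ X'` restricting to them is very ample relative to `f ⨿ f'`. -/
theorem isRelVeryAmple_coprod (f'' : X ⨿ X' ⟶ Y) (L'' : (X ⨿ X').Modules)
    (h1 : RelProj.IsRelVeryAmple (coprod.inl ≫ f'')
      ((Scheme.Modules.pullback (coprod.inl : X ⟶ X ⨿ X')).obj L''))
    (h2 : RelProj.IsRelVeryAmple (coprod.inr ≫ f'')
      ((Scheme.Modules.pullback (coprod.inr : X' ⟶ X ⨿ X')).obj L'')) :
    RelProj.IsRelVeryAmple f'' L'' := by
  obtain ⟨E, hE, 𝒮E, jE, hjE, PE, pE, chartE, hPE, O1E, lamE, hO1E, iE, hiE, hiEp, ⟨eE⟩⟩ := h1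
  obtain ⟨F, hF, 𝒮F, jF, hjF, PF, pF, chartF, hPF, O1F, lamF, hO1F, iF, hiF, hiFp, ⟨eF⟩⟩ := h2
  have : E.IsQuasicoherent := hE
  have : F.IsQuasicoherent := hF
  have hM : (E ⊞ F).IsQuasicoherent := Groth.Agent.Lib.Helper23.QCohLocal.isQuasicoherent_biprod E F
  obtain ⟨P, p, chart, hP⟩ := Groth.Agent.S8258.result (grSymAlg (E ⊞ F))
  obtain ⟨O1, lam, hO1⟩ := Groth.Agent.S8284.result (grSymAlg (E ⊞ F)) p chart hP 1
  have hqE : ∀ (U : Y.Opens) (_ : IsAffineOpen U) (e : Γ(E, U)),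
      ∃ m : Γ(E ⊞ F, U), ((biprod.fst : E ⊞ F ⟶ E).app U).hom m = e := fun U _ e =>
    ⟨((biprod.inl : E ⟶ E ⊞ F).app U).hom e, by
      have : (((biprod.inl : E ⟶ E ⊞ F) ≫ biprod.fst).app U).hom e = e := by
        rw [biprod.inl_fst]; rfl
      exact this⟩
  have hqF : ∀ (U : Y.Opens) (_ : IsAffineOpen U) (e : Γ(F, U)),
      ∃ m : Γ(E ⊞ F, U), ((biprod.snd : E ⊞ F ⟶ F).app U).hom m = e := fun U _ e =>
    ⟨((biprod.inr : F ⟶ E ⊞ F).app U).hom e, by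
      have : (((biprod.inr : F ⟶ E ⊞ F) ≫ biprod.snd).app U).hom e = e := by
        rw [biprod.inr_snd]; rfl
      exact this⟩
  obtain ⟨⟨hE', hhE, -⟩, hoverE⟩ := Groth.Agent.S8262.result (πq (E ⊞ F) E biprod.fst jE)
    (isGradedHom_πq (E ⊞ F) E biprod.fst hjE) (hirr_πq (E ⊞ F) E biprod.fst hjE hqE)
    p pE chart chartE hP hPE
  obtain ⟨⟨hF', hhF, -⟩, hoverF⟩ := Groth.Agent.S8262.result (πq (E ⊞ F) F biprod.snd jF)
    (isGradedHom_πq (E ⊞ F) F biprod.snd hjF) (hirr_πq (E ⊞ F) F biprod.snd hjF hqF)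
    p pF chart chartF hP hPF
  have hcl : IsClosedImmersion (coprod.desc hE' hF') :=
    isClosedImmersion_coprod E F (isGrSymAlg (E ⊞ F))
      (isGradedHom_πq (E ⊞ F) E biprod.fst hjE) (j_πq (E ⊞ F) E biprod.fst jE)
      (isGradedHom_πq (E ⊞ F) F biprod.snd hjF) (j_πq (E ⊞ F) F biprod.snd jF)
      (hirr_πq (E ⊞ F) E biprod.fst hjE hqE) (hirr_πq (E ⊞ F) F biprod.snd hjF hqF)
      hP hPE hPF hhE hhF hjE hjF
  obtain ⟨e2E⟩ := Groth.Agent.Lib.Helper2.RelTwistPullback.nonempty_pullback_iso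
    (πq (E ⊞ F) E biprod.fst jE) (isGradedHom_πq (E ⊞ F) E biprod.fst hjE)
    (hirr_πq (E ⊞ F) E biprod.fst hjE hqE) p pE chart chartE hE' 1 O1 lam hO1 O1E lamE hO1E hP hPE hhE
    (isGenDegOne_grSymAlg (E ⊞ F))
  obtain ⟨e2F⟩ := Groth.Agent.Lib.Helper2.RelTwistPullback.nonempty_pullback_iso
    (πq (E ⊞ F) F biprod.snd jF) (isGradedHom_πq (E ⊞ F) F biprod.snd hjF)
    (hirr_πq (E ⊞ F) F biprod.snd hjF hqF) p pF chart chartF hF' 1 O1 lam hO1 O1F lamF hO1F hP hPF hhF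
    (isGenDegOne_grSymAlg (E ⊞ F))
  have him : IsImmersion (coprod.map iE iF) :=
    IsZariskiLocalAtTarget.coprodMap (P := @IsImmersion) iE iF hiE hiF
  let i : X ⨿ X' ⟶ P := coprod.map iE iF ≫ coprod.desc hE' hF'
  have hil : coprod.inl ≫ i = iE ≫ hE' := by
    simp only [i, coprod.inl_map_assoc, coprod.inl_desc]
  have hir : coprod.inr ≫ i = iF ≫ hF' := by
    simp only [i, coprod.inr_map_assoc, coprod.inr_desc]
  have hi : IsImmersion i := inferInstance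
  have hip : i ≫ p = f'' := by
    apply coprod.hom_ext
    · rw [← Category.assoc, hil, Category.assoc, hoverE hE' hhE, hiEp]
    · rw [← Category.assoc, hir, Category.assoc, hoverF hF' hhF, hiFp]
  have α : (Scheme.Modules.pullback (coprod.inl : X ⟶ X ⨿ X')).obj L'' ≅
      (Scheme.Modules.pullback (coprod.inl : X ⟶ X ⨿ X')).obj ((Scheme.Modules.pullback i).obj O1) :=
    eE ≪≫ (Scheme.Modules.pullback iE).mapIso e2E.symm ≪≫
      (Scheme.Modules.pullbackComp iE hE').app O1 ≪≫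
      (Scheme.Modules.pullbackCongr hil.symm).app O1 ≪≫
      ((Scheme.Modules.pullbackComp coprod.inl i).app O1).symm
  have β : (Scheme.Modules.pullback (coprod.inr : X' ⟶ X ⨿ X')).obj L'' ≅
      (Scheme.Modules.pullback (coprod.inr : X' ⟶ X ⨿ X')).obj ((Scheme.Modules.pullback i).obj O1) :=
    eF ≪≫ (Scheme.Modules.pullback iF).mapIso e2F.symm ≪≫
      (Scheme.Modules.pullbackComp iF hF').app O1 ≪≫
      (Scheme.Modules.pullbackCongr hir.symm).app O1 ≪≫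
      ((Scheme.Modules.pullbackComp coprod.inr i).app O1).symm
  exact ⟨E ⊞ F, hM, grSymAlg (E ⊞ F), j (E ⊞ F), isGrSymAlg (E ⊞ F), P, p, chart, hP, O1, lam, hO1, i,
    hi, hip, Groth.Agent.Lib.Seat57.ModCoprod.nonempty_iso_coprod L'' _ α β⟩

/-- EGA II 4.4.10 (iii), ⇒ (left summand) -/
theorem isRelVeryAmple_inl (f'' : X ⨿ X' ⟶ Y) (L'' : (X ⨿ X').Modules)
    (h : RelProj.IsRelVeryAmple f'' L'') :
    RelProj.IsRelVeryAmple (coprod.inl ≫ f'')
      ((Scheme.Modules.pullback (coprod.inl : X ⟶ X ⨿ X')).obj L'') := by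
  obtain ⟨E, hE, 𝒮E, jE, hjE, PE, pE, chartE, hPE, O1E, lamE, hO1E, iE, hiE, hiEp, ⟨eE⟩⟩ := h
  exact ⟨E, hE, 𝒮E, jE, hjE, PE, pE, chartE, hPE, O1E, lamE, hO1E, coprod.inl ≫ iE, inferInstance,
    by rw [Category.assoc, hiEp],
    ⟨(Scheme.Modules.pullback coprod.inl).mapIso eE ≪≫ (Scheme.Modules.pullbackComp coprod.inl iE).app O1E⟩⟩

/-- EGA II 4.4.10 (iii), ⇒ (right summand) -/
theorem isRelVeryAmple_inr (f'' : X ⨿ X' ⟶ Y) (L'' : (X ⨿ X').Modules)
    (h : RelProj.IsRelVeryAmple f'' L'') :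
    RelProj.IsRelVeryAmple (coprod.inr ≫ f'')
      ((Scheme.Modules.pullback (coprod.inr : X' ⟶ X ⨿ X')).obj L'') := by
  obtain ⟨E, hE, 𝒮E, jE, hjE, PE, pE, chartE, hPE, O1E, lamE, hO1E, iE, hiE, hiEp, ⟨eE⟩⟩ := h
  exact ⟨E, hE, 𝒮E, jE, hjE, PE, pE, chartE, hPE, O1E, lamE, hO1E, coprod.inr ≫ iE, inferInstance,
    by rw [Category.assoc, hiEp],
    ⟨(Scheme.Modules.pullback coprod.inr).mapIso eE ≪≫ (Scheme.Modules.pullbackComp coprod.inr iE).app O1E⟩⟩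

end Main

end

end Groth.Agent.Lib.Seat57.Biprod
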