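import Mathlib
import Groth.Prelude.Def_RelProj3
import Groth.Agent.Lib.Seat57K1
import Groth.Agent.Lib.Helper27EpiGen

/-!
# Seat57GlobSec: the sections of `O_P(1)` over `p⁻¹(U)` given by degree one elements; the counit
`q^* q_* L ⟶ L` is an epimorphism for `L` relatively very ample
-/

set_option autoImplicit false
universe u
open CategoryTheory CategoryTheory.Limits AlgebraicGeometry TopologicalSpace Opposite
open scoped HomogeneousIdeal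

namespace Groth.Agent.Lib.Seat57.GlobSec

open Groth.Agent.Lib.Helper2GrModSect
open Groth.Agent.Lib.Helper2.RelTildeQCoh Groth.Agent.Lib.Helper23.SecTw Groth.Agent.Lib.Helper6
  Groth.Agent.Lib.Helper2.Push Groth.Agent.Lib.Helper2.RelTwistGen Groth.Agent.Lib.Helper2.IsGenCover
  Groth.Agent.Lib.Helper2.RelTwistTriv Groth.Agent.Lib.Helper2.RelTwistTensor RelProj
  Groth.Agent.Lib.Helper23.GenLocus Groth.Agent.Lib.Helper2.RelTwistInv Groth.Agent.Lib.Helper23.PB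
  Groth.Agent.Helper13PullbackUnit Groth.Agent.Lib.Seat57.TwistPull

section

variable {S P : Scheme.{u}} {𝒮 : RelProj.QCGrAlg S} (p : P ⟶ S)
  (chart : ∀ (U : S.Opens) (hU : IsAffineOpen U), (((p ⁻¹ᵁ U : P.Opens) : Scheme.{u}) ≅ Proj (𝒮.deg U hU)))
  (O1 : P.Modules)
  (lam : ∀ (U : S.Opens) (hU : IsAffineOpen U),
    O1 ⟶ (Scheme.Modules.pushforward (RelProj.emb p chart U hU)).obj (GrTwist.twist (𝒮.deg U hU) 1))
  (hO1 : RelProj.IsRelTwist 𝒮 p chart 1 O1 lam)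

/-- a section of `O_P(1)` over `p⁻¹(U)` whose value is `t / 1` everywhere restricts to the frame `t / 1` -/
theorem e1_eq_res_of_val (κ : Idx 𝒮) (σ : Γ(O1, p ⁻¹ᵁ κ.1.1))
    (hσ : ∀ y : ↥(RelProj.emb p chart κ.1.1 κ.1.2 ⁻¹ᵁ (p ⁻¹ᵁ κ.1.1)),
      GrTwist.val (V := RelProj.emb p chart κ.1.1 κ.1.2 ⁻¹ᵁ (p ⁻¹ᵁ κ.1.1))
          ((lam κ.1.1 κ.1.2).app (p ⁻¹ᵁ κ.1.1) σ) y =
        algebraMap (𝒮.presheaf.obj (op κ.1.1)) (GrTwist.Loc (𝒮.deg κ.1.1 κ.1.2) y.1) κ.2.1) :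
    e1 p chart O1 lam hO1 κ = res O1 (VF_le p chart κ) σ := by
  apply (hO1.bijective κ.1.1 κ.1.2 _ (VF_le p chart κ)).1
  apply twist_ext
  intro y
  have h1 := val_eF p chart 1 O1 lam hO1 1 0 (by norm_num) κ y
  refine h1.trans ?_
  have hnat := app_map' (lam κ.1.1 κ.1.2) (homOfLE (VF_le p chart κ)) σ
  have h2 : GrTwist.val (V := RelProj.emb p chart κ.1.1 κ.1.2 ⁻¹ᵁ (VF p chart κ))
      ((lam κ.1.1 κ.1.2).app (VF p chart κ) (res O1 (VF_le p chart κ) σ)) y =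
      GrTwist.val (V := RelProj.emb p chart κ.1.1 κ.1.2 ⁻¹ᵁ (p ⁻¹ᵁ κ.1.1))
        ((lam κ.1.1 κ.1.2).app (p ⁻¹ᵁ κ.1.1) σ) ⟨y.1, VF_le p chart κ y.2⟩ := by
    change GrTwist.val (V := RelProj.emb p chart κ.1.1 κ.1.2 ⁻¹ᵁ (VF p chart κ))
      ((lam κ.1.1 κ.1.2).app (VF p chart κ)
        (O1.presheaf.map (homOfLE (VF_le p chart κ)).op σ)) y = _
    rw [hnat]
    rfl
  rw [h2, hσ ⟨y.1, VF_le p chart κ y.2⟩]
  rw [← Localization.mk_one_eq_algebraMap, Localization.mk_eq_mk_iff, Localization.r_iff_exists]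
  refine ⟨1, ?_⟩
  simp only [OneMemClass.coe_one, one_mul, pow_one, pow_zero]

include hO1 in
/-- the global section of `O_P(1)` over `p⁻¹(U)` attached to `t ∈ 𝒮(U)_1` -/
theorem exists_globalSec (κ : Idx 𝒮) :
    ∃ σ : Γ(O1, p ⁻¹ᵁ κ.1.1), res O1 (VF_le p chart κ) σ = e1 p chart O1 lam hO1 κ := by
  let g0 : GrTwist.sectN (𝒜 := 𝒮.deg κ.1.1 κ.1.2) 1 (op ⊤) :=
    GrTwist.globalOf (𝒮.deg κ.1.1 κ.1.2) (i := 1) ⟨κ.2.1, κ.2.2⟩
  let g1 : Γ(GrTwist.twist (𝒮.deg κ.1.1 κ.1.2) 1, RelProj.emb p chart κ.1.1 κ.1.2 ⁻¹ᵁ (p ⁻¹ᵁ κ.1.1)) :=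
    GrTwist.resN 1 (homOfLE (le_top : RelProj.emb p chart κ.1.1 κ.1.2 ⁻¹ᵁ (p ⁻¹ᵁ κ.1.1) ≤ ⊤)).op g0
  obtain ⟨σ, hσ⟩ := (hO1.bijective κ.1.1 κ.1.2 (p ⁻¹ᵁ κ.1.1) le_rfl).2 g1
  refine ⟨σ, (e1_eq_res_of_val p chart O1 lam hO1 κ σ (fun y => ?_)).symm⟩
  rw [hσ]
  rw [← Localization.mk_one_eq_algebraMap]
  rfl

end

section Counit

variable {X Y : Scheme.{u}}

/-- sections of `L` over `q⁻¹(U)` are values of the counit `q^* q_* L ⟶ L` -/
theorem exists_counit_app_eq (q : X ⟶ Y) (L : X.Modules) (U : Y.Opens) (s : Γ(L, q ⁻¹ᵁ U)) :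
    ∃ s' : Γ((Scheme.Modules.pullback q).obj ((Scheme.Modules.pushforward q).obj L), q ⁻¹ᵁ U),
      ((Scheme.Modules.pullbackPushforwardAdjunction q).counit.app L).app (q ⁻¹ᵁ U) s' = s := by
  set adj := Scheme.Modules.pullbackPushforwardAdjunction q
  have h := adj.right_triangle_components L
  refine ⟨(adj.unit.app ((Scheme.Modules.pushforward q).obj L)).app U s, ?_⟩
  have h2 := congrArg (fun t : (Scheme.Modules.pushforward q).obj L ⟶ (Scheme.Modules.pushforward q).obj L =>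
    t.app U s) h
  exact h2

/-- EGA II 4.4.4 (a) ⇒ (b), first half: for `L` very ample relative to `q` the canonical
`q^* q_* L ⟶ L` is an epimorphism. -/
theorem epi_counit_of_isRelVeryAmple (q : X ⟶ Y) (L : X.Modules)
    (h : RelProj.IsRelVeryAmple q L) :
    Epi ((Scheme.Modules.pullbackPushforwardAdjunction q).counit.app L) := by
  obtain ⟨E, hE, 𝒮, j, hj, P, p, chart, hP, O1, lam, hO1, i, hi, hip, ⟨e⟩⟩ := h
  have : E.IsQuasicoherent := hE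
  have : O1.IsQuasicoherent := isQuasicoherent_O1 p chart O1 lam hO1
  set ε := (Scheme.Modules.pullbackPushforwardAdjunction q).counit.app L with hε
  refine ⟨fun {Z} g k hgk => ?_⟩
  -- opens and generators
  let κ : (Σ U : Y.affineOpens, Γ(E, U.1)) → Idx 𝒮 := fun a =>
    ⟨a.1, ⟨(j.app a.1.1) a.2, hj.2 a.1.1 a.1.2 a.2⟩⟩
  have hqU : ∀ U : Y.Opens, q ⁻¹ᵁ U ≤ i ⁻¹ᵁ (p ⁻¹ᵁ U) := by
    intro U x hx
    change p (i x) ∈ U
    rw [← Scheme.Hom.comp_apply, hip]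
    exact hx
  have hWq : ∀ a, i ⁻¹ᵁ (VF p chart (κ a)) ≤ q ⁻¹ᵁ a.1.1 := by
    intro a x hx
    have h1 : i x ∈ p ⁻¹ᵁ a.1.1 := VF_le p chart (κ a) hx
    change q x ∈ a.1.1
    rw [← hip, Scheme.Hom.comp_apply]
    exact h1
  refine Groth.Agent.Lib.Helper27EpiGen.hom_ext_of_isGen L Z
    (ι := Σ U : Y.affineOpens, Γ(E, U.1))
    (fun a => i ⁻¹ᵁ (VF p chart (κ a))) (fun x => ?_)
    (fun a => e.inv.app _ (unitSec i O1 le_rfl (e1 p chart O1 lam hO1 (κ a))))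
    (fun a => isGen_of_iso e.symm
      (isGen_unitSec i O1 (isAffineOpen_VF p chart (κ a)) _
        (isGen_eF p chart 1 O1 lam hO1 1 0 (by norm_num) (κ a))))
    g k (fun a => ?_)
  · obtain ⟨U, hxU⟩ := exists_affine_mem_preimage p (i x)
    obtain ⟨y, hy⟩ := le_opensRange_emb p chart U.1 U.2 hxU
    obtain ⟨m, hm⟩ := Groth.Agent.Lib.Seat57.K1.exists_not_mem E 𝒮 j hj U.1 U.2 y
    exact ⟨⟨U, m⟩, y, (ProjectiveSpectrum.mem_basicOpen _ _ y).mpr hm, hy⟩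
  · obtain ⟨σ, hσ⟩ := exists_globalSec p chart O1 lam hO1 (κ a)
    -- the section over `q⁻¹(U)`
    let s : Γ(L, q ⁻¹ᵁ a.1.1) := e.inv.app _ (unitSec i O1 (hqU a.1.1) σ)
    have hs : e.inv.app _ (unitSec i O1 le_rfl (e1 p chart O1 lam hO1 (κ a))) =
        res L (hWq a) s := by
      rw [← hσ]
      have h1 := res_unitSec i O1 (hqU a.1.1) (le_rfl : i ⁻¹ᵁ (VF p chart (κ a)) ≤ _)
        (VF_le p chart (κ a)) (hWq a) σ
      rw [← h1]
      exact app_map' e.inv (homOfLE (hWq a)) _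
    obtain ⟨s', hs'⟩ := exists_counit_app_eq q L a.1.1 s
    have key : ∀ t : L ⟶ Z, t.app _ (res L (hWq a) s) =
        res Z (hWq a) ((ε ≫ t).app (q ⁻¹ᵁ a.1.1) s') := by
      intro t
      have h1 : (ε ≫ t).app (q ⁻¹ᵁ a.1.1) s' = t.app _ s := by
        change t.app _ (ε.app _ s') = _
        rw [hs']
      rw [h1]
      exact app_map' t (homOfLE (hWq a)) s
    rw [hs, key g, key k, hgk]

end Counit

end Groth.Agent.Lib.Seat57.GlobSec
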