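import Groth.Prelude.Def_EGA4b
import Mathlib.AlgebraicGeometry.Morphisms.FiniteType
import Mathlib.AlgebraicGeometry.Morphisms.OpenImmersion
import Mathlib.AlgebraicGeometry.AffineScheme
import Mathlib.RingTheory.RegularLocalRing.Defs

/-!
# The regular locus of a scheme, affine-locally

Comparison of the set of points of a scheme with regular local ring with the regular loci
`EGA4.regLocus` of the rings of sections over affine opens.
-/

set_option autoImplicit false
set_option linter.style.haveILetI false

universe u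

open CategoryTheory AlgebraicGeometry TopologicalSpace

namespace Groth.Agent.Lib.Seat57.J2

/-- the regular locus of a scheme -/
def reg (Y : Scheme.{u}) : Set Y := {y : Y | IsRegularLocalRing (Y.presheaf.stalk y)}

/-- Regularity of the stalk at a point of an affine open is regularity of the localization of the
ring of sections at the corresponding prime. -/
theorem isRegular_stalk_iff {Y : Scheme.{u}} {V : Y.Opens} (hV : IsAffineOpen V) (y : V) :
    IsRegularLocalRing (Y.presheaf.stalk y) ↔
      IsRegularLocalRing (Localization.AtPrime (hV.primeIdealOf y).asIdeal) := by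
  letI := Y.presheaf.algebra_section_stalk y
  haveI : IsLocalization.AtPrime (Y.presheaf.stalk y) (hV.primeIdealOf y).asIdeal :=
    hV.isLocalization_stalk y
  let e : Localization.AtPrime (hV.primeIdealOf y).asIdeal ≃ₐ[Γ(Y, V)] Y.presheaf.stalk y :=
    IsLocalization.algEquiv (hV.primeIdealOf y).asIdeal.primeCompl _ _
  constructor
  · intro h
    exact IsRegularLocalRing.of_ringEquiv e.symm.toRingEquiv
  · intro h
    exact IsRegularLocalRing.of_ringEquiv e.toRingEquiv

/-- The regular locus of `Y` inside an affine open `V` is the preimage of the regular locus of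
`Γ(Y, V)` under `V ≃ Spec Γ(Y, V)`. -/
theorem reg_inter_eq {Y : Scheme.{u}} {V : Y.Opens} (hV : IsAffineOpen V) :
    (Subtype.val ⁻¹' reg Y : Set V) = hV.primeIdealOf ⁻¹' EGA4.regLocus Γ(Y, V) := by
  ext y
  exact isRegular_stalk_iff hV y

theorem isOpen_reg_inter_of_isOpen_regLocus {Y : Scheme.{u}} {V : Y.Opens} (hV : IsAffineOpen V)
    (h : IsOpen (EGA4.regLocus Γ(Y, V))) : IsOpen ((V : Set Y) ∩ reg Y) := by
  have h1 : IsOpen (Subtype.val ⁻¹' reg Y : Set V) := by
    rw [reg_inter_eq hV]
    have hcont : Continuous hV.primeIdealOf := by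
      unfold IsAffineOpen.primeIdealOf
      exact (hV.isoSpec.hom.base.hom).continuous
    exact h.preimage hcont
  have h2 := V.2.isOpenMap_subtype_val _ h1
  convert h2 using 1
  ext y
  constructor
  · rintro ⟨hy, hy'⟩
    exact ⟨⟨y, hy⟩, hy', rfl⟩
  · rintro ⟨⟨z, hz⟩, hz', rfl⟩
    exact ⟨hz, hz'⟩

theorem isOpen_regLocus_of_isOpen_reg {Y : Scheme.{u}} {V : Y.Opens} (hV : IsAffineOpen V)
    (h : IsOpen (reg Y)) : IsOpen (EGA4.regLocus Γ(Y, V)) := by
  have h1 : IsOpen (Subtype.val ⁻¹' reg Y : Set V) := h.preimage continuous_subtype_val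
  rw [reg_inter_eq hV] at h1
  -- `primeIdealOf` is a homeomorphism
  have hhomeo : IsHomeomorph hV.primeIdealOf := by
    unfold IsAffineOpen.primeIdealOf
    have : IsIso hV.isoSpec.hom.base := inferInstance
    exact (TopCat.isIso_iff_isHomeomorph _).mp this
  have := hhomeo.isOpenMap _ h1
  rwa [Set.image_preimage_eq _ hhomeo.surjective] at this

end Groth.Agent.Lib.Seat57.J2

namespace Groth.Agent.Lib.Seat57.J2

/-- On `Spec S` the regular locus is `EGA4.regLocus S`. -/
theorem mem_reg_Spec_iff (S : Type u) [CommRing S] (x : PrimeSpectrum S) :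
    IsRegularLocalRing ((Spec (CommRingCat.of S)).presheaf.stalk x) ↔ x ∈ EGA4.regLocus S := by
  letI : Algebra S ((Spec (CommRingCat.of S)).presheaf.stalk x) :=
    StructureSheaf.stalkAlgebra S x
  haveI : IsLocalization.AtPrime ((Spec (CommRingCat.of S)).presheaf.stalk x) x.asIdeal :=
    StructureSheaf.IsLocalization.to_stalk S x
  let e : Localization.AtPrime x.asIdeal ≃ₐ[S] (Spec (CommRingCat.of S)).presheaf.stalk x :=
    IsLocalization.algEquiv x.asIdeal.primeCompl _ _
  constructor
  · intro h
    exact @IsRegularLocalRing.of_ringEquiv _ _ h _ _ e.symm.toRingEquiv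
  · intro h
    exact @IsRegularLocalRing.of_ringEquiv _ _ h _ _ e.toRingEquiv

theorem reg_Spec_eq (S : Type u) [CommRing S] :
    (reg (Spec (CommRingCat.of S)) : Set (PrimeSpectrum S)) = EGA4.regLocus S := by
  ext x
  exact mem_reg_Spec_iff S x

end Groth.Agent.Lib.Seat57.J2
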