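import Mathlib
import Groth.Prelude.Def_RelProj3
import Groth.Prelude.Def_RelProj4
import Groth.Agent.Lib.Seat57TwistPull
import Groth.Agent.Lib.Seat57K1
import Groth.Agent.Lib.Helper13ProjBC3

/-!
# Seat57: `O(1)` of a relative `Proj` pulls back to `O(1)` along `Proj(u)`, for a graded morphism `u` over a
morphism of bases (source algebra generated in degree one)
-/

set_option autoImplicit false
universe u
open CategoryTheory Limits AlgebraicGeometry TopologicalSpace Opposite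
open scoped HomogeneousIdeal

namespace Groth.Agent.Lib.Seat57.K2

open Groth.Agent.Lib.Helper2GrModSect
open Groth.Agent.Lib.Helper2.RelTildeQCoh Groth.Agent.Lib.Helper23.SecTw Groth.Agent.Lib.Helper6
  Groth.Agent.Lib.Helper2.Push Groth.Agent.Lib.Helper2.RelTwistGen Groth.Agent.Lib.Helper2.IsGenCover
  Groth.Agent.Lib.Helper2.RelTwistTriv Groth.Agent.Lib.Helper2.RelTwistTensor RelProj
  Groth.Agent.Lib.Helper23.GenLocus Groth.Agent.Lib.Helper2.RelTwistInv Groth.Agent.Lib.Helper23.PB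
  Groth.Agent.Helper13PullbackUnit Groth.Agent.Lib.Seat57.TwistPull
  Groth.Agent.Lib.Seat57.FunVal Groth.Agent.Lib.Seat57.K1 Groth.Agent.Lib.Helper2.RelTwistPullback

/-- simultaneous basic opens downstairs and upstairs. -/
theorem exists_basicOpen_pair {Y Y' : Scheme.{u}} (ψ : Y' ⟶ Y) {U₁ U₂ : Y.Opens}
    (hU₁ : IsAffineOpen U₁) (hU₂ : IsAffineOpen U₂) {U₁' U₂' : Y'.Opens} (hU₁' : IsAffineOpen U₁')
    (hU₂' : IsAffineOpen U₂') (h₁ : U₁' ≤ ψ ⁻¹ᵁ U₁) (h₂ : U₂' ≤ ψ ⁻¹ᵁ U₂) (x : Y')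
    (hx : x ∈ U₁' ⊓ U₂') :
    ∃ (r : Γ(Y, U₁)) (r₂ : Γ(Y, U₂)) (ρ : Γ(Y', U₁')) (ρ₂ : Γ(Y', U₂')),
      Y.basicOpen r = Y.basicOpen r₂ ∧ Y'.basicOpen ρ = Y'.basicOpen ρ₂ ∧ x ∈ Y'.basicOpen ρ ∧
        Y'.basicOpen ρ ≤ ψ ⁻¹ᵁ (Y.basicOpen r) := by
  obtain ⟨r, r₂, hrr, hxr⟩ := exists_basicOpen_le_affine_inter hU₁ hU₂ (ψ x) ⟨h₁ hx.1, h₂ hx.2⟩
  have hA₁ : IsAffineOpen (Y'.basicOpen (ψ.appLE U₁ U₁' h₁ r)) := hU₁'.basicOpen _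
  have hA₂ : IsAffineOpen (Y'.basicOpen (ψ.appLE U₂ U₂' h₂ r₂)) := hU₂'.basicOpen _
  have e₁ : Y'.basicOpen (ψ.appLE U₁ U₁' h₁ r) = U₁' ⊓ ψ ⁻¹ᵁ (Y.basicOpen r) :=
    Scheme.basicOpen_appLE ψ U₁' U₁ h₁ r
  have e₂ : Y'.basicOpen (ψ.appLE U₂ U₂' h₂ r₂) = U₂' ⊓ ψ ⁻¹ᵁ (Y.basicOpen r₂) :=
    Scheme.basicOpen_appLE ψ U₂' U₂ h₂ r₂
  have hxA : x ∈ Y'.basicOpen (ψ.appLE U₁ U₁' h₁ r) ⊓ Y'.basicOpen (ψ.appLE U₂ U₂' h₂ r₂) := by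
    rw [e₁, e₂]
    exact ⟨⟨hx.1, hxr⟩, ⟨hx.2, hrr ▸ hxr⟩⟩
  obtain ⟨f, f₂, hff, hxf⟩ := exists_basicOpen_le_affine_inter hA₁ hA₂ x hxA
  obtain ⟨ρ, hρ⟩ := hU₁'.basicOpen_basicOpen_is_basicOpen (ψ.appLE U₁ U₁' h₁ r) f
  obtain ⟨ρ₂, hρ₂⟩ := hU₂'.basicOpen_basicOpen_is_basicOpen (ψ.appLE U₂ U₂' h₂ r₂) f₂
  refine ⟨r, r₂, ρ, ρ₂, hrr, hρ.trans (hff.trans hρ₂.symm), hρ ▸ hxf, ?_⟩
  rw [hρ]
  refine (Y'.basicOpen_le f).trans ?_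
  rw [e₁]
  exact inf_le_right

section zv

variable {A B σ τ : Type u} [CommRing A] [SetLike σ A] [AddSubgroupClass σ A]
  [CommRing B] [SetLike τ B] [AddSubgroupClass τ B]
  {𝒜 : ℕ → σ} {ℬ : ℕ → τ} [GradedRing 𝒜] [GradedRing ℬ] (φ : 𝒜 →+*ᵍ ℬ) (hφ : ℬ₊ ≤ 𝒜₊.map φ)

theorem locMap_zv (y : ProjectiveSpectrum ℬ) (t : A)
    (ht : t ∉ (ProjectiveSpectrum.comap φ hφ y).asHomogeneousIdeal)
    (ht' : φ t ∉ y.asHomogeneousIdeal) (pp qq : ℕ) :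
    GrTwist.locMap φ hφ y (zv (ProjectiveSpectrum.comap φ hφ y) t ht pp qq) = zv y (φ t) ht' pp qq := by
  unfold zv
  rw [GrTwist.locMap_mk]
  exact mk_congr _ (map_pow φ t pp) (map_pow φ t qq) _ _

end zv

section K2

variable {Y Y' P P' : Scheme.{u}} {ψ : Y' ⟶ Y} {𝒮 : RelProj.QCGrAlg Y} {𝒮' : RelProj.QCGrAlg Y'}
  (u : RelProj.QGrHom ψ 𝒮 𝒮')
  (hirr : ∀ (U : Y.Opens) (hU : IsAffineOpen U) (U' : Y'.Opens) (hU' : IsAffineOpen U') (hle : U' ≤ ψ ⁻¹ᵁ U),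
      (𝒮'.deg U' hU')₊ ≤ ((𝒮.deg U hU)₊).map (u.gradedAt U hU U' hU' hle))
  (p : P ⟶ Y)
  (chart : ∀ (U : Y.Opens) (hU : IsAffineOpen U), (((p ⁻¹ᵁ U : P.Opens) : Scheme.{u}) ≅ Proj (𝒮.deg U hU)))
  (p' : P' ⟶ Y')
  (chart' : ∀ (U' : Y'.Opens) (hU' : IsAffineOpen U'),
    (((p' ⁻¹ᵁ U' : P'.Opens) : Scheme.{u}) ≅ Proj (𝒮'.deg U' hU')))
  (h : P' ⟶ P)
  (hemb : ∀ (U : Y.Opens) (hU : IsAffineOpen U) (U' : Y'.Opens) (hU' : IsAffineOpen U') (hle : U' ≤ ψ ⁻¹ᵁ U),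
      RelProj.emb p' chart' U' hU' ≫ h =
        Proj.map (u.gradedAt U hU U' hU' hle) (hirr U hU U' hU' hle) ≫ RelProj.emb p chart U hU)

/-- naturality of the graded morphism on affine pairs. -/
theorem gradedAt_res {U V : Y.Opens} (hU : IsAffineOpen U) (hV : IsAffineOpen V) (hVU : V ≤ U)
    {U' V' : Y'.Opens} (hU' : IsAffineOpen U') (hV' : IsAffineOpen V') (hVU' : V' ≤ U')
    (hle : U' ≤ ψ ⁻¹ᵁ U) (hle' : V' ≤ ψ ⁻¹ᵁ V) (x : 𝒮.presheaf.obj (op U)) :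
    u.gradedAt V hV V' hV' hle' (𝒮.res hU hV hVU x) =
      𝒮'.res hU' hV' hVU' (u.gradedAt U hU U' hU' hle x) := by
  have h1 := congrArg (fun f => f.hom x) (u.toQHom.map_appLE hVU hle')
  have h2 := congrArg (fun f => f.hom x) (u.toQHom.appLE_map hle hVU')
  exact h1.trans h2.symm

include hemb in
theorem emb_comp_apply' (U : Y.Opens) (hU : IsAffineOpen U) (U' : Y'.Opens) (hU' : IsAffineOpen U')
    (hle : U' ≤ ψ ⁻¹ᵁ U) (y : ProjectiveSpectrum (𝒮'.deg U' hU')) :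
    h (RelProj.emb p' chart' U' hU' y) =
      RelProj.emb p chart U hU
        (ProjectiveSpectrum.comap (u.gradedAt U hU U' hU' hle) (hirr U hU U' hU' hle) y) := by
  rw [← Scheme.Hom.comp_apply, hemb U hU U' hU' hle]
  rfl

/-- index of the pulled back frames -/
structure KIdx (u : RelProj.QGrHom ψ 𝒮 𝒮') where
  U : Y.affineOpens
  U' : Y'.affineOpens
  hle : U'.1 ≤ ψ ⁻¹ᵁ U.1
  t : 𝒮.presheaf.obj (op U.1)
  ht : t ∈ 𝒮.deg U.1 U.2 1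

/-- the frame index downstairs -/
def κ₀ (i : KIdx u) : Idx 𝒮 := ⟨i.U, ⟨i.t, i.ht⟩⟩

/-- the frame index upstairs -/
def κ₁ (i : KIdx u) : Idx 𝒮' :=
  ⟨i.U', ⟨u.gradedAt i.U.1 i.U.2 i.U'.1 i.U'.2 i.hle i.t,
    (u.gradedAt i.U.1 i.U.2 i.U'.1 i.U'.2 i.hle).map_mem i.ht⟩⟩

include hemb in
theorem VF_le_preimage (i : KIdx u) :
    VF p' chart' (κ₁ u i) ≤ h ⁻¹ᵁ (VF p chart (κ₀ u i)) := by
  rintro x ⟨y, hy, rfl⟩
  change h (RelProj.emb p' chart' i.U'.1 i.U'.2 y) ∈ VF p chart (κ₀ u i)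
  rw [emb_comp_apply' u hirr p chart p' chart' h hemb i.U.1 i.U.2 i.U'.1 i.U'.2 i.hle y]
  refine ⟨_, ?_, rfl⟩
  have hy' : (u.gradedAt i.U.1 i.U.2 i.U'.1 i.U'.2 i.hle i.t) ∉ y.asHomogeneousIdeal :=
    (ProjectiveSpectrum.mem_basicOpen _ _ y).mp hy
  exact (ProjectiveSpectrum.mem_basicOpen _ _ _).mpr hy'

end K2

section K2main

variable {Y Y' P P' : Scheme.{u}} {ψ : Y' ⟶ Y} {𝒮 : RelProj.QCGrAlg Y} {𝒮' : RelProj.QCGrAlg Y'}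
  (u : RelProj.QGrHom ψ 𝒮 𝒮')
  (hirr : ∀ (U : Y.Opens) (hU : IsAffineOpen U) (U' : Y'.Opens) (hU' : IsAffineOpen U') (hle : U' ≤ ψ ⁻¹ᵁ U),
      (𝒮'.deg U' hU')₊ ≤ ((𝒮.deg U hU)₊).map (u.gradedAt U hU U' hU' hle))
  (p : P ⟶ Y)
  (chart : ∀ (U : Y.Opens) (hU : IsAffineOpen U), (((p ⁻¹ᵁ U : P.Opens) : Scheme.{u}) ≅ Proj (𝒮.deg U hU)))
  (hP : RelProj.IsRelProj 𝒮 p chart)
  (p' : P' ⟶ Y')
  (chart' : ∀ (U' : Y'.Opens) (hU' : IsAffineOpen U'),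
    (((p' ⁻¹ᵁ U' : P'.Opens) : Scheme.{u}) ≅ Proj (𝒮'.deg U' hU')))
  (hP' : RelProj.IsRelProj 𝒮' p' chart')
  (h : P' ⟶ P)
  (hemb : ∀ (U : Y.Opens) (hU : IsAffineOpen U) (U' : Y'.Opens) (hU' : IsAffineOpen U') (hle : U' ≤ ψ ⁻¹ᵁ U),
      RelProj.emb p' chart' U' hU' ≫ h =
        Proj.map (u.gradedAt U hU U' hU' hle) (hirr U hU U' hU' hle) ≫ RelProj.emb p chart U hU)
  (O1 : P.Modules)
  (lam : ∀ (U : Y.Opens) (hU : IsAffineOpen U),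
    O1 ⟶ (Scheme.Modules.pushforward (RelProj.emb p chart U hU)).obj (GrTwist.twist (𝒮.deg U hU) 1))
  (hO1 : RelProj.IsRelTwist 𝒮 p chart 1 O1 lam)
  (O1' : P'.Modules)
  (lam' : ∀ (U' : Y'.Opens) (hU' : IsAffineOpen U'),
    O1' ⟶ (Scheme.Modules.pushforward (RelProj.emb p' chart' U' hU')).obj (GrTwist.twist (𝒮'.deg U' hU') 1))
  (hO1' : RelProj.IsRelTwist 𝒮' p' chart' 1 O1' lam')

include hP hP' hemb in
/-- the transition functions of the frames `u(t)/1` upstairs are the pullbacks of those of the frames `t/1`. -/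
theorem pullback_transition' (i j : KIdx u) (O : P.Opens) (hOi₀ : O ≤ VF p chart (κ₀ u i))
    (hOj₀ : O ≤ VF p chart (κ₀ u j)) (γ : Γ(P, O))
    (H : res O1 hOi₀ (e1 p chart O1 lam hO1 (κ₀ u i)) =
      γ • res O1 hOj₀ (e1 p chart O1 lam hO1 (κ₀ u j)))
    (O' : P'.Opens) (hO'i₀ : O' ≤ VF p' chart' (κ₁ u i)) (hO'j₀ : O' ≤ VF p' chart' (κ₁ u j))
    (hO'O : O' ≤ h ⁻¹ᵁ O) :
    res O1' hO'i₀ (e1 p' chart' O1' lam' hO1' (κ₁ u i)) =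
      h.appLE O O' hO'O γ • res O1' hO'j₀ (e1 p' chart' O1' lam' hO1' (κ₁ u j)) := by
  have key : ∀ x : O', ∃ (O'' : P'.Opens) (hO'' : O'' ≤ O'), x.1 ∈ O'' ∧
      res O1' hO'' (res O1' hO'i₀ (e1 p' chart' O1' lam' hO1' (κ₁ u i))) =
      res O1' hO'' (h.appLE O O' hO'O γ •
        res O1' hO'j₀ (e1 p' chart' O1' lam' hO1' (κ₁ u j))) := by
    intro x
    have hx1 : p' x.1 ∈ i.U'.1 := VF_le p' chart' (κ₁ u i) (hO'i₀ x.2)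
    have hx2 : p' x.1 ∈ j.U'.1 := VF_le p' chart' (κ₁ u j) (hO'j₀ x.2)
    obtain ⟨r, r₂, ρ, ρ₂, hrr, hρρ, hxρ, hρr⟩ := exists_basicOpen_pair ψ i.U.2 j.U.2 i.U'.2 j.U'.2
      i.hle j.hle (p' x.1) ⟨hx1, hx2⟩
    -- notation
    have hV : IsAffineOpen (Y.basicOpen r) := i.U.2.basicOpen r
    have hV' : IsAffineOpen (Y'.basicOpen ρ) := i.U'.2.basicOpen ρ
    have hVi : Y.basicOpen r ≤ i.U.1 := Y.basicOpen_le r
    have hVj : Y.basicOpen r ≤ j.U.1 := hrr ▸ Y.basicOpen_le r₂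
    have hV'i : Y'.basicOpen ρ ≤ i.U'.1 := Y'.basicOpen_le ρ
    have hV'j : Y'.basicOpen ρ ≤ j.U'.1 := hρρ ▸ Y'.basicOpen_le ρ₂
    refine ⟨O' ⊓ p' ⁻¹ᵁ (Y'.basicOpen ρ), inf_le_left, ⟨x.2, hxρ⟩, ?_⟩
    rw [res_res, res_smul, res_res]
    have hOi' : O' ⊓ p' ⁻¹ᵁ (Y'.basicOpen ρ) ≤ VF p' chart' (κ₁ u i) := inf_le_left.trans hO'i₀
    have hOj' : O' ⊓ p' ⁻¹ᵁ (Y'.basicOpen ρ) ≤ VF p' chart' (κ₁ u j) := inf_le_left.trans hO'j₀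
    have hOi : O ⊓ p ⁻¹ᵁ (Y.basicOpen r) ≤ VF p chart (κ₀ u i) := inf_le_left.trans hOi₀
    have hOj : O ⊓ p ⁻¹ᵁ (Y.basicOpen r) ≤ VF p chart (κ₀ u j) := inf_le_left.trans hOj₀
    refine (res_eF_eq_smul_iff p' chart' 1 O1' lam' hO1' 1 0 (by norm_num) hP' (κ₁ u i) (κ₁ u j)
      ρ ρ₂ (Y'.basicOpen ρ) hV' rfl hρρ hV'i hV'j (O' ⊓ p' ⁻¹ᵁ (Y'.basicOpen ρ)) hOi' hOj'
      inf_le_right _).mpr ?_
    intro y'' hy''
    -- the point downstairs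
    have hxA : (RelProj.emb p chart (Y.basicOpen r) hV)
        (ProjectiveSpectrum.comap (u.gradedAt (Y.basicOpen r) hV (Y'.basicOpen ρ) hV' hρr)
          (hirr _ hV _ hV' hρr) y'') ∈ O ⊓ p ⁻¹ᵁ (Y.basicOpen r) := by
      rw [← emb_comp_apply' u hirr p chart p' chart' h hemb]
      refine ⟨hO'O hy''.1, ?_⟩
      rw [emb_comp_apply' u hirr p chart p' chart' h hemb (Y.basicOpen r) hV (Y'.basicOpen ρ) hV' hρr]
      exact image_emb_le p chart _ hV ⊤ ⟨_, trivial, rfl⟩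
    have hO''A : O' ⊓ p' ⁻¹ᵁ (Y'.basicOpen ρ) ≤ h ⁻¹ᵁ (O ⊓ p ⁻¹ᵁ (Y.basicOpen r)) := by
      intro z hz
      refine ⟨hO'O hz.1, ?_⟩
      obtain ⟨y, hy⟩ := le_opensRange_emb p' chart' (Y'.basicOpen ρ) hV' hz.2
      have hy' : (RelProj.emb p' chart' (Y'.basicOpen ρ) hV') y = z := hy
      change h z ∈ p ⁻¹ᵁ (Y.basicOpen r)
      rw [← hy', emb_comp_apply' u hirr p chart p' chart' h hemb (Y.basicOpen r) hV (Y'.basicOpen ρ) hV' hρr]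
      exact image_emb_le p chart _ hV ⊤ ⟨_, trivial, rfl⟩
    have hc : resf (inf_le_left : O' ⊓ p' ⁻¹ᵁ (Y'.basicOpen ρ) ≤ O') (h.appLE O O' hO'O γ) =
        h.appLE (O ⊓ p ⁻¹ᵁ (Y.basicOpen r)) (O' ⊓ p' ⁻¹ᵁ (Y'.basicOpen ρ)) hO''A
          (resf (inf_le_left : O ⊓ p ⁻¹ᵁ (Y.basicOpen r) ≤ O) γ) := by
      have h1 := congrArg (fun f => f.hom γ)
        (Scheme.Hom.appLE_map h hO'O (homOfLE (inf_le_left : O' ⊓ p' ⁻¹ᵁ (Y'.basicOpen ρ) ≤ O')).op)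
      have h2 := congrArg (fun f => f.hom γ)
        (Scheme.Hom.map_appLE h hO''A (homOfLE (inf_le_left : O ⊓ p ⁻¹ᵁ (Y.basicOpen r) ≤ O)).op)
      exact h1.trans h2.symm
    have hfv := funVal_pullback (u.gradedAt (Y.basicOpen r) hV (Y'.basicOpen ρ) hV' hρr)
      (hirr _ hV _ hV' hρr) h (RelProj.emb p chart (Y.basicOpen r) hV)
      (RelProj.emb p' chart' (Y'.basicOpen ρ) hV')
      (hemb (Y.basicOpen r) hV (Y'.basicOpen ρ) hV' hρr)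
      (O ⊓ p ⁻¹ᵁ (Y.basicOpen r)) (resf (inf_le_left : O ⊓ p ⁻¹ᵁ (Y.basicOpen r) ≤ O) γ)
      (O' ⊓ p' ⁻¹ᵁ (Y'.basicOpen ρ)) hO''A y'' hy'' hxA
    rw [hc, hfv]
    -- the identity downstairs
    have H' := congrArg (res O1 (inf_le_left : O ⊓ p ⁻¹ᵁ (Y.basicOpen r) ≤ O)) H
    rw [res_smul, res_res, res_res] at H'
    have H'' := (res_eF_eq_smul_iff p chart 1 O1 lam hO1 1 0 (by norm_num) hP (κ₀ u i) (κ₀ u j)
      r r₂ (Y.basicOpen r) hV rfl hrr hVi hVj (O ⊓ p ⁻¹ᵁ (Y.basicOpen r)) hOi hOj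
      inf_le_right _).mp H' _ hxA
    have H3 := congrArg (GrTwist.locMap (u.gradedAt (Y.basicOpen r) hV (Y'.basicOpen ρ) hV' hρr)
      (hirr _ hV _ hV' hρr) y'') H''
    rw [map_mul] at H3
    -- non-membership facts
    have hn1 := res_not_mem p' chart' hP' (κ₁ u i) ρ (Y'.basicOpen ρ) hV' rfl hV'i y'' (hOi' hy'')
    have hn2 := res_not_mem p' chart' hP' (κ₁ u j) ρ₂ (Y'.basicOpen ρ) hV' hρρ hV'j y'' (hOj' hy'')
    have hm1 := res_not_mem p chart hP (κ₀ u i) r (Y.basicOpen r) hV rfl hVi _ (hOi hxA)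
    have hm2 := res_not_mem p chart hP (κ₀ u j) r₂ (Y.basicOpen r) hV hrr hVj _ (hOj hxA)
    have g1 := gradedAt_res u i.U.2 hV hVi i.U'.2 hV' hV'i i.hle hρr i.t
    have g2 := gradedAt_res u j.U.2 hV hVj j.U'.2 hV' hV'j j.hle hρr j.t
    have hk1 : (u.gradedAt (Y.basicOpen r) hV (Y'.basicOpen ρ) hV' hρr)
        (𝒮.res i.U.2 hV hVi (κ₀ u i).2.1) ∉ y''.asHomogeneousIdeal := by
      change (u.gradedAt (Y.basicOpen r) hV (Y'.basicOpen ρ) hV' hρr) (𝒮.res i.U.2 hV hVi i.t) ∉ _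
      rw [g1]; exact hn1
    have hk2 : (u.gradedAt (Y.basicOpen r) hV (Y'.basicOpen ρ) hV' hρr)
        (𝒮.res j.U.2 hV hVj (κ₀ u j).2.1) ∉ y''.asHomogeneousIdeal := by
      change (u.gradedAt (Y.basicOpen r) hV (Y'.basicOpen ρ) hV' hρr) (𝒮.res j.U.2 hV hVj j.t) ∉ _
      rw [g2]; exact hn2
    rw [locMap_zv _ _ y'' _ hm1 hk1 1 0, locMap_zv _ _ y'' _ hm2 hk2 1 0] at H3
    refine (zv_congr y'' g1.symm hn1 hk1 1 0).trans (H3.trans ?_)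
    exact congrArg (fun z => _ * z) (zv_congr y'' g2 hk2 hn2 1 0)
  choose O'' hO'' hxO'' hres using key
  refine (modSheaf O1').eq_of_locally_eq' (fun x : O' => O'' x) _ (fun x => homOfLE (hO'' x)) ?_ _ _ hres
  intro x hx'
  exact Opens.mem_iSup.mpr ⟨⟨x, hx'⟩, hxO'' _⟩

include hP hP' hemb hO1 hO1' in
/-- **Pullback of `O(1)` along `Proj(u)`.** -/
theorem nonempty_pullback_iso (hgen : 𝒮.IsGenDegOne) :
    Nonempty ((Scheme.Modules.pullback h).obj O1 ≅ O1') := by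
  refine nonempty_pullback_iso_of_frames p chart O1 lam hO1 h O1' (κ₀ u)
    (fun i => VF p' chart' (κ₁ u i)) (VF_le_preimage u hirr p chart p' chart' h hemb) (fun x => ?_)
    (fun i => e1 p' chart' O1' lam' hO1' (κ₁ u i))
    (fun i => isGen_eF p' chart' 1 O1' lam' hO1' 1 0 (by norm_num) (κ₁ u i))
    (fun i j γ H => pullback_transition' u hirr p chart hP p' chart' hP' h hemb O1 lam hO1 O1' lam' hO1'
      i j _ inf_le_left inf_le_right γ H _ inf_le_left inf_le_right _)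
  obtain ⟨V, hxV⟩ := Groth.Agent.Helper13ProjBC.exists_pair ψ (p' x)
  obtain ⟨y, hy⟩ := le_opensRange_emb p' chart' V.1.2.1 V.1.2.2 hxV
  obtain ⟨t, ht, hty⟩ := exists_degOne_not_mem_of_gen (𝒮.deg V.1.1.1 V.1.1.2) (hgen V.1.1.1 V.1.1.2)
    (ProjectiveSpectrum.comap (u.gradedAt V.1.1.1 V.1.1.2 V.1.2.1 V.1.2.2 V.2)
      (hirr V.1.1.1 V.1.1.2 V.1.2.1 V.1.2.2 V.2) y)
  refine ⟨⟨V.1.1, V.1.2, V.2, t, ht⟩, y, ?_, hy⟩
  exact (ProjectiveSpectrum.mem_basicOpen _ _ y).mpr hty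

end K2main

end Groth.Agent.Lib.Seat57.K2
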