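import Mathlib
import Groth.Prelude.Def_RelProj3
import Groth.Prelude.Def_RelProj4
import Groth.Agent.Lib.Seat57SymBC
import Groth.Agent.Lib.Seat57K2
import Groth.Agent.S12141

/-!
# Seat57: base change of projective bundles, with their fundamental sheaves

For `g : S' ⟶ S`, `E` quasi-coherent on `S`: `P(g^* E) = P(E) ×_S S'` and the projection pulls `O_{P(E)}(1)` back to
`O_{P(g^* E)}(1)`.
-/

set_option autoImplicit false
universe u
open CategoryTheory Limits AlgebraicGeometry TopologicalSpace Opposite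
open scoped HomogeneousIdeal

namespace Groth.Agent.Lib.Seat57.ProjBundleBC

open Groth.Agent.Lib.Seat57.SymBC

variable {S S' P P' : Scheme.{u}} (g : S' ⟶ S) (E : S.Modules) [E.IsQuasicoherent]
  {𝒮 : RelProj.QCGrAlg S} {j : E ⟶ 𝒮.toModule} (hj : RelProj.IsGrSymAlg E 𝒮 j)
  {𝒮' : RelProj.QCGrAlg S'} {j' : (Scheme.Modules.pullback g).obj E ⟶ 𝒮'.toModule}
  (hj' : RelProj.IsGrSymAlg ((Scheme.Modules.pullback g).obj E) 𝒮' j')
  (p : P ⟶ S)
  (chart : ∀ (U : S.Opens) (hU : IsAffineOpen U), (((p ⁻¹ᵁ U : P.Opens) : Scheme.{u}) ≅ Proj (𝒮.deg U hU)))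
  (hP : RelProj.IsRelProj 𝒮 p chart)
  (O1 : P.Modules)
  (lam : ∀ (U : S.Opens) (hU : IsAffineOpen U),
    O1 ⟶ (Scheme.Modules.pushforward (RelProj.emb p chart U hU)).obj (GrTwist.twist (𝒮.deg U hU) 1))
  (hO1 : RelProj.IsRelTwist 𝒮 p chart 1 O1 lam)
  (p' : P' ⟶ S')
  (chart' : ∀ (U' : S'.Opens) (hU' : IsAffineOpen U'),
    (((p' ⁻¹ᵁ U' : P'.Opens) : Scheme.{u}) ≅ Proj (𝒮'.deg U' hU')))
  (hP' : RelProj.IsRelProj 𝒮' p' chart')
  (O1' : P'.Modules)
  (lam' : ∀ (U' : S'.Opens) (hU' : IsAffineOpen U'),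
    O1' ⟶ (Scheme.Modules.pushforward (RelProj.emb p' chart' U' hU')).obj (GrTwist.twist (𝒮'.deg U' hU') 1))
  (hO1' : RelProj.IsRelTwist 𝒮' p' chart' 1 O1' lam')

include hj hj' hP hP' hO1 hO1' in
/-- **Base change of projective bundles.** -/
theorem exists_isPullback_pullback_iso :
    ∃ h : P' ⟶ P, IsPullback h p' p g ∧ Nonempty ((Scheme.Modules.pullback h).obj O1 ≅ O1') := by
  have hbc := isQBaseChange_symBCGr g E hj hj'
  obtain ⟨⟨h, hh⟩, hpb⟩ := Groth.Agent.S12141.result g 𝒮 𝒮' (symBCGr g E hj hj') hbc p chart hP p' chart' hP'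
  refine ⟨h, hpb h hh, ?_⟩
  have hirr := Groth.Agent.Helper13ProjBC.hirr_of_isQBaseChange (symBCGr g E hj hj') hbc
  exact Groth.Agent.Lib.Seat57.K2.nonempty_pullback_iso (symBCGr g E hj hj') hirr p chart hP p' chart' hP' h
    (fun U hU U' hU' hle => Groth.Agent.Helper13ProjBC.emb_comp_of_isProjQMap (symBCGr g E hj hj') hh
      U hU U' hU' hle (hirr U hU U' hU' hle))
    O1 lam hO1 O1' lam' hO1' (isGenDegOne_of_isGrSymAlg E hj)

end Groth.Agent.Lib.Seat57.ProjBundleBC
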