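import Mathlib
import Groth.Prelude.Def_RelProj3
import Groth.Agent.Lib.Seat57K1
import Groth.Agent.Lib.Seat57GrSym
import Groth.Agent.Lib.Seat57ProjBundleBC
import Groth.Agent.Lib.Helper23AmpleIso
import Groth.Agent.Lib.Helper23QCohLocal
import Groth.Agent.Lib.Helper13ProjLine
import Groth.Agent.S8258
import Groth.Agent.S8284

/-!
# Seat57OpenImmVA: every invertible module is very ample relative to an open immersion `u` with
quasi-coherent direct image (e.g. `u` quasi-compact)

For `E = u_* L` one has `u^* E ≅ L`, so `P(u^* E) ≅ X`, and `P(u^* E) = P(E) ×_Y X ⟶ P(E)` is an open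
immersion along which `O(1)` pulls back to `O(1)`.
-/

set_option autoImplicit false
universe u
open CategoryTheory CategoryTheory.Limits AlgebraicGeometry TopologicalSpace Opposite
open scoped HomogeneousIdeal

namespace Groth.Agent.Lib.Seat57.OpenImmVA

open Groth.Agent.Lib.Seat57.GrSym

theorem isRelVeryAmple_of_isOpenImmersion {X Y : Scheme.{u}} (u : X ⟶ Y) [IsOpenImmersion u]
    (L : X.Modules) (hL : PicF.IsInvertible L)
    (hq : ((Scheme.Modules.pushforward u).obj L).IsQuasicoherent) :
    RelProj.IsRelVeryAmple u L := by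
  let E : Y.Modules := (Scheme.Modules.pushforward u).obj L
  have : E.IsQuasicoherent := hq
  let ε : (Scheme.Modules.pullback u).obj E ≅ L :=
    ((Scheme.Modules.restrictFunctorIsoPullback u).app E).symm ≪≫
      (Scheme.Modules.restrictFunctorAdjCounitIso u).app L
  have hL' : PicF.IsInvertible ((Scheme.Modules.pullback u).obj E) :=
    Groth.Agent.Lib.Helper23.AmpleIso.isInvertible_of_iso ε.symm hL
  have : ((Scheme.Modules.pullback u).obj E).IsQuasicoherent :=
    Groth.Agent.Lib.Helper23.SecTw.isQuasicoherent_of_isInvertible _ hL'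
  obtain ⟨P, p, chart, hP⟩ := Groth.Agent.S8258.result (grSymAlg E)
  obtain ⟨O1, lam, hO1⟩ := Groth.Agent.S8284.result (grSymAlg E) p chart hP 1
  obtain ⟨P', p', chart', hP'⟩ :=
    Groth.Agent.S8258.result (grSymAlg ((Scheme.Modules.pullback u).obj E))
  obtain ⟨O1', lam', hO1'⟩ :=
    Groth.Agent.S8284.result (grSymAlg ((Scheme.Modules.pullback u).obj E)) p' chart' hP' 1
  have hj := isGrSymAlg E
  have hj' := isGrSymAlg ((Scheme.Modules.pullback u).obj E)
  obtain ⟨h, hpb, ⟨e1⟩⟩ := Groth.Agent.Lib.Seat57.ProjBundleBC.exists_isPullback_pullback_iso u E hj hj'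
    p chart hP O1 lam hO1 p' chart' hP' O1' lam' hO1'
  have : IsIso p' := Groth.Agent.Helper13ProjLine.isIso_relProj _ _ _ hj' p' chart' hP' hL'
  obtain ⟨e2⟩ := Groth.Agent.Lib.Seat57.K1.nonempty_pullback_section_iso _ _ _ hj' p' chart' hP'
    O1' lam' hO1' hL' (inv p') (IsIso.inv_hom_id p')
  have hh : IsOpenImmersion h := MorphismProperty.of_isPullback hpb.flip inferInstance
  refine ⟨E, hq, grSymAlg E, _, hj, P, p, chart, hP, O1, lam, hO1, inv p' ≫ h, inferInstance, ?_, ⟨?_⟩⟩
  · rw [Category.assoc, hpb.w, IsIso.inv_hom_id_assoc]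
  · exact ε.symm ≪≫ e2.symm ≪≫ (Scheme.Modules.pullback (inv p')).mapIso e1.symm ≪≫
      (Scheme.Modules.pullbackComp (inv p') h).app O1

end Groth.Agent.Lib.Seat57.OpenImmVA
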