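import Mathlib
import Groth.Prelude.Def_RelProj4
import Groth.Prelude.Def_LCI2
import Groth.Agent.Lib.Helper13RLg
import Groth.Agent.Lib.Helper23RestrJ
import Groth.Agent.Lib.Helper23Restr2
import Groth.Agent.Lib.Helper23AmpleIso
import Groth.Agent.Lib.Helper23SecTw7

/-!
# Seat57RLAmple: if `r_{L,ψ} : Proj(Sym L) ≅ X → Proj(𝒜)` is everywhere defined and a topological
embedding, then `L` is ample relative to `f` (EGA II 4.6.? direction "immersion ⇒ ample")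
-/

set_option autoImplicit false
universe u
open CategoryTheory Limits AlgebraicGeometry TopologicalSpace Opposite

namespace Groth.Agent.Lib.Seat57.RLAmple

open Groth.Agent.Helper13SymAlg Groth.Agent.Helper13ProjLine Groth.Agent.Helper13GrPoly
  Groth.Agent.Lib.Helper23.SecTw Groth.Agent.Lib.Helper6 Groth.Agent.Lib.Helper23.AmpleIso

section Coef

theorem res_self' {X : Scheme.{u}} (F : X.Modules) {U : X.Opens} (s : Γ(F, U)) :
    res F (le_refl U) s = s := by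
  change F.presheaf.map (𝟙 (op U)) s = s
  rw [F.presheaf.map_id]
  rfl

variable {X : Scheme.{u}} (L : X.Modules) [L.IsQuasicoherent]
  (𝒮L : RelProj.QCGrAlg X) (j : L ⟶ 𝒮L.toModule) (hj : RelProj.IsGrSymAlg L 𝒮L j)

/-- a generator over an affine open gives a one-element basis -/
theorem exists_basis_of_isGen {W : X.Opens} (e : Γ(L, W)) (he : IsGen L W e) :
    ∃ b : Module.Basis (Fin 1) Γ(X, W) Γ(L, W), b 0 = e := by
  have hbij := he W le_rfl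
  have hres : res L (le_refl W) e = e := res_self' L e
  let ε : Γ(X, W) ≃ₗ[Γ(X, W)] Γ(L, W) :=
    LinearEquiv.ofBijective
      { toFun := fun r => r • e
        map_add' := fun a b => add_smul a b e
        map_smul' := fun a b => by simp [mul_smul] }
      (by
        simp only [hres] at hbij
        exact hbij)
  refine ⟨(Module.Basis.singleton (Fin 1) Γ(X, W)).map ε, ?_⟩
  simp [ε]

include hj in
theorem exists_coefS {W : X.Opens} (hW : IsAffineOpen W) (e : Γ(L, W)) (he : IsGen L W e) {n : ℕ}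
    {τ : 𝒮L.presheaf.obj (op W)} (hτ : τ ∈ 𝒮L.deg W hW n) :
    ∃ c : Γ(X, W), τ = (𝒮L.str.app (op W)).hom c * (φAdd L 𝒮L.toQCAlg j W e) ^ n := by
  obtain ⟨b, hb⟩ := exists_basis_of_isGen L e he
  have hpoly := bijective_eval₂ L 𝒮L j hj hW b
  rw [hb] at hpoly
  exact exists_eq_mul_pow (𝒮L.deg W hW) (𝒮L.str.app (op W)).hom (𝒮L.str_mem W hW)
    (φAdd L 𝒮L.toQCAlg j W e) (hj.2 W hW e) hpoly n τ hτ

include hj in
theorem coefS_unique {W : X.Opens} (hW : IsAffineOpen W) (e : Γ(L, W)) (he : IsGen L W e) (n : ℕ)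
    (c c' : Γ(X, W))
    (h : (𝒮L.str.app (op W)).hom c * (φAdd L 𝒮L.toQCAlg j W e) ^ n =
      (𝒮L.str.app (op W)).hom c' * (φAdd L 𝒮L.toQCAlg j W e) ^ n) : c = c' := by
  obtain ⟨b, hb⟩ := exists_basis_of_isGen L e he
  have hpoly := bijective_eval₂ L 𝒮L j hj hW b
  rw [hb] at hpoly
  have h1 : (φAdd L 𝒮L.toQCAlg j W e) ^ n * (𝒮L.str.app (op W)).hom (c - c') = 0 := by
    rw [map_sub, mul_sub, mul_comm, h, mul_comm]
    exact sub_self _
  have := pow_mul_eq_zero (𝒮L.str.app (op W)).hom (φAdd L 𝒮L.toQCAlg j W e) hpoly n (c - c') h1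
  exact sub_eq_zero.mp this

/-- restriction of a monomial `c T^n` -/
theorem map_monomial {W W' : X.Opens} (h : W' ≤ W) (e : Γ(L, W)) (n : ℕ) (c : Γ(X, W)) :
    (𝒮L.presheaf.map (homOfLE h).op).hom
        ((𝒮L.str.app (op W)).hom c * (φAdd L 𝒮L.toQCAlg j W e) ^ n) =
      (𝒮L.str.app (op W')).hom (resf h c) * (φAdd L 𝒮L.toQCAlg j W' (res L h e)) ^ n := by
  have h1 : (𝒮L.presheaf.map (homOfLE h).op).hom ((𝒮L.str.app (op W)).hom c) =
      (𝒮L.str.app (op W')).hom (resf h c) :=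
    (congr($(𝒮L.str.naturality (homOfLE h).op) c)).symm
  have h2 : (𝒮L.presheaf.map (homOfLE h).op).hom (φAdd L 𝒮L.toQCAlg j W e) =
      φAdd L 𝒮L.toQCAlg j W' (res L h e) := (φAdd_res L 𝒮L.toQCAlg j h e).symm
  rw [map_mul, map_pow, h1, h2]


/-- frames (affine open + generator) inside an open `U` -/
structure FrU (U : X.Opens) where
  W : X.Opens
  hW : IsAffineOpen W
  hle : W ≤ U
  e : Γ(L, W)
  he : IsGen L W e

include hj in
/-- compatibility of the local monomial descriptions -/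
theorem coef_compat {W₁ W₂ W' : X.Opens} (hW' : IsAffineOpen W') (h₁ : W' ≤ W₁) (h₂ : W' ≤ W₂)
    (e₁ : Γ(L, W₁)) (e₂ : Γ(L, W₂)) (he₂ : IsGen L W₂ e₂) (n : ℕ)
    (c₁ : Γ(X, W₁)) (c₂ : Γ(X, W₂))
    (h : (𝒮L.presheaf.map (homOfLE h₁).op).hom
        ((𝒮L.str.app (op W₁)).hom c₁ * (φAdd L 𝒮L.toQCAlg j W₁ e₁) ^ n) =
      (𝒮L.presheaf.map (homOfLE h₂).op).hom
        ((𝒮L.str.app (op W₂)).hom c₂ * (φAdd L 𝒮L.toQCAlg j W₂ e₂) ^ n)) :
    res (CohB1.tensorPow L n) h₁ (c₁ • pw L W₁ e₁ n) = res (CohB1.tensorPow L n) h₂ (c₂ • pw L W₂ e₂ n) := by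
  have he' : IsGen L W' (res L h₂ e₂) := he₂.mono h₂
  obtain ⟨γ, hγ⟩ : ∃ γ : Γ(X, W'), res L h₁ e₁ = γ • res L h₂ e₂ :=
    ⟨coef he₂ h₂ _, (coef_spec he₂ h₂ _).symm⟩
  rw [map_monomial, map_monomial, hγ, φAdd_smul, mul_pow, ← mul_assoc, ← map_pow, ← map_mul] at h
  have hc := coefS_unique L 𝒮L j hj hW' (res L h₂ e₂) he' n _ _ h
  rw [res_smul, res_smul, res_pw, res_pw, hγ, pw_smul, ← mul_smul, hc]

include hj in
/-- **gluing a homogeneous section of `Sym L` of degree `n` to a section of `L^{⊗ n}`** -/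
theorem exists_section (hL : PicF.IsInvertible L) (U : X.Opens) (n : ℕ) (t : 𝒮L.presheaf.obj (op U))
    (hdeg : ∀ (W : X.Opens) (hW : IsAffineOpen W) (hle : W ≤ U),
      (𝒮L.presheaf.map (homOfLE hle).op).hom t ∈ 𝒮L.deg W hW n) :
    ∃ σ : Γ(CohB1.tensorPow L n, U), ∀ (W : X.Opens) (hW : IsAffineOpen W) (hle : W ≤ U) (e : Γ(L, W))
      (_ : IsGen L W e) (c : Γ(X, W)),
      (𝒮L.presheaf.map (homOfLE hle).op).hom t =
        (𝒮L.str.app (op W)).hom c * (φAdd L 𝒮L.toQCAlg j W e) ^ n →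
      res (CohB1.tensorPow L n) hle σ = c • pw L W e n := by
  have hc : ∀ p : FrU L U, ∃ c : Γ(X, p.W), (𝒮L.presheaf.map (homOfLE p.hle).op).hom t =
      (𝒮L.str.app (op p.W)).hom c * (φAdd L 𝒮L.toQCAlg j p.W p.e) ^ n :=
    fun p => exists_coefS L 𝒮L j hj p.hW p.e p.he (hdeg p.W p.hW p.hle)
  choose c hcs using hc
  have hres : ∀ (p : FrU L U) {W' : X.Opens} (h : W' ≤ p.W),
      (𝒮L.presheaf.map (homOfLE h).op).hom
        ((𝒮L.str.app (op p.W)).hom (c p) * (φAdd L 𝒮L.toQCAlg j p.W p.e) ^ n) =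
      (𝒮L.presheaf.map (homOfLE (h.trans p.hle)).op).hom t := by
    intro p W' h
    rw [← hcs p, ← CommRingCat.comp_apply, ← Functor.map_comp]
    rfl
  have hcov : U ≤ ⨆ p : FrU L U, p.W := by
    intro x hx
    obtain ⟨W, e, hxW, he⟩ := exists_gen L hL x
    obtain ⟨A, hA, hxA, hAle⟩ := exists_isAffineOpen_mem_and_subset (x := x) (U := W ⊓ U) ⟨hxW, hx⟩
    exact Opens.mem_iSup.2 ⟨⟨A, hA, hAle.trans inf_le_right, res L (hAle.trans inf_le_left) e,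
      he.mono (hAle.trans inf_le_left)⟩, hxA⟩
  have hcompat : TopCat.Presheaf.IsCompatible (modSheaf (CohB1.tensorPow L n)).1 (fun p : FrU L U => p.W)
      (fun p => c p • pw L p.W p.e n) := by
    intro p q
    change res (CohB1.tensorPow L n) (inf_le_left : p.W ⊓ q.W ≤ p.W) (c p • pw L p.W p.e n) =
      res (CohB1.tensorPow L n) (inf_le_right : p.W ⊓ q.W ≤ q.W) (c q • pw L q.W q.e n)
    refine (modSheaf (CohB1.tensorPow L n)).eq_of_locally_eq'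
      (fun A : {A : X.Opens // IsAffineOpen A ∧ A ≤ p.W ⊓ q.W} => A.1) (p.W ⊓ q.W)
      (fun A => homOfLE A.2.2) ?_ _ _ (fun A => ?_)
    · intro x hx
      obtain ⟨A, hA, hxA, hAle⟩ := exists_isAffineOpen_mem_and_subset (x := x) (U := p.W ⊓ q.W) hx
      exact Opens.mem_iSup.2 ⟨⟨A, hA, hAle⟩, hxA⟩
    · change res _ A.2.2 (res _ _ _) = res _ A.2.2 (res _ _ _)
      rw [res_res, res_res]
      refine coef_compat L 𝒮L j hj A.2.1 (A.2.2.trans inf_le_left) (A.2.2.trans inf_le_right)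
        p.e q.e q.he n (c p) (c q) ?_
      rw [hres p, hres q]
  obtain ⟨σ, hσ, -⟩ := (modSheaf (CohB1.tensorPow L n)).existsUnique_gluing' (fun p : FrU L U => p.W) U
    (fun p => homOfLE p.hle) hcov _ hcompat
  refine ⟨σ, fun W hW hle e he c' hc' => ?_⟩
  have h1 := hσ ⟨W, hW, hle, e, he⟩
  have h2 : c' = c ⟨W, hW, hle, e, he⟩ :=
    coefS_unique L 𝒮L j hj hW e he n _ _ (hc'.symm.trans (hcs ⟨W, hW, hle, e, he⟩))
  rw [h2]
  exact h1

end Coef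

section SecU

variable {X : Scheme.{u}} (M : X.Modules) (U : X.Opens)

/-- a section over `U`, as a global section of the restriction to the open subscheme `U` -/
noncomputable def secU (σ : Γ(M, U)) : Coh.structureModule (↑U : Scheme.{u}) ⟶ M.restrict U.ι :=
  secHom (M.restrict U.ι) (show Γ(M.restrict U.ι, ⊤) from res M (image_le_self U ⊤) σ)

/-- the generating locus of a section over `U`, computed in a frame -/
theorem genLocus_secU_inf (σ : Γ(M, U)) {W : X.Opens} (hWU : W ≤ U) (e : Γ(M, W)) (he : IsGen M W e)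
    (c : Γ(X, W)) (h : res M hWU σ = c • e) :
    CohB1.genLocus _ (secU M U σ) ⊓ U.ι ⁻¹ᵁ W = U.ι ⁻¹ᵁ X.basicOpen c := by
  have hle : U.ι ''ᵁ (U.ι ⁻¹ᵁ W) ≤ W := by
    rw [Scheme.Hom.image_preimage_eq_opensRange_inf]
    exact inf_le_right
  have he' : IsGen M (U.ι ''ᵁ (U.ι ⁻¹ᵁ W)) (res M hle e) := he.mono hle
  have hA := isGen_restrict_of_isGen M U (U.ι ⁻¹ᵁ W) (res M hle e) he'
  have hsv : sv (secU M U σ) (U.ι ⁻¹ᵁ W) =
      ((show Γ((↑U : Scheme.{u}), U.ι ⁻¹ᵁ W) from (resf hle c : Γ(X, U.ι ''ᵁ (U.ι ⁻¹ᵁ W)))) •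
        (show Γ(M.restrict U.ι, U.ι ⁻¹ᵁ W) from res M hle e) : Γ(M.restrict U.ι, U.ι ⁻¹ᵁ W)) := by
    unfold secU
    rw [sv_secHom, res_restrict, smul_restrict_eq]
    change res M _ (res M _ σ) = resf hle c • res M hle e
    rw [res_res, ← res_smul, ← h, res_res]
  rw [genLocus_inf_eq_of_isGen _ _ _ _ _ hA hsv, Scheme.preimage_basicOpen]
  rfl

end SecU

section Main

open Groth.Agent.Helper13RelProj Groth.Agent.Helper13RL

variable {X Y P PL : Scheme.{u}} {f : X ⟶ Y}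
  (L : X.Modules) [L.IsQuasicoherent]
  (𝒮L : RelProj.QCGrAlg X) (jL : L ⟶ 𝒮L.toModule) (hjL : RelProj.IsGrSymAlg L 𝒮L jL)
  {pL : PL ⟶ X}
  {chartL : ∀ (U : X.Opens) (hU : IsAffineOpen U),
    (((pL ⁻¹ᵁ U : PL.Opens) : Scheme.{u}) ≅ Proj (𝒮L.deg U hU))}
  (hPL : RelProj.IsRelProj 𝒮L pL chartL)
  {𝒜 : RelProj.QCGrAlg Y} (u : RelProj.QGrHom f 𝒜 𝒮L)
  {p : P ⟶ Y}
  {chart : ∀ (U : Y.Opens) (hU : IsAffineOpen U),
    (((p ⁻¹ᵁ U : P.Opens) : Scheme.{u}) ≅ Proj (𝒜.deg U hU))}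
  (hP : RelProj.IsRelProj 𝒜 p chart)
  {r : ((RelProj.domQ u pL chartL : PL.Opens) : Scheme.{u}) ⟶ P}
  (hr : RelProj.IsProjQMapOn u p chart pL chartL (RelProj.domQ u pL chartL) r)

include hjL hPL in
/-- `D₊(c Tⁿ)` in `Proj (Sym L)(W)` is the part over `D(c)` -/
theorem mem_basicOpen_monomial_iff {W : X.Opens} (hW : IsAffineOpen W) (e : Γ(L, W)) (he : IsGen L W e)
    (n : ℕ) (c : Γ(X, W)) (z : Proj (𝒮L.deg W hW)) :
    z ∈ Proj.basicOpen (𝒮L.deg W hW)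
        ((𝒮L.str.app (op W)).hom c * (φAdd L 𝒮L.toQCAlg jL W e) ^ n) ↔
      pL.base ((RelProj.emb pL chartL W hW).base z) ∈ X.basicOpen c := by
  obtain ⟨b, hb⟩ := exists_basis_of_isGen L e he
  have hpoly := bijective_eval₂ L 𝒮L jL hjL hW b
  rw [hb] at hpoly
  have htop := basicOpen_eq_top (𝒮L.deg W hW) (𝒮L.str.app (op W)).hom (𝒮L.str_mem W hW)
    (φAdd L 𝒮L.toQCAlg jL W e) (hjL.2 W hW e) hpoly
  have hT : (φAdd L 𝒮L.toQCAlg jL W e) ∉ z.asHomogeneousIdeal := by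
    have : z ∈ Proj.basicOpen (𝒮L.deg W hW) (φAdd L 𝒮L.toQCAlg jL W e) := by rw [htop]; trivial
    exact (ProjectiveSpectrum.mem_basicOpen _ _ z).mp this
  rw [pL_emb_mem_basicOpen_iff hPL hW c z, Proj.basicOpen_mul]
  constructor
  · intro h; exact h.1
  · intro h
    refine ⟨h, (ProjectiveSpectrum.mem_basicOpen _ _ z).mpr (fun hmem => hT ?_)⟩
    exact z.isPrime.mem_of_pow_mem n hmem

include hjL hPL hP hr in
/-- the generating locus of the section of `L^{⊗ n}` over `f⁻¹V₀` glued from `u a` is the preimage of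
`D₊(a)` under `r` -/
theorem mem_genLocus_iff (hL : PicF.IsInvertible L) (V₀ : Y.Opens) (hV₀ : IsAffineOpen V₀) {n : ℕ}
    (hn : 0 < n) {a : 𝒜.presheaf.obj (op V₀)} (ha : a ∈ 𝒜.deg V₀ hV₀ n)
    (σ : Γ(CohB1.tensorPow L n, f ⁻¹ᵁ V₀))
    (hσ : ∀ (W : X.Opens) (_ : IsAffineOpen W) (hle : W ≤ f ⁻¹ᵁ V₀) (e : Γ(L, W))
      (_ : IsGen L W e) (c : Γ(X, W)),
      (𝒮L.presheaf.map (homOfLE hle).op).hom ((u.app V₀).hom a) =
        (𝒮L.str.app (op W)).hom c * (φAdd L 𝒮L.toQCAlg jL W e) ^ n →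
      res (CohB1.tensorPow L n) hle σ = c • pw L W e n)
    (x' : (↑(f ⁻¹ᵁ V₀) : Scheme.{u})) (y' : ((RelProj.domQ u pL chartL : PL.Opens) : Scheme.{u}))
    (hy' : pL.base ((RelProj.domQ u pL chartL).ι.base y') = x'.1) :
    x' ∈ CohB1.genLocus _ (secU (CohB1.tensorPow L n) (f ⁻¹ᵁ V₀) σ) ↔
      r.base y' ∈ (RelProj.emb p chart V₀ hV₀) ''ᵁ Proj.basicOpen (𝒜.deg V₀ hV₀) a := by
  obtain ⟨W₀, e₀, hxW₀, he₀⟩ := exists_gen L hL x'.1
  obtain ⟨W, hW, hxW, hWle⟩ := exists_isAffineOpen_mem_and_subset (x := x'.1)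
    (U := W₀ ⊓ f ⁻¹ᵁ V₀) ⟨hxW₀, x'.2⟩
  have hWU : W ≤ f ⁻¹ᵁ V₀ := hWle.trans inf_le_right
  have he : IsGen L W (res L (hWle.trans inf_le_left) e₀) := he₀.mono _
  generalize res L (hWle.trans inf_le_left) e₀ = e at he
  have htW : (𝒮L.presheaf.map (homOfLE hWU).op).hom ((u.app V₀).hom a) ∈ 𝒮L.deg W hW n :=
    u.map_mem V₀ hV₀ W hW hWU ha
  obtain ⟨c, hc⟩ := exists_coefS L 𝒮L jL hjL hW e he htW
  have hres := hσ W hW hWU e he c hc
  have h1 := genLocus_secU_inf (CohB1.tensorPow L n) (f ⁻¹ᵁ V₀) σ hWU (pw L W e n)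
    (isGen_pw L W e he n) c hres
  have hG : x' ∈ CohB1.genLocus _ (secU (CohB1.tensorPow L n) (f ⁻¹ᵁ V₀) σ) ↔
      x'.1 ∈ X.basicOpen c := by
    constructor
    · intro hx
      have : x' ∈ CohB1.genLocus _ (secU (CohB1.tensorPow L n) (f ⁻¹ᵁ V₀) σ) ⊓
          (f ⁻¹ᵁ V₀).ι ⁻¹ᵁ W := ⟨hx, hxW⟩
      rw [h1] at this
      exact this
    · intro hx
      have : x' ∈ (f ⁻¹ᵁ V₀).ι ⁻¹ᵁ X.basicOpen c := hx
      rw [← h1] at this
      exact this.1
  have h2 := image_preimage_basicOpen u hP hPL hr (⟨V₀, hV₀, W, hW, hWU⟩ : APair f) hn ha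
  have hφ : (φV u (⟨V₀, hV₀, W, hW, hWU⟩ : APair f)) a =
      (𝒮L.str.app (op W)).hom c * (φAdd L 𝒮L.toQCAlg jL W e) ^ n := hc
  have hyW : pL.base ((RelProj.domQ u pL chartL).ι.base y') ∈ W := by rw [hy']; exact hxW
  obtain ⟨z, hz⟩ := exists_chart_point (chartB := chartL) W hW _ hyW
  have h3 : r.base y' ∈ (RelProj.emb p chart V₀ hV₀) ''ᵁ Proj.basicOpen (𝒜.deg V₀ hV₀) a ↔
      (RelProj.domQ u pL chartL).ι.base y' ∈
        (RelProj.domQ u pL chartL).ι ''ᵁ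
          (r ⁻¹ᵁ ((RelProj.emb p chart V₀ hV₀) ''ᵁ Proj.basicOpen (𝒜.deg V₀ hV₀) a)) ⊓
        pL ⁻¹ᵁ W := by
    constructor
    · intro h
      exact ⟨⟨y', h, rfl⟩, hyW⟩
    · rintro ⟨⟨y'', hy'', he'⟩, -⟩
      rw [← (RelProj.domQ u pL chartL).ι.isOpenEmbedding.injective he']
      exact hy''
  rw [hG, h3]
  erw [h2]
  rw [hφ, ← hz]
  have h4 : (RelProj.emb pL chartL W hW).base z ∈ (RelProj.emb pL chartL W hW) ''ᵁ
      Proj.basicOpen (𝒮L.deg W hW)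
        ((𝒮L.str.app (op W)).hom c * (φAdd L 𝒮L.toQCAlg jL W e) ^ n) ↔
      z ∈ Proj.basicOpen (𝒮L.deg W hW)
        ((𝒮L.str.app (op W)).hom c * (φAdd L 𝒮L.toQCAlg jL W e) ^ n) := by
    constructor
    · rintro ⟨z', hz', hzz'⟩
      rw [← (RelProj.emb pL chartL W hW).isOpenEmbedding.injective hzz']
      exact hz'
    · intro h
      exact ⟨z, h, rfl⟩
  rw [h4, mem_basicOpen_monomial_iff L 𝒮L jL hjL hPL hW e he n c z, hz, hy']

include hjL hPL hP hr in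
/-- **if `r_{L,ψ}` is everywhere defined and a topological embedding, then `L` is `f`-ample** -/
theorem isRelAmple_of_isEmbedding [QuasiCompact f] (hL : PicF.IsInvertible L)
    (htop : RelProj.domQ u pL chartL = ⊤) (hemb : Topology.IsEmbedding r.base) :
    RelAmple.IsRelAmple f L := by
  have : IsIso pL := isIso_relProj L 𝒮L jL hjL pL chartL hPL hL
  refine ⟨inferInstance, fun V => ?_⟩
  have hcs : CompactSpace ((↑(f ⁻¹ᵁ V.1) : Scheme.{u})) :=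
    isCompact_iff_compactSpace.1 (QuasiCompact.isCompact_preimage (f := f) _ V.1.2 V.2.isCompact)
  refine ⟨isInvertible_restrict L hL _, hcs, fun x => ?_⟩
  -- points of `G(u) = PL` over points of `X`
  have hpt : ∀ x' : X, ∃ y' : ((RelProj.domQ u pL chartL : PL.Opens) : Scheme.{u}),
      pL.base ((RelProj.domQ u pL chartL).ι.base y') = x' := by
    intro x'
    have hyd : (inv pL).base x' ∈ RelProj.domQ u pL chartL := by rw [htop]; trivial
    refine ⟨⟨(inv pL).base x', hyd⟩, ?_⟩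
    change pL.base ((inv pL).base x') = x'
    rw [← Scheme.Hom.comp_apply, IsIso.inv_hom_id]
    rfl
  obtain ⟨y', hy'⟩ := hpt x.1
  obtain ⟨A, hA, hxA, hAle⟩ := exists_isAffineOpen_mem_and_subset (x := x.1) (U := f ⁻¹ᵁ V.1) x.2
  have hcomp := qmapOn_comp u hP hPL hr
  have hpr : p.base (r.base y') ∈ V.1 := by
    rw [← Scheme.Hom.comp_apply, hcomp, Scheme.Hom.comp_apply, Scheme.Hom.comp_apply, hy']
    exact x.2
  obtain ⟨z₀, hz₀⟩ := exists_chart_point (chartB := chart) V.1 V.2 _ hpr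
  -- an open of `P` cutting out the part over `A`
  obtain ⟨B, hB, hBA⟩ := hemb.isInducing.isOpen_iff.1
    ((RelProj.domQ u pL chartL).ι ⁻¹ᵁ pL ⁻¹ᵁ A).isOpen
  have hmemB : ∀ y'' : ((RelProj.domQ u pL chartL : PL.Opens) : Scheme.{u}),
      r.base y'' ∈ B ↔ pL.base ((RelProj.domQ u pL chartL).ι.base y'') ∈ A := by
    intro y''
    have : y'' ∈ r.base ⁻¹' B ↔
        y'' ∈ (((RelProj.domQ u pL chartL).ι ⁻¹ᵁ pL ⁻¹ᵁ A : Opens _) : Set _) := by rw [hBA]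
    exact this
  have hz₀O : z₀ ∈ (RelProj.emb p chart V.1 V.2) ⁻¹ᵁ (⟨B, hB⟩ : P.Opens) := by
    change (RelProj.emb p chart V.1 V.2).base z₀ ∈ B
    rw [hz₀, hmemB, hy']
    exact hxA
  obtain ⟨n, a, hn, ha, hza, haO⟩ := exists_homogeneous_basicOpen_le (𝒜.deg V.1 V.2) _ z₀ hz₀O
  obtain ⟨n', rfl⟩ : ∃ n', n = n' + 1 := ⟨n - 1, by omega⟩
  -- the section
  obtain ⟨σ, hσ⟩ := exists_section L 𝒮L jL hjL hL (f ⁻¹ᵁ V.1) (n' + 1) ((u.app V.1).hom a)
    (fun W hW hle => u.map_mem V.1 V.2 W hW hle ha)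
  obtain ⟨Φ⟩ := nonempty_restrict_tensorPow_iso L hL (f ⁻¹ᵁ V.1) (n' + 1)
  refine ⟨n', secU _ _ σ ≫ Φ.hom, ?_, ?_⟩
  · rw [genLocus_comp_iso,
      mem_genLocus_iff L 𝒮L jL hjL hPL u hP hr hL V.1 V.2 hn ha σ hσ x y' hy', ← hz₀]
    exact ⟨z₀, hza, rfl⟩
  · rw [genLocus_comp_iso]
    have hle : CohB1.genLocus _ (secU (CohB1.tensorPow L (n' + 1)) (f ⁻¹ᵁ V.1) σ) ≤
        (f ⁻¹ᵁ V.1).ι ⁻¹ᵁ A := by
      intro x' hx'
      obtain ⟨y'', hy''⟩ := hpt x'.1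
      rw [mem_genLocus_iff L 𝒮L jL hjL hPL u hP hr hL V.1 V.2 hn ha σ hσ x' y'' hy''] at hx'
      obtain ⟨z, hz, hzr⟩ := hx'
      have hzB : (RelProj.emb p chart V.1 V.2).base z ∈ B := haO hz
      have hzr' : (RelProj.emb p chart V.1 V.2).base z = r.base y'' := hzr
      rw [hzr', hmemB, hy''] at hzB
      exact hzB
    have haff : IsAffineOpen ((f ⁻¹ᵁ V.1).ι ⁻¹ᵁ A) :=
      hA.preimage_of_isOpenImmersion _ (by rw [Scheme.Opens.opensRange_ι]; exact hAle)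
    have h2 := isAffineOpen_inf_genLocus _
      (isInvertible_restrict _ (isInvertible_tensorPow hL (n' + 1)) (f ⁻¹ᵁ V.1))
      (secU (CohB1.tensorPow L (n' + 1)) (f ⁻¹ᵁ V.1) σ) _ haff
    rw [inf_eq_right.2 hle] at h2
    exact h2

end Main

end Groth.Agent.Lib.Seat57.RLAmple
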