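import Mathlib
import Groth.Agent.Lib.Helper13RLg

/-!
# Seat57RLChart: the chart square of `r_{L,ψ}` at a homogeneous section over an affine open `V₀` of the
base (relative version of the `Chart` section of `Helper13RLg`, which treats an affine base)
-/

set_option autoImplicit false
set_option linter.style.haveILetI false
universe u
open CategoryTheory CategoryTheory.Limits AlgebraicGeometry Opposite TopologicalSpace
open HomogeneousLocalization
open scoped HomogeneousIdeal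

namespace Groth.Agent.Lib.Seat57.RLChart

open Groth.Agent.Helper13RelProj Groth.Agent.Helper13SymAlg Groth.Agent.Helper13SymLoc
open Groth.Agent.Helper13GrPoly Groth.Agent.Helper13ProjLine Groth.Agent.Helper13RL

section Theta

variable {X PL : Scheme.{u}} (𝒮L : RelProj.QCGrAlg X) {pL : PL ⟶ X}
  {chartL : ∀ (U' : X.Opens) (hU' : IsAffineOpen U'),
    ((pL ⁻¹ᵁ U' : PL.Opens) : Scheme.{u}) ≅ Proj (𝒮L.deg U' hU')}
  (hPL : RelProj.IsRelProj 𝒮L pL chartL)

include hPL in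
/-- if `D₊(τ)` is all of `Proj 𝒮L(V)` and `Proj 𝒮L ≅ X`, functions on `V` are `𝒮L(V)_{(τ)}` -/
theorem theta_bijective [IsIso pL] {V : X.Opens} (hV : IsAffineOpen V) {n : ℕ} (hn : 0 < n)
    {τ : 𝒮L.presheaf.obj (op V)} (hmem : τ ∈ 𝒮L.deg V hV n)
    (htop : Proj.basicOpen (𝒮L.deg V hV) τ = ⊤) :
    Function.Bijective ((fromZeroRingHom (𝒮L.deg V hV)
      (Submonoid.powers τ)).comp (𝒮L.strZero V hV).hom) := by
  haveI : IsIso (Proj.awayι (𝒮L.deg V hV) τ hmem hn) := by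
    have h1 : (Proj.awayι (𝒮L.deg V hV) τ hmem hn).opensRange = ⊤ := by
      rw [Proj.opensRange_awayι]; exact htop
    haveI : Epi (Proj.awayι (𝒮L.deg V hV) τ hmem hn).base := by
      rw [TopCat.epi_iff_surjective]
      intro x
      have : x ∈ (Proj.awayι (𝒮L.deg V hV) τ hmem hn).opensRange := by
        rw [h1]; trivial
      exact this
    exact IsOpenImmersion.isIso _
  have h2 : (chartL V hV).hom ≫ (Proj.toSpecZero (𝒮L.deg V hV) ≫
      Spec.map (𝒮L.strZero V hV)) ≫ hV.isoSpec.inv = pL ∣_ V := by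
    rw [← cancel_mono V.ι, morphismRestrict_ι, ← hPL.chart_over V hV]
    simp only [Category.assoc, IsAffineOpen.isoSpec_inv_ι]
  haveI : IsIso (Proj.toSpecZero (𝒮L.deg V hV) ≫ Spec.map (𝒮L.strZero V hV)) := by
    have : Proj.toSpecZero (𝒮L.deg V hV) ≫ Spec.map (𝒮L.strZero V hV) =
        (chartL V hV).inv ≫ (pL ∣_ V) ≫ hV.isoSpec.hom := by
      rw [← h2]; simp
    rw [this]; infer_instance
  have h3 : Spec.map (𝒮L.strZero V hV ≫ CommRingCat.ofHom (fromZeroRingHom (𝒮L.deg V hV)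
      (Submonoid.powers τ))) =
      Proj.awayι (𝒮L.deg V hV) τ hmem hn ≫
        Proj.toSpecZero (𝒮L.deg V hV) ≫ Spec.map (𝒮L.strZero V hV) := by
    rw [Spec.map_comp, Proj.awayι_toSpecZero_assoc]
  have h4 : IsIso (Spec.map (𝒮L.strZero V hV ≫ CommRingCat.ofHom (fromZeroRingHom (𝒮L.deg V hV)
      (Submonoid.powers τ)))) := by
    rw [h3]; infer_instance
  exact isIso_SpecMap_iff.mp h4

end Theta

section Chart

variable {Y X : Scheme.{u}} {q : X ⟶ Y}
  {𝒮 : RelProj.QCGrAlg Y} (𝒮L : RelProj.QCGrAlg X) (u : RelProj.QGrHom q 𝒮 𝒮L)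
  {P PL : Scheme.{u}} {p : P ⟶ Y}
  {chart : ∀ (U : Y.Opens) (hU : IsAffineOpen U),
    ((p ⁻¹ᵁ U : P.Opens) : Scheme.{u}) ≅ Proj (𝒮.deg U hU)}
  {pL : PL ⟶ X}
  {chartL : ∀ (U' : X.Opens) (hU' : IsAffineOpen U'),
    ((pL ⁻¹ᵁ U' : PL.Opens) : Scheme.{u}) ≅ Proj (𝒮L.deg U' hU')}
  (hP : RelProj.IsRelProj 𝒮 p chart) (hPL : RelProj.IsRelProj 𝒮L pL chartL)
  {r : ((RelProj.domQ u pL chartL : PL.Opens) : Scheme.{u}) ⟶ P}
  (hr : RelProj.IsProjQMapOn u p chart pL chartL (RelProj.domQ u pL chartL) r)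
  {V₀ : Y.Opens} (hV₀ : IsAffineOpen V₀) {n : ℕ} (hn : 0 < n) {s : 𝒮.presheaf.obj (op V₀)}
  (hs : s ∈ 𝒮.deg V₀ hV₀ n)
  {V : X.Opens} (hV : IsAffineOpen V) (hle : V ≤ q ⁻¹ᵁ V₀)
  (hVX : (RelProj.domQ u pL chartL).ι ''ᵁ
      (r ⁻¹ᵁ ((RelProj.emb p chart V₀ hV₀) ''ᵁ Proj.basicOpen (𝒮.deg V₀ hV₀) s)) = pL ⁻¹ᵁ V)

/-- the graded homomorphism `𝒮(V₀) → 𝒮L(V)` -/
noncomputable abbrev φT : 𝒮.deg V₀ hV₀ →+*ᵍ 𝒮L.deg V hV :=
  u.gradedAt V₀ hV₀ V hV hle

include hP hPL hr hn hs hVX in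
theorem basicOpen_φT_eq_top :
    Proj.basicOpen (𝒮L.deg V hV) (φT 𝒮L u hV₀ hV hle s) = ⊤ := by
  rw [eq_top_iff]
  intro z _
  have h1 := image_preimage_basicOpen u hP hPL hr (⟨V₀, hV₀, V, hV, hle⟩ : APair q) hn hs
  rw [hVX, inf_idem] at h1
  have h2 : (RelProj.emb pL chartL V hV).base z ∈ pL ⁻¹ᵁ V := emb_mem_preimage chartL V hV z
  rw [h1] at h2
  obtain ⟨z', hz', hzz⟩ := h2
  rw [← (RelProj.emb pL chartL V hV).isOpenEmbedding.injective hzz]
  exact hz'

/-- the standard chart of `P` at `s` -/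
noncomputable abbrev iV : Spec (CommRingCat.of (Away (𝒮.deg V₀ hV₀) s)) ⟶ P :=
  Proj.awayι (𝒮.deg V₀ hV₀) s hs hn ≫ RelProj.emb p chart V₀ hV₀

/-- the standard chart of `G(u)` at `s` over `V` -/
noncomputable abbrev iU :
    Spec (CommRingCat.of (Away (𝒮L.deg V hV) (φT 𝒮L u hV₀ hV hle s))) ⟶
      ((RelProj.domQ u pL chartL : PL.Opens) : Scheme.{u}) :=
  IsOpenImmersion.lift (RelProj.domQ u pL chartL).ι
    (RelProj.awayEmb u pL chartL V₀ hV₀ V hV hle hn s hs)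
    (RelProj.range_awayEmb_subset_domQ u pL chartL V₀ hV₀ V hV hle hn s hs)

instance : IsOpenImmersion (iU 𝒮L u (pL := pL) (chartL := chartL) hV₀ hn hs hV hle) := by
  have h0 : IsOpenImmersion (RelProj.awayEmb u pL chartL V₀ hV₀ V hV hle hn s hs) := by
    unfold RelProj.awayEmb; infer_instance
  have : IsOpenImmersion (iU 𝒮L u (pL := pL) (chartL := chartL) hV₀ hn hs hV hle ≫
      (RelProj.domQ u pL chartL).ι) := by
    rw [IsOpenImmersion.lift_fac]; exact h0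
  exact IsOpenImmersion.of_comp _ (RelProj.domQ u pL chartL).ι

theorem opensRange_iV :
    (iV (p := p) (chart := chart) hV₀ hn hs).opensRange =
      (RelProj.emb p chart V₀ hV₀) ''ᵁ Proj.basicOpen (𝒮.deg V₀ hV₀) s := by
  rw [Scheme.Hom.opensRange_comp, Proj.opensRange_awayι]

include hP hPL hr hVX in
/-- the chart square of `r` at `s` is a pullback square -/
theorem isPullback_chart :
    IsPullback (Spec.map (CommRingCat.ofHom (Away.map (φT 𝒮L u hV₀ hV hle) s)))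
      (iU 𝒮L u (pL := pL) (chartL := chartL) hV₀ hn hs hV hle)
      (iV (p := p) (chart := chart) hV₀ hn hs) r := by
  have hmem : φT 𝒮L u hV₀ hV hle s ∈ 𝒮L.deg V hV n := (φT 𝒮L u hV₀ hV hle).map_mem hs
  refine IsOpenImmersion.isPullback _ _ _ _ ?_ ?_
  · exact hr V₀ hV₀ V hV hle n hn s hs _
  · apply (RelProj.domQ u pL chartL).ι.image_injective
    dsimp only
    rw [opensRange_iV, hVX]
    have h0 : IsOpenImmersion (RelProj.awayEmb u pL chartL V₀ hV₀ V hV hle hn s hs) := by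
      unfold RelProj.awayEmb; infer_instance
    have h1 : (RelProj.awayEmb u pL chartL V₀ hV₀ V hV hle hn s hs).opensRange = pL ⁻¹ᵁ V := by
      unfold RelProj.awayEmb
      rw [Scheme.Hom.opensRange_comp, Proj.opensRange_awayι]
      change (RelProj.emb pL chartL V hV) ''ᵁ
        Proj.basicOpen (𝒮L.deg V hV) (φT 𝒮L u hV₀ hV hle s) = _
      rw [basicOpen_φT_eq_top 𝒮L u hP hPL hr hV₀ hn hs hV hle hVX,
        Scheme.Hom.image_top_eq_opensRange, opensRange_emb]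
    apply Opens.ext
    rw [← h1]
    have h2 : (((RelProj.domQ u pL chartL).ι ''ᵁ
        (iU 𝒮L u (pL := pL) (chartL := chartL) hV₀ hn hs hV hle).opensRange : PL.Opens) : Set PL) =
        Set.range (iU 𝒮L u (pL := pL) (chartL := chartL) hV₀ hn hs hV hle ≫
          (RelProj.domQ u pL chartL).ι).base := by
      rw [Scheme.Hom.comp_base, TopCat.coe_comp, Set.range_comp]
      rfl
    rw [h2, IsOpenImmersion.lift_fac]
    rfl

include hP hPL hr hVX hn hs in
/-- over the standard open `D₊(s)`, `r` is `Spec` of the map of degree-zero localizations -/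
theorem restrict_iff (Q : MorphismProperty Scheme.{u}) [Q.RespectsIso] :
    Q (r ∣_ ((RelProj.emb p chart V₀ hV₀) ''ᵁ Proj.basicOpen (𝒮.deg V₀ hV₀) s)) ↔
      Q (Spec.map (CommRingCat.ofHom (Away.map (φT 𝒮L u hV₀ hV hle) s))) := by
  rw [← opensRange_iV (p := p) (chart := chart) hV₀ hn hs]
  exact restrict_iff_of_isPullback Q
    (isPullback_chart 𝒮L u hP hPL hr hV₀ hn hs hV hle hVX)

include hP hPL hr hVX hn hs in
/-- condition (iii) is surjectivity of the map of degree-zero localizations -/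
theorem awayMap_surjective_iff [IsIso pL] :
    Function.Surjective (Away.map (φT 𝒮L u hV₀ hV hle) s) ↔
      ∀ t : X.presheaf.obj (op V), ∃ (m : ℕ) (_ : 0 < m) (s' : 𝒮.presheaf.obj (op V₀))
        (_ : s' ∈ 𝒮.deg V₀ hV₀ (m * n)),
        (𝒮L.str.app (op V)).hom t * (φT 𝒮L u hV₀ hV hle s) ^ m = φT 𝒮L u hV₀ hV hle s' := by
  have hmem : φT 𝒮L u hV₀ hV hle s ∈ 𝒮L.deg V hV n := (φT 𝒮L u hV₀ hV hle).map_mem hs
  have hθ := theta_bijective 𝒮L hPL hV hn hmem
    (basicOpen_φT_eq_top 𝒮L u hP hPL hr hV₀ hn hs hV hle hVX)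
  constructor
  · intro hsurj t
    obtain ⟨σ, hσ⟩ := hsurj ((fromZeroRingHom (𝒮L.deg V hV)
      (Submonoid.powers (φT 𝒮L u hV₀ hV hle s))) ((𝒮L.strZero V hV).hom t))
    obtain ⟨m, a, ha, rfl⟩ := Away.mk_surjective (𝒮.deg V₀ hV₀) hs σ
    rw [Away.map_mk] at hσ
    have hv := congr_arg HomogeneousLocalization.val hσ
    rw [Away.val_mk] at hv
    change _ = Localization.mk ((𝒮L.str.app (op V)).hom t) 1 at hv
    rw [Localization.mk_eq_mk_iff, Localization.r_iff_exists] at hv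
    obtain ⟨⟨_, k, rfl⟩, hk⟩ := hv
    simp only [OneMemClass.coe_one, one_mul] at hk
    refine ⟨m + k + 1, Nat.succ_pos _, s ^ (k + 1) * a, ?_, ?_⟩
    · have h1 : s ^ (k + 1) ∈ 𝒮.deg V₀ hV₀ ((k + 1) • n) := SetLike.pow_mem_graded _ hs
      have h2 := SetLike.mul_mem_graded h1 ha
      have e : (k + 1) • n + m • n = (m + k + 1) * n := by
        simp only [smul_eq_mul]; ring
      rw [e] at h2
      exact h2
    · rw [map_mul, map_pow]
      have e : (φT 𝒮L u hV₀ hV hle s) ^ (k + 1) * φT 𝒮L u hV₀ hV hle a =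
          φT 𝒮L u hV₀ hV hle s * ((φT 𝒮L u hV₀ hV hle s) ^ k * φT 𝒮L u hV₀ hV hle a) := by ring
      rw [e, hk]
      ring
  · intro H α
    obtain ⟨t, ht⟩ := hθ.2 α
    obtain ⟨m, hm, s', hs', hms⟩ := H t
    have hs'' : s' ∈ 𝒮.deg V₀ hV₀ (m • n) := by rwa [smul_eq_mul]
    refine ⟨Away.mk (𝒮.deg V₀ hV₀) hs m s' hs'', ?_⟩
    rw [Away.map_mk, ← ht]
    apply HomogeneousLocalization.val_injective
    rw [Away.val_mk]
    change _ = Localization.mk ((𝒮L.str.app (op V)).hom t) 1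
    rw [Localization.mk_eq_mk_iff, Localization.r_iff_exists]
    refine ⟨1, ?_⟩
    simp only [OneMemClass.coe_one, one_mul]
    rw [← hms, mul_comm]

end Chart

end Groth.Agent.Lib.Seat57.RLChart
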