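import Mathlib
import Groth.Prelude.Def_RelProj4
import Groth.Agent.Lib.Helper13RLg
import Groth.Agent.Lib.Helper13RLj

/-!
# Seat57RLDom: over an affine base, with `X` quasi-compact and `u` injective on global sections, an
everywhere defined `r_{L,ψ}` is quasi-compact and dominant (EGA II 4.5.? / S12692)
-/

set_option autoImplicit false
universe u
open CategoryTheory Limits AlgebraicGeometry TopologicalSpace Opposite

namespace Groth.Agent.Lib.Seat57.RLDom

open Groth.Agent.Helper13SymAlg Groth.Agent.Helper13ProjLine Groth.Agent.Helper13GrPoly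
open Groth.Agent.Helper13RelProj Groth.Agent.Helper13RL

/-- nilpotence is local over a quasi-compact open, for sections of a sheaf of rings -/
theorem isNilpotent_of_locally {X : Scheme.{u}} (𝒮 : RelSpec.QCAlg X) (U : X.Opens)
    (hU : IsCompact (U : Set X)) (t : 𝒮.presheaf.obj (op U))
    (h : ∀ x ∈ U, ∃ (V : X.Opens) (hVU : V ≤ U), x ∈ V ∧
      IsNilpotent ((𝒮.presheaf.map (homOfLE hVU).op).hom t)) : IsNilpotent t := by
  choose V hVU hxV hnil using h
  choose N hN using hnil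
  obtain ⟨T, hT⟩ := hU.elim_finite_subcover (fun x : U => (V x.1 x.2 : Set X)) (fun x => (V x.1 x.2).2)
    (fun x hx => Set.mem_iUnion.2 ⟨⟨x, hx⟩, hxV x hx⟩)
  refine ⟨T.sup (fun x => N x.1 x.2), ?_⟩
  refine TopCat.Sheaf.eq_of_locally_eq' (⟨𝒮.presheaf, 𝒮.isSheaf⟩ : TopCat.Sheaf CommRingCat X.toTopCat)
    (fun x : T => V x.1.1 x.1.2) U (fun x => homOfLE (hVU x.1.1 x.1.2)) ?_ _ _ (fun x => ?_)
  · intro y hy
    obtain ⟨x, hx⟩ := Set.mem_iUnion.1 (hT hy)
    obtain ⟨hxT, hyx⟩ := Set.mem_iUnion.1 hx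
    exact Opens.mem_iSup.2 ⟨⟨x, hxT⟩, hyx⟩
  · change (𝒮.presheaf.map (homOfLE (hVU x.1.1 x.1.2)).op).hom (t ^ T.sup (fun x => N x.1 x.2)) =
      (𝒮.presheaf.map (homOfLE (hVU x.1.1 x.1.2)).op).hom 0
    rw [map_pow, map_zero]
    exact pow_eq_zero_of_le (Finset.le_sup (f := fun x : U => N x.1 x.2) x.2) (hN x.1.1 x.1.2)

section Main

variable {X Y P PL : Scheme.{u}} {f : X ⟶ Y}
  (L : X.Modules) [L.IsQuasicoherent]
  (𝒮L : RelProj.QCGrAlg X) (jL : L ⟶ 𝒮L.toModule) (hjL : RelProj.IsGrSymAlg L 𝒮L jL)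
  {pL : PL ⟶ X}
  {chartL : ∀ (U : X.Opens) (hU : IsAffineOpen U),
    (((pL ⁻¹ᵁ U : PL.Opens) : Scheme.{u}) ≅ Proj (𝒮L.deg U hU))}
  (hPL : RelProj.IsRelProj 𝒮L pL chartL)
  {𝒜 : RelProj.QCGrAlg Y} (u : RelProj.QGrHom f 𝒜 𝒮L)
  {p : P ⟶ Y}
  {chart : ∀ (U : Y.Opens) (hU : IsAffineOpen U),
    (((p ⁻¹ᵁ U : P.Opens) : Scheme.{u}) ≅ Proj (𝒜.deg U hU))}
  (hP : RelProj.IsRelProj 𝒜 p chart)
  {r : ((RelProj.domQ u pL chartL : PL.Opens) : Scheme.{u}) ⟶ P}
  (hr : RelProj.IsProjQMapOn u p chart pL chartL (RelProj.domQ u pL chartL) r)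

include hPL hP hr in
/-- dominance from injectivity on global sections -/
theorem isDominant_of_injective [CompactSpace X] (hY : IsAffineOpen (⊤ : Y.Opens))
    (hu : Function.Injective (u.app ⊤).hom) : IsDominant r := by
  rw [isDominant_iff u hP hPL hr hY]
  intro n _ s _ hloc
  have hc : IsCompact ((f ⁻¹ᵁ ⊤ : X.Opens) : Set X) := by
    rw [Scheme.Hom.preimage_top]
    exact isCompact_univ
  have h1 : IsNilpotent ((u.app ⊤).hom s) := by
    refine isNilpotent_of_locally 𝒮L.toQCAlg (f ⁻¹ᵁ ⊤) hc _ (fun x _ => ?_)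
    obtain ⟨V, -, hxV, hnil⟩ := hloc x
    exact ⟨V, le_top.trans (Scheme.Hom.preimage_top f).ge, hxV, hnil⟩
  obtain ⟨N, hN⟩ := h1
  refine ⟨N, hu ?_⟩
  rw [map_pow, hN, map_zero]

include hjL hPL hP in
/-- quasi-compactness of an everywhere defined `r` over an affine base -/
theorem quasiCompact_of_top [CompactSpace X] (hL : PicF.IsInvertible L)
    (hY : IsAffineOpen (⊤ : Y.Opens)) (htop : RelProj.domQ u pL chartL = ⊤) : QuasiCompact r := by
  have : IsIso pL := isIso_relProj L 𝒮L jL hjL pL chartL hPL hL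
  have : CompactSpace PL := (Scheme.Hom.homeomorph pL).symm.compactSpace
  have : CompactSpace ((RelProj.domQ u pL chartL : PL.Opens) : Scheme.{u}) :=
    isCompact_iff_compactSpace.1 (by rw [htop]; exact isCompact_univ)
  have : QuasiSeparatedSpace P := by
    have h1 : IsIso (p ⁻¹ᵁ (⊤ : Y.Opens)).ι := isIso_ι_of_eq_top (Scheme.Hom.preimage_top p)
    have h2 : IsIso (RelProj.emb p chart ⊤ hY) := by
      unfold RelProj.emb
      infer_instance
    exact QuasiSeparatedSpace.of_isOpenEmbedding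
      (Scheme.Hom.homeomorph (RelProj.emb p chart ⊤ hY)).symm.isOpenEmbedding
  infer_instance

end Main

end Groth.Agent.Lib.Seat57.RLDom
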