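import Mathlib
import Groth.Agent.Lib.Seat57RLAmple

/-!
# Seat57RLRing: sections of the graded symmetric algebra `Sym L = ⊕ L^{⊗ n}` of an invertible module as a
sheaf of graded rings: local monomial descriptions, local homogeneity, and the qcqs lemma (EGA I 9.3.1)
in ring form
-/

set_option autoImplicit false
universe u
open CategoryTheory Limits AlgebraicGeometry TopologicalSpace Opposite

namespace Groth.Agent.Lib.Seat57.RLRing

open Groth.Agent.Helper13SymAlg Groth.Agent.Helper13ProjLine Groth.Agent.Helper13GrPoly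
  Groth.Agent.Lib.Helper23.SecTw Groth.Agent.Lib.Helper6 Groth.Agent.Lib.Seat57.RLAmple

section Basics

variable {X : Scheme.{u}} (𝒮 : RelProj.QCGrAlg X)

/-- restriction in the sheaf of rings -/
noncomputable abbrev rs {U W : X.Opens} (h : W ≤ U) :
    𝒮.presheaf.obj (op U) →+* 𝒮.presheaf.obj (op W) :=
  (𝒮.presheaf.map (homOfLE h).op).hom

theorem rs_rs {U V W : X.Opens} (h₁ : V ≤ U) (h₂ : W ≤ V) (x : 𝒮.presheaf.obj (op U)) :
    rs 𝒮 h₂ (rs 𝒮 h₁ x) = rs 𝒮 (h₂.trans h₁) x := by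
  change ((𝒮.presheaf.map (homOfLE h₁).op) ≫ (𝒮.presheaf.map (homOfLE h₂).op)).hom x = _
  rw [← Functor.map_comp]
  rfl

theorem rs_self {U : X.Opens} (x : 𝒮.presheaf.obj (op U)) : rs 𝒮 (le_refl U) x = x := by
  change (𝒮.presheaf.map (𝟙 (op U))).hom x = x
  rw [𝒮.presheaf.map_id]
  rfl

theorem rs_str {U W : X.Opens} (h : W ≤ U) (c : Γ(X, U)) :
    rs 𝒮 h ((𝒮.str.app (op U)).hom c) = (𝒮.str.app (op W)).hom (resf h c) :=
  (congr($(𝒮.str.naturality (homOfLE h).op) c)).symm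

/-- separation for the sheaf of rings -/
theorem rs_ext {U : X.Opens} {ι : Type*} (W : ι → X.Opens) (hW : ∀ i, W i ≤ U) (hcov : U ≤ ⨆ i, W i)
    (x y : 𝒮.presheaf.obj (op U)) (h : ∀ i, rs 𝒮 (hW i) x = rs 𝒮 (hW i) y) : x = y :=
  TopCat.Sheaf.eq_of_locally_eq' (⟨𝒮.presheaf, 𝒮.isSheaf⟩ : TopCat.Sheaf CommRingCat X.toTopCat)
    W U (fun i => homOfLE (hW i)) hcov x y h

/-- separation on affine opens -/
theorem rs_ext_affine {U : X.Opens} (x y : 𝒮.presheaf.obj (op U))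
    (h : ∀ (A : X.Opens) (_ : IsAffineOpen A) (hA : A ≤ U), rs 𝒮 hA x = rs 𝒮 hA y) : x = y := by
  refine rs_ext 𝒮 (fun A : {A : X.Opens // IsAffineOpen A ∧ A ≤ U} => A.1) (fun A => A.2.2) ?_ x y
    (fun A => h A.1 A.2.1 A.2.2)
  intro z hz
  obtain ⟨A, hA, hzA, hAle⟩ := exists_isAffineOpen_mem_and_subset (x := z) (U := U) hz
  exact Opens.mem_iSup.2 ⟨⟨A, hA, hAle⟩, hzA⟩

/-- gluing for the sheaf of rings -/
theorem rs_glue {U : X.Opens} {ι : Type*} (W : ι → X.Opens) (hW : ∀ i, W i ≤ U) (hcov : U ≤ ⨆ i, W i)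
    (x : ∀ i, 𝒮.presheaf.obj (op (W i)))
    (hcompat : ∀ i j, rs 𝒮 (inf_le_left : W i ⊓ W j ≤ W i) (x i) =
      rs 𝒮 (inf_le_right : W i ⊓ W j ≤ W j) (x j)) :
    ∃ y : 𝒮.presheaf.obj (op U), ∀ i, rs 𝒮 (hW i) y = x i := by
  obtain ⟨y, hy, -⟩ := TopCat.Sheaf.existsUnique_gluing'
    (⟨𝒮.presheaf, 𝒮.isSheaf⟩ : TopCat.Sheaf CommRingCat X.toTopCat) W U (fun i => homOfLE (hW i))
    hcov x (fun i j => hcompat i j)
  exact ⟨y, hy⟩

/-- locally homogeneous of degree `n` -/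
def IsHomog (U : X.Opens) (n : ℕ) (τ : 𝒮.presheaf.obj (op U)) : Prop :=
  ∀ (W : X.Opens) (hW : IsAffineOpen W) (hle : W ≤ U), rs 𝒮 hle τ ∈ 𝒮.deg W hW n

theorem IsHomog.rs {U V : X.Opens} {n : ℕ} {τ : 𝒮.presheaf.obj (op U)} (h : IsHomog 𝒮 U n τ)
    (hVU : V ≤ U) : IsHomog 𝒮 V n (rs 𝒮 hVU τ) := by
  intro W hW hle
  rw [rs_rs]
  exact h W hW _

theorem IsHomog.mul {U : X.Opens} {n m : ℕ} {τ τ' : 𝒮.presheaf.obj (op U)} (h : IsHomog 𝒮 U n τ)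
    (h' : IsHomog 𝒮 U m τ') : IsHomog 𝒮 U (n + m) (τ * τ') := by
  intro W hW hle
  rw [map_mul]
  exact SetLike.mul_mem_graded (h W hW hle) (h' W hW hle)

theorem IsHomog.pow {U : X.Opens} {n : ℕ} {τ : 𝒮.presheaf.obj (op U)} (h : IsHomog 𝒮 U n τ)
    (k : ℕ) : IsHomog 𝒮 U (k * n) (τ ^ k) := by
  intro W hW hle
  rw [map_pow]
  have := SetLike.pow_mem_graded k (h W hW hle)
  rwa [smul_eq_mul] at this

theorem IsHomog.sub {U : X.Opens} {n : ℕ} {τ τ' : 𝒮.presheaf.obj (op U)} (h : IsHomog 𝒮 U n τ)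
    (h' : IsHomog 𝒮 U n τ') : IsHomog 𝒮 U n (τ - τ') := by
  intro W hW hle
  rw [map_sub]
  exact sub_mem (h W hW hle) (h' W hW hle)

theorem isHomog_of_mem {U : X.Opens} (hU : IsAffineOpen U) {n : ℕ} {τ : 𝒮.presheaf.obj (op U)}
    (h : τ ∈ 𝒮.deg U hU n) : IsHomog 𝒮 U n τ :=
  fun _ hW hle => 𝒮.map_mem hU hW hle h

/-- homogeneity over an affine open can be checked on an open cover by affines -/
theorem mem_deg_of_locally {A : X.Opens} (hA : IsAffineOpen A) (n : ℕ) (τ : 𝒮.presheaf.obj (op A))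
    (h : ∀ x ∈ A, ∃ (A' : X.Opens) (hA' : IsAffineOpen A') (hle : A' ≤ A), x ∈ A' ∧
      rs 𝒮 hle τ ∈ 𝒮.deg A' hA' n) : τ ∈ 𝒮.deg A hA n := by
  classical
  choose A' hA' hle hxA' hmem using h
  have hcomp : ∀ i : ℕ, i ≠ n → ((DirectSum.decompose (𝒮.deg A hA) τ i : 𝒮.deg A hA i) :
      𝒮.presheaf.obj (op A)) = 0 := by
    intro i hi
    refine rs_ext 𝒮 (fun x : A => A' x.1 x.2) (fun x => hle x.1 x.2) ?_ _ _ (fun x => ?_)
    · intro z hz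
      exact Opens.mem_iSup.2 ⟨⟨z, hz⟩, hxA' z hz⟩
    · have h1 := GradedRingHom.map_directSumDecompose (𝒮.deg A hA) (𝒮.deg (A' x.1 x.2) (hA' x.1 x.2))
        (𝒮.res hA (hA' x.1 x.2) (hle x.1 x.2)) (x := τ) (i := i)
      change rs 𝒮 (hle x.1 x.2) _ = rs 𝒮 (hle x.1 x.2) 0
      rw [map_zero]
      change (𝒮.res hA (hA' x.1 x.2) (hle x.1 x.2)) _ = 0
      rw [h1]
      exact DirectSum.decompose_of_mem_ne _ (hmem x.1 x.2) (Ne.symm hi)
  have hsum := DirectSum.sum_support_decompose (𝒮.deg A hA) τ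
  rw [← hsum]
  refine AddSubgroup.sum_mem _ (fun i _ => ?_)
  by_cases hi : i = n
  · subst hi
    exact SetLike.coe_mem _
  · rw [hcomp i hi]
    exact zero_mem _

/-- local homogeneity can be checked on an open cover -/
theorem isHomog_of_cover {U : X.Opens} {ι : Type*} (W : ι → X.Opens) (hW : ∀ i, W i ≤ U)
    (hcov : U ≤ ⨆ i, W i) (n : ℕ) (τ : 𝒮.presheaf.obj (op U))
    (h : ∀ i, IsHomog 𝒮 (W i) n (rs 𝒮 (hW i) τ)) : IsHomog 𝒮 U n τ := by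
  intro A hA hAU
  refine mem_deg_of_locally 𝒮 hA n _ (fun x hx => ?_)
  obtain ⟨i, hi⟩ := Opens.mem_iSup.1 (hcov (hAU hx))
  obtain ⟨A', hA', hxA', hA'le⟩ := exists_isAffineOpen_mem_and_subset (x := x) (U := A ⊓ W i) ⟨hx, hi⟩
  refine ⟨A', hA', hA'le.trans inf_le_left, hxA', ?_⟩
  have := h i A' hA' (hA'le.trans inf_le_right)
  rw [rs_rs] at this ⊢
  exact this

end Basics

section Mono

variable {X : Scheme.{u}} (L : X.Modules) [L.IsQuasicoherent]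
  (𝒮L : RelProj.QCGrAlg X) (j : L ⟶ 𝒮L.toModule) (hj : RelProj.IsGrSymAlg L 𝒮L j)

/-- the monomial `c Tⁿ` in the frame `e` -/
noncomputable def mono (W : X.Opens) (e : Γ(L, W)) (n : ℕ) (c : Γ(X, W)) : 𝒮L.presheaf.obj (op W) :=
  (𝒮L.str.app (op W)).hom c * (φAdd L 𝒮L.toQCAlg j W e) ^ n

theorem rs_mono {W W' : X.Opens} (h : W' ≤ W) (e : Γ(L, W)) (n : ℕ) (c : Γ(X, W)) :
    rs 𝒮L h (mono L 𝒮L j W e n c) = mono L 𝒮L j W' (res L h e) n (resf h c) :=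
  map_monomial L 𝒮L j h e n c

theorem mono_mul_mono (W : X.Opens) (e : Γ(L, W)) (n m : ℕ) (c c' : Γ(X, W)) :
    mono L 𝒮L j W e n c * mono L 𝒮L j W e m c' = mono L 𝒮L j W e (n + m) (c * c') := by
  unfold mono
  rw [map_mul, pow_add]
  ring

theorem mono_pow (W : X.Opens) (e : Γ(L, W)) (n k : ℕ) (c : Γ(X, W)) :
    (mono L 𝒮L j W e n c) ^ k = mono L 𝒮L j W e (k * n) (c ^ k) := by
  unfold mono
  rw [mul_pow, map_pow, ← pow_mul, mul_comm n k]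

theorem mono_zero (W : X.Opens) (e : Γ(L, W)) (n : ℕ) : mono L 𝒮L j W e n 0 = 0 := by
  unfold mono
  rw [map_zero, zero_mul]

theorem mono_sub (W : X.Opens) (e : Γ(L, W)) (n : ℕ) (c c' : Γ(X, W)) :
    mono L 𝒮L j W e n c - mono L 𝒮L j W e n c' = mono L 𝒮L j W e n (c - c') := by
  unfold mono
  rw [map_sub, sub_mul]

theorem str_mul_mono (W : X.Opens) (e : Γ(L, W)) (n : ℕ) (a c : Γ(X, W)) :
    (𝒮L.str.app (op W)).hom a * mono L 𝒮L j W e n c = mono L 𝒮L j W e n (a * c) := by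
  unfold mono
  rw [map_mul, mul_assoc]

theorem mono_smul (W : X.Opens) (e : Γ(L, W)) (n : ℕ) (c γ : Γ(X, W)) :
    mono L 𝒮L j W (γ • e) n c = mono L 𝒮L j W e n (c * γ ^ n) := by
  unfold mono
  rw [φAdd_smul, mul_pow, ← map_pow, ← mul_assoc, ← map_mul]

include hj in
theorem mono_injective {W : X.Opens} (hW : IsAffineOpen W) (e : Γ(L, W)) (he : IsGen L W e) (n : ℕ)
    {c c' : Γ(X, W)} (h : mono L 𝒮L j W e n c = mono L 𝒮L j W e n c') : c = c' :=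
  coefS_unique L 𝒮L j hj hW e he n c c' h

include hj in
theorem mono_mem {W : X.Opens} (hW : IsAffineOpen W) (e : Γ(L, W)) (n : ℕ) (c : Γ(X, W)) :
    mono L 𝒮L j W e n c ∈ 𝒮L.deg W hW n := by
  unfold mono
  have h1 : (φAdd L 𝒮L.toQCAlg j W e) ^ n ∈ 𝒮L.deg W hW (n • 1) :=
    SetLike.pow_mem_graded n (hj.2 W hW e)
  have h2 := SetLike.mul_mem_graded (𝒮L.str_mem W hW c) h1
  simpa using h2

include hj in
theorem exists_mono {W : X.Opens} (hW : IsAffineOpen W) (e : Γ(L, W)) (he : IsGen L W e) {n : ℕ}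
    {τ : 𝒮L.presheaf.obj (op W)} (hτ : τ ∈ 𝒮L.deg W hW n) : ∃ c : Γ(X, W), τ = mono L 𝒮L j W e n c :=
  exists_coefS L 𝒮L j hj hW e he hτ

include hj in
/-- frames adapted to a locally homogeneous element -/
theorem exists_frame (hL : PicF.IsInvertible L) {U : X.Opens} {n : ℕ} {τ : 𝒮L.presheaf.obj (op U)}
    (hτ : IsHomog 𝒮L U n τ) (x : X) (hx : x ∈ U) :
    ∃ (W : X.Opens) (_ : IsAffineOpen W) (hle : W ≤ U) (e : Γ(L, W)) (_ : IsGen L W e) (c : Γ(X, W)),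
      x ∈ W ∧ rs 𝒮L hle τ = mono L 𝒮L j W e n c := by
  obtain ⟨W₀, e₀, hxW₀, he₀⟩ := exists_gen L hL x
  obtain ⟨W, hW, hxW, hWle⟩ := exists_isAffineOpen_mem_and_subset (x := x) (U := W₀ ⊓ U) ⟨hxW₀, hx⟩
  have he : IsGen L W (res L (hWle.trans inf_le_left) e₀) := he₀.mono _
  obtain ⟨c, hc⟩ := exists_mono L 𝒮L j hj hW _ he (hτ W hW (hWle.trans inf_le_right))
  exact ⟨W, hW, hWle.trans inf_le_right, _, he, c, hxW, hc⟩

/-- `G` is the open where the locally homogeneous element `τ` of degree `n` generates `L^{⊗ n}` -/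
def IsLocus (U : X.Opens) (n : ℕ) (τ : 𝒮L.presheaf.obj (op U)) (G : X.Opens) : Prop :=
  G ≤ U ∧ ∀ (W : X.Opens) (_ : IsAffineOpen W) (hle : W ≤ U) (e : Γ(L, W)) (_ : IsGen L W e)
    (c : Γ(X, W)), rs 𝒮L hle τ = mono L 𝒮L j W e n c → G ⊓ W = X.basicOpen c

theorem IsLocus.mono {U U' : X.Opens} {n : ℕ} {τ : 𝒮L.presheaf.obj (op U)} {G : X.Opens}
    (hG : IsLocus L 𝒮L j U n τ G) (hle : U' ≤ U) :
    IsLocus L 𝒮L j U' n (rs 𝒮L hle τ) (G ⊓ U') := by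
  refine ⟨inf_le_right, fun W hW hWU' e he c hc => ?_⟩
  rw [rs_rs] at hc
  rw [inf_assoc, inf_eq_right.2 hWU']
  exact hG.2 W hW (hWU'.trans hle) e he c hc

theorem exists_lift_basicOpen {W : X.Opens} (hW : IsAffineOpen W) (c : Γ(X, W))
    (t : Γ(X, X.basicOpen c)) :
    ∃ (m : ℕ) (b : Γ(X, W)), resf (X.basicOpen_le c) b = t * (resf (X.basicOpen_le c) c) ^ m := by
  have hloc := hW.isLocalization_basicOpen c
  obtain ⟨⟨b, ⟨_, m, rfl⟩⟩, h⟩ := IsLocalization.surj (Submonoid.powers c) t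
  refine ⟨m, b, ?_⟩
  rw [← map_pow]
  exact h.symm

include hj in
/-- **EGA I 9.3.1 (i), ring form**: a locally homogeneous element vanishing on `X_τ` is killed by a
power of `τ` (over a quasi-compact open) -/
theorem exists_pow_mul_eq_zero (hL : PicF.IsInvertible L) {U : X.Opens} (hU : IsCompact (U : Set X))
    {n d : ℕ} {τ δ : 𝒮L.presheaf.obj (op U)} (hτ : IsHomog 𝒮L U n τ) (hδ : IsHomog 𝒮L U d δ)
    {G : X.Opens} (hG : IsLocus L 𝒮L j U n τ G) (h0 : rs 𝒮L hG.1 δ = 0) :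
    ∃ k : ℕ, τ ^ k * δ = 0 := by
  have key : ∀ x ∈ U, ∃ (W : X.Opens) (hle : W ≤ U) (k : ℕ), x ∈ W ∧ rs 𝒮L hle (τ ^ k * δ) = 0 := by
    intro x hx
    obtain ⟨W, hW, hle, e, he, c, hxW, hc⟩ := exists_frame L 𝒮L j hj hL hτ x hx
    obtain ⟨c', hc'⟩ := exists_mono L 𝒮L j hj hW e he (hδ W hW hle)
    have hGW := hG.2 W hW hle e he c hc
    have hD : X.basicOpen c ≤ G := by rw [← hGW]; exact inf_le_left
    have hDW : X.basicOpen c ≤ W := X.basicOpen_le c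
    have h1 : rs 𝒮L (hDW.trans hle) δ = 0 := by
      have : rs 𝒮L (hDW.trans hle) δ = rs 𝒮L hD (rs 𝒮L hG.1 δ) := (rs_rs 𝒮L _ _ _).symm
      rw [this, h0, map_zero]
    have h2 : mono L 𝒮L j (X.basicOpen c) (res L hDW e) d (resf hDW c') = 0 := by
      rw [← rs_mono, ← hc', rs_rs]
      exact h1
    have h3 : resf hDW c' = 0 :=
      mono_injective L 𝒮L j hj (hW.basicOpen c) _ (he.mono hDW) d (h2.trans (mono_zero L 𝒮L j _ _ d).symm)
    obtain ⟨k, hk⟩ := exists_pow_mul_eq_zero_of_res_basicOpen_eq_zero_of_isAffineOpen X hW c' c h3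
    refine ⟨W, hle, k, hxW, ?_⟩
    rw [map_mul, map_pow, hc, hc', mono_pow, mono_mul_mono, hk, mono_zero]
  choose W hle k hxW hk using key
  obtain ⟨T, hT⟩ := hU.elim_finite_subcover (fun x : U => (W x.1 x.2 : Set X)) (fun x => (W x.1 x.2).2)
    (fun x hx => Set.mem_iUnion.2 ⟨⟨x, hx⟩, hxW x hx⟩)
  refine ⟨T.sup (fun x => k x.1 x.2), ?_⟩
  refine rs_ext 𝒮L (fun x : T => W x.1.1 x.1.2) (fun x => hle x.1.1 x.1.2) ?_ _ _ (fun x => ?_)
  · intro y hy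
    obtain ⟨x, hx⟩ := Set.mem_iUnion.1 (hT hy)
    obtain ⟨hxT, hyx⟩ := Set.mem_iUnion.1 hx
    exact Opens.mem_iSup.2 ⟨⟨x, hxT⟩, hyx⟩
  · have hle' : k x.1.1 x.1.2 ≤ T.sup (fun x => k x.1 x.2) :=
      Finset.le_sup (f := fun x : U => k x.1 x.2) x.2
    obtain ⟨i, hi⟩ := Nat.exists_eq_add_of_le hle'
    rw [hi, pow_add, mul_comm (τ ^ k x.1.1 x.1.2), mul_assoc, map_mul, hk, mul_zero, map_zero]

include hj in
/-- **EGA I 9.3.1 (ii), ring form**: a function on `X_τ` times a power of `τ` extends (over a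
quasi-compact quasi-separated open) -/
theorem exists_extension (hL : PicF.IsInvertible L) {U : X.Opens} (hUc : IsCompact (U : Set X))
    (hUqs : IsQuasiSeparated (U : Set X)) {n : ℕ} {τ : 𝒮L.presheaf.obj (op U)}
    (hτ : IsHomog 𝒮L U n τ) {G : X.Opens} (hG : IsLocus L 𝒮L j U n τ G) (t : Γ(X, G)) :
    ∃ (m : ℕ) (_ : 0 < m) (τ' : 𝒮L.presheaf.obj (op U)), IsHomog 𝒮L U (m * n) τ' ∧
      rs 𝒮L hG.1 τ' = (𝒮L.str.app (op G)).hom t * (rs 𝒮L hG.1 τ) ^ m := by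
  -- Step 1: local data
  have key : ∀ x ∈ U, ∃ (W : X.Opens) (hW : IsAffineOpen W) (hle : W ≤ U) (e : Γ(L, W))
      (_ : IsGen L W e) (c : Γ(X, W)) (_ : rs 𝒮L hle τ = mono L 𝒮L j W e n c) (m : ℕ) (b : Γ(X, W)),
      x ∈ W ∧ ∀ (A : X.Opens) (hAW : A ≤ W) (hAG : A ≤ G),
        resf hAW b = resf hAG t * (resf hAW c) ^ m := by
    intro x hx
    obtain ⟨W, hW, hle, e, he, c, hxW, hc⟩ := exists_frame L 𝒮L j hj hL hτ x hx
    have hGW := hG.2 W hW hle e he c hc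
    have hD : X.basicOpen c ≤ G := by rw [← hGW]; exact inf_le_left
    obtain ⟨m, b, hb⟩ := exists_lift_basicOpen hW c (resf hD t)
    refine ⟨W, hW, hle, e, he, c, hc, m, b, hxW, fun A hAW hAG => ?_⟩
    have hAD : A ≤ X.basicOpen c := by rw [← hGW]; exact le_inf hAG hAW
    have := congrArg (resf hAD) hb
    rw [resf_resf, resf_mul, resf_pow, resf_resf, resf_resf] at this
    exact this
  choose W hW hle e he c hc m b hxW hb using key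
  obtain ⟨T, hT⟩ := hUc.elim_finite_subcover (fun x : U => (W x.1 x.2 : Set X))
    (fun x => (W x.1 x.2).2) (fun x hx => Set.mem_iUnion.2 ⟨⟨x, hx⟩, hxW x hx⟩)
  have hcovT : U ≤ ⨆ x : T, W x.1.1 x.1.2 := by
    intro y hy
    obtain ⟨x, hx⟩ := Set.mem_iUnion.1 (hT hy)
    obtain ⟨hxT, hyx⟩ := Set.mem_iUnion.1 hx
    exact Opens.mem_iSup.2 ⟨⟨x, hxT⟩, hyx⟩
  -- Step 2: common exponent
  obtain ⟨M, hM⟩ : ∃ M : ℕ, M = T.sup (fun x => m x.1 x.2) + 1 := ⟨_, rfl⟩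
  have hmM : ∀ x : T, m x.1.1 x.1.2 ≤ M := fun x => by
    rw [hM]
    exact (Finset.le_sup (f := fun x : U => m x.1 x.2) x.2).trans (Nat.le_succ _)
  have hb' : ∀ (x : T) (A : X.Opens) (hAW : A ≤ W x.1.1 x.1.2) (hAG : A ≤ G),
      resf hAW (b x.1.1 x.1.2 * c x.1.1 x.1.2 ^ (M - m x.1.1 x.1.2)) =
        resf hAG t * (resf hAW (c x.1.1 x.1.2)) ^ M := by
    intro x A hAW hAG
    rw [resf_mul, hb x.1.1 x.1.2 A hAW hAG, resf_pow, mul_assoc, ← pow_add,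
      Nat.add_sub_cancel' (hmM x)]
  -- local extensions
  let τ₁ : ∀ x : T, 𝒮L.presheaf.obj (op (W x.1.1 x.1.2)) := fun x =>
    mono L 𝒮L j (W x.1.1 x.1.2) (e x.1.1 x.1.2) (M * n)
      (b x.1.1 x.1.2 * c x.1.1 x.1.2 ^ (M - m x.1.1 x.1.2))
  have hτ₁ : ∀ x : T, IsHomog 𝒮L (W x.1.1 x.1.2) (M * n) (τ₁ x) := fun x =>
    isHomog_of_mem 𝒮L (hW x.1.1 x.1.2) (mono_mem L 𝒮L j hj (hW x.1.1 x.1.2) _ _ _)
  have hP1 : ∀ (x : T) (A : X.Opens) (hAW : A ≤ W x.1.1 x.1.2) (hAG : A ≤ G),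
      rs 𝒮L hAW (τ₁ x) = (𝒮L.str.app (op A)).hom (resf hAG t) *
        (rs 𝒮L (hAW.trans (hle x.1.1 x.1.2)) τ) ^ M := by
    intro x A hAW hAG
    have h1 : rs 𝒮L (hAW.trans (hle x.1.1 x.1.2)) τ =
        mono L 𝒮L j A (res L hAW (e x.1.1 x.1.2)) n (resf hAW (c x.1.1 x.1.2)) := by
      rw [← rs_rs 𝒮L (hle x.1.1 x.1.2) hAW, hc, rs_mono]
    rw [h1, mono_pow, str_mul_mono, ← hb' x A hAW hAG]
    exact rs_mono L 𝒮L j hAW _ _ _
  -- Step 3: differences on overlaps are killed by a power of `τ`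
  have hk : ∀ x y : T, ∃ k : ℕ,
      (rs 𝒮L ((inf_le_left : W x.1.1 x.1.2 ⊓ W y.1.1 y.1.2 ≤ _).trans (hle x.1.1 x.1.2)) τ) ^ k *
        (rs 𝒮L (inf_le_left : W x.1.1 x.1.2 ⊓ W y.1.1 y.1.2 ≤ _) (τ₁ x) -
          rs 𝒮L (inf_le_right : W x.1.1 x.1.2 ⊓ W y.1.1 y.1.2 ≤ _) (τ₁ y)) = 0 := by
    intro x y
    have hcomp : IsCompact ((W x.1.1 x.1.2 ⊓ W y.1.1 y.1.2 : X.Opens) : Set X) :=
      hUqs _ _ (hle x.1.1 x.1.2) (W x.1.1 x.1.2).2 (hW x.1.1 x.1.2).isCompact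
        (hle y.1.1 y.1.2) (W y.1.1 y.1.2).2 (hW y.1.1 y.1.2).isCompact
    refine exists_pow_mul_eq_zero L 𝒮L j hj hL hcomp
      (hτ.rs 𝒮L ((inf_le_left : W x.1.1 x.1.2 ⊓ W y.1.1 y.1.2 ≤ _).trans (hle x.1.1 x.1.2)))
      (((hτ₁ x).rs 𝒮L inf_le_left).sub 𝒮L ((hτ₁ y).rs 𝒮L inf_le_right))
      (hG.mono L 𝒮L j ((inf_le_left : W x.1.1 x.1.2 ⊓ W y.1.1 y.1.2 ≤ _).trans (hle x.1.1 x.1.2))) ?_
    rw [map_sub, rs_rs, rs_rs, hP1 x _ _ inf_le_left, hP1 y _ _ inf_le_left]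
    exact sub_self _
  choose k hk using hk
  obtain ⟨K, hK⟩ : ∃ K : ℕ, K = (Finset.univ : Finset (T × T)).sup (fun p => k p.1 p.2) := ⟨_, rfl⟩
  have hkK : ∀ x y : T, k x y ≤ K := fun x y => by
    rw [hK]
    exact Finset.le_sup (f := fun p : T × T => k p.1 p.2) (Finset.mem_univ (x, y))
  -- Step 4: glue
  let τ₂ : ∀ x : T, 𝒮L.presheaf.obj (op (W x.1.1 x.1.2)) := fun x =>
    (rs 𝒮L (hle x.1.1 x.1.2) τ) ^ K * τ₁ x
  have hcompat : ∀ x y : T, rs 𝒮L (inf_le_left : W x.1.1 x.1.2 ⊓ W y.1.1 y.1.2 ≤ _) (τ₂ x) =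
      rs 𝒮L (inf_le_right : W x.1.1 x.1.2 ⊓ W y.1.1 y.1.2 ≤ _) (τ₂ y) := by
    intro x y
    rw [← sub_eq_zero]
    change rs 𝒮L _ ((rs 𝒮L (hle x.1.1 x.1.2) τ) ^ K * τ₁ x) -
      rs 𝒮L _ ((rs 𝒮L (hle y.1.1 y.1.2) τ) ^ K * τ₁ y) = 0
    rw [map_mul, map_mul, map_pow, map_pow, rs_rs, rs_rs, ← mul_sub]
    obtain ⟨i, hi⟩ := Nat.exists_eq_add_of_le (hkK x y)
    rw [hi, pow_add, mul_comm (_ ^ k x y), mul_assoc, hk x y, mul_zero]
  obtain ⟨τ', hτ'⟩ := rs_glue 𝒮L (fun x : T => W x.1.1 x.1.2) (fun x => hle x.1.1 x.1.2) hcovT τ₂ hcompat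
  refine ⟨K + M, by rw [hM]; omega, τ', ?_, ?_⟩
  · refine isHomog_of_cover 𝒮L (fun x : T => W x.1.1 x.1.2) (fun x => hle x.1.1 x.1.2) hcovT _ _
      (fun x => ?_)
    rw [hτ' x, add_mul]
    exact ((hτ.rs 𝒮L (hle x.1.1 x.1.2)).pow 𝒮L K).mul 𝒮L (hτ₁ x)
  · refine rs_ext 𝒮L (fun x : T => G ⊓ W x.1.1 x.1.2) (fun x => inf_le_left) ?_ _ _ (fun x => ?_)
    · intro y hy
      obtain ⟨x, hx⟩ := Opens.mem_iSup.1 (hcovT (hG.1 hy))
      exact Opens.mem_iSup.2 ⟨x, hy, hx⟩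
    · rw [rs_rs, map_mul, map_pow, rs_rs, rs_str,
        ← rs_rs 𝒮L (hle x.1.1 x.1.2) (inf_le_right : G ⊓ W x.1.1 x.1.2 ≤ _) τ', hτ' x]
      change rs 𝒮L _ ((rs 𝒮L (hle x.1.1 x.1.2) τ) ^ K * τ₁ x) = _
      rw [map_mul, map_pow, rs_rs, hP1 x _ inf_le_right inf_le_left, pow_add]
      ring

include hj in
/-- **a section of `L^{⊗ n}` over `U` as a locally homogeneous element of degree `n` of `Sym L`** -/
theorem exists_elt (hL : PicF.IsInvertible L) (U : X.Opens) (n : ℕ) (σ : Γ(CohB1.tensorPow L n, U)) :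
    ∃ τ : 𝒮L.presheaf.obj (op U), IsHomog 𝒮L U n τ ∧
      ∀ (W : X.Opens) (_ : IsAffineOpen W) (hle : W ≤ U) (e : Γ(L, W)) (_ : IsGen L W e) (c : Γ(X, W)),
        res (CohB1.tensorPow L n) hle σ = c • pw L W e n → rs 𝒮L hle τ = mono L 𝒮L j W e n c := by
  have hc : ∀ p : FrU L U, ∃ c : Γ(X, p.W), res (CohB1.tensorPow L n) p.hle σ = c • pw L p.W p.e n := by
    intro p
    obtain ⟨c, hc⟩ := ((isGen_pw L p.W p.e p.he n) p.W le_rfl).2 (res (CohB1.tensorPow L n) p.hle σ)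
    refine ⟨c, ?_⟩
    rw [← hc]
    change c • res (CohB1.tensorPow L n) (le_refl p.W) (pw L p.W p.e n) = _
    rw [res_self']
  choose c hcs using hc
  have hcov : U ≤ ⨆ p : FrU L U, p.W := by
    intro x hx
    obtain ⟨W, e, hxW, he⟩ := exists_gen L hL x
    obtain ⟨A, hA, hxA, hAle⟩ := exists_isAffineOpen_mem_and_subset (x := x) (U := W ⊓ U) ⟨hxW, hx⟩
    exact Opens.mem_iSup.2 ⟨⟨A, hA, hAle.trans inf_le_right, res L (hAle.trans inf_le_left) e,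
      he.mono (hAle.trans inf_le_left)⟩, hxA⟩
  -- compatibility on affine opens inside overlaps
  have hcomp : ∀ (p q : FrU L U) (W' : X.Opens) (_ : IsAffineOpen W') (h₁ : W' ≤ p.W) (h₂ : W' ≤ q.W),
      rs 𝒮L h₁ (mono L 𝒮L j p.W p.e n (c p)) = rs 𝒮L h₂ (mono L 𝒮L j q.W q.e n (c q)) := by
    intro p q W' hW' h₁ h₂
    have he' : IsGen L W' (res L h₂ q.e) := q.he.mono h₂
    obtain ⟨γ, hγ⟩ : ∃ γ : Γ(X, W'), res L h₁ p.e = γ • res L h₂ q.e :=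
      ⟨coef q.he h₂ _, (coef_spec q.he h₂ _).symm⟩
    have h1 : res (CohB1.tensorPow L n) (h₁.trans p.hle) σ =
        (resf h₁ (c p) * γ ^ n) • pw L W' (res L h₂ q.e) n := by
      rw [← res_res _ p.hle h₁, hcs p, res_smul, res_pw, hγ, pw_smul, mul_smul]
    have h2 : res (CohB1.tensorPow L n) (h₁.trans p.hle) σ =
        resf h₂ (c q) • pw L W' (res L h₂ q.e) n := by
      have : res (CohB1.tensorPow L n) (h₁.trans p.hle) σ =
          res (CohB1.tensorPow L n) h₂ (res (CohB1.tensorPow L n) q.hle σ) := (res_res _ _ _ _).symm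
      rw [this, hcs q, res_smul, res_pw]
    have h3 : resf h₁ (c p) * γ ^ n = resf h₂ (c q) := by
      apply ((isGen_pw L W' _ he' n) W' le_rfl).1
      change (resf h₁ (c p) * γ ^ n) • res (CohB1.tensorPow L n) (le_refl W') (pw L W' (res L h₂ q.e) n) =
        resf h₂ (c q) • res (CohB1.tensorPow L n) (le_refl W') (pw L W' (res L h₂ q.e) n)
      rw [res_self', ← h1, h2]
    rw [rs_mono, rs_mono, hγ, mono_smul, h3]
  have hcompat : ∀ p q : FrU L U, rs 𝒮L (inf_le_left : p.W ⊓ q.W ≤ p.W) (mono L 𝒮L j p.W p.e n (c p)) =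
      rs 𝒮L (inf_le_right : p.W ⊓ q.W ≤ q.W) (mono L 𝒮L j q.W q.e n (c q)) := by
    intro p q
    refine rs_ext_affine 𝒮L _ _ (fun A hA hAle => ?_)
    rw [rs_rs, rs_rs]
    exact hcomp p q A hA _ _
  obtain ⟨τ, hτ⟩ := rs_glue 𝒮L (fun p : FrU L U => p.W) (fun p => p.hle) hcov
    (fun p => mono L 𝒮L j p.W p.e n (c p)) hcompat
  refine ⟨τ, ?_, fun W hW hle e he c' hc' => ?_⟩
  · refine isHomog_of_cover 𝒮L (fun p : FrU L U => p.W) (fun p => p.hle) hcov n τ (fun p => ?_)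
    rw [hτ p]
    exact isHomog_of_mem 𝒮L p.hW (mono_mem L 𝒮L j hj p.hW _ _ _)
  · have h1 := hτ ⟨W, hW, hle, e, he⟩
    have h2 : c' = c ⟨W, hW, hle, e, he⟩ := by
      apply ((isGen_pw L W e he n) W le_rfl).1
      change c' • res (CohB1.tensorPow L n) (le_refl W) (pw L W e n) =
        c ⟨W, hW, hle, e, he⟩ • res (CohB1.tensorPow L n) (le_refl W) (pw L W e n)
      rw [res_self', ← hc']
      exact hcs ⟨W, hW, hle, e, he⟩
    rw [h2]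
    exact h1

include hj in
/-- the generating locus of a section of `L^{⊗ n}` over `U` is the non-vanishing locus of the
corresponding element of `Sym L` -/
theorem isLocus_of_section (U : X.Opens) (n : ℕ) (σ : Γ(CohB1.tensorPow L n, U))
    (τ : 𝒮L.presheaf.obj (op U))
    (hτσ : ∀ (W : X.Opens) (_ : IsAffineOpen W) (hle : W ≤ U) (e : Γ(L, W)) (_ : IsGen L W e)
      (c : Γ(X, W)), res (CohB1.tensorPow L n) hle σ = c • pw L W e n →
        rs 𝒮L hle τ = mono L 𝒮L j W e n c) :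
    IsLocus L 𝒮L j U n τ (U.ι ''ᵁ CohB1.genLocus _ (secU (CohB1.tensorPow L n) U σ)) := by
  refine ⟨image_le_self U _, fun W hW hle e he c hc => ?_⟩
  obtain ⟨c', hc'⟩ := ((isGen_pw L W e he n) W le_rfl).2 (res (CohB1.tensorPow L n) hle σ)
  have hc'' : res (CohB1.tensorPow L n) hle σ = c' • pw L W e n := by
    rw [← hc']
    change c' • res (CohB1.tensorPow L n) (le_refl W) (pw L W e n) = _
    rw [res_self']
  have hcc : c = c' := mono_injective L 𝒮L j hj hW e he n (hc.symm.trans (hτσ W hW hle e he c' hc''))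
  have h1 := genLocus_secU_inf (CohB1.tensorPow L n) U σ hle (pw L W e n) (isGen_pw L W e he n) c'
    hc''
  rw [hcc]
  ext x
  constructor
  · rintro ⟨⟨x', hx', rfl⟩, hxW⟩
    have : x' ∈ CohB1.genLocus _ (secU (CohB1.tensorPow L n) U σ) ⊓ U.ι ⁻¹ᵁ W := ⟨hx', hxW⟩
    rw [h1] at this
    exact this
  · intro hx
    have hxW : x ∈ W := X.basicOpen_le c' hx
    have hxU : x ∈ U := hle hxW
    have : (⟨x, hxU⟩ : (↑U : Scheme.{u})) ∈ U.ι ⁻¹ᵁ X.basicOpen c' := hx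
    rw [← h1] at this
    exact ⟨⟨⟨x, hxU⟩, this.1, rfl⟩, hxW⟩

end Mono

end Groth.Agent.Lib.Seat57.RLRing
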