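import Mathlib
import Groth.Agent.Lib.Seat57RLRing
import Groth.Agent.Lib.Seat57RLChart
import Groth.Agent.Lib.Seat57RLDom
import Groth.Agent.Lib.Helper13RLk
import Groth.Agent.Lib.Helper13RLj
import Groth.Agent.S8259

/-!
# Seat57RLOpen: if `L` is `f`-ample and `u : 𝒜 → f_* Sym L` is bijective over affine opens, then
`r_{L,σ} : X → Proj 𝒜` is everywhere defined, a dominant open immersion (EGA II 4.6.3, S12679)
-/

set_option autoImplicit false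
universe u
open CategoryTheory Limits AlgebraicGeometry TopologicalSpace Opposite
open HomogeneousLocalization

namespace Groth.Agent.Lib.Seat57.RLOpen

open Groth.Agent.Helper13SymAlg Groth.Agent.Helper13ProjLine Groth.Agent.Helper13GrPoly
  Groth.Agent.Lib.Helper23.SecTw Groth.Agent.Lib.Helper6 Groth.Agent.Lib.Helper23.AmpleIso
  Groth.Agent.Lib.Seat57.RLAmple Groth.Agent.Lib.Seat57.RLRing Groth.Agent.Lib.Seat57.RLChart
  Groth.Agent.Lib.Seat57.RLDom Groth.Agent.Helper13RelProj Groth.Agent.Helper13RL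

section Main

variable {X Y P PL : Scheme.{u}} {f : X ⟶ Y}
  (L : X.Modules) [L.IsQuasicoherent]
  (𝒮L : RelProj.QCGrAlg X) (jL : L ⟶ 𝒮L.toModule) (hjL : RelProj.IsGrSymAlg L 𝒮L jL)
  {pL : PL ⟶ X}
  {chartL : ∀ (U : X.Opens) (hU : IsAffineOpen U),
    (((pL ⁻¹ᵁ U : PL.Opens) : Scheme.{u}) ≅ Proj (𝒮L.deg U hU))}
  (hPL : RelProj.IsRelProj 𝒮L pL chartL)
  {𝒜 : RelProj.QCGrAlg Y} (u : RelProj.QGrHom f 𝒜 𝒮L)
  {p : P ⟶ Y}
  {chart : ∀ (U : Y.Opens) (hU : IsAffineOpen U),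
    (((p ⁻¹ᵁ U : P.Opens) : Scheme.{u}) ≅ Proj (𝒜.deg U hU))}
  (hP : RelProj.IsRelProj 𝒜 p chart)
  {r : ((RelProj.domQ u pL chartL : PL.Opens) : Scheme.{u}) ⟶ P}
  (hr : RelProj.IsProjQMapOn u p chart pL chartL (RelProj.domQ u pL chartL) r)

/-- the image under `u` of a homogeneous element is locally homogeneous -/
theorem isHomog_app {V₀ : Y.Opens} (hV₀ : IsAffineOpen V₀) {n : ℕ} {a : 𝒜.presheaf.obj (op V₀)}
    (ha : a ∈ 𝒜.deg V₀ hV₀ n) : IsHomog 𝒮L (f ⁻¹ᵁ V₀) n ((u.app V₀).hom a) :=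
  fun W hW hle => u.map_mem V₀ hV₀ W hW hle ha

/-- the inverse of a bijective graded `f`-morphism preserves degrees -/
theorem exists_preimage_deg {V₀ : Y.Opens} (hV₀ : IsAffineOpen V₀)
    (hu : Function.Bijective (u.app V₀).hom) {n : ℕ} {τ : 𝒮L.presheaf.obj (op (f ⁻¹ᵁ V₀))}
    (hτ : IsHomog 𝒮L (f ⁻¹ᵁ V₀) n τ) : ∃ a ∈ 𝒜.deg V₀ hV₀ n, (u.app V₀).hom a = τ := by
  classical
  obtain ⟨a, rfl⟩ := hu.2 τ
  refine ⟨a, ?_, rfl⟩
  have hcomp : ∀ i : ℕ, i ≠ n → ((DirectSum.decompose (𝒜.deg V₀ hV₀) a i : 𝒜.deg V₀ hV₀ i) :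
      𝒜.presheaf.obj (op V₀)) = 0 := by
    intro i hi
    apply hu.1
    rw [map_zero]
    refine rs_ext_affine 𝒮L _ _ (fun A hA hAle => ?_)
    rw [map_zero]
    have h1 := GradedRingHom.map_directSumDecompose (𝒜.deg V₀ hV₀) (𝒮L.deg A hA)
      (u.gradedAt V₀ hV₀ A hA hAle) (x := a) (i := i)
    change (u.gradedAt V₀ hV₀ A hA hAle) _ = 0
    rw [h1]
    exact DirectSum.decompose_of_mem_ne _ (hτ A hA hAle) (Ne.symm hi)
  have hsum := DirectSum.sum_support_decompose (𝒜.deg V₀ hV₀) a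
  rw [← hsum]
  refine AddSubgroup.sum_mem _ (fun i _ => ?_)
  by_cases hi : i = n
  · subst hi
    exact SetLike.coe_mem _
  · rw [hcomp i hi]
    exact zero_mem _

include hjL hPL hP hr in
/-- `r⁻¹(D₊(a))` is the part of `PL` over the non-vanishing locus of `u a` -/
theorem image_preimage_eq (hL : PicF.IsInvertible L) {V₀ : Y.Opens} (hV₀ : IsAffineOpen V₀) {n : ℕ}
    (hn : 0 < n) {a : 𝒜.presheaf.obj (op V₀)} (ha : a ∈ 𝒜.deg V₀ hV₀ n) {G : X.Opens}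
    (hG : IsLocus L 𝒮L jL (f ⁻¹ᵁ V₀) n ((u.app V₀).hom a) G) :
    (RelProj.domQ u pL chartL).ι ''ᵁ
        (r ⁻¹ᵁ ((RelProj.emb p chart V₀ hV₀) ''ᵁ Proj.basicOpen (𝒜.deg V₀ hV₀) a)) = pL ⁻¹ᵁ G := by
  have hτ := isHomog_app 𝒮L u hV₀ ha
  have hcomp := qmapOn_comp u hP hPL hr
  -- the common local computation
  have key : ∀ y : PL, pL.base y ∈ f ⁻¹ᵁ V₀ →
      (y ∈ (RelProj.domQ u pL chartL).ι ''ᵁ
        (r ⁻¹ᵁ ((RelProj.emb p chart V₀ hV₀) ''ᵁ Proj.basicOpen (𝒜.deg V₀ hV₀) a)) ↔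
        pL.base y ∈ G) := by
    intro y hy
    obtain ⟨W, hW, hWU, e, he, c, hyW, hc⟩ := exists_frame L 𝒮L jL hjL hL hτ (pL.base y) hy
    have hGW := hG.2 W hW hWU e he c hc
    have h2 := image_preimage_basicOpen u hP hPL hr (⟨V₀, hV₀, W, hW, hWU⟩ : APair f) hn ha
    have hφ : (φV u (⟨V₀, hV₀, W, hW, hWU⟩ : APair f)) a =
        (𝒮L.str.app (op W)).hom c * (φAdd L 𝒮L.toQCAlg jL W e) ^ n := hc
    obtain ⟨z, hz⟩ := exists_chart_point (chartB := chartL) W hW y hyW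
    have h3 : y ∈ (RelProj.domQ u pL chartL).ι ''ᵁ
        (r ⁻¹ᵁ ((RelProj.emb p chart V₀ hV₀) ''ᵁ Proj.basicOpen (𝒜.deg V₀ hV₀) a)) ↔
        y ∈ (RelProj.domQ u pL chartL).ι ''ᵁ
          (r ⁻¹ᵁ ((RelProj.emb p chart V₀ hV₀) ''ᵁ Proj.basicOpen (𝒜.deg V₀ hV₀) a)) ⊓
          pL ⁻¹ᵁ W := ⟨fun h => ⟨h, hyW⟩, fun h => h.1⟩
    rw [h3]
    erw [h2]
    rw [hφ, ← hz]
    have h4 : (RelProj.emb pL chartL W hW).base z ∈ (RelProj.emb pL chartL W hW) ''ᵁ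
        Proj.basicOpen (𝒮L.deg W hW)
          ((𝒮L.str.app (op W)).hom c * (φAdd L 𝒮L.toQCAlg jL W e) ^ n) ↔
        z ∈ Proj.basicOpen (𝒮L.deg W hW)
          ((𝒮L.str.app (op W)).hom c * (φAdd L 𝒮L.toQCAlg jL W e) ^ n) := by
      constructor
      · rintro ⟨z', hz', hzz'⟩
        rw [← (RelProj.emb pL chartL W hW).isOpenEmbedding.injective hzz']
        exact hz'
      · intro h
        exact ⟨z, h, rfl⟩
    rw [h4, mem_basicOpen_monomial_iff L 𝒮L jL hjL hPL hW e he n c z, hz]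
    constructor
    · intro h
      have : pL.base y ∈ G ⊓ W := by rw [hGW]; exact h
      exact this.1
    · intro h
      have : pL.base y ∈ G ⊓ W := ⟨h, hyW⟩
      rw [hGW] at this
      exact this
  ext y
  constructor
  · intro hy
    have hyU : pL.base y ∈ f ⁻¹ᵁ V₀ := by
      obtain ⟨y', hy', rfl⟩ := hy
      obtain ⟨z, -, hz⟩ := hy'
      change f.base (pL.base ((RelProj.domQ u pL chartL).ι.base y')) ∈ V₀
      have e1 : f.base (pL.base ((RelProj.domQ u pL chartL).ι.base y')) = p.base (r.base y') := by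
        rw [← Scheme.Hom.comp_apply, ← Scheme.Hom.comp_apply, ← Scheme.Hom.comp_apply, hcomp]
      rw [e1]
      have hz' : (RelProj.emb p chart V₀ hV₀).base z = r.base y' := hz
      rw [← hz']
      exact emb_mem_preimage chart V₀ hV₀ z
    exact (key y hyU).1 hy
  · intro hy
    exact (key y (hG.1 hy)).2 hy

include hjL hPL hP hr in
/-- **the local statement**: around every point of `f⁻¹V₀` there is a standard chart `D₊(a)` of
`Proj 𝒜(V₀)` over which `r` is an isomorphism -/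
theorem exists_chart_iso [QuasiCompact f] (hL : PicF.IsInvertible L) {V₀ : Y.Opens}
    (hV₀ : IsAffineOpen V₀) (hu : Function.Bijective (u.app V₀).hom)
    (hamp : CohB1.IsAmple (L.restrict (f ⁻¹ᵁ V₀).ι)) (x : X) (hx : x ∈ f ⁻¹ᵁ V₀) :
    ∃ (n : ℕ) (_ : 0 < n) (a : 𝒜.presheaf.obj (op V₀)) (_ : a ∈ 𝒜.deg V₀ hV₀ n) (G : X.Opens),
      x ∈ G ∧ IsAffineOpen G ∧
      (RelProj.domQ u pL chartL).ι ''ᵁ
        (r ⁻¹ᵁ ((RelProj.emb p chart V₀ hV₀) ''ᵁ Proj.basicOpen (𝒜.deg V₀ hV₀) a)) = pL ⁻¹ᵁ G ∧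
      IsIso (r ∣_ ((RelProj.emb p chart V₀ hV₀) ''ᵁ Proj.basicOpen (𝒜.deg V₀ hV₀) a)) := by
  have : IsIso pL := isIso_relProj L 𝒮L jL hjL pL chartL hPL hL
  have hUc : IsCompact ((f ⁻¹ᵁ V₀ : X.Opens) : Set X) :=
    QuasiCompact.isCompact_preimage (f := f) _ V₀.2 hV₀.isCompact
  have hUqs : IsQuasiSeparated ((f ⁻¹ᵁ V₀ : X.Opens) : Set X) :=
    (isQuasiSeparated_iff_quasiSeparatedSpace _ (f ⁻¹ᵁ V₀).2).2
      (quasiSeparatedSpace_of_isAmple _ hamp)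
  obtain ⟨n, s, hxs, haff⟩ := hamp.2.2 ⟨x, hx⟩
  obtain ⟨Φ⟩ := nonempty_restrict_tensorPow_iso L hL (f ⁻¹ᵁ V₀) (n + 1)
  have hW : (f ⁻¹ᵁ V₀).ι ''ᵁ ⊤ = f ⁻¹ᵁ V₀ := by
    rw [Scheme.Hom.image_top_eq_opensRange, Scheme.Opens.opensRange_ι]
  -- the section of `L^{⊗ (n+1)}` over `f⁻¹V₀`
  obtain ⟨σ₀, hσ₀⟩ : ∃ σ₀ : Γ(CohB1.tensorPow L (n + 1), (f ⁻¹ᵁ V₀).ι ''ᵁ ⊤),
      σ₀ = Φ.inv.app ⊤ (sv s ⊤) := ⟨_, rfl⟩
  obtain ⟨σ, hσ⟩ : ∃ σ : Γ(CohB1.tensorPow L (n + 1), f ⁻¹ᵁ V₀),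
      σ = res (CohB1.tensorPow L (n + 1)) (le_of_eq hW.symm) σ₀ := ⟨_, rfl⟩
  have hsec : secU (CohB1.tensorPow L (n + 1)) (f ⁻¹ᵁ V₀) σ = s ≫ Φ.symm.hom := by
    apply hom_ext_of_sv
    unfold secU
    rw [sv_secHom, sv_comp, hσ, res_res]
    change res _ _ (res _ _ σ₀) = Φ.inv.app ⊤ (sv s ⊤)
    rw [res_res, res_self', hσ₀]
  have hgl : CohB1.genLocus _ (secU (CohB1.tensorPow L (n + 1)) (f ⁻¹ᵁ V₀) σ) =
      CohB1.genLocus _ s := by
    rw [hsec, genLocus_comp_iso]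
  obtain ⟨τ, hτ, hτσ⟩ := exists_elt L 𝒮L jL hjL hL (f ⁻¹ᵁ V₀) (n + 1) σ
  have hG := isLocus_of_section L 𝒮L jL hjL (f ⁻¹ᵁ V₀) (n + 1) σ τ hτσ
  rw [hgl] at hG
  obtain ⟨a, ha, hua⟩ := exists_preimage_deg 𝒮L u hV₀ hu hτ
  rw [← hua] at hG
  have hVX := image_preimage_eq L 𝒮L jL hjL hPL u hP hr hL hV₀ (Nat.succ_pos n) ha hG
  have hGaff : IsAffineOpen ((f ⁻¹ᵁ V₀).ι ''ᵁ CohB1.genLocus _ s) :=
    haff.image_of_isOpenImmersion _
  refine ⟨n + 1, Nat.succ_pos n, a, ha, (f ⁻¹ᵁ V₀).ι ''ᵁ CohB1.genLocus _ s,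
    ⟨⟨x, hx⟩, hxs, rfl⟩, hGaff, hVX, ?_⟩
  have hiso : MorphismProperty.isomorphisms Scheme.{u}
      (r ∣_ ((RelProj.emb p chart V₀ hV₀) ''ᵁ Proj.basicOpen (𝒜.deg V₀ hV₀) a)) := by
    rw [restrict_iff 𝒮L u hP hPL hr hV₀ (Nat.succ_pos n) ha hGaff hG.1 hVX
      (MorphismProperty.isomorphisms Scheme.{u}), MorphismProperty.isomorphisms.iff,
      isIso_SpecMap_iff]
    refine ⟨(awayMap_injective_iff (φT 𝒮L u hV₀ hGaff hG.1) ha).2 ?_,
      (awayMap_surjective_iff 𝒮L u hP hPL hr hV₀ (Nat.succ_pos n) ha hGaff hG.1 hVX).2 ?_⟩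
    · -- injectivity
      intro m _ s' hs' h0
      have hδ := isHomog_app 𝒮L u hV₀ hs'
      have h0' : rs 𝒮L hG.1 ((u.app V₀).hom s') = 0 := h0
      obtain ⟨k, hk⟩ := exists_pow_mul_eq_zero L 𝒮L jL hjL hL hUc
        (isHomog_app 𝒮L u hV₀ ha) hδ hG h0'
      refine ⟨k + 1, Nat.succ_pos k, hu.1 ?_⟩
      rw [map_zero, map_mul, map_pow, pow_succ, mul_assoc, mul_comm ((u.app V₀).hom a), ← mul_assoc,
        hk, zero_mul]
    · -- surjectivity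
      intro t
      obtain ⟨m, hm, τ', hτ', hτ't⟩ := exists_extension L 𝒮L jL hjL hL hUc hUqs
        (isHomog_app 𝒮L u hV₀ ha) hG t
      obtain ⟨s', hs', hus'⟩ := exists_preimage_deg 𝒮L u hV₀ hu hτ'
      refine ⟨m, hm, s', hs', ?_⟩
      change (𝒮L.str.app (op _)).hom t * (rs 𝒮L hG.1 ((u.app V₀).hom a)) ^ m =
        rs 𝒮L hG.1 ((u.app V₀).hom s')
      rw [hus', hτ't]
  exact hiso

include hjL hPL hP hr in
/-- **EGA II 4.6.3 (ample ⇒ `r_{L,σ}` is an everywhere defined dominant open immersion)** -/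
theorem isOpenImmersion_of_isRelAmple [QuasiCompact f] (hL : PicF.IsInvertible L)
    (hu : ∀ (U : Y.Opens), IsAffineOpen U → Function.Bijective (u.app U).hom)
    (h : RelAmple.IsRelAmple f L) :
    RelProj.domQ u pL chartL = ⊤ ∧ IsOpenImmersion r ∧ IsDominant r := by
  have key : ∀ x : X, ∃ (V₀ : Y.Opens) (hV₀ : IsAffineOpen V₀) (n : ℕ) (_ : 0 < n)
      (a : 𝒜.presheaf.obj (op V₀)) (_ : a ∈ 𝒜.deg V₀ hV₀ n) (G : X.Opens),
      x ∈ G ∧ IsAffineOpen G ∧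
      (RelProj.domQ u pL chartL).ι ''ᵁ
        (r ⁻¹ᵁ ((RelProj.emb p chart V₀ hV₀) ''ᵁ Proj.basicOpen (𝒜.deg V₀ hV₀) a)) = pL ⁻¹ᵁ G ∧
      IsIso (r ∣_ ((RelProj.emb p chart V₀ hV₀) ''ᵁ Proj.basicOpen (𝒜.deg V₀ hV₀) a)) := by
    intro x
    obtain ⟨V₀, hV₀, hxV₀, -⟩ := exists_isAffineOpen_mem_and_subset (x := f.base x) (U := ⊤) trivial
    exact ⟨V₀, hV₀, exists_chart_iso L 𝒮L jL hjL hPL u hP hr hL hV₀ (hu V₀ hV₀)
      (h.2 ⟨V₀, hV₀⟩) x hxV₀⟩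
  choose V₀ hV₀ n hn a ha G hxG hGaff hVX hiso using key
  refine ⟨?_, ?_, ?_⟩
  · rw [eq_top_iff]
    intro y _
    have hy : y ∈ pL ⁻¹ᵁ G (pL.base y) := hxG (pL.base y)
    rw [← hVX] at hy
    obtain ⟨y', -, rfl⟩ := hy
    exact y'.2
  · apply IsZariskiLocalAtTarget.of_range_subset_iSup (P := @IsOpenImmersion)
      (fun x : X => (RelProj.emb p chart (V₀ x) (hV₀ x)) ''ᵁ
        Proj.basicOpen (𝒜.deg (V₀ x) (hV₀ x)) (a x))
    · rintro _ ⟨y', rfl⟩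
      have hy : (RelProj.domQ u pL chartL).ι.base y' ∈
          pL ⁻¹ᵁ G (pL.base ((RelProj.domQ u pL chartL).ι.base y')) := hxG _
      rw [← hVX] at hy
      obtain ⟨y'', hy'', he⟩ := hy
      rw [(RelProj.domQ u pL chartL).ι.isOpenEmbedding.injective he] at hy''
      exact Opens.mem_iSup.mpr ⟨_, hy''⟩
    · intro x
      haveI := hiso x
      infer_instance
  · rw [isDominant_iff_pairs u hP hPL hr]
    intro U hU n' _ s _ hloc
    have hc : IsCompact ((f ⁻¹ᵁ U : X.Opens) : Set X) :=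
      QuasiCompact.isCompact_preimage (f := f) _ U.2 hU.isCompact
    have h1 : IsNilpotent ((u.app U).hom s) := by
      refine isNilpotent_of_locally 𝒮L.toQCAlg (f ⁻¹ᵁ U) hc _ (fun x hx => ?_)
      obtain ⟨U', hU', hxU', hle⟩ := exists_isAffineOpen_mem_and_subset (x := x) (U := f ⁻¹ᵁ U) hx
      exact ⟨U', hle, hxU', hloc U' hU' hle⟩
    obtain ⟨N, hN⟩ := h1
    refine ⟨N, (hu U hU).1 ?_⟩
    rw [map_pow, hN, map_zero]

include hjL hPL hP hr in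
/-- **if moreover `f` is universally closed, `r_{L,σ}` is an isomorphism** -/
theorem isIso_of_isRelAmple [UniversallyClosed f] [QuasiCompact f] (hL : PicF.IsInvertible L)
    (hu : ∀ (U : Y.Opens), IsAffineOpen U → Function.Bijective (u.app U).hom)
    (h : RelAmple.IsRelAmple f L) :
    RelProj.domQ u pL chartL = ⊤ ∧ IsIso r := by
  obtain ⟨htop, hopen, hdom⟩ := isOpenImmersion_of_isRelAmple L 𝒮L jL hjL hPL u hP hr hL hu h
  refine ⟨htop, ?_⟩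
  have : IsIso pL := isIso_relProj L 𝒮L jL hjL pL chartL hPL hL
  have : IsIso (RelProj.domQ u pL chartL).ι := isIso_ι_of_eq_top htop
  have hcomp := qmapOn_comp u hP hPL hr
  have : IsSeparated p := Groth.Agent.S8259.result 𝒜 p chart hP
  have : UniversallyClosed (r ≫ p) := by
    rw [hcomp]
    infer_instance
  have : UniversallyClosed r := UniversallyClosed.of_comp_of_isSeparated r p
  have hclosed : IsClosed (Set.range r.base) := r.isClosedMap.isClosed_range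
  have hsurj : Function.Surjective r.base := by
    rw [← Set.range_eq_univ, ← hclosed.closure_eq]
    exact hdom.denseRange.closure_range
  haveI : Epi r.base := (TopCat.epi_iff_surjective _).2 hsurj
  exact IsOpenImmersion.isIso r

end Main

end Groth.Agent.Lib.Seat57.RLOpen
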