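import Mathlib
import Groth.Agent.Lib.Seat57RLRing
import Groth.Agent.Lib.Seat57RLChart

/-!
# Seat57RLSDom: over an affine base, with `X` quasi-compact and `u` injective on global sections, a
quasi-compact `r_{L,ψ}` is scheme-theoretically dominant (EGA II 4.5.2, S12683)
-/

set_option autoImplicit false
universe u
open CategoryTheory Limits AlgebraicGeometry TopologicalSpace Opposite
open HomogeneousLocalization

namespace Groth.Agent.Lib.Seat57.RLSDom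

open Groth.Agent.Helper13RelProj Groth.Agent.Lib.Seat57.RLRing
  Groth.Agent.Lib.Seat57.RLChart

section General

/-- scheme-theoretic dominance of a quasi-compact morphism can be checked on an affine open cover -/
theorem isSchemeTheoreticallyDominant_of_cover {Z P : Scheme.{u}} (r : Z ⟶ P) [QuasiCompact r]
    {ι : Type*} (D : ι → P.affineOpens) (hD : ⨆ i, (D i).1 = ⊤)
    (h : ∀ i, Function.Injective (r.app (D i).1).hom) : IsSchemeTheoreticallyDominant r := by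
  refine ⟨Scheme.IdealSheafData.ext_of_iSup_eq_top D hD (fun i => ?_)⟩
  rw [Scheme.Hom.ker_apply]
  exact (RingHom.injective_iff_ker_eq_bot _).1 (h i)

theorem appLE_eq_zero_of_eq {Z P W : Scheme.{u}} (r : Z ⟶ P) (k : W ⟶ Z) (m : W ⟶ P)
    (hm : k ≫ r = m) (D : P.Opens) (V : W.Opens) (e : V ≤ m ⁻¹ᵁ D) (g : Γ(P, D))
    (hg : (r.app D).hom g = 0) : (m.appLE D V e).hom g = 0 := by
  subst hm
  rw [Scheme.Hom.comp_appLE, CommRingCat.hom_comp, RingHom.comp_apply, hg, map_zero]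

/-- injectivity on sections over a standard affine chart, from a jointly injective family of charts
of the source -/
theorem app_injective_of_charts {Z P : Scheme.{u}} (r : Z ⟶ P) {A : CommRingCat.{u}}
    (i : Spec A ⟶ P) [IsOpenImmersion i] {κ : Type*} (B : κ → CommRingCat.{u})
    (k : ∀ v, Spec (B v) ⟶ Z) (ψ : ∀ v, A ⟶ B v) (hk : ∀ v, k v ≫ r = Spec.map (ψ v) ≫ i)
    (hψ : ∀ a : A, (∀ v, (ψ v).hom a = 0) → a = 0) :
    Function.Injective (r.app (i ''ᵁ ⊤)).hom := by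
  rw [injective_iff_map_eq_zero]
  intro g hg
  have hinj : Function.Injective ((i.appIso ⊤).hom ≫ (Scheme.ΓSpecIso A).hom).hom :=
    (ConcreteCategory.bijective_of_isIso ((i.appIso ⊤).hom ≫ (Scheme.ΓSpecIso A).hom)).1
  apply hinj
  rw [map_zero]
  apply hψ
  intro v
  have e₁ : (⊤ : (Spec A).Opens) ≤ i ⁻¹ᵁ (i ''ᵁ ⊤) := (i.preimage_image_eq ⊤).ge
  have e₂ : (⊤ : (Spec (B v)).Opens) ≤ Spec.map (ψ v) ⁻¹ᵁ ⊤ := le_rfl
  have h2 := Scheme.Hom.appLE_comp_appLE (Spec.map (ψ v)) i (i ''ᵁ ⊤) ⊤ ⊤ e₁ e₂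
  have h1 := appLE_eq_zero_of_eq r (k v) _ (hk v) (i ''ᵁ ⊤) ⊤
    (e₂.trans ((Opens.map (Spec.map (ψ v)).base).map (homOfLE e₁)).le) g hg
  rw [← h2] at h1
  have h3 : (Spec.map (ψ v)).appLE ⊤ ⊤ e₂ = (Spec.map (ψ v)).appTop := by
    rw [Scheme.Hom.appLE]
    erw [CategoryTheory.Functor.map_id]
    exact Category.comp_id _
  rw [h3] at h1
  have nat := Scheme.ΓSpecIso_naturality (ψ v)
  have h4 : (ψ v).hom ((Scheme.ΓSpecIso A).hom.hom ((i.appIso ⊤).hom.hom g)) =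
      (Scheme.ΓSpecIso (B v)).hom.hom ((Spec.map (ψ v)).appTop.hom ((i.appIso ⊤).hom.hom g)) :=
    (congr($(nat) ((i.appIso ⊤).hom.hom g))).symm
  change (ψ v).hom ((Scheme.ΓSpecIso A).hom.hom ((i.appIso ⊤).hom.hom g)) = 0
  rw [h4]
  rw [Scheme.Hom.appIso_hom']
  change (Scheme.ΓSpecIso (B v)).hom.hom
    ((i.appLE (i ''ᵁ ⊤) ⊤ e₁ ≫ (Spec.map (ψ v)).appTop).hom g) = 0
  rw [h1, map_zero]

end General

section Cover

variable {X : Scheme.{u}} (𝒮 : RelProj.QCGrAlg X)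

/-- local annihilation by powers over a quasi-compact open -/
theorem exists_pow_mul_eq_zero_of_locally (U : X.Opens) (hU : IsCompact (U : Set X))
    (a b : 𝒮.presheaf.obj (op U))
    (h : ∀ x ∈ U, ∃ (V : X.Opens) (hVU : V ≤ U) (k : ℕ), x ∈ V ∧ rs 𝒮 hVU (a ^ k * b) = 0) :
    ∃ K : ℕ, a ^ K * b = 0 := by
  choose V hVU k hxV hk using h
  obtain ⟨T, hT⟩ := hU.elim_finite_subcover (fun x : U => (V x.1 x.2 : Set X)) (fun x => (V x.1 x.2).2)
    (fun x hx => Set.mem_iUnion.2 ⟨⟨x, hx⟩, hxV x hx⟩)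
  refine ⟨T.sup (fun x => k x.1 x.2), ?_⟩
  refine rs_ext 𝒮 (fun x : T => V x.1.1 x.1.2) (fun x => hVU x.1.1 x.1.2) ?_ _ _ (fun x => ?_)
  · intro y hy
    obtain ⟨x, hx⟩ := Set.mem_iUnion.1 (hT hy)
    obtain ⟨hxT, hyx⟩ := Set.mem_iUnion.1 hx
    exact Opens.mem_iSup.2 ⟨⟨x, hxT⟩, hyx⟩
  · have hle' : k x.1.1 x.1.2 ≤ T.sup (fun x => k x.1 x.2) :=
      Finset.le_sup (f := fun x : U => k x.1 x.2) x.2
    obtain ⟨i, hi⟩ := Nat.exists_eq_add_of_le hle'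
    rw [hi, pow_add, mul_comm (a ^ k x.1.1 x.1.2), mul_assoc, map_mul, hk, mul_zero, map_zero]

end Cover

section Main

variable {X Y P PL : Scheme.{u}} {f : X ⟶ Y}
  (𝒮L : RelProj.QCGrAlg X)
  {pL : PL ⟶ X}
  {chartL : ∀ (U : X.Opens) (hU : IsAffineOpen U),
    (((pL ⁻¹ᵁ U : PL.Opens) : Scheme.{u}) ≅ Proj (𝒮L.deg U hU))}
  {𝒜 : RelProj.QCGrAlg Y} (u : RelProj.QGrHom f 𝒜 𝒮L)
  {p : P ⟶ Y}
  {chart : ∀ (U : Y.Opens) (hU : IsAffineOpen U),
    (((p ⁻¹ᵁ U : P.Opens) : Scheme.{u}) ≅ Proj (𝒜.deg U hU))}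
  {r : ((RelProj.domQ u pL chartL : PL.Opens) : Scheme.{u}) ⟶ P}
  (hr : RelProj.IsProjQMapOn u p chart pL chartL (RelProj.domQ u pL chartL) r)

include hr in
/-- **scheme-theoretic dominance of `r_{L,ψ}`** over an affine base -/
theorem isSchemeTheoreticallyDominant_of_injective [CompactSpace X] [QuasiCompact r]
    (hY : IsAffineOpen (⊤ : Y.Opens)) (hu : Function.Injective (u.app ⊤).hom) :
    IsSchemeTheoreticallyDominant r := by
  have hc : IsCompact ((f ⁻¹ᵁ ⊤ : X.Opens) : Set X) := by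
    rw [Scheme.Hom.preimage_top]
    exact isCompact_univ
  refine isSchemeTheoreticallyDominant_of_cover r
    (fun s : {s : Σ n : ℕ, 𝒜.presheaf.obj (op ⊤) // 0 < s.1 ∧ s.2 ∈ 𝒜.deg ⊤ hY s.1} =>
      (⟨iV (p := p) (chart := chart) hY s.2.1 s.2.2 ''ᵁ ⊤,
        (isAffineOpen_top _).image_of_isOpenImmersion _⟩ : P.affineOpens)) ?_ (fun s => ?_)
  · rw [eq_top_iff]
    intro pt _
    obtain ⟨z, rfl⟩ := exists_chart_point (chartB := chart) ⊤ hY pt trivial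
    obtain ⟨n, y, hn, hy, hzy⟩ := Groth.Agent.Helper13RL.exists_mem_basicOpen_pos (𝒜.deg ⊤ hY) z
    rw [← Proj.opensRange_awayι (𝒜.deg ⊤ hY) y hy hn] at hzy
    obtain ⟨w, rfl⟩ := hzy
    exact Opens.mem_iSup.2 ⟨⟨⟨n, y⟩, hn, hy⟩, w, trivial, rfl⟩
  · obtain ⟨⟨n, s⟩, hn, hs⟩ := s
    have hle : ∀ V : X.affineOpens, V.1 ≤ f ⁻¹ᵁ (⊤ : Y.Opens) := fun V =>
      le_top.trans (Scheme.Hom.preimage_top f).ge
    refine app_injective_of_charts r (iV (p := p) (chart := chart) hY hn hs)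
      (fun V : X.affineOpens =>
        CommRingCat.of (Away (𝒮L.deg V.1 V.2) (φT 𝒮L u hY V.2 (hle V) s)))
      (fun V => iU 𝒮L u (pL := pL) (chartL := chartL) hY hn hs V.2 (hle V))
      (fun V => CommRingCat.ofHom (Away.map (φT 𝒮L u hY V.2 (hle V)) s))
      (fun V => hr ⊤ hY V.1 V.2 (hle V) n hn s hs _) ?_
    intro a ha
    obtain ⟨m, s', hs', rfl⟩ := Away.mk_surjective (𝒜.deg ⊤ hY) hs a
    rw [Groth.Agent.Helper13RL.awayMk_eq_zero_iff]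
    have hloc : ∀ x ∈ f ⁻¹ᵁ (⊤ : Y.Opens), ∃ (V : X.Opens) (hVU : V ≤ f ⁻¹ᵁ (⊤ : Y.Opens)) (k : ℕ),
        x ∈ V ∧ rs 𝒮L hVU (((u.app ⊤).hom s) ^ k * (u.app ⊤).hom s') = 0 := by
      intro x hx
      obtain ⟨V, hV, hxV, hVle⟩ := exists_isAffineOpen_mem_and_subset (x := x)
        (U := f ⁻¹ᵁ (⊤ : Y.Opens)) hx
      have h1 := ha ⟨V, hV⟩
      change Away.map (φT 𝒮L u hY hV (hle ⟨V, hV⟩)) s (Away.mk (𝒜.deg ⊤ hY) hs m s' hs') = 0 at h1
      rw [Away.map_mk, Groth.Agent.Helper13RL.awayMk_eq_zero_iff] at h1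
      obtain ⟨k, hk⟩ := h1
      refine ⟨V, hVle, k, hxV, ?_⟩
      rw [map_mul, map_pow]
      exact hk
    obtain ⟨K, hK⟩ := exists_pow_mul_eq_zero_of_locally 𝒮L (f ⁻¹ᵁ ⊤) hc _ _ hloc
    refine ⟨K, hu ?_⟩
    rw [map_mul, map_pow, hK, map_zero]

end Main

end Groth.Agent.Lib.Seat57.RLSDom
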