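import Mathlib
import Groth.Agent.Lib.Seat57RLOpen
import Groth.Agent.Lib.Seat57RLSDom

/-!
# Seat57RLOpen2: absolute version (affine base, `L` ample on a quasi-compact `X`): `r` is an everywhere
defined quasi-compact scheme-theoretically dominant open immersion (EGA II 4.5.2, S12683)
-/

set_option autoImplicit false
universe u
open CategoryTheory Limits AlgebraicGeometry TopologicalSpace Opposite
open HomogeneousLocalization

namespace Groth.Agent.Lib.Seat57.RLOpen2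

open Groth.Agent.Helper13SymAlg Groth.Agent.Helper13ProjLine Groth.Agent.Helper13GrPoly
  Groth.Agent.Lib.Helper23.SecTw Groth.Agent.Lib.Helper6
  Groth.Agent.Lib.Seat57.RLOpen Groth.Agent.Lib.Seat57.RLDom Groth.Agent.Lib.Seat57.RLSDom

section Main

variable {X Y P PL : Scheme.{u}} {f : X ⟶ Y}
  (L : X.Modules) [L.IsQuasicoherent]
  (𝒮L : RelProj.QCGrAlg X) (jL : L ⟶ 𝒮L.toModule) (hjL : RelProj.IsGrSymAlg L 𝒮L jL)
  {pL : PL ⟶ X}
  {chartL : ∀ (U : X.Opens) (hU : IsAffineOpen U),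
    (((pL ⁻¹ᵁ U : PL.Opens) : Scheme.{u}) ≅ Proj (𝒮L.deg U hU))}
  (hPL : RelProj.IsRelProj 𝒮L pL chartL)
  {𝒜 : RelProj.QCGrAlg Y} (u : RelProj.QGrHom f 𝒜 𝒮L)
  {p : P ⟶ Y}
  {chart : ∀ (U : Y.Opens) (hU : IsAffineOpen U),
    (((p ⁻¹ᵁ U : P.Opens) : Scheme.{u}) ≅ Proj (𝒜.deg U hU))}
  (hP : RelProj.IsRelProj 𝒜 p chart)
  {r : ((RelProj.domQ u pL chartL : PL.Opens) : Scheme.{u}) ⟶ P}
  (hr : RelProj.IsProjQMapOn u p chart pL chartL (RelProj.domQ u pL chartL) r)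

include hjL hPL hP hr in
/-- **EGA II 4.5.2**: `L` ample on a quasi-compact `X`, affine base, `u` bijective on global sections -/
theorem main [CompactSpace X] [QuasiCompact f] (hY : IsAffineOpen (⊤ : Y.Opens))
    (hu : Function.Bijective (u.app ⊤).hom) (hLa : CohB1.IsAmple L) :
    RelProj.domQ u pL chartL = ⊤ ∧ IsOpenImmersion r ∧ QuasiCompact r ∧
      IsSchemeTheoreticallyDominant r := by
  have hL : PicF.IsInvertible L := hLa.1
  have hc : IsCompact ((f ⁻¹ᵁ ⊤ : X.Opens) : Set X) := by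
    rw [Scheme.Hom.preimage_top]
    exact isCompact_univ
  have hamp : CohB1.IsAmple (L.restrict (f ⁻¹ᵁ (⊤ : Y.Opens)).ι) := isAmple_restrict L hLa _ hc
  have key : ∀ x : X, ∃ (n : ℕ) (_ : 0 < n)
      (a : 𝒜.presheaf.obj (op ⊤)) (_ : a ∈ 𝒜.deg ⊤ hY n) (G : X.Opens),
      x ∈ G ∧ IsAffineOpen G ∧
      (RelProj.domQ u pL chartL).ι ''ᵁ
        (r ⁻¹ᵁ ((RelProj.emb p chart ⊤ hY) ''ᵁ Proj.basicOpen (𝒜.deg ⊤ hY) a)) = pL ⁻¹ᵁ G ∧
      IsIso (r ∣_ ((RelProj.emb p chart ⊤ hY) ''ᵁ Proj.basicOpen (𝒜.deg ⊤ hY) a)) := fun x =>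
    exists_chart_iso L 𝒮L jL hjL hPL u hP hr hL hY hu hamp x trivial
  choose n hn a ha G hxG hGaff hVX hiso using key
  have htop : RelProj.domQ u pL chartL = ⊤ := by
    rw [eq_top_iff]
    intro y _
    have hy : y ∈ pL ⁻¹ᵁ G (pL.base y) := hxG (pL.base y)
    rw [← hVX] at hy
    obtain ⟨y', -, rfl⟩ := hy
    exact y'.2
  have hopen : IsOpenImmersion r := by
    apply IsZariskiLocalAtTarget.of_range_subset_iSup (P := @IsOpenImmersion)
      (fun x : X => (RelProj.emb p chart ⊤ hY) ''ᵁ Proj.basicOpen (𝒜.deg ⊤ hY) (a x))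
    · rintro _ ⟨y', rfl⟩
      have hy : (RelProj.domQ u pL chartL).ι.base y' ∈
          pL ⁻¹ᵁ G (pL.base ((RelProj.domQ u pL chartL).ι.base y')) := hxG _
      rw [← hVX] at hy
      obtain ⟨y'', hy'', he⟩ := hy
      rw [(RelProj.domQ u pL chartL).ι.isOpenEmbedding.injective he] at hy''
      exact Opens.mem_iSup.mpr ⟨_, hy''⟩
    · intro x
      haveI := hiso x
      infer_instance
  have hqc : QuasiCompact r := quasiCompact_of_top L 𝒮L jL hjL hPL u hP hL hY htop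
  exact ⟨htop, hopen, hqc, isSchemeTheoreticallyDominant_of_injective 𝒮L u hr hY hu.1⟩

end Main

end Groth.Agent.Lib.Seat57.RLOpen2
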