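import Mathlib
import Groth.Prelude.Def_RelProj3
import Groth.Agent.Lib.Seat57ChartGen
import Groth.Agent.Lib.Helper2RelTwistTensor
import Groth.Agent.Lib.Helper23TensorUnit
import Groth.Agent.Lib.Helper23AmpleIso
import Groth.Agent.Lib.Helper23RestrJ
import Groth.Agent.Lib.Helper23PB
import Groth.Agent.S8284

/-!
# Seat57RelAmple: the inverse image of `O_P(1)` along a topological embedding into a relative Proj
generated in degree one is relatively ample (EGA II 4.4.? / 4.6.?)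
-/

set_option autoImplicit false
universe u
open CategoryTheory Limits AlgebraicGeometry TopologicalSpace Opposite

namespace Groth.Agent.Lib.Seat57.RelAmple

open Groth.Agent.Lib.Helper2.RelTildeQCoh Groth.Agent.Lib.Helper23.SecTw Groth.Agent.Lib.Helper6
  Groth.Agent.Lib.Helper2.Push Groth.Agent.Lib.Helper2.RelTwistGen Groth.Agent.Lib.Helper2.IsGenCover
  Groth.Agent.Lib.Helper2.RelTwistTriv Groth.Agent.Lib.Helper2.RelTwistTensor RelProj
  Groth.Agent.Lib.Helper23.GenLocus Groth.Agent.Lib.Helper2.RelTwistInv Groth.Agent.Lib.Helper23.RestrJ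
  Groth.Agent.Lib.Helper2GrModSect Groth.Agent.Lib.Helper2.RelTwistAmple
  Groth.Agent.Lib.Helper23.AmpleIso Groth.Agent.Lib.Helper23.TensorUnit

section

variable {P S : Scheme.{u}} {𝒮 : RelProj.QCGrAlg S} (p : P ⟶ S)
  (chart : ∀ (U : S.Opens) (hU : IsAffineOpen U), (((p ⁻¹ᵁ U : P.Opens) : Scheme.{u}) ≅ Proj (𝒮.deg U hU)))
  (hP : RelProj.IsRelProj 𝒮 p chart) (hgen : 𝒮.IsGenDegOne)
  (O1 : P.Modules)
  (lam : ∀ (U : S.Opens) (hU : IsAffineOpen U),
    O1 ⟶ (Scheme.Modules.pushforward (RelProj.emb p chart U hU)).obj (GrTwist.twist (𝒮.deg U hU) 1))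
  (hO1 : RelProj.IsRelTwist 𝒮 p chart 1 O1 lam)

include hP hgen hO1 in
/-- `O_P(1)^{⊗ (m+1)}` is an `O_P(m+1)` -/
theorem exists_twist_tensorPow_iso (m : ℕ) :
    ∃ (L : P.Modules) (lamL : ∀ (U : S.Opens) (hU : IsAffineOpen U),
        L ⟶ (Scheme.Modules.pushforward (RelProj.emb p chart U hU)).obj
          (GrTwist.twist (𝒮.deg U hU) ((m + 1 : ℕ) : ℤ)))
      (_ : RelProj.IsRelTwist 𝒮 p chart ((m + 1 : ℕ) : ℤ) L lamL),
      Nonempty (CohB1.tensorPow O1 (m + 1) ≅ L) := by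
  induction m with
  | zero => exact ⟨O1, lam, hO1, ⟨unitTensorIso O1⟩⟩
  | succ m ih =>
    obtain ⟨L, lamL, hL, ⟨Φ⟩⟩ := ih
    obtain ⟨L', lam', hL'⟩ := Groth.Agent.S8284.result 𝒮 p chart hP ((m + 1 + 1 : ℕ) : ℤ)
    obtain ⟨Ψ⟩ := nonempty_tensor_iso p chart hP hgen ((m + 1 : ℕ) : ℤ) 1 L lamL hL O1 lam hO1 L' lam' hL'
    exact ⟨L', lam', hL', ⟨tensorModIso Φ (Iso.refl O1) ≪≫ Ψ⟩⟩

include hgen hO1 in
theorem isInvertible_O1 : PicF.IsInvertible O1 :=
  isInvertible_of_isGen O1 (fun x => by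
    obtain ⟨κ, hκ⟩ := exists_mem_VF p chart hgen x
    exact ⟨VF p chart κ, _, hκ, isGen_eF p chart 1 O1 lam hO1 1 0 (by norm_num) κ⟩)

include hP hgen hO1 in
/-- on the chart `Proj 𝒮(V)`, every `h ∈ 𝒮(V)_{m+1}` gives a section of `O(1)^{⊗ (m+1)}` with
generating locus `D₊(h)` -/
theorem exists_section_genLocus (V : S.Opens) (hV : IsAffineOpen V) (m : ℕ)
    (h : 𝒮.presheaf.obj (op V)) (hh : h ∈ 𝒮.deg V hV (m + 1)) :
    ∃ s : Coh.structureModule (Proj (𝒮.deg V hV)) ⟶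
        CohB1.tensorPow (O1.restrict (RelProj.emb p chart V hV)) (m + 1),
      CohB1.genLocus _ s = Proj.basicOpen (𝒮.deg V hV) h := by
  obtain ⟨L, lamL, hL, ⟨Φ⟩⟩ := exists_twist_tensorPow_iso p chart hP hgen O1 lam hO1 m
  have hinv1 : PicF.IsInvertible O1 := isInvertible_O1 p chart hgen O1 lam hO1
  have hcov : ∀ y : ProjectiveSpectrum (𝒮.deg V hV),
      ∃ g ∈ 𝒮.deg V hV (m + 1), g ∉ y.asHomogeneousIdeal := fun y => by
    obtain ⟨t, ht, hty⟩ := exists_degOne_not_mem_of_gen (𝒮.deg V hV) (hgen V hV) y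
    exact ⟨t ^ (m + 1), pow_mem_one ht (m + 1), fun hmem => hty (y.isPrime.mem_of_pow_mem _ hmem)⟩
  obtain ⟨σ, hσ⟩ := Groth.Agent.Lib.Seat57.ChartGen.exists_genLocus_eq_basicOpen p chart (m + 1) L lamL hL
    V hV hcov h hh
  obtain ⟨Θ⟩ := nonempty_restrict_tensorPow_iso (RelProj.emb p chart V hV) O1 hinv1 (m + 1)
  let e : L.restrict (RelProj.emb p chart V hV) ≅
      CohB1.tensorPow (O1.restrict (RelProj.emb p chart V hV)) (m + 1) :=
    ((Scheme.Modules.restrictFunctor (RelProj.emb p chart V hV)).mapIso Φ).symm ≪≫ Θ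
  exact ⟨secHom _ σ ≫ e.hom, by rw [genLocus_comp_iso, hσ]⟩

end

section Basis

variable {A σ : Type u} [CommRing A] [SetLike σ A] [AddSubgroupClass σ A] (𝒜 : ℕ → σ) [GradedRing 𝒜]

/-- the `D₊(h)`, `h` homogeneous of positive degree, form a basis of `Proj` of an algebra generated in
degree one -/
theorem exists_basicOpen_pos_le
    (hgen : Subring.closure ((𝒜 0 : Set A) ∪ (𝒜 1 : Set A)) = ⊤)
    (y : ProjectiveSpectrum 𝒜) (B : Set (ProjectiveSpectrum 𝒜)) (hB : IsOpen B) (hy : y ∈ B) :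
    ∃ (m : ℕ) (h : A), h ∈ 𝒜 (m + 1) ∧ h ∉ y.asHomogeneousIdeal ∧
      ∀ z : ProjectiveSpectrum 𝒜, h ∉ z.asHomogeneousIdeal → z ∈ B := by
  classical
  obtain ⟨_, ⟨f, rfl⟩, hyf, hfB⟩ :=
    (ProjectiveSpectrum.isTopologicalBasis_basic_opens 𝒜).exists_subset_of_mem_open hy hB
  have hfy : f ∉ y.asHomogeneousIdeal := (ProjectiveSpectrum.mem_basicOpen 𝒜 f y).mp hyf
  -- a homogeneous component of `f` outside `y`
  obtain ⟨i, hi⟩ : ∃ i : ℕ, (DirectSum.decompose 𝒜 f i : A) ∉ y.asHomogeneousIdeal := by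
    by_contra hcon
    push Not at hcon
    apply hfy
    rw [← DirectSum.sum_support_decompose 𝒜 f]
    exact Ideal.sum_mem _ (fun i _ => hcon i)
  obtain ⟨t, ht, hty⟩ := exists_degOne_not_mem_of_gen 𝒜 hgen y
  refine ⟨i, (DirectSum.decompose 𝒜 f i : A) * t, SetLike.mul_mem_graded (SetLike.coe_mem _) ht, ?_, ?_⟩
  · intro hmem
    rcases y.isPrime.mem_or_mem hmem with h1 | h1
    · exact hi h1
    · exact hty h1
  · intro z hz
    apply hfB
    change z ∈ ProjectiveSpectrum.basicOpen 𝒜 f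
    rw [ProjectiveSpectrum.mem_basicOpen]
    intro hfz
    apply hz
    exact Ideal.mul_mem_right _ _ (z.asHomogeneousIdeal.isHomogeneous i hfz)

end Basis

section Chart

variable {Z Q : Scheme.{u}} (k : Z ⟶ Q)

/-- ampleness of a pullback along a topological embedding, from enough sections with small
generating loci -/
theorem isAmple_pullback_of_basis [CompactSpace Z] (hk : Topology.IsEmbedding k) (M : Q.Modules)
    (hM : PicF.IsInvertible M)
    (hbasis : ∀ (y : Q) (B : Q.Opens), y ∈ B →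
      ∃ (n : ℕ) (s : Coh.structureModule Q ⟶ CohB1.tensorPow M (n + 1)),
        y ∈ CohB1.genLocus _ s ∧ CohB1.genLocus _ s ≤ B) :
    CohB1.IsAmple ((Scheme.Modules.pullback k).obj M) := by
  refine Groth.Agent.Lib.Helper23.PB.isAmple_pullback_of k M hM (fun x => ?_)
  obtain ⟨A, hA, hxA, -⟩ := exists_isAffineOpen_mem_and_subset (X := Z) (x := x) (U := ⊤) trivial
  obtain ⟨B, hB, hBA⟩ := hk.isInducing.isOpen_iff.1 A.isOpen
  obtain ⟨n, s, hxs, hsB⟩ := hbasis (k x) ⟨B, hB⟩ (by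
    have : x ∈ k ⁻¹' B := by rw [hBA]; exact hxA
    exact this)
  refine ⟨n, s, hxs, ?_⟩
  obtain ⟨s', hs'⟩ := Groth.Agent.Lib.Helper23.PB.exists_pullback_section k M hM (n + 1) s
  have hle : k ⁻¹ᵁ CohB1.genLocus _ s ≤ A := by
    intro z hz
    have h1 : z ∈ k ⁻¹' B := hsB hz
    rw [hBA] at h1
    exact h1
  have h2 := isAffineOpen_inf_genLocus _
    (isInvertible_tensorPow (Groth.Agent.Lib.Helper23.PB.isInvertible_pullback k M hM) (n + 1)) s' A hA
  rw [hs', inf_eq_right.2 hle] at h2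
  exact h2

end Chart

section Main

variable {X P S : Scheme.{u}} {𝒮 : RelProj.QCGrAlg S} (p : P ⟶ S)
  (chart : ∀ (U : S.Opens) (hU : IsAffineOpen U), (((p ⁻¹ᵁ U : P.Opens) : Scheme.{u}) ≅ Proj (𝒮.deg U hU)))
  (hP : RelProj.IsRelProj 𝒮 p chart) (hgen : 𝒮.IsGenDegOne)
  (O1 : P.Modules)
  (lam : ∀ (U : S.Opens) (hU : IsAffineOpen U),
    O1 ⟶ (Scheme.Modules.pushforward (RelProj.emb p chart U hU)).obj (GrTwist.twist (𝒮.deg U hU) 1))
  (hO1 : RelProj.IsRelTwist 𝒮 p chart 1 O1 lam)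

include hP hgen hO1 in
/-- **EGA II 4.6.? : the inverse image of `O_P(1)` along a topological embedding over the base is
relatively ample** (`P` a relative Proj of an algebra generated in degree one). -/
theorem isRelAmple_pullback_of_isEmbedding (f : X ⟶ S) [QuasiCompact f] (g : X ⟶ P) (hg : g ≫ p = f)
    (hemb : Topology.IsEmbedding g.base) :
    RelAmple.IsRelAmple f ((Scheme.Modules.pullback g).obj O1) := by
  refine ⟨inferInstance, fun V => ?_⟩
  have hinv1 : PicF.IsInvertible O1 := isInvertible_O1 p chart hgen O1 lam hO1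
  have hcs : CompactSpace ((↑(f ⁻¹ᵁ V.1) : Scheme.{u})) :=
    isCompact_iff_compactSpace.1 (QuasiCompact.isCompact_preimage (f := f) _ V.1.2 V.2.isCompact)
  -- the lift to the chart
  have hrange : Set.range ((f ⁻¹ᵁ V.1).ι ≫ g).base ⊆ Set.range (RelProj.emb p chart V.1 V.2).base := by
    rintro _ ⟨z, rfl⟩
    have h1 : ((f ⁻¹ᵁ V.1).ι ≫ g) z ∈ p ⁻¹ᵁ V.1 := by
      change p (((f ⁻¹ᵁ V.1).ι ≫ g) z) ∈ V.1
      rw [← Scheme.Hom.comp_apply, Category.assoc, hg]
      exact z.2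
    exact le_opensRange_emb p chart V.1 V.2 h1
  let k : (↑(f ⁻¹ᵁ V.1) : Scheme.{u}) ⟶ Proj (𝒮.deg V.1 V.2) :=
    IsOpenImmersion.lift (RelProj.emb p chart V.1 V.2) ((f ⁻¹ᵁ V.1).ι ≫ g) hrange
  have hk : k ≫ RelProj.emb p chart V.1 V.2 = (f ⁻¹ᵁ V.1).ι ≫ g :=
    IsOpenImmersion.lift_fac _ _ _
  have hkemb : Topology.IsEmbedding k.base := by
    have h1 : Topology.IsEmbedding ((f ⁻¹ᵁ V.1).ι ≫ g).base := by
      rw [Scheme.Hom.comp_base]
      exact hemb.comp (f ⁻¹ᵁ V.1).ι.isOpenEmbedding.isEmbedding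
    rw [← hk, Scheme.Hom.comp_base] at h1
    exact Topology.IsEmbedding.of_comp k.base.hom.continuous
      (RelProj.emb p chart V.1 V.2).base.hom.continuous h1
  -- ampleness on the chart
  have hamp : CohB1.IsAmple ((Scheme.Modules.pullback k).obj (O1.restrict (RelProj.emb p chart V.1 V.2))) := by
    refine isAmple_pullback_of_basis k hkemb _ (isInvertible_restrict _ O1 hinv1) (fun y B hy => ?_)
    obtain ⟨m, h, hh, hhy, hhB⟩ := exists_basicOpen_pos_le (𝒮.deg V.1 V.2) (hgen V.1 V.2) y B.1 B.2 hy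
    obtain ⟨s, hs⟩ := exists_section_genLocus p chart hP hgen O1 lam hO1 V.1 V.2 m h hh
    refine ⟨m, s, ?_, ?_⟩
    · rw [hs]; exact (ProjectiveSpectrum.mem_basicOpen _ h y).mpr hhy
    · rw [hs]
      intro z hz
      exact hhB z ((ProjectiveSpectrum.mem_basicOpen _ h z).mp hz)
  -- transport
  let e : (Scheme.Modules.pullback k).obj (O1.restrict (RelProj.emb p chart V.1 V.2)) ≅
      ((Scheme.Modules.pullback g).obj O1).restrict (f ⁻¹ᵁ V.1).ι :=
    (Scheme.Modules.pullback k).mapIso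
        ((Scheme.Modules.restrictFunctorIsoPullback (RelProj.emb p chart V.1 V.2)).app O1) ≪≫
      (Scheme.Modules.pullbackComp k (RelProj.emb p chart V.1 V.2)).app O1 ≪≫
      (Scheme.Modules.pullbackCongr hk).app O1 ≪≫
      ((Scheme.Modules.pullbackComp (f ⁻¹ᵁ V.1).ι g).app O1).symm ≪≫
      ((Scheme.Modules.restrictFunctorIsoPullback (f ⁻¹ᵁ V.1).ι).app
        ((Scheme.Modules.pullback g).obj O1)).symm
  exact isAmple_of_iso e hamp

end Main

end Groth.Agent.Lib.Seat57.RelAmple
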