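import Mathlib
import Groth.Prelude.Def_LCI2
import Groth.Agent.Lib.Helper23AmpleIso
import Groth.Agent.Lib.Helper23RestrJ
import Groth.Agent.Lib.Helper23Restr2

/-!
# Seat57RelAmple2: relative ampleness is invariant under isomorphism and under passing from a positive
tensor power to the module
-/

set_option autoImplicit false
universe u
open CategoryTheory Limits AlgebraicGeometry TopologicalSpace Opposite

namespace Groth.Agent.Lib.Seat57.RelAmple2

variable {X S : Scheme.{u}} (f : X ⟶ S)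

theorem isRelAmple_of_iso {L L' : X.Modules} (e : L ≅ L') (h : RelAmple.IsRelAmple f L) :
    RelAmple.IsRelAmple f L' := by
  obtain ⟨hqc, h⟩ := h
  refine ⟨hqc, fun V => ?_⟩
  exact Groth.Agent.Lib.Helper23.AmpleIso.isAmple_of_iso
    ((Scheme.Modules.restrictFunctor (f ⁻¹ᵁ V.1).ι).mapIso e) (h V)

theorem isRelAmple_of_tensorPow (L : X.Modules) (hL : PicF.IsInvertible L) (n : ℕ) (hn : 0 < n)
    (h : RelAmple.IsRelAmple f (CohB1.tensorPow L n)) : RelAmple.IsRelAmple f L := by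
  obtain ⟨hqc, h⟩ := h
  refine ⟨hqc, fun V => ?_⟩
  obtain ⟨e⟩ := Groth.Agent.Lib.Helper23.RestrJ.nonempty_restrict_tensorPow_iso (f ⁻¹ᵁ V.1).ι L hL n
  have h1 := Groth.Agent.Lib.Helper23.AmpleIso.isAmple_of_iso e (h V)
  exact (Groth.Agent.Lib.Helper23.SecTw.isAmple_tensorPow_iff _
    (Groth.Agent.Lib.Helper23.RestrJ.isInvertible_restrict (f ⁻¹ᵁ V.1).ι L hL) n hn).2 h1

end Groth.Agent.Lib.Seat57.RelAmple2
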