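import Mathlib.AlgebraicGeometry.IdealSheaf.Subscheme
import Mathlib.AlgebraicGeometry.Morphisms.ClosedImmersion

/-!
# First order thickenings and ideal sheaves

* `mul_eq_zero_of_ker_mul_ker`: if `j : T ⟶ T'` is quasi-compact with `j.ker * j.ker = ⊥`, then the
  product of two local sections of `O_{T'}` killed by `j` is zero.
* `sq_le_ker`: if moreover `I ≤ (j ≫ f).ker` then `I * I ≤ f.ker`.
* `ker_inclusion_mul_self`: the kernel of `V(I) ⟶ V(I ^ 2)` has square zero.
-/

set_option autoImplicit false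

universe u

open CategoryTheory AlgebraicGeometry TopologicalSpace

namespace Groth.Agent.Lib.Seat57.Thick

variable {T T' Y : Scheme.{u}}

/-- Sections killed by a quasi-compact morphism whose kernel has square zero multiply to zero. -/
theorem mul_eq_zero_of_ker_mul_ker (j : T ⟶ T') [QuasiCompact j] (hj : j.ker * j.ker = ⊥)
    (V : T'.Opens) (x y : Γ(T', V)) (hx : j.app V x = 0) (hy : j.app V y = 0) : x * y = 0 := by
  refine T'.IsSheaf.section_ext (U := Opposite.op V) ?_
  intro p hp
  obtain ⟨_, ⟨W, hW, rfl⟩, hpW, hWV⟩ := T'.isBasis_affineOpens.exists_subset_of_mem_open hp V.2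
  refine ⟨W, hWV, hpW, ?_⟩
  have hxW : (T'.presheaf.map (homOfLE hWV).op) x ∈ (j.ker).ideal ⟨W, hW⟩ := by
    rw [Scheme.Hom.ker_apply, RingHom.mem_ker]
    have := j.naturality (homOfLE hWV).op
    have h2 := congrArg (fun φ => φ.hom x) this
    simp only [CommRingCat.hom_comp, RingHom.coe_comp, Function.comp_apply] at h2
    rw [h2]
    change (T.presheaf.map _).hom (j.app V x) = 0
    rw [hx, map_zero]
  have hyW : (T'.presheaf.map (homOfLE hWV).op) y ∈ (j.ker).ideal ⟨W, hW⟩ := by
    rw [Scheme.Hom.ker_apply, RingHom.mem_ker]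
    have := j.naturality (homOfLE hWV).op
    have h2 := congrArg (fun φ => φ.hom y) this
    simp only [CommRingCat.hom_comp, RingHom.coe_comp, Function.comp_apply] at h2
    rw [h2]
    change (T.presheaf.map _).hom (j.app V y) = 0
    rw [hy, map_zero]
  have hmul : (T'.presheaf.map (homOfLE hWV).op) x * (T'.presheaf.map (homOfLE hWV).op) y ∈
      (j.ker * j.ker).ideal ⟨W, hW⟩ := by
    rw [Scheme.IdealSheafData.ideal_mul]
    exact Ideal.mul_mem_mul hxW hyW
  rw [hj, Scheme.IdealSheafData.ideal_bot] at hmul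
  change (T'.presheaf.map (homOfLE hWV).op) (x * y) = (T'.presheaf.map (homOfLE hWV).op) 0
  rw [map_mul, map_zero]
  exact hmul

/-- If `j` is quasi-compact with square-zero kernel and `I` is killed by `j ≫ f`, then `I * I` is
killed by `f`. -/
theorem mul_self_le_ker (j : T ⟶ T') [QuasiCompact j] (hj : j.ker * j.ker = ⊥)
    (f : T' ⟶ Y) (I : Y.IdealSheafData) (hI : I ≤ (j ≫ f).ker) : I * I ≤ f.ker := by
  unfold Scheme.Hom.ker
  rw [Scheme.IdealSheafData.le_ofIdeals_iff]
  intro W
  rw [Scheme.IdealSheafData.ideal_mul]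
  change I.ideal W * I.ideal W ≤ RingHom.ker (f.app W).hom
  rw [Ideal.mul_le]
  intro x hx y hy
  rw [RingHom.mem_ker, map_mul]
  have hker : ∀ z ∈ I.ideal W, j.app (f ⁻¹ᵁ W) ((f.app W).hom z) = 0 := by
    intro z hz
    have h1 : z ∈ ((j ≫ f).ker).ideal W := hI W hz
    have h2 := (j ≫ f).ideal_ker_le W h1
    rw [RingHom.mem_ker] at h2
    rw [Scheme.Hom.comp_app] at h2
    exact h2
  exact mul_eq_zero_of_ker_mul_ker j hj (f ⁻¹ᵁ W) _ _ (hker x hx) (hker y hy)

theorem isClosedImmersion_inclusion {I J : Y.IdealSheafData} (h : I ≤ J) :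
    IsClosedImmersion (Scheme.IdealSheafData.inclusion h) := by
  have : IsClosedImmersion (Scheme.IdealSheafData.inclusion h ≫ I.subschemeι) := by
    rw [Scheme.IdealSheafData.inclusion_subschemeι]; infer_instance
  exact IsClosedImmersion.of_comp_isClosedImmersion (Scheme.IdealSheafData.inclusion h)
    I.subschemeι

/-- The kernel of `V(I) ⟶ V(I ^ 2)` has square zero. -/
theorem ker_inclusion_mul_self (I : Y.IdealSheafData) (h : I ^ 2 ≤ I) :
    (Scheme.IdealSheafData.inclusion h).ker * (Scheme.IdealSheafData.inclusion h).ker = ⊥ := by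
  have hcl : IsClosedImmersion (Scheme.IdealSheafData.inclusion h) := isClosedImmersion_inclusion h
  set inc := Scheme.IdealSheafData.inclusion h with hinc
  set ι2 := (I ^ 2).subschemeι with hι2
  have hcomp : inc ≫ ι2 = I.subschemeι := Scheme.IdealSheafData.inclusion_subschemeι h
  refine Scheme.IdealSheafData.ext_of_iSup_eq_top
    (fun W : Y.affineOpens => (⟨ι2 ⁻¹ᵁ W.1, W.2.preimage ι2⟩ : (I ^ 2).subscheme.affineOpens)) ?_ ?_
  · change ⨆ W : Y.affineOpens, ι2 ⁻¹ᵁ W.1 = ⊤
    rw [← Scheme.Hom.preimage_iSup, iSup_affineOpens_eq_top, Scheme.Hom.preimage_top]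
  · intro W
    rw [Scheme.IdealSheafData.ideal_bot, Scheme.IdealSheafData.ideal_mul]
    refine le_bot_iff.mp ?_
    change inc.ker.ideal _ * inc.ker.ideal _ ≤ ⊥
    rw [Ideal.mul_le]
    intro x hx y hy
    rw [Scheme.Hom.ker_apply, RingHom.mem_ker] at hx hy
    obtain ⟨x', rfl⟩ := (I ^ 2).subschemeι_app_surjective W x
    obtain ⟨y', rfl⟩ := (I ^ 2).subschemeι_app_surjective W y
    have key : ∀ z : Γ(Y, W.1), (inc.app (ι2 ⁻¹ᵁ W.1)).hom ((ι2.app W.1).hom z) = 0 →
        z ∈ I.ideal W := by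
      intro z hz
      have h1 : z ∈ RingHom.ker ((inc ≫ ι2).app W.1).hom := by
        rw [RingHom.mem_ker, Scheme.Hom.comp_app]
        exact hz
      have hqc : QuasiCompact (inc ≫ ι2) := by rw [hcomp]; infer_instance
      rw [← Scheme.Hom.ker_apply, hcomp, Scheme.IdealSheafData.ker_subschemeι] at h1
      exact h1
    have hx' := key x' hx
    have hy' := key y' hy
    have hxy : x' * y' ∈ (I ^ 2).ideal W := by
      rw [Scheme.IdealSheafData.ideal_pow, pow_two]
      exact Ideal.mul_mem_mul hx' hy'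
    rw [← (I ^ 2).ker_subschemeι_app W, RingHom.mem_ker] at hxy
    rw [Ideal.mem_bot]
    change (ι2.app W.1).hom x' * (ι2.app W.1).hom y' = 0
    rw [← map_mul]
    exact hxy

/-- `V(I) ⟶ V(I ^ 2)` is surjective on points. -/
theorem surjective_inclusion_sq (I : Y.IdealSheafData) (h : I ^ 2 ≤ I) :
    Function.Surjective (Scheme.IdealSheafData.inclusion h) := by
  intro z
  have hz : (I ^ 2).subschemeι z ∈ Set.range I.subschemeι := by
    rw [Scheme.IdealSheafData.range_subschemeι, ← Scheme.IdealSheafData.support_pow I 2 two_ne_zero,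
      ← Scheme.IdealSheafData.range_subschemeι]
    exact ⟨z, rfl⟩
  obtain ⟨w, hw⟩ := hz
  refine ⟨w, ?_⟩
  apply (I ^ 2).subschemeι.isEmbedding.injective
  rw [← hw, ← Scheme.Hom.comp_apply, Scheme.IdealSheafData.inclusion_subschemeι]

end Groth.Agent.Lib.Seat57.Thick
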