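-- helper58 (seat 58): objects `E` of `Art Λ k` for which `F(A ×_k E) → F(A) ×_{F(k)} F(E)` is bijective.
import Groth.Agent.Lib.Helper19Deform

set_option autoImplicit false
universe u v w

open CategoryTheory ArtFun ArtFun.Art

namespace Groth.Agent.Lib.Seat58.ArtGood

open Groth.Agent.Lib.Helper19

variable {Λ : Type u} {k : Type u} [CommRing Λ] [Field k] [Algebra Λ k]

/-- `E` is good for `F`: the comparison map of every fibre product `A ×_k E` is bijective. -/
def Good (F : Art Λ k ⥤ Type v) (E : Art Λ k) : Prop :=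
  ∀ ⦃B A : Art Λ k⦄ (p' : B ⟶ A) (p'' : B ⟶ E)
    (h : IsFibreProd p' p'' (toBase A) (toBase E)), Function.Bijective (cmp F h)

theorem good_dual_of_heps {F : Art Λ k ⥤ Type v} (hF : Heps F) : Good F (dual Λ k) :=
  fun _ _ p' p'' h => hF p' p'' h

/-- An object whose augmentation is bijective is good. -/
theorem good_of_bijective_toBase (F : Art Λ k ⥤ Type v) (E : Art Λ k)
    (hE : Function.Bijective (toBase E)) : Good F E := by
  intro B A p' p'' h
  have : IsIso (toBase E) := isIso_of_bijective _ hE
  have : IsIso p' := isIso_of_bijective p' (fibreProd_fst_bijective_of_bijective h hE)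
  constructor
  · rw [cmp_injective_iff]
    intro z z' e1 _
    have := congrArg (F.map (inv p')) e1
    rwa [map_inv_map, map_inv_map] at this
  · rw [cmp_surjective_iff]
    intro x' x'' hx
    refine ⟨F.map (inv p') x', map_map_inv F p' x', ?_⟩
    have e1 : inv p' ≫ p'' = toBase A ≫ inv (toBase E) := by
      rw [IsIso.inv_comp_eq, ← Category.assoc, IsIso.eq_comp_inv, h.w]
    rw [← map_comp_apply', e1, map_comp_apply', hx, map_inv_map]

/-- Goodness is invariant under isomorphism. -/
theorem good_of_iso (F : Art Λ k ⥤ Type v) {E E' : Art Λ k} (φ : E ⟶ E') [IsIso φ]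
    (hE : Good F E) : Good F E' := by
  intro B A p' p'' h
  have hφ := bijective_of_isIso φ
  have hψ := bijective_of_isIso (inv φ)
  have hinv : ∀ e : E', φ (inv φ e) = e := fun e => by
    change (inv φ ≫ φ) e = e
    rw [IsIso.inv_hom_id]; rfl
  have h' : IsFibreProd p' (p'' ≫ inv φ) (toBase A) (toBase E) :=
    { w := by rw [eq_toBase (p' ≫ toBase A), eq_toBase ((p'' ≫ inv φ) ≫ toBase E)]
      inj := fun b₁ b₂ e₁ e₂ => h.inj b₁ b₂ e₁ (hψ.1 e₂)
      surj := fun a e he => by
        have : toBase A a = toBase E' (φ e) := by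
          rw [he]
          change E.res e = E'.res (φ e)
          rw [Art.res_app]
        obtain ⟨b, hb1, hb2⟩ := h.surj a (φ e) this
        refine ⟨b, hb1, ?_⟩
        apply hφ.1
        change φ (inv φ (p'' b)) = φ e
        rw [hinv, hb2] }
  have hb := hE p' (p'' ≫ inv φ) h'
  constructor
  · rw [cmp_injective_iff]
    intro z z' e1 e2
    apply (cmp_injective_iff F h').1 hb.1 z z' e1
    rw [map_comp_apply', map_comp_apply', e2]
  · rw [cmp_surjective_iff]
    intro x' x'' hx
    obtain ⟨z, hz1, hz2⟩ := (cmp_surjective_iff F h').1 hb.2 x' (F.map (inv φ) x'') (by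
      rw [← map_comp_apply', eq_toBase (inv φ ≫ toBase E), hx])
    refine ⟨z, hz1, ?_⟩
    rw [map_comp_apply'] at hz2
    have := congrArg (F.map φ) hz2
    rwa [map_map_inv, map_map_inv] at this

/-- If `E = E' ×_k E''` with `E'` and `E''` good then `E` is good. -/
theorem good_of_fibreProd [Module.Finite Λ k] (F : Art Λ k ⥤ Type v) {E E' E'' : Art Λ k}
    (q' : E ⟶ E') (q'' : E ⟶ E'') (hE : IsFibreProd q' q'' (toBase E') (toBase E''))
    (h' : Good F E') (h'' : Good F E'') : Good F E := by
  intro B A p' p'' h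
  -- `D = A ×_k E'`
  have hD := isFibreProd_pullbackObj (toBase A) (toBase E') (toBase_surjective E')
  set D := pullbackObj (toBase A) (toBase E') (toBase_surjective E')
  set d' := pullbackObjFst (toBase A) (toBase E') (toBase_surjective E')
  set d'' := pullbackObjSnd (toBase A) (toBase E') (toBase_surjective E')
  have w : p' ≫ toBase A = (p'' ≫ q') ≫ toBase E' := by
    rw [eq_toBase (p' ≫ toBase A), eq_toBase ((p'' ≫ q') ≫ toBase E')]
  set l := fibreProdLift hD p' (p'' ≫ q') w
  have hl1 : l ≫ d' = p' := fibreProdLift_fst hD _ _ w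
  have hl2 : l ≫ d'' = p'' ≫ q' := fibreProdLift_snd hD _ _ w
  have hl1' : ∀ b, d' (l b) = p' b := fun b => by
    change (l ≫ d') b = p' b; rw [hl1]
  have hl2' : ∀ b, d'' (l b) = q' (p'' b) := fun b => by
    change (l ≫ d'') b = (p'' ≫ q') b; rw [hl2]
  -- `B = D ×_k E''`
  have hB : IsFibreProd l (p'' ≫ q'') (toBase D) (toBase E'') :=
    { w := by rw [eq_toBase (l ≫ toBase D), eq_toBase ((p'' ≫ q'') ≫ toBase E'')]
      inj := fun b₁ b₂ e₁ e₂ => by
        apply h.inj
        · rw [← hl1', ← hl1', e₁]
        · apply hE.inj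
          · rw [← hl2', ← hl2', e₁]
          · exact e₂
      surj := fun d e'' he => by
        have he1 : toBase E' (d'' d) = toBase E'' e'' := by
          rw [← he]
          change E'.res (d'' d) = D.res d
          rw [Art.res_app]
        obtain ⟨e, hq1, hq2⟩ := hE.surj (d'' d) e'' he1
        have he2 : toBase A (d' d) = toBase E e := by
          change A.res (d' d) = E.res e
          rw [Art.res_app, ← Art.res_app q', hq1, Art.res_app]
        obtain ⟨b, hb1, hb2⟩ := h.surj (d' d) e he2
        refine ⟨b, ?_, ?_⟩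
        · apply hD.inj
          · rw [hl1', hb1]
          · rw [hl2', hb2, hq1]
        · change q'' (p'' b) = e''
          rw [hb2, hq2] }
  have bD := h' d' d'' hD
  have bB := h'' l (p'' ≫ q'') hB
  have bE := h'' q' q'' hE
  constructor
  · rw [cmp_injective_iff]
    intro z z' e1 e2
    apply (cmp_injective_iff F hB).1 bB.1 z z'
    · apply (cmp_injective_iff F hD).1 bD.1
      · rw [← map_comp_apply', ← map_comp_apply', hl1, e1]
      · rw [← map_comp_apply', ← map_comp_apply', hl2, map_comp_apply', map_comp_apply', e2]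
    · rw [map_comp_apply', map_comp_apply', e2]
  · rw [cmp_surjective_iff]
    intro x y hxy
    have c1 : F.map (toBase A) x = F.map (toBase E') (F.map q' y) := by
      rw [← map_comp_apply', eq_toBase (q' ≫ toBase E'), hxy]
    obtain ⟨wD, hw1, hw2⟩ := (cmp_surjective_iff F hD).1 bD.2 x (F.map q' y) c1
    have c2 : F.map (toBase D) wD = F.map (toBase E'') (F.map q'' y) := by
      rw [← map_comp_apply', eq_toBase (q'' ≫ toBase E''), ← hxy, ← hw1, ← map_comp_apply',
        eq_toBase (d' ≫ toBase A)]
    obtain ⟨z, hz1, hz2⟩ := (cmp_surjective_iff F hB).1 bB.2 wD (F.map q'' y) c2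
    refine ⟨z, ?_, ?_⟩
    · rw [← hl1, map_comp_apply', hz1, hw1]
    · apply (cmp_injective_iff F hE).1 bE.1
      · rw [← map_comp_apply', ← hl2, map_comp_apply', hz1, hw2]
      · rw [← map_comp_apply', hz2]

end Groth.Agent.Lib.Seat58.ArtGood
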