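-- helper58 (seat 58): square-zero extensions of the residue field with a section are good for `Heps` functors.
import Groth.Agent.Lib.Seat58ArtGood

set_option autoImplicit false
universe u v w

open CategoryTheory ArtFun ArtFun.Art

namespace Groth.Agent.Lib.Seat58.ArtSqZero

open Groth.Agent.Lib.Helper19 Groth.Agent.Lib.Seat58.ArtGood

variable {Λ : Type u} {k : Type u} [CommRing Λ] [Field k] [Algebra Λ k]

lemma mul_eq_zero_of_sq_eq_bot {E : Art Λ k} (hsq : IsLocalRing.maximalIdeal E ^ 2 = ⊥)
    {x y : E} (hx : x ∈ IsLocalRing.maximalIdeal E) (hy : y ∈ IsLocalRing.maximalIdeal E) :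
    x * y = 0 := by
  have : x * y ∈ IsLocalRing.maximalIdeal E ^ 2 := by
    rw [sq]; exact Ideal.mul_mem_mul hx hy
  rwa [hsq, Ideal.mem_bot] at this

lemma sq_eq_bot_of_mul_eq_zero {E : Art Λ k}
    (h : ∀ x ∈ IsLocalRing.maximalIdeal E, ∀ y ∈ IsLocalRing.maximalIdeal E, x * y = 0) :
    IsLocalRing.maximalIdeal E ^ 2 = ⊥ := by
  rw [eq_bot_iff, sq, Ideal.mul_le]
  intro x hx y hy
  rw [Ideal.mem_bot]
  exact h x hx y hy

lemma exists_mem_maximalIdeal_of_surjective {B A : Art Λ k} (f : B ⟶ A)
    (hf : Function.Surjective f) {y : A} (hy : y ∈ IsLocalRing.maximalIdeal A) :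
    ∃ x ∈ IsLocalRing.maximalIdeal B, f x = y := by
  obtain ⟨x, rfl⟩ := hf y
  refine ⟨x, ?_, rfl⟩
  rw [Art.mem_maximalIdeal_iff] at hy ⊢
  rwa [Art.res_app] at hy

lemma sq_eq_bot_of_surjective {B A : Art Λ k} (f : B ⟶ A) (hf : Function.Surjective f)
    (hsq : IsLocalRing.maximalIdeal B ^ 2 = ⊥) : IsLocalRing.maximalIdeal A ^ 2 = ⊥ := by
  apply sq_eq_bot_of_mul_eq_zero
  intro x hx y hy
  obtain ⟨x', hx', rfl⟩ := exists_mem_maximalIdeal_of_surjective f hf hx
  obtain ⟨y', hy', rfl⟩ := exists_mem_maximalIdeal_of_surjective f hf hy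
  rw [← hom_map_mul, mul_eq_zero_of_sq_eq_bot hsq hx' hy', hom_map_zero]

lemma res_section {E : Art Λ k} (σ : base Λ k ⟶ E) (a : k) : E.res (σ a) = a :=
  Art.res_app σ a

lemma sub_section_mem {E : Art Λ k} (σ : base Λ k ⟶ E) (x : E) :
    x - σ (E.res x) ∈ IsLocalRing.maximalIdeal E := by
  rw [Art.mem_maximalIdeal_iff, map_sub, res_section, sub_self]

lemma mul_eq_section_mul {E : Art Λ k} (σ : base Λ k ⟶ E)
    (hsq : IsLocalRing.maximalIdeal E ^ 2 = ⊥) (e : E) {t : E}
    (ht : t ∈ IsLocalRing.maximalIdeal E) : e * t = σ (E.res e) * t := by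
  have := mul_eq_zero_of_sq_eq_bot hsq (sub_section_mem σ e) ht
  rw [sub_mul, sub_eq_zero] at this
  exact this

/-- A square-zero extension with a section whose maximal ideal is generated by one nonzero element
is isomorphic to the dual numbers. -/
theorem exists_bijective_dual_of_span_singleton (E : Art Λ k) (σ : base Λ k ⟶ E) (t : E)
    (ht0 : t ≠ 0) (hm : IsLocalRing.maximalIdeal E = Ideal.span {t})
    (hsq : IsLocalRing.maximalIdeal E ^ 2 = ⊥) :
    ∃ φ : dual Λ k ⟶ E, Function.Bijective φ := by
  have ht : t ∈ IsLocalRing.maximalIdeal E := by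
    rw [hm]; exact Ideal.mem_span_singleton_self t
  have htt : t * t = 0 := mul_eq_zero_of_sq_eq_bot hsq ht ht
  have hrt : E.res t = 0 := (Art.mem_maximalIdeal_iff E t).1 ht
  let σa : k →ₐ[Λ] E := σ.toAlgHom
  let φa : DualNumber k →ₐ[Λ] E := DualNumber.lift ⟨(σa, t), htt, fun a => Commute.all _ _⟩
  have hφa : ∀ x : DualNumber k, φa x = σa x.fst + σa x.snd * t := fun x =>
    DualNumber.lift_apply_apply _ x
  have hres : E.res.comp φa = (dual Λ k).res := by
    apply AlgHom.ext
    intro x
    change E.res (φa x) = TrivSqZeroExt.fst (x : DualNumber k)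
    rw [hφa, map_add, map_mul, hrt, mul_zero, add_zero]
    exact res_section σ _
  have hσsub : ∀ a b : k, σa (a - b) = σa a - σa b := fun a b => map_sub σa a b
  have hbij : Function.Bijective (φa : DualNumber k → E) := by
    constructor
    · intro x y hxy
      have hxy' : σa x.fst + σa x.snd * t = σa y.fst + σa y.snd * t := by
        rw [← hφa, ← hφa]; exact hxy
      have hra : ∀ a : k, E.res (σa a) = a := fun a => res_section σ a
      have h1 : x.fst = y.fst := by
        have := congrArg E.res hxy'
        simpa [map_add, map_mul, hrt, hra] using this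
      have h2 : σa (x.snd - y.snd) * t = 0 := by
        rw [hσsub, sub_mul, sub_eq_zero]
        rw [h1] at hxy'
        exact add_left_cancel hxy'
      have h3 : x.snd - y.snd = 0 := by
        by_contra hne
        have hu : IsUnit (σa (x.snd - y.snd)) := (IsUnit.mk0 _ hne).map σa
        exact ht0 ((hu.mul_right_eq_zero).1 h2)
      exact TrivSqZeroExt.ext h1 (sub_eq_zero.1 h3)
    · intro x
      have hx := sub_section_mem σ x
      rw [hm, Ideal.mem_span_singleton'] at hx
      obtain ⟨e, he⟩ := hx
      refine ⟨((E.res x, E.res e) : DualNumber k), ?_⟩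
      refine (hφa _).trans ?_
      change σ (E.res x) + σ (E.res e) * t = x
      rw [← mul_eq_section_mul σ hsq e ht, he]
      ring
  exact ⟨⟨φa, hres⟩, hbij⟩

/-- The main induction: square-zero extensions of `k` with a section are good. -/
theorem good_of_sqZero_aux [Module.Finite Λ k] {F : Art Λ k ⥤ Type v} (hF : Heps F) :
    ∀ (n : ℕ) (E : Art Λ k) (_ : base Λ k ⟶ E)
      (_ : IsLocalRing.maximalIdeal E ^ 2 = ⊥) (s : Finset E), s.card ≤ n →
      IsLocalRing.maximalIdeal E = Ideal.span (s : Set E) → Good F E := by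
  classical
  intro n
  induction n with
  | zero =>
    intro E σ hsq s hs hm
    have hs0 : s = ∅ := Finset.card_eq_zero.1 (Nat.le_zero.1 hs)
    rw [hs0, Finset.coe_empty, Ideal.span_empty] at hm
    apply good_of_bijective_toBase
    refine ⟨?_, toBase_surjective E⟩
    intro x y hxy
    have h1 : E.res (x - y) = 0 := by
      rw [map_sub, sub_eq_zero]; exact hxy
    have h2 : x - y ∈ IsLocalRing.maximalIdeal E := (Art.mem_maximalIdeal_iff E _).2 h1
    rw [hm, Ideal.mem_bot] at h2
    exact sub_eq_zero.1 h2
  | succ n ih =>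
    intro E σ hsq s hs hm
    by_cases hs0 : s = ∅
    · exact ih E σ hsq s (by rw [hs0]; simp) hm
    obtain ⟨t₀, ht₀s⟩ := Finset.nonempty_iff_ne_empty.2 hs0
    set s' := s.erase t₀ with hs'
    have hcard : s'.card ≤ n := by
      rw [hs', Finset.card_erase_of_mem ht₀s]; omega
    have hins : (s : Set E) = insert t₀ (s' : Set E) := by
      rw [hs', Finset.coe_erase, Set.insert_sdiff_singleton, Set.insert_eq_of_mem]
      exact ht₀s
    set V' : Ideal E := Ideal.span (s' : Set E) with hV'def
    set K : Ideal E := Ideal.span {t₀} with hKdef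
    have hmKV : IsLocalRing.maximalIdeal E = K ⊔ V' := by
      rw [hm, hins, Ideal.span_insert]
    have ht₀m : t₀ ∈ IsLocalRing.maximalIdeal E := by
      rw [hm]; exact Ideal.subset_span ht₀s
    by_cases ht₀V : t₀ ∈ V'
    · apply ih E σ hsq s' hcard
      rw [hmKV]
      apply le_antisymm
      · exact sup_le ((Ideal.span_singleton_le_iff_mem _).2 ht₀V) le_rfl
      · exact le_sup_right
    have hK : K ≤ IsLocalRing.maximalIdeal E := by rw [hmKV]; exact le_sup_left
    have hV' : V' ≤ IsLocalRing.maximalIdeal E := by rw [hmKV]; exact le_sup_right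
    have hdisj : ∀ x, x ∈ K → x ∈ V' → x = 0 := by
      intro x hxK hxV
      rw [hKdef, Ideal.mem_span_singleton'] at hxK
      obtain ⟨e, rfl⟩ := hxK
      by_cases he : e ∈ IsLocalRing.maximalIdeal E
      · exact mul_eq_zero_of_sq_eq_bot hsq he ht₀m
      · exfalso
        have hu : IsUnit e := by
          by_contra hnu
          exact he ((IsLocalRing.mem_maximalIdeal e).2 hnu)
        apply ht₀V
        have : t₀ = ↑(hu.unit⁻¹) * (e * t₀) := by
          rw [← mul_assoc, IsUnit.val_inv_mul, one_mul]
        rw [this]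
        exact Ideal.mul_mem_left _ _ hxV
    set q' := quotMk E K hK with hq'
    set q'' := quotMk E V' hV' with hq''
    have hq's : Function.Surjective q' := quotMk_surjective E K hK
    have hq''s : Function.Surjective q'' := quotMk_surjective E V' hV'
    have hfp : IsFibreProd q' q'' (toBase (quot E K hK)) (toBase (quot E V' hV')) :=
      { w := by rw [eq_toBase (q' ≫ toBase _), eq_toBase (q'' ≫ toBase _)]
        inj := fun b₁ b₂ e₁ e₂ => by
          have h1 : b₁ - b₂ ∈ K := by
            rw [← quotMk_eq_zero_iff E K hK, hom_map_sub, sub_eq_zero]; exact e₁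
          have h2 : b₁ - b₂ ∈ V' := by
            rw [← quotMk_eq_zero_iff E V' hV', hom_map_sub, sub_eq_zero]; exact e₂
          exact sub_eq_zero.1 (hdisj _ h1 h2)
        surj := fun a' a'' he => by
          obtain ⟨x', rfl⟩ := hq's a'
          obtain ⟨x'', rfl⟩ := hq''s a''
          have hr : E.res x' = E.res x'' := by
            have h1 : (quot E K hK).res (q' x') = (quot E V' hV').res (q'' x'') := he
            rwa [Art.res_app, Art.res_app] at h1
          have hd : x' - x'' ∈ K ⊔ V' := by
            rw [← hmKV, Art.mem_maximalIdeal_iff, map_sub, hr, sub_self]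
          obtain ⟨u, hu, v, hv, huv⟩ := Submodule.mem_sup.1 hd
          refine ⟨x' - u, ?_, ?_⟩
          · rw [hom_map_sub, (quotMk_eq_zero_iff E K hK u).2 hu, sub_zero]
          · have : x' - u = x'' + v := by
              have h3 : x' = u + v + x'' := by rw [huv]; ring
              rw [h3]; ring
            rw [this, hom_map_add, (quotMk_eq_zero_iff E V' hV' v).2 hv, add_zero] }
    -- `E/V'` is isomorphic to the dual numbers
    have hgood'' : Good F (quot E V' hV') := by
      have ht''0 : q'' t₀ ≠ 0 := by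
        intro h0
        exact ht₀V ((quotMk_eq_zero_iff E V' hV' t₀).1 h0)
      have hm'' : IsLocalRing.maximalIdeal (quot E V' hV') = Ideal.span {q'' t₀} := by
        apply le_antisymm
        · intro y hy
          obtain ⟨x, hx, rfl⟩ := exists_mem_maximalIdeal_of_surjective q'' hq''s hy
          rw [hmKV] at hx
          obtain ⟨u, hu, v, hv, rfl⟩ := Submodule.mem_sup.1 hx
          rw [hKdef, Ideal.mem_span_singleton'] at hu
          obtain ⟨e, rfl⟩ := hu
          rw [hom_map_add, (quotMk_eq_zero_iff E V' hV' v).2 hv, add_zero, hom_map_mul]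
          exact Ideal.mul_mem_left _ _ (Ideal.mem_span_singleton_self _)
        · rw [Ideal.span_singleton_le_iff_mem]
          exact hom_mem_maximalIdeal q'' ht₀m
      obtain ⟨φ, hφ⟩ := exists_bijective_dual_of_span_singleton (quot E V' hV') (σ ≫ q'') (q'' t₀)
        ht''0 hm'' (sq_eq_bot_of_surjective q'' hq''s hsq)
      have : IsIso φ := isIso_of_bijective φ hφ
      exact good_of_iso F φ (good_dual_of_heps hF)
    -- `E/(t₀)` has fewer generators
    have hgood' : Good F (quot E K hK) := by
      apply ih (quot E K hK) (σ ≫ q') (sq_eq_bot_of_surjective q' hq's hsq) (s'.image q')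
        (Finset.card_image_le.trans hcard)
      apply le_antisymm
      · intro y hy
        obtain ⟨x, hx, rfl⟩ := exists_mem_maximalIdeal_of_surjective q' hq's hy
        rw [hmKV] at hx
        obtain ⟨u, hu, v, hv, rfl⟩ := Submodule.mem_sup.1 hx
        rw [hom_map_add, (quotMk_eq_zero_iff E K hK u).2 hu, zero_add]
        have h1 : q' v ∈ Ideal.map q'.toAlgHom V' := Ideal.mem_map_of_mem _ hv
        rw [hV'def, Ideal.map_span] at h1
        rw [Finset.coe_image]
        exact h1
      · rw [Ideal.span_le]
        intro y hy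
        rw [Finset.coe_image] at hy
        obtain ⟨x, hx, rfl⟩ := hy
        apply hom_mem_maximalIdeal q'
        exact hV' (Ideal.subset_span hx)
    exact good_of_fibreProd F q' q'' hfp hgood' hgood''

/-- Square-zero extensions of `k` admitting a section are good for functors satisfying `Heps`. -/
theorem good_of_sqZero [Module.Finite Λ k] {F : Art Λ k ⥤ Type v} (hF : Heps F)
    (E : Art Λ k) (σ : base Λ k ⟶ E) (hsq : IsLocalRing.maximalIdeal E ^ 2 = ⊥) : Good F E := by
  classical
  have hN : IsNoetherianRing E := inferInstance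
  obtain ⟨s, hs⟩ := (isNoetherianRing_iff_ideal_fg E).1 hN (IsLocalRing.maximalIdeal E)
  exact good_of_sqZero_aux hF s.card E σ hsq s le_rfl hs.symm

end Groth.Agent.Lib.Seat58.ArtSqZero
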