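-- helper58 (seat 58): the vector space structure on the tangent space of a functor of Artin rings
-- satisfying `H0` and `Heps`.
import Groth.Agent.Lib.Seat58ArtGood
import Groth.Agent.Lib.Helper19Tangent
import Mathlib.Algebra.Group.MinimalAxioms

set_option autoImplicit false
universe u v w

open CategoryTheory ArtFun ArtFun.Art

namespace Groth.Agent.Lib.Seat58.ArtTangent

open Groth.Agent.Lib.Helper19

variable {Λ : Type u} {k : Type u} [CommRing Λ] [Field k] [Algebra Λ k]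

section Generic

variable (Λ k)
variable (M : Type u) [AddCommGroup M] [Module k M] [Module kᵐᵒᵖ M] [SMulCommClass k kᵐᵒᵖ M]
  [IsCentralScalar k M] [Module Λ M] [IsScalarTower Λ k M] [IsScalarTower Λ kᵐᵒᵖ M]
  [Module.Finite k M]

/-- The square zero extension `k ⊕ M` as an object (for `M = k` this is `dual`, for `M = k × k` it is `dual2`). -/
def D : Art Λ k :=
  { carrier := TrivSqZeroExt k M
    isLocalRing := isLocalRing_tsze k M
    isArtinianRing := isArtinianRing_tsze k M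
    res := TrivSqZeroExt.fstHom Λ k M
    res_surjective := fun a => ⟨TrivSqZeroExt.inl a, rfl⟩ }

end Generic

section GenericMaps

variable {M N P : Type u} [AddCommGroup M] [Module k M] [Module kᵐᵒᵖ M] [SMulCommClass k kᵐᵒᵖ M]
  [IsCentralScalar k M] [Module Λ M] [IsScalarTower Λ k M] [IsScalarTower Λ kᵐᵒᵖ M]
  [Module.Finite k M]
  [AddCommGroup N] [Module k N] [Module kᵐᵒᵖ N] [SMulCommClass k kᵐᵒᵖ N]
  [IsCentralScalar k N] [Module Λ N] [IsScalarTower Λ k N] [IsScalarTower Λ kᵐᵒᵖ N]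
  [Module.Finite k N]
  [AddCommGroup P] [Module k P] [Module kᵐᵒᵖ P] [SMulCommClass k kᵐᵒᵖ P]
  [IsCentralScalar k P] [Module Λ P] [IsScalarTower Λ k P] [IsScalarTower Λ kᵐᵒᵖ P]
  [Module.Finite k P]

/-- The morphism `k ⊕ M ⟶ k ⊕ N` induced by a linear map. -/
def tm (f : M →ₗ[k] N) : D Λ k M ⟶ D Λ k N := ⟨tszeMap f, AlgHom.ext fun _ => rfl⟩

lemma tm_comp (f : M →ₗ[k] N) (g : N →ₗ[k] P) :
    (tm f : D Λ k M ⟶ D Λ k N) ≫ tm g = tm (g ∘ₗ f) :=
  Art.hom_ext (AlgHom.ext fun _ => TrivSqZeroExt.ext rfl rfl)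

lemma tm_id : (tm (LinearMap.id : M →ₗ[k] M) : D Λ k M ⟶ D Λ k M) = 𝟙 _ :=
  Art.hom_ext (AlgHom.ext fun _ => TrivSqZeroExt.ext rfl rfl)

/-- `baseToDual` with target written as `D Λ k k`. -/
def b2d : base Λ k ⟶ D Λ k k := baseToDual

lemma tm_zero : (tm (0 : M →ₗ[k] k) : D Λ k M ⟶ D Λ k k) = toBase (D Λ k M) ≫ b2d :=
  Art.hom_ext (AlgHom.ext fun _ => TrivSqZeroExt.ext rfl rfl)

end GenericMaps

section Three

variable (Λ k)

/-- `k[ε₁, ε₂, ε₃]`. -/
abbrev dual3 : Art Λ k := D Λ k ((k × k) × k)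

theorem isFibreProd_dual3 :
    IsFibreProd (tm (LinearMap.fst k (k × k) k) : dual3 Λ k ⟶ D Λ k (k × k))
      (tm (LinearMap.snd k (k × k) k) : dual3 Λ k ⟶ D Λ k k)
      (toBase (D Λ k (k × k))) (toBase (D Λ k k)) where
  w := by rw [eq_toBase (tm (LinearMap.fst k (k × k) k) ≫ toBase _),
    eq_toBase (tm (LinearMap.snd k (k × k) k) ≫ toBase _)]
  inj b₁ b₂ h₁ h₂ := by
    have e₁ : b₁.fst = b₂.fst := by have e := congrArg TrivSqZeroExt.fst h₁; exact e
    have e₂ : b₁.snd.1 = b₂.snd.1 := by have e := congrArg TrivSqZeroExt.snd h₁; exact e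
    have e₃ : b₁.snd.2 = b₂.snd.2 := by have e := congrArg TrivSqZeroExt.snd h₂; exact e
    exact TrivSqZeroExt.ext e₁ (Prod.ext e₂ e₃)
  surj a' a'' h := by
    have h' : a'.fst = a''.fst := h
    exact ⟨(a'.fst, (a'.snd, a''.snd)), TrivSqZeroExt.ext rfl rfl, TrivSqZeroExt.ext h' rfl⟩

theorem isFibreProd_D2 :
    IsFibreProd (tm (LinearMap.fst k k k) : D Λ k (k × k) ⟶ D Λ k k)
      (tm (LinearMap.snd k k k) : D Λ k (k × k) ⟶ D Λ k k)
      (toBase (D Λ k k)) (toBase (D Λ k k)) := isFibreProd_dual2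

end Three

section Structure

variable {F : Art Λ k ⥤ Type v} (h0 : H0 F) (h2 : Heps F)

include h2 in
lemma heps_D {B A' : Art Λ k} (p' : B ⟶ A') (p'' : B ⟶ D Λ k k)
    (h : IsFibreProd p' p'' (toBase A') (toBase (D Λ k k))) : Function.Bijective (cmp F h) :=
  h2 p' p'' h

include h2 in
lemma dual2_ext (z z' : F.obj (D Λ k (k × k)))
    (e1 : F.map (tm (LinearMap.fst k k k) : D Λ k (k × k) ⟶ D Λ k k) z =
      F.map (tm (LinearMap.fst k k k) : D Λ k (k × k) ⟶ D Λ k k) z')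
    (e2 : F.map (tm (LinearMap.snd k k k) : D Λ k (k × k) ⟶ D Λ k k) z =
      F.map (tm (LinearMap.snd k k k) : D Λ k (k × k) ⟶ D Λ k k) z') : z = z' :=
  (cmp_injective_iff F (isFibreProd_D2 Λ k)).1 (heps_D h2 _ _ (isFibreProd_D2 Λ k)).1 z z' e1 e2

include h0 h2 in
lemma exists_pair (x y : F.obj (D Λ k k)) : ∃ z : F.obj (D Λ k (k × k)),
    F.map (tm (LinearMap.fst k k k) : D Λ k (k × k) ⟶ D Λ k k) z = x ∧
    F.map (tm (LinearMap.snd k k k) : D Λ k (k × k) ⟶ D Λ k k) z = y :=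
  (cmp_surjective_iff F (isFibreProd_D2 Λ k)).1 (heps_D h2 _ _ (isFibreProd_D2 Λ k)).2 x y
    (h0_elim h0 _ _)

/-- the element of `F(k[ε₁, ε₂])` with given projections -/
noncomputable def pair (x y : F.obj (D Λ k k)) : F.obj (D Λ k (k × k)) :=
  Classical.choose (exists_pair h0 h2 x y)

lemma pair_fst (x y : F.obj (D Λ k k)) :
    F.map (tm (LinearMap.fst k k k) : D Λ k (k × k) ⟶ D Λ k k) (pair h0 h2 x y) = x :=
  (Classical.choose_spec (exists_pair h0 h2 x y)).1

lemma pair_snd (x y : F.obj (D Λ k k)) :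
    F.map (tm (LinearMap.snd k k k) : D Λ k (k × k) ⟶ D Λ k k) (pair h0 h2 x y) = y :=
  (Classical.choose_spec (exists_pair h0 h2 x y)).2

include h0 h2 in
lemma exists_triple (x y z : F.obj (D Λ k k)) :
    ∃ w : F.obj (dual3 Λ k),
      F.map (tm (LinearMap.fst k k k ∘ₗ LinearMap.fst k (k × k) k) : dual3 Λ k ⟶ D Λ k k) w = x ∧
      F.map (tm (LinearMap.snd k k k ∘ₗ LinearMap.fst k (k × k) k) : dual3 Λ k ⟶ D Λ k k) w = y ∧
      F.map (tm (LinearMap.snd k (k × k) k) : dual3 Λ k ⟶ D Λ k k) w = z := by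
  obtain ⟨w, hw1, hw2⟩ := (cmp_surjective_iff F (isFibreProd_dual3 Λ k)).1
    (heps_D h2 _ _ (isFibreProd_dual3 Λ k)).2 (pair h0 h2 x y) z (h0_elim h0 _ _)
  refine ⟨w, ?_, ?_, hw2⟩
  · rw [← tm_comp, map_comp_apply', hw1]
    exact pair_fst h0 h2 x y
  · rw [← tm_comp, map_comp_apply', hw1]
    exact pair_snd h0 h2 x y

/-- addition on the tangent space -/
noncomputable def tadd (x y : F.obj (D Λ k k)) : F.obj (D Λ k k) :=
  F.map (tm (LinearMap.fst k k k + LinearMap.snd k k k) : D Λ k (k × k) ⟶ D Λ k k) (pair h0 h2 x y)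

/-- zero of the tangent space -/
noncomputable def tzero : F.obj (D Λ k k) :=
  F.map b2d (Classical.choice h0.1)

/-- scalar multiplication on the tangent space -/
def tsmul (c : k) (x : F.obj (D Λ k k)) : F.obj (D Λ k k) :=
  F.map (tm (c • (LinearMap.id : k →ₗ[k] k)) : D Λ k k ⟶ D Λ k k) x

section Subst

variable {M : Type u} [AddCommGroup M] [Module k M] [Module kᵐᵒᵖ M] [SMulCommClass k kᵐᵒᵖ M]
  [IsCentralScalar k M] [Module Λ M] [IsScalarTower Λ k M] [IsScalarTower Λ kᵐᵒᵖ M]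
  [Module.Finite k M]

lemma tadd_map (w : F.obj (D Λ k M)) (α β : M →ₗ[k] k) :
    tadd h0 h2 (F.map (tm α : D Λ k M ⟶ D Λ k k) w) (F.map (tm β : D Λ k M ⟶ D Λ k k) w) =
      F.map (tm (α + β) : D Λ k M ⟶ D Λ k k) w := by
  have hp : pair h0 h2 (F.map (tm α : D Λ k M ⟶ D Λ k k) w) (F.map (tm β : D Λ k M ⟶ D Λ k k) w) =
      F.map (tm (α.prod β) : D Λ k M ⟶ D Λ k (k × k)) w := by
    apply dual2_ext h2
    · rw [pair_fst, ← map_comp_apply', tm_comp, LinearMap.fst_prod]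
    · rw [pair_snd, ← map_comp_apply', tm_comp, LinearMap.snd_prod]
  unfold tadd
  rw [hp, ← map_comp_apply', tm_comp, LinearMap.add_comp, LinearMap.fst_prod, LinearMap.snd_prod]

lemma tsmul_map (w : F.obj (D Λ k M)) (α : M →ₗ[k] k) (c : k) :
    tsmul c (F.map (tm α : D Λ k M ⟶ D Λ k k) w) =
      F.map (tm (c • α) : D Λ k M ⟶ D Λ k k) w := by
  unfold tsmul
  rw [← map_comp_apply', tm_comp, LinearMap.smul_comp, LinearMap.id_comp]

include h0 in
lemma tzero_map (w : F.obj (D Λ k M)) :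
    F.map (tm (0 : M →ₗ[k] k) : D Λ k M ⟶ D Λ k k) w = tzero h0 := by
  rw [tm_zero, map_comp_apply']
  unfold tzero
  rw [h0_elim h0 (F.map (toBase (D Λ k M)) w) (Classical.choice h0.1)]

end Subst

lemma self_eq (x : F.obj (D Λ k k)) :
    x = F.map (tm (LinearMap.id : k →ₗ[k] k) : D Λ k k ⟶ D Λ k k) x := by
  rw [tm_id, map_id_apply']

theorem tadd_comm (x y : F.obj (D Λ k k)) : tadd h0 h2 x y = tadd h0 h2 y x := by
  obtain ⟨w, rfl, rfl⟩ := exists_pair h0 h2 x y
  rw [tadd_map, tadd_map, add_comm]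

theorem tadd_assoc (x y z : F.obj (D Λ k k)) :
    tadd h0 h2 (tadd h0 h2 x y) z = tadd h0 h2 x (tadd h0 h2 y z) := by
  obtain ⟨w, hx, hy, hz⟩ := exists_triple h0 h2 x y z
  rw [← hx, ← hy, ← hz, tadd_map, tadd_map, tadd_map, tadd_map, add_assoc]

theorem tadd_zero (x : F.obj (D Λ k k)) : tadd h0 h2 x (tzero h0) = x := by
  have h1 : tadd h0 h2 x (tzero h0) =
      tadd h0 h2 (F.map (tm (LinearMap.id : k →ₗ[k] k) : D Λ k k ⟶ D Λ k k) x)
        (F.map (tm (0 : k →ₗ[k] k) : D Λ k k ⟶ D Λ k k) x) := by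
    rw [tzero_map h0, ← self_eq]
  rw [h1, tadd_map, add_zero, ← self_eq]

theorem tneg_add (x : F.obj (D Λ k k)) : tadd h0 h2 (tsmul (-1) x) x = tzero h0 := by
  have h1 : tadd h0 h2 (tsmul (-1) x) x =
      tadd h0 h2 (F.map (tm ((-1 : k) • (LinearMap.id : k →ₗ[k] k)) : D Λ k k ⟶ D Λ k k) x)
        (F.map (tm (LinearMap.id : k →ₗ[k] k) : D Λ k k ⟶ D Λ k k) x) := by
    rw [← self_eq]; rfl
  have h3 : (-1 : k) • (LinearMap.id : k →ₗ[k] k) + LinearMap.id = 0 := by
    ext; simp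
  rw [h1, tadd_map, h3, tzero_map h0]

theorem tsmul_add (c : k) (x y : F.obj (D Λ k k)) :
    tsmul c (tadd h0 h2 x y) = tadd h0 h2 (tsmul c x) (tsmul c y) := by
  obtain ⟨w, rfl, rfl⟩ := exists_pair h0 h2 x y
  rw [tadd_map, tsmul_map, tsmul_map, tsmul_map, tadd_map, smul_add]

theorem tadd_smul (c d : k) (x : F.obj (D Λ k k)) :
    tsmul (c + d) x = tadd h0 h2 (tsmul c x) (tsmul d x) := by
  have hx := self_eq x
  rw [hx, tsmul_map, tsmul_map, tsmul_map, tadd_map, add_smul]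

theorem tmul_smul (c d : k) (x : F.obj (D Λ k k)) :
    tsmul (c * d) x = tsmul c (tsmul d x) := by
  have hx := self_eq x
  rw [hx, tsmul_map, tsmul_map, tsmul_map, mul_smul]

theorem tone_smul (x : F.obj (D Λ k k)) : tsmul (1 : k) x = x := by
  have hx := self_eq x
  rw [hx, tsmul_map, one_smul]

theorem tsmul_zero (c : k) : tsmul c (tzero h0 : F.obj (D Λ k k)) = tzero h0 := by
  rw [← tzero_map h0 (tzero h0 : F.obj (D Λ k k)), tsmul_map, smul_zero]

theorem tzero_smul (x : F.obj (D Λ k k)) : tsmul (0 : k) x = tzero h0 := by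
  have hx := self_eq x
  rw [hx, tsmul_map, zero_smul, tzero_map h0]

/-- The additive group structure. -/
@[reducible] noncomputable def tAddCommGroup : AddCommGroup (F.obj (D Λ k k)) :=
  letI : Add (F.obj (D Λ k k)) := ⟨tadd h0 h2⟩
  letI : Neg (F.obj (D Λ k k)) := ⟨fun x => tsmul (-1) x⟩
  letI : Zero (F.obj (D Λ k k)) := ⟨tzero h0⟩
  letI addGroup : AddGroup (F.obj (D Λ k k)) :=
    AddGroup.ofLeftAxioms
      (fun x y z => tadd_assoc h0 h2 x y z)
      (fun x => by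
        change tadd h0 h2 (tzero h0) x = x
        rw [tadd_comm, tadd_zero])
      (fun x => tneg_add h0 h2 x)
  { addGroup with add_comm := fun x y => tadd_comm h0 h2 x y }

/-- The module structure. -/
@[reducible] noncomputable def tModule : @Module k (F.obj (D Λ k k)) _ (tAddCommGroup h0 h2).toAddCommMonoid :=
  letI := tAddCommGroup h0 h2
  { smul := fun c x => tsmul c x
    one_smul := fun x => tone_smul x
    mul_smul := fun c d x => tmul_smul c d x
    smul_zero := fun c => tsmul_zero h0 c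
    smul_add := fun c x y => tsmul_add h0 h2 c x y
    add_smul := fun c d x => tadd_smul h0 h2 c d x
    zero_smul := fun x => tzero_smul h0 x }

/-- The tangent structure. -/
@[reducible] noncomputable def tangentStr : TangentStr F :=
  { addCommGroup := tAddCommGroup h0 h2
    module := tModule h0 h2
    smul_eq := fun _ _ => rfl
    add_eq := fun z => tadd_map h0 h2 (M := k × k) z (LinearMap.fst k k k) (LinearMap.snd k k k) }

end Structure

end Groth.Agent.Lib.Seat58.ArtTangent
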