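import Groth.Agent.Lib.Seat58DescTwoStep
import Groth.Agent.Lib.Seat43DescYoneda
import Groth.Agent.S9855

/-!
# Seat58: effectiveness of descent data for schemes: formal properties

* `pullCanIso`: pulling back a canonical descent datum along a morphism of families over `𝟙 S` gives
  the canonical descent datum.
* `isEffective_pull`, `isEffective_of_pull`: effectiveness is preserved by pullback along a refinement
  and reflected when the pullback functor is full and faithful.
* `isEffective_of_id`: every descent datum relative to the one-member family `𝟙 S` is effective.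
* `LocEff.ofEffective`: effectiveness of the restricted data gives a local effectivity structure.
* `isEffective_of_zariski_local`: effectiveness of a descent datum relative to an fpqc covering family is
  Zariski local on the base.
-/

set_option autoImplicit false
set_option backward.isDefEq.respectTransparency false
set_option backward.isDefEq.respectTransparency.types false
set_option linter.unusedSectionVars false
set_option linter.unusedVariables false
universe w' w u
open CategoryTheory CategoryTheory.Limits AlgebraicGeometry Desc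

namespace Groth.Agent.Lib.Seat58.DescEff

open Groth.Agent.Lib.Helper12.DescFF Groth.Agent.Lib.Seat43.DescYoneda
open Groth.Agent.Lib.Seat58.DescTwoStep

section iso

variable {S : Scheme.{u}} {ι : Type w} {X : ι → Scheme.{u}} {f : ∀ i, X i ⟶ S}

/-- the components of an isomorphism of descent data -/
def isoApp {D D' : SchDDFam f} (e : D ≅ D') (i : ι) : D.obj i ≅ D'.obj i where
  hom := e.hom.hom i
  inv := e.inv.hom i
  hom_inv_id := congrArg (fun a : D ⟶ D => a.hom i) e.hom_inv_id
  inv_hom_id := congrArg (fun a : D' ⟶ D' => a.hom i) e.inv_hom_id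

lemma isEffective_of_iso {D D' : SchDDFam f} (e : D ≅ D') (h : D.IsEffective) : D'.IsEffective := by
  obtain ⟨Z, ⟨e'⟩⟩ := h
  exact ⟨Z, ⟨e' ≪≫ e⟩⟩

end iso

section pullCan

variable {S : Scheme.{u}} {ι : Type w} {ι' : Type w'} {X : ι → Scheme.{u}} {X' : ι' → Scheme.{u}}
  {f : ∀ i, X i ⟶ S} {f' : ∀ j, X' j ⟶ S} {α : ι' → ι} {p' : ∀ j, X' j ⟶ X (α j)}
  (w : ∀ j, p' j ≫ f (α j) = f' j ≫ 𝟙 S)

include w in
lemma pullCan_aux (Z : Over S) {T : Scheme.{u}} {j : ι'} (x : T ⟶ X' j)
    (a : T ⟶ pullback (pullback.fst (f (α j)) Z.hom) (p' j))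
    (e : a ≫ pullback.snd (pullback.fst (f (α j)) Z.hom) (p' j) = x) :
    x ≫ f' j = (a ≫ pullback.fst (pullback.fst (f (α j)) Z.hom) (p' j) ≫
      pullback.snd (f (α j)) Z.hom) ≫ Z.hom := by
  have c : pullback.fst (pullback.fst (f (α j)) Z.hom) (p' j) ≫ pullback.fst (f (α j)) Z.hom =
      pullback.snd _ _ ≫ p' j := pullback.condition
  rw [Category.assoc, Category.assoc, ← pullback.condition, ← Category.assoc _ _ (f (α j)), c,
    Category.assoc, w, Category.comp_id, ← Category.assoc, e]

lemma pullCan_aux2 (Z : Over S) {T : Scheme.{u}} {j : ι'} (x : T ⟶ X' j)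
    (a : T ⟶ pullback (pullback.fst (f (α j)) Z.hom) (p' j))
    (e : a ≫ pullback.snd (pullback.fst (f (α j)) Z.hom) (p' j) = x) :
    a ≫ pullback.fst (pullback.fst (f (α j)) Z.hom) (p' j) ≫ pullback.fst (f (α j)) Z.hom =
      x ≫ p' j := by
  have c : pullback.fst (pullback.fst (f (α j)) Z.hom) (p' j) ≫ pullback.fst (f (α j)) Z.hom =
      pullback.snd _ _ ≫ p' j := pullback.condition
  rw [c, ← Category.assoc, e]

/-- points of the pulled back canonical datum are points of the canonical datum -/
noncomputable def pullCanPt (Z : Over S) {T : Scheme.{u}} {j : ι'} (x : T ⟶ X' j) :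
    Lifts (((pullDDFam w).obj ((toDDFam f).obj Z)).obj j) x ≃ Lifts (((toDDFam f').obj Z).obj j) x where
  toFun v := ⟨pullback.lift x (v.1 ≫ pullback.fst (pullback.fst (f (α j)) Z.hom) (p' j) ≫
      pullback.snd (f (α j)) Z.hom) (pullCan_aux w Z x v.1 v.2), pullback.lift_fst _ _ _⟩
  invFun v' := ⟨pullback.lift (pullback.lift (x ≫ p' j) (v'.1 ≫ pullback.snd (f' j) Z.hom) (by
      have e : v'.1 ≫ pullback.fst (f' j) Z.hom = x := v'.2
      rw [Category.assoc, w, Category.comp_id, Category.assoc, ← pullback.condition,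
        ← Category.assoc, e])) x (pullback.lift_fst _ _ _), pullback.lift_snd _ _ _⟩
  left_inv v := by
    apply Subtype.ext
    have e : v.1 ≫ pullback.snd (pullback.fst (f (α j)) Z.hom) (p' j) = x := v.2
    apply pullback.hom_ext
    · apply pullback.hom_ext
      · simp only [pullback.lift_fst, Category.assoc]
        exact (pullCan_aux2 Z x v.1 v.2).symm
      · simp only [pullback.lift_fst, pullback.lift_snd, Category.assoc]
        rfl
    · simp only [pullback.lift_snd]
      exact e.symm
  right_inv v' := by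
    apply Subtype.ext
    have e : v'.1 ≫ pullback.fst (f' j) Z.hom = x := v'.2
    apply pullback.hom_ext
    · simp only [pullback.lift_fst]
      exact e.symm
    · simp only [pullback.lift_snd]
      exact ((Category.assoc _ _ _).symm.trans (congrArg (· ≫ pullback.snd (f (α j)) Z.hom)
        (pullback.lift_fst _ _ _))).trans (pullback.lift_snd _ _ _)

/-- the pointwise bijections for `pullCanIso` -/
noncomputable def pullCanPtEquiv (Z : Over S) :
    PtEquiv ((pullDDFam w).obj ((toDDFam f).obj Z)) ((toDDFam f').obj Z) where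
  e T j x := pullCanPt w Z x
  nat T T' r j x y hy v v' hv := by
    apply pullback.hom_ext
    · simp [pullCanPt, hy]
    · simp [pullCanPt, hv]
  compat T i j x₀ x₁ h v := by
    apply Subtype.ext
    apply pullback.hom_ext
    · simp [pullCanPt, toDDFam, canonicalDDFam]
    · simp [pullCanPt, toDDFam, canonicalDDFam, pullDDFam, pullDDFamObj, liftsPullbackEquiv]

/-- Pulling back the canonical descent datum of `Z` along a morphism of families over the identity of
the base gives the canonical descent datum of `Z`. -/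
noncomputable def pullCanIso (Z : Over S) :
    (pullDDFam w).obj ((toDDFam f).obj Z) ≅ (toDDFam f').obj Z :=
  (pullCanPtEquiv w Z).toIso

lemma isEffective_pull (D : SchDDFam f) (h : D.IsEffective) : ((pullDDFam w).obj D).IsEffective := by
  obtain ⟨Z, ⟨e⟩⟩ := h
  exact ⟨Z, ⟨(pullCanIso w Z).symm ≪≫ (pullDDFam w).mapIso e⟩⟩

lemma isEffective_of_pull [(pullDDFam w).Full] [(pullDDFam w).Faithful] (D : SchDDFam f)
    (h : ((pullDDFam w).obj D).IsEffective) : D.IsEffective := by
  obtain ⟨Z, ⟨e⟩⟩ := h
  exact ⟨Z, ⟨(pullDDFam w).preimageIso (pullCanIso w Z ≪≫ e)⟩⟩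

end pullCan

section identity

variable {S : Scheme.{u}}

/-- Every descent datum relative to the one-member family `𝟙 S` is effective. -/
lemma isEffective_of_id (E : SchDDFam (fun _ : PUnit.{w + 1} => 𝟙 S)) : E.IsEffective := by
  refine ⟨E.obj ⟨⟩, ⟨PtEquiv.toIso
    { e := fun T j x =>
        { toFun := fun v => ⟨v.1 ≫ pullback.snd (𝟙 S) (E.obj ⟨⟩).hom, by
            have e : v.1 ≫ pullback.fst (𝟙 S) (E.obj ⟨⟩).hom = x := v.2
            rw [Category.assoc, ← pullback.condition, Category.comp_id, e]⟩
          invFun := fun z => ⟨pullback.lift x z.1 (by rw [Category.comp_id]; exact z.2.symm),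
            pullback.lift_fst _ _ _⟩
          left_inv := fun v => by
            apply Subtype.ext
            have e : v.1 ≫ pullback.fst (𝟙 S) (E.obj ⟨⟩).hom = x := v.2
            apply pullback.hom_ext
            · simp only [pullback.lift_fst]; exact e.symm
            · simp
          right_inv := fun z => by
            apply Subtype.ext
            simp }
      nat := ?_
      compat := ?_ }⟩⟩
  · intro T T' r j x y hy v v' hv
    simp [hv]
  · intro T i j x₀ x₁ h v
    have e : x₀ = x₁ := by simpa using h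
    subst e
    rw [E.φ_self, ((toDDFam (fun _ : PUnit.{w + 1} => 𝟙 S)).obj (E.obj ⟨⟩)).φ_self]

end identity

section ofEffective

variable {ι : Type w'} {κ : Type w} {S : Scheme.{u}} {U : ι → Scheme.{u}} {V : κ → Scheme.{u}}
  (u : ∀ i, U i ⟶ S) (v : ∀ j, V j ⟶ S) (α : ι → κ) (g : ∀ i, U i ⟶ V (α i))
  (w : ∀ i, g i ≫ v (α i) = u i ≫ 𝟙 S) (D' : SchDDFam u)

/-- effectiveness of all restricted data gives a local effectivity structure -/
noncomputable def LocEff.ofIso (Z : ∀ j, Over (V j))
    (e : ∀ j, (toDDFam (g' α g j)).obj (Z j) ≅ restr u v α g w D' j) : LocEff u α g D' where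
  Zs j := (Z j).left
  zeta j := (Z j).hom
  ch j i := ((e j).inv.hom i).left ≫ pullback.snd (g' α g j i) (Z j).hom
  isPullback j i := by
    have h0 := (IsPullback.of_hasPullback (g' α g j i) (Z j).hom).flip
    refine h0.of_iso ((Over.forget _).mapIso (isoApp (e j) i)) (Iso.refl _) (Iso.refl _) (Iso.refl _)
      ?_ ?_ (by simp) (by simp)
    · simp only [Iso.refl_hom, Category.comp_id, Functor.mapIso_hom, Over.forget_map, isoApp]
      rw [← Category.assoc, ← Over.comp_left]
      have := congrArg (fun a : (toDDFam (g' α g j)).obj (Z j) ⟶ _ => (a.hom i).left) (e j).hom_inv_id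
      simp only [SchDDFam.comp_hom, SchDDFam.id_hom] at this
      rw [this]
      exact (Category.id_comp _).symm
    · simp only [Iso.refl_hom, Category.comp_id, Functor.mapIso_hom, Over.forget_map, isoApp]
      exact (Over.w ((e j).hom.hom i)).symm
  φ_ch T j i k x x' h hu p := by
    have key := (e j).inv.comm x x' h p (SchDDFam.Hom.push (e j).inv p) rfl
    have key2 := congrArg (fun m => m ≫ pullback.snd (g' α g j k) (Z j).hom) key
    simp only [toDDFam, canonicalDDFam, Equiv.coe_fn_mk, canMapFam_val, pullback.lift_snd,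
      SchDDFam.Hom.push, Category.assoc] at key2
    exact key2.symm

/-- effectiveness of all restricted data gives a local effectivity structure -/
lemma LocEff.nonempty_of_isEffective (h : ∀ j, (restr u v α g w D' j).IsEffective) :
    Nonempty (LocEff u α g D') := by
  choose Z hZ using h
  exact ⟨LocEff.ofIso u v α g w D' Z (fun j => (hZ j).some)⟩

end ofEffective

section zariskiLocal

variable {ι κ : Type u} {S : Scheme.{u}} {U : ι → Scheme.{u}} (u : ∀ i, U i ⟶ S)
  {Sa : κ → Scheme.{u}} (s : ∀ a, Sa a ⟶ S)

/-- the members `U i ×_S Sa a` of the doubly indexed refined family -/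
noncomputable abbrev VV (k : κ × ι) : Scheme.{u} := pullback (u k.2) (s k.1)

/-- the doubly indexed refined family `U i ×_S Sa a ⟶ S` -/
noncomputable abbrev vv (k : κ × ι) : VV u s k ⟶ S := pullback.fst (u k.2) (s k.1) ≫ u k.2

lemma w₁ (k : κ × ι) : pullback.fst (u k.2) (s k.1) ≫ u k.2 = vv u s k ≫ 𝟙 S :=
  (Category.comp_id _).symm

lemma w₂ (k : κ × ι) : pullback.snd (u k.2) (s k.1) ≫ s k.1 = vv u s k ≫ 𝟙 S := by
  rw [Category.comp_id, ← pullback.condition]

lemma facSieve_vv_mem (hs : Presieve.ofArrows Sa s ∈ Scheme.zariskiPrecoverage S) (i : ι) :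
    facSieve (vv u s) u i ∈ Scheme.fpqcTopology (U i) := by
  have h1 : Sieve.generate (Presieve.ofArrows Sa s) ∈ Scheme.fpqcTopology S :=
    Precoverage.generate_mem_toGrothendieck (Scheme.zariskiPrecoverage_le_fpqcPrecoverage _ hs)
  have h2 := Scheme.fpqcTopology.pullback_stable (u i) h1
  refine Scheme.fpqcTopology.superset_covering ?_ h2
  intro T t ht
  obtain ⟨Y, h, g', ⟨a⟩, e⟩ := ht
  exact ⟨(a, i), pullback.lift t h e.symm, by simp [vv]⟩

lemma covHyp_vv (hu : Presieve.ofArrows U u ∈ Scheme.fpqcPrecoverage S) :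
    CovHyp (α := (Prod.fst : κ × ι → κ)) (g := fun k => pullback.snd (u k.2) (s k.1)) := by
  intro a T t
  have h1 : Sieve.generate (Presieve.ofArrows U u) ∈ Scheme.fpqcTopology S :=
    Precoverage.generate_mem_toGrothendieck hu
  have h2 := Scheme.fpqcTopology.pullback_stable (t ≫ s a) h1
  refine Scheme.fpqcTopology.superset_covering ?_ h2
  intro T' c hc
  obtain ⟨Y, h, g', ⟨i⟩, e⟩ := hc
  refine ⟨⟨(a, i), rfl⟩, pullback.lift h (c ≫ t) (by rw [e, Category.assoc]), ?_⟩
  simp [g']

/-- Effectiveness of a descent datum relative to an fpqc covering family is Zariski local on the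
base: if the restrictions of the datum over the members of a Zariski covering `s a : Sa a ⟶ S` of
the base (as descent data relative to the families `U i ×_S Sa a ⟶ Sa a`) are effective, the datum is
effective. -/
theorem isEffective_of_zariski_local (hu : Presieve.ofArrows U u ∈ Scheme.fpqcPrecoverage S)
    (hs : Presieve.ofArrows Sa s ∈ Scheme.zariskiPrecoverage S) (D : SchDDFam u)
    (hloc : ∀ a, (restr (vv u s) s Prod.fst (fun k => pullback.snd (u k.2) (s k.1)) (w₂ u s)
      ((pullDDFam (w₁ u s)).obj D) a).IsEffective) : D.IsEffective := by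
  obtain ⟨L⟩ := LocEff.nonempty_of_isEffective _ _ _ _ _ _ hloc
  have hcov := covHyp_vv u s hu
  have eE : (pullDDFam (w₂ u s)).obj (glued s (w₂ u s) L hcov) ≅ (pullDDFam (w₁ u s)).obj D :=
    pullGluedIso s (w₂ u s) L hcov
  have hE : (glued s (w₂ u s) L hcov).IsEffective := by
    have hcovZ : ∀ j : PUnit.{u + 1}, Presieve.ofArrows
        (fun i : {i : κ // (fun _ : κ => PUnit.unit.{u + 1}) i = j} => Sa i.1)
        (fun i => s i.1 ≫ eqToHom (congrArg (fun _ : PUnit.{u + 1} => S) i.2)) ∈
          Scheme.zariskiPrecoverage ((fun _ : PUnit.{u + 1} => S) j) := by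
      intro j
      rw [Scheme.ofArrows_mem_precoverage_iff] at hs ⊢
      obtain ⟨hsurj, hopen⟩ := hs
      refine ⟨fun x => ?_, fun i => ?_⟩
      · obtain ⟨a, hx⟩ := hsurj x
        exact ⟨⟨a, rfl⟩, by simpa using hx⟩
      · simp only [eqToHom_refl, Category.comp_id]
        exact hopen i.1
    have hZ := Groth.Agent.S9855.result (κ := PUnit.{u + 1}) (V := fun _ => S) s
      (fun _ => 𝟙 S) (fun _ => PUnit.unit) s (fun a => Category.comp_id _) hcovZ
    obtain ⟨E₀, ⟨e₀⟩⟩ := hZ.essSurj.mem_essImage (glued s (w₂ u s) L hcov)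
    exact isEffective_of_iso e₀ (isEffective_pull _ E₀ (isEffective_of_id E₀))
  have h1 : ((pullDDFam (w₁ u s)).obj D).IsEffective :=
    isEffective_of_iso eE (isEffective_pull _ _ hE)
  have hc := facSieve_vv_mem u s hs
  have : (pullDDFam (w₁ u s)).Full := full_of_cov _ hc
  have : (pullDDFam (w₁ u s)).Faithful := faithful_of_sep _ (sep_of_cov hc)
  exact isEffective_of_pull _ D h1

end zariskiLocal

end Groth.Agent.Lib.Seat58.DescEff
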