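import Groth.Agent.Lib.Seat58DescQuotChart
import Groth.Agent.Lib.Seat58DescAffine

/-!
# Descent data which are locally effective are effective (seat 58)

If the quotient presheaf `F D` of a descent datum `D` is representable, `D` is effective; it is
representable as soon as `D` is covered by effective open sub-descent-data.
-/

set_option autoImplicit false
set_option backward.isDefEq.respectTransparency false
set_option backward.isDefEq.respectTransparency.types false
universe u
open CategoryTheory CategoryTheory.Limits AlgebraicGeometry Desc Opposite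

namespace Groth.Agent.Lib.Seat58.DescQuot

variable {X S : Scheme.{u}} {p : X ⟶ S} {D : SchDD p}

lemma ofLift_congr {T : Scheme.{u}} {x x' : T ⟶ X} (ex : x = x') (v : Lifts D.obj x)
    (v' : Lifts D.obj x') (ev : v.1 = v'.1) : ofLift x v = ofLift x' v' := by
  subst ex
  have : v = v' := Subtype.ext ev
  subst this
  rfl

/-- the morphism of descent data attached to an element -/
noncomputable def El.toHom {T : Scheme.{u}} (e : El D T) : (toDD p).obj (Over.mk e.t) ⟶ D :=
  ⟨Over.homMk e.v e.hv, fun T' x₀ x₁ h v w hw => by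
    have hw' : w.1 = v.1 ≫ e.v := hw
    have hv1 : v.1 ≫ pullback.fst p e.t = x₀ := v.2
    have hc0 : x₀ ≫ p = (v.1 ≫ pullback.snd p e.t) ≫ e.t := by
      calc x₀ ≫ p = (v.1 ≫ pullback.fst p e.t) ≫ p := by rw [hv1]
        _ = _ := by rw [Category.assoc, Category.assoc, pullback.condition]
    have hc1 : x₁ ≫ p = (v.1 ≫ pullback.snd p e.t) ≫ e.t := h.symm.trans hc0
    change _ = (canMap p (Over.mk e.t) x₀ x₁ h v).1 ≫ e.v
    have h2 : (canMap p (Over.mk e.t) x₀ x₁ h v).1 ≫ e.v =
        (e.pt (v.1 ≫ pullback.snd p e.t) x₁ hc1).1 := rfl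
    rw [h2, ← e.pt_φ _ x₀ x₁ hc0 hc1 h]
    refine φ_congr D rfl rfl _ _ _ _ ?_
    rw [hw', ← El.pt_of_comp e v.1 (by
      rw [Category.assoc, Category.assoc, pullback.condition])]
    exact e.pt_congr rfl hv1 _ _⟩

lemma El.toHom_left {T : Scheme.{u}} (e : El D T) : e.toHom.hom.left = e.v := rfl

/-- **If the quotient presheaf is representable, the descent datum is effective.** -/
theorem exists_iso_of_representableBy {U₀ : Scheme.{u}} (rep : (F D).RepresentableBy U₀) :
    ∃ U : Over S, Nonempty ((toDD p).obj U ≅ D) := by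
  let e₀ : El D U₀ := rep.homEquiv (𝟙 U₀)
  have hrep : ∀ {T : Scheme.{u}} (u : T ⟶ U₀), rep.homEquiv u = e₀.map u := fun u =>
    rep.homEquiv_eq u
  have hinj : ∀ {T : Scheme.{u}} (u u' : T ⟶ U₀), e₀.map u = e₀.map u' → u = u' := by
    intro T u u' h
    apply rep.homEquiv.injective
    rw [hrep, hrep, h]
  have hsurj : ∀ {T : Scheme.{u}} (e : El D T), ∃ u : T ⟶ U₀, e₀.map u = e := by
    intro T e
    refine ⟨rep.homEquiv.symm e, ?_⟩
    rw [← hrep, Equiv.apply_symm_apply]
  -- the map `V ⟶ U₀`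
  obtain ⟨uV, huV⟩ := hsurj (ofLift D.obj.hom ⟨𝟙 _, Category.id_comp _⟩)
  have huVt : D.obj.hom ≫ p = uV ≫ e₀.t := (congrArg El.t huV).symm
  let n : D.obj.left ⟶ pullback p e₀.t := pullback.lift D.obj.hom uV huVt
  have hn1 : n ≫ e₀.v = 𝟙 _ := by
    have h1 : D.obj.hom ≫ p = (𝟙 D.obj.left ≫ uV) ≫ e₀.t := by rw [Category.id_comp]; exact huVt
    have h2 : D.obj.hom ≫ p = 𝟙 D.obj.left ≫ (e₀.map uV).t := by
      rw [Category.id_comp]; exact huVt
    calc n ≫ e₀.v = (e₀.pt uV D.obj.hom huVt).1 := rfl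
      _ = (e₀.pt (𝟙 _ ≫ uV) D.obj.hom h1).1 := e₀.pt_congr (Category.id_comp _).symm rfl _ _
      _ = ((e₀.map uV).pt (𝟙 _) D.obj.hom h2).1 := (El.map_pt e₀ uV (𝟙 _) D.obj.hom h2 h1).symm
      _ = ((ofLift D.obj.hom ⟨𝟙 _, Category.id_comp _⟩).pt (𝟙 _) D.obj.hom (by simp)).1 :=
        El.pt_eq_of_eq huV _ _ _ _
      _ = 𝟙 _ := congrArg Subtype.val (toLift_ofLift D.obj.hom ⟨𝟙 _, Category.id_comp _⟩)
  have hn2 : e₀.v ≫ n = 𝟙 _ := by
    apply pullback.hom_ext
    · rw [Category.assoc, pullback.lift_fst, e₀.hv, Category.id_comp]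
    · rw [Category.assoc, pullback.lift_snd, Category.id_comp]
      apply hinj
      have hc : pullback.fst p e₀.t ≫ p = (e₀.map (pullback.snd p e₀.t)).t := pullback.condition
      rw [e₀.map_comp, huV, ofLift_map, ← ofLift_toLift (pullback.fst p e₀.t)
        (e₀.map (pullback.snd p e₀.t)) hc]
      refine ofLift_congr e₀.hv _ _ ?_
      have h3 : pullback.fst p e₀.t ≫ p = (𝟙 _ ≫ pullback.snd p e₀.t) ≫ e₀.t := by
        rw [Category.id_comp]; exact pullback.condition
      have h4 : pullback.fst p e₀.t ≫ p = 𝟙 _ ≫ (e₀.map (pullback.snd p e₀.t)).t := by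
        rw [Category.id_comp]; exact hc
      calc e₀.v ≫ 𝟙 _ = e₀.v := Category.comp_id _
        _ = (e₀.pt (pullback.snd p e₀.t) (pullback.fst p e₀.t) pullback.condition).1 := e₀.v_eq_pt
        _ = (e₀.pt (𝟙 _ ≫ pullback.snd p e₀.t) (pullback.fst p e₀.t) h3).1 :=
          e₀.pt_congr (Category.id_comp _).symm rfl _ _
        _ = ((e₀.map (pullback.snd p e₀.t)).pt (𝟙 _) (pullback.fst p e₀.t) h4).1 :=
          (El.map_pt e₀ _ (𝟙 _) _ h4 h3).symm
  have hiso : IsIso e₀.toHom.hom.left := ⟨n, hn2, hn1⟩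
  exact ⟨Over.mk e₀.t, ⟨Groth.Agent.Lib.Seat58.DescAffine.isoOfIsIso e₀.toHom hiso⟩⟩

section Main

variable [Surjective p] [Flat p] [QuasiCompact p]
variable {ι : Type u} {U' : ι → Over S} (k : ∀ i, (toDD p).obj (U' i) ⟶ D)
  [∀ i, IsOpenImmersion (k i).hom.left]
  (hcov : ∀ v : D.obj.left, ∃ i, v ∈ (k i).hom.left.opensRange)

include hcov in
/-- **A descent datum covered by effective open sub-descent-data is effective.** -/
theorem exists_iso_of_charts : ∃ U : Over S, Nonempty ((toDD p).obj U ≅ D) := by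
  have hls : Presheaf.IsLocallySurjective Scheme.zariskiTopology
      (Sigma.desc (chart k)) := isLocallySurjective_chart k hcov
  have hrep : (F D).IsRepresentable :=
    Scheme.LocalRepresentability.isRepresentable (F := ⟨F D, isSheaf_F D⟩) (f := chart k)
      (fun i => isOpenImmersion_presheaf (k i))
  obtain ⟨U₀, ⟨rep⟩⟩ := hrep
  exact exists_iso_of_representableBy rep

end Main

end Groth.Agent.Lib.Seat58.DescQuot
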