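import Groth.Agent.Lib.Seat58DescQuotSheaf
import Groth.Agent.S9839
import Groth.Agent.S1131
import Mathlib.AlgebraicGeometry.Sites.Representability

/-!
# Charts of the quotient presheaf of a descent datum (seat 58)

For `p : X ⟶ S` flat, surjective and quasi-compact, a morphism of descent data
`k : toDD U' ⟶ D` whose underlying morphism of schemes is an open immersion gives a relatively
representable open immersion `yoneda U' ⟶ F D`.
-/

set_option autoImplicit false
set_option backward.isDefEq.respectTransparency false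
set_option backward.isDefEq.respectTransparency.types false
universe u
open CategoryTheory CategoryTheory.Limits AlgebraicGeometry Desc Opposite

namespace Groth.Agent.Lib.Seat58.DescQuot

variable {X S : Scheme.{u}} {p : X ⟶ S} {D : SchDD p}

lemma El.pt_of_comp {T : Scheme.{u}} (e : El D T) {T' : Scheme.{u}} (q : T' ⟶ pullback p e.t)
    (h : (q ≫ pullback.fst p e.t) ≫ p = (q ≫ pullback.snd p e.t) ≫ e.t) :
    (e.pt (q ≫ pullback.snd p e.t) (q ≫ pullback.fst p e.t) h).1 = q ≫ e.v := by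
  rw [El.pt_val]
  congr 1
  apply pullback.hom_ext <;> simp

lemma El.map_v {T T' : Scheme.{u}} (e : El D T) (c : T' ⟶ T) :
    (e.map c).v = (e.pt (pullback.snd p (c ≫ e.t) ≫ c) (pullback.fst p (c ≫ e.t)) (by
      rw [pullback.condition, Category.assoc])).1 := rfl

section OfHom

variable {U' : Over S} (k : (toDD p).obj U' ⟶ D)

lemma k_left_hom : k.hom.left ≫ D.obj.hom = pullback.fst p U'.hom := Over.w k.hom

/-- the element of the quotient presheaf attached to a morphism from a canonical descent datum -/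
noncomputable def ofHom : El D U'.left where
  t := U'.hom
  v := k.hom.left
  hv := k_left_hom k
  comm T' a x₀ x₁ h₀ h₁ := by
    have := k.comm x₀ x₁ (h₀.trans h₁.symm) ⟨pullback.lift x₀ a h₀, pullback.lift_fst _ _ _⟩
      ⟨pullback.lift x₀ a h₀ ≫ k.hom.left, by
        rw [Category.assoc, k_left_hom, pullback.lift_fst]⟩ rfl
    rw [this]
    congr 1
    apply pullback.hom_ext
    · exact (pullback.lift_fst _ _ _).trans (pullback.lift_fst _ _ _).symm
    · refine (pullback.lift_snd _ _ _).trans ?_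
      exact (pullback.lift_snd _ _ _).trans (pullback.lift_snd _ _ _).symm

@[simp] lemma ofHom_t : (ofHom k).t = U'.hom := rfl
@[simp] lemma ofHom_v : (ofHom k).v = k.hom.left := rfl

/-- the image of `k` is stable under the descent datum -/
lemma factors_φ {T' : Scheme.{u}} (x₀ x₁ : T' ⟶ X) (h : x₀ ≫ p = x₁ ≫ p) (v : Lifts D.obj x₀)
    (w : T' ⟶ pullback p U'.hom) (hw : w ≫ k.hom.left = v.1) :
    ∃ w' : T' ⟶ pullback p U'.hom, w' ≫ k.hom.left = (D.φ x₀ x₁ h v).1 := by
  have hw0 : w ≫ pullback.fst p U'.hom = x₀ := by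
    rw [← k_left_hom k, ← Category.assoc, hw, v.2]
  exact ⟨_, (k.comm x₀ x₁ h ⟨w, hw0⟩ v hw.symm).symm⟩

end OfHom

lemma exists_factor_iff {Y Z V : Scheme.{u}} (j : Z ⟶ V) [IsOpenImmersion j] (g : Y ⟶ V) :
    (∃ w : Y ⟶ Z, w ≫ j = g) ↔ ∀ y : Y, g y ∈ j.opensRange := by
  constructor
  · rintro ⟨w, rfl⟩ y
    exact ⟨w y, by rw [Scheme.Hom.comp_apply]⟩
  · intro h
    refine ⟨IsOpenImmersion.lift j g ?_, IsOpenImmersion.lift_fac _ _ _⟩
    rintro _ ⟨y, rfl⟩
    exact h y

section Chart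

variable [Surjective p] [Flat p] [QuasiCompact p]
variable {U' : Over S} (k : (toDD p).obj U' ⟶ D) [IsOpenImmersion k.hom.left]
variable {T : Scheme.{u}} (e : El D T)

/-- the preimage of the image of `k` -/
noncomputable def W : (pullback p e.t).Opens := e.v ⁻¹ᵁ k.hom.left.opensRange

omit [Surjective p] [Flat p] [QuasiCompact p] in
lemma mem_W_iff : ∀ y, y ∈ W k e ↔ e.v y ∈ k.hom.left.opensRange := fun _ => Iff.rfl

omit [Surjective p] [Flat p] [QuasiCompact p] in
lemma W_preimage_le {P : Scheme.{u}} (q₁ q₂ : P ⟶ pullback p e.t)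
    (hq : q₁ ≫ pullback.snd p e.t = q₂ ≫ pullback.snd p e.t) : q₁ ⁻¹ᵁ W k e ≤ q₂ ⁻¹ᵁ W k e := by
  let O : P.Opens := q₁ ⁻¹ᵁ W k e
  -- the restriction of `q₁ ≫ e.v` to `O` factors through `k`
  have h1 : ∃ w : O.toScheme ⟶ pullback p U'.hom, w ≫ k.hom.left = O.ι ≫ q₁ ≫ e.v := by
    rw [exists_factor_iff]
    intro y
    have hy : O.ι y ∈ q₁ ⁻¹ᵁ W k e := y.2
    rw [Scheme.Hom.mem_preimage, mem_W_iff] at hy
    rw [Scheme.Hom.comp_apply, Scheme.Hom.comp_apply]
    exact hy
  obtain ⟨w, hw⟩ := h1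
  have hc1 : ((O.ι ≫ q₁) ≫ pullback.fst p e.t) ≫ p = ((O.ι ≫ q₁) ≫ pullback.snd p e.t) ≫ e.t := by
    simp only [Category.assoc, pullback.condition]
  have hc2' : ((O.ι ≫ q₂) ≫ pullback.fst p e.t) ≫ p = ((O.ι ≫ q₂) ≫ pullback.snd p e.t) ≫ e.t := by
    simp only [Category.assoc, pullback.condition]
  have hsnd : (O.ι ≫ q₁) ≫ pullback.snd p e.t = (O.ι ≫ q₂) ≫ pullback.snd p e.t := by
    rw [Category.assoc, Category.assoc, hq]
  have hc2 : ((O.ι ≫ q₂) ≫ pullback.fst p e.t) ≫ p = ((O.ι ≫ q₁) ≫ pullback.snd p e.t) ≫ e.t := by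
    rw [hsnd]; exact hc2'
  have h2 := factors_φ k ((O.ι ≫ q₁) ≫ pullback.fst p e.t) ((O.ι ≫ q₂) ≫ pullback.fst p e.t)
    (hc1.trans hc2.symm) (e.pt _ _ hc1) w (by
      rw [hw, El.pt_of_comp, Category.assoc])
  rw [e.pt_φ _ _ _ hc1 hc2] at h2
  rw [e.pt_congr hsnd rfl hc2 hc2', El.pt_of_comp, exists_factor_iff] at h2
  intro z hz
  have := h2 ⟨z, hz⟩
  rw [Scheme.Hom.comp_apply, Scheme.Hom.comp_apply] at this
  rw [Scheme.Hom.mem_preimage, mem_W_iff]
  exact this

lemma snd_mem_fpqc : Presieve.ofArrows (fun _ : PUnit.{u + 1} => pullback p e.t)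
    (fun _ => pullback.snd p e.t) ∈ Scheme.fpqcPrecoverage T := by
  rw [Presieve.ofArrows_pUnit]
  exact (pullback.snd p e.t).singleton_mem_fpqcPrecoverage

lemma exists_Tk : ∃ Tk : T.Opens, (pullback.snd p e.t) ⁻¹ᵁ Tk = W k e := by
  obtain ⟨Tk, hTk, -⟩ := Groth.Agent.S9839.result (fun _ : PUnit.{u + 1} => pullback.snd p e.t)
    (snd_mem_fpqc e) (fun _ => W k e) (fun _ _ => le_antisymm
      (W_preimage_le k e _ _ pullback.condition) (W_preimage_le k e _ _ pullback.condition.symm))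
  exact ⟨Tk, hTk PUnit.unit⟩

/-- the open of `T` over which `e` factors through `k` -/
noncomputable def Tk : T.Opens := (exists_Tk k e).choose

lemma preimage_Tk : (pullback.snd p e.t) ⁻¹ᵁ Tk k e = W k e := (exists_Tk k e).choose_spec

/-- over `Tk`, the points of `e` factor through `k` -/
lemma factor_of_mem {T' T'' : Scheme.{u}} (c : T' ⟶ T) (hc : ∀ z : T', c z ∈ Tk k e)
    (a : T'' ⟶ T') (x : T'' ⟶ X) (h : x ≫ p = (a ≫ c) ≫ e.t) :
    ∃ w : T'' ⟶ pullback p U'.hom, w ≫ k.hom.left = (e.pt (a ≫ c) x h).1 := by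
  rw [exists_factor_iff]
  intro y
  rw [El.pt_val, Scheme.Hom.comp_apply, ← mem_W_iff, ← preimage_Tk, Scheme.Hom.mem_preimage,
    ← Scheme.Hom.comp_apply, pullback.lift_snd, Scheme.Hom.comp_apply]
  exact hc _

/-- conversely, if the points of `e` over `c` factor through `k`, then `c` lands in `Tk` -/
lemma mem_of_factor {T' : Scheme.{u}} (c : T' ⟶ T)
    (hc : ∃ w : pullback p (c ≫ e.t) ⟶ pullback p U'.hom, w ≫ k.hom.left = (e.map c).v)
    (z : T') : c z ∈ Tk k e := by
  obtain ⟨y, rfl⟩ := (pullback.snd p (c ≫ e.t)).surjective z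
  obtain ⟨w, hw⟩ := hc
  rw [El.map_v, El.pt_val] at hw
  have h1 : (pullback.lift (pullback.fst p (c ≫ e.t)) (pullback.snd p (c ≫ e.t) ≫ c)
      (by rw [pullback.condition, Category.assoc]) : pullback p (c ≫ e.t) ⟶ pullback p e.t) y ∈
      W k e := by
    rw [mem_W_iff, ← Scheme.Hom.comp_apply, ← hw, Scheme.Hom.comp_apply]
    exact ⟨_, rfl⟩
  rw [← preimage_Tk, Scheme.Hom.mem_preimage, ← Scheme.Hom.comp_apply, pullback.lift_snd,
    Scheme.Hom.comp_apply] at h1
  exact h1

omit [IsOpenImmersion k.hom.left] in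
/-- an element factoring through the mono `k` comes from a morphism to `U'` -/
lemma exists_map_of_factor [Mono k.hom.left] {T' : Scheme.{u}} (e' : El D T')
    (wk : pullback p e'.t ⟶ pullback p U'.hom) (hwk : wk ≫ k.hom.left = e'.v) :
    ∃ u : T' ⟶ U'.left, u ≫ U'.hom = e'.t ∧ (ofHom k).map u = e' := by
  have hwk1 : wk ≫ pullback.fst p U'.hom = pullback.fst p e'.t := by
    rw [← k_left_hom k, ← Category.assoc, hwk, e'.hv]
  let M : (toDD p).obj (Over.mk e'.t) ⟶ (toDD p).obj U' :=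
    ⟨Over.homMk wk hwk1, fun T'' x₀ x₁ h v w hw => by
      have hw' : w.1 = v.1 ≫ wk := hw
      change (canMap p U' x₀ x₁ h w).1 = (canMap p (Over.mk e'.t) x₀ x₁ h v).1 ≫ wk
      rw [← cancel_mono k.hom.left]
      have h1 := k.comm x₀ x₁ h w ⟨w.1 ≫ k.hom.left, by
        rw [Category.assoc, k_left_hom]; exact w.2⟩ rfl
      have hv1 : v.1 ≫ pullback.fst p e'.t = x₀ := v.2
      have hc0 : x₀ ≫ p = (v.1 ≫ pullback.snd p e'.t) ≫ e'.t := by
        calc x₀ ≫ p = (v.1 ≫ pullback.fst p e'.t) ≫ p := by rw [hv1]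
          _ = _ := by rw [Category.assoc, Category.assoc, pullback.condition]
      have hc1 : x₁ ≫ p = (v.1 ≫ pullback.snd p e'.t) ≫ e'.t := h.symm.trans hc0
      have h2 : (canMap p (Over.mk e'.t) x₀ x₁ h v).1 ≫ wk ≫ k.hom.left =
          (e'.pt (v.1 ≫ pullback.snd p e'.t) x₁ hc1).1 := by
        rw [hwk]; rfl
      rw [Category.assoc, h2, ← e'.pt_φ _ x₀ x₁ hc0 hc1 h]
      refine h1.symm.trans (φ_congr D rfl rfl _ _ _ _ ?_)
      change w.1 ≫ k.hom.left = _
      rw [hw', Category.assoc, hwk, ← El.pt_of_comp e' v.1 (by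
        rw [Category.assoc, Category.assoc, pullback.condition])]
      exact e'.pt_congr rfl hv1 _ _⟩
  obtain ⟨g, hg⟩ := (Groth.Agent.S1131.result p).map_surjective M
  have hg' : wk = pullback.map p e'.t p U'.hom (𝟙 X) g.left (𝟙 S) (by simp) (by
      have := Over.w g; simp) := by
    have := congrArg (fun m => m.hom.left) hg
    exact this.symm
  refine ⟨g.left, Over.w g, ?_⟩
  refine El.ext' (Over.w g) (fun T'' a x h h' => ?_)
  have h'' : x ≫ p = (a ≫ g.left) ≫ U'.hom := by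
    rw [Category.assoc, Over.w g]; exact h'
  rw [El.map_pt _ g.left a x h h'']
  have e1 : pullback.lift x a h' ≫ wk = pullback.lift x (a ≫ g.left) h'' := by
    rw [hg']
    apply pullback.hom_ext
    · rw [Category.assoc, pullback.lift_fst, pullback.lift_fst_assoc, Category.comp_id]
      exact (pullback.lift_fst _ _ _).symm
    · rw [Category.assoc, pullback.lift_snd, pullback.lift_snd_assoc]
      exact (pullback.lift_snd _ _ _).symm
  calc ((ofHom k).pt (a ≫ g.left) x h'').1 = pullback.lift x (a ≫ g.left) h'' ≫ k.hom.left := rfl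
    _ = (pullback.lift x a h' ≫ wk) ≫ k.hom.left := by rw [e1]
    _ = pullback.lift x a h' ≫ e'.v := by rw [Category.assoc, hwk]
    _ = (e'.pt a x h').1 := rfl

omit [QuasiCompact p] [IsOpenImmersion k.hom.left] in
/-- the chart is a monomorphism -/
lemma ofHom_map_injective [Mono k.hom.left] {T' : Scheme.{u}} (u₁ u₂ : T' ⟶ U'.left)
    (h : (ofHom k).map u₁ = (ofHom k).map u₂) : u₁ = u₂ := by
  have hepi : Epi (pullback.snd p (u₁ ≫ U'.hom)) := Flat.epi_of_flat_of_surjective _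
  rw [← cancel_epi (pullback.snd p (u₁ ≫ U'.hom))]
  have ht : u₁ ≫ U'.hom = u₂ ≫ U'.hom := congrArg El.t h
  have hc1 : pullback.fst p (u₁ ≫ U'.hom) ≫ p =
      pullback.snd p (u₁ ≫ U'.hom) ≫ ((ofHom k).map u₁).t := pullback.condition
  have hc2 : pullback.fst p (u₁ ≫ U'.hom) ≫ p =
      pullback.snd p (u₁ ≫ U'.hom) ≫ ((ofHom k).map u₂).t := by
    rw [hc1]; exact congrArg (_ ≫ ·) ht
  have h1 := El.pt_eq_of_eq h (pullback.snd p (u₁ ≫ U'.hom)) (pullback.fst p (u₁ ≫ U'.hom)) hc1 hc2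
  rw [El.map_pt _ u₁ _ _ hc1 (by rw [hc1, El.map_t, Category.assoc]),
    El.map_pt _ u₂ _ _ hc2 (by rw [hc2, El.map_t, Category.assoc]), El.pt_val, El.pt_val,
    ofHom_v, cancel_mono] at h1
  have h2 := congrArg (· ≫ pullback.snd p U'.hom) h1
  simp at h2
  exact h2

omit [Surjective p] [Flat p] [QuasiCompact p] [IsOpenImmersion k.hom.left] in
lemma factor_of_eq {e₁ e₂ : El D T} (h : e₁ = e₂)
    (hex : ∃ w : pullback p e₁.t ⟶ pullback p U'.hom, w ≫ k.hom.left = e₁.v) :
    ∃ w : pullback p e₂.t ⟶ pullback p U'.hom, w ≫ k.hom.left = e₂.v := by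
  subst h; exact hex

/-- **the chart attached to `k` is a relatively representable open immersion** -/
theorem isOpenImmersion_presheaf :
    IsOpenImmersion.presheaf (yonedaEquiv.symm (ofHom k) : yoneda.obj U'.left ⟶ F D) := by
  apply MorphismProperty.relative.of_exists
  intro T g
  obtain ⟨e, rfl⟩ := yonedaEquiv.symm.surjective g
  change El D T at e
  -- the factorization over `Tk`
  have hfac : ∃ wk : pullback p ((Tk k e).ι ≫ e.t) ⟶ pullback p U'.hom,
      wk ≫ k.hom.left = (e.map (Tk k e).ι).v := by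
    rw [El.map_v]
    exact factor_of_mem k e (Tk k e).ι (fun z => z.2) _ _ _
  obtain ⟨wk, hwk⟩ := hfac
  obtain ⟨u', hu'S, hu'⟩ := exists_map_of_factor k (e.map (Tk k e).ι) wk hwk
  refine ⟨(Tk k e).toScheme, yoneda.map u', (Tk k e).ι, ?_, inferInstance⟩
  apply IsPullback.of_forall_isPullback_app
  intro T''
  rw [Types.isPullback_iff]
  refine ⟨?_, ?_, ?_⟩
  · ext (c : T''.unop ⟶ (Tk k e).toScheme)
    change (ofHom k).map (c ≫ u') = e.map (c ≫ (Tk k e).ι)
    rw [El.map_comp, El.map_comp, hu']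
  · rintro (c₁ : T''.unop ⟶ (Tk k e).toScheme) (c₂ : T''.unop ⟶ (Tk k e).toScheme) ⟨-, h2⟩
    have h2' : c₁ ≫ (Tk k e).ι = c₂ ≫ (Tk k e).ι := h2
    exact (cancel_mono _).1 h2'
  · rintro (u'' : T''.unop ⟶ U'.left) (c : T''.unop ⟶ T) h
    have h' : (ofHom k).map u'' = e.map c := h
    -- `c` lands in `Tk`
    have hmem : ∀ z, c z ∈ Tk k e := by
      apply mem_of_factor k e c
      exact factor_of_eq k h' ⟨pullback.lift _ _ _, rfl⟩
    let c' : T''.unop ⟶ (Tk k e).toScheme := IsOpenImmersion.lift (Tk k e).ι c (by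
      rw [Scheme.Opens.range_ι]
      rintro _ ⟨z, rfl⟩
      exact hmem z)
    have hc' : c' ≫ (Tk k e).ι = c := IsOpenImmersion.lift_fac _ _ _
    refine ⟨c', ?_, hc'⟩
    change c' ≫ u' = u''
    apply ofHom_map_injective k
    rw [El.map_comp, hu', ← El.map_comp, hc', h']

end Chart

section Cover

variable [Surjective p] [Flat p] [QuasiCompact p]
variable {ι : Type u} {U' : ι → Over S} (k : ∀ i, (toDD p).obj (U' i) ⟶ D)
  [∀ i, IsOpenImmersion (k i).hom.left]
  (hcov : ∀ v : D.obj.left, ∃ i, v ∈ (k i).hom.left.opensRange)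

include hcov in
lemma iSup_Tk_eq_top {T : Scheme.{u}} (e : El D T) : ⨆ i, Tk (k i) e = ⊤ := by
  rw [eq_top_iff]
  intro z _
  obtain ⟨y, rfl⟩ := (pullback.snd p e.t).surjective z
  obtain ⟨i, hi⟩ := hcov (e.v y)
  rw [TopologicalSpace.Opens.mem_iSup]
  refine ⟨i, ?_⟩
  rw [← Scheme.Hom.mem_preimage, preimage_Tk, mem_W_iff]
  exact hi

/-- the charts -/
noncomputable def chart (i : ι) : yoneda.obj (U' i).left ⟶ F D := yonedaEquiv.symm (ofHom (k i))

include hcov in
/-- the charts are jointly locally surjective -/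
theorem isLocallySurjective_chart :
    Presheaf.IsLocallySurjective Scheme.zariskiTopology (Sigma.desc (chart k)) := by
  constructor
  intro T s
  change El D T at s
  let 𝒰 : T.OpenCover := T.openCoverOfIsOpenCover (fun i => Tk (k i) s) (iSup_Tk_eq_top k hcov s)
  have main : ∀ i, Presheaf.imageSieve (Sigma.desc (chart k)) s (Tk (k i) s).ι := by
    intro i
    have hfac : ∃ wk : pullback p ((Tk (k i) s).ι ≫ s.t) ⟶ pullback p (U' i).hom,
        wk ≫ (k i).hom.left = (s.map (Tk (k i) s).ι).v := by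
      rw [El.map_v]
      exact factor_of_mem (k i) s (Tk (k i) s).ι (fun z => z.2) _ _ _
    obtain ⟨wk, hwk⟩ := hfac
    obtain ⟨u', -, hu'⟩ := exists_map_of_factor (k i) (s.map (Tk (k i) s).ι) wk hwk
    refine ⟨(Sigma.ι (fun i => yoneda.obj (U' i).left) i).app (op _) u', ?_⟩
    have h1 : (Sigma.ι (fun i => yoneda.obj (U' i).left) i ≫ Sigma.desc (chart k)).app
        (op (Tk (k i) s).toScheme) u' = (chart k i).app _ u' := by
      rw [Sigma.ι_desc]
      rfl
    rw [NatTrans.comp_app] at h1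
    exact h1.trans hu'
  refine Scheme.zariskiTopology.superset_covering ?_ 𝒰.mem_grothendieckTopology
  rw [Sieve.ofArrows, Sieve.generate_le_iff]
  rintro V g ⟨i⟩
  exact main i

end Cover

end Groth.Agent.Lib.Seat58.DescQuot
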