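import Groth.Agent.Lib.Seat58DescQA2
import Groth.Agent.Lib.Seat58DescQuotChart
import Mathlib.AlgebraicGeometry.QuasiAffine

/-!
# Effective descent for quasi-affine schemes along a flat surjective morphism of affine schemes
(seat 58)
-/

set_option autoImplicit false
set_option linter.unusedSectionVars false
set_option backward.isDefEq.respectTransparency false
set_option backward.isDefEq.respectTransparency.types false
universe u
open CategoryTheory CategoryTheory.Limits AlgebraicGeometry Desc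

namespace Groth.Agent.Lib.Seat58.DescQA

open Groth.Agent.Lib.Seat58.DescQuot Groth.Agent.Lib.Seat58.DescAffine

variable {X S : Scheme.{u}} {p : X ⟶ S} [IsAffine X] [IsAffine S] [Flat p] [Surjective p]
  (D : SchDD p) [D.obj.left.IsQuasiAffine]

/-- morphisms to an affine scheme of the form `Spec R` are determined by global sections -/
lemma comp_toSpec {T V : Scheme.{u}} (w : T ⟶ V) {R : CommRingCat.{u}} (g : R ⟶ Γ(V, ⊤)) :
    w ≫ V.toSpecΓ ≫ Spec.map g = T.toSpecΓ ≫ Spec.map (g ≫ w.appTop) := by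
  rw [← Category.assoc, Scheme.toSpecΓ_naturality, Category.assoc, ← Spec.map_comp]

/-- **Effective descent for quasi-affine schemes, affine case.** -/
theorem exists_iso_of_quasiAffine : ∃ U : Over S, Nonempty ((toDD p).obj U ≅ D) := by
  have : QuasiSeparatedSpace D.obj.left := inferInstance
  have hflat : p.appTop.hom.Flat :=
    (HasRingHomProperty.iff_of_isAffine (P := @Flat)).1 inferInstance
  obtain ⟨C₀, _, k, ι, hk, hinv, hext⟩ := (rddQ D).main hflat
  let U : Over S := Over.mk (pt S (CommRingCat.ofHom k))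
  let r : D.obj.left ⟶ Spec (CommRingCat.of C₀) :=
    D.obj.left.toSpecΓ ≫ Spec.map (CommRingCat.ofHom ι)
  have hkι : CommRingCat.ofHom k ≫ CommRingCat.ofHom ι = (D.obj.hom ≫ p).appTop := by
    rw [Scheme.Hom.comp_appTop]
    ext x
    exact congrArg (fun f => f x) hk
  have hqr : D.obj.hom ≫ p = r ≫ U.hom := by
    change _ = (D.obj.left.toSpecΓ ≫ Spec.map (CommRingCat.ofHom ι)) ≫
      (Spec.map (CommRingCat.ofHom k) ≫ S.isoSpec.inv)
    rw [Category.assoc, ← Category.assoc (Spec.map (CommRingCat.ofHom ι)), ← Spec.map_comp, hkι]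
    exact (fac (D.obj.hom ≫ p)).symm
  let e : D.obj.left ⟶ pullback p U.hom := pullback.lift D.obj.hom r hqr
  have he1 : e ≫ pullback.fst p U.hom = D.obj.hom := pullback.lift_fst _ _ _
  have he2 : e ≫ pullback.snd p U.hom = r := pullback.lift_snd _ _ _
  -- invariance of `r`
  have hinvT : ∀ {T : Scheme.{u}} (x₀ x₁ : T ⟶ X) (h : x₀ ≫ p = x₁ ≫ p) (v : Lifts D.obj x₀),
      (D.φ x₀ x₁ h v).1 ≫ r = v.1 ≫ r := by
    intro T x₀ x₁ h v
    change (D.φ x₀ x₁ h v).1 ≫ D.obj.left.toSpecΓ ≫ Spec.map _ =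
      v.1 ≫ D.obj.left.toSpecΓ ≫ Spec.map _
    rw [comp_toSpec, comp_toSpec]
    congr 2
    let a₀ : Γ(X, ⊤) →+* Γ(T, ⊤) := x₀.appTop.hom
    let a₁ : Γ(X, ⊤) →+* Γ(T, ⊤) := x₁.appTop.hom
    have h' : a₀.comp p.appTop.hom = a₁.comp p.appTop.hom := by
      have := congrArg Scheme.Hom.appTop h
      rw [Scheme.Hom.comp_appTop, Scheme.Hom.comp_appTop] at this
      ext x
      exact congrArg (fun f => f.hom x) this
    let c : DescAlg.L' D.obj.hom.appTop.hom Γ(T, ⊤) a₀ := ⟨v.1.appTop.hom, by
      have := congrArg Scheme.Hom.appTop v.2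
      rw [Scheme.Hom.comp_appTop] at this
      ext x
      exact congrArg (fun f => f.hom x) this⟩
    have h1 := Φc_appTop D x₀ x₁ h v (cond_of D a₀ a₁ h' c)
    ext z
    have h2 := hinv Γ(T, ⊤) a₀ a₁ h' c z
    change (D.φ x₀ x₁ h v).1.appTop.hom (ι z) = v.1.appTop.hom (ι z)
    rw [← h1]
    exact h2
  -- the comparison `Spec Γ(V) ⟶ X ×_S U`
  let jX : Spec Γ(D.obj.left, ⊤) ⟶ X := pt X D.obj.hom.appTop
  have hτ : jX ≫ p = Spec.map (CommRingCat.ofHom ι) ≫ U.hom := by
    change pt X D.obj.hom.appTop ≫ p = Spec.map (CommRingCat.ofHom ι) ≫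
      (Spec.map (CommRingCat.ofHom k) ≫ S.isoSpec.inv)
    rw [pt_comp, ← Category.assoc, ← Spec.map_comp, hkι, Scheme.Hom.comp_appTop]
    rfl
  let τ : Spec Γ(D.obj.left, ⊤) ⟶ pullback p U.hom :=
    pullback.lift jX (Spec.map (CommRingCat.ofHom ι)) hτ
  have hτ1 : τ ≫ pullback.fst p U.hom = jX := pullback.lift_fst _ _ _
  have hτ2 : τ ≫ pullback.snd p U.hom = Spec.map (CommRingCat.ofHom ι) := pullback.lift_snd _ _ _
  have heτ : e = D.obj.left.toSpecΓ ≫ τ := by
    apply pullback.hom_ext
    · rw [he1, Category.assoc, hτ1]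
      exact (fac D.obj.hom).symm
    · rw [he2, Category.assoc, hτ2]
  have : IsAffine U.left := inferInstanceAs (IsAffine (Spec (CommRingCat.of C₀)))
  have hisoτ : IsIso τ := by
    apply isIso_of_bijective_pts
    intro R
    constructor
    · intro s s' hss
      have hss' : s ≫ τ = s' ≫ τ := hss
      obtain ⟨g, rfl⟩ : ∃ g, Spec.map g = s := ⟨Spec.preimage s, Spec.map_preimage s⟩
      obtain ⟨g', rfl⟩ : ∃ g', Spec.map g' = s' := ⟨Spec.preimage s', Spec.map_preimage s'⟩
      have h1 : D.obj.hom.appTop ≫ g = D.obj.hom.appTop ≫ g' := by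
        have := congrArg (fun t => t ≫ pullback.fst p U.hom) hss'
        simp only [Category.assoc, hτ1] at this
        change Spec.map g ≫ pt X _ = Spec.map g' ≫ pt X _ at this
        rw [map_pt, map_pt] at this
        exact pt_injective X this
      have h2 : CommRingCat.ofHom ι ≫ g = CommRingCat.ofHom ι ≫ g' := by
        have := congrArg (fun t => t ≫ pullback.snd p U.hom) hss'
        simp only [Category.assoc, hτ2] at this
        rw [← Spec.map_comp, ← Spec.map_comp] at this
        exact Spec.map_injective this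
      have hcompat : (g.hom.comp ι).comp k = (g.hom.comp D.obj.hom.appTop.hom).comp p.appTop.hom := by
        rw [RingHom.comp_assoc, hk, RingHom.comp_assoc]
      obtain ⟨c, -, huniq⟩ := hext R (g.hom.comp D.obj.hom.appTop.hom) (g.hom.comp ι) hcompat
      have e1 := huniq g.hom ⟨rfl, rfl⟩
      have e2 := huniq g'.hom ⟨by
        ext x
        exact (congrArg (fun f => f.hom x) h1).symm, by
        ext x
        exact (congrArg (fun f => f.hom x) h2).symm⟩
      have : g = g' := by
        ext x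
        rw [e1, e2]
      rw [this]
    · intro s
      obtain ⟨a, ha⟩ := exists_pt X (s ≫ pullback.fst p U.hom)
      let c₀ : CommRingCat.of C₀ ⟶ R := Spec.preimage (s ≫ pullback.snd p U.hom)
      have hc₀ : Spec.map c₀ = s ≫ pullback.snd p U.hom := Spec.map_preimage _
      have hcond : p.appTop ≫ a = CommRingCat.ofHom k ≫ c₀ := by
        apply pt_injective S
        rw [← pt_comp, ha, ← map_pt, hc₀, Category.assoc, Category.assoc]
        exact congrArg (fun t => s ≫ t) (pullback.condition (f := p) (g := U.hom))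
      have hcompat : c₀.hom.comp k = a.hom.comp p.appTop.hom := by
        ext x
        exact (congrArg (fun f => f.hom x) hcond).symm
      obtain ⟨c, ⟨hc1, hc2⟩, -⟩ := hext R a.hom c₀.hom hcompat
      refine ⟨Spec.map (CommRingCat.ofHom c), ?_⟩
      change Spec.map (CommRingCat.ofHom c) ≫ τ = s
      apply pullback.hom_ext
      · rw [Category.assoc, hτ1, ← ha]
        change Spec.map _ ≫ pt X _ = _
        rw [map_pt]
        congr 1
        ext x
        exact congrArg (fun f => f x) hc1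
      · rw [Category.assoc, hτ2, ← hc₀, ← Spec.map_comp]
        congr 1
        ext x
        exact congrArg (fun f => f x) hc2
  have heopen : IsOpenImmersion e := by
    rw [heτ]
    infer_instance
  -- the image of `e` descends to an open of `U`
  let pr₂ := pullback.snd p U.hom
  have hsat : ∀ {Q₂ : Scheme.{u}} (q₁ q₂ : Q₂ ⟶ pullback p U.hom), q₁ ≫ pr₂ = q₂ ≫ pr₂ →
      q₁ ⁻¹ᵁ e.opensRange ≤ q₂ ⁻¹ᵁ e.opensRange := by
    intro Q₂ q₁ q₂ hq
    let O : Q₂.Opens := q₁ ⁻¹ᵁ e.opensRange
    have h1 : ∃ w : O.toScheme ⟶ D.obj.left, w ≫ e = O.ι ≫ q₁ := by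
      rw [exists_factor_iff]
      intro y
      have hy : O.ι y ∈ q₁ ⁻¹ᵁ e.opensRange := y.2
      rw [Scheme.Hom.mem_preimage] at hy
      rw [Scheme.Hom.comp_apply]
      exact hy
    obtain ⟨w, hw⟩ := h1
    let x₀ : O.toScheme ⟶ X := O.ι ≫ q₁ ≫ pullback.fst p U.hom
    let x₁ : O.toScheme ⟶ X := O.ι ≫ q₂ ≫ pullback.fst p U.hom
    have hx : x₀ ≫ p = x₁ ≫ p := by
      dsimp only [x₀, x₁]
      simp only [Category.assoc]
      rw [pullback.condition, ← Category.assoc q₁, hq, Category.assoc, ← pullback.condition]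
    have hwx : w ≫ D.obj.hom = x₀ := by
      rw [← he1, ← Category.assoc, hw, Category.assoc]
    have h2 : (D.φ x₀ x₁ hx ⟨w, hwx⟩).1 ≫ e = O.ι ≫ q₂ := by
      apply pullback.hom_ext
      · rw [Category.assoc, he1, (D.φ x₀ x₁ hx ⟨w, hwx⟩).2, Category.assoc]
      · rw [Category.assoc, he2, hinvT, ← he2, ← Category.assoc, hw, Category.assoc, hq,
          Category.assoc]
    intro z hz
    have h3 := (exists_factor_iff e (O.ι ≫ q₂)).mp ⟨_, h2⟩ ⟨z, hz⟩
    rw [Scheme.Hom.comp_apply] at h3
    rw [Scheme.Hom.mem_preimage]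
    exact h3
  have hfpqc : Presieve.ofArrows (fun _ : PUnit.{u + 1} => pullback p U.hom) (fun _ => pr₂) ∈
      Scheme.fpqcPrecoverage U.left := by
    rw [Presieve.ofArrows_pUnit]
    exact pr₂.singleton_mem_fpqcPrecoverage
  obtain ⟨W, hW, -⟩ := Groth.Agent.S9839.result (fun _ : PUnit.{u + 1} => pr₂) hfpqc
    (fun _ => e.opensRange) (fun _ _ => le_antisymm (hsat _ _ pullback.condition)
      (hsat _ _ pullback.condition.symm))
  have hW' : pr₂ ⁻¹ᵁ W = e.opensRange := hW PUnit.unit
  -- `r` lands in `W`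
  have hrW : ∀ z : D.obj.left, r z ∈ W := by
    intro z
    have h1 : e z ∈ pr₂ ⁻¹ᵁ W := by
      rw [hW']
      exact ⟨z, rfl⟩
    rw [Scheme.Hom.mem_preimage, ← Scheme.Hom.comp_apply] at h1
    have h2 : e ≫ pr₂ = r := he2
    rw [h2] at h1
    exact h1
  let rW : D.obj.left ⟶ W.toScheme := IsOpenImmersion.lift W.ι r (by
    rw [Scheme.Opens.range_ι]
    rintro _ ⟨z, rfl⟩
    exact hrW z)
  have hrW' : rW ≫ W.ι = r := IsOpenImmersion.lift_fac _ _ _
  let UW : Over S := Over.mk (W.ι ≫ U.hom)
  have hqW : D.obj.hom ≫ p = rW ≫ UW.hom := by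
    change _ = rW ≫ W.ι ≫ U.hom
    rw [← Category.assoc, hrW', hqr]
  let eW : D.obj.left ⟶ pullback p UW.hom := pullback.lift D.obj.hom rW hqW
  have heW1 : eW ≫ pullback.fst p UW.hom = D.obj.hom := pullback.lift_fst _ _ _
  have heW2 : eW ≫ pullback.snd p UW.hom = rW := pullback.lift_snd _ _ _
  let m : pullback p UW.hom ⟶ pullback p U.hom :=
    pullback.lift (pullback.fst _ _) (pullback.snd _ _ ≫ W.ι) (by
      rw [Category.assoc]
      exact pullback.condition)
  have hm1 : m ≫ pullback.fst p U.hom = pullback.fst p UW.hom := pullback.lift_fst _ _ _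
  have hm2 : m ≫ pullback.snd p U.hom = pullback.snd p UW.hom ≫ W.ι := pullback.lift_snd _ _ _
  have hm : eW ≫ m = e := by
    apply pullback.hom_ext
    · rw [Category.assoc, hm1, heW1, he1]
    · rw [Category.assoc, hm2, ← Category.assoc, heW2, hrW', he2]
  have hmono : Mono m := by
    constructor
    intro Z a b hab
    apply pullback.hom_ext
    · have := congrArg (· ≫ pullback.fst p U.hom) hab
      simpa only [Category.assoc, hm1] using this
    · have := congrArg (· ≫ pullback.snd p U.hom) hab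
      simp only [Category.assoc, hm2] at this
      rw [← Category.assoc, ← Category.assoc] at this
      exact (cancel_mono W.ι).1 this
  have hmE : ∀ y, m y ∈ e.opensRange := by
    intro y
    rw [← hW', Scheme.Hom.mem_preimage, ← Scheme.Hom.comp_apply]
    have h2 : m ≫ pr₂ = pullback.snd p UW.hom ≫ W.ι := hm2
    rw [h2, Scheme.Hom.comp_apply]
    exact (pullback.snd p UW.hom y).2
  obtain ⟨n, hn⟩ := (exists_factor_iff e m).mpr hmE
  have hiso : IsIso eW := ⟨n, by
    rw [← cancel_mono e, Category.assoc, hn, hm, Category.id_comp], by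
    rw [← cancel_mono m, Category.assoc, hm, hn, Category.id_comp]⟩
  -- the morphism of descent data
  let f : D ⟶ (toDD p).obj UW :=
    ⟨Over.homMk eW heW1, fun T x₀ x₁ h v w hw => by
      have hw' : w.1 = v.1 ≫ eW := hw
      change (canMap p UW x₀ x₁ h w).1 = (D.φ x₀ x₁ h v).1 ≫ eW
      rw [canMap_val]
      apply pullback.hom_ext
      · rw [pullback.lift_fst, Category.assoc, heW1]
        exact (D.φ x₀ x₁ h v).2.symm
      · rw [pullback.lift_snd, Category.assoc, heW2, hw', Category.assoc, heW2,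
          ← cancel_mono W.ι, Category.assoc, Category.assoc, hrW', hinvT]⟩
  exact ⟨UW, ⟨(isoOfIsIso f hiso).symm⟩⟩

end Groth.Agent.Lib.Seat58.DescQA
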