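import Groth.Prelude.Def_Desc
import Mathlib.AlgebraicGeometry.Sites.BigZariski

/-!
# The quotient presheaf of a descent datum (seat 58)

For a descent datum `D = (V, φ)` relative to `p : X ⟶ S`, the presheaf `F D` on schemes sends `T` to
the set of pairs `(t, v)` of a morphism `t : T ⟶ S` and a morphism `v : X ×_S T ⟶ V` over `X`
compatible with the descent data (that is, a morphism of descent data from the canonical descent datum
of `t` to `D`).  If `D` is effective, descended by `U`, this is the functor of points of `U`.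

* `El D T`: the elements, `El.pt`: the point of `V` attached to `a : T' ⟶ T`, `x : T' ⟶ X`;
* `El.ext`: extensionality through points;
* `F D`: the presheaf;
* `ofLift`, `El.toLift`: the "Yoneda lemma": elements of `F D T` over `x ≫ p` are the points of `V`
  over `x : T ⟶ X`.
-/

set_option autoImplicit false
set_option backward.isDefEq.respectTransparency false
set_option backward.isDefEq.respectTransparency.types false
universe u
open CategoryTheory CategoryTheory.Limits AlgebraicGeometry Desc Opposite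

namespace Groth.Agent.Lib.Seat58.DescQuot

variable {X S : Scheme.{u}} {p : X ⟶ S} (D : SchDD p)

/-- congruence for `φ` -/
lemma φ_congr {T : Scheme.{u}} {x₀ x₀' x₁ x₁' : T ⟶ X} (e₀ : x₀ = x₀') (e₁ : x₁ = x₁')
    (h : x₀ ≫ p = x₁ ≫ p) (h' : x₀' ≫ p = x₁' ≫ p) (v : Lifts D.obj x₀) (v' : Lifts D.obj x₀')
    (ev : v.1 = v'.1) : (D.φ x₀ x₁ h v).1 = (D.φ x₀' x₁' h' v').1 := by
  subst e₀ e₁
  have : v = v' := Subtype.ext ev
  subst this
  rfl

/-- naturality of `φ`, in convenient form -/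
lemma φ_nat {T T' : Scheme.{u}} (g : T' ⟶ T) (x₀ x₁ : T ⟶ X) (h : x₀ ≫ p = x₁ ≫ p)
    (y₀ y₁ : T' ⟶ X) (e₀ : g ≫ x₀ = y₀) (e₁ : g ≫ x₁ = y₁) (h' : y₀ ≫ p = y₁ ≫ p)
    (v : Lifts D.obj x₀) (v' : Lifts D.obj y₀) (ev : v'.1 = g ≫ v.1) :
    (D.φ y₀ y₁ h' v').1 = g ≫ (D.φ x₀ x₁ h v).1 := by
  subst e₀ e₁
  exact D.φ_natural g x₀ x₁ h h' v v' ev

/-- `φ x x = id`, up to a propositional equality of the two points of `X` -/
lemma φ_self' {T : Scheme.{u}} {x₀ x₁ : T ⟶ X} (e : x₀ = x₁) (h : x₀ ≫ p = x₁ ≫ p)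
    (v : Lifts D.obj x₀) : (D.φ x₀ x₁ h v).1 = v.1 := by
  subst e
  rw [D.φ_self]

/-- An element of the quotient presheaf over `T`: a morphism `t : T ⟶ S` and a morphism of descent
data from the canonical descent datum of `t` to `D`. -/
structure El (T : Scheme.{u}) where
  /-- the structure morphism -/
  t : T ⟶ S
  /-- the morphism `X ×_S T ⟶ V` -/
  v : pullback p t ⟶ D.obj.left
  hv : v ≫ D.obj.hom = pullback.fst p t
  comm : ∀ ⦃T' : Scheme.{u}⦄ (a : T' ⟶ T) (x₀ x₁ : T' ⟶ X) (h₀ : x₀ ≫ p = a ≫ t)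
    (h₁ : x₁ ≫ p = a ≫ t),
    (D.φ x₀ x₁ (h₀.trans h₁.symm) ⟨pullback.lift x₀ a h₀ ≫ v, by
      rw [Category.assoc, hv, pullback.lift_fst]⟩).1 = pullback.lift x₁ a h₁ ≫ v

variable {D}

namespace El

variable {T : Scheme.{u}} (e : El D T)

/-- the point of `V` over `x` attached to `a : T' ⟶ T` and `x : T' ⟶ X` -/
noncomputable def pt {T' : Scheme.{u}} (a : T' ⟶ T) (x : T' ⟶ X) (h : x ≫ p = a ≫ e.t) :
    Lifts D.obj x :=
  ⟨pullback.lift x a h ≫ e.v, by rw [Category.assoc, e.hv, pullback.lift_fst]⟩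

lemma pt_val {T' : Scheme.{u}} (a : T' ⟶ T) (x : T' ⟶ X) (h : x ≫ p = a ≫ e.t) :
    (e.pt a x h).1 = pullback.lift x a h ≫ e.v := rfl

lemma pt_φ {T' : Scheme.{u}} (a : T' ⟶ T) (x₀ x₁ : T' ⟶ X) (h₀ : x₀ ≫ p = a ≫ e.t)
    (h₁ : x₁ ≫ p = a ≫ e.t) (h : x₀ ≫ p = x₁ ≫ p) :
    D.φ x₀ x₁ h (e.pt a x₀ h₀) = e.pt a x₁ h₁ :=
  Subtype.ext (e.comm a x₀ x₁ h₀ h₁)

lemma pt_nat {T' T'' : Scheme.{u}} (c : T'' ⟶ T') (a : T' ⟶ T) (x : T' ⟶ X)
    (h : x ≫ p = a ≫ e.t) (a' : T'' ⟶ T) (x' : T'' ⟶ X) (ea : c ≫ a = a') (ex : c ≫ x = x')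
    (h' : x' ≫ p = a' ≫ e.t) : (e.pt a' x' h').1 = c ≫ (e.pt a x h).1 := by
  subst ea ex
  rw [pt_val, pt_val, ← Category.assoc]
  congr 1
  apply pullback.hom_ext <;> simp

lemma pt_congr {T' : Scheme.{u}} {a a' : T' ⟶ T} {x x' : T' ⟶ X} (ea : a = a') (ex : x = x')
    (h : x ≫ p = a ≫ e.t) (h' : x' ≫ p = a' ≫ e.t) : (e.pt a x h).1 = (e.pt a' x' h').1 := by
  subst ea ex; rfl

lemma v_eq_pt : e.v = (e.pt (pullback.snd p e.t) (pullback.fst p e.t) pullback.condition).1 := by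
  rw [pt_val]
  have : pullback.lift (pullback.fst p e.t) (pullback.snd p e.t) pullback.condition = 𝟙 _ := by
    apply pullback.hom_ext <;> simp
  rw [this, Category.id_comp]

/-- extensionality through points -/
lemma ext' {e e' : El D T} (ht : e.t = e'.t)
    (hpt : ∀ ⦃T' : Scheme.{u}⦄ (a : T' ⟶ T) (x : T' ⟶ X) (h : x ≫ p = a ≫ e.t)
      (h' : x ≫ p = a ≫ e'.t), (e.pt a x h).1 = (e'.pt a x h').1) : e = e' := by
  obtain ⟨t, v, hv, comm⟩ := e
  obtain ⟨t', v', hv', comm'⟩ := e'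
  dsimp only at ht
  subst ht
  have : v = v' := by
    have h1 := v_eq_pt ⟨t, v, hv, comm⟩
    have h2 := v_eq_pt ⟨t, v', hv', comm'⟩
    dsimp only at h1 h2
    rw [h1, h2]
    exact hpt _ _ _ _
  subst this
  rfl

/-- restriction along `c : T' ⟶ T` -/
noncomputable def map {T' : Scheme.{u}} (c : T' ⟶ T) : El D T' where
  t := c ≫ e.t
  v := (e.pt (pullback.snd p (c ≫ e.t) ≫ c) (pullback.fst p (c ≫ e.t)) (by
    rw [pullback.condition, Category.assoc])).1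
  hv := (e.pt _ _ _).2
  comm T'' a x₀ x₁ h₀ h₁ := by
    have h₀' : x₀ ≫ p = (a ≫ c) ≫ e.t := by rw [h₀, Category.assoc]
    have h₁' : x₁ ≫ p = (a ≫ c) ≫ e.t := by rw [h₁, Category.assoc]
    have e0 : pullback.lift x₀ a h₀ ≫ (e.pt (pullback.snd p (c ≫ e.t) ≫ c)
        (pullback.fst p (c ≫ e.t)) (by rw [pullback.condition, Category.assoc])).1 =
        (e.pt (a ≫ c) x₀ h₀').1 :=
      (e.pt_nat _ _ _ _ _ _ (by rw [pullback.lift_snd_assoc]) (pullback.lift_fst _ _ _) _).symm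
    have e1 : pullback.lift x₁ a h₁ ≫ (e.pt (pullback.snd p (c ≫ e.t) ≫ c)
        (pullback.fst p (c ≫ e.t)) (by rw [pullback.condition, Category.assoc])).1 =
        (e.pt (a ≫ c) x₁ h₁').1 :=
      (e.pt_nat _ _ _ _ _ _ (by rw [pullback.lift_snd_assoc]) (pullback.lift_fst _ _ _) _).symm
    rw [e1, ← e.pt_φ (a ≫ c) x₀ x₁ h₀' h₁' (h₀.trans h₁.symm)]
    exact φ_congr D rfl rfl _ _ _ _ e0

@[simp] lemma map_t {T' : Scheme.{u}} (c : T' ⟶ T) : (e.map c).t = c ≫ e.t := rfl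

lemma map_pt {T' T'' : Scheme.{u}} (c : T' ⟶ T) (a : T'' ⟶ T') (x : T'' ⟶ X)
    (h : x ≫ p = a ≫ (e.map c).t) (h' : x ≫ p = (a ≫ c) ≫ e.t) :
    ((e.map c).pt a x h).1 = (e.pt (a ≫ c) x h').1 :=
  (e.pt_nat _ _ _ _ _ _ (pullback.lift_snd_assoc _ _ _ _) (pullback.lift_fst _ _ _) _).symm

lemma map_id : e.map (𝟙 T) = e := by
  refine ext' (Category.id_comp _) (fun T' a x h h' => ?_)
  rw [map_pt e (𝟙 T) a x h (by rw [Category.comp_id]; exact h')]
  exact e.pt_congr (Category.comp_id _) rfl _ _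

lemma map_comp {T' T'' : Scheme.{u}} (c : T' ⟶ T) (c' : T'' ⟶ T') :
    e.map (c' ≫ c) = (e.map c).map c' := by
  refine ext' (Category.assoc _ _ _) (fun T' a x h h' => ?_)
  have h1 : x ≫ p = (a ≫ c' ≫ c) ≫ e.t := by rw [h]; simp
  have h2 : x ≫ p = (a ≫ c') ≫ (e.map c).t := by rw [h']; simp
  have h3 : x ≫ p = ((a ≫ c') ≫ c) ≫ e.t := by rw [h]; simp
  rw [map_pt e (c' ≫ c) a x h h1, map_pt (e.map c) c' a x h' h2, map_pt e c (a ≫ c') x h2 h3]
  exact e.pt_congr (Category.assoc _ _ _).symm rfl _ _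

end El

variable (D)

/-- the quotient presheaf -/
noncomputable def F : Scheme.{u}ᵒᵖ ⥤ Type u where
  obj T := El D T.unop
  map c := ↾fun e => e.map c.unop
  map_id T := by
    ext e
    exact e.map_id
  map_comp c c' := by
    ext e
    exact e.map_comp _ _

variable {D}

@[simp] lemma F_map {T T' : Scheme.{u}} (c : T' ⟶ T) (e : El D T) :
    (F D).map c.op e = e.map c := rfl

section Yoneda

variable {T : Scheme.{u}} (x : T ⟶ X)

lemma ofLift_aux (v : Lifts D.obj x) {T' : Scheme.{u}} (a : T' ⟶ T) (x' : T' ⟶ X)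
    (h : x' ≫ p = a ≫ x ≫ p) :
    pullback.lift x' a h ≫ (D.φ (pullback.snd p (x ≫ p) ≫ x) (pullback.fst p (x ≫ p))
      (by rw [pullback.condition, Category.assoc])
      ⟨pullback.snd _ _ ≫ v.1, by rw [Category.assoc, v.2]⟩).1 =
    (D.φ (a ≫ x) x' (by rw [h, Category.assoc]) ⟨a ≫ v.1, by rw [Category.assoc, v.2]⟩).1 :=
  (φ_nat D (pullback.lift x' a h) _ _ _ _ _ (by rw [pullback.lift_snd_assoc])
    (pullback.lift_fst _ _ _) _ _ _ (by rw [pullback.lift_snd_assoc])).symm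

/-- the element attached to a point of `V` -/
noncomputable def ofLift (v : Lifts D.obj x) : El D T where
  t := x ≫ p
  v := (D.φ (pullback.snd p (x ≫ p) ≫ x) (pullback.fst p (x ≫ p))
    (by rw [pullback.condition, Category.assoc])
    ⟨pullback.snd _ _ ≫ v.1, by rw [Category.assoc, v.2]⟩).1
  hv := (D.φ _ _ _ _).2
  comm T' a x₀ x₁ h₀ h₁ := by
    rw [ofLift_aux x v a x₁ h₁]
    have h := D.φ_comp (a ≫ x) x₀ x₁ (by rw [h₀, Category.assoc]) (h₀.trans h₁.symm)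
      ⟨a ≫ v.1, by rw [Category.assoc, v.2]⟩
    rw [← h]
    exact φ_congr D rfl rfl _ _ _ _ (ofLift_aux x v a x₀ h₀)

@[simp] lemma ofLift_t (v : Lifts D.obj x) : (ofLift x v).t = x ≫ p := rfl

lemma ofLift_pt (v : Lifts D.obj x) {T' : Scheme.{u}} (a : T' ⟶ T) (x' : T' ⟶ X)
    (h : x' ≫ p = a ≫ (ofLift x v).t) :
    ((ofLift x v).pt a x' h).1 =
      (D.φ (a ≫ x) x' (by rw [h, ofLift_t, Category.assoc]) ⟨a ≫ v.1, by
        rw [Category.assoc, v.2]⟩).1 :=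
  ofLift_aux x v a x' h

/-- the point of `V` over `x` attached to an element over `x ≫ p` -/
noncomputable def El.toLift (e : El D T) (h : x ≫ p = e.t) : Lifts D.obj x :=
  e.pt (𝟙 T) x (by rw [Category.id_comp, h])

lemma toLift_ofLift (v : Lifts D.obj x) : (ofLift x v).toLift x rfl = v := by
  apply Subtype.ext
  rw [El.toLift, ofLift_pt]
  rw [φ_self' D (Category.id_comp x)]
  exact Category.id_comp _

lemma ofLift_toLift (e : El D T) (h : x ≫ p = e.t) : ofLift x (e.toLift x h) = e := by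
  refine El.ext' h (fun T' a x' h1 h2 => ?_)
  rw [ofLift_pt]
  have h3 : (a ≫ x) ≫ p = a ≫ e.t := by rw [Category.assoc, h]
  rw [← e.pt_φ a (a ≫ x) x' h3 h2 (by rw [h3, h2])]
  refine φ_congr D rfl rfl _ _ _ _ ?_
  exact (e.pt_nat a (𝟙 T) x _ a (a ≫ x) (Category.comp_id _) rfl h3).symm

lemma ofLift_map (v : Lifts D.obj x) {T' : Scheme.{u}} (c : T' ⟶ T) :
    (ofLift x v).map c = ofLift (c ≫ x) ⟨c ≫ v.1, by rw [Category.assoc, v.2]⟩ := by
  refine El.ext' (by simp) (fun T'' a x' h1 h2 => ?_)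
  rw [El.map_pt _ c a x' h1 (by rw [h1]; simp), ofLift_pt, ofLift_pt]
  exact φ_congr D (Category.assoc _ _ _) rfl _ _ _ _ (Category.assoc _ _ _)

end Yoneda

end Groth.Agent.Lib.Seat58.DescQuot
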