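import Groth.Agent.Lib.Seat58DescAffine
import Groth.Agent.Lib.Seat58DescQuot
import Mathlib.AlgebraicGeometry.Morphisms.Flat

/-!
# The ring-level descent datum of a descent datum with quasi-compact quasi-separated scheme (seat 58)

`p : X ⟶ S` a flat morphism of affine schemes, `D : Desc.SchDD p` a descent datum whose scheme `V` is
quasi-compact and quasi-separated.  By flat base change of global sections (Mathlib),
`Γ(V ×_S X) = Γ(V) ⊗_{Γ(S)} Γ(X)`, so the "action map" `θ : V ×_S X ⟶ V` of `D` induces a ring-level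
descent datum (`DescAlg.RDD'`) on `Γ(V)` (`rddQ`).
-/

set_option autoImplicit false
set_option linter.unusedSectionVars false
set_option backward.isDefEq.respectTransparency false
set_option backward.isDefEq.respectTransparency.types false
universe u
open CategoryTheory CategoryTheory.Limits AlgebraicGeometry Desc

namespace Groth.Agent.Lib.Seat58.DescQA

open Groth.Agent.Lib.Seat58.DescQuot

/-- flat base change of global sections -/
lemma isPushout_appTop {V X S : Scheme.{u}} (q : V ⟶ S) (p : X ⟶ S) [IsAffine X] [IsAffine S] [Flat p]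
    [CompactSpace V] [QuasiSeparatedSpace V] :
    IsPushout q.appTop p.appTop (pullback.fst q p).appTop (pullback.snd q p).appTop := by
  have H : IsPullback (pullback.fst q p) (pullback.snd q p) q p := IsPullback.of_hasPullback q p
  have h1 := isIso_pushoutSection_of_isQuasiSeparated_of_flat_right H (US := ⊤) (UT := ⊤) (UX := ⊤)
    (UY := ⊤) le_top le_top (by simp) (isAffineOpen_top S) (isAffineOpen_top X)
    CompactSpace.isCompact_univ (isQuasiSeparated_univ)
  have h2 := (isIso_pushoutSection_iff H (US := ⊤) (UT := ⊤) (UX := ⊤) (UY := ⊤) le_top le_top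
    (by simp)).mp h1
  simpa [Scheme.Hom.appLE] using h2

section General

variable {X S : Scheme.{u}} {p : X ⟶ S} (D : SchDD p)

/-- the structure morphism to the base -/
abbrev q : D.obj.left ⟶ S := D.obj.hom ≫ p

/-- `V ×_S X` -/
noncomputable abbrev P : Scheme.{u} := pullback (q D) p

lemma cond : (pullback.fst (q D) p ≫ D.obj.hom) ≫ p = pullback.snd (q D) p ≫ p := by
  rw [Category.assoc]; exact pullback.condition

/-- the action map `V ×_S X ⟶ V` -/
noncomputable def θ : P D ⟶ D.obj.left :=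
  (D.φ (pullback.fst (q D) p ≫ D.obj.hom) (pullback.snd (q D) p) (cond D) ⟨pullback.fst _ _, rfl⟩).1

lemma θ_hom : θ D ≫ D.obj.hom = pullback.snd (q D) p :=
  (D.φ (pullback.fst (q D) p ≫ D.obj.hom) (pullback.snd (q D) p) (cond D) ⟨pullback.fst _ _, rfl⟩).2

/-- the action map computes all the gluing bijections -/
lemma lift_θ {T : Scheme.{u}} (x₀ x₁ : T ⟶ X) (h : x₀ ≫ p = x₁ ≫ p) (v : Lifts D.obj x₀) :
    pullback.lift v.1 x₁ (by
      change v.1 ≫ D.obj.hom ≫ p = _
      rw [← Category.assoc, v.2, h]) ≫ θ D = (D.φ x₀ x₁ h v).1 := by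
  refine (φ_nat D _ _ _ (cond D) x₀ x₁ ?_ (pullback.lift_snd _ _ _) h ⟨pullback.fst _ _, rfl⟩ v
    (pullback.lift_fst _ _ _).symm).symm
  rw [pullback.lift_fst_assoc, v.2]

/-- `V ×_S X ×_S X` -/
noncomputable abbrev P₂ : Scheme.{u} := pullback (pullback.fst (q D) p ≫ q D) p

/-- the diagonal `V ⟶ V ×_S X` -/
noncomputable def δ : D.obj.left ⟶ P D := pullback.lift (𝟙 _) D.obj.hom (by simp [q])

@[reassoc (attr := simp)] lemma δ_fst : δ D ≫ pullback.fst (q D) p = 𝟙 _ := pullback.lift_fst _ _ _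
@[reassoc (attr := simp)] lemma δ_snd : δ D ≫ pullback.snd (q D) p = D.obj.hom :=
  pullback.lift_snd _ _ _

lemma δ_θ : δ D ≫ θ D = 𝟙 _ := by
  have h := lift_θ D D.obj.hom D.obj.hom rfl ⟨𝟙 _, Category.id_comp _⟩
  rw [D.φ_self] at h
  exact h

lemma θ_q : θ D ≫ q D = pullback.snd (q D) p ≫ p := by
  change θ D ≫ D.obj.hom ≫ p = _
  rw [← Category.assoc, θ_hom]

/-- `(v, x₁, x₂) ↦ (θ(v, x₁), x₂)` -/
noncomputable def θ₁₂ : P₂ D ⟶ P D :=
  pullback.lift (pullback.fst _ _ ≫ θ D) (pullback.snd _ _) (by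
    rw [Category.assoc, θ_q, ← pullback.condition (f := q D) (g := p), pullback.condition])

/-- `(v, x₁, x₂) ↦ (v, x₂)` -/
noncomputable def pr₁₃ : P₂ D ⟶ P D :=
  pullback.lift (pullback.fst _ _ ≫ pullback.fst _ _) (pullback.snd _ _) (by
    rw [Category.assoc, pullback.condition])

@[reassoc] lemma θ₁₂_fst : θ₁₂ D ≫ pullback.fst (q D) p = pullback.fst _ _ ≫ θ D :=
  pullback.lift_fst _ _ _
@[reassoc] lemma θ₁₂_snd : θ₁₂ D ≫ pullback.snd (q D) p = pullback.snd _ _ :=
  pullback.lift_snd _ _ _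
@[reassoc] lemma pr₁₃_fst : pr₁₃ D ≫ pullback.fst (q D) p = pullback.fst _ _ ≫ pullback.fst _ _ :=
  pullback.lift_fst _ _ _
@[reassoc] lemma pr₁₃_snd : pr₁₃ D ≫ pullback.snd (q D) p = pullback.snd _ _ :=
  pullback.lift_snd _ _ _

/-- the cocycle condition for the action map -/
lemma cocycle : θ₁₂ D ≫ θ D = pr₁₃ D ≫ θ D := by
  let f₂ := pullback.fst (pullback.fst (q D) p ≫ q D) p
  let s₂ := pullback.snd (pullback.fst (q D) p ≫ q D) p
  let x₀ : P₂ D ⟶ X := f₂ ≫ pullback.fst (q D) p ≫ D.obj.hom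
  let x₁ : P₂ D ⟶ X := f₂ ≫ pullback.snd (q D) p
  have h₀₁ : x₀ ≫ p = x₁ ≫ p := by
    dsimp only [x₀, x₁]
    simp only [Category.assoc]
    exact congrArg (f₂ ≫ ·) (pullback.condition (f := q D) (g := p))
  have h₁₂ : x₁ ≫ p = s₂ ≫ p := by
    dsimp only [x₁]
    rw [Category.assoc, ← pullback.condition (f := q D) (g := p)]
    exact pullback.condition
  let v : Lifts D.obj x₀ := ⟨f₂ ≫ pullback.fst (q D) p, by simp only [x₀, Category.assoc]⟩
  have e1 : (D.φ x₀ x₁ h₀₁ v).1 = f₂ ≫ θ D :=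
    φ_nat D f₂ _ _ (cond D) x₀ x₁ (by simp only [x₀, Category.assoc]) rfl h₀₁ _ v rfl
  have e2 : (D.φ x₁ s₂ h₁₂ ⟨f₂ ≫ θ D, by rw [Category.assoc, θ_hom]⟩).1 = θ₁₂ D ≫ θ D :=
    φ_nat D (θ₁₂ D) _ _ (cond D) x₁ s₂ (by rw [θ₁₂_fst_assoc, θ_hom]) (θ₁₂_snd D) h₁₂ _ _
      (θ₁₂_fst D).symm
  have e3 : (D.φ x₀ s₂ (h₀₁.trans h₁₂) v).1 = pr₁₃ D ≫ θ D :=
    φ_nat D (pr₁₃ D) _ _ (cond D) x₀ s₂ (by rw [pr₁₃_fst_assoc])
      (pr₁₃_snd D) _ _ v (pr₁₃_fst D).symm
  rw [← e2, ← e3, ← D.φ_comp x₀ x₁ s₂ h₀₁ h₁₂ v]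
  exact φ_congr D rfl rfl _ _ _ _ e1.symm

end General

section QCQS

variable {X S : Scheme.{u}} {p : X ⟶ S} [IsAffine X] [IsAffine S] [Flat p] (D : SchDD p)
  [CompactSpace D.obj.left] [QuasiSeparatedSpace D.obj.left]

instance : IsAffineHom (pullback.fst (q D) p) :=
  MorphismProperty.pullback_fst (P := @IsAffineHom) _ _ (isAffineHom_of_isAffine p)

instance : CompactSpace (P D) := QuasiCompact.compactSpace_of_compactSpace (pullback.fst (q D) p)

instance : QuasiSeparatedSpace (P D) := quasiSeparatedSpace_of_quasiSeparated (pullback.fst (q D) p)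

lemma hpo : IsPushout (q D).appTop p.appTop (pullback.fst (q D) p).appTop
    (pullback.snd (q D) p).appTop := isPushout_appTop (q D) p

lemma hpo₂ : IsPushout (pullback.fst (q D) p ≫ q D).appTop p.appTop
    (pullback.fst (pullback.fst (q D) p ≫ q D) p).appTop
    (pullback.snd (pullback.fst (q D) p ≫ q D) p).appTop :=
  isPushout_appTop (pullback.fst (q D) p ≫ q D) p

end QCQS

end Groth.Agent.Lib.Seat58.DescQA
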