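import Groth.Agent.Lib.Seat58DescQA1

/-!
# The ring-level descent datum of a descent datum with qcqs scheme, continued (seat 58)
-/

set_option autoImplicit false
set_option linter.unusedSectionVars false
set_option backward.isDefEq.respectTransparency false
set_option backward.isDefEq.respectTransparency.types false
universe u
open CategoryTheory CategoryTheory.Limits AlgebraicGeometry Desc

namespace Groth.Agent.Lib.Seat58.DescQA

open Groth.Agent.Lib.Seat58.DescQuot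

variable {X S : Scheme.{u}} {p : X ⟶ S} [IsAffine X] [IsAffine S] [Flat p] (D : SchDD p)
  [CompactSpace D.obj.left] [QuasiSeparatedSpace D.obj.left]

lemma desc_cond {R : CommRingCat.{u}} (c : Γ(D.obj.left, ⊤) ⟶ R) (a₀ a₁ : Γ(X, ⊤) ⟶ R)
    (hc : D.obj.hom.appTop ≫ c = a₀) (h : p.appTop ≫ a₀ = p.appTop ≫ a₁) :
    (q D).appTop ≫ c = p.appTop ≫ a₁ := by
  rw [← h, ← hc, Scheme.Hom.comp_appTop, Category.assoc]

/-- the map `Γ(V ×_S X) ⟶ R` attached to `c : Γ(V) ⟶ R` and `a₁ : Γ(X) ⟶ R` -/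
noncomputable def dsc {R : CommRingCat.{u}} (c : Γ(D.obj.left, ⊤) ⟶ R) (a₁ : Γ(X, ⊤) ⟶ R)
    (h : (q D).appTop ≫ c = p.appTop ≫ a₁) : Γ(P D, ⊤) ⟶ R :=
  (hpo D).desc c a₁ h

@[reassoc (attr := simp)] lemma fst_dsc {R : CommRingCat.{u}} (c : Γ(D.obj.left, ⊤) ⟶ R)
    (a₁ : Γ(X, ⊤) ⟶ R) (h : (q D).appTop ≫ c = p.appTop ≫ a₁) :
    (pullback.fst (q D) p).appTop ≫ dsc D c a₁ h = c := (hpo D).inl_desc _ _ _

@[reassoc (attr := simp)] lemma snd_dsc {R : CommRingCat.{u}} (c : Γ(D.obj.left, ⊤) ⟶ R)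
    (a₁ : Γ(X, ⊤) ⟶ R) (h : (q D).appTop ≫ c = p.appTop ≫ a₁) :
    (pullback.snd (q D) p).appTop ≫ dsc D c a₁ h = a₁ := (hpo D).inr_desc _ _ _

lemma dsc_ext {R : CommRingCat.{u}} {d d' : Γ(P D, ⊤) ⟶ R}
    (h1 : (pullback.fst (q D) p).appTop ≫ d = (pullback.fst (q D) p).appTop ≫ d')
    (h2 : (pullback.snd (q D) p).appTop ≫ d = (pullback.snd (q D) p).appTop ≫ d') : d = d' :=
  (hpo D).hom_ext h1 h2

/-- the transport of ring-valued points -/
noncomputable def Φc {R : CommRingCat.{u}} (c : Γ(D.obj.left, ⊤) ⟶ R) (a₁ : Γ(X, ⊤) ⟶ R)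
    (h : (q D).appTop ≫ c = p.appTop ≫ a₁) : Γ(D.obj.left, ⊤) ⟶ R :=
  (θ D).appTop ≫ dsc D c a₁ h

lemma hom_Φc {R : CommRingCat.{u}} (c : Γ(D.obj.left, ⊤) ⟶ R) (a₁ : Γ(X, ⊤) ⟶ R)
    (h : (q D).appTop ≫ c = p.appTop ≫ a₁) : D.obj.hom.appTop ≫ Φc D c a₁ h = a₁ := by
  rw [Φc, ← Category.assoc, ← Scheme.Hom.comp_appTop, θ_hom, snd_dsc]

lemma Φc_comp {R R' : CommRingCat.{u}} (g : R ⟶ R') (c : Γ(D.obj.left, ⊤) ⟶ R) (a₁ : Γ(X, ⊤) ⟶ R)
    (h : (q D).appTop ≫ c = p.appTop ≫ a₁) (h' : (q D).appTop ≫ c ≫ g = p.appTop ≫ a₁ ≫ g) :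
    Φc D (c ≫ g) (a₁ ≫ g) h' = Φc D c a₁ h ≫ g := by
  rw [Φc, Φc, Category.assoc]
  congr 1
  apply dsc_ext D
  · rw [fst_dsc, fst_dsc_assoc]
  · rw [snd_dsc, snd_dsc_assoc]

lemma Φc_self {R : CommRingCat.{u}} (c : Γ(D.obj.left, ⊤) ⟶ R)
    (h : (q D).appTop ≫ c = p.appTop ≫ D.obj.hom.appTop ≫ c) :
    Φc D c (D.obj.hom.appTop ≫ c) h = c := by
  have e : dsc D c (D.obj.hom.appTop ≫ c) h = (δ D).appTop ≫ c := by
    apply dsc_ext D
    · rw [fst_dsc, ← Category.assoc, ← Scheme.Hom.comp_appTop, δ_fst]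
      simp
    · rw [snd_dsc, ← Category.assoc, ← Scheme.Hom.comp_appTop, δ_snd]
  rw [Φc, e, ← Category.assoc, ← Scheme.Hom.comp_appTop, δ_θ]
  simp

lemma Φc_comp_Φc {R : CommRingCat.{u}} (c : Γ(D.obj.left, ⊤) ⟶ R) (a₁ a₂ : Γ(X, ⊤) ⟶ R)
    (h₁ : (q D).appTop ≫ c = p.appTop ≫ a₁) (h₂ : (q D).appTop ≫ c = p.appTop ≫ a₂)
    (h₁₂ : (q D).appTop ≫ Φc D c a₁ h₁ = p.appTop ≫ a₂) :
    Φc D (Φc D c a₁ h₁) a₂ h₁₂ = Φc D c a₂ h₂ := by
  -- the map out of the sections of the triple product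
  have hE : (pullback.fst (q D) p ≫ q D).appTop ≫ dsc D c a₁ h₁ = p.appTop ≫ a₂ := by
    rw [Scheme.Hom.comp_appTop, Category.assoc, fst_dsc, h₂]
  let E : Γ(P₂ D, ⊤) ⟶ R := (hpo₂ D).desc (dsc D c a₁ h₁) a₂ hE
  have hE1 : (pullback.fst (pullback.fst (q D) p ≫ q D) p).appTop ≫ E = dsc D c a₁ h₁ :=
    (hpo₂ D).inl_desc _ _ _
  have hE2 : (pullback.snd (pullback.fst (q D) p ≫ q D) p).appTop ≫ E = a₂ :=
    (hpo₂ D).inr_desc _ _ _
  have eA : dsc D (Φc D c a₁ h₁) a₂ h₁₂ = (θ₁₂ D).appTop ≫ E := by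
    apply dsc_ext D
    · rw [fst_dsc, ← Category.assoc, ← Scheme.Hom.comp_appTop, θ₁₂_fst, Scheme.Hom.comp_appTop,
        Category.assoc, hE1, Φc]
    · rw [snd_dsc, ← Category.assoc, ← Scheme.Hom.comp_appTop, θ₁₂_snd, hE2]
  have eB : dsc D c a₂ h₂ = (pr₁₃ D).appTop ≫ E := by
    apply dsc_ext D
    · rw [fst_dsc, ← Category.assoc, ← Scheme.Hom.comp_appTop, pr₁₃_fst, Scheme.Hom.comp_appTop,
        Category.assoc, hE1, fst_dsc]
    · rw [snd_dsc, ← Category.assoc, ← Scheme.Hom.comp_appTop, pr₁₃_snd, hE2]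
  rw [Φc, eA, Φc, eB, ← Category.assoc, ← Scheme.Hom.comp_appTop, cocycle, Scheme.Hom.comp_appTop,
    Category.assoc]

/-- on actual points of `V`, the ring-level transport is the gluing bijection -/
lemma Φc_appTop {T : Scheme.{u}} (x₀ x₁ : T ⟶ X) (h : x₀ ≫ p = x₁ ≫ p) (v : Lifts D.obj x₀)
    (hh : (q D).appTop ≫ v.1.appTop = p.appTop ≫ x₁.appTop) :
    Φc D v.1.appTop x₁.appTop hh = (D.φ x₀ x₁ h v).1.appTop := by
  rw [← lift_θ D x₀ x₁ h v, Scheme.Hom.comp_appTop, Φc]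
  congr 1
  apply dsc_ext D
  · rw [fst_dsc, ← Scheme.Hom.comp_appTop, pullback.lift_fst]
  · rw [snd_dsc, ← Scheme.Hom.comp_appTop, pullback.lift_snd]

section RDD

open DescAlg

lemma cond_of {R : Type u} [CommRing R] (a₀ a₁ : Γ(X, ⊤) →+* R)
    (h : a₀.comp p.appTop.hom = a₁.comp p.appTop.hom) (c : L' D.obj.hom.appTop.hom R a₀) :
    (q D).appTop ≫ CommRingCat.ofHom c.1 = p.appTop ≫ CommRingCat.ofHom a₁ := by
  rw [Scheme.Hom.comp_appTop, Category.assoc]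
  ext x
  have h1 : c.1 (D.obj.hom.appTop.hom (p.appTop.hom x)) = a₀ (p.appTop.hom x) :=
    congrArg (fun f => f (p.appTop.hom x)) c.2
  have h2 : a₀ (p.appTop.hom x) = a₁ (p.appTop.hom x) := congrArg (fun f => f x) h
  exact h1.trans h2

/-- **the ring-level descent datum of a descent datum with quasi-compact quasi-separated scheme** -/
noncomputable def rddQ : RDD' p.appTop.hom D.obj.hom.appTop.hom where
  Φ {R} _ a₀ a₁ h c := ⟨(Φc D (CommRingCat.ofHom c.1) (CommRingCat.ofHom a₁) (cond_of D a₀ a₁ h c)).hom, by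
    have := hom_Φc D (CommRingCat.ofHom c.1) (CommRingCat.ofHom a₁) (cond_of D a₀ a₁ h c)
    ext x
    exact congrArg (fun f => f.hom x) this⟩
  nat {R R'} _ _ g a₀ a₁ h c := by
    have := Φc_comp D (CommRingCat.ofHom g) (CommRingCat.ofHom c.1) (CommRingCat.ofHom a₁)
      (cond_of D a₀ a₁ h c) (by
        rw [← Category.assoc, cond_of D a₀ a₁ h c, Category.assoc])
    ext x
    exact congrArg (fun f => f.hom x) this
  self {R} _ a c := by
    apply Subtype.ext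
    have h0 : CommRingCat.ofHom a = D.obj.hom.appTop ≫ CommRingCat.ofHom c.1 := by
      ext x
      exact (congrArg (fun f => f x) c.2).symm
    have := Φc_self D (CommRingCat.ofHom c.1) (by
      rw [← h0]; exact cond_of D a a rfl c)
    ext x
    change (Φc D (CommRingCat.ofHom c.1) (CommRingCat.ofHom a) _).hom x = c.1 x
    have e : Φc D (CommRingCat.ofHom c.1) (CommRingCat.ofHom a) (cond_of D a a rfl c) =
        CommRingCat.ofHom c.1 := by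
      convert this using 2
    exact congrArg (fun f => f.hom x) e
  comp {R} _ a₀ a₁ a₂ h₀₁ h₁₂ c := by
    apply Subtype.ext
    have := Φc_comp_Φc D (CommRingCat.ofHom c.1) (CommRingCat.ofHom a₁) (CommRingCat.ofHom a₂)
      (cond_of D a₀ a₁ h₀₁ c) (cond_of D a₀ a₂ (h₀₁.trans h₁₂) c)
      (cond_of D a₁ a₂ h₁₂ ⟨(Φc D (CommRingCat.ofHom c.1) (CommRingCat.ofHom a₁)
        (cond_of D a₀ a₁ h₀₁ c)).hom, by
          have := hom_Φc D (CommRingCat.ofHom c.1) (CommRingCat.ofHom a₁) (cond_of D a₀ a₁ h₀₁ c)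
          ext x
          exact congrArg (fun f => f.hom x) this⟩)
    ext x
    exact congrArg (fun f => f.hom x) this

end RDD

end Groth.Agent.Lib.Seat58.DescQA
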