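import Groth.Agent.Lib.Seat58DescQuot
import Mathlib.AlgebraicGeometry.Gluing

/-!
# The quotient presheaf of a descent datum is a Zariski sheaf (seat 58)
-/

set_option autoImplicit false
set_option backward.isDefEq.respectTransparency false
set_option backward.isDefEq.respectTransparency.types false
universe w u
open CategoryTheory CategoryTheory.Limits AlgebraicGeometry Desc Opposite

namespace Groth.Agent.Lib.Seat58.DescQuot

variable {X S : Scheme.{u}} {p : X ⟶ S} {D : SchDD p}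

lemma El.pt_eq_of_eq {T : Scheme.{u}} {e e' : El D T} (he : e = e') {T' : Scheme.{u}} (a : T' ⟶ T)
    (x : T' ⟶ X) (h : x ≫ p = a ≫ e.t) (h' : x ≫ p = a ≫ e'.t) :
    (e.pt a x h).1 = (e'.pt a x h').1 := by
  subst he; rfl

section Glue

variable {T : Scheme.{u}} (𝓤 : Scheme.OpenCover.{w} T) (ea : ∀ j, El D (𝓤.X j))
  (hcompat : ∀ i j, (ea i).map (pullback.fst (𝓤.f i) (𝓤.f j)) = (ea j).map (pullback.snd _ _))

include hcompat in
lemma glue_t_compat (i j : 𝓤.I₀) :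
    pullback.fst (𝓤.f i) (𝓤.f j) ≫ (ea i).t = pullback.snd (𝓤.f i) (𝓤.f j) ≫ (ea j).t :=
  congrArg El.t (hcompat i j)

/-- the glued structure morphism -/
noncomputable def glueT : T ⟶ S :=
  𝓤.glueMorphisms (fun j => (ea j).t) (glue_t_compat 𝓤 ea hcompat)

lemma ι_glueT (j : 𝓤.I₀) : 𝓤.f j ≫ glueT 𝓤 ea hcompat = (ea j).t :=
  𝓤.ι_glueMorphisms _ _ j

/-- the cover of `X ×_S T` -/
noncomputable abbrev cov : Scheme.OpenCover.{w} (pullback p (glueT 𝓤 ea hcompat)) :=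
  𝓤.pullback₁ (pullback.snd p (glueT 𝓤 ea hcompat))

lemma vj_cond (j : 𝓤.I₀) :
    (pullback.fst (pullback.snd p (glueT 𝓤 ea hcompat)) (𝓤.f j) ≫
      pullback.fst p (glueT 𝓤 ea hcompat)) ≫ p =
    pullback.snd (pullback.snd p (glueT 𝓤 ea hcompat)) (𝓤.f j) ≫ (ea j).t := by
  rw [Category.assoc, pullback.condition, pullback.condition_assoc, ι_glueT]

/-- the local pieces of the glued morphism -/
noncomputable def vj (j : 𝓤.I₀) :
    pullback (pullback.snd p (glueT 𝓤 ea hcompat)) (𝓤.f j) ⟶ D.obj.left :=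
  ((ea j).pt (pullback.snd _ _) (pullback.fst _ _ ≫ pullback.fst p _) (vj_cond 𝓤 ea hcompat j)).1

lemma vj_compat (i j : 𝓤.I₀) :
    pullback.fst ((cov 𝓤 ea hcompat).f i) ((cov 𝓤 ea hcompat).f j) ≫ vj 𝓤 ea hcompat i =
      pullback.snd ((cov 𝓤 ea hcompat).f i) ((cov 𝓤 ea hcompat).f j) ≫ vj 𝓤 ea hcompat j := by
  set q₁ := pullback.fst ((cov 𝓤 ea hcompat).f i) ((cov 𝓤 ea hcompat).f j) with hq₁
  set q₂ := pullback.snd ((cov 𝓤 ea hcompat).f i) ((cov 𝓤 ea hcompat).f j) with hq₂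
  have hq : q₁ ≫ pullback.fst (pullback.snd p (glueT 𝓤 ea hcompat)) (𝓤.f i) =
      q₂ ≫ pullback.fst (pullback.snd p (glueT 𝓤 ea hcompat)) (𝓤.f j) := pullback.condition
  -- the map to the overlap
  have hr : (q₁ ≫ pullback.snd _ _) ≫ 𝓤.f i = (q₂ ≫ pullback.snd _ _) ≫ 𝓤.f j := by
    rw [Category.assoc, ← pullback.condition, Category.assoc, ← pullback.condition,
      ← Category.assoc, ← Category.assoc, hq]
  let r := pullback.lift (f := 𝓤.f i) (g := 𝓤.f j) (q₁ ≫ pullback.snd _ _) (q₂ ≫ pullback.snd _ _) hr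
  let xQ := q₁ ≫ pullback.fst (pullback.snd p (glueT 𝓤 ea hcompat)) (𝓤.f i) ≫ pullback.fst p _
  have hxQ : xQ = q₂ ≫ pullback.fst (pullback.snd p (glueT 𝓤 ea hcompat)) (𝓤.f j) ≫
      pullback.fst p _ := by
    dsimp only [xQ]; rw [← Category.assoc, hq, Category.assoc]
  have h1 : xQ ≫ p = (q₁ ≫ pullback.snd _ _) ≫ (ea i).t := by
    dsimp only [xQ]
    rw [Category.assoc, Category.assoc, Category.assoc]
    have := vj_cond 𝓤 ea hcompat i
    rw [Category.assoc] at this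
    rw [this]
  have h2 : xQ ≫ p = (q₂ ≫ pullback.snd _ _) ≫ (ea j).t := by
    rw [hxQ, Category.assoc, Category.assoc, Category.assoc]
    have := vj_cond 𝓤 ea hcompat j
    rw [Category.assoc] at this
    rw [this]
  have e1 : q₁ ≫ vj 𝓤 ea hcompat i = ((ea i).pt (q₁ ≫ pullback.snd _ _) xQ h1).1 :=
    ((ea i).pt_nat q₁ _ _ _ _ _ rfl rfl h1).symm
  have e2 : q₂ ≫ vj 𝓤 ea hcompat j = ((ea j).pt (q₂ ≫ pullback.snd _ _) xQ h2).1 :=
    ((ea j).pt_nat q₂ _ _ _ _ _ rfl hxQ.symm h2).symm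
  rw [e1, e2]
  have hr1 : r ≫ pullback.fst (𝓤.f i) (𝓤.f j) = q₁ ≫ pullback.snd _ _ := pullback.lift_fst _ _ _
  have hr2 : r ≫ pullback.snd (𝓤.f i) (𝓤.f j) = q₂ ≫ pullback.snd _ _ := pullback.lift_snd _ _ _
  have h1' : xQ ≫ p = (r ≫ pullback.fst (𝓤.f i) (𝓤.f j)) ≫ (ea i).t := by rw [hr1]; exact h1
  have h2' : xQ ≫ p = (r ≫ pullback.snd (𝓤.f i) (𝓤.f j)) ≫ (ea j).t := by rw [hr2]; exact h2
  rw [(ea i).pt_congr hr1.symm rfl h1 h1', (ea j).pt_congr hr2.symm rfl h2 h2',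
    ← El.map_pt (ea i) _ r xQ (by rw [h1', El.map_t, Category.assoc]) h1',
    ← El.map_pt (ea j) _ r xQ (by rw [h2', El.map_t, Category.assoc]) h2']
  exact El.pt_eq_of_eq (hcompat i j) _ _ _ _

/-- the glued morphism -/
noncomputable def glueV : pullback p (glueT 𝓤 ea hcompat) ⟶ D.obj.left :=
  (cov 𝓤 ea hcompat).glueMorphisms (vj 𝓤 ea hcompat) (vj_compat 𝓤 ea hcompat)

lemma ι_glueV (j : 𝓤.I₀) :
    pullback.fst (pullback.snd p (glueT 𝓤 ea hcompat)) (𝓤.f j) ≫ glueV 𝓤 ea hcompat =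
      vj 𝓤 ea hcompat j :=
  (cov 𝓤 ea hcompat).ι_glueMorphisms _ _ j

lemma glueV_hom : glueV 𝓤 ea hcompat ≫ D.obj.hom = pullback.fst p (glueT 𝓤 ea hcompat) := by
  apply (cov 𝓤 ea hcompat).hom_ext
  intro j
  change pullback.fst _ _ ≫ _ = pullback.fst _ _ ≫ _
  rw [← Category.assoc, ι_glueV]
  exact ((ea j).pt _ _ _).2

/-- the glued morphism on points -/
lemma glue_pt {T' T'' : Scheme.{u}} (a : T' ⟶ T) (x : T' ⟶ X)
    (h : x ≫ p = a ≫ glueT 𝓤 ea hcompat) (j : 𝓤.I₀) (c : T'' ⟶ T') (b : T'' ⟶ 𝓤.X j)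
    (hcb : c ≫ a = b ≫ 𝓤.f j) (h' : (c ≫ x) ≫ p = b ≫ (ea j).t) :
    c ≫ pullback.lift x a h ≫ glueV 𝓤 ea hcompat = ((ea j).pt b (c ≫ x) h').1 := by
  have hl : (c ≫ pullback.lift x a h) ≫ pullback.snd p (glueT 𝓤 ea hcompat) = b ≫ 𝓤.f j := by
    rw [Category.assoc, pullback.lift_snd, hcb]
  have e1 : c ≫ pullback.lift x a h = pullback.lift (c ≫ pullback.lift x a h) b hl ≫
      pullback.fst (pullback.snd p (glueT 𝓤 ea hcompat)) (𝓤.f j) := (pullback.lift_fst _ _ _).symm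
  rw [← Category.assoc, e1, Category.assoc, ι_glueV]
  refine ((ea j).pt_nat _ _ _ _ _ _ (pullback.lift_snd _ _ _) ?_ h').symm
  rw [pullback.lift_fst_assoc, Category.assoc, pullback.lift_fst]

/-- the glued element -/
noncomputable def glueEl : El D T where
  t := glueT 𝓤 ea hcompat
  v := glueV 𝓤 ea hcompat
  hv := glueV_hom 𝓤 ea hcompat
  comm T' a x₀ x₁ h₀ h₁ := by
    refine Scheme.Cover.hom_ext (𝓤.pullback₁ a) _ _ (fun (j : 𝓤.I₀) => ?_)
    change pullback.fst a (𝓤.f j) ≫ _ = pullback.fst a (𝓤.f j) ≫ _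
    have hc : pullback.fst a (𝓤.f j) ≫ a = pullback.snd a (𝓤.f j) ≫ 𝓤.f j := pullback.condition
    have h₀' : (pullback.fst a (𝓤.f j) ≫ x₀) ≫ p = pullback.snd a (𝓤.f j) ≫ (ea j).t := by
      rw [Category.assoc, h₀, ← Category.assoc, hc, Category.assoc, ι_glueT]
    have h₁' : (pullback.fst a (𝓤.f j) ≫ x₁) ≫ p = pullback.snd a (𝓤.f j) ≫ (ea j).t := by
      rw [Category.assoc, h₁, ← Category.assoc, hc, Category.assoc, ι_glueT]
    rw [glue_pt 𝓤 ea hcompat a x₁ h₁ j _ _ hc h₁',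
      ← (ea j).pt_φ _ _ _ h₀' h₁' (h₀'.trans h₁'.symm)]
    rw [← φ_nat D (pullback.fst a (𝓤.f j)) x₀ x₁ (h₀.trans h₁.symm) _ _ rfl rfl
      (h₀'.trans h₁'.symm) _
      ⟨pullback.fst a (𝓤.f j) ≫ pullback.lift x₀ a h₀ ≫ glueV 𝓤 ea hcompat, by
        rw [Category.assoc, Category.assoc, glueV_hom, pullback.lift_fst]⟩ rfl]
    exact φ_congr D rfl rfl _ _ _ _ (glue_pt 𝓤 ea hcompat a x₀ h₀ j _ _ hc h₀')

lemma glueEl_map (j : 𝓤.I₀) : (glueEl 𝓤 ea hcompat).map (𝓤.f j) = ea j := by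
  refine El.ext' (ι_glueT 𝓤 ea hcompat j) (fun T' a x h h' => ?_)
  have h1 : x ≫ p = (a ≫ 𝓤.f j) ≫ (glueEl 𝓤 ea hcompat).t := by
    rw [h]; simp
  rw [El.map_pt _ _ a x h h1]
  have := glue_pt 𝓤 ea hcompat (a ≫ 𝓤.f j) x h1 j (𝟙 T') a (Category.id_comp _)
    (by rw [Category.id_comp]; exact h')
  rw [Category.id_comp] at this
  exact this.trans ((ea j).pt_congr rfl (Category.id_comp _) _ _)

lemma glueEl_unique (e' : El D T) (he' : ∀ j, e'.map (𝓤.f j) = ea j) :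
    e' = glueEl 𝓤 ea hcompat := by
  have ht : e'.t = (glueEl 𝓤 ea hcompat).t := by
    apply 𝓤.hom_ext
    intro j
    rw [show (glueEl 𝓤 ea hcompat).t = glueT 𝓤 ea hcompat from rfl, ι_glueT, ← he' j, El.map_t]
  refine El.ext' ht (fun T' a x h h' => ?_)
  refine Scheme.Cover.hom_ext (𝓤.pullback₁ a) _ _ (fun (j : 𝓤.I₀) => ?_)
  change pullback.fst a (𝓤.f j) ≫ _ = pullback.fst a (𝓤.f j) ≫ _
  have hc : pullback.fst a (𝓤.f j) ≫ a = pullback.snd a (𝓤.f j) ≫ 𝓤.f j := pullback.condition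
  have h₁' : (pullback.fst a (𝓤.f j) ≫ x) ≫ p = pullback.snd a (𝓤.f j) ≫ (ea j).t := by
    rw [Category.assoc, h', ← Category.assoc, hc, Category.assoc]
    rw [show (glueEl 𝓤 ea hcompat).t = glueT 𝓤 ea hcompat from rfl, ι_glueT]
  have hR : pullback.fst a (𝓤.f j) ≫ ((glueEl 𝓤 ea hcompat).pt a x h').1 =
      ((ea j).pt (pullback.snd a (𝓤.f j)) (pullback.fst a (𝓤.f j) ≫ x) h₁').1 :=
    glue_pt 𝓤 ea hcompat a x h' j _ _ hc h₁'
  rw [hR]
  have h2 : (pullback.fst a (𝓤.f j) ≫ x) ≫ p = (pullback.fst a (𝓤.f j) ≫ a) ≫ e'.t := by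
    rw [Category.assoc, h, Category.assoc]
  rw [← e'.pt_nat (pullback.fst a (𝓤.f j)) a x h _ _ rfl rfl h2]
  have h3 : (pullback.fst a (𝓤.f j) ≫ x) ≫ p = (pullback.snd a (𝓤.f j) ≫ 𝓤.f j) ≫ e'.t := by
    rw [← hc]; exact h2
  rw [e'.pt_congr hc rfl h2 h3,
    ← El.map_pt e' (𝓤.f j) _ _ (by rw [h3, El.map_t, Category.assoc]) h3]
  exact El.pt_eq_of_eq (he' j) _ _ _ _

end Glue

variable (D)

/-- The quotient presheaf is a sheaf for the Zariski topology. -/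
theorem isSheaf_F : Presheaf.IsSheaf Scheme.zariskiTopology (F D) := by
  rw [isSheaf_iff_isSheaf_of_type,
    Precoverage.isSheaf_toGrothendieck_iff_of_isStableUnderBaseChange]
  rintro T R hR x hx
  obtain ⟨(𝓤 : Scheme.OpenCover T), rfl⟩ := Scheme.exists_cover_of_mem_pretopology hR
  have hcompat : ∀ i j, (x (𝓤.f i) (.mk i)).map (pullback.fst (𝓤.f i) (𝓤.f j)) =
      (x (𝓤.f j) (.mk j)).map (pullback.snd _ _) := fun i j =>
    hx _ _ (.mk i) (.mk j) pullback.condition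
  refine ⟨glueEl 𝓤 (fun j => x (𝓤.f j) (.mk j)) hcompat, ?_, ?_⟩
  · rintro Y f ⟨j⟩
    exact glueEl_map 𝓤 _ hcompat j
  · intro e' he'
    exact glueEl_unique 𝓤 _ hcompat e' (fun j => he' (𝓤.f j) (.mk j))

end Groth.Agent.Lib.Seat58.DescQuot
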