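import Groth.Agent.Lib.Seat58DescRad
import Groth.Agent.Lib.Seat58DescOne
import Groth.Agent.Lib.Seat58DescEff

/-!
# Descent along radicial fpqc morphisms: the general case (seat 58)

Every descent datum relative to a flat, surjective, quasi-compact and universally injective morphism
is effective (`exists_iso_of_radicial`).
-/

set_option autoImplicit false
set_option backward.isDefEq.respectTransparency false
set_option backward.isDefEq.respectTransparency.types false
universe u
open CategoryTheory CategoryTheory.Limits AlgebraicGeometry Desc Opposite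

namespace Groth.Agent.Lib.Seat58.DescRad

variable {S' S : Scheme.{u}} (g : S' ⟶ S) [Flat g] [Surjective g] [QuasiCompact g]
  [UniversallyInjective g]

/-- a flat, surjective, quasi-compact, universally injective morphism is open -/
lemma isOpen_image (A : S'.Opens) : IsOpen (g '' (A : Set S')) := by
  rw [← (Flat.isQuotientMap_of_surjective g).isOpen_preimage,
    Set.preimage_image_eq _ g.injective]
  exact A.isOpen

/-- the base has a cover by opens with affine preimage -/
lemma exists_affine_preimage (a : S) : ∃ S₁ : S.Opens, a ∈ S₁ ∧ IsAffineOpen (g ⁻¹ᵁ S₁) := by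
  obtain ⟨x, rfl⟩ := g.surjective a
  obtain ⟨S₀, hS₀, haS₀, -⟩ := exists_isAffineOpen_mem_and_subset (x := g x)
    (U := (⊤ : S.Opens)) trivial
  obtain ⟨X₀, hX₀, hxX₀, hX₀le⟩ := exists_isAffineOpen_mem_and_subset (x := x)
    (U := g ⁻¹ᵁ S₀) haS₀
  let B : S.Opens := ⟨g '' (X₀ : Set S'), isOpen_image g X₀⟩
  have hxB : g x ∈ B := ⟨x, hxX₀, rfl⟩
  obtain ⟨f, hfle, hxf⟩ := hS₀.exists_basicOpen_le (V := B) ⟨g x, hxB⟩ haS₀
  refine ⟨S.basicOpen f, hxf, ?_⟩
  have hle : g ⁻¹ᵁ S.basicOpen f ≤ X₀ := by
    intro y hy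
    obtain ⟨y', hy', e⟩ := hfle hy
    rw [← g.injective e]
    exact hy'
  have h1 : g ⁻¹ᵁ S.basicOpen f =
      S'.basicOpen (S'.presheaf.map (homOfLE hX₀le).op (g.app S₀ f)) := by
    rw [Scheme.basicOpen_res, ← Scheme.preimage_basicOpen]
    exact (inf_eq_right.mpr hle).symm
  rw [h1]
  exact hX₀.basicOpen _

instance unique_idx (a : S) : Unique (DescTwoStep.Idx (Prod.fst : S × PUnit.{u + 1} → S) a) where
  default := ⟨(a, PUnit.unit), rfl⟩
  uniq := by
    rintro ⟨⟨a', ⟨⟩⟩, h⟩
    obtain rfl : a' = a := h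
    rfl

omit [Flat g] [Surjective g] [QuasiCompact g] [UniversallyInjective g] in
lemma exists_iso_of_eq {X₁ S₂ : Scheme.{u}} (q q' : X₁ ⟶ S₂) (hq : q = q') [IsAffine X₁] [Flat q']
    [Surjective q'] [QuasiCompact q'] [UniversallyInjective q'] (D₀ : SchDD q) :
    ∃ U : Over S₂, Nonempty ((toDD q).obj U ≅ D₀) := by
  subst hq
  exact exists_iso_of_affine_source D₀

/-- **Descent along radicial fpqc morphisms.** -/
theorem exists_iso_of_radicial (D : SchDD g) : ∃ U : Over S, Nonempty ((toDD g).obj U ≅ D) := by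
  choose S₁ ha hS₁ using fun a : S => exists_affine_preimage g a
  let s : ∀ a : S, (S₁ a).toScheme ⟶ S := fun a => (S₁ a).ι
  have hs : Presieve.ofArrows (fun a : S => (S₁ a).toScheme) s ∈ Scheme.zariskiPrecoverage S := by
    rw [Scheme.ofArrows_mem_precoverage_iff]
    refine ⟨fun x => ⟨x, ?_⟩, fun a => inferInstance⟩
    rw [Scheme.Opens.range_ι]
    exact ha x
  have hu : Presieve.ofArrows (fun _ : PUnit.{u + 1} => S') (fun _ => g) ∈
      Scheme.fpqcPrecoverage S := by
    rw [Presieve.ofArrows_pUnit]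
    exact g.singleton_mem_fpqcPrecoverage
  have hE : ((SchDDFam.ofSchDD g).obj D).IsEffective := by
    refine DescEff.isEffective_of_zariski_local (fun _ : PUnit.{u + 1} => g) s hu hs _ (fun a => ?_)
    apply DescOne.isEffective_of_single
    have h5 : IsAffine (pullback g (s a)) := by
      have : IsAffine (g ⁻¹ᵁ S₁ a).toScheme := hS₁ a
      exact .of_isIso (pullbackRestrictIsoRestrict g (S₁ a)).hom
    have h6 : UniversallyInjective (pullback.snd g (s a)) :=
      MorphismProperty.pullback_snd (P := @UniversallyInjective) _ _ inferInstance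
    exact exists_iso_of_eq _ (pullback.snd g (s a))
      (DescTwoStep.g'_self _ _ ((a, PUnit.unit) : S × PUnit.{u + 1})) _
  obtain ⟨Z, ⟨e⟩⟩ := hE
  exact ⟨Z, ⟨(SchDDFam.toSchDD g).mapIso e⟩⟩

end Groth.Agent.Lib.Seat58.DescRad
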