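import Groth.Agent.Lib.Helper12DescFF
import Groth.Agent.Lib.Seat43DescYoneda

/-!
# Seat58: descent of descent data in two steps

Let `(α, g)` be a refinement over `𝟙 S` of a family `v j : V j ⟶ S` by a family `u i : U i ⟶ S`
(`g i : U i ⟶ V (α i)`), such that for every `j` the `g i` with `α i = j` generate an fpqc covering
sieve of `V j`.  Let `D'` be a descent datum relative to `u`.  If, for every `j`, the part of `D'`
over `j` is "effective relative to `V j`" (structure `LocEff`: schemes `Zs j` over `V j`, cartesian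
charts `D'.obj i ⟶ Zs (α i)` compatible with the gluing bijections of `D'` on pairs of points with the
same image in `V j`), then `D'` is isomorphic to the pullback of a descent datum relative to `v`
whose objects are the `Zs j` (`glued`, `pullGluedIso`).

This generalises `Seat43ZarDescRefine` (where the `Zs j` come from Zariski gluing); the code is
adapted from there.
-/

set_option autoImplicit false
set_option backward.isDefEq.respectTransparency false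
set_option backward.isDefEq.respectTransparency.types false
set_option linter.unusedSectionVars false
set_option linter.unusedVariables false
universe w' w u
open CategoryTheory CategoryTheory.Limits AlgebraicGeometry Desc

namespace Groth.Agent.Lib.Seat58.DescTwoStep

open Groth.Agent.Lib.Helper12.DescFF

variable {ι : Type w'} {κ : Type w} {S : Scheme.{u}} {U : ι → Scheme.{u}} {V : κ → Scheme.{u}}
  (u : ∀ i, U i ⟶ S) (v : ∀ j, V j ⟶ S) (α : ι → κ) (g : ∀ i, U i ⟶ V (α i))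
  (w : ∀ i, g i ≫ v (α i) = u i ≫ 𝟙 S)

/-- the indices over `j` -/
abbrev Idx (j : κ) : Type w' := {i : ι // α i = j}

/-- the refinement maps with target `V j` -/
def g' (j : κ) (i : Idx α j) : U i.1 ⟶ V j := g i.1 ≫ eqToHom (congrArg V i.2)

include w in
lemma g'_v (j : κ) (i : Idx α j) : g' α g j i ≫ v j = u i.1 := by
  obtain ⟨i, rfl⟩ := i
  simp [g', w]

lemma g'_self (i : ι) : g' α g (α i) ⟨i, rfl⟩ = g i := by
  simp [g']

variable (D' : SchDDFam u)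

include w in
lemma restr_compat {j : κ} {T : Scheme.{u}} {i i' : Idx α j} (x₀ : T ⟶ U i.1) (x₁ : T ⟶ U i'.1)
    (h : x₀ ≫ g' α g j i = x₁ ≫ g' α g j i') : x₀ ≫ u i.1 = x₁ ≫ u i'.1 := by
  rw [← g'_v u v α g w j i, ← g'_v u v α g w j i', ← Category.assoc, h, Category.assoc]

/-- the descent datum restricted to the indices over `j`, relative to `V j` -/
def restr (j : κ) : SchDDFam (g' α g j) where
  obj i := D'.obj i.1
  φ T i i' x₀ x₁ h := D'.φ x₀ x₁ (restr_compat u v α g w x₀ x₁ h)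
  φ_natural T T' c i i' x₀ x₁ h y₀ y₁ e₀ e₁ h' p p' hp :=
    D'.φ_natural c x₀ x₁ _ y₀ y₁ e₀ e₁ _ p p' hp
  φ_self T i x p := D'.φ_self x p
  φ_comp T i i' i'' x₀ x₁ x₂ h₀₁ h₁₂ p := D'.φ_comp x₀ x₁ x₂ _ _ p

/-- A local effectivity structure: schemes `Zs j` over `V j` with cartesian charts from the objects of
`D'`, such that the gluing bijections of `D'` on pairs of points with the same image in `V j` preserve
the `Zs j`-component. -/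
structure LocEff where
  Zs : κ → Scheme.{u}
  zeta : ∀ j, Zs j ⟶ V j
  ch : ∀ (j : κ) (i : Idx α j), (D'.obj i.1).left ⟶ Zs j
  isPullback : ∀ (j : κ) (i : Idx α j), IsPullback (ch j i) (D'.obj i.1).hom (zeta j) (g' α g j i)
  φ_ch : ∀ ⦃T : Scheme.{u}⦄ ⦃j : κ⦄ ⦃i k : Idx α j⦄ (x : T ⟶ U i.1) (x' : T ⟶ U k.1)
    (_ : x ≫ g' α g j i = x' ≫ g' α g j k) (hu : x ≫ u i.1 = x' ≫ u k.1)
    (p : Lifts (D'.obj i.1) x), (D'.φ x x' hu p).1 ≫ ch j k = p.1 ≫ ch j i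

variable {u α g D'} (L : LocEff u α g D')

namespace LocEff

lemma ch_zeta (j : κ) (i : Idx α j) : L.ch j i ≫ L.zeta j = (D'.obj i.1).hom ≫ g' α g j i :=
  (L.isPullback j i).w

/-- the scheme `Zs j` as an object over `V j` -/
def Zo (j : κ) : Over (V j) := Over.mk (L.zeta j)

/-- the local point of a point `r` of `Zs j` over the chart `i` -/
noncomputable def loc {T : Scheme.{u}} {j : κ} (r : T ⟶ L.Zs j) (i : Idx α j) (s : T ⟶ U i.1)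
    (h : r ≫ L.zeta j = s ≫ g' α g j i) : Lifts (D'.obj i.1) s :=
  ⟨(L.isPullback j i).lift r s h, (L.isPullback j i).lift_snd r s h⟩

lemma loc_chart {T : Scheme.{u}} {j : κ} (r : T ⟶ L.Zs j) (i : Idx α j) (s : T ⟶ U i.1)
    (h : r ≫ L.zeta j = s ≫ g' α g j i) : (L.loc r i s h).1 ≫ L.ch j i = r :=
  (L.isPullback j i).lift_fst r s h

lemma loc_unique {T : Scheme.{u}} {j : κ} (r : T ⟶ L.Zs j) (i : Idx α j) (s : T ⟶ U i.1)
    (h : r ≫ L.zeta j = s ≫ g' α g j i) (p : Lifts (D'.obj i.1) s) (hp : p.1 ≫ L.ch j i = r) :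
    p = L.loc r i s h := by
  apply Subtype.ext
  apply (L.isPullback j i).hom_ext
  · rw [hp, loc_chart]
  · rw [p.2, (L.loc r i s h).2]

lemma loc_eq_of_eq {T : Scheme.{u}} {j : κ} {r r' : T ⟶ L.Zs j} (e : r = r') (i : Idx α j)
    (s : T ⟶ U i.1) (h : r ≫ L.zeta j = s ≫ g' α g j i) (h' : r' ≫ L.zeta j = s ≫ g' α g j i) :
    L.loc r i s h = L.loc r' i s h' := by
  subst e; rfl

lemma loc_φ {T : Scheme.{u}} {j : κ} (r : T ⟶ L.Zs j) (i k : Idx α j) (s : T ⟶ U i.1)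
    (s' : T ⟶ U k.1) (h : r ≫ L.zeta j = s ≫ g' α g j i) (h' : r ≫ L.zeta j = s' ≫ g' α g j k)
    (hu : s ≫ u i.1 = s' ≫ u k.1) :
    D'.φ s s' hu (L.loc r i s h) = L.loc r k s' h' := by
  apply loc_unique
  rw [L.φ_ch s s' (h.symm.trans h') hu, loc_chart]

lemma loc_nat {T T' : Scheme.{u}} {j : κ} (c : T' ⟶ T) (r : T ⟶ L.Zs j) (i : Idx α j)
    (s : T ⟶ U i.1) (h : r ≫ L.zeta j = s ≫ g' α g j i) (r' : T' ⟶ L.Zs j) (s' : T' ⟶ U i.1)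
    (er : c ≫ r = r') (es : c ≫ s = s') (h' : r' ≫ L.zeta j = s' ≫ g' α g j i) :
    (L.loc r' i s' h').1 = c ≫ (L.loc r i s h).1 := by
  subst er es
  have : (⟨c ≫ (L.loc r i s h).1, by rw [Category.assoc, (L.loc r i s h).2]⟩ :
      Lifts (D'.obj i.1) (c ≫ s)) = L.loc (c ≫ r) i (c ≫ s) h' := by
    apply loc_unique
    rw [Category.assoc, loc_chart]
  exact (congrArg Subtype.val this).symm

end LocEff

variable (α g) in
/-- the sieve of morphisms to `T` over which `t : T ⟶ V j` factors through a member of the cover -/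
def cov {T : Scheme.{u}} (j : κ) (t : T ⟶ V j) : Sieve T where
  arrows T' c := ∃ (i : Idx α j) (s : T' ⟶ U i.1), s ≫ g' α g j i = c ≫ t
  downward_closed := by
    rintro T' T'' c ⟨i, s, hs⟩ d
    exact ⟨i, d ≫ s, by rw [Category.assoc, hs, Category.assoc]⟩

/-- morphisms to a scheme agreeing on a covering sieve are equal -/
lemma ext_of_cov {T Y : Scheme.{u}} (R : Sieve T) (hR : R ∈ Scheme.fpqcTopology T) (a b : T ⟶ Y)
    (h : ∀ (T' : Scheme.{u}) (c : T' ⟶ T), R c → c ≫ a = c ≫ b) : a = b := by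
  have hsheaf := (GrothendieckTopology.Subcanonical.isSheaf_of_isRepresentable
    (J := Scheme.fpqcTopology) (yoneda.obj Y)) _ hR
  exact hsheaf.isSeparatedFor.ext (fun T' c hc => h T' c hc)

/-- covering hypothesis: the `g i` over `j` generate a universally covering sieve of `V j` -/
def CovHyp : Prop := ∀ (j : κ) ⦃T : Scheme.{u}⦄ (t : T ⟶ V j), cov α g j t ∈ Scheme.fpqcTopology T

variable (α g) in
/-- the covering hypothesis follows from fpqc covering families over each `V j` -/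
lemma covHyp_of_precoverage
    (hcov : ∀ j, Presieve.ofArrows (fun i : Idx α j => U i.1) (g' α g j) ∈
      Scheme.fpqcPrecoverage (V j)) : CovHyp (α := α) (g := g) := by
  intro j T t
  have h1 := Precoverage.generate_mem_toGrothendieck (hcov j)
  have h2 := Scheme.fpqcTopology.pullback_stable t h1
  refine Scheme.fpqcTopology.superset_covering ?_ h2
  intro T' c hc
  obtain ⟨Y, h, g'', ⟨i⟩, e⟩ := hc
  exact ⟨i, h, e⟩

variable (hcov : CovHyp (α := α) (g := g))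

local notation "G'" => g' α g

include w in
lemma compat_ss {T T' : Scheme.{u}} {j j' : κ} (x₀ : T ⟶ V j) (x₁ : T ⟶ V j')
    (h : x₀ ≫ v j = x₁ ≫ v j') (c : T' ⟶ T) (i : Idx α j) (s : T' ⟶ U i.1)
    (hs : s ≫ G' j i = c ≫ x₀) (i' : Idx α j') (s' : T' ⟶ U i'.1) (hs' : s' ≫ G' j' i' = c ≫ x₁) :
    s ≫ u i.1 = s' ≫ u i'.1 := by
  rw [← g'_v u v α g w j i, ← g'_v u v α g w j' i', ← Category.assoc, hs, ← Category.assoc, hs',
    Category.assoc, h, Category.assoc]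

lemma loc_cond {T T' : Scheme.{u}} {j : κ} (x₀ : T ⟶ V j) (r : Lifts (L.Zo j) x₀) (c : T' ⟶ T)
    (i : Idx α j) (s : T' ⟶ U i.1) (hs : s ≫ G' j i = c ≫ x₀) :
    (c ≫ r.1) ≫ L.zeta j = s ≫ G' j i := by
  rw [Category.assoc, hs]
  congr 1
  exact r.2

/-- the local point of `r` on the chart `i`, over `c` -/
noncomputable def lp {T T' : Scheme.{u}} {j : κ} (x₀ : T ⟶ V j) (r : Lifts (L.Zo j) x₀) (c : T' ⟶ T)
    (i : Idx α j) (s : T' ⟶ U i.1) (hs : s ≫ G' j i = c ≫ x₀) : Lifts (D'.obj i.1) s :=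
  L.loc (c ≫ r.1) i s (loc_cond L x₀ r c i s hs)

lemma lp_ch {T T' : Scheme.{u}} {j : κ} (x₀ : T ⟶ V j) (r : Lifts (L.Zo j) x₀) (c : T' ⟶ T)
    (i : Idx α j) (s : T' ⟶ U i.1) (hs : s ≫ G' j i = c ≫ x₀) :
    (lp L x₀ r c i s hs).1 ≫ L.ch j i = c ≫ r.1 :=
  L.loc_chart _ i s _

lemma lp_unique {T T' : Scheme.{u}} {j : κ} (x₀ : T ⟶ V j) (r : Lifts (L.Zo j) x₀) (c : T' ⟶ T)
    (i : Idx α j) (s : T' ⟶ U i.1) (hs : s ≫ G' j i = c ≫ x₀) (p : Lifts (D'.obj i.1) s)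
    (hp : p.1 ≫ L.ch j i = c ≫ r.1) : p = lp L x₀ r c i s hs :=
  L.loc_unique _ i s _ p hp

lemma lp_φ {T T' : Scheme.{u}} {j : κ} (x₀ : T ⟶ V j) (r : Lifts (L.Zo j) x₀) (c : T' ⟶ T)
    (i : Idx α j) (s : T' ⟶ U i.1) (hs : s ≫ G' j i = c ≫ x₀)
    (i₂ : Idx α j) (s₂ : T' ⟶ U i₂.1) (hs₂ : s₂ ≫ G' j i₂ = c ≫ x₀) (hh : s ≫ u i.1 = s₂ ≫ u i₂.1) :
    D'.φ s s₂ hh (lp L x₀ r c i s hs) = lp L x₀ r c i₂ s₂ hs₂ :=
  L.loc_φ (c ≫ r.1) i i₂ s s₂ _ _ hh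

lemma lp_nat {T T' T'' : Scheme.{u}} {j : κ} (x₀ : T ⟶ V j) (r : Lifts (L.Zo j) x₀) (c : T' ⟶ T)
    (i : Idx α j) (s : T' ⟶ U i.1) (hs : s ≫ G' j i = c ≫ x₀) (d : T'' ⟶ T')
    (hs' : (d ≫ s) ≫ G' j i = (d ≫ c) ≫ x₀) :
    (lp L x₀ r (d ≫ c) i (d ≫ s) hs').1 = d ≫ (lp L x₀ r c i s hs).1 :=
  L.loc_nat d (c ≫ r.1) i s _ _ _ (by rw [Category.assoc]) rfl _

/-- the local value of the transported point -/
noncomputable def lval {T T' : Scheme.{u}} {j j' : κ} (x₀ : T ⟶ V j) (x₁ : T ⟶ V j')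
    (h : x₀ ≫ v j = x₁ ≫ v j') (r : Lifts (L.Zo j) x₀) (c : T' ⟶ T)
    (i : Idx α j) (s : T' ⟶ U i.1) (hs : s ≫ G' j i = c ≫ x₀)
    (i' : Idx α j') (s' : T' ⟶ U i'.1) (hs' : s' ≫ G' j' i' = c ≫ x₁) : T' ⟶ L.Zs j' :=
  (D'.φ s s' (compat_ss v w x₀ x₁ h c i s hs i' s' hs')
    (lp L x₀ r c i s hs)).1 ≫ L.ch j' i'

lemma lval_indep {T T' : Scheme.{u}} {j j' : κ} (x₀ : T ⟶ V j) (x₁ : T ⟶ V j')
    (h : x₀ ≫ v j = x₁ ≫ v j') (r : Lifts (L.Zo j) x₀) (c : T' ⟶ T)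
    (i : Idx α j) (s : T' ⟶ U i.1) (hs : s ≫ G' j i = c ≫ x₀)
    (i' : Idx α j') (s' : T' ⟶ U i'.1) (hs' : s' ≫ G' j' i' = c ≫ x₁)
    (i₂ : Idx α j) (s₂ : T' ⟶ U i₂.1) (hs₂ : s₂ ≫ G' j i₂ = c ≫ x₀)
    (i₂' : Idx α j') (s₂' : T' ⟶ U i₂'.1) (hs₂' : s₂' ≫ G' j' i₂' = c ≫ x₁) :
    lval v w L x₀ x₁ h r c i s hs i' s' hs' =
      lval v w L x₀ x₁ h r c i₂ s₂ hs₂ i₂' s₂' hs₂' := by
  unfold lval
  have h12 : s ≫ u i.1 = s₂ ≫ u i₂.1 := compat_ss v w x₀ x₀ rfl c i s hs i₂ s₂ hs₂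
  have h1'2' : s' ≫ G' j' i' = s₂' ≫ G' j' i₂' := hs'.trans hs₂'.symm
  rw [← lp_φ L x₀ r c i s hs i₂ s₂ hs₂ h12, D'.φ_comp]
  have key := L.φ_ch s' s₂' h1'2' (compat_ss v w x₁ x₁ rfl c i' s' hs' i₂' s₂' hs₂')
    (D'.φ s s' (compat_ss v w x₀ x₁ h c i s hs i' s' hs') (lp L x₀ r c i s hs))
  refine Eq.trans key.symm ?_
  rw [D'.φ_comp]

lemma lval_indep' {T T' : Scheme.{u}} {j j' : κ} (x₀ : T ⟶ V j) (x₁ : T ⟶ V j')
    (h : x₀ ≫ v j = x₁ ≫ v j') (r : Lifts (L.Zo j) x₀) (c c₂ : T' ⟶ T) (ec : c = c₂)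
    (i : Idx α j) (s : T' ⟶ U i.1) (hs : s ≫ G' j i = c ≫ x₀)
    (i' : Idx α j') (s' : T' ⟶ U i'.1) (hs' : s' ≫ G' j' i' = c ≫ x₁)
    (i₂ : Idx α j) (s₂ : T' ⟶ U i₂.1) (hs₂ : s₂ ≫ G' j i₂ = c₂ ≫ x₀)
    (i₂' : Idx α j') (s₂' : T' ⟶ U i₂'.1) (hs₂' : s₂' ≫ G' j' i₂' = c₂ ≫ x₁) :
    lval v w L x₀ x₁ h r c i s hs i' s' hs' =
      lval v w L x₀ x₁ h r c₂ i₂ s₂ hs₂ i₂' s₂' hs₂' := by
  subst ec
  exact lval_indep v w L x₀ x₁ h r c i s hs i' s' hs' i₂ s₂ hs₂ i₂' s₂' hs₂'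

lemma lval_nat {T T' T'' : Scheme.{u}} {j j' : κ} (x₀ : T ⟶ V j) (x₁ : T ⟶ V j')
    (h : x₀ ≫ v j = x₁ ≫ v j') (r : Lifts (L.Zo j) x₀) (c : T' ⟶ T)
    (i : Idx α j) (s : T' ⟶ U i.1) (hs : s ≫ G' j i = c ≫ x₀)
    (i' : Idx α j') (s' : T' ⟶ U i'.1) (hs' : s' ≫ G' j' i' = c ≫ x₁) (d : T'' ⟶ T')
    (hsd : (d ≫ s) ≫ G' j i = (d ≫ c) ≫ x₀) (hsd' : (d ≫ s') ≫ G' j' i' = (d ≫ c) ≫ x₁) :
    lval v w L x₀ x₁ h r (d ≫ c) i (d ≫ s) hsd i' (d ≫ s') hsd' =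
      d ≫ lval v w L x₀ x₁ h r c i s hs i' s' hs' := by
  unfold lval
  rw [← Category.assoc]
  congr 1
  exact φ_nat D' d s s' _ _ _ rfl rfl _ _ _ (lp_nat L x₀ r c i s hs d hsd)

lemma lval_zeta {T T' : Scheme.{u}} {j j' : κ} (x₀ : T ⟶ V j) (x₁ : T ⟶ V j')
    (h : x₀ ≫ v j = x₁ ≫ v j') (r : Lifts (L.Zo j) x₀) (c : T' ⟶ T)
    (i : Idx α j) (s : T' ⟶ U i.1) (hs : s ≫ G' j i = c ≫ x₀)
    (i' : Idx α j') (s' : T' ⟶ U i'.1) (hs' : s' ≫ G' j' i' = c ≫ x₁) :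
    lval v w L x₀ x₁ h r c i s hs i' s' hs' ≫ L.zeta j' = c ≫ x₁ := by
  unfold lval
  rw [Category.assoc, L.ch_zeta, ← Category.assoc, (D'.φ s s' _ _).2, hs']

variable (α g) in
/-- the sieve on which both points factor through members of the covers -/
def cov2 {T : Scheme.{u}} (j j' : κ) (x₀ : T ⟶ V j) (x₁ : T ⟶ V j') : Sieve T :=
  cov α g j x₀ ⊓ cov α g j' x₁

include hcov in
lemma cov2_mem {T : Scheme.{u}} (j j' : κ) (x₀ : T ⟶ V j) (x₁ : T ⟶ V j') :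
    cov2 α g j j' x₀ x₁ ∈ Scheme.fpqcTopology T :=
  Scheme.fpqcTopology.intersection_covering (hcov j x₀) (hcov j' x₁)

include hcov in
/-- existence of the transported point -/
lemma exists_transport {T : Scheme.{u}} {j j' : κ} (x₀ : T ⟶ V j) (x₁ : T ⟶ V j')
    (h : x₀ ≫ v j = x₁ ≫ v j') (r : Lifts (L.Zo j) x₀) :
    ∃ r' : Lifts (L.Zo j') x₁, ∀ (T' : Scheme.{u}) (c : T' ⟶ T)
      (i : Idx α j) (s : T' ⟶ U i.1) (hs : s ≫ G' j i = c ≫ x₀)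
      (i' : Idx α j') (s' : T' ⟶ U i'.1) (hs' : s' ≫ G' j' i' = c ≫ x₁),
      c ≫ r'.1 = lval v w L x₀ x₁ h r c i s hs i' s' hs' := by
  have hR := cov2_mem hcov j j' x₀ x₁
  have hsheaf := (GrothendieckTopology.Subcanonical.isSheaf_of_isRepresentable
    (J := Scheme.fpqcTopology) (yoneda.obj (L.Zs j'))) _ hR
  let x : Presieve.FamilyOfElements (yoneda.obj (L.Zs j')) (cov2 α g j j' x₀ x₁).arrows :=
    fun T' c hc => lval v w L x₀ x₁ h r c hc.1.choose hc.1.choose_spec.choose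
      hc.1.choose_spec.choose_spec hc.2.choose hc.2.choose_spec.choose hc.2.choose_spec.choose_spec
  have hx : x.Compatible := by
    intro Y₁ Y₂ Y g₁ g₂ f₁ f₂ h₁ h₂ e
    change g₁ ≫ lval v w L x₀ x₁ h r f₁ _ _ _ _ _ _ =
      g₂ ≫ lval v w L x₀ x₁ h r f₂ _ _ _ _ _ _
    rw [← lval_nat v w L x₀ x₁ h r f₁ _ _ _ _ _ _ g₁
        (by rw [Category.assoc, h₁.1.choose_spec.choose_spec, Category.assoc])
        (by rw [Category.assoc, h₁.2.choose_spec.choose_spec, Category.assoc]),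
      ← lval_nat v w L x₀ x₁ h r f₂ _ _ _ _ _ _ g₂
        (by rw [Category.assoc, h₂.1.choose_spec.choose_spec, Category.assoc])
        (by rw [Category.assoc, h₂.2.choose_spec.choose_spec, Category.assoc])]
    exact lval_indep' v w L x₀ x₁ h r _ _ e _ _ _ _ _ _ _ _ _ _ _ _
  have hval : ∀ (T' : Scheme.{u}) (c : T' ⟶ T)
      (i : Idx α j) (s : T' ⟶ U i.1) (hs : s ≫ G' j i = c ≫ x₀)
      (i' : Idx α j') (s' : T' ⟶ U i'.1) (hs' : s' ≫ G' j' i' = c ≫ x₁),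
      c ≫ hsheaf.amalgamate x hx = lval v w L x₀ x₁ h r c i s hs i' s' hs' := by
    intro T' c i s hs i' s' hs'
    have hc : (cov2 α g j j' x₀ x₁).arrows c := ⟨⟨i, s, hs⟩, ⟨i', s', hs'⟩⟩
    have := hsheaf.valid_glue hx c hc
    refine Eq.trans this ?_
    exact lval_indep v w L x₀ x₁ h r c _ _ _ _ _ _ _ _ _ _ _ _
  refine ⟨⟨hsheaf.amalgamate x hx, ?_⟩, hval⟩
  apply ext_of_cov _ hR
  rintro T' c ⟨⟨i, s, hs⟩, ⟨i', s', hs'⟩⟩
  rw [← Category.assoc, hval T' c i s hs i' s' hs']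
  exact lval_zeta v w L x₀ x₁ h r c i s hs i' s' hs'

/-- the transport of points of the schemes `Zs j` -/
noncomputable def tr {T : Scheme.{u}} {j j' : κ} (x₀ : T ⟶ V j) (x₁ : T ⟶ V j')
    (h : x₀ ≫ v j = x₁ ≫ v j') (r : Lifts (L.Zo j) x₀) : Lifts (L.Zo j') x₁ :=
  (exists_transport v w L hcov x₀ x₁ h r).choose

lemma tr_spec {T T' : Scheme.{u}} {j j' : κ} (x₀ : T ⟶ V j) (x₁ : T ⟶ V j')
    (h : x₀ ≫ v j = x₁ ≫ v j') (r : Lifts (L.Zo j) x₀) (c : T' ⟶ T)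
    (i : Idx α j) (s : T' ⟶ U i.1) (hs : s ≫ G' j i = c ≫ x₀)
    (i' : Idx α j') (s' : T' ⟶ U i'.1) (hs' : s' ≫ G' j' i' = c ≫ x₁) :
    c ≫ (tr v w L hcov x₀ x₁ h r).1 = lval v w L x₀ x₁ h r c i s hs i' s' hs' :=
  (exists_transport v w L hcov x₀ x₁ h r).choose_spec T' c i s hs i' s' hs'

lemma tr_unique {T : Scheme.{u}} {j j' : κ} (x₀ : T ⟶ V j) (x₁ : T ⟶ V j')
    (h : x₀ ≫ v j = x₁ ≫ v j') (r : Lifts (L.Zo j) x₀) (r' : Lifts (L.Zo j') x₁) (R : Sieve T)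
    (hR : R ∈ Scheme.fpqcTopology T)
    (H : ∀ (T' : Scheme.{u}) (c : T' ⟶ T), R c → ∃ (i : Idx α j) (s : T' ⟶ U i.1)
      (hs : s ≫ G' j i = c ≫ x₀) (i' : Idx α j') (s' : T' ⟶ U i'.1)
      (hs' : s' ≫ G' j' i' = c ≫ x₁), c ≫ r'.1 = lval v w L x₀ x₁ h r c i s hs i' s' hs') :
    r' = tr v w L hcov x₀ x₁ h r := by
  apply Subtype.ext
  apply ext_of_cov R hR
  intro T' c hc
  obtain ⟨i, s, hs, i', s', hs', e⟩ := H T' c hc
  rw [e, tr_spec]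

lemma tr_self {T : Scheme.{u}} {j : κ} (x : T ⟶ V j) (r : Lifts (L.Zo j) x) :
    tr v w L hcov x x rfl r = r := by
  symm
  apply tr_unique v w L hcov x x rfl r r (cov α g j x) (hcov j x)
  rintro T' c ⟨i, s, hs⟩
  refine ⟨i, s, hs, i, s, hs, ?_⟩
  unfold lval
  rw [D'.φ_self, lp_ch]

lemma tr_comp {T : Scheme.{u}} {j₀ j₁ j₂ : κ} (x₀ : T ⟶ V j₀) (x₁ : T ⟶ V j₁) (x₂ : T ⟶ V j₂)
    (h₀₁ : x₀ ≫ v j₀ = x₁ ≫ v j₁) (h₁₂ : x₁ ≫ v j₁ = x₂ ≫ v j₂) (r : Lifts (L.Zo j₀) x₀) :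
    tr v w L hcov x₁ x₂ h₁₂ (tr v w L hcov x₀ x₁ h₀₁ r) =
      tr v w L hcov x₀ x₂ (h₀₁.trans h₁₂) r := by
  apply tr_unique v w L hcov x₀ x₂ (h₀₁.trans h₁₂) r _
    (cov2 α g j₀ j₁ x₀ x₁ ⊓ cov α g j₂ x₂)
    (Scheme.fpqcTopology.intersection_covering (cov2_mem hcov j₀ j₁ x₀ x₁) (hcov j₂ x₂))
  rintro T' c ⟨⟨⟨i₀, s₀, hs₀⟩, ⟨i₁, s₁, hs₁⟩⟩, ⟨i₂, s₂, hs₂⟩⟩
  refine ⟨i₀, s₀, hs₀, i₂, s₂, hs₂, ?_⟩
  rw [tr_spec v w L hcov x₁ x₂ h₁₂ _ c i₁ s₁ hs₁ i₂ s₂ hs₂]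
  unfold lval
  have key : lp L x₁ (tr v w L hcov x₀ x₁ h₀₁ r) c i₁ s₁ hs₁ =
      D'.φ s₀ s₁ (compat_ss v w x₀ x₁ h₀₁ c i₀ s₀ hs₀ i₁ s₁ hs₁)
        (lp L x₀ r c i₀ s₀ hs₀) := by
    symm
    apply lp_unique
    rw [tr_spec v w L hcov x₀ x₁ h₀₁ r c i₀ s₀ hs₀ i₁ s₁ hs₁]
    rfl
  rw [key, D'.φ_comp]

lemma lp_congr {T T₂ T' : Scheme.{u}} {j : κ} {x₀ : T ⟶ V j} {x₀' : T₂ ⟶ V j}
    (r : Lifts (L.Zo j) x₀) (r₂ : Lifts (L.Zo j) x₀') (c : T' ⟶ T) (c₂ : T' ⟶ T₂)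
    (e : c ≫ r.1 = c₂ ≫ r₂.1) (i : Idx α j) (s : T' ⟶ U i.1) (hs : s ≫ G' j i = c ≫ x₀)
    (hs₂ : s ≫ G' j i = c₂ ≫ x₀') :
    lp L x₀ r c i s hs = lp L x₀' r₂ c₂ i s hs₂ :=
  L.loc_eq_of_eq e i s _ _

lemma tr_nat {T T₂ : Scheme.{u}} (e : T₂ ⟶ T) {j j' : κ} (x₀ : T ⟶ V j) (x₁ : T ⟶ V j')
    (h : x₀ ≫ v j = x₁ ≫ v j') (y₀ : T₂ ⟶ V j) (y₁ : T₂ ⟶ V j') (e₀ : e ≫ x₀ = y₀)
    (e₁ : e ≫ x₁ = y₁) (h' : y₀ ≫ v j = y₁ ≫ v j') (p : Lifts (L.Zo j) x₀) (p' : Lifts (L.Zo j) y₀)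
    (hp : p'.1 = e ≫ p.1) :
    (tr v w L hcov y₀ y₁ h' p').1 = e ≫ (tr v w L hcov x₀ x₁ h p).1 := by
  subst e₀ e₁
  apply ext_of_cov _ (cov2_mem hcov j j' (e ≫ x₀) (e ≫ x₁))
  rintro T' c ⟨⟨i, s, hs⟩, ⟨i', s', hs'⟩⟩
  have hs2 : s ≫ G' j i = (c ≫ e) ≫ x₀ := by rw [hs, Category.assoc]
  have hs2' : s' ≫ G' j' i' = (c ≫ e) ≫ x₁ := by rw [hs', Category.assoc]
  rw [tr_spec v w L hcov (e ≫ x₀) (e ≫ x₁) h' p' c i s hs i' s' hs', ← Category.assoc,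
    tr_spec v w L hcov x₀ x₁ h p (c ≫ e) i s hs2 i' s' hs2']
  unfold lval
  rw [lp_congr L p' p c (c ≫ e) (by rw [hp, Category.assoc]) i s hs hs2]

/-- the descended descent datum relative to the family `v` -/
noncomputable def glued : SchDDFam v where
  obj j := L.Zo j
  φ T j j' x₀ x₁ h :=
    { toFun := tr v w L hcov x₀ x₁ h
      invFun := tr v w L hcov x₁ x₀ h.symm
      left_inv := fun r => by rw [tr_comp, tr_self]
      right_inv := fun r => by rw [tr_comp, tr_self] }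
  φ_natural T T' e j j' x₀ x₁ h y₀ y₁ e₀ e₁ h' p p' hp :=
    tr_nat v w L hcov e x₀ x₁ h y₀ y₁ e₀ e₁ h' p p' hp
  φ_self T j x r := tr_self v w L hcov x r
  φ_comp T j₀ j₁ j₂ x₀ x₁ x₂ h₀₁ h₁₂ r := tr_comp v w L hcov x₀ x₁ x₂ h₀₁ h₁₂ r

local notation "GLU" => glued v w L hcov

lemma self_cond {T : Scheme.{u}} {i : ι} (x : T ⟶ U i) :
    x ≫ G' (α i) ⟨i, rfl⟩ = 𝟙 T ≫ x ≫ g i := by
  rw [g'_self, Category.id_comp]

/-- points of `Zs (α i)` over `x ≫ g i` are points of `D'.obj i` over `x` -/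
noncomputable def ptEquiv {T : Scheme.{u}} {i : ι} (x : T ⟶ U i) :
    Lifts (L.Zo (α i)) (x ≫ g i) ≃ Lifts (D'.obj i) x where
  toFun r := lp L (x ≫ g i) r (𝟙 T) ⟨i, rfl⟩ x (self_cond x)
  invFun p := ⟨p.1 ≫ L.ch (α i) ⟨i, rfl⟩, by
    show (p.1 ≫ L.ch (α i) ⟨i, rfl⟩) ≫ L.zeta (α i) = x ≫ g i
    rw [Category.assoc, L.ch_zeta, ← Category.assoc, p.2, g'_self]⟩
  left_inv r := by
    apply Subtype.ext
    show (lp L (x ≫ g i) r (𝟙 T) ⟨i, rfl⟩ x _).1 ≫ L.ch (α i) ⟨i, rfl⟩ = r.1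
    rw [lp_ch, Category.id_comp]
  right_inv p :=
    (lp_unique L (x ≫ g i) _ (𝟙 T) ⟨i, rfl⟩ x (self_cond x) p
      (by rw [Category.id_comp])).symm

/-- the comparison of points -/
noncomputable def ptE {T : Scheme.{u}} {i : ι} (x : T ⟶ U i) :
    Lifts ((pullDDFamObj w GLU).obj i) x ≃ Lifts (D'.obj i) x :=
  (liftsPullbackEquiv ((GLU).obj (α i)) (g i) x).trans (ptEquiv L x)

lemma ptE_val {T : Scheme.{u}} {i : ι} (x : T ⟶ U i) (p : Lifts ((pullDDFamObj w GLU).obj i) x) :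
    ptE v w L hcov x p = lp L (x ≫ g i)
      (liftsPullbackEquiv ((GLU).obj (α i)) (g i) x p) (𝟙 T) ⟨i, rfl⟩ x (self_cond x) := rfl

/-- the pointwise bijections between the pulled back descended datum and the original datum -/
noncomputable def ptEquivData :
    Groth.Agent.Lib.Seat43.DescYoneda.PtEquiv (pullDDFamObj w GLU) D' where
  e T i x := ptE v w L hcov x
  nat T T' c i x y hy p p' hp := by
    subst hy
    rw [ptE_val, ptE_val]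
    have h1 := lp_nat L (x ≫ g i) (liftsPullbackEquiv ((GLU).obj (α i)) (g i) x p) (𝟙 T)
      ⟨i, rfl⟩ x (self_cond x) c (by rw [Category.comp_id, g'_self, Category.assoc])
    rw [← h1]
    congr 1
    apply lp_congr
    show 𝟙 T' ≫ (p'.1 ≫ pullback.fst _ _) = (c ≫ 𝟙 T) ≫ (p.1 ≫ pullback.fst _ _)
    rw [hp]
    simp
  compat T i i' x₀ x₁ h p := by
    rw [ptE_val, ptE_val]
    have e1 : liftsPullbackEquiv ((GLU).obj (α i')) (g i') x₁ ((pullDDFamObj w GLU).φ x₀ x₁ h p) =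
        tr v w L hcov (x₀ ≫ g i) (x₁ ≫ g i') (pull_compat w x₀ x₁ h)
          (liftsPullbackEquiv ((GLU).obj (α i)) (g i) x₀ p) := by
      show liftsPullbackEquiv ((GLU).obj (α i')) (g i') x₁
        ((liftsPullbackEquiv ((GLU).obj (α i')) (g i') x₁).symm _) = _
      rw [Equiv.apply_symm_apply]
      rfl
    rw [e1]
    symm
    refine lp_unique L (x₁ ≫ g i') _ (𝟙 T) ⟨i', rfl⟩ x₁ (self_cond x₁) _ ?_
    rw [tr_spec v w L hcov (x₀ ≫ g i) (x₁ ≫ g i') (pull_compat w x₀ x₁ h) _ (𝟙 T)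
      ⟨i, rfl⟩ x₀ (self_cond x₀) ⟨i', rfl⟩ x₁ (self_cond x₁)]
    rfl

/-- the pulled back descended datum is isomorphic to the original datum -/
noncomputable def pullGluedIso : (pullDDFam w).obj GLU ≅ D' :=
  (ptEquivData v w L hcov).toIso

end Groth.Agent.Lib.Seat58.DescTwoStep
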