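import Mathlib.RingTheory.Norm.Transitivity
import Mathlib.FieldTheory.Minpoly.IsIntegrallyClosed
import Mathlib.RingTheory.IntegralClosure.IntegralRestrict

/-!
# The norm of an integral element over an integrally closed domain (helper58)

`exists_norm_dvd`: `A` an integrally closed domain with fraction field `K`, `B` a domain over `A`
embedded in a field `L` finite over `K`; for `b : B` integral over `A`, the norm `N_{L/K}(b)` is (the image of)
an element `a : A`, and `b ∣ a` in `B`.  (No normality assumption on `B`.)
-/

set_option autoImplicit false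

namespace Groth.Agent.Lib.Seat58.NormAlg

open Polynomial IntermediateField

variable {A B K L : Type*} [CommRing A] [IsDomain A] [IsIntegrallyClosed A] [CommRing B]
  [Algebra A B] [Field K] [Field L] [Algebra A K] [IsFractionRing A K] [Algebra B L] [Algebra K L]
  [Algebra A L] [IsScalarTower A K L] [IsScalarTower A B L] [FiniteDimensional K L]

theorem exists_norm_dvd (hBL : Function.Injective (algebraMap B L)) (b : B) (hb : IsIntegral A b) :
    ∃ a : A, algebraMap A K a = Algebra.norm K (algebraMap B L b) ∧ b ∣ algebraMap A B a := by
  set x := algebraMap B L b with hxdef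
  have hx : IsIntegral A x := hb.map (IsScalarTower.toAlgHom A B L)
  have hmin : minpoly K x = (minpoly A x).map (algebraMap A K) :=
    minpoly.isIntegrallyClosed_eq_field_fractions' K hx
  have hminb : minpoly A x = minpoly A b := minpoly.algebraMap_eq hBL b
  have hxK : IsIntegral K x := hx.tower_top
  set n := (minpoly K x).natDegree with hn
  set k := Module.finrank K⟮x⟯ L with hk
  set c := (minpoly A b).coeff 0 with hc
  have h1 : Algebra.norm K (AdjoinSimple.gen K x) = (-1) ^ n * (minpoly K x).coeff 0 := by
    rw [← adjoin.powerBasis_gen hxK, Algebra.PowerBasis.norm_gen_eq_coeff_zero_minpoly,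
      adjoin.powerBasis_gen hxK, minpoly_gen, adjoin.powerBasis_dim]
  have hkpos : 0 < k := Module.finrank_pos
  refine ⟨((-1) ^ n * c) ^ k, ?_, ?_⟩
  · rw [Algebra.norm_eq_norm_adjoin K x, h1, hmin, hminb, coeff_map]
    simp only [map_pow, map_mul, map_neg, map_one]
    rfl
  · have h2 : b ∣ algebraMap A B c := by
      have h3 := minpoly.aeval A b
      rw [← divX_mul_X_add (minpoly A b)] at h3
      simp only [map_add, map_mul, aeval_X, aeval_C] at h3
      refine ⟨-(aeval b (minpoly A b).divX), ?_⟩
      rw [hc]
      linear_combination h3
    rw [map_pow, map_mul]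
    exact Dvd.dvd.trans (Dvd.dvd.mul_left h2 _) (dvd_pow_self _ hkpos.ne')

end Groth.Agent.Lib.Seat58.NormAlg
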