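import Groth.Prelude.Def_Fitting
import Groth.Prelude.Def_Pi1
import Groth.Agent.Lib.Seat58NormAlg
import Mathlib.AlgebraicGeometry.FunctionField
import Mathlib.AlgebraicGeometry.Morphisms.Finite
import Mathlib.RingTheory.LocalProperties.IntegrallyClosed
import Mathlib.RingTheory.Algebraic.Integral
import Mathlib.RingTheory.Localization.Finiteness

/-!
# The norm of a finite surjective morphism onto a normal integral scheme (helper58)

`π : X ⟶ Y` finite surjective, `X`, `Y` integral, `Y` normal.  The field norm `N_{K(X)/K(Y)}` restricts to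
multiplicative maps `Γ(X, π⁻¹U) → Γ(Y, U)`, a norm of degree `[K(X):K(Y)]` in the sense of `Nrm.NormOfDegree`.
-/

set_option autoImplicit false
set_option linter.style.haveILetI false
set_option backward.isDefEq.respectTransparency false
set_option backward.isDefEq.respectTransparency.types false

universe u
open CategoryTheory CategoryTheory.Limits AlgebraicGeometry TopologicalSpace Opposite

namespace Groth.Agent.Lib.Seat58.NormNormal

variable {X Y : Scheme.{u}} (π : X ⟶ Y) [IsIntegral X] [IsIntegral Y]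

lemma map_genericPoint [Surjective π] : π (genericPoint X) = genericPoint Y := by
  apply ((genericPoint_spec Y).eq _).symm
  have := (genericPoint_spec X).image π.continuous
  rwa [Set.image_univ, π.surjective.range_eq, closure_univ] at this

/-- sections of a normal integral scheme over a nonempty affine open are integrally closed -/
theorem isIntegrallyClosed_sections (hY : Pi1.IsNormalScheme Y)
    (W : Y.Opens) (hW : IsAffineOpen W) [Nonempty W] :
    IsIntegrallyClosed Γ(Y, W) := by
  apply IsIntegrallyClosed.of_localization_maximal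
  intro p _ _
  let y : PrimeSpectrum Γ(Y, W) := ⟨p, inferInstance⟩
  have hy : hW.fromSpec y ∈ (W : Set Y) := by
    rw [← hW.range_fromSpec]; exact ⟨y, rfl⟩
  letI := TopCat.Presheaf.algebra_section_stalk Y.presheaf ⟨hW.fromSpec y, hy⟩
  haveI : IsLocalization p.primeCompl (Y.presheaf.stalk (hW.fromSpec y)) :=
    hW.isLocalization_stalk' y hy
  let e : Localization.AtPrime p ≃ₐ[Γ(Y, W)] Y.presheaf.stalk (hW.fromSpec y) :=
    IsLocalization.algEquiv p.primeCompl _ _
  haveI := (hY (hW.fromSpec y)).2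
  exact IsIntegrallyClosed.of_equiv e.symm.toRingEquiv

section Dominant

variable (hdom : π (genericPoint X) = genericPoint Y)

/-- The map of function fields induced by a dominant morphism. -/
noncomputable def φ : Y.functionField ⟶ X.functionField :=
  Y.presheaf.stalkSpecializes (specializes_of_eq hdom) ≫ π.stalkMap (genericPoint X)

include hdom in
lemma mem_preimage (U : Y.Opens) (hη : genericPoint Y ∈ U) : genericPoint X ∈ π ⁻¹ᵁ U := by
  change π (genericPoint X) ∈ U
  rw [hdom]; exact hη

lemma germ_φ (U : Y.Opens) (hη : genericPoint Y ∈ U) :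
    Y.presheaf.germ U _ hη ≫ φ π hdom =
      π.app U ≫ X.presheaf.germ (π ⁻¹ᵁ U) (genericPoint X) (mem_preimage π hdom U hη) := by
  rw [φ, ← Category.assoc, TopCat.Presheaf.germ_stalkSpecializes, Scheme.Hom.germ_stalkMap]

lemma germ_φ_apply (U : Y.Opens) (hη : genericPoint Y ∈ U) (g : Γ(Y, U)) :
    (φ π hdom).hom (Y.presheaf.germ U _ hη g) =
      X.presheaf.germ (π ⁻¹ᵁ U) (genericPoint X) (mem_preimage π hdom U hη) (π.app U g) := by
  have := congrArg (fun f => f.hom g) (germ_φ π hdom U hη)
  simpa using this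

/-- The function field of `X` as an algebra over that of `Y`. -/
noncomputable abbrev algKL : Algebra Y.functionField X.functionField := (φ π hdom).hom.toAlgebra

/-- The field norm. -/
noncomputable def nm : X.functionField →* Y.functionField :=
  letI := algKL π hdom
  Algebra.norm Y.functionField

/-- The degree. -/
noncomputable def deg : ℕ :=
  letI := algKL π hdom
  Module.finrank Y.functionField X.functionField

lemma nm_φ (g : Y.functionField) : nm π hdom ((φ π hdom).hom g) = g ^ deg π hdom := by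
  letI := algKL π hdom
  exact Algebra.norm_algebraMap g

/-- `t` is the norm of `s` (tested at the generic point). -/
def IsNm (U : Y.Opens) (s : Γ(X, π ⁻¹ᵁ U)) (t : Γ(Y, U)) : Prop :=
  ∀ hη : genericPoint Y ∈ U, Y.presheaf.germ U _ hη t =
    nm π hdom (X.presheaf.germ (π ⁻¹ᵁ U) _ (mem_preimage π hdom U hη) s)

variable {π hdom}

lemma mem_of_ne_bot {U : Y.Opens} (h : U ≠ ⊥) : genericPoint Y ∈ U := by
  refine ((genericPoint_spec Y).mem_open_set_iff U.isOpen).mpr ?_
  rw [Set.univ_inter]
  by_contra hne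
  apply h
  ext x
  simp only [Opens.coe_bot, Set.mem_empty_iff_false, iff_false]
  exact fun hx => hne ⟨x, hx⟩

lemma IsNm.unique {U : Y.Opens} {s : Γ(X, π ⁻¹ᵁ U)} {t t' : Γ(Y, U)}
    (h : IsNm π hdom U s t) (h' : IsNm π hdom U s t') : t = t' := by
  by_cases hU : U = ⊥
  · subst hU
    exact Subsingleton.elim _ _
  · have hη := mem_of_ne_bot hU
    apply germ_injective_of_isIntegral Y _ hη
    rw [h hη, h' hη]

lemma IsNm.res {U V : Y.Opens} (i : V ⟶ U) {s : Γ(X, π ⁻¹ᵁ U)} {t : Γ(Y, U)}
    (h : IsNm π hdom U s t) :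
    IsNm π hdom V (X.presheaf.map ((Opens.map π.base).map i).op s) (Y.presheaf.map i.op t) := by
  intro hη
  have hηU : genericPoint Y ∈ U := i.le hη
  rw [TopCat.Presheaf.germ_res_apply, h hηU]
  congr 1
  exact (TopCat.Presheaf.germ_res_apply X.presheaf ((Opens.map π.base).map i) _ _ s).symm

lemma IsNm.one (U : Y.Opens) : IsNm π hdom U 1 1 := by
  intro hη
  simp

lemma IsNm.mul {U : Y.Opens} {s s' : Γ(X, π ⁻¹ᵁ U)} {t t' : Γ(Y, U)}
    (h : IsNm π hdom U s t) (h' : IsNm π hdom U s' t') : IsNm π hdom U (s * s') (t * t') := by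
  intro hη
  simp [h hη, h' hη]

lemma isNm_app (U : Y.Opens) (g : Γ(Y, U)) : IsNm π hdom U (π.app U g) (g ^ deg π hdom) := by
  intro hη
  rw [← germ_φ_apply π hdom U hη g, nm_φ, map_pow]

lemma IsNm.res' {U V : Y.Opens} (hVU : V ≤ U) {s : Γ(X, π ⁻¹ᵁ U)} {t : Γ(Y, U)}
    (h : IsNm π hdom U s t) (s' : Γ(X, π ⁻¹ᵁ V))
    (hs' : s' = X.presheaf.map (homOfLE (π.preimage_mono hVU)).op s) (t' : Γ(Y, V))
    (ht' : t' = Y.presheaf.map (homOfLE hVU).op t) : IsNm π hdom V s' t' := by
  subst hs' ht'
  exact h.res (homOfLE hVU)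

variable (π hdom)

section Affine

variable [IsFinite π]

/-- On an affine open containing the generic point, the field norm of a section is a section, and
`s` divides (the pullback of) its norm. -/
theorem exists_isNm_affine (hY : Pi1.IsNormalScheme Y)
    (hfin : letI := algKL π hdom; FiniteDimensional Y.functionField X.functionField)
    (V : Y.Opens) (hV : IsAffineOpen V) (hη : genericPoint Y ∈ V) (s : Γ(X, π ⁻¹ᵁ V)) :
    ∃ t : Γ(Y, V), IsNm π hdom V s t ∧ ∃ c : Γ(X, π ⁻¹ᵁ V), π.app V t = s * c := by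
  haveI : Nonempty V := ⟨⟨_, hη⟩⟩
  haveI : Nonempty (π ⁻¹ᵁ V) := ⟨⟨_, mem_preimage π hdom V hη⟩⟩
  letI aAB : Algebra Γ(Y, V) Γ(X, π ⁻¹ᵁ V) := (π.app V).hom.toAlgebra
  letI aKL := algKL π hdom
  letI aAL : Algebra Γ(Y, V) X.functionField :=
    ((algebraMap Y.functionField X.functionField).comp
      (algebraMap Γ(Y, V) Y.functionField)).toAlgebra
  haveI : IsScalarTower Γ(Y, V) Y.functionField X.functionField :=
    IsScalarTower.of_algebraMap_eq' rfl
  haveI : IsScalarTower Γ(Y, V) Γ(X, π ⁻¹ᵁ V) X.functionField :=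
    IsScalarTower.of_algebraMap_eq' (by
      ext g
      exact germ_φ_apply π hdom V hη g)
  haveI := functionField_isFractionRing_of_isAffineOpen Y V hV
  haveI : IsDomain Γ(Y, V) := inferInstance
  haveI := isIntegrallyClosed_sections hY V hV
  have hBL : Function.Injective (algebraMap Γ(X, π ⁻¹ᵁ V) X.functionField) :=
    X.germToFunctionField_injective _
  have hb : IsIntegral Γ(Y, V) s := (π.finite_app V hV).to_isIntegral s
  haveI : FiniteDimensional Y.functionField X.functionField := hfin
  obtain ⟨a, ha, c, hc⟩ := NormAlg.exists_norm_dvd (K := Y.functionField) hBL s hb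
  exact ⟨a, fun _ => ha, c, hc⟩

theorem finiteDimensional :
    letI := algKL π hdom; FiniteDimensional Y.functionField X.functionField := by
  obtain ⟨_, ⟨V, hV, rfl⟩, hη, -⟩ := Y.isBasis_affineOpens.exists_subset_of_mem_open
    (Set.mem_univ (genericPoint Y)) isOpen_univ
  haveI : Nonempty V := ⟨⟨_, hη⟩⟩
  haveI : Nonempty (π ⁻¹ᵁ V) := ⟨⟨_, mem_preimage π hdom V hη⟩⟩
  letI aAB : Algebra Γ(Y, V) Γ(X, π ⁻¹ᵁ V) := (π.app V).hom.toAlgebra
  letI aKL := algKL π hdom
  letI aAL : Algebra Γ(Y, V) X.functionField :=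
    ((algebraMap Y.functionField X.functionField).comp
      (algebraMap Γ(Y, V) Y.functionField)).toAlgebra
  haveI : IsScalarTower Γ(Y, V) Y.functionField X.functionField :=
    IsScalarTower.of_algebraMap_eq' rfl
  haveI : IsScalarTower Γ(Y, V) Γ(X, π ⁻¹ᵁ V) X.functionField :=
    IsScalarTower.of_algebraMap_eq' (by
      ext g
      exact germ_φ_apply π hdom V hη g)
  haveI := functionField_isFractionRing_of_isAffineOpen Y V hV
  haveI := functionField_isFractionRing_of_isAffineOpen X (π ⁻¹ᵁ V) (hV.preimage π)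
  haveI : IsDomain Γ(Y, V) := inferInstance
  haveI : IsDomain Γ(X, π ⁻¹ᵁ V) := inferInstance
  haveI : Module.Finite Γ(Y, V) Γ(X, π ⁻¹ᵁ V) := π.finite_app V hV
  have hinj : Function.Injective (algebraMap Γ(Y, V) Γ(X, π ⁻¹ᵁ V)) := by
    have h1 : Function.Injective (algebraMap Γ(Y, V) X.functionField) :=
      (algebraMap Y.functionField X.functionField).injective.comp
        (Y.germToFunctionField_injective V)
    rw [IsScalarTower.algebraMap_eq Γ(Y, V) Γ(X, π ⁻¹ᵁ V) X.functionField] at h1
    exact Function.Injective.of_comp h1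
  haveI : FaithfulSMul Γ(Y, V) Γ(X, π ⁻¹ᵁ V) := (faithfulSMul_iff_algebraMap_injective _ _).mpr hinj
  haveI : Algebra.IsAlgebraic Γ(Y, V) Γ(X, π ⁻¹ᵁ V) := Algebra.IsIntegral.isAlgebraic
  exact Module.Finite.of_isLocalization Γ(Y, V) Γ(X, π ⁻¹ᵁ V) (nonZeroDivisors Γ(Y, V))

/-- existence of the norm of a section over an arbitrary open, by gluing -/
theorem exists_isNm (hY : Pi1.IsNormalScheme Y) (U : Y.Opens) (s : Γ(X, π ⁻¹ᵁ U)) :
    ∃ t : Γ(Y, U), IsNm π hdom U s t := by
  classical
  have hfin := finiteDimensional π hdom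
  let ι := {V : Y.affineOpens // V.1 ≤ U}
  let W : ι → Y.Opens := fun V => V.1.1
  have hcover : U ≤ iSup W := by
    intro y hy
    obtain ⟨_, ⟨V, hV, rfl⟩, hyV, hVU⟩ :=
      Y.isBasis_affineOpens.exists_subset_of_mem_open hy U.isOpen
    exact Opens.mem_iSup.mpr ⟨⟨⟨V, hV⟩, hVU⟩, hyV⟩
  have hloc : ∀ V : ι, ∃ t : Γ(Y, W V),
      IsNm π hdom (W V) (X.presheaf.map (homOfLE (π.preimage_mono V.2)).op s) t := by
    intro V
    by_cases hη : genericPoint Y ∈ W V
    · obtain ⟨t, ht, -⟩ := exists_isNm_affine π hdom hY hfin (W V) V.1.2 hη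
        (X.presheaf.map (homOfLE (π.preimage_mono V.2)).op s)
      exact ⟨t, ht⟩
    · exact ⟨0, fun h => absurd h hη⟩
  choose sf hsf using hloc
  have hcompat : TopCat.Presheaf.IsCompatible Y.presheaf W sf := by
    intro V V'
    have hle : W V ⊓ W V' ≤ U := inf_le_left.trans V.2
    refine IsNm.unique (s := X.presheaf.map (homOfLE (π.preimage_mono hle)).op s)
      ((hsf V).res' inf_le_left _ ?_ _ rfl) ((hsf V').res' inf_le_right _ ?_ _ rfl)
    · rw [← CommRingCat.comp_apply, ← Functor.map_comp]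
      rfl
    · rw [← CommRingCat.comp_apply, ← Functor.map_comp]
      rfl
  obtain ⟨t, ht, -⟩ := Y.sheaf.existsUnique_gluing' W U (fun V => homOfLE V.2) hcover sf hcompat
  refine ⟨t, fun hη => ?_⟩
  obtain ⟨_, ⟨V, hV, rfl⟩, hηV, hVU⟩ :=
    Y.isBasis_affineOpens.exists_subset_of_mem_open hη U.isOpen
  let Vi : ι := ⟨⟨V, hV⟩, hVU⟩
  have h1 := hsf Vi hηV
  rw [← ht Vi] at h1
  erw [TopCat.Presheaf.germ_res_apply] at h1
  rw [h1]
  congr 1
  exact TopCat.Presheaf.germ_res_apply X.presheaf _ _ _ s

lemma one_le_deg : 1 ≤ deg π hdom := by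
  letI := algKL π hdom
  haveI := finiteDimensional π hdom
  exact Module.finrank_pos

/-- The norm of degree `[K(X):K(Y)]`. -/
noncomputable def normOfDegree (hY : Pi1.IsNormalScheme Y) :
    Nrm.NormOfDegree π (deg π hdom) where
  one_le := one_le_deg π hdom
  norm U :=
    { toFun := fun s => (exists_isNm π hdom hY U s).choose
      map_one' := IsNm.unique (exists_isNm π hdom hY U 1).choose_spec (IsNm.one U)
      map_mul' := fun s s' => IsNm.unique (exists_isNm π hdom hY U (s * s')).choose_spec
        (IsNm.mul (exists_isNm π hdom hY U s).choose_spec (exists_isNm π hdom hY U s').choose_spec) }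
  norm_res {U V} i s := IsNm.unique ((exists_isNm π hdom hY U s).choose_spec.res i)
    (exists_isNm π hdom hY V _).choose_spec
  norm_app U g := IsNm.unique (exists_isNm π hdom hY U _).choose_spec (isNm_app U g)
  norm_mem U s x hx hs := by
    have hfin := finiteDimensional π hdom
    obtain ⟨_, ⟨V, hV, rfl⟩, hxV, hVU⟩ :=
      Y.isBasis_affineOpens.exists_subset_of_mem_open hx U.isOpen
    have hη : genericPoint Y ∈ V := mem_of_ne_bot (by rintro rfl; exact hxV)
    obtain ⟨t', ht', c, hc⟩ := exists_isNm_affine π hdom hY hfin V hV hη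
      (X.presheaf.map (homOfLE (π.preimage_mono hVU)).op s)
    have h1 : Y.presheaf.map (homOfLE hVU).op (exists_isNm π hdom hY U s).choose = t' :=
      IsNm.unique ((exists_isNm π hdom hY U s).choose_spec.res' hVU _ rfl _ rfl) ht'
    change Y.presheaf.germ U (π x) hx (exists_isNm π hdom hY U s).choose ∈ _
    have h2 : Y.presheaf.germ U (π x) hx (exists_isNm π hdom hY U s).choose =
        Y.presheaf.germ V (π x) hxV t' := by
      rw [← h1]
      exact (TopCat.Presheaf.germ_res_apply Y.presheaf (homOfLE hVU) _ hxV _).symm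
    rw [h2, IsLocalRing.mem_maximalIdeal, mem_nonunits_iff]
    intro hu
    have h3 := hu.map (π.stalkMap x).hom
    rw [Scheme.Hom.germ_stalkMap_apply, hc, map_mul] at h3
    have h4 := isUnit_of_mul_isUnit_left h3
    rw [TopCat.Presheaf.germ_res_apply] at h4
    exact ((IsLocalRing.mem_maximalIdeal _).mp hs) h4

end Affine

end Dominant

/-- **Norms exist** for finite surjective morphisms of integral schemes with normal target. -/
theorem hasNorm [IsFinite π] [Surjective π] (hY : Pi1.IsNormalScheme Y) :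
    ∃ d : ℕ, Nrm.HasNorm π d :=
  ⟨_, ⟨normOfDegree π (map_genericPoint π) hY⟩⟩

end Groth.Agent.Lib.Seat58.NormNormal
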