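import Groth.Agent.Lib.Seat58NormQA
import Groth.Agent.Lib.Seat58NormNormal
import Groth.Agent.S8878
import Mathlib.AlgebraicGeometry.Morphisms.FlatRank
import Mathlib.AlgebraicGeometry.IdealSheaf.Functorial

/-!
# Quasi-affineness descends along finite surjective covers (helper58)
-/

set_option autoImplicit false
set_option linter.style.haveILetI false
set_option backward.isDefEq.respectTransparency false
set_option backward.isDefEq.respectTransparency.types false

universe u
open CategoryTheory CategoryTheory.Limits AlgebraicGeometry TopologicalSpace Opposite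

namespace Groth.Agent.Lib.Seat58.NormCover

open Groth.Agent.Lib.Seat58

variable {X Y : Scheme.{u}}

/-- If `U` is an open and closed subset of `Y` which is quasi-affine as a scheme, then every point of
`U` has an affine neighbourhood of the form `Y_f` with `f` a global function. -/
lemma exists_basicOpen_of_clopen (Y : Scheme.{u}) (U : Y.Opens) (hU : IsClosed (U : Set Y))
    [U.toScheme.IsQuasiAffine] (y : Y) (hy : y ∈ U) :
    ∃ f : Γ(Y, ⊤), IsAffineOpen (Y.basicOpen f) ∧ y ∈ Y.basicOpen f := by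
  obtain ⟨_, ⟨_, ⟨r, hr, rfl⟩, rfl⟩, hyr, -⟩ :=
    (Scheme.IsQuasiAffine.isBasis_basicOpen U.toScheme).exists_subset_of_mem_open
      (Set.mem_univ (⟨y, hy⟩ : U.toScheme)) isOpen_univ
  let V₀ : Y.Opens := U.ι ''ᵁ ⊤
  have hV₀ : V₀ = U := U.ι_image_top
  let r₀ : Γ(Y, V₀) := r
  let U' : Y.Opens := ⟨(U : Set Y)ᶜ, hU.isOpen_compl⟩
  let W : ULift.{u} Bool → Y.Opens := fun b => match b with
    | ⟨true⟩ => V₀
    | ⟨false⟩ => U'
  let sf : ∀ b, Γ(Y, W b) := fun b => match b with
    | ⟨true⟩ => r₀
    | ⟨false⟩ => 0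
  have hdisj : V₀ ⊓ U' = ⊥ := by
    rw [hV₀]
    ext z
    simp [U']
  have hdisj' : U' ⊓ V₀ = ⊥ := by rw [inf_comm]; exact hdisj
  have hcompat : TopCat.Presheaf.IsCompatible Y.presheaf W sf := by
    rintro ⟨_ | _⟩ ⟨_ | _⟩
    · rfl
    · have : Subsingleton Γ(Y, U' ⊓ V₀) := by rw [hdisj']; infer_instance
      exact Subsingleton.elim _ _
    · have : Subsingleton Γ(Y, V₀ ⊓ U') := by rw [hdisj]; infer_instance
      exact Subsingleton.elim _ _
    · rfl
  have hcover : (⊤ : Y.Opens) ≤ iSup W := by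
    intro z _
    by_cases hz : z ∈ U
    · exact Opens.mem_iSup.mpr ⟨⟨true⟩, show z ∈ V₀ from hV₀.symm ▸ hz⟩
    · exact Opens.mem_iSup.mpr ⟨⟨false⟩, hz⟩
  obtain ⟨f, hf, -⟩ := Y.sheaf.existsUnique_gluing' W ⊤ (fun b => homOfLE le_top) hcover sf hcompat
  have h1 : Y.presheaf.map (homOfLE (le_top : V₀ ≤ ⊤)).op f = r₀ := hf ⟨true⟩
  have h2 : Y.presheaf.map (homOfLE (le_top : U' ≤ ⊤)).op f = 0 := hf ⟨false⟩
  have hb : Y.basicOpen f = Y.basicOpen r₀ := by
    have e1 := Y.basicOpen_res f (homOfLE (le_top : V₀ ≤ ⊤)).op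
    have e2 := Y.basicOpen_res f (homOfLE (le_top : U' ≤ ⊤)).op
    rw [h1] at e1
    rw [h2, Y.basicOpen_zero] at e2
    rw [e1]
    apply le_antisymm
    · intro z hz
      refine ⟨?_, hz⟩
      by_contra hzV
      have : z ∈ U' ⊓ Y.basicOpen f := ⟨fun h => hzV (hV₀ ▸ h), hz⟩
      rw [← e2] at this
      exact this
    · exact inf_le_right
  have hb' : Y.basicOpen f = U.ι ''ᵁ U.toScheme.basicOpen r := by
    rw [hb, U.ι_image_basicOpen r]
  refine ⟨f, ?_, ?_⟩
  · rw [hb']
    exact hr.image_of_isOpenImmersion U.ι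
  · rw [hb']
    exact ⟨⟨y, hy⟩, hyr, rfl⟩

/-- Case 1: finite locally free surjective. -/
theorem isQuasiAffine_of_finLocFree (π : X ⟶ Y) [IsFinite π] [Surjective π]
    (hX : X.IsQuasiAffine) (h : Mor2.IsFinLocFree π) : Y.IsQuasiAffine := by
  obtain ⟨_, hflat, hlfp⟩ := h
  haveI := hflat
  haveI := hlfp
  have : CompactSpace Y := by
    constructor
    rw [← π.surjective.range_eq]
    exact isCompact_range π.continuous
  refine Scheme.IsQuasiAffine.of_forall_exists_mem_basicOpen Y fun y => ?_
  let d := π.finrank y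
  have hlc := π.isLocallyConstant_finrank
  let U : Y.Opens := ⟨π.finrank ⁻¹' {d}, hlc.isOpen_fiber d⟩
  have hUc : IsClosed (U : Set Y) := hlc.isClosed_fiber d
  have hdeg : Mor2.IsFinLocFreeOfDeg d (π ∣_ U) := by
    refine ⟨⟨inferInstance, inferInstance, inferInstance⟩, fun y' => ?_⟩
    rw [Scheme.Hom.finrank_of_isPullback _ _ _ _ (isPullback_morphismRestrict π U).flip]
    exact y'.2
  have hd : 1 ≤ d := (Scheme.Hom.one_le_finrank_iff_surjective π).mpr inferInstance y
  have hN := Groth.Agent.S8878.result (π ∣_ U) d hd hdeg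
  haveI : CompactSpace (π ⁻¹ᵁ U).toScheme :=
    isCompact_iff_compactSpace.mp ((hUc.preimage π.continuous).isCompact)
  haveI : (π ⁻¹ᵁ U).toScheme.IsQuasiAffine := .of_isImmersion (π ⁻¹ᵁ U).ι
  haveI : U.toScheme.IsQuasiAffine := NormQA.isQuasiAffine_of_norm (π ∣_ U) hN inferInstance
  exact exists_basicOpen_of_clopen Y U hUc y rfl

open Scheme.IdealSheafData in
theorem isReduced_subscheme_vanishingIdeal (Z : Closeds X) :
    IsReduced (vanishingIdeal Z).subscheme := by
  have : ∀ U : (vanishingIdeal Z).subschemeCover.openCover.I₀,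
      IsReduced ((vanishingIdeal Z).subschemeCover.openCover.X U) := by
    intro (U : X.affineOpens)
    have : _root_.IsReduced (Γ(X, U) ⧸ (vanishingIdeal Z).ideal U) := by
      rw [← Ideal.isRadical_iff_quotient_reduced]
      exact PrimeSpectrum.isRadical_vanishingIdeal _
    change IsReduced (Spec (CommRingCat.of (Γ(X, U) ⧸ (vanishingIdeal Z).ideal U)))
    infer_instance
  exact IsReduced.of_openCover _ (vanishingIdeal Z).subschemeCover.openCover

/-- Case 2: normal integral target. -/
theorem isQuasiAffine_of_normal (π : X ⟶ Y) [IsFinite π] [Surjective π]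
    (hX : X.IsQuasiAffine) [IsIntegral Y] (hY : Pi1.IsNormalScheme Y) : Y.IsQuasiAffine := by
  obtain ⟨x, hx⟩ := π.surjective (genericPoint Y)
  let Z : Closeds X := ⟨closure {x}, isClosed_closure⟩
  let I := Scheme.IdealSheafData.vanishingIdeal Z
  have hrange : Set.range I.subschemeι = closure {x} := by
    rw [Scheme.IdealSheafData.range_subschemeι, Scheme.IdealSheafData.coe_support_vanishingIdeal]
    rfl
  haveI : IsReduced I.subscheme := isReduced_subscheme_vanishingIdeal Z
  haveI : IrreducibleSpace I.subscheme := by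
    have hirr : IsIrreducible (closure ({x} : Set X)) := isIrreducible_singleton.closure
    haveI : IrreducibleSpace (Set.range I.subschemeι) := by
      rw [hrange]; exact Subtype.irreducibleSpace hirr
    exact (I.subschemeι.isEmbedding.toHomeomorph).irreducibleSpace_iff.mpr inferInstance
  haveI : IsIntegral I.subscheme := isIntegral_of_irreducibleSpace_of_isReduced _
  haveI : Surjective (I.subschemeι ≫ π) := by
    constructor
    have hcl : IsClosed (Set.range (I.subschemeι ≫ π)) :=
      (I.subschemeι ≫ π).isClosedMap.isClosed_range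
    have hmem : genericPoint Y ∈ Set.range (I.subschemeι ≫ π) := by
      have : x ∈ Set.range I.subschemeι := by rw [hrange]; exact subset_closure rfl
      obtain ⟨x', hx'⟩ := this
      refine ⟨x', ?_⟩
      rw [Scheme.Hom.comp_apply, hx', hx]
    intro y
    have h1 : closure {genericPoint Y} ⊆ Set.range (I.subschemeι ≫ π) :=
      hcl.closure_subset_iff.mpr (Set.singleton_subset_iff.mpr hmem)
    rw [(genericPoint_spec Y).def] at h1
    exact h1 (Set.mem_univ y)
  haveI : CompactSpace I.subscheme := QuasiCompact.compactSpace_of_compactSpace I.subschemeι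
  haveI : I.subscheme.IsQuasiAffine := .of_isImmersion I.subschemeι
  obtain ⟨d, hN⟩ := NormNormal.hasNorm (I.subschemeι ≫ π) hY
  exact NormQA.isQuasiAffine_of_norm (I.subschemeι ≫ π) hN inferInstance

end Groth.Agent.Lib.Seat58.NormCover
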