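import Groth.Prelude.Def_Fitting
import Mathlib.AlgebraicGeometry.QuasiAffine
import Mathlib.AlgebraicGeometry.Morphisms.QuasiFinite
import Mathlib.AlgebraicGeometry.Morphisms.Finite
import Mathlib.RingTheory.Ideal.Operations

/-!
# Norms for finite morphisms and quasi-affineness (helper58)

* `exists_basicOpen_of_finite`: on a quasi-affine scheme, a finite set of points inside an open `W`
  lies in some `X_s ⊆ W` for a global function `s` (prime avoidance).
* `surjective_of_norm`: a finite morphism carrying a norm of degree `d ≥ 1` is surjective.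
* `mem_basicOpen_norm`, `preimage_basicOpen_norm_le`.
* `isQuasiAffine_of_norm`: finite + norm + source quasi-affine ⇒ target quasi-affine.
-/

set_option autoImplicit false
set_option backward.isDefEq.respectTransparency false
set_option backward.isDefEq.respectTransparency.types false

universe u
open CategoryTheory CategoryTheory.Limits AlgebraicGeometry TopologicalSpace Opposite

namespace Groth.Agent.Lib.Seat58.NormQA

variable {X Y : Scheme.{u}}

/-- Prime avoidance on a quasi-affine scheme. -/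
lemma exists_basicOpen_of_finite [X.IsQuasiAffine] (W : X.Opens) (F : Set X) (hF : F.Finite)
    (hFW : F ⊆ W) :
    ∃ s : Γ(X, ⊤), F ⊆ X.basicOpen s ∧ X.basicOpen s ≤ W := by
  classical
  rcases F.eq_empty_or_nonempty with rfl | ⟨x₀, -⟩
  · exact ⟨0, Set.empty_subset _, by rw [X.basicOpen_zero]; exact bot_le⟩
  let j := X.toSpecΓ
  -- the closed complement of the image of `W`
  let Z : Set (PrimeSpectrum Γ(X, ⊤)) := (SetLike.coe (j ''ᵁ W))ᶜ
  have hZ : IsClosed Z := (j ''ᵁ W).2.isClosed_compl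
  let I : Ideal Γ(X, ⊤) := PrimeSpectrum.vanishingIdeal Z
  have hI : PrimeSpectrum.zeroLocus (I : Set Γ(X, ⊤)) = Z := by
    rw [PrimeSpectrum.zeroLocus_vanishingIdeal_eq_closure, hZ.closure_eq]
  -- prime avoidance
  let p : X → Ideal Γ(X, ⊤) := fun x => PrimeSpectrum.asIdeal (j x)
  have hp : ∀ x, (p x).IsPrime := fun x => PrimeSpectrum.isPrime (j x)
  have key : ¬ ((I : Set Γ(X, ⊤)) ⊆ ⋃ x ∈ (↑hF.toFinset : Set X), (p x : Set _)) := by
    intro hsub
    obtain ⟨x, hx, hIx⟩ := (Ideal.subset_union_prime (s := hF.toFinset)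
      (f := p) x₀ x₀ (fun x _ _ _ => hp x)).mp hsub
    have hxF : x ∈ F := by simpa using hx
    have : j x ∈ PrimeSpectrum.zeroLocus (I : Set Γ(X, ⊤)) := hIx
    rw [hI] at this
    exact this ⟨x, hFW hxF, rfl⟩
  rw [Set.not_subset] at key
  obtain ⟨s, hsI, hs⟩ := key
  refine ⟨s, fun x hx => ?_, fun x hx => ?_⟩
  · rw [← X.toSpecΓ_preimage_basicOpen]
    change j x ∈ PrimeSpectrum.basicOpen s
    rw [PrimeSpectrum.mem_basicOpen]
    intro h
    apply hs
    simp only [Set.mem_iUnion]
    exact ⟨x, by simpa using hx, h⟩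
  · rw [← X.toSpecΓ_preimage_basicOpen] at hx
    have h1 : j x ∈ PrimeSpectrum.basicOpen s := hx
    rw [PrimeSpectrum.mem_basicOpen] at h1
    by_contra hxW
    apply h1
    have : (j x : PrimeSpectrum Γ(X, ⊤)) ∈ Z := by
      rintro ⟨x', hx', e⟩
      have := j.isEmbedding.injective e
      exact hxW (this ▸ hx')
    rw [← hI] at this
    exact this hsI

variable (π : X ⟶ Y) {d : ℕ} (N : Nrm.NormOfDegree π d)

include N in
/-- A finite (or just closed) morphism with a norm of degree `d ≥ 1` is surjective. -/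
lemma surjective_of_norm (hcl : IsClosedMap π) : Function.Surjective π := by
  intro y
  by_contra hy
  let U : Y.Opens := ⟨(Set.range π)ᶜ, (hcl.isClosed_range).isOpen_compl⟩
  have hU : π ⁻¹ᵁ U = ⊥ := by
    ext x
    simp only [U, Opens.map_coe, Opens.coe_mk, Set.preimage_compl, Set.mem_compl_iff,
      Set.mem_preimage, Set.mem_range, exists_apply_eq_apply, not_true_eq_false, Opens.coe_bot,
      Set.mem_empty_iff_false]
  have h01 : (0 : Γ(X, π ⁻¹ᵁ U)) = 1 := by
    have : Subsingleton Γ(X, π ⁻¹ᵁ U) := by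
      rw [hU]; infer_instance
    exact Subsingleton.elim _ _
  have h1 : N.norm U 1 = 1 := map_one _
  have h0 : N.norm U 0 = 0 := by
    have := N.norm_app U 0
    rw [map_zero, zero_pow (by have := N.one_le; omega)] at this
    exact this
  rw [h01, h1] at h0
  have : U = ⊥ := by
    rw [← Y.basicOpen_one (U := U), h0, Y.basicOpen_zero]
  have hyU : y ∈ U := by
    simpa [U] using fun x hx => hy ⟨x, hx⟩
  rw [this] at hyU
  exact hyU

include N in
/-- If `s` is invertible at all points over `y`, its norm is invertible at `y`. -/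
lemma mem_basicOpen_norm (hcl : IsClosedMap π) (s : Γ(X, π ⁻¹ᵁ ⊤)) (y : Y)
    (hy : π ⁻¹' {y} ⊆ X.basicOpen s) : y ∈ Y.basicOpen (N.norm ⊤ s) := by
  -- an open neighbourhood of `y` whose preimage lies in `X_s`
  let U : Y.Opens := ⟨(π '' ((X.basicOpen s : Set X)ᶜ))ᶜ,
    (hcl _ (X.basicOpen s).2.isClosed_compl).isOpen_compl⟩
  have hyU : y ∈ U := by
    rintro ⟨x, hx, rfl⟩
    exact hx (hy rfl)
  have hU : π ⁻¹ᵁ U ≤ X.basicOpen s := by
    intro x hx
    by_contra hxs
    exact hx ⟨x, hxs, rfl⟩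
  let i : U ⟶ (⊤ : Y.Opens) := homOfLE le_top
  have hres := N.norm_res i s
  -- the restriction of `s` to `π⁻¹U` is a unit
  have hunit : IsUnit (X.presheaf.map ((Opens.map π.base).map i).op s) := by
    have h1 := RingedSpace.isUnit_res_basicOpen X.toRingedSpace s
    have h2 := h1.map (X.presheaf.map (homOfLE hU).op).hom
    have h3 : (X.presheaf.map (homOfLE hU).op).hom
        ((X.presheaf.map (homOfLE (X.basicOpen_le s)).op).hom s) =
        (X.presheaf.map ((Opens.map π.base).map i).op).hom s := by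
      rw [← CommRingCat.comp_apply, ← Functor.map_comp]
      rfl
    rw [← h3]
    exact h2
  have hunit' : IsUnit (N.norm U (X.presheaf.map ((Opens.map π.base).map i).op s)) :=
    hunit.map (N.norm U)
  rw [← hres] at hunit'
  have := Y.basicOpen_of_isUnit hunit'
  rw [Y.basicOpen_res] at this
  have h3 : U ≤ Y.basicOpen (N.norm ⊤ s) := by
    rw [← this]; exact inf_le_right
  exact h3 hyU

include N in
/-- The preimage of the nonvanishing locus of the norm of `s` lies in the nonvanishing locus of `s`. -/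
lemma preimage_basicOpen_norm_le (s : Γ(X, π ⁻¹ᵁ ⊤)) :
    π ⁻¹ᵁ (Y.basicOpen (N.norm ⊤ s)) ≤ X.basicOpen s := by
  intro x hx
  have hx' : π x ∈ Y.basicOpen (N.norm ⊤ s) := hx
  rw [Y.mem_basicOpen _ _ (show π x ∈ (⊤ : Y.Opens) from trivial)] at hx'
  rw [X.mem_basicOpen _ _ (show x ∈ π ⁻¹ᵁ (⊤ : Y.Opens) from trivial)]
  by_contra hnu
  have hmem := N.norm_mem ⊤ s x trivial ((IsLocalRing.mem_maximalIdeal _).mpr hnu)
  exact ((IsLocalRing.mem_maximalIdeal _).mp hmem) hx'

/-- Finite morphism with a norm, quasi-affine source ⇒ quasi-affine target. -/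
theorem isQuasiAffine_of_norm [IsFinite π] (hN : Nrm.HasNorm π d) (hX : X.IsQuasiAffine) :
    Y.IsQuasiAffine := by
  obtain ⟨N⟩ := hN
  have hcl : IsClosedMap π := π.isClosedMap
  have hsurj := surjective_of_norm π N hcl
  have : CompactSpace Y := by
    constructor
    rw [← Set.range_eq_univ.mpr hsurj]
    exact isCompact_range π.continuous
  refine Scheme.IsQuasiAffine.of_forall_exists_mem_basicOpen Y fun y => ?_
  obtain ⟨_, ⟨V, hV : IsAffineOpen V, rfl⟩, hyV, -⟩ :=
    Y.isBasis_affineOpens.exists_subset_of_mem_open (Set.mem_univ y) isOpen_univ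
  obtain ⟨s, hFs, hsW⟩ := exists_basicOpen_of_finite (π ⁻¹ᵁ V) (π ⁻¹' {y})
    (Scheme.Hom.finite_preimage_singleton π y) (by
      intro x hx
      have : π x = y := hx
      change π x ∈ V
      rw [this]; exact hyV)
  let s' : Γ(X, π ⁻¹ᵁ ⊤) := s
  refine ⟨N.norm ⊤ s', ?_, mem_basicOpen_norm π N hcl s' y hFs⟩
  have hle : Y.basicOpen (N.norm ⊤ s') ≤ V := by
    intro y' hy'
    obtain ⟨x', rfl⟩ := hsurj y'
    exact hsW (preimage_basicOpen_norm_le π N s' hy')
  have : Y.basicOpen (N.norm ⊤ s') =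
      Y.basicOpen (Y.presheaf.map (homOfLE (le_top : V ≤ ⊤)).op (N.norm ⊤ s')) := by
    rw [Y.basicOpen_res]
    exact (inf_eq_right.mpr hle).symm
  rw [this]
  exact hV.basicOpen _

end Groth.Agent.Lib.Seat58.NormQA
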