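import Groth.Prelude.Def_Fitting
import Mathlib.AlgebraicGeometry.IdealSheaf.Subscheme
import Mathlib.AlgebraicGeometry.Noetherian
import Mathlib.Algebra.CharP.Lemmas
import Mathlib.RingTheory.Noetherian.Nilpotent

/-!
# The norm of a nilpotent thickening in characteristic `p` (helper58)

`I` an ideal sheaf on a scheme `X` on which `p = 0`, all of whose local sections have vanishing `p^e`-th power
(`e ≥ 1`).  Then `s ↦ (any local lift of s)^(p^e)` is a norm of degree `p^e` for `V(I) ⟶ X`.
-/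

set_option autoImplicit false
set_option linter.style.haveILetI false
set_option backward.isDefEq.respectTransparency false
set_option backward.isDefEq.respectTransparency.types false

universe u
open CategoryTheory CategoryTheory.Limits AlgebraicGeometry TopologicalSpace Opposite

namespace Groth.Agent.Lib.Seat58.NormRed

lemma app_res {X Y : Scheme.{u}} (f : X ⟶ Y) {U V : Y.Opens} (h : V ≤ U) (a : Γ(Y, U)) :
    f.app V (Y.presheaf.map (homOfLE h).op a) =
      X.presheaf.map (homOfLE (f.preimage_mono h)).op (f.app U a) := by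
  exact congrArg (fun g => g.hom a) (f.naturality (homOfLE h).op)

lemma res_res {X : Scheme.{u}} {U V W : X.Opens} (h : V ≤ U) (h' : W ≤ V) (a : Γ(X, U)) :
    X.presheaf.map (homOfLE h').op (X.presheaf.map (homOfLE h).op a) =
      X.presheaf.map (homOfLE (h'.trans h)).op a := by
  rw [← CommRingCat.comp_apply, ← Functor.map_comp]
  rfl

variable {X : Scheme.{u}} (I : X.IdealSheafData) (p e : ℕ)

/-- the affine opens inside `U` cover `U` -/
lemma le_iSup_affine (U : X.Opens) :
    U ≤ ⨆ V : {V : X.affineOpens // V.1 ≤ U}, V.1.1 := by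
  intro y hy
  obtain ⟨_, ⟨V, hV, rfl⟩, hyV, hVU⟩ :=
    X.isBasis_affineOpens.exists_subset_of_mem_open hy U.isOpen
  exact Opens.mem_iSup.mpr ⟨⟨⟨V, hV⟩, hVU⟩, hyV⟩

section

variable (hp : p.Prime) (hpX : (p : Γ(X, ⊤)) = 0)
  (hI : ∀ U : X.affineOpens, ∀ ν ∈ I.ideal U, ν ^ (p ^ e) = 0)

include hpX in
lemma natCast_eq_zero (U : X.Opens) : (p : Γ(X, U)) = 0 := by
  have := congrArg (X.presheaf.map (homOfLE (le_top : U ≤ ⊤)).op).hom hpX
  simpa using this

include hp hpX hI in
/-- two lifts have the same `p^e`-th power -/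
lemma pow_eq_of_app_eq (U : X.affineOpens) (a b : Γ(X, U))
    (h : I.subschemeι.app U a = I.subschemeι.app U b) : a ^ (p ^ e) = b ^ (p ^ e) := by
  have hν : a - b ∈ I.ideal U := by
    rw [← I.ker_subschemeι_app U, RingHom.mem_ker, map_sub]
    exact sub_eq_zero.mpr h
  have hab : a = b + (a - b) := by ring
  obtain ⟨r, hr⟩ := exists_add_pow_prime_pow_eq hp b (a - b) e
  rw [hab, hr, hI U _ hν, natCast_eq_zero p hpX]
  ring

/-- `t` is the norm of `s`: on every affine, `t` is the `p^e`-th power of any lift of `s`. -/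
def IsNm (U : X.Opens) (s : Γ(I.subscheme, I.subschemeι ⁻¹ᵁ U)) (t : Γ(X, U)) : Prop :=
  ∀ (V : X.affineOpens) (hVU : V.1 ≤ U) (a : Γ(X, V)),
    I.subschemeι.app V a =
      I.subscheme.presheaf.map (homOfLE (I.subschemeι.preimage_mono hVU)).op s →
    X.presheaf.map (homOfLE hVU).op t = a ^ (p ^ e)

variable {I p e}

lemma IsNm.unique {U : X.Opens} {s : Γ(I.subscheme, I.subschemeι ⁻¹ᵁ U)} {t t' : Γ(X, U)}
    (h : IsNm I p e U s t) (h' : IsNm I p e U s t') : t = t' := by
  refine X.sheaf.eq_of_locally_eq' (fun V : {V : X.affineOpens // V.1 ≤ U} => V.1.1) U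
    (fun V => homOfLE V.2) (le_iSup_affine U) _ _ fun V => ?_
  obtain ⟨a, ha⟩ := I.subschemeι_app_surjective V.1
    (I.subscheme.presheaf.map (homOfLE (I.subschemeι.preimage_mono V.2)).op s)
  exact (h V.1 V.2 a ha).trans (h' V.1 V.2 a ha).symm

lemma IsNm.res {U V : X.Opens} (hVU : V ≤ U) {s : Γ(I.subscheme, I.subschemeι ⁻¹ᵁ U)}
    {t : Γ(X, U)} (h : IsNm I p e U s t) :
    IsNm I p e V (I.subscheme.presheaf.map (homOfLE (I.subschemeι.preimage_mono hVU)).op s)
      (X.presheaf.map (homOfLE hVU).op t) := by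
  intro W hWV a ha
  rw [res_res] at ha ⊢
  exact h W (hWV.trans hVU) a ha

include hp hpX hI in
lemma isNm_of_lift (U : X.Opens) (s : Γ(I.subscheme, I.subschemeι ⁻¹ᵁ U)) (b : Γ(X, U))
    (hb : I.subschemeι.app U b = s) : IsNm I p e U s (b ^ (p ^ e)) := by
  intro V hVU a ha
  rw [map_pow]
  refine (pow_eq_of_app_eq I p e hp hpX hI V a _ ?_).symm
  rw [ha, app_res, hb]

include hp hpX hI in
theorem exists_isNm (U : X.Opens) (s : Γ(I.subscheme, I.subschemeι ⁻¹ᵁ U)) :
    ∃ t : Γ(X, U), IsNm I p e U s t := by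
  let ι := {V : X.affineOpens // V.1 ≤ U}
  let W : ι → X.Opens := fun V => V.1.1
  have hlift : ∀ V : ι, ∃ a : Γ(X, W V), I.subschemeι.app (W V) a =
      I.subscheme.presheaf.map (homOfLE (I.subschemeι.preimage_mono V.2)).op s :=
    fun V => I.subschemeι_app_surjective V.1 _
  choose a ha using hlift
  let sf : ∀ V, Γ(X, W V) := fun V => a V ^ (p ^ e)
  have hcompat : TopCat.Presheaf.IsCompatible X.presheaf W sf := by
    intro V V'
    refine X.sheaf.eq_of_locally_eq'
      (fun T : {T : X.affineOpens // T.1 ≤ W V ⊓ W V'} => T.1.1) (W V ⊓ W V')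
      (fun T => homOfLE T.2) (le_iSup_affine _) _ _ fun T => ?_
    have e1 : X.presheaf.map (homOfLE T.2).op
        (X.presheaf.map (Opens.infLELeft (W V) (W V')).op (sf V)) =
        (X.presheaf.map (homOfLE (T.2.trans inf_le_left)).op (a V)) ^ (p ^ e) := by
      rw [← CommRingCat.comp_apply, ← Functor.map_comp, map_pow]
      rfl
    have e2 : X.presheaf.map (homOfLE T.2).op
        (X.presheaf.map (Opens.infLERight (W V) (W V')).op (sf V')) =
        (X.presheaf.map (homOfLE (T.2.trans inf_le_right)).op (a V')) ^ (p ^ e) := by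
      rw [← CommRingCat.comp_apply, ← Functor.map_comp, map_pow]
      rfl
    refine e1.trans (Eq.trans ?_ e2.symm)
    apply pow_eq_of_app_eq I p e hp hpX hI T.1
    rw [app_res, app_res, ha, ha, res_res, res_res]
  obtain ⟨t, ht, -⟩ := X.sheaf.existsUnique_gluing' W U (fun V => homOfLE V.2)
    (le_iSup_affine U) sf hcompat
  refine ⟨t, fun V hVU b hb => ?_⟩
  have := ht ⟨V, hVU⟩
  refine Eq.trans this ?_
  exact pow_eq_of_app_eq I p e hp hpX hI V _ b ((ha ⟨V, hVU⟩).trans hb.symm)

/-- The norm of degree `p ^ e`. -/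
noncomputable def normOfDegree : Nrm.NormOfDegree I.subschemeι (p ^ e) where
  one_le := Nat.one_le_pow _ _ hp.pos
  norm U :=
    { toFun := fun s => (exists_isNm hp hpX hI U s).choose
      map_one' := IsNm.unique (exists_isNm hp hpX hI U 1).choose_spec (by
        have := isNm_of_lift hp hpX hI U 1 1 (map_one _)
        rwa [one_pow] at this)
      map_mul' := fun s s' => by
        refine X.sheaf.eq_of_locally_eq' (fun V : {V : X.affineOpens // V.1 ≤ U} => V.1.1) U
          (fun V => homOfLE V.2) (le_iSup_affine U) _ _ fun V => ?_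
        obtain ⟨a, ha⟩ := I.subschemeι_app_surjective V.1
          (I.subscheme.presheaf.map (homOfLE (I.subschemeι.preimage_mono V.2)).op s)
        obtain ⟨a', ha'⟩ := I.subschemeι_app_surjective V.1
          (I.subscheme.presheaf.map (homOfLE (I.subschemeι.preimage_mono V.2)).op s')
        have h1 := (exists_isNm hp hpX hI U s).choose_spec V.1 V.2 a ha
        have h2 := (exists_isNm hp hpX hI U s').choose_spec V.1 V.2 a' ha'
        have h3 := (exists_isNm hp hpX hI U (s * s')).choose_spec V.1 V.2 (a * a')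
          (by rw [map_mul, ha, ha', map_mul])
        change X.presheaf.map (homOfLE V.2).op _ = X.presheaf.map (homOfLE V.2).op _
        rw [h3, map_mul, h1, h2, mul_pow] }
  norm_res {U V} i s := IsNm.unique ((exists_isNm hp hpX hI U s).choose_spec.res i.le)
    (exists_isNm hp hpX hI V _).choose_spec
  norm_app U g := IsNm.unique (exists_isNm hp hpX hI U _).choose_spec
    (isNm_of_lift hp hpX hI U _ g rfl)
  norm_mem U s x hx hs := by
    obtain ⟨_, ⟨V, hV, rfl⟩, hxV, hVU⟩ :=
      X.isBasis_affineOpens.exists_subset_of_mem_open hx U.isOpen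
    obtain ⟨a, ha⟩ := I.subschemeι_app_surjective ⟨V, hV⟩
      (I.subscheme.presheaf.map (homOfLE (I.subschemeι.preimage_mono hVU)).op s)
    have h1 := (exists_isNm hp hpX hI U s).choose_spec ⟨V, hV⟩ hVU a ha
    change X.presheaf.germ U (I.subschemeι x) hx (exists_isNm hp hpX hI U s).choose ∈ _
    have h2 : X.presheaf.germ U (I.subschemeι x) hx (exists_isNm hp hpX hI U s).choose =
        X.presheaf.germ V (I.subschemeι x) hxV (a ^ (p ^ e)) := by
      rw [← h1]
      exact (TopCat.Presheaf.germ_res_apply X.presheaf (homOfLE hVU) _ hxV _).symm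
    rw [h2, IsLocalRing.mem_maximalIdeal, mem_nonunits_iff, map_pow]
    intro hu
    have hu' : IsUnit (X.presheaf.germ V (I.subschemeι x) hxV a) :=
      (isUnit_pow_iff (Nat.pos_iff_ne_zero.mp (Nat.pow_pos hp.pos))).mp hu
    have h3 := hu'.map (I.subschemeι.stalkMap x).hom
    rw [Scheme.Hom.germ_stalkMap_apply] at h3
    change IsUnit (I.subscheme.presheaf.germ _ x hxV (I.subschemeι.app V a)) at h3
    rw [ha, TopCat.Presheaf.germ_res_apply] at h3
    exact ((IsLocalRing.mem_maximalIdeal _).mp hs) h3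

end

/-- On a Noetherian scheme some power of the nilradical vanishes. -/
theorem exists_nilradical_pow_eq_bot [IsNoetherian X] : ∃ n : ℕ, X.nilradical ^ n = ⊥ := by
  classical
  obtain ⟨t, ht⟩ := isCompact_univ.elim_finite_subcover
    (fun V : X.affineOpens => (V.1 : Set X)) (fun V => V.1.2) (fun x _ => by
      obtain ⟨_, ⟨V, hV, rfl⟩, hxV, -⟩ :=
        X.isBasis_affineOpens.exists_subset_of_mem_open (Set.mem_univ x) isOpen_univ
      exact Set.mem_iUnion.mpr ⟨⟨V, hV⟩, hxV⟩)
  have hnil : ∀ V : X.affineOpens, ∃ k : ℕ, nilradical Γ(X, V) ^ k = ⊥ := fun V => by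
    haveI : IsNoetherianRing Γ(X, V) := IsLocallyNoetherian.component_noetherian V
    exact IsNoetherianRing.isNilpotent_nilradical _
  choose k hk using hnil
  refine ⟨t.sup k, le_bot_iff.mp ?_⟩
  refine Scheme.IdealSheafData.le_of_iSup_eq_top (fun V : t => V.1) ?_ fun V => ?_
  · rw [eq_top_iff]
    intro x _
    obtain ⟨V, hV⟩ := Set.mem_iUnion.mp (ht (Set.mem_univ x))
    obtain ⟨hVt, hxV⟩ := Set.mem_iUnion.mp hV
    exact Opens.mem_iSup.mpr ⟨⟨V, hVt⟩, hxV⟩
  · rw [Scheme.IdealSheafData.ideal_pow]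
    change (X.nilradical.ideal V.1) ^ (t.sup k) ≤ _
    have : X.nilradical.ideal V.1 = nilradical Γ(X, V.1) := rfl
    rw [this]
    refine (Ideal.pow_le_pow_right (Finset.le_sup V.2)).trans ?_
    rw [hk]
    exact bot_le

/-- **S8882**: the norm for `X_red ⟶ X` on a Noetherian scheme of characteristic `p`. -/
theorem hasNorm_nilradical [IsNoetherian X] (p : ℕ) (hp : p.Prime) (hpX : (p : Γ(X, ⊤)) = 0) :
    ∃ e : ℕ, 0 < e ∧ Nrm.HasNorm X.nilradical.subschemeι (p ^ e) := by
  obtain ⟨n, hn⟩ := exists_nilradical_pow_eq_bot (X := X)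
  have hle : n ≤ p ^ (n + 1) := by
    have h1 : n < 2 ^ n := Nat.lt_two_pow_self
    have h2 : 2 ^ n ≤ p ^ n := Nat.pow_le_pow_left hp.two_le n
    have h3 : p ^ n ≤ p ^ (n + 1) := Nat.pow_le_pow_right hp.pos (Nat.le_succ n)
    omega
  have hI : ∀ U : X.affineOpens, ∀ ν ∈ X.nilradical.ideal U, ν ^ (p ^ (n + 1)) = 0 := by
    intro U ν hν
    have h1 : ν ^ n ∈ (X.nilradical ^ n).ideal U := by
      rw [Scheme.IdealSheafData.ideal_pow]
      exact Ideal.pow_mem_pow hν n
    rw [hn] at h1
    have h2 : ν ^ n = 0 := h1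
    rw [← Nat.sub_add_cancel hle, pow_add, h2, mul_zero]
  exact ⟨n + 1, Nat.succ_pos n, ⟨normOfDegree hp hpX hI⟩⟩

end Groth.Agent.Lib.Seat58.NormRed
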