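-- helper58 (seat 58): equality of functors over the base into the category of a presheaf.
import Groth.Agent.Lib.Helper17StkPsh2

set_option autoImplicit false
set_option backward.isDefEq.respectTransparency false
set_option backward.isDefEq.respectTransparency.types false
open CategoryTheory CategoryTheory.Functor Opposite

universe w v₁ u₁ v₂ u₂ v u

namespace Groth.Agent.Lib.Seat58.PshFunctorEq

open Groth.Agent.Lib.Helper17

variable {C : Type u} [Category.{v} C] {P : Cᵒᵖ ⥤ Type w}
variable {𝒜 : BasedCategory.{v₁, u₁} C} {ℬ : BasedCategory.{v₂, u₂} C}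

/-- Objects of `Stk.ofPsh P` with equal bases and matching sections are equal. -/
theorem eltObj_ext {a b : Stk.EltObj P} (h : a.base = b.base)
    (hs : P.map (eqToHom h).op b.sec = a.sec) : a = b := by
  obtain ⟨ab, as⟩ := a
  obtain ⟨bb, bs⟩ := b
  dsimp only at h
  subst h
  have hs' : P.map (𝟙 ab).op bs = as := hs
  rw [psh_map_id_op] at hs'
  subst hs'
  rfl

theorem eqToHom_hom {a b : Stk.EltObj P} (h : a = b) :
    (eqToHom h).hom = eqToHom (congrArg Stk.EltObj.base h) := by
  subst h
  rfl

/-- Functors over the base are equal as soon as their underlying functors are. -/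
theorem basedFunctor_ext {H H' : 𝒜 ⥤ᵇ ℬ} (h : H.toFunctor = H'.toFunctor) : H = H' := by
  obtain ⟨F, hF⟩ := H
  obtain ⟨F', hF'⟩ := H'
  dsimp only at h
  subst h
  rfl

/-- Functors over the base into the category of a presheaf with the same sections are EQUAL. -/
theorem eq_of_pshSec_eq {H H' : 𝒜 ⥤ᵇ Stk.ofPsh P} (h : ∀ a, pshSec H a = pshSec H' a) :
    H = H' := by
  apply basedFunctor_ext
  have hobj : ∀ a, H.obj a = H'.obj a := fun a => by
    refine eltObj_ext ((pshBase H a).trans (pshBase H' a).symm) ?_
    have h1 := h a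
    unfold pshSec at h1
    have h2 := congrArg (P.map (eqToHom (pshBase H a)).op) h1
    rw [psh_map_op_map_op, psh_map_op_map_op] at h2
    simp only [eqToHom_trans, eqToHom_refl] at h2
    rw [psh_map_id_op] at h2
    exact h2.symm
  refine CategoryTheory.Functor.ext hobj ?_
  intro a a' f
  apply Stk.EltObj.hom_ext
  rw [Stk.EltObj.comp_hom, Stk.EltObj.comp_hom, eqToHom_hom, eqToHom_hom, pshHom H f, pshHom H' f]
  simp

end Groth.Agent.Lib.Seat58.PshFunctorEq
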