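-- seat 58: universally injective functors of algebraic stacks and surjectivity of the diagonal on points.
import Mathlib
import Groth.Agent.Lib.Helper15PtsInj

set_option autoImplicit false
set_option backward.isDefEq.respectTransparency false
set_option backward.isDefEq.respectTransparency.types false
open CategoryTheory CategoryTheory.Functor CategoryTheory.Limits Opposite AlgebraicGeometry

universe u

namespace Groth.Agent.Lib.Seat58.PtsDiag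

open Groth.Agent.Lib.Helper17 Groth.Agent.Lib.Helper15PtsComp Groth.Agent.Lib.Helper15PtsInj

variable {S : Scheme.{u}} {𝒳 𝒴 𝒵 : AlgSt.Cat S}

theorem diag_obj_iso_hom (f : 𝒳 ⥤ᵇ 𝒴) (x : 𝒳.obj) :
    ((FibCat.diag f).obj x).obj.iso.hom = 𝟙 (f.obj x) := rfl

theorem diag_obj_fst (f : 𝒳 ⥤ᵇ 𝒴) (x : 𝒳.obj) : ((FibCat.diag f).obj x).obj.fst = x := rfl

theorem diag_obj_snd (f : 𝒳 ⥤ᵇ 𝒴) (x : 𝒳.obj) : ((FibCat.diag f).obj x).obj.snd = x := rfl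

/-- If the base change of `f` to the spectrum of a field along `f ∘ x₁` is injective on points, the point
`(x₁, x₂, β)` of `𝒳 ×_𝒴 𝒳` lies in the image of the diagonal. -/
theorem mem_range_diag_of_isUnivInjective (h𝒳 : AlgSt.IsAlgStack Scheme.fppfPrecoverage 𝒳)
    (h𝒴 : AlgSt.IsAlgStack Scheme.fppfPrecoverage 𝒴) (f : 𝒳 ⥤ᵇ 𝒴)
    (h : AlgSt.IsUnivInjective Scheme.fppfPrecoverage f) (w : AlgSt.FPt (FibCat.fp f f)) :
    AlgSt.Points.mk w ∈ Set.range (AlgSt.Points.map (FibCat.diag f)) := by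
  have hX := h𝒳.isStack.1
  have hY := h𝒴.isStack.1
  have := IsFibGrpd.isFibered hY
  let x₁ : 𝒳.obj := w.obj.obj.fst
  let x₂ : 𝒳.obj := w.obj.obj.snd
  let β : f.obj x₁ ≅ f.obj x₂ := w.obj.obj.iso
  have hβ : 𝒴.p.IsHomLift (𝟙 (𝒳.p.obj x₁)) β.hom := w.obj.property
  let T : Over S := 𝒳.p.obj x₁
  have hq : 𝒴.p.obj (f.obj x₁) = T := f.w_obj x₁
  let g : FibCat.overCat T ⥤ᵇ 𝒴 := yonedaFunctor hq
  obtain ⟨ι, hι⟩ := yonedaFunctor_iso hq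
  have hZ : FibCat.IsFibGrpd (FibCat.overCat T).p := (isAlgStack_overCat T).isStack.1
  have hfp : FibCat.IsFibGrpd (FibCat.fp g f).p := isFibGrpd_fp g f hZ hX hY
  have hιβ : 𝒴.p.IsHomLift (𝟙 T) (ι ≪≫ β).hom := by
    have : 𝒴.p.IsHomLift (𝟙 T ≫ 𝟙 T) (ι.hom ≫ β.hom) := inferInstance
    rw [Category.comp_id] at this
    exact this
  let a₁ : (FibCat.fp g f).obj := ⟨⟨Over.mk (𝟙 T), x₁, ι⟩, hι⟩
  let a₂ : (FibCat.fp g f).obj := ⟨⟨Over.mk (𝟙 T), x₂, ι ≪≫ β⟩, hιβ⟩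
  have hlies : T = Over.mk w.str := w.lies
  let A₁ : AlgSt.FPt (FibCat.fp g f) := { K := w.K, str := w.str, obj := a₁, lies := hlies }
  let A₂ : AlgSt.FPt (FibCat.fp g f) := { K := w.K, str := w.str, obj := a₂, lies := hlies }
  have hinj := h (FibCat.overCat T) (isAlgStack_overCat T) g
  have hA : AlgSt.Points.mk A₁ = AlgSt.Points.mk A₂ := hinj rfl
  obtain ⟨r, c, d, -⟩ := fpt_rel_of_mk_eq hfp hA
  -- components of the two morphisms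
  have hfst : c.hom.fst = d.hom.fst := (Over.mkIdTerminal (X := T)).hom_ext _ _
  have hc : g.map c.hom.fst ≫ ι.hom = r.obj.obj.iso.hom ≫ f.map c.hom.snd := c.hom.w
  have hd : g.map d.hom.fst ≫ ι.hom ≫ β.hom = r.obj.obj.iso.hom ≫ f.map d.hom.snd := d.hom.w
  have hg : g.map c.hom.fst = g.map d.hom.fst := congrArg (fun t => g.map t) hfst
  have hcomm : f.map c.hom.snd ≫ β.hom = f.map d.hom.snd := by
    apply (cancel_epi r.obj.obj.iso.hom).1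
    calc r.obj.obj.iso.hom ≫ f.map c.hom.snd ≫ β.hom
        = (r.obj.obj.iso.hom ≫ f.map c.hom.snd) ≫ β.hom := (Category.assoc _ _ _).symm
      _ = (g.map c.hom.fst ≫ ι.hom) ≫ β.hom := congrArg (· ≫ β.hom) hc.symm
      _ = g.map c.hom.fst ≫ ι.hom ≫ β.hom := Category.assoc _ _ _
      _ = g.map d.hom.fst ≫ ι.hom ≫ β.hom := congrArg (· ≫ ι.hom ≫ β.hom) hg
      _ = _ := hd
  let x' : 𝒳.obj := r.obj.obj.snd
  let m : (FibCat.diag f).obj x' ⟶ w.obj :=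
    ObjectProperty.homMk
      { fst := c.hom.snd
        snd := d.hom.snd
        w := by
          change f.map c.hom.snd ≫ β.hom = 𝟙 _ ≫ f.map d.hom.snd
          rw [Category.id_comp, hcomm] }
  refine ⟨AlgSt.Points.mk (r.map (FibCat.fpSnd g f)), ?_⟩
  rw [AlgSt.Points.map_mk]
  exact AlgSt.Points.sound ⟨(r.map (FibCat.fpSnd g f)).map (FibCat.diag f), 𝟙 _, m, trivial⟩

/-- lifting a morphism `a : r ⟶ g z` of the target to a morphism of the source whose image is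
isomorphic to `a`, compatibly -/
theorem exists_lift_over_map' (h𝒵 : FibCat.IsFibGrpd 𝒵.p) (h𝒴 : FibCat.IsFibGrpd 𝒴.p)
    (g : 𝒵 ⥤ᵇ 𝒴) {r : 𝒴.obj} {z : 𝒵.obj} (a : r ⟶ g.obj z) :
    ∃ (z' : 𝒵.obj) (π : z' ⟶ z) (e : g.obj z' ≅ r),
      𝒴.p.IsHomLift (𝟙 (𝒴.p.obj r)) e.hom ∧ 𝒵.p.obj z' = 𝒴.p.obj r ∧ e.hom ≫ a = g.map π := by
  let α : 𝒴.p.obj r ⟶ 𝒵.p.obj z := 𝒴.p.map a ≫ eqToHom (g.w_obj z)
  obtain ⟨z', π, hπ⟩ := h𝒵.exists_lift (x := z) α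
  have h1 : 𝒴.p.IsHomLift α (g.map π) := BasedFunctor.preserves_isHomLift g α π
  have h2 : 𝒴.p.IsHomLift α a := by
    apply IsHomLift.of_fac 𝒴.p α a rfl (g.w_obj z)
    simp [α]
  obtain ⟨e, he, hc⟩ := IsFibGrpd.exists_iso_of_lifts (𝒴 := 𝒴) h𝒴 α (g.map π) a
  exact ⟨z', π, e, he, IsHomLift.domain_eq 𝒵.p α π, hc⟩

/-- In a category fibred in groupoids morphisms are determined by their image in the base and their
composite with a fixed morphism. -/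
theorem hom_ext_of_comp (h𝒴 : FibCat.IsFibGrpd 𝒴.p) {a b c : 𝒴.obj} (φ : b ⟶ c) (ψ ψ' : a ⟶ b)
    {R R' : Over S} (k : R' ⟶ R) [𝒴.p.IsHomLift k ψ] [𝒴.p.IsHomLift k ψ']
    (h : ψ ≫ φ = ψ' ≫ φ) : ψ = ψ' := by
  have hR : 𝒴.p.obj b = R := IsHomLift.codomain_eq 𝒴.p k ψ
  subst hR
  have sc := IsFibGrpd.isStronglyCartesian_of_isHomLift h𝒴 (𝒴.p.map φ) φ
  obtain ⟨χ, -, huniq⟩ := IsStronglyCartesian.universal_property 𝒴.p (𝒴.p.map φ) φ k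
    (k ≫ 𝒴.p.map φ) rfl (ψ ≫ φ)
  rw [huniq ψ ⟨inferInstance, rfl⟩, huniq ψ' ⟨inferInstance, h.symm⟩]

/-- If the diagonal of `f` is surjective on points then every base change of `f` along a functor from a
category fibred in groupoids is injective on points. -/
theorem injective_fpFst_of_isSurjective_diag (h𝒳 : FibCat.IsFibGrpd 𝒳.p)
    (h𝒴 : FibCat.IsFibGrpd 𝒴.p) (h𝒵 : FibCat.IsFibGrpd 𝒵.p) (f : 𝒳 ⥤ᵇ 𝒴) (g : 𝒵 ⥤ᵇ 𝒴)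
    (hΔ : AlgSt.IsSurjective (FibCat.diag f)) :
    Function.Injective (AlgSt.Points.map (FibCat.fpFst g f)) := by
  intro w₁ w₂ hw
  obtain ⟨p₁, rfl⟩ := AlgSt.Points.mk_surjective w₁
  obtain ⟨p₂, rfl⟩ := AlgSt.Points.mk_surjective w₂
  rw [AlgSt.Points.map_mk, AlgSt.Points.map_mk] at hw
  obtain ⟨r, a, b, -⟩ := fpt_rel_of_mk_eq h𝒵 hw
  have hff : FibCat.IsFibGrpd (FibCat.fp f f).p := isFibGrpd_fp f f h𝒳 h𝒳 h𝒴
  -- notation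
  let z₁ : 𝒵.obj := p₁.obj.obj.fst
  let x₁ : 𝒳.obj := p₁.obj.obj.snd
  let α₁ : g.obj z₁ ≅ f.obj x₁ := p₁.obj.obj.iso
  let z₂ : 𝒵.obj := p₂.obj.obj.fst
  let x₂ : 𝒳.obj := p₂.obj.obj.snd
  let α₂ : g.obj z₂ ≅ f.obj x₂ := p₂.obj.obj.iso
  have a' : r.obj ⟶ z₁ := a
  have b' : r.obj ⟶ z₂ := b
  -- Step B
  obtain ⟨x₁', κ₁, e₁, he₁, hx₁', c₁⟩ :=
    exists_lift_over_map' h𝒳 h𝒴 f (r := g.obj r.obj) (z := x₁) (g.map a' ≫ α₁.hom)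
  obtain ⟨x₂', κ₂, e₂, he₂, hx₂', c₂⟩ :=
    exists_lift_over_map' h𝒳 h𝒴 f (r := g.obj r.obj) (z := x₂) (g.map b' ≫ α₂.hom)
  -- Step C
  have he₂inv : 𝒴.p.IsHomLift (𝟙 (𝒴.p.obj (g.obj r.obj))) e₂.inv :=
    IsHomLift.lift_id_inv 𝒴.p _ e₂
  have he : 𝒴.p.IsHomLift (𝟙 (𝒳.p.obj x₁')) (e₁ ≪≫ e₂.symm).hom := by
    have : 𝒴.p.IsHomLift (𝟙 (𝒴.p.obj (g.obj r.obj)) ≫ 𝟙 (𝒴.p.obj (g.obj r.obj)))
        (e₁.hom ≫ e₂.inv) := inferInstance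
    rw [Category.comp_id] at this
    have h3 : 𝒴.p.IsHomLift (𝟙 (𝒴.p.obj (g.obj r.obj))) (e₁ ≪≫ e₂.symm).hom := this
    exact isHomLift_id_of_eq 𝒴.p hx₁'.symm _
  let v₀ : (FibCat.fp f f).obj := ⟨⟨x₁', x₂', e₁ ≪≫ e₂.symm⟩, he⟩
  let V : AlgSt.FPt (FibCat.fp f f) :=
    { K := r.K, str := r.str, obj := v₀, lies := hx₁'.trans ((g.w_obj r.obj).trans r.lies) }
  -- Step D
  obtain ⟨y', hy'⟩ := hΔ (AlgSt.Points.mk V)
  obtain ⟨y, rfl⟩ := AlgSt.Points.mk_surjective y'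
  rw [AlgSt.Points.map_mk] at hy'
  obtain ⟨s, c, d, -⟩ := fpt_rel_of_mk_eq hff hy'
  let s₁ : 𝒳.obj := s.obj.obj.fst
  let s₂ : 𝒳.obj := s.obj.obj.snd
  let σ : f.obj s₁ ≅ f.obj s₂ := s.obj.obj.iso
  have hσ : 𝒴.p.IsHomLift (𝟙 (𝒳.p.obj s₁)) σ.hom := s.obj.property
  let c₁' : s₁ ⟶ y.obj := c.hom.fst
  let c₂' : s₂ ⟶ y.obj := c.hom.snd
  let d₁ : s₁ ⟶ x₁' := d.hom.fst
  let d₂ : s₂ ⟶ x₂' := d.hom.snd
  have hcw : f.map c₁' ≫ 𝟙 _ = σ.hom ≫ f.map c₂' := c.hom.w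
  have hdw : f.map d₁ ≫ (e₁.hom ≫ e₂.inv) = σ.hom ≫ f.map d₂ := d.hom.w
  -- Step E
  have hl1 : 𝒳.p.IsHomLift (𝒳.p.map c₁') c₁' := inferInstance
  have hl2 : 𝒳.p.IsHomLift (𝒳.p.map c₁') c₂' := FibCat.fp_isHomLift_snd f f c
  obtain ⟨τ, hτ, hτc⟩ := IsFibGrpd.exists_iso_of_lifts (𝒴 := 𝒳) h𝒳 (𝒳.p.map c₁') c₁' c₂'
  have hfτ : 𝒴.p.IsHomLift (𝟙 (𝒳.p.obj s₁)) (f.map τ.hom) :=
    BasedFunctor.preserves_isHomLift f _ τ.hom
  have hτσ : f.map τ.hom = σ.hom := by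
    apply hom_ext_of_comp h𝒴 (f.map c₂') (f.map τ.hom) σ.hom (𝟙 (𝒳.p.obj s₁))
    rw [← hcw, Category.comp_id, ← f.toFunctor.map_comp]
    exact congrArg (fun t => f.map t) hτc
  -- Step F
  obtain ⟨z', π, θ, hθ, hz', cθ⟩ :=
    exists_lift_over_map' h𝒵 h𝒴 g (r := f.obj s₁) (z := r.obj) (f.map d₁ ≫ e₁.hom)
  have hθ' : 𝒴.p.IsHomLift (𝟙 (𝒵.p.obj z')) θ.hom := isHomLift_id_of_eq 𝒴.p hz'.symm _
  let q₀ : (FibCat.fp g f).obj := ⟨⟨z', s₁, θ⟩, hθ'⟩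
  let q : AlgSt.FPt (FibCat.fp g f) :=
    { K := s.K, str := s.str, obj := q₀, lies := hz'.trans ((f.w_obj s₁).trans s.lies) }
  have w₁ : g.map (π ≫ a') ≫ α₁.hom = θ.hom ≫ f.map (d₁ ≫ κ₁) := by
    rw [f.toFunctor.map_comp, g.toFunctor.map_comp, ← c₁, ← cθ]
    simp only [Category.assoc]
  have w₂ : g.map (π ≫ b') ≫ α₂.hom = θ.hom ≫ f.map (τ.hom ≫ d₂ ≫ κ₂) := by
    rw [f.toFunctor.map_comp, f.toFunctor.map_comp, g.toFunctor.map_comp, ← c₂, ← cθ]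
    have h1 : f.toFunctor.map τ.hom ≫ f.toFunctor.map d₂ = f.toFunctor.map d₁ ≫ e₁.hom ≫ e₂.inv := by
      rw [hdw]
      exact congrArg (· ≫ f.map d₂) hτσ
    rw [reassoc_of% h1]
    simp only [Category.assoc, Iso.inv_hom_id_assoc]
  let m₁ : q₀ ⟶ p₁.obj := ObjectProperty.homMk { fst := π ≫ a', snd := d₁ ≫ κ₁, w := w₁ }
  let m₂ : q₀ ⟶ p₂.obj :=
    ObjectProperty.homMk { fst := π ≫ b', snd := τ.hom ≫ d₂ ≫ κ₂, w := w₂ }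
  exact AlgSt.Points.sound ⟨q, m₁, m₂, trivial⟩

end Groth.Agent.Lib.Seat58.PtsDiag
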