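-- helper58 (seat 58): functors over the base from the quotient stack `[X/G]` to a sheaf.
import Groth.Agent.S14978

set_option autoImplicit false
universe u
open CategoryTheory MonoidalCategory CartesianMonoidalCategory AlgebraicGeometry Opposite
open AlgSt MonObj GrpObj
open Groth.Agent.Lib.Helper17 Groth.Agent.Lib.Helper15PshFib Groth.Agent.Lib.Seat58.PshFunctorEq

namespace Groth.Agent.Lib.Seat58.QuotStFun

variable {S : Scheme.{u}} {G : Over S} [GrpObj G] {X : Over S} {aX : AlgGrp.Action G X}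
  {N : AlgSp.Sp S}

/-- the section over `T` attached by a functor from `[X/G]` to a `T`-point of `X` -/
noncomputable def secOf (Φ : AlgSt.QuotSt Scheme.fppfPrecoverage G aX ⥤ᵇ AlgSt.ofSp N)
    {T : Over S} (x : T ⟶ X) : N.obj.obj (op T) :=
  pshSec Φ ((AlgSt.quotMap Scheme.fppfPrecoverage G aX).obj ⟨T, ⟨x⟩⟩)

theorem secOf_eq (Φ : AlgSt.QuotSt Scheme.fppfPrecoverage G aX ⥤ᵇ AlgSt.ofSp N)
    (c : (AlgSt.ofSch X).obj) :
    pshSec (BasedFunctor.comp (AlgSt.quotMap Scheme.fppfPrecoverage G aX) Φ) c =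
      secOf Φ c.sec.down :=
  Groth.Agent.S14978.pshSec_comp_quotMap Φ c

theorem secOf_comp (Φ : AlgSt.QuotSt Scheme.fppfPrecoverage G aX ⥤ᵇ AlgSt.ofSp N)
    {T' T : Over S} (g : T' ⟶ T) (x : T ⟶ X) :
    secOf Φ (g ≫ x) = N.obj.map g.op (secOf Φ x) := by
  let m : (⟨T', ⟨g ≫ x⟩⟩ : (AlgSt.ofSch X).obj) ⟶ ⟨T, ⟨x⟩⟩ := ⟨g, rfl⟩
  exact (pshSec_map Φ ((AlgSt.quotMap Scheme.fppfPrecoverage G aX).map m)).symm

/-- the sections attached to a functor from `[X/G]` are invariant under the action -/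
theorem secOf_act (Φ : AlgSt.QuotSt Scheme.fppfPrecoverage G aX ⥤ᵇ AlgSt.ofSp N)
    {T : Over S} (γ : T ⟶ G) (x : T ⟶ X) :
    secOf Φ (lift γ x ≫ aX.act) = secOf Φ x := by
  obtain ⟨h1, h2, h3⟩ := Groth.Agent.S12838.part2 aX (𝟙 T) (lift γ x ≫ aX.act) x γ
    (by rw [Category.id_comp])
  let h : (AlgSt.quotMap Scheme.fppfPrecoverage G aX).obj ⟨T, ⟨lift γ x ≫ aX.act⟩⟩ ⟶
      (AlgSt.quotMap Scheme.fppfPrecoverage G aX).obj ⟨T, ⟨x⟩⟩ :=
    ⟨𝟙 T, Groth.Agent.S12838.rmul (𝟙 T) γ, h1, h2, h3⟩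
  have h4 := pshSec_map Φ h
  exact ((psh_map_id_op N.obj _).symm.trans h4).symm

theorem secOf_act' (Φ : AlgSt.QuotSt Scheme.fppfPrecoverage G aX ⥤ᵇ AlgSt.ofSp N)
    {T : Over S} (u : T ⟶ G ⊗ X) :
    secOf Φ (u ≫ aX.act) = secOf Φ (u ≫ snd G X) := by
  have h : u = lift (u ≫ fst G X) (u ≫ snd G X) := by
    apply CartesianMonoidalCategory.hom_ext <;> simp
  conv_lhs => rw [h]
  exact secOf_act Φ _ _

/-- the structure morphism of a torsor induces an injection on sections of a sheaf -/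
theorem injective_map_π (A : QuotObj Scheme.fppfPrecoverage G aX) :
    Function.Injective (N.obj.map A.π.op) := by
  have hsh : Presieve.IsSheaf (AlgSp.J S) N.obj := (isSheaf_iff_isSheaf_of_type _ _).mp N.property
  have hshf := (hsh _ (Groth.Agent.S14978.cover_mem A)).isSeparatedFor
  rw [← Presieve.isSeparatedFor_iff_generate, Presieve.isSeparatedFor_singleton] at hshf
  exact hshf

/-- the section of a functor at a torsor pulls back to the section at its tautological point -/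
theorem map_π_pshSec (Φ : AlgSt.QuotSt Scheme.fppfPrecoverage G aX ⥤ᵇ AlgSt.ofSp N)
    (A : QuotObj Scheme.fppfPrecoverage G aX) :
    N.obj.map A.π.op (pshSec Φ A) = secOf Φ A.φ :=
  pshSec_map Φ (Groth.Agent.S14978.taut A)

/-- a functor from `[X/G]` to a sheaf is determined by its restriction to `X` -/
theorem eq_of_secOf_eq {Φ Φ' : AlgSt.QuotSt Scheme.fppfPrecoverage G aX ⥤ᵇ AlgSt.ofSp N}
    (h : ∀ {T : Over S} (x : T ⟶ X), secOf Φ x = secOf Φ' x) : Φ = Φ' := by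
  apply eq_of_pshSec_eq
  intro A
  apply injective_map_π A
  rw [map_π_pshSec, map_π_pshSec, h]

section Rep

variable {Y Z : Over S} (e : N.obj.RepresentableBy Z)

/-- the map of sheaves `h_Y ⟶ N` attached to a morphism to a representing object of `N` -/
def toSheafHom (χ : Y ⟶ Z) : (AlgSp.yon S).obj Y ⟶ N :=
  ⟨{ app := fun T => ↾fun y => e.homEquiv (y.down ≫ χ)
     naturality := fun T T' g => by
       ext y
       exact (congrArg e.homEquiv (Category.assoc g.unop y.down χ)).trans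
        (e.homEquiv_comp g.unop (y.down ≫ χ)) }⟩

theorem toSheafHom_app (χ : Y ⟶ Z) {T : Over S} (y : T ⟶ Y) :
    (toSheafHom e χ).hom.app (op T) ⟨y⟩ = e.homEquiv (y ≫ χ) := rfl

/-- the morphism to a representing object of `N` attached to a map of sheaves `h_Y ⟶ N` -/
def ofSheafHom (g : (AlgSp.yon S).obj Y ⟶ N) : Y ⟶ Z :=
  e.homEquiv.symm (g.hom.app (op Y) ⟨𝟙 Y⟩)

theorem sheafHom_app (g : (AlgSp.yon S).obj Y ⟶ N) {T : Over S} (y : T ⟶ Y) :
    g.hom.app (op T) ⟨y⟩ = e.homEquiv (y ≫ ofSheafHom e g) := by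
  have h := NatTrans.naturality_apply g.hom y.op (⟨𝟙 Y⟩ : ((AlgSp.yon S).obj Y).obj.obj (op Y))
  have h' : g.hom.app (op T) ⟨y ≫ 𝟙 Y⟩ = N.obj.map y.op (g.hom.app (op Y) ⟨𝟙 Y⟩) := h
  rw [Category.comp_id] at h'
  rw [h', e.homEquiv_comp]
  unfold ofSheafHom
  rw [Equiv.apply_symm_apply]

/-- maps of sheaves `h_Y ⟶ N` are the morphisms from `Y` to a representing object of `N` -/
def sheafHomEquiv : ((AlgSp.yon S).obj Y ⟶ N) ≃ (Y ⟶ Z) where
  toFun := ofSheafHom e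
  invFun := toSheafHom e
  left_inv g := by
    apply Sheaf.hom_ext
    apply NatTrans.ext
    funext T
    ext y
    obtain ⟨y⟩ := y
    exact (sheafHom_app e g y).symm
  right_inv χ := by
    change e.homEquiv.symm (e.homEquiv (𝟙 Y ≫ χ)) = χ
    rw [Equiv.symm_apply_apply, Category.id_comp]

end Rep

section Factor

variable {Y Z : Over S} (e : N.obj.RepresentableBy Z) (f : X ⟶ Y)
  (π : AlgSt.QuotSt Scheme.fppfPrecoverage G aX ⥤ᵇ AlgSt.ofSch Y)

theorem secOf_of_iso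
    (hπ : Nonempty (BasedFunctor.comp (AlgSt.quotMap Scheme.fppfPrecoverage G aX) π ≅
      AlgSt.ofSpMap ((AlgSp.yon S).map f))) {T : Over S} (x : T ⟶ X) :
    secOf π x = ⟨x ≫ f⟩ := by
  obtain ⟨α⟩ := hπ
  have h1 := pshSec_eq_of_hom α.hom (⟨T, ⟨x⟩⟩ : (AlgSt.ofSch X).obj)
  rw [secOf_eq] at h1
  exact h1.trans (pshSec_ofPshMap ((AlgSp.yon S).map f).hom ⟨T, ⟨x⟩⟩)

theorem secOf_comp_ofSpMap (g : (AlgSp.yon S).obj Y ⟶ N) {T : Over S} (x : T ⟶ X) :
    secOf (BasedFunctor.comp π (AlgSt.ofSpMap g)) x = g.hom.app (op T) (secOf π x) :=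
  pshSec_comp_ofPshMap π g.hom _

/-- `π` followed by `g : h_Y ⟶ N` is the functor `φ` exactly when the morphism `Y ⟶ Z` of `g`
composed with `f` is the morphism `X ⟶ Z` of `φ` -/
theorem nonempty_iso_iff
    (hπ : Nonempty (BasedFunctor.comp (AlgSt.quotMap Scheme.fppfPrecoverage G aX) π ≅
      AlgSt.ofSpMap ((AlgSp.yon S).map f)))
    (φ : AlgSt.QuotSt Scheme.fppfPrecoverage G aX ⥤ᵇ AlgSt.ofSp N)
    (g : (AlgSp.yon S).obj Y ⟶ N) :
    Nonempty (BasedFunctor.comp π (AlgSt.ofSpMap g) ≅ φ) ↔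
      f ≫ ofSheafHom e g = e.homEquiv.symm (secOf φ (𝟙 X)) := by
  have key : ∀ {T : Over S} (x : T ⟶ X),
      secOf (BasedFunctor.comp π (AlgSt.ofSpMap g)) x = e.homEquiv (x ≫ f ≫ ofSheafHom e g) := by
    intro T x
    rw [secOf_comp_ofSpMap, secOf_of_iso f π hπ, sheafHom_app e g, Category.assoc]
  constructor
  · rintro ⟨α⟩
    have h1 : secOf (BasedFunctor.comp π (AlgSt.ofSpMap g)) (𝟙 X) = secOf φ (𝟙 X) :=
      pshSec_eq_of_hom α.hom _
    rw [key, Category.id_comp] at h1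
    rw [← h1, Equiv.symm_apply_apply]
  · intro h
    have : BasedFunctor.comp π (AlgSt.ofSpMap g) = φ := by
      apply eq_of_secOf_eq
      intro T x
      rw [key, h, e.homEquiv_comp, Equiv.apply_symm_apply, ← secOf_comp, Category.comp_id]
    exact ⟨eqToIso this⟩

end Factor

end Groth.Agent.Lib.Seat58.QuotStFun
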