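-- helper58 (seat 58): objects of the quotient stack `[X/G]` over an algebraically closed point.
import Groth.Agent.Lib.Seat58QuotStFun
import Groth.Agent.S12839
import Groth.Agent.S13575
import Groth.Agent.Lib.Helper11HomSm
import Groth.Prelude.Def_StCoarse

set_option autoImplicit false
universe u
open CategoryTheory MonoidalCategory CartesianMonoidalCategory AlgebraicGeometry Opposite
open AlgSt MonObj GrpObj
open Groth.Agent.Lib.Helper17 Groth.Agent.Lib.Helper15PshFib Groth.Agent.Lib.Seat58.PshFunctorEq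
open Groth.Agent.Lib.Seat58.QuotStFun

namespace Groth.Agent.Lib.Seat58.QuotStGeomPt

variable {S : Scheme.{u}}

/-- an fppf-locally trivial scheme over the spectrum of an algebraically closed field has a
section -/
theorem exists_section {Ω : Type u} [Field Ω] [IsAlgClosed Ω] (t : Spec (CommRingCat.of Ω) ⟶ S)
    (P : Over S) (π : P ⟶ Over.mk t)
    (loc : NonAbH1.IsLocallyTrivialFor Scheme.fppfPrecoverage
      (Over.mk π.left : Over (Over.mk t).left)) :
    ∃ s : Over.mk t ⟶ P, s ≫ π = 𝟙 _ := by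
  obtain ⟨R, hR, hsec⟩ := loc
  have hsurj := (Presieve.mem_comap_jointlySurjectivePrecoverage_iff Scheme.forget).1 hR.1
  obtain ⟨U, g, hg, x, hx⟩ := hsurj (IsLocalRing.closedPoint Ω)
  have hg' : R g := hg
  have hlfp : LocallyOfFinitePresentation g := (hR.2 hg').2
  have hsurjg : Surjective g := by
    refine ⟨fun y => ⟨x, ?_⟩⟩
    exact Subsingleton.elim (α := PrimeSpectrum Ω) _ _
  obtain ⟨p, hp⟩ := Groth.Agent.Lib.Helper11HomSm.exists_lift_point g (𝟙 (Spec (CommRingCat.of Ω)))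
  obtain ⟨s', hs'⟩ := hsec g hg'
  have hs'' : s' ≫ π.left = g := hs'
  have hw : π.left ≫ t = P.hom := Over.w π
  refine ⟨Over.homMk (p ≫ s') ?_, ?_⟩
  · change (p ≫ s') ≫ P.hom = t
    rw [← hw, Category.assoc, reassoc_of% hs'', reassoc_of% hp]
  · apply Over.OverMorphism.ext
    change (p ≫ s') ≫ π.left = 𝟙 _
    rw [Category.assoc, hs'', hp]

section Iso

variable {G : Over S} [GrpObj G] {X : Over S} {aX : AlgGrp.Action G X}
  {K : Precoverage Scheme.{u}}

/-- a morphism of `[X/G]` whose base is an isomorphism is an isomorphism -/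
noncomputable def isoOfBaseIso {A B : QuotObj K G aX} (h : A ⟶ B) [IsIso h.base] : A ≅ B := by
  have htop : IsIso h.top := h.cart.isIso_fst_of_isIso
  refine
    { hom := h
      inv :=
        { base := inv h.base
          top := inv h.top
          eqv := ?_
          cart := ?_
          wφ := ?_ }
      hom_inv_id := QuotObj.hom_ext (IsIso.hom_inv_id _) (IsIso.hom_inv_id _)
      inv_hom_id := QuotObj.hom_ext (IsIso.inv_hom_id _) (IsIso.inv_hom_id _) }
  · have h1 := h.eqv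
    have h2 : (G ◁ inv h.top) ≫ (G ◁ h.top) = 𝟙 _ := by
      rw [← MonoidalCategory.whiskerLeft_comp, IsIso.inv_hom_id, MonoidalCategory.whiskerLeft_id]
    rw [IsIso.comp_inv_eq, Category.assoc, h1, reassoc_of% h2]
  · refine IsPullback.of_horiz_isIso ⟨?_⟩
    rw [IsIso.inv_comp_eq, ← Category.assoc, IsIso.eq_comp_inv]
    exact h.cart.w.symm
  · rw [IsIso.inv_comp_eq]
    exact h.wφ.symm

theorem isoOfBaseIso_hom {A B : QuotObj K G aX} (h : A ⟶ B) [IsIso h.base] :
    (isoOfBaseIso h).hom = h := rfl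

end Iso

section Triv

variable {G : Over S} [GrpObj G] {X : Over S} {aX : AlgGrp.Action G X}

/-- the morphism from the trivial torsor attached to a section of a torsor -/
noncomputable def ofSection (A : QuotObj Scheme.fppfPrecoverage G aX) (s : A.base ⟶ A.P)
    (hs : s ≫ A.π = 𝟙 A.base) :
    (AlgSt.quotMap Scheme.fppfPrecoverage G aX).obj ⟨A.base, ⟨s ≫ A.φ⟩⟩ ⟶ A :=
  ⟨𝟙 A.base, (G ◁ s) ≫ A.act.act, (Groth.Agent.S12839.aux aX A A.base s (𝟙 A.base) hs).1,
    (Groth.Agent.S12839.aux aX A A.base s (𝟙 A.base) hs).2.1,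
    (Groth.Agent.S12839.aux aX A A.base s (𝟙 A.base) hs).2.2⟩

theorem ofSection_base (A : QuotObj Scheme.fppfPrecoverage G aX) (s : A.base ⟶ A.P)
    (hs : s ≫ A.π = 𝟙 A.base) : (ofSection A s hs).base = 𝟙 A.base := rfl

instance (A : QuotObj Scheme.fppfPrecoverage G aX) (s : A.base ⟶ A.P)
    (hs : s ≫ A.π = 𝟙 A.base) : IsIso (ofSection A s hs).base := by
  rw [ofSection_base]; exact IsIso.id _

/-- a torsor with a section is isomorphic to a trivial one, over the identity of the base -/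
noncomputable def trivIso (A : QuotObj Scheme.fppfPrecoverage G aX) (s : A.base ⟶ A.P)
    (hs : s ≫ A.π = 𝟙 A.base) :
    (AlgSt.quotMap Scheme.fppfPrecoverage G aX).obj ⟨A.base, ⟨s ≫ A.φ⟩⟩ ≅ A :=
  isoOfBaseIso (ofSection A s hs)

theorem trivIso_hom_base (A : QuotObj Scheme.fppfPrecoverage G aX) (s : A.base ⟶ A.P)
    (hs : s ≫ A.π = 𝟙 A.base) : (trivIso A s hs).hom.base = 𝟙 A.base := rfl

/-- trivial torsors at two points of `X` in one orbit are isomorphic over the identity -/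
theorem rmulIso_aux {T : Over S} (x x' : T ⟶ X) (g : T ⟶ G)
    (hg : lift g x' ≫ aX.act = x) : lift g (𝟙 T ≫ x') ≫ aX.act = x := by
  rw [Category.id_comp]
  exact hg

noncomputable def rmulIso {T : Over S} (x x' : T ⟶ X) (g : T ⟶ G)
    (hg : lift g x' ≫ aX.act = x) :
    (AlgSt.quotMap Scheme.fppfPrecoverage G aX).obj ⟨T, ⟨x⟩⟩ ≅
      (AlgSt.quotMap Scheme.fppfPrecoverage G aX).obj ⟨T, ⟨x'⟩⟩ :=
  haveI : IsIso (Groth.Agent.S13575.rmulHom aX (𝟙 T) x x' g (rmulIso_aux x x' g hg)).base :=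
    (IsIso.id T : IsIso (𝟙 T))
  isoOfBaseIso (Groth.Agent.S13575.rmulHom aX (𝟙 T) x x' g (rmulIso_aux x x' g hg))

theorem rmulIso_hom_base {T : Over S} (x x' : T ⟶ X) (g : T ⟶ G)
    (hg : lift g x' ≫ aX.act = x) : (rmulIso (aX := aX) x x' g hg).hom.base = 𝟙 T := rfl

end Triv

section Fiber

universe v w

variable {𝒳 : BasedCategory.{v, w} (Over S)} {M : AlgSp.Sp S}

/-- an isomorphism of the fibre category from an isomorphism lying over the identity -/
def fiberIso {T : Over S} {x y : 𝒳.p.Fiber T} (e : x.1 ≅ y.1)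
    (he : 𝒳.p.IsHomLift (𝟙 T) e.hom) : x ≅ y where
  hom := ⟨e.hom, he⟩
  inv := ⟨e.inv, IsHomLift.lift_id_inv 𝒳.p T e⟩
  hom_inv_id := Functor.Fiber.hom_ext e.hom_inv_id
  inv_hom_id := Functor.Fiber.hom_ext e.inv_hom_id

theorem fibSec_eq (π : 𝒳 ⥤ᵇ AlgSt.ofSp M) {T : Over S} (x : 𝒳.p.Fiber T) :
    AlgSt.fibSec π x = M.obj.map (eqToHom x.2.symm).op (pshSec π x.1) := by
  unfold AlgSt.fibSec pshSec
  rw [psh_map_op_map_op, eqToHom_trans]
  rfl

theorem fibSec_mk (π : 𝒳 ⥤ᵇ AlgSt.ofSp M) (a : 𝒳.obj) :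
    AlgSt.fibSec π (⟨a, rfl⟩ : 𝒳.p.Fiber (𝒳.p.obj a)) = pshSec π a := by
  exact (fibSec_eq π _).trans (psh_map_id_op M.obj _)

theorem fibSec_eq_of_hom (π : 𝒳 ⥤ᵇ AlgSt.ofSp M) {T : Over S} {x y : 𝒳.p.Fiber T} (e : x ⟶ y) :
    AlgSt.fibSec π x = AlgSt.fibSec π y := by
  rw [fibSec_eq, fibSec_eq]
  have h1 := pshSec_map π e.1
  have h2 : 𝒳.p.map e.1 = eqToHom x.2 ≫ 𝟙 T ≫ eqToHom y.2.symm :=
    have := e.2
    IsHomLift.fac' 𝒳.p (𝟙 T) e.1
  rw [← h1, h2, psh_map_op_map_op]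
  congr 2
  simp

end Fiber

section GeomPt

variable {G : Over S} [GrpObj G] {X : Over S} {aX : AlgGrp.Action G X}

theorem isHomLift_of_base_eq_id {A B : QuotObj Scheme.fppfPrecoverage G aX} {T : Over S}
    (h : A ⟶ B) (hA : A.base = T) (hB : B.base = T)
    (hb : h.base = eqToHom hA ≫ eqToHom hB.symm) :
    (AlgSt.QuotSt Scheme.fppfPrecoverage G aX).p.IsHomLift (𝟙 T) h := by
  apply IsHomLift.of_fac' (AlgSt.QuotSt Scheme.fppfPrecoverage G aX).p (𝟙 T) h hA hB
  rw [Category.id_comp]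
  exact hb

/-- the image of a point of `X` as an object of the fibre category -/
noncomputable abbrev fibPt {T : Over S} (a : T ⟶ X) :
    (AlgSt.QuotSt Scheme.fppfPrecoverage G aX).p.Fiber T :=
  Functor.Fiber.mk (p := (AlgSt.QuotSt Scheme.fppfPrecoverage G aX).p)
    (a := (AlgSt.quotMap Scheme.fppfPrecoverage G aX).obj ⟨T, ⟨a⟩⟩) rfl

/-- over the spectrum of an algebraically closed field every object of `[X/G]` is isomorphic, in
the fibre category, to the image of a point of `X` -/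
theorem exists_fiberIso_quotMap {Ω : Type u} [Field Ω] [IsAlgClosed Ω]
    (t : Spec (CommRingCat.of Ω) ⟶ S)
    (x : (AlgSt.QuotSt Scheme.fppfPrecoverage G aX).p.Fiber (Over.mk t)) :
    ∃ a : Over.mk t ⟶ X, Nonempty (fibPt (aX := aX) a ≅ x) := by
  obtain ⟨A, hA⟩ := x
  obtain ⟨base, P, act, π, cart, loc, φ, eqv⟩ := A
  change base = Over.mk t at hA
  subst hA
  obtain ⟨s, hs⟩ := exists_section t P π loc
  let A : QuotObj Scheme.fppfPrecoverage G aX := ⟨Over.mk t, P, act, π, cart, loc, φ, eqv⟩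
  refine ⟨s ≫ φ, ⟨fiberIso (x := fibPt (aX := aX) (s ≫ φ)) (y := ⟨A, rfl⟩) (trivIso A s hs) ?_⟩⟩
  exact isHomLift_of_base_eq_id (T := Over.mk t) (trivIso A s hs).hom rfl rfl
    (by rw [trivIso_hom_base]; exact (Category.id_comp (𝟙 (Over.mk t))).symm)

/-- trivial torsors at two points of `X` in one orbit are isomorphic in the fibre category -/
theorem nonempty_fiberIso_quotMap {T : Over S} (x x' : T ⟶ X) (g : T ⟶ G)
    (hg : lift g x' ≫ aX.act = x) :
    Nonempty (fibPt (aX := aX) x ≅ fibPt (aX := aX) x') := by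
  refine ⟨fiberIso (x := fibPt (aX := aX) x) (y := fibPt (aX := aX) x') (rmulIso x x' g hg) ?_⟩
  exact isHomLift_of_base_eq_id (T := T) (rmulIso x x' g hg).hom rfl rfl
    (by rw [rmulIso_hom_base]; exact (Category.id_comp (𝟙 T)).symm)

theorem fibSec_quotMap {M : AlgSp.Sp S}
    (π : AlgSt.QuotSt Scheme.fppfPrecoverage G aX ⥤ᵇ AlgSt.ofSp M) {T : Over S} (a : T ⟶ X) :
    AlgSt.fibSec π (fibPt (aX := aX) a) = secOf π a :=
  fibSec_mk π _

end GeomPt

end Groth.Agent.Lib.Seat58.QuotStGeomPt
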