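-- helper58 (seat 58): trivial objects of the quotient stack `[X/G]` for a general precoverage `K`.
import Groth.Agent.Lib.Seat58QuotStGeomPt

set_option autoImplicit false
set_option linter.unusedSimpArgs false
universe u
open CategoryTheory MonoidalCategory CartesianMonoidalCategory AlgebraicGeometry Opposite
open AlgSt MonObj GrpObj
open Groth.Agent.S12838 Groth.Agent.Lib.Seat58.QuotStGeomPt

namespace Groth.Agent.Lib.Seat58.QuotStK

variable {S : Scheme.{u}} {K : Precoverage Scheme.{u}} [K.HasIsos]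
  {G : Over S} [GrpObj G] {X : Over S} {aX : AlgGrp.Action G X}

omit [K.HasIsos] in
/-- a section of a torsor gives a morphism from the trivial torsor (any `K`) -/
theorem ofSection_aux (A : AlgSt.QuotObj K G aX) (T' : Over S) (σ : T' ⟶ A.P)
    (fbar : T' ⟶ A.base) (hσ : σ ≫ A.π = fbar) :
    ((leftMul G T').act ≫ ((G ◁ σ) ≫ A.act.act) = (G ◁ ((G ◁ σ) ≫ A.act.act)) ≫ A.act.act) ∧
    IsPullback ((G ◁ σ) ≫ A.act.act) (snd G T') A.π fbar ∧
    ((G ◁ σ) ≫ A.act.act) ≫ A.φ = (G ◁ (σ ≫ A.φ)) ≫ aX.act := by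
  refine ⟨?_, ?_, ?_⟩
  · have e1 : (leftMul G T').act ≫ (G ◁ σ) =
        lift (fst G (G ⊗ T') * (snd G (G ⊗ T') ≫ fst G T')) (snd G (G ⊗ T') ≫ snd G T' ≫ σ) := by
      apply CartesianMonoidalCategory.hom_ext
      · rw [Category.assoc, whiskerLeft_fst, leftMul_fst, lift_fst]
      · rw [Category.assoc, whiskerLeft_snd, ← Category.assoc, leftMul_snd, lift_snd, Category.assoc]
    have e2 : (G ◁ ((G ◁ σ) ≫ A.act.act)) =
        lift (fst G (G ⊗ T'))
          (lift (snd G (G ⊗ T') ≫ fst G T') (snd G (G ⊗ T') ≫ snd G T' ≫ σ) ≫ A.act.act) := by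
      apply CartesianMonoidalCategory.hom_ext
      · simp
      · rw [whiskerLeft_snd, lift_snd, ← Category.assoc, ← Category.assoc]
        congr 1
        apply CartesianMonoidalCategory.hom_ext <;> simp
    rw [← Category.assoc, e1, e2, mul_act_lift]
  · have h := (isPullback_whiskerLeft (G := G) σ).paste_horiz A.cart
    rw [hσ] at h
    exact h
  · rw [Category.assoc, A.eqv, ← Category.assoc, ← MonoidalCategory.whiskerLeft_comp]

/-- the morphism from the trivial torsor attached to a section of a torsor -/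
noncomputable def ofSection (A : QuotObj K G aX) (s : A.base ⟶ A.P)
    (hs : s ≫ A.π = 𝟙 A.base) :
    (AlgSt.quotMap K G aX).obj ⟨A.base, ⟨s ≫ A.φ⟩⟩ ⟶ A :=
  ⟨𝟙 A.base, (G ◁ s) ≫ A.act.act, (ofSection_aux A A.base s (𝟙 A.base) hs).1,
    (ofSection_aux A A.base s (𝟙 A.base) hs).2.1,
    (ofSection_aux A A.base s (𝟙 A.base) hs).2.2⟩

theorem ofSection_base (A : QuotObj K G aX) (s : A.base ⟶ A.P)
    (hs : s ≫ A.π = 𝟙 A.base) : (ofSection A s hs).base = 𝟙 A.base := rfl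

instance (A : QuotObj K G aX) (s : A.base ⟶ A.P)
    (hs : s ≫ A.π = 𝟙 A.base) : IsIso (ofSection A s hs).base := by
  rw [ofSection_base]; exact IsIso.id _

/-- a torsor with a section is isomorphic to a trivial one, over the identity of the base -/
noncomputable def trivIso (A : QuotObj K G aX) (s : A.base ⟶ A.P)
    (hs : s ≫ A.π = 𝟙 A.base) :
    (AlgSt.quotMap K G aX).obj ⟨A.base, ⟨s ≫ A.φ⟩⟩ ≅ A :=
  isoOfBaseIso (ofSection A s hs)

theorem trivIso_hom_base (A : QuotObj K G aX) (s : A.base ⟶ A.P)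
    (hs : s ≫ A.π = 𝟙 A.base) : (trivIso A s hs).hom.base = 𝟙 A.base := rfl

theorem rmulIso_aux {T : Over S} (x x' : T ⟶ X) (g : T ⟶ G)
    (hg : lift g x' ≫ aX.act = x) : lift g (𝟙 T ≫ x') ≫ aX.act = x := by
  rw [Category.id_comp]
  exact hg

/-- the morphism of trivial torsors given by right multiplication (any `K`) -/
noncomputable def rmulHom {T T' : Over S} (f : T ⟶ T') (x : T ⟶ X) (x' : T' ⟶ X) (g : T ⟶ G)
    (hg : lift g (f ≫ x') ≫ aX.act = x) :
    (AlgSt.quotMap K G aX).obj ⟨T, ⟨x⟩⟩ ⟶ (AlgSt.quotMap K G aX).obj ⟨T', ⟨x'⟩⟩ :=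
  ⟨f, rmul f g, (part2 aX f x x' g hg).1, (part2 aX f x x' g hg).2.1, (part2 aX f x x' g hg).2.2⟩

/-- trivial torsors at two points of `X` in one orbit are isomorphic over the identity -/
noncomputable def rmulIso {T : Over S} (x x' : T ⟶ X) (g : T ⟶ G)
    (hg : lift g x' ≫ aX.act = x) :
    (AlgSt.quotMap K G aX).obj ⟨T, ⟨x⟩⟩ ≅ (AlgSt.quotMap K G aX).obj ⟨T, ⟨x'⟩⟩ :=
  haveI : IsIso (rmulHom (K := K) (aX := aX) (𝟙 T) x x' g (rmulIso_aux x x' g hg)).base :=
    (IsIso.id T : IsIso (𝟙 T))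
  isoOfBaseIso (rmulHom (K := K) (𝟙 T) x x' g (rmulIso_aux x x' g hg))

theorem rmulIso_hom_base {T : Over S} (x x' : T ⟶ X) (g : T ⟶ G)
    (hg : lift g x' ≫ aX.act = x) : (rmulIso (K := K) (aX := aX) x x' g hg).hom.base = 𝟙 T := rfl

omit [K.HasIsos] in
theorem isHomLift_of_base_eq_id {A B : QuotObj K G aX} {T : Over S}
    (h : A ⟶ B) (hA : A.base = T) (hB : B.base = T)
    (hb : h.base = eqToHom hA ≫ eqToHom hB.symm) :
    (AlgSt.QuotSt K G aX).p.IsHomLift (𝟙 T) h := by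
  apply IsHomLift.of_fac' (AlgSt.QuotSt K G aX).p (𝟙 T) h hA hB
  rw [Category.id_comp]
  exact hb

end Groth.Agent.Lib.Seat58.QuotStK
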