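-- helper58 (seat 58): cartesian lifting in the quotient stack `[X/G]` (any precoverage `K`).
import Groth.Agent.Lib.Seat58QuotStK

set_option autoImplicit false
set_option linter.unusedSimpArgs false
universe u
open CategoryTheory MonoidalCategory CartesianMonoidalCategory AlgebraicGeometry Opposite
open AlgSt MonObj GrpObj
open Groth.Agent.S12838 Groth.Agent.Lib.Seat58.QuotStGeomPt Groth.Agent.Lib.Seat58.QuotStK

namespace Groth.Agent.Lib.Seat58.QuotStCart

variable {S : Scheme.{u}} {K : Precoverage Scheme.{u}}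
  {G : Over S} [GrpObj G] {X : Over S} {aX : AlgGrp.Action G X}

/-- morphisms into the source of a morphism `τ` are determined by their base and their composite with `τ` -/
theorem hom_ext_of_comp {A' A B : QuotObj K G aX} (τ : A ⟶ B) (h₁ h₂ : A' ⟶ A)
    (hb : h₁.base = h₂.base) (ht : h₁.top ≫ τ.top = h₂.top ≫ τ.top) : h₁ = h₂ := by
  apply QuotObj.hom_ext hb
  apply τ.cart.hom_ext ht
  rw [h₁.cart.w, h₂.cart.w, hb]

/-- the total-space component of the cartesian lifting -/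
noncomputable def liftTop {A' A B : QuotObj K G aX} (τ : A ⟶ B) (ψ : A' ⟶ B) (g : A'.base ⟶ A.base)
    (hg : g ≫ τ.base = ψ.base) : A'.P ⟶ A.P :=
  τ.cart.lift ψ.top (A'.π ≫ g) (by rw [Category.assoc, hg, ψ.cart.w])

theorem liftTop_fst {A' A B : QuotObj K G aX} (τ : A ⟶ B) (ψ : A' ⟶ B) (g : A'.base ⟶ A.base)
    (hg : g ≫ τ.base = ψ.base) : liftTop τ ψ g hg ≫ τ.top = ψ.top :=
  IsPullback.lift_fst _ _ _ _

theorem liftTop_snd {A' A B : QuotObj K G aX} (τ : A ⟶ B) (ψ : A' ⟶ B) (g : A'.base ⟶ A.base)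
    (hg : g ≫ τ.base = ψ.base) : liftTop τ ψ g hg ≫ A.π = A'.π ≫ g :=
  IsPullback.lift_snd _ _ _ _

/-- cartesian lifting: every morphism of `[X/G]` is cartesian -/
noncomputable def liftHom {A' A B : QuotObj K G aX} (τ : A ⟶ B) (ψ : A' ⟶ B) (g : A'.base ⟶ A.base)
    (hg : g ≫ τ.base = ψ.base) : A' ⟶ A where
  base := g
  top := liftTop τ ψ g hg
  eqv := by
    apply τ.cart.hom_ext
    · rw [Category.assoc, liftTop_fst, Category.assoc, τ.eqv,
        ← MonoidalCategory.whiskerLeft_comp_assoc, liftTop_fst, ψ.eqv]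
    · rw [Category.assoc, Category.assoc, A.cart.w, whiskerLeft_snd_assoc, liftTop_snd,
        reassoc_of% A'.cart.w]
  cart := by
    refine IsPullback.of_right ?_ (liftTop_snd τ ψ g hg) τ.cart
    rw [liftTop_fst, hg]
    exact ψ.cart
  wφ := by rw [← τ.wφ, ← Category.assoc, liftTop_fst, ψ.wφ]

theorem liftHom_base {A' A B : QuotObj K G aX} (τ : A ⟶ B) (ψ : A' ⟶ B) (g : A'.base ⟶ A.base)
    (hg : g ≫ τ.base = ψ.base) : (liftHom τ ψ g hg).base = g := rfl

theorem liftHom_top_comp {A' A B : QuotObj K G aX} (τ : A ⟶ B) (ψ : A' ⟶ B) (g : A'.base ⟶ A.base)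
    (hg : g ≫ τ.base = ψ.base) : (liftHom τ ψ g hg).top ≫ τ.top = ψ.top :=
  liftTop_fst τ ψ g hg

theorem liftHom_comp {A' A B : QuotObj K G aX} (τ : A ⟶ B) (ψ : A' ⟶ B) (g : A'.base ⟶ A.base)
    (hg : g ≫ τ.base = ψ.base) : liftHom τ ψ g hg ≫ τ = ψ :=
  QuotObj.hom_ext hg (liftHom_top_comp τ ψ g hg)

variable [K.HasIsos]

/-- the morphism from the trivial torsor attached to a `T`-point of the total space -/
noncomputable def secHom (B : QuotObj K G aX) {T : Over S} (σ : T ⟶ B.P) :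
    (AlgSt.quotMap K G aX).obj ⟨T, ⟨σ ≫ B.φ⟩⟩ ⟶ B :=
  ⟨σ ≫ B.π, (G ◁ σ) ≫ B.act.act, (ofSection_aux B T σ _ rfl).1, (ofSection_aux B T σ _ rfl).2.1,
    (ofSection_aux B T σ _ rfl).2.2⟩

theorem secHom_base (B : QuotObj K G aX) {T : Over S} (σ : T ⟶ B.P) :
    (secHom B σ).base = σ ≫ B.π := rfl

theorem secHom_top (B : QuotObj K G aX) {T : Over S} (σ : T ⟶ B.P) :
    (secHom B σ).top = (G ◁ σ) ≫ B.act.act := rfl

theorem whisker_unitSec_leftMul (T : Over S) :
    (G ◁ unitSec (G := G) T) ≫ (leftMul G T).act = 𝟙 (G ⊗ T) := by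
  apply CartesianMonoidalCategory.hom_ext
  · rw [Category.assoc, leftMul_fst, comp_mul, whiskerLeft_fst, ← Category.assoc, whiskerLeft_snd,
      Category.assoc, unitSec, lift_fst, Category.id_comp]
    simp
  · rw [Category.assoc, leftMul_snd, ← Category.assoc, whiskerLeft_snd, Category.assoc, unitSec,
      lift_snd, Category.id_comp, Category.comp_id]

theorem lift_one_whisker {T : Over S} {Y : Over S} (σ : T ⟶ Y) :
    unitSec (G := G) T ≫ (G ◁ σ) = lift (1 : T ⟶ G) σ := by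
  rw [unitSec]
  apply CartesianMonoidalCategory.hom_ext <;> simp

omit [K.HasIsos] in
theorem top_eq_aux {T : Over S} (B : QuotObj K G aX) (t : G ⊗ T ⟶ B.P)
    (e : (leftMul G T).act ≫ t = (G ◁ t) ≫ B.act.act) :
    t = (G ◁ (unitSec T ≫ t)) ≫ B.act.act := by
  rw [MonoidalCategory.whiskerLeft_comp, Category.assoc, ← e, ← Category.assoc,
    whisker_unitSec_leftMul, Category.id_comp]

/-- every morphism out of a trivial torsor is given by the image of the unit section -/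
theorem top_eq_of_triv {T : Over S} {x : T ⟶ X} {B : QuotObj K G aX}
    (h : (AlgSt.quotMap K G aX).obj ⟨T, ⟨x⟩⟩ ⟶ B) :
    h.top = (G ◁ (unitSec T ≫ h.top)) ≫ B.act.act :=
  top_eq_aux B h.top h.eqv

omit [K.HasIsos] in
theorem unitSec_π_aux {T : Over S} (B : QuotObj K G aX) (t : G ⊗ T ⟶ B.P) (b : T ⟶ B.base)
    (e : t ≫ B.π = snd G T ≫ b) : (unitSec T ≫ t) ≫ B.π = b := by
  rw [Category.assoc, e, ← Category.assoc, unitSec, lift_snd, Category.id_comp]

theorem unitSec_top_π {T : Over S} {x : T ⟶ X} {B : QuotObj K G aX}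
    (h : (AlgSt.quotMap K G aX).obj ⟨T, ⟨x⟩⟩ ⟶ B) :
    (unitSec T ≫ h.top) ≫ B.π = h.base :=
  unitSec_π_aux B h.top h.base h.cart.w

omit [K.HasIsos] in
theorem unitSec_φ_aux {T : Over S} (B : QuotObj K G aX) (t : G ⊗ T ⟶ B.P) (x : T ⟶ X)
    (e : t ≫ B.φ = (G ◁ x) ≫ aX.act) : (unitSec T ≫ t) ≫ B.φ = x := by
  rw [Category.assoc, e, ← Category.assoc, lift_one_whisker, one_act_lift]

theorem unitSec_top_φ {T : Over S} {x : T ⟶ X} {B : QuotObj K G aX}
    (h : (AlgSt.quotMap K G aX).obj ⟨T, ⟨x⟩⟩ ⟶ B) :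
    (unitSec T ≫ h.top) ≫ B.φ = x :=
  unitSec_φ_aux B h.top x h.wφ

omit [K.HasIsos] in
theorem unitSec_act {T : Over S} {Y : Over S} (a : AlgGrp.Action G Y) (σ : T ⟶ Y) :
    unitSec T ≫ (G ◁ σ) ≫ a.act = σ := by
  rw [← Category.assoc, lift_one_whisker, one_act_lift]

theorem unitSec_secHom_top (B : QuotObj K G aX) {T : Over S} (σ : T ⟶ B.P) :
    unitSec T ≫ (secHom B σ).top = σ :=
  unitSec_act B.act σ

end Groth.Agent.Lib.Seat58.QuotStCart
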