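-- helper58 (seat 58): the base change of `X ⟶ [X/G]` along a `U`-point of `[X/G]` is the torsor.
import Groth.Agent.Lib.Seat58QuotStCart
import Groth.Agent.Lib.Helper17FibEquiv

set_option autoImplicit false
set_option backward.isDefEq.respectTransparency false
set_option backward.isDefEq.respectTransparency.types false
set_option linter.unusedSimpArgs false
universe u
open CategoryTheory MonoidalCategory CartesianMonoidalCategory AlgebraicGeometry Opposite
open AlgSt MonObj GrpObj
open Groth.Agent.S12838 Groth.Agent.Lib.Seat58.QuotStGeomPt Groth.Agent.Lib.Seat58.QuotStK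
  Groth.Agent.Lib.Seat58.QuotStCart

namespace Groth.Agent.Lib.Seat58.QuotStAtlas

variable {S : Scheme.{u}} {K : Precoverage Scheme.{u}} [K.HasIsos]
  {G : Over S} [GrpObj G] {X : Over S} {aX : AlgGrp.Action G X}
  {U : Over S} (y : FibCat.overCat U ⥤ᵇ AlgSt.QuotSt K G aX)

/-- the canonical functor `X ⟶ [X/G]` on the slice -/
noncomputable abbrev qf : FibCat.overCat X ⥤ᵇ AlgSt.QuotSt K G aX :=
  BasedFunctor.comp (AlgSt.ofOverCat X) (AlgSt.quotMap K G aX)

/-- the terminal object of the slice -/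
abbrev term (U : Over S) : (FibCat.overCat U).obj := Over.mk (𝟙 U)

/-- the torsor classified by `y` -/
noncomputable def BB : QuotObj K G aX := y.obj (term U)

omit [K.HasIsos] in
theorem hBB : (BB y).base = U := y.w_obj (term U)

/-- the projection of the torsor to `U` -/
noncomputable def πU : (BB y).P ⟶ U := (BB y).π ≫ eqToHom (hBB y)

/-- the morphism to the terminal object of the slice -/
def toTerm (c : (FibCat.overCat U).obj) : c ⟶ term U :=
  Over.homMk (U := c) (V := Over.mk (𝟙 U)) c.hom (Category.comp_id _)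

theorem comp_toTerm {c c' : (FibCat.overCat U).obj} (k : c ⟶ c') : k ≫ toTerm c' = toTerm c := by
  apply Over.OverMorphism.ext
  exact Over.w k

omit [K.HasIsos] in
theorem wobj (c : (FibCat.overCat U).obj) : (y.obj c).base = c.left := y.w_obj c

omit [K.HasIsos] in
theorem map_base {c c' : (FibCat.overCat U).obj} (k : c ⟶ c') :
    (y.map k).base = eqToHom (wobj y c) ≫ k.left ≫ eqToHom (wobj y c').symm := by
  have h1 : (FibCat.overCat U).p.IsHomLift ((FibCat.overCat U).p.map k) k := IsHomLift.map _ _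
  have h2 : (AlgSt.QuotSt K G aX).p.IsHomLift ((FibCat.overCat U).p.map k) (y.map k) :=
    BasedFunctor.preserves_isHomLift y _ k
  exact IsHomLift.fac' (AlgSt.QuotSt K G aX).p ((FibCat.overCat U).p.map k) (y.map k)

/-- the cartesian morphism from `y c` to the universal torsor -/
noncomputable def mm (c : (FibCat.overCat U).obj) : y.obj c ⟶ BB y := y.map (toTerm c)

omit [K.HasIsos] in
theorem mm_base (c : (FibCat.overCat U).obj) :
    (mm y c).base = eqToHom (wobj y c) ≫ c.hom ≫ eqToHom (hBB y).symm :=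
  map_base y (toTerm c)

omit [K.HasIsos] in
theorem map_comp_mm {c c' : (FibCat.overCat U).obj} (k : c ⟶ c') : y.map k ≫ mm y c' = mm y c := by
  rw [mm, mm, ← y.map_comp, comp_toTerm]

variable {y}

/-- the object of the slice over `U` of a point of the torsor -/
noncomputable def cOf {T : Over S} (σ : T ⟶ (BB y).P) : (FibCat.overCat U).obj := Over.mk (σ ≫ πU y)

/-- the trivial torsor of a point of the torsor -/
noncomputable def triv {T : Over S} (σ : T ⟶ (BB y).P) : QuotObj K G aX :=
  (AlgSt.quotMap K G aX).obj ⟨T, ⟨σ ≫ (BB y).φ⟩⟩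

/-- the morphism of the trivial torsor to the universal torsor -/
noncomputable def tau {T : Over S} (σ : T ⟶ (BB y).P) : triv σ ⟶ BB y := secHom (BB y) σ

theorem tau_base {T : Over S} (σ : T ⟶ (BB y).P) : (tau σ).base = σ ≫ (BB y).π := rfl

theorem tau_top {T : Over S} (σ : T ⟶ (BB y).P) :
    (tau σ).top = (G ◁ σ) ≫ (BB y).act.act := rfl

theorem eHom_aux {T : Over S} (σ : T ⟶ (BB y).P) :
    (eqToHom (wobj y (cOf σ)) : (y.obj (cOf σ)).base ⟶ (triv σ).base) ≫ (tau σ).base =
      (mm y (cOf σ)).base := by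
  rw [mm_base, tau_base]
  congr 1
  change σ ≫ (BB y).π = (σ ≫ πU y) ≫ eqToHom (hBB y).symm
  rw [πU, Category.assoc, Category.assoc, eqToHom_trans, eqToHom_refl, Category.comp_id]

/-- the comparison morphism -/
noncomputable def eHom {T : Over S} (σ : T ⟶ (BB y).P) : y.obj (cOf σ) ⟶ triv σ :=
  liftHom (tau σ) (mm y (cOf σ)) (eqToHom (wobj y (cOf σ))) (eHom_aux σ)

theorem eHom_base {T : Over S} (σ : T ⟶ (BB y).P) :
    (eHom σ).base = eqToHom (wobj y (cOf σ)) := rfl

theorem eHom_comp {T : Over S} (σ : T ⟶ (BB y).P) : eHom σ ≫ tau σ = mm y (cOf σ) :=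
  liftHom_comp _ _ _ _

instance {T : Over S} (σ : T ⟶ (BB y).P) : IsIso (eHom σ).base :=
  ⟨⟨eqToHom (wobj y (cOf σ)).symm, by rw [eHom_base, eqToHom_trans, eqToHom_refl],
    by rw [eHom_base, eqToHom_trans, eqToHom_refl]⟩⟩

/-- the comparison isomorphism -/
noncomputable def eIso {T : Over S} (σ : T ⟶ (BB y).P) : y.obj (cOf σ) ≅ triv σ :=
  isoOfBaseIso (eHom σ)

theorem eIso_hom {T : Over S} (σ : T ⟶ (BB y).P) : (eIso σ).hom = eHom σ :=
  isoOfBaseIso_hom _

theorem eHom_top_tau {T : Over S} (σ : T ⟶ (BB y).P) :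
    (eHom σ).top ≫ (tau σ).top = (mm y (cOf σ)).top :=
  liftHom_top_comp _ _ _ _

theorem whisker_tau_top {T T' : Over S} (t : T ⟶ T') (σ' : T' ⟶ (BB y).P) (σ : T ⟶ (BB y).P)
    (h : t ≫ σ' = σ) : (G ◁ t) ≫ (tau σ').top = (tau σ).top := by
  rw [tau_top, tau_top, ← Category.assoc, ← MonoidalCategory.whiskerLeft_comp, h]

variable (y)

/-- first projection of the comparison: a point of the torsor goes to its image in `U` -/
noncomputable abbrev fa : AlgSt.ofSch (BB y).P ⥤ᵇ FibCat.overCat U :=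
  BasedFunctor.comp (AlgSt.ofSpMap ((AlgSp.yon S).map (πU y))) (AlgSt.toOverCat U)

/-- second projection of the comparison: a point of the torsor goes to its image in `X` -/
noncomputable abbrev fb : AlgSt.ofSch (BB y).P ⥤ᵇ FibCat.overCat X :=
  BasedFunctor.comp (AlgSt.ofSpMap ((AlgSp.yon S).map (BB y).φ)) (AlgSt.toOverCat X)

omit [K.HasIsos] in
theorem fa_obj (w : (AlgSt.ofSch (BB y).P).obj) : (fa y).obj w = cOf w.sec.down := rfl

theorem fb_qf_obj (w : (AlgSt.ofSch (BB y).P).obj) :
    (qf (K := K) (aX := aX)).obj ((fb y).obj w) = triv w.sec.down := rfl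

omit [K.HasIsos] in
theorem fa_map_left {w w' : (AlgSt.ofSch (BB y).P).obj} (m : w ⟶ w') :
    ((fa y).map m).left = m.hom := rfl

omit [K.HasIsos] in
theorem fb_map_left {w w' : (AlgSt.ofSch (BB y).P).obj} (m : w ⟶ w') :
    ((fb y).map m).left = m.hom := rfl

theorem qf_map_top {d d' : (FibCat.overCat X).obj} (k : d ⟶ d') :
    ((qf (K := K) (aX := aX)).map k).top = G ◁ k.left := rfl

theorem qf_map_base {d d' : (FibCat.overCat X).obj} (k : d ⟶ d') :
    ((qf (K := K) (aX := aX)).map k).base = k.left := rfl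

omit [K.HasIsos] in
theorem sec_comp {w w' : (AlgSt.ofSch (BB y).P).obj} (m : w ⟶ w') :
    m.hom ≫ w'.sec.down = w.sec.down := congrArg ULift.down m.map_sec

/-- the component of the 2-isomorphism, with the types of the composite functors -/
noncomputable def compIso (w : (AlgSt.ofSch (BB y).P).obj) :
    y.obj ((fa y).obj w) ≅ (qf (K := K) (aX := aX)).obj ((fb y).obj w) :=
  eIso w.sec.down

theorem compIso_hom (w : (AlgSt.ofSch (BB y).P).obj) : (compIso y w).hom = eHom w.sec.down :=
  eIso_hom _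

theorem compIso_hom_base (w : (AlgSt.ofSch (BB y).P).obj) :
    (compIso y w).hom.base = eqToHom (wobj y (cOf w.sec.down)) := by
  rw [compIso_hom]; rfl

theorem compIso_naturality {w w' : (AlgSt.ofSch (BB y).P).obj} (m : w ⟶ w') :
    y.map ((fa y).map m) ≫ (compIso y w').hom =
      (compIso y w).hom ≫ (qf (K := K) (aX := aX)).map ((fb y).map m) := by
  rw [compIso_hom, compIso_hom]
  apply hom_ext_of_comp (tau w'.sec.down)
  · rw [QuotObj.comp_base, QuotObj.comp_base, eHom_base, eHom_base, map_base, qf_map_base,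
      fa_map_left, fb_map_left, Category.assoc, Category.assoc, eqToHom_trans, eqToHom_refl,
      Category.comp_id]
  · rw [QuotObj.comp_top, QuotObj.comp_top, Category.assoc, Category.assoc, eHom_top_tau,
      qf_map_top, fb_map_left, whisker_tau_top m.hom w'.sec.down w.sec.down (sec_comp y m),
      eHom_top_tau]
    exact congrArg QuotObj.Hom.top (map_comp_mm y ((fa y).map m))

theorem compIso_isHomLift (w : (AlgSt.ofSch (BB y).P).obj) :
    (AlgSt.QuotSt K G aX).p.IsHomLift (𝟙 w.base) (compIso y w).hom := by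
  apply isHomLift_of_base_eq_id (compIso y w).hom (wobj y (cOf w.sec.down)) rfl
  rw [compIso_hom_base, eqToHom_refl, Category.comp_id]

/-- the 2-isomorphism of the square -/
noncomputable def twoIso :
    BasedFunctor.comp (fa y) y ≅ BasedFunctor.comp (fb y) (qf (K := K) (aX := aX)) :=
  BasedNatIso.mkNatIso
    (NatIso.ofComponents (fun w => compIso y w) (fun m => compIso_naturality y m))
    (fun w => compIso_isHomLift y w)

/-- the comparison functor to the 2-fibre product -/
noncomputable abbrev cmp : AlgSt.ofSch (BB y).P ⥤ᵇ FibCat.fp y (qf (K := K) (aX := aX)) :=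
  FibCat.fpLift (fa y) (fb y) (twoIso y)

theorem cmp_obj_iso_hom (w : (AlgSt.ofSch (BB y).P).obj) :
    ((cmp y).obj w).obj.iso.hom = (compIso y w).hom := rfl

theorem cmp_map_fst {w w' : (AlgSt.ofSch (BB y).P).obj} (m : w ⟶ w') :
    ((cmp y).map m).hom.fst = (fa y).map m := rfl

theorem cmp_map_snd {w w' : (AlgSt.ofSch (BB y).P).obj} (m : w ⟶ w') :
    ((cmp y).map m).hom.snd = (fb y).map m := rfl

theorem cmp_faithful : (cmp y).toFunctor.Faithful where
  map_injective {w w'} m m' h := by
    apply Stk.EltObj.hom_ext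
    have h1 : ((cmp y).map m).hom.fst = ((cmp y).map m').hom.fst := by
      rw [show (cmp y).map m = (cmp y).map m' from h]
    rw [cmp_map_fst, cmp_map_fst] at h1
    have h2 := congrArg CommaMorphism.left h1
    exact h2

omit [K.HasIsos] in
theorem eq_of_eqToHom_comp {A A' B B' : Over S} (hA : A' = A) (hB : B' = B) (t₁ t₂ : A ⟶ B)
    (h : (eqToHom hA ≫ t₁ ≫ eqToHom hB.symm) ≫ eqToHom hB = eqToHom hA ≫ t₂) : t₁ = t₂ := by
  subst hA hB
  simpa using h

/-- the data extracted from a morphism of the 2-fibre product between images of `cmp` -/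
theorem cmp_full_aux {w w' : (AlgSt.ofSch (BB y).P).obj}
    (φ : (cmp y).obj w ⟶ (cmp y).obj w') :
    ∃ t : w.base ⟶ w'.base, t ≫ w'.sec.down = w.sec.down ∧ φ.hom.fst.left = t ∧
      φ.hom.snd.left = t := by
  have hw := φ.hom.w
  rw [cmp_obj_iso_hom, cmp_obj_iso_hom] at hw
  obtain ⟨t₁, e₁⟩ : ∃ t : w.base ⟶ w'.base, φ.hom.fst.left = t := ⟨_, rfl⟩
  obtain ⟨t₂, e₂⟩ : ∃ t : w.base ⟶ w'.base, φ.hom.snd.left = t := ⟨_, rfl⟩
  have hb : (eqToHom (wobj y (cOf w.sec.down)) ≫ t₁ ≫ eqToHom (wobj y (cOf w'.sec.down)).symm) ≫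
      eqToHom (wobj y (cOf w'.sec.down)) = eqToHom (wobj y (cOf w.sec.down)) ≫ t₂ := by
    have := congrArg QuotObj.Hom.base hw
    rw [QuotObj.comp_base, QuotObj.comp_base, compIso_hom_base, compIso_hom_base] at this
    rw [← e₁, ← e₂]
    exact (congrArg (· ≫ _) (map_base y φ.hom.fst).symm).trans this
  have hb' : t₁ = t₂ := eq_of_eqToHom_comp _ _ t₁ t₂ hb
  have h1 : (compIso y w).hom ≫ tau w.sec.down =
      (compIso y w).hom ≫ (qf (K := K) (aX := aX)).map φ.hom.snd ≫ tau w'.sec.down := by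
    calc (compIso y w).hom ≫ tau w.sec.down = mm y (cOf w.sec.down) := by
          rw [compIso_hom]; exact eHom_comp _
      _ = y.map φ.hom.fst ≫ mm y (cOf w'.sec.down) := (map_comp_mm y φ.hom.fst).symm
      _ = y.map φ.hom.fst ≫ (compIso y w').hom ≫ tau w'.sec.down := by
          rw [compIso_hom y w']; exact congrArg (y.map φ.hom.fst ≫ ·) (eHom_comp _).symm
      _ = (compIso y w).hom ≫ (qf (K := K) (aX := aX)).map φ.hom.snd ≫ tau w'.sec.down := by
          rw [← Category.assoc, ← Category.assoc]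
          exact congrArg (· ≫ tau w'.sec.down) hw
  have h2 : tau w.sec.down = (qf (K := K) (aX := aX)).map φ.hom.snd ≫ tau w'.sec.down :=
    (cancel_epi (compIso y w).hom).mp h1
  have h3 : (G ◁ w.sec.down) ≫ (BB y).act.act = (G ◁ t₂) ≫ (G ◁ w'.sec.down) ≫ (BB y).act.act := by
    have := congrArg QuotObj.Hom.top h2
    rw [← e₂]
    exact this
  have h4 : w.sec.down = t₂ ≫ w'.sec.down := by
    have := congrArg (unitSec w.base ≫ ·) h3
    simp only [] at this
    rw [unitSec_act, ← Category.assoc (G ◁ t₂), ← MonoidalCategory.whiskerLeft_comp, unitSec_act] at this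
    exact this
  exact ⟨t₁, by rw [hb']; exact h4.symm, e₁, e₂.trans hb'.symm⟩

theorem cmp_full : (cmp y).toFunctor.Full where
  map_surjective {w w'} φ := by
    obtain ⟨t, ht, h1, h2⟩ := cmp_full_aux y φ
    let m : w ⟶ w' := ⟨t, ULift.ext _ _ ht⟩
    refine ⟨m, ?_⟩
    apply ObjectProperty.hom_ext
    apply CategoryTheory.Limits.CategoricalPullback.hom_ext
    · apply Over.OverMorphism.ext
      exact h1.symm
    · apply Over.OverMorphism.ext
      exact h2.symm

section EssSurj

variable {y}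
variable {c : (FibCat.overCat U).obj} {d : (FibCat.overCat X).obj}
  (J : y.obj c ≅ (qf (K := K) (aX := aX)).obj d)

/-- the morphism from the trivial torsor of `d` to the universal torsor -/
noncomputable def hh : (qf (K := K) (aX := aX)).obj d ⟶ BB y := J.inv ≫ mm y c

/-- the identification of the bases -/
noncomputable def gam : c.left ≅ d.left :=
  eqToIso (wobj y c).symm ≪≫ (QuotObj.forget K G aX).mapIso J

theorem gam_hom : (gam J).hom = eqToHom (wobj y c).symm ≫ J.hom.base := rfl

theorem gam_hom_inv_base : (gam J).hom ≫ J.inv.base = eqToHom (wobj y c).symm := by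
  rw [gam_hom, Category.assoc, ← QuotObj.comp_base, J.hom_inv_id, QuotObj.id_base,
    Category.comp_id]

/-- the point of the torsor -/
noncomputable def sig : c.left ⟶ (BB y).P := (gam J).hom ≫ unitSec d.left ≫ (hh J).top

theorem sig_π : sig J ≫ (BB y).π = (gam J).hom ≫ (hh J).base := by
  rw [sig, Category.assoc, ← unitSec_top_π (hh J), Category.assoc]

theorem sig_φ : sig J ≫ (BB y).φ = (gam J).hom ≫ d.hom := by
  have := unitSec_top_φ (hh J)
  rw [sig, Category.assoc]
  exact congrArg ((gam J).hom ≫ ·) ((Category.assoc _ _ _).symm.trans this)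

theorem hh_base : (hh J).base = J.inv.base ≫ eqToHom (wobj y c) ≫ c.hom ≫ eqToHom (hBB y).symm := by
  rw [hh, QuotObj.comp_base, mm_base]

theorem sig_πU : sig J ≫ πU y = c.hom := by
  rw [πU, ← Category.assoc, sig_π, hh_base, ← Category.assoc (gam J).hom, gam_hom_inv_base]
  simp

/-- the point of `ofSch P` -/
noncomputable def xi : (AlgSt.ofSch (BB y).P).obj := ⟨c.left, ⟨sig J⟩⟩

/-- first component of the isomorphism -/
noncomputable def eL : (fa y).obj (xi J) ≅ c :=
  Over.isoMk (Iso.refl c.left) (by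
    change 𝟙 _ ≫ c.hom = sig J ≫ πU y
    rw [Category.id_comp, sig_πU])

theorem eL_hom_left : (eL J).hom.left = 𝟙 c.left := rfl

omit [K.HasIsos] in
theorem fb_obj_hom (w : (AlgSt.ofSch (BB y).P).obj) :
    ((fb y).obj w).hom = w.sec.down ≫ (BB y).φ := rfl

theorem eR_aux : (gam (c := c) (d := d) J).hom ≫ d.hom = ((fb y).obj (xi J)).hom := by
  rw [fb_obj_hom]
  exact (sig_φ J).symm

/-- second component of the isomorphism -/
noncomputable def eR : (fb y).obj (xi J) ≅ d :=
  Over.isoMk (f := (fb y).obj (xi J)) (g := d) (gam (c := c) (d := d) J) (eR_aux J)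

theorem eR_hom_left : (eR J).hom.left = (gam J).hom := rfl

theorem key : (qf (K := K) (aX := aX)).map (eR J).hom ≫ hh J = tau (sig J) := by
  apply QuotObj.hom_ext
  · rw [QuotObj.comp_base, qf_map_base, eR_hom_left, tau_base, sig_π]
  · rw [QuotObj.comp_top, qf_map_top, eR_hom_left, tau_top, top_eq_of_triv (hh J), ← Category.assoc,
      ← MonoidalCategory.whiskerLeft_comp]
    rfl

omit [K.HasIsos] [GrpObj G] in
theorem base_aux {A A' B Z : Over S} (h1 : A' = A) (h2 : B = A) (k : B ⟶ Z) :
    (eqToHom h1 ≫ 𝟙 A ≫ eqToHom h2.symm) ≫ k = eqToHom h1 ≫ eqToHom h2.symm ≫ k := by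
  simp

theorem hw : y.map (eL J).hom ≫ J.hom =
    (compIso y (xi J)).hom ≫ (qf (K := K) (aX := aX)).map (eR J).hom := by
  have h1 : (y.map (eL J).hom ≫ J.hom) ≫ hh J =
      ((compIso y (xi J)).hom ≫ (qf (K := K) (aX := aX)).map (eR J).hom) ≫ hh J := by
    rw [Category.assoc, Category.assoc, key, hh, ← Category.assoc J.hom, J.hom_inv_id,
      Category.id_comp, map_comp_mm, compIso_hom]
    exact (eHom_comp _).symm
  apply hom_ext_of_comp (hh J)
  · rw [QuotObj.comp_base, QuotObj.comp_base, map_base, compIso_hom_base, qf_map_base,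
      eR_hom_left, eL_hom_left, gam_hom]
    exact base_aux (wobj y ((fa y).obj (xi J))) (wobj y c) J.hom.base
  · exact congrArg QuotObj.Hom.top h1

end EssSurj

theorem cmp_essSurj : Groth.Agent.Lib.Helper17.EssSurjOver (cmp y) := by
  intro E
  obtain ⟨⟨c, d, J⟩, hE⟩ := E
  let I0 : ((cmp y).obj (xi J)).obj ≅
      (⟨c, d, J⟩ : CategoryTheory.Limits.CategoricalPullback y.toFunctor
        (qf (K := K) (aX := aX)).toFunctor) :=
    CategoryTheory.Limits.CategoricalPullback.mkIso (x := ((cmp y).obj (xi J)).obj)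
      (y := (⟨c, d, J⟩ : CategoryTheory.Limits.CategoricalPullback y.toFunctor
        (qf (K := K) (aX := aX)).toFunctor)) (eL J) (eR J) (hw J)
  let I1 : (cmp y).obj (xi J) ≅
      (⟨⟨c, d, J⟩, hE⟩ : (FibCat.fp y (qf (K := K) (aX := aX))).obj) :=
    ObjectProperty.isoMk _ I0
  refine ⟨xi J, I1, ?_⟩
  have h := IsHomLift.map (FibCat.fp y (qf (K := K) (aX := aX))).p I1.hom
  have e : (FibCat.fp y (qf (K := K) (aX := aX))).p.map I1.hom = 𝟙 c.left := rfl
  rw [e] at h
  exact h

theorem isEquivOver_cmp : FibCat.IsEquivOver (cmp y) := by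
  have h1 := cmp_full y
  have h2 := cmp_faithful y
  exact Groth.Agent.Lib.Helper17.isEquivOver_of_fullyFaithful_of_essSurjOver (cmp y)
    (cmp_essSurj y)

end Groth.Agent.Lib.Seat58.QuotStAtlas
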