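-- helper58 (seat 58): fpqc-local properties of the group pass to the projection of a torsor in `[X/G]`.
import Groth.Agent.Lib.Seat58QuotStK
import Groth.Agent.Lib.Helper12Torsor

set_option autoImplicit false
set_option linter.unusedSimpArgs false
set_option linter.unnecessarySimpa false
universe u
open CategoryTheory CategoryTheory.Limits MonoidalCategory CartesianMonoidalCategory AlgebraicGeometry Opposite
open AlgSt MonObj GrpObj MorphismProperty
open Groth.Agent.Lib.Seat58.QuotStK

namespace Groth.Agent.Lib.Seat58.QuotStTorsorProp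

variable {S : Scheme.{u}} {G : Over S} [GrpObj G] {X : Over S} {aX : AlgGrp.Action G X}

omit [GrpObj G] in
theorem toUnit_left (Y : Over S) : (toUnit Y).left = Y.hom := by
  simpa using CategoryTheory.Over.w (toUnit Y)

omit [GrpObj G] in
/-- the projection `G ×_S T ⟶ T` is a base change of `G ⟶ S` -/
theorem prop_snd_left (P : MorphismProperty Scheme.{u}) [P.IsStableUnderBaseChange]
    (hG : P G.hom) (T : Over S) : P (snd G T).left := by
  have h0 := (isPullback_fst_snd G T).map (Over.forget S)
  refine P.of_isPullback h0 ?_
  change P (toUnit G).left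
  rwa [toUnit_left]

/-- a property of `G ⟶ S` that is stable under base change and fpqc local on the target holds for the
projection of every fppf torsor occurring in `[X/G]` -/
theorem prop_π_left (P : MorphismProperty Scheme.{u}) [IsZariskiLocalAtTarget P]
    [P.IsStableUnderBaseChange]
    (hP : P.DescendsAlong (@Surjective ⊓ @Flat ⊓ @QuasiCompact : MorphismProperty Scheme.{u}))
    (hG : P G.hom) (B : QuotObj Scheme.fppfPrecoverage G aX) : P B.π.left := by
  obtain ⟨R, hR, hsec⟩ := B.loc
  refine Groth.Agent.Lib.Helper12.of_mem_fpqcPrecoverage hP B.π.left R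
    (Scheme.fppfPrecoverage_le_fpqcPrecoverage _ hR) ?_
  intro V f hf
  obtain ⟨s, hs⟩ := hsec f hf
  have hs' : s ≫ B.π.left = f := hs
  have hw : s ≫ B.P.hom = f ≫ B.base.hom := by
    rw [← hs', Category.assoc, CategoryTheory.Over.w]
  let T' : Over S := Over.mk (f ≫ B.base.hom)
  let σ : T' ⟶ B.P := Over.homMk s hw
  let fbar : T' ⟶ B.base := Over.homMk f rfl
  have hσ : σ ≫ B.π = fbar := by
    apply Over.OverMorphism.ext
    exact hs'
  have hpb := ((ofSection_aux B T' σ fbar hσ).2.1).map (Over.forget S)
  have hpb' : IsPullback ((G ◁ σ) ≫ B.act.act).left (snd G T').left B.π.left f := hpb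
  have hsnd : P (snd G T').left := prop_snd_left P hG T'
  rw [← hpb'.isoPullback_inv_snd, P.cancel_left_of_respectsIso]
  exact hsnd

end Groth.Agent.Lib.Seat58.QuotStTorsorProp
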