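-- helper58 (seat 58): `X ⟶ [X/G]` is representable with every fpqc-local property of `G ⟶ S`.
import Groth.Agent.Lib.Seat58QuotStAtlas
import Groth.Agent.Lib.Seat58QuotStTorsorProp
import Groth.Agent.Lib.Helper15SpMapRep
import Groth.Agent.Lib.Helper15LocEss

set_option autoImplicit false
set_option backward.isDefEq.respectTransparency false
set_option backward.isDefEq.respectTransparency.types false
set_option linter.unusedSimpArgs false
set_option linter.unnecessarySimpa false
universe u
open CategoryTheory CategoryTheory.Limits MonoidalCategory CartesianMonoidalCategory AlgebraicGeometry Opposite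
open AlgSt MonObj GrpObj MorphismProperty
open Groth.Agent.Lib.Seat58.QuotStAtlas Groth.Agent.Lib.Seat58.QuotStTorsorProp

namespace Groth.Agent.Lib.Seat58.QuotStAtlasProp

variable {S : Scheme.{u}} {G : Over S} [GrpObj G] {X : Over S} {aX : AlgGrp.Action G X}
  {U : Over S} (y : FibCat.overCat U ⥤ᵇ AlgSt.QuotSt Scheme.fppfPrecoverage G aX)

theorem spMapOfOver_cmp :
    AlgSt.spMapOfOver (BasedFunctor.comp (cmp y) (FibCat.fpFst y (qf (K := Scheme.fppfPrecoverage) (aX := aX)))) =
      (AlgSp.yon S).map (πU y) :=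
  Groth.Agent.Lib.Helper15SpMapRep.spMapOfOver_ofSpMap_toOverCat ((AlgSp.yon S).map (πU y))

theorem prop_πU_left (P : MorphismProperty Scheme.{u}) [IsZariskiLocalAtTarget P]
    [P.IsStableUnderBaseChange]
    (hP : P.DescendsAlong (@Surjective ⊓ @Flat ⊓ @QuasiCompact : MorphismProperty Scheme.{u}))
    (hG : P G.hom) : P (πU y).left := by
  have h := prop_π_left P hP hG (BB y)
  have e : (πU y).left = (BB y).π.left ≫ (eqToHom (hBB y)).left := rfl
  have : IsIso (eqToHom (hBB y)).left :=
    inferInstanceAs (IsIso ((Over.forget S).map (eqToHom (hBB y))))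
  rw [e, P.cancel_right_of_respectsIso]
  exact h

theorem isSurjectiveMor_yon_map {V W : Over S} (h : V ⟶ W) (hs : Function.Surjective h.left) :
    AlgSp.IsSurjectiveMor ((AlgSp.yon S).map h) := by
  intro x
  obtain ⟨v, hv⟩ := hs (AlgSp.Points.toScheme W x)
  refine ⟨AlgSp.Points.ofScheme V v, ?_⟩
  rw [Groth.Agent.Lib.Helper15LocEss.points_map_yon_ofScheme, hv, AlgSp.Points.ofScheme_toScheme]

omit [GrpObj G] in
theorem locP_yon_map_of_smooth {V W : Over S} (h : V ⟶ W) (hh : Smooth h.left) :
    AlgSp.LocP @Smooth ((AlgSp.yon S).map h) := by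
  let X' : AlgSp.Space S := ⟨(AlgSp.yon S).obj V, AlgSp.IsAlgSpace.yon_obj V⟩
  let Y' : AlgSp.Space S := ⟨(AlgSp.yon S).obj W, AlgSp.IsAlgSpace.yon_obj W⟩
  let f : X' ⟶ Y' := ObjectProperty.homMk ((AlgSp.yon S).map h)
  exact Groth.Agent.S9947.result @Smooth (Or.inr (Or.inr (Or.inr (Or.inl rfl)))) f (𝟙 _) (𝟙 _) h
    (AlgSp.repWith_id _ V) (AlgSp.repWith_id _ V) (AlgSp.repWith_id _ W)
    (by rw [Category.id_comp, Category.comp_id]; rfl) hh

/-- a group scheme is surjective over its base (unit section) -/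
theorem surjective_grp_hom : Surjective G.hom := by
  have h : η[G].left ≫ G.hom = 𝟙 S := by
    simpa using CategoryTheory.Over.w η[G]
  refine ⟨fun x => ⟨η[G].left x, ?_⟩⟩
  rw [← Scheme.Hom.comp_apply, h]
  rfl

/-- the torsor projection is surjective -/
theorem isSurjectiveMor_yon_map_πU : AlgSp.IsSurjectiveMor ((AlgSp.yon S).map (πU y)) :=
  isSurjectiveMor_yon_map _
    (prop_πU_left y @Surjective inferInstance surjective_grp_hom).surj

end Groth.Agent.Lib.Seat58.QuotStAtlasProp
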