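import Mathlib

/-!
# Seat72: counting Frobenius-fixed embeddings of a field into an algebraically closed field
-/

set_option autoImplicit false
set_option maxSynthPendingDepth 3
set_option linter.style.haveILetI false
set_option linter.unusedSectionVars false

universe u v

namespace Groth.Agent.Lib.Seat72.ZetaCount

section Field

variable (k₀ : Type*) [Field k₀] [Finite k₀] (L : Type*) [Field L] [Algebra k₀ L]
  (k : Type*) [Field k] [IsAlgClosed k] [Algebra k₀ k]

/-- if some embedding is fixed by the `q^m`-Frobenius then `L` is finite. -/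
theorem finite_of_fixed (m : ℕ) (hm : 1 ≤ m) (ψ : L →ₐ[k₀] k)
    (h : ∀ c, ψ c ^ (Nat.card k₀ ^ m) = ψ c) : Finite L := by
  have hq : 1 < Nat.card k₀ := Finite.one_lt_card
  have hN : 1 < Nat.card k₀ ^ m := Nat.one_lt_pow (by omega) hq
  have hne : (Polynomial.X ^ (Nat.card k₀ ^ m) - Polynomial.X : Polynomial L) ≠ 0 :=
    FiniteField.X_pow_card_sub_X_ne_zero L hN
  have hsub : (Set.univ : Set L) ⊆
      (Polynomial.X ^ (Nat.card k₀ ^ m) - Polynomial.X : Polynomial L).rootSet L := by
    intro c _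
    rw [Polynomial.mem_rootSet]
    refine ⟨hne, ?_⟩
    have h1 : ψ (c ^ (Nat.card k₀ ^ m)) = ψ c := by rw [map_pow, h]
    have h2 := ψ.injective h1
    simp [h2]
  have hfin : (Set.univ : Set L).Finite :=
    (Polynomial.rootSet_finite _ L).subset hsub
  exact Set.finite_univ_iff.mp hfin

/-- for a finite extension `L` of degree `e`: every element is fixed by the `q^m`-power map iff
`e ∣ m`. -/
theorem forall_pow_eq_iff [Finite L] (m : ℕ) :
    (∀ c : L, c ^ (Nat.card k₀ ^ m) = c) ↔ Module.finrank k₀ L ∣ m := by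
  haveI := Fintype.ofFinite k₀
  rw [Nat.card_eq_fintype_card, ← FiniteField.orderOf_frobeniusAlgHom k₀ L,
    orderOf_dvd_iff_pow_eq_one]
  constructor
  · intro h
    ext c
    rw [AlgHom.coe_pow, FiniteField.coe_frobeniusAlgHom, pow_iterate, AlgHom.one_apply]
    exact h c
  · intro h c
    have := DFunLike.congr_fun h c
    rwa [AlgHom.coe_pow, FiniteField.coe_frobeniusAlgHom, pow_iterate, AlgHom.one_apply] at this

/-- the number of `k₀`-embeddings `L → k` fixed by the `q^m`-Frobenius of `k`. -/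
theorem card_fixed_algHom (m : ℕ) (hm : 1 ≤ m) :
    Nat.card {ψ : L →ₐ[k₀] k // ∀ c, ψ c ^ (Nat.card k₀ ^ m) = ψ c} =
      if Module.finrank k₀ L ≠ 0 ∧ Module.finrank k₀ L ∣ m then Module.finrank k₀ L else 0 := by
  by_cases hfd : FiniteDimensional k₀ L
  · haveI : Finite L := Module.finite_of_finite k₀
    have hpos : Module.finrank k₀ L ≠ 0 := Module.finrank_pos.ne'
    have hiff : ∀ ψ : L →ₐ[k₀] k, (∀ c, ψ c ^ (Nat.card k₀ ^ m) = ψ c) ↔
        Module.finrank k₀ L ∣ m := by
      intro ψ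
      rw [← forall_pow_eq_iff k₀ L m]
      constructor
      · intro h c
        apply ψ.injective
        change ψ (c ^ (Nat.card k₀ ^ m)) = ψ c
        rw [map_pow, h]
      · intro h c
        rw [← map_pow, h]
    by_cases hdvd : Module.finrank k₀ L ∣ m
    · rw [if_pos ⟨hpos, hdvd⟩]
      have e : {ψ : L →ₐ[k₀] k // ∀ c, ψ c ^ (Nat.card k₀ ^ m) = ψ c} ≃ (L →ₐ[k₀] k) :=
        Equiv.subtypeUnivEquiv fun ψ => (hiff ψ).mpr hdvd
      rw [Nat.card_congr e]
      haveI : Algebra.IsSeparable k₀ L := Algebra.IsAlgebraic.isSeparable_of_perfectField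
      rw [Nat.card_eq_fintype_card, AlgHom.card]
    · rw [if_neg (fun h => hdvd h.2)]
      haveI : IsEmpty {ψ : L →ₐ[k₀] k // ∀ c, ψ c ^ (Nat.card k₀ ^ m) = ψ c} :=
        ⟨fun ψ => hdvd ((hiff ψ.1).mp ψ.2)⟩
      exact Nat.card_of_isEmpty
  · have h0 : Module.finrank k₀ L = 0 := Module.finrank_of_not_finite hfd
    rw [if_neg (fun h => h.1 h0)]
    haveI : IsEmpty {ψ : L →ₐ[k₀] k // ∀ c, ψ c ^ (Nat.card k₀ ^ m) = ψ c} := by
      refine ⟨fun ψ => hfd ?_⟩
      haveI := finite_of_fixed k₀ L k m hm ψ.1 ψ.2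
      exact Module.Finite.of_finite
    exact Nat.card_of_isEmpty

end Field

end Groth.Agent.Lib.Seat72.ZetaCount
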