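import Mathlib
import Groth.Agent.Lib.Helper10GaloisOrbit
import Groth.Agent.Lib.Helper10WeilZero
import Groth.Agent.Lib.Seat72ZetaCount
import Groth.Prelude.Def_W4c1zetahwZeta

/-!
# Seat72: general facts on residue degrees and counting embeddings into finite fields

* `card_algHom_finite`: for finite fields `k ⊆ k'` with `[k' : k] = r` and any field `L/k`,
  `#Hom_k(L, k') = [L : k]` if `[L : k] ≠ 0` divides `r`, and `0` otherwise.
* `residueDegree_eq_finrank`: the residue degree over `Spec k` is `[κ(x) : k]` (any field `k`).
* `residueDegree_ne_zero_iff_isClosed`: for `X` locally of finite type over `k`.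
* `residueDegree_comp_of_isPreimmersion`: residue degrees do not change along (pre)immersions.
-/

set_option autoImplicit false
set_option maxSynthPendingDepth 3
set_option linter.style.haveILetI false
set_option linter.unusedSectionVars false

universe u

open AlgebraicGeometry CategoryTheory CategoryTheory.Limits

namespace Groth.Agent.Lib.Seat72.ZetaGenA

section Field

/-- In a field `K` containing a finite field `k'`, the elements fixed by the `#k'`-power map are
those of `k'`. -/
theorem mem_range_of_pow_card_eq (k' K : Type*) [Field k'] [Finite k'] [Field K] [Algebra k' K]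
    (a : K) (ha : a ^ Nat.card k' = a) : a ∈ Set.range (algebraMap k' K) := by
  classical
  haveI := Fintype.ofFinite k'
  have hQ : 1 < Nat.card k' := Finite.one_lt_card
  set p : Polynomial K := Polynomial.X ^ Nat.card k' - Polynomial.X with hp
  have hne : p ≠ 0 := FiniteField.X_pow_card_sub_X_ne_zero K hQ
  have hdeg : p.natDegree = Nat.card k' := FiniteField.X_pow_card_sub_X_natDegree_eq K hQ
  set img : Finset K := Finset.univ.image (algebraMap k' K) with himg
  have hcard : img.card = Nat.card k' := by
    rw [himg, Finset.card_image_of_injective _ (algebraMap k' K).injective, Finset.card_univ,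
      Nat.card_eq_fintype_card]
  have hsub : img ⊆ p.roots.toFinset := by
    intro b hb
    obtain ⟨c, -, rfl⟩ := Finset.mem_image.mp hb
    rw [Multiset.mem_toFinset, Polynomial.mem_roots hne, Polynomial.IsRoot.def]
    simp only [hp, Polynomial.eval_sub, Polynomial.eval_pow, Polynomial.eval_X]
    rw [← map_pow, Nat.card_eq_fintype_card, FiniteField.pow_card, sub_self]
  have hle : p.roots.toFinset.card ≤ img.card := by
    rw [hcard, ← hdeg]
    exact (Multiset.toFinset_card_le _).trans (Polynomial.card_roots' p)
  have heq := Finset.eq_of_subset_of_card_le hsub hle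
  have hmem : a ∈ p.roots.toFinset := by
    rw [Multiset.mem_toFinset, Polynomial.mem_roots hne, Polynomial.IsRoot.def]
    simp only [hp, Polynomial.eval_sub, Polynomial.eval_pow, Polynomial.eval_X]
    rw [ha, sub_self]
  rw [← heq] at hmem
  obtain ⟨c, -, rfl⟩ := Finset.mem_image.mp hmem
  exact ⟨c, rfl⟩

variable (k : Type*) [Field k] [Finite k] (L : Type*) [Field L] [Algebra k L]
  (k' : Type*) [Field k'] [Algebra k k'] [Finite k']

/-- the number of `k`-embeddings of a field `L` into a finite extension `k'` of the finite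
field `k`. -/
theorem card_algHom_finite :
    Nat.card (L →ₐ[k] k') =
      if Module.finrank k L ≠ 0 ∧ Module.finrank k L ∣ Module.finrank k k' then
        Module.finrank k L else 0 := by
  classical
  let K := AlgebraicClosure k'
  have hr : 1 ≤ Module.finrank k k' := Module.finrank_pos
  have hcard : Nat.card k' = Nat.card k ^ Module.finrank k k' := Module.natCard_eq_pow_finrank
  rw [← Groth.Agent.Lib.Seat72.ZetaCount.card_fixed_algHom k L K (Module.finrank k k') hr]
  let ι : k' →ₐ[k] K := IsScalarTower.toAlgHom k k' K
  have hι : Function.Injective ι := (algebraMap k' K).injective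
  refine Nat.card_congr (Equiv.ofBijective
    (fun ψ : L →ₐ[k] k' => (⟨ι.comp ψ, fun c => ?_⟩ :
      {ψ : L →ₐ[k] K // ∀ c, ψ c ^ (Nat.card k ^ Module.finrank k k') = ψ c})) ⟨?_, ?_⟩)
  · change ι (ψ c) ^ _ = ι (ψ c)
    haveI := Fintype.ofFinite k'
    rw [← map_pow, ← hcard, Nat.card_eq_fintype_card, FiniteField.pow_card]
  · intro ψ ψ' h
    have h1 : ι.comp ψ = ι.comp ψ' := congrArg Subtype.val h
    ext c
    exact hι (DFunLike.congr_fun h1 c)
  · rintro ⟨ψ, hψ⟩
    have hmem : ∀ c, ψ c ∈ Set.range (algebraMap k' K) := fun c =>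
      mem_range_of_pow_card_eq k' K (ψ c) (by rw [hcard]; exact hψ c)
    choose g hg using hmem
    have hg' : ∀ c, ι (g c) = ψ c := hg
    let ψ' : L →ₐ[k] k' :=
      { toFun := g
        map_one' := hι (by rw [hg', map_one, map_one])
        map_mul' := fun a b => hι (by rw [hg', map_mul, map_mul, hg', hg'])
        map_zero' := hι (by rw [hg', map_zero, map_zero])
        map_add' := fun a b => hι (by rw [hg', map_add, map_add, hg', hg'])
        commutes' := fun c => hι (by rw [hg', AlgHom.commutes, AlgHom.commutes]) }
    refine ⟨ψ', Subtype.ext ?_⟩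
    ext c
    exact hg' c

end Field

section ResDeg

open Groth.Agent.Lib.Helper10.GaloisOrbit Groth.Agent.Lib.Helper10.WeilPt

variable {k : Type u} [Field k] {X : Scheme.{u}} (f : X ⟶ Spec (CommRingCat.of k))

/-- the residue degree is the degree of the residue field over `k` (structure map `resHom`). -/
theorem residueDegree_eq_finrank (x : X) :
    EGA4loc.residueDegree f x =
      @Module.finrank k (X.residueField x) _ _ ((resHom k f x).hom.toAlgebra.toModule) := by
  set ψ₀ : CommRingCat.of k ⟶ (Spec (CommRingCat.of k)).residueField (f x) :=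
    Spec.preimage ((Spec (CommRingCat.of k)).fromSpecResidueField (f x)) with hψ₀
  have hψs : Function.Surjective ψ₀.hom := surjective_preimage_fromSpecResidueField k (f x)
  have hfac : resHom k f x = ψ₀ ≫ f.residueFieldMap x := by
    apply Spec.map_injective
    rw [map_resHom, Spec.map_comp, hψ₀, Spec.map_preimage,
      Scheme.Hom.SpecMap_residueFieldMap_fromSpecResidueField]
  letI A1 : Algebra ((Spec (CommRingCat.of k)).residueField (f x)) (X.residueField x) :=
    (f.residueFieldMap x).hom.toAlgebra
  letI A2 : Algebra k (X.residueField x) := (resHom k f x).hom.toAlgebra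
  letI A3 : Algebra k ((Spec (CommRingCat.of k)).residueField (f x)) := ψ₀.hom.toAlgebra
  haveI : IsScalarTower k ((Spec (CommRingCat.of k)).residueField (f x)) (X.residueField x) :=
    IsScalarTower.of_algebraMap_eq fun c => by
      change (resHom k f x).hom c = (f.residueFieldMap x).hom (ψ₀.hom c)
      rw [hfac]; rfl
  have hbij : Function.Bijective
      (Algebra.linearMap k ((Spec (CommRingCat.of k)).residueField (f x))) :=
    ⟨ψ₀.hom.injective, hψs⟩
  have h1 : Module.finrank k ((Spec (CommRingCat.of k)).residueField (f x)) = 1 := by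
    rw [← (LinearEquiv.ofBijective _ hbij).finrank_eq]
    exact Module.finrank_self _
  have h2 := Module.finrank_mul_finrank k ((Spec (CommRingCat.of k)).residueField (f x))
    (X.residueField x)
  rw [h1, one_mul] at h2
  exact h2

theorem isClosed_of_residueDegree_ne_zero [LocallyOfFiniteType f] (x : X)
    (hx : EGA4loc.residueDegree f x ≠ 0) : IsClosed ({x} : Set X) := by
  rw [residueDegree_eq_finrank f x] at hx
  letI : Algebra k (X.residueField x) := (resHom k f x).hom.toAlgebra
  haveI : FiniteDimensional k (X.residueField x) :=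
    Module.finite_of_finrank_pos (Nat.pos_of_ne_zero hx)
  have hp : X.fromSpecResidueField x ≫ f =
      Spec.map (CommRingCat.ofHom (algebraMap k (X.residueField x))) := (map_resHom k f x).symm
  have := isClosed_of_point k (X.residueField x) f (X.fromSpecResidueField x) hp
  have e : (X.fromSpecResidueField x) (IsLocalRing.closedPoint (X.residueField x)) = x :=
    Scheme.fromSpecResidueField_apply x _
  rw [e] at this
  exact this

theorem residueDegree_ne_zero_of_isClosed [LocallyOfFiniteType f] (x : X)
    (hx : IsClosed ({x} : Set X)) : EGA4loc.residueDegree f x ≠ 0 := by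
  haveI : JacobsonSpace X := LocallyOfFiniteType.jacobsonSpace f
  have hfin : IsFinite (X.fromSpecResidueField x ≫ f) := by
    rw [isClosed_singleton_iff_isClosedImmersion] at hx
    rw [isFinite_iff_locallyOfFiniteType_of_jacobsonSpace]
    infer_instance
  have hφ := map_resHom k f x
  have hfin' : (resHom k f x).hom.Finite := by
    rw [← hφ] at hfin
    exact (IsFinite.SpecMap_iff _).mp hfin
  rw [residueDegree_eq_finrank f x]
  letI : Algebra k (X.residueField x) := (resHom k f x).hom.toAlgebra
  haveI : Module.Finite k (X.residueField x) := hfin'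
  exact Module.finrank_pos.ne'

theorem residueDegree_ne_zero_iff_isClosed [LocallyOfFiniteType f] (x : X) :
    EGA4loc.residueDegree f x ≠ 0 ↔ IsClosed ({x} : Set X) :=
  ⟨isClosed_of_residueDegree_ne_zero f x, residueDegree_ne_zero_of_isClosed f x⟩

/-- `degCount` for positive degree does not need the closedness condition. -/
theorem degCount_eq [LocallyOfFiniteType f] (e : ℕ) (he : e ≠ 0) :
    Zeta.degCount f e = Nat.card {x : X // EGA4loc.residueDegree f x = e} := by
  rw [Zeta.degCount]
  refine Nat.card_congr (Equiv.subtypeEquivRight fun x => ⟨fun h => h.2, fun h => ⟨?_, h⟩⟩)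
  exact isClosed_of_residueDegree_ne_zero f x (by rw [h]; exact he)

/-- compatibility of `resHom` with a morphism. -/
theorem resHom_comp_residueFieldMap {Y : Scheme.{u}} (g : Y ⟶ X) (y : Y) :
    resHom k (g ≫ f) y = resHom k f (g y) ≫ g.residueFieldMap y := by
  apply Spec.map_injective
  rw [map_resHom, Spec.map_comp, map_resHom,
    Scheme.Hom.SpecMap_residueFieldMap_fromSpecResidueField_assoc]

/-- residue degrees are unchanged along a morphism that is surjective on stalks, e.g. an
immersion. -/
theorem residueDegree_comp_of_surjectiveOnStalks {Y : Scheme.{u}} (g : Y ⟶ X)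
    [SurjectiveOnStalks g] (y : Y) :
    EGA4loc.residueDegree (g ≫ f) y = EGA4loc.residueDegree f (g y) := by
  rw [residueDegree_eq_finrank, residueDegree_eq_finrank]
  letI A1 : Algebra k (Y.residueField y) := (resHom k (g ≫ f) y).hom.toAlgebra
  letI A2 : Algebra k (X.residueField (g y)) := (resHom k f (g y)).hom.toAlgebra
  have hsurj : Function.Surjective (g.residueFieldMap y).hom := by
    intro c
    obtain ⟨t, rfl⟩ := IsLocalRing.residue_surjective c
    obtain ⟨s, rfl⟩ := g.stalkMap_surjective y t
    refine ⟨(X.residue (g y)).hom s, ?_⟩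
    have := congrArg (fun φ => φ.hom s) (Scheme.residue_residueFieldMap g y)
    exact this
  let φ : X.residueField (g y) →ₐ[k] Y.residueField y :=
    { (g.residueFieldMap y).hom with
      commutes' := fun c => by
        change (g.residueFieldMap y).hom ((resHom k f (g y)).hom c) = (resHom k (g ≫ f) y).hom c
        rw [resHom_comp_residueFieldMap]; rfl }
  have hbij : Function.Bijective φ := ⟨(g.residueFieldMap y).hom.injective, hsurj⟩
  exact ((AlgEquiv.ofBijective φ hbij).toLinearEquiv.finrank_eq).symm

end ResDeg

section Finiteness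

open Groth.Agent.Lib.Helper10.GaloisOrbit Groth.Agent.Lib.Helper10.WeilPt

/-- points of an affine open are separated by the vanishing of sections. -/
theorem eq_of_evaluation_eq_zero_iff {X : Scheme.{u}} {U : X.Opens} (hU : IsAffineOpen U)
    (x y : X) (hx : x ∈ U) (hy : y ∈ U)
    (h : ∀ s : Γ(X, U), (X.evaluation U x hx).hom s = 0 ↔ (X.evaluation U y hy).hom s = 0) :
    x = y := by
  by_contra hne
  obtain ⟨V, hV, hxor⟩ := exists_isOpen_xor_mem hne
  rcases hxor with ⟨hxV, hyV⟩ | ⟨hyV, hxV⟩
  · obtain ⟨s, hs, hxs⟩ := hU.exists_basicOpen_le (V := ⟨V, hV⟩) ⟨x, hxV⟩ hx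
    have h1 : (X.evaluation U x hx).hom s ≠ 0 :=
      (X.evaluation_ne_zero_iff_mem_basicOpen x hx s).mpr hxs
    have h2 : (X.evaluation U y hy).hom s = 0 :=
      (X.evaluation_eq_zero_iff_notMem_basicOpen y hy s).mpr fun hys => hyV (hs hys)
    exact h1 ((h s).mpr h2)
  · obtain ⟨s, hs, hys⟩ := hU.exists_basicOpen_le (V := ⟨V, hV⟩) ⟨y, hyV⟩ hy
    have h1 : (X.evaluation U y hy).hom s ≠ 0 :=
      (X.evaluation_ne_zero_iff_mem_basicOpen y hy s).mpr hys
    have h2 : (X.evaluation U x hx).hom s = 0 :=
      (X.evaluation_eq_zero_iff_notMem_basicOpen x hx s).mpr fun hxs => hxV (hs hxs)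
    exact h1 ((h s).mp h2)

variable {k : Type u} [Field k] [Finite k] {X : Scheme.{u}} (f : X ⟶ Spec (CommRingCat.of k))
  [LocallyOfFiniteType f]

/-- if the residue degree at `x` is `e ≠ 0`, the residue field has `q^e` elements, hence all its
elements are fixed by the `q^e`-power map. -/
theorem pow_eq_self_of_residueDegree (x : X) (e : ℕ) (he : e ≠ 0)
    (hx : EGA4loc.residueDegree f x = e) (c : X.residueField x) :
    c ^ (Nat.card k ^ e) = c := by
  rw [residueDegree_eq_finrank f x] at hx
  letI : Algebra k (X.residueField x) := (resHom k f x).hom.toAlgebra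
  haveI : FiniteDimensional k (X.residueField x) :=
    Module.finite_of_finrank_pos (Nat.pos_of_ne_zero (by rw [hx]; exact he))
  haveI : Finite (X.residueField x) := Module.finite_of_finite k
  haveI := Fintype.ofFinite (X.residueField x)
  have hcard : Nat.card (X.residueField x) = Nat.card k ^ e := by
    rw [← hx]; exact Module.natCard_eq_pow_finrank
  rw [← hcard, Nat.card_eq_fintype_card, FiniteField.pow_card]

/-- there is a ring embedding of a residue field of finite degree into the algebraic closure. -/
theorem exists_ringHom_algebraicClosure (x : X) (e : ℕ) (he : e ≠ 0)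
    (hx : EGA4loc.residueDegree f x = e) :
    Nonempty (X.residueField x →+* AlgebraicClosure k) := by
  rw [residueDegree_eq_finrank f x] at hx
  letI : Algebra k (X.residueField x) := (resHom k f x).hom.toAlgebra
  haveI : FiniteDimensional k (X.residueField x) :=
    Module.finite_of_finrank_pos (Nat.pos_of_ne_zero (by rw [hx]; exact he))
  exact ⟨(IsAlgClosed.lift : X.residueField x →ₐ[k] AlgebraicClosure k).toRingHom⟩

/-- finitely many points of a given positive residue degree on an affine open. -/
theorem finite_residueDegree_eq_affine (U : X.Opens) (hU : IsAffineOpen U) (e : ℕ) (he : e ≠ 0) :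
    {x : X | x ∈ U ∧ EGA4loc.residueDegree f x = e}.Finite := by
  classical
  set K := AlgebraicClosure k with hK
  set T : Set X := {x : X | x ∈ U ∧ EGA4loc.residueDegree f x = e} with hT
  have hq : 1 < Nat.card k := Finite.one_lt_card
  have hN : 1 < Nat.card k ^ e := Nat.one_lt_pow he hq
  -- the finite set of possible values
  set R : Set K := (Polynomial.X ^ (Nat.card k ^ e) - Polynomial.X : Polynomial K).rootSet K
    with hR
  have hRfin : R.Finite := Polynomial.rootSet_finite _ K
  have hRmem : ∀ a : K, a ^ (Nat.card k ^ e) = a → a ∈ R := by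
    intro a ha
    rw [hR, Polynomial.mem_rootSet]
    refine ⟨FiniteField.X_pow_card_sub_X_ne_zero K hN, ?_⟩
    simp [ha]
  -- finite ring generators of the sections over `U`
  have hle : U ≤ f ⁻¹ᵁ ⊤ := fun _ _ => trivial
  set φ : Γ(Spec (CommRingCat.of k), ⊤) ⟶ Γ(X, U) := f.appLE ⊤ U hle with hφ
  have hft : φ.hom.FiniteType :=
    HasRingHomProperty.appLE @LocallyOfFiniteType f (inferInstance : LocallyOfFiniteType f)
      ⟨⊤, isAffineOpen_top (Spec (CommRingCat.of k))⟩ ⟨U, hU⟩ hle
  have hfin0 : Finite Γ(Spec (CommRingCat.of k), ⊤) :=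
    Finite.of_equiv k (Scheme.ΓSpecIso (CommRingCat.of k)).commRingCatIsoToRingEquiv.symm.toEquiv
  obtain ⟨S, hS⟩ : ∃ S : Finset Γ(X, U), Subring.closure
      (Set.range φ.hom ∪ (S : Set Γ(X, U))) = ⊤ := by
    letI := φ.hom.toAlgebra
    obtain ⟨S, hS⟩ := (hft : Algebra.FiniteType _ _).out
    refine ⟨S, ?_⟩
    have := Algebra.adjoin_eq_ring_closure (R := Γ(Spec (CommRingCat.of k), ⊤)) (S : Set Γ(X, U))
    rw [hS] at this
    exact this.symm
  set S' : Set Γ(X, U) := Set.range φ.hom ∪ (S : Set Γ(X, U)) with hS'
  have hS'fin : S'.Finite := (Set.finite_range _).union S.finite_toSet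
  haveI : Finite S' := hS'fin
  -- the coordinate maps
  have hex : ∀ x : X, ∃ F : Γ(X, U) → K, x ∈ T →
      ∃ (hx : x ∈ U) (σ : X.residueField x →+* K),
        F = fun a => σ ((X.evaluation U x hx).hom a) := by
    intro x
    by_cases hxT : x ∈ T
    · obtain ⟨σ⟩ := exists_ringHom_algebraicClosure f x e he hxT.2
      exact ⟨fun a => σ ((X.evaluation U x hxT.1).hom a), fun _ => ⟨hxT.1, σ, rfl⟩⟩
    · exact ⟨fun _ => 0, fun h => absurd h hxT⟩
  choose F hF using hex
  have hmaps : Set.MapsTo (fun x => fun s : S' => F x s.1) T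
      (Set.pi Set.univ fun _ : S' => R) := by
    intro x hxT s _
    obtain ⟨hx, σ, hσ⟩ := hF x hxT
    change F x s.1 ∈ R
    rw [hσ]
    apply hRmem
    rw [← map_pow, pow_eq_self_of_residueDegree f x e he hxT.2]
  have hinj : Set.InjOn (fun x => fun s : S' => F x s.1) T := by
    intro x hxT y hyT hxy
    obtain ⟨hx, σ, hσ⟩ := hF x hxT
    obtain ⟨hy, τ, hτ⟩ := hF y hyT
    have heq : σ.comp (X.evaluation U x hx).hom = τ.comp (X.evaluation U y hy).hom := by
      apply RingHom.eq_of_eqOn_set_dense hS
      intro a ha
      have := congrFun hxy ⟨a, ha⟩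
      change F x a = F y a at this
      rw [hσ, hτ] at this
      exact this
    apply eq_of_evaluation_eq_zero_iff hU x y hx hy
    intro s
    have h1 : σ ((X.evaluation U x hx).hom s) = τ ((X.evaluation U y hy).hom s) :=
      DFunLike.congr_fun heq s
    constructor
    · intro h0
      rw [h0, map_zero] at h1
      exact (map_eq_zero τ).mp h1.symm
    · intro h0
      rw [h0, map_zero] at h1
      exact (map_eq_zero σ).mp h1
  exact Set.Finite.of_injOn hmaps hinj (Set.Finite.pi fun _ => hRfin)

/-- finitely many points of a given positive residue degree on a scheme of finite type over a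
finite field. -/
theorem finite_residueDegree_eq [QuasiCompact f] (e : ℕ) (he : e ≠ 0) :
    {x : X | EGA4loc.residueDegree f x = e}.Finite := by
  haveI : CompactSpace X := QuasiCompact.compactSpace_of_compactSpace f
  have hex : ∀ x : X, ∃ U : X.Opens, IsAffineOpen U ∧ x ∈ U := fun x => by
    obtain ⟨U, hU, hxU, -⟩ := exists_isAffineOpen_mem_and_subset (U := ⊤) (x := x) trivial
    exact ⟨U, hU, hxU⟩
  choose U hU hxU using hex
  obtain ⟨t, ht⟩ := isCompact_univ.elim_nhds_subcover (fun x => (U x : Set X))
    (fun x _ => (U x).isOpen.mem_nhds (hxU x))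
  have hsub : {x : X | EGA4loc.residueDegree f x = e} ⊆
      ⋃ y ∈ t, {x : X | x ∈ U y ∧ EGA4loc.residueDegree f x = e} := by
    intro x hx
    obtain ⟨y, hyt, hxy⟩ := Set.mem_iUnion₂.mp (ht.2 (Set.mem_univ x))
    exact Set.mem_iUnion₂.mpr ⟨y, hyt, hxy, hx⟩
  exact (Set.Finite.biUnion t.finite_toSet fun y _ =>
    finite_residueDegree_eq_affine f (U y) (hU y) e he).subset hsub

instance finite_subtype_residueDegree_eq [QuasiCompact f] (e : ℕ) [NeZero e] :
    Finite {x : X // EGA4loc.residueDegree f x = e} :=
  (finite_residueDegree_eq f e (NeZero.ne e)).to_subtype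

end Finiteness

end Groth.Agent.Lib.Seat72.ZetaGenA
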