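import Mathlib

/-!
# Seat72: power series identities for the zeta function

* `E L := exp(L)` for a power series with zero constant term, characterised by `G' = G * L'`, `G(0) = 1`;
* `E_add`, `E_sum`, `E_neg_mul`;
* `derivative_charpolyRev`: `P' = -P * ∑ tr(M^(m+1)) t^m` for `P = det(1 - tM)`;
* `E_trace_mul_charpolyRev`: `exp(∑ tr(M^m) t^m / m) * det(1 - tM) = 1`;
* `zeta_assemble`: the alternating product formula from a trace formula for the point counts;
* `descent`: rationality over a char-0 field descends to `ℚ`.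
-/

set_option autoImplicit false
set_option maxSynthPendingDepth 3
set_option linter.style.haveILetI false
set_option linter.unusedSectionVars false

open PowerSeries

namespace Groth.Agent.Lib.Seat72.ZetaPS

section Exp

variable {K : Type*} [Field K] [CharZero K]

/-- `exp(L)`. -/
noncomputable def E (L : K⟦X⟧) : K⟦X⟧ := (exp K).subst L

theorem hasSubst {L : K⟦X⟧} (hL : constantCoeff L = 0) : HasSubst L :=
  HasSubst.of_constantCoeff_zero' hL

theorem derivative_E {L : K⟦X⟧} (hL : constantCoeff L = 0) :
    d⁄dX K (E L) = E L * d⁄dX K L := by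
  rw [E, derivative_subst (hasSubst hL), derivative_exp]

theorem constantCoeff_E {L : K⟦X⟧} (hL : constantCoeff L = 0) : constantCoeff (E L) = 1 := by
  have h := constantCoeff_subst (hasSubst hL) (exp K)
  rw [E]
  change MvPowerSeries.constantCoeff ((exp K).subst L) = 1
  rw [h, finsum_eq_single _ 0]
  · simp
  · intro n hn
    have : MvPowerSeries.constantCoeff (L ^ n) = 0 := by
      change constantCoeff (L ^ n) = 0
      rw [map_pow, hL, zero_pow hn]
    rw [this, smul_zero]

theorem eq_one_of_derivative_eq_zero {G : K⟦X⟧} (hG : d⁄dX K G = 0) (h0 : constantCoeff G = 1) :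
    G = 1 := by
  apply derivative.ext
  · rw [hG, derivative_one]
  · rw [h0, map_one]

/-- `E(-L) * G = 1` whenever `G' = G * L'` and `G(0) = 1`. -/
theorem E_neg_mul_of_ode {L G : K⟦X⟧} (hL : constantCoeff L = 0)
    (hG : d⁄dX K G = G * d⁄dX K L) (h0 : constantCoeff G = 1) : E (-L) * G = 1 := by
  have hL' : constantCoeff (-L) = 0 := by rw [map_neg, hL, neg_zero]
  apply eq_one_of_derivative_eq_zero
  · rw [Derivation.leibniz, derivative_E hL', hG, map_neg]
    simp only [smul_eq_mul]
    ring
  · rw [map_mul, constantCoeff_E hL', h0, mul_one]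

theorem E_neg_mul {L : K⟦X⟧} (hL : constantCoeff L = 0) : E (-L) * E L = 1 :=
  E_neg_mul_of_ode hL (derivative_E hL) (constantCoeff_E hL)

/-- uniqueness of the solution of `G' = G * L'`, `G(0) = 1`. -/
theorem eq_E_of_ode {L G : K⟦X⟧} (hL : constantCoeff L = 0)
    (hG : d⁄dX K G = G * d⁄dX K L) (h0 : constantCoeff G = 1) : G = E L := by
  have h1 := E_neg_mul_of_ode hL hG h0
  have h2 := E_neg_mul hL
  calc G = G * (E (-L) * E L) := by rw [h2, mul_one]
    _ = (E (-L) * G) * E L := by ring
    _ = E L := by rw [h1, one_mul]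

theorem E_zero : E (0 : K⟦X⟧) = 1 := by
  symm
  apply eq_E_of_ode (map_zero _)
  · simp
  · simp

theorem E_add {a b : K⟦X⟧} (ha : constantCoeff a = 0) (hb : constantCoeff b = 0) :
    E (a + b) = E a * E b := by
  symm
  apply eq_E_of_ode (by rw [map_add, ha, hb, add_zero])
  · rw [Derivation.leibniz, derivative_E ha, derivative_E hb, map_add]
    simp only [smul_eq_mul]
    ring
  · rw [map_mul, constantCoeff_E ha, constantCoeff_E hb, mul_one]

theorem E_sum {ι : Type*} (s : Finset ι) (a : ι → K⟦X⟧) (ha : ∀ i ∈ s, constantCoeff (a i) = 0) :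
    E (∑ i ∈ s, a i) = ∏ i ∈ s, E (a i) := by
  classical
  induction s using Finset.induction_on with
  | empty => simp [E_zero]
  | insert i s hi ih =>
    rw [Finset.sum_insert hi, Finset.prod_insert hi, E_add (ha i (Finset.mem_insert_self i s)),
      ih (fun j hj => ha j (Finset.mem_insert_of_mem hj))]
    rw [map_sum]
    exact Finset.sum_eq_zero fun j hj => ha j (Finset.mem_insert_of_mem hj)

/-- if `E L * P = 1` then `E (-L) = P`. -/
theorem E_neg_eq {L P : K⟦X⟧} (hL : constantCoeff L = 0) (h : E L * P = 1) : E (-L) = P := by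
  calc E (-L) = E (-L) * (E L * P) := by rw [h, mul_one]
    _ = (E (-L) * E L) * P := by ring
    _ = P := by rw [E_neg_mul hL, one_mul]

end Exp

section Charpoly

open Matrix

variable {K : Type*} [Field K] {n : Type*} [Fintype n] [DecidableEq n] (M : Matrix n n K)

/-- the matrix `∑ t^m M^m` over `K⟦X⟧`. -/
noncomputable def geomMat : Matrix n n K⟦X⟧ := fun i j => PowerSeries.mk fun m => (M ^ m) i j

/-- `M` with coefficients in `K⟦X⟧`. -/
noncomputable def MR : Matrix n n K⟦X⟧ := M.map (PowerSeries.C (R := K))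

/-- `1 - tM` over `K⟦X⟧`. -/
noncomputable def AR : Matrix n n K⟦X⟧ := 1 - (PowerSeries.X : K⟦X⟧) • MR M

theorem coeff_MR_mul_geomMat (i j : n) (m : ℕ) :
    PowerSeries.coeff m ((MR M * geomMat M) i j) = (M ^ (m + 1)) i j := by
  rw [pow_succ', Matrix.mul_apply, Matrix.mul_apply, map_sum]
  refine Finset.sum_congr rfl fun l _ => ?_
  simp [MR, geomMat]

theorem coeff_geomMat_mul_MR (i j : n) (m : ℕ) :
    PowerSeries.coeff m ((geomMat M * MR M) i j) = (M ^ (m + 1)) i j := by
  rw [pow_succ, Matrix.mul_apply, Matrix.mul_apply, map_sum]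
  refine Finset.sum_congr rfl fun l _ => ?_
  simp [MR, geomMat]

theorem AR_mul_geomMat : AR M * geomMat M = 1 := by
  ext i j m
  rw [AR, Matrix.sub_mul, Matrix.one_mul, Matrix.smul_mul, Matrix.sub_apply, Matrix.smul_apply,
    smul_eq_mul, map_sub]
  cases m with
  | zero =>
    simp [geomMat, Matrix.one_apply]
  | succ m =>
    rw [PowerSeries.coeff_succ_X_mul, coeff_MR_mul_geomMat]
    have : PowerSeries.coeff (m + 1) ((1 : Matrix n n K⟦X⟧) i j) = 0 := by
      rw [Matrix.one_apply]
      split_ifs <;> simp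
    rw [this]
    simp [geomMat]

theorem trace_geomMat_mul_MR :
    Matrix.trace (geomMat M * MR M) = PowerSeries.mk fun m => Matrix.trace (M ^ (m + 1)) := by
  ext m
  simp only [Matrix.trace, Matrix.diag_apply, map_sum, coeff_geomMat_mul_MR, PowerSeries.coeff_mk]

theorem det_AR : (AR M).det = ((M.charpolyRev : Polynomial K) : K⟦X⟧) := by
  have h := RingHom.map_det (Polynomial.coeToPowerSeries.ringHom (R := K))
    (1 - (Polynomial.X : Polynomial K) • M.map Polynomial.C)
  have h' : ((M.charpolyRev : Polynomial K) : K⟦X⟧) =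
      Polynomial.coeToPowerSeries.ringHom
        (1 - (Polynomial.X : Polynomial K) • M.map Polynomial.C).det := rfl
  rw [h', h]
  congr 1
  ext i j : 1
  simp [AR, MR, Matrix.one_apply, apply_ite]
  ring

/-- the logarithmic derivative of `det(1 - tM)`. -/
theorem derivative_charpolyRev :
    d⁄dX K ((M.charpolyRev : Polynomial K) : K⟦X⟧) =
      -((M.charpolyRev : Polynomial K) : K⟦X⟧) *
        PowerSeries.mk fun m => Matrix.trace (M ^ (m + 1)) := by
  set P := M.charpolyRev with hP
  -- the two-variable determinant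
  set Q : Polynomial K⟦X⟧ :=
    ((AR M).map Polynomial.C - (Polynomial.X : Polynomial K⟦X⟧) • (MR M).map Polynomial.C).det
    with hQ
  -- first computation of the linear coefficient
  have h1 : Q.coeff 1 = (AR M).det * Matrix.trace (-(geomMat M * MR M)) := by
    have hfac : (AR M).map Polynomial.C - (Polynomial.X : Polynomial K⟦X⟧) • (MR M).map Polynomial.C =
        (AR M).map Polynomial.C *
          (1 + (Polynomial.X : Polynomial K⟦X⟧) • (-(geomMat M * MR M)).map Polynomial.C) := by
      have e1 : (AR M).map (Polynomial.C : K⟦X⟧ →+* _) * (geomMat M * MR M).map Polynomial.C =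
          (MR M).map Polynomial.C := by
        rw [← Matrix.map_mul, ← Matrix.mul_assoc, AR_mul_geomMat, Matrix.one_mul]
      have e2 : (-(geomMat M * MR M)).map (Polynomial.C : K⟦X⟧ →+* _) =
          -((geomMat M * MR M).map Polynomial.C) := by
        ext i j : 1
        simp only [Matrix.map_apply, Matrix.neg_apply, map_neg]
      rw [e2, Matrix.mul_add, Matrix.mul_one, Matrix.mul_smul, Matrix.mul_neg, e1, smul_neg,
        sub_eq_add_neg]
    have hdet : ((AR M).map (Polynomial.C : K⟦X⟧ →+* _)).det = Polynomial.C (AR M).det :=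
      (RingHom.map_det Polynomial.C (AR M)).symm
    rw [hQ, hfac, Matrix.det_mul, hdet, Polynomial.coeff_C_mul,
      Matrix.coeff_det_one_add_X_smul_one]
  -- second computation
  have h2 : Q.coeff 1 = ((Polynomial.derivative P : Polynomial K) : K⟦X⟧) := by
    let ψ : Polynomial K →+* Polynomial K⟦X⟧ :=
      (Polynomial.taylorAlgHom (PowerSeries.X : K⟦X⟧)).toRingHom.comp
        (Polynomial.mapRingHom (PowerSeries.C : K →+* K⟦X⟧))
    have hψ : Q = ψ P := by
      have h := RingHom.map_det ψ (1 - (Polynomial.X : Polynomial K) • M.map Polynomial.C)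
      rw [hP, Matrix.charpolyRev, h, hQ]
      congr 1
      ext i j : 1
      simp only [Matrix.sub_apply, Matrix.map_apply, Matrix.smul_apply, smul_eq_mul, AR, MR,
        RingHom.mapMatrix_apply, map_sub, map_mul]
      simp only [ψ, RingHom.comp_apply, Polynomial.coe_mapRingHom, AlgHom.toRingHom_eq_coe,
        RingHom.coe_coe, Polynomial.taylorAlgHom_apply, Polynomial.map_X, Polynomial.map_C,
        Polynomial.taylor_X, Polynomial.taylor_C, Matrix.one_apply]
      split_ifs <;> simp <;> ring
    rw [hψ]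
    change (Polynomial.taylor (PowerSeries.X : K⟦X⟧) (P.map PowerSeries.C)).coeff 1 = _
    rw [Polynomial.taylor_coeff_one, Polynomial.derivative_map, Polynomial.eval_map,
      Polynomial.eval₂_C_X_eq_coe]
  rw [PowerSeries.derivative_coe, ← h2, h1, det_AR, Matrix.trace_neg, trace_geomMat_mul_MR]
  ring

end Charpoly

section Main

open Matrix

variable {K : Type*} [Field K] [CharZero K]

/-- the logarithm series `∑ a_m t^m / m`. -/
noncomputable def logSer (a : ℕ → K) : K⟦X⟧ := PowerSeries.mk fun m => a m / m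

theorem constantCoeff_logSer (a : ℕ → K) : constantCoeff (logSer a) = 0 := by
  rw [← PowerSeries.coeff_zero_eq_constantCoeff_apply, logSer, PowerSeries.coeff_mk]
  simp

theorem derivative_logSer (a : ℕ → K) :
    d⁄dX K (logSer a) = PowerSeries.mk fun m => a (m + 1) := by
  ext m
  rw [PowerSeries.coeff_derivative, logSer, PowerSeries.coeff_mk, PowerSeries.coeff_mk]
  have : ((m + 1 : ℕ) : K) ≠ 0 := Nat.cast_ne_zero.mpr (Nat.succ_ne_zero m)
  push_cast at this ⊢
  field_simp

theorem E_trace_mul_charpolyRev {n : Type*} [Fintype n] [DecidableEq n] (M : Matrix n n K) :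
    E (logSer fun m => Matrix.trace (M ^ m)) * ((M.charpolyRev : Polynomial K) : K⟦X⟧) = 1 := by
  have hL := constantCoeff_logSer fun m => Matrix.trace (M ^ m)
  apply eq_one_of_derivative_eq_zero
  · rw [Derivation.leibniz, derivative_E hL, derivative_logSer, derivative_charpolyRev]
    simp only [smul_eq_mul]
    ring
  · rw [map_mul, constantCoeff_E hL, one_mul]
    rw [← PowerSeries.coeff_zero_eq_constantCoeff_apply, Polynomial.coeff_coe,
      Polynomial.coeff_zero_eq_eval_zero, Matrix.eval_charpolyRev]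

/-- `exp(∑ tr(φ^m) t^m / m) * det(1 - tφ) = 1` for an endomorphism of a finite-dimensional space. -/
theorem E_trace_mul_reverse_charpoly {V : Type*} [AddCommGroup V] [Module K V]
    [Module.Finite K V] (φ : V →ₗ[K] V) :
    E (logSer fun m => LinearMap.trace K V (φ ^ m)) *
      ((φ.charpoly.reverse : Polynomial K) : K⟦X⟧) = 1 := by
  classical
  let b := Module.finBasis K V
  have h1 : φ.charpoly = (LinearMap.toMatrix b b φ).charpoly := (LinearMap.charpoly_toMatrix φ b).symm
  have h2 : ∀ m, LinearMap.trace K V (φ ^ m) = Matrix.trace ((LinearMap.toMatrix b b φ) ^ m) := by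
    intro m
    rw [LinearMap.trace_eq_matrix_trace K b, LinearMap.toMatrix_pow]
  rw [h1, Matrix.reverse_charpoly]
  simp only [h2]
  exact E_trace_mul_charpolyRev _

theorem prod_range_split {M : Type*} [CommMonoid M] (g : ℕ → M) (n : ℕ) :
    ∏ j ∈ Finset.range (2 * n + 1), g j =
      (∏ i ∈ Finset.range (n + 1), g (2 * i)) * ∏ i ∈ Finset.range n, g (2 * i + 1) := by
  induction n with
  | zero => simp
  | succ n ih =>
    have e : 2 * (n + 1) + 1 = (2 * n + 1) + 1 + 1 := by ring
    have hA : ∏ i ∈ Finset.range (n + 1 + 1), g (2 * i) =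
        (∏ i ∈ Finset.range (n + 1), g (2 * i)) * g (2 * (n + 1)) := Finset.prod_range_succ _ _
    have hB : ∏ i ∈ Finset.range (n + 1), g (2 * i + 1) =
        (∏ i ∈ Finset.range n, g (2 * i + 1)) * g (2 * n + 1) := Finset.prod_range_succ _ _
    have e2 : 2 * n + 1 + 1 = 2 * (n + 1) := by ring
    rw [e, Finset.prod_range_succ, Finset.prod_range_succ, ih, hA, hB, e2]
    generalize (∏ i ∈ Finset.range (n + 1), g (2 * i)) = A
    generalize (∏ i ∈ Finset.range n, g (2 * i + 1)) = B
    generalize g (2 * n + 1) = x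
    generalize g (2 * (n + 1)) = y
    rw [mul_assoc (A * B), mul_comm x y, mul_mul_mul_comm]

/-- the alternating product formula for the zeta function, given the trace formula for the
numbers of points. -/
theorem zeta_assemble (n : ℕ) (a : ℕ → ℕ → K) (P : ℕ → K⟦X⟧)
    (hP : ∀ j, E (logSer (a j)) * P j = 1)
    (N : ℕ → ℚ)
    (hN : ∀ m, 1 ≤ m → (N m : K) = ∑ j ∈ Finset.range (2 * n + 1), (-1 : K) ^ j * a j m) :
    PowerSeries.map (algebraMap ℚ K) ((exp ℚ).subst (PowerSeries.mk fun m => N m / m)) *
      ∏ i ∈ Finset.range (n + 1), P (2 * i) = ∏ i ∈ Finset.range n, P (2 * i + 1) := by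
  set L : ℚ⟦X⟧ := PowerSeries.mk fun m => N m / m with hLdef
  have hL0 : constantCoeff L = 0 := by
    rw [← PowerSeries.coeff_zero_eq_constantCoeff_apply, hLdef, PowerSeries.coeff_mk]
    simp
  have h1 : PowerSeries.map (algebraMap ℚ K) ((exp ℚ).subst L) =
      E (PowerSeries.map (algebraMap ℚ K) L) := by
    have := PowerSeries.map_subst (a := L) (HasSubst.of_constantCoeff_zero' hL0)
      (h := algebraMap ℚ K) (exp ℚ)
    rw [PowerSeries.map_exp] at this
    exact this
  let c : ℕ → K⟦X⟧ := fun j => (-1 : K⟦X⟧) ^ j * logSer (a j)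
  have hc0 : ∀ j, constantCoeff (c j) = 0 := by
    intro j
    simp only [c, map_mul, constantCoeff_logSer, mul_zero]
  have h2 : PowerSeries.map (algebraMap ℚ K) L = ∑ j ∈ Finset.range (2 * n + 1), c j := by
    ext m
    rw [PowerSeries.coeff_map, hLdef, PowerSeries.coeff_mk, map_sum]
    rcases Nat.eq_zero_or_pos m with rfl | hm
    · simp only [c, logSer]
      simp
    · have hc : ∀ j, PowerSeries.coeff m (c j) = (-1 : K) ^ j * (a j m / m) := by
        intro j
        have : (-1 : K⟦X⟧) ^ j = PowerSeries.C ((-1 : K) ^ j) := by simp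
        simp only [c, this, PowerSeries.coeff_C_mul, logSer, PowerSeries.coeff_mk]
      simp only [hc]
      rw [map_div₀, map_natCast, eq_ratCast, hN m hm, Finset.sum_div]
      refine Finset.sum_congr rfl fun j _ => ?_
      ring
  rw [h1, h2, E_sum _ _ (fun j _ => hc0 j), prod_range_split]
  have heven : ∀ i, E (c (2 * i)) * P (2 * i) = 1 := by
    intro i
    have : c (2 * i) = logSer (a (2 * i)) := by
      simp only [c, Even.neg_one_pow (even_two_mul i), one_mul]
    rw [this, hP]
  have hodd : ∀ i, E (c (2 * i + 1)) = P (2 * i + 1) := by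
    intro i
    have : c (2 * i + 1) = -logSer (a (2 * i + 1)) := by
      simp only [c, Odd.neg_one_pow (odd_two_mul_add_one i), neg_one_mul]
    rw [this]
    exact E_neg_eq (constantCoeff_logSer _) (hP _)
  simp only [hodd]
  rw [mul_comm (∏ i ∈ Finset.range (n + 1), E (c (2 * i))), mul_assoc, ← Finset.prod_mul_distrib]
  simp only [heven, Finset.prod_const_one, mul_one]

end Main

section Descent

variable {K : Type*} [Field K] [CharZero K]

/-- a power series over `ℚ` which becomes rational over an extension field is rational over `ℚ`. -/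
theorem descent (Z : ℚ⟦X⟧) (A B : Polynomial K) (hA : A ≠ 0)
    (h : PowerSeries.map (algebraMap ℚ K) Z * (A : K⟦X⟧) = (B : K⟦X⟧)) :
    ∃ P Q : Polynomial ℚ, Q ≠ 0 ∧ Z * (Q : ℚ⟦X⟧) = (P : ℚ⟦X⟧) := by
  classical
  obtain ⟨i₀, hi₀⟩ : ∃ i, A.coeff i ≠ 0 := by
    by_contra hcon
    push Not at hcon
    exact hA (Polynomial.ext fun i => by simpa using hcon i)
  obtain ⟨lam, hlam⟩ : ∃ lam : Module.Dual ℚ K, lam (A.coeff i₀) ≠ 0 := by
    by_contra hcon
    push Not at hcon
    exact hi₀ ((Module.forall_dual_apply_eq_zero_iff ℚ (A.coeff i₀)).mp hcon)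
  let app : Polynomial K → Polynomial ℚ := fun F =>
    ∑ i ∈ F.support, Polynomial.monomial i (lam (F.coeff i))
  have happ : ∀ (F : Polynomial K) (i : ℕ), (app F).coeff i = lam (F.coeff i) := by
    intro F i
    simp only [app, Polynomial.finsetSum_coeff, Polynomial.coeff_monomial]
    rw [Finset.sum_ite_eq' F.support i]
    split_ifs with hi
    · rfl
    · rw [Polynomial.notMem_support_iff.mp hi, map_zero]
  refine ⟨app B, app A, ?_, ?_⟩
  · intro h0
    apply hlam
    rw [← happ, h0, Polynomial.coeff_zero]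
  · ext m
    rw [PowerSeries.coeff_mul, Polynomial.coeff_coe, happ]
    have hm := congrArg (PowerSeries.coeff m) h
    rw [PowerSeries.coeff_mul, Polynomial.coeff_coe] at hm
    rw [← hm, map_sum]
    refine Finset.sum_congr rfl fun x _ => ?_
    rw [Polynomial.coeff_coe, happ, PowerSeries.coeff_map, Polynomial.coeff_coe,
      ← Algebra.smul_def, map_smul, smul_eq_mul]

end Descent

end Groth.Agent.Lib.Seat72.ZetaPS
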