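import Mathlib
import Groth.Agent.Lib.Seat72ZetaGenA
import Groth.Agent.Lib.Seat72ZetaPS
import Groth.Prelude.Def_SgaExt

/-!
# Seat72: point counts and the zeta function of a scheme of finite type over a finite field

* `Pts f k'`: the `k'`-points of the `k`-scheme `X`; `exists_fiber_equiv`: the points over `x` are
  the `k`-embeddings `κ(x) → k'`;
* `pointCount_eq_nPts`: `#X(k') = N_r`, `r = [k' : k]` (finite fields);
* `degCount_eq_sum`, `nPts_eq_sum`, `logZeta_eq_sum`, `zetaFun_eq_prod`: additivity along a finite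
  partition of the closed points by immersions.
-/

set_option autoImplicit false
set_option maxSynthPendingDepth 3
set_option linter.style.haveILetI false
set_option linter.unusedSectionVars false

universe u

open AlgebraicGeometry CategoryTheory CategoryTheory.Limits

namespace Groth.Agent.Lib.Seat72.ZetaGenB

open Groth.Agent.Lib.Helper10.GaloisOrbit Groth.Agent.Lib.Seat72.ZetaGenA

section Points

variable {k : Type u} [Field k] {X : Scheme.{u}} (f : X ⟶ Spec (CommRingCat.of k))
  (k' : Type u) [Field k'] [Algebra k k']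

/-- the `k'`-points of the `k`-scheme `X`. -/
def Pts : Type u :=
  {g : Spec (CommRingCat.of k') ⟶ X // g ≫ f = Spec.map (CommRingCat.ofHom (algebraMap k k'))}

theorem pointCount_eq_card_pts : SgaExt.pointCount f k' = Nat.card (Pts f k') := rfl

variable {f k'}

/-- the image point of a `k'`-point. -/
noncomputable def Pts.pt (a : Pts f k') : X := a.1 (IsLocalRing.closedPoint k')

variable (f k')

/-- the points over `x` are the `k`-embeddings `κ(x) → k'`. -/
theorem exists_fiber_equiv (x : X) :
    letI : Algebra k (X.residueField x) := (resHom k f x).hom.toAlgebra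
    Nonempty ((X.residueField x →ₐ[k] k') ≃ {a : Pts f k' // a.pt = x}) := by
  letI : Algebra k (X.residueField x) := (resHom k f x).hom.toAlgebra
  let Θ : (X.residueField x →ₐ[k] k') → {a : Pts f k' // a.pt = x} :=
    fun ψ => ⟨⟨Spec.map (CommRingCat.ofHom ψ.toRingHom) ≫ X.fromSpecResidueField x, by
        rw [Category.assoc, ← map_resHom k f x, ← Spec.map_comp]
        congr 1
        ext c
        exact ψ.commutes c⟩,
      (Scheme.Hom.comp_apply _ _ _).trans (Scheme.fromSpecResidueField_apply x _)⟩
  refine ⟨Equiv.ofBijective Θ ⟨?_, ?_⟩⟩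
  · intro ψ ψ' hΘ
    have h1 : Spec.map (CommRingCat.ofHom ψ.toRingHom) ≫ X.fromSpecResidueField x =
        Spec.map (CommRingCat.ofHom ψ'.toRingHom) ≫ X.fromSpecResidueField x :=
      congrArg (fun a : {a : Pts f k' // a.pt = x} => a.1.1) hΘ
    have h2 : (⟨x, CommRingCat.ofHom ψ.toRingHom⟩ :
        Σ x : X, X.residueField x ⟶ CommRingCat.of k') = ⟨x, CommRingCat.ofHom ψ'.toRingHom⟩ :=
      (Scheme.SpecToEquivOfField k' X).symm.injective h1
    have h3 : CommRingCat.ofHom ψ.toRingHom = CommRingCat.ofHom ψ'.toRingHom :=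
      eq_of_heq (Sigma.mk.inj h2).2
    ext c
    exact congrArg (fun φ => φ.hom c) h3
  · rintro ⟨⟨a, ha1⟩, hax⟩
    obtain ⟨φ, rfl⟩ := exists_eq_comp k' x a hax
    have h1 := resHom_comp k k' f x φ ha1
    let ψ : X.residueField x →ₐ[k] k' :=
      { φ.hom with
        commutes' := fun c =>
          congrArg (fun g : CommRingCat.of k ⟶ CommRingCat.of k' => g.hom c) h1 }
    refine ⟨ψ, ?_⟩
    apply Subtype.ext
    apply Subtype.ext
    rfl

end Points

section Count

variable {k : Type u} [Field k] [Finite k] {X : Scheme.{u}} (f : X ⟶ Spec (CommRingCat.of k))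
  (k' : Type u) [Field k'] [Algebra k k'] [Finite k']

theorem finite_algHom (L : Type*) [Field L] [Algebra k L] : Finite (L →ₐ[k] k') := by
  by_cases hL : Finite L
  · exact Finite.of_injective (fun ψ : L →ₐ[k] k' => (ψ : L → k')) DFunLike.coe_injective
  · haveI : IsEmpty (L →ₐ[k] k') := ⟨fun ψ => hL (Finite.of_injective ψ ψ.injective)⟩
    infer_instance

instance finite_fiber (x : X) : Finite {a : Pts f k' // a.pt = x} := by
  letI : Algebra k (X.residueField x) := (resHom k f x).hom.toAlgebra
  obtain ⟨e⟩ := exists_fiber_equiv f k' x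
  haveI := finite_algHom (k := k) k' (X.residueField x)
  exact Finite.of_equiv _ e

theorem card_fiber (x : X) :
    Nat.card {a : Pts f k' // a.pt = x} =
      if EGA4loc.residueDegree f x ≠ 0 ∧ EGA4loc.residueDegree f x ∣ Module.finrank k k' then
        EGA4loc.residueDegree f x else 0 := by
  letI : Algebra k (X.residueField x) := (resHom k f x).hom.toAlgebra
  obtain ⟨e⟩ := exists_fiber_equiv f k' x
  rw [← Nat.card_congr e, card_algHom_finite k (X.residueField x) k', residueDegree_eq_finrank f x]

variable [LocallyOfFiniteType f] [QuasiCompact f]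

instance finite_pts : Finite (Pts f k') := by
  classical
  set r := Module.finrank k k' with hr
  have hr0 : r ≠ 0 := Module.finrank_pos.ne'
  set T : Set X := ⋃ e ∈ r.divisors, {x : X | EGA4loc.residueDegree f x = e} with hT
  have hTfin : T.Finite := Set.Finite.biUnion r.divisors.finite_toSet fun e he =>
    finite_residueDegree_eq f e (Nat.pos_of_mem_divisors he).ne'
  have hmem : ∀ a : Pts f k', a.pt ∈ T := by
    intro a
    have h0 := card_fiber f k' a.pt
    haveI : Nonempty {b : Pts f k' // b.pt = a.pt} := ⟨⟨a, rfl⟩⟩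
    have hpos : 0 < Nat.card {b : Pts f k' // b.pt = a.pt} := Nat.card_pos
    by_cases hc : EGA4loc.residueDegree f a.pt ≠ 0 ∧ EGA4loc.residueDegree f a.pt ∣ r
    · exact Set.mem_iUnion₂.mpr ⟨_, Nat.mem_divisors.mpr ⟨hc.2, hr0⟩, rfl⟩
    · rw [if_neg hc] at h0
      omega
  have hcover : (Set.univ : Set (Pts f k')) ⊆ ⋃ x ∈ T, Pts.pt ⁻¹' {x} := fun a _ =>
    Set.mem_iUnion₂.mpr ⟨a.pt, hmem a, rfl⟩
  have hfin : (⋃ x ∈ T, (Pts.pt (f := f) (k' := k')) ⁻¹' {x}).Finite :=
    Set.Finite.biUnion hTfin fun x _ => by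
      have : Finite {a : Pts f k' // a.pt = x} := inferInstance
      exact Set.finite_coe_iff.mp this
  exact Set.finite_univ_iff.mp (hfin.subset hcover)

/-- abstract count: a finite type fibred over `X` with fibres of the expected size has `N_m`
elements. -/
theorem card_eq_nPts_of_fibers {P : Type*} [Finite P] (pt : P → X) (m : ℕ) (hm : m ≠ 0)
    (hfib : ∀ x, Nat.card {a : P // pt a = x} =
      if EGA4loc.residueDegree f x ≠ 0 ∧ EGA4loc.residueDegree f x ∣ m then
        EGA4loc.residueDegree f x else 0) :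
    Nat.card P = Zeta.nPts f m := by
  classical
  haveI := Fintype.ofFinite P
  set img : Finset X := Finset.univ.image pt with himg
  have himg_deg : ∀ x ∈ img, EGA4loc.residueDegree f x ≠ 0 ∧ EGA4loc.residueDegree f x ∣ m := by
    intro x hx
    obtain ⟨a, -, rfl⟩ := Finset.mem_image.mp hx
    by_contra hcon
    have h0 := hfib (pt a)
    rw [if_neg hcon] at h0
    haveI : Nonempty {b : P // pt b = pt a} := ⟨⟨a, rfl⟩⟩
    exact (Nat.card_pos (α := {b : P // pt b = pt a})).ne' h0
  have h1 : Nat.card P = ∑ x ∈ img, EGA4loc.residueDegree f x := by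
    rw [Nat.card_eq_fintype_card, ← Finset.card_univ,
      Finset.card_eq_sum_card_fiberwise (f := pt) (t := img)
        (fun a _ => Finset.mem_image_of_mem _ (Finset.mem_univ a))]
    refine Finset.sum_congr rfl fun x hx => ?_
    have h2 : (Finset.univ.filter fun a : P => pt a = x).card = Nat.card {a : P // pt a = x} := by
      rw [Nat.card_eq_fintype_card, Fintype.card_subtype]
    rw [h2, hfib x, if_pos (himg_deg x hx)]
  have h2 : ∑ x ∈ img, EGA4loc.residueDegree f x =
      ∑ e ∈ m.divisors, ∑ x ∈ img with EGA4loc.residueDegree f x = e, EGA4loc.residueDegree f x :=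
    (Finset.sum_fiberwise_of_maps_to (fun x hx => Nat.mem_divisors.mpr
      ⟨(himg_deg x hx).2, hm⟩) _).symm
  rw [h1, h2, Zeta.nPts]
  refine Finset.sum_congr rfl fun e he => ?_
  have he0 : e ≠ 0 := (Nat.pos_of_mem_divisors he).ne'
  have hedvd : e ∣ m := Nat.dvd_of_mem_divisors he
  have h3 : ∑ x ∈ img with EGA4loc.residueDegree f x = e, EGA4loc.residueDegree f x =
      e * (img.filter fun x => EGA4loc.residueDegree f x = e).card := by
    rw [Finset.sum_congr rfl (fun x hx => (Finset.mem_filter.mp hx).2), Finset.sum_const,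
      smul_eq_mul, mul_comm]
  rw [h3]
  congr 1
  rw [degCount_eq f e he0]
  have hiff : ∀ x : X, EGA4loc.residueDegree f x = e ↔
      x ∈ img.filter fun x => EGA4loc.residueDegree f x = e := by
    intro x
    rw [Finset.mem_filter]
    constructor
    · intro hx
      refine ⟨?_, hx⟩
      have h4 := hfib x
      rw [if_pos ⟨by rw [hx]; exact he0, by rw [hx]; exact hedvd⟩, hx] at h4
      have : 0 < Nat.card {a : P // pt a = x} := by rw [h4]; exact Nat.pos_of_ne_zero he0
      obtain ⟨⟨a, rfl⟩⟩ := (Nat.card_pos_iff.mp this).1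
      exact Finset.mem_image_of_mem _ (Finset.mem_univ a)
    · rintro ⟨-, hx⟩
      exact hx
  rw [Nat.card_congr (Equiv.subtypeEquivRight hiff), Nat.card_eq_fintype_card, Fintype.card_coe]

/-- the number of `k'`-points is `N_r`, `r = [k' : k]`. -/
theorem pointCount_eq_nPts : SgaExt.pointCount f k' = Zeta.nPts f (Module.finrank k k') := by
  rw [pointCount_eq_card_pts]
  exact card_eq_nPts_of_fibers f Pts.pt _ Module.finrank_pos.ne' (card_fiber f k')

end Count

end Groth.Agent.Lib.Seat72.ZetaGenB
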