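-- helper58 (seat 58): the groupoid of rational points of `[X/G]` over a finite field, `G` connected.
import Groth.Agent.Lib.Seat58QuotStGeomPt
import Groth.Agent.Lib.Seat18Torsor
import Groth.Agent.Lib.Seat72ZetaGenB

set_option autoImplicit false
set_option backward.isDefEq.respectTransparency false
set_option backward.isDefEq.respectTransparency.types false
set_option linter.unusedSimpArgs false
set_option linter.style.haveILetI false
universe u
open CategoryTheory CategoryTheory.Limits MonoidalCategory CartesianMonoidalCategory AlgebraicGeometry Opposite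
open AlgSt MonObj GrpObj
open Groth.Agent.S12838 Groth.Agent.Lib.Seat58.QuotStGeomPt

namespace Groth.Agent.Lib.Seat58.QuotStMass

variable {k : Type u} [Field k]
  {G X : Over (Spec (CommRingCat.of k))} [GrpObj G] {aX : AlgGrp.Action G X}

/-- the rational point of the base -/
noncomputable abbrev pt (k : Type u) [Field k] : Over (Spec (CommRingCat.of k)) :=
  Over.mk (𝟙 (Spec (CommRingCat.of k)))

theorem pt_hom_ext {Y : Over (Spec (CommRingCat.of k))} (f g : Y ⟶ pt k) : f = g :=
  Over.mkIdTerminal.hom_ext f g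

/-- a torsor over the rational point is a pseudo-torsor over `k` -/
theorem isIso_lift_act (A : QuotObj Scheme.fppfPrecoverage G aX) (hA : A.base = pt k) :
    IsIso (lift A.act.act (snd G A.P)) := by
  obtain ⟨base, P, act, π, cart, loc, φ, eqv⟩ := A
  change base = pt k at hA
  subst hA
  have hπ : π = toUnit P := pt_hom_ext _ _
  have h1 : IsPullback act.act (snd G P) (toUnit P) (toUnit P) := by rw [← hπ]; exact cart
  have h2 := isPullback_fst_snd P P
  have e : lift act.act (snd G P) = (h1.isoIsPullback _ _ h2).hom := by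
    apply CartesianMonoidalCategory.hom_ext
    · rw [lift_fst, IsPullback.isoIsPullback_hom_fst]
    · rw [lift_snd, IsPullback.isoIsPullback_hom_snd]
  change IsIso (lift act.act (snd G P))
  rw [e]
  infer_instance

/-- the total space of a torsor over the rational point is not empty -/
theorem nonempty_left (A : QuotObj Scheme.fppfPrecoverage G aX) (hA : A.base = pt k) :
    Nonempty ↥A.P.left := by
  obtain ⟨base, P, act, π, cart, loc, φ, eqv⟩ := A
  change base = pt k at hA
  subst hA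
  obtain ⟨R, hR, hsec⟩ := loc
  have x0 : ↥(Spec (CommRingCat.of k)) := IsLocalRing.closedPoint k
  obtain ⟨Y, f, hf, y, -⟩ :=
    (Presieve.mem_comap_jointlySurjectivePrecoverage_iff Scheme.forget).mp hR.1 x0
  obtain ⟨s, -⟩ := hsec f hf
  exact ⟨s y⟩

variable [Finite k]

/-- Lang: over a finite field every object of `[X/G]`, `G` smooth affine connected, is isomorphic in
the fibre category to the image of a rational point of `X` -/
theorem exists_fiberIso_fibPt [Smooth G.hom] [IsAffineHom G.hom] [ConnectedSpace ↥G.left]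
    (ξ : (AlgSt.QuotSt Scheme.fppfPrecoverage G aX).p.Fiber (pt k)) :
    ∃ a : pt k ⟶ X, Nonempty (fibPt (aX := aX) a ≅ ξ) := by
  obtain ⟨A, hA⟩ := ξ
  have hiso := isIso_lift_act A hA
  have hne := nonempty_left A hA
  obtain ⟨base, P, act, π, cart, loc, φ, eqv⟩ := A
  change base = pt k at hA
  subst hA
  have : IsAffine G.left := isAffine_of_isAffineHom G.hom
  obtain ⟨s⟩ := Groth.Agent.Lib.Seat18.Torsor.torsor_trivial G P act hiso
  have hs : s ≫ π = 𝟙 (pt k) := pt_hom_ext _ _
  let A : QuotObj Scheme.fppfPrecoverage G aX := ⟨pt k, P, act, π, cart, loc, φ, eqv⟩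
  refine ⟨s ≫ φ, ⟨fiberIso (x := fibPt (aX := aX) (s ≫ φ)) (y := ⟨A, rfl⟩) (trivIso A s hs) ?_⟩⟩
  exact isHomLift_of_base_eq_id (T := pt k) (trivIso A s hs).hom rfl rfl
    (by rw [trivIso_hom_base]; exact (Category.id_comp (𝟙 (pt k))).symm)

section Points

omit [Finite k]

variable {T : Over (Spec (CommRingCat.of k))} (aX)

/-- `G(T)` acts on `X(T)` -/
@[reducible] noncomputable def ptAction (T : Over (Spec (CommRingCat.of k))) :
    MulAction (T ⟶ G) (T ⟶ X) where
  smul g x := lift g x ≫ aX.act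
  one_smul x := one_act_lift aX x
  mul_smul g h x := mul_act_lift aX g h x

theorem smul_def (g : T ⟶ G) (x : T ⟶ X) :
    letI := ptAction aX T
    g • x = lift g x ≫ aX.act := rfl

variable {aX}

/-- the group element of a morphism of trivial torsors -/
noncomputable def gOf {x x' : T ⟶ X}
    (h : (fibPt (aX := aX) x).1 ⟶ (fibPt (aX := aX) x').1) : T ⟶ G :=
  unitSec T ≫ h.top ≫ fst G T

theorem unitSec_rmul_fst (g : T ⟶ G) : unitSec T ≫ rmul (𝟙 T) g ≫ fst G T = g := by
  rw [unitSec, rmul, lift_fst, comp_mul, lift_fst, ← Category.assoc, lift_snd, Category.id_comp,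
    _root_.one_mul]

theorem gOf_spec {x x' : T ⟶ X}
    (h : (fibPt (aX := aX) x).1 ⟶ (fibPt (aX := aX) x').1) (hb : h.base = 𝟙 T) :
    lift (gOf h) x' ≫ aX.act = x ∧ h.top = rmul (𝟙 T) (gOf h) := by
  have hc : h.top ≫ snd G T = snd G T ≫ 𝟙 T := by
    have := h.cart.w
    rw [hb] at this
    exact this
  obtain ⟨g, hg1, hg2⟩ := part1 aX (𝟙 T) x x' h.top hc h.eqv h.wφ
  have hg2' : h.top = rmul (𝟙 T) g := hg2
  have e : gOf h = g := by
    unfold gOf
    rw [hg2', unitSec_rmul_fst]
  rw [e]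
  exact ⟨by rw [← hg1, Category.id_comp], hg2'⟩

theorem fiber_hom_base {ξ ξ' : (AlgSt.QuotSt Scheme.fppfPrecoverage G aX).p.Fiber T}
    (e : ξ ⟶ ξ') : e.1.base = eqToHom ξ.2 ≫ eqToHom ξ'.2.symm := by
  have := e.2
  have h := IsHomLift.fac' (AlgSt.QuotSt Scheme.fppfPrecoverage G aX).p (𝟙 T) e.1
  rw [Category.id_comp] at h
  exact h

theorem fibPt_hom_base {x x' : T ⟶ X} (e : fibPt (aX := aX) x ⟶ fibPt (aX := aX) x') :
    e.1.base = 𝟙 T := by
  exact (fiber_hom_base e).trans (by rw [eqToHom_refl]; exact Category.comp_id _)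

/-- images of two points are isomorphic in the fibre iff the points are in one orbit -/
theorem fibPt_iso_iff (x x' : T ⟶ X) :
    Nonempty (fibPt (aX := aX) x ≅ fibPt (aX := aX) x') ↔
      ∃ g : T ⟶ G, lift g x' ≫ aX.act = x := by
  constructor
  · rintro ⟨e⟩
    exact ⟨gOf e.hom.1, (gOf_spec e.hom.1 (fibPt_hom_base e.hom)).1⟩
  · rintro ⟨g, hg⟩
    exact nonempty_fiberIso_quotMap x x' g hg

/-- the automorphism of the image of a point attached to an element of the stabiliser -/
noncomputable def autOf (x : T ⟶ X) (g : T ⟶ G) (hg : lift g x ≫ aX.act = x) :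
    Aut (fibPt (aX := aX) x) :=
  fiberIso (x := fibPt (aX := aX) x) (y := fibPt (aX := aX) x) (rmulIso x x g hg)
    (isHomLift_of_base_eq_id (T := T) (rmulIso x x g hg).hom rfl rfl
      (by rw [rmulIso_hom_base]; exact (Category.id_comp (𝟙 T)).symm))

theorem autOf_hom_top (x : T ⟶ X) (g : T ⟶ G) (hg : lift g x ≫ aX.act = x) :
    (autOf x g hg).hom.1.top = rmul (𝟙 T) g := by
  change (rmulIso x x g hg).hom.top = _
  rw [rmulIso, isoOfBaseIso_hom]
  rfl

/-- automorphisms of the image of a point = stabiliser of the point -/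
theorem bijective_gOf (x : T ⟶ X) :
    Function.Bijective (fun e : Aut (fibPt (aX := aX) x) =>
      (⟨gOf e.hom.1, (gOf_spec e.hom.1 (fibPt_hom_base e.hom)).1⟩ :
        {g : T ⟶ G // lift g x ≫ aX.act = x})) := by
  constructor
  · intro e e' h
    have hg : gOf e.hom.1 = gOf e'.hom.1 := congrArg Subtype.val h
    apply Iso.ext
    apply Functor.Fiber.hom_ext
    apply QuotObj.hom_ext
    · exact (fibPt_hom_base e.hom).trans (fibPt_hom_base e'.hom).symm
    · exact ((gOf_spec e.hom.1 (fibPt_hom_base e.hom)).2.trans (congrArg (rmul (𝟙 T)) hg)).trans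
        (gOf_spec e'.hom.1 (fibPt_hom_base e'.hom)).2.symm
  · rintro ⟨g, hg⟩
    refine ⟨autOf x g hg, ?_⟩
    apply Subtype.ext
    change gOf (autOf x g hg).hom.1 = g
    unfold gOf
    rw [autOf_hom_top, unitSec_rmul_fst]

end Points

section Count

omit [GrpObj G] in
/-- rational points of a quasi-compact scheme locally of finite type over a finite field -/
theorem finite_pts_over (Y : Over (Spec (CommRingCat.of k))) [LocallyOfFiniteType Y.hom]
    [QuasiCompact Y.hom] : Finite (pt k ⟶ Y) := by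
  haveI := Groth.Agent.Lib.Seat72.ZetaGenB.finite_pts Y.hom k
  let inc : (pt k ⟶ Y) → Groth.Agent.Lib.Seat72.ZetaGenB.Pts Y.hom k := fun s =>
    ⟨s.left, by
      have h := CategoryTheory.Over.w s
      rw [h]
      change 𝟙 _ = _
      rw [Algebra.algebraMap_self, CommRingCat.ofHom_id, Spec.map_id]⟩
  refine Finite.of_injective inc ?_
  intro s s' h
  apply Over.OverMorphism.ext
  exact congrArg Subtype.val h

variable [Smooth G.hom] [IsAffineHom G.hom] [ConnectedSpace ↥G.left]
variable (aX)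

/-- the groupoid of rational points of `[X/G]` -/
abbrev Fib := (AlgSt.QuotSt Scheme.fppfPrecoverage G aX).p.Fiber (pt k)

theorem mass_formula [LocallyOfFiniteType X.hom] [QuasiCompact X.hom] :
    Finite (Quotient (isIsomorphicSetoid (Fib aX))) ∧ (∀ ξ : Fib aX, Finite (Aut ξ)) ∧
      ∑ᶠ c : Quotient (isIsomorphicSetoid (Fib aX)), ((Nat.card (Aut c.out) : ℚ))⁻¹ =
        (Nat.card (pt k ⟶ X) : ℚ) / (Nat.card (pt k ⟶ G) : ℚ) := by
  classical
  letI := ptAction aX (pt k)
  haveI : Finite (pt k ⟶ X) := finite_pts_over X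
  haveI : Finite (pt k ⟶ G) := finite_pts_over G
  have hrep : ∀ ξ : Fib aX, ∃ a : pt k ⟶ X, Nonempty (fibPt (aX := aX) a ≅ ξ) :=
    exists_fiberIso_fibPt
  choose rep hrep using hrep
  -- automorphism groups
  have hAutEq : ∀ ξ : Fib aX,
      Nonempty (Aut ξ ≃ MulAction.stabilizer (pt k ⟶ G) (rep ξ)) := by
    intro ξ
    obtain ⟨i⟩ := hrep ξ
    refine ⟨(i.symm.conjAut.toEquiv).trans ((Equiv.ofBijective _ (bijective_gOf (rep ξ))).trans
      (Equiv.subtypeEquivRight fun g => ?_))⟩
    exact Iff.rfl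
  have hAutFin : ∀ ξ : Fib aX, Finite (Aut ξ) := fun ξ => by
    obtain ⟨e⟩ := hAutEq ξ
    exact Finite.of_equiv _ e.symm
  have hAutCard : ∀ ξ : Fib aX,
      Nat.card (Aut ξ) = Nat.card (MulAction.stabilizer (pt k ⟶ G) (rep ξ)) := fun ξ => by
    obtain ⟨e⟩ := hAutEq ξ
    exact Nat.card_congr e
  -- classes and orbits
  let ε : Quotient (isIsomorphicSetoid (Fib aX)) →
      Quotient (MulAction.orbitRel (pt k ⟶ G) (pt k ⟶ X)) := fun c => Quotient.mk'' (rep c.out)
  have hiso_of : ∀ ξ ξ' : Fib aX, (∃ g : pt k ⟶ G, lift g (rep ξ') ≫ aX.act = rep ξ) →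
      Nonempty (ξ ≅ ξ') := by
    intro ξ ξ' h
    obtain ⟨j⟩ := (fibPt_iso_iff (rep ξ) (rep ξ')).mpr h
    obtain ⟨i⟩ := hrep ξ
    obtain ⟨i'⟩ := hrep ξ'
    exact ⟨i.symm ≪≫ j ≪≫ i'⟩
  have hεinj : Function.Injective ε := by
    intro c c' h
    have h1 : MulAction.orbitRel (pt k ⟶ G) (pt k ⟶ X) (rep c.out) (rep c'.out) :=
      Quotient.eq''.mp h
    rw [MulAction.orbitRel_apply] at h1
    obtain ⟨g, hg⟩ := h1
    have h2 : Nonempty (c.out ≅ c'.out) := hiso_of _ _ ⟨g, hg⟩
    rw [← Quotient.out_eq c, ← Quotient.out_eq c']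
    exact Quotient.sound h2
  have hεsurj : Function.Surjective ε := by
    intro ω
    obtain ⟨x, rfl⟩ := Quotient.exists_rep ω
    refine ⟨Quotient.mk (isIsomorphicSetoid (Fib aX)) (fibPt (aX := aX) x), ?_⟩
    apply Quotient.sound
    change MulAction.orbitRel (pt k ⟶ G) (pt k ⟶ X) _ _
    rw [MulAction.orbitRel_apply]
    have h1 : Nonempty ((Quotient.mk (isIsomorphicSetoid (Fib aX)) (fibPt (aX := aX) x)).out ≅
        fibPt (aX := aX) x) :=
      Quotient.mk_out (s := isIsomorphicSetoid (Fib aX)) (fibPt (aX := aX) x)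
    obtain ⟨j⟩ := h1
    obtain ⟨i⟩ := hrep (Quotient.mk (isIsomorphicSetoid (Fib aX)) (fibPt (aX := aX) x)).out
    exact (fibPt_iso_iff _ x).mp ⟨i ≪≫ j⟩
  let E := Equiv.ofBijective ε ⟨hεinj, hεsurj⟩
  haveI : Finite (Quotient (isIsomorphicSetoid (Fib aX))) := Finite.of_equiv _ E.symm
  refine ⟨inferInstance, hAutFin, ?_⟩
  letI : Fintype (Quotient (isIsomorphicSetoid (Fib aX))) := Fintype.ofFinite _
  letI : Fintype (Quotient (MulAction.orbitRel (pt k ⟶ G) (pt k ⟶ X))) := Fintype.ofFinite _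
  -- the class formula
  let φ : Quotient (MulAction.orbitRel (pt k ⟶ G) (pt k ⟶ X)) → (pt k ⟶ X) :=
    fun ω => rep (E.symm ω).out
  have hφ : Function.LeftInverse Quotient.mk'' φ := fun ω => E.apply_symm_apply ω
  have hcard : Nat.card (pt k ⟶ X) =
      ∑ c : Quotient (isIsomorphicSetoid (Fib aX)),
        Nat.card ((pt k ⟶ G) ⧸ MulAction.stabilizer (pt k ⟶ G) (rep c.out)) := by
    rw [Nat.card_congr (MulAction.selfEquivSigmaOrbitsQuotientStabilizer' (pt k ⟶ G) (pt k ⟶ X) hφ),
      Nat.card_sigma]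
    refine (Fintype.sum_equiv E _ _ fun c => ?_).symm
    change _ = Nat.card ((pt k ⟶ G) ⧸ MulAction.stabilizer (pt k ⟶ G) (rep (E.symm (E c)).out))
    rw [E.symm_apply_apply]
  have hG0 : (Nat.card (pt k ⟶ G) : ℚ) ≠ 0 := by
    exact_mod_cast Nat.card_pos.ne'
  rw [finsum_eq_sum_of_fintype, hcard, Nat.cast_sum, Finset.sum_div]
  refine Finset.sum_congr rfl fun c _ => ?_
  rw [hAutCard c.out]
  have hL := Subgroup.card_eq_card_quotient_mul_card_subgroup
    (MulAction.stabilizer (pt k ⟶ G) (rep c.out))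
  have hS0 : (Nat.card (MulAction.stabilizer (pt k ⟶ G) (rep c.out)) : ℚ) ≠ 0 := by
    exact_mod_cast Nat.card_pos.ne'
  have hQ0 : (Nat.card ((pt k ⟶ G) ⧸ MulAction.stabilizer (pt k ⟶ G) (rep c.out)) : ℚ) ≠ 0 := by
    exact_mod_cast Nat.card_pos.ne'
  rw [hL, Nat.cast_mul]
  field_simp

end Count

end Groth.Agent.Lib.Seat58.QuotStMass
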