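-- helper59 (seat 59): algebraic spaces locally of finite type over an algebraically closed
-- field have rational points.
import Mathlib
import Groth.Prelude.Def_AlgSp3
import Groth.Agent.Lib.Helper11HomSm

set_option autoImplicit false
set_option backward.isDefEq.respectTransparency false
set_option backward.isDefEq.respectTransparency.types false
open CategoryTheory CategoryTheory.Functor CategoryTheory.Limits Opposite AlgebraicGeometry

universe u

namespace Groth.Agent.Lib.Seat59.AlgClosedPt

variable {S : Scheme.{u}}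

/-- An algebraic space locally of finite type over the spectrum of an algebraically closed field,
with a section over some nonempty scheme, has a section over the spectrum of the field. -/
theorem exists_section_of_lft {F : AlgSp.Sp S} (hF : AlgSp.IsAlgSpace F) (k : Type u) [Field k]
    [IsAlgClosed k] (s : Spec (CommRingCat.of k) ⟶ S)
    (m : F ⟶ (AlgSp.yon S).obj (Over.mk s)) (hm : AlgSp.LocP @LocallyOfFiniteType m)
    (T' : Over S) [hT' : Nonempty T'.left] (x : F.obj.obj (op T')) :
    ∃ σ : F.obj.obj (op (Over.mk s)), m.hom.app (op (Over.mk s)) σ = ⟨𝟙 _⟩ := by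
  obtain ⟨U, p, hpe, hps⟩ := hF.atlas
  obtain ⟨h, hh⟩ := (AlgSp.yon S).map_surjective (p ≫ m)
  have hlft : LocallyOfFiniteType h.left :=
    hm p (𝟙 _) h hpe (AlgSp.repWith_id @Etale _) (by rw [hh, Category.comp_id])
  have hne : Nonempty U.left := by
    let xh : (AlgSp.yon S).obj T' ⟶ F := (AlgSp.J S).uliftYonedaEquiv.symm x
    obtain ⟨hr, hall⟩ := (AlgSp.repWith_iff @Surjective p).1 hps
    have hs : Surjective (hr.snd xh).left := hall xh (hr.fst xh) (hr.snd xh) (hr.isPullback xh)
    obtain ⟨t₀⟩ := hT'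
    obtain ⟨v, -⟩ := hs.surj t₀
    exact ⟨(hr.fst' xh).left.base v⟩
  have hsub : Subsingleton (Spec (CommRingCat.of k)) := inferInstance
  have hsurj : Surjective h.left := by
    refine ⟨fun y => ?_⟩
    obtain ⟨u₀⟩ := hne
    exact ⟨u₀, hsub.elim _ _⟩
  obtain ⟨g, hg⟩ := Groth.Agent.Lib.Helper11HomSm.exists_lift_point h.left
    (𝟙 (Spec (CommRingCat.of k)))
  have hw : h.left ≫ s = U.hom := Over.w h
  let u : Over.mk s ⟶ U := Over.homMk g (by
    change g ≫ U.hom = s
    rw [← hw, reassoc_of% hg])
  have hu : u ≫ h = 𝟙 _ := by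
    apply Over.OverMorphism.ext
    exact hg
  refine ⟨p.hom.app (op (Over.mk s)) ⟨u⟩, ?_⟩
  have h1 : (p ≫ m).hom.app (op (Over.mk s)) ⟨u⟩ = ⟨u ≫ h⟩ := by
    rw [← hh]
    rfl
  rw [hu] at h1
  exact h1

end Groth.Agent.Lib.Seat59.AlgClosedPt
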