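-- helper59 (seat 59): base change of chart-square properties (`AlgSt.LocQ`) of functors between
-- algebraic stacks, and auxiliary functors between 2-fibre products.
import Mathlib
import Groth.Agent.Lib.Helper15LocQSpace
import Groth.Agent.Lib.Helper15LocQRep
import Groth.Agent.Lib.Helper15GoodComp

set_option autoImplicit false
set_option backward.isDefEq.respectTransparency false
set_option backward.isDefEq.respectTransparency.types false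
open CategoryTheory CategoryTheory.Functor CategoryTheory.Limits Opposite AlgebraicGeometry

universe u

namespace Groth.Agent.Lib.Seat59.LocQBC

open Groth.Agent.Lib.Helper17 Groth.Agent.Lib.Helper15PshFib Groth.Agent.Lib.Helper15RepComp
  Groth.Agent.Lib.Helper15RepPsh Groth.Agent.Lib.Helper15DiagBase Groth.Agent.Lib.Helper15DiagRepSp
  Groth.Agent.Lib.Helper15Descent Groth.Agent.Lib.Helper15DiagLft
  Groth.Agent.Lib.Helper15SpMapRep Groth.Agent.Lib.Helper15Atlas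
  Groth.Agent.Lib.Helper15PtsComp Groth.Agent.Lib.Helper15PtsTop
  Groth.Agent.Lib.Helper15FpSwap Groth.Agent.Lib.Helper15LocQEngine
  Groth.Agent.Lib.Helper15LocQSpace Groth.Agent.Lib.Helper15LocQRep

section Equiv

variable {S : Scheme.{u}} {𝒜 𝒜' ℬ ℬ' : AlgSt.Cat S}

/-- Precomposition with an equivalence over the base keeps `RepByAlgSpWith Q`. -/
theorem repByAlgSpWith_equiv_comp (Q : MorphismProperty (AlgSp.Sp S)) (E : 𝒜' ⥤ᵇ 𝒜)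
    (hE : FibCat.IsEquivOver E) (a : 𝒜 ⥤ᵇ ℬ) (ha : AlgSt.RepByAlgSpWith Q a) :
    AlgSt.RepByAlgSpWith Q (BasedFunctor.comp E a) :=
  (repByAlgSpWith_of_square Q a (BasedFunctor.comp E a) E (BasedFunctor.id _) hE
    (isEquivOver_id _) (Iso.refl _)).1 ha

/-- Postcomposition with an equivalence over the base keeps `RepByAlgSpWith Q`. -/
theorem repByAlgSpWith_comp_equiv (Q : MorphismProperty (AlgSp.Sp S)) (a : 𝒜 ⥤ᵇ ℬ)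
    (E : ℬ ⥤ᵇ ℬ') (hE : FibCat.IsEquivOver E) (ha : AlgSt.RepByAlgSpWith Q a) :
    AlgSt.RepByAlgSpWith Q (BasedFunctor.comp a E) :=
  (repByAlgSpWith_of_square Q (BasedFunctor.comp a E) a (BasedFunctor.id _) E
    (isEquivOver_id _) hE (Iso.refl _)).2 ha

end Equiv

section Right

variable {S : Scheme.{u}} {𝒰 𝒳 𝒴 𝒵 : AlgSt.Cat S}

/-- The functor `Z ×_Y U ⟶ Z ×_Y X` induced by `x : U ⟶ X`. -/
noncomputable def fpMapRight (g : 𝒵 ⥤ᵇ 𝒴) (x : 𝒰 ⥤ᵇ 𝒳) (f : 𝒳 ⥤ᵇ 𝒴) :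
    FibCat.fp g (BasedFunctor.comp x f) ⥤ᵇ FibCat.fp g f :=
  BasedFunctor.comp (fpSwap g (BasedFunctor.comp x f))
    (BasedFunctor.comp (fpMapLeft x f g) (fpSwap f g))

theorem repByAlgSpWith_fpMapRight (Q : MorphismProperty (AlgSp.Sp S)) (g : 𝒵 ⥤ᵇ 𝒴)
    (x : 𝒰 ⥤ᵇ 𝒳) (f : 𝒳 ⥤ᵇ 𝒴) (hx : AlgSt.RepByAlgSpWith Q x) :
    AlgSt.RepByAlgSpWith Q (fpMapRight g x f) :=
  repByAlgSpWith_equiv_comp Q _ (isEquivOver_fpSwap _ _) _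
    (repByAlgSpWith_comp_equiv Q _ _ (isEquivOver_fpSwap _ _)
      (repByAlgSpWith_fpMapLeft Q x f g hx))

theorem fpMapRight_comp_fpFst (g : 𝒵 ⥤ᵇ 𝒴) (x : 𝒰 ⥤ᵇ 𝒳) (f : 𝒳 ⥤ᵇ 𝒴) :
    BasedFunctor.comp (fpMapRight g x f) (FibCat.fpFst g f) =
      FibCat.fpFst g (BasedFunctor.comp x f) := rfl

end Right

section BC

variable {S : Scheme.{u}} {𝒳 𝒴 𝒴' 𝒰 𝒱 : AlgSt.Cat S}

/-- The comparison `Y' ×_Y (H ≫ y) ⟶ Y' ×_Y (x ≫ f)` given by a 2-isomorphism of a chart square. -/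
noncomputable def bcIsoMap (f : 𝒳 ⥤ᵇ 𝒴) (g : 𝒴' ⥤ᵇ 𝒴) (x : 𝒰 ⥤ᵇ 𝒳) (y : 𝒱 ⥤ᵇ 𝒴) (H : 𝒰 ⥤ᵇ 𝒱)
    (α : BasedFunctor.comp x f ≅ BasedFunctor.comp H y) :
    FibCat.fp g (BasedFunctor.comp H y) ⥤ᵇ FibCat.fp g (BasedFunctor.comp x f) :=
  have := IsEquivOver.isEquivalence (BasedFunctor.id 𝒴) (isEquivOver_id _)
  fpMap g (BasedFunctor.comp x f) g (BasedFunctor.comp H y) (BasedFunctor.id _) (BasedFunctor.id _)
    (BasedFunctor.id _) (Iso.refl _) α.symm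

theorem isEquivOver_bcIsoMap (f : 𝒳 ⥤ᵇ 𝒴) (g : 𝒴' ⥤ᵇ 𝒴) (x : 𝒰 ⥤ᵇ 𝒳) (y : 𝒱 ⥤ᵇ 𝒴)
    (H : 𝒰 ⥤ᵇ 𝒱) (α : BasedFunctor.comp x f ≅ BasedFunctor.comp H y) :
    FibCat.IsEquivOver (bcIsoMap f g x y H α) := by
  have := IsEquivOver.isEquivalence (BasedFunctor.id 𝒴) (isEquivOver_id _)
  exact isEquivOver_fpMap g (BasedFunctor.comp x f) g (BasedFunctor.comp H y) (BasedFunctor.id _)
    (BasedFunctor.id _) (BasedFunctor.id _) (Iso.refl _) α.symm (isEquivOver_id _)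
    (isEquivOver_id _)

/-- The chart `(Y' ×_Y V) ×_V U ⟶ Y' ×_Y X` of the base change of `f` along `g`, built from a
chart square `(x, y, H, α)` of `f`. -/
noncomputable def bcChart (f : 𝒳 ⥤ᵇ 𝒴) (g : 𝒴' ⥤ᵇ 𝒴) (x : 𝒰 ⥤ᵇ 𝒳) (y : 𝒱 ⥤ᵇ 𝒴) (H : 𝒰 ⥤ᵇ 𝒱)
    (α : BasedFunctor.comp x f ≅ BasedFunctor.comp H y) :
    FibCat.fp (FibCat.fpSnd g y) H ⥤ᵇ FibCat.fp g f :=
  BasedFunctor.comp (pasteR g H y)
    (BasedFunctor.comp (bcIsoMap f g x y H α) (fpMapRight g x f))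

theorem repByAlgSpWith_bcChart (Q : MorphismProperty (AlgSp.Sp S)) (f : 𝒳 ⥤ᵇ 𝒴) (g : 𝒴' ⥤ᵇ 𝒴)
    (x : 𝒰 ⥤ᵇ 𝒳) (y : 𝒱 ⥤ᵇ 𝒴) (H : 𝒰 ⥤ᵇ 𝒱)
    (α : BasedFunctor.comp x f ≅ BasedFunctor.comp H y) (hx : AlgSt.RepByAlgSpWith Q x) :
    AlgSt.RepByAlgSpWith Q (bcChart f g x y H α) :=
  repByAlgSpWith_equiv_comp Q _ (isEquivOver_pasteR g H y) _
    (repByAlgSpWith_equiv_comp Q _ (isEquivOver_bcIsoMap f g x y H α) _
      (repByAlgSpWith_fpMapRight Q g x f hx))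

theorem bcChart_comp_fpFst (f : 𝒳 ⥤ᵇ 𝒴) (g : 𝒴' ⥤ᵇ 𝒴) (x : 𝒰 ⥤ᵇ 𝒳) (y : 𝒱 ⥤ᵇ 𝒴)
    (H : 𝒰 ⥤ᵇ 𝒱) (α : BasedFunctor.comp x f ≅ BasedFunctor.comp H y) :
    BasedFunctor.comp (bcChart f g x y H α) (FibCat.fpFst g f) =
      BasedFunctor.comp (FibCat.fpFst (FibCat.fpSnd g y) H) (FibCat.fpFst g y) := rfl

end BC

section Main

variable {S : Scheme.{u}} {𝒳 𝒴 𝒴' : AlgSt.Cat S}

/-- `AlgSt.LocQ P` is stable under base change, for `P` smooth local on source-and-target and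
stable under base change of algebraic spaces. -/
theorem locQ_fpFst (P : MorphismProperty (AlgSp.Sp S)) (hP : AlgSp.IsSmoothLocalST P)
    (hPb : ∀ ⦃X₁ Y₁ X₂ Y₂ : AlgSp.Sp S⦄, AlgSp.IsAlgSpace X₁ → AlgSp.IsAlgSpace Y₁ →
      AlgSp.IsAlgSpace X₂ → AlgSp.IsAlgSpace Y₂ → ∀ (a : X₁ ⟶ Y₁) (b : Y₂ ⟶ Y₁) (a' : X₂ ⟶ Y₂)
      (b' : X₂ ⟶ X₁), IsPullback b' a' a b → P a → P a')
    (h𝒴 : AlgSt.IsAlgStack Scheme.fppfPrecoverage 𝒴)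
    (h𝒴' : AlgSt.IsAlgStack Scheme.fppfPrecoverage 𝒴')
    (f : 𝒳 ⥤ᵇ 𝒴) (g : 𝒴' ⥤ᵇ 𝒴) (hf : AlgSt.LocQ P f) : AlgSt.LocQ P (FibCat.fpFst g f) := by
  obtain ⟨U, V, x, y, h, α, hx₁, hx₂, hy₁, hPh⟩ := space_square_of_locQ P f hf
  have hUalg := isAlgStack_ofSp U
  have hValg := isAlgStack_ofSp V
  have hH : AlgSt.RepByAlgSpWith P (AlgSt.ofSpMap h.hom) := repByAlgSpWith_ofSpMap P hPb U V h hPh
  have hπ : AlgSt.RepByAlgSpWith P (FibCat.fpFst (FibCat.fpSnd g y) (AlgSt.ofSpMap h.hom)) :=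
    repByAlgSpWith_fpFst P (AlgSt.ofSpMap h.hom) (FibCat.fpSnd g y) hH
  have hpre𝒴 := IsStack.isPrestack _ h𝒴.isStack
  have hpreV := IsStack.isPrestack _ hValg.isStack
  have h𝒱' : AlgSt.IsAlgStack Scheme.fppfPrecoverage (FibCat.fp g y) :=
    isAlgStack_fp_of_isPrestack hpre𝒴 h𝒴.diag h𝒴' hValg g y
  have h𝒰' : AlgSt.IsAlgStack Scheme.fppfPrecoverage
      (FibCat.fp (FibCat.fpSnd g y) (AlgSt.ofSpMap h.hom)) :=
    isAlgStack_fp_of_isPrestack hpreV hValg.diag h𝒱' hUalg _ _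
  obtain ⟨U'', V'', x'', y'', h'', α'', hx''₁, hx''₂, hy''₁, hP''⟩ :=
    locQ_of_repByAlgSpWith P hP h𝒰' h𝒱' _ hπ
  have hU'' : FibCat.IsFibGrpd (FibCat.overCat U'').p := (isFibSet_overForget U'').1
  have hV'' : FibCat.IsFibGrpd (FibCat.overCat V'').p := (isFibSet_overForget V'').1
  refine ⟨U'', V'', BasedFunctor.comp x'' (bcChart f g x y (AlgSt.ofSpMap h.hom) α),
    BasedFunctor.comp y'' (FibCat.fpFst g y), h'', ?_, ?_, ?_, ?_, hP''⟩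
  · exact (whiskerRightIso α'' (FibCat.fpFst g y) : _ ≅ _)
  · exact repByAlgSpWith_comp_of_compCond hU'' h𝒰'.isStack.1 _ compCond_smooth x'' _ hx''₁
      (repByAlgSpWith_bcChart _ f g x y _ α hx₁)
  · exact repByAlgSpWith_comp_of_compCond hU'' h𝒰'.isStack.1 _ compCond_isSurjectiveMor x'' _ hx''₂
      (repByAlgSpWith_bcChart _ f g x y _ α hx₂)
  · exact repByAlgSpWith_comp_of_compCond hV'' h𝒱'.isStack.1 _ compCond_smooth y'' _ hy''₁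
      (repByAlgSpWith_fpFst _ y g hy₁)

end Main

end Groth.Agent.Lib.Seat59.LocQBC
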