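-- helper59 (seat 59): descent of flatness of functors between algebraic stacks along flat
-- surjective functors (on the source, and on the base).
import Mathlib
import Groth.Agent.Lib.Seat59LocQBC
import Groth.Agent.Lib.Helper12Flat
import Groth.Agent.S12825

set_option autoImplicit false
set_option backward.isDefEq.respectTransparency false
set_option backward.isDefEq.respectTransparency.types false
open CategoryTheory CategoryTheory.Functor CategoryTheory.Limits Opposite AlgebraicGeometry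

universe u

namespace Groth.Agent.Lib.Seat59.LocQFlat

open Groth.Agent.Lib.Helper17 Groth.Agent.Lib.Helper15PshFib Groth.Agent.Lib.Helper15RepComp
  Groth.Agent.Lib.Helper15RepPsh Groth.Agent.Lib.Helper15DiagBase Groth.Agent.Lib.Helper15DiagRepSp
  Groth.Agent.Lib.Helper15Descent Groth.Agent.Lib.Helper15DiagLft
  Groth.Agent.Lib.Helper15SpMapRep Groth.Agent.Lib.Helper15Atlas
  Groth.Agent.Lib.Helper15PtsComp Groth.Agent.Lib.Helper15PtsTop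
  Groth.Agent.Lib.Helper15FpSwap Groth.Agent.Lib.Helper15LocQEngine
  Groth.Agent.Lib.Helper15LocQSpace Groth.Agent.Lib.Helper15LocQRep
  Groth.Agent.Lib.Helper15GoodComp Groth.Agent.Lib.Helper15LocQProps
  Groth.Agent.Lib.Helper15LocEss Groth.Agent.Lib.Helper15ClosedQc
  Groth.Agent.Lib.Helper15SrcCancel Groth.Agent.Lib.Helper15LocQComp
  Groth.Agent.Lib.Seat59.LocQBC

section Pts

variable {S : Scheme.{u}}

/-- A morphism of schemes over `S` whose slice functor is surjective on points is surjective. -/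
theorem surjective_left_of_isSurjective {W U : Over S} (a : W ⟶ U)
    (h : AlgSt.IsSurjective (AlgSt.overMap a)) : Function.Surjective a.left := by
  intro t
  obtain ⟨p, hp⟩ := h (ptOver U t)
  obtain ⟨w, rfl⟩ := (ptOver_bijective W).2 p
  rw [ptOver_map] at hp
  exact ⟨w, (ptOver_bijective U).1 hp⟩

variable {𝒳 𝒴 : AlgSt.Cat S}

/-- The second projection of a 2-fibre product is surjective when the first factor is. -/
theorem isSurjective_fpSnd (h𝒳 : AlgSt.IsAlgStack Scheme.fppfPrecoverage 𝒳)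
    (h𝒴 : AlgSt.IsAlgStack Scheme.fppfPrecoverage 𝒴) {𝒵 : AlgSt.Cat S}
    (h𝒵 : AlgSt.IsAlgStack Scheme.fppfPrecoverage 𝒵) (f : 𝒳 ⥤ᵇ 𝒴) (g : 𝒵 ⥤ᵇ 𝒴)
    (hf : AlgSt.IsSurjective f) : AlgSt.IsSurjective (FibCat.fpSnd f g) :=
  isSurjective_comp (fpSwap f g) (FibCat.fpFst g f) (isSurjective_of_isEquivOver _
    (isEquivOver_fpSwap f g)) (Groth.Agent.S12825.result h𝒳 h𝒴 h𝒵 f g hf)

/-- In a chart square whose comparison functor to the fibre product is surjective, the morphism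
of schemes is surjective as soon as the functor is surjective on points. -/
theorem surjective_left_of_square (h𝒳 : AlgSt.IsAlgStack Scheme.fppfPrecoverage 𝒳)
    (h𝒴 : AlgSt.IsAlgStack Scheme.fppfPrecoverage 𝒴) (f : 𝒳 ⥤ᵇ 𝒴) (hf : AlgSt.IsSurjective f)
    {U V : Over S} (x : FibCat.overCat U ⥤ᵇ 𝒳) (y : FibCat.overCat V ⥤ᵇ 𝒴) (h : U ⟶ V)
    (α : BasedFunctor.comp x f ≅ BasedFunctor.comp (AlgSt.overMap h) y)
    (hα : AlgSt.RepByAlgSpWith AlgSp.IsSurjectiveMor (FibCat.fpLift x (AlgSt.overMap h) α)) :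
    Function.Surjective h.left := by
  have hpre𝒴 := IsStack.isPrestack _ h𝒴.isStack
  have hV := isAlgStack_overCat V
  have hZ : AlgSt.IsAlgStack Scheme.fppfPrecoverage (FibCat.fp f y) :=
    isAlgStack_fp_of_isPrestack hpre𝒴 h𝒴.diag h𝒳 hV f y
  have h1 : AlgSt.IsSurjective (FibCat.fpLift x (AlgSt.overMap h) α) :=
    (isSurjective_iff_repByAlgSpWith (isAlgStack_overCat U) hZ _
      (repByAlgSp1_of_repByAlgSpWith _ _ hα)).2 hα
  have h2 : AlgSt.IsSurjective (FibCat.fpSnd f y) := isSurjective_fpSnd h𝒳 h𝒴 hV f y hf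
  exact surjective_left_of_isSurjective h
    (isSurjective_comp (FibCat.fpLift x (AlgSt.overMap h) α) (FibCat.fpSnd f y) h1 h2)

end Pts

section Src

variable {S : Scheme.{u}} {𝒳 𝒴 𝒵 : AlgSt.Cat S}

/-- Flatness descends along a flat surjective functor on the source. -/
theorem locQ_flat_of_comp (h𝒳 : AlgSt.IsAlgStack Scheme.fppfPrecoverage 𝒳)
    (h𝒴 : AlgSt.IsAlgStack Scheme.fppfPrecoverage 𝒴)
    (h𝒵 : AlgSt.IsAlgStack Scheme.fppfPrecoverage 𝒵) (f : 𝒳 ⥤ᵇ 𝒴) (g : 𝒴 ⥤ᵇ 𝒵)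
    (hf₁ : AlgSt.LocQ (AlgSp.LocP @Flat) f) (hf₂ : AlgSt.IsSurjective f)
    (hfg : AlgSt.LocQ (AlgSp.LocP @Flat) (BasedFunctor.comp f g)) :
    AlgSt.LocQ (AlgSp.LocP @Flat) g := by
  obtain ⟨U, V, W, x, y, z, h, k, α, β, hx₁, hx₂, hy₁, hy₂, hz₁, hz₂, hα₁, hα₂, hβ₁, hβ₂, hγ⟩ :=
    exists_good_squares h𝒳 h𝒴 h𝒵 f g
  have hPhk : AlgSp.LocP @Flat ((AlgSp.yon S).map (h ≫ k)) :=
    (locQ_iff_forall_good _ isSmoothLocalST_flat h𝒳 h𝒵 (BasedFunctor.comp f g)).1 hfg U W x z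
      (h ≫ k) _ hx₁ hz₁ hγ
  have hPh : AlgSp.LocP @Flat ((AlgSp.yon S).map h) :=
    (locQ_iff_forall_good _ isSmoothLocalST_flat h𝒳 h𝒴 f).1 hf₁ U V x y h α hx₁ hy₁ hα₁
  have h1 : Flat (h.left ≫ k.left) := AlgSp.locP_yon_map hPhk
  have h2 : Flat h.left := AlgSp.locP_yon_map hPh
  have h3 : Surjective h.left := ⟨surjective_left_of_square h𝒳 h𝒴 f hf₂ x y h α hα₂⟩
  have h4 : Flat k.left := Groth.Agent.Lib.Helper12.flat_of_comp_of_flat_of_surjective h.left k.left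
  exact ⟨V, W, y, z, k, β, hy₁, hy₂, hz₁, locP_yon_map_of_flat k h4⟩

end Src

section Inv

variable {S : Scheme.{u}} {𝒳 𝒳' 𝒴 : AlgSt.Cat S}

/-- `LocQ P` is invariant under 2-isomorphism. -/
theorem locQ_of_iso (P : MorphismProperty (AlgSp.Sp S)) {f f' : 𝒳 ⥤ᵇ 𝒴} (e : f ≅ f')
    (hf : AlgSt.LocQ P f) : AlgSt.LocQ P f' := by
  obtain ⟨U, V, x, y, h, α, hx₁, hx₂, hy₁, hP⟩ := hf
  exact ⟨U, V, x, y, h, (whiskerLeftIso x e.symm : BasedFunctor.comp x f' ≅ BasedFunctor.comp x f)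
    ≪≫ α, hx₁, hx₂, hy₁, hP⟩

/-- `LocQ P` is invariant under precomposition with an equivalence over the base. -/
theorem locQ_equiv_comp (P : MorphismProperty (AlgSp.Sp S)) (E : 𝒳' ⥤ᵇ 𝒳)
    (hE : FibCat.IsEquivOver E) (f : 𝒳 ⥤ᵇ 𝒴) (hf : AlgSt.LocQ P f) :
    AlgSt.LocQ P (BasedFunctor.comp E f) := by
  obtain ⟨U, V, x, y, h, α, hx₁, hx₂, hy₁, hP⟩ := hf
  obtain ⟨I, hI, -, ⟨β⟩⟩ := IsEquivOver.exists_inverse_isEquivOver' E hE
  refine ⟨U, V, BasedFunctor.comp x I, y, h, ?_, repByAlgSpWith_comp_equiv _ x I hI hx₁,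
    repByAlgSpWith_comp_equiv _ x I hI hx₂, hy₁, hP⟩
  exact (whiskerRightIso (whiskerLeftIso x β) f : BasedFunctor.comp (BasedFunctor.comp x I)
    (BasedFunctor.comp E f) ≅ BasedFunctor.comp x f) ≪≫ α

end Inv

section Base

variable {S : Scheme.{u}} {𝒳 𝒴 𝒵 : AlgSt.Cat S}

/-- The second projection of a 2-fibre product inherits `LocQ P` from the first factor. -/
theorem locQ_fpSnd (P : MorphismProperty (AlgSp.Sp S)) (hP : AlgSp.IsSmoothLocalST P)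
    (hPb : BCStable P)
    (h𝒴 : AlgSt.IsAlgStack Scheme.fppfPrecoverage 𝒴)
    (h𝒳 : AlgSt.IsAlgStack Scheme.fppfPrecoverage 𝒳)
    (z : 𝒵 ⥤ᵇ 𝒴) (f : 𝒳 ⥤ᵇ 𝒴) (hz : AlgSt.LocQ P z) : AlgSt.LocQ P (FibCat.fpSnd z f) :=
  locQ_equiv_comp P (fpSwap z f) (isEquivOver_fpSwap z f) (FibCat.fpFst f z)
    (locQ_fpFst P hP hPb h𝒴 h𝒳 z f hz)

/-- Flatness descends along a flat surjective functor on the base. -/
theorem locQ_flat_of_fpFst (h𝒳 : AlgSt.IsAlgStack Scheme.fppfPrecoverage 𝒳)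
    (h𝒴 : AlgSt.IsAlgStack Scheme.fppfPrecoverage 𝒴)
    (h𝒵 : AlgSt.IsAlgStack Scheme.fppfPrecoverage 𝒵) (f : 𝒳 ⥤ᵇ 𝒴) (z : 𝒵 ⥤ᵇ 𝒴)
    (hz₁ : AlgSt.LocQ (AlgSp.LocP @Flat) z) (hz₂ : AlgSt.IsSurjective z)
    (hp : AlgSt.LocQ (AlgSp.LocP @Flat) (FibCat.fpFst z f)) :
    AlgSt.LocQ (AlgSp.LocP @Flat) f := by
  have hpre𝒴 := IsStack.isPrestack _ h𝒴.isStack
  have h𝒫 : AlgSt.IsAlgStack Scheme.fppfPrecoverage (FibCat.fp z f) :=
    isAlgStack_fp_of_isPrestack hpre𝒴 h𝒴.diag h𝒵 h𝒳 z f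
  have h1 : AlgSt.LocQ (AlgSp.LocP @Flat) (FibCat.fpSnd z f) :=
    locQ_fpSnd _ isSmoothLocalST_flat bcStable_flat h𝒴 h𝒳 z f hz₁
  have h2 : AlgSt.IsSurjective (FibCat.fpSnd z f) := isSurjective_fpSnd h𝒵 h𝒴 h𝒳 z f hz₂
  have h3 : AlgSt.LocQ (AlgSp.LocP @Flat) (BasedFunctor.comp (FibCat.fpFst z f) z) :=
    locQ_comp _ isSmoothLocalST_flat
      (fun _ _ _ _ hY hZ a b ha hb => locP_flat_comp hY hZ a b ha hb) h𝒫 h𝒵 h𝒴 _ _ hp hz₁
  have h4 : AlgSt.LocQ (AlgSp.LocP @Flat) (BasedFunctor.comp (FibCat.fpSnd z f) f) :=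
    locQ_of_iso _ (FibCat.fpIso z f) h3
  exact locQ_flat_of_comp h𝒫 h𝒳 h𝒴 (FibCat.fpSnd z f) f h1 h2 h4

end Base

end Groth.Agent.Lib.Seat59.LocQFlat
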