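-- helper59 (seat 59): charts of flat, locally finitely presented, surjective functors between
-- algebraic stacks, and descent of quasi-compactness along them.
import Mathlib
import Groth.Agent.Lib.Seat59LocQFlat
import Groth.Agent.Lib.Helper15QcLocal
import Groth.Agent.Lib.Helper17AlgStEquiv2
import Groth.Agent.S10527
import Groth.Agent.S10530

set_option autoImplicit false
set_option backward.isDefEq.respectTransparency false
set_option backward.isDefEq.respectTransparency.types false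
open CategoryTheory CategoryTheory.Functor CategoryTheory.Limits Opposite AlgebraicGeometry

universe u

namespace Groth.Agent.Lib.Seat59.QcDesc

open Groth.Agent.Lib.Helper17 Groth.Agent.Lib.Helper15PshFib Groth.Agent.Lib.Helper15RepComp
  Groth.Agent.Lib.Helper15RepPsh Groth.Agent.Lib.Helper15DiagBase Groth.Agent.Lib.Helper15DiagRepSp
  Groth.Agent.Lib.Helper15Descent Groth.Agent.Lib.Helper15DiagLft
  Groth.Agent.Lib.Helper15DiagDescent
  Groth.Agent.Lib.Helper15SpMapRep Groth.Agent.Lib.Helper15Atlas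
  Groth.Agent.Lib.Helper15PtsComp Groth.Agent.Lib.Helper15PtsTop
  Groth.Agent.Lib.Helper15FpSwap Groth.Agent.Lib.Helper15LocQEngine
  Groth.Agent.Lib.Helper15LocQSpace Groth.Agent.Lib.Helper15LocQRep
  Groth.Agent.Lib.Helper15GoodComp Groth.Agent.Lib.Helper15LocQProps
  Groth.Agent.Lib.Helper15LocEss Groth.Agent.Lib.Helper15ClosedQc
  Groth.Agent.Lib.Helper15SrcCancel Groth.Agent.Lib.Helper15LocQComp
  Groth.Agent.Lib.Helper15UnivComp Groth.Agent.Lib.Helper15QcLocal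
  Groth.Agent.Lib.Seat59.LocQBC Groth.Agent.Lib.Seat59.LocQFlat

section Cover

variable {S : Scheme.{u}} {𝒴 𝒵 : AlgSt.Cat S}

theorem isLocalOnBase_fppf_flat :
    AlgSp.IsLocalOnBase AlgSp.IsFppfCover (AlgSp.LocP (S := S) @Flat) :=
  isLocalOnBase_fppf_of_fpqc _ (Groth.Agent.S10530.result S)

theorem isLocalOnBase_fppf_lfp :
    AlgSp.IsLocalOnBase AlgSp.IsFppfCover (AlgSp.LocP (S := S) @LocallyOfFinitePresentation) :=
  isLocalOnBase_fppf_of_fpqc _ (Groth.Agent.S10527.result S)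

/-- A flat, locally finitely presented, surjective functor of algebraic stacks admits a scheme
chart of its source whose composite to the target is representable by algebraic spaces, flat,
locally of finite presentation and surjective. -/
theorem exists_fppf_chart (h𝒵 : AlgSt.IsAlgStack Scheme.fppfPrecoverage 𝒵)
    (h𝒴 : AlgSt.IsAlgStack Scheme.fppfPrecoverage 𝒴) (z : 𝒵 ⥤ᵇ 𝒴)
    (hz₁ : AlgSt.LocQ (AlgSp.LocP @Flat) z)
    (hz₂ : AlgSt.LocQ (AlgSp.LocP @LocallyOfFinitePresentation) z)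
    (hz₃ : AlgSt.IsSurjective z) :
    ∃ (V : Over S) (v : FibCat.overCat V ⥤ᵇ 𝒵),
      AlgSt.RepByAlgSpWith (AlgSp.LocP @Smooth) v ∧
      AlgSt.RepByAlgSpWith AlgSp.IsSurjectiveMor v ∧
      AlgSt.RepByAlgSpWith (AlgSp.LocP @Flat) (BasedFunctor.comp v z) ∧
      AlgSt.RepByAlgSpWith (AlgSp.LocP @LocallyOfFinitePresentation) (BasedFunctor.comp v z) ∧
      AlgSt.RepByAlgSpWith AlgSp.IsSurjectiveMor (BasedFunctor.comp v z) := by
  obtain ⟨V, v, hv₁, hv₂⟩ := h𝒵.atlas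
  have hV := isAlgStack_overCat V
  have hrep : AlgSt.RepByAlgSp1 (BasedFunctor.comp v z) :=
    repByAlgSp1_of_repByAlgSp1_diag h𝒴.diag V _
  have hvfl : AlgSt.LocQ (AlgSp.LocP @Flat) v :=
    locQ_of_repByAlgSpWith _ isSmoothLocalST_flat hV h𝒵 v (flat_of_smooth hv₁)
  have hvfp : AlgSt.LocQ (AlgSp.LocP @LocallyOfFinitePresentation) v :=
    locQ_of_repByAlgSpWith _ isSmoothLocalST_lfp hV h𝒵 v (lfp_of_smooth hv₁)
  have hcfl : AlgSt.LocQ (AlgSp.LocP @Flat) (BasedFunctor.comp v z) :=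
    locQ_comp _ isSmoothLocalST_flat
      (fun _ _ _ _ hY hZ a b ha hb => locP_flat_comp hY hZ a b ha hb) hV h𝒵 h𝒴 v z hvfl hz₁
  have hcfp : AlgSt.LocQ (AlgSp.LocP @LocallyOfFinitePresentation) (BasedFunctor.comp v z) :=
    locQ_comp _ isSmoothLocalST_lfp
      (fun _ _ _ _ hY hZ a b ha hb => locP_lfp_comp hY hZ a b ha hb) hV h𝒵 h𝒴 v z hvfp hz₂
  have hvs : AlgSt.IsSurjective v :=
    (isSurjective_iff_repByAlgSpWith hV h𝒵 v (repByAlgSp1_of_repByAlgSpWith _ _ hv₂)).2 hv₂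
  refine ⟨V, v, hv₁, hv₂,
    repByAlgSpWith_of_locQ _ isSmoothLocalST_flat bcStable_flat isLocalOnBase_fppf_flat hV h𝒴 _
      hrep hcfl,
    repByAlgSpWith_of_locQ _ isSmoothLocalST_lfp bcStable_lfp isLocalOnBase_fppf_lfp hV h𝒴 _
      hrep hcfp,
    (isSurjective_iff_repByAlgSpWith hV h𝒴 _ hrep).1 (isSurjective_comp v z hvs hz₃)⟩

end Cover

section Qc

variable {S : Scheme.{u}} {𝒳 𝒴 𝒵 : AlgSt.Cat S}

/-- Quasi-compactness of a functor of algebraic stacks descends along a flat, locally finitely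
presented, surjective functor of algebraic stacks. -/
theorem isQuasiCompactMor_of_fpFst (h𝒳 : AlgSt.IsAlgStack Scheme.fppfPrecoverage 𝒳)
    (h𝒴 : AlgSt.IsAlgStack Scheme.fppfPrecoverage 𝒴)
    (h𝒵 : AlgSt.IsAlgStack Scheme.fppfPrecoverage 𝒵) (f : 𝒳 ⥤ᵇ 𝒴) (z : 𝒵 ⥤ᵇ 𝒴)
    (hz₁ : AlgSt.LocQ (AlgSp.LocP @Flat) z)
    (hz₂ : AlgSt.LocQ (AlgSp.LocP @LocallyOfFinitePresentation) z)
    (hz₃ : AlgSt.IsSurjective z)
    (hq : AlgSt.IsQuasiCompactMor Scheme.fppfPrecoverage (FibCat.fpFst z f)) :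
    AlgSt.IsQuasiCompactMor Scheme.fppfPrecoverage f := by
  obtain ⟨V, v, -, -, hc₁, hc₂, hc₃⟩ := exists_fppf_chart h𝒵 h𝒴 z hz₁ hz₂ hz₃
  let W : AlgSp.Space S := ⟨(AlgSp.yon S).obj V, AlgSp.IsAlgSpace.yon_obj V⟩
  let e : AlgSt.ofSp W.obj ⥤ᵇ 𝒵 := BasedFunctor.comp (AlgSt.toOverCat V) v
  let w : AlgSt.ofSp W.obj ⥤ᵇ 𝒴 := BasedFunctor.comp e z
  have hw₁ : AlgSt.RepByAlgSpWith (AlgSp.LocP @Flat) w :=
    repByAlgSpWith_equiv_comp _ (AlgSt.toOverCat V) (isEquivOver_toOverCat V) _ hc₁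
  have hw₂ : AlgSt.RepByAlgSpWith (AlgSp.LocP @LocallyOfFinitePresentation) w :=
    repByAlgSpWith_equiv_comp _ (AlgSt.toOverCat V) (isEquivOver_toOverCat V) _ hc₂
  have hw₃ : AlgSt.RepByAlgSpWith AlgSp.IsSurjectiveMor w :=
    repByAlgSpWith_equiv_comp _ (AlgSt.toOverCat V) (isEquivOver_toOverCat V) _ hc₃
  refine isQuasiCompactMor_of_fpFst_cover h𝒳 h𝒴 f W w hw₁ hw₂ hw₃ ?_
  intro 𝒯 h𝒯 hqc t
  have h1 : AlgSt.IsQuasiCompact (FibCat.fp (BasedFunctor.comp t e) (FibCat.fpFst z f)) :=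
    hq 𝒯 h𝒯 hqc (BasedFunctor.comp t e)
  have h2 : AlgSt.IsQuasiCompact (FibCat.fp (BasedFunctor.comp (BasedFunctor.comp t e) z) f) :=
    Groth.Agent.Lib.Helper17.isQuasiCompact_of_isEquivOver _
      (isEquivOver_pasteL f z (BasedFunctor.comp t e)) h1
  exact Groth.Agent.Lib.Helper17.isQuasiCompact_of_isEquivOver' (pasteL f w t)
    (isEquivOver_pasteL f w t) h2

end Qc

end Groth.Agent.Lib.Seat59.QcDesc
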