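-- helper59 (seat 59): fppf descent of `RepByAlgSpWith P` along flat, locally finitely presented,
-- surjective functors of algebraic stacks.
import Mathlib
import Groth.Agent.Lib.Seat59QcDesc

set_option autoImplicit false
set_option backward.isDefEq.respectTransparency false
set_option backward.isDefEq.respectTransparency.types false
open CategoryTheory CategoryTheory.Functor CategoryTheory.Limits Opposite AlgebraicGeometry

universe u

namespace Groth.Agent.Lib.Seat59.RepDesc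

open Groth.Agent.Lib.Helper17 Groth.Agent.Lib.Helper15PshFib Groth.Agent.Lib.Helper15RepComp
  Groth.Agent.Lib.Helper15RepPsh Groth.Agent.Lib.Helper15DiagBase Groth.Agent.Lib.Helper15DiagRepSp
  Groth.Agent.Lib.Helper15Descent Groth.Agent.Lib.Helper15DiagLft
  Groth.Agent.Lib.Helper15DiagDescent
  Groth.Agent.Lib.Helper15SpMapRep Groth.Agent.Lib.Helper15Atlas
  Groth.Agent.Lib.Helper15PtsComp Groth.Agent.Lib.Helper15PtsTop
  Groth.Agent.Lib.Helper15FpSwap Groth.Agent.Lib.Helper15LocQEngine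
  Groth.Agent.Lib.Helper15LocQSpace Groth.Agent.Lib.Helper15LocQRep
  Groth.Agent.Lib.Helper15GoodComp Groth.Agent.Lib.Helper15LocQProps
  Groth.Agent.Lib.Helper15LocEss Groth.Agent.Lib.Helper15ClosedQc
  Groth.Agent.Lib.Helper15SrcCancel Groth.Agent.Lib.Helper15LocQComp
  Groth.Agent.Lib.Seat59.LocQBC Groth.Agent.Lib.Seat59.LocQFlat Groth.Agent.Lib.Seat59.QcDesc

variable {S : Scheme.{u}} {𝒳 𝒴 𝒵 : AlgSt.Cat S}

/-- Descent of `RepByAlgSpWith P` along a functor from a scheme which is representable, flat,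
locally of finite presentation and surjective after composing with `z`. -/
theorem repByAlgSpWith_of_fpFst_chart (P : MorphismProperty (AlgSp.Sp S))
    (hP₂ : AlgSp.IsLocalOnBase AlgSp.IsFppfCover P)
    (h𝒴 : AlgSt.IsAlgStack Scheme.fppfPrecoverage 𝒴)
    (f : 𝒳 ⥤ᵇ 𝒴) (hf : AlgSt.RepByAlgSp1 f) (z : 𝒵 ⥤ᵇ 𝒴)
    {V : Over S} (v : FibCat.overCat V ⥤ᵇ 𝒵)
    (hc₁ : AlgSt.RepByAlgSpWith (AlgSp.LocP @Flat) (BasedFunctor.comp v z))
    (hc₂ : AlgSt.RepByAlgSpWith (AlgSp.LocP @LocallyOfFinitePresentation) (BasedFunctor.comp v z))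
    (hc₃ : AlgSt.RepByAlgSpWith AlgSp.IsSurjectiveMor (BasedFunctor.comp v z))
    (h : AlgSt.RepByAlgSpWith P (FibCat.fpFst z f)) : AlgSt.RepByAlgSpWith P f := by
  intro T t
  obtain ⟨F, e, he⟩ := hf T t
  refine ⟨F, e, he, ?_⟩
  obtain ⟨W, h₁, h₂, hfl, hfp, ⟨κ⟩, hsurj, -⟩ :=
    exists_scheme_square h𝒴.isStack.1 t (BasedFunctor.comp v z) hc₁ hc₂
  have hs := hsurj hc₃
  let y' : FibCat.overCat W ⥤ᵇ 𝒴 := BasedFunctor.comp (AlgSt.overMap h₁) t
  let d : FibCat.overCat W ⥤ᵇ 𝒵 := BasedFunctor.comp (AlgSt.overMap h₂) v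
  have iY := IsEquivOver.isEquivalence (BasedFunctor.id 𝒴) (isEquivOver_id _)
  let M : FibCat.fp (BasedFunctor.comp d z) f ⥤ᵇ FibCat.fp y' f :=
    fpMap y' f (BasedFunctor.comp d z) f (BasedFunctor.id _) (BasedFunctor.id _)
      (BasedFunctor.id _) κ.symm (Iso.refl _)
  have hM : FibCat.IsEquivOver M :=
    isEquivOver_fpMap y' f (BasedFunctor.comp d z) f (BasedFunctor.id _) (BasedFunctor.id _)
      (BasedFunctor.id _) κ.symm (Iso.refl _) (isEquivOver_id _) (isEquivOver_id _)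
  let E : FibCat.fp d (FibCat.fpFst z f) ⥤ᵇ FibCat.fp y' f := BasedFunctor.comp (pasteL f z d) M
  have hE : FibCat.IsEquivOver E := IsEquivOver.comp _ _ (isEquivOver_pasteL f z d) hM
  obtain ⟨F', e', he', hP'⟩ := repWith_transfer (FibCat.fpFst d (FibCat.fpFst z f))
    (FibCat.fpFst y' f) E hE (Iso.refl _) P (h W d)
  exact prop_of_baseChange_family P hP₂ f t F e he (fun _ : PUnit.{u + 1} => W) (fun _ => h₁)
    (isFppfCover_of_schemes _ _ (fun _ => hfl) (fun _ => hfp) (fun x => ⟨PUnit.unit, hs x⟩))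
    (fun _ => y') (fun _ => Iso.refl _) (fun _ => F') (fun _ => e') (fun _ => he') (fun _ => hP')

/-- Descent of `RepByAlgSpWith P` along a flat, locally finitely presented, surjective functor of
algebraic stacks. -/
theorem repByAlgSpWith_iff_fpFst (P : MorphismProperty (AlgSp.Sp S))
    (hP₂ : AlgSp.IsLocalOnBase AlgSp.IsFppfCover P)
    (h𝒴 : AlgSt.IsAlgStack Scheme.fppfPrecoverage 𝒴)
    (h𝒵 : AlgSt.IsAlgStack Scheme.fppfPrecoverage 𝒵)
    (f : 𝒳 ⥤ᵇ 𝒴) (hf : AlgSt.RepByAlgSp1 f) (z : 𝒵 ⥤ᵇ 𝒴)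
    (hz₁ : AlgSt.LocQ (AlgSp.LocP @Flat) z)
    (hz₂ : AlgSt.LocQ (AlgSp.LocP @LocallyOfFinitePresentation) z)
    (hz₃ : AlgSt.IsSurjective z) :
    AlgSt.RepByAlgSpWith P f ↔ AlgSt.RepByAlgSpWith P (FibCat.fpFst z f) := by
  constructor
  · exact repByAlgSpWith_fpFst P f z
  · intro h
    obtain ⟨V, v, -, -, hc₁, hc₂, hc₃⟩ := exists_fppf_chart h𝒵 h𝒴 z hz₁ hz₂ hz₃
    exact repByAlgSpWith_of_fpFst_chart P hP₂ h𝒴 f hf z v hc₁ hc₂ hc₃ h

end Groth.Agent.Lib.Seat59.RepDesc
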