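-- helper59 (seat 59): smooth base change / smooth precomposition for `AlgSt.LocQ`, and fppf
-- descent of `AlgSt.LocQ P` on the base.
import Mathlib
import Groth.Agent.Lib.Seat59RepDesc

set_option autoImplicit false
set_option backward.isDefEq.respectTransparency false
set_option backward.isDefEq.respectTransparency.types false
open CategoryTheory CategoryTheory.Functor CategoryTheory.Limits Opposite AlgebraicGeometry

universe u

namespace Groth.Agent.Lib.Seat59.LocQDesc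

open Groth.Agent.Lib.Helper17 Groth.Agent.Lib.Helper15PshFib Groth.Agent.Lib.Helper15RepComp
  Groth.Agent.Lib.Helper15RepPsh Groth.Agent.Lib.Helper15DiagBase Groth.Agent.Lib.Helper15DiagRepSp
  Groth.Agent.Lib.Helper15Descent Groth.Agent.Lib.Helper15DiagLft
  Groth.Agent.Lib.Helper15DiagDescent
  Groth.Agent.Lib.Helper15SpMapRep Groth.Agent.Lib.Helper15Atlas
  Groth.Agent.Lib.Helper15PtsComp Groth.Agent.Lib.Helper15PtsTop
  Groth.Agent.Lib.Helper15FpSwap Groth.Agent.Lib.Helper15LocQEngine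
  Groth.Agent.Lib.Helper15LocQSpace Groth.Agent.Lib.Helper15LocQRep
  Groth.Agent.Lib.Helper15GoodComp Groth.Agent.Lib.Helper15LocQProps
  Groth.Agent.Lib.Helper15LocEss Groth.Agent.Lib.Helper15ClosedQc
  Groth.Agent.Lib.Helper15SrcCancel Groth.Agent.Lib.Helper15LocQComp
  Groth.Agent.Lib.Helper15SmLoc
  Groth.Agent.Lib.Seat59.LocQBC Groth.Agent.Lib.Seat59.LocQFlat Groth.Agent.Lib.Seat59.QcDesc
  Groth.Agent.Lib.Seat59.RepDesc

section Eta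

variable {S : Scheme.{u}} {𝒳 𝒴 𝒮 𝒲 : AlgSt.Cat S}

/-- A functor into a 2-fibre product is the lift of its components. -/
noncomputable def fpLiftEta (F : 𝒳 ⥤ᵇ 𝒮) (G : 𝒴 ⥤ᵇ 𝒮) (L : 𝒲 ⥤ᵇ FibCat.fp F G) :
    FibCat.fpLift (BasedFunctor.comp L (FibCat.fpFst F G)) (BasedFunctor.comp L (FibCat.fpSnd F G))
      (whiskerLeftIso L (FibCat.fpIso F G)) ≅ L :=
  fpIsoMk F G
    (H := FibCat.fpLift (BasedFunctor.comp L (FibCat.fpFst F G))
      (BasedFunctor.comp L (FibCat.fpSnd F G)) (whiskerLeftIso L (FibCat.fpIso F G)))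
    (K := L) (Iso.refl _) (Iso.refl _)
    (fun a => by
      change F.map (𝟙 _) ≫ (L.obj a).obj.iso.hom = (L.obj a).obj.iso.hom ≫ G.map (𝟙 _)
      rw [F.toFunctor.map_id, G.toFunctor.map_id, Category.id_comp, Category.comp_id])

end Eta

section Smooth

variable {S : Scheme.{u}} {𝒜 ℬ 𝒳 𝒴 : AlgSt.Cat S}

/-- `LocQ P` is stable under precomposition with a smooth functor of algebraic stacks. -/
theorem locQ_smooth_comp (P : MorphismProperty (AlgSp.Sp S)) (hP : AlgSp.IsSmoothLocalST P)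
    (h𝒜 : AlgSt.IsAlgStack Scheme.fppfPrecoverage 𝒜)
    (h𝒳 : AlgSt.IsAlgStack Scheme.fppfPrecoverage 𝒳)
    (h𝒴 : AlgSt.IsAlgStack Scheme.fppfPrecoverage 𝒴)
    (Λ : 𝒜 ⥤ᵇ 𝒳) (hΛ : AlgSt.RepByAlgSpWith (AlgSp.LocP @Smooth) Λ) (f : 𝒳 ⥤ᵇ 𝒴)
    (hf : AlgSt.LocQ P f) : AlgSt.LocQ P (BasedFunctor.comp Λ f) := by
  obtain ⟨V₂, y₂, hy₂₁, hy₂₂⟩ := h𝒴.atlas
  obtain ⟨U₂, x₂, h₂, α₂, hα₂₁, -, hx₂₁, hx₂₂⟩ :=
    exists_good_square_over h𝒜 h𝒴 (BasedFunctor.comp Λ f) y₂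
  have hU₂ : FibCat.IsFibGrpd (FibCat.overCat U₂).p := (isFibSet_overForget U₂).1
  have hV₂ : FibCat.IsFibGrpd (FibCat.overCat V₂).p := (isFibSet_overForget V₂).1
  have hfp : FibCat.IsFibGrpd (FibCat.fp (BasedFunctor.comp Λ f) y₂).p :=
    isFibGrpd_fp _ y₂ h𝒜.isStack.1 hV₂ h𝒴.isStack.1
  let L₂ : FibCat.overCat U₂ ⥤ᵇ FibCat.fp f y₂ :=
    BasedFunctor.comp (FibCat.fpLift x₂ (AlgSt.overMap h₂) α₂) (fpMapLeft Λ f y₂)
  have hL₂ : AlgSt.RepByAlgSpWith (AlgSp.LocP @Smooth) L₂ :=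
    repByAlgSpWith_comp_of_compCond hU₂ hfp _ compCond_smooth _ _ hα₂₁
      (repByAlgSpWith_fpMapLeft _ Λ f y₂ hΛ)
  have hgood : AlgSt.RepByAlgSpWith (AlgSp.LocP @Smooth)
      (FibCat.fpLift (BasedFunctor.comp x₂ Λ) (AlgSt.overMap h₂)
        (whiskerLeftIso L₂ (FibCat.fpIso f y₂))) :=
    repByAlgSpWith_of_iso _ (fpLiftEta f y₂ L₂).symm hL₂
  have hPh : P ((AlgSp.yon S).map h₂) :=
    (locQ_iff_forall_good P hP h𝒳 h𝒴 f).1 hf U₂ V₂ (BasedFunctor.comp x₂ Λ) y₂ h₂ _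
      (repByAlgSpWith_comp_of_compCond hU₂ h𝒜.isStack.1 _ compCond_smooth x₂ Λ (hx₂₁ hy₂₁) hΛ)
      hy₂₁ hgood
  exact ⟨U₂, V₂, x₂, y₂, h₂, α₂, hx₂₁ hy₂₁, hx₂₂ hy₂₂, hy₂₁, hPh⟩

/-- `LocQ P` is stable under base change along a smooth functor of algebraic stacks. -/
theorem locQ_smooth_baseChange (P : MorphismProperty (AlgSp.Sp S)) (hP : AlgSp.IsSmoothLocalST P)
    (hℬ : AlgSt.IsAlgStack Scheme.fppfPrecoverage ℬ)
    (h𝒳 : AlgSt.IsAlgStack Scheme.fppfPrecoverage 𝒳)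
    (h𝒴 : AlgSt.IsAlgStack Scheme.fppfPrecoverage 𝒴)
    (b : ℬ ⥤ᵇ 𝒴) (hb : AlgSt.RepByAlgSpWith (AlgSp.LocP @Smooth) b) (f : 𝒳 ⥤ᵇ 𝒴)
    (hf : AlgSt.LocQ P f) : AlgSt.LocQ P (FibCat.fpFst b f) := by
  have hpre𝒴 := IsStack.isPrestack _ h𝒴.isStack
  have h𝒫 : AlgSt.IsAlgStack Scheme.fppfPrecoverage (FibCat.fp b f) :=
    isAlgStack_fp_of_isPrestack hpre𝒴 h𝒴.diag hℬ h𝒳 b f
  obtain ⟨V₂, y₂, hy₂₁, hy₂₂⟩ := hℬ.atlas
  obtain ⟨U₂, x₂, h₂, α₂, hα₂₁, -, hx₂₁, hx₂₂⟩ :=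
    exists_good_square_over h𝒫 hℬ (FibCat.fpFst b f) y₂
  have hU₂ : FibCat.IsFibGrpd (FibCat.overCat U₂).p := (isFibSet_overForget U₂).1
  have hV₂ : FibCat.IsFibGrpd (FibCat.overCat V₂).p := (isFibSet_overForget V₂).1
  let E : FibCat.fp (FibCat.fpFst b f) y₂ ⥤ᵇ FibCat.fp f (BasedFunctor.comp y₂ b) :=
    BasedFunctor.comp (fpSwap (FibCat.fpFst b f) y₂)
      (BasedFunctor.comp (pasteL f b y₂) (fpSwap (BasedFunctor.comp y₂ b) f))
  have hE : FibCat.IsEquivOver E :=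
    IsEquivOver.comp _ _ (isEquivOver_fpSwap _ _)
      (IsEquivOver.comp _ _ (isEquivOver_pasteL f b y₂) (isEquivOver_fpSwap _ _))
  let L₂ : FibCat.overCat U₂ ⥤ᵇ FibCat.fp f (BasedFunctor.comp y₂ b) :=
    BasedFunctor.comp (FibCat.fpLift x₂ (AlgSt.overMap h₂) α₂) E
  have hL₂ : AlgSt.RepByAlgSpWith (AlgSp.LocP @Smooth) L₂ :=
    repByAlgSpWith_comp_equiv _ _ E hE hα₂₁
  have hgood : AlgSt.RepByAlgSpWith (AlgSp.LocP @Smooth)
      (FibCat.fpLift (F := f) (G := BasedFunctor.comp y₂ b)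
        (BasedFunctor.comp x₂ (FibCat.fpSnd b f)) (AlgSt.overMap h₂)
        (whiskerLeftIso L₂ (FibCat.fpIso f (BasedFunctor.comp y₂ b)) :
          BasedFunctor.comp (BasedFunctor.comp x₂ (FibCat.fpSnd b f)) f ≅
            BasedFunctor.comp (AlgSt.overMap h₂) (BasedFunctor.comp y₂ b))) :=
    repByAlgSpWith_of_iso _ (fpLiftEta f (BasedFunctor.comp y₂ b) L₂).symm hL₂
  have hPh : P ((AlgSp.yon S).map h₂) :=
    (locQ_iff_forall_good P hP h𝒳 h𝒴 f).1 hf U₂ V₂ (BasedFunctor.comp x₂ (FibCat.fpSnd b f))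
      (BasedFunctor.comp y₂ b) h₂ _
      (repByAlgSpWith_comp_of_compCond hU₂ h𝒫.isStack.1 _ compCond_smooth x₂ _ (hx₂₁ hy₂₁)
        (repByAlgSpWith_fpSnd _ b f hb))
      (repByAlgSpWith_comp_of_compCond hV₂ hℬ.isStack.1 _ compCond_smooth y₂ b hy₂₁ hb) hgood
  exact ⟨U₂, V₂, x₂, y₂, h₂, α₂, hx₂₁ hy₂₁, hx₂₂ hy₂₂, hy₂₁, hPh⟩

end Smooth

section Slice

variable {S : Scheme.{u}} {𝒜 ℬ : AlgSt.Cat S}

/-- A section (up to 2-isomorphism) of an equivalence over the base is an equivalence. -/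
theorem isEquivOver_of_section (s : 𝒜 ⥤ᵇ ℬ) (E : ℬ ⥤ᵇ 𝒜) (hE : FibCat.IsEquivOver E)
    (i : BasedFunctor.comp s E ≅ BasedFunctor.id 𝒜) : FibCat.IsEquivOver s := by
  obtain ⟨I, -, ⟨β₁⟩, -⟩ := IsEquivOver.exists_inverse_isEquivOver' E hE
  refine ⟨E, ⟨i⟩, ⟨?_⟩⟩
  exact (whiskerLeftIso (BasedFunctor.comp E s) β₁.symm :
      BasedFunctor.comp E s ≅ BasedFunctor.comp (BasedFunctor.comp E s) (BasedFunctor.comp E I)) ≪≫
    (whiskerLeftIso E (whiskerRightIso i I) :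
      BasedFunctor.comp E (BasedFunctor.comp (BasedFunctor.comp s E) I) ≅
        BasedFunctor.comp E (BasedFunctor.comp (BasedFunctor.id 𝒜) I)) ≪≫ β₁

/-- For a morphism of schemes `h`, the chart-square property of its slice functor is the
property of `h`. -/
theorem prop_of_locQ_overMap (P : MorphismProperty (AlgSp.Sp S)) (hP : AlgSp.IsSmoothLocalST P)
    {U V : Over S} (h : U ⟶ V) (hL : AlgSt.LocQ P (AlgSt.overMap h)) :
    P ((AlgSp.yon S).map h) := by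
  have hU := isAlgStack_overCat U
  have hV := isAlgStack_overCat V
  let s : FibCat.overCat U ⥤ᵇ FibCat.fp (AlgSt.overMap h) (BasedFunctor.id (FibCat.overCat V)) :=
    FibCat.fpLift (BasedFunctor.id (FibCat.overCat U)) (AlgSt.overMap h)
      (Iso.refl (AlgSt.overMap h))
  have hs : FibCat.IsEquivOver s :=
    isEquivOver_of_section s (FibCat.fpFst (AlgSt.overMap h) (BasedFunctor.id _))
      (isEquivOver_fpFst (AlgSt.overMap h) (BasedFunctor.id _) (isEquivOver_id _)) (Iso.refl _)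
  have hid : ∀ T : Over S, AlgSt.RepByAlgSpWith (AlgSp.LocP @Smooth)
      (BasedFunctor.id (FibCat.overCat T)) := fun T =>
    Groth.Agent.Lib.Helper15EquivRep.repByAlgSpWith_of_isEquivOver _ locP_smooth_id
      (BasedFunctor.id _) (isEquivOver_id _)
  exact (locQ_iff_forall_good P hP hU hV (AlgSt.overMap h)).1 hL U V (BasedFunctor.id _)
    (BasedFunctor.id _) h (Iso.refl (AlgSt.overMap h)) (hid U) (hid V)
    (Groth.Agent.Lib.Helper15EquivRep.repByAlgSpWith_of_isEquivOver _ locP_smooth_id s hs)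

end Slice

section Single

variable {S : Scheme.{u}} {𝒳 𝒴 𝒵 : AlgSt.Cat S}

/-- Descent of `P` for the representing space of one chart, along one flat, locally finitely
presented, surjective morphism of schemes over which the chart factors through `z`. -/
theorem prop_of_fppf_chart (P : MorphismProperty (AlgSp.Sp S))
    (hP₂ : AlgSp.IsLocalOnBase AlgSp.IsFppfCover P) (f : 𝒳 ⥤ᵇ 𝒴) (z : 𝒵 ⥤ᵇ 𝒴)
    {T : Over S} (t : FibCat.overCat T ⥤ᵇ 𝒴) (F : AlgSp.Space S)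
    (e : AlgSt.ofSp F.obj ⥤ᵇ FibCat.fp t f) (he : FibCat.IsEquivOver e)
    {W : Over S} (w : W ⟶ T) (hfl : Flat w.left) (hfp : LocallyOfFinitePresentation w.left)
    (hs : Function.Surjective w.left) (d : FibCat.overCat W ⥤ᵇ 𝒵)
    (κ : BasedFunctor.comp (AlgSt.overMap w) t ≅ BasedFunctor.comp d z)
    (h : ∃ (F' : AlgSp.Space S) (e' : AlgSt.ofSp F'.obj ⥤ᵇ FibCat.fp d (FibCat.fpFst z f)),
      FibCat.IsEquivOver e' ∧
        P (AlgSt.spMapOfOver (BasedFunctor.comp e' (FibCat.fpFst d (FibCat.fpFst z f))))) :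
    P (AlgSt.spMapOfOver (BasedFunctor.comp e (FibCat.fpFst t f))) := by
  let y' : FibCat.overCat W ⥤ᵇ 𝒴 := BasedFunctor.comp (AlgSt.overMap w) t
  have iY := IsEquivOver.isEquivalence (BasedFunctor.id 𝒴) (isEquivOver_id _)
  let M : FibCat.fp (BasedFunctor.comp d z) f ⥤ᵇ FibCat.fp y' f :=
    fpMap y' f (BasedFunctor.comp d z) f (BasedFunctor.id _) (BasedFunctor.id _)
      (BasedFunctor.id _) κ.symm (Iso.refl _)
  have hM : FibCat.IsEquivOver M :=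
    isEquivOver_fpMap y' f (BasedFunctor.comp d z) f (BasedFunctor.id _) (BasedFunctor.id _)
      (BasedFunctor.id _) κ.symm (Iso.refl _) (isEquivOver_id _) (isEquivOver_id _)
  let E : FibCat.fp d (FibCat.fpFst z f) ⥤ᵇ FibCat.fp y' f := BasedFunctor.comp (pasteL f z d) M
  have hE : FibCat.IsEquivOver E := IsEquivOver.comp _ _ (isEquivOver_pasteL f z d) hM
  obtain ⟨F', e', he', hP'⟩ := repWith_transfer (FibCat.fpFst d (FibCat.fpFst z f))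
    (FibCat.fpFst y' f) E hE (Iso.refl _) P h
  exact prop_of_baseChange_family P hP₂ f t F e he (fun _ : PUnit.{u + 1} => W) (fun _ => w)
    (isFppfCover_of_schemes _ _ (fun _ => hfl) (fun _ => hfp) (fun x => ⟨PUnit.unit, hs x⟩))
    (fun _ => y') (fun _ => Iso.refl _) (fun _ => F') (fun _ => e') (fun _ => he') (fun _ => hP')

end Single

section Rep

variable {S : Scheme.{u}} {𝒳 𝒴 𝒵 : AlgSt.Cat S}

/-- A smooth scheme chart of `𝒵 ×_𝒴 V` whose projection to `V` is flat, locally of finite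
presentation and surjective, for a flat, locally finitely presented, surjective `z`. -/
theorem exists_fppf_cover_chart (h𝒴 : AlgSt.IsAlgStack Scheme.fppfPrecoverage 𝒴)
    (h𝒵 : AlgSt.IsAlgStack Scheme.fppfPrecoverage 𝒵) (z : 𝒵 ⥤ᵇ 𝒴)
    (hz₁ : AlgSt.LocQ (AlgSp.LocP @Flat) z)
    (hz₂ : AlgSt.LocQ (AlgSp.LocP @LocallyOfFinitePresentation) z)
    (hz₃ : AlgSt.IsSurjective z) {V : Over S} (y : FibCat.overCat V ⥤ᵇ 𝒴)
    (hy : AlgSt.RepByAlgSpWith (AlgSp.LocP @Smooth) y) :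
    ∃ (W : Over S) (w : W ⟶ V) (d : FibCat.overCat W ⥤ᵇ 𝒵)
      (_ : BasedFunctor.comp (AlgSt.overMap w) y ≅ BasedFunctor.comp d z),
      Flat w.left ∧ LocallyOfFinitePresentation w.left ∧ Function.Surjective w.left ∧
        AlgSt.RepByAlgSpWith (AlgSp.LocP @Smooth) d := by
  have hpre𝒴 := IsStack.isPrestack _ h𝒴.isStack
  have hV := isAlgStack_overCat V
  have hℬ : AlgSt.IsAlgStack Scheme.fppfPrecoverage (FibCat.fp z y) :=
    isAlgStack_fp_of_isPrestack hpre𝒴 h𝒴.diag h𝒵 hV z y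
  obtain ⟨W, ω, hω₁, hω₂⟩ := hℬ.atlas
  have hW := isAlgStack_overCat W
  have hWg : FibCat.IsFibGrpd (FibCat.overCat W).p := (isFibSet_overForget W).1
  obtain ⟨w, ⟨lam⟩⟩ := exists_iso_overMap (BasedFunctor.comp ω (FibCat.fpSnd z y))
  have hkfl : AlgSt.LocQ (AlgSp.LocP @Flat) (FibCat.fpSnd z y) :=
    locQ_fpSnd _ isSmoothLocalST_flat bcStable_flat h𝒴 hV z y hz₁
  have hkfp : AlgSt.LocQ (AlgSp.LocP @LocallyOfFinitePresentation) (FibCat.fpSnd z y) :=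
    locQ_fpSnd _ isSmoothLocalST_lfp bcStable_lfp h𝒴 hV z y hz₂
  have hks : AlgSt.IsSurjective (FibCat.fpSnd z y) := isSurjective_fpSnd h𝒵 h𝒴 hV z y hz₃
  have hωfl : AlgSt.LocQ (AlgSp.LocP @Flat) ω :=
    locQ_of_repByAlgSpWith _ isSmoothLocalST_flat hW hℬ ω (flat_of_smooth hω₁)
  have hωfp : AlgSt.LocQ (AlgSp.LocP @LocallyOfFinitePresentation) ω :=
    locQ_of_repByAlgSpWith _ isSmoothLocalST_lfp hW hℬ ω (lfp_of_smooth hω₁)
  have hωs : AlgSt.IsSurjective ω :=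
    (isSurjective_iff_repByAlgSpWith hW hℬ ω (repByAlgSp1_of_repByAlgSpWith _ _ hω₂)).2 hω₂
  have h1 : AlgSt.LocQ (AlgSp.LocP @Flat) (AlgSt.overMap w) :=
    locQ_of_iso _ lam (locQ_comp _ isSmoothLocalST_flat
      (fun _ _ _ _ hY hZ a b ha hb => locP_flat_comp hY hZ a b ha hb) hW hℬ hV ω _ hωfl hkfl)
  have h2 : AlgSt.LocQ (AlgSp.LocP @LocallyOfFinitePresentation) (AlgSt.overMap w) :=
    locQ_of_iso _ lam (locQ_comp _ isSmoothLocalST_lfp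
      (fun _ _ _ _ hY hZ a b ha hb => locP_lfp_comp hY hZ a b ha hb) hW hℬ hV ω _ hωfp hkfp)
  have h3 : AlgSt.IsSurjective (AlgSt.overMap w) := by
    intro p
    obtain ⟨q, hq⟩ := isSurjective_comp ω (FibCat.fpSnd z y) hωs hks p
    refine ⟨q, ?_⟩
    rw [← hq]
    exact (points_map_congr _ _ ((BasedNatTrans.forgetful _ _).mapIso lam) q).symm
  refine ⟨W, w, BasedFunctor.comp ω (FibCat.fpFst z y), ?_,
    AlgSp.locP_yon_map (prop_of_locQ_overMap _ isSmoothLocalST_flat w h1),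
    AlgSp.locP_yon_map (prop_of_locQ_overMap _ isSmoothLocalST_lfp w h2),
    surjective_left_of_isSurjective w h3,
    repByAlgSpWith_comp_of_compCond hWg hℬ.isStack.1 _ compCond_smooth ω _ hω₁
      (repByAlgSpWith_fpFst _ y z hy)⟩
  exact (whiskerRightIso lam y).symm ≪≫ (whiskerLeftIso ω (FibCat.fpIso z y)).symm

/-- fppf descent of `LocQ P` on the base, for a functor representable by algebraic spaces. -/
theorem locQ_of_fpFst_rep (P : MorphismProperty (AlgSp.Sp S)) (hP : AlgSp.IsSmoothLocalST P)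
    (hP₂ : AlgSp.IsLocalOnBase AlgSp.IsFppfCover P)
    (h𝒳 : AlgSt.IsAlgStack Scheme.fppfPrecoverage 𝒳)
    (h𝒴 : AlgSt.IsAlgStack Scheme.fppfPrecoverage 𝒴)
    (h𝒵 : AlgSt.IsAlgStack Scheme.fppfPrecoverage 𝒵) (f : 𝒳 ⥤ᵇ 𝒴) (hf : AlgSt.RepByAlgSp1 f)
    (z : 𝒵 ⥤ᵇ 𝒴) (hz₁ : AlgSt.LocQ (AlgSp.LocP @Flat) z)
    (hz₂ : AlgSt.LocQ (AlgSp.LocP @LocallyOfFinitePresentation) z)
    (hz₃ : AlgSt.IsSurjective z) (hL : AlgSt.LocQ P (FibCat.fpFst z f)) : AlgSt.LocQ P f := by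
  have hpre𝒴 := IsStack.isPrestack _ h𝒴.isStack
  have h𝒫 : AlgSt.IsAlgStack Scheme.fppfPrecoverage (FibCat.fp z f) :=
    isAlgStack_fp_of_isPrestack hpre𝒴 h𝒴.diag h𝒵 h𝒳 z f
  obtain ⟨V, y₀, hy₁, hy₂⟩ := h𝒴.atlas
  obtain ⟨F, e, he⟩ := hf V y₀
  have hPp : P (AlgSt.spMapOfOver (BasedFunctor.comp e (FibCat.fpFst y₀ f))) := by
    obtain ⟨W, w, d, κ, hfl, hfp, hs, hd⟩ :=
      exists_fppf_cover_chart h𝒴 h𝒵 z hz₁ hz₂ hz₃ y₀ hy₁
    have hφ : AlgSt.RepByAlgSp1 (FibCat.fpFst z f) :=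
      (Groth.Agent.Lib.Helper15DiagOfComp.repByAlgSpWith_top_iff _).1
        (repByAlgSpWith_fpFst ⊤ f z
          ((Groth.Agent.Lib.Helper15DiagOfComp.repByAlgSpWith_top_iff _).2 hf))
    obtain ⟨F', e', he'⟩ := hφ W d
    exact prop_of_fppf_chart P hP₂ f z y₀ F e he w hfl hfp hs d κ
      ⟨F', e', he', prop_atlas_of_locQ P hP h𝒫 h𝒵 (FibCat.fpFst z f) hL d hd F' e' he'⟩
  obtain ⟨U, s, hse, hss⟩ := F.property.atlas
  obtain ⟨h, hh⟩ := (AlgSp.yon S).map_surjective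
    (s ≫ AlgSt.spMapOfOver (BasedFunctor.comp e (FibCat.fpFst y₀ f)))
  obtain ⟨x, α, hx₁, hx₂⟩ := Groth.Agent.Lib.Helper15LocQ.exists_chart_of_rep h𝒳.isStack.1 h𝒴.isStack.1 f y₀ hy₁ hy₂ F e he s
    hse hss h hh
  refine ⟨U, V, x, y₀, h, α, hx₁, hx₂, hy₁, ?_⟩
  rw [hh]
  let UU : AlgSp.Space S := ⟨(AlgSp.yon S).obj U, AlgSp.IsAlgSpace.yon_obj U⟩
  exact hP.precomp UU.property F.property (AlgSp.IsAlgSpace.yon_obj V) s _
    (locP_smooth_of_repWith_etale (X := UU) (Y := F) s hse) hPp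

end Rep

section General

variable {S : Scheme.{u}} {𝒳 𝒴 𝒵 : AlgSt.Cat S}

/-- fppf descent of `LocQ P` on the base: if `z : 𝒵 ⟶ 𝒴` is flat, locally of finite presentation
and surjective and the base change of `f` along `z` has `P`, then `f` has `P`. -/
theorem locQ_of_fpFst (P : MorphismProperty (AlgSp.Sp S)) (hP : AlgSp.IsSmoothLocalST P)
    (hP₂ : AlgSp.IsLocalOnBase AlgSp.IsFppfCover P)
    (h𝒳 : AlgSt.IsAlgStack Scheme.fppfPrecoverage 𝒳)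
    (h𝒴 : AlgSt.IsAlgStack Scheme.fppfPrecoverage 𝒴)
    (h𝒵 : AlgSt.IsAlgStack Scheme.fppfPrecoverage 𝒵) (f : 𝒳 ⥤ᵇ 𝒴)
    (z : 𝒵 ⥤ᵇ 𝒴) (hz₁ : AlgSt.LocQ (AlgSp.LocP @Flat) z)
    (hz₂ : AlgSt.LocQ (AlgSp.LocP @LocallyOfFinitePresentation) z)
    (hz₃ : AlgSt.IsSurjective z) (hL : AlgSt.LocQ P (FibCat.fpFst z f)) : AlgSt.LocQ P f := by
  have hpre𝒴 := IsStack.isPrestack _ h𝒴.isStack
  have hpre𝒵 := IsStack.isPrestack _ h𝒵.isStack
  obtain ⟨V, y, hy₁, hy₂⟩ := h𝒴.atlas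
  obtain ⟨U, x, h, α, hα₁, -, hx₁, hx₂⟩ := exists_good_square_over h𝒳 h𝒴 f y
  refine ⟨U, V, x, y, h, α, hx₁ hy₁, hx₂ hy₂, hy₁, ?_⟩
  have hU := isAlgStack_overCat U
  have hV := isAlgStack_overCat V
  have hUg : FibCat.IsFibGrpd (FibCat.overCat U).p := (isFibSet_overForget U).1
  have hpreV := IsStack.isPrestack _ hV.isStack
  -- the stacks involved
  have h𝒫 : AlgSt.IsAlgStack Scheme.fppfPrecoverage (FibCat.fp z f) :=
    isAlgStack_fp_of_isPrestack hpre𝒴 h𝒴.diag h𝒵 h𝒳 z f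
  have hℬ : AlgSt.IsAlgStack Scheme.fppfPrecoverage (FibCat.fp z y) :=
    isAlgStack_fp_of_isPrestack hpre𝒴 h𝒴.diag h𝒵 hV z y
  have h𝒜 : AlgSt.IsAlgStack Scheme.fppfPrecoverage
      (FibCat.fp (FibCat.fpSnd z y) (AlgSt.overMap h)) :=
    isAlgStack_fp_of_isPrestack hpreV hV.diag hℬ hU _ _
  have h𝒬 : AlgSt.IsAlgStack Scheme.fppfPrecoverage
      (FibCat.fp (FibCat.fpFst z y) (FibCat.fpFst z f)) :=
    isAlgStack_fp_of_isPrestack hpre𝒵 h𝒵.diag hℬ h𝒫 _ _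
  have hb : AlgSt.RepByAlgSpWith (AlgSp.LocP @Smooth) (FibCat.fpFst z y) :=
    repByAlgSpWith_fpFst _ y z hy₁
  -- step 1: smooth base change
  have h1 : AlgSt.LocQ P (FibCat.fpFst (FibCat.fpFst z y) (FibCat.fpFst z f)) :=
    locQ_smooth_baseChange P hP hℬ h𝒫 h𝒵 _ hb _ hL
  -- step 2: the smooth functor `(𝒵 ×_𝒴 V) ×_V U ⟶ (𝒵 ×_𝒴 V) ×_𝒵 (𝒵 ×_𝒴 𝒳)`
  let ℓ' : FibCat.overCat U ⥤ᵇ FibCat.fp y f :=
    BasedFunctor.comp (FibCat.fpLift x (AlgSt.overMap h) α) (fpSwap f y)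
  have hℓ' : AlgSt.RepByAlgSpWith (AlgSp.LocP @Smooth) ℓ' :=
    repByAlgSpWith_comp_equiv _ _ _ (isEquivOver_fpSwap f y) hα₁
  let Λ₁ : FibCat.fp (FibCat.fpSnd z y) (AlgSt.overMap h) ⥤ᵇ
      FibCat.fp (BasedFunctor.comp (FibCat.fpSnd z y) y) f :=
    fpCompMap (FibCat.fpSnd z y) y f ℓ'
  have hΛ₁ : AlgSt.RepByAlgSpWith (AlgSp.LocP @Smooth) Λ₁ :=
    repByAlgSpWith_fpCompMap _ (FibCat.fpSnd z y) y f ℓ' hℓ'
  have iY := IsEquivOver.isEquivalence (BasedFunctor.id 𝒴) (isEquivOver_id _)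
  let M : FibCat.fp (BasedFunctor.comp (FibCat.fpSnd z y) y) f ⥤ᵇ
      FibCat.fp (BasedFunctor.comp (FibCat.fpFst z y) z) f :=
    fpMap (BasedFunctor.comp (FibCat.fpFst z y) z) f (BasedFunctor.comp (FibCat.fpSnd z y) y) f
      (BasedFunctor.id _) (BasedFunctor.id _) (BasedFunctor.id _) (FibCat.fpIso z y).symm
      (Iso.refl _)
  have hM : FibCat.IsEquivOver M :=
    isEquivOver_fpMap (BasedFunctor.comp (FibCat.fpFst z y) z) f
      (BasedFunctor.comp (FibCat.fpSnd z y) y) f (BasedFunctor.id _) (BasedFunctor.id _)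
      (BasedFunctor.id _) (FibCat.fpIso z y).symm (Iso.refl _) (isEquivOver_id _)
      (isEquivOver_id _)
  obtain ⟨I, hI, -, ⟨β⟩⟩ := IsEquivOver.exists_inverse_isEquivOver'
    (pasteL f z (FibCat.fpFst z y)) (isEquivOver_pasteL f z (FibCat.fpFst z y))
  let Λ : FibCat.fp (FibCat.fpSnd z y) (AlgSt.overMap h) ⥤ᵇ
      FibCat.fp (FibCat.fpFst z y) (FibCat.fpFst z f) :=
    BasedFunctor.comp (BasedFunctor.comp Λ₁ M) I
  have hΛ : AlgSt.RepByAlgSpWith (AlgSp.LocP @Smooth) Λ :=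
    repByAlgSpWith_comp_equiv _ _ I hI (repByAlgSpWith_comp_equiv _ _ M hM hΛ₁)
  have h2 : AlgSt.LocQ P (BasedFunctor.comp Λ
      (FibCat.fpFst (FibCat.fpFst z y) (FibCat.fpFst z f))) :=
    locQ_smooth_comp P hP h𝒜 h𝒬 hℬ Λ hΛ _ h1
  have i : BasedFunctor.comp Λ (FibCat.fpFst (FibCat.fpFst z y) (FibCat.fpFst z f)) ≅
      FibCat.fpFst (FibCat.fpSnd z y) (AlgSt.overMap h) :=
    (whiskerLeftIso (BasedFunctor.comp Λ₁ M)
      (whiskerRightIso β (FibCat.fpFst (BasedFunctor.comp (FibCat.fpFst z y) z) f)) : _ ≅ _)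
  have h3 : AlgSt.LocQ P (FibCat.fpFst (FibCat.fpSnd z y) (AlgSt.overMap h)) :=
    locQ_of_iso P i h2
  -- step 3: descent for the representable functor `overMap h`
  have h4 : AlgSt.LocQ P (AlgSt.overMap h) :=
    locQ_of_fpFst_rep P hP hP₂ hU hV hℬ (AlgSt.overMap h)
      (repByAlgSp1_of_repByAlgSp1_diag hV.diag U _) (FibCat.fpSnd z y)
      (locQ_fpSnd _ isSmoothLocalST_flat bcStable_flat h𝒴 hV z y hz₁)
      (locQ_fpSnd _ isSmoothLocalST_lfp bcStable_lfp h𝒴 hV z y hz₂)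
      (isSurjective_fpSnd h𝒵 h𝒴 hV z y hz₃) h3
  exact prop_of_locQ_overMap P hP h h4

end General

end Groth.Agent.Lib.Seat59.LocQDesc
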