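-- helper59: open substacks of an algebraic stack, part A: the predicate attached to a set of
-- points, and how it reads on charts.
import Mathlib
import Groth.Agent.Lib.Helper15PtsTop
import Groth.Agent.Lib.Helper17StkSub
import Groth.Agent.Lib.Helper17StkPts

set_option autoImplicit false
set_option backward.isDefEq.respectTransparency false
set_option backward.isDefEq.respectTransparency.types false
open CategoryTheory CategoryTheory.Functor CategoryTheory.Limits Opposite AlgebraicGeometry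

universe u

namespace Groth.Agent.Lib.Seat59.OpenSubA

open Groth.Agent.Lib.Helper17 Groth.Agent.Lib.Helper15PtsComp Groth.Agent.Lib.Helper15PtsTop

variable {S : Scheme.{u}} {𝒳 : AlgSt.Cat S}

/-- A field-valued point mapping to an object in the image of a chart is a point of the chart. -/
theorem exists_ofChart_eq (h𝒳 : FibCat.IsFibGrpd 𝒳.p) {T : Over S}
    (y : FibCat.overCat T ⥤ᵇ 𝒳) (p : AlgSt.FPt 𝒳) (e : Over T) (m : p.obj ⟶ y.obj e) :
    ∃ t : ↥T.left, AlgSt.Points.mk p = AlgSt.Points.ofChart y t := by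
  let g : Over.mk p.str ⟶ e.left :=
    eqToHom p.lies.symm ≫ 𝒳.p.map m ≫ eqToHom (y.w_obj e)
  have hm : 𝒳.p.IsHomLift g m :=
    IsHomLift.of_fac' 𝒳.p g m p.lies (y.w_obj e) (by simp [g])
  let d : Over T := Over.mk (g ≫ e.hom)
  let ψ : d ⟶ e := Over.homMk g rfl
  have hψ : (FibCat.overCat T).p.IsHomLift g ψ :=
    IsHomLift.of_fac' _ g ψ rfl rfl (by simp [ψ]; rfl)
  have hψ' : 𝒳.p.IsHomLift g (y.map ψ) := inferInstance
  have hcart : 𝒳.p.IsStronglyCartesian g m :=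
    IsFibGrpd.isStronglyCartesian_of_isHomLift h𝒳 g m
  have hg : g = 𝟙 _ ≫ g := (Category.id_comp g).symm
  let χ : y.obj d ⟶ p.obj := IsStronglyCartesian.map 𝒳.p g m hg (y.map ψ)
  let q : AlgSt.FPt (FibCat.overCat T) := { K := p.K, str := p.str, obj := d, lies := rfl }
  obtain ⟨t, ht⟩ := (ptOver_bijective T).2 (AlgSt.Points.mk q)
  refine ⟨t, ?_⟩
  rw [ofChart_eq_map_ptOver, ht]
  apply AlgSt.Points.sound
  exact ⟨q.map y, χ, 𝟙 _, trivial⟩

/-- The predicate on objects attached to a set of points: every field-valued point mapping to the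
object belongs to the set. -/
def QW (W : Set (AlgSt.Points 𝒳)) : 𝒳.obj → Prop :=
  fun a => ∀ p : AlgSt.FPt 𝒳, Nonempty (p.obj ⟶ a) → AlgSt.Points.mk p ∈ W

theorem qW_of_hom (W : Set (AlgSt.Points 𝒳)) {b a : 𝒳.obj} (m : b ⟶ a) (ha : QW W a) :
    QW W b :=
  fun p ⟨k⟩ => ha p ⟨k ≫ m⟩

theorem qW_isClosedUnderIsomorphisms (W : Set (AlgSt.Points 𝒳)) :
    ObjectProperty.IsClosedUnderIsomorphisms (QW W) :=
  ⟨fun e ha => qW_of_hom W e.inv ha⟩

theorem qW_mono {W W' : Set (AlgSt.Points 𝒳)} (h : W ⊆ W') (a : 𝒳.obj) (ha : QW W a) :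
    QW W' a :=
  fun p hp => h (ha p hp)

/-- How the predicate reads on a chart. -/
theorem qW_chart_iff (h𝒳 : FibCat.IsFibGrpd 𝒳.p) (W : Set (AlgSt.Points 𝒳)) {V : Over S}
    (y : FibCat.overCat V ⥤ᵇ 𝒳) (c : Over V) :
    QW W (y.obj c) ↔ ∀ t : ↥c.left.left, AlgSt.Points.ofChart y (c.hom.left t) ∈ W := by
  constructor
  · intro h t
    rw [← ofChart_overMap c.hom y t]
    refine h _ ⟨y.map ?_⟩
    exact Over.homMk (Over.homMk (c.left.left.fromSpecResidueField t) rfl) rfl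
  · intro h p ⟨m⟩
    let i : c ⟶ (AlgSt.overMap c.hom).obj (Over.mk (𝟙 c.left)) :=
      Over.homMk (𝟙 _) (by
        change 𝟙 _ ≫ (𝟙 c.left ≫ c.hom) = c.hom
        simp)
    obtain ⟨t, ht⟩ := exists_ofChart_eq h𝒳 (BasedFunctor.comp (AlgSt.overMap c.hom) y) p
      (Over.mk (𝟙 c.left)) (m ≫ y.map i)
    rw [ht, ofChart_overMap c.hom y t]
    exact h t

/-- The full subcategory on a predicate stable under pullback is fibred in groupoids. -/
theorem isFibGrpd_fullSub (h𝒳 : FibCat.IsFibGrpd 𝒳.p) (Q : 𝒳.obj → Prop)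
    (hQ : ∀ ⦃b a : 𝒳.obj⦄ (_ : b ⟶ a), Q a → Q b) :
    FibCat.IsFibGrpd (AlgSt.fullSub 𝒳 Q).p :=
  isFibGrpd_subCat (𝒳 := 𝒳) Q h𝒳 (fun y _ φ hx =>
    ⟨y, Iso.refl y, hQ φ hx, by
      change 𝒳.p.IsHomLift (𝟙 (𝒳.p.obj y)) (𝟙 y)
      exact IsHomLift.id rfl⟩)

/-- The points of the substack attached to a set of points are that set. -/
theorem range_points_map_subIncl_qW (W : Set (AlgSt.Points 𝒳)) :
    Set.range (AlgSt.Points.map (AlgSt.subIncl 𝒳 (QW W))) = W := by
  ext w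
  constructor
  · rintro ⟨z, rfl⟩
    obtain ⟨p', rfl⟩ := AlgSt.Points.mk_surjective z
    exact p'.obj.property _ ⟨𝟙 _⟩
  · intro hw
    obtain ⟨p, rfl⟩ := AlgSt.Points.mk_surjective w
    have hp : QW W p.obj := fun p₂ ⟨m⟩ => by
      have : AlgSt.Points.mk p₂ = AlgSt.Points.mk p :=
        AlgSt.Points.sound ⟨p₂, 𝟙 _, m, trivial⟩
      rw [this]
      exact hw
    exact ⟨AlgSt.Points.mk { K := p.K, str := p.str, obj := ⟨p.obj, hp⟩, lies := p.lies }, rfl⟩

end Groth.Agent.Lib.Seat59.OpenSubA
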