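-- helper59: open substacks of an algebraic stack, part B: the inclusion of the full subcategory
-- on a predicate which reads as an open subscheme on every chart is an open immersion.
import Mathlib
import Groth.Agent.Lib.Seat59OpenSubA
import Groth.Agent.Lib.Helper17SelfOver
import Groth.Agent.Lib.Helper15EquivRep
import Groth.Agent.Lib.Helper15LocQEngine

set_option autoImplicit false
set_option backward.isDefEq.respectTransparency false
set_option backward.isDefEq.respectTransparency.types false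
open CategoryTheory CategoryTheory.Functor CategoryTheory.Limits Opposite AlgebraicGeometry

universe u

namespace Groth.Agent.Lib.Seat59.OpenSubB

open Groth.Agent.Lib.Helper17 Groth.Agent.Lib.Helper15PtsComp Groth.Agent.Lib.Helper15PtsTop
  Groth.Agent.Lib.Seat59.OpenSubA

variable {S : Scheme.{u}} {𝒳 : AlgSt.Cat S}

section Chart

variable (Q : 𝒳.obj → Prop) {V : Over S} (y : FibCat.overCat V ⥤ᵇ 𝒳) (V₀ : V.left.Opens)

/-- The open subscheme as a scheme over the base. -/
noncomputable abbrev openOver : Over S := Over.mk (V₀.ι ≫ V.hom)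

/-- Its inclusion. -/
noncomputable abbrev openIncl : openOver V₀ ⟶ V := Over.homMk V₀.ι rfl

variable (H : ∀ c : Over V, Q (y.obj c) ↔ ∀ t : ↥c.left.left, c.hom.left t ∈ V₀)

include H in
theorem q_of_open (d : Over (openOver V₀)) :
    Q (y.obj ((AlgSt.overMap (openIncl V₀)).obj d)) := by
  rw [H]
  intro t
  change (d.hom ≫ openIncl V₀).left t ∈ V₀
  rw [Over.comp_left, Scheme.Hom.comp_apply]
  exact (d.hom.left t).2

/-- The restriction of the chart to the open subscheme, as a functor to the full subcategory. -/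
noncomputable def chartSub : FibCat.overCat (openOver V₀) ⥤ᵇ AlgSt.fullSub 𝒳 Q where
  toFunctor := ObjectProperty.lift Q
    (BasedFunctor.comp (AlgSt.overMap (openIncl V₀)) y).toFunctor (q_of_open Q y V₀ H)
  w := (BasedFunctor.comp (AlgSt.overMap (openIncl V₀)) y).w

/-- The comparison functor from the slice over the open subscheme to the 2-fibre product. -/
noncomputable def chartCmp : FibCat.overCat (openOver V₀) ⥤ᵇ FibCat.fp y (AlgSt.subIncl 𝒳 Q) :=
  FibCat.fpLift (AlgSt.overMap (openIncl V₀)) (chartSub Q y V₀ H) (Iso.refl _)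

theorem chartCmp_comp_fpFst :
    BasedFunctor.comp (chartCmp Q y V₀ H) (FibCat.fpFst y (AlgSt.subIncl 𝒳 Q)) =
      AlgSt.overMap (openIncl V₀) := rfl

theorem chartCmp_faithful : (chartCmp Q y V₀ H).toFunctor.Faithful := by
  refine ⟨fun {d d'} m m' h => ?_⟩
  apply Over.OverMorphism.ext
  exact congrArg (fun k => k.hom.fst.left) h

theorem chartCmp_full : (chartCmp Q y V₀ H).toFunctor.Full := by
  refine ⟨fun {d d'} n => ?_⟩
  obtain ⟨n₁, hn₁⟩ : ∃ k : (AlgSt.overMap (openIncl V₀)).obj d ⟶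
      (AlgSt.overMap (openIncl V₀)).obj d', k = n.hom.fst := ⟨_, rfl⟩
  have hmono : Mono (openIncl V₀) := Over.mono_of_mono_left _
  have w1 : n₁.left ≫ (d'.hom ≫ openIncl V₀) = d.hom ≫ openIncl V₀ := Over.w n₁
  have hw : n₁.left ≫ d'.hom = d.hom := by
    rw [← cancel_mono (openIncl V₀), Category.assoc]
    exact w1
  refine ⟨Over.homMk n₁.left hw, ?_⟩
  apply ObjectProperty.hom_ext
  apply Limits.CategoricalPullback.hom_ext
  · apply Over.OverMorphism.ext
    exact congrArg (fun k => k.left) hn₁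
  · apply ObjectProperty.hom_ext
    have h2 := n.hom.w
    change y.map n.hom.fst ≫ 𝟙 _ = 𝟙 _ ≫ n.hom.snd.hom at h2
    rw [Category.comp_id, Category.id_comp] at h2
    change y.map _ = n.hom.snd.hom
    rw [← h2, ← hn₁]
    congr 1

theorem chartCmp_essSurjOver (hQ : ObjectProperty.IsClosedUnderIsomorphisms Q) :
    EssSurjOver (chartCmp Q y V₀ H) := by
  intro q
  have hQc : Q (y.obj q.obj.fst) := hQ.of_iso q.obj.iso.symm q.obj.snd.property
  have hrange : ∀ t, q.obj.fst.hom.left t ∈ V₀ := (H _).1 hQc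
  let ℓ : q.obj.fst.left.left ⟶ V₀.toScheme :=
    IsOpenImmersion.lift V₀.ι q.obj.fst.hom.left (by
      rintro _ ⟨t, rfl⟩
      rw [Scheme.Opens.range_ι]
      exact hrange t)
  have hℓ : ℓ ≫ V₀.ι = q.obj.fst.hom.left := IsOpenImmersion.lift_fac _ _ _
  have hℓ' : ℓ ≫ (openOver V₀).hom = q.obj.fst.left.hom := by
    change ℓ ≫ V₀.ι ≫ V.hom = _
    rw [reassoc_of% hℓ]
    exact Over.w q.obj.fst.hom
  let d : Over (openOver V₀) :=
    Over.mk (Over.homMk ℓ hℓ' : q.obj.fst.left ⟶ openOver V₀)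
  let i₁ : (AlgSt.overMap (openIncl V₀)).obj d ≅ q.obj.fst :=
    Over.isoMk (Iso.refl _) (by
      apply Over.OverMorphism.ext
      change 𝟙 _ ≫ q.obj.fst.hom.left = ℓ ≫ V₀.ι
      rw [hℓ, Category.id_comp])
  let i₂ : (chartSub Q y V₀ H).obj d ≅ q.obj.snd :=
    ObjectProperty.isoMk _ (y.toFunctor.mapIso i₁ ≪≫ q.obj.iso)
  have hw : y.map i₁.hom ≫ q.obj.iso.hom =
      ((chartCmp Q y V₀ H).obj d).obj.iso.hom ≫ (AlgSt.subIncl 𝒳 Q).map i₂.hom := by
    change y.map i₁.hom ≫ q.obj.iso.hom = 𝟙 _ ≫ (y.map i₁.hom ≫ q.obj.iso.hom)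
    rw [Category.id_comp]
  refine ⟨d, ObjectProperty.isoMk _ (Limits.CategoricalPullback.mkIso
    (x := ((chartCmp Q y V₀ H).obj d).obj) (y := q.obj) i₁ i₂ hw), ?_⟩
  rw [fp_isHomLift_iff]
  apply over_isHomLift_of_left _ _ rfl rfl
  change 𝟙 _ = 𝟙 _ ≫ 𝟙 _ ≫ 𝟙 _
  simp

theorem isEquivOver_chartCmp (hQ : ObjectProperty.IsClosedUnderIsomorphisms Q) :
    FibCat.IsEquivOver (chartCmp Q y V₀ H) := by
  have := chartCmp_faithful Q y V₀ H
  have := chartCmp_full Q y V₀ H
  exact isEquivOver_of_fullyFaithful_of_essSurjOver _ (chartCmp_essSurjOver Q y V₀ H hQ)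

include H in
theorem exists_rep_openImm (hQ : ObjectProperty.IsClosedUnderIsomorphisms Q) :
    ∃ (F : AlgSp.Space S) (e : AlgSt.ofSp F.obj ⥤ᵇ FibCat.fp y (AlgSt.subIncl 𝒳 Q)),
      FibCat.IsEquivOver e ∧ AlgSp.RepWith @IsOpenImmersion
        (AlgSt.spMapOfOver (BasedFunctor.comp e (FibCat.fpFst y (AlgSt.subIncl 𝒳 Q)))) := by
  refine ⟨⟨(AlgSp.yon S).obj (openOver V₀), AlgSp.IsAlgSpace.yon_obj _⟩,
    BasedFunctor.comp (AlgSt.toOverCat (openOver V₀)) (chartCmp Q y V₀ H),
    IsEquivOver.comp _ _ (Groth.Agent.Lib.Helper15DiagRepSp.isEquivOver_toOverCat _)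
      (isEquivOver_chartCmp Q y V₀ H hQ), ?_⟩
  have h1 : BasedFunctor.comp (BasedFunctor.comp (AlgSt.toOverCat (openOver V₀))
      (chartCmp Q y V₀ H)) (FibCat.fpFst y (AlgSt.subIncl 𝒳 Q)) =
      BasedFunctor.comp (AlgSt.toOverCat (openOver V₀)) (AlgSt.overMap (openIncl V₀)) := rfl
  rw [h1, Groth.Agent.Lib.Helper15LocQEngine.spMapOfOver_comp_overMap,
    Groth.Agent.Lib.Helper15EquivRep.spMapOfOver_toOverCat, Category.id_comp]
  exact (AlgSp.repWith_yon_map_iff _ _).2 (inferInstance : IsOpenImmersion V₀.ι)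

end Chart

section Main

/-- The inclusion of the substack attached to an open set of points is an open immersion. -/
theorem isOpenImm_subIncl_qW (h𝒳 : AlgSt.IsAlgStack Scheme.fppfPrecoverage 𝒳)
    (W : Set (AlgSt.Points 𝒳)) (hW : IsOpen W) :
    AlgSt.IsOpenImm (AlgSt.subIncl 𝒳 (QW W)) := by
  intro V y
  have hcont := continuous_ofChart h𝒳 y
  exact exists_rep_openImm (QW W) y ⟨AlgSt.Points.ofChart y ⁻¹' W, hW.preimage hcont⟩
    (fun c => qW_chart_iff h𝒳.isStack.1 W y c) (qW_isClosedUnderIsomorphisms W)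

/-- The substack attached to an open set of points is an open substack. -/
theorem isOpenSubstack_qW (h𝒳 : AlgSt.IsAlgStack Scheme.fppfPrecoverage 𝒳)
    (W : Set (AlgSt.Points 𝒳)) (hW : IsOpen W) :
    AlgSt.IsOpenSubstack 𝒳 (QW W) Scheme.fppfPrecoverage := by
  have hOI := isOpenImm_subIncl_qW h𝒳 W hW
  exact ⟨qW_isClosedUnderIsomorphisms W,
    Groth.Agent.Lib.Helper15Atlas.isAlgStack_of_repByAlgSp1
      (isFibGrpd_fullSub h𝒳.isStack.1 _ (fun _ _ m h => qW_of_hom W m h)) h𝒳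
      (AlgSt.subIncl 𝒳 (QW W))
      (Groth.Agent.Lib.Helper15SrcCancel.repByAlgSp1_of_repByAlgSpWith _ _ hOI), hOI⟩

end Main

end Groth.Agent.Lib.Seat59.OpenSubB
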