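-- helper59: open substacks of an algebraic stack, part C: an open substack is determined by its
-- points.
import Mathlib
import Groth.Agent.Lib.Seat59OpenSubB
import Groth.Agent.Lib.Helper17FibYoneda
import Groth.Agent.Lib.Helper17StkPts2
import Groth.Agent.Lib.Helper15OpenSub

set_option autoImplicit false
set_option backward.isDefEq.respectTransparency false
set_option backward.isDefEq.respectTransparency.types false
open CategoryTheory CategoryTheory.Functor CategoryTheory.Limits Opposite AlgebraicGeometry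

universe u

namespace Groth.Agent.Lib.Seat59.OpenSubC

open Groth.Agent.Lib.Helper17 Groth.Agent.Lib.Helper15PtsComp Groth.Agent.Lib.Helper15PtsTop
  Groth.Agent.Lib.Seat59.OpenSubA Groth.Agent.Lib.Seat59.OpenSubB

variable {S : Scheme.{u}} {𝒳 : AlgSt.Cat S}

/-- A predicate closed under isomorphisms whose full subcategory is fibred in groupoids is stable
under pullback. -/
theorem q_of_hom (h𝒳 : FibCat.IsFibGrpd 𝒳.p) (Q : 𝒳.obj → Prop)
    (hiso : ObjectProperty.IsClosedUnderIsomorphisms Q)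
    (hfib : FibCat.IsFibGrpd (AlgSt.fullSub 𝒳 Q).p) {b a : 𝒳.obj} (m : b ⟶ a) (ha : Q a) :
    Q b := by
  obtain ⟨y', φ, hφ⟩ := hfib.exists_lift (x := (⟨a, ha⟩ : (AlgSt.fullSub 𝒳 Q).obj))
    (𝒳.p.map m)
  have h1 : 𝒳.p.IsHomLift (𝒳.p.map m) φ.hom :=
    (isHomLift_comp_iff (ObjectProperty.ι Q) 𝒳.p (𝒳.p.map m) φ).1 hφ
  obtain ⟨e, -, -⟩ := IsFibGrpd.exists_iso_of_lifts (𝒴 := 𝒳) h𝒳 (𝒳.p.map m) m φ.hom
  exact hiso.of_iso e.symm y'.property

/-- A surjective open immersion to the sheaf of a scheme has a section through the identity. -/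
theorem exists_section_of_openImm_surjective {F : AlgSp.Sp S} {T : Over S}
    (g : F ⟶ (AlgSp.yon S).obj T) (hOI : AlgSp.RepWith @IsOpenImmersion g)
    (hs : AlgSp.IsSurjectiveMor g) :
    ∃ x : F.obj.obj (op T), g.hom.app (op T) x = ⟨𝟙 T⟩ := by
  obtain ⟨T₀, snd, fst, sq⟩ := hOI.1 (𝟙 ((AlgSp.yon S).obj T))
  have hopen : IsOpenImmersion snd.left := hOI.2 (𝟙 _) fst snd sq
  have hfst : IsIso fst := sq.isIso_fst_of_isIso
  have hw : fst ≫ g = (AlgSp.yon S).map snd := by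
    rw [sq.w, Category.comp_id]
  have hs' : AlgSp.IsSurjectiveMor ((AlgSp.yon S).map snd) := by
    rw [← hw]
    intro z
    obtain ⟨w, rfl⟩ := hs z
    refine ⟨AlgSp.Points.map (inv fst) w, ?_⟩
    rw [AlgSp.Points.map_comp, ← AlgSp.Points.map_comp (inv fst) fst, IsIso.inv_hom_id,
      AlgSp.Points.map_id]
  have hsurj := Groth.Agent.Lib.Helper15SmLoc.surjective_of_isSurjectiveMor_yon_map snd hs'
  have hiso : IsIso snd.left := by
    rw [isIso_iff_isOpenImmersion_and_epi_base]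
    exact ⟨hopen, (TopCat.epi_iff_surjective _).2 hsurj⟩
  have hiso' : IsIso snd := by
    have : IsIso ((Over.forget S).map snd) := hiso
    exact isIso_of_reflects_iso snd (Over.forget S)
  refine ⟨fst.hom.app (op T) ⟨inv snd⟩, ?_⟩
  have h1 := congrArg (fun k => k.hom.app (op T) (⟨inv snd⟩ : ULift (T ⟶ T₀))) hw
  refine h1.trans ?_
  apply ULift.ext
  change inv snd ≫ snd = 𝟙 T
  exact IsIso.inv_hom_id snd

/-- An object all of whose points lie in an open substack belongs to it. -/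
theorem q_of_qW_range (h𝒳 : AlgSt.IsAlgStack Scheme.fppfPrecoverage 𝒳) (Q : 𝒳.obj → Prop)
    (hQ : AlgSt.IsOpenSubstack 𝒳 Q Scheme.fppfPrecoverage) (a : 𝒳.obj)
    (ha : QW (Set.range (AlgSt.Points.map (AlgSt.subIncl 𝒳 Q))) a) : Q a := by
  obtain ⟨hiso, hQalg, hOI⟩ := hQ
  have hfib := h𝒳.isStack.1
  have : 𝒳.p.IsFibered := IsFibGrpd.isFibered hfib
  obtain ⟨T, hT⟩ : ∃ T : Over S, 𝒳.p.obj a = T := ⟨_, rfl⟩
  obtain ⟨ι, -⟩ := yonedaFunctor_iso hT
  have h1 := qW_of_hom _ ι.hom ha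
  have h2 := (qW_chart_iff hfib _ (yonedaFunctor hT) (Over.mk (𝟙 T))).1 h1
  obtain ⟨F, e, he, hg⟩ := hOI T (yonedaFunctor hT)
  have hsurj : Function.Surjective (AlgSt.Points.map
      (BasedFunctor.comp e (FibCat.fpFst (yonedaFunctor hT) (AlgSt.subIncl 𝒳 Q)))) := by
    intro z
    obtain ⟨t, rfl⟩ := (ptOver_bijective T).2 z
    obtain ⟨z', hz'⟩ := h2 t
    obtain ⟨w, hw, -⟩ := points_fp_surjective hQalg.isStack.1 hfib (isFibSet_overForget T).1
      (AlgSt.subIncl 𝒳 Q) (yonedaFunctor hT) (ptOver T t) z' (by rw [hz']; rfl)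
    obtain ⟨v, rfl⟩ :=
      Groth.Agent.Lib.Helper15UnivComp.points_map_surjective_of_isEquivOver e he w
    exact ⟨v, by rw [points_map_comp]; exact hw⟩
  have hs := (isSurjectiveMor_spMapOfOver_iff _).2 hsurj
  obtain ⟨x, hx⟩ := exists_section_of_openImm_surjective _ hg hs
  rw [AlgSt.spMapOfOver_app] at hx
  have hsec := congrArg ULift.down hx
  obtain ⟨ξ, hξ⟩ : ∃ ξ : (FibCat.fp (yonedaFunctor hT) (AlgSt.subIncl 𝒳 Q)).obj,
      ξ = e.obj ⟨T, x⟩ := ⟨_, rfl⟩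
  let k : Over.mk (𝟙 T) ⟶ ξ.obj.fst :=
    Over.homMk (eqToHom (by rw [hξ]; exact ((BasedFunctor.comp e (FibCat.fpFst (yonedaFunctor hT)
      (AlgSt.subIncl 𝒳 Q))).w_obj ⟨T, x⟩).symm)) (by
        subst hξ
        exact hsec)
  exact q_of_hom hfib Q hiso hQalg.isStack.1
    (ι.inv ≫ (yonedaFunctor hT).map k ≫ ξ.obj.iso.hom) ξ.obj.snd.property

/-- The objects of an open substack have all their points in it. -/
theorem qW_range_of_q (h𝒳 : AlgSt.IsAlgStack Scheme.fppfPrecoverage 𝒳) (Q : 𝒳.obj → Prop)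
    (hQ : AlgSt.IsOpenSubstack 𝒳 Q Scheme.fppfPrecoverage) (a : 𝒳.obj) (ha : Q a) :
    QW (Set.range (AlgSt.Points.map (AlgSt.subIncl 𝒳 Q))) a := by
  rintro p ⟨m⟩
  have hp : Q p.obj := q_of_hom h𝒳.isStack.1 Q hQ.1 hQ.2.1.isStack.1 m ha
  exact ⟨AlgSt.Points.mk { K := p.K, str := p.str, obj := ⟨p.obj, hp⟩, lies := p.lies }, rfl⟩

/-- An open substack is the substack attached to its set of points. -/
theorem q_iff_qW_range (h𝒳 : AlgSt.IsAlgStack Scheme.fppfPrecoverage 𝒳) (Q : 𝒳.obj → Prop)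
    (hQ : AlgSt.IsOpenSubstack 𝒳 Q Scheme.fppfPrecoverage) (a : 𝒳.obj) :
    Q a ↔ QW (Set.range (AlgSt.Points.map (AlgSt.subIncl 𝒳 Q))) a :=
  ⟨qW_range_of_q h𝒳 Q hQ a, q_of_qW_range h𝒳 Q hQ a⟩

theorem isOpen_range_subIncl (h𝒳 : AlgSt.IsAlgStack Scheme.fppfPrecoverage 𝒳) (Q : 𝒳.obj → Prop)
    (hQ : AlgSt.IsOpenSubstack 𝒳 Q Scheme.fppfPrecoverage) :
    IsOpen (Set.range (AlgSt.Points.map (AlgSt.subIncl 𝒳 Q))) :=
  Groth.Agent.Lib.Helper15OpenSub.isOpen_range_of_isOpenImm hQ.2.1 h𝒳 _ hQ.2.2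

/-- Containment of open substacks is containment of their sets of points. -/
theorem le_iff_range_subset (h𝒳 : AlgSt.IsAlgStack Scheme.fppfPrecoverage 𝒳)
    (Q Q' : 𝒳.obj → Prop) (hQ : AlgSt.IsOpenSubstack 𝒳 Q Scheme.fppfPrecoverage)
    (hQ' : AlgSt.IsOpenSubstack 𝒳 Q' Scheme.fppfPrecoverage) :
    (∀ y, Q y → Q' y) ↔ Set.range (AlgSt.Points.map (AlgSt.subIncl 𝒳 Q)) ⊆
      Set.range (AlgSt.Points.map (AlgSt.subIncl 𝒳 Q')) := by
  constructor
  · rintro h _ ⟨z, rfl⟩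
    obtain ⟨p, rfl⟩ := AlgSt.Points.mk_surjective z
    have hp : Q' p.obj.obj := h _ p.obj.property
    exact ⟨AlgSt.Points.mk { K := p.K, str := p.str, obj := ⟨p.obj.obj, hp⟩, lies := p.lies },
      rfl⟩
  · intro h y hy
    exact q_of_qW_range h𝒳 Q' hQ' y (qW_mono h y (qW_range_of_q h𝒳 Q hQ y hy))

/-- Open substacks correspond bijectively to open sets of points. -/
theorem bijOn_range (h𝒳 : AlgSt.IsAlgStack Scheme.fppfPrecoverage 𝒳) :
    Set.BijOn (fun Q : 𝒳.obj → Prop => Set.range (AlgSt.Points.map (AlgSt.subIncl 𝒳 Q)))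
      {Q | AlgSt.IsOpenSubstack 𝒳 Q Scheme.fppfPrecoverage} {T | IsOpen T} := by
  refine ⟨fun Q hQ => isOpen_range_subIncl h𝒳 Q hQ, fun Q hQ Q' hQ' h => ?_, fun W hW => ?_⟩
  · funext a
    apply propext
    rw [q_iff_qW_range h𝒳 Q hQ a, q_iff_qW_range h𝒳 Q' hQ' a]
    have h' : Set.range (AlgSt.Points.map (AlgSt.subIncl 𝒳 Q)) =
        Set.range (AlgSt.Points.map (AlgSt.subIncl 𝒳 Q')) := h
    rw [h']
  · exact ⟨QW W, isOpenSubstack_qW h𝒳 W hW, range_points_map_subIncl_qW W⟩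

end Groth.Agent.Lib.Seat59.OpenSubC
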