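-- helper83 (seat 83): cancellation for functors representable by algebraic spaces with a property
-- satisfying the cancellation law, and the diagonal of the first factor of a composite.
import Groth.Agent.Lib.Helper15DiagOfComp

set_option autoImplicit false
set_option backward.isDefEq.respectTransparency false
set_option backward.isDefEq.respectTransparency.types false
open CategoryTheory CategoryTheory.Functor CategoryTheory.Limits Opposite AlgebraicGeometry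

universe u

namespace Groth.Agent.Lib.Seat83.DiagCancel

open Groth.Agent.Lib.Helper17 Groth.Agent.Lib.Helper15PshFib Groth.Agent.Lib.Helper15RepComp
  Groth.Agent.Lib.Helper15RepPsh Groth.Agent.Lib.Helper15DiagBase Groth.Agent.Lib.Helper15DiagRepSp
  Groth.Agent.Lib.Helper15Descent Groth.Agent.Lib.Helper15DiagLft
  Groth.Agent.Lib.Helper15.DiagBC Groth.Agent.Lib.Helper15SpMapRep

section SpMap

variable {S : Scheme.{u}}

/-- The map to `h_U` of a functor `ofSp H ⟶ ofSp G ⟶ (Sch/U)` whose first factor comes from a map of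
sheaves is the composite of the maps of sheaves. -/
theorem spMapOfOver_ofSpMap_comp' {H G : AlgSp.Sp S} {U : Over S} (α : H ⟶ G)
    (B : AlgSt.ofSp G ⥤ᵇ FibCat.overCat U) :
    AlgSt.spMapOfOver (BasedFunctor.comp (AlgSt.ofSpMap α) B) = α ≫ AlgSt.spMapOfOver B := by
  apply ObjectProperty.hom_ext
  apply NatTrans.ext
  funext T
  ext s
  apply ULift.ext
  let c : (AlgSt.ofSp H).obj := ⟨T.unop, s⟩
  change ovSec (BasedFunctor.comp (AlgSt.ofSpMap α) B) c = ovSec B ⟨T.unop, α.hom.app T s⟩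
  rw [ovSec_pshSec (AlgSt.ofSpMap α) B c, pshSec_ofPshMap]
  rfl

end SpMap

section L1

variable {S : Scheme.{u}} {𝒜 ℬ : AlgSt.Cat S}

/-- A functor between categories equivalent to those of algebraic spaces, whose source and target
have `P` over a scheme, is representable by algebraic spaces with `P` when `P` is stable under
base change and satisfies the cancellation law. -/
theorem repByAlgSpWith_of_spaces (P : MorphismProperty (AlgSp.Sp S))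
    (hPb : ∀ ⦃X₁ Y₁ X₂ Y₂ : AlgSp.Sp S⦄, AlgSp.IsAlgSpace X₁ → AlgSp.IsAlgSpace Y₁ → AlgSp.IsAlgSpace X₂ →
      AlgSp.IsAlgSpace Y₂ → ∀ (a : X₁ ⟶ Y₁) (b : Y₂ ⟶ Y₁) (a' : X₂ ⟶ Y₂) (b' : X₂ ⟶ X₁),
      IsPullback b' a' a b → P a → P a')
    (hcancel : ∀ ⦃X Y Z : AlgSp.Sp S⦄, AlgSp.IsAlgSpace X → AlgSp.IsAlgSpace Y → AlgSp.IsAlgSpace Z →
      ∀ (a : X ⟶ Y) (b : Y ⟶ Z), P b → P (a ≫ b) → P a)
    (Φ : 𝒜 ⥤ᵇ ℬ) (H G : AlgSp.Space S) (eH : AlgSt.ofSp H.obj ⥤ᵇ 𝒜) (eG : AlgSt.ofSp G.obj ⥤ᵇ ℬ)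
    (heH : FibCat.IsEquivOver eH) (heG : FibCat.IsEquivOver eG) {U : Over S}
    (pB : ℬ ⥤ᵇ FibCat.overCat U)
    (hb : P (AlgSt.spMapOfOver (BasedFunctor.comp eG pB)))
    (hc : P (AlgSt.spMapOfOver (BasedFunctor.comp eH (BasedFunctor.comp Φ pB)))) :
    AlgSt.RepByAlgSpWith P Φ := by
  obtain ⟨eG', heG', ⟨ι₁⟩, ⟨ι₂⟩⟩ := IsEquivOver.exists_inverse_isEquivOver' eG heG
  let Ψ : AlgSt.ofSp H.obj ⥤ᵇ AlgSt.ofSp G.obj :=
    BasedFunctor.comp eH (BasedFunctor.comp Φ eG')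
  let α₀ : H.obj ⟶ G.obj := ObjectProperty.homMk (pshMapOf Ψ)
  let α : H ⟶ G := ObjectProperty.homMk α₀
  have ισ : AlgSt.ofSpMap α₀ ≅ Ψ := ofPshMapIso Ψ
  -- the square
  have sqIso : BasedFunctor.comp (AlgSt.ofSpMap α₀) eG ≅ BasedFunctor.comp eH Φ :=
    whiskerRightIso ισ eG ≪≫
      (whiskerLeftIso (BasedFunctor.comp eH Φ) ι₂ : BasedFunctor.comp (BasedFunctor.comp eH Φ)
        (BasedFunctor.comp eG' eG) ≅ BasedFunctor.comp (BasedFunctor.comp eH Φ) (BasedFunctor.id _))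
  -- `α` has `P`
  have hα : P α₀ := by
    refine hcancel H.property G.property (AlgSp.IsAlgSpace.yon_obj U) α₀
      (AlgSt.spMapOfOver (BasedFunctor.comp eG pB)) hb ?_
    rw [← spMapOfOver_ofSpMap_comp']
    have e : BasedFunctor.comp (AlgSt.ofSpMap α₀) (BasedFunctor.comp eG pB) ≅
        BasedFunctor.comp eH (BasedFunctor.comp Φ pB) :=
      (whiskerRightIso sqIso pB : BasedFunctor.comp (BasedFunctor.comp (AlgSt.ofSpMap α₀) eG) pB ≅
        BasedFunctor.comp (BasedFunctor.comp eH Φ) pB)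
    rw [spMapOfOver_eq_of_iso _ _ e]
    exact hc
  have h1 : AlgSt.RepByAlgSpWith P (AlgSt.ofSpMap α₀) :=
    repByAlgSpWith_ofSpMap P hPb H G α hα
  exact (repByAlgSpWith_of_square P Φ (AlgSt.ofSpMap α₀) eH eG heH heG sqIso).2 h1

end L1

section L2

variable {S : Scheme.{u}} {𝒜 ℬ 𝒞 : AlgSt.Cat S}

/-- Cancellation: if `ψ` and `φ ≫ ψ` are representable by algebraic spaces with `P`, so is `φ`. -/
theorem repByAlgSpWith_of_comp_of_cancel (P : MorphismProperty (AlgSp.Sp S))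
    (hPb : ∀ ⦃X₁ Y₁ X₂ Y₂ : AlgSp.Sp S⦄, AlgSp.IsAlgSpace X₁ → AlgSp.IsAlgSpace Y₁ → AlgSp.IsAlgSpace X₂ →
      AlgSp.IsAlgSpace Y₂ → ∀ (a : X₁ ⟶ Y₁) (b : Y₂ ⟶ Y₁) (a' : X₂ ⟶ Y₂) (b' : X₂ ⟶ X₁),
      IsPullback b' a' a b → P a → P a')
    (hcancel : ∀ ⦃X Y Z : AlgSp.Sp S⦄, AlgSp.IsAlgSpace X → AlgSp.IsAlgSpace Y → AlgSp.IsAlgSpace Z →
      ∀ (a : X ⟶ Y) (b : Y ⟶ Z), P b → P (a ≫ b) → P a)
    (φ : 𝒜 ⥤ᵇ ℬ) (ψ : ℬ ⥤ᵇ 𝒞) (hψ : AlgSt.RepByAlgSpWith P ψ)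
    (hφψ : AlgSt.RepByAlgSpWith P (BasedFunctor.comp φ ψ)) : AlgSt.RepByAlgSpWith P φ := by
  intro U z
  let z' : FibCat.overCat U ⥤ᵇ 𝒞 := BasedFunctor.comp z ψ
  obtain ⟨G, eG, heG, hb⟩ := hψ U z'
  obtain ⟨H, eH', heH', hc⟩ := hφψ U z'
  let Φ : FibCat.fp (FibCat.fpSnd z' ψ) φ ⥤ᵇ FibCat.fp z' ψ := FibCat.fpFst (FibCat.fpSnd z' ψ) φ
  obtain ⟨R', hR', ⟨ρ₁⟩, ⟨ρ₂⟩⟩ :=
    IsEquivOver.exists_inverse_isEquivOver' (pasteR z' φ ψ) (isEquivOver_pasteR z' φ ψ)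
  let eH : AlgSt.ofSp H.obj ⥤ᵇ FibCat.fp (FibCat.fpSnd z' ψ) φ := BasedFunctor.comp eH' R'
  have heH : FibCat.IsEquivOver eH := IsEquivOver.comp _ _ heH' hR'
  have hc' : P (AlgSt.spMapOfOver (BasedFunctor.comp eH
      (BasedFunctor.comp Φ (FibCat.fpFst z' ψ)))) := by
    have e : BasedFunctor.comp eH (BasedFunctor.comp Φ (FibCat.fpFst z' ψ)) ≅
        BasedFunctor.comp eH' (FibCat.fpFst z' (BasedFunctor.comp φ ψ)) :=
      (whiskerLeftIso eH' (whiskerRightIso ρ₂ (FibCat.fpFst z' (BasedFunctor.comp φ ψ))) :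
        BasedFunctor.comp eH' (BasedFunctor.comp (BasedFunctor.comp R' (pasteR z' φ ψ))
          (FibCat.fpFst z' (BasedFunctor.comp φ ψ))) ≅
        BasedFunctor.comp eH' (BasedFunctor.comp (BasedFunctor.id _)
          (FibCat.fpFst z' (BasedFunctor.comp φ ψ))))
    rw [spMapOfOver_eq_of_iso _ _ e]
    exact hc
  have hΦ : AlgSt.RepByAlgSpWith P Φ :=
    repByAlgSpWith_of_spaces P hPb hcancel Φ H G eH eG heH heG (FibCat.fpFst z' ψ) hb hc'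
  -- the section
  let s : FibCat.overCat U ⥤ᵇ FibCat.fp z' ψ := FibCat.fpLift (BasedFunctor.id _) z (Iso.refl _)
  have h2 := hΦ U s
  have hid := IsEquivOver.isEquivalence (BasedFunctor.id ℬ) (isEquivOver_id _)
  let M : FibCat.fp (BasedFunctor.comp s (FibCat.fpSnd z' ψ)) φ ⥤ᵇ FibCat.fp z φ :=
    fpMap z φ (BasedFunctor.comp s (FibCat.fpSnd z' ψ)) φ
      (BasedFunctor.id _) (BasedFunctor.id _) (BasedFunctor.id _) (Iso.refl _) (Iso.refl _)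
  have hM : FibCat.IsEquivOver M :=
    isEquivOver_fpMap z φ (BasedFunctor.comp s (FibCat.fpSnd z' ψ)) φ
      (BasedFunctor.id _) (BasedFunctor.id _) (BasedFunctor.id _) (Iso.refl _) (Iso.refl _)
      (isEquivOver_id _) (isEquivOver_id _)
  refine repWith_transfer (FibCat.fpFst s Φ) (FibCat.fpFst z φ)
    (BasedFunctor.comp (pasteL φ (FibCat.fpSnd z' ψ) s) M)
    (IsEquivOver.comp _ _ (isEquivOver_pasteL φ (FibCat.fpSnd z' ψ) s) hM) ?_ P h2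
  exact Iso.refl _

end L2

section Main

variable {S : Scheme.{u}} {𝒳 𝒴 𝒵 : AlgSt.Cat S}

/-- If the diagonals of `g` and of `f ≫ g` have `P`, so does the diagonal of `f`, for `P` stable
under base change and satisfying the cancellation law. -/
theorem repByAlgSpWith_diag_of_diag_comp_of_cancel (P : MorphismProperty (AlgSp.Sp S))
    (hPb : ∀ ⦃X₁ Y₁ X₂ Y₂ : AlgSp.Sp S⦄, AlgSp.IsAlgSpace X₁ → AlgSp.IsAlgSpace Y₁ → AlgSp.IsAlgSpace X₂ →
      AlgSp.IsAlgSpace Y₂ → ∀ (a : X₁ ⟶ Y₁) (b : Y₂ ⟶ Y₁) (a' : X₂ ⟶ Y₂) (b' : X₂ ⟶ X₁),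
      IsPullback b' a' a b → P a → P a')
    (hcancel : ∀ ⦃X Y Z : AlgSp.Sp S⦄, AlgSp.IsAlgSpace X → AlgSp.IsAlgSpace Y → AlgSp.IsAlgSpace Z →
      ∀ (a : X ⟶ Y) (b : Y ⟶ Z), P b → P (a ≫ b) → P a)
    (f : 𝒳 ⥤ᵇ 𝒴) (g : 𝒴 ⥤ᵇ 𝒵)
    (hg : AlgSt.RepByAlgSpWith P (FibCat.diag g))
    (hfg : AlgSt.RepByAlgSpWith P (FibCat.diag (BasedFunctor.comp f g))) :
    AlgSt.RepByAlgSpWith P (FibCat.diag f) := by
  have hψ : AlgSt.RepByAlgSpWith P (toRel f f g) := repByAlgSpWith_toRel P f f g hg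
  have hφψ : AlgSt.RepByAlgSpWith P (BasedFunctor.comp (FibCat.diag f) (toRel f f g)) :=
    (repByAlgSpWith_of_square P (FibCat.diag (BasedFunctor.comp f g))
      (BasedFunctor.comp (FibCat.diag f) (toRel f f g)) (BasedFunctor.id _) (BasedFunctor.id _)
      (isEquivOver_id _) (isEquivOver_id _)
      (Groth.Agent.Lib.Helper15DiagComp.diagCompIso f g)).1 hfg
  exact repByAlgSpWith_of_comp_of_cancel P hPb hcancel (FibCat.diag f) (toRel f f g) hψ hφψ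

end Main

end Groth.Agent.Lib.Seat83.DiagCancel
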