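-- helper83 (seat 83): two-property cancellation for functors representable by algebraic spaces
-- (`ψ` has `Q`, `φ ≫ ψ` has `P` ⟹ `φ` has `P`), with the separated and quasi-separated instances.
import Groth.Agent.Lib.Seat83DiagCancel
import Groth.Agent.S10275
import Groth.Agent.S10278
import Groth.Agent.S9919

set_option autoImplicit false
set_option backward.isDefEq.respectTransparency false
set_option backward.isDefEq.respectTransparency.types false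
open CategoryTheory CategoryTheory.Functor CategoryTheory.Limits Opposite AlgebraicGeometry

universe u

namespace Groth.Agent.Lib.Seat83.DiagCancel2

open Groth.Agent.Lib.Helper17 Groth.Agent.Lib.Helper15PshFib Groth.Agent.Lib.Helper15RepComp
  Groth.Agent.Lib.Helper15RepPsh Groth.Agent.Lib.Helper15DiagBase Groth.Agent.Lib.Helper15DiagRepSp
  Groth.Agent.Lib.Helper15Descent Groth.Agent.Lib.Helper15DiagLft
  Groth.Agent.Lib.Helper15.DiagBC Groth.Agent.Lib.Helper15SpMapRep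
  Groth.Agent.Lib.Seat83.DiagCancel

section Cat

variable {C : Type*} [Category C] [HasPullbacks C]

/-- For `P` stable under base change, `P.diagonal (f ≫ g)` implies `P.diagonal f`. -/
theorem diagonal_of_diagonal_comp (P : MorphismProperty C) [P.IsStableUnderBaseChange]
    {X Y Z : C} (f : X ⟶ Y) (g : Y ⟶ Z) (h : P.diagonal (f ≫ g)) : P.diagonal f := by
  let m := (pullbackDiagonalMapIdIso f f g).inv ≫ pullback.snd (pullback.diagonal g)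
    (pullback.map (f ≫ g) (f ≫ g) g g f f (𝟙 _) (Category.comp_id _) (Category.comp_id _))
  have hm : Mono m := inferInstance
  have h' : P (pullback.diagonal f ≫ m) := by
    have := h
    rw [MorphismProperty.diagonal_iff, pullback.diagonal_comp] at this
    exact this
  have top : IsPullback (𝟙 X) (pullback.diagonal f) (pullback.diagonal f) (𝟙 _) :=
    IsPullback.of_horiz_isIso ⟨by simp⟩
  have bot : IsPullback (𝟙 (pullback f f)) (𝟙 _) m m := IsKernelPair.id_of_mono m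
  have sq := top.paste_vert bot
  rw [Category.comp_id] at sq
  exact P.of_isPullback sq h'

end Cat

section L1

variable {S : Scheme.{u}} {𝒜 ℬ : AlgSt.Cat S}

theorem repByAlgSpWith_of_spaces₂ (P Q : MorphismProperty (AlgSp.Sp S))
    (hPb : ∀ ⦃X₁ Y₁ X₂ Y₂ : AlgSp.Sp S⦄, AlgSp.IsAlgSpace X₁ → AlgSp.IsAlgSpace Y₁ → AlgSp.IsAlgSpace X₂ →
      AlgSp.IsAlgSpace Y₂ → ∀ (a : X₁ ⟶ Y₁) (b : Y₂ ⟶ Y₁) (a' : X₂ ⟶ Y₂) (b' : X₂ ⟶ X₁),
      IsPullback b' a' a b → P a → P a')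
    (hcancel : ∀ ⦃X Y Z : AlgSp.Sp S⦄, AlgSp.IsAlgSpace X → AlgSp.IsAlgSpace Y → AlgSp.IsAlgSpace Z →
      ∀ (a : X ⟶ Y) (b : Y ⟶ Z), Q b → P (a ≫ b) → P a)
    (Φ : 𝒜 ⥤ᵇ ℬ) (H G : AlgSp.Space S) (eH : AlgSt.ofSp H.obj ⥤ᵇ 𝒜) (eG : AlgSt.ofSp G.obj ⥤ᵇ ℬ)
    (heH : FibCat.IsEquivOver eH) (heG : FibCat.IsEquivOver eG) {U : Over S}
    (pB : ℬ ⥤ᵇ FibCat.overCat U)
    (hb : Q (AlgSt.spMapOfOver (BasedFunctor.comp eG pB)))
    (hc : P (AlgSt.spMapOfOver (BasedFunctor.comp eH (BasedFunctor.comp Φ pB)))) :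
    AlgSt.RepByAlgSpWith P Φ := by
  obtain ⟨eG', heG', ⟨ι₁⟩, ⟨ι₂⟩⟩ := IsEquivOver.exists_inverse_isEquivOver' eG heG
  let Ψ : AlgSt.ofSp H.obj ⥤ᵇ AlgSt.ofSp G.obj :=
    BasedFunctor.comp eH (BasedFunctor.comp Φ eG')
  let α₀ : H.obj ⟶ G.obj := ObjectProperty.homMk (pshMapOf Ψ)
  let α : H ⟶ G := ObjectProperty.homMk α₀
  have ισ : AlgSt.ofSpMap α₀ ≅ Ψ := ofPshMapIso Ψ
  have sqIso : BasedFunctor.comp (AlgSt.ofSpMap α₀) eG ≅ BasedFunctor.comp eH Φ :=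
    whiskerRightIso ισ eG ≪≫
      (whiskerLeftIso (BasedFunctor.comp eH Φ) ι₂ : BasedFunctor.comp (BasedFunctor.comp eH Φ)
        (BasedFunctor.comp eG' eG) ≅ BasedFunctor.comp (BasedFunctor.comp eH Φ) (BasedFunctor.id _))
  have hα : P α₀ := by
    refine hcancel H.property G.property (AlgSp.IsAlgSpace.yon_obj U) α₀
      (AlgSt.spMapOfOver (BasedFunctor.comp eG pB)) hb ?_
    rw [← spMapOfOver_ofSpMap_comp']
    have e : BasedFunctor.comp (AlgSt.ofSpMap α₀) (BasedFunctor.comp eG pB) ≅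
        BasedFunctor.comp eH (BasedFunctor.comp Φ pB) :=
      (whiskerRightIso sqIso pB : BasedFunctor.comp (BasedFunctor.comp (AlgSt.ofSpMap α₀) eG) pB ≅
        BasedFunctor.comp (BasedFunctor.comp eH Φ) pB)
    rw [spMapOfOver_eq_of_iso _ _ e]
    exact hc
  have h1 : AlgSt.RepByAlgSpWith P (AlgSt.ofSpMap α₀) :=
    repByAlgSpWith_ofSpMap P hPb H G α hα
  exact (repByAlgSpWith_of_square P Φ (AlgSt.ofSpMap α₀) eH eG heH heG sqIso).2 h1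

end L1

section L2

variable {S : Scheme.{u}} {𝒜 ℬ 𝒞 : AlgSt.Cat S}

/-- Cancellation: if `ψ` has `Q` and `φ ≫ ψ` has `P`, then `φ` has `P`. -/
theorem repByAlgSpWith_of_comp_of_cancel₂ (P Q : MorphismProperty (AlgSp.Sp S))
    (hPb : ∀ ⦃X₁ Y₁ X₂ Y₂ : AlgSp.Sp S⦄, AlgSp.IsAlgSpace X₁ → AlgSp.IsAlgSpace Y₁ → AlgSp.IsAlgSpace X₂ →
      AlgSp.IsAlgSpace Y₂ → ∀ (a : X₁ ⟶ Y₁) (b : Y₂ ⟶ Y₁) (a' : X₂ ⟶ Y₂) (b' : X₂ ⟶ X₁),
      IsPullback b' a' a b → P a → P a')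
    (hcancel : ∀ ⦃X Y Z : AlgSp.Sp S⦄, AlgSp.IsAlgSpace X → AlgSp.IsAlgSpace Y → AlgSp.IsAlgSpace Z →
      ∀ (a : X ⟶ Y) (b : Y ⟶ Z), Q b → P (a ≫ b) → P a)
    (φ : 𝒜 ⥤ᵇ ℬ) (ψ : ℬ ⥤ᵇ 𝒞) (hψ : AlgSt.RepByAlgSpWith Q ψ)
    (hφψ : AlgSt.RepByAlgSpWith P (BasedFunctor.comp φ ψ)) : AlgSt.RepByAlgSpWith P φ := by
  intro U z
  let z' : FibCat.overCat U ⥤ᵇ 𝒞 := BasedFunctor.comp z ψ
  obtain ⟨G, eG, heG, hb⟩ := hψ U z'
  obtain ⟨H, eH', heH', hc⟩ := hφψ U z'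
  let Φ : FibCat.fp (FibCat.fpSnd z' ψ) φ ⥤ᵇ FibCat.fp z' ψ := FibCat.fpFst (FibCat.fpSnd z' ψ) φ
  obtain ⟨R', hR', ⟨ρ₁⟩, ⟨ρ₂⟩⟩ :=
    IsEquivOver.exists_inverse_isEquivOver' (pasteR z' φ ψ) (isEquivOver_pasteR z' φ ψ)
  let eH : AlgSt.ofSp H.obj ⥤ᵇ FibCat.fp (FibCat.fpSnd z' ψ) φ := BasedFunctor.comp eH' R'
  have heH : FibCat.IsEquivOver eH := IsEquivOver.comp _ _ heH' hR'
  have hc' : P (AlgSt.spMapOfOver (BasedFunctor.comp eH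
      (BasedFunctor.comp Φ (FibCat.fpFst z' ψ)))) := by
    have e : BasedFunctor.comp eH (BasedFunctor.comp Φ (FibCat.fpFst z' ψ)) ≅
        BasedFunctor.comp eH' (FibCat.fpFst z' (BasedFunctor.comp φ ψ)) :=
      (whiskerLeftIso eH' (whiskerRightIso ρ₂ (FibCat.fpFst z' (BasedFunctor.comp φ ψ))) :
        BasedFunctor.comp eH' (BasedFunctor.comp (BasedFunctor.comp R' (pasteR z' φ ψ))
          (FibCat.fpFst z' (BasedFunctor.comp φ ψ))) ≅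
        BasedFunctor.comp eH' (BasedFunctor.comp (BasedFunctor.id _)
          (FibCat.fpFst z' (BasedFunctor.comp φ ψ))))
    rw [spMapOfOver_eq_of_iso _ _ e]
    exact hc
  have hΦ : AlgSt.RepByAlgSpWith P Φ :=
    repByAlgSpWith_of_spaces₂ P Q hPb hcancel Φ H G eH eG heH heG (FibCat.fpFst z' ψ) hb hc'
  let s : FibCat.overCat U ⥤ᵇ FibCat.fp z' ψ := FibCat.fpLift (BasedFunctor.id _) z (Iso.refl _)
  have h2 := hΦ U s
  have hid := IsEquivOver.isEquivalence (BasedFunctor.id ℬ) (isEquivOver_id _)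
  let M : FibCat.fp (BasedFunctor.comp s (FibCat.fpSnd z' ψ)) φ ⥤ᵇ FibCat.fp z φ :=
    fpMap z φ (BasedFunctor.comp s (FibCat.fpSnd z' ψ)) φ
      (BasedFunctor.id _) (BasedFunctor.id _) (BasedFunctor.id _) (Iso.refl _) (Iso.refl _)
  have hM : FibCat.IsEquivOver M :=
    isEquivOver_fpMap z φ (BasedFunctor.comp s (FibCat.fpSnd z' ψ)) φ
      (BasedFunctor.id _) (BasedFunctor.id _) (BasedFunctor.id _) (Iso.refl _) (Iso.refl _)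
      (isEquivOver_id _) (isEquivOver_id _)
  refine repWith_transfer (FibCat.fpFst s Φ) (FibCat.fpFst z φ)
    (BasedFunctor.comp (pasteL φ (FibCat.fpSnd z' ψ) s) M)
    (IsEquivOver.comp _ _ (isEquivOver_pasteL φ (FibCat.fpSnd z' ψ) s) hM) ?_ P h2
  exact Iso.refl _

end L2

section Main

variable {S : Scheme.{u}} {𝒳 𝒴 𝒵 : AlgSt.Cat S}

/-- If the diagonal of `g` has `Q` and that of `f ≫ g` has `P`, then the diagonal of `f` has `P`. -/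
theorem repByAlgSpWith_diag_of_diag_comp_of_cancel₂ (P Q : MorphismProperty (AlgSp.Sp S))
    (hPb : ∀ ⦃X₁ Y₁ X₂ Y₂ : AlgSp.Sp S⦄, AlgSp.IsAlgSpace X₁ → AlgSp.IsAlgSpace Y₁ → AlgSp.IsAlgSpace X₂ →
      AlgSp.IsAlgSpace Y₂ → ∀ (a : X₁ ⟶ Y₁) (b : Y₂ ⟶ Y₁) (a' : X₂ ⟶ Y₂) (b' : X₂ ⟶ X₁),
      IsPullback b' a' a b → P a → P a')
    (hcancel : ∀ ⦃X Y Z : AlgSp.Sp S⦄, AlgSp.IsAlgSpace X → AlgSp.IsAlgSpace Y → AlgSp.IsAlgSpace Z →
      ∀ (a : X ⟶ Y) (b : Y ⟶ Z), Q b → P (a ≫ b) → P a)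
    (f : 𝒳 ⥤ᵇ 𝒴) (g : 𝒴 ⥤ᵇ 𝒵)
    (hg : AlgSt.RepByAlgSpWith Q (FibCat.diag g))
    (hfg : AlgSt.RepByAlgSpWith P (FibCat.diag (BasedFunctor.comp f g))) :
    AlgSt.RepByAlgSpWith P (FibCat.diag f) := by
  have hψ : AlgSt.RepByAlgSpWith Q (toRel f f g) := repByAlgSpWith_toRel Q f f g hg
  have hφψ : AlgSt.RepByAlgSpWith P (BasedFunctor.comp (FibCat.diag f) (toRel f f g)) :=
    (repByAlgSpWith_of_square P (FibCat.diag (BasedFunctor.comp f g))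
      (BasedFunctor.comp (FibCat.diag f) (toRel f f g)) (BasedFunctor.id _) (BasedFunctor.id _)
      (isEquivOver_id _) (isEquivOver_id _)
      (Groth.Agent.Lib.Helper15DiagComp.diagCompIso f g)).1 hfg
  exact repByAlgSpWith_of_comp_of_cancel₂ P Q hPb hcancel (FibCat.diag f) (toRel f f g) hψ hφψ

/-- Base change of proper morphisms, in the `hPb` form. -/
theorem isProperMor_baseChange ⦃X₁ Y₁ X₂ Y₂ : AlgSp.Sp S⦄ (hX₁ : AlgSp.IsAlgSpace X₁)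
    (hY₁ : AlgSp.IsAlgSpace Y₁) (hX₂ : AlgSp.IsAlgSpace X₂) (hY₂ : AlgSp.IsAlgSpace Y₂)
    (a : X₁ ⟶ Y₁) (b : Y₂ ⟶ Y₁) (a' : X₂ ⟶ Y₂) (b' : X₂ ⟶ X₁)
    (sq : IsPullback b' a' a b) (ha : AlgSp.IsProperMor a) : AlgSp.IsProperMor a' :=
  Groth.Agent.S10275.result (X := ⟨X₁, hX₁⟩) (Y := ⟨Y₁, hY₁⟩) (Y' := ⟨Y₂, hY₂⟩) (X' := ⟨X₂, hX₂⟩)
    (ObjectProperty.homMk a) (ObjectProperty.homMk b) (ObjectProperty.homMk b')
    (ObjectProperty.homMk a') sq ha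

theorem isProperMor_cancel ⦃X Y Z : AlgSp.Sp S⦄ (hX : AlgSp.IsAlgSpace X)
    (hY : AlgSp.IsAlgSpace Y) (hZ : AlgSp.IsAlgSpace Z) (a : X ⟶ Y) (b : Y ⟶ Z)
    (hb : AlgSp.IsSeparatedMor b) (hab : AlgSp.IsProperMor (a ≫ b)) : AlgSp.IsProperMor a :=
  (Groth.Agent.S10278.result (X := ⟨X, hX⟩) (Y := ⟨Y, hY⟩) (B := ⟨Z, hZ⟩)
    (ObjectProperty.homMk a) (ObjectProperty.homMk (a ≫ b)) (ObjectProperty.homMk b) rfl hb).2 hab

/-- If `f ≫ g` is separated and the diagonal of `g` is separated, then `f` is separated. -/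
theorem isSeparatedMor_of_comp (f : 𝒳 ⥤ᵇ 𝒴) (g : 𝒴 ⥤ᵇ 𝒵)
    (hfg : AlgSt.IsSeparatedMor (BasedFunctor.comp f g))
    (hg : AlgSt.RepByAlgSpWith AlgSp.IsSeparatedMor (FibCat.diag g)) : AlgSt.IsSeparatedMor f :=
  repByAlgSpWith_diag_of_diag_comp_of_cancel₂ AlgSp.IsProperMor AlgSp.IsSeparatedMor
    isProperMor_baseChange isProperMor_cancel f g hg hfg

theorem qcqs_baseChange ⦃X₁ Y₁ X₂ Y₂ : AlgSp.Sp S⦄ (_ : AlgSp.IsAlgSpace X₁)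
    (_ : AlgSp.IsAlgSpace Y₁) (_ : AlgSp.IsAlgSpace X₂) (_ : AlgSp.IsAlgSpace Y₂)
    (a : X₁ ⟶ Y₁) (b : Y₂ ⟶ Y₁) (a' : X₂ ⟶ Y₂) (b' : X₂ ⟶ X₁)
    (sq : IsPullback b' a' a b)
    (ha : (AlgSp.IsQuasiCompactMor ⊓ AlgSp.IsQuasiSeparatedMor) a) :
    (AlgSp.IsQuasiCompactMor ⊓ AlgSp.IsQuasiSeparatedMor) a' := by
  refine ⟨?_, ?_⟩
  · intro Z Z' hZ hZqc g fst snd sq'
    exact ha.1 hZ hZqc (g ≫ b) (fst ≫ b') snd (sq'.paste_horiz sq)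
  · have h2 : (AlgSp.RepWith (S := S) @QuasiCompact).diagonal a := ha.2
    exact MorphismProperty.of_isPullback (P := (AlgSp.RepWith (S := S) @QuasiCompact).diagonal) sq h2

theorem qcqs_cancel ⦃X Y Z : AlgSp.Sp S⦄ (hX : AlgSp.IsAlgSpace X)
    (hY : AlgSp.IsAlgSpace Y) (hZ : AlgSp.IsAlgSpace Z) (a : X ⟶ Y) (b : Y ⟶ Z)
    (hb : AlgSp.IsQuasiSeparatedMor b)
    (hab : (AlgSp.IsQuasiCompactMor ⊓ AlgSp.IsQuasiSeparatedMor) (a ≫ b)) :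
    (AlgSp.IsQuasiCompactMor ⊓ AlgSp.IsQuasiSeparatedMor) a := by
  refine ⟨?_, ?_⟩
  · exact Groth.Agent.S9919.result (X := ⟨X, hX⟩) (Y := ⟨Y, hY⟩) (Z := ⟨Z, hZ⟩)
      (ObjectProperty.homMk a) (ObjectProperty.homMk b) hab.1 hb
  · exact diagonal_of_diagonal_comp (AlgSp.RepWith (S := S) @QuasiCompact) a b hab.2

/-- If `f ≫ g` is quasi-separated and the diagonal of `g` is quasi-separated, then `f` is
quasi-separated. -/
theorem isQuasiSeparatedMor_of_comp (f : 𝒳 ⥤ᵇ 𝒴) (g : 𝒴 ⥤ᵇ 𝒵)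
    (hfg : AlgSt.IsQuasiSeparatedMor (BasedFunctor.comp f g))
    (hg : AlgSt.RepByAlgSpWith AlgSp.IsQuasiSeparatedMor (FibCat.diag g)) :
    AlgSt.IsQuasiSeparatedMor f :=
  repByAlgSpWith_diag_of_diag_comp_of_cancel₂ (AlgSp.IsQuasiCompactMor ⊓ AlgSp.IsQuasiSeparatedMor)
    AlgSp.IsQuasiSeparatedMor qcqs_baseChange qcqs_cancel f g hg hfg

end Main

end Groth.Agent.Lib.Seat83.DiagCancel2
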