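-- helper59: open substacks of an algebraic stack, part D: the largest open substack on which a
-- morphism is smooth.
import Mathlib
import Groth.Agent.Lib.Seat59OpenSubC
import Groth.Agent.Lib.Seat59LocQDesc
import Groth.Agent.Lib.Seat83DiagCancel2
import Groth.Agent.Lib.Helper15GoodComp

set_option autoImplicit false
set_option backward.isDefEq.respectTransparency false
set_option backward.isDefEq.respectTransparency.types false
open CategoryTheory CategoryTheory.Functor CategoryTheory.Limits Opposite AlgebraicGeometry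

universe u

namespace Groth.Agent.Lib.Seat59.OpenSubD

open Groth.Agent.Lib.Helper17 Groth.Agent.Lib.Helper15PtsComp Groth.Agent.Lib.Helper15PtsTop
  Groth.Agent.Lib.Seat59.OpenSubA Groth.Agent.Lib.Seat59.OpenSubB Groth.Agent.Lib.Seat59.OpenSubC
  Groth.Agent.Lib.Helper15LocQEngine Groth.Agent.Lib.Helper15DiagLft
  Groth.Agent.Lib.Helper15RepComp Groth.Agent.Lib.Helper15Atlas Groth.Agent.Lib.Helper15SmLoc
  Groth.Agent.Lib.Helper15OpenSub Groth.Agent.Lib.Helper15GoodComp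

section Sp

variable {S : Scheme.{u}}

theorem locP_yon_map_of_smooth {U V : Over S} (h : U ⟶ V) (hh : Smooth h.left) :
    AlgSp.LocP @Smooth ((AlgSp.yon S).map h) := by
  let X : AlgSp.Space S := ⟨(AlgSp.yon S).obj U, AlgSp.IsAlgSpace.yon_obj U⟩
  let Y : AlgSp.Space S := ⟨(AlgSp.yon S).obj V, AlgSp.IsAlgSpace.yon_obj V⟩
  let f : X ⟶ Y := ObjectProperty.homMk ((AlgSp.yon S).map h)
  exact Groth.Agent.S9947.result @Smooth (Or.inr (Or.inr (Or.inr (Or.inl rfl)))) f (𝟙 _) (𝟙 _) h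
    (AlgSp.repWith_id _ U) (AlgSp.repWith_id _ U) (AlgSp.repWith_id _ V)
    (by rw [Category.id_comp, Category.comp_id]; rfl) hh

theorem locP_smooth_of_repWith_etale (X : AlgSp.Space S) (T : Over S)
    (s : X.obj ⟶ (AlgSp.yon S).obj T) (he : AlgSp.RepWith @Etale s) :
    AlgSp.LocP @Smooth s := by
  let TT : AlgSp.Space S := ⟨(AlgSp.yon S).obj T, AlgSp.IsAlgSpace.yon_obj T⟩
  let f : X ⟶ TT := ObjectProperty.homMk s
  have het : AlgSp.IsEtaleMor f.hom := fun V φ hφ => MorphismProperty.comp_mem _ _ _ hφ he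
  exact (Groth.Agent.S10265.result f het).2.1

/-- Cancellation of an open immersion on the right for smoothness of morphisms of sheaves. -/
theorem locP_smooth_cancel_openImm {X Y Z : AlgSp.Sp S} (a : X ⟶ Y) (b : Y ⟶ Z)
    (hb : AlgSp.RepWith @IsOpenImmersion b) (hab : AlgSp.LocP @Smooth (a ≫ b)) :
    AlgSp.LocP @Smooth a := by
  intro U V u v h hu hv comm
  have hb' : AlgSp.RepWith @Etale b :=
    repWith_mono (fun _ _ g hg => by have : IsOpenImmersion g := hg; infer_instance) hb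
  have hvb : AlgSp.RepWith @Etale (v ≫ b) := MorphismProperty.comp_mem _ _ _ hv hb'
  exact hab u (v ≫ b) h hu hvb (by rw [← Category.assoc, comm, Category.assoc])

end Sp

section St

variable {S : Scheme.{u}} {𝒜 ℬ 𝒞 𝒳 𝒴 : AlgSt.Cat S}

theorem smooth_of_isOpenImm (i : 𝒴 ⥤ᵇ 𝒳) (hi : AlgSt.IsOpenImm i) :
    AlgSt.RepByAlgSpWith (AlgSp.LocP @Smooth) i := by
  intro U y
  obtain ⟨F, e, he, hP⟩ := hi U y
  exact ⟨F, e, he, locP_smooth_of_repWith_etale F U _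
    (repWith_mono (fun _ _ g hg => by have : IsOpenImmersion g := hg; infer_instance) hP)⟩

/-- Cancellation of an open immersion on the right for smooth functors. -/
theorem smooth_cancel_openImm (φ : 𝒜 ⥤ᵇ ℬ) (ψ : ℬ ⥤ᵇ 𝒞) (hψ : AlgSt.IsOpenImm ψ)
    (h : AlgSt.RepByAlgSpWith (AlgSp.LocP @Smooth) (BasedFunctor.comp φ ψ)) :
    AlgSt.RepByAlgSpWith (AlgSp.LocP @Smooth) φ :=
  Groth.Agent.Lib.Seat83.DiagCancel2.repByAlgSpWith_of_comp_of_cancel₂ (AlgSp.LocP @Smooth)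
    (AlgSp.RepWith @IsOpenImmersion) bcStable_smooth
    (fun _ _ _ _ _ _ a b hb hab => locP_smooth_cancel_openImm a b hb hab) φ ψ hψ h

/-- A smooth chart of the base change of `f` whose image in the source lies in an open substack
on which `f` is smooth gives a smooth map to the chart of the target. -/
theorem locQ_smooth_of_factors
    (h𝒴 : AlgSt.IsAlgStack Scheme.fppfPrecoverage 𝒴) (f : 𝒳 ⥤ᵇ 𝒴) {V : Over S}
    (y : FibCat.overCat V ⥤ᵇ 𝒴) (Q' : 𝒳.obj → Prop)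
    (hQ' : AlgSt.IsOpenSubstack 𝒳 Q' Scheme.fppfPrecoverage)
    (hf' : AlgSt.LocQ (AlgSp.LocP @Smooth) (BasedFunctor.comp (AlgSt.subIncl 𝒳 Q') f))
    {U : Over S} (z : FibCat.overCat U ⥤ᵇ FibCat.fp f y)
    (hz : AlgSt.RepByAlgSpWith (AlgSp.LocP @Smooth) z)
    (x' : FibCat.overCat U ⥤ᵇ AlgSt.fullSub 𝒳 Q')
    (ε : BasedFunctor.comp x' (AlgSt.subIncl 𝒳 Q') ≅ BasedFunctor.comp z (FibCat.fpFst f y)) :
    AlgSt.LocQ (AlgSp.LocP @Smooth) (BasedFunctor.comp z (FibCat.fpSnd f y)) := by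
  have hpre𝒴 := IsStack.isPrestack _ h𝒴.isStack
  have hV := isAlgStack_overCat V
  have hU := isAlgStack_overCat U
  have hfp' : AlgSt.IsAlgStack Scheme.fppfPrecoverage
      (FibCat.fp (BasedFunctor.comp (AlgSt.subIncl 𝒳 Q') f) y) :=
    isAlgStack_fp_of_isPrestack hpre𝒴 h𝒴.diag hQ'.2.1 hV _ y
  let β : BasedFunctor.comp x' (BasedFunctor.comp (AlgSt.subIncl 𝒳 Q') f) ≅
      BasedFunctor.comp (BasedFunctor.comp z (FibCat.fpSnd f y)) y :=
    (whiskerRightIso ε f : BasedFunctor.comp (BasedFunctor.comp x' (AlgSt.subIncl 𝒳 Q')) f ≅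
      BasedFunctor.comp (BasedFunctor.comp z (FibCat.fpFst f y)) f) ≪≫
    (whiskerLeftIso z (FibCat.fpIso f y) :
      BasedFunctor.comp z (BasedFunctor.comp (FibCat.fpFst f y) f) ≅
        BasedFunctor.comp z (BasedFunctor.comp (FibCat.fpSnd f y) y))
  let lam : FibCat.overCat U ⥤ᵇ FibCat.fp (BasedFunctor.comp (AlgSt.subIncl 𝒳 Q') f) y :=
    FibCat.fpLift x' (BasedFunctor.comp z (FibCat.fpSnd f y)) β
  have hι : AlgSt.IsOpenImm (fpMapLeft (AlgSt.subIncl 𝒳 Q') f y) :=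
    repByAlgSpWith_fpMapLeft _ (AlgSt.subIncl 𝒳 Q') f y hQ'.2.2
  let iso : BasedFunctor.comp lam (fpMapLeft (AlgSt.subIncl 𝒳 Q') f y) ≅ z :=
    fpIsoMk f y (H := BasedFunctor.comp lam (fpMapLeft (AlgSt.subIncl 𝒳 Q') f y)) (K := z)
      ε (Iso.refl _) (fun a => by
        change f.map (ε.hom.toNatTrans.app a) ≫ (z.obj a).obj.iso.hom =
          (𝟙 _ ≫ (BasedFunctor.id 𝒴).map
            (f.map (ε.hom.toNatTrans.app a) ≫ (z.obj a).obj.iso.hom) ≫ 𝟙 _) ≫ y.map (𝟙 _)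
        rw [y.toFunctor.map_id]
        change _ = (𝟙 _ ≫ (f.map (ε.hom.toNatTrans.app a) ≫ (z.obj a).obj.iso.hom) ≫ 𝟙 _) ≫ 𝟙 _
        simp)
  have hlam : AlgSt.RepByAlgSpWith (AlgSp.LocP @Smooth) lam :=
    smooth_cancel_openImm lam _ hι (repByAlgSpWith_of_iso _ iso.symm hz)
  have h2 : AlgSt.LocQ (AlgSp.LocP @Smooth)
      (FibCat.fpSnd (BasedFunctor.comp (AlgSt.subIncl 𝒳 Q') f) y) :=
    Groth.Agent.Lib.Seat59.LocQFlat.locQ_fpSnd _
      Groth.Agent.Lib.Helper15LocQProps.isSmoothLocalST_smooth bcStable_smooth h𝒴 hV _ y hf'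
  exact Groth.Agent.Lib.Seat59.LocQDesc.locQ_smooth_comp _
    Groth.Agent.Lib.Helper15LocQProps.isSmoothLocalST_smooth hU hfp' hV lam hlam _ h2

/-- There is a largest open substack on which a morphism of algebraic stacks is smooth. -/
theorem exists_largest_smooth (h𝒳 : AlgSt.IsAlgStack Scheme.fppfPrecoverage 𝒳)
    (h𝒴 : AlgSt.IsAlgStack Scheme.fppfPrecoverage 𝒴) (f : 𝒳 ⥤ᵇ 𝒴) :
    ∃ Q : 𝒳.obj → Prop, AlgSt.IsOpenSubstack 𝒳 Q Scheme.fppfPrecoverage ∧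
      AlgSt.LocQ (AlgSp.LocP @Smooth) (BasedFunctor.comp (AlgSt.subIncl 𝒳 Q) f) ∧
      ∀ Q' : 𝒳.obj → Prop, AlgSt.IsOpenSubstack 𝒳 Q' Scheme.fppfPrecoverage →
        AlgSt.LocQ (AlgSp.LocP @Smooth) (BasedFunctor.comp (AlgSt.subIncl 𝒳 Q') f) →
          ∀ a, Q' a → Q a := by
  obtain ⟨W, hWdef⟩ : ∃ W : Set (AlgSt.Points 𝒳), W = ⋃ (Q' : 𝒳.obj → Prop)
      (_ : AlgSt.IsOpenSubstack 𝒳 Q' Scheme.fppfPrecoverage ∧
        AlgSt.LocQ (AlgSp.LocP @Smooth) (BasedFunctor.comp (AlgSt.subIncl 𝒳 Q') f)),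
      Set.range (AlgSt.Points.map (AlgSt.subIncl 𝒳 Q')) := ⟨_, rfl⟩
  have hW : IsOpen W := by
    rw [hWdef]
    exact isOpen_iUnion (fun Q' => isOpen_iUnion (fun h => isOpen_range_subIncl h𝒳 Q' h.1))
  have hQ := isOpenSubstack_qW h𝒳 W hW
  refine ⟨QW W, hQ, ?_, fun Q' hQ' hf' a ha => ?_⟩
  swap
  · refine qW_mono ?_ a (qW_range_of_q h𝒳 Q' hQ' a ha)
    rw [hWdef]
    exact Set.subset_iUnion₂ (s := fun (Q' : 𝒳.obj → Prop)
      (_ : AlgSt.IsOpenSubstack 𝒳 Q' Scheme.fppfPrecoverage ∧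
        AlgSt.LocQ (AlgSp.LocP @Smooth) (BasedFunctor.comp (AlgSt.subIncl 𝒳 Q') f)) =>
      Set.range (AlgSt.Points.map (AlgSt.subIncl 𝒳 Q'))) Q' ⟨hQ', hf'⟩
  have h𝒰 := hQ.2.1
  have hpre𝒴 := IsStack.isPrestack _ h𝒴.isStack
  obtain ⟨U, V, x, y, h, α, hx₁, hx₂, hy₁, -, hℓ⟩ :=
    exists_good_square h𝒰 h𝒴 (BasedFunctor.comp (AlgSt.subIncl 𝒳 (QW W)) f)
  refine ⟨U, V, x, y, h, α, hx₁, hx₂, hy₁, locP_yon_map_of_smooth h ?_⟩
  have hV := isAlgStack_overCat V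
  have hUf : FibCat.IsFibGrpd (FibCat.overCat U).p := (isFibSet_overForget U).1
  have hfpφ : AlgSt.IsAlgStack Scheme.fppfPrecoverage
      (FibCat.fp (BasedFunctor.comp (AlgSt.subIncl 𝒳 (QW W)) f) y) :=
    isAlgStack_fp_of_isPrestack hpre𝒴 h𝒴.diag h𝒰 hV _ y
  have hι : AlgSt.RepByAlgSpWith (AlgSp.LocP @Smooth) (fpMapLeft (AlgSt.subIncl 𝒳 (QW W)) f y) :=
    smooth_of_isOpenImm _ (repByAlgSpWith_fpMapLeft _ (AlgSt.subIncl 𝒳 (QW W)) f y hQ.2.2)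
  have hℓι : AlgSt.RepByAlgSpWith (AlgSp.LocP @Smooth)
      (BasedFunctor.comp (FibCat.fpLift x (AlgSt.overMap h) α)
        (fpMapLeft (AlgSt.subIncl 𝒳 (QW W)) f y)) :=
    repByAlgSpWith_comp_of_compCond hUf hfpφ.isStack.1 _ compCond_smooth _ _ hℓ hι
  have key : ∀ u : ↥U.left, ∃ U₁ : U.left.Opens, u ∈ U₁ ∧ Smooth (U₁.ι ≫ h.left) := by
    intro u
    have hu : AlgSt.Points.ofChart (BasedFunctor.comp x (AlgSt.subIncl 𝒳 (QW W))) u ∈ W :=
      (range_points_map_subIncl_qW W).subset ⟨AlgSt.Points.ofChart x u, rfl⟩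
    obtain ⟨Q', hQ'mem, hu'⟩ := Set.mem_iUnion₂.1 (hWdef.subset hu)
    have hW' := isOpen_range_subIncl h𝒳 Q' hQ'mem.1
    have hcont := continuous_ofChart h𝒳 (BasedFunctor.comp x (AlgSt.subIncl 𝒳 (QW W)))
    obtain ⟨U₁, hU₁⟩ : ∃ U₁ : U.left.Opens, U₁ = ⟨_, hW'.preimage hcont⟩ := ⟨_, rfl⟩
    have H : ∀ c : Over U, Q' ((BasedFunctor.comp x (AlgSt.subIncl 𝒳 (QW W))).obj c) ↔
        ∀ t : ↥c.left.left, c.hom.left t ∈ U₁ := fun c => by
      rw [hU₁]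
      exact (q_iff_qW_range h𝒳 Q' hQ'mem.1 _).trans (qW_chart_iff h𝒳.isStack.1 _ _ c)
    refine ⟨U₁, by rw [hU₁]; exact hu', ?_⟩
    have hz : AlgSt.RepByAlgSpWith (AlgSp.LocP @Smooth)
        (BasedFunctor.comp (AlgSt.overMap (openIncl U₁))
          (BasedFunctor.comp (FibCat.fpLift x (AlgSt.overMap h) α)
            (fpMapLeft (AlgSt.subIncl 𝒳 (QW W)) f y))) :=
      Groth.Agent.Lib.Helper15PtsQc.smooth_overMap_comp (openIncl U₁)
        (inferInstance : Etale U₁.ι) _ hℓι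
    have hL := locQ_smooth_of_factors h𝒴 f y Q' hQ'mem.1 hQ'mem.2 _ hz
      (chartSub Q' (BasedFunctor.comp x (AlgSt.subIncl 𝒳 (QW W))) U₁ H) (Iso.refl _)
    have hL' : AlgSt.LocQ (AlgSp.LocP @Smooth) (AlgSt.overMap (openIncl U₁ ≫ h)) :=
      Groth.Agent.Lib.Seat59.LocQFlat.locQ_of_iso _ (overMapCompIso (openIncl U₁) h) hL
    exact AlgSp.locP_yon_map (Groth.Agent.Lib.Seat59.LocQDesc.prop_of_locQ_overMap _
      Groth.Agent.Lib.Helper15LocQProps.isSmoothLocalST_smooth _ hL')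
  choose U₁ hmem hsm using key
  refine IsZariskiLocalAtSource.of_iSup_eq_top (P := @Smooth) U₁ ?_ hsm
  rw [eq_top_iff]
  intro u _
  exact TopologicalSpace.Opens.mem_iSup.2 ⟨u, hmem u⟩

end St

end Groth.Agent.Lib.Seat59.OpenSubD
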