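-- helper59: open substacks of an algebraic stack, part E: the open image of a smooth chart.
import Mathlib
import Groth.Agent.Lib.Seat59OpenSubD
import Groth.Agent.Lib.Helper15SpMapRep

set_option autoImplicit false
set_option backward.isDefEq.respectTransparency false
set_option backward.isDefEq.respectTransparency.types false
open CategoryTheory CategoryTheory.Functor CategoryTheory.Limits Opposite AlgebraicGeometry

universe u

namespace Groth.Agent.Lib.Seat59.OpenSubE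

open Groth.Agent.Lib.Helper17 Groth.Agent.Lib.Helper15PtsComp Groth.Agent.Lib.Helper15PtsTop
  Groth.Agent.Lib.Seat59.OpenSubA Groth.Agent.Lib.Seat59.OpenSubB Groth.Agent.Lib.Seat59.OpenSubC
  Groth.Agent.Lib.Seat59.OpenSubD
  Groth.Agent.Lib.Helper15LocQEngine Groth.Agent.Lib.Helper15DiagLft
  Groth.Agent.Lib.Helper15RepComp Groth.Agent.Lib.Helper15Atlas Groth.Agent.Lib.Helper15SmLoc
  Groth.Agent.Lib.Helper15OpenSub

variable {S : Scheme.{u}} {𝒵 𝒳 : AlgSt.Cat S}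

/-- Every object in the image of a functor has all its points in the image on points. -/
theorem qW_range_obj (h𝒵 : FibCat.IsFibGrpd 𝒵.p) (h𝒳 : FibCat.IsFibGrpd 𝒳.p) (ψ : 𝒵 ⥤ᵇ 𝒳)
    (a : 𝒵.obj) : QW (Set.range (AlgSt.Points.map ψ)) (ψ.obj a) := by
  rintro p ⟨m⟩
  obtain ⟨z', -, e, -, hz'⟩ := exists_lift_over_map h𝒵 h𝒳 ψ (r := p.obj) (z := a) m
  refine ⟨AlgSt.Points.mk { K := p.K, str := p.str, obj := z', lies := hz'.trans p.lies }, ?_⟩
  rw [AlgSt.Points.map_mk]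
  apply AlgSt.Points.sound
  exact ⟨_, 𝟙 _, e.hom, trivial⟩

/-- The inclusion of the full subcategory on a predicate stable under pullback is injective on
points. -/
theorem points_map_subIncl_injective (h𝒳 : FibCat.IsFibGrpd 𝒳.p) (Q : 𝒳.obj → Prop)
    (hQ : ∀ ⦃b a : 𝒳.obj⦄ (_ : b ⟶ a), Q a → Q b) :
    Function.Injective (AlgSt.Points.map (AlgSt.subIncl 𝒳 Q)) := by
  intro x y hxy
  obtain ⟨p, rfl⟩ := AlgSt.Points.mk_surjective x
  obtain ⟨q, rfl⟩ := AlgSt.Points.mk_surjective y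
  rw [AlgSt.Points.map_mk, AlgSt.Points.map_mk] at hxy
  obtain ⟨r, a, b, -⟩ := fpt_rel_of_mk_eq h𝒳 hxy
  have hr : Q r.obj := hQ a p.obj.property
  apply AlgSt.Points.sound
  exact ⟨{ K := r.K, str := r.str, obj := ⟨r.obj, hr⟩, lies := r.lies },
    ObjectProperty.homMk a, ObjectProperty.homMk b, trivial⟩

/-- The factorisation of a functor through the substack attached to its image on points. -/
def toImage (h𝒵 : FibCat.IsFibGrpd 𝒵.p) (h𝒳 : FibCat.IsFibGrpd 𝒳.p) (ψ : 𝒵 ⥤ᵇ 𝒳) :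
    𝒵 ⥤ᵇ AlgSt.fullSub 𝒳 (QW (Set.range (AlgSt.Points.map ψ))) where
  toFunctor := ObjectProperty.lift _ ψ.toFunctor (qW_range_obj h𝒵 h𝒳 ψ)
  w := ψ.w

theorem toImage_comp (h𝒵 : FibCat.IsFibGrpd 𝒵.p) (h𝒳 : FibCat.IsFibGrpd 𝒳.p) (ψ : 𝒵 ⥤ᵇ 𝒳) :
    BasedFunctor.comp (toImage h𝒵 h𝒳 ψ) (AlgSt.subIncl 𝒳 _) = ψ := rfl

theorem isSurjective_toImage (h𝒵 : FibCat.IsFibGrpd 𝒵.p) (h𝒳 : FibCat.IsFibGrpd 𝒳.p)
    (ψ : 𝒵 ⥤ᵇ 𝒳) : AlgSt.IsSurjective (toImage h𝒵 h𝒳 ψ) := by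
  intro w
  have hw : AlgSt.Points.map (AlgSt.subIncl 𝒳 _) w ∈ Set.range (AlgSt.Points.map ψ) :=
    (range_points_map_subIncl_qW _).subset ⟨w, rfl⟩
  obtain ⟨v, hv⟩ := hw
  refine ⟨v, points_map_subIncl_injective h𝒳 _ (fun _ _ m h => qW_of_hom _ m h) ?_⟩
  rw [← points_map_comp]
  exact hv

/-- The open image of an open subspace of a smooth chart. -/
theorem exists_open_image_chart (h𝒳 : AlgSt.IsAlgStack Scheme.fppfPrecoverage 𝒳)
    (U : AlgSp.Space S) (u : AlgSt.ofSp U.obj ⥤ᵇ 𝒳)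
    (hu₁ : AlgSt.RepByAlgSpWith (AlgSp.LocP @Smooth) u)
    (V : AlgSp.Space S) (j : V ⟶ U) (hj : AlgSp.RepWith @IsOpenImmersion j.hom) :
    ∃ (𝒴 : AlgSt.Cat S) (i : 𝒴 ⥤ᵇ 𝒳) (g : AlgSt.ofSp V.obj ⥤ᵇ 𝒴),
      AlgSt.IsAlgStack Scheme.fppfPrecoverage 𝒴 ∧ AlgSt.IsOpenImm i ∧
        AlgSt.RepByAlgSpWith (AlgSp.LocP @Smooth) g ∧
          AlgSt.RepByAlgSpWith AlgSp.IsSurjectiveMor g ∧
            Nonempty (BasedFunctor.comp g i ≅ BasedFunctor.comp (AlgSt.ofSpMap j.hom) u) := by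
  have hfibV : FibCat.IsFibGrpd (AlgSt.ofSp V.obj).p := (isAlgStack_ofSp V).isStack.1
  have hfibU : FibCat.IsFibGrpd (AlgSt.ofSp U.obj).p := (isAlgStack_ofSp U).isStack.1
  have hfib𝒳 : FibCat.IsFibGrpd 𝒳.p := h𝒳.isStack.1
  have hjet : AlgSp.IsEtaleMor j.hom := fun T φ hφ => MorphismProperty.comp_mem _ _ _ hφ
    (repWith_mono (fun _ _ g hg => by have : IsOpenImmersion g := hg; infer_instance) hj)
  have hjsm : AlgSp.LocP @Smooth j.hom := (Groth.Agent.S10265.result j hjet).2.1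
  have hj' : AlgSt.RepByAlgSpWith (AlgSp.LocP @Smooth) (AlgSt.ofSpMap j.hom) :=
    Groth.Agent.Lib.Helper15SpMapRep.repByAlgSpWith_ofSpMap (AlgSp.LocP @Smooth)
      bcStable_smooth V U j hjsm
  have hψ : AlgSt.RepByAlgSpWith (AlgSp.LocP @Smooth)
      (BasedFunctor.comp (AlgSt.ofSpMap j.hom) u) :=
    repByAlgSpWith_comp_of_compCond hfibV hfibU _ compCond_smooth _ _ hj' hu₁
  have hopen : IsOpen (Set.range (AlgSt.Points.map (BasedFunctor.comp (AlgSt.ofSpMap j.hom) u))) :=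
    (isOpenMap_points_map_of_flat_lfp_space h𝒳 V _ (flat_of_smooth hψ)
      (lfp_of_smooth hψ)).isOpen_range
  have hQ := isOpenSubstack_qW h𝒳 _ hopen
  have hg : AlgSt.RepByAlgSpWith (AlgSp.LocP @Smooth)
      (toImage hfibV hfib𝒳 (BasedFunctor.comp (AlgSt.ofSpMap j.hom) u)) :=
    smooth_cancel_openImm _ _ hQ.2.2 hψ
  refine ⟨AlgSt.fullSub 𝒳 (QW (Set.range (AlgSt.Points.map
      (BasedFunctor.comp (AlgSt.ofSpMap j.hom) u)))), AlgSt.subIncl 𝒳 _,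
    toImage hfibV hfib𝒳 (BasedFunctor.comp (AlgSt.ofSpMap j.hom) u), hQ.2.1, hQ.2.2, hg, ?_,
    ⟨Iso.refl _⟩⟩
  exact (isSurjective_iff_repByAlgSpWith (isAlgStack_ofSp V) hQ.2.1 _
    (fun T y => (hg T y).imp fun F hF => hF.imp fun e he => he.1)).1 (isSurjective_toImage hfibV hfib𝒳 _)

end Groth.Agent.Lib.Seat59.OpenSubE
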