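-- helper59: open substacks of an algebraic stack, part F: preimages of substacks, cancellation of
-- the inclusion of a substack for `LocQ`, openness of smooth functors on points, smooth descent
-- on the source for `LocQ`.
import Mathlib
import Groth.Agent.Lib.Seat59OpenSubE
import Groth.Agent.Lib.Helper12SmoothST

set_option autoImplicit false
set_option backward.isDefEq.respectTransparency false
set_option backward.isDefEq.respectTransparency.types false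
open CategoryTheory CategoryTheory.Functor CategoryTheory.Limits Opposite AlgebraicGeometry

universe u

namespace Groth.Agent.Lib.Seat59.OpenSubF

open Groth.Agent.Lib.Helper17 Groth.Agent.Lib.Helper15PtsComp Groth.Agent.Lib.Helper15PtsTop
  Groth.Agent.Lib.Seat59.OpenSubA Groth.Agent.Lib.Seat59.OpenSubB Groth.Agent.Lib.Seat59.OpenSubC
  Groth.Agent.Lib.Seat59.OpenSubD Groth.Agent.Lib.Seat59.OpenSubE
  Groth.Agent.Lib.Helper15LocQEngine Groth.Agent.Lib.Helper15DiagLft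
  Groth.Agent.Lib.Helper15RepComp Groth.Agent.Lib.Helper15Atlas Groth.Agent.Lib.Helper15SmLoc
  Groth.Agent.Lib.Helper15OpenSub Groth.Agent.Lib.Helper15GoodComp

section Pre

variable {S : Scheme.{u}} {𝒵 𝒳 : AlgSt.Cat S}

/-- The substack attached to the preimage of a set of points is the preimage of the substack. -/
theorem qW_preimage_iff (h𝒵 : FibCat.IsFibGrpd 𝒵.p) (h𝒳 : FibCat.IsFibGrpd 𝒳.p) (g : 𝒵 ⥤ᵇ 𝒳)
    (W : Set (AlgSt.Points 𝒳)) (a : 𝒵.obj) :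
    QW (AlgSt.Points.map g ⁻¹' W) a ↔ QW W (g.obj a) := by
  constructor
  · rintro h p ⟨m⟩
    obtain ⟨z', π, e, -, hz'⟩ := exists_lift_over_map h𝒵 h𝒳 g (r := p.obj) (z := a) m
    have h1 := h { K := p.K, str := p.str, obj := z', lies := hz'.trans p.lies } ⟨π⟩
    have h2 : AlgSt.Points.map g (AlgSt.Points.mk
        { K := p.K, str := p.str, obj := z', lies := hz'.trans p.lies }) = AlgSt.Points.mk p := by
      rw [AlgSt.Points.map_mk]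
      apply AlgSt.Points.sound
      exact ⟨_, 𝟙 _, e.hom, trivial⟩
    rw [Set.mem_preimage, h2] at h1
    exact h1
  · rintro h p ⟨m⟩
    rw [Set.mem_preimage, AlgSt.Points.map_mk]
    exact h _ ⟨g.map m⟩

end Pre

section Graph

variable {S : Scheme.{u}} {𝒜 𝒳 : AlgSt.Cat S} (Q : 𝒳.obj → Prop) (φ : 𝒜 ⥤ᵇ AlgSt.fullSub 𝒳 Q)

/-- The graph of a functor to a full subcategory, as a functor to the 2-fibre product of its
composite with the inclusion and the inclusion. -/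
def graphSub : 𝒜 ⥤ᵇ
    FibCat.fp (BasedFunctor.comp φ (AlgSt.subIncl 𝒳 Q)) (AlgSt.subIncl 𝒳 Q) :=
  FibCat.fpLift (BasedFunctor.id 𝒜) φ (Iso.refl _)

theorem graphSub_comp_fpSnd :
    BasedFunctor.comp (graphSub Q φ)
      (FibCat.fpSnd (BasedFunctor.comp φ (AlgSt.subIncl 𝒳 Q)) (AlgSt.subIncl 𝒳 Q)) = φ := rfl

theorem graphSub_faithful : (graphSub Q φ).toFunctor.Faithful := by
  refine ⟨fun {d d'} m m' h => ?_⟩
  exact congrArg (fun k => k.hom.fst) h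

theorem graphSub_full : (graphSub Q φ).toFunctor.Full := by
  refine ⟨fun {d d'} n => ⟨n.hom.fst, ?_⟩⟩
  apply ObjectProperty.hom_ext
  apply Limits.CategoricalPullback.hom_ext
  · rfl
  · apply ObjectProperty.hom_ext
    have h2 := n.hom.w
    change (φ.map n.hom.fst).hom ≫ 𝟙 _ = 𝟙 _ ≫ n.hom.snd.hom at h2
    rw [Category.comp_id, Category.id_comp] at h2
    change (φ.map n.hom.fst).hom = n.hom.snd.hom
    exact h2

theorem graphSub_essSurjOver : EssSurjOver (graphSub Q φ) := by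
  intro q
  let i₂ : φ.obj q.obj.fst ≅ q.obj.snd := ObjectProperty.isoMk _ q.obj.iso
  have hw : (BasedFunctor.comp φ (AlgSt.subIncl 𝒳 Q)).map (Iso.refl q.obj.fst).hom ≫ q.obj.iso.hom =
      ((graphSub Q φ).obj q.obj.fst).obj.iso.hom ≫ (AlgSt.subIncl 𝒳 Q).map i₂.hom := by
    change (BasedFunctor.comp φ (AlgSt.subIncl 𝒳 Q)).map (𝟙 _) ≫ q.obj.iso.hom =
      𝟙 _ ≫ q.obj.iso.hom
    rw [(BasedFunctor.comp φ (AlgSt.subIncl 𝒳 Q)).toFunctor.map_id]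
  refine ⟨q.obj.fst, ObjectProperty.isoMk _ (Limits.CategoricalPullback.mkIso
    (x := ((graphSub Q φ).obj q.obj.fst).obj) (y := q.obj) (Iso.refl _) i₂ hw), ?_⟩
  rw [fp_isHomLift_iff]
  exact IsHomLift.id rfl

theorem isEquivOver_graphSub : FibCat.IsEquivOver (graphSub Q φ) := by
  have := graphSub_faithful Q φ
  have := graphSub_full Q φ
  exact isEquivOver_of_fullyFaithful_of_essSurjOver _ (graphSub_essSurjOver Q φ)

/-- Cancellation of the inclusion of a substack on the right for `LocQ`. -/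
theorem locQ_cancel_subIncl (P : MorphismProperty (AlgSp.Sp S)) (hP : AlgSp.IsSmoothLocalST P)
    (hPb : BCStable P) (h𝒳 : AlgSt.IsAlgStack Scheme.fppfPrecoverage 𝒳)
    (hQ : AlgSt.IsAlgStack Scheme.fppfPrecoverage (AlgSt.fullSub 𝒳 Q))
    (h : AlgSt.LocQ P (BasedFunctor.comp φ (AlgSt.subIncl 𝒳 Q))) : AlgSt.LocQ P φ := by
  have h1 : AlgSt.LocQ P
      (FibCat.fpSnd (BasedFunctor.comp φ (AlgSt.subIncl 𝒳 Q)) (AlgSt.subIncl 𝒳 Q)) :=
    Groth.Agent.Lib.Seat59.LocQFlat.locQ_fpSnd P hP hPb h𝒳 hQ _ _ h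
  exact Groth.Agent.Lib.Seat59.LocQFlat.locQ_equiv_comp P (graphSub Q φ)
    (isEquivOver_graphSub Q φ) _ h1

end Graph

section Desc

variable {S : Scheme.{u}} {𝒳 𝒴 𝒵 : AlgSt.Cat S}

/-- A smooth functor between algebraic stacks is open on points. -/
theorem isOpenMap_points_map_of_locQ_smooth (h𝒳 : AlgSt.IsAlgStack Scheme.fppfPrecoverage 𝒳)
    (h𝒴 : AlgSt.IsAlgStack Scheme.fppfPrecoverage 𝒴) (f : 𝒳 ⥤ᵇ 𝒴)
    (hf : AlgSt.LocQ (AlgSp.LocP @Smooth) f) : IsOpenMap (AlgSt.Points.map f) := by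
  obtain ⟨U, V, x, y, h, α, hx₁, hx₂, hy₁, -, hℓ⟩ := exists_good_square h𝒳 h𝒴 f
  have hsm : Smooth h.left := AlgSp.locP_yon_map
    ((locQ_iff_forall_good _ Groth.Agent.Lib.Helper15LocQProps.isSmoothLocalST_smooth h𝒳 h𝒴 f).1
      hf U V x y h α hx₁ hy₁ hℓ)
  have hopen := isOpenMap_ofChart h𝒴 y (flat_of_smooth hy₁) (lfp_of_smooth hy₁)
  have hcont := continuous_ofChart h𝒳 x
  have hsurj := surjective_ofChart h𝒳 x hx₂
  intro B hB
  have h3 : AlgSt.Points.map f '' B =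
      AlgSt.Points.ofChart y '' (h.left '' (AlgSt.Points.ofChart x ⁻¹' B)) := by
    have h4 : AlgSt.Points.map f ∘ AlgSt.Points.ofChart x = AlgSt.Points.ofChart y ∘ h.left := by
      funext t
      change AlgSt.Points.ofChart (BasedFunctor.comp x f) t = _
      rw [ofChart_congr α, ofChart_overMap]
      rfl
    rw [← Set.image_comp, ← h4, Set.image_comp, Set.image_preimage_eq _ hsurj]
  rw [h3]
  exact hopen _ (h.left.isOpenMap _ (hcont.isOpen_preimage B hB))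

/-- If `f` is smooth and surjective, `P` is smooth local on source-and-target, and `f ≫ g` has
`P`, then `g` has `P`. -/
theorem locQ_of_comp_smooth (P : MorphismProperty (AlgSp.Sp S)) (hP : AlgSp.IsSmoothLocalST P)
    (h𝒳 : AlgSt.IsAlgStack Scheme.fppfPrecoverage 𝒳)
    (h𝒴 : AlgSt.IsAlgStack Scheme.fppfPrecoverage 𝒴)
    (h𝒵 : AlgSt.IsAlgStack Scheme.fppfPrecoverage 𝒵) (f : 𝒳 ⥤ᵇ 𝒴) (g : 𝒴 ⥤ᵇ 𝒵)
    (hf₁ : AlgSt.LocQ (AlgSp.LocP @Smooth) f)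
    (hf₃ : AlgSt.IsSurjective f) (hfg : AlgSt.LocQ P (BasedFunctor.comp f g)) :
    AlgSt.LocQ P g := by
  obtain ⟨U, V, W, x, y, z, h, k, α, β, hx₁, hx₂, hy₁, hy₂, hz₁, hz₂, hα₁, hα₂, hβ₁, hβ₂, hγ⟩ :=
    exists_good_squares h𝒳 h𝒴 h𝒵 f g
  have hPhk : P ((AlgSp.yon S).map (h ≫ k)) :=
    (locQ_iff_forall_good _ hP h𝒳 h𝒵 (BasedFunctor.comp f g)).1 hfg U W x z (h ≫ k) _ hx₁ hz₁ hγ
  have hsm : AlgSp.LocP @Smooth ((AlgSp.yon S).map h) :=
    (locQ_iff_forall_good _ Groth.Agent.Lib.Helper15LocQProps.isSmoothLocalST_smooth h𝒳 h𝒴 f).1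
      hf₁ U V x y h α hx₁ hy₁ hα₁
  have hs : Function.Surjective h.left :=
    Groth.Agent.Lib.Seat59.LocQFlat.surjective_left_of_square h𝒳 h𝒴 f hf₃ x y h α hα₂
  have hcov : AlgSp.IsSmCover (fun _ : PUnit.{u + 1} => (AlgSp.yon S).obj U)
      (fun _ => (AlgSp.yon S).map h) := by
    refine ⟨fun _ => hsm, fun t => ?_⟩
    obtain ⟨v, hv⟩ := hs (AlgSp.Points.toScheme V t)
    refine ⟨PUnit.unit, AlgSp.Points.ofScheme U v, ?_⟩
    rw [Groth.Agent.Lib.Helper15LocEss.points_map_yon_ofScheme, hv,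
      AlgSp.Points.ofScheme_toScheme]
  have hPk : P ((AlgSp.yon S).map k) :=
    (Groth.Agent.Lib.Helper12.SmoothST.isLocalOnSource_of_isSmoothLocalST hP
      (fun _ : PUnit.{u + 1} => (AlgSp.yon S).obj U) (fun _ => (AlgSp.yon S).map h)
      (AlgSp.IsAlgSpace.yon_obj V) (fun _ => AlgSp.IsAlgSpace.yon_obj U) hcov
      ((AlgSp.yon S).map k) (AlgSp.IsAlgSpace.yon_obj W)).2
      (fun _ => by rw [← Functor.map_comp]; exact hPhk)
  exact ⟨V, W, y, z, k, β, hy₁, hy₂, hz₁, hPk⟩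

end Desc

section Main

variable {S : Scheme.{u}} {𝒳' 𝒳 𝒴 : AlgSt.Cat S}

/-- The restriction of a functor to the preimage of a full subcategory. -/
def restrictSub (Q : 𝒳.obj → Prop) (g : 𝒳' ⥤ᵇ 𝒳) :
    AlgSt.fullSub 𝒳' (fun a => Q (g.obj a)) ⥤ᵇ AlgSt.fullSub 𝒳 Q where
  toFunctor := ObjectProperty.lift Q
    (BasedFunctor.comp (AlgSt.subIncl 𝒳' (fun a => Q (g.obj a))) g).toFunctor (fun a => a.property)
  w := (BasedFunctor.comp (AlgSt.subIncl 𝒳' (fun a => Q (g.obj a))) g).w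

theorem restrictSub_comp (Q : 𝒳.obj → Prop) (g : 𝒳' ⥤ᵇ 𝒳) :
    BasedFunctor.comp (restrictSub Q g) (AlgSt.subIncl 𝒳 Q) =
      BasedFunctor.comp (AlgSt.subIncl 𝒳' (fun a => Q (g.obj a))) g := rfl

/-- The preimage of an open substack is an open substack. -/
theorem isOpenSubstack_preimage (h𝒳' : AlgSt.IsAlgStack Scheme.fppfPrecoverage 𝒳')
    (h𝒳 : AlgSt.IsAlgStack Scheme.fppfPrecoverage 𝒳) (g : 𝒳' ⥤ᵇ 𝒳) (Q : 𝒳.obj → Prop)
    (hQ₁ : AlgSt.IsOpenSubstack 𝒳 Q Scheme.fppfPrecoverage) :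
    AlgSt.IsOpenSubstack 𝒳' (fun a => Q (g.obj a)) Scheme.fppfPrecoverage := by
  have hW := isOpen_range_subIncl h𝒳 Q hQ₁
  have hW' : IsOpen (AlgSt.Points.map g ⁻¹' Set.range (AlgSt.Points.map (AlgSt.subIncl 𝒳 Q))) :=
    hW.preimage (continuous_points_map h𝒳 g)
  have hpred : (fun a => Q (g.obj a)) =
      QW (AlgSt.Points.map g ⁻¹' Set.range (AlgSt.Points.map (AlgSt.subIncl 𝒳 Q))) := by
    funext a
    apply propext
    exact (q_iff_qW_range h𝒳 Q hQ₁ (g.obj a)).trans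
      (qW_preimage_iff h𝒳'.isStack.1 h𝒳.isStack.1 g _ a).symm
  rw [hpred]
  exact isOpenSubstack_qW h𝒳' _ hW'

/-- Formation of the largest open substack on which a morphism is smooth commutes with smooth
precomposition. -/
theorem largest_smooth_precomp (h𝒳' : AlgSt.IsAlgStack Scheme.fppfPrecoverage 𝒳')
    (h𝒳 : AlgSt.IsAlgStack Scheme.fppfPrecoverage 𝒳)
    (h𝒴 : AlgSt.IsAlgStack Scheme.fppfPrecoverage 𝒴)
    (g : 𝒳' ⥤ᵇ 𝒳) (hg : AlgSt.LocQ (AlgSp.LocP @Smooth) g) (f : 𝒳 ⥤ᵇ 𝒴)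
    (Q : 𝒳.obj → Prop) (hQ₁ : AlgSt.IsOpenSubstack 𝒳 Q Scheme.fppfPrecoverage)
    (hQ₂ : AlgSt.LocQ (AlgSp.LocP @Smooth) (BasedFunctor.comp (AlgSt.subIncl 𝒳 Q) f))
    (hQ₃ : ∀ Q' : 𝒳.obj → Prop, AlgSt.IsOpenSubstack 𝒳 Q' Scheme.fppfPrecoverage →
      AlgSt.LocQ (AlgSp.LocP @Smooth) (BasedFunctor.comp (AlgSt.subIncl 𝒳 Q') f) →
        ∀ a, Q' a → Q a) :
    AlgSt.IsOpenSubstack 𝒳' (fun a ↦ Q (g.obj a)) Scheme.fppfPrecoverage ∧
      AlgSt.LocQ (AlgSp.LocP @Smooth)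
        (BasedFunctor.comp (AlgSt.subIncl 𝒳' (fun a ↦ Q (g.obj a))) (BasedFunctor.comp g f)) ∧
      ∀ Q' : 𝒳'.obj → Prop, AlgSt.IsOpenSubstack 𝒳' Q' Scheme.fppfPrecoverage →
        AlgSt.LocQ (AlgSp.LocP @Smooth)
          (BasedFunctor.comp (AlgSt.subIncl 𝒳' Q') (BasedFunctor.comp g f)) →
        ∀ a, Q' a → Q (g.obj a) := by
  have hsmST := Groth.Agent.Lib.Helper15LocQProps.isSmoothLocalST_smooth (S := S)
  have hcomp : ∀ ⦃X₁ Y₁ Z₁ : AlgSp.Sp S⦄, AlgSp.IsAlgSpace X₁ → AlgSp.IsAlgSpace Y₁ →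
      AlgSp.IsAlgSpace Z₁ → ∀ (a : X₁ ⟶ Y₁) (b : Y₁ ⟶ Z₁), AlgSp.LocP @Smooth a →
        AlgSp.LocP @Smooth b → AlgSp.LocP @Smooth (a ≫ b) :=
    fun _ _ _ _ hY hZ a b ha hb => locP_smooth_comp hY hZ a b ha hb
  have hQ'' := isOpenSubstack_preimage h𝒳' h𝒳 g Q hQ₁
  refine ⟨hQ'', ?_, fun Q' hQ' hL a ha => ?_⟩
  · have hι' : AlgSt.LocQ (AlgSp.LocP @Smooth) (AlgSt.subIncl 𝒳' (fun a => Q (g.obj a))) :=
      Groth.Agent.Lib.Helper15LocQRep.locQ_of_repByAlgSpWith _ hsmST hQ''.2.1 h𝒳' _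
        (smooth_of_isOpenImm _ hQ''.2.2)
    have hψ : AlgSt.LocQ (AlgSp.LocP @Smooth)
        (BasedFunctor.comp (AlgSt.subIncl 𝒳' (fun a => Q (g.obj a))) g) :=
      Groth.Agent.Lib.Helper15LocQComp.locQ_comp _ hsmST hcomp hQ''.2.1 h𝒳' h𝒳 _ _ hι' hg
    have hg' : AlgSt.LocQ (AlgSp.LocP @Smooth) (restrictSub Q g) :=
      locQ_cancel_subIncl Q (restrictSub Q g) _ hsmST bcStable_smooth h𝒳 hQ₁.2.1 hψ
    exact Groth.Agent.Lib.Helper15LocQComp.locQ_comp _ hsmST hcomp hQ''.2.1 hQ₁.2.1 h𝒴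
      (restrictSub Q g) _ hg' hQ₂
  · have hι' : AlgSt.LocQ (AlgSp.LocP @Smooth) (AlgSt.subIncl 𝒳' Q') :=
      Groth.Agent.Lib.Helper15LocQRep.locQ_of_repByAlgSpWith _ hsmST hQ'.2.1 h𝒳' _
        (smooth_of_isOpenImm _ hQ'.2.2)
    have hψ : AlgSt.LocQ (AlgSp.LocP @Smooth) (BasedFunctor.comp (AlgSt.subIncl 𝒳' Q') g) :=
      Groth.Agent.Lib.Helper15LocQComp.locQ_comp _ hsmST hcomp hQ'.2.1 h𝒳' h𝒳 _ _ hι' hg
    have hopen : IsOpen (Set.range (AlgSt.Points.map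
        (BasedFunctor.comp (AlgSt.subIncl 𝒳' Q') g))) :=
      (isOpenMap_points_map_of_locQ_smooth hQ'.2.1 h𝒳 _ hψ).isOpen_range
    have hQ₁' := isOpenSubstack_qW h𝒳 _ hopen
    have hfibA : FibCat.IsFibGrpd (AlgSt.fullSub 𝒳' Q').p := hQ'.2.1.isStack.1
    have hfib𝒳 : FibCat.IsFibGrpd 𝒳.p := h𝒳.isStack.1
    have hφ : AlgSt.LocQ (AlgSp.LocP @Smooth)
        (toImage hfibA hfib𝒳 (BasedFunctor.comp (AlgSt.subIncl 𝒳' Q') g)) :=
      locQ_cancel_subIncl _ (toImage hfibA hfib𝒳 (BasedFunctor.comp (AlgSt.subIncl 𝒳' Q') g)) _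
        hsmST bcStable_smooth h𝒳 hQ₁'.2.1 hψ
    have hsurj := isSurjective_toImage hfibA hfib𝒳 (BasedFunctor.comp (AlgSt.subIncl 𝒳' Q') g)
    have hdesc : AlgSt.LocQ (AlgSp.LocP @Smooth) (BasedFunctor.comp (AlgSt.subIncl 𝒳
        (QW (Set.range (AlgSt.Points.map (BasedFunctor.comp (AlgSt.subIncl 𝒳' Q') g))))) f) :=
      locQ_of_comp_smooth _ hsmST hQ'.2.1 hQ₁'.2.1 h𝒴
        (toImage hfibA hfib𝒳 (BasedFunctor.comp (AlgSt.subIncl 𝒳' Q') g)) _ hφ hsurj hL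
    exact hQ₃ _ hQ₁' hdesc (g.obj a)
      (qW_range_obj hfibA hfib𝒳 (BasedFunctor.comp (AlgSt.subIncl 𝒳' Q') g) ⟨a, ha⟩)

end Main

end Groth.Agent.Lib.Seat59.OpenSubF
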