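-- helper59: closed substacks of an algebraic stack: membership can be tested on a flat cover, and
-- on points over a reduced base.
import Mathlib
import Groth.Agent.Lib.Seat59OpenSubF

set_option autoImplicit false
set_option backward.isDefEq.respectTransparency false
set_option backward.isDefEq.respectTransparency.types false
open CategoryTheory CategoryTheory.Functor CategoryTheory.Limits Opposite AlgebraicGeometry

universe u

namespace Groth.Agent.Lib.Seat59.ClosedSub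

open Groth.Agent.Lib.Helper17 Groth.Agent.Lib.Helper15PtsComp Groth.Agent.Lib.Helper15PtsTop
  Groth.Agent.Lib.Seat59.OpenSubA Groth.Agent.Lib.Seat59.OpenSubB Groth.Agent.Lib.Seat59.OpenSubC

section Sch

theorem app_injective_of_flat_of_surjective {W T : Scheme.{u}} (p : W ⟶ T) [Flat p] [Surjective p]
    (U : T.Opens) : Function.Injective (p.app U) := by
  rw [injective_iff_map_eq_zero]
  intro s hs
  refine TopCat.Presheaf.section_ext T.sheaf U s 0 fun x hx => ?_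
  obtain ⟨w, rfl⟩ := p.surjective x
  have h1 := p.germ_stalkMap_apply U w hx s
  rw [hs, map_zero] at h1
  have hinj : Function.Injective (p.stalkMap w) := by
    algebraize [(p.stalkMap w).hom]
    have : Module.FaithfullyFlat (T.presheaf.stalk (p w)) (W.presheaf.stalk w) :=
      @Module.FaithfullyFlat.of_flat_of_isLocalHom _ _ _ _ _ _ _
        (Flat.stalkMap p w) (p.toLRSHom.prop w)
    exact ‹RingHom.FaithfullyFlat _›.injective
  have h2 : T.presheaf.germ U (p w) hx s = 0 := hinj (by rw [h1, map_zero])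
  rw [map_zero]
  exact h2

/-- A closed immersion through which a flat surjective morphism factors is an isomorphism. -/
theorem isIso_of_isClosedImmersion_of_flat_surj_factor {Z W T : Scheme.{u}} (i : Z ⟶ T)
    [IsClosedImmersion i] (p : W ⟶ T) [Flat p] [Surjective p] (q : W ⟶ Z) (h : q ≫ i = p) :
    IsIso i := by
  rw [IsClosedImmersion.isIso_iff_ker_eq_bot, ← le_bot_iff]
  have h1 : i.ker ≤ p.ker := by
    rw [← h]
    exact Scheme.Hom.le_ker_comp q i
  refine h1.trans ?_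
  rw [le_bot_iff]
  ext U : 2
  rw [Scheme.IdealSheafData.ideal_bot, Pi.bot_apply, ← le_bot_iff]
  refine (p.ideal_ker_le U).trans ?_
  rw [le_bot_iff, ← RingHom.injective_iff_ker_eq_bot]
  exact app_injective_of_flat_of_surjective p U.1

end Sch

section Sp

variable {S : Scheme.{u}}

/-- If the pullback of `g : F ⟶ h_T` along the identity is an isomorphism of schemes, then `g`
has a section through the identity. -/
theorem exists_section_of_isIso {F : AlgSp.Sp S} {T T₀ : Over S}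
    (g : F ⟶ (AlgSp.yon S).obj T) (snd : T₀ ⟶ T) (fst : (AlgSp.yon S).obj T₀ ⟶ F)
    (hw : fst ≫ g = (AlgSp.yon S).map snd) (hiso : IsIso snd.left) :
    ∃ x : F.obj.obj (op T), g.hom.app (op T) x = ⟨𝟙 T⟩ := by
  have hiso' : IsIso snd := by
    have : IsIso ((Over.forget S).map snd) := hiso
    exact isIso_of_reflects_iso snd (Over.forget S)
  refine ⟨fst.hom.app (op T) ⟨inv snd⟩, ?_⟩
  have h1 := congrArg (fun k => k.hom.app (op T) (⟨inv snd⟩ : ULift (T ⟶ T₀))) hw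
  refine h1.trans ?_
  apply ULift.ext
  change inv snd ≫ snd = 𝟙 T
  exact IsIso.inv_hom_id snd

end Sp

section St

variable {S : Scheme.{u}} {𝒳 : AlgSt.Cat S}

/-- A section through the identity of the representing space of the base change of the inclusion
of a substack along a chart shows that the chart lands in the substack. -/
theorem q_of_section (h𝒳 : FibCat.IsFibGrpd 𝒳.p) (Q : 𝒳.obj → Prop)
    (hiso : ObjectProperty.IsClosedUnderIsomorphisms Q)
    (hfib : FibCat.IsFibGrpd (AlgSt.fullSub 𝒳 Q).p) {T : Over S}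
    (y : FibCat.overCat T ⥤ᵇ 𝒳) (F : AlgSp.Sp S)
    (e : AlgSt.ofSp F ⥤ᵇ FibCat.fp y (AlgSt.subIncl 𝒳 Q)) (x : F.obj.obj (op T))
    (hx : (AlgSt.spMapOfOver (BasedFunctor.comp e
      (FibCat.fpFst y (AlgSt.subIncl 𝒳 Q)))).hom.app (op T) x = ⟨𝟙 T⟩) :
    Q (y.obj (Over.mk (𝟙 T))) := by
  rw [AlgSt.spMapOfOver_app] at hx
  have hsec := congrArg ULift.down hx
  obtain ⟨ξ, hξ⟩ : ∃ ξ : (FibCat.fp y (AlgSt.subIncl 𝒳 Q)).obj,
      ξ = e.obj ⟨T, x⟩ := ⟨_, rfl⟩
  let k : Over.mk (𝟙 T) ⟶ ξ.obj.fst :=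
    Over.homMk (eqToHom (by rw [hξ]; exact ((BasedFunctor.comp e (FibCat.fpFst y
      (AlgSt.subIncl 𝒳 Q))).w_obj ⟨T, x⟩).symm)) (by
        subst hξ
        exact hsec)
  exact q_of_hom h𝒳 Q hiso hfib (y.map k ≫ ξ.obj.iso.hom) ξ.obj.snd.property

end St

section St2

variable {S : Scheme.{u}} {𝒳 : AlgSt.Cat S}

/-- If a chart lands in a substack at `c`, then `c` lifts to a section of the representing space
of the base change of the inclusion of the substack. -/
theorem exists_section_of_q (Q : 𝒳.obj → Prop) {T : Over S}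
    (y : FibCat.overCat T ⥤ᵇ 𝒳) (F : AlgSp.Sp S)
    (e : AlgSt.ofSp F ⥤ᵇ FibCat.fp y (AlgSt.subIncl 𝒳 Q)) (he : FibCat.IsEquivOver e)
    (c : Over T) (hc : Q (y.obj c)) :
    ∃ x : F.obj.obj (op c.left), (AlgSt.spMapOfOver (BasedFunctor.comp e
      (FibCat.fpFst y (AlgSt.subIncl 𝒳 Q)))).hom.app (op c.left) x = ⟨c.hom⟩ := by
  let ξ : (FibCat.fp y (AlgSt.subIncl 𝒳 Q)).obj :=
    ⟨{ fst := c, snd := ⟨y.obj c, hc⟩, iso := Iso.refl _ }, IsHomLift.id (y.w_obj c)⟩
  obtain ⟨ζ, ε, hε⟩ := (IsEquivOver.essSurjOver e he) ξ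
  have hε' : (FibCat.overCat T).p.IsHomLift (𝟙 c.left) ε.hom.hom.fst :=
    (fp_isHomLift_iff y (AlgSt.subIncl 𝒳 Q) (𝟙 c.left) ε.hom).1 hε
  have hbase : ζ.base = c.left :=
    ((BasedFunctor.comp e (FibCat.fpFst y (AlgSt.subIncl 𝒳 Q))).w_obj ζ).symm.trans
      (IsHomLift.domain_eq (FibCat.overCat T).p (𝟙 c.left) ε.hom.hom.fst)
  obtain ⟨W', x'⟩ := ζ
  change W' = c.left at hbase
  subst hbase
  refine ⟨x', ?_⟩
  rw [AlgSt.spMapOfOver_app]
  apply ULift.ext
  change AlgSt.secHom (BasedFunctor.comp e (FibCat.fpFst y (AlgSt.subIncl 𝒳 Q)))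
    (⟨c.left, x'⟩ : (AlgSt.ofSp F).obj) = c.hom
  have h1 : ε.hom.hom.fst.left ≫ c.hom = (e.obj ⟨c.left, x'⟩).obj.fst.hom := Over.w ε.hom.hom.fst
  have h2 := IsHomLift.fac' (FibCat.overCat T).p (𝟙 c.left) ε.hom.hom.fst
  change ε.hom.hom.fst.left = _ at h2
  unfold AlgSt.secHom
  change eqToHom _ ≫ (e.obj ⟨c.left, x'⟩).obj.fst.hom = c.hom
  rw [← h1, h2]
  simp

end St2

section Closed

variable {S : Scheme.{u}} {𝒳 : AlgSt.Cat S}

/-- If all points of a chart lie in a substack, the base change of the inclusion of the substack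
along the chart is surjective. -/
theorem isSurjectiveMor_of_points (h𝒳 : FibCat.IsFibGrpd 𝒳.p) (Q : 𝒳.obj → Prop)
    (hfib : FibCat.IsFibGrpd (AlgSt.fullSub 𝒳 Q).p) {T : Over S}
    (y : FibCat.overCat T ⥤ᵇ 𝒳) (F : AlgSp.Sp S)
    (e : AlgSt.ofSp F ⥤ᵇ FibCat.fp y (AlgSt.subIncl 𝒳 Q)) (he : FibCat.IsEquivOver e)
    (h2 : ∀ t : ↥T.left, AlgSt.Points.ofChart y t ∈
      Set.range (AlgSt.Points.map (AlgSt.subIncl 𝒳 Q))) :
    AlgSp.IsSurjectiveMor (AlgSt.spMapOfOver (BasedFunctor.comp e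
      (FibCat.fpFst y (AlgSt.subIncl 𝒳 Q)))) := by
  have hsurj : Function.Surjective (AlgSt.Points.map
      (BasedFunctor.comp e (FibCat.fpFst y (AlgSt.subIncl 𝒳 Q)))) := by
    intro z
    obtain ⟨t, rfl⟩ := (ptOver_bijective T).2 z
    obtain ⟨z', hz'⟩ := h2 t
    obtain ⟨w, hw, -⟩ := points_fp_surjective hfib h𝒳 (isFibSet_overForget T).1
      (AlgSt.subIncl 𝒳 Q) y (ptOver T t) z' (by rw [hz']; rfl)
    obtain ⟨v, rfl⟩ :=
      Groth.Agent.Lib.Helper15UnivComp.points_map_surjective_of_isEquivOver e he w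
    exact ⟨v, by rw [points_map_comp]; exact hw⟩
  exact (isSurjectiveMor_spMapOfOver_iff _).2 hsurj

/-- A chart from a reduced scheme all of whose points lie in a closed substack lands in it. -/
theorem q_of_closed_reduced (h𝒳 : AlgSt.IsAlgStack Scheme.fppfPrecoverage 𝒳) (Q : 𝒳.obj → Prop)
    (hQ : AlgSt.IsClosedSubstack 𝒳 Q Scheme.fppfPrecoverage) {T : Over S} [IsReduced T.left]
    (y : FibCat.overCat T ⥤ᵇ 𝒳)
    (h2 : ∀ t : ↥T.left, AlgSt.Points.ofChart y t ∈
      Set.range (AlgSt.Points.map (AlgSt.subIncl 𝒳 Q))) :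
    Q (y.obj (Over.mk (𝟙 T))) := by
  obtain ⟨hiso, hQalg, hCI⟩ := hQ
  obtain ⟨F, e, he, hg⟩ := hCI T y
  have hs := isSurjectiveMor_of_points h𝒳.isStack.1 Q hQalg.isStack.1 y F.obj e he h2
  obtain ⟨T₀, snd, fst, sq⟩ := hg.1 (𝟙 ((AlgSp.yon S).obj T))
  have hci : IsClosedImmersion snd.left := hg.2 (𝟙 _) fst snd sq
  have hfst : IsIso fst := sq.isIso_fst_of_isIso
  have hw : fst ≫ AlgSt.spMapOfOver (BasedFunctor.comp e
      (FibCat.fpFst y (AlgSt.subIncl 𝒳 Q))) = (AlgSp.yon S).map snd := by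
    rw [sq.w, Category.comp_id]
  have hs' : AlgSp.IsSurjectiveMor ((AlgSp.yon S).map snd) := by
    rw [← hw]
    intro z
    obtain ⟨w, rfl⟩ := hs z
    refine ⟨AlgSp.Points.map (inv fst) w, ?_⟩
    rw [AlgSp.Points.map_comp, ← AlgSp.Points.map_comp (inv fst) fst, IsIso.inv_hom_id,
      AlgSp.Points.map_id]
  have hsurj := Groth.Agent.Lib.Helper15SmLoc.surjective_of_isSurjectiveMor_yon_map snd hs'
  have : Surjective snd.left := ⟨hsurj⟩
  have hiso' : IsIso snd.left := isIso_of_isClosedImmersion_of_surjective snd.left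
  obtain ⟨x, hx⟩ := exists_section_of_isIso _ snd fst hw hiso'
  exact q_of_section h𝒳.isStack.1 Q hiso hQalg.isStack.1 y F.obj e x hx

/-- Membership in a closed substack can be tested on a flat surjective cover. -/
theorem q_of_closed_flat_cover (h𝒳 : AlgSt.IsAlgStack Scheme.fppfPrecoverage 𝒳) (Q : 𝒳.obj → Prop)
    (hQ : AlgSt.IsClosedSubstack 𝒳 Q Scheme.fppfPrecoverage) {T W : Over S}
    (y : FibCat.overCat T ⥤ᵇ 𝒳) (p : W ⟶ T) [Flat p.left] (hp : Function.Surjective p.left)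
    (hc : Q (y.obj (Over.mk p))) :
    Q (y.obj (Over.mk (𝟙 T))) := by
  obtain ⟨hiso, hQalg, hCI⟩ := hQ
  obtain ⟨F, e, he, hg⟩ := hCI T y
  obtain ⟨T₀, snd, fst, sq⟩ := hg.1 (𝟙 ((AlgSp.yon S).obj T))
  have hci : IsClosedImmersion snd.left := hg.2 (𝟙 _) fst snd sq
  have hfst : IsIso fst := sq.isIso_fst_of_isIso
  have hw : fst ≫ AlgSt.spMapOfOver (BasedFunctor.comp e
      (FibCat.fpFst y (AlgSt.subIncl 𝒳 Q))) = (AlgSp.yon S).map snd := by
    rw [sq.w, Category.comp_id]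
  obtain ⟨x, hx⟩ := exists_section_of_q Q y F.obj e he (Over.mk p) hc
  have hw' : inv fst ≫ (AlgSp.yon S).map snd = AlgSt.spMapOfOver (BasedFunctor.comp e
      (FibCat.fpFst y (AlgSt.subIncl 𝒳 Q))) := by
    rw [IsIso.inv_comp_eq]
    exact hw.symm
  have h3 := congrArg (fun k => k.hom.app (op W) x) hw'
  have h4 := congrArg ULift.down (h3.trans hx)
  change ((inv fst).hom.app (op W) x).down ≫ snd = p at h4
  have h5 : ((inv fst).hom.app (op W) x).down.left ≫ snd.left = p.left := by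
    rw [← Over.comp_left, h4]
  have : Surjective p.left := ⟨hp⟩
  have hiso' : IsIso snd.left :=
    isIso_of_isClosedImmersion_of_flat_surj_factor snd.left p.left _ h5
  obtain ⟨x₀, hx₀⟩ := exists_section_of_isIso _ snd fst hw hiso'
  exact q_of_section h𝒳.isStack.1 Q hiso hQalg.isStack.1 y F.obj e x₀ hx₀

end Closed

section Main

variable {S : Scheme.{u}} {𝒳 𝒴 : AlgSt.Cat S}

/-- A morphism from a reduced algebraic stack factors through a closed substack if and only if it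
does so on points. -/
theorem forall_q_iff_range_subset (h𝒳 : AlgSt.IsAlgStack Scheme.fppfPrecoverage 𝒳)
    (h𝒴 : AlgSt.IsAlgStack Scheme.fppfPrecoverage 𝒴)
    (hred : AlgSt.SmoothLocally (fun X => IsReduced X) 𝒴)
    (Q : 𝒳.obj → Prop) (hQ : AlgSt.IsClosedSubstack 𝒳 Q Scheme.fppfPrecoverage) (f : 𝒴 ⥤ᵇ 𝒳) :
    (∀ y : 𝒴.obj, Q (f.obj y)) ↔
      Set.range (AlgSt.Points.map f) ⊆ Set.range (AlgSt.Points.map (AlgSt.subIncl 𝒳 Q)) := by
  constructor
  · rintro h _ ⟨w, rfl⟩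
    obtain ⟨p, rfl⟩ := AlgSt.Points.mk_surjective w
    rw [AlgSt.Points.map_mk]
    have hl := (p.map f).lies
    exact ⟨AlgSt.Points.mk { K := p.K, str := p.str, obj := ⟨f.obj p.obj, h p.obj⟩, lies := hl },
      rfl⟩
  · intro hsub y₀
    have hfib𝒴 := h𝒴.isStack.1
    have hfib𝒳 := h𝒳.isStack.1
    have hiso := hQ.1
    have hQfib := hQ.2.1.isStack.1
    have : 𝒴.p.IsFibered := IsFibGrpd.isFibered hfib𝒴
    obtain ⟨T, hT⟩ : ∃ T : Over S, 𝒴.p.obj y₀ = T := ⟨_, rfl⟩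
    obtain ⟨ι, -⟩ := yonedaFunctor_iso hT
    suffices h : Q (f.obj ((yonedaFunctor hT).obj (Over.mk (𝟙 T)))) from
      hiso.of_iso (f.toFunctor.mapIso ι) h
    obtain ⟨V, v, hv₁, hv₂⟩ := h𝒴.atlas
    have hVred : IsReduced V.left := hred V v hv₁
    have hA0 : Q ((BasedFunctor.comp v f).obj (Over.mk (𝟙 V))) :=
      q_of_closed_reduced h𝒳 Q hQ (BasedFunctor.comp v f)
        (fun t => hsub ⟨AlgSt.Points.ofChart v t, rfl⟩)
    have hA : ∀ c : Over V, Q (f.obj (v.obj c)) := fun c =>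
      q_of_hom hfib𝒳 Q hiso hQfib
        (f.map (v.map (Over.homMk c.hom (by simp) : c ⟶ Over.mk (𝟙 V)))) hA0
    obtain ⟨W, h₁, h₂, hfl, -, ⟨i⟩, hsurj, -⟩ := exists_scheme_square hfib𝒴 (yonedaFunctor hT) v
      (flat_of_smooth hv₁) (lfp_of_smooth hv₁)
    have hs := hsurj hv₂
    have hB : Q ((BasedFunctor.comp (yonedaFunctor hT) f).obj (Over.mk (𝟙 W ≫ h₁))) :=
      hiso.of_iso (f.toFunctor.mapIso (bApp i (Over.mk (𝟙 W))).symm) (hA _)
    have hfl' : Flat (𝟙 W ≫ h₁).left := by rw [Category.id_comp]; exact hfl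
    have hs' : Function.Surjective (𝟙 W ≫ h₁).left := by rw [Category.id_comp]; exact hs
    exact q_of_closed_flat_cover h𝒳 Q hQ (BasedFunctor.comp (yonedaFunctor hT) f) (𝟙 W ≫ h₁) hs' hB

/-- A closed substack of a reduced algebraic stack with the same points is everything. -/
theorem q_of_closed_of_reduced_of_range_eq_univ
    (h𝒳 : AlgSt.IsAlgStack Scheme.fppfPrecoverage 𝒳)
    (hred : AlgSt.SmoothLocally (fun X => IsReduced X) 𝒳)
    (Q : 𝒳.obj → Prop) (hQ : AlgSt.IsClosedSubstack 𝒳 Q Scheme.fppfPrecoverage)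
    (hpts : Set.range (AlgSt.Points.map (AlgSt.subIncl 𝒳 Q)) = Set.univ) (y : 𝒳.obj) : Q y :=
  (forall_q_iff_range_subset h𝒳 h𝒳 hred Q hQ (BasedFunctor.id 𝒳)).2
    (by rw [hpts]; exact Set.subset_univ _) y

end Main

end Groth.Agent.Lib.Seat59.ClosedSub
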