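-- helper83 (seat 83): the diagonal of `f` has `P` iff the diagonals of all base changes to schemes have `P`.
import Groth.Agent.Lib.Helper15DiagDescent

set_option autoImplicit false
set_option backward.isDefEq.respectTransparency false
set_option backward.isDefEq.respectTransparency.types false
open CategoryTheory CategoryTheory.Functor CategoryTheory.Limits Opposite AlgebraicGeometry

universe u

namespace Groth.Agent.Lib.Seat83.DiagIff

open Groth.Agent.Lib.Helper17 Groth.Agent.Lib.Helper15PshFib Groth.Agent.Lib.Helper15RepComp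
  Groth.Agent.Lib.Helper15RepPsh Groth.Agent.Lib.Helper15DiagBase Groth.Agent.Lib.Helper15DiagRepSp
  Groth.Agent.Lib.Helper15BaseChange Groth.Agent.Lib.Helper15Descent
  Groth.Agent.Lib.Helper15.DiagBC Groth.Agent.Lib.Helper15DiagDescent

variable {S : Scheme.{u}} {𝒳 𝒴 : AlgSt.Cat S}

/-- A point of `𝒳 ×_𝒴 𝒳` lifts to the double fibre product of the base change of `f` to that point. -/
theorem exists_lift_GG (f : 𝒳 ⥤ᵇ 𝒴) (U : Over S) (y : FibCat.overCat U ⥤ᵇ FibCat.fp f f) :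
    ∃ t : FibCat.overCat U ⥤ᵇ
        FibCat.fp (f' f (BasedFunctor.comp y (BasedFunctor.comp (FibCat.fpFst f f) f)))
          (f' f (BasedFunctor.comp y (BasedFunctor.comp (FibCat.fpFst f f) f))),
      Nonempty (BasedFunctor.comp t
        (GG f (BasedFunctor.comp y (BasedFunctor.comp (FibCat.fpFst f f) f))) ≅ y) := by
  let w : FibCat.overCat U ⥤ᵇ 𝒴 := BasedFunctor.comp y (BasedFunctor.comp (FibCat.fpFst f f) f)
  let a₁ : FibCat.overCat U ⥤ᵇ 𝒳 := BasedFunctor.comp y (FibCat.fpFst f f)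
  let a₂ : FibCat.overCat U ⥤ᵇ 𝒳 := BasedFunctor.comp y (FibCat.fpSnd f f)
  let κ₁ : BasedFunctor.comp (BasedFunctor.id _) w ≅ BasedFunctor.comp a₁ f := Iso.refl _
  let κ₂ : BasedFunctor.comp (BasedFunctor.id _) w ≅ BasedFunctor.comp a₂ f :=
    κ₁ ≪≫ whiskerLeftIso y (FibCat.fpIso f f)
  let x₁ : FibCat.overCat U ⥤ᵇ FibCat.fp w f := FibCat.fpLift (BasedFunctor.id _) a₁ κ₁
  let x₂ : FibCat.overCat U ⥤ᵇ FibCat.fp w f := FibCat.fpLift (BasedFunctor.id _) a₂ κ₂
  let t : FibCat.overCat U ⥤ᵇ FibCat.fp (f' f w) (f' f w) :=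
    FibCat.fpLift x₁ x₂ (Iso.refl _)
  refine ⟨t, ⟨?_⟩⟩
  exact fpIsoMk f f (H := BasedFunctor.comp t (GG f w)) (K := y) (Iso.refl _) (Iso.refl _)
    (fun a => by
      change f.map (𝟙 _) ≫ (y.obj a).obj.iso.hom =
        ((bApp κ₁ a).inv ≫ w.map (𝟙 _) ≫ (bApp κ₂ a).hom) ≫ f.map (𝟙 _)
      exact aux_conj (bApp κ₁ a) (y.obj a).obj.iso.hom _ _ _ (f.toFunctor.map_id _)
        (w.toFunctor.map_id _) (f.toFunctor.map_id _))

/-- If the diagonals of all base changes of `f` to schemes have `P`, so does the diagonal of `f`. -/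
theorem repByAlgSpWith_diag_of_forall (P : MorphismProperty (AlgSp.Sp S)) (f : 𝒳 ⥤ᵇ 𝒴)
    (h : ∀ (T : Over S) (y : FibCat.overCat T ⥤ᵇ 𝒴),
      AlgSt.RepByAlgSpWith P (FibCat.diag (FibCat.fpFst y f))) :
    AlgSt.RepByAlgSpWith P (FibCat.diag f) := by
  intro U y
  let w : FibCat.overCat U ⥤ᵇ 𝒴 := BasedFunctor.comp y (BasedFunctor.comp (FibCat.fpFst f f) f)
  have h1 : AlgSt.RepByAlgSpWith P (FibCat.fpFst (GG f w) (FibCat.diag f)) :=
    (repByAlgSpWith_of_square P (FibCat.fpFst (GG f w) (FibCat.diag f))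
      (FibCat.diag (f' f w)) (EE f w) (BasedFunctor.id _) (isEquivOver_EE f w)
      (isEquivOver_id _) (Iso.refl _)).mpr (h U w)
  obtain ⟨t, ⟨κ⟩⟩ := exists_lift_GG f U y
  have h2 := h1 U t
  have hid := IsEquivOver.isEquivalence (BasedFunctor.id (FibCat.fp f f)) (isEquivOver_id _)
  let M : FibCat.fp (BasedFunctor.comp t (GG f w)) (FibCat.diag f) ⥤ᵇ FibCat.fp y (FibCat.diag f) :=
    fpMap y (FibCat.diag f) (BasedFunctor.comp t (GG f w)) (FibCat.diag f)
      (BasedFunctor.id _) (BasedFunctor.id _) (BasedFunctor.id _) κ (Iso.refl _)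
  have hM : FibCat.IsEquivOver M :=
    isEquivOver_fpMap y (FibCat.diag f) (BasedFunctor.comp t (GG f w)) (FibCat.diag f)
      (BasedFunctor.id _) (BasedFunctor.id _) (BasedFunctor.id _) κ (Iso.refl _)
      (isEquivOver_id _) (isEquivOver_id _)
  refine repWith_transfer (FibCat.fpFst t (FibCat.fpFst (GG f w) (FibCat.diag f)))
    (FibCat.fpFst y (FibCat.diag f))
    (BasedFunctor.comp (pasteL (FibCat.diag f) (GG f w) t) M)
    (IsEquivOver.comp _ _ (isEquivOver_pasteL (FibCat.diag f) (GG f w) t) hM) ?_ P h2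
  exact Iso.refl _

end Groth.Agent.Lib.Seat83.DiagIff
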