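-- helper83: the 2-fibre product of the categories of presheaves is the category of the fibre product.
import Groth.Agent.Lib.Helper15PshFib

set_option autoImplicit false
set_option backward.isDefEq.respectTransparency false
set_option backward.isDefEq.respectTransparency.types false
open CategoryTheory CategoryTheory.Functor CategoryTheory.Limits Opposite

universe w v u

namespace Groth.Agent.Lib.Seat83.PshFp

open Groth.Agent.Lib.Helper17 Groth.Agent.Lib.Helper15PshFib

section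

variable {C : Type u} [Category.{v} C] {F G H P : Cᵒᵖ ⥤ Type w}
  (a : F ⟶ G) (b : H ⟶ G) (fst : P ⟶ F) (snd : P ⟶ H)

theorem app_comm (w : fst ≫ a = snd ≫ b) (T : Cᵒᵖ) (s : P.obj T) :
    a.app T (fst.app T s) = b.app T (snd.app T s) := by
  have := congrArg (fun t => t.app T s) w
  simpa using this

/-- The 2-isomorphism of the square of categories of presheaves attached to a commutative square
of presheaves. -/
def pbIso (w : fst ≫ a = snd ≫ b) :
    BasedFunctor.comp (Stk.ofPshMap fst) (Stk.ofPshMap a) ≅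
      BasedFunctor.comp (Stk.ofPshMap snd) (Stk.ofPshMap b) :=
  pshIsoOfSecEq (fun c => by
    rw [pshSec_comp_ofPshMap, pshSec_comp_ofPshMap, pshSec_ofPshMap, pshSec_ofPshMap]
    exact app_comm a b fst snd w _ c.sec)

/-- The comparison functor from the category of the corner of a commutative square of presheaves
to the 2-fibre product of the categories. -/
def pbLift (w : fst ≫ a = snd ≫ b) :
    Stk.ofPsh P ⥤ᵇ FibCat.fp (Stk.ofPshMap a) (Stk.ofPshMap b) :=
  FibCat.fpLift (Stk.ofPshMap fst) (Stk.ofPshMap snd) (pbIso a b fst snd w)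

theorem pbLift_iso_hom_hom (w : fst ≫ a = snd ≫ b) (c : (Stk.ofPsh P).obj) :
    ((pbLift a b fst snd w).obj c).obj.iso.hom.hom = 𝟙 c.base := rfl

theorem pbLift_faithful (w : fst ≫ a = snd ≫ b) : (pbLift a b fst snd w).toFunctor.Faithful := by
  refine ⟨fun {c c'} m m' h => ?_⟩
  apply Stk.EltObj.hom_ext
  exact congrArg (fun t => t.hom.fst.hom) h

theorem sec_ext (sq : IsPullback fst snd a b) (T : Cᵒᵖ) (s s' : P.obj T)
    (h1 : fst.app T s = fst.app T s') (h2 : snd.app T s = snd.app T s') : s = s' := by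
  have sqT := sq.map ((evaluation Cᵒᵖ (Type w)).obj T)
  rw [Limits.Types.isPullback_iff] at sqT
  exact sqT.2.1 s s' ⟨h1, h2⟩

theorem sec_exists (sq : IsPullback fst snd a b) (T : Cᵒᵖ) (x : F.obj T) (y : H.obj T)
    (h : a.app T x = b.app T y) : ∃ s : P.obj T, fst.app T s = x ∧ snd.app T s = y := by
  have sqT := sq.map ((evaluation Cᵒᵖ (Type w)).obj T)
  rw [Limits.Types.isPullback_iff] at sqT
  exact sqT.2.2 x y h

theorem pbLift_full (sq : IsPullback fst snd a b) :
    (pbLift a b fst snd sq.w).toFunctor.Full := by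
  refine ⟨fun {c c'} n => ?_⟩
  have hw := congrArg (fun t => t.hom) n.hom.w
  obtain ⟨φ, hφ⟩ : ∃ φ : c.base ⟶ c'.base, φ = n.hom.fst.hom := ⟨_, rfl⟩
  obtain ⟨ψ, hψ⟩ : ∃ ψ : c.base ⟶ c'.base, ψ = n.hom.snd.hom := ⟨_, rfl⟩
  have h12 : φ = ψ := by
    have : φ ≫ 𝟙 _ = 𝟙 _ ≫ ψ := by rw [hφ, hψ]; exact hw
    simpa using this
  have h1 : F.map φ.op (fst.app (op c'.base) c'.sec) = fst.app (op c.base) c.sec := by
    rw [hφ]; exact n.hom.fst.map_sec
  have h2 : H.map φ.op (snd.app (op c'.base) c'.sec) = snd.app (op c.base) c.sec := by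
    rw [h12, hψ]; exact n.hom.snd.map_sec
  have hs : P.map φ.op c'.sec = c.sec := by
    apply sec_ext a b fst snd sq
    · rw [← h1]
      exact NatTrans.naturality_apply fst _ _
    · rw [← h2]
      exact NatTrans.naturality_apply snd _ _
  refine ⟨⟨φ, hs⟩, ?_⟩
  apply ObjectProperty.hom_ext
  apply Limits.CategoricalPullback.hom_ext
  · apply Stk.EltObj.hom_ext
    exact hφ
  · apply Stk.EltObj.hom_ext
    exact h12.trans hψ

theorem pbLift_essSurjOver (sq : IsPullback fst snd a b) :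
    EssSurjOver (pbLift a b fst snd sq.w) := by
  intro η
  obtain ⟨⟨⟨T, s₁⟩, ⟨T₂, s₂⟩, ι⟩, hι⟩ := η
  have hι' : (Stk.ofPsh G).p.IsHomLift (𝟙 T) ι.hom := hι
  have hT : T₂ = T := IsHomLift.codomain_eq (Stk.ofPsh G).p (𝟙 T) ι.hom
  subst hT
  have hk : ι.hom.hom = 𝟙 T₂ := by
    have h0 := IsHomLift.fac' (Stk.ofPsh G).p (𝟙 T₂) ι.hom
    have h1 : ι.hom.hom = eqToHom _ ≫ 𝟙 T₂ ≫ eqToHom _ := h0
    rw [h1]
    simp only [eqToHom_refl, Category.comp_id]
    rfl
  have hsec : G.map ι.hom.hom.op (b.app (op T₂) s₂) = a.app (op T₂) s₁ := ι.hom.map_sec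
  have hab : a.app (op T₂) s₁ = b.app (op T₂) s₂ := by
    rw [hk] at hsec
    rw [← hsec]
    exact psh_map_id_op G _
  obtain ⟨p, hp1, hp2⟩ := sec_exists a b fst snd sq (op T₂) s₁ s₂ hab
  subst hp1 hp2
  refine ⟨⟨T₂, p⟩, ObjectProperty.isoMk _ (Limits.CategoricalPullback.mkIso
    (x := ((pbLift a b fst snd sq.w).obj ⟨T₂, p⟩).obj) (Iso.refl _) (Iso.refl _) ?_), ?_⟩
  · apply Stk.EltObj.hom_ext
    change 𝟙 T₂ ≫ ι.hom.hom = 𝟙 T₂ ≫ 𝟙 T₂
    rw [hk]
  · rw [fp_isHomLift_iff]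
    exact IsHomLift.id rfl

theorem isEquivOver_pbLift (sq : IsPullback fst snd a b) :
    FibCat.IsEquivOver (pbLift a b fst snd sq.w) := by
  have := pbLift_faithful a b fst snd sq.w
  have := pbLift_full a b fst snd sq
  exact isEquivOver_of_fullyFaithful_of_essSurjOver _ (pbLift_essSurjOver a b fst snd sq)

end

section Diag

variable {C : Type u} [Category.{v} C] {F G P : Cᵒᵖ ⥤ Type w}
  (a : F ⟶ G) (fst : P ⟶ F) (snd : P ⟶ F) (δ : F ⟶ P)

theorem app_retract {fst : P ⟶ F} {δ : F ⟶ P} (h : δ ≫ fst = 𝟙 F) (T : Cᵒᵖ) (s : F.obj T) :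
    fst.app T (δ.app T s) = s := by
  have := congrArg (fun t => t.app T s) h
  simpa using this

/-- First component of `diagIso`. -/
def diagIso₁ (w : fst ≫ a = snd ≫ a) (h1 : δ ≫ fst = 𝟙 F) :
    BasedFunctor.comp (FibCat.diag (Stk.ofPshMap a))
      (FibCat.fpFst (Stk.ofPshMap a) (Stk.ofPshMap a)) ≅
    BasedFunctor.comp (BasedFunctor.comp (Stk.ofPshMap δ) (pbLift a a fst snd w))
      (FibCat.fpFst (Stk.ofPshMap a) (Stk.ofPshMap a)) :=
  pshIsoOfSecEq (fun c => by
    have e1 : pshSec (BasedFunctor.comp (FibCat.diag (Stk.ofPshMap a))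
        (FibCat.fpFst (Stk.ofPshMap a) (Stk.ofPshMap a))) c = c.sec := psh_map_id_op F _
    have e2 : pshSec (BasedFunctor.comp (BasedFunctor.comp (Stk.ofPshMap δ)
        (pbLift a a fst snd w)) (FibCat.fpFst (Stk.ofPshMap a) (Stk.ofPshMap a))) c =
        fst.app _ (δ.app _ c.sec) := psh_map_id_op F _
    rw [e1, e2, app_retract h1])

/-- Second component of `diagIso`. -/
def diagIso₂ (w : fst ≫ a = snd ≫ a) (h2 : δ ≫ snd = 𝟙 F) :
    BasedFunctor.comp (FibCat.diag (Stk.ofPshMap a))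
      (FibCat.fpSnd (Stk.ofPshMap a) (Stk.ofPshMap a)) ≅
    BasedFunctor.comp (BasedFunctor.comp (Stk.ofPshMap δ) (pbLift a a fst snd w))
      (FibCat.fpSnd (Stk.ofPshMap a) (Stk.ofPshMap a)) :=
  pshIsoOfSecEq (fun c => by
    have e1 : pshSec (BasedFunctor.comp (FibCat.diag (Stk.ofPshMap a))
        (FibCat.fpSnd (Stk.ofPshMap a) (Stk.ofPshMap a))) c = c.sec := psh_map_id_op F _
    have e2 : pshSec (BasedFunctor.comp (BasedFunctor.comp (Stk.ofPshMap δ)
        (pbLift a a fst snd w)) (FibCat.fpSnd (Stk.ofPshMap a) (Stk.ofPshMap a))) c =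
        snd.app _ (δ.app _ c.sec) := psh_map_id_op F _
    rw [e1, e2, app_retract h2])

/-- The diagonal of the functor of a map of presheaves is the functor of the diagonal map followed
by the comparison functor. -/
def diagIso (w : fst ≫ a = snd ≫ a) (h1 : δ ≫ fst = 𝟙 F) (h2 : δ ≫ snd = 𝟙 F) :
    FibCat.diag (Stk.ofPshMap a) ≅ BasedFunctor.comp (Stk.ofPshMap δ) (pbLift a a fst snd w) :=
  fpIsoMk (Stk.ofPshMap a) (Stk.ofPshMap a)
    (H := FibCat.diag (Stk.ofPshMap a))
    (K := BasedFunctor.comp (Stk.ofPshMap δ) (pbLift a a fst snd w))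
    (diagIso₁ a fst snd δ w h1) (diagIso₂ a fst snd δ w h2)
    (fun c => by
      apply Stk.EltObj.hom_ext
      have k1 := pshAppHom (diagIso₁ a fst snd δ w h1).hom c
      have k2 := pshAppHom (diagIso₂ a fst snd δ w h2).hom c
      change ((diagIso₁ a fst snd δ w h1).hom.toNatTrans.app c).hom ≫ 𝟙 _ =
        𝟙 _ ≫ ((diagIso₂ a fst snd δ w h2).hom.toNatTrans.app c).hom
      rw [k1, k2, Category.comp_id, Category.id_comp])

end Diag

section IsoEquiv

variable {C : Type u} [Category.{v} C] {P Q : Cᵒᵖ ⥤ Type w}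

theorem pshSec_id (c : (Stk.ofPsh P).obj) : pshSec (BasedFunctor.id (Stk.ofPsh P)) c = c.sec :=
  psh_map_id_op P _

/-- The functor of an isomorphism of presheaves is an equivalence over the base. -/
theorem isEquivOver_ofPshMap_of_iso (i : P ≅ Q) : FibCat.IsEquivOver (Stk.ofPshMap i.hom) := by
  refine ⟨Stk.ofPshMap i.inv, ⟨pshIsoOfSecEq (fun c => ?_)⟩, ⟨pshIsoOfSecEq (fun c => ?_)⟩⟩
  · rw [pshSec_comp_ofPshMap, pshSec_ofPshMap, pshSec_id]
    exact app_retract i.hom_inv_id _ c.sec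
  · rw [pshSec_comp_ofPshMap, pshSec_ofPshMap, pshSec_id]
    exact app_retract i.inv_hom_id _ c.sec

end IsoEquiv

end Groth.Agent.Lib.Seat83.PshFp
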