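-- helper83: the diagonal of a functor and 2-commutative squares; the diagonal of a map of spaces.
import Mathlib
import Groth.Agent.Lib.Seat83PshFp
import Groth.Agent.Lib.Helper15DiagOfComp
import Groth.Agent.S12778

set_option autoImplicit false
set_option backward.isDefEq.respectTransparency false
set_option backward.isDefEq.respectTransparency.types false
open CategoryTheory CategoryTheory.Functor CategoryTheory.Limits Opposite AlgebraicGeometry

universe u

namespace Groth.Agent.Lib.Seat83.DiagSq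

open Groth.Agent.Lib.Helper17 Groth.Agent.Lib.Helper15PshFib Groth.Agent.Lib.Seat83.PshFp

theorem aux_id {D : Type*} [Category D] {X Y : D} (i : X ≅ Y) :
    𝟙 Y ≫ 𝟙 Y = (i.inv ≫ 𝟙 X ≫ i.hom) ≫ 𝟙 Y := by simp

section Sq

variable {S : Scheme.{u}} {𝒳 𝒴 𝒳' 𝒴' : AlgSt.Cat S}

/-- The diagonals of the two vertical functors of a 2-commutative square whose top arrow is an
equivalence and whose bottom arrow is fully faithful have the same properties. -/
theorem repByAlgSpWith_diag_of_square (Q : MorphismProperty (AlgSp.Sp S))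
    (f : 𝒳 ⥤ᵇ 𝒴) (f' : 𝒳' ⥤ᵇ 𝒴') (a : 𝒳' ⥤ᵇ 𝒳) (b : 𝒴' ⥤ᵇ 𝒴)
    (ha : FibCat.IsEquivOver a) [b.toFunctor.Full] [b.toFunctor.Faithful]
    (e : BasedFunctor.comp f' b ≅ BasedFunctor.comp a f) :
    AlgSt.RepByAlgSpWith Q (FibCat.diag f) ↔ AlgSt.RepByAlgSpWith Q (FibCat.diag f') := by
  let M : FibCat.fp f' f' ⥤ᵇ FibCat.fp f f := fpMap f f f' f' a a b e e
  have hM : FibCat.IsEquivOver M := isEquivOver_fpMap f f f' f' a a b e e ha ha
  refine repByAlgSpWith_of_square Q (FibCat.diag f) (FibCat.diag f') a M ha hM ?_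
  exact fpIsoMk f f (H := BasedFunctor.comp (FibCat.diag f') M)
    (K := BasedFunctor.comp a (FibCat.diag f)) (Iso.refl _) (Iso.refl _) (fun x => by
      change f.map (𝟙 _) ≫ 𝟙 _ = ((bApp e x).inv ≫ b.map (𝟙 _) ≫ (bApp e x).hom) ≫ f.map (𝟙 _)
      rw [f.toFunctor.map_id, b.toFunctor.map_id]
      exact aux_id (bApp e x))

end Sq

section Space

variable {S : Scheme.{u}}

/-- The diagonal of the functor of a map of sheaves has a property exactly when the functor of the
diagonal map has it. -/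
theorem repByAlgSpWith_diag_ofSpMap_iff (Q : MorphismProperty (AlgSp.Sp S)) {F G : AlgSp.Sp S}
    (a : F ⟶ G) :
    AlgSt.RepByAlgSpWith Q (FibCat.diag (AlgSt.ofSpMap a)) ↔
      AlgSt.RepByAlgSpWith Q (AlgSt.ofSpMap (pullback.diagonal a)) := by
  have sq : IsPullback (pullback.fst a a) (pullback.snd a a) a a := IsPullback.of_hasPullback a a
  have sq' := sq.map (sheafToPresheaf (AlgSp.J S) (Type (u + 1)))
  have h1 : (pullback.diagonal a).hom ≫ (pullback.fst a a).hom = 𝟙 F.obj :=
    congrArg (fun t => t.hom) (pullback.diagonal_fst a)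
  have h2 : (pullback.diagonal a).hom ≫ (pullback.snd a a).hom = 𝟙 F.obj :=
    congrArg (fun t => t.hom) (pullback.diagonal_snd a)
  let E := pbLift a.hom a.hom (pullback.fst a a).hom (pullback.snd a a).hom sq'.w
  have hE : FibCat.IsEquivOver E := isEquivOver_pbLift a.hom a.hom _ _ sq'
  exact repByAlgSpWith_of_square Q (FibCat.diag (AlgSt.ofSpMap a))
    (AlgSt.ofSpMap (pullback.diagonal a)) (BasedFunctor.id _) E (isEquivOver_id _) hE
    (diagIso a.hom (pullback.fst a a).hom (pullback.snd a a).hom (pullback.diagonal a).hom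
      sq'.w h1 h2).symm

theorem pshMapOf_comp_ofOverCat {F : AlgSp.Sp S} {U : Over S}
    (g : AlgSt.ofSp F ⥤ᵇ FibCat.overCat U) :
    pshMapOf (BasedFunctor.comp g (AlgSt.ofOverCat U)) = (AlgSt.spMapOfOver g).hom := by
  apply NatTrans.ext
  funext T
  ext x
  change pshSec (BasedFunctor.comp g (AlgSt.ofOverCat U)) ⟨T.unop, x⟩ =
    (⟨AlgSt.secHom g ⟨T.unop, x⟩⟩ : ULift _)
  apply ULift.ext
  rfl

/-- A functor from the category of a sheaf to a slice is the functor of its map of sheaves. -/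
def isoToOverCat {F : AlgSp.Sp S} {U : Over S} (g : AlgSt.ofSp F ⥤ᵇ FibCat.overCat U) :
    BasedFunctor.comp (AlgSt.ofSpMap (AlgSt.spMapOfOver g)) (AlgSt.toOverCat U) ≅ g :=
  (whiskerRightIso (eqToIso (congrArg Stk.ofPshMap (pshMapOf_comp_ofOverCat g)).symm ≪≫
    ofPshMapIso (BasedFunctor.comp g (AlgSt.ofOverCat U))) (AlgSt.toOverCat U) : _ ≅
      BasedFunctor.comp g (BasedFunctor.comp (AlgSt.ofOverCat U) (AlgSt.toOverCat U))) ≪≫
  (Iso.refl _ : BasedFunctor.comp g (BasedFunctor.comp (AlgSt.ofOverCat U) (AlgSt.toOverCat U)) ≅ g)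

/-- The diagonal of a functor to a slice, from a category equivalent to that of a sheaf, has a
property exactly when the functor of the diagonal of the corresponding map of sheaves has it. -/
theorem repByAlgSpWith_diag_toSlice_iff (Q : MorphismProperty (AlgSp.Sp S)) {𝒜 : AlgSt.Cat S}
    {U : Over S} (g : 𝒜 ⥤ᵇ FibCat.overCat U) (F : AlgSp.Sp S) (e : AlgSt.ofSp F ⥤ᵇ 𝒜)
    (he : FibCat.IsEquivOver e) :
    AlgSt.RepByAlgSpWith Q (FibCat.diag g) ↔
      AlgSt.RepByAlgSpWith Q
        (AlgSt.ofSpMap (pullback.diagonal (AlgSt.spMapOfOver (BasedFunctor.comp e g)))) := by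
  have := IsEquivOver.isEquivalence _
    (Groth.Agent.Lib.Helper15DiagRepSp.isEquivOver_toOverCat U)
  rw [← repByAlgSpWith_diag_ofSpMap_iff]
  exact repByAlgSpWith_diag_of_square Q g
    (AlgSt.ofSpMap (AlgSt.spMapOfOver (BasedFunctor.comp e g))) e (AlgSt.toOverCat U) he
    (isoToOverCat (BasedFunctor.comp e g))

end Space

end Groth.Agent.Lib.Seat83.DiagSq
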