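-- helper83: the diagonal of a functor representable by algebraic spaces versus the diagonals of
-- its base changes to schemes (maps of algebraic spaces).
import Mathlib
import Groth.Agent.Lib.Seat83DiagSq
import Groth.Agent.Lib.Seat83DiagIff
import Groth.Agent.Lib.Seat83DiagCancel2
import Groth.Agent.Lib.Helper15SpMapRep
import Groth.Agent.S9917
import Groth.Agent.S9923
import Groth.Agent.S9913
import Groth.Agent.S9912
import Groth.Agent.S9900
import Groth.Agent.S10280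
import Groth.Agent.S9925
import Groth.Agent.Lib.Helper15MonoSep

set_option autoImplicit false
set_option backward.isDefEq.respectTransparency false
set_option backward.isDefEq.respectTransparency.types false
open CategoryTheory CategoryTheory.Functor CategoryTheory.Limits Opposite AlgebraicGeometry

universe u

namespace Groth.Agent.Lib.Seat83.DiagPsi

open Groth.Agent.Lib.Helper17 Groth.Agent.Lib.Helper15PshFib Groth.Agent.Lib.Helper15RepPsh
  Groth.Agent.Lib.Helper15DiagLft Groth.Agent.Lib.Helper15.DiagBC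
  Groth.Agent.Lib.Helper15SpMapRep Groth.Agent.Lib.Helper15Descent
  Groth.Agent.Lib.Seat83.DiagSq Groth.Agent.Lib.Seat83.DiagIff

variable {S : Scheme.{u}} {𝒳 𝒴 : AlgSt.Cat S}

/-- From the diagonal of `f` to the diagonals of the maps of spaces representing its base
changes. -/
theorem ofSpMap_diagonal_of_diag (Q : MorphismProperty (AlgSp.Sp S)) (f : 𝒳 ⥤ᵇ 𝒴)
    (h : AlgSt.RepByAlgSpWith Q (FibCat.diag f)) {U : Over S} (y : FibCat.overCat U ⥤ᵇ 𝒴)
    (F : AlgSp.Sp S) (e : AlgSt.ofSp F ⥤ᵇ FibCat.fp y f) (he : FibCat.IsEquivOver e) :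
    AlgSt.RepByAlgSpWith Q (AlgSt.ofSpMap (pullback.diagonal
      (AlgSt.spMapOfOver (BasedFunctor.comp e (FibCat.fpFst y f))))) :=
  (repByAlgSpWith_diag_toSlice_iff Q (FibCat.fpFst y f) F e he).1
    (repByAlgSpWith_diag_fpFst Q f y h)

/-- From the diagonals of maps of spaces representing the base changes of `f` to the diagonal of
`f`. -/
theorem diag_of_ofSpMap_diagonal (Q : MorphismProperty (AlgSp.Sp S)) (f : 𝒳 ⥤ᵇ 𝒴)
    (h : ∀ (U : Over S) (y : FibCat.overCat U ⥤ᵇ 𝒴), ∃ (F : AlgSp.Sp S)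
      (e : AlgSt.ofSp F ⥤ᵇ FibCat.fp y f), FibCat.IsEquivOver e ∧
        AlgSt.RepByAlgSpWith Q (AlgSt.ofSpMap (pullback.diagonal
          (AlgSt.spMapOfOver (BasedFunctor.comp e (FibCat.fpFst y f)))))) :
    AlgSt.RepByAlgSpWith Q (FibCat.diag f) := by
  apply repByAlgSpWith_diag_of_forall
  intro T y
  obtain ⟨F, e, he, hQ⟩ := h T y
  exact (repByAlgSpWith_diag_toSlice_iff Q (FibCat.fpFst y f) F e he).2 hQ

/-- A base change to a scheme of a map of sheaves whose functor is representable by algebraic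
spaces with `Q` is isomorphic to a map with `Q` from an algebraic space. -/
theorem exists_iso_of_repByAlgSpWith_ofSpMap (Q : MorphismProperty (AlgSp.Sp S)) {V W : AlgSp.Sp S}
    (δ : V ⟶ W) (h : AlgSt.RepByAlgSpWith Q (AlgSt.ofSpMap δ)) {U : Over S}
    (ξ : (AlgSp.yon S).obj U ⟶ W) {P : AlgSp.Sp S} (fst : P ⟶ V) (snd : P ⟶ (AlgSp.yon S).obj U)
    (sq : IsPullback fst snd δ ξ) :
    ∃ (H : AlgSp.Space S) (snd' : H.obj ⟶ (AlgSp.yon S).obj U) (i : P ≅ H.obj),
      i.hom ≫ snd' = snd ∧ Q snd' := by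
  obtain ⟨H, e, he, hQ⟩ := h U (pshOfSection (uliftYonedaEquiv ξ.hom))
  have sq' := isPullback_of_isEquivOver δ.hom (uliftYonedaEquiv ξ.hom) e he
  rw [Equiv.symm_apply_apply] at sq'
  let fst' : H.obj ⟶ V := ObjectProperty.homMk (pshMapOf (BasedFunctor.comp e (FibCat.fpSnd _ _)))
  have sq'' : IsPullback fst' (AlgSt.spMapOfOver (BasedFunctor.comp e (FibCat.fpFst _ _))) δ ξ :=
    IsPullback.of_map_of_faithful (sheafToPresheaf (AlgSp.J S) (Type (u + 1))) sq'
  exact ⟨H, _, sq.isoIsPullback _ _ sq'', sq.isoIsPullback_hom_snd _ _ sq'', hQ⟩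

theorem isPullback_of_iso_snd {P H Z : AlgSp.Sp S} (i : P ≅ H) (snd : P ⟶ Z) (snd' : H ⟶ Z)
    (hi : i.hom ≫ snd' = snd) : IsPullback i.hom snd snd' (𝟙 Z) :=
  IsPullback.of_horiz_isIso ⟨by rw [hi, Category.comp_id]⟩

/-- A map of algebraic spaces whose functor is representable by algebraic spaces and quasi-compact
is quasi-compact. -/
theorem isQuasiCompactMor_of_repByAlgSpWith_ofSpMap {V W : AlgSp.Space S} (δ : V ⟶ W)
    (h : AlgSt.RepByAlgSpWith AlgSp.IsQuasiCompactMor (AlgSt.ofSpMap δ.hom)) :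
    AlgSp.IsQuasiCompactMor δ.hom := by
  rw [Groth.Agent.S9917.result δ]
  intro Z hZ g P fst snd sq
  obtain ⟨H, snd', i, hi, hQ⟩ := exists_iso_of_repByAlgSpWith_ofSpMap _ δ.hom h g fst snd sq
  exact hQ (AlgSp.IsAlgSpace.yon_obj Z) (Groth.Agent.S9913.isQuasiCompactSp_yon_of_compact Z)
    (𝟙 _) i.hom snd (isPullback_of_iso_snd i snd snd' hi)

/-- A map of algebraic spaces whose functor is representable by algebraic spaces and universally
closed is universally closed. -/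
theorem isUnivClosedMor_of_repByAlgSpWith_ofSpMap {V W : AlgSp.Space S} (δ : V ⟶ W)
    (h : AlgSt.RepByAlgSpWith AlgSp.IsUnivClosedMor (AlgSt.ofSpMap δ.hom)) :
    AlgSp.IsUnivClosedMor δ.hom := by
  rw [Groth.Agent.S9923.result δ]
  intro Z hZ g P fst snd sq
  obtain ⟨H, snd', i, hi, hQ⟩ := exists_iso_of_repByAlgSpWith_ofSpMap _ δ.hom h g fst snd sq
  exact hQ (AlgSp.IsAlgSpace.yon_obj Z) (𝟙 _) i.hom snd (isPullback_of_iso_snd i snd snd' hi)

theorem isAlgSpace_pullback_self {X Y : AlgSp.Space S} (a : X ⟶ Y) :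
    AlgSp.IsAlgSpace (pullback a.hom a.hom) :=
  Groth.Agent.S9874.isAlgSpace_of_isPullback Y.property.diag X.property X.property
    (IsPullback.of_hasPullback _ _)

/-- If `Q'` of a map of algebraic spaces gives `Q` of its diagonal and `Q` is stable under base
change, then `Q'` of `f` gives `Q` of the diagonal of `f`. -/
theorem repByAlgSpWith_diag_of_repByAlgSpWith (Q Q' : MorphismProperty (AlgSp.Sp S))
    (hQb : BCStable Q)
    (hQQ' : ∀ {X Y : AlgSp.Space S} (a : X ⟶ Y), Q' a.hom → Q (pullback.diagonal a.hom))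
    (f : 𝒳 ⥤ᵇ 𝒴) (h : AlgSt.RepByAlgSpWith Q' f) :
    AlgSt.RepByAlgSpWith Q (FibCat.diag f) := by
  apply diag_of_ofSpMap_diagonal
  intro U y
  obtain ⟨F, e, he, hQ'⟩ := h U y
  refine ⟨F.obj, e, he, ?_⟩
  let YU : AlgSp.Space S := ⟨(AlgSp.yon S).obj U, AlgSp.IsAlgSpace.yon_obj U⟩
  let a : F ⟶ YU := ObjectProperty.homMk
    (AlgSt.spMapOfOver (BasedFunctor.comp e (FibCat.fpFst y f)))
  let PP : AlgSp.Space S := ⟨pullback a.hom a.hom, isAlgSpace_pullback_self a⟩
  let δ : F ⟶ PP := ObjectProperty.homMk (pullback.diagonal a.hom)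
  exact repByAlgSpWith_ofSpMap Q hQb F PP δ (hQQ' a hQ')

/-- If `Q` of the diagonal of a map of algebraic spaces gives `Q'` of the map and `Q` can be
checked on the functor of a map of spaces, then `Q` of the diagonal of a functor `f`
representable by algebraic spaces gives `Q'` of `f`. -/
theorem repByAlgSpWith_of_repByAlgSpWith_diag (Q Q' : MorphismProperty (AlgSp.Sp S))
    (hQloc : ∀ {V W : AlgSp.Space S} (δ : V ⟶ W),
      AlgSt.RepByAlgSpWith Q (AlgSt.ofSpMap δ.hom) → Q δ.hom)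
    (hQQ' : ∀ {X Y : AlgSp.Space S} (a : X ⟶ Y), Q (pullback.diagonal a.hom) → Q' a.hom)
    (f : 𝒳 ⥤ᵇ 𝒴) (hf : AlgSt.RepByAlgSp1 f) (h : AlgSt.RepByAlgSpWith Q (FibCat.diag f)) :
    AlgSt.RepByAlgSpWith Q' f := by
  intro U y
  obtain ⟨F, e, he⟩ := hf U y
  refine ⟨F, e, he, ?_⟩
  let YU : AlgSp.Space S := ⟨(AlgSp.yon S).obj U, AlgSp.IsAlgSpace.yon_obj U⟩
  let a : F ⟶ YU := ObjectProperty.homMk
    (AlgSt.spMapOfOver (BasedFunctor.comp e (FibCat.fpFst y f)))
  let PP : AlgSp.Space S := ⟨pullback a.hom a.hom, isAlgSpace_pullback_self a⟩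
  let δ : F ⟶ PP := ObjectProperty.homMk (pullback.diagonal a.hom)
  have h1 : AlgSt.RepByAlgSpWith Q (AlgSt.ofSpMap δ.hom) :=
    ofSpMap_diagonal_of_diag Q f h y F.obj e he
  exact hQQ' a (hQloc δ h1)

theorem bcStable_qc : BCStable (AlgSp.IsQuasiCompactMor (S := S)) :=
  fun _ _ _ _ _ _ _ _ _ _ _ _ sq ha =>
    Groth.Agent.Lib.Helper12.Proper.isQuasiCompactMor_baseChange sq ha

theorem bcStable_univClosed : BCStable (AlgSp.IsUnivClosedMor (S := S)) :=
  fun _ _ _ _ _ _ _ _ _ _ _ _ sq ha =>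
    Groth.Agent.Lib.Helper12.Proper.isUnivClosedMor_baseChange sq ha

theorem bcStable_repWith (P : MorphismProperty Scheme.{u}) : BCStable (AlgSp.RepWith (S := S) P) :=
  fun _ _ _ _ _ _ _ _ _ _ _ _ sq ha =>
    MorphismProperty.of_isPullback (P := AlgSp.RepWith (S := S) P) sq ha

theorem bcStable_proper : BCStable (AlgSp.IsProperMor (S := S)) :=
  Groth.Agent.Lib.Seat83.DiagCancel2.isProperMor_baseChange

theorem bcStable_qs : BCStable (AlgSp.IsQuasiSeparatedMor (S := S)) :=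
  fun _ _ _ _ _ _ _ _ _ _ _ _ sq ha =>
    MorphismProperty.of_isPullback (P := (AlgSp.RepWith (S := S) @QuasiCompact).diagonal) sq ha

theorem isQuasiSeparatedMor_iff_qc_diagonal {X Y : AlgSp.Space S} (a : X ⟶ Y) :
    AlgSp.IsQuasiSeparatedMor a.hom ↔ AlgSp.IsQuasiCompactMor (pullback.diagonal a.hom) := by
  let PP : AlgSp.Space S := ⟨pullback a.hom a.hom, isAlgSpace_pullback_self a⟩
  let δ : X ⟶ PP := ObjectProperty.homMk (pullback.diagonal a.hom)
  exact Groth.Agent.S9912.result δ (Groth.Agent.S9900.result a).1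

/-- If every base change of `f` to a scheme is quasi-separated, the diagonal of `f` is
quasi-compact. -/
theorem repByAlgSpWith_qc_diag_of_qs (f : 𝒳 ⥤ᵇ 𝒴)
    (h : AlgSt.RepByAlgSpWith AlgSp.IsQuasiSeparatedMor f) :
    AlgSt.RepByAlgSpWith AlgSp.IsQuasiCompactMor (FibCat.diag f) :=
  repByAlgSpWith_diag_of_repByAlgSpWith AlgSp.IsQuasiCompactMor AlgSp.IsQuasiSeparatedMor
    bcStable_qc (fun a h => (isQuasiSeparatedMor_iff_qc_diagonal a).1 h) f h

/-- If the diagonal of `f`, representable by algebraic spaces, is quasi-compact, every base change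
of `f` to a scheme is quasi-separated. -/
theorem repByAlgSpWith_qs_of_qc_diag (f : 𝒳 ⥤ᵇ 𝒴) (hf : AlgSt.RepByAlgSp1 f)
    (h : AlgSt.RepByAlgSpWith AlgSp.IsQuasiCompactMor (FibCat.diag f)) :
    AlgSt.RepByAlgSpWith AlgSp.IsQuasiSeparatedMor f :=
  repByAlgSpWith_of_repByAlgSpWith_diag AlgSp.IsQuasiCompactMor AlgSp.IsQuasiSeparatedMor
    isQuasiCompactMor_of_repByAlgSpWith_ofSpMap
    (fun a h => (isQuasiSeparatedMor_iff_qc_diagonal a).2 h) f hf h

/-- If every base change of `f` to a scheme is separated, the diagonal of `f` is a closed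
immersion. -/
theorem isClosedImm_diag_of_sep (f : 𝒳 ⥤ᵇ 𝒴)
    (h : AlgSt.RepByAlgSpWith AlgSp.IsSeparatedMor f) : AlgSt.IsClosedImm (FibCat.diag f) :=
  repByAlgSpWith_diag_of_repByAlgSpWith (AlgSp.RepWith @IsClosedImmersion) AlgSp.IsSeparatedMor
    (bcStable_repWith _) (fun _ h => h) f h

/-- If every base change of `f` to a scheme is separated, the diagonal of `f` is proper. -/
theorem isSeparatedMor_of_sep (f : 𝒳 ⥤ᵇ 𝒴)
    (h : AlgSt.RepByAlgSpWith AlgSp.IsSeparatedMor f) : AlgSt.IsSeparatedMor f :=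
  repByAlgSpWith_diag_of_repByAlgSpWith AlgSp.IsProperMor AlgSp.IsSeparatedMor
    bcStable_proper (fun a h => (Groth.Agent.S10280.result a).2.1 h) f h

/-- If the diagonal of `f`, representable by algebraic spaces, is universally closed, every base
change of `f` to a scheme is separated. -/
theorem repByAlgSpWith_sep_of_univClosed_diag (f : 𝒳 ⥤ᵇ 𝒴) (hf : AlgSt.RepByAlgSp1 f)
    (h : AlgSt.RepByAlgSpWith AlgSp.IsUnivClosedMor (FibCat.diag f)) :
    AlgSt.RepByAlgSpWith AlgSp.IsSeparatedMor f :=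
  repByAlgSpWith_of_repByAlgSpWith_diag AlgSp.IsUnivClosedMor AlgSp.IsSeparatedMor
    isUnivClosedMor_of_repByAlgSpWith_ofSpMap
    (fun a h => (Groth.Agent.S10280.result a).1.2 h) f hf h

/-- Two properties of a functor representable by algebraic spaces, the second stable under base
change, hold together. -/
theorem repByAlgSpWith_inf {𝒜 ℬ : AlgSt.Cat S} (P P' : MorphismProperty (AlgSp.Sp S))
    (hP'b : BCStable P') (g : 𝒜 ⥤ᵇ ℬ) (h : AlgSt.RepByAlgSpWith P g)
    (h' : AlgSt.RepByAlgSpWith P' g) : AlgSt.RepByAlgSpWith (P ⊓ P') g := by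
  intro T w
  obtain ⟨F₁, e₁, he₁, h1⟩ := h T w
  obtain ⟨F₂, e₂, he₂, h2⟩ := h' T w
  refine ⟨F₁, e₁, he₁, ⟨h1, ?_⟩⟩
  obtain ⟨i, hi⟩ := exists_iso_of_two_reps g w F₂.obj e₂ he₂ F₁.obj e₁ he₁
  rw [← hi]
  exact precomp_iso_of_bcStable P' hP'b F₁.property F₂.property (AlgSp.IsAlgSpace.yon_obj T) i _ h2

/-- Monotonicity of `RepByAlgSpWith` in the property, tested only on maps from algebraic spaces
to schemes. -/
theorem repByAlgSpWith_mono' {𝒜 ℬ : AlgSt.Cat S} {P P' : MorphismProperty (AlgSp.Sp S)}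
    (h : ∀ (F : AlgSp.Space S) (U : Over S) (k : F.obj ⟶ (AlgSp.yon S).obj U), P k → P' k)
    (g : 𝒜 ⥤ᵇ ℬ) (hg : AlgSt.RepByAlgSpWith P g) : AlgSt.RepByAlgSpWith P' g := by
  intro U y
  obtain ⟨F, e, he, hP⟩ := hg U y
  exact ⟨F, e, he, h F U _ hP⟩

theorem bcStable_sep : BCStable (AlgSp.IsSeparatedMor (S := S)) :=
  fun _ _ _ _ _ _ _ _ _ _ _ _ sq ha =>
    Groth.Agent.Lib.Helper12.Proper.isSeparatedMor_baseChange sq ha

theorem isQuasiSeparatedMor_of_isSeparatedMor {F G : AlgSp.Sp S} (k : F ⟶ G)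
    (hk : AlgSp.IsSeparatedMor k) : AlgSp.IsQuasiSeparatedMor k :=
  ⟨hk.1, fun _ _ g fst snd sq => by
    have : IsClosedImmersion snd.left := hk.2 g fst snd sq
    exact (inferInstance : QuasiCompact snd.left)⟩

/-- A functor between algebraic stacks whose first and second diagonals are universally closed is
separated. -/
theorem isSeparatedMor_of_univClosed_diag_diag (h𝒳 : AlgSt.IsAlgStack Scheme.fppfPrecoverage 𝒳)
    (h𝒴 : AlgSt.IsAlgStack Scheme.fppfPrecoverage 𝒴) (f : 𝒳 ⥤ᵇ 𝒴)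
    (h1 : AlgSt.RepByAlgSpWith AlgSp.IsUnivClosedMor (FibCat.diag f))
    (h2 : AlgSt.RepByAlgSpWith AlgSp.IsUnivClosedMor (FibCat.diag (FibCat.diag f))) :
    AlgSt.IsSeparatedMor f := by
  have hΔ : AlgSt.RepByAlgSp1 (FibCat.diag f) :=
    Groth.Agent.Lib.Helper15DiagRepSp.repByAlgSp1_diag_of_diag f h𝒳.diag h𝒴.diag
  have hsep : AlgSt.RepByAlgSpWith AlgSp.IsSeparatedMor (FibCat.diag f) :=
    repByAlgSpWith_sep_of_univClosed_diag (FibCat.diag f) hΔ h2
  have hlft : AlgSt.RepByAlgSpWith (AlgSp.LocP @LocallyOfFiniteType) (FibCat.diag f) :=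
    repByAlgSpWith_lft_diag h𝒳 h𝒴 f
  have h3 := repByAlgSpWith_inf _ _ bcStable_lft _
    (repByAlgSpWith_inf _ _ bcStable_sep _ h1 hsep) hlft
  refine repByAlgSpWith_mono' (fun F U k hk => ?_) _ h3
  exact ⟨hk.1.2, ⟨hk.2, Groth.Agent.S9925.result (X := F)
    (Y := ⟨(AlgSp.yon S).obj U, AlgSp.IsAlgSpace.yon_obj U⟩) (ObjectProperty.homMk k) hk.1.1⟩,
    hk.1.1⟩

/-- The stack-theoretic quasi-separatedness of a functor between algebraic stacks in terms of the
quasi-compactness of its first and second diagonals. -/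
theorem isQuasiSeparatedMor_iff_qc_diag_diag (h𝒳 : AlgSt.IsAlgStack Scheme.fppfPrecoverage 𝒳)
    (h𝒴 : AlgSt.IsAlgStack Scheme.fppfPrecoverage 𝒴) (f : 𝒳 ⥤ᵇ 𝒴) :
    AlgSt.IsQuasiSeparatedMor f ↔
      AlgSt.RepByAlgSpWith AlgSp.IsQuasiCompactMor (FibCat.diag f) ∧
        AlgSt.RepByAlgSpWith AlgSp.IsQuasiCompactMor (FibCat.diag (FibCat.diag f)) := by
  have hΔ : AlgSt.RepByAlgSp1 (FibCat.diag f) :=
    Groth.Agent.Lib.Helper15DiagRepSp.repByAlgSp1_diag_of_diag f h𝒳.diag h𝒴.diag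
  constructor
  · intro h
    refine ⟨repByAlgSpWith_mono (fun _ _ g hg => hg.1) _ h, ?_⟩
    exact repByAlgSpWith_qc_diag_of_qs (FibCat.diag f)
      (repByAlgSpWith_mono (fun _ _ g hg => hg.2) _ h)
  · rintro ⟨h1, h2⟩
    exact repByAlgSpWith_inf _ _ bcStable_qs _ h1
      (repByAlgSpWith_qs_of_qc_diag (FibCat.diag f) hΔ h2)

/-- For a functor between algebraic stacks which is representable by algebraic spaces, the two
notions of quasi-separatedness agree. -/
theorem isQuasiSeparatedMor_iff_of_repByAlgSp1 (h𝒳 : AlgSt.IsAlgStack Scheme.fppfPrecoverage 𝒳)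
    (h𝒴 : AlgSt.IsAlgStack Scheme.fppfPrecoverage 𝒴) (f : 𝒳 ⥤ᵇ 𝒴) (hf : AlgSt.RepByAlgSp1 f) :
    AlgSt.IsQuasiSeparatedMor f ↔ AlgSt.RepByAlgSpWith AlgSp.IsQuasiSeparatedMor f := by
  constructor
  · intro h
    exact repByAlgSpWith_qs_of_qc_diag f hf (repByAlgSpWith_mono (fun _ _ g hg => hg.1) _ h)
  · intro h
    have hmono : AlgSt.IsMono (FibCat.diag f) :=
      Groth.Agent.Lib.Helper15MonoFF.isMono_diag_of_repByAlgSp1 h𝒳.isStack.1 h𝒴.isStack.1
        h𝒳.diag h𝒴.diag f hf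
    have hsep := Groth.Agent.Lib.Helper15MonoSep.repByAlgSpWith_isSeparatedMor_of_isMono _ hmono
    have hqs : AlgSt.RepByAlgSpWith AlgSp.IsQuasiSeparatedMor (FibCat.diag f) :=
      repByAlgSpWith_mono (fun _ _ g hg => isQuasiSeparatedMor_of_isSeparatedMor g hg) _ hsep
    exact repByAlgSpWith_inf _ _ bcStable_qs _ (repByAlgSpWith_qc_diag_of_qs f h) hqs

end Groth.Agent.Lib.Seat83.DiagPsi
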