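-- helper83: the diagonal of a functor representable by algebraic spaces is representable (by
-- schemes); inertia and the second diagonal.
import Mathlib
import Groth.Agent.Lib.Seat83DiagPsi
import Groth.Agent.Lib.Helper17FibInertia3
import Groth.Agent.Lib.Helper15EquivRep
import Groth.Agent.S10262

set_option autoImplicit false
set_option backward.isDefEq.respectTransparency false
set_option backward.isDefEq.respectTransparency.types false
open CategoryTheory CategoryTheory.Functor CategoryTheory.Limits Opposite AlgebraicGeometry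

universe u

namespace Groth.Agent.Lib.Seat83.DiagPsi2

open Groth.Agent.Lib.Helper17 Groth.Agent.Lib.Helper15PshFib Groth.Agent.Lib.Helper15RepPsh
  Groth.Agent.Lib.Helper15DiagLft Groth.Agent.Lib.Helper15.DiagBC
  Groth.Agent.Lib.Helper15SpMapRep Groth.Agent.Lib.Helper15Descent
  Groth.Agent.Lib.Seat83.DiagSq Groth.Agent.Lib.Seat83.DiagIff Groth.Agent.Lib.Seat83.DiagPsi
  Groth.Agent.Lib.Seat83.PshFp

variable {S : Scheme.{u}} {𝒳 𝒴 : AlgSt.Cat S}

theorem bcStable_representable : BCStable (AlgSp.Representable (S := S)) :=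
  fun _ _ _ _ _ _ _ _ _ _ _ _ sq ha =>
    MorphismProperty.of_isPullback (P := AlgSp.Representable (S := S)) sq ha

/-- The diagonal of a functor representable by algebraic spaces is representable by algebraic
spaces, with base changes to schemes representable maps. -/
theorem repByAlgSpWith_representable_diag (f : 𝒳 ⥤ᵇ 𝒴) (hf : AlgSt.RepByAlgSp1 f) :
    AlgSt.RepByAlgSpWith AlgSp.Representable (FibCat.diag f) :=
  repByAlgSpWith_diag_of_repByAlgSpWith AlgSp.Representable ⊤ bcStable_representable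
    (fun a _ => (Groth.Agent.S9900.result a).1) f
    ((Groth.Agent.Lib.Helper15DiagOfComp.repByAlgSpWith_top_iff f).2 hf)

/-- A functor representable by algebraic spaces with representable base changes is a
representable 1-morphism. -/
theorem isRepresentable1_of_repByAlgSpWith_representable {𝒜 ℬ : AlgSt.Cat S} (g : 𝒜 ⥤ᵇ ℬ)
    (h : AlgSt.RepByAlgSpWith AlgSp.Representable g) : FibCat.IsRepresentable1 g := by
  intro U G
  obtain ⟨F, e, he, hrep⟩ := h U G
  obtain ⟨V, snd, fst, sq⟩ := hrep (𝟙 ((AlgSp.yon S).obj U))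
  have hfst : IsIso fst := sq.isIso_fst_of_isIso
  let i : ((AlgSp.yon S).obj V).obj ≅ F.obj.obj :=
    (sheafToPresheaf (AlgSp.J S) (Type (u + 1))).mapIso (asIso fst)
  have h1 : FibCat.IsEquivOver (Stk.ofPshMap i.hom) := isEquivOver_ofPshMap_of_iso i
  have h2 : FibCat.IsEquivOver (BasedFunctor.comp (AlgSt.ofOverCat V)
      (BasedFunctor.comp (Stk.ofPshMap i.hom) e)) :=
    IsEquivOver.comp _ _ (Groth.Agent.Lib.Helper15DiagRepSp.isEquivOver_ofOverCat V)
      (IsEquivOver.comp _ _ h1 he)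
  obtain ⟨E, hE, -, -⟩ := IsEquivOver.exists_inverse_isEquivOver' _ h2
  exact ⟨V, E, hE⟩

/-- A map of sheaves whose functor is representable by algebraic spaces with base changes
representable with `P` is representable with `P`. -/
theorem repWith_of_repByAlgSpWith_ofSpMap (P : MorphismProperty Scheme.{u})
    [P.IsStableUnderBaseChange] {V W : AlgSp.Sp S} (δ : V ⟶ W)
    (h : AlgSt.RepByAlgSpWith (AlgSp.RepWith P) (AlgSt.ofSpMap δ)) : AlgSp.RepWith P δ := by
  apply MorphismProperty.relative.of_exists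
  intro U g
  have sq₀ := IsPullback.of_hasPullback δ g
  obtain ⟨H, snd', i, hi, hQ⟩ := exists_iso_of_repByAlgSpWith_ofSpMap _ δ h g _ _ sq₀
  obtain ⟨V', v, fst', sq'⟩ := hQ.1 (𝟙 ((AlgSp.yon S).obj U))
  have hfst' : IsIso fst' := sq'.isIso_fst_of_isIso
  have hv : P v.left := hQ.2 _ _ _ sq'
  have e : (fst' ≫ i.inv) ≫ pullback.snd δ g = (AlgSp.yon S).map v := by
    rw [Category.assoc, ← hi, Iso.inv_hom_id_assoc, sq'.w, Category.comp_id]
  have left : IsPullback (fst' ≫ i.inv) ((AlgSp.yon S).map v) (pullback.snd δ g)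
      (𝟙 ((AlgSp.yon S).obj U)) :=
    IsPullback.of_horiz_isIso ⟨by rw [e, Category.comp_id]⟩
  have sq := left.paste_horiz sq₀
  rw [Category.id_comp] at sq
  exact ⟨V', (fst' ≫ i.inv) ≫ pullback.fst δ g, v, sq, hv⟩

section Inertia

variable (f : 𝒳 ⥤ᵇ 𝒴)

/-- The neutral section of the inertia corresponds to the second diagonal. -/
def neutralIso : BasedFunctor.comp (FibCat.inertiaNeutral f) (inertiaToFpDiag f) ≅
    FibCat.diag (FibCat.diag f) :=
  fpIsoMk (FibCat.diag f) (FibCat.diag f)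
    (H := BasedFunctor.comp (FibCat.inertiaNeutral f) (inertiaToFpDiag f))
    (K := FibCat.diag (FibCat.diag f)) (Iso.refl _) (Iso.refl _) (fun x => by
      apply ObjectProperty.hom_ext
      apply Limits.CategoricalPullback.hom_ext
      · change 𝟙 x ≫ 𝟙 x = 𝟙 x ≫ 𝟙 x
        rfl
      · change 𝟙 x ≫ 𝟙 x = 𝟙 x ≫ 𝟙 x
        rfl)

theorem repByAlgSpWith_inertiaNeutral_iff (Q : MorphismProperty (AlgSp.Sp S)) :
    AlgSt.RepByAlgSpWith Q (FibCat.inertiaNeutral f) ↔
      AlgSt.RepByAlgSpWith Q (FibCat.diag (FibCat.diag f)) :=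
  (repByAlgSpWith_of_square Q (FibCat.diag (FibCat.diag f)) (FibCat.inertiaNeutral f)
    (BasedFunctor.id _) (inertiaToFpDiag f) (isEquivOver_id _) (isEquivOver_inertiaToFpDiag f)
    (neutralIso f)).symm

theorem repByAlgSpWith_inertiaToBase_iff (Q : MorphismProperty (AlgSp.Sp S)) :
    AlgSt.RepByAlgSpWith Q (FibCat.inertiaToBase f) ↔
      AlgSt.RepByAlgSpWith Q (FibCat.fpFst (FibCat.diag f) (FibCat.diag f)) :=
  (repByAlgSpWith_of_square Q (FibCat.fpFst (FibCat.diag f) (FibCat.diag f))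
    (FibCat.inertiaToBase f) (inertiaToFpDiag f) (BasedFunctor.id _)
    (isEquivOver_inertiaToFpDiag f) (isEquivOver_id _) (Iso.refl _)).symm

/-- If the diagonal of `f` has `Q`, so does the projection from the relative inertia. -/
theorem repByAlgSpWith_inertiaToBase_of_diag (Q : MorphismProperty (AlgSp.Sp S))
    (h : AlgSt.RepByAlgSpWith Q (FibCat.diag f)) :
    AlgSt.RepByAlgSpWith Q (FibCat.inertiaToBase f) :=
  (repByAlgSpWith_inertiaToBase_iff f Q).2 (repByAlgSpWith_fpFst Q (FibCat.diag f) (FibCat.diag f) h)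

/-- The neutral section has `P` when the projection from the inertia has `Q`, for `P`, `Q`
admitting cancellation. -/
theorem repByAlgSpWith_inertiaNeutral_of_cancel (P Q : MorphismProperty (AlgSp.Sp S))
    (hPb : BCStable P)
    (hcancel : ∀ ⦃X Y Z : AlgSp.Sp S⦄, AlgSp.IsAlgSpace X → AlgSp.IsAlgSpace Y → AlgSp.IsAlgSpace Z →
      ∀ (a : X ⟶ Y) (b : Y ⟶ Z), Q b → P (a ≫ b) → P a)
    (hPid : ∀ U : Over S, P (𝟙 ((AlgSp.yon S).obj U)))
    (h : AlgSt.RepByAlgSpWith Q (FibCat.inertiaToBase f)) :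
    AlgSt.RepByAlgSpWith P (FibCat.inertiaNeutral f) :=
  Groth.Agent.Lib.Seat83.DiagCancel2.repByAlgSpWith_of_comp_of_cancel₂ P Q hPb hcancel
    (FibCat.inertiaNeutral f) (FibCat.inertiaToBase f) h
    (Groth.Agent.Lib.Helper15EquivRep.repByAlgSpWith_of_isEquivOver P hPid _
      (isEquivOver_id 𝒳 : FibCat.IsEquivOver
        (BasedFunctor.comp (FibCat.inertiaNeutral f) (FibCat.inertiaToBase f))))

theorem closedImm_cancel ⦃X Y Z : AlgSp.Sp S⦄ (_ : AlgSp.IsAlgSpace X) (_ : AlgSp.IsAlgSpace Y)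
    (_ : AlgSp.IsAlgSpace Z) (a : X ⟶ Y) (b : Y ⟶ Z) (hb : AlgSp.IsSeparatedMor b)
    (hab : AlgSp.RepWith @IsClosedImmersion (a ≫ b)) : AlgSp.RepWith @IsClosedImmersion a := by
  have : (AlgSp.RepWith (S := S) @IsClosedImmersion).HasOfPostcompProperty
      (AlgSp.RepWith (S := S) @IsClosedImmersion).diagonal :=
    MorphismProperty.hasOfPostcompProperty_iff_le_diagonal.2 le_rfl
  exact MorphismProperty.of_postcomp (W := AlgSp.RepWith (S := S) @IsClosedImmersion)
    (W' := (AlgSp.RepWith (S := S) @IsClosedImmersion).diagonal) a b hb hab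

theorem qc_cancel ⦃X Y Z : AlgSp.Sp S⦄ (hX : AlgSp.IsAlgSpace X) (hY : AlgSp.IsAlgSpace Y)
    (hZ : AlgSp.IsAlgSpace Z) (a : X ⟶ Y) (b : Y ⟶ Z) (hb : AlgSp.IsQuasiSeparatedMor b)
    (hab : AlgSp.IsQuasiCompactMor (a ≫ b)) : AlgSp.IsQuasiCompactMor a :=
  Groth.Agent.S9919.result (X := ⟨X, hX⟩) (Y := ⟨Y, hY⟩) (Z := ⟨Z, hZ⟩)
    (ObjectProperty.homMk a) (ObjectProperty.homMk b) hab hb

/-- The relative inertia is separated over `𝒳` iff the diagonal of `f` is separated iff the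
neutral section is a closed immersion. -/
theorem tfae_inertia_separated (h𝒳 : AlgSt.IsAlgStack Scheme.fppfPrecoverage 𝒳)
    (h𝒴 : AlgSt.IsAlgStack Scheme.fppfPrecoverage 𝒴) :
    [AlgSt.RepByAlgSpWith AlgSp.IsSeparatedMor (FibCat.inertiaToBase f),
      AlgSt.RepByAlgSpWith AlgSp.IsSeparatedMor (FibCat.diag f),
      AlgSt.IsClosedImm (FibCat.inertiaNeutral f)].TFAE := by
  have hΔ : AlgSt.RepByAlgSp1 (FibCat.diag f) :=
    Groth.Agent.Lib.Helper15DiagRepSp.repByAlgSp1_diag_of_diag f h𝒳.diag h𝒴.diag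
  tfae_have 1 → 3 := fun h =>
    repByAlgSpWith_inertiaNeutral_of_cancel f (AlgSp.RepWith @IsClosedImmersion)
      AlgSp.IsSeparatedMor (bcStable_repWith _) closedImm_cancel
      (fun U => AlgSp.repWith_id _ U) h
  tfae_have 3 → 2 := fun h =>
    repByAlgSpWith_sep_of_univClosed_diag (FibCat.diag f) hΔ
      (repByAlgSpWith_mono
        (fun _ _ g hg => Groth.Agent.Lib.Helper12.Proper.isUnivClosedMor_of_isClosedImmersion g hg)
        _ ((repByAlgSpWith_inertiaNeutral_iff f _).1 h))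
  tfae_have 2 → 1 := fun h => repByAlgSpWith_inertiaToBase_of_diag f _ h
  tfae_finish

/-- The relative inertia is quasi-separated over `𝒳` iff the diagonal of `f` is quasi-separated
iff the neutral section is quasi-compact. -/
theorem tfae_inertia_quasiSeparated (h𝒳 : AlgSt.IsAlgStack Scheme.fppfPrecoverage 𝒳)
    (h𝒴 : AlgSt.IsAlgStack Scheme.fppfPrecoverage 𝒴) :
    [AlgSt.RepByAlgSpWith AlgSp.IsQuasiSeparatedMor (FibCat.inertiaToBase f),
      AlgSt.RepByAlgSpWith AlgSp.IsQuasiSeparatedMor (FibCat.diag f),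
      AlgSt.RepByAlgSpWith AlgSp.IsQuasiCompactMor (FibCat.inertiaNeutral f)].TFAE := by
  have hΔ : AlgSt.RepByAlgSp1 (FibCat.diag f) :=
    Groth.Agent.Lib.Helper15DiagRepSp.repByAlgSp1_diag_of_diag f h𝒳.diag h𝒴.diag
  tfae_have 1 → 3 := fun h =>
    repByAlgSpWith_inertiaNeutral_of_cancel f AlgSp.IsQuasiCompactMor
      AlgSp.IsQuasiSeparatedMor bcStable_qc qc_cancel
      (fun U => Groth.Agent.Lib.Helper12.Proper.isQuasiCompactMor_of_isClosedImmersion _
        (AlgSp.repWith_id _ U)) h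
  tfae_have 3 → 2 := fun h =>
    repByAlgSpWith_qs_of_qc_diag (FibCat.diag f) hΔ ((repByAlgSpWith_inertiaNeutral_iff f _).1 h)
  tfae_have 2 → 1 := fun h => repByAlgSpWith_inertiaToBase_of_diag f _ h
  tfae_finish

theorem openImm_cancel ⦃X Y Z : AlgSp.Sp S⦄ (_ : AlgSp.IsAlgSpace X) (hY : AlgSp.IsAlgSpace Y)
    (hZ : AlgSp.IsAlgSpace Z) (a : X ⟶ Y) (b : Y ⟶ Z)
    (hb : AlgSp.LocP (@LocallyOfFiniteType ⊓ @FormallyUnramified) b)
    (hab : AlgSp.RepWith @IsOpenImmersion (a ≫ b)) : AlgSp.RepWith @IsOpenImmersion a := by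
  have hΔ : AlgSp.RepWith @IsOpenImmersion (pullback.diagonal b) :=
    (Groth.Agent.S10262.result (X := ⟨Y, hY⟩) (Y := ⟨Z, hZ⟩) (ObjectProperty.homMk b)).1 hb
  have e : a = pullback.lift (𝟙 X) a (by simp) ≫ pullback.snd (a ≫ b) b := by simp
  rw [e]
  apply (AlgSp.RepWith (S := S) @IsOpenImmersion).comp_mem
  · exact (AlgSp.RepWith (S := S) @IsOpenImmersion).of_isPullback
      (pullback_lift_diagonal_isPullback a b) hΔ
  · exact (AlgSp.RepWith (S := S) @IsOpenImmersion).pullback_snd _ _ hab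

theorem repWith_cancel (P : MorphismProperty Scheme.{u}) [P.IsStableUnderBaseChange]
    [P.IsMultiplicative] ⦃X Y Z : AlgSp.Sp S⦄ (_ : AlgSp.IsAlgSpace X) (_ : AlgSp.IsAlgSpace Y)
    (_ : AlgSp.IsAlgSpace Z) (a : X ⟶ Y) (b : Y ⟶ Z) (hb : (AlgSp.RepWith (S := S) P).diagonal b)
    (hab : AlgSp.RepWith P (a ≫ b)) : AlgSp.RepWith P a := by
  have : (AlgSp.RepWith (S := S) P).HasOfPostcompProperty (AlgSp.RepWith (S := S) P).diagonal :=
    MorphismProperty.hasOfPostcompProperty_iff_le_diagonal.2 le_rfl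
  exact MorphismProperty.of_postcomp (W := AlgSp.RepWith (S := S) P)
    (W' := (AlgSp.RepWith (S := S) P).diagonal) a b hb hab

/-- If the relative inertia or the diagonal of `f` is locally separated, the neutral section is an
immersion. -/
theorem isImm_inertiaNeutral_of_locallySeparated :
    (AlgSt.RepByAlgSpWith AlgSp.IsLocallySeparatedMor (FibCat.inertiaToBase f) →
        AlgSt.IsImm (FibCat.inertiaNeutral f)) ∧
      (AlgSt.RepByAlgSpWith AlgSp.IsLocallySeparatedMor (FibCat.diag f) →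
        AlgSt.IsImm (FibCat.inertiaNeutral f)) := by
  refine ⟨fun h => ?_, fun h => ?_⟩
  · exact repByAlgSpWith_inertiaNeutral_of_cancel f (AlgSp.RepWith @IsImmersion)
      AlgSp.IsLocallySeparatedMor (bcStable_repWith _) (repWith_cancel @IsImmersion)
      (fun U => AlgSp.repWith_id _ U) h
  · exact (repByAlgSpWith_inertiaNeutral_iff f _).2
      (repByAlgSpWith_diag_of_repByAlgSpWith (AlgSp.RepWith @IsImmersion)
        AlgSp.IsLocallySeparatedMor (bcStable_repWith _) (fun _ ha => ha) (FibCat.diag f) h)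

/-- If the relative inertia is unramified over `𝒳`, then `f` is DM. -/
theorem isDMMor_of_unramified_inertiaToBase (h𝒳 : AlgSt.IsAlgStack Scheme.fppfPrecoverage 𝒳)
    (h𝒴 : AlgSt.IsAlgStack Scheme.fppfPrecoverage 𝒴)
    (h : AlgSt.RepByAlgSpWith (AlgSp.LocP (@LocallyOfFiniteType ⊓ @FormallyUnramified))
      (FibCat.inertiaToBase f)) : AlgSt.IsDMMor f := by
  have hΔ : AlgSt.RepByAlgSp1 (FibCat.diag f) :=
    Groth.Agent.Lib.Helper15DiagRepSp.repByAlgSp1_diag_of_diag f h𝒳.diag h𝒴.diag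
  have h1 : AlgSt.RepByAlgSpWith (AlgSp.RepWith @IsOpenImmersion) (FibCat.inertiaNeutral f) :=
    repByAlgSpWith_inertiaNeutral_of_cancel f (AlgSp.RepWith @IsOpenImmersion) _
      (bcStable_repWith _) openImm_cancel (fun U => AlgSp.repWith_id _ U) h
  have h2 := (repByAlgSpWith_inertiaNeutral_iff f _).1 h1
  have h3 : AlgSt.RepByAlgSpWith (AlgSp.RepWith (S := S) @IsOpenImmersion).diagonal
      (FibCat.diag f) :=
    repByAlgSpWith_of_repByAlgSpWith_diag (AlgSp.RepWith @IsOpenImmersion)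
      (AlgSp.RepWith (S := S) @IsOpenImmersion).diagonal
      (fun δ hδ => repWith_of_repByAlgSpWith_ofSpMap _ δ.hom hδ) (fun _ ha => ha)
      (FibCat.diag f) hΔ h2
  have hlft : AlgSt.RepByAlgSpWith (AlgSp.LocP @LocallyOfFiniteType) (FibCat.diag f) :=
    repByAlgSpWith_lft_diag h𝒳 h𝒴 f
  have h4 := repByAlgSpWith_inf _ _ bcStable_lft _ h3 hlft
  refine repByAlgSpWith_mono' (fun F U k hk => ?_) _ h4
  exact (Groth.Agent.S10262.result (X := F)
    (Y := ⟨(AlgSp.yon S).obj U, AlgSp.IsAlgSpace.yon_obj U⟩) (ObjectProperty.homMk k)).2 hk.2 hk.1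

theorem repByAlgSpWith_unramified_inertiaToBase_iff
    (h𝒳 : AlgSt.IsAlgStack Scheme.fppfPrecoverage 𝒳)
    (h𝒴 : AlgSt.IsAlgStack Scheme.fppfPrecoverage 𝒴) :
    AlgSt.RepByAlgSpWith (AlgSp.LocP (@LocallyOfFiniteType ⊓ @FormallyUnramified))
      (FibCat.inertiaToBase f) ↔ AlgSt.IsDMMor f :=
  ⟨isDMMor_of_unramified_inertiaToBase f h𝒳 h𝒴,
    fun h => repByAlgSpWith_inertiaToBase_of_diag f _ h⟩

end Inertia

end Groth.Agent.Lib.Seat83.DiagPsi2
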