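-- helper59: an algebraic stack covered by open substacks fibred in setoids is fibred in setoids,
-- hence the category of a sheaf.
import Mathlib
import Groth.Agent.Lib.Seat59OpenSubE
import Groth.Agent.Lib.Helper17StkElem
import Groth.Agent.Lib.Helper17FibSetoid
import Groth.Agent.Lib.Helper17StkPsh3
import Groth.Agent.Lib.Helper15PshFib
import Groth.Agent.Lib.Helper17AlgStEquiv
import Groth.Agent.Lib.Seat83DiagPsi2

set_option autoImplicit false
set_option backward.isDefEq.respectTransparency false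
set_option backward.isDefEq.respectTransparency.types false
open CategoryTheory CategoryTheory.Functor CategoryTheory.Limits Opposite AlgebraicGeometry

universe w u

namespace Groth.Agent.Lib.Seat59.CoverA

open Groth.Agent.Lib.Helper17 Groth.Agent.Lib.Helper15PtsComp Groth.Agent.Lib.Helper15PtsTop
  Groth.Agent.Lib.Seat59.OpenSubA Groth.Agent.Lib.Seat59.OpenSubB Groth.Agent.Lib.Seat59.OpenSubC
  Groth.Agent.Lib.Helper17.Elem Groth.Agent.Lib.Helper15PshFib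

variable {S : Scheme.{u}} {𝒳 : AlgSt.Cat S}

/-- A Zariski open cover generates a covering sieve of the fppf topology. -/
theorem zariski_mem_J (U : Over S) {κ : Type u} (V : κ → U.left.Opens)
    (hV : ∀ t : ↥U.left, ∃ k, t ∈ V k) :
    Sieve.ofArrows (fun k => openOver (V k)) (fun k => openIncl (V k)) ∈ AlgSp.J S U := by
  rw [GrothendieckTopology.mem_over_iff, Sieve.overEquiv_ofArrows]
  apply Precoverage.generate_mem_toGrothendieck
  refine (Scheme.ofArrows_mem_precoverage_iff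
    (fun {A B : Scheme.{u}} (m : A ⟶ B) => Flat m ∧ LocallyOfFinitePresentation m)).2 ?_
  refine ⟨fun x => ?_, fun k => ?_⟩
  · obtain ⟨k, hk⟩ := hV x
    exact ⟨k, ⟨x, hk⟩, rfl⟩
  · have : IsOpenImmersion (openIncl (V k)).left := by
      change IsOpenImmersion (V k).ι
      infer_instance
    exact ⟨inferInstance, inferInstance⟩


/-- Morphisms of the full subcategory lie over what their underlying morphisms lie over. -/
theorem isHomLift_fullSub (Q : 𝒳.obj → Prop) {a b : (AlgSt.fullSub 𝒳 Q).obj} (m : a ⟶ b)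
    {W W' : Over S} (f : W ⟶ W') (h : 𝒳.p.IsHomLift f m.hom) :
    (AlgSt.fullSub 𝒳 Q).p.IsHomLift f m :=
  (isHomLift_comp_iff (ObjectProperty.ι Q) 𝒳.p f m).2 h

/-- An algebraic stack covered by open substacks fibred in setoids is fibred in setoids. -/
theorem isFibSetoid_of_cover (h𝒳 : AlgSt.IsAlgStack Scheme.fppfPrecoverage 𝒳) {ι : Type w}
    (Q : ι → 𝒳.obj → Prop)
    (hQ : ∀ i, AlgSt.IsOpenSubstack 𝒳 (Q i) Scheme.fppfPrecoverage)
    (hcov : ⋃ i, Set.range (AlgSt.Points.map (AlgSt.subIncl 𝒳 (Q i))) = Set.univ)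
    (hset : ∀ i, FibCat.IsFibSetoid (AlgSt.fullSub 𝒳 (Q i)).p) : FibCat.IsFibSetoid 𝒳.p := by
  have hfib := h𝒳.isStack.1
  have : 𝒳.p.IsFibered := IsFibGrpd.isFibered hfib
  refine ⟨hfib, fun U x z => ⟨fun θ θ' => ?_⟩⟩
  obtain ⟨x, hx⟩ := x
  obtain ⟨z, hz⟩ := z
  obtain ⟨θ, hθ⟩ := θ
  obtain ⟨θ', hθ'⟩ := θ'
  apply Subtype.ext
  change θ = θ'
  change x ⟶ z at θ θ'
  change 𝒳.p.IsHomLift (𝟙 U) θ at hθ
  change 𝒳.p.IsHomLift (𝟙 U) θ' at hθ'
  let y := yonedaFunctor (𝒳 := 𝒳) hx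
  obtain ⟨e, he⟩ := yonedaFunctor_iso (𝒳 := 𝒳) hx
  have hcont := continuous_ofChart h𝒳 y
  -- the index of an open substack through each point
  have hex : ∀ t : ↥U.left, ∃ i, AlgSt.Points.ofChart y t ∈
      Set.range (AlgSt.Points.map (AlgSt.subIncl 𝒳 (Q i))) := by
    intro t
    have : AlgSt.Points.ofChart y t ∈
        ⋃ i, Set.range (AlgSt.Points.map (AlgSt.subIncl 𝒳 (Q i))) := by
      rw [hcov]; trivial
    exact Set.mem_iUnion.1 this
  choose ix hix using hex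
  let V : ↥U.left → U.left.Opens := fun t =>
    ⟨AlgSt.Points.ofChart y ⁻¹' Set.range (AlgSt.Points.map (AlgSt.subIncl 𝒳 (Q (ix t)))),
      (isOpen_range_subIncl h𝒳 _ (hQ (ix t))).preimage hcont⟩
  -- the covering sieve
  let R : Sieve U :=
    { arrows := fun W f => ∃ i, Q i (y.obj (Over.mk f))
      downward_closed := by
        rintro W W' f ⟨i, hi⟩ g
        refine ⟨i, ?_⟩
        let k : (Over.mk (g ≫ f) : Over U) ⟶ Over.mk f := Over.homMk g rfl
        exact q_of_hom hfib (Q i) (hQ i).1 (hQ i).2.1.isStack.1 (y.map k) hi }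
  have hR : R ∈ AlgSp.J S U := by
    refine (AlgSp.J S).superset_covering ?_ (zariski_mem_J U V (fun t => ⟨t, hix t⟩))
    rw [Sieve.ofArrows, Sieve.generate_le_iff]
    rintro _ _ ⟨t⟩
    refine ⟨ix t, ?_⟩
    rw [q_iff_qW_range h𝒳 (Q (ix t)) (hQ (ix t)), qW_chart_iff hfib]
    intro s
    exact (s : ↥(V t)).2
  have hps : PSFaithful R 𝒳 := ((isStackFor_iff hfib).1 (h𝒳.isStack.2 R hR)).1
  refine hps θ θ' hθ hθ' ?_
  rintro a φ ⟨W, f, ⟨i, hi⟩, hφ⟩
  -- `a` lies in `Q i`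
  let k : (Over.mk f : Over U) ⟶ Over.mk (𝟙 U) := Over.homMk f (by simp)
  have hk : (FibCat.overCat U).p.IsHomLift f k := by
    change (Over.forget U).IsHomLift ((Over.forget U).map k) k
    infer_instance
  have h1 : 𝒳.p.IsHomLift f (y.map k) := BasedFunctor.preserves_isHomLift y f k
  have h2 : 𝒳.p.IsHomLift f (y.map k ≫ e.hom) := by
    have : 𝒳.p.IsHomLift (f ≫ 𝟙 U) (y.map k ≫ e.hom) := inferInstance
    simpa using this
  obtain ⟨ε, -, -⟩ := IsFibGrpd.exists_iso_of_lifts (𝒴 := 𝒳) hfib f φ (y.map k ≫ e.hom)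
  have ha : Q i a := (hQ i).1.of_iso ε.symm hi
  -- the pullback of `z`
  let κ := IsPreFibered.pullbackMap hz f
  have hκ : 𝒳.p.IsStronglyCartesian f κ := by
    have : 𝒳.p.IsCartesian f κ := IsPreFibered.pullbackMap.IsCartesian hz f
    infer_instance
  have l1 : 𝒳.p.IsHomLift f (φ ≫ θ) := by
    have : 𝒳.p.IsHomLift (f ≫ 𝟙 U) (φ ≫ θ) := inferInstance
    simpa using this
  have l2 : 𝒳.p.IsHomLift f (φ ≫ θ') := by
    have : 𝒳.p.IsHomLift (f ≫ 𝟙 U) (φ ≫ θ') := inferInstance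
    simpa using this
  obtain ⟨ψ, ⟨hψ, eψ⟩, -⟩ := IsStronglyCartesian.universal_property 𝒳.p f κ (𝟙 W) f
    (Category.id_comp f).symm (φ ≫ θ)
  obtain ⟨ψ', ⟨hψ', eψ'⟩, -⟩ := IsStronglyCartesian.universal_property 𝒳.p f κ (𝟙 W) f
    (Category.id_comp f).symm (φ ≫ θ')
  have hiso : IsIso ψ := IsFibGrpd.isIso_of_isHomLift_id hfib W ψ
  have hz' : Q i (IsPreFibered.pullbackObj hz f) := (hQ i).1.of_iso (asIso ψ) ha
  let A : (AlgSt.fullSub 𝒳 (Q i)).obj := ⟨a, ha⟩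
  let Z : (AlgSt.fullSub 𝒳 (Q i)).obj := ⟨_, hz'⟩
  let m : A ⟶ Z := ObjectProperty.homMk ψ
  let m' : A ⟶ Z := ObjectProperty.homMk ψ'
  have hm : (AlgSt.fullSub 𝒳 (Q i)).p.IsHomLift (𝟙 W) m := isHomLift_fullSub (Q i) m (𝟙 W) hψ
  have hm' : (AlgSt.fullSub 𝒳 (Q i)).p.IsHomLift (𝟙 W) m' :=
    isHomLift_fullSub (Q i) m' (𝟙 W) hψ'
  have hmm : m = m' := IsFibSetoid.hom_ext (hset i) (𝟙 W) m m'
  have hψψ : ψ = ψ' := congrArg (fun n => n.hom) hmm
  rw [← eψ, ← eψ', hψψ]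


/-- A stack fibred in setoids is the category of a sheaf. -/
theorem exists_sp_equivOver (h𝒳 : Stk.IsStack (AlgSp.J S) 𝒳) (hset : FibCat.IsFibSetoid 𝒳.p) :
    ∃ (F : AlgSp.Sp S) (E : AlgSt.ofSp F ⥤ᵇ 𝒳), FibCat.IsEquivOver E := by
  obtain ⟨P, E, hE⟩ := exists_psh_equivOver 𝒳 hset
  have hst : Stk.IsStack (AlgSp.J S) (Stk.ofPsh P) :=
    (isStack_iff_of_isEquivOver' (AlgSp.J S) E hE).2 h𝒳
  have hsh := (isStack_ofPsh_iff_isSheaf (AlgSp.J S) P).1 hst
  exact ⟨⟨P, (isSheaf_iff_isSheaf_of_type _ _).2 hsh⟩, E, hE⟩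

/-- The core: an algebraic stack covered by open substacks which are categories of sheaves is the
category of a sheaf, into which these sheaves map by open immersions, jointly surjectively
(locally for the Zariski topology). -/
theorem exists_sheaf_of_cover (h𝒳 : AlgSt.IsAlgStack Scheme.fppfPrecoverage 𝒳) {ι : Type w}
    (Q : ι → 𝒳.obj → Prop)
    (hQ : ∀ i, AlgSt.IsOpenSubstack 𝒳 (Q i) Scheme.fppfPrecoverage)
    (hcov : ⋃ i, Set.range (AlgSt.Points.map (AlgSt.subIncl 𝒳 (Q i))) = Set.univ)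
    (G : ι → AlgSp.Sp S) (e : ∀ i, AlgSt.ofSp (G i) ⥤ᵇ AlgSt.fullSub 𝒳 (Q i))
    (he : ∀ i, FibCat.IsEquivOver (e i)) :
    ∃ (F : AlgSp.Sp S) (E : AlgSt.ofSp F ⥤ᵇ 𝒳) (g : ∀ i, G i ⟶ F), FibCat.IsEquivOver E ∧
      (∀ i, AlgSp.RepWith @IsOpenImmersion (g i)) ∧
      ∀ (T : Over S) (ξ : F.obj.obj (op T)) (t : ↥T.left),
        ∃ (i : ι) (V : T.left.Opens) (s : (G i).obj.obj (op (openOver V))), t ∈ V ∧
          (g i).hom.app (op (openOver V)) s = F.obj.map (openIncl V).op ξ := by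
  have hfib := h𝒳.isStack.1
  have hset : ∀ i, FibCat.IsFibSetoid (AlgSt.fullSub 𝒳 (Q i)).p := fun i =>
    (IsEquivOver.isFibSetoid_iff' (e i) (he i)).1 (isFibSetoid_ofPsh (G i).obj)
  have hX := isFibSetoid_of_cover h𝒳 Q hQ hcov hset
  obtain ⟨F, E, hE⟩ := exists_sp_equivOver h𝒳.isStack hX
  obtain ⟨E', hE', ⟨η⟩, ⟨ε⟩⟩ := IsEquivOver.exists_inverse_isEquivOver' E hE
  let Φ : ∀ i, AlgSt.ofSp (G i) ⥤ᵇ AlgSt.ofSp F := fun i =>
    BasedFunctor.comp (e i) (BasedFunctor.comp (AlgSt.subIncl 𝒳 (Q i)) E')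
  let g : ∀ i, G i ⟶ F := fun i => ObjectProperty.homMk (pshMapOf (Φ i))
  refine ⟨F, E, g, hE, fun i => ?_, fun T ξ t => ?_⟩
  · -- open immersions
    have iso : BasedFunctor.comp (AlgSt.ofSpMap (g i)) E ≅
        BasedFunctor.comp (e i) (AlgSt.subIncl 𝒳 (Q i)) :=
      (whiskerRightIso (ofPshMapIso (Φ i)) E).trans
        (whiskerLeftIso (BasedFunctor.comp (e i) (AlgSt.subIncl 𝒳 (Q i))) ε)
    have h1 : AlgSt.RepByAlgSpWith (AlgSp.RepWith @IsOpenImmersion) (AlgSt.ofSpMap (g i)) :=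
      (repByAlgSpWith_of_square (AlgSp.RepWith @IsOpenImmersion) (AlgSt.subIncl 𝒳 (Q i))
        (AlgSt.ofSpMap (g i)) (e i) E (he i) hE iso).1 (hQ i).2.2
    exact Groth.Agent.Lib.Seat83.DiagPsi2.repWith_of_repByAlgSpWith_ofSpMap @IsOpenImmersion
      (g i) h1
  · -- local lifting
    let y : FibCat.overCat T ⥤ᵇ 𝒳 := BasedFunctor.comp (pshOfSection ξ) E
    have hcont := continuous_ofChart h𝒳 y
    obtain ⟨i, hi⟩ : ∃ i, AlgSt.Points.ofChart y t ∈
        Set.range (AlgSt.Points.map (AlgSt.subIncl 𝒳 (Q i))) := by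
      have : AlgSt.Points.ofChart y t ∈
          ⋃ i, Set.range (AlgSt.Points.map (AlgSt.subIncl 𝒳 (Q i))) := by
        rw [hcov]; trivial
      exact Set.mem_iUnion.1 this
    let V : T.left.Opens :=
      ⟨AlgSt.Points.ofChart y ⁻¹' Set.range (AlgSt.Points.map (AlgSt.subIncl 𝒳 (Q i))),
        (isOpen_range_subIncl h𝒳 _ (hQ i)).preimage hcont⟩
    have H : ∀ c : Over T, Q i (y.obj c) ↔ ∀ t : ↥c.left.left, c.hom.left t ∈ V := by
      intro c
      rw [q_iff_qW_range h𝒳 (Q i) (hQ i), qW_chart_iff hfib]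
      rfl
    let yV := chartSub (Q i) y V H
    obtain ⟨e', he', ⟨η'⟩, ⟨ε'⟩⟩ := IsEquivOver.exists_inverse_isEquivOver' (e i) (he i)
    let σ : FibCat.overCat (openOver V) ⥤ᵇ AlgSt.ofSp (G i) := BasedFunctor.comp yV e'
    let c₁ : Over (openOver V) := Over.mk (𝟙 (openOver V))
    refine ⟨i, V, pshSec σ c₁, hi, ?_⟩
    have iso1 : BasedFunctor.comp σ (Stk.ofPshMap (g i).hom) ≅ BasedFunctor.comp σ (Φ i) :=
      whiskerLeftIso σ (ofPshMapIso (Φ i))
    have iso2 : BasedFunctor.comp σ (Φ i) ≅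
        BasedFunctor.comp (BasedFunctor.comp yV (AlgSt.subIncl 𝒳 (Q i))) E' :=
      whiskerRightIso (whiskerLeftIso yV ε') (BasedFunctor.comp (AlgSt.subIncl 𝒳 (Q i)) E')
    have iso3 : BasedFunctor.comp (BasedFunctor.comp yV (AlgSt.subIncl 𝒳 (Q i))) E' ≅
        BasedFunctor.comp (AlgSt.overMap (openIncl V)) (pshOfSection ξ) :=
      whiskerLeftIso (BasedFunctor.comp (AlgSt.overMap (openIncl V)) (pshOfSection ξ)) η
    have key := pshSec_eq_of_hom ((iso1.trans iso2).trans iso3).hom c₁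
    have L := pshSec_comp_ofPshMap σ (g i).hom c₁
    have R := pshSec_comp (AlgSt.overMap (openIncl V)) (pshOfSection ξ) c₁
    rw [pshSec_ofSection] at R
    refine L.symm.trans (key.trans (R.trans ?_))
    simp only [c₁, AlgSt.overMap, eqToHom_refl, op_id, Over.map_obj_hom, Over.mk_hom]
    exact Functor.map_id_apply F.obj _ _

end Groth.Agent.Lib.Seat59.CoverA
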