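-- helper59: an algebraic stack covered by open substacks which are algebraic spaces (schemes) is
-- an algebraic space (a scheme).
import Mathlib
import Groth.Agent.Lib.Seat59CoverA
import Groth.Agent.Lib.Helper12ZarGlue
import Groth.Agent.Lib.Helper15DiagRepSp
import Groth.Agent.Lib.Seat83PshFp
import Groth.Agent.S9877
import Groth.Agent.S9881

set_option autoImplicit false
set_option backward.isDefEq.respectTransparency false
set_option backward.isDefEq.respectTransparency.types false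
open CategoryTheory CategoryTheory.Functor CategoryTheory.Limits Opposite AlgebraicGeometry

universe w u

namespace Groth.Agent.Lib.Seat59.CoverB

open Groth.Agent.Lib.Helper17 Groth.Agent.Lib.Helper15PtsComp Groth.Agent.Lib.Helper15PtsTop
  Groth.Agent.Lib.Seat59.OpenSubA Groth.Agent.Lib.Seat59.OpenSubB Groth.Agent.Lib.Seat59.OpenSubC
  Groth.Agent.Lib.Seat59.CoverA Groth.Agent.Lib.Helper15PshFib Groth.Agent.S13210
  Groth.Agent.Lib.Helper12.OpenSub Groth.Agent.Lib.Helper15DiagRepSp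

variable {S : Scheme.{u}} {𝒳 : AlgSt.Cat S}

/-- A cover by open substacks has a subcover indexed by the points of an atlas. -/
theorem exists_reindex (h𝒳 : AlgSt.IsAlgStack Scheme.fppfPrecoverage 𝒳) {ι : Type w}
    (Q : ι → 𝒳.obj → Prop)
    (hcov : ⋃ i, Set.range (AlgSt.Points.map (AlgSt.subIncl 𝒳 (Q i))) = Set.univ) :
    ∃ (κ : Type u) (ix : κ → ι),
      ⋃ k, Set.range (AlgSt.Points.map (AlgSt.subIncl 𝒳 (Q (ix k)))) = Set.univ := by
  obtain ⟨U, x, -, hx⟩ := h𝒳.atlas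
  have hsurj := surjective_ofChart h𝒳 x hx
  have hex : ∀ t : ↥U.left, ∃ i, AlgSt.Points.ofChart x t ∈
      Set.range (AlgSt.Points.map (AlgSt.subIncl 𝒳 (Q i))) := by
    intro t
    have : AlgSt.Points.ofChart x t ∈
        ⋃ i, Set.range (AlgSt.Points.map (AlgSt.subIncl 𝒳 (Q i))) := by
      rw [hcov]; trivial
    exact Set.mem_iUnion.1 this
  choose ix hix using hex
  refine ⟨↥U.left, ix, Set.eq_univ_of_forall fun p => ?_⟩
  obtain ⟨t, rfl⟩ := hsurj p
  exact Set.mem_iUnion.2 ⟨t, hix t⟩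

/-- **S12864**: an algebraic stack covered by open substacks which are schemes is a scheme. -/
theorem isRepresentable_of_cover (h𝒳 : AlgSt.IsAlgStack Scheme.fppfPrecoverage 𝒳) {ι : Type w}
    (Q : ι → 𝒳.obj → Prop)
    (hQ : ∀ i, AlgSt.IsOpenSubstack 𝒳 (Q i) Scheme.fppfPrecoverage)
    (hcov : ⋃ i, Set.range (AlgSt.Points.map (AlgSt.subIncl 𝒳 (Q i))) = Set.univ)
    (hsch : ∀ i, FibCat.IsRepresentable (AlgSt.fullSub 𝒳 (Q i))) : FibCat.IsRepresentable 𝒳 := by
  obtain ⟨κ, ix, hcov'⟩ := exists_reindex h𝒳 Q hcov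
  choose U Fn hFn using fun k => hsch (ix k)
  choose Fn' hFn' _ _ using fun k => IsEquivOver.exists_inverse_isEquivOver' (Fn k) (hFn k)
  let G : κ → AlgSp.Sp S := fun k => (AlgSp.yon S).obj (U k)
  let e : ∀ k, AlgSt.ofSp (G k) ⥤ᵇ AlgSt.fullSub 𝒳 (Q (ix k)) := fun k =>
    BasedFunctor.comp (AlgSt.toOverCat (U k)) (Fn' k)
  have he : ∀ k, FibCat.IsEquivOver (e k) := fun k =>
    IsEquivOver.comp _ _ (isEquivOver_toOverCat (U k)) (hFn' k)
  obtain ⟨F, E, g, hE, hOI, hLL⟩ :=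
    exists_sheaf_of_cover h𝒳 (fun k => Q (ix k)) (fun k => hQ (ix k)) hcov' G e he
  have hjs : Groth.Agent.Lib.Helper12.ZarGlue.JointlySurjective hOI := by
    intro T γ t
    obtain ⟨k, V, s, htV, hs⟩ := hLL T (yEquiv T F γ) t
    refine ⟨k, ?_⟩
    obtain ⟨a, ha⟩ := (AlgSp.yon S).map_surjective ((yEquiv (openOver V) (G k)).symm s)
    have h : (AlgSp.yon S).map a ≫ g k = (AlgSp.yon S).map (openIncl V) ≫ γ := by
      rw [ha, yEquiv_symm_comp, hs, yEquiv_symm_map, Equiv.symm_apply_apply]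
    have hl := (hOI k).rep.lift'_snd a (openIncl V) h
    refine ⟨((hOI k).rep.lift' a (openIncl V) h).left ⟨t, htV⟩, ?_⟩
    rw [← Scheme.Hom.comp_apply, ← Over.comp_left, hl]
    rfl
  obtain ⟨W, i, -, -, -⟩ := Groth.Agent.Lib.Helper12.ZarGlue.exists_iso hOI hjs
  obtain ⟨E', hE', -, -⟩ := IsEquivOver.exists_inverse_isEquivOver' E hE
  let j : F.obj ≅ ((AlgSp.yon S).obj W).obj :=
    (sheafToPresheaf (AlgSp.J S) (Type (u + 1))).mapIso i.symm
  have hj : FibCat.IsEquivOver (Stk.ofPshMap j.hom) :=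
    Groth.Agent.Lib.Seat83.PshFp.isEquivOver_ofPshMap_of_iso j
  exact ⟨W, BasedFunctor.comp E' (BasedFunctor.comp (Stk.ofPshMap j.hom) (AlgSt.toOverCat W)),
    IsEquivOver.comp _ _ hE' (IsEquivOver.comp _ _ hj (isEquivOver_toOverCat W))⟩


/-- **S12863**: an algebraic stack covered by open substacks which are algebraic spaces is an
algebraic space. -/
theorem repByAlgSp_of_cover (h𝒳 : AlgSt.IsAlgStack Scheme.fppfPrecoverage 𝒳) {ι : Type w}
    (Q : ι → 𝒳.obj → Prop)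
    (hQ : ∀ i, AlgSt.IsOpenSubstack 𝒳 (Q i) Scheme.fppfPrecoverage)
    (hcov : ⋃ i, Set.range (AlgSt.Points.map (AlgSt.subIncl 𝒳 (Q i))) = Set.univ)
    (hsp : ∀ i, AlgSt.RepByAlgSp (AlgSt.fullSub 𝒳 (Q i))) : AlgSt.RepByAlgSp 𝒳 := by
  obtain ⟨κ, ix, hcov'⟩ := exists_reindex h𝒳 Q hcov
  choose Gs e he using fun k => hsp (ix k)
  let G : κ → AlgSp.Sp S := fun k => (Gs k).obj
  obtain ⟨F, E, g, hE, hOI, hLL⟩ :=
    exists_sheaf_of_cover h𝒳 (fun k => Q (ix k)) (fun k => hQ (ix k)) hcov' G e he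
  have halg : ∀ k, AlgSp.IsAlgSpace (G k) := fun k => (Gs k).property
  let c : Cofan G := Cofan.mk (∐ G) (Sigma.ι G)
  have hc : IsColimit c := coproductIsCoproduct G
  have hsurj : Sheaf.IsLocallySurjective (Cofan.IsColimit.desc hc g) := by
    constructor
    intro T ξ
    choose ik V s htV hs using fun t : ↥T.left => hLL T ξ t
    refine (AlgSp.J S).superset_covering ?_ (zariski_mem_J T V (fun t => ⟨t, htV t⟩))
    rw [Sieve.ofArrows, Sieve.generate_le_iff]
    rintro _ _ ⟨t⟩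
    refine ⟨(c.inj (ik t)).hom.app _ (s t), ?_⟩
    have hfac : c.inj (ik t) ≫ Cofan.IsColimit.desc hc g = g (ik t) :=
      Cofan.IsColimit.fac hc g (ik t)
    have := congrArg (fun m : G (ik t) ⟶ F => m.hom.app (op (openOver (V t))) (s t)) hfac
    exact this.trans (hs t)
  have hF : AlgSp.IsAlgSpace F :=
    Groth.Agent.S9877.result S F G g halg hOI c hc hsurj (Groth.Agent.S9881.result S G halg c hc)
  exact ⟨⟨F, hF⟩, E, hE⟩

end Groth.Agent.Lib.Seat59.CoverB
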