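-- helper59 (seat 59): surjectivity of the diagonal of a morphism of algebraic stacks in terms of
-- lifting 2-arrows over algebraically closed fields.
import Mathlib
import Groth.Agent.Lib.Seat59AlgClosedPt
import Groth.Agent.Lib.Seat59LocQDesc
import Groth.Agent.Lib.Helper15DiagLft
import Groth.Agent.Lib.Helper17FibYoneda
import Groth.Agent.S12825

set_option autoImplicit false
set_option backward.isDefEq.respectTransparency false
set_option backward.isDefEq.respectTransparency.types false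
open CategoryTheory CategoryTheory.Functor CategoryTheory.Limits Opposite AlgebraicGeometry

universe u

namespace Groth.Agent.Lib.Seat59.DiagSurj

open Groth.Agent.Lib.Helper17 Groth.Agent.Lib.Helper15Atlas Groth.Agent.Lib.Helper15PtsComp

variable {S : Scheme.{u}} {𝒳 𝒴 : AlgSt.Cat S}

/-- The lifting property of 2-arrows over algebraically closed fields. -/
def LiftProp (f : 𝒳 ⥤ᵇ 𝒴) : Prop :=
  ∀ (k : Type u) [Field k] [IsAlgClosed k] (s : Spec (CommRingCat.of k) ⟶ S) (a₁ a₂ : 𝒳.obj)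
    (_ : 𝒳.p.obj a₁ = Over.mk s) (_ : 𝒳.p.obj a₂ = Over.mk s) (β : f.obj a₁ ⟶ f.obj a₂),
    𝒴.p.IsHomLift (𝟙 (Over.mk s)) β →
      ∃ α : a₁ ⟶ a₂, 𝒳.p.IsHomLift (𝟙 (Over.mk s)) α ∧ f.map α = β

theorem isSurjective_diag_of_liftProp (h𝒳 : FibCat.IsFibGrpd 𝒳.p) (h𝒴 : FibCat.IsFibGrpd 𝒴.p)
    (f : 𝒳 ⥤ᵇ 𝒴) (hLP : LiftProp f) : AlgSt.IsSurjective (FibCat.diag f) := by
  intro q
  obtain ⟨r, rfl⟩ := AlgSt.Points.mk_surjective q
  have hfp : FibCat.IsFibGrpd (FibCat.fp f f).p := isFibGrpd_fp f f h𝒳 h𝒳 h𝒴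
  let Ω := AlgebraicClosure r.K
  let c : Spec (CommRingCat.of Ω) ⟶ Spec (CommRingCat.of r.K) :=
    Spec.map (CommRingCat.ofHom (algebraMap r.K Ω))
  let cO : Over.mk (c ≫ r.str) ⟶ Over.mk r.str := Over.homMk c rfl
  obtain ⟨P', d, hd⟩ := hfp.exists_lift (x := r.obj) (cO ≫ eqToHom r.lies.symm)
  have hd2 : (FibCat.fp f f).p.IsHomLift cO d :=
    (IsHomLift.lift_comp_eqToHom_iff (p := (FibCat.fp f f).p) cO d r.lies.symm).1 hd
  have hP' : (FibCat.fp f f).p.obj P' = Over.mk (c ≫ r.str) :=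
    IsHomLift.domain_eq (FibCat.fp f f).p cO d
  have h1 : 𝒳.p.obj P'.obj.fst = Over.mk (c ≫ r.str) := hP'
  have h2 : 𝒳.p.obj P'.obj.snd = Over.mk (c ≫ r.str) :=
    ((FibCat.fpSnd f f).w_obj P').trans hP'
  have hβ : 𝒴.p.IsHomLift (𝟙 (Over.mk (c ≫ r.str))) P'.obj.iso.hom :=
    isHomLift_id_of_eq 𝒴.p h1 _ (hφ := P'.property)
  obtain ⟨α, hα, hfα⟩ := hLP Ω (c ≫ r.str) P'.obj.fst P'.obj.snd h1 h2 P'.obj.iso.hom hβ
  let μ : (FibCat.diag f).obj P'.obj.fst ⟶ P' := ObjectProperty.homMk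
    { fst := 𝟙 _
      snd := α
      w := by
        change f.map (𝟙 _) ≫ P'.obj.iso.hom = 𝟙 _ ≫ f.map α
        rw [hfα, CategoryTheory.Functor.map_id] }
  refine ⟨AlgSt.Points.mk ⟨Ω, c ≫ r.str, P'.obj.fst, h1⟩, ?_⟩
  apply AlgSt.Points.sound
  exact ⟨AlgSt.FPt.map (FibCat.diag f) ⟨Ω, c ≫ r.str, P'.obj.fst, h1⟩, 𝟙 _, μ ≫ d, trivial⟩

open Groth.Agent.Lib.Helper15PtsTop in
theorem liftProp_of_isSurjective_diag (h𝒳 : AlgSt.IsAlgStack Scheme.fppfPrecoverage 𝒳)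
    (h𝒴 : AlgSt.IsAlgStack Scheme.fppfPrecoverage 𝒴) (f : 𝒳 ⥤ᵇ 𝒴)
    (hΔ : AlgSt.IsSurjective (FibCat.diag f)) : LiftProp f := by
  intro k _ _ s a₁ a₂ ha₁ ha₂ β hβ
  have hpre𝒴 := IsStack.isPrestack _ h𝒴.isStack
  have hfpA : AlgSt.IsAlgStack Scheme.fppfPrecoverage (FibCat.fp f f) :=
    isAlgStack_fp_of_isPrestack hpre𝒴 h𝒴.diag h𝒳 h𝒳 f f
  have hfp : FibCat.IsFibGrpd (FibCat.fp f f).p := hfpA.isStack.1
  have hfib : (FibCat.fp f f).p.IsFibered := IsFibGrpd.isFibered hfp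
  have hβiso : IsIso β := IsFibGrpd.isIso_of_isHomLift_id h𝒴.isStack.1 (Over.mk s) β
  have hp : 𝒴.p.IsHomLift (𝟙 (𝒳.p.obj a₁)) (asIso β).hom :=
    isHomLift_id_of_eq 𝒴.p ha₁.symm _ (hφ := hβ)
  let P : (FibCat.fp f f).obj := ⟨⟨a₁, a₂, asIso β⟩, hp⟩
  have hP : (FibCat.fp f f).p.obj P = Over.mk s := ha₁
  let y : FibCat.overCat (Over.mk s) ⥤ᵇ FibCat.fp f f :=
    yonedaFunctor (𝒳 := FibCat.fp f f) (x := P) hP
  have hT := isAlgStack_overCat (Over.mk s)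
  obtain ⟨F, e, he, hlft⟩ :=
    Groth.Agent.Lib.Helper15DiagLft.repByAlgSpWith_lft_diag h𝒳 h𝒴 f (Over.mk s) y
  have hs1 : AlgSt.IsSurjective (FibCat.fpFst y (FibCat.diag f)) :=
    Groth.Agent.S12825.result h𝒳 hfpA hT (FibCat.diag f) y hΔ
  have hneT : Nonempty (Spec (CommRingCat.of k)) := inferInstance
  obtain ⟨t⟩ := hneT
  obtain ⟨q, -⟩ := hs1 (ptOver (Over.mk s) t)
  obtain ⟨r, rfl⟩ := AlgSt.Points.mk_surjective q
  obtain ⟨ξ, ε, hε⟩ := IsEquivOver.essSurjOver e he r.obj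
  have hbase : ξ.base = Over.mk r.str := by
    have h1 : (FibCat.fp y (FibCat.diag f)).p.obj (e.obj ξ) = ξ.base := e.w_obj ξ
    have h2 := IsHomLift.domain_eq (FibCat.fp y (FibCat.diag f)).p
      (𝟙 ((FibCat.fp y (FibCat.diag f)).p.obj r.obj)) ε.hom
    exact h1.symm.trans (h2.trans r.lies)
  have hne : Nonempty ξ.base.left := by
    rw [hbase]
    change Nonempty (Spec (CommRingCat.of r.K))
    infer_instance
  let Φ : AlgSt.ofSp F.obj ⥤ᵇ FibCat.overCat (Over.mk s) :=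
    BasedFunctor.comp e (FibCat.fpFst y (FibCat.diag f))
  obtain ⟨σ, hσ⟩ := Groth.Agent.Lib.Seat59.AlgClosedPt.exists_section_of_lft F.property k s
    (AlgSt.spMapOfOver Φ) hlft ξ.base ξ.sec
  let ξ₀ : (AlgSt.ofSp F.obj).obj := ⟨Over.mk s, σ⟩
  have hsec : AlgSt.secHom Φ ξ₀ = 𝟙 _ := by
    have h1 := AlgSt.spMapOfOver_app Φ (Over.mk s) σ
    rw [hσ] at h1
    exact (congrArg ULift.down h1).symm
  let P₀ : (FibCat.fp y (FibCat.diag f)).obj := e.obj ξ₀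
  let X₀ : Over (Over.mk s) := Φ.obj ξ₀
  have hX₀ : X₀.hom = eqToHom (Φ.w_obj ξ₀) := by
    have h1 : eqToHom (Φ.w_obj ξ₀).symm ≫ X₀.hom = 𝟙 _ := hsec
    rw [eqToHom_comp_iff] at h1
    rw [h1, Category.comp_id]
  have hj : IsIso X₀.hom := by
    rw [hX₀]
    infer_instance
  have l1 : (FibCat.fp f f).p.IsHomLift (𝟙 X₀.left) P₀.obj.iso.inv :=
    fp_iso_inv_isHomLift y (FibCat.diag f) P₀ rfl
  have l2 : (FibCat.fp f f).p.IsHomLift X₀.hom (yonedaCart (𝒳 := FibCat.fp f f) (x := P) hP X₀) :=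
    (yonedaCart_isStronglyCartesian (𝒳 := FibCat.fp f f) (x := P) hP X₀).toIsHomLift
  let γ : (FibCat.diag f).obj P₀.obj.snd ⟶ P :=
    P₀.obj.iso.inv ≫ yonedaCart (𝒳 := FibCat.fp f f) (x := P) hP X₀
  have l3 : (FibCat.fp f f).p.IsHomLift X₀.hom γ :=
    IsHomLift.comp_lift_id_left (FibCat.fp f f).p X₀.hom _ P₀.obj.iso.inv
  have l4 : 𝒳.p.IsHomLift X₀.hom γ.hom.fst := fp_isHomLift_fst' f f X₀.hom γ
  have l5 : 𝒳.p.IsHomLift X₀.hom γ.hom.snd := fp_isHomLift_snd' f f X₀.hom γ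
  have hw : f.map γ.hom.fst ≫ β = 𝟙 _ ≫ f.map γ.hom.snd := γ.hom.w
  have sc := IsFibGrpd.isStronglyCartesian_of_isHomLift h𝒳.isStack.1 X₀.hom γ.hom.fst
  have hγiso : IsIso γ.hom.fst :=
    CategoryTheory.Functor.IsStronglyCartesian.isIso_of_base_isIso 𝒳.p X₀.hom γ.hom.fst
  have l6 : 𝒳.p.IsHomLift (inv X₀.hom) (inv γ.hom.fst) := inferInstance
  have l7 : 𝒳.p.IsHomLift (inv X₀.hom ≫ X₀.hom) (inv γ.hom.fst ≫ γ.hom.snd) := inferInstance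
  refine ⟨inv γ.hom.fst ≫ γ.hom.snd, ?_, ?_⟩
  · simpa using l7
  · rw [Functor.map_comp, Functor.map_inv, IsIso.inv_comp_eq, hw, Category.id_comp]

end Groth.Agent.Lib.Seat59.DiagSurj
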