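import Groth.Agent.Lib.Seat59EpiHomeo
import Mathlib.Algebra.DualNumber
import Mathlib.RingTheory.Spectrum.Prime.Homeomorph

set_option autoImplicit false
universe u
open CategoryTheory AlgebraicGeometry

namespace Groth.Agent.Lib.Seat59.DualNumEpi

/-- For an injective ring map, `Spec` of it is scheme-theoretically dominant. -/
theorem isSchemeTheoreticallyDominant_specMap (R S : CommRingCat.{u}) (φ : R ⟶ S)
    (h : Function.Injective φ.hom) : IsSchemeTheoreticallyDominant (Spec.map φ) := by
  rw [isSchemeTheoreticallyDominant_iff, Scheme.ker_of_isAffine]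
  have : RingHom.ker (Spec.map φ).appTop.hom = ⊥ := by
    rw [← RingHom.injective_iff_ker_eq_bot]
    have h1 := Scheme.ΓSpecIso_inv_naturality φ
    have h2 : (Spec.map φ).appTop = (Scheme.ΓSpecIso R).hom ≫ φ ≫ (Scheme.ΓSpecIso S).inv := by
      rw [h1]; simp
    rw [h2]
    simp only [CommRingCat.hom_comp, RingHom.coe_comp]
    exact ((ConcreteCategory.bijective_of_isIso (Scheme.ΓSpecIso S).inv).1.comp h).comp
      (ConcreteCategory.bijective_of_isIso (Scheme.ΓSpecIso R).hom).1
  rw [this]
  exact map_bot (Scheme.IdealSheafData.equivOfIsAffine (X := Spec R)).symm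

/-- The projection of a trivial square-zero extension `R[ε] → R` is a homeomorphism on spectra. -/
theorem isHomeomorph_comap_fst (R : Type u) [CommRing R] :
    IsHomeomorph (PrimeSpectrum.comap (TrivSqZeroExt.fstHom R R R).toRingHom) := by
  apply PrimeSpectrum.isHomeomorph_comap
  · intro x
    exact ⟨1, one_pos, TrivSqZeroExt.inl x, by simp⟩
  · intro x hx
    rw [RingHom.mem_ker] at hx
    rw [mem_nilradical]
    refine ⟨2, ?_⟩
    have hx' : x.fst = 0 := hx
    apply TrivSqZeroExt.ext
    · simp [hx']
    · simp [hx', pow_two]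

section
variable (B : Type u) [CommRing B]
    (ψ : DualNumber B →+* DualNumber (DualNumber B))
    (hψB : ∀ b : B, ψ (algebraMap B (DualNumber B) b) = algebraMap B (DualNumber (DualNumber B)) b)
    (hψ : ψ DualNumber.eps =
      algebraMap (DualNumber B) (DualNumber (DualNumber B)) DualNumber.eps * DualNumber.eps)

include hψB hψ

theorem psi_apply (x : DualNumber B) :
    ψ x = TrivSqZeroExt.inl (TrivSqZeroExt.inl x.fst) +
      TrivSqZeroExt.inr (TrivSqZeroExt.inr x.snd) := by
  have hx : x = algebraMap B (DualNumber B) x.fst +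
      algebraMap B (DualNumber B) x.snd * DualNumber.eps := by
    conv_lhs => rw [← TrivSqZeroExt.inl_fst_add_inr_snd_eq x]
    rw [DualNumber.inr_eq_smul_eps, Algebra.smul_def]
    rfl
  conv_lhs => rw [hx]
  rw [map_add, map_mul, hψB, hψB, hψ]
  have h1 : ∀ b : B, algebraMap B (DualNumber (DualNumber B)) b =
      TrivSqZeroExt.inl (TrivSqZeroExt.inl b) := fun b => rfl
  have h2 : algebraMap (DualNumber B) (DualNumber (DualNumber B)) DualNumber.eps =
      TrivSqZeroExt.inl (TrivSqZeroExt.inr 1) := rfl
  rw [h1, h1, h2]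
  congr 1
  rw [DualNumber.eps, TrivSqZeroExt.inl_mul_inr, TrivSqZeroExt.inl_mul_inr]
  congr 1
  rw [smul_eq_mul, smul_eq_mul, mul_one, TrivSqZeroExt.inl_mul_inr, smul_eq_mul, mul_one]

theorem psi_injective : Function.Injective ψ := by
  intro x y hxy
  rw [psi_apply B ψ hψB hψ x, psi_apply B ψ hψB hψ y] at hxy
  have h1 := congrArg (fun z => z.fst.fst) hxy
  have h2 := congrArg (fun z => z.snd.snd) hxy
  simp at h1 h2
  exact TrivSqZeroExt.ext h1 h2

/-- The projection `B[α][β] → B`. -/
def proj₂ : DualNumber (DualNumber B) →+* B :=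
  (TrivSqZeroExt.fstHom B B B).toRingHom.comp
    (TrivSqZeroExt.fstHom (DualNumber B) (DualNumber B) (DualNumber B)).toRingHom

omit hψB hψ in
theorem isHomeomorph_comap_proj₂ : IsHomeomorph (PrimeSpectrum.comap (R := DualNumber (DualNumber B)) (S := B) (proj₂ B)) := by
  have h : PrimeSpectrum.comap (R := DualNumber (DualNumber B)) (S := B) (proj₂ B) =
      PrimeSpectrum.comap
        (TrivSqZeroExt.fstHom (DualNumber B) (DualNumber B) (DualNumber B)).toRingHom ∘
      PrimeSpectrum.comap (TrivSqZeroExt.fstHom B B B).toRingHom := by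
    funext q
    rfl
  rw [h]
  exact (isHomeomorph_comap_fst (DualNumber B)).comp (isHomeomorph_comap_fst B)

theorem fst_comp_psi :
    (proj₂ B).comp ψ = (TrivSqZeroExt.fstHom B B B).toRingHom := by
  refine RingHom.ext fun x => ?_
  change ((ψ x).fst).fst = x.fst
  rw [psi_apply B ψ hψB hψ x]
  simp

theorem isHomeomorph_comap_psi : IsHomeomorph (PrimeSpectrum.comap
    (CommRingCat.ofHom (R := DualNumber B) (S := DualNumber (DualNumber B)) ψ).hom) := by
  have H1 := isHomeomorph_comap_fst B
  have H2 := isHomeomorph_comap_proj₂ B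
  have key : PrimeSpectrum.comap
      (CommRingCat.ofHom (R := DualNumber B) (S := DualNumber (DualNumber B)) ψ).hom =
      PrimeSpectrum.comap (TrivSqZeroExt.fstHom B B B).toRingHom ∘
      (H2.homeomorph _).symm := by
    funext Q
    obtain ⟨q, rfl⟩ := (H2.homeomorph _).surjective Q
    rw [Function.comp_apply, Homeomorph.symm_apply_apply]
    change PrimeSpectrum.comap _ (PrimeSpectrum.comap _ q) = _
    rw [← PrimeSpectrum.comap_comp_apply]
    exact congrArg (fun g => PrimeSpectrum.comap g q) (fst_comp_psi B ψ hψB hψ)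
  rw [key]
  exact H1.comp (H2.homeomorph _).symm.isHomeomorph

theorem epi_specMap_psi :
    Epi (Spec.map (CommRingCat.ofHom (R := DualNumber B) (S := DualNumber (DualNumber B)) ψ)) := by
  have hH := isHomeomorph_comap_psi B ψ hψB hψ
  have := isSchemeTheoreticallyDominant_specMap _ _
    (CommRingCat.ofHom (R := DualNumber B) (S := DualNumber (DualNumber B)) ψ)
    (psi_injective B ψ hψB hψ)
  apply Groth.Agent.Lib.Seat59.EpiHomeo.epi_of_inducing_surjective_of_app_injective
  · exact hH.isInducing
  · exact hH.surjective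
  · intro U
    exact Scheme.Hom.app_injective _ U

end

end Groth.Agent.Lib.Seat59.DualNumEpi
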