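import Mathlib.AlgebraicGeometry.Morphisms.SchemeTheoreticallyDominant
import Mathlib.AlgebraicGeometry.Morphisms.Flat

set_option autoImplicit false
universe u
open CategoryTheory AlgebraicGeometry TopologicalSpace Opposite

namespace Groth.Agent.Lib.Seat59.EpiHomeo

/-- If `f : X ⟶ Y` is inducing on the underlying spaces and injective on sections over all opens,
then all its stalk maps are injective. -/
theorem stalkMap_injective {X Y : Scheme.{u}} (f : X ⟶ Y) (h₁ : Topology.IsInducing f.base)
    (h₂ : ∀ U : Y.Opens, Function.Injective (f.app U)) (x : X) :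
    Function.Injective (f.stalkMap x) := by
  rw [injective_iff_map_eq_zero]
  intro t ht
  obtain ⟨U, hxU, s, rfl⟩ := Y.presheaf.exists_germ_eq t
  rw [Scheme.Hom.germ_stalkMap_apply] at ht
  -- the section `f.app U s` has zero germ at `x`, so it vanishes on a neighbourhood `V` of `x`
  have h0 : X.presheaf.germ (f ⁻¹ᵁ U) x hxU (f.app U s) =
      X.presheaf.germ (f ⁻¹ᵁ U) x hxU 0 := by rw [ht, map_zero]
  obtain ⟨V, hxV, iU, iV, hV⟩ := X.presheaf.germ_eq x hxU hxU _ _ h0
  rw [map_zero] at hV
  -- `V` is the preimage of an open `W` of `Y`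
  obtain ⟨W, hW, hWV⟩ := h₁.isOpen_iff.mp V.isOpen
  let W' : Y.Opens := ⟨W, hW⟩
  have hWV' : f ⁻¹ᵁ W' = V := Opens.ext hWV
  have hxW : f.base x ∈ W' ⊓ U := by
    refine ⟨?_, hxU⟩
    have : x ∈ f ⁻¹ᵁ W' := hWV' ▸ hxV
    exact this
  have hle : f ⁻¹ᵁ (W' ⊓ U) ≤ V := by
    rw [← hWV']; intro y hy; exact hy.1
  have key : f.app (W' ⊓ U) (Y.presheaf.map (homOfLE inf_le_right).op s) = 0 := by
    have := f.naturality (homOfLE (inf_le_right : W' ⊓ U ≤ U)).op
    have h3 := congr($this s)
    rw [CommRingCat.comp_apply] at h3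
    rw [h3, CommRingCat.comp_apply]
    have h4 : X.presheaf.map ((Opens.map f.base).map (homOfLE (inf_le_right : W' ⊓ U ≤ U))).op =
        X.presheaf.map iU.op ≫ X.presheaf.map (homOfLE hle).op := by
      rw [← Functor.map_comp]
      rfl
    erw [h4, CommRingCat.comp_apply, hV, map_zero]
  have := h₂ _ (key.trans (map_zero _).symm)
  rw [← Y.presheaf.germ_res_apply (homOfLE (inf_le_right : W' ⊓ U ≤ U)) (f.base x) hxW s, this,
    map_zero]

/-- A morphism of schemes that is a surjective inducing map on the underlying spaces and injective on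
sections over all opens is an epimorphism of schemes. -/
theorem epi_of_inducing_surjective_of_app_injective {X Y : Scheme.{u}} (f : X ⟶ Y)
    (h₁ : Topology.IsInducing f.base) (h₁' : Function.Surjective f.base)
    (h₂ : ∀ U : Y.Opens, Function.Injective (f.app U)) : Epi f := by
  apply CategoryTheory.Functor.epi_of_epi_map (Scheme.forgetToLocallyRingedSpace)
  apply CategoryTheory.Functor.epi_of_epi_map (LocallyRingedSpace.forgetToSheafedSpace)
  apply SheafedSpace.epi_of_base_surjective_of_stalk_mono _ h₁'
  intro x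
  apply ConcreteCategory.mono_of_injective
  exact stalkMap_injective f h₁ h₂ x

end Groth.Agent.Lib.Seat59.EpiHomeo
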