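-- helper59 (seat 59): algebraic stacks receiving a surjective flat morphism from the spectrum
-- of a field: every morphism from the spectrum of a field is again surjective and flat.
import Mathlib
import Groth.Agent.Lib.Seat59LocQDesc
import Groth.Agent.Lib.Helper15EquivRep

set_option autoImplicit false
set_option backward.isDefEq.respectTransparency false
set_option backward.isDefEq.respectTransparency.types false
open CategoryTheory CategoryTheory.Functor CategoryTheory.Limits Opposite AlgebraicGeometry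

universe u

namespace Groth.Agent.Lib.Seat59.FieldPt

open Groth.Agent.Lib.Helper17 Groth.Agent.Lib.Helper15PshFib Groth.Agent.Lib.Helper15RepComp
  Groth.Agent.Lib.Helper15RepPsh Groth.Agent.Lib.Helper15DiagBase Groth.Agent.Lib.Helper15DiagRepSp
  Groth.Agent.Lib.Helper15Descent Groth.Agent.Lib.Helper15DiagLft
  Groth.Agent.Lib.Helper15DiagDescent
  Groth.Agent.Lib.Helper15SpMapRep Groth.Agent.Lib.Helper15Atlas
  Groth.Agent.Lib.Helper15PtsComp Groth.Agent.Lib.Helper15PtsTop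
  Groth.Agent.Lib.Helper15FpSwap Groth.Agent.Lib.Helper15LocQEngine
  Groth.Agent.Lib.Helper15LocQSpace Groth.Agent.Lib.Helper15LocQRep
  Groth.Agent.Lib.Helper15GoodComp Groth.Agent.Lib.Helper15LocQProps
  Groth.Agent.Lib.Helper15LocEss Groth.Agent.Lib.Helper15ClosedQc
  Groth.Agent.Lib.Helper15SrcCancel Groth.Agent.Lib.Helper15LocQComp
  Groth.Agent.Lib.Helper15SmLoc
  Groth.Agent.Lib.Seat59.LocQBC Groth.Agent.Lib.Seat59.LocQFlat Groth.Agent.Lib.Seat59.QcDesc
  Groth.Agent.Lib.Seat59.RepDesc Groth.Agent.Lib.Seat59.LocQDesc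

variable {S : Scheme.{u}} {𝒲 𝒵 : AlgSt.Cat S}

/-- Every morphism from an algebraic stack to the spectrum of a field is flat. -/
theorem locQ_flat_to_field (h𝒲 : AlgSt.IsAlgStack Scheme.fppfPrecoverage 𝒲)
    (k : Type u) [Field k] (a : Spec (CommRingCat.of k) ⟶ S)
    (f : 𝒲 ⥤ᵇ FibCat.overCat (Over.mk a)) : AlgSt.LocQ (AlgSp.LocP @Flat) f := by
  obtain ⟨W, ω, hω₁, hω₂⟩ := h𝒲.atlas
  obtain ⟨w, ⟨lam⟩⟩ := exists_iso_overMap (BasedFunctor.comp ω f)
  have hall : ∀ (X : Scheme.{u}) (g : X ⟶ Spec (CommRingCat.of k)), Flat g :=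
    fun X g => inferInstance
  have hfl : Flat w.left := hall _ w.left
  refine ⟨W, Over.mk a, ω, BasedFunctor.id _, w, ?_, hω₁, hω₂,
    Groth.Agent.Lib.Helper15EquivRep.repByAlgSpWith_of_isEquivOver _
      (fun U => Groth.Agent.Lib.Helper12.SmoothST.locP_smooth_id _) _ (isEquivOver_id _),
    locP_yon_map_of_flat w hfl⟩
  exact lam

/-- If an algebraic stack receives a surjective flat morphism from the spectrum of a field, then
every morphism from the spectrum of a field to it is surjective and flat. -/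
theorem surj_flat_of_fieldPt (h𝒵 : AlgSt.IsAlgStack Scheme.fppfPrecoverage 𝒵)
    (k : Type u) [Field k] (a : Spec (CommRingCat.of k) ⟶ S)
    (z : FibCat.overCat (Over.mk a) ⥤ᵇ 𝒵)
    (hzs : AlgSt.RepByAlgSpWith AlgSp.IsSurjectiveMor z)
    (hzf : AlgSt.RepByAlgSpWith (AlgSp.LocP @Flat) z)
    (k' : Type u) [Field k'] (a' : Spec (CommRingCat.of k') ⟶ S)
    (z' : FibCat.overCat (Over.mk a') ⥤ᵇ 𝒵) :
    AlgSt.RepByAlgSpWith AlgSp.IsSurjectiveMor z' ∧
      AlgSt.RepByAlgSpWith (AlgSp.LocP @Flat) z' := by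
  have hk := isAlgStack_overCat (Over.mk a)
  have hk' := isAlgStack_overCat (Over.mk a')
  have hrep : AlgSt.RepByAlgSp1 z := repByAlgSp1_of_repByAlgSpWith _ _ hzs
  have hrep' : AlgSt.RepByAlgSp1 z' := repByAlgSp1_of_repByAlgSp1_diag h𝒵.diag _ z'
  have hsz : AlgSt.IsSurjective z := (isSurjective_iff_repByAlgSpWith hk h𝒵 z hrep).2 hzs
  have hsubk : Subsingleton (Spec (CommRingCat.of k)) := inferInstance
  have hnek' : Nonempty (Spec (CommRingCat.of k')) := inferInstance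
  have hsub : Subsingleton (AlgSt.Points 𝒵) := by
    refine ⟨fun p q => ?_⟩
    obtain ⟨p', rfl⟩ := hsz p
    obtain ⟨q', rfl⟩ := hsz q
    obtain ⟨s, rfl⟩ := (ptOver_bijective (Over.mk a)).2 p'
    obtain ⟨t, rfl⟩ := (ptOver_bijective (Over.mk a)).2 q'
    have hst : s = t := hsubk.elim s t
    rw [hst]
  have hsz' : AlgSt.IsSurjective z' := by
    intro p
    obtain ⟨t⟩ := hnek'
    exact ⟨ptOver (Over.mk a') t, Subsingleton.elim _ _⟩
  refine ⟨(isSurjective_iff_repByAlgSpWith hk' h𝒵 z' hrep').1 hsz', ?_⟩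
  have hpre := IsStack.isPrestack _ h𝒵.isStack
  have hP : AlgSt.IsAlgStack Scheme.fppfPrecoverage (FibCat.fp z z') :=
    isAlgStack_fp_of_isPrestack hpre h𝒵.diag hk hk' z z'
  have hzL : AlgSt.LocQ (AlgSp.LocP @Flat) z :=
    locQ_of_repByAlgSpWith _ isSmoothLocalST_flat hk h𝒵 z hzf
  have h1 : AlgSt.LocQ (AlgSp.LocP @Flat) (FibCat.fpSnd z z') :=
    locQ_fpSnd _ isSmoothLocalST_flat bcStable_flat h𝒵 hk' z z' hzL
  have h2 : AlgSt.IsSurjective (FibCat.fpSnd z z') := isSurjective_fpSnd hk h𝒵 hk' z z' hsz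
  have h3 : AlgSt.LocQ (AlgSp.LocP @Flat) (FibCat.fpFst z z') := locQ_flat_to_field hP k a _
  have h4 : AlgSt.LocQ (AlgSp.LocP @Flat) (BasedFunctor.comp (FibCat.fpFst z z') z) :=
    locQ_comp _ isSmoothLocalST_flat
      (fun _ _ _ _ hY hZ a b ha hb => locP_flat_comp hY hZ a b ha hb) hP hk h𝒵 _ _ h3 hzL
  have h5 : AlgSt.LocQ (AlgSp.LocP @Flat) (BasedFunctor.comp (FibCat.fpSnd z z') z') :=
    locQ_of_iso _ (FibCat.fpIso z z') h4
  have h6 : AlgSt.LocQ (AlgSp.LocP @Flat) z' :=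
    locQ_flat_of_comp hP hk' h𝒵 (FibCat.fpSnd z z') z' h1 h2 h5
  exact repByAlgSpWith_of_locQ _ isSmoothLocalST_flat bcStable_flat isLocalOnBase_fppf_flat hk'
    h𝒵 z' hrep' h6

end Groth.Agent.Lib.Seat59.FieldPt
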