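-- helper59 (seat 59): a flat, locally finitely presented, surjective morphism of algebraic stacks
-- is locally essentially surjective for the fppf topology.
import Mathlib
import Groth.Agent.Lib.Seat59LocQDesc
import Groth.Agent.Lib.Helper17FibYoneda
import Groth.Agent.Lib.Helper17Gerb4

set_option autoImplicit false
set_option backward.isDefEq.respectTransparency false
set_option backward.isDefEq.respectTransparency.types false
open CategoryTheory CategoryTheory.Functor CategoryTheory.Limits Opposite AlgebraicGeometry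

universe u

namespace Groth.Agent.Lib.Seat59.GerbDesc

open Groth.Agent.Lib.Helper17 Groth.Agent.Lib.Helper15PshFib Groth.Agent.Lib.Helper15RepComp
  Groth.Agent.Lib.Helper15RepPsh Groth.Agent.Lib.Helper15DiagBase Groth.Agent.Lib.Helper15DiagRepSp
  Groth.Agent.Lib.Helper15Descent Groth.Agent.Lib.Helper15DiagLft
  Groth.Agent.Lib.Helper15DiagDescent
  Groth.Agent.Lib.Helper15SpMapRep Groth.Agent.Lib.Helper15Atlas
  Groth.Agent.Lib.Helper15PtsComp Groth.Agent.Lib.Helper15PtsTop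
  Groth.Agent.Lib.Helper15FpSwap Groth.Agent.Lib.Helper15LocQEngine
  Groth.Agent.Lib.Helper15LocQSpace Groth.Agent.Lib.Helper15LocQRep
  Groth.Agent.Lib.Helper15GoodComp Groth.Agent.Lib.Helper15LocQProps
  Groth.Agent.Lib.Helper15LocEss Groth.Agent.Lib.Helper15ClosedQc
  Groth.Agent.Lib.Helper15SrcCancel Groth.Agent.Lib.Helper15LocQComp
  Groth.Agent.Lib.Helper15SmLoc
  Groth.Agent.Lib.Seat59.LocQBC Groth.Agent.Lib.Seat59.LocQFlat Groth.Agent.Lib.Seat59.QcDesc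
  Groth.Agent.Lib.Seat59.RepDesc Groth.Agent.Lib.Seat59.LocQDesc

variable {S : Scheme.{u}} {𝒴 𝒵 : AlgSt.Cat S}

/-- For a flat, locally finitely presented, surjective `z : 𝒵 ⟶ 𝒴` and any `y : (Sch/V) ⟶ 𝒴`
there is a flat, locally finitely presented, surjective `W ⟶ V` over which `y` lifts to `𝒵`. -/
theorem exists_fppf_cover (h𝒴 : AlgSt.IsAlgStack Scheme.fppfPrecoverage 𝒴)
    (h𝒵 : AlgSt.IsAlgStack Scheme.fppfPrecoverage 𝒵) (z : 𝒵 ⥤ᵇ 𝒴)
    (hz₁ : AlgSt.LocQ (AlgSp.LocP @Flat) z)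
    (hz₂ : AlgSt.LocQ (AlgSp.LocP @LocallyOfFinitePresentation) z)
    (hz₃ : AlgSt.IsSurjective z) {V : Over S} (y : FibCat.overCat V ⥤ᵇ 𝒴) :
    ∃ (W : Over S) (w : W ⟶ V) (d : FibCat.overCat W ⥤ᵇ 𝒵)
      (_ : BasedFunctor.comp (AlgSt.overMap w) y ≅ BasedFunctor.comp d z),
      Flat w.left ∧ LocallyOfFinitePresentation w.left ∧ Function.Surjective w.left := by
  have hpre𝒴 := IsStack.isPrestack _ h𝒴.isStack
  have hV := isAlgStack_overCat V
  have hℬ : AlgSt.IsAlgStack Scheme.fppfPrecoverage (FibCat.fp z y) :=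
    isAlgStack_fp_of_isPrestack hpre𝒴 h𝒴.diag h𝒵 hV z y
  obtain ⟨W, ω, hω₁, hω₂⟩ := hℬ.atlas
  have hW := isAlgStack_overCat W
  obtain ⟨w, ⟨lam⟩⟩ := exists_iso_overMap (BasedFunctor.comp ω (FibCat.fpSnd z y))
  have hkfl : AlgSt.LocQ (AlgSp.LocP @Flat) (FibCat.fpSnd z y) :=
    locQ_fpSnd _ isSmoothLocalST_flat bcStable_flat h𝒴 hV z y hz₁
  have hkfp : AlgSt.LocQ (AlgSp.LocP @LocallyOfFinitePresentation) (FibCat.fpSnd z y) :=
    locQ_fpSnd _ isSmoothLocalST_lfp bcStable_lfp h𝒴 hV z y hz₂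
  have hks : AlgSt.IsSurjective (FibCat.fpSnd z y) := isSurjective_fpSnd h𝒵 h𝒴 hV z y hz₃
  have hωfl : AlgSt.LocQ (AlgSp.LocP @Flat) ω :=
    locQ_of_repByAlgSpWith _ isSmoothLocalST_flat hW hℬ ω (flat_of_smooth hω₁)
  have hωfp : AlgSt.LocQ (AlgSp.LocP @LocallyOfFinitePresentation) ω :=
    locQ_of_repByAlgSpWith _ isSmoothLocalST_lfp hW hℬ ω (lfp_of_smooth hω₁)
  have hωs : AlgSt.IsSurjective ω :=
    (isSurjective_iff_repByAlgSpWith hW hℬ ω (repByAlgSp1_of_repByAlgSpWith _ _ hω₂)).2 hω₂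
  have h1 : AlgSt.LocQ (AlgSp.LocP @Flat) (AlgSt.overMap w) :=
    locQ_of_iso _ lam (locQ_comp _ isSmoothLocalST_flat
      (fun _ _ _ _ hY hZ a b ha hb => locP_flat_comp hY hZ a b ha hb) hW hℬ hV ω _ hωfl hkfl)
  have h2 : AlgSt.LocQ (AlgSp.LocP @LocallyOfFinitePresentation) (AlgSt.overMap w) :=
    locQ_of_iso _ lam (locQ_comp _ isSmoothLocalST_lfp
      (fun _ _ _ _ hY hZ a b ha hb => locP_lfp_comp hY hZ a b ha hb) hW hℬ hV ω _ hωfp hkfp)
  have h3 : AlgSt.IsSurjective (AlgSt.overMap w) := by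
    intro p
    obtain ⟨q, hq⟩ := isSurjective_comp ω (FibCat.fpSnd z y) hωs hks p
    refine ⟨q, ?_⟩
    rw [← hq]
    exact (points_map_congr _ _ ((BasedNatTrans.forgetful _ _).mapIso lam) q).symm
  refine ⟨W, w, BasedFunctor.comp ω (FibCat.fpFst z y), ?_,
    AlgSp.locP_yon_map (prop_of_locQ_overMap _ isSmoothLocalST_flat w h1),
    AlgSp.locP_yon_map (prop_of_locQ_overMap _ isSmoothLocalST_lfp w h2),
    surjective_left_of_isSurjective w h3⟩
  exact (whiskerRightIso lam y).symm ≪≫ (whiskerLeftIso ω (FibCat.fpIso z y)).symm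

/-- A flat, locally finitely presented, surjective morphism generates a covering sieve of the
fppf topology. -/
theorem single_mem_J {W T : Over S} (w : W ⟶ T) (hfl : Flat w.left)
    (hfp : LocallyOfFinitePresentation w.left) (hs : Function.Surjective w.left) :
    Sieve.ofArrows (fun _ : PUnit.{u + 1} => W) (fun _ => w) ∈ AlgSp.J S T := by
  rw [GrothendieckTopology.mem_over_iff, Sieve.overEquiv_ofArrows]
  apply Precoverage.generate_mem_toGrothendieck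
  refine (Scheme.ofArrows_mem_precoverage_iff
    (fun {A B : Scheme.{u}} (m : A ⟶ B) => Flat m ∧ LocallyOfFinitePresentation m)).2 ?_
  exact ⟨fun x => ⟨PUnit.unit, hs x⟩, fun _ => ⟨hfl, hfp⟩⟩

/-- A flat, locally finitely presented, surjective morphism of algebraic stacks is locally
essentially surjective for the fppf topology. -/
theorem locSurjObj_of_fppf (h𝒴 : AlgSt.IsAlgStack Scheme.fppfPrecoverage 𝒴)
    (h𝒵 : AlgSt.IsAlgStack Scheme.fppfPrecoverage 𝒵) (z : 𝒵 ⥤ᵇ 𝒴)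
    (hz₁ : AlgSt.LocQ (AlgSp.LocP @Flat) z)
    (hz₂ : AlgSt.LocQ (AlgSp.LocP @LocallyOfFinitePresentation) z)
    (hz₃ : AlgSt.IsSurjective z) : Gerb.LocSurjObj (AlgSp.J S) z := by
  intro y₀
  have : 𝒴.p.IsFibered := IsFibGrpd.isFibered h𝒴.isStack.1
  let hx : 𝒴.p.obj y₀ = 𝒴.p.obj y₀ := rfl
  let y : FibCat.overCat (𝒴.p.obj y₀) ⥤ᵇ 𝒴 := yonedaFunctor (𝒳 := 𝒴) (x := y₀) hx
  obtain ⟨W, w, d, κ, hfl, hfp, hs⟩ := exists_fppf_cover h𝒴 h𝒵 z hz₁ hz₂ hz₃ y
  refine ⟨_, single_mem_J w hfl hfp hs, ?_⟩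
  intro V f hf
  obtain ⟨-, a, rfl⟩ := (Sieve.mem_ofArrows_iff _ _ f).1 hf
  let A : (FibCat.overCat W).obj := Over.mk a
  have h1 : 𝒴.p.IsHomLift (𝟙 V) (bApp κ A).inv := bApp_inv_isHomLift κ A
  have h2 : 𝒴.p.IsHomLift (a ≫ w) (yonedaCart hx ((AlgSt.overMap w).obj A)) :=
    (yonedaCart_isStronglyCartesian hx ((AlgSt.overMap w).obj A)).toIsHomLift
  refine ⟨d.obj A, (bApp κ A).inv ≫ yonedaCart hx ((AlgSt.overMap w).obj A), ?_⟩
  exact IsHomLift.comp_lift_id_left 𝒴.p (a ≫ w) _ (bApp κ A).inv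

end Groth.Agent.Lib.Seat59.GerbDesc
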