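-- helper59 (seat 59): a gerbe morphism of algebraic stacks is a universal homeomorphism.
import Mathlib
import Groth.Agent.Lib.Seat59GerbDesc
import Groth.Agent.Lib.Helper11HomSm
import Groth.Agent.Lib.Helper17StkPts
import Groth.Agent.Lib.Helper17Gerb

set_option autoImplicit false
set_option backward.isDefEq.respectTransparency false
set_option backward.isDefEq.respectTransparency.types false
open CategoryTheory CategoryTheory.Functor CategoryTheory.Limits Opposite AlgebraicGeometry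

universe u

namespace Groth.Agent.Lib.Seat59.GerbHomeo

open Groth.Agent.Lib.Helper17 Groth.Agent.Lib.Helper15Atlas Groth.Agent.Lib.Helper15PtsComp
  Groth.Agent.Lib.Helper15PtsTop

variable {S : Scheme.{u}}

/-- The spectrum of an algebraically closed field is a point for the fppf topology: every covering
sieve contains the identity. -/
theorem id_mem_of_mem_J (Ω : Type u) [Field Ω] [IsAlgClosed Ω] (t : Spec (CommRingCat.of Ω) ⟶ S)
    (R : Sieve (Over.mk t)) (hR : R ∈ AlgSp.J S (Over.mk t)) : R (𝟙 (Over.mk t)) := by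
  rw [GrothendieckTopology.mem_over_iff,
    Precoverage.mem_toGrothendieck_iff_of_isStableUnderComposition] at hR
  obtain ⟨R', hR', hle⟩ := hR
  have h1 := hR'.1
  rw [Scheme.jointlySurjectivePrecoverage,
    Presieve.mem_comap_jointlySurjectivePrecoverage_iff] at h1
  obtain ⟨Y, g, hg, y₀, hy₀⟩ := h1 (IsLocalRing.closedPoint Ω)
  have hlfp : LocallyOfFinitePresentation g := (hR'.2 hg).2
  have hsub : Subsingleton (Spec (CommRingCat.of Ω)) := inferInstance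
  have hsurj : Surjective g := ⟨fun z => ⟨y₀, hsub.elim _ _⟩⟩
  obtain ⟨σ, hσ⟩ := Groth.Agent.Lib.Helper11HomSm.exists_lift_point g
    (𝟙 (Spec (CommRingCat.of Ω)))
  have h2 := hle _ _ hg
  have h3 : (Sieve.overEquiv (Over.mk t) R) (σ ≫ g) :=
    (Sieve.overEquiv (Over.mk t) R).downward_closed h2 σ
  rw [hσ, Sieve.overEquiv_iff] at h3
  let i : Over.mk (𝟙 (Spec (CommRingCat.of Ω)) ≫ (Over.mk t).hom) ⟶ Over.mk t :=
    Over.homMk (𝟙 _) rfl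
  have hi : IsIso i := by
    have : IsIso ((Over.forget S).map i) := by
      change IsIso (𝟙 (Spec (CommRingCat.of Ω)))
      infer_instance
    exact isIso_of_reflects_iso i (Over.forget S)
  have h4 : R (inv i ≫ i) := R.downward_closed h3 (inv i)
  rwa [IsIso.inv_hom_id] at h4

variable {𝒳 𝒴 : AlgSt.Cat S}

/-- Every field point is dominated by a field point over an algebraically closed field. -/
theorem exists_algClosed_fpt (h𝒴 : FibCat.IsFibGrpd 𝒴.p) (r : AlgSt.FPt 𝒴) :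
    ∃ (r' : AlgSt.FPt 𝒴) (_ : IsAlgClosed r'.K) (_ : r'.obj ⟶ r.obj), True := by
  let Ω := AlgebraicClosure r.K
  let c : Spec (CommRingCat.of Ω) ⟶ Spec (CommRingCat.of r.K) :=
    Spec.map (CommRingCat.ofHom (algebraMap r.K Ω))
  let cO : Over.mk (c ≫ r.str) ⟶ Over.mk r.str := Over.homMk c rfl
  obtain ⟨y', d, hd⟩ := h𝒴.exists_lift (x := r.obj) (cO ≫ eqToHom r.lies.symm)
  have hd2 : 𝒴.p.IsHomLift cO d :=
    (IsHomLift.lift_comp_eqToHom_iff (p := 𝒴.p) cO d r.lies.symm).1 hd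
  exact ⟨⟨Ω, c ≫ r.str, y', IsHomLift.domain_eq 𝒴.p cO d⟩,
    (inferInstance : IsAlgClosed (AlgebraicClosure r.K)), d, trivial⟩

/-- A functor which is locally essentially surjective for the fppf topology is surjective on
points. -/
theorem isSurjective_of_locSurjObj (h𝒴 : FibCat.IsFibGrpd 𝒴.p) (f : 𝒳 ⥤ᵇ 𝒴)
    (hf : Gerb.LocSurjObj (AlgSp.J S) f) : AlgSt.IsSurjective f := by
  intro q
  obtain ⟨r, rfl⟩ := AlgSt.Points.mk_surjective q
  obtain ⟨r', hac, d, -⟩ := exists_algClosed_fpt h𝒴 r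
  obtain ⟨R, hR, h⟩ := LocSurjObj.general (AlgSp.J S) hf r'.obj r'.lies
  obtain ⟨x, g, hg⟩ := h (𝟙 _) (id_mem_of_mem_J r'.K r'.str R hR)
  have hx : 𝒳.p.obj x = Over.mk r'.str :=
    (f.w_obj x).symm.trans (IsHomLift.domain_eq 𝒴.p (𝟙 _) g)
  refine ⟨AlgSt.Points.mk ⟨r'.K, r'.str, x, hx⟩, ?_⟩
  apply AlgSt.Points.sound
  exact ⟨AlgSt.FPt.map f ⟨r'.K, r'.str, x, hx⟩, 𝟙 _, g ≫ d, trivial⟩

/-- A functor which is locally full for the fppf topology is injective on points. -/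
theorem injective_of_locSurjHom (h𝒳 : FibCat.IsFibGrpd 𝒳.p) (h𝒴 : FibCat.IsFibGrpd 𝒴.p)
    (f : 𝒳 ⥤ᵇ 𝒴) (hf : Gerb.LocSurjHom (AlgSp.J S) f) :
    Function.Injective (AlgSt.Points.map f) := by
  intro p₁ p₂ h
  obtain ⟨r₁, rfl⟩ := AlgSt.Points.mk_surjective p₁
  obtain ⟨r₂, rfl⟩ := AlgSt.Points.mk_surjective p₂
  have hrel : AlgSt.FPt.Rel (r₁.map f) (r₂.map f) := fpt_rel_of_mk_eq h𝒴 h
  obtain ⟨r₃, m₁, m₂, -⟩ := hrel
  obtain ⟨r', hac, d, -⟩ := exists_algClosed_fpt h𝒴 r₃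
  have hm₁ : 𝒴.p.IsHomLift (𝒴.p.map (d ≫ m₁)) (d ≫ m₁) := IsHomLift.map 𝒴.p (d ≫ m₁)
  have hm₂ : 𝒴.p.IsHomLift (𝒴.p.map (d ≫ m₂)) (d ≫ m₂) := IsHomLift.map 𝒴.p (d ≫ m₂)
  obtain ⟨x₁, e₁, he₁⟩ := h𝒳.exists_lift (x := r₁.obj)
    (𝒴.p.map (d ≫ m₁) ≫ eqToHom (f.w_obj r₁.obj))
  obtain ⟨x₂, e₂, he₂⟩ := h𝒳.exists_lift (x := r₂.obj)
    (𝒴.p.map (d ≫ m₂) ≫ eqToHom (f.w_obj r₂.obj))
  have hfe₁ : 𝒴.p.IsHomLift (𝒴.p.map (d ≫ m₁) ≫ eqToHom (f.w_obj r₁.obj)) (f.map e₁) :=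
    inferInstance
  have hfe₂ : 𝒴.p.IsHomLift (𝒴.p.map (d ≫ m₂) ≫ eqToHom (f.w_obj r₂.obj)) (f.map e₂) :=
    inferInstance
  have hfe₁' : 𝒴.p.IsHomLift (𝒴.p.map (d ≫ m₁)) (f.map e₁) :=
    (IsHomLift.lift_comp_eqToHom_iff (p := 𝒴.p) _ (f.map e₁) (f.w_obj r₁.obj)).1 hfe₁
  have hfe₂' : 𝒴.p.IsHomLift (𝒴.p.map (d ≫ m₂)) (f.map e₂) :=
    (IsHomLift.lift_comp_eqToHom_iff (p := 𝒴.p) _ (f.map e₂) (f.w_obj r₂.obj)).1 hfe₂
  obtain ⟨ε₁, hε₁, -⟩ := IsFibGrpd.exists_iso_of_lifts h𝒴 (𝒴.p.map (d ≫ m₁)) (f.map e₁) (d ≫ m₁)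
  obtain ⟨ε₂, hε₂, -⟩ := IsFibGrpd.exists_iso_of_lifts h𝒴 (𝒴.p.map (d ≫ m₂)) (f.map e₂) (d ≫ m₂)
  have hε₂' : 𝒴.p.IsHomLift (𝟙 (𝒴.p.obj r'.obj)) ε₂.inv :=
    IsHomLift.lift_id_inv 𝒴.p _ ε₂
  have hb0 : 𝒴.p.IsHomLift (𝟙 (𝒴.p.obj r'.obj) ≫ 𝟙 (𝒴.p.obj r'.obj)) (ε₁.hom ≫ ε₂.inv) :=
    inferInstance
  have hb1 : 𝒴.p.IsHomLift (𝟙 (𝒴.p.obj r'.obj)) (ε₁.hom ≫ ε₂.inv) := by
    simpa using hb0
  have hb : 𝒴.p.IsHomLift (𝟙 (Over.mk r'.str)) (ε₁.hom ≫ ε₂.inv) :=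
    isHomLift_id_of_eq 𝒴.p r'.lies _ (hφ := hb1)
  have hx₁ : 𝒳.p.obj x₁ = Over.mk r'.str :=
    ((f.w_obj x₁).symm.trans (IsHomLift.domain_eq 𝒴.p (𝟙 _) ε₁.hom)).trans r'.lies
  obtain ⟨R, hR, hloc⟩ := LocSurjHom.general (AlgSp.J S) hf x₁ x₂ (ε₁.hom ≫ ε₂.inv) hx₁ hb
  obtain ⟨x₀, φ, ψ, hφ, hψ, -⟩ := hloc (𝟙 _) (id_mem_of_mem_J r'.K r'.str R hR)
  have hx₀ : 𝒳.p.obj x₀ = Over.mk r'.str := IsHomLift.domain_eq 𝒳.p (𝟙 _) φ
  apply AlgSt.Points.sound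
  exact ⟨⟨r'.K, r'.str, x₀, hx₀⟩, φ ≫ e₁, ψ ≫ e₂, trivial⟩

/-- A covering sieve for the fppf topology contains a flat, locally finitely presented, jointly
surjective family indexed by the points of the scheme. -/
theorem exists_fppf_family {U : Over S} (R : Sieve U) (hR : R ∈ AlgSp.J S U) :
    ∃ (V : ↥U.left → Over S) (v : ∀ x, V x ⟶ U), (∀ x, R.arrows (v x)) ∧
      (∀ x, Flat (v x).left) ∧ (∀ x, LocallyOfFinitePresentation (v x).left) ∧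
        ∀ x, x ∈ Set.range (v x).left := by
  rw [GrothendieckTopology.mem_over_iff,
    Precoverage.mem_toGrothendieck_iff_of_isStableUnderComposition] at hR
  obtain ⟨R', hR', hle⟩ := hR
  have hjs : ∀ x : ↥U.left, ∃ (Y : Scheme.{u}) (g : Y ⟶ U.left), R' g ∧ x ∈ Set.range g := by
    intro x
    have h1 := hR'.1
    rw [Scheme.jointlySurjectivePrecoverage,
      Presieve.mem_comap_jointlySurjectivePrecoverage_iff] at h1
    obtain ⟨Y, g, hg, hx⟩ := h1 x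
    exact ⟨Y, g, hg, hx⟩
  choose Y g hg hx using hjs
  refine ⟨fun x => Over.mk (g x ≫ U.hom), fun x => Over.homMk (g x) rfl, fun x => ?_,
    fun x => (hR'.2 (hg x)).1, fun x => (hR'.2 (hg x)).2, fun x => hx x⟩
  have h4 := hle _ _ (hg x)
  rw [Sieve.overEquiv_iff] at h4
  exact h4

/-- The image under `f` of the point of a chart of `𝒳` obtained from an object whose image maps to
the universal object of a chart `y` of `𝒴`. -/
theorem map_ofChart_yoneda (h𝒴 : FibCat.IsFibGrpd 𝒴.p) [𝒳.p.IsFibered] (f : 𝒳 ⥤ᵇ 𝒴)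
    {U V : Over S} (y : FibCat.overCat U ⥤ᵇ 𝒴) (a : V ⟶ U) (x : 𝒳.obj) (hx : 𝒳.p.obj x = V)
    (g : f.obj x ⟶ y.obj (Over.mk (𝟙 U))) (hg : 𝒴.p.IsHomLift a g) (t : ↥V.left) :
    AlgSt.Points.map f (AlgSt.Points.ofChart (yonedaFunctor (𝒳 := 𝒳) (x := x) hx) t) =
      AlgSt.Points.ofChart y (a.left t) := by
  have h1 : AlgSt.Points.ofChart y (a.left t) =
      AlgSt.Points.ofChart (BasedFunctor.comp (AlgSt.overMap a) y) t := (ofChart_overMap a y t).symm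
  rw [h1]
  apply AlgSt.Points.sound
  let c : Over V := Over.mk (Over.homMk (V.left.fromSpecResidueField t) rfl :
    Over.mk (V.left.fromSpecResidueField t ≫ V.hom) ⟶ V)
  have l1 : 𝒳.p.IsHomLift c.hom (yonedaCart (𝒳 := 𝒳) (x := x) hx c) :=
    (yonedaCart_isStronglyCartesian (𝒳 := 𝒳) (x := x) hx c).toIsHomLift
  have l2 : 𝒴.p.IsHomLift c.hom (f.map (yonedaCart (𝒳 := 𝒳) (x := x) hx c)) := inferInstance
  have l3 : 𝒴.p.IsHomLift (c.hom ≫ a) (f.map (yonedaCart (𝒳 := 𝒳) (x := x) hx c) ≫ g) :=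
    inferInstance
  have l4 : (FibCat.overCat U).p.IsHomLift ((Over.map a).obj c).hom
      (overTerm U ((Over.map a).obj c)) := overTerm_isHomLift U _
  have l5 : 𝒴.p.IsHomLift (c.hom ≫ a) (y.map (overTerm U ((Over.map a).obj c))) :=
    BasedFunctor.preserves_isHomLift y ((Over.map a).obj c).hom (overTerm U ((Over.map a).obj c))
  obtain ⟨e, -, -⟩ := IsFibGrpd.exists_iso_of_lifts h𝒴 (c.hom ≫ a)
    (f.map (yonedaCart (𝒳 := 𝒳) (x := x) hx c) ≫ g) (y.map (overTerm U ((Over.map a).obj c)))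
  exact ⟨_, 𝟙 _, e.hom, trivial⟩

/-- A functor of algebraic stacks which is locally essentially surjective for the fppf topology
and injective on points is open on points. -/
theorem isOpenMap_of_locSurjObj (h𝒳 : AlgSt.IsAlgStack Scheme.fppfPrecoverage 𝒳)
    (h𝒴 : AlgSt.IsAlgStack Scheme.fppfPrecoverage 𝒴) (f : 𝒳 ⥤ᵇ 𝒴)
    (hf : Gerb.LocSurjObj (AlgSp.J S) f) (hinj : Function.Injective (AlgSt.Points.map f)) :
    IsOpenMap (AlgSt.Points.map f) := by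
  intro W hW
  rw [AlgSt.Points.isOpen_iff]
  intro U y hy
  have hfib : 𝒳.p.IsFibered := IsFibGrpd.isFibered h𝒳.isStack.1
  obtain ⟨R, hR, hloc⟩ := LocSurjObj.general (AlgSp.J S) hf (y.obj (Over.mk (𝟙 U)))
    (y.w_obj (Over.mk (𝟙 U)))
  obtain ⟨V, v, hvR, hfl, hfp, hsurj⟩ := exists_fppf_family R hR
  have key : ∀ u : ↥U.left, ∃ (x : 𝒳.obj) (g : f.obj x ⟶ y.obj (Over.mk (𝟙 U))),
      𝒴.p.IsHomLift (v u) g := fun u => hloc (v u) (hvR u)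
  choose x g hg using key
  have hx : ∀ u, 𝒳.p.obj (x u) = V u := fun u =>
    (f.w_obj (x u)).symm.trans (IsHomLift.domain_eq 𝒴.p (v u) (g u))
  have hmap : ∀ (u : ↥U.left) (t : ↥(V u).left),
      AlgSt.Points.map f (AlgSt.Points.ofChart (yonedaFunctor (𝒳 := 𝒳) (x := x u) (hx u)) t) =
        AlgSt.Points.ofChart y ((v u).left t) :=
    fun u t => map_ofChart_yoneda h𝒴.isStack.1 f y (v u) (x u) (hx u) (g u) (hg u) t
  have heq : AlgSt.Points.ofChart y ⁻¹' (AlgSt.Points.map f '' W) =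
      ⋃ u : ↥U.left, (v u).left ''
        (AlgSt.Points.ofChart (yonedaFunctor (𝒳 := 𝒳) (x := x u) (hx u)) ⁻¹' W) := by
    ext u₀
    simp only [Set.mem_preimage, Set.mem_image, Set.mem_iUnion]
    constructor
    · rintro ⟨w, hw, hwe⟩
      obtain ⟨t, ht⟩ := hsurj u₀
      refine ⟨u₀, t, ?_, ht⟩
      have h2 := hmap u₀ t
      rw [ht, ← hwe] at h2
      rw [hinj h2]
      exact hw
    · rintro ⟨u, t, ht, rfl⟩
      exact ⟨_, ht, hmap u t⟩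
  rw [heq]
  refine isOpen_iUnion (fun u => ?_)
  have ho : IsOpenMap (v u).left := by
    have := hfl u
    have := hfp u
    exact (v u).left.isOpenMap
  exact ho _ ((continuous_ofChart h𝒳 _).isOpen_preimage W hW)

/-- A gerbe morphism of algebraic stacks is a homeomorphism on points. -/
theorem isHomeomorph_of_isGerbeOver (h𝒳 : AlgSt.IsAlgStack Scheme.fppfPrecoverage 𝒳)
    (h𝒴 : AlgSt.IsAlgStack Scheme.fppfPrecoverage 𝒴) (f : 𝒳 ⥤ᵇ 𝒴)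
    (hf : Gerb.IsGerbeOver (AlgSp.J S) f) : IsHomeomorph (AlgSt.Points.map f) := by
  have hinj := injective_of_locSurjHom h𝒳.isStack.1 h𝒴.isStack.1 f hf.2
  exact ⟨continuous_points_map h𝒴 f, isOpenMap_of_locSurjObj h𝒳 h𝒴 f hf.1 hinj, hinj,
    isSurjective_of_locSurjObj h𝒴.isStack.1 f hf.1⟩

/-- A gerbe morphism of algebraic stacks is a universal homeomorphism. -/
theorem isUnivHomeo_of_isGerbeOver (h𝒳 : AlgSt.IsAlgStack Scheme.fppfPrecoverage 𝒳)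
    (h𝒴 : AlgSt.IsAlgStack Scheme.fppfPrecoverage 𝒴) (f : 𝒳 ⥤ᵇ 𝒴)
    (hf : Gerb.IsGerbeOver (AlgSp.J S) f) : AlgSt.IsUnivHomeo Scheme.fppfPrecoverage f := by
  intro 𝒵 h𝒵 g
  have hpre𝒴 := IsStack.isPrestack _ h𝒴.isStack
  have hP : AlgSt.IsAlgStack Scheme.fppfPrecoverage (FibCat.fp g f) :=
    isAlgStack_fp_of_isPrestack hpre𝒴 h𝒴.diag h𝒵 h𝒳 g f
  exact isHomeomorph_of_isGerbeOver hP h𝒵 (FibCat.fpFst g f)
    (isGerbeOver_fpFst (AlgSp.J S) f g h𝒴.isStack.1 h𝒵.isStack.1 hf)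

end Groth.Agent.Lib.Seat59.GerbHomeo
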