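-- helper59 (seat 59): coarse moduli spaces pass along gerbes that are universal for maps to
-- algebraic spaces.
import Mathlib
import Groth.Prelude.Def_StCoarse
import Groth.Agent.Lib.Seat59GerbHomeo

set_option autoImplicit false
set_option backward.isDefEq.respectTransparency false
set_option backward.isDefEq.respectTransparency.types false
open CategoryTheory CategoryTheory.Functor CategoryTheory.Limits Opposite AlgebraicGeometry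

universe u

namespace Groth.Agent.Lib.Seat59.GerbCoarse

open Groth.Agent.Lib.Helper17 Groth.Agent.Lib.Seat59.GerbHomeo

variable {S : Scheme.{u}} {𝒳 𝒴 : AlgSt.Cat S} {M : AlgSp.Sp S}

/-- Objects of the category of a sheaf joined by a morphism over an identity carry the same
section. -/
theorem sec_eq_of_hom {a b : (AlgSt.ofSp M).obj} (m : a ⟶ b) {T : Over S} (ha : a.base = T)
    (hb : b.base = T) (hm : (AlgSt.ofSp M).p.IsHomLift (𝟙 T) m) :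
    M.obj.map (eqToHom ha.symm).op a.sec = M.obj.map (eqToHom hb.symm).op b.sec := by
  obtain ⟨A, s⟩ := a
  obtain ⟨B, t⟩ := b
  dsimp at ha hb
  subst ha
  subst hb
  have h1 : M.obj.map m.hom.op t = s := m.map_sec
  have h2 : m.hom = 𝟙 _ := by
    have := IsHomLift.fac' (AlgSt.ofSp M).p (𝟙 B) m
    simpa using this
  rw [h2] at h1
  simpa using h1.symm

/-- The section attached to an object only depends on the functor up to 2-isomorphism. -/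
theorem fibSec_of_iso {π π' : 𝒳 ⥤ᵇ AlgSt.ofSp M} (ε : π ≅ π') {T : Over S} (x : 𝒳.p.Fiber T) :
    AlgSt.fibSec π x = AlgSt.fibSec π' x := by
  have h1 : (AlgSt.ofSp M).p.IsHomLift (𝟙 (𝒳.p.obj x.1)) (bApp ε x.1).hom := bApp_isHomLift ε x.1
  have h2 : (AlgSt.ofSp M).p.IsHomLift (𝟙 T) (bApp ε x.1).hom :=
    isHomLift_id_of_eq (AlgSt.ofSp M).p x.2 _ (hφ := h1)
  exact sec_eq_of_hom (bApp ε x.1).hom ((π.w_obj x.1).trans x.2) ((π'.w_obj x.1).trans x.2) h2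

/-- Isomorphic objects of a fibre carry the same section. -/
theorem fibSec_of_hom (π : 𝒳 ⥤ᵇ AlgSt.ofSp M) {T : Over S} (x y : 𝒳.p.Fiber T) (m : x.1 ⟶ y.1)
    (hm : 𝒳.p.IsHomLift (𝟙 T) m) : AlgSt.fibSec π x = AlgSt.fibSec π y := by
  have h2 : (AlgSt.ofSp M).p.IsHomLift (𝟙 T) (π.map m) :=
    BasedFunctor.preserves_isHomLift π (𝟙 T) m
  exact sec_eq_of_hom (π.map m) ((π.w_obj x.1).trans x.2) ((π.w_obj y.1).trans y.2) h2

/-- The section attached to an object by a composite. -/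
theorem fibSec_comp (F : 𝒳 ⥤ᵇ 𝒴) (π : 𝒴 ⥤ᵇ AlgSt.ofSp M) {T : Over S} (x : 𝒳.p.Fiber T) :
    AlgSt.fibSec (BasedFunctor.comp F π) x =
      AlgSt.fibSec π (⟨F.obj x.1, (F.w_obj x.1).trans x.2⟩ : 𝒴.p.Fiber T) := rfl

/-- An isomorphism over the identity is an isomorphism of the fibre category. -/
theorem fiber_iso_of_iso {𝒵 : AlgSt.Cat S} {T : Over S} (z₁ z₂ : 𝒵.p.Fiber T) (e : z₁.1 ≅ z₂.1)
    (he : 𝒵.p.IsHomLift (𝟙 T) e.hom) : Nonempty (z₁ ≅ z₂) := by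
  have he' : 𝒵.p.IsHomLift (𝟙 T) e.inv := IsHomLift.lift_id_inv 𝒵.p T e
  exact ⟨{ hom := ⟨e.hom, he⟩
           inv := ⟨e.inv, he'⟩
           hom_inv_id := Subtype.ext e.hom_inv_id
           inv_hom_id := Subtype.ext e.inv_hom_id }⟩

/-- Objects over the spectrum of an algebraically closed field lift along a functor which is
locally essentially surjective for the fppf topology. -/
theorem exists_lift_fiber (F : 𝒳 ⥤ᵇ 𝒴) (hF : Gerb.LocSurjObj (AlgSp.J S) F) (Ω : Type u)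
    [Field Ω] [IsAlgClosed Ω] (t : Spec (CommRingCat.of Ω) ⟶ S) (y : 𝒴.p.Fiber (Over.mk t)) :
    ∃ (x : 𝒳.p.Fiber (Over.mk t)) (g : F.obj x.1 ⟶ y.1), 𝒴.p.IsHomLift (𝟙 (Over.mk t)) g := by
  obtain ⟨R, hR, h⟩ := LocSurjObj.general (AlgSp.J S) hF y.1 y.2
  obtain ⟨x, g, hg⟩ := h (𝟙 _) (id_mem_of_mem_J Ω t R hR)
  exact ⟨⟨x, (F.w_obj x).symm.trans (IsHomLift.domain_eq 𝒴.p (𝟙 _) g)⟩, g, hg⟩

/-- Over the spectrum of an algebraically closed field, objects with isomorphic images under a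
functor which is locally full for the fppf topology are isomorphic. -/
theorem exists_iso_fiber (h𝒳 : FibCat.IsFibGrpd 𝒳.p) (F : 𝒳 ⥤ᵇ 𝒴)
    (hF : Gerb.LocSurjHom (AlgSp.J S) F) (Ω : Type u) [Field Ω] [IsAlgClosed Ω]
    (t : Spec (CommRingCat.of Ω) ⟶ S) (x x' : 𝒳.p.Fiber (Over.mk t))
    (b : F.obj x.1 ⟶ F.obj x'.1) (hb : 𝒴.p.IsHomLift (𝟙 (Over.mk t)) b) : Nonempty (x ≅ x') := by
  obtain ⟨R, hR, hloc⟩ := LocSurjHom.general (AlgSp.J S) hF x.1 x'.1 b x.2 hb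
  obtain ⟨x₀, φ, ψ, hφ, hψ, -⟩ := hloc (𝟙 _) (id_mem_of_mem_J Ω t R hR)
  have hφi : IsIso φ := IsFibGrpd.isIso_of_isHomLift_id h𝒳 (Over.mk t) φ
  have hψi : IsIso ψ := IsFibGrpd.isIso_of_isHomLift_id h𝒳 (Over.mk t) ψ
  have l0 : 𝒳.p.IsHomLift (𝟙 (Over.mk t)) (asIso φ).hom := hφ
  have l1 : 𝒳.p.IsHomLift (𝟙 (Over.mk t)) (asIso φ).inv := IsHomLift.lift_id_inv 𝒳.p _ (asIso φ)
  have l2 : 𝒳.p.IsHomLift (𝟙 (Over.mk t) ≫ 𝟙 (Over.mk t)) ((asIso φ).inv ≫ ψ) := inferInstance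
  have l3 : 𝒳.p.IsHomLift (𝟙 (Over.mk t)) ((asIso φ).symm ≪≫ asIso ψ).hom := by
    simpa using l2
  exact fiber_iso_of_iso x x' ((asIso φ).symm ≪≫ asIso ψ) l3

/-- The universal property of a functor with respect to functors to algebraic spaces. -/
def UnivSp (F : 𝒳 ⥤ᵇ 𝒴) : Prop :=
  ∀ (N : AlgSp.Sp S), AlgSp.IsAlgSpace N → ∀ φ : 𝒳 ⥤ᵇ AlgSt.ofSp N,
    ∃ ψ : 𝒴 ⥤ᵇ AlgSt.ofSp N, Nonempty (BasedFunctor.comp F ψ ≅ φ) ∧
      ∀ ψ' : 𝒴 ⥤ᵇ AlgSt.ofSp N, Nonempty (BasedFunctor.comp F ψ' ≅ φ) → Nonempty (ψ' ≅ ψ)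

/-- A coarse moduli space of the target of a gerbe which is universal for functors to algebraic
spaces is a coarse moduli space of the source. -/
theorem isCoarseModuli_comp (h𝒳 : FibCat.IsFibGrpd 𝒳.p) (F : 𝒳 ⥤ᵇ 𝒴)
    (hF : Gerb.IsGerbeOver (AlgSp.J S) F) (huniv : UnivSp F) (π : 𝒴 ⥤ᵇ AlgSt.ofSp M)
    (hπ : AlgSt.IsCoarseModuli π) : AlgSt.IsCoarseModuli (BasedFunctor.comp F π) := by
  refine ⟨⟨hπ.1.1, fun N hN φ => ?_⟩, fun Ω _ _ t => ⟨fun m => ?_, fun x x' h => ?_⟩⟩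
  · obtain ⟨ψ, ⟨ε⟩, hψ⟩ := huniv N hN φ
    obtain ⟨g, ⟨δ⟩, hg⟩ := hπ.1.2 N hN ψ
    refine ⟨g, ⟨(whiskerLeftIso F δ : BasedFunctor.comp F (BasedFunctor.comp π (AlgSt.ofSpMap g)) ≅
      BasedFunctor.comp F ψ) ≪≫ ε⟩, fun g' hg' => ?_⟩
    obtain ⟨δ'⟩ := hg'
    exact hg g' (hψ (BasedFunctor.comp π (AlgSt.ofSpMap g')) ⟨δ'⟩)
  · obtain ⟨y, hy⟩ := (hπ.2 Ω t).1 m
    obtain ⟨x, g, hg⟩ := exists_lift_fiber F hF.1 Ω t y
    refine ⟨x, ?_⟩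
    rw [fibSec_comp, ← hy]
    exact fibSec_of_hom π ⟨F.obj x.1, (F.w_obj x.1).trans x.2⟩ y g hg
  · rw [fibSec_comp, fibSec_comp] at h
    obtain ⟨e⟩ := (hπ.2 Ω t).2 _ _ h
    exact exists_iso_fiber h𝒳 F hF.2 Ω t x x' (Functor.Fiber.fiberInclusion.mapIso e).hom e.hom.2

/-- A coarse moduli space of the source of a gerbe which is universal for functors to algebraic
spaces descends to a coarse moduli space of the target. -/
theorem exists_isCoarseModuli_of_comp (h𝒴 : FibCat.IsFibGrpd 𝒴.p) (F : 𝒳 ⥤ᵇ 𝒴)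
    (hF : Gerb.IsGerbeOver (AlgSp.J S) F) (huniv : UnivSp F) (π' : 𝒳 ⥤ᵇ AlgSt.ofSp M)
    (hπ' : AlgSt.IsCoarseModuli π') : ∃ π : 𝒴 ⥤ᵇ AlgSt.ofSp M, AlgSt.IsCoarseModuli π := by
  obtain ⟨ψ, ⟨ε⟩, -⟩ := huniv M hπ'.1.1 π'
  refine ⟨ψ, ⟨hπ'.1.1, fun N hN φ => ?_⟩, fun Ω _ _ t => ⟨fun m => ?_, fun y y' h => ?_⟩⟩
  · obtain ⟨g, ⟨δ⟩, hg⟩ := hπ'.1.2 N hN (BasedFunctor.comp F φ)
    obtain ⟨ψ₀, -, h₀⟩ := huniv N hN (BasedFunctor.comp F φ)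
    obtain ⟨i₁⟩ := h₀ φ ⟨Iso.refl _⟩
    have i₂' : BasedFunctor.comp F (BasedFunctor.comp ψ (AlgSt.ofSpMap g)) ≅ BasedFunctor.comp F φ :=
      (whiskerRightIso ε (AlgSt.ofSpMap g) : BasedFunctor.comp (BasedFunctor.comp F ψ)
        (AlgSt.ofSpMap g) ≅ BasedFunctor.comp π' (AlgSt.ofSpMap g)) ≪≫ δ
    obtain ⟨i₂⟩ := h₀ (BasedFunctor.comp ψ (AlgSt.ofSpMap g)) ⟨i₂'⟩
    refine ⟨g, ⟨i₂ ≪≫ i₁.symm⟩, fun g' hg' => ?_⟩
    obtain ⟨δ'⟩ := hg'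
    refine hg g' ⟨?_⟩
    exact (whiskerRightIso ε.symm (AlgSt.ofSpMap g') : BasedFunctor.comp π' (AlgSt.ofSpMap g') ≅
      BasedFunctor.comp (BasedFunctor.comp F ψ) (AlgSt.ofSpMap g')) ≪≫
      (whiskerLeftIso F δ' : BasedFunctor.comp F (BasedFunctor.comp ψ (AlgSt.ofSpMap g')) ≅
        BasedFunctor.comp F φ)
  · obtain ⟨x, hx⟩ := (hπ'.2 Ω t).1 m
    refine ⟨⟨F.obj x.1, (F.w_obj x.1).trans x.2⟩, ?_⟩
    rw [← fibSec_comp, fibSec_of_iso ε]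
    exact hx
  · obtain ⟨x, g, hg⟩ := exists_lift_fiber F hF.1 Ω t y
    obtain ⟨x', g', hg'⟩ := exists_lift_fiber F hF.1 Ω t y'
    have e1 : AlgSt.fibSec π' x = AlgSt.fibSec ψ y := by
      rw [← fibSec_of_iso ε, fibSec_comp]
      exact fibSec_of_hom ψ ⟨F.obj x.1, (F.w_obj x.1).trans x.2⟩ y g hg
    have e2 : AlgSt.fibSec π' x' = AlgSt.fibSec ψ y' := by
      rw [← fibSec_of_iso ε, fibSec_comp]
      exact fibSec_of_hom ψ ⟨F.obj x'.1, (F.w_obj x'.1).trans x'.2⟩ y' g' hg'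
    obtain ⟨e⟩ := (hπ'.2 Ω t).2 x x' (by rw [e1, e2, h])
    have hgi : IsIso g := IsFibGrpd.isIso_of_isHomLift_id h𝒴 (Over.mk t) g
    have hgi' : IsIso g' := IsFibGrpd.isIso_of_isHomLift_id h𝒴 (Over.mk t) g'
    have l0 : 𝒳.p.IsHomLift (𝟙 (Over.mk t)) (Functor.Fiber.fiberInclusion.mapIso e).hom := e.hom.2
    have l00 : 𝒴.p.IsHomLift (𝟙 (Over.mk t)) (asIso g).hom := hg
    have l1 : 𝒴.p.IsHomLift (𝟙 (Over.mk t)) (asIso g).inv := IsHomLift.lift_id_inv 𝒴.p _ (asIso g)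
    have l2 : 𝒴.p.IsHomLift (𝟙 (Over.mk t))
        (F.map (Functor.Fiber.fiberInclusion.mapIso e).hom) :=
      BasedFunctor.preserves_isHomLift F (𝟙 (Over.mk t)) _
    have l3 : 𝒴.p.IsHomLift ((𝟙 (Over.mk t) ≫ 𝟙 (Over.mk t)) ≫ 𝟙 (Over.mk t))
        (((asIso g).inv ≫ F.map (Functor.Fiber.fiberInclusion.mapIso e).hom) ≫ g') :=
      inferInstance
    have l4 : 𝒴.p.IsHomLift (𝟙 (Over.mk t)) ((asIso g).symm ≪≫
        F.toFunctor.mapIso (Functor.Fiber.fiberInclusion.mapIso e) ≪≫ asIso g').hom := by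
      simpa using l3
    exact fiber_iso_of_iso y y' _ l4

end Groth.Agent.Lib.Seat59.GerbCoarse
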