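-- helper59: the product `f × f` of a gerbe morphism is a gerbe morphism.
import Mathlib
import Groth.Agent.Lib.Helper17MagicSq
import Groth.Agent.Lib.Helper17Gerb3
import Groth.Agent.Lib.Helper17Gerb4
import Groth.Agent.Lib.Helper17FpCart

set_option autoImplicit false
set_option backward.isDefEq.respectTransparency false
set_option backward.isDefEq.respectTransparency.types false
open CategoryTheory CategoryTheory.Functor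

universe v₂ u₂ v₃ u₃ v u

namespace Groth.Agent.Lib.Seat59.GerbProd

open Groth.Agent.Lib.Helper17

variable {C : Type u} [Category.{v} C] (J : GrothendieckTopology C)
  {𝒳 : BasedCategory.{v₂, u₂} C} {𝒴 : BasedCategory.{v₃, u₃} C}

/-- An object of the product `𝒳 ×_C 𝒳` from two objects over the same base object. -/
def pairObj (x₁ x₂ : 𝒳.obj) (h : 𝒳.p.obj x₁ = 𝒳.p.obj x₂) :
    (FibCat.fp (FibCat.toSelf 𝒳) (FibCat.toSelf 𝒳)).obj :=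
  ⟨⟨x₁, x₂, eqToIso h⟩, isHomLift_selfOver_eqToHom h rfl⟩

/-- A morphism of the product from two morphisms over the same base morphism. -/
def pairHom {R T : C} (g : R ⟶ T)
    {z x : (FibCat.fp (FibCat.toSelf 𝒳) (FibCat.toSelf 𝒳)).obj}
    (χ₁ : z.obj.fst ⟶ x.obj.fst) (χ₂ : z.obj.snd ⟶ x.obj.snd)
    (h1 : 𝒳.p.IsHomLift g χ₁) (h2 : 𝒳.p.IsHomLift g χ₂) : z ⟶ x :=
  ObjectProperty.homMk
    { fst := χ₁
      snd := χ₂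
      w := fp_selfOver_w (FibCat.toSelf 𝒳) (FibCat.toSelf 𝒳) g χ₁ χ₂ }

theorem pairHom_isHomLift {R T : C} (g : R ⟶ T)
    {z x : (FibCat.fp (FibCat.toSelf 𝒳) (FibCat.toSelf 𝒳)).obj}
    (χ₁ : z.obj.fst ⟶ x.obj.fst) (χ₂ : z.obj.snd ⟶ x.obj.snd)
    (h1 : 𝒳.p.IsHomLift g χ₁) (h2 : 𝒳.p.IsHomLift g χ₂) :
    (FibCat.fp (FibCat.toSelf 𝒳) (FibCat.toSelf 𝒳)).p.IsHomLift g (pairHom g χ₁ χ₂ h1 h2) := by
  rw [fp_isHomLift_iff]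
  exact h1

theorem locSurjObj_prodFun (f : 𝒳 ⥤ᵇ 𝒴) (hf : Gerb.LocSurjObj J f) :
    Gerb.LocSurjObj J (prodFun f f) := by
  intro w
  have hU2 : 𝒴.p.obj w.obj.snd = 𝒴.p.obj w.obj.fst :=
    fp_snd_obj (FibCat.toSelf 𝒴) (FibCat.toSelf 𝒴) w
  obtain ⟨R₁, hR₁, h₁⟩ := hf w.obj.fst
  obtain ⟨R₂, hR₂, h₂⟩ := LocSurjObj.general J hf w.obj.snd hU2
  refine ⟨R₁ ⊓ R₂, J.intersection_covering hR₁ hR₂, fun V g hg => ?_⟩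
  obtain ⟨x₁, m₁, hm₁⟩ := h₁ g hg.1
  obtain ⟨x₂, m₂, hm₂⟩ := h₂ g hg.2
  have e₁ : 𝒳.p.obj x₁ = V := (f.w_obj x₁).symm.trans (IsHomLift.domain_eq 𝒴.p g m₁)
  have e₂ : 𝒳.p.obj x₂ = V := (f.w_obj x₂).symm.trans (IsHomLift.domain_eq 𝒴.p g m₂)
  refine ⟨pairObj x₁ x₂ (e₁.trans e₂.symm),
    pairHom (z := (prodFun f f).obj (pairObj x₁ x₂ (e₁.trans e₂.symm))) (x := w) g m₁ m₂ hm₁ hm₂,
    pairHom_isHomLift g _ _ _ _⟩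

theorem locSurjHom_prodFun (f : 𝒳 ⥤ᵇ 𝒴) (hf : Gerb.LocSurjHom J f) :
    Gerb.LocSurjHom J (prodFun f f) := by
  intro z z' b hb
  have hb1 : 𝒴.p.IsHomLift (𝟙 (𝒳.p.obj z.obj.fst)) b.hom.fst :=
    (fp_isHomLift_iff (FibCat.toSelf 𝒴) (FibCat.toSelf 𝒴) _ b).1 hb
  have hb2 : 𝒴.p.IsHomLift (𝟙 (𝒳.p.obj z.obj.fst)) b.hom.snd :=
    fp_isHomLift_snd' (FibCat.toSelf 𝒴) (FibCat.toSelf 𝒴) _ b (h := hb)
  have hz2 : 𝒳.p.obj z.obj.snd = 𝒳.p.obj z.obj.fst :=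
    fp_snd_obj (FibCat.toSelf 𝒳) (FibCat.toSelf 𝒳) z
  obtain ⟨R₁, hR₁, h₁⟩ := LocSurjHom.general J hf z.obj.fst z'.obj.fst b.hom.fst rfl hb1
  obtain ⟨R₂, hR₂, h₂⟩ := LocSurjHom.general J hf z.obj.snd z'.obj.snd b.hom.snd hz2 hb2
  refine ⟨R₁ ⊓ R₂, J.intersection_covering hR₁ hR₂, fun V g hg => ?_⟩
  obtain ⟨x₁, φ₁, ψ₁, hφ₁, hψ₁, hc₁⟩ := h₁ g hg.1
  obtain ⟨x₂, φ₂, ψ₂, hφ₂, hψ₂, hc₂⟩ := h₂ g hg.2
  have e₁ : 𝒳.p.obj x₁ = V := IsHomLift.domain_eq 𝒳.p g φ₁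
  have e₂ : 𝒳.p.obj x₂ = V := IsHomLift.domain_eq 𝒳.p g φ₂
  refine ⟨pairObj x₁ x₂ (e₁.trans e₂.symm),
    pairHom (z := pairObj x₁ x₂ (e₁.trans e₂.symm)) (x := z) g φ₁ φ₂ hφ₁ hφ₂,
    pairHom (z := pairObj x₁ x₂ (e₁.trans e₂.symm)) (x := z') g ψ₁ ψ₂ hψ₁ hψ₂,
    pairHom_isHomLift g _ _ _ _, pairHom_isHomLift g _ _ _ _, ?_⟩
  apply ObjectProperty.hom_ext
  apply Limits.CategoricalPullback.hom_ext
  · exact hc₁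
  · exact hc₂

theorem isGerbeOver_prodFun (f : 𝒳 ⥤ᵇ 𝒴) (hf : Gerb.IsGerbeOver J f) :
    Gerb.IsGerbeOver J (prodFun f f) :=
  ⟨locSurjObj_prodFun J f hf.1, locSurjHom_prodFun J f hf.2⟩

end Groth.Agent.Lib.Seat59.GerbProd
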