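-- helper59: quasi-compactness of the diagonal descends along a gerbe morphism.
import Mathlib
import Groth.Agent.Lib.Seat59GerbProd
import Groth.Agent.Lib.Seat59GerbHomeo
import Groth.Agent.Lib.Helper15PtsQc
import Groth.Agent.Lib.Helper15UnivComp

set_option autoImplicit false
set_option backward.isDefEq.respectTransparency false
set_option backward.isDefEq.respectTransparency.types false
open CategoryTheory CategoryTheory.Functor CategoryTheory.Limits Opposite AlgebraicGeometry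

universe u

namespace Groth.Agent.Lib.Seat59.GerbQc

open Groth.Agent.Lib.Helper17 Groth.Agent.Lib.Helper15Atlas Groth.Agent.Lib.Helper15PtsQc
  Groth.Agent.Lib.Helper15UnivComp Groth.Agent.Lib.Seat59.GerbHomeo Groth.Agent.Lib.Seat59.GerbProd

variable {S : Scheme.{u}} {𝒳 𝒴 : AlgSt.Cat S}

/-- A gerbe morphism of algebraic stacks is quasi-compact. -/
theorem isQuasiCompactMor_of_isGerbeOver (h𝒳 : AlgSt.IsAlgStack Scheme.fppfPrecoverage 𝒳)
    (h𝒴 : AlgSt.IsAlgStack Scheme.fppfPrecoverage 𝒴) (f : 𝒳 ⥤ᵇ 𝒴)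
    (hf : Gerb.IsGerbeOver (AlgSp.J S) f) :
    AlgSt.IsQuasiCompactMor Scheme.fppfPrecoverage f := by
  intro 𝒵 h𝒵 hqc g
  have hP : AlgSt.IsAlgStack Scheme.fppfPrecoverage (FibCat.fp g f) :=
    isAlgStack_fp_of_isPrestack (IsStack.isPrestack _ h𝒴.isStack) h𝒴.diag h𝒵 h𝒳 g f
  rw [isQuasiCompact_iff_compactSpace hP]
  have hc : CompactSpace (AlgSt.Points 𝒵) := (isQuasiCompact_iff_compactSpace h𝒵).1 hqc
  have hh : IsHomeomorph (AlgSt.Points.map (FibCat.fpFst g f)) :=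
    isUnivHomeo_of_isGerbeOver h𝒳 h𝒴 f hf 𝒵 h𝒵 g
  exact (hh.homeomorph _).symm.compactSpace

/-- The diagonal is natural: `f ≫ Δ_𝒴 ≅ Δ_𝒳 ≫ (f × f)`. -/
def diagNatIso {C : Type*} [Category C] {𝒜 ℬ : BasedCategory C} (f : 𝒜 ⥤ᵇ ℬ) :
    BasedFunctor.comp f (FibCat.diag (FibCat.toSelf ℬ)) ≅
      BasedFunctor.comp (FibCat.diag (FibCat.toSelf 𝒜)) (prodFun f f) :=
  fpIsoMk (FibCat.toSelf ℬ) (FibCat.toSelf ℬ)
    (H := BasedFunctor.comp f (FibCat.diag (FibCat.toSelf ℬ)))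
    (K := BasedFunctor.comp (FibCat.diag (FibCat.toSelf 𝒜)) (prodFun f f))
    (Iso.refl _) (Iso.refl _) (fun a => by
      have e1 : ℬ.p.obj (f.obj a) = 𝒜.p.obj a := f.w_obj a
      apply selfOver_hom_ext (R := 𝒜.p.obj a)
      · refine isHomLift_id_comp _ _ _ _ ?_ ?_
        · have : ℬ.p.IsHomLift (𝟙 (𝒜.p.obj a)) (𝟙 (f.obj a)) := IsHomLift.id e1
          exact BasedFunctor.preserves_isHomLift (FibCat.toSelf ℬ) _ (𝟙 (f.obj a))
        · exact fp_iso_isHomLift (FibCat.toSelf ℬ) (FibCat.toSelf ℬ) _ e1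
      · refine isHomLift_id_comp _ _ _ _ ?_ ?_
        · exact fp_iso_isHomLift (FibCat.toSelf ℬ) (FibCat.toSelf ℬ) _ e1
        · have : ℬ.p.IsHomLift (𝟙 (𝒜.p.obj a)) (𝟙 (f.obj a)) := IsHomLift.id e1
          exact BasedFunctor.preserves_isHomLift (FibCat.toSelf ℬ) _ (𝟙 (f.obj a)))

/-- If `f : 𝒳 ⟶ 𝒴` is a gerbe and the diagonal of `𝒳` is quasi-compact, so is the diagonal of
`𝒴`. -/
theorem isQuasiCompactMor_diag_of_isGerbeOver (h𝒳 : AlgSt.IsAlgStack Scheme.fppfPrecoverage 𝒳)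
    (h𝒴 : AlgSt.IsAlgStack Scheme.fppfPrecoverage 𝒴) (f : 𝒳 ⥤ᵇ 𝒴)
    (hf : Gerb.IsGerbeOver (AlgSp.J S) f)
    (hΔ : AlgSt.IsQuasiCompactMor Scheme.fppfPrecoverage (FibCat.diag (FibCat.toSelf 𝒳))) :
    AlgSt.IsQuasiCompactMor Scheme.fppfPrecoverage (FibCat.diag (FibCat.toSelf 𝒴)) := by
  have hXX := isAlgStack_prod h𝒳 h𝒳
  have hYY := isAlgStack_prod h𝒴 h𝒴
  have hP : AlgSt.IsQuasiCompactMor Scheme.fppfPrecoverage (prodFun f f) :=
    isQuasiCompactMor_of_isGerbeOver hXX hYY _ (isGerbeOver_prodFun _ f hf)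
  have hcomp := isQuasiCompactMor_comp hXX hYY (FibCat.diag (FibCat.toSelf 𝒳)) (prodFun f f) hΔ hP
  exact isQuasiCompactMor_of_isSurjective_of_triangle h𝒳 h𝒴 hYY f
    (BasedFunctor.comp (FibCat.diag (FibCat.toSelf 𝒳)) (prodFun f f))
    (FibCat.diag (FibCat.toSelf 𝒴)) (diagNatIso f)
    (isSurjective_of_locSurjObj h𝒴.isStack.1 f hf.1) hcomp

end Groth.Agent.Lib.Seat59.GerbQc
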