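-- helper59: the essential image of a fully faithful functor as a substack.
import Mathlib
import Groth.Agent.Lib.Helper17StkPts2
import Groth.Agent.Lib.Helper17MonoFF
import Groth.Agent.Lib.Helper17AlgStEquiv2
import Groth.Agent.S12770
import Groth.Agent.S12868

set_option autoImplicit false
set_option backward.isDefEq.respectTransparency false
set_option backward.isDefEq.respectTransparency.types false
open CategoryTheory CategoryTheory.Functor CategoryTheory.Limits Opposite AlgebraicGeometry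

universe u

namespace Groth.Agent.Lib.Seat59.ImmImage

open Groth.Agent.Lib.Helper17

variable {S : Scheme.{u}} {𝒵 𝒳 : AlgSt.Cat S}

/-- The essential image of a functor over the base. -/
def essImage (i : 𝒵 ⥤ᵇ 𝒳) : 𝒳.obj → Prop := fun a => ∃ z : 𝒵.obj, Nonempty (i.obj z ≅ a)

theorem essImage_isClosedUnderIsomorphisms (i : 𝒵 ⥤ᵇ 𝒳) :
    ObjectProperty.IsClosedUnderIsomorphisms (essImage i) :=
  ⟨fun e ⟨z, ⟨k⟩⟩ => ⟨z, ⟨k ≪≫ e⟩⟩⟩

/-- The functor to the essential image. -/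
def toEssImage (i : 𝒵 ⥤ᵇ 𝒳) : 𝒵 ⥤ᵇ AlgSt.fullSub 𝒳 (essImage i) where
  toFunctor := ObjectProperty.lift (essImage i) i.toFunctor (fun z => ⟨z, ⟨Iso.refl _⟩⟩)
  w := i.w

theorem toEssImage_comp (i : 𝒵 ⥤ᵇ 𝒳) :
    BasedFunctor.comp (toEssImage i) (AlgSt.subIncl 𝒳 (essImage i)) = i := rfl

theorem isEquivOver_toEssImage (h𝒵 : FibCat.IsFibGrpd 𝒵.p) (h𝒳 : FibCat.IsFibGrpd 𝒳.p)
    (i : 𝒵 ⥤ᵇ 𝒳) [i.toFunctor.Full] [i.toFunctor.Faithful] :
    FibCat.IsEquivOver (toEssImage i) := by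
  have hfaith : (toEssImage i).toFunctor.Faithful := by
    refine ⟨fun {z z'} m m' h => ?_⟩
    apply i.toFunctor.map_injective
    exact congrArg (fun k => k.hom) h
  have hfull : (toEssImage i).toFunctor.Full := by
    refine ⟨fun {z z'} n => ⟨i.toFunctor.preimage n.hom, ?_⟩⟩
    apply ObjectProperty.hom_ext
    exact i.toFunctor.map_preimage n.hom
  refine isEquivOver_of_fullyFaithful_of_essSurjOver _ ?_
  intro η
  obtain ⟨z, ⟨e⟩⟩ := η.property
  obtain ⟨z', -, e', he', -⟩ := exists_lift_over_map h𝒵 h𝒳 i (r := η.obj) (z := z) e.inv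
  refine ⟨z', ObjectProperty.isoMk _ e', ?_⟩
  exact (isHomLift_comp_iff (ObjectProperty.ι (essImage i)) 𝒳.p _ _).2 he'

/-- Properties of a fully faithful functor pass to the inclusion of its essential image. -/
theorem repByAlgSpWith_subIncl_essImage (h𝒵 : FibCat.IsFibGrpd 𝒵.p) (h𝒳 : FibCat.IsFibGrpd 𝒳.p)
    (i : 𝒵 ⥤ᵇ 𝒳) [i.toFunctor.Full] [i.toFunctor.Faithful] (P : MorphismProperty (AlgSp.Sp S))
    (hi : AlgSt.RepByAlgSpWith P i) :
    AlgSt.RepByAlgSpWith P (AlgSt.subIncl 𝒳 (essImage i)) :=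
  (repByAlgSpWith_of_square P (AlgSt.subIncl 𝒳 (essImage i)) i (toEssImage i)
    (BasedFunctor.id 𝒳) (isEquivOver_toEssImage h𝒵 h𝒳 i) (isEquivOver_id _) (Iso.refl _)).2 hi

/-- A substack equivalent to the source compatibly with the inclusions is the essential image. -/
theorem eq_essImage (i : 𝒵 ⥤ᵇ 𝒳) (Q' : 𝒳.obj → Prop)
    (hQ' : ObjectProperty.IsClosedUnderIsomorphisms Q') (i' : 𝒵 ⥤ᵇ AlgSt.fullSub 𝒳 Q')
    (hi' : FibCat.IsEquivOver i') (ε : BasedFunctor.comp i' (AlgSt.subIncl 𝒳 Q') ≅ i) :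
    Q' = essImage i := by
  funext a
  apply propext
  constructor
  · intro ha
    obtain ⟨z, e, -⟩ := IsEquivOver.essSurjOver i' hi' ⟨a, ha⟩
    exact ⟨z, ⟨(bApp ε z).symm ≪≫ (ObjectProperty.ι Q').mapIso e⟩⟩
  · rintro ⟨z, ⟨e⟩⟩
    exact hQ'.of_iso ((bApp ε z) ≪≫ e) (i'.obj z).property

end Groth.Agent.Lib.Seat59.ImmImage
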