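-- helper59: open substacks from open subfunctors of the presheaf of isomorphism classes, and
-- isomorphism classes of a 2-fibre product along a fully faithful functor.
import Mathlib
import Groth.Agent.Lib.Seat59OpenSubB
import Groth.Prelude.Def_W4c2isonaturalstkIso
import Groth.Agent.Lib.Helper17MonoFF
import Groth.Agent.Lib.Helper15OpenSub
import Groth.Agent.S12868

set_option autoImplicit false
set_option backward.isDefEq.respectTransparency false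
set_option backward.isDefEq.respectTransparency.types false
open CategoryTheory CategoryTheory.Functor CategoryTheory.Limits Opposite AlgebraicGeometry

universe u

namespace Groth.Agent.Lib.Seat59.IsoNatA

open Groth.Agent.Lib.Helper17 Groth.Agent.Lib.Seat59.OpenSubA Groth.Agent.Lib.Seat59.OpenSubB

variable {S : Scheme.{u}} {𝒴 : AlgSt.Cat S}

/-- The predicate on objects attached to a family of sets of isomorphism classes. -/
def QCls (W : ∀ T : Over S, Set (IsoNat.IsoCl 𝒴 T)) : 𝒴.obj → Prop :=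
  fun η => IsoNat.cls (⟨η, rfl⟩ : 𝒴.p.Fiber (𝒴.p.obj η)) ∈ W (𝒴.p.obj η)

theorem qCls_iff (W : ∀ T : Over S, Set (IsoNat.IsoCl 𝒴 T)) {T : Over S} (x : 𝒴.p.Fiber T) :
    QCls W x.1 ↔ IsoNat.cls x ∈ W T := by
  obtain ⟨η, h⟩ := x
  subst h
  rfl

theorem qCls_of_hom (W : ∀ T : Over S, Set (IsoNat.IsoCl 𝒴 T))
    (hWpull : ∀ (T' T : Over S) (g : T' ⟶ T) (x' : 𝒴.p.Fiber T') (x : 𝒴.p.Fiber T)
      (a : x'.1 ⟶ x.1), 𝒴.p.IsHomLift g a → IsoNat.cls x ∈ W T → IsoNat.cls x' ∈ W T')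
    ⦃b a : 𝒴.obj⦄ (m : b ⟶ a) (ha : QCls W a) : QCls W b :=
  hWpull (𝒴.p.obj b) (𝒴.p.obj a) (𝒴.p.map m) ⟨b, rfl⟩ ⟨a, rfl⟩ m inferInstance ha

theorem factors_iff_forall_mem {T' T : Scheme.{u}} (g : T' ⟶ T) (V : T.Opens) :
    (∃ g' : T' ⟶ ↑V, g' ≫ V.ι = g) ↔ ∀ t : ↥T', g t ∈ V := by
  constructor
  · rintro ⟨g', rfl⟩ t
    rw [Scheme.Hom.comp_apply]
    exact (g' t).2
  · intro h
    refine ⟨IsOpenImmersion.lift V.ι g ?_, IsOpenImmersion.lift_fac _ _ _⟩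
    rintro _ ⟨t, rfl⟩
    rw [Scheme.Opens.range_ι]
    exact h t

/-- An open subfunctor of the presheaf of isomorphism classes defines an open substack. -/
theorem isOpenSubstack_qCls (h𝒴 : AlgSt.IsAlgStack Scheme.fppfPrecoverage 𝒴)
    (W : ∀ T : Over S, Set (IsoNat.IsoCl 𝒴 T))
    (hWpull : ∀ (T' T : Over S) (g : T' ⟶ T) (x' : 𝒴.p.Fiber T') (x : 𝒴.p.Fiber T)
      (a : x'.1 ⟶ x.1), 𝒴.p.IsHomLift g a → IsoNat.cls x ∈ W T → IsoNat.cls x' ∈ W T')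
    (hWopen : ∀ (T : Over S) (x : 𝒴.p.Fiber T), ∃ V : T.left.Opens,
      ∀ (T' : Over S) (g : T' ⟶ T) (x' : 𝒴.p.Fiber T') (a : x'.1 ⟶ x.1), 𝒴.p.IsHomLift g a →
        (IsoNat.cls x' ∈ W T' ↔ ∃ g' : T'.left ⟶ ↑V, g' ≫ V.ι = g.left)) :
    AlgSt.IsOpenSubstack 𝒴 (QCls W) Scheme.fppfPrecoverage := by
  have hiso : ObjectProperty.IsClosedUnderIsomorphisms (QCls W) :=
    ⟨fun {a b} e ha => qCls_of_hom W hWpull e.inv ha⟩
  have hOI : AlgSt.IsOpenImm (AlgSt.subIncl 𝒴 (QCls W)) := by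
    intro V y
    obtain ⟨V₀, hV₀⟩ := hWopen V ⟨y.obj (Over.mk (𝟙 V)), y.w_obj _⟩
    refine exists_rep_openImm (QCls W) y V₀ (fun c => ?_) hiso
    let k : c ⟶ Over.mk (𝟙 V) := Over.homMk c.hom (by simp)
    have hk : (FibCat.overCat V).p.IsHomLift c.hom k :=
      over_isHomLift_of_left k c.hom rfl rfl (by simp [k])
    have hk' : 𝒴.p.IsHomLift c.hom (y.map k) := BasedFunctor.preserves_isHomLift y c.hom k
    have h1 := hV₀ c.left c.hom ⟨y.obj c, y.w_obj c⟩ (y.map k) hk'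
    rw [← factors_iff_forall_mem, ← h1]
    exact qCls_iff W (⟨y.obj c, y.w_obj c⟩ : 𝒴.p.Fiber c.left)
  exact ⟨hiso,
    Groth.Agent.Lib.Helper15Atlas.isAlgStack_of_repByAlgSp1
      (isFibGrpd_fullSub h𝒴.isStack.1 _ (fun _ _ m h => qCls_of_hom W hWpull m h)) h𝒴
      (AlgSt.subIncl 𝒴 (QCls W))
      (Groth.Agent.Lib.Helper15SrcCancel.repByAlgSp1_of_repByAlgSpWith _ _ hOI), hOI⟩

section Fp

variable {S : Scheme.{u}} {𝒳 𝒴 𝒴' : AlgSt.Cat S}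

/-- An isomorphism of objects of a category over the base lying over the identity gives equal
classes. -/
theorem cls_eq_of_iso {𝒵 : AlgSt.Cat S} {T : Over S} (z₁ z₂ : 𝒵.p.Fiber T) (e : z₁.1 ≅ z₂.1)
    (he : 𝒵.p.IsHomLift (𝟙 T) e.hom) : IsoNat.cls z₁ = IsoNat.cls z₂ := by
  apply Quotient.sound
  have he' : 𝒵.p.IsHomLift (𝟙 T) e.inv := IsHomLift.lift_id_inv 𝒵.p T e
  exact ⟨{ hom := ⟨e.hom, he⟩
           inv := ⟨e.inv, he'⟩
           hom_inv_id := Subtype.ext e.hom_inv_id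
           inv_hom_id := Subtype.ext e.inv_hom_id }⟩

theorem exists_iso_of_mapCls_eq {𝒵 𝒲 : AlgSt.Cat S} (g : 𝒵 ⥤ᵇ 𝒲) {T : Over S}
    (z₁ z₂ : 𝒵.p.Fiber T)
    (h : IsoNat.mapCls g T (IsoNat.cls z₁) = IsoNat.mapCls g T (IsoNat.cls z₂)) :
    ∃ a : g.obj z₁.1 ≅ g.obj z₂.1, 𝒲.p.IsHomLift (𝟙 T) a.hom := by
  obtain ⟨e⟩ := Quotient.exact h
  exact ⟨Functor.Fiber.fiberInclusion.mapIso e, e.hom.2⟩

/-- Two objects of the 2-fibre product of `f` and a fully faithful `i` over `T` with isomorphic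
first components over `T` are isomorphic over `T`. -/
theorem cls_fp_eq_of_fullyFaithful (f : 𝒳 ⥤ᵇ 𝒴) (i : 𝒴' ⥤ᵇ 𝒴) [i.toFunctor.Full]
    [i.toFunctor.Faithful] (T : Over S) (z₁ z₂ : (FibCat.fp f i).p.Fiber T)
    (h₁ : IsoNat.mapCls (FibCat.fpFst f i) T (IsoNat.cls z₁) =
      IsoNat.mapCls (FibCat.fpFst f i) T (IsoNat.cls z₂)) :
    IsoNat.cls z₁ = IsoNat.cls z₂ := by
  obtain ⟨a, ha⟩ := exists_iso_of_mapCls_eq (FibCat.fpFst f i) z₁ z₂ h₁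
  let a' : z₁.1.obj.fst ≅ z₂.1.obj.fst := a
  let ψ : i.obj z₁.1.obj.snd ≅ i.obj z₂.1.obj.snd :=
    z₁.1.obj.iso.symm ≪≫ f.toFunctor.mapIso a' ≪≫ z₂.1.obj.iso
  let b : z₁.1.obj.snd ≅ z₂.1.obj.snd := i.toFunctor.preimageIso ψ
  have hw : f.map a'.hom ≫ z₂.1.obj.iso.hom = z₁.1.obj.iso.hom ≫ i.map b.hom := by
    have : i.map b.hom = ψ.hom := i.toFunctor.map_preimage ψ.hom
    rw [this]
    simp [ψ]
  refine cls_eq_of_iso z₁ z₂ (ObjectProperty.isoMk _ (Limits.CategoricalPullback.mkIso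
    (x := z₁.1.obj) (y := z₂.1.obj) a' b hw)) ?_
  rw [fp_isHomLift_iff]
  exact ha

end Fp

section OpenImm

variable {S : Scheme.{u}} {𝒳 𝒴 𝒴' : AlgSt.Cat S}

theorem isMono_of_isOpenImm (i : 𝒴' ⥤ᵇ 𝒴) (hi : AlgSt.IsOpenImm i) : AlgSt.IsMono i :=
  Groth.Agent.S12868.result i (fun U y => by
    obtain ⟨F, e, he, hP⟩ := hi U y
    exact ⟨F, e, he, Groth.Agent.Lib.Helper15OpenSub.repWith_mono
      (fun _ _ g hg => by have : IsOpenImmersion g := hg; infer_instance) hP⟩)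

/-- Isomorphism classes of the 2-fibre product along an open immersion are detected on the first
component. -/
theorem cls_fp_eq_of_isOpenImm (h𝒴 : FibCat.IsFibGrpd 𝒴.p) (h𝒴' : FibCat.IsFibGrpd 𝒴'.p)
    (f : 𝒳 ⥤ᵇ 𝒴) (i : 𝒴' ⥤ᵇ 𝒴) (hi : AlgSt.IsOpenImm i)
    (T : Over S) (z₁ z₂ : (FibCat.fp f i).p.Fiber T)
    (h₁ : IsoNat.mapCls (FibCat.fpFst f i) T (IsoNat.cls z₁) =
      IsoNat.mapCls (FibCat.fpFst f i) T (IsoNat.cls z₂)) :
    IsoNat.cls z₁ = IsoNat.cls z₂ := by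
  obtain ⟨hfull, hfaith⟩ := Groth.Agent.Lib.Helper17.MonoFF.full_faithful_of_isMono h𝒴' h𝒴 i
    (isMono_of_isOpenImm i hi)
  exact cls_fp_eq_of_fullyFaithful f i T z₁ z₂ h₁

end OpenImm

end Groth.Agent.Lib.Seat59.IsoNatA
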