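-- helper59: the map on points of stacks induced by an isomorphism of presheaves of isomorphism
-- classes; surjectivity on points is detected by the presheaf of isomorphism classes.
import Mathlib
import Groth.Prelude.Def_W4c2isonaturalstkIso
import Groth.Prelude.Def_AlgSt4

set_option autoImplicit false
set_option backward.isDefEq.respectTransparency false
set_option backward.isDefEq.respectTransparency.types false
open CategoryTheory CategoryTheory.Functor CategoryTheory.Limits Opposite AlgebraicGeometry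

universe u

namespace Groth.Agent.Lib.Seat59.IsoNatB

variable {S : Scheme.{u}} {𝒳 𝒴 𝒳' 𝒴' : AlgSt.Cat S}

/-- The object of the fibre category defined by a field-valued point. -/
def fibOf (p : AlgSt.FPt 𝒳) : 𝒳.p.Fiber (Over.mk p.str) := ⟨p.obj, p.lies⟩

/-- The field-valued point defined by an object of the fibre category over the spectrum of a
field. -/
def ofFib {K : Type u} [Field K] (str : Spec (CommRingCat.of K) ⟶ S)
    (y : 𝒴.p.Fiber (Over.mk str)) : AlgSt.FPt 𝒴 :=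
  { K := K, str := str, obj := y.1, lies := y.2 }

theorem exists_hom_of_cls_eq {T : Over S} (y₁ y₂ : 𝒴.p.Fiber T)
    (h : IsoNat.cls y₁ = IsoNat.cls y₂) :
    ∃ m : y₁.1 ⟶ y₂.1, 𝒴.p.IsHomLift (𝟙 T) m := by
  obtain ⟨e⟩ := Quotient.exact h
  exact ⟨e.hom.1, e.hom.2⟩

theorem rel_ofFib_of_cls_eq {K : Type u} [Field K] (str : Spec (CommRingCat.of K) ⟶ S)
    (y₁ y₂ : 𝒴.p.Fiber (Over.mk str)) (h : IsoNat.cls y₁ = IsoNat.cls y₂) :
    AlgSt.FPt.Rel (ofFib str y₁) (ofFib str y₂) := by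
  obtain ⟨m, -⟩ := exists_hom_of_cls_eq y₁ y₂ h
  exact ⟨ofFib str y₁, 𝟙 _, m, trivial⟩

/-- Transfer of a field-valued point along an isomorphism of presheaves of isomorphism classes. -/
noncomputable def transfer (φ : IsoNat.FIso 𝒳 𝒴) (p : AlgSt.FPt 𝒳) : AlgSt.FPt 𝒴 :=
  ofFib p.str (Quotient.out (φ.toEquiv (Over.mk p.str) (IsoNat.cls (fibOf p))))

theorem cls_out {T : Over S} (c : IsoNat.IsoCl 𝒴 T) : IsoNat.cls (Quotient.out c) = c :=
  Quotient.out_eq c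

theorem exists_hom_transfer (φ : IsoNat.FIso 𝒳 𝒴) {r p : AlgSt.FPt 𝒳} (a : r.obj ⟶ p.obj) :
    Nonempty ((transfer φ r).obj ⟶ (transfer φ p).obj) := by
  let g : Over.mk r.str ⟶ Over.mk p.str := eqToHom r.lies.symm ≫ 𝒳.p.map a ≫ eqToHom p.lies
  have hg : 𝒳.p.IsHomLift g a := IsHomLift.of_fac 𝒳.p g a r.lies p.lies rfl
  obtain ⟨y', y, b, -, h', h⟩ := φ.natural g (fibOf r) (fibOf p) a hg
  obtain ⟨m₁, -⟩ := exists_hom_of_cls_eq
    (Quotient.out (φ.toEquiv (Over.mk r.str) (IsoNat.cls (fibOf r)))) y'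
    ((cls_out _).trans h')
  obtain ⟨m₂, -⟩ := exists_hom_of_cls_eq y
    (Quotient.out (φ.toEquiv (Over.mk p.str) (IsoNat.cls (fibOf p))))
    (h.symm.trans (cls_out _).symm)
  exact ⟨m₁ ≫ b ≫ m₂⟩

theorem rel_transfer (φ : IsoNat.FIso 𝒳 𝒴) {p q : AlgSt.FPt 𝒳} (h : AlgSt.FPt.Rel p q) :
    AlgSt.FPt.Rel (transfer φ p) (transfer φ q) := by
  obtain ⟨r, a, b, -⟩ := h
  obtain ⟨a'⟩ := exists_hom_transfer φ a
  obtain ⟨b'⟩ := exists_hom_transfer φ b
  exact ⟨transfer φ r, a', b', trivial⟩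

/-- The map on points induced by an isomorphism of presheaves of isomorphism classes. -/
noncomputable def ptsTransfer (φ : IsoNat.FIso 𝒳 𝒴) : AlgSt.Points 𝒳 → AlgSt.Points 𝒴 :=
  Quot.lift (fun p => AlgSt.Points.mk (transfer φ p))
    (fun _ _ h => AlgSt.Points.sound (rel_transfer φ h))

theorem ptsTransfer_mk (φ : IsoNat.FIso 𝒳 𝒴) (p : AlgSt.FPt 𝒳) :
    ptsTransfer φ (AlgSt.Points.mk p) = AlgSt.Points.mk (transfer φ p) := rfl

theorem cls_fibOf_transfer (φ : IsoNat.FIso 𝒳 𝒴) (p : AlgSt.FPt 𝒳) :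
    IsoNat.cls (fibOf (transfer φ p)) =
      φ.toEquiv (Over.mk p.str) (IsoNat.cls (fibOf p)) :=
  cls_out _

theorem surjective_ptsTransfer (φ : IsoNat.FIso 𝒳 𝒴) : Function.Surjective (ptsTransfer φ) := by
  intro Q
  obtain ⟨q, rfl⟩ := AlgSt.Points.mk_surjective Q
  let c : IsoNat.IsoCl 𝒳 (Over.mk q.str) :=
    (φ.toEquiv (Over.mk q.str)).symm (IsoNat.cls (fibOf q))
  let p : AlgSt.FPt 𝒳 := ofFib q.str (Quotient.out c)
  refine ⟨AlgSt.Points.mk p, ?_⟩
  rw [ptsTransfer_mk]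
  apply AlgSt.Points.sound
  have h1 : IsoNat.cls (fibOf (transfer φ p)) = IsoNat.cls (fibOf q) := by
    rw [cls_fibOf_transfer]
    have : IsoNat.cls (fibOf p) = c := cls_out c
    rw [this]
    exact (φ.toEquiv (Over.mk q.str)).apply_symm_apply _
  exact rel_ofFib_of_cls_eq q.str (fibOf (transfer φ p)) (fibOf q) h1

theorem mapCls_cls (f : 𝒳 ⥤ᵇ 𝒴) {T : Over S} (x : 𝒳.p.Fiber T) :
    IsoNat.mapCls f T (IsoNat.cls x) =
      IsoNat.cls (⟨f.obj x.1, (f.w_obj x.1).trans x.2⟩ : 𝒴.p.Fiber T) := rfl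

theorem ptsTransfer_map {f : 𝒳 ⥤ᵇ 𝒴} {f' : 𝒳' ⥤ᵇ 𝒴'} (φ : IsoNat.FIsoSq f f')
    (P : AlgSt.Points 𝒳) :
    ptsTransfer φ.tgt (AlgSt.Points.map f P) = AlgSt.Points.map f' (ptsTransfer φ.src P) := by
  obtain ⟨p, rfl⟩ := AlgSt.Points.mk_surjective P
  rw [AlgSt.Points.map_mk, ptsTransfer_mk, ptsTransfer_mk, AlgSt.Points.map_mk]
  apply AlgSt.Points.sound
  have h1 : IsoNat.cls (fibOf (transfer φ.tgt (p.map f))) =
      IsoNat.cls (fibOf ((transfer φ.src p).map f')) := by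
    rw [cls_fibOf_transfer]
    have h2 : IsoNat.cls (fibOf (p.map f)) =
        IsoNat.mapCls f (Over.mk p.str) (IsoNat.cls (fibOf p)) := rfl
    have h3 : IsoNat.cls (fibOf ((transfer φ.src p).map f')) =
        IsoNat.mapCls f' (Over.mk p.str) (IsoNat.cls (fibOf (transfer φ.src p))) := rfl
    rw [h3, cls_fibOf_transfer]
    exact (congrArg _ h2).trans (φ.comm (Over.mk p.str) (IsoNat.cls (fibOf p)))
  exact rel_ofFib_of_cls_eq p.str (fibOf (transfer φ.tgt (p.map f)))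
    (fibOf ((transfer φ.src p).map f')) h1

/-- Surjectivity on points is detected by the induced map of presheaves of isomorphism classes.
-/
theorem isSurjective_of_fIsoSq {f : 𝒳 ⥤ᵇ 𝒴} {f' : 𝒳' ⥤ᵇ 𝒴'} (φ : IsoNat.FIsoSq f f')
    (hf : AlgSt.IsSurjective f) : AlgSt.IsSurjective f' := by
  intro Q'
  obtain ⟨Q, rfl⟩ := surjective_ptsTransfer φ.tgt Q'
  obtain ⟨P, rfl⟩ := hf Q
  exact ⟨ptsTransfer φ.src P, (ptsTransfer_map φ P).symm⟩

end Groth.Agent.Lib.Seat59.IsoNatB
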