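-- helper59: the product over a quasi-separated base of two quasi-compact algebraic stacks is
-- quasi-compact.
import Mathlib
import Groth.Agent.Lib.Helper15QcRep
import Groth.Agent.Lib.Helper15QsComp
import Groth.Agent.Lib.Helper17MagicRel
import Groth.Agent.Lib.Helper17AlgStEquiv2
import Groth.Agent.Lib.Seat59LocQBC

set_option autoImplicit false
set_option backward.isDefEq.respectTransparency false
set_option backward.isDefEq.respectTransparency.types false
open CategoryTheory CategoryTheory.Functor CategoryTheory.Limits Opposite AlgebraicGeometry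

universe u

namespace Groth.Agent.Lib.Seat59.QcProd

open Groth.Agent.Lib.Helper17 Groth.Agent.Lib.Helper15PshFib Groth.Agent.Lib.Helper15RepComp
  Groth.Agent.Lib.Helper15RepPsh Groth.Agent.Lib.Helper15DiagBase Groth.Agent.Lib.Helper15DiagRepSp
  Groth.Agent.Lib.Helper15Descent Groth.Agent.Lib.Helper15DiagLft
  Groth.Agent.Lib.Helper15DiagDescent Groth.Agent.Lib.Helper15SpMapRep
  Groth.Agent.Lib.Helper15SrcCancel Groth.Agent.Lib.Helper15ChartSp Groth.Agent.Lib.Helper15Atlas
  Groth.Agent.Lib.Helper15LocEss Groth.Agent.Lib.Helper15UnivComp Groth.Agent.Lib.Helper15SmLoc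
  Groth.Agent.Lib.Helper15PtsComp Groth.Agent.Lib.Helper15PtsTop Groth.Agent.Lib.Helper15PtsQc
  Groth.Agent.Lib.Helper15FpSwap Groth.Agent.Lib.Helper15QcLocal
  Groth.Agent.Lib.Helper15LocQEngine Groth.Agent.Lib.Seat59.LocQBC Groth.Agent.Lib.Helper15ClosedQc
  Groth.Agent.Lib.Helper15QsComp

variable {S : Scheme.{u}}

/-- The slice over a quasi-compact scheme is a quasi-compact algebraic stack. -/
theorem isQuasiCompact_overCat_of_compactSpace (A : Over S) [CompactSpace A.left] :
    AlgSt.IsQuasiCompact (FibCat.overCat A) := by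
  have hA := isAlgStack_overCat A
  rw [isQuasiCompact_iff_compactSpace hA]
  have hid : AlgSt.RepByAlgSpWith AlgSp.IsSurjectiveMor (BasedFunctor.id (FibCat.overCat A)) :=
    Groth.Agent.Lib.Helper15EquivRep.repByAlgSpWith_of_isEquivOver _ isSurjectiveMor_id
      (BasedFunctor.id _) (isEquivOver_id _)
  have hsurj := surjective_ofChart hA (BasedFunctor.id (FibCat.overCat A)) hid
  have hcont := continuous_ofChart hA (BasedFunctor.id (FibCat.overCat A))
  exact hsurj.compactSpace hcont

/-- Over a quasi-separated base, the product of two quasi-compact schemes is quasi-compact. -/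
theorem compactSpace_prod_left [QuasiSeparatedSpace S] (T X : Over S) [CompactSpace T.left]
    [CompactSpace X.left] : CompactSpace (T ⨯ X).left := by
  have h1 : QuasiCompact T.hom := inferInstance
  have h2 : QuasiCompact (pullback.snd T.hom X.hom) := inferInstance
  have h3 : CompactSpace ↥(pullback T.hom X.hom) :=
    QuasiCompact.compactSpace_of_compactSpace (pullback.snd T.hom X.hom)
  exact (Scheme.homeoOfIso (Over.prodLeftIsoPullback T X)).symm.compactSpace

variable {𝒲 𝒳 : AlgSt.Cat S}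

/-- A 2-fibre product of slices over the base itself, over two quasi-compact schemes over a
quasi-separated base, is quasi-compact. -/
theorem isQuasiCompact_fp_slices [QuasiSeparatedSpace S] (T X : Over S) [CompactSpace T.left]
    [CompactSpace X.left] (a : FibCat.overCat T ⥤ᵇ FibCat.selfOver (Over S))
    (b : FibCat.overCat X ⥤ᵇ FibCat.selfOver (Over S))
    (ha : a = FibCat.toSelf (FibCat.overCat T)) (hb : b = FibCat.toSelf (FibCat.overCat X)) :
    AlgSt.IsQuasiCompact (FibCat.fp a b) := by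
  subst ha hb
  have : CompactSpace (T ⨯ X).left := compactSpace_prod_left T X
  exact Groth.Agent.Lib.Helper17.isQuasiCompact_of_isEquivOver (toProdSlice T X)
    (isEquivOver_toProdSlice T X) (isQuasiCompact_overCat_of_compactSpace (T ⨯ X))

/-- Over a quasi-separated base, the product over the base of two quasi-compact algebraic stacks
is quasi-compact. -/
theorem isQuasiCompact_prod [QuasiSeparatedSpace S]
    (h𝒲 : AlgSt.IsAlgStack Scheme.fppfPrecoverage 𝒲)
    (h𝒳 : AlgSt.IsAlgStack Scheme.fppfPrecoverage 𝒳)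
    (hW : AlgSt.IsQuasiCompact 𝒲) (hX : AlgSt.IsQuasiCompact 𝒳) :
    AlgSt.IsQuasiCompact (FibCat.fp (FibCat.toSelf 𝒲) (FibCat.toSelf 𝒳)) := by
  obtain ⟨T, t, hT, -, ht₂⟩ := hW
  obtain ⟨X, x, hX, -, hx₂⟩ := hX
  have hTa := isAlgStack_overCat T
  have hXa := isAlgStack_overCat X
  have h0 : AlgSt.IsAlgStack Scheme.fppfPrecoverage
      (FibCat.fp (BasedFunctor.comp t (FibCat.toSelf 𝒲))
        (BasedFunctor.comp x (FibCat.toSelf 𝒳))) :=
    isAlgStack_fp_of_isPrestack isPrestack_selfOver repByAlgSp1_diag_selfOver hTa hXa _ _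
  have h1 : AlgSt.IsAlgStack Scheme.fppfPrecoverage
      (FibCat.fp (FibCat.toSelf 𝒲) (BasedFunctor.comp x (FibCat.toSelf 𝒳))) :=
    isAlgStack_fp_of_isPrestack isPrestack_selfOver repByAlgSp1_diag_selfOver h𝒲 hXa _ _
  have h2 : AlgSt.IsAlgStack Scheme.fppfPrecoverage
      (FibCat.fp (FibCat.toSelf 𝒲) (FibCat.toSelf 𝒳)) := isAlgStack_prod h𝒲 h𝒳
  have hq0 : AlgSt.IsQuasiCompact (FibCat.fp (BasedFunctor.comp t (FibCat.toSelf 𝒲))
      (BasedFunctor.comp x (FibCat.toSelf 𝒳))) :=
    isQuasiCompact_fp_slices T X _ _ (comp_toSelf t) (comp_toSelf x)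
  have hc1 : AlgSt.RepByAlgSpWith AlgSp.IsSurjectiveMor
      (fpMapLeft t (FibCat.toSelf 𝒲) (BasedFunctor.comp x (FibCat.toSelf 𝒳))) :=
    repByAlgSpWith_fpMapLeft _ t _ _ ht₂
  have hc2 : AlgSt.RepByAlgSpWith AlgSp.IsSurjectiveMor
      (fpMapRight (FibCat.toSelf 𝒲) x (FibCat.toSelf 𝒳)) :=
    repByAlgSpWith_fpMapRight _ _ x _ hx₂
  have hs1 := (isSurjective_iff_repByAlgSpWith h0 h1 _
    (repByAlgSp1_of_repByAlgSpWith _ _ hc1)).2 hc1
  have hs2 := (isSurjective_iff_repByAlgSpWith h1 h2 _
    (repByAlgSp1_of_repByAlgSpWith _ _ hc2)).2 hc2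
  exact isQuasiCompact_of_isSurjective h0 h2 _ (isSurjective_comp _ _ hs1 hs2) hq0

end Groth.Agent.Lib.Seat59.QcProd
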