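-- helper59: charts transferred along an isomorphism of presheaves of isomorphism classes;
-- quasi-compactness of algebraic stacks is detected by the presheaf of isomorphism classes.
import Mathlib
import Groth.Agent.Lib.Seat59IsoNatB
import Groth.Agent.Lib.Seat59IsoNat
import Groth.Agent.Lib.Seat59QcProd
import Groth.Agent.Lib.Helper17FibYoneda
import Groth.Agent.Lib.Helper17StkLoc
import Groth.Agent.Lib.Helper15PtsComp
import Groth.Agent.Lib.Helper15PtsQc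
import Groth.Agent.Lib.Helper15PtsTop

set_option autoImplicit false
set_option backward.isDefEq.respectTransparency false
set_option backward.isDefEq.respectTransparency.types false
open CategoryTheory CategoryTheory.Functor CategoryTheory.Limits Opposite AlgebraicGeometry

universe u

namespace Groth.Agent.Lib.Seat59.IsoNatC

open Groth.Agent.Lib.Helper17 Groth.Agent.Lib.Seat59.IsoNatA Groth.Agent.Lib.Seat59.IsoNatB

variable {S : Scheme.{u}} {𝒳 𝒴 : AlgSt.Cat S}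

/-- The identity isomorphism of the presheaf of isomorphism classes. -/
def fIsoRefl (𝒳 : AlgSt.Cat S) : IsoNat.FIso 𝒳 𝒳 where
  toEquiv _ := Equiv.refl _
  natural _ x' x a ha := ⟨x', x, a, ha, rfl, rfl⟩

/-- A chart of `𝒳` is transferred along an isomorphism of presheaves of isomorphism classes to a
chart of `𝒴` from the same scheme, with the same induced map on isomorphism classes. -/
theorem exists_chart (φ : IsoNat.FIso 𝒳 𝒴) (h𝒴 : FibCat.IsFibGrpd 𝒴.p) (U : Over S)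
    (x : FibCat.overCat U ⥤ᵇ 𝒳) :
    ∃ y : FibCat.overCat U ⥤ᵇ 𝒴, IsoNat.objCls y = φ.toEquiv U (IsoNat.objCls x) ∧
      ∀ (T : Over S) (c : IsoNat.IsoCl (FibCat.overCat U) T),
        φ.toEquiv T (IsoNat.mapCls x T c) = IsoNat.mapCls y T c := by
  have : 𝒴.p.IsFibered := IsFibGrpd.isFibered h𝒴
  let η : 𝒴.p.Fiber U := Quotient.out (φ.toEquiv U (IsoNat.objCls x))
  have hη : IsoNat.cls η = φ.toEquiv U (IsoNat.objCls x) := cls_out _
  let y : FibCat.overCat U ⥤ᵇ 𝒴 := yonedaFunctor (𝒳 := 𝒴) (x := η.1) η.2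
  obtain ⟨e, he⟩ := yonedaFunctor_iso (𝒳 := 𝒴) (x := η.1) η.2
  have hy : IsoNat.objCls y = IsoNat.cls η :=
    cls_eq_of_iso (⟨y.obj (Over.mk (𝟙 U)), y.w_obj (Over.mk (𝟙 U))⟩ : 𝒴.p.Fiber U) η e he
  refine ⟨y, hy.trans hη, ?_⟩
  intro T c
  obtain ⟨w, rfl⟩ := Quotient.exists_rep c
  obtain ⟨w1, rfl⟩ := w
  have hk : (FibCat.overCat U).p.IsHomLift w1.hom (overTerm U w1) := overTerm_isHomLift U w1
  have ha : 𝒳.p.IsHomLift w1.hom (x.map (overTerm U w1)) :=
    BasedFunctor.preserves_isHomLift x w1.hom (overTerm U w1)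
  have hb0 : 𝒴.p.IsHomLift w1.hom (y.map (overTerm U w1)) :=
    BasedFunctor.preserves_isHomLift y w1.hom (overTerm U w1)
  obtain ⟨y'', y''', b, hb, h1, h2⟩ := φ.natural w1.hom
    (⟨x.obj w1, x.w_obj w1⟩ : 𝒳.p.Fiber ((FibCat.overCat U).p.obj w1))
    (⟨x.obj (Over.mk (𝟙 U)), x.w_obj (Over.mk (𝟙 U))⟩ : 𝒳.p.Fiber U)
    (x.map (overTerm U w1)) ha
  have h3 : IsoNat.cls y''' = IsoNat.cls η := h2.symm.trans hη.symm
  obtain ⟨m, hm⟩ := exists_hom_of_cls_eq y''' η h3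
  have hbm : 𝒴.p.IsHomLift w1.hom (b ≫ m) := inferInstance
  have hye : 𝒴.p.IsHomLift w1.hom (y.map (overTerm U w1) ≫ e.hom) := inferInstance
  obtain ⟨ε, hε, -⟩ := IsFibGrpd.exists_iso_of_lifts h𝒴 w1.hom (b ≫ m)
    (y.map (overTerm U w1) ≫ e.hom)
  have h4 : IsoNat.cls y'' =
      IsoNat.cls (⟨y.obj w1, y.w_obj w1⟩ : 𝒴.p.Fiber ((FibCat.overCat U).p.obj w1)) :=
    cls_eq_of_iso y'' _ ε hε
  exact h1.trans h4

/-- The square of isomorphism-class presheaves attached to a transferred chart. -/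
theorem exists_chart_fIsoSq (φ : IsoNat.FIso 𝒳 𝒴) (h𝒴 : FibCat.IsFibGrpd 𝒴.p) (U : Over S)
    (x : FibCat.overCat U ⥤ᵇ 𝒳) :
    ∃ y : FibCat.overCat U ⥤ᵇ 𝒴, IsoNat.objCls y = φ.toEquiv U (IsoNat.objCls x) ∧
      Nonempty (IsoNat.FIsoSq x y) := by
  obtain ⟨y, hy, hc⟩ := exists_chart φ h𝒴 U x
  exact ⟨y, hy, ⟨{ src := fIsoRefl _, tgt := φ, comm := hc }⟩⟩

/-- Quasi-compactness of algebraic stacks is detected by the presheaf of isomorphism classes. -/
theorem isQuasiCompact_of_fIso (h𝒳 : AlgSt.IsAlgStack Scheme.fppfPrecoverage 𝒳)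
    (h𝒴 : AlgSt.IsAlgStack Scheme.fppfPrecoverage 𝒴) (φ : IsoNat.FIso 𝒳 𝒴)
    (hqc : AlgSt.IsQuasiCompact 𝒳) : AlgSt.IsQuasiCompact 𝒴 := by
  obtain ⟨U, x, hU, hx₁, hx₂⟩ := hqc
  have hrep : AlgSt.RepByAlgSp1 x := fun V v => by
    obtain ⟨F, e, he, -⟩ := hx₂ V v
    exact ⟨F, e, he⟩
  have hxs : AlgSt.IsSurjective x :=
    (Groth.Agent.Lib.Helper15PtsComp.isSurjective_iff_repByAlgSpWith
      (Groth.Agent.Lib.Helper15PtsComp.isAlgStack_overCat U) h𝒳 x hrep).2 hx₂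
  obtain ⟨y, -, ⟨sq⟩⟩ := exists_chart_fIsoSq φ h𝒴.isStack.1 U x
  have hys : AlgSt.IsSurjective y := isSurjective_of_fIsoSq sq hxs
  have hcU : CompactSpace (AlgSt.Points (FibCat.overCat U)) :=
    (Groth.Agent.Lib.Helper15PtsQc.isQuasiCompact_iff_compactSpace
      (Groth.Agent.Lib.Helper15PtsComp.isAlgStack_overCat U)).1
      (Groth.Agent.Lib.Seat59.QcProd.isQuasiCompact_overCat_of_compactSpace U)
  rw [Groth.Agent.Lib.Helper15PtsQc.isQuasiCompact_iff_compactSpace h𝒴]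
  have hcont : Continuous (AlgSt.Points.map y) :=
    Groth.Agent.Lib.Helper15PtsTop.continuous_points_map h𝒴 y
  refine ⟨?_⟩
  rw [← Set.range_eq_univ.2 hys]
  exact isCompact_range hcont

end Groth.Agent.Lib.Seat59.IsoNatC
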