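-- helper59: quasi-compactness of a morphism of algebraic stacks is tested on quasi-compact
-- open substacks of the target.
import Mathlib
import Groth.Agent.Lib.Seat59IsoNat
import Groth.Agent.Lib.Seat59OpenSubF
import Groth.Agent.Lib.Helper15ImmQc
import Groth.Agent.Lib.Helper15QcLocal
import Groth.Agent.Lib.Helper17FpPaste
import Groth.Agent.S12987

set_option autoImplicit false
set_option backward.isDefEq.respectTransparency false
set_option backward.isDefEq.respectTransparency.types false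
open CategoryTheory CategoryTheory.Functor CategoryTheory.Limits Opposite AlgebraicGeometry

universe u

namespace Groth.Agent.Lib.Seat59.IsoNatD

open Groth.Agent.Lib.Helper17 Groth.Agent.Lib.Seat59.OpenSubA Groth.Agent.Lib.Seat59.OpenSubB
  Groth.Agent.Lib.Seat59.OpenSubE Groth.Agent.Lib.Seat59.OpenSubF
  Groth.Agent.Lib.Helper15PtsTop Groth.Agent.Lib.Helper15PtsQc

variable {S : Scheme.{u}} {𝒳 𝒴 𝒵 : AlgSt.Cat S}

/-- A compact subset of the points of an algebraic stack lies in a compact open subset. -/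
theorem exists_isOpen_isCompact_superset (h𝒴 : AlgSt.IsAlgStack Scheme.fppfPrecoverage 𝒴)
    (C : Set (AlgSt.Points 𝒴)) (hC : IsCompact C) :
    ∃ W : Set (AlgSt.Points 𝒴), IsOpen W ∧ IsCompact W ∧ C ⊆ W := by
  choose V hVo hVc hxV _ using fun x : AlgSt.Points 𝒴 =>
    exists_isOpen_isCompact_nhd h𝒴 x Set.univ isOpen_univ (Set.mem_univ x)
  obtain ⟨t, -, ht⟩ := hC.elim_nhds_subcover V (fun x _ => (hVo x).mem_nhds (hxV x))
  exact ⟨⋃ x ∈ t, V x, isOpen_biUnion (fun x _ => hVo x),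
    t.isCompact_biUnion (fun x _ => hVc x), ht⟩

/-- The open substack attached to a compact open set of points is quasi-compact. -/
theorem isQuasiCompact_fullSub_qW (h𝒴 : AlgSt.IsAlgStack Scheme.fppfPrecoverage 𝒴)
    (W : Set (AlgSt.Points 𝒴)) (hWo : IsOpen W) (hWc : IsCompact W) :
    AlgSt.IsQuasiCompact (AlgSt.fullSub 𝒴 (QW W)) := by
  obtain ⟨-, halg, hOI⟩ := isOpenSubstack_qW h𝒴 W hWo
  rw [isQuasiCompact_iff_compactSpace halg]
  obtain ⟨h1, h2⟩ := Groth.Agent.Lib.Helper15OpenSub.flat_lfp_of_isOpenImm _ hOI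
  have hopen := Groth.Agent.Lib.Helper15QcLocal.isOpenMap_points_map_of_flat_lfp halg h𝒴
    (AlgSt.subIncl 𝒴 (QW W)) h1 h2
  have hcont := continuous_points_map (𝒳 := AlgSt.fullSub 𝒴 (QW W)) h𝒴 (AlgSt.subIncl 𝒴 (QW W))
  have hinj := points_map_subIncl_injective h𝒴.isStack.1 (QW W)
    (fun _ _ m h => qW_of_hom W m h)
  have hemb := Topology.IsOpenEmbedding.of_continuous_injective_isOpenMap hcont hinj hopen
  rw [← isCompact_univ_iff, hemb.isEmbedding.isInducing.isCompact_iff, Set.image_univ,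
    range_points_map_subIncl_qW]
  exact hWc

/-- Quasi-compactness of a functor between algebraic stacks, the target quasi-separated over a
quasi-separated base, is tested on the quasi-compact open substacks of the target. -/
theorem isQuasiCompactMor_of_forall_openImm [QuasiSeparatedSpace S]
    (h𝒳 : AlgSt.IsAlgStack Scheme.fppfPrecoverage 𝒳)
    (h𝒴 : AlgSt.IsAlgStack Scheme.fppfPrecoverage 𝒴) (hqs : AlgSt.IsQuasiSeparatedOver 𝒴)
    (f : 𝒳 ⥤ᵇ 𝒴)
    (H : ∀ (𝒴' : AlgSt.Cat S), AlgSt.IsAlgStack Scheme.fppfPrecoverage 𝒴' →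
      AlgSt.IsQuasiCompact 𝒴' → ∀ (j : 𝒴' ⥤ᵇ 𝒴), AlgSt.IsOpenImm j →
        AlgSt.IsQuasiCompact (FibCat.fp j f)) :
    AlgSt.IsQuasiCompactMor Scheme.fppfPrecoverage f := by
  intro 𝒵 h𝒵 hqc g
  have hc𝒵 : CompactSpace (AlgSt.Points 𝒵) := (isQuasiCompact_iff_compactSpace h𝒵).1 hqc
  obtain ⟨W, hWo, hWc, hgW⟩ := exists_isOpen_isCompact_superset h𝒴
    (Set.range (AlgSt.Points.map g)) (isCompact_range (continuous_points_map h𝒴 g))
  obtain ⟨-, halg, hOI⟩ := isOpenSubstack_qW h𝒴 W hWo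
  have hqc' := isQuasiCompact_fullSub_qW h𝒴 W hWo hWc
  have hP := H _ halg hqc' (AlgSt.subIncl 𝒴 (QW W)) hOI
  have hg : ∀ a : 𝒵.obj, QW W (g.obj a) := fun a =>
    (qW_preimage_iff h𝒵.isStack.1 h𝒴.isStack.1 g W a).1
      (fun p _ => hgW ⟨AlgSt.Points.mk p, rfl⟩)
  let g' : 𝒵 ⥤ᵇ AlgSt.fullSub 𝒴 (QW W) :=
    { toFunctor := ObjectProperty.lift _ g.toFunctor hg
      w := g.w }
  have hPalg : AlgSt.IsAlgStack Scheme.fppfPrecoverage
      (FibCat.fp (AlgSt.subIncl 𝒴 (QW W)) f) :=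
    Groth.Agent.Lib.Helper15Atlas.isAlgStack_fp_of_isPrestack
      (IsStack.isPrestack _ h𝒴.isStack) h𝒴.diag halg h𝒳 _ _
  have hqs' : AlgSt.IsQuasiSeparatedOver (AlgSt.fullSub 𝒴 (QW W)) :=
    Groth.Agent.Lib.Helper15ImmQc.isQuasiSeparatedOver_of_isMono halg.isStack.1 h𝒴.isStack.1
      (AlgSt.subIncl 𝒴 (QW W))
      (Groth.Agent.Lib.Seat59.IsoNatA.isMono_of_isOpenImm _ hOI) hqs
  have hqcm : AlgSt.IsQuasiCompactMor Scheme.fppfPrecoverage
      (FibCat.fpFst (AlgSt.subIncl 𝒴 (QW W)) f) :=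
    Groth.Agent.S12987.result S _ _ hPalg halg _ hP hqs'
  have h1 := hqcm 𝒵 h𝒵 hqc g'
  exact isQuasiCompact_of_isEquivOver (pasteL f (AlgSt.subIncl 𝒴 (QW W)) g')
    (isEquivOver_pasteL f (AlgSt.subIncl 𝒴 (QW W)) g') h1

/-- A separated quasi-compact diagonal gives quasi-separatedness over the base. -/
theorem isQuasiSeparatedOver_of_sep_qc
    (h𝒴d : AlgSt.RepByAlgSpWith (AlgSp.IsSeparatedMor ⊓ AlgSp.IsQuasiCompactMor)
      (FibCat.diag (FibCat.toSelf 𝒴))) : AlgSt.IsQuasiSeparatedOver 𝒴 :=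
  Groth.Agent.Lib.Helper15DiagLft.repByAlgSpWith_mono (fun _ _ a h =>
    ⟨h.2, Groth.Agent.Lib.Helper15OpenSub.repWith_mono
      (fun _ _ g hg => by have : IsClosedImmersion g := hg; infer_instance) h.1⟩) _ h𝒴d

end Groth.Agent.Lib.Seat59.IsoNatD
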