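-- helper59: the 2-fibre product of a functor with the inclusion of a full substack of its target
-- is the preimage substack; symmetry of isomorphisms of presheaves of isomorphism classes.
import Mathlib
import Groth.Agent.Lib.Seat59IsoNatC
import Groth.Agent.Lib.Seat59IsoNatD

set_option autoImplicit false
set_option backward.isDefEq.respectTransparency false
set_option backward.isDefEq.respectTransparency.types false
open CategoryTheory CategoryTheory.Functor CategoryTheory.Limits Opposite AlgebraicGeometry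

universe u

namespace Groth.Agent.Lib.Seat59.IsoNatE

open Groth.Agent.Lib.Helper17 Groth.Agent.Lib.Seat59.OpenSubA Groth.Agent.Lib.Seat59.OpenSubB
  Groth.Agent.Lib.Seat59.OpenSubE Groth.Agent.Lib.Seat59.OpenSubF
  Groth.Agent.Lib.Seat59.IsoNatA Groth.Agent.Lib.Seat59.IsoNatB Groth.Agent.Lib.Seat59.IsoNatC

section Pre

variable {S : Scheme.{u}} {𝒳 𝒴 : AlgSt.Cat S} (Q : 𝒴.obj → Prop) (f : 𝒳 ⥤ᵇ 𝒴)

/-- The comparison functor from the preimage substack to the 2-fibre product with the inclusion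
of the substack. -/
def preCmp : AlgSt.fullSub 𝒳 (fun a => Q (f.obj a)) ⥤ᵇ FibCat.fp (AlgSt.subIncl 𝒴 Q) f :=
  FibCat.fpLift (restrictSub Q f) (AlgSt.subIncl 𝒳 (fun a => Q (f.obj a))) (Iso.refl _)

theorem preCmp_faithful : (preCmp Q f).toFunctor.Faithful := by
  refine ⟨fun {d d'} m m' h => ?_⟩
  apply ObjectProperty.hom_ext
  exact congrArg (fun k => k.hom.snd) h

theorem preCmp_full : (preCmp Q f).toFunctor.Full := by
  refine ⟨fun {d d'} n => ⟨ObjectProperty.homMk n.hom.snd, ?_⟩⟩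
  apply ObjectProperty.hom_ext
  apply Limits.CategoricalPullback.hom_ext
  · apply ObjectProperty.hom_ext
    have h2 := n.hom.w
    change n.hom.fst.hom ≫ 𝟙 _ = 𝟙 _ ≫ f.map n.hom.snd at h2
    rw [Category.comp_id, Category.id_comp] at h2
    change f.map n.hom.snd = n.hom.fst.hom
    exact h2.symm
  · rfl

theorem preCmp_essSurjOver (hQ : ObjectProperty.IsClosedUnderIsomorphisms Q) :
    EssSurjOver (preCmp Q f) := by
  intro q
  have hq : Q (f.obj q.obj.snd) := hQ.of_iso q.obj.iso q.obj.fst.property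
  let a : (AlgSt.fullSub 𝒳 (fun a => Q (f.obj a))).obj := ⟨q.obj.snd, hq⟩
  let i₁ : (restrictSub Q f).obj a ≅ q.obj.fst := ObjectProperty.isoMk _ q.obj.iso.symm
  have hw : (AlgSt.subIncl 𝒴 Q).map i₁.hom ≫ q.obj.iso.hom =
      ((preCmp Q f).obj a).obj.iso.hom ≫ f.map (Iso.refl q.obj.snd).hom := by
    change q.obj.iso.inv ≫ q.obj.iso.hom = 𝟙 _ ≫ f.map (𝟙 _)
    rw [f.toFunctor.map_id, Iso.inv_hom_id, Category.comp_id]
  refine ⟨a, ObjectProperty.isoMk _ (Limits.CategoricalPullback.mkIso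
    (x := ((preCmp Q f).obj a).obj) (y := q.obj) i₁ (Iso.refl _) hw), ?_⟩
  rw [fp_isHomLift_iff]
  have h1 : 𝒴.p.IsHomLift (𝟙 ((AlgSt.fullSub 𝒴 Q).p.obj q.obj.fst)) q.obj.iso.hom := q.property
  have h2 := IsHomLift.lift_id_inv 𝒴.p ((AlgSt.fullSub 𝒴 Q).p.obj q.obj.fst) q.obj.iso
  exact (isHomLift_comp_iff (ObjectProperty.ι Q) 𝒴.p _ i₁.hom).2 h2

theorem isEquivOver_preCmp (hQ : ObjectProperty.IsClosedUnderIsomorphisms Q) :
    FibCat.IsEquivOver (preCmp Q f) := by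
  have := preCmp_faithful Q f
  have := preCmp_full Q f
  exact isEquivOver_of_fullyFaithful_of_essSurjOver _ (preCmp_essSurjOver Q f hQ)

end Pre

section Symm

variable {S : Scheme.{u}} {𝒳 𝒴 𝒳' 𝒴' : AlgSt.Cat S}

/-- A morphism of `𝒳` gives a morphism between any representatives of the transferred classes. -/
theorem exists_hom_of_natural (φ : IsoNat.FIso 𝒳 𝒴) {T' T : Over S} (x' : 𝒳.p.Fiber T')
    (x : 𝒳.p.Fiber T) (a : x'.1 ⟶ x.1) (y' : 𝒴.p.Fiber T') (y : 𝒴.p.Fiber T)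
    (h' : φ.toEquiv T' (IsoNat.cls x') = IsoNat.cls y')
    (h : φ.toEquiv T (IsoNat.cls x) = IsoNat.cls y) : Nonempty (y'.1 ⟶ y.1) := by
  let g : T' ⟶ T := eqToHom x'.2.symm ≫ 𝒳.p.map a ≫ eqToHom x.2
  have hg : 𝒳.p.IsHomLift g a := IsHomLift.of_fac 𝒳.p g a x'.2 x.2 rfl
  obtain ⟨z', z, b, -, k', k⟩ := φ.natural g x' x a hg
  obtain ⟨m₁, -⟩ := exists_hom_of_cls_eq y' z' (h'.symm.trans k')
  obtain ⟨m₂, -⟩ := exists_hom_of_cls_eq z y (k.symm.trans h)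
  exact ⟨m₁ ≫ b ≫ m₂⟩

/-- The inverse of an isomorphism of presheaves of isomorphism classes of categories fibred in
groupoids. -/
noncomputable def fIsoSymm (h𝒳 : FibCat.IsFibGrpd 𝒳.p) (h𝒴 : FibCat.IsFibGrpd 𝒴.p)
    (φ : IsoNat.FIso 𝒳 𝒴) : IsoNat.FIso 𝒴 𝒳 where
  toEquiv T := (φ.toEquiv T).symm
  natural := by
    intro T' T g y' y b hb
    have : 𝒳.p.IsFibered := IsFibGrpd.isFibered h𝒳
    let x : 𝒳.p.Fiber T := Quotient.out ((φ.toEquiv T).symm (IsoNat.cls y))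
    have hx : IsoNat.cls x = (φ.toEquiv T).symm (IsoNat.cls y) := cls_out _
    let a : IsPreFibered.pullbackObj x.2 g ⟶ x.1 := IsPreFibered.pullbackMap x.2 g
    have ha : 𝒳.p.IsHomLift g a := inferInstance
    let x' : 𝒳.p.Fiber T' := ⟨IsPreFibered.pullbackObj x.2 g, IsHomLift.domain_eq 𝒳.p g a⟩
    obtain ⟨z', z, b₂, hb₂, k', k⟩ := φ.natural g x' x a ha
    have hz : IsoNat.cls z = IsoNat.cls y := by
      rw [← k, hx]
      exact (φ.toEquiv T).apply_symm_apply _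
    obtain ⟨m, hm⟩ := exists_hom_of_cls_eq z y hz
    have hbm : 𝒴.p.IsHomLift g (b₂ ≫ m) := inferInstance
    obtain ⟨ε, hε, -⟩ := IsFibGrpd.exists_iso_of_lifts h𝒴 g (b₂ ≫ m) b
    have hz' : IsoNat.cls z' = IsoNat.cls y' := cls_eq_of_iso z' y' ε hε
    refine ⟨x', x, a, ha, ?_, hx.symm⟩
    rw [Equiv.symm_apply_eq, k', hz']

theorem fIsoSymm_toEquiv (h𝒳 : FibCat.IsFibGrpd 𝒳.p) (h𝒴 : FibCat.IsFibGrpd 𝒴.p)
    (φ : IsoNat.FIso 𝒳 𝒴) (T : Over S) :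
    (fIsoSymm h𝒳 h𝒴 φ).toEquiv T = (φ.toEquiv T).symm := rfl

/-- Predicates on objects corresponding to each other under an isomorphism of presheaves of
isomorphism classes. -/
def Compat (φ : IsoNat.FIso 𝒳 𝒴) (R : 𝒳.obj → Prop) (R' : 𝒴.obj → Prop) : Prop :=
  ∀ (T : Over S) (x : 𝒳.p.Fiber T) (y : 𝒴.p.Fiber T),
    φ.toEquiv T (IsoNat.cls x) = IsoNat.cls y → (R x.1 ↔ R' y.1)

theorem compat_symm (h𝒳 : FibCat.IsFibGrpd 𝒳.p) (h𝒴 : FibCat.IsFibGrpd 𝒴.p)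
    (φ : IsoNat.FIso 𝒳 𝒴) {R : 𝒳.obj → Prop} {R' : 𝒴.obj → Prop} (h : Compat φ R R') :
    Compat (fIsoSymm h𝒳 h𝒴 φ) R' R := by
  intro T y x hxy
  rw [fIsoSymm_toEquiv, Equiv.symm_apply_eq] at hxy
  exact (h T x y hxy.symm).symm

theorem compat_comp {f : 𝒳 ⥤ᵇ 𝒴} {f' : 𝒳' ⥤ᵇ 𝒴'} (sq : IsoNat.FIsoSq f f')
    {R : 𝒴.obj → Prop} {R' : 𝒴'.obj → Prop} (h : Compat sq.tgt R R') :
    Compat sq.src (fun a => R (f.obj a)) (fun a => R' (f'.obj a)) := by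
  intro T x x' hxx'
  refine h T ⟨f.obj x.1, (f.w_obj x.1).trans x.2⟩ ⟨f'.obj x'.1, (f'.w_obj x'.1).trans x'.2⟩ ?_
  have h1 := sq.comm T (IsoNat.cls x)
  rw [hxx'] at h1
  exact h1

theorem mk_transfer_transfer (h𝒳 : FibCat.IsFibGrpd 𝒳.p) (h𝒴 : FibCat.IsFibGrpd 𝒴.p)
    (φ : IsoNat.FIso 𝒳 𝒴) (q : AlgSt.FPt 𝒴) :
    AlgSt.Points.mk (transfer φ (transfer (fIsoSymm h𝒳 h𝒴 φ) q)) = AlgSt.Points.mk q := by
  apply AlgSt.Points.sound
  refine rel_ofFib_of_cls_eq q.str (fibOf (transfer φ (transfer (fIsoSymm h𝒳 h𝒴 φ) q)))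
    (fibOf q) ?_
  rw [cls_fibOf_transfer, cls_fibOf_transfer, fIsoSymm_toEquiv]
  exact (φ.toEquiv (Over.mk q.str)).apply_symm_apply _

/-- The substacks attached to corresponding sets of points correspond. -/
theorem compat_qW (h𝒳 : FibCat.IsFibGrpd 𝒳.p) (h𝒴 : FibCat.IsFibGrpd 𝒴.p)
    (φ : IsoNat.FIso 𝒳 𝒴) (W' : Set (AlgSt.Points 𝒴)) :
    Compat φ (QW (ptsTransfer φ ⁻¹' W')) (QW W') := by
  intro T x y hxy
  constructor
  · intro hx q ⟨m⟩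
    have h1 : (fIsoSymm h𝒳 h𝒴 φ).toEquiv T (IsoNat.cls y) = IsoNat.cls x := by
      rw [fIsoSymm_toEquiv, Equiv.symm_apply_eq]
      exact hxy.symm
    obtain ⟨m'⟩ := exists_hom_of_natural (fIsoSymm h𝒳 h𝒴 φ) (fibOf q) y m
      (fibOf (transfer (fIsoSymm h𝒳 h𝒴 φ) q)) x
      (cls_fibOf_transfer (fIsoSymm h𝒳 h𝒴 φ) q).symm h1
    have h2 := hx (transfer (fIsoSymm h𝒳 h𝒴 φ) q) ⟨m'⟩
    rw [Set.mem_preimage, ptsTransfer_mk, mk_transfer_transfer h𝒳 h𝒴 φ q] at h2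
    exact h2
  · intro hy p ⟨m⟩
    obtain ⟨m'⟩ := exists_hom_of_natural φ (fibOf p) x m (fibOf (transfer φ p)) y
      (cls_fibOf_transfer φ p).symm hxy
    rw [Set.mem_preimage, ptsTransfer_mk]
    exact hy (transfer φ p) ⟨m'⟩

end Symm

end Groth.Agent.Lib.Seat59.IsoNatE
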