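-- helper59: quasi-compactness of a morphism of algebraic stacks is detected by the induced map of
-- presheaves of isomorphism classes.
import Mathlib
import Groth.Agent.Lib.Seat59IsoNatE

set_option autoImplicit false
set_option backward.isDefEq.respectTransparency false
set_option backward.isDefEq.respectTransparency.types false
open CategoryTheory CategoryTheory.Functor CategoryTheory.Limits Opposite AlgebraicGeometry

universe u

namespace Groth.Agent.Lib.Seat59.IsoNatF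

open Groth.Agent.Lib.Helper17 Groth.Agent.Lib.Seat59.OpenSubA Groth.Agent.Lib.Seat59.OpenSubB
  Groth.Agent.Lib.Seat59.OpenSubE Groth.Agent.Lib.Seat59.OpenSubF
  Groth.Agent.Lib.Seat59.IsoNatA Groth.Agent.Lib.Seat59.IsoNatB Groth.Agent.Lib.Seat59.IsoNatC
  Groth.Agent.Lib.Seat59.IsoNatD Groth.Agent.Lib.Seat59.IsoNatE
  Groth.Agent.Lib.Helper15PtsTop Groth.Agent.Lib.Helper15PtsQc

variable {S : Scheme.{u}} {𝒳 𝒴 𝒳' 𝒴' : AlgSt.Cat S}

theorem ptsTransfer_refl (P : AlgSt.Points 𝒳) : ptsTransfer (fIsoRefl 𝒳) P = P := by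
  obtain ⟨p, rfl⟩ := AlgSt.Points.mk_surjective P
  rw [ptsTransfer_mk]
  apply AlgSt.Points.sound
  exact rel_ofFib_of_cls_eq p.str (fibOf (transfer (fIsoRefl 𝒳) p)) (fibOf p)
    (cls_fibOf_transfer (fIsoRefl 𝒳) p)

/-- The map on points induced by an isomorphism of presheaves of isomorphism classes of algebraic
stacks is continuous. -/
theorem continuous_ptsTransfer (h𝒴 : AlgSt.IsAlgStack Scheme.fppfPrecoverage 𝒴)
    (φ : IsoNat.FIso 𝒳 𝒴) : Continuous (ptsTransfer φ) := by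
  rw [continuous_def]
  intro W' hW' U x _
  obtain ⟨y, -, hc⟩ := exists_chart φ h𝒴.isStack.1 U x
  let sq : IsoNat.FIsoSq x y := { src := fIsoRefl _, tgt := φ, comm := hc }
  have hcont := continuous_ofChart h𝒴 y
  have heq : AlgSt.Points.ofChart x ⁻¹' (ptsTransfer φ ⁻¹' W') = AlgSt.Points.ofChart y ⁻¹' W' := by
    ext t
    rw [Set.mem_preimage, Set.mem_preimage, Set.mem_preimage, ofChart_eq_map_ptOver,
      ofChart_eq_map_ptOver]
    have h1 := ptsTransfer_map sq (ptOver U t)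
    rw [show ptsTransfer sq.src (ptOver U t) = ptOver U t from ptsTransfer_refl _] at h1
    rw [show ptsTransfer φ (AlgSt.Points.map x (ptOver U t)) =
      AlgSt.Points.map y (ptOver U t) from h1]
  rw [heq]
  exact hW'.preimage hcont

theorem points_map_comp {𝒜 ℬ 𝒞 : AlgSt.Cat S} (a : 𝒜 ⥤ᵇ ℬ) (b : ℬ ⥤ᵇ 𝒞) (P : AlgSt.Points 𝒜) :
    AlgSt.Points.map (BasedFunctor.comp a b) P = AlgSt.Points.map b (AlgSt.Points.map a P) := by
  obtain ⟨p, rfl⟩ := AlgSt.Points.mk_surjective P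
  rfl

/-- Quasi-compactness of corresponding substacks. -/
theorem isQuasiCompact_fullSub_of_compat
    (h𝒴 : AlgSt.IsAlgStack Scheme.fppfPrecoverage 𝒴) (φ : IsoNat.FIso 𝒳 𝒴)
    (R : 𝒳.obj → Prop) (R' : 𝒴.obj → Prop) (hc : Compat φ R R')
    (hR : AlgSt.IsAlgStack Scheme.fppfPrecoverage (AlgSt.fullSub 𝒳 R))
    (hR' : AlgSt.IsAlgStack Scheme.fppfPrecoverage (AlgSt.fullSub 𝒴 R'))
    (hR'pull : ∀ ⦃b a : 𝒴.obj⦄ (_ : b ⟶ a), R' a → R' b)
    (hqc : AlgSt.IsQuasiCompact (AlgSt.fullSub 𝒳 R)) :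
    AlgSt.IsQuasiCompact (AlgSt.fullSub 𝒴 R') := by
  obtain ⟨U, x, hU, hx₁, hx₂⟩ := hqc
  have hrep : AlgSt.RepByAlgSp1 x := fun V v => by
    obtain ⟨F, e, he, -⟩ := hx₂ V v
    exact ⟨F, e, he⟩
  have hxs : AlgSt.IsSurjective x :=
    (Groth.Agent.Lib.Helper15PtsComp.isSurjective_iff_repByAlgSpWith
      (Groth.Agent.Lib.Helper15PtsComp.isAlgStack_overCat U) hR x hrep).2 hx₂
  let x₀ : FibCat.overCat U ⥤ᵇ 𝒳 := BasedFunctor.comp x (AlgSt.subIncl 𝒳 R)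
  obtain ⟨y, -, hcy⟩ := exists_chart φ h𝒴.isStack.1 U x₀
  let sq : IsoNat.FIsoSq x₀ y := { src := fIsoRefl _, tgt := φ, comm := hcy }
  have hyR : ∀ c : Over U, R' (y.obj c) := fun c =>
    (hc ((FibCat.overCat U).p.obj c) ⟨x₀.obj c, x₀.w_obj c⟩ ⟨y.obj c, y.w_obj c⟩
      (hcy ((FibCat.overCat U).p.obj c) (IsoNat.cls ⟨c, rfl⟩))).1 (x.obj c).property
  let y' : FibCat.overCat U ⥤ᵇ AlgSt.fullSub 𝒴 R' :=
    { toFunctor := ObjectProperty.lift _ y.toFunctor hyR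
      w := y.w }
  have hinj := points_map_subIncl_injective h𝒴.isStack.1 R' hR'pull
  have hys : AlgSt.IsSurjective y' := by
    intro w'
    obtain ⟨q', rfl⟩ := AlgSt.Points.mk_surjective w'
    let q₀ : AlgSt.FPt 𝒴 := q'.map (AlgSt.subIncl 𝒴 R')
    let cx : IsoNat.IsoCl 𝒳 (Over.mk q₀.str) :=
      (φ.toEquiv (Over.mk q₀.str)).symm (IsoNat.cls (fibOf q₀))
    let p : AlgSt.FPt 𝒳 := ofFib q₀.str (Quotient.out cx)
    have hp : φ.toEquiv (Over.mk q₀.str) (IsoNat.cls (fibOf p)) = IsoNat.cls (fibOf q₀) := by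
      have : IsoNat.cls (fibOf p) = cx := cls_out cx
      rw [this]
      exact (φ.toEquiv (Over.mk q₀.str)).apply_symm_apply _
    have hRp : R p.obj := (hc (Over.mk q₀.str) (fibOf p) (fibOf q₀) hp).2 q'.obj.property
    let pt : AlgSt.FPt (AlgSt.fullSub 𝒳 R) :=
      { K := p.K, str := p.str, obj := ⟨p.obj, hRp⟩, lies := p.lies }
    obtain ⟨u, hu⟩ := hxs (AlgSt.Points.mk pt)
    have h1 : AlgSt.Points.map x₀ u = AlgSt.Points.mk p := by
      rw [points_map_comp, hu]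
      rfl
    have h2 := ptsTransfer_map sq u
    rw [show ptsTransfer sq.src u = u from ptsTransfer_refl u,
      show ptsTransfer sq.tgt (AlgSt.Points.map x₀ u) = ptsTransfer φ (AlgSt.Points.mk p) from
        congrArg _ h1, ptsTransfer_mk] at h2
    have h3 : AlgSt.Points.mk (transfer φ p) = AlgSt.Points.mk q₀ := by
      apply AlgSt.Points.sound
      refine rel_ofFib_of_cls_eq q₀.str (fibOf (transfer φ p)) (fibOf q₀) ?_
      rw [cls_fibOf_transfer]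
      exact hp
    refine ⟨u, hinj ?_⟩
    rw [← points_map_comp]
    exact h2.symm.trans h3
  have hcU : CompactSpace (AlgSt.Points (FibCat.overCat U)) :=
    (isQuasiCompact_iff_compactSpace
      (Groth.Agent.Lib.Helper15PtsComp.isAlgStack_overCat U)).1
      (Groth.Agent.Lib.Seat59.QcProd.isQuasiCompact_overCat_of_compactSpace U)
  rw [isQuasiCompact_iff_compactSpace hR']
  have hcont : Continuous (AlgSt.Points.map y') := continuous_points_map hR' y'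
  refine ⟨?_⟩
  rw [← Set.range_eq_univ.2 hys]
  exact isCompact_range hcont

/-- Quasi-compactness of a functor between algebraic stacks, the target quasi-separated over a
quasi-separated base, is tested on the open substacks attached to compact open sets of points.
-/
theorem isQuasiCompactMor_of_forall_qW [QuasiSeparatedSpace S]
    (h𝒳 : AlgSt.IsAlgStack Scheme.fppfPrecoverage 𝒳)
    (h𝒴 : AlgSt.IsAlgStack Scheme.fppfPrecoverage 𝒴) (hqs : AlgSt.IsQuasiSeparatedOver 𝒴)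
    (f : 𝒳 ⥤ᵇ 𝒴)
    (H : ∀ W : Set (AlgSt.Points 𝒴), IsOpen W → IsCompact W →
        AlgSt.IsQuasiCompact (FibCat.fp (AlgSt.subIncl 𝒴 (QW W)) f)) :
    AlgSt.IsQuasiCompactMor Scheme.fppfPrecoverage f := by
  intro 𝒵 h𝒵 hqc g
  have hc𝒵 : CompactSpace (AlgSt.Points 𝒵) := (isQuasiCompact_iff_compactSpace h𝒵).1 hqc
  obtain ⟨W, hWo, hWc, hgW⟩ := exists_isOpen_isCompact_superset h𝒴
    (Set.range (AlgSt.Points.map g)) (isCompact_range (continuous_points_map h𝒴 g))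
  obtain ⟨-, halg, hOI⟩ := isOpenSubstack_qW h𝒴 W hWo
  have hP := H W hWo hWc
  have hg : ∀ a : 𝒵.obj, QW W (g.obj a) := fun a =>
    (qW_preimage_iff h𝒵.isStack.1 h𝒴.isStack.1 g W a).1
      (fun p _ => hgW ⟨AlgSt.Points.mk p, rfl⟩)
  let g' : 𝒵 ⥤ᵇ AlgSt.fullSub 𝒴 (QW W) :=
    { toFunctor := ObjectProperty.lift _ g.toFunctor hg
      w := g.w }
  have hPalg : AlgSt.IsAlgStack Scheme.fppfPrecoverage
      (FibCat.fp (AlgSt.subIncl 𝒴 (QW W)) f) :=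
    Groth.Agent.Lib.Helper15Atlas.isAlgStack_fp_of_isPrestack
      (IsStack.isPrestack _ h𝒴.isStack) h𝒴.diag halg h𝒳 _ _
  have hqs' : AlgSt.IsQuasiSeparatedOver (AlgSt.fullSub 𝒴 (QW W)) :=
    Groth.Agent.Lib.Helper15ImmQc.isQuasiSeparatedOver_of_isMono halg.isStack.1 h𝒴.isStack.1
      (AlgSt.subIncl 𝒴 (QW W))
      (Groth.Agent.Lib.Seat59.IsoNatA.isMono_of_isOpenImm _ hOI) hqs
  have hqcm : AlgSt.IsQuasiCompactMor Scheme.fppfPrecoverage
      (FibCat.fpFst (AlgSt.subIncl 𝒴 (QW W)) f) :=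
    Groth.Agent.S12987.result S _ _ hPalg halg _ hP hqs'
  have h1 := hqcm 𝒵 h𝒵 hqc g'
  exact isQuasiCompact_of_isEquivOver (pasteL f (AlgSt.subIncl 𝒴 (QW W)) g')
    (isEquivOver_pasteL f (AlgSt.subIncl 𝒴 (QW W)) g') h1

/-- Quasi-compactness of a morphism of algebraic stacks is detected by the induced map of
presheaves of isomorphism classes. -/
theorem isQuasiCompactMor_of_fIsoSq [QuasiSeparatedSpace S]
    (h𝒳 : AlgSt.IsAlgStack Scheme.fppfPrecoverage 𝒳)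
    (h𝒴 : AlgSt.IsAlgStack Scheme.fppfPrecoverage 𝒴)
    (h𝒳' : AlgSt.IsAlgStack Scheme.fppfPrecoverage 𝒳')
    (h𝒴' : AlgSt.IsAlgStack Scheme.fppfPrecoverage 𝒴')
    (hqs' : AlgSt.IsQuasiSeparatedOver 𝒴')
    {f : 𝒳 ⥤ᵇ 𝒴} {f' : 𝒳' ⥤ᵇ 𝒴'} (sq : IsoNat.FIsoSq f f')
    (hf : AlgSt.IsQuasiCompactMor Scheme.fppfPrecoverage f) :
    AlgSt.IsQuasiCompactMor Scheme.fppfPrecoverage f' := by
  apply isQuasiCompactMor_of_forall_qW h𝒳' h𝒴' hqs' f'
  intro W' hW'o hW'c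
  have hWo : IsOpen (ptsTransfer sq.tgt ⁻¹' W') :=
    hW'o.preimage (continuous_ptsTransfer h𝒴' sq.tgt)
  have hcomp : Compat sq.tgt (QW (ptsTransfer sq.tgt ⁻¹' W')) (QW W') :=
    compat_qW h𝒴.isStack.1 h𝒴'.isStack.1 sq.tgt W'
  obtain ⟨hcl, halg, hOI⟩ := isOpenSubstack_qW h𝒴 _ hWo
  obtain ⟨hcl', halg', hOI'⟩ := isOpenSubstack_qW h𝒴' W' hW'o
  have hqcW' : AlgSt.IsQuasiCompact (AlgSt.fullSub 𝒴' (QW W')) :=
    isQuasiCompact_fullSub_qW h𝒴' W' hW'o hW'c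
  have hqcW : AlgSt.IsQuasiCompact (AlgSt.fullSub 𝒴 (QW (ptsTransfer sq.tgt ⁻¹' W'))) :=
    isQuasiCompact_fullSub_of_compat h𝒴 (fIsoSymm h𝒴.isStack.1 h𝒴'.isStack.1 sq.tgt)
      (QW W') (QW (ptsTransfer sq.tgt ⁻¹' W'))
      (compat_symm h𝒴.isStack.1 h𝒴'.isStack.1 sq.tgt hcomp) halg' halg
      (fun _ _ m h => qW_of_hom _ m h) hqcW'
  have h1 : AlgSt.IsQuasiCompact
      (FibCat.fp (AlgSt.subIncl 𝒴 (QW (ptsTransfer sq.tgt ⁻¹' W'))) f) :=
    hf _ halg hqcW (AlgSt.subIncl 𝒴 (QW (ptsTransfer sq.tgt ⁻¹' W')))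
  have hpre := isOpenSubstack_preimage h𝒳 h𝒴 f (QW (ptsTransfer sq.tgt ⁻¹' W'))
    ⟨hcl, halg, hOI⟩
  have hpre' := isOpenSubstack_preimage h𝒳' h𝒴' f' (QW W') ⟨hcl', halg', hOI'⟩
  have h2 : AlgSt.IsQuasiCompact
      (AlgSt.fullSub 𝒳 (fun a => QW (ptsTransfer sq.tgt ⁻¹' W') (f.obj a))) :=
    isQuasiCompact_of_isEquivOver' (preCmp (QW (ptsTransfer sq.tgt ⁻¹' W')) f)
      (isEquivOver_preCmp _ _ hcl) h1
  have h3 : AlgSt.IsQuasiCompact (AlgSt.fullSub 𝒳' (fun a => QW W' (f'.obj a))) :=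
    isQuasiCompact_fullSub_of_compat h𝒳' sq.src _ _ (compat_comp sq hcomp) hpre.2.1 hpre'.2.1
      (fun _ _ m h => qW_of_hom W' (f'.map m) h) h2
  exact isQuasiCompact_of_isEquivOver (preCmp (QW W') f') (isEquivOver_preCmp _ _ hcl') h3

end Groth.Agent.Lib.Seat59.IsoNatF
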