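-- helper59: the largest open substack on which a representable morphism has a property, part A:
-- base change of a representing algebraic space along a map of sheaves.
import Mathlib
import Groth.Agent.Lib.Seat83PshFp
import Groth.Agent.Lib.Helper17FpPaste
import Groth.Agent.Lib.Helper15PshFib

set_option autoImplicit false
set_option backward.isDefEq.respectTransparency false
set_option backward.isDefEq.respectTransparency.types false
open CategoryTheory CategoryTheory.Functor CategoryTheory.Limits Opposite AlgebraicGeometry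

universe u

namespace Groth.Agent.Lib.Seat59.LargestA

open Groth.Agent.Lib.Helper17 Groth.Agent.Lib.Helper15PshFib Groth.Agent.Lib.Seat83.PshFp

variable {S : Scheme.{u}} {𝒳 𝒴 : AlgSt.Cat S}

/-- The equivalence from the category of the pullback sheaf to the 2-fibre product over the
composite. -/
noncomputable def pbEquiv (f : 𝒳 ⥤ᵇ 𝒴) {Z Z' X : AlgSp.Sp S} (h : Z' ⟶ Z)
    (z : AlgSt.ofSp Z ⥤ᵇ 𝒴) (a : X ⟶ Z) (E : AlgSt.ofSp X ⥤ᵇ FibCat.fp z f)
    (ι : BasedFunctor.comp E (FibCat.fpFst z f) ≅ AlgSt.ofSpMap a) :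
    AlgSt.ofSp (pullback h a) ⥤ᵇ FibCat.fp (BasedFunctor.comp (AlgSt.ofSpMap h) z) f :=
  BasedFunctor.comp
    (pbLift h.hom a.hom (pullback.fst h a).hom (pullback.snd h a).hom
      (by rw [← ObjectProperty.FullSubcategory.comp_hom, ← ObjectProperty.FullSubcategory.comp_hom,
        pullback.condition]))
    (BasedFunctor.comp
      (fpMap (AlgSt.ofSpMap h) (FibCat.fpFst z f) (AlgSt.ofSpMap h) (AlgSt.ofSpMap a)
        (BasedFunctor.id _) E (BasedFunctor.id _) (Iso.refl _) ι.symm)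
      (pasteL f z (AlgSt.ofSpMap h)))

theorem pbEquiv_comp_fpFst (f : 𝒳 ⥤ᵇ 𝒴) {Z Z' X : AlgSp.Sp S} (h : Z' ⟶ Z)
    (z : AlgSt.ofSp Z ⥤ᵇ 𝒴) (a : X ⟶ Z) (E : AlgSt.ofSp X ⥤ᵇ FibCat.fp z f)
    (ι : BasedFunctor.comp E (FibCat.fpFst z f) ≅ AlgSt.ofSpMap a) :
    BasedFunctor.comp (pbEquiv f h z a E ι) (FibCat.fpFst _ f) =
      AlgSt.ofSpMap (pullback.fst h a) := rfl

theorem pbEquiv_comp_fpSnd (f : 𝒳 ⥤ᵇ 𝒴) {Z Z' X : AlgSp.Sp S} (h : Z' ⟶ Z)
    (z : AlgSt.ofSp Z ⥤ᵇ 𝒴) (a : X ⟶ Z) (E : AlgSt.ofSp X ⥤ᵇ FibCat.fp z f)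
    (ι : BasedFunctor.comp E (FibCat.fpFst z f) ≅ AlgSt.ofSpMap a) :
    BasedFunctor.comp (pbEquiv f h z a E ι) (FibCat.fpSnd _ f) =
      BasedFunctor.comp (AlgSt.ofSpMap (pullback.snd h a))
        (BasedFunctor.comp E (FibCat.fpSnd z f)) := rfl


theorem isEquivOver_pbEquiv (f : 𝒳 ⥤ᵇ 𝒴) {Z Z' X : AlgSp.Sp S} (h : Z' ⟶ Z)
    (z : AlgSt.ofSp Z ⥤ᵇ 𝒴) (a : X ⟶ Z) (E : AlgSt.ofSp X ⥤ᵇ FibCat.fp z f)
    (hE : FibCat.IsEquivOver E)
    (ι : BasedFunctor.comp E (FibCat.fpFst z f) ≅ AlgSt.ofSpMap a) :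
    FibCat.IsEquivOver (pbEquiv f h z a E ι) := by
  have sq : IsPullback (pullback.fst h a).hom (pullback.snd h a).hom h.hom a.hom :=
    (IsPullback.of_hasPullback h a).map (sheafToPresheaf (AlgSp.J S) (Type (u + 1)))
  have h1 := isEquivOver_pbLift h.hom a.hom (pullback.fst h a).hom (pullback.snd h a).hom sq
  have : (BasedFunctor.id (AlgSt.ofSp Z)).toFunctor.Full := by
    change (𝟭 _ : (AlgSt.ofSp Z).obj ⥤ (AlgSt.ofSp Z).obj).Full
    infer_instance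
  have : (BasedFunctor.id (AlgSt.ofSp Z)).toFunctor.Faithful := by
    change (𝟭 _ : (AlgSt.ofSp Z).obj ⥤ (AlgSt.ofSp Z).obj).Faithful
    infer_instance
  have h2 := isEquivOver_fpMap (AlgSt.ofSpMap h) (FibCat.fpFst z f) (AlgSt.ofSpMap h)
    (AlgSt.ofSpMap a) (BasedFunctor.id _) E (BasedFunctor.id _) (Iso.refl _) ι.symm
    (isEquivOver_id _) hE
  have h3 := isEquivOver_pasteL f z (AlgSt.ofSpMap h)
  exact IsEquivOver.comp _ _ h1 (IsEquivOver.comp _ _ h2 h3)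


section Psh

variable {C : Type (u + 1)} [Category.{u} C] {P Q : Cᵒᵖ ⥤ Type (u + 1)}

/-- Maps of presheaves with isomorphic functors are equal. -/
theorem map_eq_of_iso (α β : P ⟶ Q) (i : Stk.ofPshMap α ≅ Stk.ofPshMap β) : α = β := by
  apply NatTrans.ext
  funext T
  ext s
  have := pshSec_eq_of_hom i.hom (⟨T.unop, s⟩ : (Stk.ofPsh P).obj)
  rw [pshSec_ofPshMap, pshSec_ofPshMap] at this
  exact this

theorem ofPshMap_comp {R : Cᵒᵖ ⥤ Type (u + 1)} (α : P ⟶ Q) (β : Q ⟶ R) :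
    Stk.ofPshMap (α ≫ β) = BasedFunctor.comp (Stk.ofPshMap α) (Stk.ofPshMap β) := rfl

theorem ofPshMap_id : Stk.ofPshMap (𝟙 P) = BasedFunctor.id (Stk.ofPsh P) := rfl

/-- An equivalence between the categories of two presheaves comes from an isomorphism. -/
theorem exists_iso_of_isEquivOver (Φ : Stk.ofPsh P ⥤ᵇ Stk.ofPsh Q) (hΦ : FibCat.IsEquivOver Φ) :
    ∃ τ : P ≅ Q, τ.hom = pshMapOf Φ := by
  obtain ⟨Ψ, -, ⟨η⟩, ⟨ε⟩⟩ := IsEquivOver.exists_inverse_isEquivOver' Φ hΦ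
  refine ⟨⟨pshMapOf Φ, pshMapOf Ψ, ?_, ?_⟩, rfl⟩
  · apply map_eq_of_iso
    rw [ofPshMap_comp, ofPshMap_id]
    exact ((whiskerRightIso (ofPshMapIso Φ) _).trans (whiskerLeftIso Φ (ofPshMapIso Ψ))).trans η
  · apply map_eq_of_iso
    rw [ofPshMap_comp, ofPshMap_id]
    exact ((whiskerRightIso (ofPshMapIso Ψ) _).trans (whiskerLeftIso Ψ (ofPshMapIso Φ))).trans ε

end Psh

end Groth.Agent.Lib.Seat59.LargestA
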