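-- helper59: the largest open substack on which a representable morphism has a property, part B:
-- membership in a subsheaf, and the shape of the base-change equivalence on objects.
import Mathlib
import Groth.Agent.Lib.Seat59LargestA
import Groth.Agent.S9874

set_option autoImplicit false
set_option backward.isDefEq.respectTransparency false
set_option backward.isDefEq.respectTransparency.types false
open CategoryTheory CategoryTheory.Functor CategoryTheory.Limits Opposite AlgebraicGeometry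

universe u

namespace Groth.Agent.Lib.Seat59.LargestB

open Groth.Agent.Lib.Helper17 Groth.Agent.Lib.Helper15PshFib Groth.Agent.Lib.Seat83.PshFp
  Groth.Agent.Lib.Seat59.LargestA

variable {S : Scheme.{u}} {𝒳 𝒴 : AlgSt.Cat S}

/-- An object of the category of the sheaf `X` comes from the sheaf `W`. -/
def InW {W X : AlgSp.Sp S} (w : W ⟶ X) (c : (AlgSt.ofSp X).obj) : Prop :=
  ∃ s : W.obj.obj (op c.base), w.hom.app (op c.base) s = c.sec

theorem inW_of_hom {W X : AlgSp.Sp S} (w : W ⟶ X) {c c' : (AlgSt.ofSp X).obj} (m : c ⟶ c')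
    (h : InW w c') : InW w c := by
  obtain ⟨s, hs⟩ := h
  refine ⟨W.obj.map m.hom.op s, ?_⟩
  have h1 := NatTrans.naturality_apply w.hom m.hom.op s
  rw [h1, hs]
  exact m.map_sec

theorem inW_obj {W X : AlgSp.Sp S} (w : W ⟶ X) (s : (AlgSt.ofSp W).obj) :
    InW w ((AlgSt.ofSpMap w).obj s) := ⟨s.sec, rfl⟩

theorem exists_iso_of_inW {W X : AlgSp.Sp S} (w : W ⟶ X) (c : (AlgSt.ofSp X).obj)
    (h : InW w c) : ∃ (s : W.obj.obj (op c.base))
      (i : (AlgSt.ofSpMap w).obj (⟨c.base, s⟩ : (AlgSt.ofSp W).obj) ≅ c),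
      (AlgSt.ofSp X).p.IsHomLift (𝟙 c.base) i.hom := by
  obtain ⟨s, hs⟩ := h
  have h1 : X.obj.map (𝟙 c.base).op c.sec = w.hom.app (op c.base) s := by
    rw [hs]
    simp
  have h2 : X.obj.map (𝟙 c.base).op (w.hom.app (op c.base) s) = c.sec := by
    rw [hs]
    simp
  let i : (AlgSt.ofSpMap w).obj (⟨c.base, s⟩ : (AlgSt.ofSp W).obj) ≅ c :=
    ⟨⟨𝟙 _, h1⟩, ⟨𝟙 _, h2⟩, Stk.EltObj.hom_ext (Category.id_comp _),
      Stk.EltObj.hom_ext (Category.id_comp _)⟩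
  exact ⟨s, i, IsHomLift.map (AlgSt.ofSp X).p i.hom⟩

theorem inW_iff {W X : AlgSp.Sp S} (w : W ⟶ X) (c : (AlgSt.ofSp X).obj) :
    InW w c ↔ ∃ s : (AlgSt.ofSp W).obj, Nonempty ((AlgSt.ofSpMap w).obj s ≅ c) := by
  constructor
  · rintro ⟨s, hs⟩
    refine ⟨⟨c.base, s⟩, ⟨⟨⟨𝟙 _, ?_⟩, ⟨𝟙 _, ?_⟩, ?_, ?_⟩⟩⟩
    · change X.obj.map (𝟙 c.base).op c.sec = w.hom.app (op c.base) s
      rw [hs]
      simp
    · change X.obj.map (𝟙 c.base).op (w.hom.app (op c.base) s) = c.sec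
      rw [hs]
      simp
    · apply Stk.EltObj.hom_ext
      exact Category.id_comp _
    · apply Stk.EltObj.hom_ext
      exact Category.id_comp _
  · rintro ⟨s, ⟨i⟩⟩
    exact inW_of_hom w i.inv (inW_obj w s)

/-- The value of the base-change equivalence at an object: its third component is the one of the
image of the second projection, up to the canonical identification of first components. -/
theorem pbEquiv_obj (f : 𝒳 ⥤ᵇ 𝒴) {Z Z' X : AlgSp.Sp S} (h : Z' ⟶ Z)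
    (z : AlgSt.ofSp Z ⥤ᵇ 𝒴) (a : X ⟶ Z) (E : AlgSt.ofSp X ⥤ᵇ FibCat.fp z f)
    (ι : BasedFunctor.comp E (FibCat.fpFst z f) ≅ AlgSt.ofSpMap a)
    (x : (AlgSt.ofSp (pullback h a)).obj) :
    ∃ j : (AlgSt.ofSpMap h).obj ((pbEquiv f h z a E ι).obj x).obj.fst ≅
        (E.obj ((AlgSt.ofSpMap (pullback.snd h a)).obj x)).obj.fst,
      z.map j.hom ≫ (E.obj ((AlgSt.ofSpMap (pullback.snd h a)).obj x)).obj.iso.hom =
        ((pbEquiv f h z a E ι).obj x).obj.iso.hom := by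
  let L := pbLift h.hom a.hom (pullback.fst h a).hom (pullback.snd h a).hom
      (by rw [← ObjectProperty.FullSubcategory.comp_hom, ← ObjectProperty.FullSubcategory.comp_hom,
        pullback.condition])
  refine ⟨(L.obj x).obj.iso ≪≫ bApp ι.symm ((AlgSt.ofSpMap (pullback.snd h a)).obj x), ?_⟩
  change z.map ((L.obj x).obj.iso.hom ≫ (bApp ι.symm _).hom) ≫ _ =
    z.map (𝟙 _ ≫ (L.obj x).obj.iso.hom ≫ (bApp ι.symm _).hom) ≫ _
  rw [Category.id_comp]
  rfl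

/-- The inverse images of the largest open subspace along the two projections of the double
fibre product agree: one inclusion. -/
theorem inW_of_inW_swap (P Q R : MorphismProperty (AlgSp.Sp S))
    (hPb : ∀ ⦃X₁ Y₁ X₂ Y₂ : AlgSp.Sp S⦄, AlgSp.IsAlgSpace X₁ → AlgSp.IsAlgSpace Y₁ →
      AlgSp.IsAlgSpace X₂ → AlgSp.IsAlgSpace Y₂ → ∀ (a : X₁ ⟶ Y₁) (b : Y₂ ⟶ Y₁) (a' : X₂ ⟶ Y₂)
      (b' : X₂ ⟶ X₁), IsPullback b' a' a b → P a → P a')
    (h₄ : ∀ (X Y X' Y' : AlgSp.Space S) (f : X ⟶ Y) (g : Y' ⟶ Y) (f' : X' ⟶ Y') (g' : X' ⟶ X),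
      IsPullback g'.hom f'.hom f.hom g.hom → Q f.hom → R g.hom →
      ∀ (W : AlgSp.Space S) (w : W ⟶ X), (AlgSp.RepWith @IsOpenImmersion w.hom ∧ P (w ≫ f).hom ∧
          ∀ (W₁ : AlgSp.Space S) (w₁ : W₁ ⟶ X), AlgSp.RepWith @IsOpenImmersion w₁.hom →
            P (w₁ ≫ f).hom → ∃ k : W₁ ⟶ W, k ≫ w = w₁) →
        ∀ (W' : AlgSp.Space S) (w' : W' ⟶ X') (k : W' ⟶ W), IsPullback k.hom w'.hom w.hom g'.hom →
          (AlgSp.RepWith @IsOpenImmersion w'.hom ∧ P (w' ≫ f').hom ∧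
          ∀ (W₁ : AlgSp.Space S) (w₁ : W₁ ⟶ X'), AlgSp.RepWith @IsOpenImmersion w₁.hom →
            P (w₁ ≫ f').hom → ∃ k : W₁ ⟶ W', k ≫ w' = w₁))
    (X YV V₂ : AlgSp.Space S) (a : X ⟶ YV) (q₁ q₂ : V₂ ⟶ YV) (hQa : Q a.hom) (hRq₁ : R q₁.hom)
    (W : AlgSp.Space S) (w : W ⟶ X)
    (hW : AlgSp.RepWith @IsOpenImmersion w.hom ∧ P (w ≫ a).hom ∧
          ∀ (W₁ : AlgSp.Space S) (w₁ : W₁ ⟶ X), AlgSp.RepWith @IsOpenImmersion w₁.hom →
            P (w₁ ≫ a).hom → ∃ k : W₁ ⟶ W, k ≫ w = w₁)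
    (τ : pullback q₁.hom a.hom ≅ pullback q₂.hom a.hom)
    (hτ : τ.hom ≫ pullback.fst q₂.hom a.hom = pullback.fst q₁.hom a.hom)
    (d : (AlgSt.ofSp (pullback q₁.hom a.hom)).obj)
    (hd : InW w.hom ((AlgSt.ofSpMap (τ.hom ≫ pullback.snd q₂.hom a.hom)).obj d)) :
    InW w.hom ((AlgSt.ofSpMap (pullback.snd q₁.hom a.hom)).obj d) := by
  obtain ⟨s, hs⟩ := hd
  have sq₁ := IsPullback.of_hasPullback q₁.hom a.hom
  have sq₂ := IsPullback.of_hasPullback q₂.hom a.hom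
  let X₁ : AlgSp.Space S := ⟨pullback q₁.hom a.hom,
    Groth.Agent.S9874.isAlgSpace_of_isPullback YV.property.diag V₂.property X.property sq₁⟩
  let fst₁ : X₁ ⟶ V₂ := ObjectProperty.homMk (pullback.fst q₁.hom a.hom)
  let snd₁ : X₁ ⟶ X := ObjectProperty.homMk (pullback.snd q₁.hom a.hom)
  let t : X₁.obj ⟶ X.obj := τ.hom ≫ pullback.snd q₂.hom a.hom
  have sqt : IsPullback (pullback.fst q₁.hom a.hom) t q₂.hom a.hom :=
    IsPullback.of_iso sq₂ τ.symm (Iso.refl _) (Iso.refl _) (Iso.refl _)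
      (by simp [← hτ]) (by simp [t]) (by simp) (by simp)
  have sqW₁ := IsPullback.of_hasPullback w.hom snd₁.hom
  let W₁ : AlgSp.Space S := ⟨pullback w.hom snd₁.hom,
    Groth.Agent.S9874.isAlgSpace_of_isPullback X.property.diag W.property X₁.property sqW₁⟩
  let w₁ : W₁ ⟶ X₁ := ObjectProperty.homMk (pullback.snd w.hom snd₁.hom)
  let k₁ : W₁ ⟶ W := ObjectProperty.homMk (pullback.fst w.hom snd₁.hom)
  have hmax := (h₄ X YV X₁ V₂ a q₁ fst₁ snd₁ sq₁.flip hQa hRq₁ W w hW W₁ w₁ k₁ sqW₁).2.2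
  have sqW₂ := IsPullback.of_hasPullback w.hom t
  let W₂ : AlgSp.Space S := ⟨pullback w.hom t,
    Groth.Agent.S9874.isAlgSpace_of_isPullback X.property.diag W.property X₁.property sqW₂⟩
  let w₂ : W₂ ⟶ X₁ := ObjectProperty.homMk (pullback.snd w.hom t)
  have hw₂ : AlgSp.RepWith @IsOpenImmersion w₂.hom :=
    MorphismProperty.of_isPullback (P := AlgSp.RepWith @IsOpenImmersion) sqW₂ hW.1
  have hP₂ : P (w₂ ≫ fst₁).hom :=
    hPb W.property YV.property W₂.property V₂.property (w ≫ a).hom q₂.hom (w₂ ≫ fst₁).hom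
      (pullback.fst w.hom t) (sqW₂.paste_vert sqt.flip) hW.2.1
  obtain ⟨k, hk⟩ := hmax W₂ w₂ hw₂ hP₂
  -- sections
  have sqW₂' : IsPullback (pullback.fst w.hom t).hom (pullback.snd w.hom t).hom w.hom.hom t.hom :=
    sqW₂.map (sheafToPresheaf (AlgSp.J S) (Type (u + 1)))
  obtain ⟨u₂, hu₂1, hu₂2⟩ := sec_exists w.hom.hom t.hom (pullback.fst w.hom t).hom
    (pullback.snd w.hom t).hom sqW₂' (op d.base) s d.sec hs
  refine ⟨(pullback.fst w.hom snd₁.hom).hom.app (op d.base) (k.hom.hom.app (op d.base) u₂), ?_⟩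
  have hc : (pullback.fst w.hom snd₁.hom).hom ≫ w.hom.hom =
      (pullback.snd w.hom snd₁.hom).hom ≫ snd₁.hom.hom := by
    rw [← ObjectProperty.FullSubcategory.comp_hom, ← ObjectProperty.FullSubcategory.comp_hom,
      pullback.condition]
  have h1 := app_comm w.hom.hom snd₁.hom.hom (pullback.fst w.hom snd₁.hom).hom
    (pullback.snd w.hom snd₁.hom).hom hc (op d.base) (k.hom.hom.app (op d.base) u₂)
  have h2 : (pullback.snd w.hom snd₁.hom).hom.app (op d.base) (k.hom.hom.app (op d.base) u₂) =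
      d.sec := by
    have := congrArg (fun m : W₂ ⟶ X₁ => m.hom.hom.app (op d.base) u₂) hk
    exact this.trans hu₂2
  change w.hom.hom.app (op d.base) _ = (pullback.snd q₁.hom a.hom).hom.app (op d.base) d.sec
  rw [h1, h2]
  rfl

end Groth.Agent.Lib.Seat59.LargestB
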