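-- helper59: the largest open substack on which a representable morphism has a property, part C:
-- the two projections of the double fibre product.
import Mathlib
import Groth.Agent.Lib.Seat59LargestB

set_option autoImplicit false
set_option backward.isDefEq.respectTransparency false
set_option backward.isDefEq.respectTransparency.types false
open CategoryTheory CategoryTheory.Functor CategoryTheory.Limits Opposite AlgebraicGeometry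

universe u

namespace Groth.Agent.Lib.Seat59.LargestC

open Groth.Agent.Lib.Helper17 Groth.Agent.Lib.Helper15PshFib Groth.Agent.Lib.Seat83.PshFp
  Groth.Agent.Lib.Seat59.LargestA Groth.Agent.Lib.Seat59.LargestB

variable {S : Scheme.{u}} {𝒳 𝒴 : AlgSt.Cat S}

section Kappa

variable {Y V2 : AlgSp.Sp S} (z₀ : AlgSt.ofSp Y ⥤ᵇ 𝒴) (q₁ q₂ : V2 ⟶ Y)
  (e₂ : AlgSt.ofSp V2 ⥤ᵇ FibCat.fp z₀ z₀)
  (ι₁ : BasedFunctor.comp e₂ (FibCat.fpFst z₀ z₀) ≅ AlgSt.ofSpMap q₁)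
  (ι₂ : BasedFunctor.comp e₂ (FibCat.fpSnd z₀ z₀) ≅ AlgSt.ofSpMap q₂)

/-- The 2-isomorphism between the two composites from the double fibre product to `𝒴`. -/
noncomputable def kappa :
    BasedFunctor.comp (BasedFunctor.comp (AlgSt.ofSpMap q₁) z₀) (BasedFunctor.id 𝒴) ≅
      BasedFunctor.comp (BasedFunctor.id (AlgSt.ofSp V2)) (BasedFunctor.comp (AlgSt.ofSpMap q₂) z₀) :=
  ((whiskerRightIso ι₁.symm z₀ : BasedFunctor.comp (AlgSt.ofSpMap q₁) z₀ ≅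
      BasedFunctor.comp e₂ (BasedFunctor.comp (FibCat.fpFst z₀ z₀) z₀)) ≪≫
    (whiskerLeftIso e₂ (FibCat.fpIso z₀ z₀) : _ ≅
      BasedFunctor.comp (BasedFunctor.comp e₂ (FibCat.fpSnd z₀ z₀)) z₀)) ≪≫
    whiskerRightIso ι₂ z₀

theorem kappa_app_hom (d : (AlgSt.ofSp V2).obj) :
    (bApp (kappa z₀ q₁ q₂ e₂ ι₁ ι₂) d).hom =
      z₀.map (bApp ι₁ d).inv ≫ (e₂.obj d).obj.iso.hom ≫ z₀.map (bApp ι₂ d).hom := by
  change (z₀.map (bApp ι₁ d).inv ≫ (e₂.obj d).obj.iso.hom) ≫ z₀.map (bApp ι₂ d).hom = _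
  rw [Category.assoc]

theorem kappa_app_inv (d : (AlgSt.ofSp V2).obj) :
    (bApp (kappa z₀ q₁ q₂ e₂ ι₁ ι₂) d).inv =
      z₀.map (bApp ι₂ d).inv ≫ (e₂.obj d).obj.iso.inv ≫ z₀.map (bApp ι₁ d).hom := by
  rw [← cancel_epi (bApp (kappa z₀ q₁ q₂ e₂ ι₁ ι₂) d).hom, Iso.hom_inv_id, kappa_app_hom]
  simp only [Category.assoc]
  rw [← z₀.toFunctor.map_comp_assoc, Iso.hom_inv_id, z₀.toFunctor.map_id, Category.id_comp,
    Iso.hom_inv_id_assoc, ← z₀.toFunctor.map_comp, Iso.inv_hom_id, z₀.toFunctor.map_id]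
  rfl

variable (f : 𝒳 ⥤ᵇ 𝒴)

/-- The change of projection on the fibre product with `f`. -/
noncomputable def swapM :
    FibCat.fp (BasedFunctor.comp (AlgSt.ofSpMap q₁) z₀) f ⥤ᵇ
      FibCat.fp (BasedFunctor.comp (AlgSt.ofSpMap q₂) z₀) f :=
  fpMap (BasedFunctor.comp (AlgSt.ofSpMap q₂) z₀) f (BasedFunctor.comp (AlgSt.ofSpMap q₁) z₀) f
    (BasedFunctor.id _) (BasedFunctor.id _) (BasedFunctor.id _) (kappa z₀ q₁ q₂ e₂ ι₁ ι₂)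
    (Iso.refl _)

theorem swapM_obj_iso_hom (o : (FibCat.fp (BasedFunctor.comp (AlgSt.ofSpMap q₁) z₀) f).obj) :
    ((swapM z₀ q₁ q₂ e₂ ι₁ ι₂ f).obj o).obj.iso.hom =
      (bApp (kappa z₀ q₁ q₂ e₂ ι₁ ι₂) o.obj.fst).inv ≫ o.obj.iso.hom := by
  change (bApp (kappa z₀ q₁ q₂ e₂ ι₁ ι₂) o.obj.fst).inv ≫ o.obj.iso.hom ≫ 𝟙 _ = _
  rw [Category.comp_id]

theorem isEquivOver_swapM : FibCat.IsEquivOver (swapM z₀ q₁ q₂ e₂ ι₁ ι₂ f) := by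
  have : (BasedFunctor.id 𝒴).toFunctor.Full := inferInstanceAs (𝟭 𝒴.obj).Full
  have : (BasedFunctor.id 𝒴).toFunctor.Faithful := inferInstanceAs (𝟭 𝒴.obj).Faithful
  exact isEquivOver_fpMap _ _ _ _ _ _ _ _ _ (isEquivOver_id _) (isEquivOver_id _)

end Kappa

section Tau

variable {Y V2 X : AlgSp.Sp S} (z₀ : AlgSt.ofSp Y ⥤ᵇ 𝒴) (q₁ q₂ : V2 ⟶ Y)
  (e₂ : AlgSt.ofSp V2 ⥤ᵇ FibCat.fp z₀ z₀)
  (ι₁ : BasedFunctor.comp e₂ (FibCat.fpFst z₀ z₀) ≅ AlgSt.ofSpMap q₁)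
  (ι₂ : BasedFunctor.comp e₂ (FibCat.fpSnd z₀ z₀) ≅ AlgSt.ofSpMap q₂)
  (f : 𝒳 ⥤ᵇ 𝒴) (a : X ⟶ Y) (E : AlgSt.ofSp X ⥤ᵇ FibCat.fp z₀ f)
  (ιa : BasedFunctor.comp E (FibCat.fpFst z₀ f) ≅ AlgSt.ofSpMap a)

/-- The isomorphism between the two base changes of `X` to the double fibre product. -/
theorem exists_tau (hE : FibCat.IsEquivOver E) :
    ∃ τ : pullback q₁ a ≅ pullback q₂ a, ∀ d : (AlgSt.ofSp (pullback q₁ a)).obj,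
      ∃ ρ : (pbEquiv f q₂ z₀ a E ιa).obj ((AlgSt.ofSpMap τ.hom).obj d) ≅
          (swapM z₀ q₁ q₂ e₂ ι₁ ι₂ f).obj ((pbEquiv f q₁ z₀ a E ιa).obj d),
        (FibCat.fp (BasedFunctor.comp (AlgSt.ofSpMap q₂) z₀) f).p.IsHomLift (𝟙 d.base) ρ.hom := by
  have hΦ₁ := isEquivOver_pbEquiv f q₁ z₀ a E hE ιa
  have hΦ₂ := isEquivOver_pbEquiv f q₂ z₀ a E hE ιa
  have hM := isEquivOver_swapM z₀ q₁ q₂ e₂ ι₁ ι₂ f
  obtain ⟨Φ₂', hΦ₂', -, ⟨ε⟩⟩ := IsEquivOver.exists_inverse_isEquivOver' _ hΦ₂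
  obtain ⟨Ω, hΩdef⟩ : ∃ Ω : AlgSt.ofSp (pullback q₁ a) ⥤ᵇ AlgSt.ofSp (pullback q₂ a),
      Ω = BasedFunctor.comp (pbEquiv f q₁ z₀ a E ιa)
        (BasedFunctor.comp (swapM z₀ q₁ q₂ e₂ ι₁ ι₂ f) Φ₂') := ⟨_, rfl⟩
  have hΩ : FibCat.IsEquivOver Ω := by
    rw [hΩdef]
    exact IsEquivOver.comp _ _ hΦ₁ (IsEquivOver.comp _ _ hM hΦ₂')
  obtain ⟨τ₀, hτ₀⟩ := exists_iso_of_isEquivOver Ω hΩ
  refine ⟨ObjectProperty.isoMk _ τ₀, fun d => ?_⟩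
  obtain ⟨i₁, hi₁⟩ : ∃ i₁ : (Stk.ofPshMap τ₀.hom).obj d ≅ Ω.obj d,
      (AlgSt.ofSp (pullback q₂ a)).p.IsHomLift (𝟙 d.base) i₁.hom := by
    rw [hτ₀]
    exact ⟨bApp (ofPshMapIso Ω) d, bApp_isHomLift (ofPshMapIso Ω) d⟩
  subst hΩdef
  refine ⟨(pbEquiv f q₂ z₀ a E ιa).toFunctor.mapIso i₁ ≪≫
    bApp ε ((swapM z₀ q₁ q₂ e₂ ι₁ ι₂ f).obj ((pbEquiv f q₁ z₀ a E ιa).obj d)), ?_⟩
  have h1 : (FibCat.fp (BasedFunctor.comp (AlgSt.ofSpMap q₂) z₀) f).p.IsHomLift (𝟙 d.base)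
      ((pbEquiv f q₂ z₀ a E ιa).map i₁.hom) :=
    BasedFunctor.preserves_isHomLift _ _ i₁.hom
  have h2 : (FibCat.fp (BasedFunctor.comp (AlgSt.ofSpMap q₂) z₀) f).p.IsHomLift (𝟙 d.base)
      (bApp ε ((swapM z₀ q₁ q₂ e₂ ι₁ ι₂ f).obj ((pbEquiv f q₁ z₀ a E ιa).obj d))).hom :=
    bApp_isHomLift ε ((swapM z₀ q₁ q₂ e₂ ι₁ ι₂ f).obj ((pbEquiv f q₁ z₀ a E ιa).obj d))
  exact isHomLift_id_comp _ _ _ _ h1 h2

/-- A morphism of the category of a presheaf between objects with the same base which lies over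
the identity has equal sections. -/
theorem sec_eq_of_isHomLift_id {P : (Over S)ᵒᵖ ⥤ Type (u + 1)} {T : Over S}
    {x y : P.obj (op T)} (m : (⟨T, x⟩ : (Stk.ofPsh P).obj) ⟶ ⟨T, y⟩)
    (hm : (Stk.ofPsh P).p.IsHomLift (𝟙 T) m) : x = y := by
  have h1 : 𝟙 T = m.hom :=
    IsHomLift.eq_of_isHomLift (Stk.ofPsh P).p (a := (⟨T, x⟩ : (Stk.ofPsh P).obj))
      (b := (⟨T, y⟩ : (Stk.ofPsh P).obj)) (𝟙 T) m
  have h2 := m.map_sec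
  rw [← h1] at h2
  change P.map (𝟙 T).op y = x at h2
  rw [← h2]
  simp

/-- The isomorphism `τ` is compatible with the projections to the double fibre product. -/
theorem tau_fst (τ : pullback q₁ a ≅ pullback q₂ a)
    (hτ : ∀ d : (AlgSt.ofSp (pullback q₁ a)).obj,
      ∃ ρ : (pbEquiv f q₂ z₀ a E ιa).obj ((AlgSt.ofSpMap τ.hom).obj d) ≅
          (swapM z₀ q₁ q₂ e₂ ι₁ ι₂ f).obj ((pbEquiv f q₁ z₀ a E ιa).obj d),
        (FibCat.fp (BasedFunctor.comp (AlgSt.ofSpMap q₂) z₀) f).p.IsHomLift (𝟙 d.base) ρ.hom) :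
    τ.hom ≫ pullback.fst q₂ a = pullback.fst q₁ a := by
  apply ObjectProperty.hom_ext
  apply NatTrans.ext
  funext T
  ext s
  obtain ⟨ρ, hρ⟩ := hτ ⟨T.unop, s⟩
  rw [fp_isHomLift_iff] at hρ
  exact sec_eq_of_isHomLift_id (P := V2.obj) (T := T.unop)
    (x := (pullback.fst q₂ a).hom.app T (τ.hom.hom.app T s))
    (y := (pullback.fst q₁ a).hom.app T s) ρ.hom.hom.fst hρ

end Tau

end Groth.Agent.Lib.Seat59.LargestC
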