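-- helper59: the largest open substack on which a representable morphism has a property, part D:
-- the largest open subspace of the chart is saturated for the projection to the stack.
import Mathlib
import Groth.Agent.Lib.Seat59LargestC

set_option autoImplicit false
set_option backward.isDefEq.respectTransparency false
set_option backward.isDefEq.respectTransparency.types false
open CategoryTheory CategoryTheory.Functor CategoryTheory.Limits Opposite AlgebraicGeometry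

universe u

namespace Groth.Agent.Lib.Seat59.LargestD

open Groth.Agent.Lib.Helper17 Groth.Agent.Lib.Helper15PshFib Groth.Agent.Lib.Seat83.PshFp
  Groth.Agent.Lib.Seat59.LargestA Groth.Agent.Lib.Seat59.LargestB Groth.Agent.Lib.Seat59.LargestC

variable {S : Scheme.{u}} {𝒳 𝒴 : AlgSt.Cat S}

/-- Constructor for isomorphisms in a 2-fibre product. -/
def fpIsoOf {𝒜 ℬ 𝒞 : AlgSt.Cat S} {F : 𝒜 ⥤ᵇ 𝒞} {G : ℬ ⥤ᵇ 𝒞} {x y : (FibCat.fp F G).obj}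
    (eₗ : x.obj.fst ≅ y.obj.fst) (eᵣ : x.obj.snd ≅ y.obj.snd)
    (w : F.map eₗ.hom ≫ y.obj.iso.hom = x.obj.iso.hom ≫ G.map eᵣ.hom) : x ≅ y :=
  ObjectProperty.isoMk _ (CategoricalPullback.mkIso eₗ eᵣ w)

theorem aux_chase₁ {D : Type*} [Category D] {A B C' A' B' B'' : D} (zj : A ≅ B) (u : A ⟶ C')
    (zj₁ : C' ⟶ A') (α : A' ⟶ B'') (ei : B ⟶ B') (fi : B' ⟶ B'') (Φi : A ⟶ B')
    (hj : zj.hom ≫ ei = Φi) (hμ : u ≫ zj₁ ≫ α = Φi ≫ fi) :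
    (zj.inv ≫ u ≫ zj₁) ≫ α = ei ≫ fi := by
  rw [← hj] at hμ
  simp only [Category.assoc] at hμ ⊢
  rw [hμ, Iso.inv_hom_id_assoc]

/-- The largest open subspace of the chart `X = V ×_𝒴 𝒳` on which the projection to `V` has `P`
is saturated for the projection to `𝒳`. -/
theorem saturated (P Q R : MorphismProperty (AlgSp.Sp S))
    (hPb : ∀ ⦃X₁ Y₁ X₂ Y₂ : AlgSp.Sp S⦄, AlgSp.IsAlgSpace X₁ → AlgSp.IsAlgSpace Y₁ →
      AlgSp.IsAlgSpace X₂ → AlgSp.IsAlgSpace Y₂ → ∀ (a : X₁ ⟶ Y₁) (b : Y₂ ⟶ Y₁) (a' : X₂ ⟶ Y₂)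
      (b' : X₂ ⟶ X₁), IsPullback b' a' a b → P a → P a')
    (h₄ : ∀ (X Y X' Y' : AlgSp.Space S) (f : X ⟶ Y) (g : Y' ⟶ Y) (f' : X' ⟶ Y') (g' : X' ⟶ X),
      IsPullback g'.hom f'.hom f.hom g.hom → Q f.hom → R g.hom →
      ∀ (W : AlgSp.Space S) (w : W ⟶ X), (AlgSp.RepWith @IsOpenImmersion w.hom ∧ P (w ≫ f).hom ∧
          ∀ (W₁ : AlgSp.Space S) (w₁ : W₁ ⟶ X), AlgSp.RepWith @IsOpenImmersion w₁.hom →
            P (w₁ ≫ f).hom → ∃ k : W₁ ⟶ W, k ≫ w = w₁) →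
        ∀ (W' : AlgSp.Space S) (w' : W' ⟶ X') (k : W' ⟶ W), IsPullback k.hom w'.hom w.hom g'.hom →
          (AlgSp.RepWith @IsOpenImmersion w'.hom ∧ P (w' ≫ f').hom ∧
          ∀ (W₁ : AlgSp.Space S) (w₁ : W₁ ⟶ X'), AlgSp.RepWith @IsOpenImmersion w₁.hom →
            P (w₁ ≫ f').hom → ∃ k : W₁ ⟶ W', k ≫ w' = w₁))
    (f : 𝒳 ⥤ᵇ 𝒴) (X YV V₂ : AlgSp.Space S) (a : X ⟶ YV) (q₁ q₂ : V₂ ⟶ YV)
    (z₀ : AlgSt.ofSp YV.obj ⥤ᵇ 𝒴)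
    (E : AlgSt.ofSp X.obj ⥤ᵇ FibCat.fp z₀ f) (hE : FibCat.IsEquivOver E)
    (ιa : BasedFunctor.comp E (FibCat.fpFst z₀ f) ≅ AlgSt.ofSpMap a.hom)
    (e₂ : AlgSt.ofSp V₂.obj ⥤ᵇ FibCat.fp z₀ z₀) (he₂ : FibCat.IsEquivOver e₂)
    (ι₁ : BasedFunctor.comp e₂ (FibCat.fpFst z₀ z₀) ≅ AlgSt.ofSpMap q₁.hom)
    (ι₂ : BasedFunctor.comp e₂ (FibCat.fpSnd z₀ z₀) ≅ AlgSt.ofSpMap q₂.hom)
    (hQa : Q a.hom) (hRq₁ : R q₁.hom)
    (W : AlgSp.Space S) (w : W ⟶ X)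
    (hW : AlgSp.RepWith @IsOpenImmersion w.hom ∧ P (w ≫ a).hom ∧
          ∀ (W₁ : AlgSp.Space S) (w₁ : W₁ ⟶ X), AlgSp.RepWith @IsOpenImmersion w₁.hom →
            P (w₁ ≫ a).hom → ∃ k : W₁ ⟶ W, k ≫ w = w₁)
    (c₁ c₂ : (AlgSt.ofSp X.obj).obj) (θ : (E.obj c₁).obj.snd ≅ (E.obj c₂).obj.snd)
    (hθ : 𝒳.p.IsHomLift (𝟙 c₁.base) θ.hom) (h2 : InW w.hom c₂) : InW w.hom c₁ := by
  have hEq := IsEquivOver.isEquivalence E hE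
  obtain ⟨τ, hτ⟩ := exists_tau z₀ q₁.hom q₂.hom e₂ ι₁ ι₂ f a.hom E ιa hE
  have hτ1 := tau_fst z₀ q₁.hom q₂.hom e₂ ι₁ ι₂ f a.hom E ιa τ hτ
  have hb₁ : (E.obj c₁).obj.fst.base = c₁.base := E.w_obj c₁
  have hb₂ : (E.obj c₂).obj.fst.base = c₂.base := E.w_obj c₂
  have hc : c₂.base = c₁.base := by
    have h1 := IsHomLift.codomain_eq 𝒳.p (𝟙 c₁.base) θ.hom
    have h3 := fp_snd_obj z₀ f (E.obj c₂)
    exact (hb₂.symm.trans h3.symm).trans h1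
  -- the isomorphism between the images of the two first components
  let ψ : z₀.obj (E.obj c₁).obj.fst ≅ z₀.obj (E.obj c₂).obj.fst :=
    (E.obj c₁).obj.iso ≪≫ f.toFunctor.mapIso θ ≪≫ (E.obj c₂).obj.iso.symm
  have hψ : 𝒴.p.IsHomLift (𝟙 (E.obj c₁).obj.fst.base) ψ.hom := by
    have k1 : 𝒴.p.IsHomLift (𝟙 (E.obj c₁).obj.fst.base) (E.obj c₁).obj.iso.hom :=
      (E.obj c₁).property
    have k2 : 𝒴.p.IsHomLift (𝟙 (E.obj c₁).obj.fst.base) (f.map θ.hom) :=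
      isHomLift_id_of_eq 𝒴.p hb₁.symm _ (hφ := BasedFunctor.preserves_isHomLift f _ θ.hom)
    have k3' : 𝒴.p.IsHomLift (𝟙 (E.obj c₂).obj.fst.base) (E.obj c₂).obj.iso.hom :=
      (E.obj c₂).property
    have k3 : 𝒴.p.IsHomLift (𝟙 (E.obj c₁).obj.fst.base) (E.obj c₂).obj.iso.inv :=
      isHomLift_id_of_eq 𝒴.p ((hb₂.trans hc).trans hb₁.symm) _
        (hφ := IsHomLift.lift_id_inv 𝒴.p _ (E.obj c₂).obj.iso)
    exact isHomLift_id_comp _ _ _ _ k1 (isHomLift_id_comp _ _ _ _ k2 k3)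
  let oV : (FibCat.fp z₀ z₀).obj := ⟨⟨(E.obj c₁).obj.fst, (E.obj c₂).obj.fst, ψ⟩, hψ⟩
  obtain ⟨dV, lam, hlam⟩ := IsEquivOver.essSurjOver e₂ he₂ oV
  have hdV : dV.base = (E.obj c₁).obj.fst.base := by
    have h1 := IsHomLift.domain_eq (FibCat.fp z₀ z₀).p (𝟙 ((FibCat.fp z₀ z₀).p.obj oV)) lam.hom
    exact (e₂.w_obj dV).symm.trans h1
  let j₁ : (AlgSt.ofSpMap q₁.hom).obj dV ≅ (E.obj c₁).obj.fst :=
    (bApp ι₁ dV).symm ≪≫ (FibCat.fpFst z₀ z₀).toFunctor.mapIso lam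
  let j₂ : (AlgSt.ofSpMap q₂.hom).obj dV ≅ (E.obj c₂).obj.fst :=
    (bApp ι₂ dV).symm ≪≫ (FibCat.fpSnd z₀ z₀).toFunctor.mapIso lam
  have hkey : (bApp (kappa z₀ q₁.hom q₂.hom e₂ ι₁ ι₂) dV).inv ≫ z₀.map j₁.hom =
      z₀.map j₂.hom ≫ ψ.inv := by
    have hw : z₀.map lam.hom.hom.fst ≫ ψ.hom =
        (e₂.obj dV).obj.iso.hom ≫ z₀.map lam.hom.hom.snd := lam.hom.hom.w
    have hw' : (e₂.obj dV).obj.iso.inv ≫ z₀.map lam.hom.hom.fst =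
        z₀.map lam.hom.hom.snd ≫ ψ.inv := by
      rw [Iso.inv_comp_eq, ← Category.assoc, Iso.eq_comp_inv]
      exact hw
    rw [kappa_app_inv]
    change (z₀.map (bApp ι₂ dV).inv ≫ (e₂.obj dV).obj.iso.inv ≫ z₀.map (bApp ι₁ dV).hom) ≫
      z₀.map ((bApp ι₁ dV).inv ≫ lam.hom.hom.fst) =
      z₀.map ((bApp ι₂ dV).inv ≫ lam.hom.hom.snd) ≫ ψ.inv
    rw [z₀.toFunctor.map_comp, z₀.toFunctor.map_comp]
    simp only [Category.assoc]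
    rw [← z₀.toFunctor.map_comp_assoc (bApp ι₁ dV).hom, Iso.hom_inv_id, z₀.toFunctor.map_id,
      Category.id_comp, hw']
  -- the object of the fibre product over the double fibre product
  have ho : 𝒴.p.IsHomLift (𝟙 dV.base) (z₀.map j₁.hom ≫ (E.obj c₁).obj.iso.hom) := by
    have k1 : (AlgSt.ofSp YV.obj).p.IsHomLift (𝟙 dV.base) (bApp ι₁ dV).inv :=
      bApp_inv_isHomLift ι₁ dV
    have hlam' : (FibCat.fp z₀ z₀).p.IsHomLift (𝟙 (E.obj c₁).obj.fst.base) lam.hom := hlam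
    have k2 : (AlgSt.ofSp YV.obj).p.IsHomLift (𝟙 dV.base)
        ((FibCat.fpFst z₀ z₀).map lam.hom) :=
      isHomLift_id_of_eq _ hdV.symm _
        (hφ := BasedFunctor.preserves_isHomLift (FibCat.fpFst z₀ z₀) _ lam.hom)
    have k3 : (AlgSt.ofSp YV.obj).p.IsHomLift (𝟙 dV.base) j₁.hom :=
      isHomLift_id_comp _ _ _ _ k1 k2
    have k4 : 𝒴.p.IsHomLift (𝟙 dV.base) (z₀.map j₁.hom) :=
      BasedFunctor.preserves_isHomLift z₀ _ j₁.hom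
    have k5 : 𝒴.p.IsHomLift (𝟙 dV.base) (E.obj c₁).obj.iso.hom :=
      isHomLift_id_of_eq 𝒴.p hdV.symm _ (hφ := (E.obj c₁).property)
    exact isHomLift_id_comp _ _ _ _ k4 k5
  let o : (FibCat.fp (BasedFunctor.comp (AlgSt.ofSpMap q₁.hom) z₀) f).obj :=
    ⟨⟨dV, (E.obj c₁).obj.snd, z₀.toFunctor.mapIso j₁ ≪≫ (E.obj c₁).obj.iso⟩, ho⟩
  obtain ⟨d, μ, hμ⟩ := IsEquivOver.essSurjOver _
    (isEquivOver_pbEquiv f q₁.hom z₀ a.hom E hE ιa) o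
  obtain ⟨ρ, hρ⟩ := hτ d
  -- first comparison
  obtain ⟨j, hj⟩ := pbEquiv_obj f q₁.hom z₀ a.hom E ιa d
  have I₁ : E.obj ((AlgSt.ofSpMap (pullback.snd q₁.hom a.hom)).obj d) ≅ E.obj c₁ := by
    refine fpIsoOf (j.symm ≪≫ (AlgSt.ofSpMap q₁.hom).toFunctor.mapIso
      ((FibCat.fpFst (BasedFunctor.comp (AlgSt.ofSpMap q₁.hom) z₀) f).toFunctor.mapIso μ) ≪≫ j₁)
      ((FibCat.fpSnd (BasedFunctor.comp (AlgSt.ofSpMap q₁.hom) z₀) f).toFunctor.mapIso μ) ?_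
    have hμw : z₀.map ((AlgSt.ofSpMap q₁.hom).map μ.hom.hom.fst) ≫
        z₀.map j₁.hom ≫ (E.obj c₁).obj.iso.hom =
        ((pbEquiv f q₁.hom z₀ a.hom E ιa).obj d).obj.iso.hom ≫ f.map μ.hom.hom.snd :=
      μ.hom.hom.w
    change z₀.map (j.inv ≫ (AlgSt.ofSpMap q₁.hom).map μ.hom.hom.fst ≫ j₁.hom) ≫ _ =
      _ ≫ f.map μ.hom.hom.snd
    rw [z₀.toFunctor.map_comp, z₀.toFunctor.map_comp]
    exact aux_chase₁ (z₀.toFunctor.mapIso j) _ _ _ _ _ _ hj hμw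
  -- second comparison
  obtain ⟨j', hj'⟩ := pbEquiv_obj f q₂.hom z₀ a.hom E ιa ((AlgSt.ofSpMap τ.hom).obj d)
  have I₂ : E.obj ((AlgSt.ofSpMap (pullback.snd q₂.hom a.hom)).obj
      ((AlgSt.ofSpMap τ.hom).obj d)) ≅ E.obj c₂ := by
    let ν := ρ ≪≫ (swapM z₀ q₁.hom q₂.hom e₂ ι₁ ι₂ f).toFunctor.mapIso μ
    have hνw : z₀.map ((AlgSt.ofSpMap q₂.hom).map ν.hom.hom.fst) ≫
        ((swapM z₀ q₁.hom q₂.hom e₂ ι₁ ι₂ f).obj o).obj.iso.hom =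
        ((pbEquiv f q₂.hom z₀ a.hom E ιa).obj ((AlgSt.ofSpMap τ.hom).obj d)).obj.iso.hom ≫
          f.map ν.hom.hom.snd := ν.hom.hom.w
    have hMo : ((swapM z₀ q₁.hom q₂.hom e₂ ι₁ ι₂ f).obj o).obj.iso.hom ≫ f.map θ.hom =
        z₀.map j₂.hom ≫ (E.obj c₂).obj.iso.hom := by
      rw [swapM_obj_iso_hom]
      change ((bApp (kappa z₀ q₁.hom q₂.hom e₂ ι₁ ι₂) dV).inv ≫
        z₀.map j₁.hom ≫ (E.obj c₁).obj.iso.hom) ≫ f.map θ.hom = _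
      rw [← Category.assoc (bApp (kappa z₀ q₁.hom q₂.hom e₂ ι₁ ι₂) dV).inv, hkey]
      simp [ψ]
    refine fpIsoOf (j'.symm ≪≫ (AlgSt.ofSpMap q₂.hom).toFunctor.mapIso
      ((FibCat.fpFst (BasedFunctor.comp (AlgSt.ofSpMap q₂.hom) z₀) f).toFunctor.mapIso ν) ≪≫ j₂)
      ((FibCat.fpSnd (BasedFunctor.comp (AlgSt.ofSpMap q₂.hom) z₀) f).toFunctor.mapIso ν ≪≫ θ) ?_
    change z₀.map (j'.inv ≫ (AlgSt.ofSpMap q₂.hom).map ν.hom.hom.fst ≫ j₂.hom) ≫ _ =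
      _ ≫ f.map (ν.hom.hom.snd ≫ θ.hom)
    rw [z₀.toFunctor.map_comp, z₀.toFunctor.map_comp]
    refine aux_chase₁ (z₀.toFunctor.mapIso j') _ _ _ _ _ _ hj' ?_
    rw [← hMo, ← Category.assoc, hνw, Category.assoc, ← f.toFunctor.map_comp]
  -- conclusion
  let i₁ := E.toFunctor.preimageIso I₁
  let i₂ := E.toFunctor.preimageIso I₂
  have h3 : InW w.hom ((AlgSt.ofSpMap (τ.hom ≫ pullback.snd q₂.hom a.hom)).obj d) :=
    inW_of_hom w.hom i₂.hom h2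
  have h4 := inW_of_inW_swap P Q R hPb h₄ X YV V₂ a q₁ q₂ hQa hRq₁ W w hW τ hτ1 d h3
  exact inW_of_hom w.hom i₁.inv h4

end Groth.Agent.Lib.Seat59.LargestD
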