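-- helper59: the largest open substack on which a representable morphism has a property, part E:
-- restriction of objects of a chart, saturation along arbitrary morphisms, points.
import Mathlib
import Groth.Agent.Lib.Seat59LargestD
import Groth.Agent.Lib.Seat59OpenSubF
import Groth.Agent.Lib.Helper15PtsComp
import Groth.Agent.S10194

set_option autoImplicit false
set_option backward.isDefEq.respectTransparency false
set_option backward.isDefEq.respectTransparency.types false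
open CategoryTheory CategoryTheory.Functor CategoryTheory.Limits Opposite AlgebraicGeometry

universe u

namespace Groth.Agent.Lib.Seat59.LargestE

open Groth.Agent.Lib.Helper17 Groth.Agent.Lib.Helper15PshFib Groth.Agent.Lib.Seat83.PshFp
  Groth.Agent.Lib.Seat59.LargestA Groth.Agent.Lib.Seat59.LargestB Groth.Agent.Lib.Seat59.LargestC
  Groth.Agent.Lib.Seat59.LargestD

variable {S : Scheme.{u}} {𝒳 𝒴 : AlgSt.Cat S}

/-- Restriction of an object of the category of a sheaf along a morphism of the target of a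
functor. -/
theorem exists_restriction (hfib : FibCat.IsFibGrpd 𝒳.p) {X : AlgSp.Sp S}
    (π : AlgSt.ofSp X ⥤ᵇ 𝒳) (c : (AlgSt.ofSp X).obj) (r : 𝒳.obj) (m : r ⟶ π.obj c) :
    ∃ (s : X.obj.obj (op (𝒳.p.obj r)))
      (ρ : (⟨𝒳.p.obj r, s⟩ : (AlgSt.ofSp X).obj) ⟶ c)
      (e : π.obj (⟨𝒳.p.obj r, s⟩ : (AlgSt.ofSp X).obj) ≅ r),
      𝒳.p.IsHomLift (𝟙 (𝒳.p.obj r)) e.hom ∧ e.hom ≫ m = π.map ρ := by
  have hb : 𝒳.p.obj (π.obj c) = c.base := π.w_obj c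
  let g : 𝒳.p.obj r ⟶ c.base := 𝒳.p.map m ≫ eqToHom hb
  let ρ : (⟨𝒳.p.obj r, X.obj.map g.op c.sec⟩ : (AlgSt.ofSp X).obj) ⟶ c := ⟨g, rfl⟩
  have h1 : (AlgSt.ofSp X).p.IsHomLift g ρ := IsHomLift.map (AlgSt.ofSp X).p ρ
  have h2 : 𝒳.p.IsHomLift g (π.map ρ) := BasedFunctor.preserves_isHomLift π g ρ
  have h3 : 𝒳.p.IsHomLift g m := by
    apply IsHomLift.of_fac' 𝒳.p g m rfl hb
    simp [g]
  obtain ⟨e, he1, he2⟩ := IsFibGrpd.exists_iso_of_lifts hfib g (π.map ρ) m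
  exact ⟨_, ρ, e, he1, he2⟩

/-- Saturation along arbitrary morphisms of the stack. -/
theorem saturated' (hfib : FibCat.IsFibGrpd 𝒳.p) (P Q R : MorphismProperty (AlgSp.Sp S))
    (hPb : ∀ ⦃X₁ Y₁ X₂ Y₂ : AlgSp.Sp S⦄, AlgSp.IsAlgSpace X₁ → AlgSp.IsAlgSpace Y₁ →
      AlgSp.IsAlgSpace X₂ → AlgSp.IsAlgSpace Y₂ → ∀ (a : X₁ ⟶ Y₁) (b : Y₂ ⟶ Y₁) (a' : X₂ ⟶ Y₂)
      (b' : X₂ ⟶ X₁), IsPullback b' a' a b → P a → P a')
    (h₄ : ∀ (X Y X' Y' : AlgSp.Space S) (f : X ⟶ Y) (g : Y' ⟶ Y) (f' : X' ⟶ Y') (g' : X' ⟶ X),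
      IsPullback g'.hom f'.hom f.hom g.hom → Q f.hom → R g.hom →
      ∀ (W : AlgSp.Space S) (w : W ⟶ X), (AlgSp.RepWith @IsOpenImmersion w.hom ∧ P (w ≫ f).hom ∧
          ∀ (W₁ : AlgSp.Space S) (w₁ : W₁ ⟶ X), AlgSp.RepWith @IsOpenImmersion w₁.hom →
            P (w₁ ≫ f).hom → ∃ k : W₁ ⟶ W, k ≫ w = w₁) →
        ∀ (W' : AlgSp.Space S) (w' : W' ⟶ X') (k : W' ⟶ W), IsPullback k.hom w'.hom w.hom g'.hom →
          (AlgSp.RepWith @IsOpenImmersion w'.hom ∧ P (w' ≫ f').hom ∧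
          ∀ (W₁ : AlgSp.Space S) (w₁ : W₁ ⟶ X'), AlgSp.RepWith @IsOpenImmersion w₁.hom →
            P (w₁ ≫ f').hom → ∃ k : W₁ ⟶ W', k ≫ w' = w₁))
    (f : 𝒳 ⥤ᵇ 𝒴) (X YV V₂ : AlgSp.Space S) (a : X ⟶ YV) (q₁ q₂ : V₂ ⟶ YV)
    (z₀ : AlgSt.ofSp YV.obj ⥤ᵇ 𝒴)
    (E : AlgSt.ofSp X.obj ⥤ᵇ FibCat.fp z₀ f) (hE : FibCat.IsEquivOver E)
    (ιa : BasedFunctor.comp E (FibCat.fpFst z₀ f) ≅ AlgSt.ofSpMap a.hom)
    (e₂ : AlgSt.ofSp V₂.obj ⥤ᵇ FibCat.fp z₀ z₀) (he₂ : FibCat.IsEquivOver e₂)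
    (ι₁ : BasedFunctor.comp e₂ (FibCat.fpFst z₀ z₀) ≅ AlgSt.ofSpMap q₁.hom)
    (ι₂ : BasedFunctor.comp e₂ (FibCat.fpSnd z₀ z₀) ≅ AlgSt.ofSpMap q₂.hom)
    (hQa : Q a.hom) (hRq₁ : R q₁.hom)
    (W : AlgSp.Space S) (w : W ⟶ X)
    (hW : AlgSp.RepWith @IsOpenImmersion w.hom ∧ P (w ≫ a).hom ∧
          ∀ (W₁ : AlgSp.Space S) (w₁ : W₁ ⟶ X), AlgSp.RepWith @IsOpenImmersion w₁.hom →
            P (w₁ ≫ a).hom → ∃ k : W₁ ⟶ W, k ≫ w = w₁)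
    (c₁ c₂ : (AlgSt.ofSp X.obj).obj)
    (m : (BasedFunctor.comp E (FibCat.fpSnd z₀ f)).obj c₁ ⟶
      (BasedFunctor.comp E (FibCat.fpSnd z₀ f)).obj c₂) (h2 : InW w.hom c₂) :
    InW w.hom c₁ := by
  obtain ⟨s, ρ, e, he1, he2⟩ := exists_restriction hfib
    (BasedFunctor.comp E (FibCat.fpSnd z₀ f)) c₂ _ m
  have hbase : 𝒳.p.obj ((BasedFunctor.comp E (FibCat.fpSnd z₀ f)).obj c₁) = c₁.base :=
    (BasedFunctor.comp E (FibCat.fpSnd z₀ f)).w_obj c₁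
  have hθ : 𝒳.p.IsHomLift (𝟙 c₁.base) e.symm.hom :=
    isHomLift_id_of_eq 𝒳.p hbase _ (hφ := IsHomLift.lift_id_inv 𝒳.p _ e)
  exact saturated P Q R hPb h₄ f X YV V₂ a q₁ q₂ z₀ E hE ιa e₂ he₂ ι₁ ι₂ hQa hRq₁ W w hW c₁ _
    e.symm hθ (inW_of_hom w.hom ρ h2)

section Points

open Groth.Agent.Lib.Seat59.OpenSubA Groth.Agent.Lib.Seat59.OpenSubE
  Groth.Agent.Lib.Helper15PtsComp

variable (hfib : FibCat.IsFibGrpd 𝒳.p) {X W : AlgSp.Sp S} (w : W ⟶ X)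
  (π : AlgSt.ofSp X ⥤ᵇ 𝒳)
  (hsat : ∀ (c₁ c₂ : (AlgSt.ofSp X).obj) (_ : π.obj c₁ ⟶ π.obj c₂), InW w c₂ → InW w c₁)

include hfib hsat in
/-- A field-valued point of the chart whose image lies in the image of `W` lies in `W`. -/
theorem mk_mem_range_of_qW (p₁ : AlgSt.FPt (AlgSt.ofSp X))
    (hq : QW (Set.range (AlgSt.Points.map (BasedFunctor.comp (AlgSt.ofSpMap w) π)))
      (π.obj p₁.obj)) :
    AlgSt.Points.mk p₁ ∈ Set.range (AlgSt.Points.map (AlgSt.ofSpMap w)) := by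
  obtain ⟨ζ, hζ⟩ := hq (p₁.map π) ⟨𝟙 _⟩
  obtain ⟨q', rfl⟩ := AlgSt.Points.mk_surjective ζ
  obtain ⟨r, m₁, m₂, -⟩ := fpt_rel_of_mk_eq hfib hζ
  obtain ⟨s, ρ, e, -, -⟩ := exists_restriction hfib π p₁.obj r.obj m₂
  have h3 : InW w (⟨𝒳.p.obj r.obj, s⟩ : (AlgSt.ofSp X).obj) :=
    hsat _ ((AlgSt.ofSpMap w).obj q'.obj) (e.hom ≫ m₁) (inW_obj w q'.obj)
  obtain ⟨s', i, -⟩ := exists_iso_of_inW w _ h3
  let q : AlgSt.FPt (AlgSt.ofSp W) :=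
    { K := r.K, field := r.field, str := r.str, obj := ⟨𝒳.p.obj r.obj, s'⟩, lies := r.lies }
  let r' : AlgSt.FPt (AlgSt.ofSp X) :=
    { K := r.K, field := r.field, str := r.str, obj := ⟨𝒳.p.obj r.obj, s⟩, lies := r.lies }
  exact ⟨AlgSt.Points.mk q, AlgSt.Points.sound ⟨r', i.inv, ρ, trivial⟩⟩

include hfib hsat in
/-- Membership in `W` is membership of the image in the open substack of the image of `W`. -/
theorem inW_iff_qW (hw : AlgSp.RepWith @IsOpenImmersion w) (c : (AlgSt.ofSp X).obj) :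
    InW w c ↔ QW (Set.range (AlgSt.Points.map (BasedFunctor.comp (AlgSt.ofSpMap w) π)))
      (π.obj c) := by
  constructor
  · intro h
    obtain ⟨s', i, -⟩ := exists_iso_of_inW w c h
    have h1 := qW_range_obj (isFibSetoid_ofPsh W.obj).1 hfib
      (BasedFunctor.comp (AlgSt.ofSpMap w) π) (⟨c.base, s'⟩ : (AlgSt.ofSp W).obj)
    exact qW_of_hom _ (π.map i.inv) h1
  · intro hq
    obtain ⟨T, sec⟩ := c
    let cT : (AlgSp.yon S).obj T ⟶ X := ObjectProperty.homMk (uliftYonedaEquiv.symm sec)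
    have hfac : ∃ g : (AlgSp.yon S).obj T ⟶ W, g ≫ w = cT := by
      rw [Groth.Agent.S10194.exists_factor_iff w hw cT]
      rintro y ⟨x, rfl⟩
      obtain ⟨p₀, rfl⟩ := AlgSp.Points.mk_surjective x
      let p₁ : AlgSt.FPt (AlgSt.ofSp X) := (fptOf p₀).map (AlgSt.ofSpMap cT)
      have hm : p₁.obj ⟶ (⟨T, sec⟩ : (AlgSt.ofSp X).obj) := ⟨p₀.val.down, rfl⟩
      have hq₁ := qW_of_hom _ (π.map hm) hq
      obtain ⟨ζ', hζ'⟩ := mk_mem_range_of_qW hfib w π hsat p₁ hq₁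
      obtain ⟨x', rfl⟩ := toSt_surjective W ζ'
      refine ⟨x', ?_⟩
      apply toSt_injective
      rw [← toSt_map, hζ', ← toSt_map]
      rfl
    obtain ⟨g, hg⟩ := hfac
    refine ⟨g.hom.app (op T) ⟨𝟙 T⟩, ?_⟩
    have h1 := congrArg (fun t : (AlgSp.yon S).obj T ⟶ X => t.hom.app (op T) ⟨𝟙 T⟩) hg
    change w.hom.app (op T) (g.hom.app (op T) ⟨𝟙 T⟩) = X.obj.map (𝟙 T).op sec at h1
    rw [h1]
    simp

end Points

end Groth.Agent.Lib.Seat59.LargestE
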