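-- helper59: the largest open substack on which a representable morphism has a property, part F:
-- open substacks and open subspaces of a chart.
import Mathlib
import Groth.Agent.Lib.Seat59LargestE
import Groth.Agent.Lib.Helper15SpMapRep
import Groth.Agent.Lib.Helper15DiagDescent
import Groth.Agent.S10531
import Groth.Agent.Lib.Helper15RepComp2

set_option autoImplicit false
set_option backward.isDefEq.respectTransparency false
set_option backward.isDefEq.respectTransparency.types false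
open CategoryTheory CategoryTheory.Functor CategoryTheory.Limits Opposite AlgebraicGeometry

universe u

namespace Groth.Agent.Lib.Seat59.LargestF

open Groth.Agent.Lib.Helper17 Groth.Agent.Lib.Helper15PshFib Groth.Agent.Lib.Seat83.PshFp
  Groth.Agent.Lib.Seat59.LargestA Groth.Agent.Lib.Seat59.LargestB Groth.Agent.Lib.Seat59.LargestE
  Groth.Agent.Lib.Seat59.LargestD

variable {S : Scheme.{u}} {𝒳 𝒴 : AlgSt.Cat S}

/-- The open subspace of a chart attached to an open substack. -/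
theorem exists_open_subspace (hfib : FibCat.IsFibGrpd 𝒳.p) (X : AlgSp.Space S)
    (π : AlgSt.ofSp X.obj ⥤ᵇ 𝒳) (Q₁ : 𝒳.obj → Prop)
    (hQ₁ : AlgSt.IsOpenSubstack 𝒳 Q₁ Scheme.fppfPrecoverage) :
    ∃ (W₁ : AlgSp.Space S) (w₁ : W₁ ⟶ X), AlgSp.RepWith @IsOpenImmersion w₁.hom ∧
      ∀ c : (AlgSt.ofSp X.obj).obj, InW w₁.hom c ↔ Q₁ (π.obj c) := by
  obtain ⟨hiso, hQalg, hOI⟩ := hQ₁
  obtain ⟨W₁, w₁, e, he, ⟨ι⟩, hw₁⟩ :=
    Groth.Agent.Lib.Helper15SpMapRep.exists_space_map_of_repByAlgSpWith hQalg.isStack.1 hfib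
      (AlgSp.RepWith @IsOpenImmersion)
      (Groth.Agent.Lib.Helper15DiagDescent.isLocalOnBase_fppf_of_fpqc _
        (Groth.Agent.S10531.result S)) (AlgSt.subIncl 𝒳 Q₁) hOI X π
  refine ⟨W₁, w₁, hw₁, fun c => ⟨?_, ?_⟩⟩
  · intro h
    obtain ⟨s', i, -⟩ := exists_iso_of_inW w₁.hom c h
    let s₀ : (AlgSt.ofSp W₁.obj).obj := ⟨c.base, s'⟩
    have i2 : π.obj c ≅ (e.obj s₀).obj.snd.obj :=
      π.toFunctor.mapIso (i.symm ≪≫ (bApp ι s₀).symm) ≪≫ (e.obj s₀).obj.iso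
    exact hiso.of_iso i2.symm (e.obj s₀).obj.snd.property
  · intro h
    let o : (FibCat.fp π (AlgSt.subIncl 𝒳 Q₁)).obj :=
      ⟨⟨c, ⟨π.obj c, h⟩, Iso.refl _⟩, IsHomLift.id (π.w_obj c)⟩
    obtain ⟨s, lam, -⟩ := IsEquivOver.essSurjOver e he o
    have i3 : (AlgSt.ofSpMap w₁.hom).obj s ≅ c :=
      (bApp ι s).symm ≪≫ (FibCat.fpFst π (AlgSt.subIncl 𝒳 Q₁)).toFunctor.mapIso lam
    exact (inW_iff w₁.hom c).2 ⟨s, ⟨i3⟩⟩

section Equiv

variable (f : 𝒳 ⥤ᵇ 𝒴) {X Y W₁ : AlgSp.Sp S} (z₀ : AlgSt.ofSp Y ⥤ᵇ 𝒴)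
  (E : AlgSt.ofSp X ⥤ᵇ FibCat.fp z₀ f) (Q₁ : 𝒳.obj → Prop) (w₁ : W₁ ⟶ X)
  (hQw : ∀ s : (AlgSt.ofSp W₁).obj,
    Q₁ ((BasedFunctor.comp (AlgSt.ofSpMap w₁) (BasedFunctor.comp E (FibCat.fpSnd z₀ f))).obj s))

/-- The lift of the projection to the full subcategory. -/
def subLift : AlgSt.ofSp W₁ ⥤ᵇ AlgSt.fullSub 𝒳 Q₁ where
  toFunctor := ObjectProperty.lift Q₁
    (BasedFunctor.comp (AlgSt.ofSpMap w₁) (BasedFunctor.comp E (FibCat.fpSnd z₀ f))).toFunctor hQw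
  w := (BasedFunctor.comp (AlgSt.ofSpMap w₁) (BasedFunctor.comp E (FibCat.fpSnd z₀ f))).w

/-- The comparison functor from the subsheaf to the fibre product with the substack. -/
def subCmp : AlgSt.ofSp W₁ ⥤ᵇ FibCat.fp z₀ (BasedFunctor.comp (AlgSt.subIncl 𝒳 Q₁) f) :=
  FibCat.fpLift (BasedFunctor.comp (AlgSt.ofSpMap w₁) (BasedFunctor.comp E (FibCat.fpFst z₀ f)))
    (subLift f z₀ E Q₁ w₁ hQw)
    (whiskerLeftIso (BasedFunctor.comp (AlgSt.ofSpMap w₁) E) (FibCat.fpIso z₀ f))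

theorem subCmp_comp_fpFst :
    BasedFunctor.comp (subCmp f z₀ E Q₁ w₁ hQw) (FibCat.fpFst z₀ _) =
      BasedFunctor.comp (AlgSt.ofSpMap w₁) (BasedFunctor.comp E (FibCat.fpFst z₀ f)) := rfl

theorem subCmp_faithful [E.toFunctor.Faithful] :
    (subCmp f z₀ E Q₁ w₁ hQw).toFunctor.Faithful := by
  refine ⟨fun {s s'} m m' h => ?_⟩
  have := Groth.Agent.Lib.Helper15RepPsh.ofPshMap_faithful w₁.hom
  apply (AlgSt.ofSpMap w₁).toFunctor.map_injective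
  apply E.toFunctor.map_injective
  apply ObjectProperty.hom_ext
  apply Limits.CategoricalPullback.hom_ext
  · exact congrArg (fun t => t.hom.fst) h
  · exact congrArg (fun t => t.hom.snd.hom) h

theorem subCmp_full [E.toFunctor.Full] (hmono : Mono w₁) :
    (subCmp f z₀ E Q₁ w₁ hQw).toFunctor.Full := by
  refine ⟨fun {s s'} n => ?_⟩
  let n' : E.obj ((AlgSt.ofSpMap w₁).obj s) ⟶ E.obj ((AlgSt.ofSpMap w₁).obj s') :=
    ObjectProperty.homMk ⟨n.hom.fst, n.hom.snd.hom, n.hom.w⟩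
  obtain ⟨m', hm'⟩ := E.toFunctor.map_surjective n'
  have hinj := (Groth.Agent.Lib.Helper15RepComp.sp_mono_iff_injective w₁).1 hmono (op s.base)
  obtain ⟨g, hg⟩ : ∃ g : s.base ⟶ s'.base, g = m'.hom := ⟨_, rfl⟩
  have hsec : W₁.obj.map g.op s'.sec = s.sec := by
    apply hinj
    have h1 := NatTrans.naturality_apply w₁.hom g.op s'.sec
    rw [h1, hg]
    exact m'.map_sec
  have hmm : (AlgSt.ofSpMap w₁).map (⟨g, hsec⟩ : s ⟶ s') = m' := by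
    apply Stk.EltObj.hom_ext
    exact hg
  rw [← hmm] at hm'
  refine ⟨⟨g, hsec⟩, ?_⟩
  apply ObjectProperty.hom_ext
  apply Limits.CategoricalPullback.hom_ext
  · exact congrArg (fun t => t.hom.fst) hm'
  · apply ObjectProperty.hom_ext
    exact congrArg (fun t => t.hom.snd) hm'

theorem subCmp_essSurjOver (hE : FibCat.IsEquivOver E)
    (hiso : ObjectProperty.IsClosedUnderIsomorphisms Q₁)
    (hiff : ∀ c : (AlgSt.ofSp X).obj,
      Q₁ ((BasedFunctor.comp E (FibCat.fpSnd z₀ f)).obj c) → InW w₁ c) :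
    EssSurjOver (subCmp f z₀ E Q₁ w₁ hQw) := by
  intro o
  let o' : (FibCat.fp z₀ f).obj := ⟨⟨o.obj.fst, o.obj.snd.obj, o.obj.iso⟩, o.property⟩
  obtain ⟨c, lam, hlam⟩ := IsEquivOver.essSurjOver E hE o'
  have hQc : Q₁ ((BasedFunctor.comp E (FibCat.fpSnd z₀ f)).obj c) :=
    hiso.of_iso ((FibCat.fpSnd z₀ f).toFunctor.mapIso lam).symm o.obj.snd.property
  obtain ⟨s', i, hi⟩ := exists_iso_of_inW w₁ c (hiff c hQc)
  let s₀ : (AlgSt.ofSp W₁).obj := ⟨c.base, s'⟩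
  let κ : E.obj ((AlgSt.ofSpMap w₁).obj s₀) ≅ o' := E.toFunctor.mapIso i ≪≫ lam
  have hc : c.base = (FibCat.fp z₀ f).p.obj o' := by
    have h1 := IsHomLift.domain_eq (FibCat.fp z₀ f).p (𝟙 ((FibCat.fp z₀ f).p.obj o')) lam.hom
    exact (E.w_obj c).symm.trans h1
  have hκ : (FibCat.fp z₀ f).p.IsHomLift (𝟙 ((FibCat.fp z₀ f).p.obj o')) κ.hom := by
    have k1 : (FibCat.fp z₀ f).p.IsHomLift (𝟙 ((FibCat.fp z₀ f).p.obj o')) (E.map i.hom) :=
      isHomLift_id_of_eq _ hc _ (hφ := BasedFunctor.preserves_isHomLift E _ i.hom)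
    exact isHomLift_id_comp _ _ _ _ k1 hlam
  refine ⟨s₀, fpIsoOf ((FibCat.fpFst z₀ f).toFunctor.mapIso κ)
    (ObjectProperty.isoMk _ ((FibCat.fpSnd z₀ f).toFunctor.mapIso κ)) κ.hom.hom.w, ?_⟩
  rw [fp_isHomLift_iff]
  exact (fp_isHomLift_iff z₀ f _ κ.hom).1 hκ

/-- The subsheaf cut out by a substack represents the fibre product with the substack. -/
theorem exists_equiv_sub (hE : FibCat.IsEquivOver E) {a : X ⟶ Y}
    (ιa : BasedFunctor.comp E (FibCat.fpFst z₀ f) ≅ AlgSt.ofSpMap a)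
    (hiso : ObjectProperty.IsClosedUnderIsomorphisms Q₁) (hmono : Mono w₁)
    (hiff : ∀ c : (AlgSt.ofSp X).obj,
      InW w₁ c ↔ Q₁ ((BasedFunctor.comp E (FibCat.fpSnd z₀ f)).obj c)) :
    ∃ E₁ : AlgSt.ofSp W₁ ⥤ᵇ FibCat.fp z₀ (BasedFunctor.comp (AlgSt.subIncl 𝒳 Q₁) f),
      FibCat.IsEquivOver E₁ ∧
        Nonempty (BasedFunctor.comp E₁ (FibCat.fpFst z₀ _) ≅ AlgSt.ofSpMap (w₁ ≫ a)) := by
  have hEq := IsEquivOver.isEquivalence E hE
  have hQw : ∀ s : (AlgSt.ofSp W₁).obj, Q₁ ((BasedFunctor.comp (AlgSt.ofSpMap w₁)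
      (BasedFunctor.comp E (FibCat.fpSnd z₀ f))).obj s) :=
    fun s => (hiff _).1 (inW_obj w₁ s)
  have h1 := subCmp_faithful f z₀ E Q₁ w₁ hQw
  have h2 := subCmp_full f z₀ E Q₁ w₁ hQw hmono
  refine ⟨subCmp f z₀ E Q₁ w₁ hQw, isEquivOver_of_fullyFaithful_of_essSurjOver _
    (subCmp_essSurjOver f z₀ E Q₁ w₁ hQw hE hiso (fun c => (hiff c).2)), ⟨?_⟩⟩
  exact whiskerLeftIso (AlgSt.ofSpMap w₁) ιa

end Equiv

end Groth.Agent.Lib.Seat59.LargestF
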