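-- helper83 (seat 83): algebraicity of the source of a functor, tested on base changes to schemes
-- (any topology).
import Groth.Agent.Lib.Seat83DMFp
import Groth.Agent.Lib.Seat83DiagIff
import Groth.Agent.Lib.Helper15DiagComp

set_option autoImplicit false
set_option backward.isDefEq.respectTransparency false
set_option backward.isDefEq.respectTransparency.types false
open CategoryTheory CategoryTheory.Functor CategoryTheory.Limits Opposite AlgebraicGeometry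

universe u

namespace Groth.Agent.Lib.Seat83.AlgStLocal

open Groth.Agent.Lib.Helper17 Groth.Agent.Lib.Helper15PshFib Groth.Agent.Lib.Helper15RepComp
  Groth.Agent.Lib.Helper15RepPsh Groth.Agent.Lib.Helper15DiagBase Groth.Agent.Lib.Helper15DiagRepSp
  Groth.Agent.Lib.Helper15Descent Groth.Agent.Lib.Helper15DiagLft
  Groth.Agent.Lib.Helper15DiagDescent Groth.Agent.Lib.Helper15SpMapRep
  Groth.Agent.Lib.Helper15SrcCancel Groth.Agent.Lib.Helper15ChartSp Groth.Agent.Lib.Helper15Atlas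
  Groth.Agent.Lib.Helper15DiagOfComp Groth.Agent.Lib.Helper15.DiagBC

variable {S : Scheme.{u}} {𝒳 𝒴 : AlgSt.Cat S}

theorem comp_toSelf (j : 𝒳 ⥤ᵇ 𝒴) : BasedFunctor.comp j (FibCat.toSelf 𝒴) = FibCat.toSelf 𝒳 := by
  have key : ∀ (A B : 𝒳 ⥤ᵇ FibCat.selfOver (Over S)), A.toFunctor = B.toFunctor → A = B := by
    rintro ⟨A, _⟩ ⟨B, _⟩ h
    cases h
    rfl
  exact key _ _ j.w

theorem compCond_top : CompCond (⊤ : MorphismProperty (AlgSp.Sp S)) :=
  fun _ _ _ _ _ _ _ _ _ => trivial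

theorem isLocalOnBase_top (τ : AlgSp.CovNotion S) :
    AlgSp.IsLocalOnBase τ (⊤ : MorphismProperty (AlgSp.Sp S)) :=
  fun _ _ _ _ _ _ _ _ _ _ _ _ _ _ _ => ⟨fun _ _ => trivial, fun _ => trivial⟩

/-- The diagonal of a scheme over the base is representable by algebraic spaces. -/
theorem repByAlgSp1_diag_toSelf_overCat (T : Over S) :
    AlgSt.RepByAlgSp1 (FibCat.diag (FibCat.toSelf (FibCat.overCat T))) :=
  repByAlgSp1_diag_toSelf_iff.2 (fun U x =>
    repByAlgSp1_of_repByAlgSp (repByAlgSp_overCat U) (repByAlgSp_overCat T) x)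

/-- The double diagonal of a scheme over the base is representable by algebraic spaces. -/
theorem repByAlgSp1_diag_diag_toSelf_overCat (T : Over S) :
    AlgSt.RepByAlgSp1 (FibCat.diag (FibCat.diag (FibCat.toSelf (FibCat.overCat T)))) := by
  have hT : FibCat.IsFibGrpd (FibCat.overCat T).p := (isFibSet_overForget T).1
  refine repByAlgSp1_diag_of_diag _ (repByAlgSp1_diag_toSelf_overCat T) ?_
  exact repByAlgSp1_diag_toSelf_fp hT hT (isFibGrpd_selfOver _)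
    (repByAlgSp1_diag_toSelf_overCat T) (repByAlgSp1_diag_toSelf_overCat T)
    repByAlgSp1_diag_selfOver _ _

/-- If the base changes of `f : 𝒳 ⟶ 𝒴` to schemes all have diagonals (over the base)
representable by algebraic spaces, and so does `𝒴`, then so does `𝒳`. -/
theorem repByAlgSp1_diag_toSelf_of_forall (h𝒳 : FibCat.IsFibGrpd 𝒳.p) (h𝒴 : FibCat.IsFibGrpd 𝒴.p)
    (hΔ : AlgSt.RepByAlgSp1 (FibCat.diag (FibCat.toSelf 𝒴))) (f : 𝒳 ⥤ᵇ 𝒴)
    (hf : ∀ (U : Over S) (g : FibCat.overCat U ⥤ᵇ 𝒴),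
      AlgSt.RepByAlgSp1 (FibCat.diag (FibCat.toSelf (FibCat.fp g f)))) :
    AlgSt.RepByAlgSp1 (FibCat.diag (FibCat.toSelf 𝒳)) := by
  have hdf : AlgSt.RepByAlgSpWith (⊤ : MorphismProperty (AlgSp.Sp S)) (FibCat.diag f) := by
    refine Groth.Agent.Lib.Seat83.DiagIff.repByAlgSpWith_diag_of_forall ⊤ f (fun T y => ?_)
    have hT : FibCat.IsFibGrpd (FibCat.overCat T).p := (isFibSet_overForget T).1
    refine repByAlgSpWith_diag_of_comp (isFibGrpd_fp y f hT h𝒳 h𝒴) hT (isFibGrpd_selfOver _) ⊤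
      compCond_top (FibCat.fpFst y f) (FibCat.toSelf (FibCat.overCat T))
      ((repByAlgSpWith_top_iff _).2 (repByAlgSp1_diag_diag_toSelf_overCat T)) ?_
    rw [comp_toSelf]
    exact (repByAlgSpWith_top_iff _).2 (hf T y)
  have h := Groth.Agent.Lib.Helper15DiagComp.repByAlgSpWith_diag_comp h𝒳 h𝒴 ⊤
    (fun _ _ _ _ _ _ _ _ _ _ => trivial) (isLocalOnBase_top _) f (FibCat.toSelf 𝒴) hdf
    ((repByAlgSpWith_top_iff _).2 hΔ)
  rw [comp_toSelf] at h
  exact (repByAlgSpWith_top_iff _).1 h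

/-- A stack in groupoids with a functor to an algebraic stack all of whose base changes to schemes
are algebraic stacks is an algebraic stack. -/
theorem isAlgStack_of_forall_fp (K : Precoverage Scheme.{u})
    (h𝒳 : Stk.IsStack (QuotSh.J K S) 𝒳) (h𝒴 : AlgSt.IsAlgStack K 𝒴) (f : 𝒳 ⥤ᵇ 𝒴)
    (hf : ∀ (U : Over S) (g : FibCat.overCat U ⥤ᵇ 𝒴), AlgSt.IsAlgStack K (FibCat.fp g f)) :
    AlgSt.IsAlgStack K 𝒳 := by
  refine ⟨h𝒳, repByAlgSp1_diag_toSelf_of_forall h𝒳.1 h𝒴.isStack.1 h𝒴.diag f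
    (fun U g => (hf U g).diag), ?_⟩
  obtain ⟨V, y, hy₁, hy₂⟩ := h𝒴.atlas
  exact Groth.Agent.Lib.Helper15Atlas.hasAtlas_of_cover (hf V y).isStack.1 (FibCat.fpSnd y f)
    (repByAlgSpWith_fpSnd _ y f hy₁) (repByAlgSpWith_fpSnd _ y f hy₂) (hf V y).atlas

/-- The Deligne-Mumford version. -/
theorem isDM_of_forall_fp (K : Precoverage Scheme.{u})
    (h𝒳 : Stk.IsStack (QuotSh.J K S) 𝒳) (h𝒴 : AlgSt.IsDM K 𝒴) (f : 𝒳 ⥤ᵇ 𝒴)
    (hf : ∀ (U : Over S) (g : FibCat.overCat U ⥤ᵇ 𝒴), AlgSt.IsDM K (FibCat.fp g f)) :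
    AlgSt.IsDM K 𝒳 := by
  refine ⟨isAlgStack_of_forall_fp K h𝒳 h𝒴.1 f (fun U g => (hf U g).1), ?_⟩
  obtain ⟨V, y, hy₁, hy₂⟩ := h𝒴.2
  exact Groth.Agent.Lib.Seat83.DMFp.hasAtlas_of_cover _ Groth.Agent.Lib.Seat83.DMFp.compCond_isEtaleMor
    (hf V y).1.isStack.1 (FibCat.fpSnd y f)
    (repByAlgSpWith_fpSnd _ y f hy₁) (repByAlgSpWith_fpSnd _ y f hy₂) (hf V y).2

end Groth.Agent.Lib.Seat83.AlgStLocal
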