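-- helper59: the largest open substack on which a representable morphism has a property, part H:
-- the assembly again, keeping the chart.
import Mathlib
import Groth.Agent.Lib.Seat59LargestG
import Groth.Agent.Lib.Seat59RepDesc
import Groth.Agent.Lib.Helper15LocQSpace2
import Groth.Agent.Lib.Seat83AlgStLocal
import Groth.Agent.Lib.Helper12LargestOpen

set_option autoImplicit false
set_option backward.isDefEq.respectTransparency false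
set_option backward.isDefEq.respectTransparency.types false
open CategoryTheory CategoryTheory.Functor CategoryTheory.Limits Opposite AlgebraicGeometry

universe u

namespace Groth.Agent.Lib.Seat59.LargestH

open Groth.Agent.Lib.Helper17 Groth.Agent.Lib.Helper15PshFib Groth.Agent.Lib.Seat83.PshFp
  Groth.Agent.Lib.Seat59.LargestA Groth.Agent.Lib.Seat59.LargestB Groth.Agent.Lib.Seat59.LargestE
  Groth.Agent.Lib.Seat59.LargestF Groth.Agent.Lib.Seat59.OpenSubA Groth.Agent.Lib.Seat59.OpenSubB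
  Groth.Agent.Lib.Seat59.OpenSubC Groth.Agent.Lib.Seat59.OpenSubD Groth.Agent.Lib.Seat59.OpenSubE
  Groth.Agent.Lib.Seat59.OpenSubF Groth.Agent.Lib.Seat59.LargestG

variable {S : Scheme.{u}} {𝒳 𝒴 : AlgSt.Cat S}

/-- The largest open substack on which a representable morphism has a property, together with
the chart used to build it. -/
theorem exists_largest_chart
    (h𝒳 : AlgSt.IsAlgStack Scheme.fppfPrecoverage 𝒳) (h𝒴 : AlgSt.IsAlgStack Scheme.fppfPrecoverage 𝒴)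
    (P Q R : MorphismProperty (AlgSp.Sp S))
    (hPb : ∀ ⦃X₁ Y₁ X₂ Y₂ : AlgSp.Sp S⦄, AlgSp.IsAlgSpace X₁ → AlgSp.IsAlgSpace Y₁ →
      AlgSp.IsAlgSpace X₂ → AlgSp.IsAlgSpace Y₂ → ∀ (a : X₁ ⟶ Y₁) (b : Y₂ ⟶ Y₁) (a' : X₂ ⟶ Y₂)
      (b' : X₂ ⟶ X₁), IsPullback b' a' a b → P a → P a')
    (hP : AlgSp.IsLocalOnBase AlgSp.IsFppfCover P) (hQ : AlgSp.IsLocalOnBase AlgSp.IsFppfCover Q)
    (h₂ : ∀ (X Y : AlgSp.Space S) (g : X ⟶ Y), AlgSp.LocP @Smooth g.hom → R g.hom)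
    (h₃ : ∀ (X Y : AlgSp.Space S) (f : X ⟶ Y), Q f.hom →
      ∃ (W : AlgSp.Space S) (w : W ⟶ X), (AlgSp.RepWith @IsOpenImmersion w.hom ∧ P (w ≫ f).hom ∧
          ∀ (W₁ : AlgSp.Space S) (w₁ : W₁ ⟶ X), AlgSp.RepWith @IsOpenImmersion w₁.hom →
            P (w₁ ≫ f).hom → ∃ k : W₁ ⟶ W, k ≫ w = w₁))
    (h₄ : ∀ (X Y X' Y' : AlgSp.Space S) (f : X ⟶ Y) (g : Y' ⟶ Y) (f' : X' ⟶ Y') (g' : X' ⟶ X),
      IsPullback g'.hom f'.hom f.hom g.hom → Q f.hom → R g.hom →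
      ∀ (W : AlgSp.Space S) (w : W ⟶ X), (AlgSp.RepWith @IsOpenImmersion w.hom ∧ P (w ≫ f).hom ∧
          ∀ (W₁ : AlgSp.Space S) (w₁ : W₁ ⟶ X), AlgSp.RepWith @IsOpenImmersion w₁.hom →
            P (w₁ ≫ f).hom → ∃ k : W₁ ⟶ W, k ≫ w = w₁) →
        ∀ (W' : AlgSp.Space S) (w' : W' ⟶ X') (k : W' ⟶ W), IsPullback k.hom w'.hom w.hom g'.hom →
          (AlgSp.RepWith @IsOpenImmersion w'.hom ∧ P (w' ≫ f').hom ∧
          ∀ (W₁ : AlgSp.Space S) (w₁ : W₁ ⟶ X'), AlgSp.RepWith @IsOpenImmersion w₁.hom →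
            P (w₁ ≫ f').hom → ∃ k : W₁ ⟶ W', k ≫ w' = w₁))
    (f : 𝒳 ⥤ᵇ 𝒴) (hf : AlgSt.RepByAlgSpWith Q f) :
    ∃ (YV X W : AlgSp.Space S) (a : X ⟶ YV) (w : W ⟶ X) (z₀ : AlgSt.ofSp YV.obj ⥤ᵇ 𝒴)
      (E : AlgSt.ofSp X.obj ⥤ᵇ FibCat.fp z₀ f)
      (_ : BasedFunctor.comp E (FibCat.fpFst z₀ f) ≅ AlgSt.ofSpMap a.hom) (Q₀ : 𝒳.obj → Prop),
      AlgSt.RepByAlgSpWith (AlgSp.LocP @Smooth) z₀ ∧
      AlgSt.RepByAlgSpWith AlgSp.IsSurjectiveMor z₀ ∧ FibCat.IsEquivOver E ∧ Q a.hom ∧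
      (AlgSp.RepWith @IsOpenImmersion w.hom ∧ P (w ≫ a).hom ∧
          ∀ (W₁ : AlgSp.Space S) (w₁ : W₁ ⟶ X), AlgSp.RepWith @IsOpenImmersion w₁.hom →
            P (w₁ ≫ a).hom → ∃ k : W₁ ⟶ W, k ≫ w = w₁) ∧
      (∀ c : (AlgSt.ofSp X.obj).obj,
        InW w.hom c ↔ Q₀ ((BasedFunctor.comp E (FibCat.fpSnd z₀ f)).obj c)) ∧
      AlgSt.IsOpenSubstack 𝒳 Q₀ Scheme.fppfPrecoverage ∧
      AlgSt.RepByAlgSpWith P (BasedFunctor.comp (AlgSt.subIncl 𝒳 Q₀) f) ∧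
        ∀ Q₁ : 𝒳.obj → Prop, AlgSt.IsOpenSubstack 𝒳 Q₁ Scheme.fppfPrecoverage →
          AlgSt.RepByAlgSpWith P (BasedFunctor.comp (AlgSt.subIncl 𝒳 Q₁) f) → ∀ y, Q₁ y → Q₀ y := by
  have hfib𝒳 := h𝒳.isStack.1
  have hfib𝒴 := h𝒴.isStack.1
  obtain ⟨V, y, hy₁, hy₂⟩ := h𝒴.atlas
  let YV : AlgSp.Space S := ⟨(AlgSp.yon S).obj V, AlgSp.IsAlgSpace.yon_obj V⟩
  let z₀ : AlgSt.ofSp YV.obj ⥤ᵇ 𝒴 := BasedFunctor.comp (AlgSt.toOverCat V) y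
  have hz₀ : ∀ P' : MorphismProperty (AlgSp.Sp S), AlgSt.RepByAlgSpWith P' y →
      AlgSt.RepByAlgSpWith P' z₀ := fun P' h =>
    (repByAlgSpWith_of_square P' y z₀ (AlgSt.toOverCat V) (BasedFunctor.id _)
      (Groth.Agent.Lib.Helper15DiagRepSp.isEquivOver_toOverCat V) (isEquivOver_id _)
      (Iso.refl _)).1 h
  have hz₀sm := hz₀ _ hy₁
  have hz₀surj := hz₀ _ hy₂
  have hfibYV : FibCat.IsFibGrpd (AlgSt.ofSp YV.obj).p := (isFibSetoid_ofPsh YV.obj.obj).1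
  -- the chart of `𝒳`
  obtain ⟨X, a, E, hE, ⟨ιa⟩, hQa⟩ :=
    Groth.Agent.Lib.Helper15SpMapRep.exists_space_map_of_repByAlgSpWith hfib𝒳 hfib𝒴 Q hQ f hf YV z₀
  -- the double fibre product of the atlas
  obtain ⟨V₂, q₁, e₂, he₂, ⟨ι₁⟩, hq₁sm⟩ :=
    Groth.Agent.Lib.Helper15SpMapRep.exists_space_map_of_repByAlgSpWith hfibYV hfib𝒴
      (AlgSp.LocP @Smooth) Groth.Agent.Lib.Helper15LocQEngine.isLocalOnBase_fppf_smooth z₀ hz₀sm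
      YV z₀
  let q₂ : V₂ ⟶ YV := ObjectProperty.homMk (ObjectProperty.homMk
    (pshMapOf (BasedFunctor.comp e₂ (FibCat.fpSnd z₀ z₀))))
  let ι₂ : BasedFunctor.comp e₂ (FibCat.fpSnd z₀ z₀) ≅ AlgSt.ofSpMap q₂.hom :=
    (ofPshMapIso (BasedFunctor.comp e₂ (FibCat.fpSnd z₀ z₀))).symm
  have hRq₁ : R q₁.hom := h₂ V₂ YV q₁ hq₁sm
  -- the largest open subspace of the chart
  obtain ⟨W, w, hW⟩ := h₃ X YV a hQa
  have hsat : ∀ (c₁ c₂ : (AlgSt.ofSp X.obj).obj)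
      (_ : (BasedFunctor.comp E (FibCat.fpSnd z₀ f)).obj c₁ ⟶
        (BasedFunctor.comp E (FibCat.fpSnd z₀ f)).obj c₂), InW w.hom c₂ → InW w.hom c₁ :=
    fun c₁ c₂ m h => saturated' hfib𝒳 P Q R hPb h₄ f X YV V₂ a q₁ q₂ z₀ E hE ιa e₂ he₂ ι₁ ι₂ hQa
      hRq₁ W w hW c₁ c₂ m h
  have hiff := inW_iff_qW hfib𝒳 w.hom (BasedFunctor.comp E (FibCat.fpSnd z₀ f)) hsat hW.1
  -- the open substack
  have hπsm : AlgSt.RepByAlgSpWith (AlgSp.LocP @Smooth)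
      (BasedFunctor.comp E (FibCat.fpSnd z₀ f)) :=
    (repByAlgSpWith_of_square (AlgSp.LocP @Smooth) (FibCat.fpSnd z₀ f)
      (BasedFunctor.comp E (FibCat.fpSnd z₀ f)) E (BasedFunctor.id _) hE (isEquivOver_id _)
      (Iso.refl _)).1 (repByAlgSpWith_fpSnd (AlgSp.LocP @Smooth) z₀ f hz₀sm)
  have hfibX : FibCat.IsFibGrpd (AlgSt.ofSp X.obj).p := (isFibSetoid_ofPsh X.obj.obj).1
  have hfibW : FibCat.IsFibGrpd (AlgSt.ofSp W.obj).p := (isFibSetoid_ofPsh W.obj.obj).1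
  have hψsm : AlgSt.RepByAlgSpWith (AlgSp.LocP @Smooth)
      (BasedFunctor.comp (AlgSt.ofSpMap w.hom) (BasedFunctor.comp E (FibCat.fpSnd z₀ f))) :=
    Groth.Agent.Lib.Helper15RepComp.repByAlgSpWith_comp_of_compCond hfibW hfibX
      (AlgSp.LocP @Smooth) Groth.Agent.Lib.Helper15Atlas.compCond_smooth _ _
      (smooth_ofSpMap_of_openImm W X w hW.1) hπsm
  have hopen : IsOpen (Set.range (AlgSt.Points.map
      (BasedFunctor.comp (AlgSt.ofSpMap w.hom) (BasedFunctor.comp E (FibCat.fpSnd z₀ f))))) :=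
    (isOpenMap_points_map_of_locQ_smooth (Groth.Agent.Lib.Helper15PtsTop.isAlgStack_ofSp W) h𝒳 _
      (Groth.Agent.Lib.Helper15LocQRep.locQ_of_repByAlgSpWith _
        Groth.Agent.Lib.Helper15LocQProps.isSmoothLocalST_smooth
        (Groth.Agent.Lib.Helper15PtsTop.isAlgStack_ofSp W) h𝒳 _ hψsm)).isOpen_range
  have hQ₀ := isOpenSubstack_qW h𝒳 _ hopen
  have hrepOf : ∀ Q₁ : 𝒳.obj → Prop, AlgSt.IsOpenSubstack 𝒳 Q₁ Scheme.fppfPrecoverage →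
      AlgSt.RepByAlgSp1 (BasedFunctor.comp (AlgSt.subIncl 𝒳 Q₁) f) := fun Q₁ hQ₁ =>
    Groth.Agent.Lib.Helper15SrcCancel.repByAlgSp1_of_repByAlgSpWith ⊤ _
      (Groth.Agent.Lib.Helper15RepComp.repByAlgSpWith_comp_of_compCond hQ₁.2.1.isStack.1 hfib𝒳 ⊤
        Groth.Agent.Lib.Seat83.AlgStLocal.compCond_top _ _
        (Groth.Agent.Lib.Helper15PtsTop.repByAlgSpWith_mono le_top hQ₁.2.2)
        (Groth.Agent.Lib.Helper15PtsTop.repByAlgSpWith_mono le_top hf))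
  refine ⟨YV, X, W, a, w, z₀, E, ιa, _, hz₀sm, hz₀surj, hE, hQa, hW, hiff, hQ₀, ?_, ?_⟩
  · -- the restriction has `P`
    obtain ⟨E₁, hE₁, ⟨ι₁'⟩⟩ := exists_equiv_sub f z₀ E _ w.hom hE ιa hQ₀.1
      (Groth.Agent.Lib.Helper12.LargestOpen.mono_of_open w.hom hW.1) hiff
    have hwa : AlgSt.RepByAlgSpWith P (AlgSt.ofSpMap (w ≫ a).hom) :=
      Groth.Agent.Lib.Helper15SpMapRep.repByAlgSpWith_ofSpMap P hPb W YV (w ≫ a) hW.2.1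
    have h : AlgSt.RepByAlgSpWith P (FibCat.fpFst z₀ (BasedFunctor.comp (AlgSt.subIncl 𝒳 _) f)) :=
      (repByAlgSpWith_of_square P (FibCat.fpFst z₀ (BasedFunctor.comp (AlgSt.subIncl 𝒳 _) f))
        (AlgSt.ofSpMap (w ≫ a).hom) E₁ (BasedFunctor.id _) hE₁ (isEquivOver_id _) ι₁'.symm).2 hwa
    exact Groth.Agent.Lib.Seat59.RepDesc.repByAlgSpWith_of_fpFst_chart P hP h𝒴 _
      (hrepOf _ hQ₀) z₀ (AlgSt.ofOverCat V)
      (Groth.Agent.Lib.Helper15PtsTop.flat_of_smooth hy₁)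
      (Groth.Agent.Lib.Helper15PtsTop.lfp_of_smooth hy₁) hy₂ h
  · -- maximality
    intro Q₁ hQ₁ hP₁ y₁ hy₁Q
    obtain ⟨W₁, w₁, hw₁, hiff₁⟩ := exists_open_subspace hfib𝒳 X
      (BasedFunctor.comp E (FibCat.fpSnd z₀ f)) Q₁ hQ₁
    obtain ⟨E₁, hE₁, ⟨ι₁'⟩⟩ := exists_equiv_sub f z₀ E Q₁ w₁.hom hE ιa hQ₁.1
      (Groth.Agent.Lib.Helper12.LargestOpen.mono_of_open w₁.hom hw₁) hiff₁
    have h1 : AlgSt.RepByAlgSpWith P
        (FibCat.fpFst z₀ (BasedFunctor.comp (AlgSt.subIncl 𝒳 Q₁) f)) :=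
      repByAlgSpWith_fpFst P _ z₀ hP₁
    have h2 : AlgSt.RepByAlgSpWith P (AlgSt.ofSpMap (w₁ ≫ a).hom) :=
      (repByAlgSpWith_of_square P (FibCat.fpFst z₀ (BasedFunctor.comp (AlgSt.subIncl 𝒳 Q₁) f))
        (AlgSt.ofSpMap (w₁ ≫ a).hom) E₁ (BasedFunctor.id _) hE₁ (isEquivOver_id _) ι₁'.symm).1 h1
    have h3 : P (w₁ ≫ a).hom :=
      Groth.Agent.Lib.Helper15LocQSpace2.prop_of_repByAlgSpWith_ofSpMap P hPb hP W₁ YV (w₁ ≫ a) h2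
    obtain ⟨k, hk⟩ := hW.2.2 W₁ w₁ hw₁ h3
    have hcont : ∀ c : (AlgSt.ofSp X.obj).obj,
        Q₁ ((BasedFunctor.comp E (FibCat.fpSnd z₀ f)).obj c) → InW w.hom c := by
      intro c hc
      obtain ⟨s, hs⟩ := (hiff₁ c).2 hc
      refine ⟨k.hom.hom.app _ s, ?_⟩
      have := congrArg (fun t : W₁ ⟶ X => t.hom.hom.app (op c.base) s) hk
      exact this.trans hs
    have hπsurj : AlgSt.RepByAlgSpWith AlgSp.IsSurjectiveMor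
        (BasedFunctor.comp E (FibCat.fpSnd z₀ f)) :=
      (repByAlgSpWith_of_square AlgSp.IsSurjectiveMor (FibCat.fpSnd z₀ f)
        (BasedFunctor.comp E (FibCat.fpSnd z₀ f)) E (BasedFunctor.id _) hE (isEquivOver_id _)
        (Iso.refl _)).1 (repByAlgSpWith_fpSnd AlgSp.IsSurjectiveMor z₀ f hz₀surj)
    have hπS : AlgSt.IsSurjective (BasedFunctor.comp E (FibCat.fpSnd z₀ f)) :=
      (Groth.Agent.Lib.Helper15PtsComp.isSurjective_iff_repByAlgSpWith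
        (Groth.Agent.Lib.Helper15PtsTop.isAlgStack_ofSp X) h𝒳 _
        (Groth.Agent.Lib.Helper15SrcCancel.repByAlgSp1_of_repByAlgSpWith _ _ hπsm)).2 hπsurj
    rintro p ⟨m⟩
    have hQp : Q₁ p.obj := q_of_hom hfib𝒳 Q₁ hQ₁.1 hQ₁.2.1.isStack.1 m hy₁Q
    obtain ⟨ξ, hξ⟩ := hπS (AlgSt.Points.mk p)
    obtain ⟨p', rfl⟩ := AlgSt.Points.mk_surjective ξ
    obtain ⟨r, m₁, m₂, -⟩ := fpt_rel_of_mk_eq hfib𝒳 hξ
    obtain ⟨s, ρ, e, -, -⟩ := exists_restriction hfib𝒳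
      (BasedFunctor.comp E (FibCat.fpSnd z₀ f)) p'.obj r.obj m₁
    have hQr : Q₁ r.obj := q_of_hom hfib𝒳 Q₁ hQ₁.1 hQ₁.2.1.isStack.1 m₂ hQp
    have hQc : Q₁ ((BasedFunctor.comp E (FibCat.fpSnd z₀ f)).obj
        (⟨𝒳.p.obj r.obj, s⟩ : (AlgSt.ofSp X.obj).obj)) := hQ₁.1.of_iso e.symm hQr
    obtain ⟨s', i, -⟩ := exists_iso_of_inW w.hom _ (hcont _ hQc)
    let q : AlgSt.FPt (AlgSt.ofSp W.obj) :=
      { K := r.K, field := r.field, str := r.str, obj := ⟨𝒳.p.obj r.obj, s'⟩, lies := r.lies }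
    exact ⟨AlgSt.Points.mk q, AlgSt.Points.sound
      ⟨r, e.inv ≫ (BasedFunctor.comp E (FibCat.fpSnd z₀ f)).map i.inv, m₂, trivial⟩⟩

end Groth.Agent.Lib.Seat59.LargestH
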