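-- helper59: the largest open substack on which a representable morphism has a property, part I:
-- the chart of a base change.
import Mathlib
import Groth.Agent.Lib.Seat59LargestH
import Groth.Agent.Lib.Seat83DMFp

set_option autoImplicit false
set_option backward.isDefEq.respectTransparency false
set_option backward.isDefEq.respectTransparency.types false
open CategoryTheory CategoryTheory.Functor CategoryTheory.Limits Opposite AlgebraicGeometry

universe u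

namespace Groth.Agent.Lib.Seat59.LargestI

open Groth.Agent.Lib.Helper17 Groth.Agent.Lib.Helper15PshFib Groth.Agent.Lib.Seat83.PshFp
  Groth.Agent.Lib.Seat59.LargestA Groth.Agent.Lib.Seat59.LargestB Groth.Agent.Lib.Seat59.LargestE
  Groth.Agent.Lib.Seat59.LargestF Groth.Agent.Lib.Seat59.OpenSubA Groth.Agent.Lib.Seat59.OpenSubB
  Groth.Agent.Lib.Seat59.OpenSubC Groth.Agent.Lib.Seat59.OpenSubD Groth.Agent.Lib.Seat59.OpenSubE
  Groth.Agent.Lib.Seat59.OpenSubF Groth.Agent.Lib.Seat59.LargestG Groth.Agent.Lib.Seat59.LargestH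

variable {S : Scheme.{u}} {𝒳 𝒴 𝒵 : AlgSt.Cat S}

section Chart

variable (f : 𝒳 ⥤ᵇ 𝒴) (z : 𝒵 ⥤ᵇ 𝒴) {Y X N : AlgSp.Sp S} (z₀ : AlgSt.ofSp Y ⥤ᵇ 𝒴)
  (a : X ⟶ Y) (n₁ : N ⟶ Y) (E : AlgSt.ofSp X ⥤ᵇ FibCat.fp z₀ f)
  (ιa : BasedFunctor.comp E (FibCat.fpFst z₀ f) ≅ AlgSt.ofSpMap a)
  (eN : AlgSt.ofSp N ⥤ᵇ FibCat.fp z₀ z)
  (ιN : BasedFunctor.comp eN (FibCat.fpFst z₀ z) ≅ AlgSt.ofSpMap n₁)

include ιa ιN in
/-- The base change of the chart `X` of `f` to the chart `N = V ×_𝒴 𝒵` of `𝒵` is a chart of the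
base change of `f`. -/
theorem exists_chart_fp (hE : FibCat.IsEquivOver E) :
    ∃ E' : AlgSt.ofSp (pullback n₁ a) ⥤ᵇ
        FibCat.fp (BasedFunctor.comp eN (FibCat.fpSnd z₀ z)) (FibCat.fpFst z f),
      FibCat.IsEquivOver E' ∧
      Nonempty (BasedFunctor.comp E' (FibCat.fpFst _ _) ≅ AlgSt.ofSpMap (pullback.fst n₁ a)) ∧
      Nonempty (BasedFunctor.comp (BasedFunctor.comp E' (FibCat.fpSnd _ _)) (FibCat.fpSnd z f) ≅
        BasedFunctor.comp (AlgSt.ofSpMap (pullback.snd n₁ a))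
          (BasedFunctor.comp E (FibCat.fpSnd z₀ f))) := by
  have hΦ := isEquivOver_pbEquiv f n₁ z₀ a E hE ιa
  let κ : BasedFunctor.comp (BasedFunctor.comp (AlgSt.ofSpMap n₁) z₀) (BasedFunctor.id 𝒴) ≅
      BasedFunctor.comp (BasedFunctor.id (AlgSt.ofSp N))
        (BasedFunctor.comp (BasedFunctor.comp eN (FibCat.fpSnd z₀ z)) z) :=
    (whiskerRightIso ιN.symm z₀ : BasedFunctor.comp (AlgSt.ofSpMap n₁) z₀ ≅
      BasedFunctor.comp eN (BasedFunctor.comp (FibCat.fpFst z₀ z) z₀)) ≪≫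
    whiskerLeftIso eN (FibCat.fpIso z₀ z)
  have : (BasedFunctor.id 𝒴).toFunctor.Full := inferInstanceAs (𝟭 𝒴.obj).Full
  have : (BasedFunctor.id 𝒴).toFunctor.Faithful := inferInstanceAs (𝟭 𝒴.obj).Faithful
  have hM := isEquivOver_fpMap (BasedFunctor.comp (BasedFunctor.comp eN (FibCat.fpSnd z₀ z)) z) f
    (BasedFunctor.comp (AlgSt.ofSpMap n₁) z₀) f (BasedFunctor.id _) (BasedFunctor.id _)
    (BasedFunctor.id _) κ (Iso.refl _) (isEquivOver_id _) (isEquivOver_id _)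
  have hL := isEquivOver_pasteL f z (BasedFunctor.comp eN (FibCat.fpSnd z₀ z))
  obtain ⟨G, hG, -, ⟨ε⟩⟩ := IsEquivOver.exists_inverse_isEquivOver' _ hL
  refine ⟨BasedFunctor.comp (pbEquiv f n₁ z₀ a E ιa) (BasedFunctor.comp
    (fpMap (BasedFunctor.comp (BasedFunctor.comp eN (FibCat.fpSnd z₀ z)) z) f
      (BasedFunctor.comp (AlgSt.ofSpMap n₁) z₀) f (BasedFunctor.id _) (BasedFunctor.id _)
      (BasedFunctor.id _) κ (Iso.refl _)) G),
    IsEquivOver.comp _ _ hΦ (IsEquivOver.comp _ _ hM hG), ⟨?_⟩, ⟨?_⟩⟩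
  · exact whiskerLeftIso (BasedFunctor.comp (pbEquiv f n₁ z₀ a E ιa)
      (fpMap (BasedFunctor.comp (BasedFunctor.comp eN (FibCat.fpSnd z₀ z)) z) f
        (BasedFunctor.comp (AlgSt.ofSpMap n₁) z₀) f (BasedFunctor.id _) (BasedFunctor.id _)
        (BasedFunctor.id _) κ (Iso.refl _)))
      (whiskerRightIso ε (FibCat.fpFst
        (BasedFunctor.comp (BasedFunctor.comp eN (FibCat.fpSnd z₀ z)) z) f))
  · exact whiskerLeftIso (BasedFunctor.comp (pbEquiv f n₁ z₀ a E ιa)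
      (fpMap (BasedFunctor.comp (BasedFunctor.comp eN (FibCat.fpSnd z₀ z)) z) f
        (BasedFunctor.comp (AlgSt.ofSpMap n₁) z₀) f (BasedFunctor.id _) (BasedFunctor.id _)
        (BasedFunctor.id _) κ (Iso.refl _)))
      (whiskerRightIso ε (FibCat.fpSnd
        (BasedFunctor.comp (BasedFunctor.comp eN (FibCat.fpSnd z₀ z)) z) f))

end Chart

section Theta

open Groth.Agent.Lib.Seat59.LargestD

variable (f : 𝒳 ⥤ᵇ 𝒴) (z : 𝒵 ⥤ᵇ 𝒴) (Q₀ : 𝒳.obj → Prop)

/-- The inverse image of a substack in a fibre product is the fibre product with the substack. -/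
def theta : AlgSt.fullSub (FibCat.fp z f) (fun b => Q₀ ((FibCat.fpSnd z f).obj b)) ⥤ᵇ
    FibCat.fp z (BasedFunctor.comp (AlgSt.subIncl 𝒳 Q₀) f) :=
  FibCat.fpLift (BasedFunctor.comp (AlgSt.subIncl _ _) (FibCat.fpFst z f))
    (restrictSub Q₀ (FibCat.fpSnd z f))
    (whiskerLeftIso (AlgSt.subIncl _ _) (FibCat.fpIso z f))

theorem theta_comp_fpFst :
    BasedFunctor.comp (theta f z Q₀) (FibCat.fpFst z _) =
      BasedFunctor.comp (AlgSt.subIncl _ _) (FibCat.fpFst z f) := rfl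

theorem theta_faithful : (theta f z Q₀).toFunctor.Faithful := by
  refine ⟨fun {b b'} m m' h => ?_⟩
  apply ObjectProperty.hom_ext
  apply ObjectProperty.hom_ext
  apply Limits.CategoricalPullback.hom_ext
  · exact congrArg (fun t => t.hom.fst) h
  · exact congrArg (fun t => t.hom.snd.hom) h

theorem theta_full : (theta f z Q₀).toFunctor.Full := by
  refine ⟨fun {b b'} n => ?_⟩
  refine ⟨ObjectProperty.homMk (ObjectProperty.homMk ⟨n.hom.fst, n.hom.snd.hom, n.hom.w⟩), ?_⟩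
  apply ObjectProperty.hom_ext
  apply Limits.CategoricalPullback.hom_ext
  · rfl
  · rfl

theorem theta_essSurjOver : EssSurjOver (theta f z Q₀) := by
  intro o
  let b : (AlgSt.fullSub (FibCat.fp z f) (fun b => Q₀ ((FibCat.fpSnd z f).obj b))).obj :=
    ⟨⟨⟨o.obj.fst, o.obj.snd.obj, o.obj.iso⟩, o.property⟩, o.obj.snd.property⟩
  refine ⟨b, fpIsoOf (Iso.refl _) (Iso.refl _) ?_, ?_⟩
  · change z.map (𝟙 _) ≫ o.obj.iso.hom = o.obj.iso.hom ≫ f.map (𝟙 _)
    rw [z.toFunctor.map_id, f.toFunctor.map_id, Category.id_comp]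
    exact (Category.comp_id _).symm
  · rw [fp_isHomLift_iff]
    exact IsHomLift.id rfl

theorem isEquivOver_theta : FibCat.IsEquivOver (theta f z Q₀) := by
  have := theta_faithful f z Q₀
  have := theta_full f z Q₀
  exact isEquivOver_of_fullyFaithful_of_essSurjOver _ (theta_essSurjOver f z Q₀)

end Theta

end Groth.Agent.Lib.Seat59.LargestI
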