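-- helper59: the largest open substack on which a representable morphism has a property, part J:
-- base change of the largest open substack.
import Mathlib
import Groth.Agent.Lib.Seat59LargestI

set_option autoImplicit false
set_option backward.isDefEq.respectTransparency false
set_option backward.isDefEq.respectTransparency.types false
open CategoryTheory CategoryTheory.Functor CategoryTheory.Limits Opposite AlgebraicGeometry

universe u

namespace Groth.Agent.Lib.Seat59.LargestJ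

open Groth.Agent.Lib.Helper17 Groth.Agent.Lib.Helper15PshFib Groth.Agent.Lib.Seat83.PshFp
  Groth.Agent.Lib.Seat59.LargestA Groth.Agent.Lib.Seat59.LargestB Groth.Agent.Lib.Seat59.LargestE
  Groth.Agent.Lib.Seat59.LargestF Groth.Agent.Lib.Seat59.OpenSubA Groth.Agent.Lib.Seat59.OpenSubB
  Groth.Agent.Lib.Seat59.OpenSubC Groth.Agent.Lib.Seat59.OpenSubD Groth.Agent.Lib.Seat59.OpenSubE
  Groth.Agent.Lib.Seat59.OpenSubF Groth.Agent.Lib.Seat59.LargestG Groth.Agent.Lib.Seat59.LargestH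
  Groth.Agent.Lib.Seat59.LargestI

variable {S : Scheme.{u}} {𝒳 𝒴 𝒵 : AlgSt.Cat S}

/-- The inverse image of the largest open substack is the largest open substack of the base
change. -/
theorem base_change_largest
    (h𝒳 : AlgSt.IsAlgStack Scheme.fppfPrecoverage 𝒳) (h𝒴 : AlgSt.IsAlgStack Scheme.fppfPrecoverage 𝒴)
    (h𝒵 : AlgSt.IsAlgStack Scheme.fppfPrecoverage 𝒵)
    (P Q R : MorphismProperty (AlgSp.Sp S))
    (hPb : ∀ ⦃X₁ Y₁ X₂ Y₂ : AlgSp.Sp S⦄, AlgSp.IsAlgSpace X₁ → AlgSp.IsAlgSpace Y₁ →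
      AlgSp.IsAlgSpace X₂ → AlgSp.IsAlgSpace Y₂ → ∀ (a : X₁ ⟶ Y₁) (b : Y₂ ⟶ Y₁) (a' : X₂ ⟶ Y₂)
      (b' : X₂ ⟶ X₁), IsPullback b' a' a b → P a → P a')
    (hP : AlgSp.IsLocalOnBase AlgSp.IsFppfCover P) (hQ : AlgSp.IsLocalOnBase AlgSp.IsFppfCover Q)
    (hR : AlgSp.IsLocalOnBase AlgSp.IsFppfCover R)
    (h₂ : ∀ (X Y : AlgSp.Space S) (g : X ⟶ Y), AlgSp.LocP @Smooth g.hom → R g.hom)
    (h₃ : ∀ (X Y : AlgSp.Space S) (f : X ⟶ Y), Q f.hom →
      ∃ (W : AlgSp.Space S) (w : W ⟶ X), (AlgSp.RepWith @IsOpenImmersion w.hom ∧ P (w ≫ f).hom ∧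
          ∀ (W₁ : AlgSp.Space S) (w₁ : W₁ ⟶ X), AlgSp.RepWith @IsOpenImmersion w₁.hom →
            P (w₁ ≫ f).hom → ∃ k : W₁ ⟶ W, k ≫ w = w₁))
    (h₄ : ∀ (X Y X' Y' : AlgSp.Space S) (f : X ⟶ Y) (g : Y' ⟶ Y) (f' : X' ⟶ Y') (g' : X' ⟶ X),
      IsPullback g'.hom f'.hom f.hom g.hom → Q f.hom → R g.hom →
      ∀ (W : AlgSp.Space S) (w : W ⟶ X), (AlgSp.RepWith @IsOpenImmersion w.hom ∧ P (w ≫ f).hom ∧
          ∀ (W₁ : AlgSp.Space S) (w₁ : W₁ ⟶ X), AlgSp.RepWith @IsOpenImmersion w₁.hom →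
            P (w₁ ≫ f).hom → ∃ k : W₁ ⟶ W, k ≫ w = w₁) →
        ∀ (W' : AlgSp.Space S) (w' : W' ⟶ X') (k : W' ⟶ W), IsPullback k.hom w'.hom w.hom g'.hom →
          (AlgSp.RepWith @IsOpenImmersion w'.hom ∧ P (w' ≫ f').hom ∧
          ∀ (W₁ : AlgSp.Space S) (w₁ : W₁ ⟶ X'), AlgSp.RepWith @IsOpenImmersion w₁.hom →
            P (w₁ ≫ f').hom → ∃ k : W₁ ⟶ W', k ≫ w' = w₁))
    (f : 𝒳 ⥤ᵇ 𝒴) (hf : AlgSt.RepByAlgSpWith Q f)
    (Q₀ : 𝒳.obj → Prop) (hQ₀ : AlgSt.IsOpenSubstack 𝒳 Q₀ Scheme.fppfPrecoverage)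
    (hQ₀P : AlgSt.RepByAlgSpWith P (BasedFunctor.comp (AlgSt.subIncl 𝒳 Q₀) f))
    (hQ₀max : ∀ Q₁ : 𝒳.obj → Prop, AlgSt.IsOpenSubstack 𝒳 Q₁ Scheme.fppfPrecoverage →
      AlgSt.RepByAlgSpWith P (BasedFunctor.comp (AlgSt.subIncl 𝒳 Q₁) f) → ∀ y, Q₁ y → Q₀ y)
    (z : 𝒵 ⥤ᵇ 𝒴) (hz : AlgSt.RepByAlgSpWith R z) :
    AlgSt.IsOpenSubstack (FibCat.fp z f) (fun b ↦ Q₀ b.obj.snd) Scheme.fppfPrecoverage ∧
      AlgSt.RepByAlgSpWith P
        (BasedFunctor.comp (AlgSt.subIncl (FibCat.fp z f) fun b ↦ Q₀ b.obj.snd) (FibCat.fpFst z f)) ∧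
        ∀ Q₁ : (FibCat.fp z f).obj → Prop, AlgSt.IsOpenSubstack (FibCat.fp z f) Q₁ Scheme.fppfPrecoverage →
          AlgSt.RepByAlgSpWith P (BasedFunctor.comp (AlgSt.subIncl (FibCat.fp z f) Q₁) (FibCat.fpFst z f)) →
            ∀ b, Q₁ b → Q₀ b.obj.snd := by
  have hfib𝒳 := h𝒳.isStack.1
  have hfib𝒴 := h𝒴.isStack.1
  have hfib𝒵 := h𝒵.isStack.1
  have h𝒳' : AlgSt.IsAlgStack Scheme.fppfPrecoverage (FibCat.fp z f) :=
    Groth.Agent.Lib.Seat83.DMFp.isAlgStack_fp _ h𝒵 h𝒳 h𝒴 z f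
  have hfib𝒳' := h𝒳'.isStack.1
  have hQ₀' : AlgSt.IsOpenSubstack (FibCat.fp z f) (fun b ↦ Q₀ b.obj.snd)
      Scheme.fppfPrecoverage := isOpenSubstack_preimage h𝒳' h𝒳 (FibCat.fpSnd z f) Q₀ hQ₀
  refine ⟨hQ₀', ?_, ?_⟩
  · exact (repByAlgSpWith_of_square P (FibCat.fpFst z (BasedFunctor.comp (AlgSt.subIncl 𝒳 Q₀) f))
      (BasedFunctor.comp (AlgSt.subIncl (FibCat.fp z f) fun b ↦ Q₀ b.obj.snd) (FibCat.fpFst z f))
      (theta f z Q₀) (BasedFunctor.id _) (isEquivOver_theta f z Q₀) (isEquivOver_id _)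
      (Iso.refl _)).1 (repByAlgSpWith_fpFst P _ z hQ₀P)
  · intro Q₁ hQ₁ hP₁
    obtain ⟨YV, X, W, a, w, z₀, E, ιa, Q₀c, hz₀sm, hz₀surj, hE, hQa, hW, hiff, hQ₀c, hQ₀cP, -⟩ :=
      exists_largest_chart h𝒳 h𝒴 P Q R hPb hP hQ h₂ h₃ h₄ f hf
    have hQeq : ∀ y, Q₀c y → Q₀ y := hQ₀max Q₀c hQ₀c hQ₀cP
    -- the chart of `𝒵`
    obtain ⟨N, n₁, eN, heN, ⟨ιN⟩, hRn₁⟩ :=
      Groth.Agent.Lib.Helper15SpMapRep.exists_space_map_of_repByAlgSpWith hfib𝒵 hfib𝒴 R hR z hz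
        YV z₀
    have sq := IsPullback.of_hasPullback n₁.hom a.hom
    let X' : AlgSp.Space S := ⟨pullback n₁.hom a.hom,
      Groth.Agent.S9874.isAlgSpace_of_isPullback YV.property.diag N.property X.property sq⟩
    let fst' : X' ⟶ N := ObjectProperty.homMk (pullback.fst n₁.hom a.hom)
    let snd' : X' ⟶ X := ObjectProperty.homMk (pullback.snd n₁.hom a.hom)
    obtain ⟨E', hE', ⟨ι'⟩, ⟨ι''⟩⟩ := exists_chart_fp f z z₀ a.hom n₁.hom E ιa eN ιN hE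
    -- the largest open subspace of the chart of the base change
    have sqW := IsPullback.of_hasPullback w.hom snd'.hom
    let W' : AlgSp.Space S := ⟨pullback w.hom snd'.hom,
      Groth.Agent.S9874.isAlgSpace_of_isPullback X.property.diag W.property X'.property sqW⟩
    let w' : W' ⟶ X' := ObjectProperty.homMk (pullback.snd w.hom snd'.hom)
    let k' : W' ⟶ W := ObjectProperty.homMk (pullback.fst w.hom snd'.hom)
    have hW' := h₄ X YV X' N a n₁ fst' snd' sq.flip hQa hRn₁ W w hW W' w' k' sqW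
    -- the open subspace attached to `Q₁`
    obtain ⟨W₁, w₁, hw₁, hiff₁⟩ := exists_open_subspace hfib𝒳' X'
      (BasedFunctor.comp E' (FibCat.fpSnd (BasedFunctor.comp eN (FibCat.fpSnd z₀ z))
        (FibCat.fpFst z f))) Q₁ hQ₁
    obtain ⟨E₁, hE₁, ⟨ι₁⟩⟩ := exists_equiv_sub (FibCat.fpFst z f)
      (BasedFunctor.comp eN (FibCat.fpSnd z₀ z)) E' Q₁ w₁.hom hE' ι' hQ₁.1
      (Groth.Agent.Lib.Helper12.LargestOpen.mono_of_open w₁.hom hw₁) hiff₁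
    have h1 : AlgSt.RepByAlgSpWith P (FibCat.fpFst (BasedFunctor.comp eN (FibCat.fpSnd z₀ z))
        (BasedFunctor.comp (AlgSt.subIncl (FibCat.fp z f) Q₁) (FibCat.fpFst z f))) :=
      repByAlgSpWith_fpFst P _ _ hP₁
    have h2 : AlgSt.RepByAlgSpWith P (AlgSt.ofSpMap (w₁ ≫ fst').hom) :=
      (repByAlgSpWith_of_square P (FibCat.fpFst (BasedFunctor.comp eN (FibCat.fpSnd z₀ z))
        (BasedFunctor.comp (AlgSt.subIncl (FibCat.fp z f) Q₁) (FibCat.fpFst z f)))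
        (AlgSt.ofSpMap (w₁ ≫ fst').hom) E₁ (BasedFunctor.id _) hE₁ (isEquivOver_id _) ι₁.symm).1 h1
    have h3 : P (w₁ ≫ fst').hom :=
      Groth.Agent.Lib.Helper15LocQSpace2.prop_of_repByAlgSpWith_ofSpMap P hPb hP W₁ N
        (w₁ ≫ fst') h2
    obtain ⟨k, hk⟩ := hW'.2.2 W₁ w₁ hw₁ h3
    have hstar : ∀ c' : (AlgSt.ofSp X'.obj).obj,
        Q₁ ((BasedFunctor.comp E' (FibCat.fpSnd (BasedFunctor.comp eN (FibCat.fpSnd z₀ z))
          (FibCat.fpFst z f))).obj c') →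
        Q₀ ((BasedFunctor.comp E' (FibCat.fpSnd (BasedFunctor.comp eN (FibCat.fpSnd z₀ z))
          (FibCat.fpFst z f))).obj c').obj.snd := by
      intro c' hc'
      obtain ⟨s, hs⟩ := (hiff₁ c').2 hc'
      have hin : InW w.hom ((AlgSt.ofSpMap snd'.hom).obj c') := by
        refine ⟨k'.hom.hom.app (op c'.base) (k.hom.hom.app (op c'.base) s), ?_⟩
        have hc : (pullback.fst w.hom snd'.hom).hom ≫ w.hom.hom =
            (pullback.snd w.hom snd'.hom).hom ≫ snd'.hom.hom := by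
          rw [← ObjectProperty.FullSubcategory.comp_hom, ← ObjectProperty.FullSubcategory.comp_hom,
            pullback.condition]
        have e1 := app_comm w.hom.hom snd'.hom.hom (pullback.fst w.hom snd'.hom).hom
          (pullback.snd w.hom snd'.hom).hom hc (op c'.base) (k.hom.hom.app (op c'.base) s)
        have e2 : (pullback.snd w.hom snd'.hom).hom.app (op c'.base)
            (k.hom.hom.app (op c'.base) s) = c'.sec := by
          have := congrArg (fun m : W₁ ⟶ X' => m.hom.hom.app (op c'.base) s) hk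
          exact this.trans hs
        change w.hom.hom.app (op c'.base) _ = snd'.hom.hom.app (op c'.base) c'.sec
        rw [← e2]
        exact e1
      have hq := hQeq _ ((hiff _).1 hin)
      exact hQ₀.1.of_iso (bApp ι'' c').symm hq
    -- surjectivity of the chart on points
    have hzNsurj : AlgSt.RepByAlgSpWith AlgSp.IsSurjectiveMor
        (BasedFunctor.comp eN (FibCat.fpSnd z₀ z)) :=
      (repByAlgSpWith_of_square AlgSp.IsSurjectiveMor (FibCat.fpSnd z₀ z)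
        (BasedFunctor.comp eN (FibCat.fpSnd z₀ z)) eN (BasedFunctor.id _) heN (isEquivOver_id _)
        (Iso.refl _)).1 (repByAlgSpWith_fpSnd AlgSp.IsSurjectiveMor z₀ z hz₀surj)
    have hπsurj : AlgSt.RepByAlgSpWith AlgSp.IsSurjectiveMor
        (BasedFunctor.comp E' (FibCat.fpSnd (BasedFunctor.comp eN (FibCat.fpSnd z₀ z))
          (FibCat.fpFst z f))) :=
      (repByAlgSpWith_of_square AlgSp.IsSurjectiveMor
        (FibCat.fpSnd (BasedFunctor.comp eN (FibCat.fpSnd z₀ z)) (FibCat.fpFst z f))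
        (BasedFunctor.comp E' (FibCat.fpSnd (BasedFunctor.comp eN (FibCat.fpSnd z₀ z))
          (FibCat.fpFst z f))) E' (BasedFunctor.id _) hE' (isEquivOver_id _)
        (Iso.refl _)).1 (repByAlgSpWith_fpSnd AlgSp.IsSurjectiveMor _ _ hzNsurj)
    have hπS : AlgSt.IsSurjective
        (BasedFunctor.comp E' (FibCat.fpSnd (BasedFunctor.comp eN (FibCat.fpSnd z₀ z))
          (FibCat.fpFst z f))) :=
      (Groth.Agent.Lib.Helper15PtsComp.isSurjective_iff_repByAlgSpWith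
        (Groth.Agent.Lib.Helper15PtsTop.isAlgStack_ofSp X') h𝒳' _
        (Groth.Agent.Lib.Helper15SrcCancel.repByAlgSp1_of_repByAlgSpWith _ _ hπsurj)).2 hπsurj
    intro b hb
    apply q_of_qW_range h𝒳' (fun b ↦ Q₀ b.obj.snd) hQ₀' b
    rintro p ⟨m⟩
    have hQp : Q₁ p.obj := q_of_hom hfib𝒳' Q₁ hQ₁.1 hQ₁.2.1.isStack.1 m hb
    obtain ⟨ξ, hξ⟩ := hπS (AlgSt.Points.mk p)
    obtain ⟨p', rfl⟩ := AlgSt.Points.mk_surjective ξ
    obtain ⟨r, m₁, m₂, -⟩ := fpt_rel_of_mk_eq hfib𝒳' hξ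
    obtain ⟨s, ρ, e, -, -⟩ := exists_restriction hfib𝒳'
      (BasedFunctor.comp E' (FibCat.fpSnd (BasedFunctor.comp eN (FibCat.fpSnd z₀ z))
        (FibCat.fpFst z f))) p'.obj r.obj m₁
    have hQr : Q₁ r.obj := q_of_hom hfib𝒳' Q₁ hQ₁.1 hQ₁.2.1.isStack.1 m₂ hQp
    have hQc := hstar _ (hQ₁.1.of_iso e.symm hQr)
    have hQ₀r : Q₀ r.obj.obj.snd :=
      hQ₀'.1.of_iso (P := fun b : (FibCat.fp z f).obj ↦ Q₀ b.obj.snd) e hQc
    let q : AlgSt.FPt (AlgSt.fullSub (FibCat.fp z f) (fun b ↦ Q₀ b.obj.snd)) :=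
      { K := r.K, field := r.field, str := r.str, obj := ⟨r.obj, hQ₀r⟩, lies := r.lies }
    exact ⟨AlgSt.Points.mk q, AlgSt.Points.sound ⟨r, 𝟙 _, m₂, trivial⟩⟩

end Groth.Agent.Lib.Seat59.LargestJ
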