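-- helper59 (seat 59): lifting objects fppf locally along flat, locally finitely presented
-- functors of algebraic stacks.
import Mathlib
import Groth.Agent.Lib.Seat59LocQDesc

set_option autoImplicit false
set_option backward.isDefEq.respectTransparency false
set_option backward.isDefEq.respectTransparency.types false
open CategoryTheory CategoryTheory.Functor CategoryTheory.Limits Opposite AlgebraicGeometry

universe u

namespace Groth.Agent.Lib.Seat59.Lift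

open Groth.Agent.Lib.Helper17 Groth.Agent.Lib.Helper15PshFib Groth.Agent.Lib.Helper15RepComp
  Groth.Agent.Lib.Helper15RepPsh Groth.Agent.Lib.Helper15DiagBase Groth.Agent.Lib.Helper15DiagRepSp
  Groth.Agent.Lib.Helper15Descent Groth.Agent.Lib.Helper15DiagLft
  Groth.Agent.Lib.Helper15DiagDescent
  Groth.Agent.Lib.Helper15SpMapRep Groth.Agent.Lib.Helper15Atlas
  Groth.Agent.Lib.Helper15PtsComp Groth.Agent.Lib.Helper15PtsTop
  Groth.Agent.Lib.Helper15FpSwap Groth.Agent.Lib.Helper15LocQEngine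
  Groth.Agent.Lib.Helper15LocQSpace Groth.Agent.Lib.Helper15LocQRep
  Groth.Agent.Lib.Helper15GoodComp Groth.Agent.Lib.Helper15LocQProps
  Groth.Agent.Lib.Helper15LocEss Groth.Agent.Lib.Helper15ClosedQc
  Groth.Agent.Lib.Helper15SrcCancel Groth.Agent.Lib.Helper15LocQComp
  Groth.Agent.Lib.Helper15SmLoc
  Groth.Agent.Lib.Seat59.LocQBC Groth.Agent.Lib.Seat59.LocQFlat Groth.Agent.Lib.Seat59.QcDesc
  Groth.Agent.Lib.Seat59.RepDesc Groth.Agent.Lib.Seat59.LocQDesc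

variable {S : Scheme.{u}} {𝒴 𝒵 : AlgSt.Cat S}

/-- For a flat, locally finitely presented functor `z : 𝒵 ⟶ 𝒴` of algebraic stacks and any scheme
chart `y : V ⟶ 𝒴`, a scheme `W` flat and locally of finite presentation over `V`, over which `y`
lifts to `𝒵`, and whose image in `V` contains every point whose image in `|𝒴|` comes from `|𝒵|`. -/
theorem exists_flat_lfp_chart (h𝒴 : AlgSt.IsAlgStack Scheme.fppfPrecoverage 𝒴)
    (h𝒵 : AlgSt.IsAlgStack Scheme.fppfPrecoverage 𝒵) (z : 𝒵 ⥤ᵇ 𝒴)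
    (hz₁ : AlgSt.LocQ (AlgSp.LocP @Flat) z)
    (hz₂ : AlgSt.LocQ (AlgSp.LocP @LocallyOfFinitePresentation) z)
    {V : Over S} (y : FibCat.overCat V ⥤ᵇ 𝒴) :
    ∃ (W : Over S) (w : W ⟶ V) (d : FibCat.overCat W ⥤ᵇ 𝒵)
      (_ : BasedFunctor.comp d z ≅ BasedFunctor.comp (AlgSt.overMap w) y),
      Flat w.left ∧ LocallyOfFinitePresentation w.left ∧
        ∀ v : ↥V.left, AlgSt.Points.ofChart y v ∈ Set.range (AlgSt.Points.map z) →
          v ∈ Set.range w.left := by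
  have hpre𝒴 := IsStack.isPrestack _ h𝒴.isStack
  have hV := isAlgStack_overCat V
  have hVg : FibCat.IsFibGrpd (FibCat.overCat V).p := (isFibSet_overForget V).1
  have hℬ : AlgSt.IsAlgStack Scheme.fppfPrecoverage (FibCat.fp z y) :=
    isAlgStack_fp_of_isPrestack hpre𝒴 h𝒴.diag h𝒵 hV z y
  obtain ⟨W, ω, hω₁, hω₂⟩ := hℬ.atlas
  have hW := isAlgStack_overCat W
  obtain ⟨w, ⟨lam⟩⟩ := exists_iso_overMap (BasedFunctor.comp ω (FibCat.fpSnd z y))
  have hkfl : AlgSt.LocQ (AlgSp.LocP @Flat) (FibCat.fpSnd z y) :=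
    locQ_fpSnd _ isSmoothLocalST_flat bcStable_flat h𝒴 hV z y hz₁
  have hkfp : AlgSt.LocQ (AlgSp.LocP @LocallyOfFinitePresentation) (FibCat.fpSnd z y) :=
    locQ_fpSnd _ isSmoothLocalST_lfp bcStable_lfp h𝒴 hV z y hz₂
  have hωfl : AlgSt.LocQ (AlgSp.LocP @Flat) ω :=
    locQ_of_repByAlgSpWith _ isSmoothLocalST_flat hW hℬ ω (flat_of_smooth hω₁)
  have hωfp : AlgSt.LocQ (AlgSp.LocP @LocallyOfFinitePresentation) ω :=
    locQ_of_repByAlgSpWith _ isSmoothLocalST_lfp hW hℬ ω (lfp_of_smooth hω₁)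
  have hωs : AlgSt.IsSurjective ω :=
    (isSurjective_iff_repByAlgSpWith hW hℬ ω (repByAlgSp1_of_repByAlgSpWith _ _ hω₂)).2 hω₂
  have h1 : AlgSt.LocQ (AlgSp.LocP @Flat) (AlgSt.overMap w) :=
    locQ_of_iso _ lam (locQ_comp _ isSmoothLocalST_flat
      (fun _ _ _ _ hY hZ a b ha hb => locP_flat_comp hY hZ a b ha hb) hW hℬ hV ω _ hωfl hkfl)
  have h2 : AlgSt.LocQ (AlgSp.LocP @LocallyOfFinitePresentation) (AlgSt.overMap w) :=
    locQ_of_iso _ lam (locQ_comp _ isSmoothLocalST_lfp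
      (fun _ _ _ _ hY hZ a b ha hb => locP_lfp_comp hY hZ a b ha hb) hW hℬ hV ω _ hωfp hkfp)
  refine ⟨W, w, BasedFunctor.comp ω (FibCat.fpFst z y), ?_,
    AlgSp.locP_yon_map (prop_of_locQ_overMap _ isSmoothLocalST_flat w h1),
    AlgSp.locP_yon_map (prop_of_locQ_overMap _ isSmoothLocalST_lfp w h2), ?_⟩
  · exact (whiskerLeftIso ω (FibCat.fpIso z y)) ≪≫ whiskerRightIso lam y
  · rintro v ⟨ζ, hζ⟩
    rw [ofChart_eq_map_ptOver] at hζ
    obtain ⟨q, hq₁, hq₂⟩ := points_fp_surjective hVg h𝒴.isStack.1 h𝒵.isStack.1 y z ζ (ptOver V v) hζ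
    obtain ⟨r, rfl⟩ := hωs q
    obtain ⟨t, rfl⟩ := (ptOver_bijective W).2 r
    refine ⟨t, ?_⟩
    apply (ptOver_bijective V).1
    rw [← ptOver_map, ← hq₂, ← points_map_comp]
    exact (points_map_congr _ _ ((BasedNatTrans.forgetful _ _).mapIso lam) _).symm

end Groth.Agent.Lib.Seat59.Lift
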