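-- helper59 (seat 59): fppf descent of `AlgSt.LocQ P` on the source, for `P` fppf local on the
-- source (morphisms of algebraic stacks).
import Mathlib
import Groth.Agent.Lib.Seat59LocQFlat

set_option autoImplicit false
set_option backward.isDefEq.respectTransparency false
set_option backward.isDefEq.respectTransparency.types false
open CategoryTheory CategoryTheory.Functor CategoryTheory.Limits Opposite AlgebraicGeometry

universe u

namespace Groth.Agent.Lib.Seat59.LocQSrc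

open Groth.Agent.Lib.Helper17 Groth.Agent.Lib.Helper15LocQEngine
  Groth.Agent.Lib.Helper15GoodComp Groth.Agent.Lib.Helper15LocQProps
  Groth.Agent.Lib.Helper15LocEss Groth.Agent.Lib.Seat59.LocQFlat

variable {S : Scheme.{u}} {𝒳 𝒴 𝒵 : AlgSt.Cat S}

/-- If `f` is flat, locally of finite presentation and surjective, `P` is smooth local on
source-and-target and fppf local on the source, and `f ≫ g` has `P`, then `g` has `P`. -/
theorem locQ_of_comp_fppf (P : MorphismProperty (AlgSp.Sp S)) (hP : AlgSp.IsSmoothLocalST P)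
    (hPs : AlgSp.IsLocalOnSource AlgSp.IsFppfCover P)
    (h𝒳 : AlgSt.IsAlgStack Scheme.fppfPrecoverage 𝒳)
    (h𝒴 : AlgSt.IsAlgStack Scheme.fppfPrecoverage 𝒴)
    (h𝒵 : AlgSt.IsAlgStack Scheme.fppfPrecoverage 𝒵) (f : 𝒳 ⥤ᵇ 𝒴) (g : 𝒴 ⥤ᵇ 𝒵)
    (hf₁ : AlgSt.LocQ (AlgSp.LocP @Flat) f)
    (hf₂ : AlgSt.LocQ (AlgSp.LocP @LocallyOfFinitePresentation) f)
    (hf₃ : AlgSt.IsSurjective f) (hfg : AlgSt.LocQ P (BasedFunctor.comp f g)) :
    AlgSt.LocQ P g := by
  obtain ⟨U, V, W, x, y, z, h, k, α, β, hx₁, hx₂, hy₁, hy₂, hz₁, hz₂, hα₁, hα₂, hβ₁, hβ₂, hγ⟩ :=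
    exists_good_squares h𝒳 h𝒴 h𝒵 f g
  have hPhk : P ((AlgSp.yon S).map (h ≫ k)) :=
    (locQ_iff_forall_good _ hP h𝒳 h𝒵 (BasedFunctor.comp f g)).1 hfg U W x z (h ≫ k) _ hx₁ hz₁ hγ
  have hfl : Flat h.left := AlgSp.locP_yon_map
    ((locQ_iff_forall_good _ isSmoothLocalST_flat h𝒳 h𝒴 f).1 hf₁ U V x y h α hx₁ hy₁ hα₁)
  have hfp : LocallyOfFinitePresentation h.left := AlgSp.locP_yon_map
    ((locQ_iff_forall_good _ isSmoothLocalST_lfp h𝒳 h𝒴 f).1 hf₂ U V x y h α hx₁ hy₁ hα₁)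
  have hs : Function.Surjective h.left := surjective_left_of_square h𝒳 h𝒴 f hf₃ x y h α hα₂
  have hcov : AlgSp.IsFppfCover (fun _ : PUnit.{u + 1} => (AlgSp.yon S).obj U)
      (fun _ => (AlgSp.yon S).map h) :=
    isFppfCover_of_schemes (fun _ : PUnit.{u + 1} => U) (fun _ => h) (fun _ => hfl)
      (fun _ => hfp) (fun t => ⟨PUnit.unit, hs t⟩)
  have hPk : P ((AlgSp.yon S).map k) :=
    (hPs (fun _ : PUnit.{u + 1} => (AlgSp.yon S).obj U) (fun _ => (AlgSp.yon S).map h)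
      (AlgSp.IsAlgSpace.yon_obj V) (fun _ => AlgSp.IsAlgSpace.yon_obj U) hcov
      ((AlgSp.yon S).map k) (AlgSp.IsAlgSpace.yon_obj W)).2
      (fun _ => by rw [← Functor.map_comp]; exact hPhk)
  exact ⟨V, W, y, z, k, β, hy₁, hy₂, hz₁, hPk⟩

end Groth.Agent.Lib.Seat59.LocQSrc
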