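-- helper59 (seat 59): monomorphisms into an algebraic stack with a flat, locally finitely
-- presented, surjective field point are empty or equivalences.
import Mathlib
import Groth.Agent.Lib.Seat59FieldPt
import Groth.Agent.Lib.Seat59GerbDesc
import Groth.Agent.Lib.Seat46MonoDisc
import Groth.Agent.Lib.Helper10MonoField
import Groth.Agent.Lib.Helper17MonoFF
import Groth.Agent.Lib.Helper17StkLoc

set_option autoImplicit false
set_option backward.isDefEq.respectTransparency false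
set_option backward.isDefEq.respectTransparency.types false
open CategoryTheory CategoryTheory.Functor CategoryTheory.Limits Opposite AlgebraicGeometry

universe u

namespace Groth.Agent.Lib.Seat59.MonoPt

variable {S : Scheme.{u}}

/-- A monomorphism from an algebraic space with a section over a nonempty scheme to the spectrum of
a field is an isomorphism. -/
theorem isIso_of_mono_to_field {F : AlgSp.Sp S} (hF : AlgSp.IsAlgSpace F) (k : Type u) [Field k]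
    (a : Spec (CommRingCat.of k) ⟶ S) (m : F ⟶ (AlgSp.yon S).obj (Over.mk a)) [Mono m]
    (T : Over S) [hT : Nonempty T.left] (s : F.obj.obj (op T)) : IsIso m := by
  have hdisc : DiscreteTopology ↥(Over.mk a).left := by
    change DiscreteTopology (Spec (CommRingCat.of k))
    infer_instance
  have hrep := Groth.Agent.Lib.Seat46.MonoDisc.isRepresentable_of_mono_discrete (Over.mk a) hF m
  obtain ⟨Y', ⟨ρ⟩⟩ := hrep.has_representation
  let φ : (AlgSp.yon S).obj Y' ≅ F := AlgSp.isoOfRepresentableBy ρ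
  obtain ⟨g, hg⟩ := (AlgSp.yon S).map_surjective (φ.hom ≫ m)
  have hmono : Mono ((AlgSp.yon S).map g) := by rw [hg]; infer_instance
  have hg_mono : Mono g := (AlgSp.yon S).mono_of_mono_map hmono
  have hgl : Mono g.left := inferInstance
  have hne : Nonempty Y'.left := by
    obtain ⟨t₀⟩ := hT
    let t : T ⟶ Y' := (φ.inv.hom.app (op T) s).down
    exact ⟨t.left.base t₀⟩
  have hall : ∀ (Y : Scheme.{u}) (r : Y ⟶ Spec (CommRingCat.of k)) [Mono r] [Nonempty Y],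
      IsIso r := fun Y r _ _ => Groth.Agent.Lib.Helper10.MonoField.isIso_of_mono_of_nonempty k r
  have hiso : IsIso g.left := hall _ g.left
  have hgiso : IsIso g := by
    have : IsIso ((Over.forget S).map g) := hiso
    exact isIso_of_reflects_iso g (Over.forget S)
  have h1 : IsIso ((AlgSp.yon S).map g) := inferInstance
  have h2 : IsIso (φ.hom ≫ m) := by rw [← hg]; exact h1
  exact IsIso.of_isIso_comp_left φ.hom m

open Groth.Agent.Lib.Helper17 in
/-- If `z : (Sch/U) ⟶ 𝒵` is locally essentially surjective and its universal object lies in the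
essential image of `f`, then `f` is locally essentially surjective. -/
theorem locSurjObj_of_essImage {𝒵 𝒵' : AlgSt.Cat S} (h𝒵 : FibCat.IsFibGrpd 𝒵.p)
    (h𝒵' : FibCat.IsFibGrpd 𝒵'.p) {U : Over S} (z : FibCat.overCat U ⥤ᵇ 𝒵) (f : 𝒵' ⥤ᵇ 𝒵)
    (hz : Gerb.LocSurjObj (AlgSp.J S) z) (ξ : 𝒵'.obj) {V₀ : Over S} (j : V₀ ⟶ U) [IsIso j]
    (ε : f.obj ξ ⟶ z.obj (Over.mk (𝟙 U))) (hε : 𝒵.p.IsHomLift j ε) :
    Gerb.LocSurjObj (AlgSp.J S) f := by
  intro y
  obtain ⟨R, hR, h⟩ := hz y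
  refine ⟨R, hR, fun V g hg => ?_⟩
  obtain ⟨x, c, hc⟩ := h g hg
  have hV : x.left = V :=
    ((z.w_obj x).symm.trans (IsHomLift.domain_eq 𝒵.p g c) : (FibCat.overCat U).p.obj x = V)
  have hξ : 𝒵'.p.obj ξ = V₀ := (f.w_obj ξ).symm.trans (IsHomLift.domain_eq 𝒵.p j ε)
  obtain ⟨ξ', d, hd⟩ := h𝒵'.exists_lift (x := ξ) ((x.hom ≫ inv j) ≫ eqToHom hξ.symm)
  have hd2 : 𝒵'.p.IsHomLift (x.hom ≫ inv j) d :=
    (IsHomLift.lift_comp_eqToHom_iff (p := 𝒵'.p) (x.hom ≫ inv j) d hξ.symm).1 hd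
  have h1 : 𝒵.p.IsHomLift (x.hom ≫ inv j) (f.map d) := inferInstance
  have h2 : 𝒵.p.IsHomLift ((x.hom ≫ inv j) ≫ j) (f.map d ≫ ε) := inferInstance
  have h3 : 𝒵.p.IsHomLift x.hom (f.map d ≫ ε) := by
    simpa using h2
  have h4 : (FibCat.overCat U).p.IsHomLift x.hom (overTerm U x) := overTerm_isHomLift U x
  have h5 : 𝒵.p.IsHomLift x.hom (z.map (overTerm U x)) :=
    BasedFunctor.preserves_isHomLift z x.hom (overTerm U x)
  obtain ⟨e, he, -⟩ := IsFibGrpd.exists_iso_of_lifts h𝒵 x.hom (f.map d ≫ ε)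
    (z.map (overTerm U x))
  subst hV
  refine ⟨ξ', e.hom ≫ c, ?_⟩
  exact IsHomLift.comp_lift_id_left 𝒵.p g c e.hom

open Groth.Agent.Lib.Helper17 Groth.Agent.Lib.Helper15PtsComp Groth.Agent.Lib.Helper15LocQRep
  Groth.Agent.Lib.Helper15LocQProps Groth.Agent.Lib.Helper15SrcCancel
  Groth.Agent.Lib.Seat59.LocQFlat Groth.Agent.Lib.Seat59.GerbDesc in
/-- A monomorphism into an algebraic stack with a flat, locally finitely presented, surjective
field point is either empty or an equivalence. -/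
theorem empty_or_equiv {𝒵' 𝒵 : AlgSt.Cat S} (h𝒵' : AlgSt.IsAlgStack Scheme.fppfPrecoverage 𝒵')
    (h𝒵 : AlgSt.IsAlgStack Scheme.fppfPrecoverage 𝒵) (f : 𝒵' ⥤ᵇ 𝒵) (hf : AlgSt.IsMono f)
    (k : Type u) [Field k] (a : Spec (CommRingCat.of k) ⟶ S)
    (z : FibCat.overCat (Over.mk a) ⥤ᵇ 𝒵)
    (hzp : AlgSt.RepByAlgSpWith (AlgSp.LocP @LocallyOfFinitePresentation) z)
    (hzs : AlgSt.RepByAlgSpWith AlgSp.IsSurjectiveMor z)
    (hzf : AlgSt.RepByAlgSpWith (AlgSp.LocP @Flat) z) :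
    IsEmpty (AlgSt.Points 𝒵') ∨ FibCat.IsEquivOver f := by
  by_cases hemp : IsEmpty (AlgSt.Points 𝒵')
  · exact Or.inl hemp
  right
  rw [not_isEmpty_iff] at hemp
  obtain ⟨ff1, ff2⟩ := Groth.Agent.Lib.Helper17.MonoFF.full_faithful_of_isMono h𝒵'.isStack.1 h𝒵.isStack.1 f hf
  rw [isEquivOver_iff_locally_essSurj (AlgSp.J S) h𝒵'.isStack h𝒵.isStack f]
  have hk := isAlgStack_overCat (Over.mk a)
  have hrep : AlgSt.RepByAlgSp1 z := repByAlgSp1_of_repByAlgSpWith _ _ hzs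
  have hsz : AlgSt.IsSurjective z := (isSurjective_iff_repByAlgSpWith hk h𝒵 z hrep).2 hzs
  have hzL : Gerb.LocSurjObj (AlgSp.J S) z :=
    locSurjObj_of_fppf h𝒵 hk z (locQ_of_repByAlgSpWith _ isSmoothLocalST_flat hk h𝒵 z hzf)
      (locQ_of_repByAlgSpWith _ isSmoothLocalST_lfp hk h𝒵 z hzp) hsz
  obtain ⟨F, e, he, hP⟩ := hf (Over.mk a) z
  have hs2 : AlgSt.IsSurjective (FibCat.fpSnd z f) := isSurjective_fpSnd hk h𝒵 h𝒵' z f hsz
  obtain ⟨p'⟩ := hemp
  obtain ⟨q, -⟩ := hs2 p'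
  obtain ⟨r, rfl⟩ := AlgSt.Points.mk_surjective q
  obtain ⟨ξ, ε, hε⟩ := IsEquivOver.essSurjOver e he r.obj
  have hbase : ξ.base = Over.mk r.str := by
    have h1 : (FibCat.fp z f).p.obj (e.obj ξ) = ξ.base := e.w_obj ξ
    have h2 := IsHomLift.domain_eq (FibCat.fp z f).p (𝟙 ((FibCat.fp z f).p.obj r.obj)) ε.hom
    exact h1.symm.trans (h2.trans r.lies)
  have hne : Nonempty ξ.base.left := by
    rw [hbase]
    change Nonempty (Spec (CommRingCat.of r.K))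
    infer_instance
  let Φ : AlgSt.ofSp F.obj ⥤ᵇ FibCat.overCat (Over.mk a) := BasedFunctor.comp e (FibCat.fpFst z f)
  have hmono : Mono (AlgSt.spMapOfOver Φ) := hP
  have hiso : IsIso (AlgSt.spMapOfOver Φ) :=
    isIso_of_mono_to_field F.property k a (AlgSt.spMapOfOver Φ) ξ.base ξ.sec
  let s₀ : F.obj.obj.obj (op (Over.mk a)) :=
    (inv (AlgSt.spMapOfOver Φ)).hom.app (op (Over.mk a)) ⟨𝟙 _⟩
  have hs₀ : (AlgSt.spMapOfOver Φ).hom.app (op (Over.mk a)) s₀ = ⟨𝟙 _⟩ := by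
    have h1 : inv (AlgSt.spMapOfOver Φ) ≫ AlgSt.spMapOfOver Φ = 𝟙 _ := IsIso.inv_hom_id _
    have h2 := congrArg (fun t => t.hom.app (op (Over.mk a)) ⟨𝟙 _⟩) h1
    exact h2
  let ξ₀ : (AlgSt.ofSp F.obj).obj := ⟨Over.mk a, s₀⟩
  have hsec : AlgSt.secHom Φ ξ₀ = 𝟙 _ := by
    have h1 := AlgSt.spMapOfOver_app Φ (Over.mk a) s₀
    rw [hs₀] at h1
    exact (congrArg ULift.down h1).symm
  let P₀ : (FibCat.fp z f).obj := e.obj ξ₀
  let X₀ : Over (Over.mk a) := Φ.obj ξ₀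
  have hX₀ : X₀.hom = eqToHom (Φ.w_obj ξ₀) := by
    have h1 : eqToHom (Φ.w_obj ξ₀).symm ≫ X₀.hom = 𝟙 _ := hsec
    rw [eqToHom_comp_iff] at h1
    rw [h1, Category.comp_id]
  have hj : IsIso X₀.hom := by
    rw [hX₀]
    infer_instance
  have l1 : 𝒵.p.IsHomLift (𝟙 X₀.left) P₀.obj.iso.inv := fp_iso_inv_isHomLift z f P₀ rfl
  have l2 : (FibCat.overCat (Over.mk a)).p.IsHomLift X₀.hom (overTerm (Over.mk a) X₀) :=
    overTerm_isHomLift (Over.mk a) X₀
  have l3 : 𝒵.p.IsHomLift X₀.hom (z.map (overTerm (Over.mk a) X₀)) :=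
    BasedFunctor.preserves_isHomLift z X₀.hom (overTerm (Over.mk a) X₀)
  have l4 : 𝒵.p.IsHomLift X₀.hom (P₀.obj.iso.inv ≫ z.map (overTerm (Over.mk a) X₀)) :=
    IsHomLift.comp_lift_id_left 𝒵.p X₀.hom _ P₀.obj.iso.inv
  exact locSurjObj_of_essImage h𝒵.isStack.1 h𝒵'.isStack.1 z f hzL P₀.obj.snd X₀.hom
    (P₀.obj.iso.inv ≫ z.map (overTerm (Over.mk a) X₀)) l4

end Groth.Agent.Lib.Seat59.MonoPt
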