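-- helper59 (seat 59): the residual gerbe as the essential image of a monomorphism from a
-- reduced, locally Noetherian one-point algebraic stack.
import Mathlib
import Groth.Agent.Lib.Seat59ImmImage
import Groth.Agent.Lib.Seat59IsoNatF
import Groth.Agent.Lib.Seat59LocQBC
import Groth.Agent.Lib.Helper15UnivComp
import Groth.Agent.Lib.Helper17AlgStEquiv
import Groth.Prelude.Def_StGerb

set_option autoImplicit false
set_option backward.isDefEq.respectTransparency false
set_option backward.isDefEq.respectTransparency.types false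
open CategoryTheory CategoryTheory.Functor CategoryTheory.Limits Opposite AlgebraicGeometry

universe u

namespace Groth.Agent.Lib.Seat59.ResGerbe

open Groth.Agent.Lib.Helper17 Groth.Agent.Lib.Seat59.ImmImage

variable {S : Scheme.{u}} {𝒵 𝒳 : AlgSt.Cat S}

/-- Smooth-local properties pass along equivalences over the base. -/
theorem smoothLocally_of_isEquivOver (P : Scheme.{u} → Prop) (e : 𝒵 ⥤ᵇ 𝒳)
    (he : FibCat.IsEquivOver e) (h : AlgSt.SmoothLocally P 𝒵) : AlgSt.SmoothLocally P 𝒳 := by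
  intro U x hx
  obtain ⟨I, hI, -, -⟩ := IsEquivOver.exists_inverse_isEquivOver' e he
  exact h U (BasedFunctor.comp x I)
    (Groth.Agent.Lib.Seat59.LocQBC.repByAlgSpWith_comp_equiv _ x I hI hx)

/-- The essential image of a monomorphism from a reduced, locally Noetherian one-point algebraic
stack is the residual gerbe at the image point. -/
theorem isResGerbe_essImage (h𝒳 : AlgSt.IsAlgStack Scheme.fppfPrecoverage 𝒳)
    (x : AlgSt.Points 𝒳) (h𝒵 : AlgSt.IsAlgStack Scheme.fppfPrecoverage 𝒵)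
    (hred : AlgSt.SmoothLocally (fun T => IsReduced T) 𝒵)
    (hnoeth : AlgSt.SmoothLocally (fun T => IsLocallyNoetherian T) 𝒵)
    (hne : Nonempty (AlgSt.Points 𝒵)) (hsub : Subsingleton (AlgSt.Points 𝒵))
    (f : 𝒵 ⥤ᵇ 𝒳) (hf : AlgSt.IsMono f) (hfx : ∀ p : AlgSt.Points 𝒵, AlgSt.Points.map f p = x) :
    Gerb.IsResGerbe Scheme.fppfPrecoverage 𝒳 x (essImage f) ∧
      FibCat.IsEquivOver (toEssImage f) := by
  obtain ⟨ff1, ff2⟩ := Groth.Agent.Lib.Helper17.MonoFF.full_faithful_of_isMono h𝒵.isStack.1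
    h𝒳.isStack.1 f hf
  have he : FibCat.IsEquivOver (toEssImage f) :=
    isEquivOver_toEssImage h𝒵.isStack.1 h𝒳.isStack.1 f
  have hsurj := Groth.Agent.Lib.Helper15UnivComp.points_map_surjective_of_isEquivOver
    (toEssImage f) he
  refine ⟨⟨essImage_isClosedUnderIsomorphisms f,
    isAlgStack_of_isEquivOver _ (toEssImage f) he h𝒵,
    smoothLocally_of_isEquivOver _ (toEssImage f) he hred,
    smoothLocally_of_isEquivOver _ (toEssImage f) he hnoeth, ?_, ?_, ?_⟩, he⟩
  · obtain ⟨p⟩ := hne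
    exact ⟨AlgSt.Points.map (toEssImage f) p⟩
  · refine ⟨fun a b => ?_⟩
    obtain ⟨p, rfl⟩ := hsurj a
    obtain ⟨q, rfl⟩ := hsurj b
    rw [hsub.elim p q]
  · intro z
    obtain ⟨p, rfl⟩ := hsurj z
    rw [← Groth.Agent.Lib.Seat59.IsoNatF.points_map_comp]
    exact hfx p

end Groth.Agent.Lib.Seat59.ResGerbe
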