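-- helper59: lifting valuation rings along flat morphisms of algebraic stacks.
import Mathlib
import Groth.Agent.Lib.Seat59OpenSubF

set_option autoImplicit false
set_option backward.isDefEq.respectTransparency false
set_option backward.isDefEq.respectTransparency.types false
open CategoryTheory CategoryTheory.Functor CategoryTheory.Limits Opposite AlgebraicGeometry
  IsLocalRing

universe u

namespace Groth.Agent.Lib.Seat59.ValLift

open Groth.Agent.Lib.Helper17 Groth.Agent.Lib.Helper15PtsComp Groth.Agent.Lib.Helper15PtsTop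
  Groth.Agent.Lib.Helper15LocQEngine Groth.Agent.Lib.Helper15GoodComp
  Groth.Agent.Lib.Helper15Atlas

section Sch

/-- Given a generization `w' ⤳ w` in a scheme, there is a valuation ring and a morphism from its
spectrum sending the closed point to `w` and the generic point to `w'`. -/
theorem exists_valuationRing_of_specializes {W : Scheme.{u}} {w' w : W} (h : w' ⤳ w) :
    ∃ (A' : ValuationSubring (W.residueField w')) (q : Spec (CommRingCat.of A') ⟶ W),
      q (closedPoint A') = w ∧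
      W.fromSpecResidueField w' =
        Spec.map (CommRingCat.ofHom (algebraMap A' (W.residueField w'))) ≫ q := by
  let g : W.presheaf.stalk w ⟶ W.residueField w' :=
    W.presheaf.stalkSpecializes h ≫ W.residue w'
  obtain ⟨A, hA, hA_local⟩ := exists_factor_valuationRing g.hom
  let gA : W.presheaf.stalk w ⟶ .of A := CommRingCat.ofHom (g.hom.codRestrict _ hA)
  refine ⟨A, Spec.map gA ≫ W.fromSpecStalk w, ?_, ?_⟩
  · have : Spec.map gA (closedPoint A) = closedPoint (W.presheaf.stalk w) :=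
      comap_closedPoint (S := A) (g.hom.codRestrict A.toSubring hA)
    change W.fromSpecStalk w (Spec.map gA (closedPoint A)) = w
    rw [this, W.fromSpecStalk_closedPoint]
  · rw [Scheme.fromSpecResidueField, ← Scheme.SpecMap_stalkSpecializes_fromSpecStalk h]
    simp_rw [← Spec.map_comp_assoc]
    rfl

theorem exists_valuationRing_lift_of_flat {A : Type u} [CommRing A] [IsDomain A] [ValuationRing A]
    {W : Scheme.{u}} (p : W ⟶ Spec (CommRingCat.of A)) [Flat p] (w : W)
    (hw : p w = closedPoint A) :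
    ∃ (A' : Type u) (_ : CommRing A') (_ : IsDomain A') (_ : ValuationRing A') (φ : A →+* A'),
      Function.Injective φ ∧ IsLocalHom φ ∧
        ∃ q : Spec (CommRingCat.of A') ⟶ W, q ≫ p = Spec.map (CommRingCat.ofHom φ) := by
  let η : PrimeSpectrum A := ⟨⊥, Ideal.isPrime_bot⟩
  have hη : (η : Spec (CommRingCat.of A)) ⤳ p w :=
    (PrimeSpectrum.le_iff_specializes η (p w : PrimeSpectrum A)).1
      (bot_le (a := (p w : PrimeSpectrum A).asIdeal))
  obtain ⟨w', hw', hpw'⟩ := Flat.generalizingMap p hη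
  obtain ⟨A', q, hq₁, hq₂⟩ := exists_valuationRing_of_specializes hw'
  obtain ⟨ψ, hψ⟩ := Spec.map_surjective (q ≫ p)
  refine ⟨A', inferInstance, inferInstance, inferInstance, ψ.hom, ?_, ?_, q, ?_⟩
  · have h1 : (Spec.map (CommRingCat.ofHom (algebraMap A' (W.residueField w'))) ≫ q ≫ p)
        (closedPoint (W.residueField w')) = η := by
      rw [← Category.assoc, ← hq₂]
      have h0 := W.fromSpecResidueField_apply w' (closedPoint (W.residueField w'))
      exact (congrArg (fun z => p z) h0).trans hpw'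
    rw [← hψ] at h1
    have h2 := congrArg PrimeSpectrum.asIdeal h1
    change ((maximalIdeal (W.residueField w')).comap (algebraMap A' (W.residueField w'))).comap
      ψ.hom = ⊥ at h2
    rw [IsLocalRing.maximalIdeal_eq_bot] at h2
    have h3 : (⊥ : Ideal (W.residueField w')).comap (algebraMap A' (W.residueField w')) = ⊥ := by
      rw [← RingHom.ker_eq_comap_bot, ← RingHom.injective_iff_ker_eq_bot]
      exact Subtype.val_injective
    rw [h3, ← RingHom.ker_eq_comap_bot] at h2
    exact (RingHom.injective_iff_ker_eq_bot _).2 h2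
  · have h1 : (q ≫ p) (closedPoint A') = closedPoint A := by
      change p (q (closedPoint A')) = closedPoint A
      rw [hq₁, hw]
    rw [← hψ] at h1
    have h2 := congrArg PrimeSpectrum.asIdeal h1
    exact ((local_hom_TFAE ψ.hom).out 4 0).1 h2
  · rw [← hψ]
    rfl

end Sch

section St

variable {S : Scheme.{u}} {𝒳 𝒴 : AlgSt.Cat S}

/-- Let `f` be a flat morphism of algebraic stacks and `Spec A ⟶ 𝒴` a morphism from the spectrum
of a valuation ring whose closed point maps into the image of `f`. Then there are an extension of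
valuation rings `A ⟶ A'` and a lift `Spec A' ⟶ 𝒳`. -/
theorem exists_valuationRing_lift (h𝒳 : AlgSt.IsAlgStack Scheme.fppfPrecoverage 𝒳)
    (h𝒴 : AlgSt.IsAlgStack Scheme.fppfPrecoverage 𝒴) (f : 𝒳 ⥤ᵇ 𝒴)
    (hf : AlgSt.LocQ (AlgSp.LocP @Flat) f)
    (A : Type u) [CommRing A] [IsDomain A] [ValuationRing A] (sA : Spec (CommRingCat.of A) ⟶ S)
    (a : FibCat.overCat (Over.mk sA) ⥤ᵇ 𝒴)
    (ha : AlgSt.Points.ofChart a (IsLocalRing.closedPoint A) ∈ Set.range (AlgSt.Points.map f)) :
    ∃ (A' : Type u) (_ : CommRing A') (_ : IsDomain A') (_ : ValuationRing A') (φ : A →+* A'),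
      Function.Injective φ ∧ IsLocalHom φ ∧
      ∃ x : FibCat.overCat (Over.mk (Spec.map (CommRingCat.ofHom φ) ≫ sA)) ⥤ᵇ 𝒳,
        Nonempty (BasedFunctor.comp x f ≅
          BasedFunctor.comp (AlgSt.overMap (Over.homMk (Spec.map (CommRingCat.ofHom φ)) rfl :
            Over.mk (Spec.map (CommRingCat.ofHom φ) ≫ sA) ⟶ Over.mk sA)) a) := by
  have hflatST := Groth.Agent.Lib.Helper15LocQProps.isSmoothLocalST_flat (S := S)
  have hpre𝒴 := IsStack.isPrestack _ h𝒴.isStack
  have hT := isAlgStack_overCat (Over.mk sA)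
  have h𝒫 : AlgSt.IsAlgStack Scheme.fppfPrecoverage (FibCat.fp a f) :=
    isAlgStack_fp_of_isPrestack hpre𝒴 h𝒴.diag hT h𝒳 a f
  have h2 : AlgSt.LocQ (AlgSp.LocP @Flat) (FibCat.fpFst a f) :=
    Groth.Agent.Lib.Seat59.LocQBC.locQ_fpFst _ hflatST bcStable_flat h𝒴 hT f a hf
  obtain ⟨W, ℓ, hℓ₁, hℓ₂⟩ := h𝒫.atlas
  have hW := isAlgStack_overCat W
  obtain ⟨p, ⟨ip⟩⟩ := exists_iso_overMap (BasedFunctor.comp ℓ (FibCat.fpFst a f))
  have h3 : AlgSt.LocQ (AlgSp.LocP @Flat) (AlgSt.overMap p) :=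
    Groth.Agent.Lib.Seat59.LocQFlat.locQ_of_iso _ ip
      (Groth.Agent.Lib.Seat59.LocQDesc.locQ_smooth_comp _ hflatST hW h𝒫 hT ℓ hℓ₁ _ h2)
  have hpflat : Flat p.left := AlgSp.locP_yon_map
    (Groth.Agent.Lib.Seat59.LocQDesc.prop_of_locQ_overMap _ hflatST p h3)
  -- a point of `W` over the closed point
  obtain ⟨ξ, hξ⟩ := ha
  obtain ⟨ζ, hζ₁, -⟩ := points_fp_surjective h𝒳.isStack.1 h𝒴.isStack.1
    (isFibSet_overForget (Over.mk sA)).1 f a (ptOver (Over.mk sA) (IsLocalRing.closedPoint A)) ξ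
    (by rw [hξ]; rfl)
  obtain ⟨w, hw⟩ := surjective_ofChart h𝒫 ℓ hℓ₂ ζ
  have hpw : p.left w = IsLocalRing.closedPoint A := by
    apply (ptOver_bijective (Over.mk sA)).1
    rw [← ptOver_map p w, ← hζ₁, ← hw]
    have h4 := congrFun (ofChart_congr ip) w
    rw [ofChart_eq_map_ptOver, ofChart_eq_map_ptOver] at h4
    rw [← h4]
    rfl
  obtain ⟨A', iA1, iA2, iA3, φ, hφ₁, hφ₂, q, hq⟩ :=
    exists_valuationRing_lift_of_flat (A := A) p.left w hpw
  refine ⟨A', iA1, iA2, iA3, φ, hφ₁, hφ₂, ?_⟩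
  have hqW : q ≫ W.hom = Spec.map (CommRingCat.ofHom φ) ≫ sA := by
    rw [← hq, Category.assoc]
    congr 1
    exact (Over.w p).symm
  let q' : Over.mk (Spec.map (CommRingCat.ofHom φ) ≫ sA) ⟶ W := Over.homMk q hqW
  have hq' : q' ≫ p = (Over.homMk (Spec.map (CommRingCat.ofHom φ)) rfl :
      Over.mk (Spec.map (CommRingCat.ofHom φ) ≫ sA) ⟶ Over.mk sA) := by
    apply Over.OverMorphism.ext
    exact hq
  refine ⟨BasedFunctor.comp (AlgSt.overMap q') (BasedFunctor.comp ℓ (FibCat.fpSnd a f)), ⟨?_⟩⟩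
  rw [← hq']
  exact (whiskerLeftIso (AlgSt.overMap q') (whiskerLeftIso ℓ (FibCat.fpIso a f).symm) :
      BasedFunctor.comp (AlgSt.overMap q')
        (BasedFunctor.comp ℓ (BasedFunctor.comp (FibCat.fpSnd a f) f)) ≅
      BasedFunctor.comp (AlgSt.overMap q')
        (BasedFunctor.comp ℓ (BasedFunctor.comp (FibCat.fpFst a f) a))) ≪≫
    (whiskerLeftIso (AlgSt.overMap q') (whiskerRightIso ip a) :
      BasedFunctor.comp (AlgSt.overMap q')
        (BasedFunctor.comp (BasedFunctor.comp ℓ (FibCat.fpFst a f)) a) ≅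
      BasedFunctor.comp (AlgSt.overMap q') (BasedFunctor.comp (AlgSt.overMap p) a)) ≪≫
    (whiskerRightIso (overMapCompIso q' p) a :
      BasedFunctor.comp (BasedFunctor.comp (AlgSt.overMap q') (AlgSt.overMap p)) a ≅
      BasedFunctor.comp (AlgSt.overMap (q' ≫ p)) a)

end St

end Groth.Agent.Lib.Seat59.ValLift
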