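-- helper59: valuation ring witnesses for points in the closure of the image of a quasi-compact
-- morphism of algebraic stacks.
import Mathlib
import Groth.Agent.Lib.Seat59ValLift
import Groth.Agent.Lib.Seat59QcProd

set_option autoImplicit false
set_option backward.isDefEq.respectTransparency false
set_option backward.isDefEq.respectTransparency.types false
open CategoryTheory CategoryTheory.Functor CategoryTheory.Limits Opposite AlgebraicGeometry
  IsLocalRing

universe u

namespace Groth.Agent.Lib.Seat59.ValWit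

open Groth.Agent.Lib.Helper17 Groth.Agent.Lib.Helper15PtsComp Groth.Agent.Lib.Helper15PtsTop
  Groth.Agent.Lib.Helper15LocQEngine Groth.Agent.Lib.Helper15GoodComp
  Groth.Agent.Lib.Helper15Atlas

section Sch

theorem exists_specializes_of_mem_closure_range_comap {R B : Type u} [CommRing R] [CommRing B]
    (φ : R →+* B) (t : PrimeSpectrum R) (ht : t ∈ closure (Set.range (PrimeSpectrum.comap φ))) :
    ∃ q : PrimeSpectrum B, PrimeSpectrum.comap φ q ⤳ t := by
  rw [PrimeSpectrum.closure_range_comap, PrimeSpectrum.mem_zeroLocus] at ht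
  have ht' : RingHom.ker φ ≤ t.asIdeal := ht
  obtain ⟨p₀, hp₀, hle⟩ := Ideal.exists_minimalPrimes_le ht'
  rw [RingHom.ker_eq_comap_bot] at hp₀
  obtain ⟨q, hq, -, hqc⟩ := Ideal.exists_comap_eq_of_mem_minimalPrimes φ p₀ hp₀
  refine ⟨⟨q, hq⟩, ?_⟩
  rw [← PrimeSpectrum.le_iff_specializes]
  change q.comap φ ≤ t.asIdeal
  rw [hqc]
  exact hle

theorem exists_specializes_of_mem_closure_range_of_isAffine {W V : Scheme.{u}} [IsAffine W]
    [IsAffine V] (g : W ⟶ V) (t : V) (ht : t ∈ closure (Set.range g)) :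
    ∃ w : W, g w ⤳ t := by
  have hnat := Scheme.isoSpec_hom_naturality g
  have hVhomeo : IsHomeomorph V.isoSpec.hom := (Scheme.homeoOfIso V.isoSpec).isHomeomorph
  have hWsurj : Function.Surjective W.isoSpec.hom := (Scheme.homeoOfIso W.isoSpec).surjective
  have h1 : V.isoSpec.hom t ∈ closure (Set.range (Spec.map g.appTop)) := by
    have h2 : V.isoSpec.hom t ∈ closure (V.isoSpec.hom '' Set.range g) :=
      image_closure_subset_closure_image hVhomeo.continuous ⟨t, ht, rfl⟩
    have h3 : V.isoSpec.hom '' Set.range g = Set.range (Spec.map g.appTop) := by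
      rw [← Set.range_comp]
      have h4 : (V.isoSpec.hom : V → _) ∘ g = (Spec.map g.appTop : _ → _) ∘ W.isoSpec.hom := by
        funext x
        change (g ≫ V.isoSpec.hom) x = (W.isoSpec.hom ≫ Spec.map g.appTop) x
        rw [hnat]
      rw [h4, Set.range_comp, Set.range_eq_univ.2 hWsurj, Set.image_univ]
    rwa [h3] at h2
  obtain ⟨q, hq⟩ := exists_specializes_of_mem_closure_range_comap g.appTop.hom
    (V.isoSpec.hom t) h1
  obtain ⟨w, rfl⟩ := hWsurj q
  refine ⟨w, ?_⟩
  rw [← hVhomeo.isInducing.specializes_iff]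
  have h5 : V.isoSpec.hom (g w) = Spec.map g.appTop (W.isoSpec.hom w) := by
    change (g ≫ V.isoSpec.hom) w = (W.isoSpec.hom ≫ Spec.map g.appTop) w
    rw [hnat]
  rw [h5]
  exact hq

theorem exists_valuationRing_of_map_specializes {W V : Scheme.{u}} (g : W ⟶ V) {w : W} {t : V}
    (h : g w ⤳ t) :
    ∃ (A : ValuationSubring (W.residueField w)) (q : Spec (CommRingCat.of A) ⟶ V),
      q (closedPoint A) = t ∧
      W.fromSpecResidueField w ≫ g =
        Spec.map (CommRingCat.ofHom (algebraMap A (W.residueField w))) ≫ q := by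
  let k : V.presheaf.stalk t ⟶ W.residueField w :=
    V.presheaf.stalkSpecializes h ≫ g.stalkMap w ≫ W.residue w
  obtain ⟨A, hA, hA_local⟩ := exists_factor_valuationRing k.hom
  let kA : V.presheaf.stalk t ⟶ .of A := CommRingCat.ofHom (k.hom.codRestrict _ hA)
  refine ⟨A, Spec.map kA ≫ V.fromSpecStalk t, ?_, ?_⟩
  · have : Spec.map kA (closedPoint A) = closedPoint (V.presheaf.stalk t) :=
      comap_closedPoint (S := A) (k.hom.codRestrict A.toSubring hA)
    change V.fromSpecStalk t (Spec.map kA (closedPoint A)) = t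
    rw [this, V.fromSpecStalk_closedPoint]
  · rw [Scheme.fromSpecResidueField, Category.assoc, ← Scheme.SpecMap_stalkMap_fromSpecStalk,
      ← Scheme.SpecMap_stalkSpecializes_fromSpecStalk h]
    simp_rw [← Spec.map_comp_assoc]
    rfl

end Sch

section St2

variable {S : Scheme.{u}} {𝒳 𝒴 : AlgSt.Cat S}

open Groth.Agent.Lib.Seat59.OpenSubB in
/-- Let `f` be a quasi-compact morphism of algebraic stacks and `y` a point in the closure of the
image of `|f|`. Then there is a valuation ring `A` with a 2-commutative square from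
`Spec (Frac A) ⟶ Spec A` to `f` whose closed point maps to `y`. -/
theorem exists_valuationRing_witness (h𝒳 : AlgSt.IsAlgStack Scheme.fppfPrecoverage 𝒳)
    (h𝒴 : AlgSt.IsAlgStack Scheme.fppfPrecoverage 𝒴) (f : 𝒳 ⥤ᵇ 𝒴)
    (hf : AlgSt.IsQuasiCompactMor Scheme.fppfPrecoverage f)
    (y : AlgSt.Points 𝒴) (hy : y ∈ closure (Set.range (AlgSt.Points.map f))) :
    ∃ (A : Type u) (_ : CommRing A) (_ : IsDomain A) (_ : ValuationRing A)
      (sA : Spec (CommRingCat.of A) ⟶ S)
      (a : FibCat.overCat (Over.mk sA) ⥤ᵇ 𝒴)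
      (x : FibCat.overCat (Over.mk (Spec.map (CommRingCat.ofHom
        (algebraMap A (FractionRing A))) ≫ sA)) ⥤ᵇ 𝒳),
      Nonempty (BasedFunctor.comp x f ≅
        BasedFunctor.comp (AlgSt.overMap (Over.homMk (Spec.map (CommRingCat.ofHom
          (algebraMap A (FractionRing A)))) rfl :
          Over.mk (Spec.map (CommRingCat.ofHom (algebraMap A (FractionRing A))) ≫ sA) ⟶
            Over.mk sA)) a) ∧
      AlgSt.Points.ofChart a (IsLocalRing.closedPoint A) = y := by
  have hpre𝒴 := IsStack.isPrestack _ h𝒴.isStack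
  -- an affine smooth chart of `𝒴` through `y`
  obtain ⟨V₀, v₀, hv₀₁, hv₀₂⟩ := h𝒴.atlas
  obtain ⟨t₀, rfl⟩ := surjective_ofChart h𝒴 v₀ hv₀₂ y
  obtain ⟨Vop, hVop, ht₀⟩ : ∃ Vop : V₀.left.Opens, IsAffineOpen Vop ∧ t₀ ∈ Vop := by
    obtain ⟨_, ⟨U, hU, rfl⟩, h, -⟩ :=
      V₀.left.isBasis_affineOpens.exists_subset_of_mem_open (Set.mem_univ t₀) isOpen_univ
    exact ⟨U, hU, h⟩
  have hVaff : IsAffine (openOver Vop).left := hVop
  have hv : AlgSt.RepByAlgSpWith (AlgSp.LocP @Smooth)
      (BasedFunctor.comp (AlgSt.overMap (openIncl Vop)) v₀) :=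
    Groth.Agent.Lib.Helper15PtsQc.smooth_overMap_comp (openIncl Vop)
      (inferInstance : Etale Vop.ι) _ hv₀₁
  obtain ⟨v, hvdef⟩ : ∃ v : FibCat.overCat (openOver Vop) ⥤ᵇ 𝒴,
      v = BasedFunctor.comp (AlgSt.overMap (openIncl Vop)) v₀ := ⟨_, rfl⟩
  rw [← hvdef] at hv
  obtain ⟨t', ht'⟩ : ∃ t' : ↥(openOver Vop).left, Vop.ι t' = t₀ := ⟨⟨t₀, ht₀⟩, rfl⟩
  have hyt' : AlgSt.Points.ofChart v t' = AlgSt.Points.ofChart v₀ t₀ := by
    rw [hvdef, ofChart_overMap]
    exact congrArg _ ht'
  have hV := isAlgStack_overCat (openOver Vop)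
  have hVqc : AlgSt.IsQuasiCompact (FibCat.overCat (openOver Vop)) :=
    Groth.Agent.Lib.Seat59.QcProd.isQuasiCompact_overCat_of_compactSpace (openOver Vop)
  have h𝒫 : AlgSt.IsAlgStack Scheme.fppfPrecoverage (FibCat.fp v f) :=
    isAlgStack_fp_of_isPrestack hpre𝒴 h𝒴.diag hV h𝒳 v f
  obtain ⟨W, ℓ, hWaff, hℓ₁, hℓ₂⟩ := hf _ hV hVqc v
  obtain ⟨p, ⟨ip⟩⟩ := exists_iso_overMap (BasedFunctor.comp ℓ (FibCat.fpFst v f))
  -- the image of `p` is the preimage of the image of `f`
  have hrange : AlgSt.Points.ofChart v ⁻¹' Set.range (AlgSt.Points.map f) ⊆ Set.range p.left := by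
    rintro u ⟨ξ, hξ⟩
    obtain ⟨ζ, hζ₁, -⟩ := points_fp_surjective h𝒳.isStack.1 h𝒴.isStack.1
      (isFibSet_overForget (openOver Vop)).1 f v (ptOver (openOver Vop) u) ξ
      (by rw [hξ]; rfl)
    obtain ⟨w, hw⟩ := surjective_ofChart h𝒫 ℓ hℓ₂ ζ
    refine ⟨w, ?_⟩
    apply (ptOver_bijective (openOver Vop)).1
    rw [← ptOver_map p w, ← hζ₁, ← hw]
    have h4 := congrFun (ofChart_congr ip) w
    rw [ofChart_eq_map_ptOver, ofChart_eq_map_ptOver] at h4
    rw [← h4]
    rfl
  have hopen : IsOpenMap (AlgSt.Points.ofChart v) :=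
    isOpenMap_ofChart h𝒴 v (flat_of_smooth hv) (lfp_of_smooth hv)
  have hcl : t' ∈ closure (Set.range p.left) := by
    refine closure_mono hrange (hopen.preimage_closure_subset_closure_preimage ?_)
    rw [Set.mem_preimage, hyt']
    exact hy
  obtain ⟨w, hw⟩ := exists_specializes_of_mem_closure_range_of_isAffine p.left t' hcl
  obtain ⟨A, q, hq₁, hq₂⟩ := exists_valuationRing_of_map_specializes p.left hw
  -- assemble
  let sA : Spec (CommRingCat.of A) ⟶ S := q ≫ (openOver Vop).hom
  let qO : Over.mk sA ⟶ openOver Vop := Over.homMk q rfl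
  let e : FractionRing A ≃ₐ[A] (W.left.residueField w) :=
    FractionRing.algEquiv A (W.left.residueField w)
  let r₀ : Spec (CommRingCat.of (FractionRing A)) ⟶ W.left :=
    Spec.map (CommRingCat.ofHom (e.symm : W.left.residueField w →+* FractionRing A)) ≫
      W.left.fromSpecResidueField w
  have hr₀ : r₀ ≫ p.left = Spec.map (CommRingCat.ofHom (algebraMap A (FractionRing A))) ≫ q := by
    change (Spec.map _ ≫ W.left.fromSpecResidueField w) ≫ p.left = _
    rw [Category.assoc, hq₂, ← Category.assoc, ← Spec.map_comp]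
    congr 2
    ext z
    exact e.symm.commutes z
  have hr₀W : r₀ ≫ W.hom = Spec.map (CommRingCat.ofHom (algebraMap A (FractionRing A))) ≫ sA := by
    rw [← Over.w p, ← Category.assoc, hr₀, Category.assoc]
  let r : Over.mk (Spec.map (CommRingCat.ofHom (algebraMap A (FractionRing A))) ≫ sA) ⟶ W :=
    Over.homMk r₀ hr₀W
  have hrp : r ≫ p = (Over.homMk (Spec.map (CommRingCat.ofHom
      (algebraMap A (FractionRing A)))) rfl :
      Over.mk (Spec.map (CommRingCat.ofHom (algebraMap A (FractionRing A))) ≫ sA) ⟶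
        Over.mk sA) ≫ qO := by
    apply Over.OverMorphism.ext
    exact hr₀
  refine ⟨A, inferInstance, inferInstance, inferInstance, sA,
    BasedFunctor.comp (AlgSt.overMap qO) v,
    BasedFunctor.comp (AlgSt.overMap r) (BasedFunctor.comp ℓ (FibCat.fpSnd v f)), ⟨?_⟩, ?_⟩
  · exact (whiskerLeftIso (AlgSt.overMap r) (whiskerLeftIso ℓ (FibCat.fpIso v f).symm) :
        BasedFunctor.comp (AlgSt.overMap r)
          (BasedFunctor.comp ℓ (BasedFunctor.comp (FibCat.fpSnd v f) f)) ≅
        BasedFunctor.comp (AlgSt.overMap r)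
          (BasedFunctor.comp ℓ (BasedFunctor.comp (FibCat.fpFst v f) v))) ≪≫
      (whiskerLeftIso (AlgSt.overMap r) (whiskerRightIso ip v) :
        BasedFunctor.comp (AlgSt.overMap r)
          (BasedFunctor.comp (BasedFunctor.comp ℓ (FibCat.fpFst v f)) v) ≅
        BasedFunctor.comp (AlgSt.overMap r) (BasedFunctor.comp (AlgSt.overMap p) v)) ≪≫
      (whiskerRightIso (overMapCompIso r p) v :
        BasedFunctor.comp (BasedFunctor.comp (AlgSt.overMap r) (AlgSt.overMap p)) v ≅
        BasedFunctor.comp (AlgSt.overMap (r ≫ p)) v) ≪≫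
      eqToIso (congrArg (fun m => BasedFunctor.comp (AlgSt.overMap m) v) hrp) ≪≫
      (whiskerRightIso (overMapCompIso _ qO).symm v)
  · rw [ofChart_overMap]
    change AlgSt.Points.ofChart v (q (IsLocalRing.closedPoint A)) = _
    rw [hq₁, hyt']

end St2


end Groth.Agent.Lib.Seat59.ValWit
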