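import Mathlib.RingTheory.WittVector.Frobenius
import Mathlib.RingTheory.MvPolynomial.Ideal
import Mathlib.RingTheory.DiscreteValuationRing.Basic

set_option autoImplicit false
universe u
open MvPolynomial

namespace Groth.Agent.Lib.Seat59.WittAdd

variable (p : ℕ) [hp : Fact p.Prime]

/-- A polynomial with vanishing constant coefficient lies in the ideal of variables. -/
theorem mem_idealOfVars_of_constantCoeff {σ : Type*} {R : Type*} [CommRing R]
    (f : MvPolynomial σ R) (h : constantCoeff f = 0) : f ∈ idealOfVars σ R := by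
  have := (mem_pow_idealOfVars_iff' (σ := σ) (R := R) 1 f).mpr ?_
  · simpa using this
  · intro x hx
    have hx0 : x = 0 := by
      rw [← Finsupp.degree_eq_zero_iff]
      exact Nat.lt_one_iff.mp hx
    rw [hx0]
    exact h

theorem pow_mem_of_le {σ : Type*} {R : Type*} [CommRing R] (f : MvPolynomial σ R)
    (hf : f ∈ idealOfVars σ R) {k q : ℕ} (hkq : k ≤ q) : f ^ q ∈ idealOfVars σ R ^ k :=
  Ideal.pow_le_pow_right hkq (Ideal.pow_mem_pow hf q)

include hp in
/-- The Witt addition polynomial `S_n` is `X_n + Y_n` modulo monomials of degree at least `p`. -/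
theorem wittAdd_sub_mem (n : ℕ) :
    WittVector.wittAdd p n - X (0, n) - X (1, n) ∈ idealOfVars (Fin 2 × ℕ) ℤ ^ p := by
  have h := wittStructureInt_prop p (X 0 + X 1 : MvPolynomial (Fin 2) ℤ) n
  have hL : bind₁ (wittStructureInt p (X 0 + X 1 : MvPolynomial (Fin 2) ℤ)) (wittPolynomial p ℤ n) =
      ∑ i ∈ Finset.range (n + 1), C ((p : ℤ) ^ i) * WittVector.wittAdd p i ^ p ^ (n - i) := by
    rw [wittPolynomial_eq_sum_C_mul_X_pow, map_sum]
    refine Finset.sum_congr rfl fun i _ => ?_
    rw [map_mul, bind₁_C_right, map_pow (bind₁ _) (X i), bind₁_X_right]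
    rfl
  have hR : bind₁ (fun i : Fin 2 => rename (Prod.mk i) (wittPolynomial p ℤ n))
      (X 0 + X 1 : MvPolynomial (Fin 2) ℤ) =
      ∑ i ∈ Finset.range (n + 1), C ((p : ℤ) ^ i) * (X (0, i) ^ p ^ (n - i) + X (1, i) ^ p ^ (n - i)) := by
    rw [map_add, bind₁_X_right, bind₁_X_right, wittPolynomial_eq_sum_C_mul_X_pow, map_sum, map_sum,
      ← Finset.sum_add_distrib]
    refine Finset.sum_congr rfl fun i _ => ?_
    rw [map_mul, map_mul, rename_C, rename_C, map_pow (rename _) (X i), map_pow (rename _) (X i),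
      rename_X, rename_X, mul_add]
  rw [hL, hR, Finset.sum_range_succ, Finset.sum_range_succ, Nat.sub_self, pow_zero, pow_one, pow_one,
    pow_one] at h
  have key : C ((p : ℤ) ^ n) * (WittVector.wittAdd p n - X (0, n) - X (1, n)) =
      ∑ i ∈ Finset.range n, C ((p : ℤ) ^ i) *
        (X (0, i) ^ p ^ (n - i) + X (1, i) ^ p ^ (n - i) - WittVector.wittAdd p i ^ p ^ (n - i)) := by
    have : ∑ i ∈ Finset.range n, C ((p : ℤ) ^ i) *
        (X (0, i) ^ p ^ (n - i) + X (1, i) ^ p ^ (n - i) - WittVector.wittAdd p i ^ p ^ (n - i)) =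
        ∑ i ∈ Finset.range n, C ((p : ℤ) ^ i) * (X (0, i) ^ p ^ (n - i) + X (1, i) ^ p ^ (n - i)) -
        ∑ i ∈ Finset.range n, C ((p : ℤ) ^ i) * WittVector.wittAdd p i ^ p ^ (n - i) := by
      rw [← Finset.sum_sub_distrib]
      refine Finset.sum_congr rfl fun i _ => ?_
      ring
    rw [this]
    linear_combination h
  have hmem : C ((p : ℤ) ^ n) * (WittVector.wittAdd p n - X (0, n) - X (1, n)) ∈
      idealOfVars (Fin 2 × ℕ) ℤ ^ p := by
    rw [key]
    refine Ideal.sum_mem _ fun i hi => Ideal.mul_mem_left _ _ ?_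
    have hi' : i < n := Finset.mem_range.mp hi
    have hq : p ≤ p ^ (n - i) := by
      calc p = p ^ 1 := (pow_one p).symm
        _ ≤ p ^ (n - i) := Nat.pow_le_pow_right hp.out.pos (by omega)
    refine Ideal.sub_mem _ (Ideal.add_mem _ ?_ ?_) ?_
    · exact pow_mem_of_le _ (Ideal.subset_span ⟨_, rfl⟩) hq
    · exact pow_mem_of_le _ (Ideal.subset_span ⟨_, rfl⟩) hq
    · exact pow_mem_of_le _ (mem_idealOfVars_of_constantCoeff _ (WittVector.constantCoeff_wittAdd p i)) hq
  rw [mem_pow_idealOfVars_iff'] at hmem ⊢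
  intro x hx
  have := hmem x hx
  rw [coeff_C_mul] at this
  exact (mul_eq_zero.mp this).resolve_left (pow_ne_zero _ (by exact_mod_cast hp.out.ne_zero))

end Groth.Agent.Lib.Seat59.WittAdd

namespace Groth.Agent.Lib.Seat59.WittAdd

variable (p : ℕ) [hp : Fact p.Prime]

/-- If all the components of the Witt vectors `a`, `b` lie in an ideal `I` with `I ^ p = 0`, then
`a + b` is computed componentwise. -/
theorem coeff_add_of_mem {K : Type u} [CommRing K] (I : Ideal K) (hI : I ^ p = ⊥)
    (a b : WittVector p K) (ha : ∀ i, a.coeff i ∈ I) (hb : ∀ i, b.coeff i ∈ I) (n : ℕ) :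
    (a + b).coeff n = a.coeff n + b.coeff n := by
  rw [WittVector.add_coeff, WittVector.peval]
  set φ := aeval (R := ℤ) (Function.uncurry ![a.coeff, b.coeff]) with hφ
  have hsplit : WittVector.wittAdd p n =
      (WittVector.wittAdd p n - X (0, n) - X (1, n)) + X (0, n) + X (1, n) := by ring
  rw [hsplit, map_add, map_add, aeval_X, aeval_X]
  have hJ : Ideal.map φ (idealOfVars (Fin 2 × ℕ) ℤ) ≤ I := by
    rw [Ideal.map_span, Ideal.span_le]
    rintro _ ⟨_, ⟨⟨i, k⟩, rfl⟩, rfl⟩
    rw [hφ, aeval_X]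
    fin_cases i
    · exact ha k
    · exact hb k
  have h0 : φ (WittVector.wittAdd p n - X (0, n) - X (1, n)) = 0 := by
    have h1 : φ (WittVector.wittAdd p n - X (0, n) - X (1, n)) ∈
        Ideal.map φ (idealOfVars (Fin 2 × ℕ) ℤ ^ p) :=
      Ideal.mem_map_of_mem _ (wittAdd_sub_mem p n)
    rw [Ideal.map_pow] at h1
    have h2 := Ideal.pow_right_mono hJ p h1
    rw [hI] at h2
    exact h2
  rw [h0, zero_add]
  rfl

end Groth.Agent.Lib.Seat59.WittAdd
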