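import Groth.Agent.Lib.Seat59WittAdd
import Mathlib.RingTheory.Ideal.Quotient.Defs
import Mathlib.Algebra.CharP.Quotient

set_option autoImplicit false
universe u

namespace Groth.Agent.Lib.Seat59.WittDVR

open Groth.Agent.Lib.Seat59.WittAdd

/-- In a quotient `R/λ` of a discrete valuation ring, the elements killed by the `p`-th power map lie
in an ideal whose `p`-th power vanishes. -/
theorem exists_ideal (R : Type u) [CommRing R] [IsDomain R] [IsDiscreteValuationRing R]
    (p : ℕ) (hp : p ≠ 0) (lam : R) :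
    ∃ I : Ideal (R ⧸ Ideal.span {lam}), I ^ p = ⊥ ∧ ∀ x : R ⧸ Ideal.span {lam}, x ^ p = 0 → x ∈ I := by
  by_cases hlam : lam = 0
  · subst hlam
    refine ⟨⊥, Ideal.bot_pow hp, fun x hx => ?_⟩
    obtain ⟨r, rfl⟩ := Ideal.Quotient.mk_surjective x
    rw [← map_pow, Ideal.Quotient.eq_zero_iff_mem, Ideal.mem_span_singleton, zero_dvd_iff] at hx
    rw [pow_eq_zero_iff hp] at hx
    rw [hx, map_zero]
    exact Ideal.zero_mem _
  · obtain ⟨ϖ, hϖ⟩ := IsDiscreteValuationRing.exists_irreducible R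
    obtain ⟨e, u, hu⟩ := IsDiscreteValuationRing.eq_unit_mul_pow_irreducible hlam hϖ
    -- `k = ⌈e / p⌉`
    set k := (e + p - 1) / p with hk
    have hkp : e ≤ k * p := by
      have hp' : 0 < p := Nat.pos_of_ne_zero hp
      have := Nat.lt_div_mul_add (a := e + p - 1) hp'
      rw [← hk] at this
      omega
    refine ⟨Ideal.map (Ideal.Quotient.mk (Ideal.span {lam})) (Ideal.span {ϖ ^ k}), ?_, ?_⟩
    · rw [← Ideal.map_pow, Ideal.span_singleton_pow, ← pow_mul, eq_bot_iff]
      rw [Ideal.map_le_iff_le_comap, Ideal.span_le, Set.singleton_subset_iff]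
      change Ideal.Quotient.mk _ (ϖ ^ (k * p)) ∈ (⊥ : Ideal _)
      rw [Ideal.mem_bot, Ideal.Quotient.eq_zero_iff_mem, Ideal.mem_span_singleton, hu]
      have : ϖ ^ (k * p) = ϖ ^ e * ϖ ^ (k * p - e) := by
        rw [← pow_add]; congr 1; omega
      rw [this]
      exact ⟨(↑u⁻¹ : R) * ϖ ^ (k * p - e), by
        have : (u : R) * ↑u⁻¹ = 1 := by simp
        linear_combination (-(ϖ ^ e * ϖ ^ (k * p - e))) * this⟩
    · intro x hx
      obtain ⟨r, rfl⟩ := Ideal.Quotient.mk_surjective x
      rw [← map_pow, Ideal.Quotient.eq_zero_iff_mem, Ideal.mem_span_singleton] at hx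
      apply Ideal.mem_map_of_mem
      rw [Ideal.mem_span_singleton]
      by_cases hr : r = 0
      · rw [hr]; exact dvd_zero _
      obtain ⟨j, v, hv⟩ := IsDiscreteValuationRing.eq_unit_mul_pow_irreducible hr hϖ
      -- `ϖ ^ e ∣ r ^ p = v ^ p * ϖ ^ (j * p)`
      have h1 : ϖ ^ e ∣ ϖ ^ (j * p) := by
        have h2 : ϖ ^ e ∣ r ^ p := Dvd.dvd.trans ⟨(u : R), by rw [hu]; ring⟩ hx
        rw [hv, mul_pow, ← pow_mul] at h2
        exact (IsUnit.dvd_mul_left ((v.isUnit).pow p)).mp h2
      have h3 : e ≤ j * p := by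
        by_contra hlt
        rw [not_le] at hlt
        have : ϖ ^ (j * p + 1) ∣ ϖ ^ (j * p) := (pow_dvd_pow ϖ (by omega)).trans h1
        have hϖ0 : ϖ ≠ 0 := hϖ.ne_zero
        rw [pow_succ] at this
        obtain ⟨c, hc⟩ := this
        have : ϖ ^ (j * p) * 1 = ϖ ^ (j * p) * (ϖ * c) := by rw [mul_one, ← mul_assoc]; exact hc
        have := mul_left_cancel₀ (pow_ne_zero _ hϖ0) this
        exact hϖ.not_isUnit (IsUnit.of_mul_eq_one c this.symm)
      have h4 : k ≤ j := by
        by_contra hlt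
        rw [not_le] at hlt
        have hp' : 0 < p := Nat.pos_of_ne_zero hp
        -- `j < k = (e + p - 1) / p` means `(j + 1) * p ≤ e + p - 1`
        have : (j + 1) * p ≤ e + p - 1 := by
          have := Nat.div_mul_le_self (e + p - 1) p
          rw [← hk] at this
          calc (j + 1) * p ≤ k * p := Nat.mul_le_mul_right p hlt
            _ ≤ e + p - 1 := this
        have h5 : (j + 1) * p = j * p + p := by ring
        omega
      rw [hv]
      exact Dvd.dvd.mul_left (pow_dvd_pow ϖ h4) _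

/-- The statement on Witt vectors over `R/λ`. -/
theorem coeff_add (R : Type u) [CommRing R] [IsDomain R] [IsDiscreteValuationRing R]
    (p : ℕ) [hp : Fact p.Prime] (lam : R) (hlam : lam ∣ (p : R))
    (a b : WittVector p (R ⧸ Ideal.span {lam})) (ha : WittVector.frobenius a = 0)
    (hb : WittVector.frobenius b = 0) (n : ℕ) : (a + b).coeff n = a.coeff n + b.coeff n := by
  by_cases hK : Subsingleton (R ⧸ Ideal.span {lam})
  · exact Subsingleton.elim _ _
  rw [not_subsingleton_iff_nontrivial] at hK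
  have hp0 : ((p : ℕ) : R ⧸ Ideal.span {lam}) = 0 := by
    have : ((p : ℕ) : R ⧸ Ideal.span {lam}) = Ideal.Quotient.mk _ ((p : ℕ) : R) := by simp
    rw [this, Ideal.Quotient.eq_zero_iff_mem, Ideal.mem_span_singleton]
    exact hlam
  have hchar : ringChar (R ⧸ Ideal.span {lam}) = p := CharP.ringChar_of_prime_eq_zero hp.out hp0
  have : CharP (R ⧸ Ideal.span {lam}) p := hchar ▸ ringChar.charP _
  obtain ⟨I, hI, hmem⟩ := exists_ideal R p hp.out.ne_zero lam
  refine coeff_add_of_mem p I hI a b (fun i => hmem _ ?_) (fun i => hmem _ ?_) n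
  · rw [← WittVector.coeff_frobenius_charP, ha, WittVector.zero_coeff]
  · rw [← WittVector.coeff_frobenius_charP, hb, WittVector.zero_coeff]

end Groth.Agent.Lib.Seat59.WittDVR
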