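import Mathlib
import Groth.Prelude.Def_PerfAux
import Groth.Prelude.Def_ClSub2
import Groth.Agent.Lib.Helper23GenLocus
import Groth.Agent.Lib.Helper23SecTw
import Groth.Agent.Lib.Helper21Dual8
import Groth.Agent.S9819
import Groth.Agent.Lib.Helper23QCohAbelian
import Groth.Agent.Lib.Helper23FinTypeLocal
import Groth.Agent.Lib.Helper2LocFree
import Groth.Agent.Lib.Seat28FLF
import Groth.Agent.Lib.Seat96ModSec

/-!
# Affine diagonal from the resolution property (seat 5)

Namespace `Groth.Agent.Lib.Seat5.AffDiag`.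

* `isAffineOpen_of_frame` (Lemma L): on an affine scheme `Y`, an open `W` is affine as soon as there are a
  free module `M ≅ O_Y^m`, a functional `τ : M ⟶ O_Y` and a section `s ∈ Γ(M, W)` with `τ s = 1`, such that the
  non-vanishing loci of the coordinates of `τ` lie in `W`.
* `isAffineOpen_inf_of_section` (Lemma M): the same for `U ⊓ V'` inside an affine open `V'` of a scheme `X`,
  with a module `E` on `X` free over `V'`.
* `isQuasicoherent_idealMod`: `ClSub.idealMod I` is quasi-coherent.
* `isAffineOpen_inf`: on a quasi-compact quasi-separated scheme with the resolution property, the intersection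
  of two affine opens is affine (i.e. the diagonal is affine).
-/

set_option backward.isDefEq.respectTransparency.types false
set_option autoImplicit false
set_option linter.style.haveILetI false
universe u
open CategoryTheory CategoryTheory.Limits AlgebraicGeometry TopologicalSpace Opposite

namespace Groth.Agent.Lib.Seat5.AffDiag

open Groth.Agent.Lib.Helper23.GenLocus Groth.Agent.Lib.Helper23.Extend
  Groth.Agent.Lib.Helper21.LocFact Groth.Agent.Lib.Helper21.Dual
  Groth.Agent.Lib.Helper23.QCohLocal Groth.Agent.Lib.Seat96.ModSec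

/-- sums of morphisms of modules on sections -/
theorem sum_app {Y : Scheme.{u}} {ι : Type*} (s : Finset ι) {M N : Y.Modules} (φ : ι → (M ⟶ N))
    (W : Y.Opens) (m : Γ(M, W)) : (∑ i ∈ s, φ i).app W m = ∑ i ∈ s, (φ i).app W m := by
  classical
  induction s using Finset.induction_on with
  | empty => simp
  | insert a s ha ih =>
    rw [Finset.sum_insert ha, Finset.sum_insert ha, Scheme.Modules.Hom.add_app]
    change (φ a).app W m + (∑ i ∈ s, φ i).app W m = _
    rw [ih]

variable {Y : Scheme.{u}}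

/-- **Lemma L**: on an affine scheme, the locus where a functional on a free module is onto is affine, if it
carries a section mapping to `1` and contains the non-vanishing loci of the coordinates of the functional -/
theorem isAffineOpen_of_frame [IsAffine Y] (M : Y.Modules) {m : ℕ} (e : M ≅ FlatMod.freeMod Y m)
    (τ : M ⟶ Coh.structureModule Y) (W : Y.Opens) (s : Γ(M, W)) (hs : τ.app W s = toS W 1)
    (hb : ∀ k : Fin m, Y.basicOpen (endFun (Sigma.ι (fun _ : Fin m => Coh.structureModule Y) k ≫
      e.inv ≫ τ) ⊤) ≤ W) : IsAffineOpen W := by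
  classical
  let ff : FF (Coh.structureModule Y) M (Fin m) :=
    ffOfIso (ffSigma (Coh.structureModule Y) (Fin m)) e.symm
  let σ : Fin m → (Coh.structureModule Y ⟶ Coh.structureModule Y) := fun k => ff.ι k ≫ τ
  let h : Fin m → Γ(Y, ⊤) := fun k => endFun (σ k) ⊤
  let c : Fin m → Γ(Y, W) := fun k => ofS W ((ff.π k).app W s)
  -- the decomposition of `1`
  have h1 : (1 : Γ(Y, W)) = ∑ k, c k * Y.presheaf.map (homOfLE (le_top : W ≤ ⊤)).op (h k) := by
    have hsum := sum_app Finset.univ (fun k => ff.π k ≫ ff.ι k ≫ τ) W s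
    have hid : (∑ k, ff.π k ≫ ff.ι k ≫ τ) = τ := by
      have : (∑ k, ff.π k ≫ ff.ι k ≫ τ) = (∑ k, ff.π k ≫ ff.ι k) ≫ τ := by
        rw [Preadditive.sum_comp]
        exact Finset.sum_congr rfl (fun k _ => (Category.assoc _ _ _).symm)
      rw [this, ff.sum, Category.id_comp]
    rw [hid, hs] at hsum
    have hterm : ∀ k, (ff.π k ≫ ff.ι k ≫ τ).app W s =
        toS W (c k * Y.presheaf.map (homOfLE (le_top : W ≤ ⊤)).op (h k)) := by
      intro k
      change (σ k).app W ((ff.π k).app W s) = _
      have := end_app_eq (σ k) W (c k)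
      rw [toS_ofS] at this
      rw [this, endFun_map]
    rw [Finset.sum_congr rfl (fun k _ => hterm k)] at hsum
    have h2 := congrArg (ofS W) hsum
    rw [ofS_toS] at h2
    rw [h2]
    let φ : Γ(Coh.structureModule Y, W) →+ Γ(Y, W) :=
      { toFun := ofS W, map_zero' := rfl, map_add' := fun _ _ => rfl }
    exact (map_sum φ (fun k => toS W (c k * Y.presheaf.map (homOfLE (le_top : W ≤ ⊤)).op (h k)))
      Finset.univ)
  -- the affineness criterion
  refine isAffineOpen_of_isAffineOpen_basicOpen W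
    (Set.range fun k => Y.presheaf.map (homOfLE (le_top : W ≤ ⊤)).op (h k)) ?_ ?_
  · rw [Ideal.eq_top_iff_one, h1]
    refine Ideal.sum_mem _ (fun k _ => ?_)
    exact Ideal.mul_mem_left _ _ (Ideal.subset_span ⟨k, rfl⟩)
  · rintro _ ⟨k, rfl⟩
    have hk : Y.basicOpen (h k) ≤ W := hb k
    rw [Scheme.basicOpen_res, inf_eq_right.2 hk]
    exact (isAffineOpen_top Y).basicOpen (h k)


variable {X : Scheme.{u}}

/-- **Lemma M**: the `X`-level version of Lemma L -/
theorem isAffineOpen_inf_of_section (U V' : X.Opens) (hV' : IsAffineOpen V')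
    (E : X.Modules) {m : ℕ} (e : E.restrict V'.ι ≅ FlatMod.freeMod (↑V' : Scheme.{u}) m)
    (t : E ⟶ Coh.structureModule X) (σ : Γ(E, U)) (hσ : t.app U σ = toS U 1)
    (hvan : ∀ (b : Γ(E, V'.ι ''ᵁ ⊤)), X.basicOpen (ofS _ (t.app (V'.ι ''ᵁ ⊤) b)) ≤ U) :
    IsAffineOpen (U ⊓ V') := by
  haveI : IsAffine (↑V' : Scheme.{u}) := hV'
  let W : (↑V' : Scheme.{u}).Opens := V'.ι ⁻¹ᵁ U
  have himg : V'.ι ''ᵁ W = U ⊓ V' := by
    rw [Scheme.Hom.image_preimage_eq_opensRange_inf, Scheme.Opens.opensRange_ι]
    exact inf_comm _ _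
  have hle : V'.ι ''ᵁ W ≤ U := himg ▸ inf_le_left
  let s : Γ(E.restrict V'.ι, W) := E.presheaf.map (homOfLE hle).op σ
  let τ : E.restrict V'.ι ⟶ Coh.structureModule (↑V' : Scheme.{u}) :=
    (Scheme.Modules.restrictFunctor V'.ι).map t ≫ (Scheme.Modules.restrictUnitIso V'.ι).hom
  have hs : τ.app W s = toS W 1 := by
    change (V'.ι.appIso W).hom (t.app (V'.ι ''ᵁ W) (E.presheaf.map (homOfLE hle).op σ)) = 1
    rw [app_map t (homOfLE hle) σ, hσ]
    change (V'.ι.appIso W).hom (X.presheaf.map (homOfLE hle).op 1) = 1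
    rw [map_one, map_one]
  have hb : ∀ k : Fin m, (↑V' : Scheme.{u}).basicOpen
      (endFun (Sigma.ι (fun _ : Fin m => Coh.structureModule (↑V' : Scheme.{u})) k ≫ e.inv ≫ τ) ⊤) ≤ W := by
    intro k
    set b : Γ(E, V'.ι ''ᵁ ⊤) := (Sigma.ι (fun _ : Fin m => Coh.structureModule (↑V' : Scheme.{u})) k ≫
      e.inv).app ⊤ (toS ⊤ 1) with hbdef
    have h1 : endFun (Sigma.ι (fun _ : Fin m => Coh.structureModule (↑V' : Scheme.{u})) k ≫ e.inv ≫ τ) ⊤ =
        (V'.ι.appIso ⊤).hom (ofS _ (t.app (V'.ι ''ᵁ ⊤) b)) := rfl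
    rw [h1]
    intro y hy
    have h2 : V'.ι y ∈ V'.ι ''ᵁ ((↑V' : Scheme.{u}).basicOpen
        ((V'.ι.appIso ⊤).hom (ofS _ (t.app (V'.ι ''ᵁ ⊤) b)))) := ⟨y, hy, rfl⟩
    rw [Scheme.image_basicOpen] at h2
    have h3 : (V'.ι.appIso ⊤).inv ((V'.ι.appIso ⊤).hom (ofS _ (t.app (V'.ι ''ᵁ ⊤) b))) =
        ofS _ (t.app (V'.ι ''ᵁ ⊤) b) := by
      rw [← ConcreteCategory.comp_apply, Iso.hom_inv_id]
      rfl
    rw [h3] at h2
    exact hvan b h2
  have := isAffineOpen_of_frame (E.restrict V'.ι) e τ W s hs hb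
  rw [← himg]
  exact this.image_of_isOpenImmersion V'.ι

/-- the ideal module of a closed subscheme is quasi-coherent -/
theorem isQuasicoherent_idealMod (I : X.IdealSheafData) : (ClSub.idealMod I).IsQuasicoherent := by
  haveI : (Coh.structureModule X).IsQuasicoherent := by
    unfold Coh.structureModule
    have h : (SheafOfModules.free (R := X.ringCatSheaf) PUnit.{u+1}).IsQuasicoherent := inferInstance
    exact (SheafOfModules.isQuasicoherent X.ringCatSheaf).prop_of_iso
      (coproductUniqueIso (fun (_ : PUnit.{u+1}) ↦ SheafOfModules.unit X.ringCatSheaf)) h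
  haveI : (Coh.structureModule I.subscheme).IsQuasicoherent := by
    unfold Coh.structureModule
    have h : (SheafOfModules.free (R := I.subscheme.ringCatSheaf) PUnit.{u+1}).IsQuasicoherent :=
      inferInstance
    exact (SheafOfModules.isQuasicoherent I.subscheme.ringCatSheaf).prop_of_iso
      (coproductUniqueIso (fun (_ : PUnit.{u+1}) ↦ SheafOfModules.unit I.subscheme.ringCatSheaf)) h
  haveI : ((Scheme.Modules.pushforward I.subschemeι).obj
      (Coh.structureModule I.subscheme)).IsQuasicoherent := isQuasicoherent_pushforward _ _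
  exact isQuasicoherent_kernel _

/-- the main theorem: on a qcqs scheme with the resolution property, the intersection of two affine opens
is affine -/
theorem isAffineOpen_inf [CompactSpace X] [QuasiSeparatedSpace X]
    (hX : PerfAux.HasResolutionProperty X) (U V : X.Opens) (hU : IsAffineOpen U)
    (hV : IsAffineOpen V) : IsAffineOpen (U ⊓ V) := by
  classical
  let Z : TopologicalSpace.Closeds X := ⟨(U : Set X)ᶜ, U.isOpen.isClosed_compl⟩
  let I : X.IdealSheafData := Scheme.IdealSheafData.vanishingIdeal Z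
  let J : X.Modules := ClSub.idealMod I
  let ιJ : J ⟶ Coh.structureModule X := ClSub.idealModι I
  haveI hJq : J.IsQuasicoherent := isQuasicoherent_idealMod I
  -- points of the closed subscheme are outside `U`
  have hrange : ∀ z : I.subscheme, I.subschemeι z ∉ U := by
    intro z hz
    have h1 : I.subschemeι z ∈ Set.range I.subschemeι := ⟨z, rfl⟩
    rw [Scheme.IdealSheafData.range_subschemeι, Scheme.IdealSheafData.coe_support_vanishingIdeal] at h1
    exact h1 hz
  have hrange' : ∀ x : X, x ∉ U → ∃ z : I.subscheme, I.subschemeι z = x := by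
    intro x hx
    have h1 : x ∈ Set.range I.subschemeι := by
      rw [Scheme.IdealSheafData.range_subschemeι, Scheme.IdealSheafData.coe_support_vanishingIdeal]
      exact hx
    exact h1
  have hpre : I.subschemeι ⁻¹ᵁ U = ⊥ := by
    ext z
    constructor
    · intro hz
      exact (hrange z hz).elim
    · intro hz
      exact hz.elim
  -- `1` over `U` is a section of the ideal
  have h0 : (ClSub.toSubscheme I).app U (toS U 1) = 0 := by
    have h1 : (ClSub.toSubscheme I).app U (toS U 1) = (I.subschemeι.app U).hom 1 := rfl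
    rw [h1]
    have hss : Subsingleton Γ(I.subscheme, I.subschemeι ⁻¹ᵁ U) := by rw [hpre]; infer_instance
    exact @Subsingleton.elim Γ(I.subscheme, I.subschemeι ⁻¹ᵁ U) hss _ _
  obtain ⟨g₀, hg₀⟩ := exists_kernelι_app_eq (ClSub.toSubscheme I) U (toS U 1) h0
  -- a finite type quasi-coherent submodule containing it
  obtain ⟨G, i, hi, hGq, hGft, g, hg⟩ := Groth.Agent.S9819.result J ⟨U, hU⟩ g₀
  -- the resolution property
  obtain ⟨E, π, hE, hπ⟩ := hX G hGq hGft
  haveI := hπ
  haveI : E.IsQuasicoherent :=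
    { nonempty_quasicoherentData :=
        haveI := Groth.Agent.Lib.Helper2.LocFree.isFP_of_isFinLocFree E hE
        ⟨(SheafOfModules.IsFinitePresentation.exists_quasicoherentData (R := X.ringCatSheaf) E).choose⟩ }
  haveI : G.IsQuasicoherent := hGq
  obtain ⟨σ, hσ⟩ := Groth.Agent.Lib.Helper23.FinType.surjective_app_of_epi π hU g
  let t : E ⟶ Coh.structureModule X := π ≫ i ≫ ιJ
  have ht : t.app U σ = toS U 1 := by
    change ιJ.app U (i.app U (π.app U σ)) = _
    rw [hσ]
    have : i.app U g = g₀ := hg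
    rw [this]
    exact hg₀
  -- the vanishing
  have hvanW : ∀ (W : X.Opens) (b : Γ(E, W)), X.basicOpen (ofS W (t.app W b)) ≤ U := by
    intro W b x hx
    by_contra hxU
    obtain ⟨z, rfl⟩ := hrange' x hxU
    have hz : z ∈ I.subschemeι ⁻¹ᵁ (X.basicOpen (ofS W (t.app W b))) := hx
    rw [Scheme.preimage_basicOpen] at hz
    have h0 : (I.subschemeι.app W).hom (ofS W (t.app W b)) = 0 := by
      have hk : ιJ ≫ ClSub.toSubscheme I = 0 := kernel.condition _
      have := app_congr hk W (i.app W (π.app W b))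
      exact this
    rw [h0, Scheme.basicOpen_zero] at hz
    exact hz
  -- `U ⟶ X` is affine
  haveI : IsAffineHom U.ι := by
    refine isAffineHom_of_forall_exists_isAffineOpen U.ι (fun x => ?_)
    obtain ⟨V₁, m, hxV₁, ⟨e⟩⟩ := hE x
    obtain ⟨_, ⟨V', hV', rfl⟩, hxV', hV'V₁⟩ :=
      X.isBasis_affineOpens.exists_subset_of_mem_open hxV₁ V₁.isOpen
    obtain ⟨e'⟩ := Groth.Agent.Lib.Seat28.FLF.nonempty_restrict_iso_freeMod_of_le E
      (show V' ≤ V₁ from hV'V₁) e
    refine ⟨V', hxV', hV', ?_⟩
    have hM := isAffineOpen_inf_of_section U V' hV' E e' t σ ht (fun b => hvanW _ b)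
    rw [← Scheme.Hom.isAffineOpen_iff_of_isOpenImmersion U.ι,
      Scheme.Hom.image_preimage_eq_opensRange_inf, Scheme.Opens.opensRange_ι]
    exact hM
  have h1 := (hV.preimage U.ι).image_of_isOpenImmersion U.ι
  rw [Scheme.Hom.image_preimage_eq_opensRange_inf, Scheme.Opens.opensRange_ι] at h1
  exact h1

end Groth.Agent.Lib.Seat5.AffDiag
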