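import Mathlib.Algebra.Homology.ShortComplex.ModuleCat
import Mathlib.Algebra.Homology.ShortComplex.HomologicalComplex
import Mathlib.Algebra.Homology.HomologicalComplexAbelian
import Mathlib.Algebra.Category.ModuleCat.Abelian
import Mathlib.LinearAlgebra.FiniteDimensional.Lemmas
import Mathlib.LinearAlgebra.Dimension.RankNullity
import Mathlib.Algebra.BigOperators.Finprod
import Mathlib.Algebra.Ring.NegOnePow
import Mathlib.LinearAlgebra.Dimension.Localization
import Mathlib.RingTheory.Noetherian.Basic
import Mathlib.LinearAlgebra.FreeModule.StrongRankCondition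

/-!
# The Euler–Poincaré principle for bounded complexes of finite dimensional vector spaces (seat 5)

For a cochain complex `C` of finite dimensional vector spaces over a field `k` with only finitely
many nonzero terms, `Σ (-1)^i dim H^i(C) = Σ (-1)^i dim C^i` (as `finsum`s over `ℤ`).
-/

set_option autoImplicit false

universe u

open CategoryTheory CategoryTheory.Limits

namespace Groth.Agent.Lib.Seat5.EulerPoincare

variable {k : Type u} [CommRing k] [IsDomain k] [IsNoetherianRing k]

section ShortComplex

variable (S : ShortComplex (ModuleCat.{u} k)) [Module.Finite k S.X₂]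

/-- `dim H(S) + rank f = dim ker g` -/
lemma finrank_homology_add (S : ShortComplex (ModuleCat.{u} k)) [Module.Finite k S.X₂] :
    Module.finrank k S.homology + Module.finrank k (LinearMap.range S.f.hom) =
      Module.finrank k (LinearMap.ker S.g.hom) := by
  have e := S.moduleCatHomologyIso.toLinearEquiv
  rw [e.finrank_eq]
  change Module.finrank k (LinearMap.ker S.g.hom ⧸ LinearMap.range S.moduleCatToCycles) + _ = _
  have h1 := Submodule.finrank_quotient_add_finrank (LinearMap.range S.moduleCatToCycles)
  rw [← h1]
  congr 1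
  -- the range of `toCycles` maps isomorphically onto the range of `f`
  have h2 : (LinearMap.range S.moduleCatToCycles).map (LinearMap.ker S.g.hom).subtype =
      LinearMap.range S.f.hom := by
    rw [← LinearMap.range_comp]
    rfl
  rw [← h2]
  exact (Submodule.equivMapOfInjective _ (Submodule.injective_subtype _) _).finrank_eq.symm

/-- `dim X₂ = dim ker g + rank g` -/
lemma finrank_X₂ (S : ShortComplex (ModuleCat.{u} k)) [Module.Finite k S.X₂] :
    Module.finrank k S.X₂ = Module.finrank k (LinearMap.ker S.g.hom) +
      Module.finrank k (LinearMap.range S.g.hom) := by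
  have h := (LinearMap.ker S.g.hom).finrank_quotient_add_finrank
  rw [LinearEquiv.finrank_eq S.g.hom.quotKerEquivRange] at h
  omega

end ShortComplex

variable (C : CochainComplex (ModuleCat.{u} k) ℤ)

/-- the rank of the differential `C^{i-1} ⟶ C^i` -/
noncomputable def rk (i : ℤ) : ℕ := Module.finrank k (LinearMap.range (C.d (i - 1) i).hom)

lemma rk_eq_zero_of_isZero_src (i : ℤ) (h : IsZero (C.X (i - 1))) : rk C i = 0 := by
  have : C.d (i - 1) i = 0 := h.eq_of_src _ _
  rw [rk, this]
  have h0 : LinearMap.range (ModuleCat.Hom.hom (0 : C.X (i - 1) ⟶ C.X i)) = ⊥ := by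
    rw [ModuleCat.hom_zero, LinearMap.range_zero]
  rw [h0, finrank_bot]

lemma rk_eq_zero_of_isZero_tgt (i : ℤ) (h : IsZero (C.X i)) : rk C i = 0 := by
  have : C.d (i - 1) i = 0 := h.eq_of_tgt _ _
  rw [rk, this]
  have h0 : LinearMap.range (ModuleCat.Hom.hom (0 : C.X (i - 1) ⟶ C.X i)) = ⊥ := by
    rw [ModuleCat.hom_zero, LinearMap.range_zero]
  rw [h0, finrank_bot]

variable [∀ i, Module.Finite k (C.X i)]

lemma finrank_homology_eq (i : ℤ) :
    (Module.finrank k (C.homology i) : ℤ) + rk C i + rk C (i + 1) = Module.finrank k (C.X i) := by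
  have : Module.Finite k (C.sc' (i - 1) i (i + 1)).X₂ := inferInstanceAs (Module.Finite k (C.X i))
  have h1 := finrank_homology_add (C.sc' (i - 1) i (i + 1))
  have h2 := finrank_X₂ (C.sc' (i - 1) i (i + 1))
  have e0 := (C.homologyIsoSc' (i - 1) i (i + 1) (by simp) (by simp)).toLinearEquiv.finrank_eq
  have e3 : rk C (i + 1) = Module.finrank k (LinearMap.range (C.d i (i + 1)).hom) := by
    have : i + 1 - 1 = i := by ring
    simp only [rk]
    rw [this]
  rw [e0, e3]
  simp only [rk]
  have h1' : Module.finrank k (C.sc' (i - 1) i (i + 1)).homology +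
      Module.finrank k (LinearMap.range (C.d (i - 1) i).hom) =
      Module.finrank k (LinearMap.ker (C.d i (i + 1)).hom) := h1
  have h2' : Module.finrank k (C.X i) = Module.finrank k (LinearMap.ker (C.d i (i + 1)).hom) +
      Module.finrank k (LinearMap.range (C.d i (i + 1)).hom) := h2
  omega

lemma finrank_eq_zero_of_isZero (i : ℤ) (h : IsZero (C.X i)) : Module.finrank k (C.X i) = 0 := by
  haveI : Subsingleton (C.X i) := ModuleCat.subsingleton_of_isZero h
  exact Module.finrank_zero_of_subsingleton

lemma finrank_homology_eq_zero_of_isZero (i : ℤ) (h : IsZero (C.X i)) :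
    Module.finrank k (C.homology i) = 0 := by
  have h1 := finrank_homology_eq C i
  have h2 := finrank_eq_zero_of_isZero C i h
  omega

/-- `dim coker f + rank f = dim (target)` -/
lemma finrank_cokernel_add {M N : ModuleCat.{u} k} (f : M ⟶ N) [Module.Finite k N] :
    Module.finrank k (cokernel f : ModuleCat.{u} k) + Module.finrank k (LinearMap.range f.hom) =
      Module.finrank k N := by
  rw [(ModuleCat.cokernelIsoRangeQuotient f).toLinearEquiv.finrank_eq]
  exact Submodule.finrank_quotient_add_finrank (LinearMap.range f.hom)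

/-- `dim H^i + dim C^{i+1} = dim coker d^{i-1} + dim coker d^i` -/
lemma finrank_homology_add_eq_cokernel (i : ℤ) :
    Module.finrank k (C.homology i) + Module.finrank k (C.X (i + 1)) =
      Module.finrank k (cokernel (C.d (i - 1) i) : ModuleCat.{u} k) +
        Module.finrank k (cokernel (C.d i (i + 1)) : ModuleCat.{u} k) := by
  have h1 := finrank_homology_eq C i
  have h2 := finrank_cokernel_add (C.d (i - 1) i)
  have h3 := finrank_cokernel_add (C.d i (i + 1))
  have e3 : rk C (i + 1) = Module.finrank k (LinearMap.range (C.d i (i + 1)).hom) := by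
    have : i + 1 - 1 = i := by ring
    simp only [rk]
    rw [this]
  rw [e3] at h1
  simp only [rk] at h1
  omega


/-- **Euler–Poincaré**: the alternating sum of the dimensions of the cohomology groups of a bounded
complex of finite dimensional vector spaces is the alternating sum of the dimensions of its terms. -/
theorem finsum_homology_eq (hfin : {i : ℤ | ¬ IsZero (C.X i)}.Finite) :
    ∑ᶠ i : ℤ, (i.negOnePow : ℤ) * (Module.finrank k (C.homology i) : ℤ) =
      ∑ᶠ i : ℤ, (i.negOnePow : ℤ) * (Module.finrank k (C.X i) : ℤ) := by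
  set g : ℤ → ℤ := fun i => (i.negOnePow : ℤ) * (rk C i : ℤ) with hg
  have hgs : (Function.support g).Finite := by
    refine hfin.subset (fun i hi => ?_)
    simp only [Set.mem_setOf_eq]
    intro hz
    apply hi
    simp [hg, rk_eq_zero_of_isZero_tgt C i hz]
  have hgs' : (Function.support (fun i => g (i + 1))).Finite := by
    have : Function.support (fun i => g (i + 1)) = (Equiv.addRight (1 : ℤ)) ⁻¹' Function.support g := rfl
    rw [this]
    exact hgs.preimage ((Equiv.addRight (1 : ℤ)).injective.injOn)
  have hhs : (Function.support fun i : ℤ =>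
      (i.negOnePow : ℤ) * (Module.finrank k (C.homology i) : ℤ)).Finite := by
    refine hfin.subset (fun i hi => ?_)
    simp only [Set.mem_setOf_eq]
    intro hz
    apply hi
    simp [finrank_homology_eq_zero_of_isZero C i hz]
  have key : ∀ i : ℤ, (i.negOnePow : ℤ) * (Module.finrank k (C.X i) : ℤ) =
      (i.negOnePow : ℤ) * (Module.finrank k (C.homology i) : ℤ) + g i - g (i + 1) := by
    intro i
    have h1 := finrank_homology_eq C i
    simp only [hg, Int.negOnePow_succ, Units.val_neg]
    rw [← h1]
    ring
  have e : (fun i : ℤ => (i.negOnePow : ℤ) * (Module.finrank k (C.X i) : ℤ)) =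
      fun i => ((i.negOnePow : ℤ) * (Module.finrank k (C.homology i) : ℤ) + g i) - g (i + 1) :=
    funext key
  rw [e, finsum_sub_distrib (hhs.union hgs |>.subset (Function.support_add _ _)) hgs',
    finsum_add_distrib hhs hgs]
  have : ∑ᶠ i : ℤ, g (i + 1) = ∑ᶠ i : ℤ, g i :=
    finsum_comp_equiv (Equiv.addRight (1 : ℤ)) (f := g)
  rw [this]
  ring

end Groth.Agent.Lib.Seat5.EulerPoincare
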