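import Mathlib
import Groth.Agent.Lib.Helper4ModEpi

/-!
# Global sections on a one-point scheme form an exact functor (seat 5)
-/

set_option autoImplicit false

universe u

open CategoryTheory CategoryTheory.Limits AlgebraicGeometry Opposite

namespace Groth.Agent.Lib.Seat5.PointGamma

variable (Y : Scheme.{u})

/-- sections over `⊤`, as modules over the ring of global functions -/
noncomputable def ΓT : Y.Modules ⥤ ModuleCat.{u} (Y.ringCatSheaf.obj.obj (op ⊤)) :=
  SheafOfModules.evaluation Y.ringCatSheaf (op ⊤)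

instance : (ΓT Y).Additive :=
  inferInstanceAs ((SheafOfModules.forget Y.ringCatSheaf ⋙
    PresheafOfModules.evaluation _ (op ⊤)).Additive)

instance : PreservesFiniteLimits (ΓT Y) :=
  inferInstanceAs (PreservesFiniteLimits (SheafOfModules.forget Y.ringCatSheaf ⋙
    PresheafOfModules.evaluation _ (op ⊤)))

variable {Y}

theorem epi_ΓT_map (hY : ∀ U : Y.Opens, (U : Set Y).Nonempty → U = ⊤) [Nonempty Y]
    {M N : Y.Modules} (π : M ⟶ N) [Epi π] : Epi ((ΓT Y).map π) := by
  rw [ModuleCat.epi_iff_surjective]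
  intro c
  obtain ⟨y⟩ := ‹Nonempty Y›
  obtain ⟨V, hVU, hyV, g, hg⟩ := Groth.Agent.Lib.Helper4.ModEpi.exists_app_eq_of_epi π ⊤ c y trivial
  obtain rfl := hY V ⟨y, hyV⟩
  refine ⟨g, ?_⟩
  have h1 : N.presheaf.map (homOfLE hVU).op c = c := by
    have : (homOfLE hVU).op = 𝟙 (op (⊤ : Y.Opens)) := rfl
    rw [this, N.presheaf.map_id]
    rfl
  rw [h1] at hg
  exact hg

theorem preservesFiniteColimits_ΓT (hY : ∀ U : Y.Opens, (U : Set Y).Nonempty → U = ⊤) [Nonempty Y] :
    PreservesFiniteColimits (ΓT Y) := by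
  rw [Functor.preservesFiniteColimits_iff_forall_exact_map_and_epi]
  intro S hS
  have h1 := (Functor.preservesFiniteLimits_iff_forall_exact_map_and_mono (ΓT Y)).1 inferInstance S hS
  haveI := hS.epi_g
  exact ⟨h1.1, epi_ΓT_map hY S.g⟩

/-- `Γ(Y, -)` commutes with the homology of complexes on a one-point scheme -/
noncomputable def homologyIso (hY : ∀ U : Y.Opens, (U : Set Y).Nonempty → U = ⊤) [Nonempty Y]
    (K : CochainComplex Y.Modules ℤ) (i : ℤ) :
    (((ΓT Y).mapHomologicalComplex (ComplexShape.up ℤ)).obj K).homology i ≅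
      (ΓT Y).obj (K.homology i) :=
  haveI := preservesFiniteColimits_ΓT hY
  (K.sc i).mapHomologyIso (ΓT Y)

end Groth.Agent.Lib.Seat5.PointGamma
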