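import Mathlib
import Groth.Prelude.Def_PerfD
import Groth.Agent.Lib.Helper1Sky9
import Groth.Agent.Lib.Helper26ModRank
import Groth.Agent.Lib.Helper2RankLoc
import Groth.Agent.Lib.Seat5PointGamma
import Groth.Agent.Lib.Seat5EulerPoincare
set_option backward.isDefEq.respectTransparency.types false

/-!
# Local form of perfect objects and their derived fibres at points (seat 5)
-/

set_option autoImplicit false

universe u

open CategoryTheory CategoryTheory.Limits AlgebraicGeometry Opposite

attribute [local instance] HasDerivedCategory.standard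

namespace Groth.Agent.Lib.Seat5.PerfLocal

open Groth.Agent.Lib.Helper1.Sky Groth.Agent.Lib.Helper1.BKF Groth.Agent.Lib.Helper1.CI
  Groth.Agent.Lib.Seat5.PointGamma

variable {X : Scheme.{u}}

/-- the lift of `Spec κ(x) ⟶ X` to an open `V` containing `x` -/
noncomputable def pointLift (V : X.Opens) (x : X) (hx : x ∈ V) :
    Spec (X.residueField x) ⟶ (V : Scheme.{u}) :=
  IsOpenImmersion.lift V.ι (X.fromSpecResidueField x) (by
    rw [Scheme.range_fromSpecResidueField, Scheme.Opens.range_ι]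
    simpa using hx)

@[reassoc (attr := simp)]
lemma pointLift_ι (V : X.Opens) (x : X) (hx : x ∈ V) :
    pointLift V x hx ≫ V.ι = X.fromSpecResidueField x :=
  IsOpenImmersion.lift_fac _ _ _

lemma pointLift_apply (V : X.Opens) (x : X) (hx : x ∈ V) (y : Spec (X.residueField x)) :
    pointLift V x hx y = ⟨x, hx⟩ := by
  apply Subtype.ext
  have h1 : (pointLift V x hx ≫ V.ι) y = x := by
    rw [pointLift_ι]
    exact Scheme.fromSpecResidueField_apply x y
  exact h1

/-- the local form of a perfect object, seen from the residue fields of the points -/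
theorem exists_local_form (E : DCoh.D X) (hE : DCoh.IsPerfect E) (x₀ : X) :
    ∃ (V : X.Opens) (P : CochainComplex (V : Scheme.{u}).Modules ℤ), x₀ ∈ V ∧
      DCoh.IsStrictlyPerfect P ∧
      ∀ (x : X) (hx : x ∈ V) [DCoh.HasLpull (X.fromSpecResidueField x)],
        Nonempty ((DCoh.Lpull (X.fromSpecResidueField x)).obj E ≅
          DCoh.toD _ ((pullC (pointLift V x hx)).obj P)) := by
  obtain ⟨V, hxV, hV⟩ := hE x₀
  let F₀ : CochainComplex X.Modules ℤ := DerivedCategory.Q.objPreimage E
  let e₀ : DCoh.toD X F₀ ≅ E := DerivedCategory.Q.objObjPreimageIso E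
  obtain ⟨P, hP, ⟨eP⟩⟩ := hV F₀ ⟨e₀⟩
  refine ⟨V, P, hxV, hP, fun x hx _ => ?_⟩
  haveI : DCoh.HasLpull V.ι := hasLpull _
  haveI : DCoh.HasLpull (pointLift V x hx) := hasLpull _
  haveI : DCoh.HasLpull (pointLift V x hx ≫ V.ι) := hasLpull _
  obtain ⟨c1⟩ := nonempty_lpull_comp_iso (pointLift V x hx) V.ι
  obtain ⟨c3⟩ := nonempty_lpull_congr (pointLift_ι V x hx)
  exact ⟨(c3.app E).symm ≪≫ (c1.app E).symm ≪≫
    (DCoh.Lpull (pointLift V x hx)).mapIso
      ((DCoh.Lpull V.ι).mapIso e₀.symm ≪≫ lpullOpenIso V F₀ ≪≫ eP) ≪≫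
    lpullIso (pointLift V x hx) P (kffs_of_isStrictlyPerfect P hP)⟩

end Groth.Agent.Lib.Seat5.PerfLocal
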