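import Mathlib
import Groth.Prelude.Def_PerfD
import Groth.Agent.Lib.Seat5PerfLocal
set_option backward.isDefEq.respectTransparency.types false

/-!
# The Euler characteristic of a perfect object is locally constant (seat 5)
-/

set_option autoImplicit false
set_option linter.style.haveILetI false

universe u

open CategoryTheory CategoryTheory.Limits AlgebraicGeometry Opposite

attribute [local instance] HasDerivedCategory.standard

namespace Groth.Agent.Lib.Seat5.EulerLocConst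

open Groth.Agent.Lib.Helper1.Sky Groth.Agent.Lib.Helper1.BKF Groth.Agent.Lib.Helper1.CI
  Groth.Agent.Lib.Seat5.PointGamma Groth.Agent.Lib.Seat5.PerfLocal
  Groth.Agent.Lib.Seat5.EulerPoincare

section onePoint

variable {Y : Scheme.{u}}

theorem eq_top_of_nonempty [Subsingleton Y] (U : Y.Opens) (h : (U : Set Y).Nonempty) : U = ⊤ := by
  obtain ⟨y, hy⟩ := h
  ext z
  simp only [TopologicalSpace.Opens.coe_top, Set.mem_univ, iff_true]
  rw [Subsingleton.elim z y]; exact hy

/-- the fibre dimensions of an object of `D(O_Y)` represented by a complex `K`, on a one-point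
scheme, are the dimensions of the cohomology of the complex of global sections of `K` -/
theorem finrank_HD_eq (hY : ∀ U : Y.Opens, (U : Set Y).Nonempty → U = ⊤) [Nonempty Y]
    (F : DCoh.D Y) (K : CochainComplex Y.Modules ℤ) (e : F ≅ DCoh.toD Y K) (j : ℤ) :
    Module.finrank (Coh.Γtop Y) ((DCoh.HD F j).val.obj (op ⊤)) =
      Module.finrank (Coh.Γtop Y)
        ((((ΓT Y).mapHomologicalComplex (ComplexShape.up ℤ)).obj K).homology j) := by
  let i1 : DCoh.HD F j ≅ K.homology j :=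
    (DerivedCategory.homologyFunctor _ j).mapIso e ≪≫
      (DerivedCategory.homologyFunctorFactors _ j).app K
  let i2 : (ΓT Y).obj (DCoh.HD F j) ≅
      (((ΓT Y).mapHomologicalComplex (ComplexShape.up ℤ)).obj K).homology j :=
    (ΓT Y).mapIso i1 ≪≫ (homologyIso hY K j).symm
  exact i2.toLinearEquiv.finrank_eq

/-- on a one-point scheme, global sections of a module which is free of rank `n` near the point
are a finite module of rank `n` -/
theorem finite_and_finrank_of_restrict_iso (hY : ∀ U : Y.Opens, (U : Set Y).Nonempty → U = ⊤)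
    (N : Y.Modules) {U' : Y.Opens} {n : ℕ}
    (e : N.restrict U'.ι ≅ FlatMod.freeMod (U' : Scheme.{u}) n) (y : Y) (hy : y ∈ U') :
    Module.Finite (Coh.Γtop Y) ((ΓT Y).obj N) ∧
      Module.finrank (Coh.Γtop Y) ((ΓT Y).obj N) = n := by
  let y' : (U' : Scheme.{u}) := ⟨y, hy⟩
  obtain ⟨V, hV, hyV, -⟩ := exists_isAffineOpen_mem_and_subset (x := y') (U := ⊤) trivial
  obtain ⟨E⟩ := Groth.Agent.Lib.Helper2.RankLoc.nonempty_sections_equiv_of_iso_freeMod
    (N.restrict U'.ι) e hV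
  haveI : Nonempty V := ⟨⟨_, hyV⟩⟩
  haveI : Nontrivial Γ((U' : Scheme.{u}), V) := inferInstance
  have hrkY : Module.finrank Γ((U' : Scheme.{u}), V) Γ(N.restrict U'.ι, V) = n := by
    rw [E.finrank_eq, Module.finrank_finsupp_self, Fintype.card_fin]
  haveI hfinY : Module.Finite Γ((U' : Scheme.{u}), V) Γ(N.restrict U'.ι, V) :=
    Module.Finite.equiv E.symm
  let σ : Γ((U' : Scheme.{u}), V) ≃+* Γ(Y, U'.ι ''ᵁ V) :=
    (U'.ι.appIso V).symm.commRingCatIsoToRingEquiv
  let j : Γ(N.restrict U'.ι, V) ≃+ Γ(N, U'.ι ''ᵁ V) :=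
    (N.restrictAppIso U'.ι V).addCommGroupIsoToAddEquiv
  have hc : ∀ (r : Γ((U' : Scheme.{u}), V)) (m : Γ(N.restrict U'.ι, V)), j (r • m) = σ r • j m :=
    fun r m => Scheme.Modules.smul_restrictAppIso_hom_apply U'.ι N V r m
  have htop : U'.ι ''ᵁ V = ⊤ := hY _ ⟨U'.ι ⟨y, hy⟩, ⟨y, hy⟩, hyV, rfl⟩
  have hrkX : Module.finrank Γ(Y, U'.ι ''ᵁ V) Γ(N, U'.ι ''ᵁ V) = n := by
    rw [← hrkY]
    exact (congrArg Cardinal.toNat (rank_eq_of_equiv_equiv σ j σ.bijective hc)).symm
  have hfinX : Module.Finite Γ(Y, U'.ι ''ᵁ V) Γ(N, U'.ι ''ᵁ V) := by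
    let jl : Γ(N.restrict U'.ι, V) →ₛₗ[(σ : Γ((U' : Scheme.{u}), V) →+* Γ(Y, U'.ι ''ᵁ V))]
        Γ(N, U'.ι ''ᵁ V) :=
      { j.toAddMonoidHom with map_smul' := hc }
    exact Module.Finite.of_surjective jl j.surjective
  have key : ∀ W : Y.Opens, W = ⊤ →
      (Module.Finite Γ(Y, W) Γ(N, W) ∧ Module.finrank Γ(Y, W) Γ(N, W) = n) →
      (Module.Finite Γ(Y, ⊤) Γ(N, ⊤) ∧ Module.finrank Γ(Y, ⊤) Γ(N, ⊤) = n) := by
    rintro W rfl h
    exact h
  exact key _ htop ⟨hfinX, hrkX⟩

open Groth.Agent.Lib.Helper2.LocFree Groth.Agent.Helper18Strict in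
/-- on a one-point scheme `Y`, global sections of the pullback of a finite locally free module
form a finite module, of the rank of the module near the image of the point -/
theorem finite_and_finrank_pullback (hY : ∀ U : Y.Opens, (U : Set Y).Nonempty → U = ⊤)
    {Z : Scheme.{u}} (t : Y ⟶ Z) (M : Z.Modules) (hM : FlatMod.IsFinLocFree M)
    {U : Z.Opens} {n : ℕ} (e : M.restrict U.ι ≅ FlatMod.freeMod (U : Scheme.{u}) n)
    (y : Y) (hy : t y ∈ U) :
    Module.Finite (Coh.Γtop Y) ((ΓT Y).obj ((Scheme.Modules.pullback t).obj M)) ∧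
      Module.finrank (Coh.Γtop Y) ((ΓT Y).obj ((Scheme.Modules.pullback t).obj M)) = n := by
  haveI : M.IsQuasicoherent := isQCoh_of_isFP M (isFP_of_isFinLocFree M hM)
  obtain ⟨U', hyU', ⟨e'⟩⟩ :=
    Groth.Agent.Lib.Helper26.ModRank.exists_restrict_iso_freeMod_pullback t M e y hy
  exact finite_and_finrank_of_restrict_iso hY _ e' y hyU'

end onePoint

section field

variable (K : CommRingCat.{u}) [IsDomain K] [IsNoetherianRing K]

/-- Euler–Poincaré for complexes of modules on the spectrum of a field -/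
theorem euler_field (C : CochainComplex (Spec K).Modules ℤ)
    (hfin : ∀ i, Module.Finite (Coh.Γtop (Spec K)) ((ΓT (Spec K)).obj (C.X i)))
    (a b : ℤ) (hv : ∀ i : ℤ, i < a ∨ b < i → IsZero (C.X i)) :
    ∑ᶠ i : ℤ, (i.negOnePow : ℤ) * (Module.finrank (Coh.Γtop (Spec K))
      ((((ΓT (Spec K)).mapHomologicalComplex (ComplexShape.up ℤ)).obj C).homology i) : ℤ) =
    ∑ᶠ i : ℤ, (i.negOnePow : ℤ) * (Module.finrank (Coh.Γtop (Spec K))
      ((ΓT (Spec K)).obj (C.X i)) : ℤ) := by
  letI : CommRing (Coh.Γtop (Spec K)) := inferInstanceAs (CommRing Γ(Spec K, ⊤))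
  let σ : Γ(Spec K, ⊤) ≃+* K := (Scheme.ΓSpecIso K).commRingCatIsoToRingEquiv
  haveI : IsDomain (Coh.Γtop (Spec K)) := MulEquiv.isDomain K σ.toMulEquiv
  haveI : IsNoetherianRing (Coh.Γtop (Spec K)) := isNoetherianRing_of_ringEquiv K σ.symm
  haveI : ∀ i, Module.Finite (Coh.Γtop (Spec K))
      ((((ΓT (Spec K)).mapHomologicalComplex (ComplexShape.up ℤ)).obj C).X i) := hfin
  refine finsum_homology_eq (((ΓT (Spec K)).mapHomologicalComplex (ComplexShape.up ℤ)).obj C) ?_
  refine (Set.finite_Icc a b).subset (fun i hi => ?_)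
  by_contra hcon
  apply hi
  have : i < a ∨ b < i := by
    simp only [Set.mem_Icc, not_and_or, not_le] at hcon
    exact hcon
  exact (ΓT (Spec K)).map_isZero (hv i this)

end field

section main

variable {X : Scheme.{u}}

/-- the Euler characteristic at `x` of the object represented near `x` by the strictly perfect
complex `P`, in terms of the local ranks of the terms of `P` -/
theorem eulerChar_eq (E : DCoh.D X) (V : X.Opens) (P : CochainComplex (V : Scheme.{u}).Modules ℤ)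
    (a b : ℤ) (hv : DCoh.VanishesOutside P a b) (hfl : ∀ i : ℤ, FlatMod.IsFinLocFree (P.X i))
    (U : ℤ → (V : Scheme.{u}).Opens) (n : ℤ → ℕ)
    (e : ∀ i, (P.X i).restrict (U i).ι ≅ FlatMod.freeMod ((U i : (V : Scheme.{u}).Opens) : Scheme.{u}) (n i))
    (x : X) (hx : x ∈ V) [DCoh.HasLpull (X.fromSpecResidueField x)]
    (hxU : ∀ i, a ≤ i → i ≤ b → (⟨x, hx⟩ : (V : Scheme.{u})) ∈ U i)
    (iso : (DCoh.Lpull (X.fromSpecResidueField x)).obj E ≅
      DCoh.toD _ ((pullC (pointLift V x hx)).obj P)) :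
    PerfD.eulerChar E x =
      ∑ᶠ i : ℤ, (i.negOnePow : ℤ) * ((if a ≤ i ∧ i ≤ b then n i else 0 : ℕ) : ℤ) := by
  set Y := Spec (X.residueField x) with hYdef
  have hY : ∀ W : Y.Opens, (W : Set Y).Nonempty → W = ⊤ := fun W hW => eq_top_of_nonempty W hW
  let t : Y ⟶ (V : Scheme.{u}) := pointLift V x hx
  let y : Y := default
  have hty : t y = ⟨x, hx⟩ := by
    apply Subtype.ext
    have h1 : (t ≫ V.ι) y = x := by
      rw [pointLift_ι]
      exact Scheme.fromSpecResidueField_apply x y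
    exact h1
  let C : CochainComplex Y.Modules ℤ := (pullC t).obj P
  have hCv : ∀ i : ℤ, i < a ∨ b < i → IsZero (C.X i) :=
    fun i hi => (Scheme.Modules.pullback t).map_isZero (hv i hi)
  have hfin : ∀ i, Module.Finite (Coh.Γtop Y) ((ΓT Y).obj (C.X i)) := by
    intro i
    obtain ⟨U₀, n₀, hU₀, ⟨e₀⟩⟩ := hfl i (t y)
    exact (finite_and_finrank_pullback hY t (P.X i) (hfl i) e₀ y hU₀).1
  have hrank : ∀ i, Module.finrank (Coh.Γtop Y) ((ΓT Y).obj (C.X i)) =
      if a ≤ i ∧ i ≤ b then n i else 0 := by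
    intro i
    split_ifs with h
    · exact (finite_and_finrank_pullback hY t (P.X i) (hfl i) (e i) y
        (by rw [hty]; exact hxU i h.1 h.2)).2
    · have hz : IsZero ((ΓT Y).obj (C.X i)) := (ΓT Y).map_isZero (hCv i (by omega))
      haveI : Subsingleton ((ΓT Y).obj (C.X i)) := ModuleCat.subsingleton_of_isZero hz
      haveI : Nonempty (⊤ : Y.Opens) := ⟨⟨y, trivial⟩⟩
      haveI : Nontrivial (Coh.Γtop Y) := inferInstanceAs (Nontrivial Γ(Y, ⊤))
      exact Module.finrank_zero_of_subsingleton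
  have h1 : PerfD.eulerChar E x = ∑ᶠ i : ℤ, (i.negOnePow : ℤ) *
      (Module.finrank (Coh.Γtop Y)
        ((((ΓT Y).mapHomologicalComplex (ComplexShape.up ℤ)).obj C).homology i) : ℤ) := by
    unfold PerfD.eulerChar PerfD.betti
    congr 1
    funext i
    rw [finrank_HD_eq hY _ C iso i]
  rw [h1, euler_field (X.residueField x) C hfin a b hCv]
  congr 1
  funext i
  rw [hrank i]

/-- **S1059**: the Euler characteristic of a perfect object is locally constant -/
theorem isLocallyConstant_eulerChar [∀ x : X, DCoh.HasLpull (X.fromSpecResidueField x)]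
    (E : DCoh.D X) (hE : DCoh.IsPerfect E) :
    IsLocallyConstant (fun x : X => PerfD.eulerChar E x) := by
  rw [IsLocallyConstant.iff_exists_open]
  intro x₀
  obtain ⟨V, P, hx₀, ⟨⟨a, b, hv⟩, hfl⟩, hiso⟩ := exists_local_form E hE x₀
  choose U n hU e using fun i : ℤ => hfl i ⟨x₀, hx₀⟩
  let e' := fun i => (e i).some
  let W : Set (V : Scheme.{u}) := ⋂ i ∈ Finset.Icc a b, ((U i : (V : Scheme.{u}).Opens) : Set (V : Scheme.{u}))
  have hWopen : IsOpen W := isOpen_biInter_finset (fun i _ => (U i).isOpen)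
  refine ⟨V.ι '' W, V.ι.isOpenEmbedding.isOpenMap _ hWopen, ⟨⟨x₀, hx₀⟩, ?_, rfl⟩, ?_⟩
  · simp only [W, Set.mem_iInter]
    exact fun i _ => hU i
  · have hconst : ∀ x ∈ V.ι '' W, PerfD.eulerChar E x =
        ∑ᶠ i : ℤ, (i.negOnePow : ℤ) * ((if a ≤ i ∧ i ≤ b then n i else 0 : ℕ) : ℤ) := by
      rintro x ⟨⟨x', hx'⟩, hxW, rfl⟩
      obtain ⟨iso⟩ := hiso x' hx'
      refine eulerChar_eq E V P a b hv hfl U n e' x' hx' (fun i hai hib => ?_) iso
      simp only [W, Set.mem_iInter] at hxW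
      exact hxW i (Finset.mem_Icc.2 ⟨hai, hib⟩)
    intro x hx
    rw [hconst x hx, hconst x₀ ⟨⟨x₀, hx₀⟩, by
      simp only [W, Set.mem_iInter]
      exact fun i _ => hU i, rfl⟩]

end main

end Groth.Agent.Lib.Seat5.EulerLocConst
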