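import Mathlib
import Groth.Agent.Lib.Helper20SuppBC

/-!
# Fibre dimensions of a finite module are upper semicontinuous: the algebra (seat 5)

For a finite `A`-module `N` and a field `k` over `A`, `r = dim_k (k ⊗_A N)`: there are `f ∈ A`, nonzero
in `k`, and at most `r` elements of `N` spanning `f • N`.  Conversely such data bound the fibre
dimension over every field in which `f` stays nonzero.
-/

set_option autoImplicit false
set_option linter.style.haveILetI false

universe u v

open TensorProduct

namespace Groth.Agent.Lib.Seat5.FibreDim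

variable {A : Type u} [CommRing A] {N : Type v} [AddCommGroup N] [Module A N]

/-- the upper bound: if `f • N` lies in the span of a finite set `T` and `f` is nonzero in the field `k`,
then `dim_k (k ⊗_A N) ≤ |T|` -/
theorem finrank_baseChange_le (k : Type u) [Field k] [Algebra A k] (f : A)
    (hf : algebraMap A k f ≠ 0) (T : Finset N)
    (hT : ∀ x : N, f • x ∈ Submodule.span A (T : Set N)) :
    Module.finrank k (k ⊗[A] N) ≤ T.card := by
  classical
  have hspan : Submodule.span k ((TensorProduct.mk A k N 1) '' (T : Set N)) = ⊤ := by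
    rw [← Submodule.baseChange_span, eq_top_iff]
    rintro z -
    induction z using TensorProduct.induction_on with
    | zero => exact zero_mem _
    | tmul c x =>
      have h1 : c ⊗ₜ[A] x = (c * (algebraMap A k f)⁻¹) ⊗ₜ[A] (f • x) := by
        rw [← TensorProduct.smul_tmul, Algebra.smul_def, mul_comm c, ← mul_assoc,
          mul_inv_cancel₀ hf, one_mul]
      rw [h1]
      exact Submodule.tmul_mem_baseChange_of_mem _ (hT x)
    | add a b ha hb => exact add_mem ha hb
  have h2 : Module.finrank k (k ⊗[A] N) =
      Module.finrank k (Submodule.span k ((TensorProduct.mk A k N 1) '' (T : Set N))) := by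
    rw [hspan, finrank_top]
  rw [h2]
  have h3 : (TensorProduct.mk A k N 1) '' (T : Set N) =
      ((T.image (TensorProduct.mk A k N 1) : Finset (k ⊗[A] N)) : Set (k ⊗[A] N)) := by
    rw [Finset.coe_image]
  rw [h3]
  exact (finrank_span_finset_le_card _).trans Finset.card_image_le

/-- the choice of generators: for a finite module `N` and a field `k` over `A`, at most
`dim_k (k ⊗_A N)` elements of `N` span `f • N` for some `f` which is nonzero in `k` -/
theorem exists_generators (k : Type u) [Field k] [Algebra A k] [Module.Finite A N] :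
    ∃ (f : A) (T : Finset N), algebraMap A k f ≠ 0 ∧ T.card ≤ Module.finrank k (k ⊗[A] N) ∧
      ∀ x : N, f • x ∈ Submodule.span A (T : Set N) := by
  classical
  set S : Set (k ⊗[A] N) := Set.range (TensorProduct.mk A k N 1) with hS
  have hSspan : Submodule.span k S = ⊤ := by
    have h1 := Submodule.baseChange_span (R := A) (M := N) k (Set.univ : Set N)
    rw [Submodule.span_univ, Submodule.baseChange_top, Set.image_univ] at h1
    exact h1.symm
  obtain ⟨b, hbS, hbspan, hbli⟩ := exists_linearIndependent k S
  rw [hSspan] at hbspan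
  haveI : Fintype b := (hbli.setFinite).fintype
  let B : Module.Basis b k (k ⊗[A] N) := Module.Basis.mk hbli (by
    rw [Subtype.range_coe_subtype, Set.ofPred_mem_eq, hbspan])
  have hcard : Fintype.card b = Module.finrank k (k ⊗[A] N) :=
    (Module.finrank_eq_card_basis B).symm
  choose g hg using fun w : b => hbS w.2
  let T : Finset N := Finset.univ.image g
  have hTcard : T.card ≤ Module.finrank k (k ⊗[A] N) := by
    rw [← hcard]
    exact Finset.card_image_le.trans (le_of_eq (Finset.card_univ))
  set n : Submodule A N := Submodule.span A (T : Set N) with hn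
  -- the base change of the quotient vanishes
  let G : k ⊗[A] N →ₗ[k] k ⊗[A] (N ⧸ n) := n.mkQ.baseChange k
  have hG0 : G = 0 := by
    apply LinearMap.ext_on hbspan
    intro w hw
    have h1 : w = (1 : k) ⊗ₜ[A] g ⟨w, hw⟩ := (hg ⟨w, hw⟩).symm
    rw [h1, LinearMap.baseChange_tmul, LinearMap.zero_apply]
    have h2 : n.mkQ (g ⟨w, hw⟩) = 0 := by
      rw [Submodule.mkQ_apply, Submodule.Quotient.mk_eq_zero]
      exact Submodule.subset_span (Finset.mem_coe.2 (Finset.mem_image.2 ⟨⟨w, hw⟩, Finset.mem_univ _, rfl⟩))
    rw [h2, TensorProduct.tmul_zero]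
  have hGsurj : Function.Surjective G :=
    LinearMap.lTensor_surjective k (Submodule.mkQ_surjective n)
  haveI hsub : Subsingleton (k ⊗[A] (N ⧸ n)) := by
    refine ⟨fun a b => ?_⟩
    obtain ⟨a', rfl⟩ := hGsurj a
    obtain ⟨b', rfl⟩ := hGsurj b
    rw [hG0, LinearMap.zero_apply, LinearMap.zero_apply]
  -- the support argument
  let q : PrimeSpectrum k := ⟨⊥, Ideal.isPrime_bot⟩
  have hq : q.comap (algebraMap A k) ∉ Module.support A (N ⧸ n) := by
    rw [← Groth.Agent.Lib.Helper20.SuppBC.mem_support_baseChange_iff (A := A) (B := k) (N := N ⧸ n) q,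
      Module.support_eq_empty]
    exact Set.notMem_empty _
  rw [Module.mem_support_iff_of_finite, SetLike.not_le_iff_exists] at hq
  obtain ⟨f, hfann, hfq⟩ := hq
  refine ⟨f, T, fun h0 => hfq ?_, hTcard, fun x => ?_⟩
  · show algebraMap A k f ∈ (⊥ : Ideal k)
    rw [h0]
    exact zero_mem _
  · have h1 := Module.mem_annihilator.mp hfann (n.mkQ x)
    rw [← map_smul, Submodule.mkQ_apply, Submodule.Quotient.mk_eq_zero] at h1
    exact h1

end Groth.Agent.Lib.Seat5.FibreDim
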