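import Mathlib
import Groth.Prelude.Def_PerfD
import Groth.Agent.Lib.Helper20PullbackAff
import Groth.Agent.Lib.Helper23FinType2
import Groth.Agent.Lib.Seat5PointGamma
import Groth.Agent.Lib.Seat5FibreDim
set_option backward.isDefEq.respectTransparency.types false

/-!
# Upper semicontinuity of the fibre dimensions of a quasi-coherent module of finite type (seat 5)

For a field-valued point `t : Spec K ⟶ Z` and an `O_Z`-module `M`, `fibreDim t M` is the dimension of the
global sections of `t^* M` over the global functions of `Spec K`.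
-/

set_option autoImplicit false
set_option linter.style.haveILetI false

universe u

open CategoryTheory CategoryTheory.Limits AlgebraicGeometry Opposite TensorProduct

namespace Groth.Agent.Lib.Seat5.FibreUsc

open Groth.Agent.Lib.Seat5.PointGamma Groth.Agent.Lib.Seat5.FibreDim
  Groth.Agent.Lib.Helper20.PullbackAff Groth.Agent.Lib.Helper20.Thickening
  Groth.Agent.Lib.Helper23.FinType

/-- the fibre dimension of a module at a point with values in (the spectrum of) a field -/
noncomputable def fibreDim {Y Z : Scheme.{u}} (t : Y ⟶ Z) (M : Z.Modules) : ℕ :=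
  Module.finrank (Coh.Γtop Y) ((ΓT Y).obj ((Scheme.Modules.pullback t).obj M))

section field

variable (K : CommRingCat.{u}) (hK : IsField K)

include hK

theorem isField_Γ : IsField Γ(Spec K, ⊤) :=
  MulEquiv.isField hK (Scheme.ΓSpecIso K).commRingCatIsoToRingEquiv.toMulEquiv

theorem subsingleton_spec : Subsingleton (Spec K) := by
  letI := hK.toField
  exact inferInstanceAs (Subsingleton (PrimeSpectrum K))

variable {K} {Z : Scheme.{u}} (t : Spec K ⟶ Z)

theorem top_le_preimage (pt : Spec K) (D : Z.Opens) (h : t pt ∈ D) : (⊤ : (Spec K).Opens) ≤ t ⁻¹ᵁ D := by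
  intro y _
  haveI := subsingleton_spec K hK
  rw [Subsingleton.elim y pt]
  exact h

/-- membership of the image point in a basic open, in terms of the value of the function -/
theorem mem_basicOpen_iff (pt : Spec K) {D : Z.Opens} (h : (⊤ : (Spec K).Opens) ≤ t ⁻¹ᵁ D)
    (f : Γ(Z, D)) : t pt ∈ Z.basicOpen f ↔ (t.appLE D ⊤ h).hom f ≠ 0 := by
  have h1 : (Spec K).basicOpen ((t.appLE D ⊤ h).hom f) = t ⁻¹ᵁ (Z.basicOpen f) := by
    rw [Scheme.preimage_basicOpen, Scheme.Hom.appLE]
    have := (Spec K).basicOpen_res ((t.app D).hom f) (homOfLE h).op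
    rw [CommRingCat.comp_apply, this]
    simp
  constructor
  · intro hm h0
    have h2 : pt ∈ t ⁻¹ᵁ (Z.basicOpen f) := hm
    rw [← h1, h0, Scheme.basicOpen_zero] at h2
    exact h2
  · intro hne
    have hu : IsUnit ((t.appLE D ⊤ h).hom f) := by
      obtain ⟨b, hb⟩ := (isField_Γ K hK).mul_inv_cancel hne
      exact IsUnit.of_mul_eq_one _ hb
    have h2 : pt ∈ (Spec K).basicOpen ((t.appLE D ⊤ h).hom f) := by
      rw [Scheme.basicOpen_of_isUnit _ hu]
      trivial
    rw [h1] at h2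
    exact h2

omit hK in
/-- the fibre dimension, computed on an affine open containing the image point -/
theorem fibreDim_eq (M : Z.Modules) [M.IsQuasicoherent] {D : Z.Opens} (hD : IsAffineOpen D)
    (h : (⊤ : (Spec K).Opens) ≤ t ⁻¹ᵁ D) :
    letI : Algebra Γ(Z, D) Γ(Spec K, ⊤) := (t.appLE D ⊤ h).hom.toAlgebra
    fibreDim t M = Module.finrank Γ(Spec K, ⊤) (Γ(Spec K, ⊤) ⊗[Γ(Z, D)] ((ΓUF hD).obj M)) := by
  letI : Algebra Γ(Z, D) Γ(Spec K, ⊤) := (t.appLE D ⊤ h).hom.toAlgebra
  have hT : IsAffineOpen (⊤ : (Spec K).Opens) := isAffineOpen_top (Spec K)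
  let e1 := ΓUEquiv hT ((Scheme.Modules.pullback t).obj M)
  let e2 : (ΓUF hT).obj ((Scheme.Modules.pullback t).obj M) ≃ₗ[Γ(Spec K, ⊤)]
      (Γ(Spec K, ⊤) ⊗[Γ(Z, D)] ((ΓUF hD).obj M)) :=
    (ΓUFPullbackIso t hD hT h M).toLinearEquiv
  exact (e1.trans e2).finrank_eq

end field

/-- **upper semicontinuity of fibre dimensions**: near the image of a field-valued point `t`, the fibre
dimensions of a quasi-coherent module of finite type are at most the one at `t` -/
theorem exists_open_fibreDim_le {Z : Scheme.{u}} (M : Z.Modules) [M.IsQuasicoherent]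
    [SheafOfModules.IsFiniteType (R := Z.ringCatSheaf) M]
    {K : CommRingCat.{u}} (hK : IsField K) (t : Spec K ⟶ Z) (pt : Spec K) :
    ∃ W : Z.Opens, t pt ∈ W ∧ ∀ {K' : CommRingCat.{u}} (_ : IsField K') (t' : Spec K' ⟶ Z)
      (pt' : Spec K'), t' pt' ∈ W → fibreDim t' M ≤ fibreDim t M := by
  obtain ⟨D, hD, hptD, -⟩ := exists_isAffineOpen_mem_and_subset (x := t pt) (U := ⊤) trivial
  have h := top_le_preimage hK t pt D hptD
  haveI : Module.Finite Γ(Z, D) Γ(M, D) := finite_of_isFiniteType M hD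
  haveI : Module.Finite Γ(Z, D) ((ΓUF hD).obj M) := Module.Finite.equiv (ΓUEquiv hD M)
  letI alg : Algebra Γ(Z, D) Γ(Spec K, ⊤) := (t.appLE D ⊤ h).hom.toAlgebra
  letI : Field Γ(Spec K, ⊤) := (isField_Γ K hK).toField
  obtain ⟨f, T, hf, hTcard, hT⟩ := exists_generators (A := Γ(Z, D)) (N := (ΓUF hD).obj M) Γ(Spec K, ⊤)
  refine ⟨Z.basicOpen f, (mem_basicOpen_iff hK t pt h f).2 hf, ?_⟩
  intro K' hK' t' pt' hpt'
  have hpt'D : t' pt' ∈ D := Z.basicOpen_le f hpt'
  have h' := top_le_preimage hK' t' pt' D hpt'D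
  letI alg' : Algebra Γ(Z, D) Γ(Spec K', ⊤) := (t'.appLE D ⊤ h').hom.toAlgebra
  letI : Field Γ(Spec K', ⊤) := (isField_Γ K' hK').toField
  have hf' : algebraMap Γ(Z, D) Γ(Spec K', ⊤) f ≠ 0 := (mem_basicOpen_iff hK' t' pt' h' f).1 hpt'
  have h1 := finrank_baseChange_le (A := Γ(Z, D)) (N := (ΓUF hD).obj M) Γ(Spec K', ⊤) f hf' T hT
  rw [fibreDim_eq t' M hD h', fibreDim_eq t M hD h]
  exact h1.trans hTcard

end Groth.Agent.Lib.Seat5.FibreUsc
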