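import Mathlib
import Groth.Prelude.Def_PerfD
import Groth.Agent.Lib.Helper1Sky11
import Groth.Agent.Lib.Helper20Nakayama
import Groth.Agent.Lib.Seat5EulerLocConst
import Groth.Agent.Lib.Seat5FibreUsc
set_option backward.isDefEq.respectTransparency.types false

/-!
# Upper semicontinuity of the fibre dimensions of a pseudo-coherent object (seat 5)
-/

set_option autoImplicit false
set_option linter.style.haveILetI false

universe u

open CategoryTheory CategoryTheory.Limits AlgebraicGeometry Opposite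

attribute [local instance] HasDerivedCategory.standard

namespace Groth.Agent.Lib.Seat5.BettiUsc

open Groth.Agent.Lib.Helper1.Sky Groth.Agent.Lib.Helper1.BKF Groth.Agent.Lib.Helper1.CI
  Groth.Agent.Lib.Seat5.PointGamma Groth.Agent.Lib.Seat5.PerfLocal
  Groth.Agent.Lib.Seat5.EulerPoincare Groth.Agent.Lib.Seat5.EulerLocConst
  Groth.Agent.Lib.Seat5.FibreUsc

section onePoint

variable {Y : Scheme.{u}}

/-- variant of `finrank_HD_eq` in one degree -/
theorem finrank_HD_eq' (hY : ∀ U : Y.Opens, (U : Set Y).Nonempty → U = ⊤) [Nonempty Y]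
    (F : DCoh.D Y) (K : CochainComplex Y.Modules ℤ) (j : ℤ) (e : DCoh.HD F j ≅ K.homology j) :
    Module.finrank (Coh.Γtop Y) ((DCoh.HD F j).val.obj (op ⊤)) =
      Module.finrank (Coh.Γtop Y)
        ((((ΓT Y).mapHomologicalComplex (ComplexShape.up ℤ)).obj K).homology j) := by
  let i2 : (ΓT Y).obj (DCoh.HD F j) ≅
      (((ΓT Y).mapHomologicalComplex (ComplexShape.up ℤ)).obj K).homology j :=
    (ΓT Y).mapIso e ≪≫ (homologyIso hY K j).symm
  exact i2.toLinearEquiv.finrank_eq

/-- global sections of the pullback to a one-point scheme commute with cokernels -/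
theorem finrank_cokernel_eq (hY : ∀ U : Y.Opens, (U : Set Y).Nonempty → U = ⊤) [Nonempty Y]
    {Z : Scheme.{u}} (t : Y ⟶ Z) {A B : Z.Modules} (φ : A ⟶ B) :
    Module.finrank (Coh.Γtop Y)
      (cokernel ((ΓT Y).map ((Scheme.Modules.pullback t).map φ)) : ModuleCat (Y.ringCatSheaf.obj.obj (op ⊤))) =
      fibreDim t (cokernel φ) := by
  haveI := preservesFiniteColimits_ΓT hY
  let e : (Scheme.Modules.pullback t ⋙ ΓT Y).obj (cokernel φ) ≅
      cokernel ((Scheme.Modules.pullback t ⋙ ΓT Y).map φ) :=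
    PreservesCokernel.iso (Scheme.Modules.pullback t ⋙ ΓT Y) φ
  exact e.toLinearEquiv.finrank_eq.symm

end onePoint

section field

variable (K : CommRingCat.{u}) [IsDomain K] [IsNoetherianRing K]

theorem coker_field (C : CochainComplex (Spec K).Modules ℤ)
    (hfin : ∀ i, Module.Finite (Coh.Γtop (Spec K)) ((ΓT (Spec K)).obj (C.X i))) (i : ℤ) :
    Module.finrank (Coh.Γtop (Spec K))
      ((((ΓT (Spec K)).mapHomologicalComplex (ComplexShape.up ℤ)).obj C).homology i) +
      Module.finrank (Coh.Γtop (Spec K)) ((ΓT (Spec K)).obj (C.X (i + 1))) =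
    Module.finrank (Coh.Γtop (Spec K))
      (cokernel ((ΓT (Spec K)).map (C.d (i - 1) i)) :
        ModuleCat ((Spec K).ringCatSheaf.obj.obj (op ⊤))) +
    Module.finrank (Coh.Γtop (Spec K))
      (cokernel ((ΓT (Spec K)).map (C.d i (i + 1))) :
        ModuleCat ((Spec K).ringCatSheaf.obj.obj (op ⊤))) := by
  letI : CommRing (Coh.Γtop (Spec K)) := inferInstanceAs (CommRing Γ(Spec K, ⊤))
  let σ : Γ(Spec K, ⊤) ≃+* K := (Scheme.ΓSpecIso K).commRingCatIsoToRingEquiv
  haveI : IsDomain (Coh.Γtop (Spec K)) := MulEquiv.isDomain K σ.toMulEquiv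
  haveI : IsNoetherianRing (Coh.Γtop (Spec K)) := isNoetherianRing_of_ringEquiv K σ.symm
  haveI : ∀ i, Module.Finite (Coh.Γtop (Spec K))
      ((((ΓT (Spec K)).mapHomologicalComplex (ComplexShape.up ℤ)).obj C).X i) := hfin
  exact finrank_homology_add_eq_cokernel
    (((ΓT (Spec K)).mapHomologicalComplex (ComplexShape.up ℤ)).obj C) i

end field

section main

variable {X : Scheme.{u}}

/-- the local form of a pseudo-coherent object, seen from the residue fields of the points -/
theorem exists_local_form_pc (E : DCoh.D X) (m : ℤ) (hE : DCoh.IsPseudoCoherentD m E) (x₀ : X) :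
    ∃ (V : X.Opens) (P : CochainComplex (V : Scheme.{u}).Modules ℤ), x₀ ∈ V ∧
      DCoh.IsStrictlyPerfect P ∧
      ∀ (x : X) (hx : x ∈ V) [DCoh.HasLpull (X.fromSpecResidueField x)] (i : ℤ), m < i →
        Nonempty (DCoh.HD ((DCoh.Lpull (X.fromSpecResidueField x)).obj E) i ≅
          ((pullC (pointLift V x hx)).obj P).homology i) := by
  obtain ⟨V, hxV, hV⟩ := hE x₀
  let F₀ : CochainComplex X.Modules ℤ := DerivedCategory.Q.objPreimage E
  let e₀ : DCoh.toD X F₀ ≅ E := DerivedCategory.Q.objObjPreimageIso E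
  obtain ⟨P, α, hP, hα1, hα2⟩ := hV F₀ ⟨e₀⟩
  refine ⟨V, P, hxV, hP, fun x hx _ i hi => ?_⟩
  haveI : DCoh.HasLpull V.ι := hasLpull _
  haveI : DCoh.HasLpull (pointLift V x hx) := hasLpull _
  haveI : DCoh.HasLpull (pointLift V x hx ≫ V.ι) := hasLpull _
  obtain ⟨c1⟩ := nonempty_lpull_comp_iso (pointLift V x hx) V.ι
  obtain ⟨c3⟩ := nonempty_lpull_congr (pointLift_ι V x hx)
  let θ : (DCoh.Lpull (X.fromSpecResidueField x)).obj E ≅
      (DCoh.Lpull (pointLift V x hx)).obj (DerivedCategory.Q.obj ((DCoh.restrictCx V).obj F₀)) :=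
    (c3.app E).symm ≪≫ (c1.app E).symm ≪≫
      (DCoh.Lpull (pointLift V x hx)).mapIso ((DCoh.Lpull V.ι).mapIso e₀.symm ≪≫ lpullOpenIso V F₀)
  have hβ' : PropM m ((DCoh.Lpull (pointLift V x hx)).map α) :=
    propM_lpull_map (pointLift V x hx) m α ⟨hα1, hα2⟩
  haveI : IsIso ((DerivedCategory.homologyFunctor _ i).map
      ((DCoh.Lpull (pointLift V x hx)).map α)) := hβ'.1 i hi
  let ι := lpullIso (pointLift V x hx) P (kffs_of_isStrictlyPerfect P hP)
  exact ⟨(DerivedCategory.homologyFunctor _ i).mapIso θ ≪≫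
    (asIso ((DerivedCategory.homologyFunctor _ i).map
      ((DCoh.Lpull (pointLift V x hx)).map α))).symm ≪≫
    (DerivedCategory.homologyFunctor _ i).mapIso ι ≪≫
    (DerivedCategory.homologyFunctorFactors _ i).app _⟩

open Groth.Agent.Lib.Helper2.LocFree Groth.Agent.Helper18Strict in
/-- the fibre dimension in degree `i` in terms of the fibre dimensions of two cokernels -/
theorem betti_add_eq (E : DCoh.D X) (V : X.Opens) (P : CochainComplex (V : Scheme.{u}).Modules ℤ)
    (hfl : ∀ i : ℤ, FlatMod.IsFinLocFree (P.X i)) (i : ℤ)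
    (x : X) (hx : x ∈ V) [DCoh.HasLpull (X.fromSpecResidueField x)]
    (e : DCoh.HD ((DCoh.Lpull (X.fromSpecResidueField x)).obj E) i ≅
      ((pullC (pointLift V x hx)).obj P).homology i) :
    PerfD.betti E x i + fibreDim (pointLift V x hx) (P.X (i + 1)) =
      fibreDim (pointLift V x hx) (cokernel (P.d (i - 1) i)) +
        fibreDim (pointLift V x hx) (cokernel (P.d i (i + 1))) := by
  set Y := Spec (X.residueField x) with hYdef
  have hY : ∀ W : Y.Opens, (W : Set Y).Nonempty → W = ⊤ := fun W hW => eq_top_of_nonempty W hW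
  let t : Y ⟶ (V : Scheme.{u}) := pointLift V x hx
  let y : Y := default
  let C : CochainComplex Y.Modules ℤ := (pullC t).obj P
  have hfin : ∀ j, Module.Finite (Coh.Γtop Y) ((ΓT Y).obj (C.X j)) := by
    intro j
    obtain ⟨U₀, n₀, hU₀, ⟨e₀⟩⟩ := hfl j (t y)
    exact (finite_and_finrank_pullback hY t (P.X j) (hfl j) e₀ y hU₀).1
  have h1 : PerfD.betti E x i = Module.finrank (Coh.Γtop Y)
      ((((ΓT Y).mapHomologicalComplex (ComplexShape.up ℤ)).obj C).homology i) := by
    unfold PerfD.betti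
    exact finrank_HD_eq' hY _ C i e
  have h2 := coker_field (X.residueField x) C hfin i
  rw [h1]
  rw [← finrank_cokernel_eq hY t (P.d (i - 1) i), ← finrank_cokernel_eq hY t (P.d i (i + 1))]
  exact h2

open Groth.Agent.Lib.Helper2.LocFree Groth.Agent.Helper18Strict in
/-- **S1060**, **S6199**: the fibre dimension in degree `i` of an `(i-1)`-pseudo-coherent object is
upper semicontinuous -/
theorem isOpen_betti_lt [∀ x : X, DCoh.HasLpull (X.fromSpecResidueField x)]
    (E : DCoh.D X) (i : ℤ) (hE : DCoh.IsPseudoCoherentD (i - 1) E) (n : ℕ) :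
    IsOpen {x : X | PerfD.betti E x i < n} := by
  rw [isOpen_iff_forall_mem_open]
  intro x₀ hx₀
  obtain ⟨V, P, hx₀V, ⟨-, hfl⟩, hiso⟩ := exists_local_form_pc E (i - 1) hE x₀
  -- the two cokernels are quasi-coherent of finite type
  have hqc : ∀ j, (P.X j).IsQuasicoherent := fun j =>
    isQCoh_of_isFP (P.X j) (isFP_of_isFinLocFree (P.X j) (hfl j))
  have hft : ∀ j, SheafOfModules.IsFiniteType (R := (V : Scheme.{u}).ringCatSheaf) (P.X j) := fun j => by
    haveI : SheafOfModules.IsFinitePresentation (R := (V : Scheme.{u}).ringCatSheaf) (P.X j) :=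
      isFP_of_isFinLocFree (P.X j) (hfl j)
    infer_instance
  have hqcc : ∀ j k, (cokernel (P.d j k)).IsQuasicoherent := fun j k => by
    haveI := hqc j
    haveI := hqc k
    exact Groth.Agent.Lib.Helper23.QCohLocal.isQuasicoherent_cokernel (P.d j k)
  have hftc : ∀ j k, SheafOfModules.IsFiniteType (R := (V : Scheme.{u}).ringCatSheaf)
      (cokernel (P.d j k) : (V : Scheme.{u}).Modules) := fun j k => by
    have hepi : Epi (cokernel.π (P.d j k)) := inferInstance
    exact @Groth.Agent.Lib.Helper20.Nakayama.isFiniteType_of_epi (V : Scheme.{u}) _ _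
      (cokernel.π (P.d j k)) hepi (hft k)
  haveI := hqcc (i - 1) i
  haveI := hqcc i (i + 1)
  haveI := hftc (i - 1) i
  haveI := hftc i (i + 1)
  have hK₀ : IsField (X.residueField x₀) := Field.toIsField _
  let pt₀ : Spec (X.residueField x₀) := default
  have hpt₀ : (pointLift V x₀ hx₀V) pt₀ = ⟨x₀, hx₀V⟩ := pointLift_apply V x₀ hx₀V pt₀
  obtain ⟨W₁, hW₁, hle₁⟩ := exists_open_fibreDim_le (cokernel (P.d (i - 1) i)) hK₀ (pointLift V x₀ hx₀V) pt₀
  obtain ⟨W₂, hW₂, hle₂⟩ := exists_open_fibreDim_le (cokernel (P.d i (i + 1))) hK₀ (pointLift V x₀ hx₀V) pt₀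
  obtain ⟨U, r, hU, ⟨eU⟩⟩ := hfl (i + 1) ⟨x₀, hx₀V⟩
  rw [hpt₀] at hW₁ hW₂
  -- the rank of `P^{i+1}` is `r` on `U`
  have hrank : ∀ (x : X) (hx : x ∈ V), (⟨x, hx⟩ : (V : Scheme.{u})) ∈ U →
      fibreDim (pointLift V x hx) (P.X (i + 1)) = r := by
    intro x hx hxU
    have hY : ∀ W : (Spec (X.residueField x)).Opens,
        (W : Set (Spec (X.residueField x))).Nonempty → W = ⊤ := fun W hW => eq_top_of_nonempty W hW
    exact (finite_and_finrank_pullback hY (pointLift V x hx) (P.X (i + 1)) (hfl (i + 1)) eU default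
      (by rw [pointLift_apply]; exact hxU)).2
  let W : Set (V : Scheme.{u}) := (U : Set (V : Scheme.{u})) ∩ (W₁ : Set (V : Scheme.{u})) ∩ (W₂ : Set (V : Scheme.{u}))
  have hWopen : IsOpen W := (U.isOpen.inter W₁.isOpen).inter W₂.isOpen
  refine ⟨V.ι '' W, ?_, V.ι.isOpenEmbedding.isOpenMap _ hWopen, ⟨⟨x₀, hx₀V⟩, ⟨⟨hU, hW₁⟩, hW₂⟩, rfl⟩⟩
  rintro x ⟨⟨x', hx'⟩, ⟨⟨hxU, hxW₁⟩, hxW₂⟩, rfl⟩
  show PerfD.betti E x' i < n
  obtain ⟨e⟩ := hiso x' hx' i (by omega)
  obtain ⟨e₀⟩ := hiso x₀ hx₀V i (by omega)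
  have k := betti_add_eq E V P hfl i x' hx' e
  have k₀ := betti_add_eq E V P hfl i x₀ hx₀V e₀
  rw [hrank x' hx' hxU] at k
  rw [hrank x₀ hx₀V hU] at k₀
  have hK : IsField (X.residueField x') := Field.toIsField _
  have l₁ := hle₁ hK (pointLift V x' hx') default (by rw [pointLift_apply]; exact hxW₁)
  have l₂ := hle₂ hK (pointLift V x' hx') default (by rw [pointLift_apply]; exact hxW₂)
  have hx₀' : PerfD.betti E x₀ i < n := hx₀
  omega

end main

end Groth.Agent.Lib.Seat5.BettiUsc
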