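import Mathlib
set_option backward.isDefEq.respectTransparency.types false

/-!
# Maps of finite free modules which are injective at a field-valued point (seat 5)

A linear map `Φ : M₁ → M₀` between finite free `A`-modules whose base change to a field `k` over `A` is
injective becomes split injective after inverting a single element `g ∈ A` which is nonzero in `k`
(a maximal minor of a matrix of `Φ`).
-/

set_option autoImplicit false
set_option linter.style.haveILetI false

universe u v

open TensorProduct

namespace Groth.Agent.Lib.Seat5.SplitInj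

section field

variable {k : Type*} [Field k] {ι₁ ι₀ : Type*} [Fintype ι₁] [DecidableEq ι₁] [Fintype ι₀]

/-- a matrix over a field with trivial kernel has a nonzero maximal minor -/
theorem exists_minor_ne_zero (N : Matrix ι₀ ι₁ k) (hinj : Function.Injective N.mulVecLin) :
    ∃ I : ι₁ → ι₀, (N.submatrix I id).det ≠ 0 := by
  classical
  -- the rows span
  have hrank : N.rank = Fintype.card ι₁ := by
    have h1 : N.rank = Module.finrank k (LinearMap.range N.mulVecLin) := rfl
    rw [h1, LinearMap.finrank_range_of_inj hinj, Module.finrank_fintype_fun_eq_card]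
  have hspan : Submodule.span k (Set.range N.row) = ⊤ := by
    apply Submodule.eq_top_of_finrank_eq
    rw [← Matrix.rank_eq_finrank_span_row, hrank, Module.finrank_fintype_fun_eq_card]
  obtain ⟨b, hbS, hbspan, hbli⟩ := exists_linearIndependent k (Set.range N.row)
  rw [hspan] at hbspan
  haveI : Fintype b := (hbli.setFinite).fintype
  let B : Module.Basis b k (ι₁ → k) := Module.Basis.mk hbli (by
    rw [Subtype.range_coe_subtype, Set.ofPred_mem_eq, hbspan])
  have hcard : Fintype.card b = Fintype.card ι₁ := by
    rw [← Module.finrank_eq_card_basis B, Module.finrank_fintype_fun_eq_card]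
  let e : ι₁ ≃ b := (Fintype.equivOfCardEq hcard).symm
  choose g hg using fun w : b => hbS w.2
  refine ⟨fun a => g (e a), ?_⟩
  have hrow : (N.submatrix (fun a => g (e a)) id).row = fun a => ((e a : b) : ι₁ → k) := by
    funext a
    exact hg (e a)
  have hli : LinearIndependent k (N.submatrix (fun a => g (e a)) id).row := by
    rw [hrow]
    exact hbli.comp e e.injective
  have hu : IsUnit (N.submatrix (fun a => g (e a)) id) :=
    Matrix.linearIndependent_rows_iff_isUnit.1 hli
  exact ((Matrix.isUnit_iff_isUnit_det _).1 hu).ne_zero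

end field

section ring

variable {A : Type u} [CommRing A] {M₁ M₀ : Type v} [AddCommGroup M₁] [Module A M₁]
  [AddCommGroup M₀] [Module A M₀]

/-- **splitting after inverting a minor**: a map of finite free modules which is injective after base
change to a field `k` has a left inverse after base change to every algebra in which a suitable
element `g`, nonzero in `k`, becomes invertible -/
theorem exists_leftInverse_baseChange {ι₁ ι₀ : Type*} [Fintype ι₁] [DecidableEq ι₁] [Fintype ι₀]
    [DecidableEq ι₀] (b₁ : Module.Basis ι₁ A M₁) (b₀ : Module.Basis ι₀ A M₀)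
    (Φ : M₁ →ₗ[A] M₀) (k : Type*) [Field k] [Algebra A k]
    (hinj : Function.Injective (Φ.baseChange k)) :
    ∃ g : A, algebraMap A k g ≠ 0 ∧ ∀ (A' : Type u) [CommRing A'] [Algebra A A'],
      IsUnit (algebraMap A A' g) →
        ∃ R : A' ⊗[A] M₀ →ₗ[A'] A' ⊗[A] M₁, R ∘ₗ Φ.baseChange A' = LinearMap.id := by
  classical
  set Mat := LinearMap.toMatrix b₁ b₀ Φ with hMat
  -- the matrix over `k`
  have hN : LinearMap.toMatrix (Algebra.TensorProduct.basis k b₁) (Algebra.TensorProduct.basis k b₀)
      (Φ.baseChange k) = Mat.map (algebraMap A k) := LinearMap.toMatrix_baseChange k Φ b₁ b₀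
  have hNinj : Function.Injective (Mat.map (algebraMap A k)).mulVecLin := by
    rw [← LinearMap.ker_eq_bot, LinearMap.ker_eq_bot']
    intro v hv
    set x := (Algebra.TensorProduct.basis k b₁).equivFun.symm v with hx
    have hv' : (Algebra.TensorProduct.basis k b₁).repr x = v := by
      rw [hx]
      exact (Algebra.TensorProduct.basis k b₁).equivFun.apply_symm_apply v
    have h1 := LinearMap.toMatrix_mulVec_repr (Algebra.TensorProduct.basis k b₁)
      (Algebra.TensorProduct.basis k b₀) (Φ.baseChange k) x
    rw [hN, hv'] at h1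
    have h2 : (Mat.map (algebraMap A k)).mulVec v = 0 := hv
    rw [h2] at h1
    have h3 : (Φ.baseChange k) x = 0 := by
      have : (Algebra.TensorProduct.basis k b₀).repr ((Φ.baseChange k) x) = 0 := by
        ext j
        have := congrFun h1 j
        simpa using this.symm
      exact (LinearEquiv.map_eq_zero_iff _).1 this
    have h4 : x = 0 := hinj (h3.trans (map_zero _).symm)
    rw [← hv', h4, map_zero]
    rfl
  obtain ⟨I, hI⟩ := exists_minor_ne_zero (Mat.map (algebraMap A k)) hNinj
  refine ⟨(Mat.submatrix I id).det, ?_, ?_⟩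
  · rw [RingHom.map_det]
    exact hI
  · intro A' _ _ hu
    set M' := Mat.map (algebraMap A A') with hM'
    have hM'eq : LinearMap.toMatrix (Algebra.TensorProduct.basis A' b₁)
        (Algebra.TensorProduct.basis A' b₀) (Φ.baseChange A') = M' :=
      LinearMap.toMatrix_baseChange A' Φ b₁ b₀
    set Sub := M'.submatrix I id with hSub
    have hdet : IsUnit Sub.det := by
      have : Sub.det = algebraMap A A' (Mat.submatrix I id).det := by
        rw [RingHom.map_det]
        rfl
      rw [this]
      exact hu
    let sel : Matrix ι₁ ι₀ A' := (1 : Matrix ι₀ ι₀ A').submatrix I id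
    have hsel : sel * M' = Sub := by
      have h1 : sel * M' = (1 : Matrix ι₀ ι₀ A').submatrix I id * M'.submatrix id id := rfl
      rw [h1, ← Matrix.submatrix_mul _ _ I id id Function.bijective_id, Matrix.one_mul]
    let Rmat : Matrix ι₁ ι₀ A' := Sub⁻¹ * sel
    have hR : Rmat * M' = 1 := by
      show Sub⁻¹ * sel * M' = 1
      rw [Matrix.mul_assoc, hsel, Matrix.nonsing_inv_mul _ hdet]
    refine ⟨Matrix.toLin (Algebra.TensorProduct.basis A' b₀) (Algebra.TensorProduct.basis A' b₁) Rmat,
      ?_⟩
    have h1 : Φ.baseChange A' = Matrix.toLin (Algebra.TensorProduct.basis A' b₁)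
        (Algebra.TensorProduct.basis A' b₀) M' := by
      rw [← hM'eq, Matrix.toLin_toMatrix]
    rw [h1, ← Matrix.toLin_mul, hR, Matrix.toLin_one]

/-- the version for finite free modules without chosen bases -/
theorem exists_leftInverse_baseChange' [Module.Finite A M₁] [Module.Free A M₁] [Module.Finite A M₀]
    [Module.Free A M₀] (Φ : M₁ →ₗ[A] M₀) (k : Type*) [Field k] [Algebra A k]
    (hinj : Function.Injective (Φ.baseChange k)) :
    ∃ g : A, algebraMap A k g ≠ 0 ∧ ∀ (A' : Type u) [CommRing A'] [Algebra A A'],
      IsUnit (algebraMap A A' g) →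
        ∃ R : A' ⊗[A] M₀ →ₗ[A'] A' ⊗[A] M₁, R ∘ₗ Φ.baseChange A' = LinearMap.id := by
  classical
  exact exists_leftInverse_baseChange (Module.Free.chooseBasis A M₁) (Module.Free.chooseBasis A M₀)
    Φ k hinj

end ring

section split

variable {A : Type u} [CommRing A] {N₁ N₀ : Type v} [AddCommGroup N₁] [Module A N₁]
  [AddCommGroup N₀] [Module A N₀]

/-- the cokernel of a split injection into a finite projective module is finite projective -/
theorem finite_projective_quotient_range (Ψ : N₁ →ₗ[A] N₀) (R : N₀ →ₗ[A] N₁)
    (h : R ∘ₗ Ψ = LinearMap.id) [Module.Finite A N₀] [Module.Projective A N₀] :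
    Module.Finite A (N₀ ⧸ LinearMap.range Ψ) ∧ Module.Projective A (N₀ ⧸ LinearMap.range Ψ) := by
  refine ⟨inferInstance, ?_⟩
  have hRΨ : ∀ x, R (Ψ x) = x := fun x => LinearMap.congr_fun h x
  let i : (N₀ ⧸ LinearMap.range Ψ) →ₗ[A] N₀ :=
    (LinearMap.range Ψ).liftQ (LinearMap.id - Ψ ∘ₗ R) (by
      rintro _ ⟨x, rfl⟩
      simp [hRΨ])
  refine Module.Projective.of_split i (LinearMap.range Ψ).mkQ ?_
  ext x
  simp only [LinearMap.coe_comp, Function.comp_apply, Submodule.mkQ_apply, LinearMap.id_comp, i,
    Submodule.liftQ_apply, LinearMap.sub_apply, LinearMap.id_coe, id_eq]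
  rw [Submodule.Quotient.mk_sub, sub_eq_self, Submodule.Quotient.mk_eq_zero]
  exact ⟨R x, rfl⟩

theorem injective_of_leftInverse (Ψ : N₁ →ₗ[A] N₀) (R : N₀ →ₗ[A] N₁)
    (h : R ∘ₗ Ψ = LinearMap.id) : Function.Injective Ψ := by
  intro x y hxy
  have := congrArg R hxy
  rwa [← LinearMap.comp_apply, ← LinearMap.comp_apply, h] at this

end split

end Groth.Agent.Lib.Seat5.SplitInj
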