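import Mathlib
import Groth.Prelude.Def_DCoh4
import Groth.Agent.Lib.Seat5SplitInj
import Groth.Agent.Lib.Seat5LocFreeKer
import Groth.Agent.Lib.Seat5FibreUsc
set_option backward.isDefEq.respectTransparency.types false

/-!
# The locus where a map of finite locally free modules is a split monomorphism (seat 5)

If `φ : F₁ ⟶ F₀` is a map of finite locally free modules whose pullback to a field-valued point `s`
is a monomorphism, then on an open neighbourhood of the image point `φ` is a monomorphism with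
finite locally free cokernel.
-/

set_option autoImplicit false
set_option linter.style.haveILetI false

universe u

open CategoryTheory CategoryTheory.Limits AlgebraicGeometry Opposite TensorProduct

namespace Groth.Agent.Lib.Seat5.MonoLocus

open Groth.Agent.Lib.Helper20.Thickening Groth.Agent.Lib.Helper20.LocFree
  Groth.Agent.Lib.Helper23.QCohLocal
  Groth.Agent.Lib.Helper26.ModSec Groth.Agent.Lib.Helper26.ModRank
  Groth.Agent.Lib.Helper2.LocFree Groth.Agent.Helper18Strict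
  Groth.Agent.Lib.Seat5.SplitInj Groth.Agent.Lib.Seat5.LocFreeKer Groth.Agent.Lib.Seat5.FibreUsc

section alg

variable {R S : Type u} [CommRing R] [CommRing S] (f : R →+* S) {M N : ModuleCat.{u} R} (Φ : M ⟶ N)

theorem mono_extendScalars_iff :
    letI := f.toAlgebra
    Mono ((ModuleCat.extendScalars f).map Φ) ↔ Function.Injective (Φ.hom.baseChange S) := by
  letI := f.toAlgebra
  rw [ModuleCat.mono_iff_injective]
  exact Iff.rfl

/-- the cokernel of an extension of scalars, as a quotient -/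
noncomputable def cokernelExtendScalarsEquiv :
    letI := f.toAlgebra
    (cokernel ((ModuleCat.extendScalars f).map Φ) : ModuleCat.{u} S) ≃ₗ[S]
      ((S ⊗[R] N) ⧸ LinearMap.range (Φ.hom.baseChange S)) :=
  (ModuleCat.cokernelIsoRangeQuotient ((ModuleCat.extendScalars f).map Φ)).toLinearEquiv

end alg

section basicOpen

variable {Y Z : Scheme.{u}} (t : Y ⟶ Z)

theorem basicOpen_appLE_top {D : Z.Opens} (h : (⊤ : Y.Opens) ≤ t ⁻¹ᵁ D) (f : Γ(Z, D)) :
    Y.basicOpen ((t.appLE D ⊤ h).hom f) = t ⁻¹ᵁ (Z.basicOpen f) := by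
  rw [Scheme.preimage_basicOpen, Scheme.Hom.appLE]
  have := Y.basicOpen_res ((t.app D).hom f) (homOfLE h).op
  rw [CommRingCat.comp_apply, this]
  simp

theorem isUnit_of_basicOpen_eq_top (f : Γ(Y, ⊤)) (h : Y.basicOpen f = ⊤) : IsUnit f := by
  apply Y.toRingedSpace.isUnit_of_isUnit_germ
  intro x hx
  have hx' : x ∈ Y.basicOpen f := by rw [h]; trivial
  exact (Y.mem_basicOpen f x hx).1 hx'

end basicOpen

section main

variable {Z : Scheme.{u}}

/-- **the split-mono locus**: near a field-valued point at which the pullback of `φ` is a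
monomorphism, `φ` is a monomorphism with finite locally free cokernel -/
theorem exists_open_mono_cokernel {F₁ F₀ : Z.Modules} (φ : F₁ ⟶ F₀)
    (hF₁ : FlatMod.IsFinLocFree F₁) (hF₀ : FlatMod.IsFinLocFree F₀)
    {K : CommRingCat.{u}} (hK : IsField K) (s : Spec K ⟶ Z) (pt : Spec K)
    [Mono ((Scheme.Modules.pullback s).map φ)] :
    ∃ W : Z.Opens, s pt ∈ W ∧ Mono ((Scheme.Modules.pullback W.ι).map φ) ∧
      FlatMod.IsFinLocFree (cokernel ((Scheme.Modules.pullback W.ι).map φ)) := by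
  haveI : F₁.IsQuasicoherent := isQCoh_of_isFP F₁ (isFP_of_isFinLocFree F₁ hF₁)
  haveI : F₀.IsQuasicoherent := isQCoh_of_isFP F₀ (isFP_of_isFinLocFree F₀ hF₀)
  obtain ⟨U₁, n₁, hx₁, ⟨e₁⟩⟩ := hF₁ (s pt)
  obtain ⟨U₀, n₀, hx₀, ⟨e₀⟩⟩ := hF₀ (s pt)
  obtain ⟨D, hD, hzD, hDU⟩ := exists_isAffineOpen_mem_and_subset (x := s pt) (U := U₁ ⊓ U₀)
    ⟨hx₁, hx₀⟩
  obtain ⟨b₁⟩ := nonempty_basis_of_restrict_iso F₁ e₁ hD (hDU.trans inf_le_left)
  obtain ⟨b₀⟩ := nonempty_basis_of_restrict_iso F₀ e₀ hD (hDU.trans inf_le_right)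
  set Φ := (ΓUF hD).map φ with hΦ
  -- the field point
  have h := top_le_preimage hK s pt D hzD
  have hT : IsAffineOpen (⊤ : (Spec K).Opens) := isAffineOpen_top (Spec K)
  letI algK : Algebra Γ(Z, D) Γ(Spec K, ⊤) := (s.appLE D ⊤ h).hom.toAlgebra
  letI : Field Γ(Spec K, ⊤) := (isField_Γ K hK).toField
  have hmono : Mono ((ModuleCat.extendScalars (s.appLE D ⊤ h).hom).map Φ) :=
    (pullback_mono_iff s hD hT h φ).1 (mono_ΓUF_map _ hT)
  have hinj : Function.Injective (Φ.hom.baseChange Γ(Spec K, ⊤)) :=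
    (mono_extendScalars_iff (s.appLE D ⊤ h).hom Φ).1 hmono
  obtain ⟨g, hg, hsplit⟩ := exists_leftInverse_baseChange b₁ b₀ Φ.hom Γ(Spec K, ⊤) hinj
  -- the basic open
  set W := Z.basicOpen g with hWdef
  have hzW : s pt ∈ W := (mem_basicOpen_iff hK s pt h g).2 hg
  have hW : IsAffineOpen W := hD.basicOpen g
  haveI : IsAffine (W : Scheme.{u}) := hW
  have hTW : IsAffineOpen (⊤ : (W : Scheme.{u}).Opens) := isAffineOpen_top (W : Scheme.{u})
  have hWD : (⊤ : (W : Scheme.{u}).Opens) ≤ W.ι ⁻¹ᵁ D := by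
    intro w _
    exact Z.basicOpen_le g w.2
  letI algW : Algebra Γ(Z, D) Γ((W : Scheme.{u}), ⊤) := (W.ι.appLE D ⊤ hWD).hom.toAlgebra
  have hunit : IsUnit (algebraMap Γ(Z, D) Γ((W : Scheme.{u}), ⊤) g) := by
    apply isUnit_of_basicOpen_eq_top
    show (W : Scheme.{u}).basicOpen ((W.ι.appLE D ⊤ hWD).hom g) = ⊤
    rw [basicOpen_appLE_top]
    exact Scheme.Opens.ι_preimage_self W
  obtain ⟨R, hR⟩ := hsplit Γ((W : Scheme.{u}), ⊤) hunit
  set ψ := (Scheme.Modules.pullback W.ι).map φ with hψ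
  -- `ψ` is a monomorphism
  have hmonoW : Mono ((ΓUF hTW).map ψ) :=
    (pullback_mono_iff W.ι hD hTW hWD φ).2
      ((mono_extendScalars_iff (W.ι.appLE D ⊤ hWD).hom Φ).2 (injective_of_leftInverse _ R hR))
  have hψmono : Mono ψ := by
    refine (mono_iff_ΓUF ψ (fun _ : PUnit.{1} => (⊤ : (W : Scheme.{u}).Opens)) ?_
      (fun _ => hTW)).2 (fun _ => hmonoW)
    exact TopologicalSpace.IsOpenCover.mk (ciSup_const)
  refine ⟨W, hzW, hψmono, ?_⟩
  -- the cokernel
  haveI : (cokernel ψ).IsQuasicoherent := isQuasicoherent_cokernel ψ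
  obtain ⟨eC⟩ := nonempty_ΓUF_cokernel_iso ψ hTW
  haveI := isIso_secNat_app W.ι hD hTW hWD F₁
  haveI := isIso_secNat_app W.ι hD hTW hWD F₀
  let eC2 : cokernel ((ModuleCat.extendScalars (W.ι.appLE D ⊤ hWD).hom).map Φ) ≅
      cokernel ((ΓUF hTW).map ψ) :=
    cokernel.mapIso _ _ (asIso ((secNat W.ι hD hTW hWD).app F₁))
      (asIso ((secNat W.ι hD hTW hWD).app F₀)) (secNat_naturality W.ι hD hTW hWD φ)
  let E : (ΓUF hTW).obj (cokernel ψ) ≃ₗ[Γ((W : Scheme.{u}), ⊤)]
      ((Γ((W : Scheme.{u}), ⊤) ⊗[Γ(Z, D)] ((ΓUF hD).obj F₀)) ⧸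
        LinearMap.range (Φ.hom.baseChange Γ((W : Scheme.{u}), ⊤))) :=
    (eC ≪≫ eC2.symm).toLinearEquiv ≪≫ₗ
      cokernelExtendScalarsEquiv (W.ι.appLE D ⊤ hWD).hom Φ
  haveI : Module.Free Γ(Z, D) ((ΓUF hD).obj F₀) := Module.Free.of_basis b₀
  haveI : Module.Finite Γ(Z, D) ((ΓUF hD).obj F₀) := Module.Finite.of_basis b₀
  obtain ⟨hfin, hproj⟩ := finite_projective_quotient_range
    (Φ.hom.baseChange Γ((W : Scheme.{u}), ⊤)) R hR
  haveI : Module.Projective Γ((W : Scheme.{u}), ⊤) ((ΓUF hTW).obj (cokernel ψ)) :=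
    Module.Projective.of_equiv E.symm
  haveI : Module.Finite Γ((W : Scheme.{u}), ⊤) ((ΓUF hTW).obj (cokernel ψ)) :=
    Module.Finite.equiv E.symm
  haveI : Module.FinitePresentation Γ((W : Scheme.{u}), ⊤) ((ΓUF hTW).obj (cokernel ψ)) :=
    Module.finitePresentation_of_projective _ _
  intro w
  obtain ⟨D', m, hwD', -, hiso⟩ := exists_restrict_iso_freeMod (cokernel ψ) hTW w trivial
  exact ⟨D', m, hwD', hiso⟩

end main

end Groth.Agent.Lib.Seat5.MonoLocus
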