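import Mathlib
import Groth.Prelude.Def_PerfD
import Groth.Agent.Lib.Helper1Sky9
import Groth.Agent.Lib.Helper26ModRank
import Groth.Agent.Lib.Helper26ModSec
import Groth.Agent.Lib.Seat5LocFreeKer
set_option backward.isDefEq.respectTransparency.types false

/-!
# Objects of `D(O_X)` which are a vector bundle placed in one degree (seat 5)

`IsVB i r D`: `D` is isomorphic to a finite locally free module of rank `r` placed in degree `i`.
This property is stable under derived pullback (`isVB_lpull`) and local (`isVB_of_cover`).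
-/

set_option autoImplicit false
set_option linter.style.haveILetI false

universe u

open CategoryTheory CategoryTheory.Limits AlgebraicGeometry Opposite

attribute [local instance] HasDerivedCategory.standard

namespace Groth.Agent.Lib.Seat5.VBDeg

open Groth.Agent.Lib.Helper1.Sky Groth.Agent.Lib.Helper1.BKF Groth.Agent.Lib.Helper1.CI
  Groth.Agent.Lib.Helper2.LocFree Groth.Agent.Helper18Strict
  Groth.Agent.Lib.Helper26.ModRank Groth.Agent.Lib.Helper20.LocFree
  Groth.Agent.Lib.Seat5.LocFreeKer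

variable {Z : Scheme.{u}}

/-- the complex with the module `V` in degree `i` -/
noncomputable abbrev sg (i : ℤ) (V : Z.Modules) : CochainComplex Z.Modules ℤ :=
  (CochainComplex.singleFunctor Z.Modules i).obj V

/-- `V` in degree `i`, as an object of the derived category -/
noncomputable abbrev sgD (i : ℤ) (V : Z.Modules) : DCoh.D Z :=
  (DerivedCategory.singleFunctor Z.Modules i).obj V

/-- `V` in degree `i` is the shift by `-i` of `V` in degree `0` -/
noncomputable def sgDShiftIso (i : ℤ) (V : Z.Modules) : (DCoh.inD Z V)⟦-i⟧ ≅ sgD i V :=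
  ((DerivedCategory.singleFunctors Z.Modules).shiftIso (-i) i 0 (by omega)).app V

noncomputable def sgDIsoQ (i : ℤ) (V : Z.Modules) : sgD i V ≅ DerivedCategory.Q.obj (sg i V) :=
  (DerivedCategory.singleFunctorIsoCompQ Z.Modules i).app V

/-- the cohomology of `V` placed in degree `i` -/
noncomputable def HDsgDIso (i : ℤ) (V : Z.Modules) : DCoh.HD (sgD i V) i ≅ V :=
  (DerivedCategory.singleFunctorCompHomologyFunctorIso Z.Modules i).app V

theorem isZero_HD_sgD (i j : ℤ) (hij : j ≠ i) (V : Z.Modules) : IsZero (DCoh.HD (sgD i V) j) := by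
  have e : DCoh.HD (sgD i V) j ≅ (sg i V).homology j :=
    (DerivedCategory.homologyFunctor _ j).mapIso (sgDIsoQ i V) ≪≫
      (DerivedCategory.homologyFunctorFactors _ j).app (sg i V)
  refine IsZero.of_iso ?_ e
  exact HomologicalComplex.isZero_single_obj_homology (ComplexShape.up ℤ) i V j hij

theorem isStrictlyPerfect_sg (i : ℤ) (V : Z.Modules) (hV : FlatMod.IsFinLocFree V) :
    DCoh.IsStrictlyPerfect (sg i V) := by
  refine ⟨⟨i, i, fun j hj => ?_⟩, fun j => ?_⟩
  · exact HomologicalComplex.isZero_single_obj_X (ComplexShape.up ℤ) i V j (by omega)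
  · by_cases hj : j = i
    · subst hj
      exact Groth.Agent.Lib.Helper26.ModLocFree.isFinLocFree_of_iso
        (HomologicalComplex.singleObjXSelf (ComplexShape.up ℤ) j V).symm hV
    · exact isFinLocFree_of_isZero
        (HomologicalComplex.isZero_single_obj_X (ComplexShape.up ℤ) i V j hj)

/-- **pullback**: the derived pullback of a finite locally free module placed in degree `i` is
its pullback placed in degree `i` -/
theorem nonempty_lpull_sgD_iso {Z' : Scheme.{u}} (g : Z' ⟶ Z) [DCoh.HasLpull g] (i : ℤ)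
    (V : Z.Modules) (hV : FlatMod.IsFinLocFree V) :
    Nonempty ((DCoh.Lpull g).obj (sgD i V) ≅ sgD i ((Scheme.Modules.pullback g).obj V)) := by
  let e1 := lpullIso g (sg i V) (kffs_of_isStrictlyPerfect _ (isStrictlyPerfect_sg i V hV))
  let e2 : (pullC g).obj (sg i V) ≅ sg i ((Scheme.Modules.pullback g).obj V) :=
    (HomologicalComplex.singleMapHomologicalComplex (Scheme.Modules.pullback g)
      (ComplexShape.up ℤ) i).app V
  exact ⟨(DCoh.Lpull g).mapIso (sgDIsoQ i V) ≪≫ e1 ≪≫ DerivedCategory.Q.mapIso e2 ≪≫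
    (sgDIsoQ i _).symm⟩

/-- `D` is a finite locally free module of rank `r` placed in degree `i` -/
def IsVB (i : ℤ) (r : ℕ) (D : DCoh.D Z) : Prop :=
  ∃ V : Z.Modules, FlatMod.IsFinLocFreeOfRank r V ∧ Nonempty (D ≅ sgD i V)

theorem isFinLocFree_of_rank {r : ℕ} {V : Z.Modules} (h : FlatMod.IsFinLocFreeOfRank r V) :
    FlatMod.IsFinLocFree V := fun x => by
  obtain ⟨U, hx, e⟩ := h x
  exact ⟨U, r, hx, e⟩

theorem isVB_iff (i : ℤ) (r : ℕ) (D : DCoh.D Z) :
    IsVB i r D ↔ ∃ V : Z.Modules, FlatMod.IsFinLocFreeOfRank r V ∧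
      Nonempty (D ≅ (DCoh.inD Z V)⟦-i⟧) := by
  constructor
  · rintro ⟨V, hV, ⟨e⟩⟩
    exact ⟨V, hV, ⟨e ≪≫ (sgDShiftIso i V).symm⟩⟩
  · rintro ⟨V, hV, ⟨e⟩⟩
    exact ⟨V, hV, ⟨e ≪≫ sgDShiftIso i V⟩⟩

theorem isVB_of_iso {i : ℤ} {r : ℕ} {D D' : DCoh.D Z} (e : D ≅ D') (h : IsVB i r D) :
    IsVB i r D' := by
  obtain ⟨V, hV, ⟨e'⟩⟩ := h
  exact ⟨V, hV, ⟨e.symm ≪≫ e'⟩⟩

theorem isVB_lpull {Z' : Scheme.{u}} (g : Z' ⟶ Z) [DCoh.HasLpull g] {i : ℤ} {r : ℕ}
    {D : DCoh.D Z} (h : IsVB i r D) : IsVB i r ((DCoh.Lpull g).obj D) := by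
  obtain ⟨V, hV, ⟨e⟩⟩ := h
  have hV' := isFinLocFree_of_rank hV
  haveI : V.IsQuasicoherent := isQCoh_of_isFP V (isFP_of_isFinLocFree V hV')
  obtain ⟨e'⟩ := nonempty_lpull_sgD_iso g i V hV'
  exact ⟨_, isFinLocFreeOfRank_pullback g V hV, ⟨(DCoh.Lpull g).mapIso e ≪≫ e'⟩⟩

section local_

open Groth.Agent.Lib.Helper23.ModLocal Groth.Agent.Lib.Helper23.QCohLocal
  Groth.Agent.Lib.Helper26.ModSec

attribute [local instance] restrictFunctor_isRightAdjoint

variable {Y : Scheme.{u}}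

/-- being finite locally free of rank `r` is local -/
theorem isFinLocFreeOfRank_of_cover (M : Y.Modules) (r : ℕ)
    (h : ∀ y : Y, ∃ W : Y.Opens, y ∈ W ∧ FlatMod.IsFinLocFreeOfRank r (M.restrict W.ι)) :
    FlatMod.IsFinLocFreeOfRank r M := by
  intro y
  obtain ⟨W, hyW, hW⟩ := h y
  obtain ⟨U', hyU', ⟨e⟩⟩ := hW ⟨y, hyW⟩
  let U : Y.Opens := W.ι ''ᵁ U'
  have hyU : y ∈ U := ⟨⟨y, hyW⟩, hyU', rfl⟩
  have hrange : Set.range U.ι ⊆ Set.range (U'.ι ≫ W.ι) := by
    rintro _ ⟨⟨_, ⟨w, hw, rfl⟩⟩, rfl⟩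
    exact ⟨⟨w, hw⟩, rfl⟩
  let k : (U : Scheme.{u}) ⟶ (U' : Scheme.{u}) := IsOpenImmersion.lift (U'.ι ≫ W.ι) U.ι hrange
  have hk : k ≫ U'.ι ≫ W.ι = U.ι := IsOpenImmersion.lift_fac _ _ _
  haveI : IsOpenImmersion (k ≫ U'.ι ≫ W.ι) := by rw [hk]; infer_instance
  haveI : IsOpenImmersion k := IsOpenImmersion.of_comp k (U'.ι ≫ W.ι)
  refine ⟨U, hyU, ⟨?_⟩⟩
  exact (Scheme.Modules.restrictFunctorCongr hk.symm).app M ≪≫
    (Scheme.Modules.restrictFunctorComp k (U'.ι ≫ W.ι)).app M ≪≫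
    (Scheme.Modules.restrictFunctor k).mapIso
      ((Scheme.Modules.restrictFunctorComp U'.ι W.ι).app M ≪≫ e) ≪≫ restrictFreeMod k r

/-- the cohomology sheaves commute with restriction to opens -/
theorem nonempty_restrict_HD_iso (D : DCoh.D Y) (W : Y.Opens) [DCoh.HasLpull W.ι] (j : ℤ) :
    Nonempty ((DCoh.HD D j).restrict W.ι ≅ DCoh.HD ((DCoh.Lpull W.ι).obj D) j) := by
  let G : CochainComplex Y.Modules ℤ := DerivedCategory.Q.objPreimage D
  let e : DCoh.toD Y G ≅ D := DerivedCategory.Q.objObjPreimageIso D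
  let e1 : DCoh.HD D j ≅ G.homology j :=
    (DerivedCategory.homologyFunctor _ j).mapIso e.symm ≪≫
      (DerivedCategory.homologyFunctorFactors _ j).app G
  let e2 : (DCoh.Lpull W.ι).obj D ≅ DerivedCategory.Q.obj ((DCoh.restrictCx W).obj G) :=
    (DCoh.Lpull W.ι).mapIso e.symm ≪≫ lpullOpenIso W G
  let e3 : DCoh.HD ((DCoh.Lpull W.ι).obj D) j ≅ ((DCoh.restrictCx W).obj G).homology j :=
    (DerivedCategory.homologyFunctor _ j).mapIso e2 ≪≫
      (DerivedCategory.homologyFunctorFactors _ j).app _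
  let e4 : ((DCoh.restrictCx W).obj G).homology j ≅
      (Scheme.Modules.restrictFunctor W.ι).obj (G.homology j) :=
    (G.sc j).mapHomologyIso (Scheme.Modules.restrictFunctor W.ι)
  exact ⟨(Scheme.Modules.restrictFunctor W.ι).mapIso e1 ≪≫ e4.symm ≪≫ e3.symm⟩

/-- **gluing**: an object which is locally a vector bundle of rank `r` in degree `i` is one -/
theorem isVB_of_cover (i : ℤ) (r : ℕ) (D : DCoh.D Y)
    (h : ∀ y : Y, ∃ (W : Y.Opens) (_ : DCoh.HasLpull W.ι), y ∈ W ∧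
      IsVB i r ((DCoh.Lpull W.ι).obj D)) : IsVB i r D := by
  choose W hL hyW hVB using h
  -- the cohomology vanishes outside degree `i`
  have hzero : ∀ j : ℤ, j ≠ i → IsZero (DCoh.HD D j) := by
    intro j hj
    refine isZero_of_isZero_restrict (fun y : Y => ((W y : Y.Opens) : Scheme.{u}))
      (fun y => (W y).ι) (fun y => ⟨y, ⟨y, hyW y⟩, rfl⟩) (fun y => ?_)
    haveI := hL y
    obtain ⟨e⟩ := nonempty_restrict_HD_iso D (W y) j
    obtain ⟨V, -, ⟨e'⟩⟩ := hVB y
    refine IsZero.of_iso ?_ (e ≪≫ (DerivedCategory.homologyFunctor _ j).mapIso e')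
    exact isZero_HD_sgD i j hj V
  -- the cohomology in degree `i` is locally free of rank `r`
  have hrank : FlatMod.IsFinLocFreeOfRank r (DCoh.HD D i) := by
    refine isFinLocFreeOfRank_of_cover _ r (fun y => ⟨W y, hyW y, ?_⟩)
    haveI := hL y
    obtain ⟨e⟩ := nonempty_restrict_HD_iso D (W y) i
    obtain ⟨V, hV, ⟨e'⟩⟩ := hVB y
    exact isFinLocFreeOfRank_of_iso
      (e ≪≫ (DerivedCategory.homologyFunctor _ i).mapIso e' ≪≫ HDsgDIso i V).symm hV
  haveI : D.IsGE i := by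
    rw [DerivedCategory.isGE_iff]
    intro j hj
    exact hzero j (by omega)
  haveI : D.IsLE i := by
    rw [DerivedCategory.isLE_iff]
    intro j hj
    exact hzero j (by omega)
  obtain ⟨V₀, ⟨e₀⟩⟩ := DerivedCategory.exists_iso_singleFunctor_obj_of_isGE_of_isLE D i
  let eV : DCoh.HD D i ≅ V₀ := (DerivedCategory.homologyFunctor _ i).mapIso e₀ ≪≫ HDsgDIso i V₀
  exact ⟨DCoh.HD D i, hrank,
    ⟨e₀ ≪≫ (DerivedCategory.singleFunctor Y.Modules i).mapIso eV.symm⟩⟩

end local_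

end Groth.Agent.Lib.Seat5.VBDeg
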