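import Mathlib
import Groth.Prelude.Def_PerfD
import Groth.Agent.Lib.Helper1Sky9
import Groth.Agent.Lib.Helper18Epi1
import Groth.Agent.Lib.Seat5LocFreeKer
import Groth.Agent.Lib.Seat5MonoLocus
import Groth.Agent.Lib.Seat5VBDeg
set_option backward.isDefEq.respectTransparency.types false

/-!
# A strictly perfect complex with fibre cohomology in one degree is locally a vector bundle (seat 5)

`locVB_of_fibreExact`: if the pullback of a strictly perfect complex `P` to a field-valued point `s`
is exact outside degree `i`, then on an open neighbourhood of the image point `P` is isomorphic in the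
derived category to a finite locally free module placed in degree `i`.
-/

set_option autoImplicit false
set_option linter.style.haveILetI false

universe u

open CategoryTheory CategoryTheory.Limits AlgebraicGeometry Opposite

attribute [local instance] HasDerivedCategory.standard

namespace Groth.Agent.Lib.Seat5.ConcInd

open Groth.Agent.Lib.Helper1.Sky Groth.Agent.Lib.Helper1.BKF Groth.Agent.Lib.Helper1.CI
  Groth.Agent.Lib.Helper2.LocFree Groth.Agent.Helper18Strict
  Groth.Agent.Lib.Seat5.LocFreeKer Groth.Agent.Lib.Seat5.MonoLocus Groth.Agent.Lib.Seat5.VBDeg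

section complexes

variable {A : Type*} [Category A] [Abelian A] (C : CochainComplex A ℤ)

theorem epi_d_of_exactAt (b : ℤ) (h : C.ExactAt b) (hz : IsZero (C.X (b + 1))) :
    Epi (C.d (b - 1) b) := by
  rw [C.exactAt_iff' (b - 1) b (b + 1) (by simp) (by simp)] at h
  exact (ShortComplex.exact_iff_epi _ (hz.eq_of_tgt _ _)).1 h

theorem mono_d_of_exactAt (a : ℤ) (h : C.ExactAt a) (hz : IsZero (C.X (a - 1))) :
    Mono (C.d a (a + 1)) := by
  rw [C.exactAt_iff' (a - 1) a (a + 1) (by simp) (by simp)] at h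
  exact (ShortComplex.exact_iff_mono _ (hz.eq_of_src _ _)).1 h

theorem exactAt_of_epi_d (b : ℤ) [Epi (C.d (b - 1) b)] (hz : IsZero (C.X (b + 1))) :
    C.ExactAt b := by
  rw [C.exactAt_iff' (b - 1) b (b + 1) (by simp) (by simp)]
  exact (ShortComplex.exact_iff_epi _ (hz.eq_of_tgt _ _)).2 (by
    show Epi (C.d (b - 1) b)
    infer_instance)

theorem exactAt_of_mono_d (a : ℤ) [Mono (C.d a (a + 1))] (hz : IsZero (C.X (a - 1))) :
    C.ExactAt a := by
  rw [C.exactAt_iff' (a - 1) a (a + 1) (by simp) (by simp)]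
  exact (ShortComplex.exact_iff_mono _ (hz.eq_of_src _ _)).2 (by
    show Mono (C.d a (a + 1))
    infer_instance)

/-- the cycles in degree `n` are the kernel of the differential -/
noncomputable def cyclesIsoKernel (n : ℤ) : C.cycles n ≅ kernel (C.d n (n + 1)) := by
  have h1 := C.cyclesIsKernel n (n + 1) (by simp)
  have h2 := kernelIsKernel (C.d n (n + 1))
  have e := IsLimit.conePointUniqueUpToIso h1 h2
  exact e

/-- the opcycles in degree `n + 1` are the cokernel of the differential -/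
noncomputable def opcyclesIsoCokernel (n : ℤ) :
    C.opcycles (n + 1) ≅ cokernel (C.d n (n + 1)) := by
  have h1 := C.opcyclesIsCokernel n (n + 1) (by simp)
  have h2 := cokernelIsCokernel (C.d n (n + 1))
  have e := IsColimit.coconePointUniqueUpToIso h1 h2
  exact e

end complexes

variable {Z : Scheme.{u}}

/-- the pullback of the complex `P` to the point `s` is exact outside degree `i` -/
def FibreExactOutside (i : ℤ) (P : CochainComplex Z.Modules ℤ) {T : Scheme.{u}} (s : T ⟶ Z) :
    Prop :=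
  ∀ j : ℤ, j ≠ i → ((pullC s).obj P).ExactAt j

/-- near the point `s`, the complex `P` is a finite locally free module placed in degree `i` -/
def LocVB (i : ℤ) (P : CochainComplex Z.Modules ℤ) {T : Scheme.{u}} (s : T ⟶ Z) : Prop :=
  ∃ (W : Scheme.{u}) (ι : W ⟶ Z) (_ : IsOpenImmersion ι) (s' : T ⟶ W), s' ≫ ι = s ∧
    ∃ V : W.Modules, FlatMod.IsFinLocFree V ∧
      Nonempty (DerivedCategory.Q.obj ((pullC ι).obj P) ≅ DerivedCategory.Q.obj (sg i V))

section transfer

variable {U T : Scheme.{u}} (ι : U ⟶ Z) (s₁ : T ⟶ U) (i : ℤ) (P : CochainComplex Z.Modules ℤ)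
  (P' : CochainComplex U.Modules ℤ)

theorem fibreExactOutside_pullC (h : FibreExactOutside i P (s₁ ≫ ι)) :
    FibreExactOutside i ((pullC ι).obj P) s₁ := fun j hj =>
  (h j hj).of_iso ((pullCComp s₁ ι).app P).symm

theorem fibreExactOutside_of_quasiIso_to (hP : KFFs ((pullC ι).obj P)) (hP' : KFFs P')
    (q : P' ⟶ (pullC ι).obj P) [QuasiIso q] (h : FibreExactOutside i P (s₁ ≫ ι)) :
    FibreExactOutside i P' s₁ := fun j hj => by
  haveI : QuasiIso ((pullC s₁).map q) := quasiIso_pullC_map s₁ q hP' hP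
  exact (exactAt_iff_of_quasiIsoAt ((pullC s₁).map q) j).2
    (fibreExactOutside_pullC ι s₁ i P h j hj)

theorem fibreExactOutside_of_quasiIso_from (hP : KFFs ((pullC ι).obj P)) (hP' : KFFs P')
    (q : (pullC ι).obj P ⟶ P') [QuasiIso q] (h : FibreExactOutside i P (s₁ ≫ ι)) :
    FibreExactOutside i P' s₁ := fun j hj => by
  haveI : QuasiIso ((pullC s₁).map q) := quasiIso_pullC_map s₁ q hP hP'
  exact (exactAt_iff_of_quasiIsoAt ((pullC s₁).map q) j).1
    (fibreExactOutside_pullC ι s₁ i P h j hj)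

variable [IsOpenImmersion ι]

theorem locVB_of_locVB (h : LocVB i P' s₁)
    (hq : ∀ {W : Scheme.{u}} (ι₂ : W ⟶ U), Nonempty (DerivedCategory.Q.obj ((pullC ι₂).obj P') ≅
      DerivedCategory.Q.obj ((pullC ι₂).obj ((pullC ι).obj P)))) :
    LocVB i P (s₁ ≫ ι) := by
  obtain ⟨W, ι₂, hι₂, s₂, hs₂, V, hV, ⟨e⟩⟩ := h
  obtain ⟨e'⟩ := hq ι₂
  refine ⟨W, ι₂ ≫ ι, inferInstance, s₂, by rw [← Category.assoc, hs₂], V, hV, ⟨?_⟩⟩
  exact DerivedCategory.Q.mapIso ((pullCComp ι₂ ι).app P).symm ≪≫ e'.symm ≪≫ e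

theorem locVB_of_quasiIso_to (hP : KFFs ((pullC ι).obj P)) (hP' : KFFs P')
    (q : P' ⟶ (pullC ι).obj P) [QuasiIso q] (h : LocVB i P' s₁) : LocVB i P (s₁ ≫ ι) := by
  refine locVB_of_locVB ι s₁ i P P' h (fun {W} ι₂ => ?_)
  haveI : QuasiIso ((pullC ι₂).map q) := quasiIso_pullC_map ι₂ q hP' hP
  haveI : IsIso (DerivedCategory.Q.map ((pullC ι₂).map q)) := by
    rw [DerivedCategory.isIso_Q_map_iff_quasiIso]; infer_instance
  exact ⟨asIso (DerivedCategory.Q.map ((pullC ι₂).map q))⟩

theorem locVB_of_quasiIso_from (hP : KFFs ((pullC ι).obj P)) (hP' : KFFs P')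
    (q : (pullC ι).obj P ⟶ P') [QuasiIso q] (h : LocVB i P' s₁) : LocVB i P (s₁ ≫ ι) := by
  refine locVB_of_locVB ι s₁ i P P' h (fun {W} ι₂ => ?_)
  haveI : QuasiIso ((pullC ι₂).map q) := quasiIso_pullC_map ι₂ q hP hP'
  haveI : IsIso (DerivedCategory.Q.map ((pullC ι₂).map q)) := by
    rw [DerivedCategory.isIso_Q_map_iff_quasiIso]; infer_instance
  exact ⟨(asIso (DerivedCategory.Q.map ((pullC ι₂).map q))).symm⟩

end transfer

section induction

theorem isFinLocFree_iso {Y : Scheme.{u}} {M N : Y.Modules} (e : M ≅ N)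
    (h : FlatMod.IsFinLocFree M) : FlatMod.IsFinLocFree N :=
  Groth.Agent.Lib.Helper26.ModLocFree.isFinLocFree_of_iso e h

/-- the top step: the truncation of a complex whose last differential is an epimorphism -/
theorem isStrictlyPerfect_truncLE {Y : Scheme.{u}} (P : CochainComplex Y.Modules ℤ) (a b : ℤ)
    (hab : a < b) (hv : DCoh.VanishesOutside P a b) (hfl : ∀ j, FlatMod.IsFinLocFree (P.X j))
    [Epi (P.d (b - 1) b)] :
    DCoh.VanishesOutside (P.truncLE (b - 1)) a (b - 1) ∧
      (∀ j, FlatMod.IsFinLocFree ((P.truncLE (b - 1)).X j)) ∧ P.IsLE (b - 1) := by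
  refine ⟨fun j hj => ?_, fun j => ?_, ?_⟩
  · rcases hj with hj | hj
    · by_cases hjb : j < b - 1
      · exact (hv j (Or.inl hj)).of_iso (P.truncLEXIso (b - 1) j hjb)
      · exact (P.truncLE (b - 1)).isZero_of_isStrictlyLE (b - 1) j (by omega)
    · exact (P.truncLE (b - 1)).isZero_of_isStrictlyLE (b - 1) j hj
  · rcases lt_trichotomy j (b - 1) with hj | hj | hj
    · exact isFinLocFree_iso (P.truncLEXIso (b - 1) j hj).symm (hfl j)
    · subst hj
      have hepi : Epi (P.d (b - 1) (b - 1 + 1)) := by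
        have : b - 1 + 1 = b := by omega
        rw [this]; infer_instance
      have hk : FlatMod.IsFinLocFree (kernel (P.d (b - 1) (b - 1 + 1))) :=
        isFinLocFree_kernel_of_epi _ (hfl _) (hfl _)
      exact isFinLocFree_iso
        ((P.truncLEXIsoCycles (b - 1)) ≪≫ cyclesIsoKernel P (b - 1)).symm hk
    · exact isFinLocFree_of_isZero ((P.truncLE (b - 1)).isZero_of_isStrictlyLE (b - 1) j hj)
  · rw [CochainComplex.isLE_iff]
    intro j hj
    by_cases hjb : j = b
    · subst hjb
      exact exactAt_of_epi_d P j (hv _ (Or.inr (by omega)))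
    · exact HomologicalComplex.ExactAt.of_isZero (hv j (Or.inr (by omega)))

/-- the bottom step: the truncation of a complex whose first differential is a monomorphism with
finite locally free cokernel -/
theorem isStrictlyPerfect_truncGE {Y : Scheme.{u}} (P : CochainComplex Y.Modules ℤ) (a b : ℤ)
    (hab : a < b) (hv : DCoh.VanishesOutside P a b) (hfl : ∀ j, FlatMod.IsFinLocFree (P.X j))
    [Mono (P.d a (a + 1))] (hcok : FlatMod.IsFinLocFree (cokernel (P.d a (a + 1)))) :
    DCoh.VanishesOutside (P.truncGE (a + 1)) (a + 1) b ∧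
      (∀ j, FlatMod.IsFinLocFree ((P.truncGE (a + 1)).X j)) ∧ P.IsGE (a + 1) := by
  refine ⟨fun j hj => ?_, fun j => ?_, ?_⟩
  · rcases hj with hj | hj
    · exact (P.truncGE (a + 1)).isZero_of_isStrictlyGE (a + 1) j hj
    · by_cases hja : a + 1 < j
      · exact (hv j (Or.inr hj)).of_iso (P.truncGEXIso (a + 1) j hja)
      · exact (P.truncGE (a + 1)).isZero_of_isStrictlyGE (a + 1) j (by omega)
  · rcases lt_trichotomy j (a + 1) with hj | hj | hj
    · exact isFinLocFree_of_isZero ((P.truncGE (a + 1)).isZero_of_isStrictlyGE (a + 1) j hj)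
    · subst hj
      exact isFinLocFree_iso
        ((P.truncGEXIsoOpcycles (a + 1)) ≪≫ opcyclesIsoCokernel P a).symm hcok
    · exact isFinLocFree_iso (P.truncGEXIso (a + 1) j hj).symm (hfl j)
  · rw [CochainComplex.isGE_iff]
    intro j hj
    by_cases hja : j = a
    · subst hja
      exact exactAt_of_mono_d P j (hv _ (Or.inl (by omega)))
    · exact HomologicalComplex.ExactAt.of_isZero (hv j (Or.inl (by omega)))

open Groth.Agent.Lib.Seat5.FibreUsc in
/-- **the induction**: a strictly perfect complex whose pullback to a field-valued point is exact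
outside degree `i` is, near the image point, a finite locally free module placed in degree `i` -/
theorem locVB_of_fibreExact (i : ℤ) : ∀ (n : ℕ) (Z : Scheme.{u}) (P : CochainComplex Z.Modules ℤ)
    (a b : ℤ), a ≤ i → i ≤ b → b - a ≤ n → DCoh.VanishesOutside P a b →
    (∀ j, FlatMod.IsFinLocFree (P.X j)) → ∀ (K : CommRingCat.{u}) (_ : IsField K)
    (s : Spec K ⟶ Z) (_ : Spec K), FibreExactOutside i P s → LocVB i P s := by
  intro n
  induction n with
  | zero =>
    intro Z P a b hai hib hn hv hfl K hK s pt hfe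
    have hz : ∀ j : ℤ, j ≠ i → IsZero (P.X j) := fun j hj => hv j (by omega)
    set C := (pullC (𝟙 Z)).obj P with hC
    haveI : C.IsStrictlyGE i := by
      rw [CochainComplex.isStrictlyGE_iff]
      intro j hj
      exact (Scheme.Modules.pullback (𝟙 Z)).map_isZero (hz j (by omega))
    haveI : C.IsStrictlyLE i := by
      rw [CochainComplex.isStrictlyLE_iff]
      intro j hj
      exact (Scheme.Modules.pullback (𝟙 Z)).map_isZero (hz j (by omega))
    obtain ⟨M, ⟨e⟩⟩ := C.exists_iso_single i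
    have hM : FlatMod.IsFinLocFree M := by
      have e1 : C.X i ≅ M :=
        (HomologicalComplex.eval _ _ i).mapIso e ≪≫
          HomologicalComplex.singleObjXSelf (ComplexShape.up ℤ) i M
      exact isFinLocFree_iso e1 (isFinLocFree_pullback (𝟙 Z) _ (hfl i))
    exact ⟨Z, 𝟙 Z, inferInstance, s, Category.comp_id s, M, hM, ⟨DerivedCategory.Q.mapIso e⟩⟩
  | succ n ih =>
    intro Z P a b hai hib hn hv hfl K hK s pt hfe
    by_cases hle : b - a ≤ n
    · exact ih Z P a b hai hib hle hv hfl K hK s pt hfe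
    have hab : a < b := by omega
    haveI hqc : ∀ j, (P.X j).IsQuasicoherent := fun j =>
      isQCoh_of_isFP _ (isFP_of_isFinLocFree _ (hfl j))
    set C := (pullC s).obj P with hC
    by_cases hib' : i < b
    · -- the top step
      have hbne : b ≠ i := by omega
      have hCz : IsZero (C.X (b + 1)) :=
        (Scheme.Modules.pullback s).map_isZero (hv _ (Or.inr (by omega)))
      have hepiC : Epi ((Scheme.Modules.pullback s).map (P.d (b - 1) b)) :=
        epi_d_of_exactAt C b (hfe b hbne) hCz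
      obtain ⟨U, hU⟩ := Groth.Agent.Helper18Epi.main_S10844
        (isFT_of_isFP _ (isFP_of_isFinLocFree _ (hfl b))) (P.d (b - 1) b)
      have hsU : Set.range s.base ⊆ (U : Set Z) := (hU (Spec K) s).2 hepiC
      let s₁ : Spec K ⟶ (U : Scheme.{u}) := IsOpenImmersion.lift U.ι s (by
        rw [Scheme.Opens.range_ι]
        exact hsU)
      have hs₁ : s₁ ≫ U.ι = s := IsOpenImmersion.lift_fac _ _ _
      have hepiU : Epi ((Scheme.Modules.pullback U.ι).map (P.d (b - 1) b)) :=
        (hU U U.ι).1 (by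
          rintro _ ⟨x, rfl⟩
          exact x.2)
      set P₁ := (pullC U.ι).obj P with hP₁
      have hv₁ : DCoh.VanishesOutside P₁ a b := fun j hj =>
        (Scheme.Modules.pullback U.ι).map_isZero (hv j hj)
      have hfl₁ : ∀ j, FlatMod.IsFinLocFree (P₁.X j) := fun j =>
        isFinLocFree_pullback U.ι _ (hfl j)
      haveI : Epi (P₁.d (b - 1) b) := hepiU
      obtain ⟨hv', hfl', hLE⟩ := isStrictlyPerfect_truncLE P₁ a b hab hv₁ hfl₁
      haveI := hLE
      have hK₁ : KFFs P₁ := kffs_of_isStrictlyPerfect _ ⟨⟨a, b, hv₁⟩, hfl₁⟩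
      have hK' : KFFs (P₁.truncLE (b - 1)) :=
        kffs_of_isStrictlyPerfect _ ⟨⟨a, b - 1, hv'⟩, hfl'⟩
      have hfe₁ : FibreExactOutside i P (s₁ ≫ U.ι) := by rw [hs₁]; exact hfe
      have hfe' := fibreExactOutside_of_quasiIso_to U.ι s₁ i P _ hK₁ hK' (P₁.ιTruncLE (b - 1)) hfe₁
      have h1 := ih U (P₁.truncLE (b - 1)) a (b - 1) hai (by omega) (by omega) hv' hfl' K hK s₁ pt
        hfe'
      have h2 := locVB_of_quasiIso_to U.ι s₁ i P _ hK₁ hK' (P₁.ιTruncLE (b - 1)) h1
      rw [hs₁] at h2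
      exact h2
    · -- the bottom step
      have hai' : a < i := by omega
      have hane : a ≠ i := by omega
      have hCz : IsZero (C.X (a - 1)) :=
        (Scheme.Modules.pullback s).map_isZero (hv _ (Or.inl (by omega)))
      haveI hmonoC : Mono ((Scheme.Modules.pullback s).map (P.d a (a + 1))) :=
        mono_d_of_exactAt C a (hfe a hane) hCz
      obtain ⟨U, hzU, hmonoU, hcok⟩ :=
        exists_open_mono_cokernel (P.d a (a + 1)) (hfl a) (hfl (a + 1)) hK s pt
      haveI := subsingleton_spec K hK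
      let s₁ : Spec K ⟶ (U : Scheme.{u}) := IsOpenImmersion.lift U.ι s (by
        rw [Scheme.Opens.range_ι]
        rintro _ ⟨y, rfl⟩
        rw [Subsingleton.elim y pt]
        exact hzU)
      have hs₁ : s₁ ≫ U.ι = s := IsOpenImmersion.lift_fac _ _ _
      set P₁ := (pullC U.ι).obj P with hP₁
      have hv₁ : DCoh.VanishesOutside P₁ a b := fun j hj =>
        (Scheme.Modules.pullback U.ι).map_isZero (hv j hj)
      have hfl₁ : ∀ j, FlatMod.IsFinLocFree (P₁.X j) := fun j =>
        isFinLocFree_pullback U.ι _ (hfl j)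
      haveI : Mono (P₁.d a (a + 1)) := hmonoU
      obtain ⟨hv', hfl', hGE⟩ := isStrictlyPerfect_truncGE P₁ a b hab hv₁ hfl₁ hcok
      haveI := hGE
      have hK₁ : KFFs P₁ := kffs_of_isStrictlyPerfect _ ⟨⟨a, b, hv₁⟩, hfl₁⟩
      have hK' : KFFs (P₁.truncGE (a + 1)) :=
        kffs_of_isStrictlyPerfect _ ⟨⟨a + 1, b, hv'⟩, hfl'⟩
      have hfe₁ : FibreExactOutside i P (s₁ ≫ U.ι) := by rw [hs₁]; exact hfe
      have hfe' := fibreExactOutside_of_quasiIso_from U.ι s₁ i P _ hK₁ hK' (P₁.πTruncGE (a + 1)) hfe₁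
      have h1 := ih U (P₁.truncGE (a + 1)) (a + 1) b (by omega) hib (by omega) hv' hfl' K hK s₁ pt
        hfe'
      have h2 := locVB_of_quasiIso_from U.ι s₁ i P _ hK₁ hK' (P₁.πTruncGE (a + 1)) h1
      rw [hs₁] at h2
      exact h2

end induction

end Groth.Agent.Lib.Seat5.ConcInd
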