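import Mathlib
import Groth.Agent.Lib.Helper1PT2
import Groth.Agent.Lib.Helper13PullbackUnit
set_option backward.isDefEq.respectTransparency.types false

/-!
# Seat 5: the projection formula `G ⊗ f_* O_X ≅ f_* f^* G` for an affine morphism and `G` quasi-coherent

* `bijective_of_existsUnique`: algebra; a map out of `M ⊗[R] B` which is of the form `m ⊗ b ↦ b • υ m` with `υ`
  having the universal property of the base change is bijective.
* `W_of_bijective_affine`: a morphism of presheaves of abelian groups on a scheme that is bijective on affine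
  opens is inverted by sheafification.
* `c f G : tens G (A f) ⟶ T f G` (`A f = f_* O_X`, `T f G = f_* f^* G`) and `isIso_c` (for `f` affine,
  `G` quasi-coherent).
-/

set_option autoImplicit false
set_option linter.style.haveILetI false
universe u
open CategoryTheory CategoryTheory.Limits AlgebraicGeometry TopologicalSpace Opposite
  MonoidalCategory TensorProduct

namespace Groth.Agent.Lib.Seat5.ProjFormula
open Groth.Agent.Lib.Helper1.PT Groth.Agent.Lib.Helper1.StalkTensor
  Groth.Agent.Lib.Helper21.ModTensor2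

theorem bijective_of_existsUnique {R B M A' N : Type u} [CommRing R] [CommRing B] [Algebra R B]
    [AddCommGroup M] [Module R M] [AddCommGroup A'] [Module R A'] (e : A' ≃ₗ[R] B)
    [AddCommGroup N] [Module B N]
    (υ : M →+ N) (hυ : ∀ (r : R) (m : M), υ (r • m) = algebraMap R B r • υ m)
    (hUP : ∀ (N' : Type u) [AddCommGroup N'] [Module B N'] (l : M →+ N'),
      (∀ (r : R) (m : M), l (r • m) = algebraMap R B r • l m) →
        ∃! l' : N →ₗ[B] N', ∀ m, l' (υ m) = l m)
    (κ : M ⊗[R] A' →+ N) (hκ : ∀ m a, κ (m ⊗ₜ a) = e a • υ m) : Function.Bijective κ := by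
  letI : Module R N := Module.compHom N (algebraMap R B)
  haveI : IsScalarTower R B N := ⟨fun r b n => by
    show (r • b) • n = algebraMap R B r • (b • n)
    rw [Algebra.smul_def, mul_smul]⟩
  have hυ' : ∀ (r : R) (m : M), υ (r • m) = (RingHom.id R) r • υ m := by
    intro r m
    rw [RingHom.id_apply, hυ]
    rfl
  let υl : M →ₗ[R] N := { toFun := υ, map_add' := υ.map_add, map_smul' := hυ' }
  let κ₂ : B ⊗[R] M →ₗ[B] N := LinearMap.liftBaseChange B υl
  have hκ₂ : ∀ b m, κ₂ (b ⊗ₜ m) = b • υ m := fun b m => LinearMap.liftBaseChange_tmul _ _ _ _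
  -- the inverse
  let l : M →+ B ⊗[R] M := ((TensorProduct.mk R B M) 1).toAddMonoidHom
  have hl : ∀ (r : R) (m : M), l (r • m) = algebraMap R B r • l m := by
    intro r m
    show (1 : B) ⊗ₜ[R] (r • m) = algebraMap R B r • ((1 : B) ⊗ₜ[R] m)
    rw [TensorProduct.smul_tmul', smul_eq_mul, mul_one, ← TensorProduct.smul_tmul,
      Algebra.smul_def, mul_one]
  obtain ⟨l', hl', -⟩ := hUP (B ⊗[R] M) l hl
  have h1 : κ₂ ∘ₗ l' = LinearMap.id := by
    obtain ⟨l₀, -, huniq⟩ := hUP N υ hυ
    have e1 := huniq (κ₂ ∘ₗ l') (fun m => by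
      show κ₂ (l' (υ m)) = υ m
      rw [hl' m]
      show κ₂ ((1 : B) ⊗ₜ m) = υ m
      rw [hκ₂, one_smul])
    have e2 := huniq LinearMap.id (fun m => rfl)
    rw [e1, e2]
  have h2 : l' ∘ₗ κ₂ = LinearMap.id := by
    apply TensorProduct.AlgebraTensorModule.ext
    intro b m
    show l' (κ₂ (b ⊗ₜ m)) = b ⊗ₜ m
    rw [hκ₂, map_smul, hl' m]
    show b • ((1 : B) ⊗ₜ[R] m) = b ⊗ₜ m
    rw [TensorProduct.smul_tmul', smul_eq_mul, mul_one]
  have hbij : Function.Bijective κ₂ :=
    ⟨fun x y hxy => by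
      have := congrArg l' hxy
      rwa [← LinearMap.comp_apply, ← LinearMap.comp_apply, h2] at this,
     fun n => ⟨l' n, LinearMap.congr_fun h1 n⟩⟩
  let σ : M ⊗[R] A' ≃ₗ[R] B ⊗[R] M :=
    (TensorProduct.congr (LinearEquiv.refl R M) e) ≪≫ₗ TensorProduct.comm R M B
  have hκσ : ∀ t, κ t = κ₂ (σ t) := by
    intro t
    induction t using TensorProduct.induction_on with
    | zero => simp
    | tmul m a =>
      rw [hκ]
      show e a • υ m = κ₂ ((TensorProduct.comm R M B) ((TensorProduct.congr (LinearEquiv.refl R M) e) (m ⊗ₜ a)))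
      rw [TensorProduct.congr_tmul, TensorProduct.comm_tmul, hκ₂]
      rfl
    | add x y hx hy => rw [map_add, map_add, map_add, hx, hy]
  have : (κ : M ⊗[R] A' → N) = κ₂ ∘ σ := funext hκσ
  rw [this]
  exact hbij.comp σ.bijective

theorem W_of_bijective_affine {Y : Scheme.{u}} {P Q : (Opens Y)ᵒᵖ ⥤ AddCommGrpCat.{u}} (θ : P ⟶ Q)
    (h : ∀ V : Y.Opens, IsAffineOpen V → Function.Bijective (θ.app (op V)).hom) :
    (Opens.grothendieckTopology Y).W θ := by
  rw [GrothendieckTopology.W_iff_isLocallyBijective]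
  constructor
  · refine ⟨fun {V} x y hxy => ?_⟩
    rw [Opens.mem_grothendieckTopology]
    intro p hp
    obtain ⟨_, ⟨W, hW, rfl⟩, hpW, hWV⟩ :=
      Y.isBasis_affineOpens.exists_subset_of_mem_open hp V.unop.isOpen
    refine ⟨W, homOfLE hWV, ?_, hpW⟩
    apply (h W hW).1
    have h1 := ConcreteCategory.congr_hom (θ.naturality (homOfLE hWV).op) x
    have h2 := ConcreteCategory.congr_hom (θ.naturality (homOfLE hWV).op) y
    simp only [ConcreteCategory.comp_apply] at h1 h2
    exact h1.trans ((congrArg _ hxy).trans h2.symm)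
  · refine ⟨fun {V} s => ?_⟩
    rw [Opens.mem_grothendieckTopology]
    intro p hp
    obtain ⟨_, ⟨W, hW, rfl⟩, hpW, hWV⟩ :=
      Y.isBasis_affineOpens.exists_subset_of_mem_open hp V.isOpen
    refine ⟨W, homOfLE hWV, ?_, hpW⟩
    obtain ⟨t, ht⟩ := (h W hW).2 ((Q.map (homOfLE hWV).op).hom s)
    exact ⟨t, ht⟩

variable {X Y : Scheme.{u}} (f : X ⟶ Y) (G : Y.Modules)

/-- `f_* O_X` -/
noncomputable abbrev A : Y.Modules := (psh f).obj (Coh.structureModule X)

/-- `f_* f^* G` -/
noncomputable abbrev T : Y.Modules := (psh f).obj ((plb f).obj G)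

/-- the unit on sections, landing in sections over the preimage -/
noncomputable def unS (V : Y.Opens) (m : (toPM G).obj (op V)) :
    (toPM ((plb f).obj G)).obj (op (f ⁻¹ᵁ V)) :=
  (toPMMap (un f G)).app (op V) m

lemma unS_add (V : Y.Opens) (m m' : (toPM G).obj (op V)) :
    unS f G V (m + m') = unS f G V m + unS f G V m' := by
  unfold unS
  rw [map_add]
  rfl

lemma unS_smul (V : Y.Opens) (r : Y.presheaf.obj (op V)) (m : (toPM G).obj (op V)) :
    unS f G V (r • m) = (f.app V).hom r • unS f G V m := by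
  unfold unS
  rw [map_smul]
  rfl

lemma unS_map {V W : Y.Opens} (i : W ⟶ V) (m : (toPM G).obj (op V)) :
    (toPM ((plb f).obj G)).map ((Opens.map f.base).map i).op (unS f G V m) =
      unS f G W ((toPM G).map i.op m) := by
  unfold unS
  exact (PresheafOfModules.naturality_apply (toPMMap (un f G)) i.op m).symm

/-- the bilinear map `(m, a) ↦ a • η(m)` -/
noncomputable def cFun (V : Y.Opens) (m : (toPM G).obj (op V)) (a : X.presheaf.obj (op (f ⁻¹ᵁ V))) :
    (toPM ((plb f).obj G)).obj (op (f ⁻¹ᵁ V)) :=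
  a • unS f G V m

lemma cFun_add_left (V : Y.Opens) (m m' : (toPM G).obj (op V)) (a : X.presheaf.obj (op (f ⁻¹ᵁ V))) :
    cFun f G V (m + m') a = cFun f G V m a + cFun f G V m' a := by
  unfold cFun
  rw [unS_add, smul_add]

lemma cFun_add_right (V : Y.Opens) (m : (toPM G).obj (op V)) (a a' : X.presheaf.obj (op (f ⁻¹ᵁ V))) :
    cFun f G V m (a + a') = cFun f G V m a + cFun f G V m a' := by
  unfold cFun
  rw [add_smul]

lemma cFun_smul_left (V : Y.Opens) (r : Y.presheaf.obj (op V)) (m : (toPM G).obj (op V))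
    (a : X.presheaf.obj (op (f ⁻¹ᵁ V))) :
    cFun f G V (r • m) a = (f.app V).hom r • cFun f G V m a := by
  unfold cFun
  rw [unS_smul, smul_smul, smul_smul, mul_comm]

lemma cFun_smul_right (V : Y.Opens) (r : Y.presheaf.obj (op V)) (m : (toPM G).obj (op V))
    (a : X.presheaf.obj (op (f ⁻¹ᵁ V))) :
    cFun f G V m ((f.app V).hom r * a) = (f.app V).hom r • cFun f G V m a := by
  unfold cFun
  rw [smul_smul]

lemma cFun_map {V W : Y.Opens} (i : W ⟶ V) (m : (toPM G).obj (op V))
    (a : X.presheaf.obj (op (f ⁻¹ᵁ V))) :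
    (toPM ((plb f).obj G)).map ((Opens.map f.base).map i).op (cFun f G V m a) =
      cFun f G W ((toPM G).map i.op m) (X.presheaf.map ((Opens.map f.base).map i).op a) := by
  unfold cFun
  rw [← unS_map]
  exact PresheafOfModules.map_smul _ _ _ _


/-- the map on sections over `V` -/
noncomputable def cApp (V : (Opens Y)ᵒᵖ) :
    (toPM G ⊗ toPM (A f)).obj V ⟶ (toPM (T f G)).obj V :=
  ModuleCat.MonoidalCategory.tensorLift
    (M₁ := (toPM G).obj V) (M₂ := (toPM (A f)).obj V)
    (M₃ := (toPM (T f G)).obj V)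
    (fun m a => cFun f G V.unop m a)
    (fun m m' a => cFun_add_left f G V.unop m m' a)
    (fun r m a => cFun_smul_left f G V.unop r m a)
    (fun m a a' => cFun_add_right f G V.unop m a a')
    (fun r m a => cFun_smul_right f G V.unop r m a)

lemma cApp_tmul (V : (Opens Y)ᵒᵖ) (m : (toPM G).obj V) (a : (toPM (A f)).obj V) :
    (cApp f G V).hom (m ⊗ₜ a) = cFun f G V.unop m a := rfl

/-- the presheaf-level projection formula map `G ⊗ f_* O_X ⟶ f_* f^* G` -/
noncomputable def c₀ : toPM G ⊗ toPM (A f) ⟶ toPM (T f G) where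
  app V := cApp f G V
  naturality {V W} i := ModuleCat.MonoidalCategory.tensor_ext (fun m a => by
    exact (cFun_map f G i.unop m a).symm)

lemma c₀_app_tmul (V : (Opens Y)ᵒᵖ) (m : (toPM G).obj V) (a : (toPM (A f)).obj V) :
    ((c₀ f G).app V).hom (m ⊗ₜ a) = cFun f G V.unop m a := rfl


example (V : Y.Opens) : ((toPM (A f)).obj (op V) : Type u) = X.presheaf.obj (op (f ⁻¹ᵁ V)) := rfl

lemma unS_eq_unitSec (V : Y.Opens) (m : (toPM G).obj (op V)) :
    unS f G V m = Groth.Agent.Helper13PullbackUnit.unitSec f G (le_refl (f ⁻¹ᵁ V)) m := by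
  rw [Groth.Agent.Helper13PullbackUnit.unitSec_apply]
  have : (homOfLE (le_refl (f ⁻¹ᵁ V))).op = 𝟙 (op (f ⁻¹ᵁ V)) := Subsingleton.elim _ _
  rw [this]
  erw [((Scheme.Modules.pullback f).obj G).presheaf.map_id]
  rfl


theorem c₀_app_bijective [G.IsQuasicoherent] (V : Y.Opens) (hV : IsAffineOpen V)
    (hV' : IsAffineOpen (f ⁻¹ᵁ V)) :
    Function.Bijective ((c₀ f G).app (op V)).hom := by
  letI : Algebra (Y.presheaf.obj (op V)) (X.presheaf.obj (op (f ⁻¹ᵁ V))) := (f.app V).hom.toAlgebra
  let e : (toPM (A f)).obj (op V) ≃ₗ[Y.presheaf.obj (op V)] (X.presheaf.obj (op (f ⁻¹ᵁ V))) :=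
    { toFun := fun a => a, invFun := fun a => a, left_inv := fun _ => rfl, right_inv := fun _ => rfl,
      map_add' := fun _ _ => rfl, map_smul' := fun _ _ => rfl }
  let υ : (toPM G).obj (op V) →+ (toPM ((plb f).obj G)).obj (op (f ⁻¹ᵁ V)) :=
    { toFun := unS f G V, map_zero' := by
        have := unS_add f G V 0 0
        rw [add_zero] at this
        exact (add_eq_left.mp this.symm)
      map_add' := unS_add f G V }
  refine bijective_of_existsUnique (R := Y.presheaf.obj (op V)) (B := X.presheaf.obj (op (f ⁻¹ᵁ V)))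
    (M := (toPM G).obj (op V)) (A' := (toPM (A f)).obj (op V))
    (N := (toPM ((plb f).obj G)).obj (op (f ⁻¹ᵁ V))) e υ (fun r m => unS_smul f G V r m) ?_
    ((c₀ f G).app (op V)).hom.toAddMonoidHom (fun m a => c₀_app_tmul f G (op V) m a)
  intro N' _ _ l hl
  obtain ⟨l', h1, h2⟩ := Groth.Agent.Helper13PullbackUnit.existsUnique_lift f G hV hV' le_rfl N' l
    (fun r x => (hl r x).trans (by rw [Scheme.Hom.appLE_eq_app]; rfl))
  refine ⟨l', fun m => ?_, fun l'' h'' => h2 l'' (fun m => ?_)⟩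
  · have := h1 m
    rw [← unS_eq_unitSec] at this
    exact this
  · rw [← unS_eq_unitSec]
    exact h'' m


/-- the projection formula map `G ⊗ f_* O_X ⟶ f_* f^* G` -/
noncomputable def c : tens G (A f) ⟶ T f G :=
  shX.map (c₀ f G) ≫ (adj Y.sheaf).counit.app (T f G)

theorem isIso_c [G.IsQuasicoherent] [IsAffineHom f] : IsIso (c f G) := by
  have h1 : IsIso (shX.map (c₀ f G)) := by
    refine (isIso_shf_map_iff (O := Y.sheaf) (c₀ f G)).2 ?_
    refine W_of_bijective_affine _ (fun V hV => ?_)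
    exact c₀_app_bijective f G V hV (hV.preimage f)
  have h2 : IsIso ((adj Y.sheaf).counit.app (T f G)) := inferInstance
  exact IsIso.comp_isIso' h1 h2

end Groth.Agent.Lib.Seat5.ProjFormula
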