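import Mathlib
import Groth.Prelude.Def_PerfAux
import Groth.Agent.S9819
import Groth.Agent.Lib.Helper1FLF1
import Groth.Agent.Lib.Helper1Sky9
import Groth.Agent.Lib.Helper18OmLS10
import Groth.Agent.Lib.Helper20PullbackAff
import Groth.Agent.Lib.Helper23FinTypeLocal
set_option backward.isDefEq.respectTransparency.types false

/-!
# The resolution property passes to the source of an affine morphism (seat 5)
-/

set_option autoImplicit false
set_option linter.style.haveILetI false

universe u

open CategoryTheory CategoryTheory.Limits AlgebraicGeometry Opposite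

namespace Groth.Agent.Lib.Seat5.ResAffine

open Groth.Agent.Lib.Helper23.QCohLocal Groth.Agent.Lib.Helper23.FinType
  Groth.Agent.Lib.Helper20.PullbackAff

attribute [local instance] Abelian.hasFiniteBiproducts

variable {X Y : Scheme.{u}} (f : X ⟶ Y)

/-- sections of the target of the adjoint map which come from sections downstairs are in the range
of the adjoint map -/
theorem mem_range_adjoint (E : Y.Modules) (M : X.Modules)
    (a : E ⟶ (Scheme.Modules.pushforward f).obj M) (V : Y.Opens) (e : Γ(E, V)) :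
    ∃ t : Γ((Scheme.Modules.pullback f).obj E, f ⁻¹ᵁ V),
      (((Scheme.Modules.pullbackPushforwardAdjunction f).homEquiv E M).symm a).app (f ⁻¹ᵁ V) t =
        a.app V e := by
  set adj := Scheme.Modules.pullbackPushforwardAdjunction f
  set b := (adj.homEquiv E M).symm a with hb
  have h1 : a = adj.unit.app E ≫ (Scheme.Modules.pushforward f).map b := by
    have h2 : adj.homEquiv E M b = a := by rw [hb, Equiv.apply_symm_apply]
    rw [← h2, Adjunction.homEquiv_unit]
  refine ⟨(adj.unit.app E).app V e, ?_⟩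
  conv_rhs => rw [h1]
  rfl

/-- **S1110**: for an affine morphism `f : X ⟶ Y` to a quasi-compact quasi-separated scheme with the
resolution property, `X` has the resolution property -/
theorem hasResolutionProperty_of_isAffineHom [IsAffineHom f] [CompactSpace Y]
    [QuasiSeparatedSpace Y] (hY : PerfAux.HasResolutionProperty Y) :
    PerfAux.HasResolutionProperty X := by
  classical
  intro M hMq hMft
  haveI : M.IsQuasicoherent := hMq
  haveI : SheafOfModules.IsFiniteType (R := X.ringCatSheaf) M := hMft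
  set N := (Scheme.Modules.pushforward f).obj M with hN
  haveI : N.IsQuasicoherent := isQuasicoherent_pushforward f M
  -- a finite affine cover of `Y`
  obtain ⟨s, hs, hcov⟩ := (isCompact_iff_finite_and_eq_biUnion_affineOpens (X := Y)
    (U := ⊤)).1 isCompact_univ
  haveI : Finite s := hs.to_subtype
  -- generators of `M` over the preimages
  have hU : ∀ V : s, IsAffineOpen (f ⁻¹ᵁ (V.1 : Y.Opens)) := fun V => V.1.2.preimage f
  have hfin : ∀ V : s, Module.Finite Γ(X, f ⁻¹ᵁ (V.1 : Y.Opens)) Γ(M, f ⁻¹ᵁ (V.1 : Y.Opens)) :=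
    fun V => finite_of_isFiniteType M (hU V)
  choose T hT using fun V : s => (hfin V).fg_top
  -- the index set, reindexed by some `Fin n`
  let J : Type u := Σ V : s, (T V : Set Γ(M, f ⁻¹ᵁ (V.1 : Y.Opens)))
  haveI : Finite J := inferInstance
  obtain ⟨n, ⟨eqv⟩⟩ := Finite.exists_equiv_fin J
  let jj : Fin n → J := eqv.symm
  -- finite type submodules of the direct image containing the generators
  have hsub : ∀ k : Fin n, ∃ (G : Y.Modules) (i : G ⟶ N), Coh.IsQCoh G ∧ CohB1.IsFT G ∧
      ∃ g : Γ(G, ((jj k).1.1 : Y.Opens)), i.app ((jj k).1.1 : Y.Opens) g = (jj k).2.1 := by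
    intro k
    obtain ⟨G, i, -, hGq, hGft, g, hg⟩ := Groth.Agent.S9819.result N (jj k).1.1 (jj k).2.1
    exact ⟨G, i, hGq, hGft, g, hg⟩
  choose G i hGq hGft g hg using hsub
  -- vector bundles onto them
  have hres : ∀ k : Fin n, ∃ (E : Y.Modules) (π : E ⟶ G k), FlatMod.IsFinLocFree E ∧ Epi π :=
    fun k => hY (G k) (hGq k) (hGft k)
  choose E π hE hπ using hres
  -- sections of the vector bundles mapping to the generators
  have hlift : ∀ k : Fin n, ∃ e : Γ(E k, ((jj k).1.1 : Y.Opens)),
      (π k).app ((jj k).1.1 : Y.Opens) e = g k := by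
    intro k
    haveI : (E k).IsQuasicoherent :=
      Groth.Agent.Helper18Strict.isQCoh_of_isFP (E k)
        (Groth.Agent.Lib.Helper2.LocFree.isFP_of_isFinLocFree (E k) (hE k))
    haveI : (G k).IsQuasicoherent := hGq k
    haveI := hπ k
    exact surjective_app_of_epi (π k) (jj k).1.1.2 (g k)
  choose e he using hlift
  -- the bundle downstairs and its map to the direct image
  let a : (⨁ E) ⟶ N := biproduct.desc (fun k => π k ≫ i k)
  have hE' : FlatMod.IsFinLocFree (⨁ E) :=
    Groth.Agent.Lib.Helper1.FLF.isFinLocFree_biproduct E hE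
  set adj := Scheme.Modules.pullbackPushforwardAdjunction f
  let b : (Scheme.Modules.pullback f).obj (⨁ E) ⟶ M := (adj.homEquiv (⨁ E) M).symm a
  refine ⟨(Scheme.Modules.pullback f).obj (⨁ E), b,
    Groth.Agent.Lib.Helper1.Sky.isFinLocFree_pullback f _ hE', ?_⟩
  -- `b` is an epimorphism: check on the affine cover by the preimages
  haveI : (⨁ E).IsQuasicoherent :=
    Groth.Agent.Helper18Strict.isQCoh_of_isFP _
      (Groth.Agent.Lib.Helper2.LocFree.isFP_of_isFinLocFree _ hE')
  -- the ranges of `b` on sections, as submodules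
  let R : ∀ V : s, Submodule Γ(X, f ⁻¹ᵁ (V.1 : Y.Opens)) Γ(M, f ⁻¹ᵁ (V.1 : Y.Opens)) := fun V =>
    { carrier := Set.range (b.app (f ⁻¹ᵁ (V.1 : Y.Opens)))
      add_mem' := by
        rintro _ _ ⟨x, rfl⟩ ⟨y, rfl⟩
        exact ⟨x + y, map_add _ _ _⟩
      zero_mem' := ⟨0, map_zero _⟩
      smul_mem' := by
        rintro r _ ⟨x, rfl⟩
        exact ⟨r • x, Scheme.Modules.Hom.app_smul b r x⟩ }
  have claim : ∀ k : Fin n, ((jj k).2.1 : Γ(M, f ⁻¹ᵁ ((jj k).1.1 : Y.Opens))) ∈ R (jj k).1 := by
    intro k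
    obtain ⟨t, ht⟩ := mem_range_adjoint f (⨁ E) M a ((jj k).1.1 : Y.Opens)
      ((biproduct.ι E k).app ((jj k).1.1 : Y.Opens) (e k))
    refine ⟨t, ht.trans ?_⟩
    have h1 : biproduct.ι E k ≫ a = π k ≫ i k := biproduct.ι_desc _ _
    have h2 : a.app ((jj k).1.1 : Y.Opens) ((biproduct.ι E k).app ((jj k).1.1 : Y.Opens) (e k)) =
        (biproduct.ι E k ≫ a).app ((jj k).1.1 : Y.Opens) (e k) := rfl
    rw [h2, h1]
    change (i k).app ((jj k).1.1 : Y.Opens) ((π k).app ((jj k).1.1 : Y.Opens) (e k)) = _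
    rw [he k, hg k]
  refine Groth.Agent.Helper18OmLS.epi_of_surjective_app_cover b
    (fun V : s => f ⁻¹ᵁ (V.1 : Y.Opens)) ?_ hU ?_
  · -- the preimages cover
    refine TopologicalSpace.IsOpenCover.mk (eq_top_iff.mpr ?_)
    intro x _
    have hx : f x ∈ (⊤ : Y.Opens) := trivial
    rw [hcov] at hx
    simp only [TopologicalSpace.Opens.mem_iSup] at hx
    obtain ⟨V, hVs, hxV⟩ := hx
    exact TopologicalSpace.Opens.mem_iSup.2 ⟨⟨V, hVs⟩, hxV⟩
  · intro V
    have hR : R V = ⊤ := by
      rw [eq_top_iff, ← hT V, Submodule.span_le]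
      intro m hm
      have hk : jj (eqv ⟨V, ⟨m, hm⟩⟩) = ⟨V, ⟨m, hm⟩⟩ := eqv.symm_apply_apply _
      have := claim (eqv ⟨V, ⟨m, hm⟩⟩)
      rw [hk] at this
      exact this
    intro m
    have : m ∈ R V := by rw [hR]; trivial
    exact this

end Groth.Agent.Lib.Seat5.ResAffine
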