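import Mathlib
import Groth.Prelude.Def_PerfAux
import Groth.Prelude.Def_Mor2
import Groth.Agent.Lib.Seat5ProjFormula
import Groth.Agent.Lib.Seat5ResAffine
import Groth.Agent.Lib.Helper18FinFlat1
import Groth.Agent.Lib.Helper18Epi1
import Groth.Agent.Lib.Helper20FormalPull
import Groth.Agent.Lib.Helper23QCohAbelian
import Groth.Agent.Lib.Helper1FLF1
import Groth.Agent.Lib.Helper21Dual12
import Groth.Agent.Lib.Helper21Dual9
set_option backward.isDefEq.respectTransparency.types false

/-!
# Seat 5: the resolution property descends along a surjective finite locally free morphism (S1063)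

* `isoSigma`, `restrictIsoFree`, `isFinLocFree_of_isLocFF`: the converse of Helper21's `isLocFF_of_isFinLocFree`.
* `epi_pushforward_map` (L1), `isFinLocFree_pushforward` (L2), `epi_adjunct` (D),
  `isZero_of_isZero_pushforward`, `isZero_of_isZero_tens`.
* `hasResolutionProperty_of_finLocFree_surjective` : S1063.
-/

set_option autoImplicit false
set_option linter.style.haveILetI false
universe u
open CategoryTheory CategoryTheory.Limits AlgebraicGeometry TopologicalSpace Opposite

namespace Groth.Agent.Lib.Seat5.LocFFConv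
open Groth.Agent.Lib.Helper21.Dual Groth.Agent.Lib.Helper21.LocFact

section gen
universe v' u' w
variable {A : Type u'} [Category.{v'} A] [Preadditive A]

/-- a finite free structure gives an isomorphism with the coproduct -/
noncomputable def isoSigma {U Q : A} {I : Type w} [Fintype I] (ff : FF U Q I) {n : ℕ}
    (e : I ≃ Fin n) [HasCoproduct (fun _ : Fin n => U)] : Q ≅ ∐ (fun _ : Fin n => U) where
  hom := ∑ i : I, ff.π i ≫ Sigma.ι (fun _ : Fin n => U) (e i)
  inv := Sigma.desc (fun k => ff.ι (e.symm k))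
  hom_inv_id := by
    rw [Preadditive.sum_comp]
    have : ∀ i, (ff.π i ≫ Sigma.ι (fun _ : Fin n => U) (e i)) ≫
        Sigma.desc (fun k => ff.ι (e.symm k)) = ff.π i ≫ ff.ι i := by
      intro i
      rw [Category.assoc, Sigma.ι_desc, Equiv.symm_apply_apply]
    rw [Finset.sum_congr rfl (fun i _ => this i), ff.sum]
  inv_hom_id := by
    apply Sigma.hom_ext
    intro k
    rw [Sigma.ι_desc_assoc, Preadditive.comp_sum, Category.comp_id,
      Finset.sum_eq_single (e.symm k)]
    · rw [← Category.assoc, ff.ι_π_self, Category.id_comp, Equiv.apply_symm_apply]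
    · intro j _ hj
      rw [← Category.assoc, ff.ι_π_ne _ _ (Ne.symm hj), zero_comp]
    · intro h
      exact absurd (Finset.mem_univ _) h

end gen

attribute [local instance] Groth.Agent.Lib.Helper21.ExtShDelta.hasSheafHom

variable {X : Scheme.{u}}

/-- the converse of `overIsoFree` -/
noncomputable def restrictIsoFree (L : X.Modules) (U : X.Opens) (n : ℕ)
    (e : (SheafOfModules.overFunctor X.ringCatSheaf U).obj L ≅
      ∐ fun _ : Fin n => SheafOfModules.unit.{u} (X.ringCatSheaf.over U)) :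
    L.restrict U.ι ≅ FlatMod.freeMod (↑U) n := by
  let Φ : SheafOfModules.{u} (X.ringCatSheaf.over U) ⥤ (↑U : Scheme.{u}).Modules :=
    (Scheme.Modules.overEquiv U).functor
  let i1 : Φ.obj ((SheafOfModules.overFunctor X.ringCatSheaf U).obj L) ≅ L.restrict U.ι :=
    (Scheme.Modules.overFunctorEquiv U).app L
  let i3 : Φ.obj (∐ fun _ : Fin n => SheafOfModules.unit.{u} (X.ringCatSheaf.over U)) ≅
      ∐ fun _ : Fin n => Φ.obj (SheafOfModules.unit.{u} (X.ringCatSheaf.over U)) :=
    PreservesCoproduct.iso Φ _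
  let i4 : (∐ fun _ : Fin n => Φ.obj (SheafOfModules.unit.{u} (X.ringCatSheaf.over U))) ≅
      FlatMod.freeMod (↑U) n :=
    Sigma.mapIso (fun _ => Iso.refl _)
  exact i1.symm ≪≫ Φ.mapIso e ≪≫ i3 ≪≫ i4

theorem isFinLocFree_of_isLocFF (L : ModSite.Mod X.sheaf) (hL : IsLocFF (O := X.sheaf) L) :
    FlatMod.IsFinLocFree L := by
  obtain ⟨K, U, hU, h⟩ := hL
  intro x
  have h1 := hU ⊤
  rw [Opens.mem_grothendieckTopology] at h1
  obtain ⟨W, i, ⟨k, ⟨j⟩⟩, hxW⟩ := h1 x trivial
  obtain ⟨I, hI, ⟨ff⟩⟩ := h k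
  refine ⟨U k, Fintype.card I, leOfHom j hxW, ⟨?_⟩⟩
  exact restrictIsoFree L (U k) (Fintype.card I) (isoSigma ff (Fintype.equivFin I))

end Groth.Agent.Lib.Seat5.LocFFConv

namespace Groth.Agent.Lib.Seat5.ResFinFlat

open Groth.Agent.Lib.Helper23.QCohLocal Groth.Agent.Lib.Helper23.FinType
  Groth.Agent.Lib.Helper2.FinPushFP Groth.Agent.Lib.Helper2.LocFree

variable {X Y : Scheme.{u}} (f : X ⟶ Y)

/-- (L1) the pushforward along an affine morphism preserves epimorphisms of quasi-coherent modules -/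
theorem epi_pushforward_map [IsAffineHom f] {E N : X.Modules} [E.IsQuasicoherent]
    [N.IsQuasicoherent] (π : E ⟶ N) [Epi π] : Epi ((Scheme.Modules.pushforward f).map π) := by
  haveI : ((Scheme.Modules.pushforward f).obj E).IsQuasicoherent := isQuasicoherent_pushforward f E
  haveI : ((Scheme.Modules.pushforward f).obj N).IsQuasicoherent := isQuasicoherent_pushforward f N
  refine Groth.Agent.Helper18OmLS.epi_of_surjective_app_cover _ (fun V : Y.affineOpens => V.1)
    ?_ (fun V => V.2) (fun V => ?_)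
  · exact TopologicalSpace.IsOpenCover.mk (iSup_affineOpens_eq_top Y)
  · exact surjective_app_of_epi π (V.2.preimage f)

/-- (L2) the pushforward of a finite locally free module along a finite locally free morphism is
finite locally free -/
theorem isFinLocFree_pushforward (hf : Mor2.IsFinLocFree f) (E : X.Modules)
    (hE : FlatMod.IsFinLocFree E) :
    FlatMod.IsFinLocFree ((Scheme.Modules.pushforward f).obj E) := by
  obtain ⟨h1, h2, h3⟩ := hf
  haveI := h1
  haveI := h2
  haveI := h3
  haveI : SheafOfModules.IsFinitePresentation (R := X.ringCatSheaf) E := isFP_of_isFinLocFree E hE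
  haveI : E.IsQuasicoherent := Groth.Agent.Helper18Strict.isQCoh_of_isFP E inferInstance
  haveI : ((Scheme.Modules.pushforward f).obj E).IsQuasicoherent := isQuasicoherent_pushforward f _
  haveI : SheafOfModules.IsFinitePresentation (R := Y.ringCatSheaf)
      ((Scheme.Modules.pushforward f).obj E) :=
    (isFinitePresentation_pushforward_iff f _).1 inferInstance
  intro s
  obtain ⟨W, hW, hsW, -⟩ := exists_isAffineOpen_mem_and_subset (x := s) (U := ⊤) trivial
  have hflat : Module.Flat Γ(Y, W) Γ((Scheme.Modules.pushforward f).obj E, W) := by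
    letI : Algebra Γ(Y, W) Γ(X, f ⁻¹ᵁ W) := (f.app W).hom.toAlgebra
    haveI : Module.Flat Γ(Y, W) Γ(X, f ⁻¹ᵁ W) := by
      have := f.flat_appLE hW (hW.preimage f) le_rfl
      rw [← Scheme.Hom.app_eq_appLE] at this
      exact this
    haveI : Module.Flat Γ(X, f ⁻¹ᵁ W) Γ(E, f ⁻¹ᵁ W) :=
      flat_sections_of_isFlatAt E (hW.preimage f) (fun x _ => isFlat_of_isFinLocFree E hE x)
    letI : Module Γ(Y, W) Γ(E, f ⁻¹ᵁ W) := Module.compHom _ (f.app W).hom
    haveI : IsScalarTower Γ(Y, W) Γ(X, f ⁻¹ᵁ W) Γ(E, f ⁻¹ᵁ W) := ⟨fun r a m => by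
      show (r • a) • m = (f.app W).hom r • (a • m)
      rw [Algebra.smul_def, mul_smul]
      rfl⟩
    exact Module.Flat.trans Γ(Y, W) Γ(X, f ⁻¹ᵁ W) Γ(E, f ⁻¹ᵁ W)
  obtain ⟨D, m, hsD, hD⟩ := exists_restrict_iso_freeMod_of_isFlatAt _ s
    (isFlatAt_of_flat_sections _ hW hflat s hsW)
  exact ⟨D, m, hsD, hD⟩


section abstract
universe v' u'
variable {C : Type u'} [Category.{v'} C] [Abelian C]

/-- (D) the adjunct of an epimorphism `F ⟶ R G` is an epimorphism if `R` preserves epimorphisms and
reflects the vanishing of the cokernel -/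
theorem epi_adjunct {L R : C ⥤ C} (adj : L ⊣ R) [R.PreservesEpimorphisms]
    [R.PreservesZeroMorphisms] {F G : C}
    (φ : F ⟶ R.obj G) [Epi φ]
    (hR : IsZero (R.obj (cokernel ((adj.homEquiv F G).symm φ))) →
      IsZero (cokernel ((adj.homEquiv F G).symm φ))) :
    Epi ((adj.homEquiv F G).symm φ) := by
  set ψ := (adj.homEquiv F G).symm φ with hψ
  apply Abelian.epi_of_cokernel_π_eq_zero
  apply (hR ?_).eq_of_tgt
  have h1 : adj.homEquiv F _ (ψ ≫ cokernel.π ψ) = φ ≫ R.map (cokernel.π ψ) := by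
    rw [Adjunction.homEquiv_naturality_right, hψ, Equiv.apply_symm_apply]
  have h2 : φ ≫ R.map (cokernel.π ψ) = 0 := by
    rw [← h1, cokernel.condition, Adjunction.homEquiv_unit, R.map_zero, comp_zero]
  have h3 : R.map (cokernel.π ψ) = 0 := by
    rw [← cancel_epi φ, h2, comp_zero]
  exact IsZero.of_epi_eq_zero _ h3

end abstract


open Groth.Agent.Lib.Seat5.ProjFormula Groth.Agent.Lib.Helper1.PT in
/-- vanishing of the direct image along an affine morphism (quasi-coherent case) -/
theorem isZero_of_isZero_pushforward [IsAffineHom f] (N : X.Modules) [N.IsQuasicoherent]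
    (h : IsZero ((Scheme.Modules.pushforward f).obj N)) : IsZero N := by
  have hs : ∀ V : Y.Opens, Subsingleton Γ(N, f ⁻¹ᵁ V) := fun V =>
    Groth.Agent.Lib.Helper20.OmegaUnr.subsingleton_sections_of_isZero h V
  have hepi : Epi (0 : N ⟶ N) := by
    refine Groth.Agent.Helper18OmLS.epi_of_surjective_app_cover _
      (fun V : Y.affineOpens => f ⁻¹ᵁ V.1) ?_ (fun V => V.2.preimage f) (fun V m => ?_)
    · refine TopologicalSpace.IsOpenCover.mk (eq_top_iff.mpr ?_)
      intro x _
      have hx : f x ∈ (⊤ : Y.Opens) := trivial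
      rw [← iSup_affineOpens_eq_top Y] at hx
      obtain ⟨V, hxV⟩ := TopologicalSpace.Opens.mem_iSup.1 hx
      exact TopologicalSpace.Opens.mem_iSup.2 ⟨V, hxV⟩
    · haveI := hs V.1
      exact ⟨0, Subsingleton.elim _ _⟩
  exact IsZero.of_epi_eq_zero (0 : N ⟶ N) rfl

open Groth.Agent.Lib.Seat5.ProjFormula Groth.Agent.Lib.Helper1.PT
  Groth.Agent.Lib.Helper20.PullbackAff in
/-- tensoring with `f_* O_X` is conservative on quasi-coherent modules of finite type, for `f` affine and
surjective -/
theorem isZero_of_isZero_tens [IsAffineHom f] [Surjective f] (Z : Y.Modules) [Z.IsQuasicoherent]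
    [SheafOfModules.IsFiniteType (R := Y.ringCatSheaf) Z] (h : IsZero (tens Z (A f))) : IsZero Z := by
  haveI := isIso_c f Z
  have h1 : IsZero (T f Z) := IsZero.of_iso h (asIso (c f Z)).symm
  have h2 : IsZero ((plb f).obj Z) := isZero_of_isZero_pushforward f _ h1
  rw [Groth.Agent.Helper18Epi.isZero_iff_subsingleton_stalk]
  intro y
  obtain ⟨x, rfl⟩ := f.surjective y
  rw [← subsingleton_stalk_pullback_iff f Z x]
  exact Groth.Agent.Helper18Epi.subsingleton_stalk_of_isZero h2 x


section main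
open Groth.Agent.Lib.Seat5.ProjFormula Groth.Agent.Lib.Helper1.PT
  Groth.Agent.Lib.Helper20.PullbackAff Groth.Agent.Lib.Helper21.Dual
  Groth.Agent.Lib.Helper21.ModTensor3 Groth.Agent.Lib.Seat5.LocFFConv

attribute [local instance] Groth.Agent.Lib.Helper21.ExtShDelta.hasSheafHom

/-- **S1063** -/
theorem hasResolutionProperty_of_finLocFree_surjective (hf : Mor2.IsFinLocFree f) [Surjective f]
    (hX : PerfAux.HasResolutionProperty X) : PerfAux.HasResolutionProperty Y := by
  intro G hGq hGft
  haveI : G.IsQuasicoherent := hGq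
  haveI : SheafOfModules.IsFiniteType (R := Y.ringCatSheaf) G := hGft
  have hf' := hf
  obtain ⟨h1, h2, h3⟩ := hf'
  haveI := h1
  haveI := h2
  haveI := h3
  haveI : IsAffineHom f := inferInstance
  -- resolve the pullback
  have hq : Coh.IsQCoh ((plb f).obj G) := isQuasicoherent_pullback f G
  have hft : CohB1.IsFT ((plb f).obj G) :=
    Groth.Agent.Lib.Helper20.FormalPull.isFiniteType_pullback f G
  obtain ⟨E, π, hE, hπ⟩ := hX _ hq hft
  haveI := hπ
  haveI : ((plb f).obj G).IsQuasicoherent := hq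
  haveI : E.IsQuasicoherent :=
    Groth.Agent.Helper18Strict.isQCoh_of_isFP E
      (Groth.Agent.Lib.Helper2.LocFree.isFP_of_isFinLocFree E hE)
  -- push forward
  haveI : Epi ((psh f).map π) := epi_pushforward_map f π
  have hFE : FlatMod.IsFinLocFree ((psh f).obj E) := isFinLocFree_pushforward f hf E hE
  haveI := isIso_c f G
  let φ₁ : (psh f).obj E ⟶ tens G (A f) := (psh f).map π ≫ inv (c f G)
  haveI hφ₁ : Epi φ₁ := epi_comp _ _
  let F' : ModSite.Mod Y.sheaf := (psh f).obj E
  let G' : ModSite.Mod Y.sheaf := G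
  let φ : F' ⟶ (tR Y.sheaf (A f)).obj G' := φ₁
  haveI : Epi φ := hφ₁
  -- the dual of `f_* O_X`
  have hA : FlatMod.IsFinLocFree (A f) :=
    Groth.Agent.Helper18FinFlat.pushforward_isFinLocFree f hf
  have hA' : IsLocFF (O := Y.sheaf) (A f) := isLocFF_of_isFinLocFree _ hA
  have hD : FlatMod.IsFinLocFree (dual (O := Y.sheaf) (A f)) :=
    isFinLocFree_of_isLocFF _ (isLocFF_dual _ hA')
  let adj := dualAdjSw (O := Y.sheaf) (A f) hA'
  haveI : (tR Y.sheaf (A f)).PreservesEpimorphisms :=
    Functor.preservesEpimorphisms_of_adjunction (dualAdj (O := Y.sheaf) (A f) hA')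
  haveI : (tR Y.sheaf (A f)).Additive := Groth.Agent.Lib.Helper21.ModTensor5.tR_additive _ _
  haveI : (tR Y.sheaf (A f)).PreservesZeroMorphisms := inferInstance
  have hW₀ : FlatMod.IsFinLocFree (tens ((psh f).obj E) (dual (O := Y.sheaf) (A f))) :=
    Groth.Agent.Lib.Helper1.FLF.isFinLocFree_tensor ((psh f).obj E) (dual (O := Y.sheaf) (A f)) hFE hD
  have key : Epi ((adj.homEquiv F' G').symm φ) := by
    refine epi_adjunct adj φ (fun hz => ?_)
    have hW : FlatMod.IsFinLocFree ((tR Y.sheaf (dual (O := Y.sheaf) (A f))).obj F') := hW₀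
    haveI : SheafOfModules.IsQuasicoherent (R := Y.ringCatSheaf)
        ((tR Y.sheaf (dual (O := Y.sheaf) (A f))).obj F') :=
      Groth.Agent.Helper18Strict.isQCoh_of_isFP _
        (Groth.Agent.Lib.Helper2.LocFree.isFP_of_isFinLocFree _ hW)
    set ψ := (adj.homEquiv F' G').symm φ with hψ
    have hp : Epi (cokernel.π ψ) := inferInstance
    let Z : Y.Modules := cokernel ψ
    let p : G ⟶ Z := cokernel.π ψ
    haveI : Epi p := hp
    haveI hZq : Z.IsQuasicoherent :=
      Groth.Agent.Lib.Helper23.QCohLocal.isQuasicoherent_cokernel (X := Y) ψ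
    haveI : SheafOfModules.IsFiniteType (R := Y.ringCatSheaf) Z :=
      Groth.Agent.Lib.Helper20.Nakayama.isFiniteType_of_epi (X := Y) p
    exact isZero_of_isZero_tens f Z hz
  exact ⟨(tR Y.sheaf (dual (O := Y.sheaf) (A f))).obj F', (adj.homEquiv F' G').symm φ, hW₀, key⟩

end main

end Groth.Agent.Lib.Seat5.ResFinFlat
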