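import Mathlib
import Groth.Prelude.Def_DCoh2
import Groth.Agent.S0016
import Groth.Agent.S0485
import Groth.Agent.Lib.Helper21Dual13
import Groth.Agent.Lib.Helper21Dual9
import Groth.Agent.Lib.Helper21ModTensor7
import Groth.Agent.Lib.Helper21ModCoh
import Groth.Agent.Lib.Helper23TensorQCoh
import Groth.Agent.Lib.Seat5ResFinFlat
import Groth.Agent.Lib.Helper1Devissage
set_option backward.isDefEq.respectTransparency.types false

/-!
# Seat 5: uniform vanishing of `Ext^n(F, E)` for `F` finite locally free, `E ∈ D^b_QCoh` on a qcqs scheme (S1010)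

* `exists_ext_eq_zero`: `∃ d, ∀ F f.l.f., G qcoh, k ≥ d, Ext^k(F, G) = 0` (via `Ext^k(F,G) ≅ H^k(X, G ⊗ F^∨)`).
* `hom_single_eq_zero`: the same for maps `F ⟶ G[j][n]` in `D(O_X)`.
* `PN`, `PN_ext`, `exists_bound` (S1010) by dévissage (`Helper1.Devissage.induction_homology'`).
-/

set_option autoImplicit false
set_option linter.style.haveILetI false
universe u
open CategoryTheory CategoryTheory.Limits AlgebraicGeometry TopologicalSpace Opposite

namespace Groth.Agent.Lib.Seat5.ExtVanish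

open Groth.Agent.Lib.Helper21.Dual Groth.Agent.Lib.Helper21.ModTensor3
  Groth.Agent.Lib.Seat5.LocFFConv

attribute [local instance] Groth.Agent.Lib.Helper21.ExtShDelta.hasSheafHom

variable (X : Scheme.{u})

instance : EnoughInjectives X.Modules := Groth.Agent.S0485.result _ X.ringCatSheaf

instance : HasExt.{u} X.Modules := hasExt_of_enoughInjectives _

/-- uniform vanishing of `Ext^k(F, G)` for `F` finite locally free and `G` quasi-coherent on a qcqs scheme -/
theorem exists_ext_eq_zero [CompactSpace X] [QuasiSeparatedSpace X] :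
    ∃ d : ℕ, ∀ (F G : X.Modules), FlatMod.IsFinLocFree F → G.IsQuasicoherent → ∀ k : ℕ, d ≤ k →
      ∀ x : Abelian.Ext.{u} F G k, x = 0 := by
  obtain ⟨d, hd⟩ := Groth.Agent.S0016.result X
  refine ⟨d, fun F G hF hG k hk x => ?_⟩
  have hF' : IsLocFF (O := X.sheaf) F := isLocFF_of_isFinLocFree _ hF
  haveI : HasExt.{u} (ModSite.Mod X.sheaf) := inferInstanceAs (HasExt.{u} X.Modules)
  obtain ⟨e1⟩ := nonempty_ext_tensor_dual (O := X.sheaf) F hF' (ModSite.unit X.sheaf) G k
  -- the twisted module is quasi-coherent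
  have hD : FlatMod.IsFinLocFree (dual (O := X.sheaf) F) :=
    isFinLocFree_of_isLocFF _ (isLocFF_dual _ hF')
  haveI : SheafOfModules.IsQuasicoherent (R := X.ringCatSheaf) (dual (O := X.sheaf) F) :=
    Groth.Agent.Helper18Strict.isQCoh_of_isFP _
      (Groth.Agent.Lib.Helper2.LocFree.isFP_of_isFinLocFree _ hD)
  haveI : SheafOfModules.IsQuasicoherent (R := X.ringCatSheaf) G := hG
  have hM : SheafOfModules.IsQuasicoherent (R := X.ringCatSheaf)
      ((tR X.sheaf (dual (O := X.sheaf) F)).obj G) :=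
    Groth.Agent.Lib.Helper23.TensorQCoh.isQuasicoherent_tensorMod G (dual (O := X.sheaf) F)
  obtain ⟨e2⟩ := Groth.Agent.Lib.Helper21.FreeAb.nonempty_ext_unit_iso X.ringCatSheaf
    ((tR X.sheaf (dual (O := X.sheaf) F)).obj G) k
  haveI hss : Subsingleton (Abelian.Ext.{u} (Groth.Agent.Lib.Helper21.FreeAb.Zc
      (J := Opens.grothendieckTopology X))
      ((SheafOfModules.toSheaf X.ringCatSheaf).obj ((tR X.sheaf (dual (O := X.sheaf) F)).obj G)) k) :=
    hd _ hM k hk
  haveI hss1 : Subsingleton (Abelian.Ext.{u} (ModSite.unit X.sheaf)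
      ((tR X.sheaf (dual (O := X.sheaf) F)).obj G) k) := by
    have hz : IsZero (AddCommGrpCat.of (Abelian.Ext.{u} (Groth.Agent.Lib.Helper21.FreeAb.Zc
      (J := Opens.grothendieckTopology X))
      ((SheafOfModules.toSheaf X.ringCatSheaf).obj
        ((tR X.sheaf (dual (O := X.sheaf) F)).obj G)) k)) :=
      AddCommGrpCat.isZero_of_subsingleton _
    exact AddCommGrpCat.subsingleton_of_isZero (IsZero.of_iso hz e2)
  -- transport
  let i0 : (tR X.sheaf F).obj (ModSite.unit X.sheaf) ≅ F :=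
    (Groth.Agent.Lib.Helper21.ModTensor7.tLUnitIso X.sheaf).app F
  have hx' : (Abelian.Ext.mk₀ i0.hom).comp x (zero_add k) = 0 := by
    apply e1.injective
    rw [map_zero]
    exact Subsingleton.elim _ _
  have : x = (Abelian.Ext.mk₀ i0.inv).comp ((Abelian.Ext.mk₀ i0.hom).comp x (zero_add k))
      (zero_add k) := by
    rw [Abelian.Ext.mk₀_comp_mk₀_assoc, i0.inv_hom_id, Abelian.Ext.mk₀_id_comp]
  rw [this, hx', Abelian.Ext.comp_zero]
  rfl


section derived
open DerivedCategory Pretriangulated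
attribute [local instance] HasDerivedCategory.standard

variable {X}

/-- vanishing of maps into shifted single sheaves -/
theorem hom_single_eq_zero (d : ℕ)
    (hd : ∀ (F G : X.Modules), FlatMod.IsFinLocFree F → G.IsQuasicoherent → ∀ k : ℕ, d ≤ k →
      ∀ x : Abelian.Ext.{u} F G k, x = 0)
    (F G : X.Modules) (hF : FlatMod.IsFinLocFree F) (hG : G.IsQuasicoherent) (j n : ℤ)
    (hn : (d : ℤ) + j ≤ n)
    (φ : DCoh.inD X F ⟶ ((DerivedCategory.singleFunctor X.Modules j).obj G)⟦n⟧) : φ = 0 := by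
  obtain ⟨k, hk⟩ : ∃ k : ℕ, (k : ℤ) = n - j := ⟨(n - j).toNat, Int.toNat_of_nonneg (by omega)⟩
  have hdk : d ≤ k := by omega
  let i1 := ((DerivedCategory.singleFunctors X.Modules).shiftIso n (-(k : ℤ)) j (by omega)).app G
  let i2 := ((DerivedCategory.singleFunctors X.Modules).shiftIso (k : ℤ) (-(k : ℤ)) 0 (by omega)).app G
  let ι : ((DerivedCategory.singleFunctor X.Modules j).obj G)⟦n⟧ ≅
      ((DerivedCategory.singleFunctor X.Modules 0).obj G)⟦(k : ℤ)⟧ := i1 ≪≫ i2.symm
  have h0 : φ ≫ ι.hom = 0 := by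
    obtain ⟨x, hx⟩ := (Abelian.Ext.homEquiv (X := F) (Y := G) (n := k)).surjective (φ ≫ ι.hom)
    rw [← hx, hd F G hF hG k hdk x]
    exact Abelian.Ext.zero_hom F G k
  rw [← cancel_mono ι.hom, h0, zero_comp]

/-- the property used in the dévissage -/
def PN (N : ℤ) : ObjectProperty (DerivedCategory X.Modules) := fun K =>
  ∀ (F : X.Modules), FlatMod.IsFinLocFree F → ∀ n : ℤ, N ≤ n → ∀ φ : DCoh.inD X F ⟶ K⟦n⟧, φ = 0

instance (N : ℤ) : (PN (X := X) N).IsClosedUnderIsomorphisms where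
  of_iso {K L} e hK := fun F hF n hn φ => by
    have h := hK F hF n hn (φ ≫ ((shiftFunctor (DerivedCategory X.Modules) n).mapIso e).inv)
    have : φ = (φ ≫ ((shiftFunctor (DerivedCategory X.Modules) n).mapIso e).inv) ≫
        ((shiftFunctor (DerivedCategory X.Modules) n).mapIso e).hom := by
      rw [Category.assoc, Iso.inv_hom_id, Category.comp_id]
    rw [this, h, zero_comp]

theorem PN_of_isZero (N : ℤ) (K : DerivedCategory X.Modules) (hK : IsZero K) : PN N K :=
  fun _ _ n _ _ => ((shiftFunctor (DerivedCategory X.Modules) n).map_isZero hK).eq_of_tgt _ _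

theorem PN_ext (N : ℤ) (T : Triangle (DerivedCategory X.Modules))
    (hT : T ∈ distTriang (DerivedCategory X.Modules)) (h1 : PN N T.obj₁) (h3 : PN N T.obj₃) :
    PN N T.obj₂ := by
  intro F hF n hn φ
  have hT' := Triangle.shift_distinguished T hT n
  have hφ : φ ≫ ((CategoryTheory.shiftFunctor (Triangle (DerivedCategory X.Modules)) n).obj T).mor₂
      = 0 := h3 F hF n hn _
  obtain ⟨g, hg⟩ := Triangle.coyoneda_exact₂ _ hT' φ hφ
  have hg0 : g = 0 := h1 F hF n hn g
  rw [hg, hg0, zero_comp]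
  rfl

/-- **S1010** -/
theorem exists_bound [CompactSpace X] [QuasiSeparatedSpace X]
    (E : DCoh.D X) (hE : DCoh.IsQCohD E) (a b : ℤ) [E.IsGE a] [E.IsLE b] :
    ∃ n₀ : ℤ, 0 < n₀ ∧ ∀ (F : X.Modules), FlatMod.IsFinLocFree F → ∀ n : ℤ, n₀ ≤ n →
      ∀ φ : DCoh.inD X F ⟶ E⟦n⟧, φ = 0 := by
  obtain ⟨d, hd⟩ := exists_ext_eq_zero X
  refine ⟨max ((d : ℤ) + b) 1, lt_of_lt_of_le one_pos (le_max_right _ _), ?_⟩
  have key : PN ((d : ℤ) + b) E := by
    refine Groth.Agent.Lib.Helper1.Devissage.induction_homology' (PN ((d : ℤ) + b))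
      (PN_of_isZero _) (PN_ext _) E a b ?_ ?_
    · rintro i (hi | hi)
      · exact DerivedCategory.isZero_of_isGE E a i hi
      · exact DerivedCategory.isZero_of_isLE E b i hi
    · intro j _ hjb F hF n hn φ
      exact hom_single_eq_zero d hd F _ hF (hE j) j n (by omega) φ
  intro F hF n hn φ
  exact key F hF n (le_trans (le_max_left _ _) hn) φ

end derived

end Groth.Agent.Lib.Seat5.ExtVanish
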