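import Mathlib
import Groth.Agent.Lib.Seat21SubSh
import Groth.Agent.Lib.Seat20NegPow

/-!
# Finite type quasi-coherent modules on a quasi-compact scheme are finitely generated objects (helper5)

Namespace `Groth.Agent.Lib.Seat5.FGObject`.

For a family of morphisms `φ α : N α ⟶ F` of `O_X`-modules:

* `imSub φ S B`: the submodule of `Γ(F, B)` spanned by the images of the `φ α`, `α ∈ S`, on sections over `B`.
* `sumSub φ`: the subsheaf of sections of `F` which are locally finite sums of images (a `Seat21` `SubSh`).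
* `JointlyEpi φ`: morphisms out of `F` are determined by their composites with all `φ α`.
* `mem_sumSub_of_jointlyEpi`: for a jointly epimorphic family every section of `F` is locally a finite sum of images.
* `exists_finset_epi`: `X` quasi-compact, `F` quasi-coherent of finite type, `φ` jointly epimorphic: some finite subfamily
  already gives an epimorphism `⨁_{α ∈ S} N α ⟶ F`.
-/

set_option autoImplicit false
universe w u
open CategoryTheory CategoryTheory.Limits AlgebraicGeometry TopologicalSpace Opposite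

namespace Groth.Agent.Lib.Seat5.FGObject

open Groth.Agent.Lib.Helper23.SecTw Groth.Agent.Lib.Helper23.GenLocus Groth.Agent.Lib.Helper6
open Groth.Agent.Lib.Helper23.Extend Groth.Agent.Lib.Helper23.LocGen Groth.Agent.Lib.Helper23.QCohLocal
open Groth.Agent.Lib.Helper2.Push Groth.Agent.Lib.Helper23.FinType
open Groth.Agent.Lib.Seat20.NegPow

noncomputable section

variable {X : Scheme.{u}} {F : X.Modules} {κ : Type w} {N : κ → X.Modules} (φ : ∀ α, N α ⟶ F)

/-- morphisms out of `F` are determined by their composites with all `φ α` -/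
def JointlyEpi : Prop :=
  ∀ (H : X.Modules) (a b : F ⟶ H), (∀ α, φ α ≫ a = φ α ≫ b) → a = b

/-- the submodule of `Γ(F, B)` spanned by the images of the `φ α`, `α ∈ S` -/
def imSub (S : Set κ) (B : X.Opens) : Submodule Γ(X, B) Γ(F, B) :=
  Submodule.span Γ(X, B) (⋃ α ∈ S, Set.range (fun a : Γ(N α, B) => (φ α).app B a))

theorem imSub_mono {S S' : Set κ} (h : S ⊆ S') (B : X.Opens) : imSub φ S B ≤ imSub φ S' B := by
  apply Submodule.span_mono
  intro m hm
  obtain ⟨α, hm⟩ := Set.mem_iUnion.1 hm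
  obtain ⟨hα, hm⟩ := Set.mem_iUnion.1 hm
  exact Set.mem_iUnion.2 ⟨α, Set.mem_iUnion.2 ⟨h hα, hm⟩⟩

theorem app_mem_imSub {S : Set κ} {α : κ} (hα : α ∈ S) (B : X.Opens) (a : Γ(N α, B)) :
    (φ α).app B a ∈ imSub φ S B :=
  Submodule.subset_span (Set.mem_iUnion.2 ⟨α, Set.mem_iUnion.2 ⟨hα, ⟨a, rfl⟩⟩⟩)

theorem res_mem_imSub {S : Set κ} {B B' : X.Opens} (h : B' ≤ B) {m : Γ(F, B)} (hm : m ∈ imSub φ S B) :
    res F h m ∈ imSub φ S B' := by
  induction hm using Submodule.span_induction with
  | mem x hx =>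
    obtain ⟨α, hx⟩ := Set.mem_iUnion.1 hx
    obtain ⟨hα, a, rfl⟩ := Set.mem_iUnion.1 hx
    have h1 : res F h ((φ α).app B a) = (φ α).app B' (res (N α) h a) :=
      (app_map (φ α) (homOfLE h) a).symm
    rw [h1]
    exact app_mem_imSub φ hα B' _
  | zero => rw [res_zero]; exact Submodule.zero_mem _
  | add x y _ _ hx hy => rw [res_add']; exact Submodule.add_mem _ hx hy
  | smul r x _ hx => rw [res_smul]; exact Submodule.smul_mem _ _ hx

open Classical in
/-- an element of the span of all images lies in the span of finitely many of them -/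
theorem exists_finset_of_mem_imSub {B : X.Opens} {m : Γ(F, B)} (hm : m ∈ imSub φ Set.univ B) :
    ∃ S : Finset κ, m ∈ imSub φ (↑S : Set κ) B := by
  induction hm using Submodule.span_induction with
  | mem x hx =>
    obtain ⟨α, hx⟩ := Set.mem_iUnion.1 hx
    obtain ⟨-, a, rfl⟩ := Set.mem_iUnion.1 hx
    exact ⟨{α}, app_mem_imSub φ (by simp) B a⟩
  | zero => exact ⟨∅, Submodule.zero_mem _⟩
  | add x y _ _ hx hy =>
    obtain ⟨S, hS⟩ := hx
    obtain ⟨S', hS'⟩ := hy
    refine ⟨S ∪ S', Submodule.add_mem _ (imSub_mono φ ?_ B hS) (imSub_mono φ ?_ B hS')⟩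
    · intro α hα; simp only [Finset.coe_union]; exact Or.inl hα
    · intro α hα; simp only [Finset.coe_union]; exact Or.inr hα
  | smul r x _ hx =>
    obtain ⟨S, hS⟩ := hx
    exact ⟨S, Submodule.smul_mem _ _ hS⟩

/-- the subsheaf of sections which are locally finite sums of images -/
def sumSub : Groth.Agent.Lib.Seat21.QSub.SubSh F where
  carrier V :=
    { carrier := {m | ∀ y ∈ V, ∃ (B : X.Opens) (hB : B ≤ V), y ∈ B ∧ res F hB m ∈ imSub φ Set.univ B}
      add_mem' := by
        intro m m' hm hm' y hy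
        obtain ⟨B, hB, hyB, h1⟩ := hm y hy
        obtain ⟨B', hB', hyB', h2⟩ := hm' y hy
        refine ⟨B ⊓ B', inf_le_left.trans hB, ⟨hyB, hyB'⟩, ?_⟩
        rw [res_add']
        refine Submodule.add_mem _ ?_ ?_
        · have := res_mem_imSub φ (inf_le_left : B ⊓ B' ≤ B) h1
          rwa [res_res] at this
        · have := res_mem_imSub φ (inf_le_right : B ⊓ B' ≤ B') h2
          rwa [res_res] at this
      zero_mem' := by
        intro y hy
        exact ⟨V, le_rfl, hy, by rw [res_zero]; exact Submodule.zero_mem _⟩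
      smul_mem' := by
        intro c m hm y hy
        obtain ⟨B, hB, hyB, h1⟩ := hm y hy
        refine ⟨B, hB, hyB, ?_⟩
        rw [res_smul]
        exact Submodule.smul_mem _ _ h1 }
  res_mem := by
    intro V V' h m hm y hy
    obtain ⟨B, hB, hyB, h1⟩ := hm y (h hy)
    refine ⟨B ⊓ V', inf_le_right, ⟨hyB, hy⟩, ?_⟩
    have := res_mem_imSub φ (inf_le_left : B ⊓ V' ≤ B) h1
    rw [res_res] at this
    change res F _ (res F h m) ∈ _
    rwa [res_res]
  local_mem := by
    intro V m hm y hy
    obtain ⟨V', hV', hyV', h1⟩ := hm y hy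
    obtain ⟨B, hB, hyB, h2⟩ := h1 y hyV'
    refine ⟨B, hB.trans hV', hyB, ?_⟩
    change res F hB (res F hV' m) ∈ _ at h2
    rwa [res_res] at h2

theorem app_mem_sumSub (α : κ) (V : X.Opens) (a : Γ(N α, V)) :
    (φ α).app V a ∈ (sumSub φ).carrier V := by
  intro y hy
  refine ⟨V, le_rfl, hy, ?_⟩
  have h : res F (le_refl V) ((φ α).app V a) = (φ α).app V a := by
    simp only [res]
    have : (homOfLE (le_refl V)).op = 𝟙 (op V) := rfl
    rw [this, F.presheaf.map_id]
    rfl
  rw [h]
  exact app_mem_imSub φ (Set.mem_univ α) V a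

/-- for a jointly epimorphic family every section of `F` is locally a finite sum of images -/
theorem mem_sumSub_of_jointlyEpi (h : JointlyEpi φ) (V : X.Opens) (m : Γ(F, V)) :
    m ∈ (sumSub φ).carrier V := by
  have hc : cokernel.π (sumSub φ).ι = 0 := by
    apply h
    intro α
    rw [comp_zero]
    apply Scheme.Modules.hom_ext
    intro U
    ext a
    have h1 : (φ α).app U a = (sumSub φ).ι.app U ((sumSub φ).mkSec U ⟨_, app_mem_sumSub φ α U a⟩) := rfl
    change (cokernel.π (sumSub φ).ι).app U ((φ α).app U a) = 0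
    rw [h1]
    change ((sumSub φ).ι ≫ cokernel.π (sumSub φ).ι).app U _ = 0
    rw [cokernel.condition]
    rfl
  have : Epi (sumSub φ).ι := Abelian.epi_of_cokernel_π_eq_zero _ hc
  have : IsIso (sumSub φ).ι := isIso_of_mono_of_epi _
  have hb : Function.Bijective ((sumSub φ).ι.app V) := by
    have hc : IsIso ((sumSub φ).ι.app V) := Scheme.Modules.Hom.isIso_iff_isIso_app.1 inferInstance _
    exact ConcreteCategory.bijective_of_isIso _
  obtain ⟨s, rfl⟩ := hb.2 m
  exact (sumSub φ).ι_app_mem V s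

/-- sections in the span of the images of a finite subfamily are in the image of the map from the biproduct -/
theorem inIm_of_mem_imSub (S : Finset κ) {B : X.Opens} {m : Γ(F, B)} (hm : m ∈ imSub φ (↑S : Set κ) B) :
    InIm (biproduct.desc (fun α : S => φ α.1)) B m := by
  induction hm using Submodule.span_induction with
  | mem x hx =>
    obtain ⟨α, hx⟩ := Set.mem_iUnion.1 hx
    obtain ⟨hα, a, rfl⟩ := Set.mem_iUnion.1 hx
    have h2 : biproduct.ι (fun β : S => N β.1) (⟨α, hα⟩ : S) ≫ biproduct.desc (fun β : S => φ β.1) = φ α :=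
      biproduct.ι_desc (fun β : S => φ β.1) _
    have h1 : InIm (biproduct.ι (fun β : S => N β.1) (⟨α, hα⟩ : S) ≫ biproduct.desc (fun β : S => φ β.1)) B
        ((φ α).app B a) := by
      rw [h2]
      exact ⟨a, rfl⟩
    exact InIm.comp _ _ h1
  | zero => exact InIm.zero _ _
  | add x y _ _ hx hy => exact hx.add hy
  | smul r x _ hx => exact hx.smul r

variable [F.IsQuasicoherent] [SheafOfModules.IsFiniteType (R := X.ringCatSheaf) F]

open Classical in
/-- local version: near every point finitely many members of a jointly epimorphic family generate `F` -/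
theorem exists_local_finset (h : JointlyEpi φ) (x : X) :
    ∃ (B : X.Opens) (S : Finset κ), x ∈ B ∧ ∀ (A : X.Opens) (_ : A ≤ B) (t : Γ(F, A)) (y : X), y ∈ A →
      ∃ (B' : X.Opens) (hB' : B' ≤ A), y ∈ B' ∧ res F hB' t ∈ imSub φ (↑S : Set κ) B' := by
  obtain ⟨V, hV, hxV, -⟩ := exists_isAffineOpen_mem_and_subset (x := x) (U := ⊤) trivial
  have hfin : Module.Finite Γ(X, V) Γ(F, V) := finite_of_isFiniteType F hV
  obtain ⟨T, hT⟩ := hfin.fg_top
  have hloc : IsLocOn F V := IsLocOn.of_isQuasicoherent hV F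
  have h1 : ∀ τ : Γ(F, V), ∃ (B : X.Opens) (hB : B ≤ V), x ∈ B ∧ res F hB τ ∈ imSub φ Set.univ B :=
    fun τ => mem_sumSub_of_jointlyEpi φ h V τ x hxV
  choose Bf hBf hxBf hmem using h1
  have h2 := fun τ => exists_finset_of_mem_imSub φ (hmem τ)
  choose Sf hSf using h2
  let B : X.Opens := V ⊓ T.inf Bf
  have hBV : B ≤ V := inf_le_left
  have hBτ : ∀ τ ∈ T, B ≤ Bf τ := fun τ hτ => inf_le_right.trans (Finset.inf_le hτ)
  have hxB : x ∈ B := by
    refine ⟨hxV, ?_⟩
    change x ∈ ((T.inf Bf : X.Opens) : Set X)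
    rw [Opens.coe_finset_inf]
    have : ∀ (T' : Finset Γ(F, V)), x ∈ T'.inf (fun τ => ((Bf τ : X.Opens) : Set X)) := by
      intro T'
      induction T' using Finset.induction_on with
      | empty => simp
      | insert a T'' _ ih =>
        rw [Finset.inf_insert]
        exact ⟨hxBf a, ih⟩
    exact this T
  let S : Finset κ := T.biUnion Sf
  have hgen : ∀ τ ∈ T, res F hBV τ ∈ imSub φ (↑S : Set κ) B := by
    intro τ hτ
    have h3 := res_mem_imSub φ (hBτ τ hτ) (hSf τ)
    rw [res_res] at h3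
    refine imSub_mono φ ?_ B h3
    intro α hα
    exact Finset.mem_coe.2 (Finset.mem_biUnion.2 ⟨τ, hτ, hα⟩)
  refine ⟨B, S, hxB, fun A hA t y hy => ?_⟩
  obtain ⟨f, hfA, hyf⟩ := hV.exists_basicOpen_le (V := A) ⟨y, hy⟩ (hBV (hA hy))
  have key : ∀ t₀ ∈ Submodule.span Γ(X, V) (T : Set Γ(F, V)),
      res F (X.basicOpen_le f) t₀ ∈ imSub φ (↑S : Set κ) (X.basicOpen f) := by
    intro t₀ h0
    induction h0 using Submodule.span_induction with
    | mem τ hτ =>
      have h4 := res_mem_imSub φ (hfA.trans hA) (hgen τ hτ)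
      rwa [res_res] at h4
    | zero => rw [res_zero]; exact Submodule.zero_mem _
    | add a b _ _ ha hb => rw [res_add']; exact Submodule.add_mem _ ha hb
    | smul r a _ ha => rw [res_smul]; exact Submodule.smul_mem _ _ ha
  obtain ⟨n, t₀, ht₀⟩ := hloc.exists_extension f (res F hfA t)
  refine ⟨X.basicOpen f, hfA, hyf, ?_⟩
  have hunit : IsUnit (resf (X.basicOpen_le f) f) := RingedSpace.isUnit_res_basicOpen _ f
  obtain ⟨u, hu⟩ := hunit.pow n
  have h5 : res F hfA t = (↑u⁻¹ : Γ(X, X.basicOpen f)) • res F (X.basicOpen_le f) t₀ := by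
    change res F (X.basicOpen_le f) t₀ = resf (X.basicOpen_le f) f ^ n • res F hfA t at ht₀
    rw [ht₀, ← hu, ← mul_smul, Units.inv_mul, one_smul]
  rw [h5]
  exact Submodule.smul_mem _ _ (key t₀ (by rw [hT]; trivial))

open Classical in
/-- **finitely generated objects**: on a quasi-compact scheme, a jointly epimorphic family of morphisms to a
quasi-coherent module of finite type has a finite subfamily whose sum is an epimorphism -/
theorem exists_finset_epi [CompactSpace X] (h : JointlyEpi φ) :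
    ∃ S : Finset κ, Epi (biproduct.desc (fun α : S => φ α.1)) := by
  choose B S hxB hP using exists_local_finset φ h
  obtain ⟨Fx, hFx⟩ : ∃ Fx : Finset X, (Set.univ : Set X) ⊆ ⋃ x ∈ Fx, (B x : Set X) :=
    isCompact_univ.elim_finite_subcover (fun x => (B x : Set X)) (fun x => (B x).2)
      (fun x _ => Set.mem_iUnion.2 ⟨x, hxB x⟩)
  refine ⟨Fx.biUnion S, ?_⟩
  apply Groth.Agent.Lib.Helper23.Serre.epi_of_locally_surjective
  intro V t y hy
  obtain ⟨x, hx⟩ := Set.mem_iUnion.1 (hFx (Set.mem_univ y))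
  obtain ⟨hxF, hyx⟩ := Set.mem_iUnion.1 hx
  obtain ⟨B', hB', hyB', hmem⟩ := hP x (V ⊓ B x) inf_le_right (res F inf_le_left t) y ⟨hy, hyx⟩
  rw [res_res] at hmem
  have hmem' : res F (hB'.trans inf_le_left) t ∈ imSub φ (↑(Fx.biUnion S) : Set κ) B' := by
    refine imSub_mono φ ?_ B' hmem
    intro α hα
    exact Finset.mem_coe.2 (Finset.mem_biUnion.2 ⟨x, hxF, hα⟩)
  obtain ⟨a, ha⟩ := inIm_of_mem_imSub φ _ hmem'
  exact ⟨B', hB'.trans inf_le_left, hyB', a, ha⟩

end

end Groth.Agent.Lib.Seat5.FGObject
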