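import Mathlib
import Groth.Prelude.Def_FlatMod2
import Groth.Agent.Lib.Helper2FlatOver2
import Groth.Agent.Lib.Helper2LocFree
import Groth.Agent.Lib.Helper23QCohAbelian
import Groth.Agent.Lib.Seat0FlatLocal
import Groth.Agent.Lib.Helper1StalkTensorC
import Groth.Agent.Lib.Helper21ExtZero5
import Groth.Agent.Lib.Helper21ModTensor5
import Groth.Agent.Lib.Helper23SecTw3
import Groth.Agent.Lib.Helper23Restr
import Groth.Agent.Lib.Helper18OmLS11
import Groth.Agent.Lib.Helper2Push
import Groth.Agent.Lib.Helper23Serre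
import Groth.Agent.Lib.Seat5HFreeLocus

/-!
# Quasi-coherent modules are quotients of flat quasi-coherent modules (seat 5)

Namespace `Groth.Agent.Lib.Seat5.FlatQuot`.

On a quasi-compact scheme with affine diagonal every quasi-coherent module is a quotient of a flat quasi-coherent
module (`exists_flat_epi`).  The proof improves a quasi-coherent `G` one affine open `U` at a time: with
`u : U ⟶ X` the (affine) inclusion and `p : L ⟶ G|_U` an epimorphism from a flat quasi-coherent module, the
fibre product `G' = G ×_{u_* u^* G} u_* L` maps onto `G`, is isomorphic to `L` over `U`, and is flat wherever `G` is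
(the kernel of `G' ⟶ G` is `u_*` of the kernel of `p`).
-/

set_option autoImplicit false
set_option linter.style.haveILetI false
universe v₁ u₁ u
open CategoryTheory CategoryTheory.Limits AlgebraicGeometry TopologicalSpace Opposite

namespace Groth.Agent.Lib.Seat5.FlatQuot

open Groth.Agent.Lib.Helper2.FlatOver Groth.Agent.Lib.Helper2.LocFree Groth.Agent.Lib.Helper2

variable {X : Scheme.{u}}

section Sections

/-- sections over `V` of a short exact sequence of quasi-coherent modules, `V` affine: two-out-of-three for flatness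
with flat cokernel -/
theorem flat_sections_iff_of_shortExact (T : ShortComplex X.Modules) (hT : T.ShortExact)
    [T.X₁.IsQuasicoherent] [T.X₂.IsQuasicoherent] [T.X₃.IsQuasicoherent] {V : X.Opens} (hV : IsAffineOpen V)
    (h3 : Module.Flat Γ(X, V) Γ(T.X₃, V)) :
    Module.Flat Γ(X, V) Γ(T.X₂, V) ↔ Module.Flat Γ(X, V) Γ(T.X₁, V) := by
  haveI := hT.mono_f
  haveI := hT.epi_g
  let g₁ : Γ(T.X₁, V) →ₗ[Γ(X, V)] Γ(T.X₂, V) :=
    { toFun := fun m => Scheme.Modules.Hom.app T.f V m
      map_add' := fun a b => map_add _ a b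
      map_smul' := fun a m => ModExact.app_smul T.f V a m }
  let g₂ : Γ(T.X₂, V) →ₗ[Γ(X, V)] Γ(T.X₃, V) :=
    { toFun := fun m => Scheme.Modules.Hom.app T.g V m
      map_add' := fun a b => map_add _ a b
      map_smul' := fun a m => ModExact.app_smul T.g V a m }
  have hinj : Function.Injective g₁ := ModExact.app_injective_of_mono T.f V
  have hsurj : Function.Surjective g₂ :=
    Groth.Agent.Lib.Helper23.FinType.surjective_app_of_epi T.g hV
  have hex : Function.Exact g₁ g₂ := by
    intro m
    constructor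
    · intro hm
      obtain ⟨t, ht⟩ := ModExact.exists_app_eq_of_shortExact T hT V m hm
      exact ⟨t, ht⟩
    · rintro ⟨t, rfl⟩
      change Scheme.Modules.Hom.app T.g V (Scheme.Modules.Hom.app T.f V t) = 0
      have h0 : T.f ≫ T.g = 0 := T.zero
      have h1 : Scheme.Modules.Hom.app (T.f ≫ T.g) V t = 0 := by
        rw [h0]; rfl
      exact h1
  exact flat_iff_of_exact_of_flat g₁ g₂ hinj hsurj hex

/-- flatness of sections is invariant under isomorphisms -/
theorem flat_sections_of_iso {M M' : X.Modules} (e : M ≅ M') (V : X.Opens)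
    (h : Module.Flat Γ(X, V) Γ(M, V)) : Module.Flat Γ(X, V) Γ(M', V) := by
  let l : Γ(M, V) ≃ₗ[Γ(X, V)] Γ(M', V) :=
    { toFun := fun m => Scheme.Modules.Hom.app e.hom V m
      invFun := fun m => Scheme.Modules.Hom.app e.inv V m
      map_add' := fun a b => map_add _ a b
      map_smul' := fun a m => ModExact.app_smul e.hom V a m
      left_inv := fun m => by
        have h1 := congrArg (fun φ => Scheme.Modules.Hom.app φ V m) e.hom_inv_id
        exact h1
      right_inv := fun m => by
        have h1 := congrArg (fun φ => Scheme.Modules.Hom.app φ V m) e.inv_hom_id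
        exact h1 }
  exact Module.Flat.of_linearEquiv l.symm

end Sections

section Affine

open Groth.Agent.Lib.Helper23.SecTw Groth.Agent.Lib.Helper6 Groth.Agent.Lib.Helper2.Push

/-- on an affine scheme, morphisms out of a quasi-coherent module are determined by their effect on global sections -/
theorem hom_ext_of_isAffine {U : Scheme.{u}} [IsAffine U] {N H : U.Modules} [N.IsQuasicoherent] (a b : N ⟶ H)
    (hab : ∀ t : Γ(N, ⊤), a.app ⊤ t = b.app ⊤ t) : a = b := by
  refine Groth.Agent.Helper18OmLS.hom_ext_basis a b _ (isBasis_basicOpen U) ?_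
  rintro _ ⟨f, rfl⟩ m
  have hloc : IsLocOn N (⊤ : U.Opens) := IsLocOn.of_isQuasicoherent (isAffineOpen_top U) N
  obtain ⟨n, t, ht⟩ := hloc.exists_extension f m
  have hunit : IsUnit (U.presheaf.map (homOfLE (U.basicOpen_le f)).op f) :=
    RingedSpace.isUnit_res_basicOpen _ f
  obtain ⟨v, hv⟩ := hunit.pow n
  have hm : m = (↑v⁻¹ : Γ(U, U.basicOpen f)) • N.presheaf.map (homOfLE (U.basicOpen_le f)).op t := by
    rw [ht, ← hv, ← mul_smul, Units.inv_mul, one_smul]
  have key : ∀ c : N ⟶ H, c.app (U.basicOpen f) m =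
      (↑v⁻¹ : Γ(U, U.basicOpen f)) • H.presheaf.map (homOfLE (U.basicOpen_le f)).op (c.app ⊤ t) := by
    intro c
    rw [hm, Scheme.Modules.Hom.app_smul]
    congr 1
    exact Groth.Agent.Lib.Helper2.ModExact.app_map c (homOfLE (U.basicOpen_le f)) t
  rw [key a, key b, hab t]

/-- on an affine scheme every quasi-coherent module is a quotient of a flat quasi-coherent module (a free one) -/
theorem exists_flat_epi_of_isAffine (U : Scheme.{u}) [IsAffine U] (N : U.Modules) [N.IsQuasicoherent] :
    ∃ (L : U.Modules) (p : L ⟶ N), L.IsQuasicoherent ∧ FlatMod.IsFlat L ∧ Epi p := by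
  let κ : Type u := (Coh.structureModule U ⟶ N)
  refine ⟨∐ (fun _ : κ => Coh.structureModule U), Sigma.desc (fun s : κ => s), ?_, ?_, ?_⟩
  · haveI := Groth.Agent.Lib.Helper23.Serre.isQuasicoherent_structureModule' U
    exact Groth.Agent.Lib.Helper23.QCohLocal.isQuasicoherent_colimit _ (fun _ => this)
  · rw [← Groth.Agent.Lib.Helper1.StalkTensor.modSite_isFlat_iff]
    exact Groth.Agent.Lib.Helper21.ModTensor5.isFlat_of_isColimit_cofan U.sheaf
      (fun _ : κ => (Coh.structureModule U : ModSite.Mod U.sheaf))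
      (fun _ => Groth.Agent.Lib.Helper21.ExtZeroS.isFlat_unit (O := U.sheaf)) _
      (coproductIsCoproduct (fun _ : κ => (Coh.structureModule U : U.Modules)))
  · refine ⟨fun {H} a b hab => hom_ext_of_isAffine a b (fun t => ?_)⟩
    have h1 : secHom N t ≫ a = secHom N t ≫ b := by
      have h2 := congrArg (fun φ => Sigma.ι (fun _ : κ => Coh.structureModule U) (secHom N t) ≫ φ) hab
      simpa using h2
    have h3 := congrArg (fun φ => sv φ ⊤) h1
    simp only [sv_comp, sv_secHom] at h3
    have h4 : res N (le_top : (⊤ : U.Opens) ≤ ⊤) t = t := res_self N t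
    rw [h4] at h3
    exact h3

end Affine

section Push

variable (U : X.Opens)

/-- the preimage in `U` of an affine open `V` is affine when `V ⊓ U` is -/
theorem isAffineOpen_preimage_ι {V : X.Opens} (hVU : IsAffineOpen (V ⊓ U)) : IsAffineOpen (U.ι ⁻¹ᵁ V) := by
  rw [← U.ι.isAffineOpen_iff_of_isOpenImmersion, U.ι.image_preimage_eq_opensRange_inf,
    Scheme.Opens.opensRange_ι, inf_comm]
  exact hVU

/-- the direct image along the inclusion of an open with affine inclusion morphism preserves epimorphisms of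
quasi-coherent modules -/
theorem epi_pushforward_map (hU : ∀ V : X.Opens, IsAffineOpen V → IsAffineOpen (V ⊓ U))
    {L N : (↑U : Scheme.{u}).Modules} [L.IsQuasicoherent] [N.IsQuasicoherent] (p : L ⟶ N) [Epi p] :
    Epi ((Scheme.Modules.pushforward U.ι).map p) := by
  apply Groth.Agent.Lib.Helper23.Serre.epi_of_locally_surjective
  intro V t x hx
  obtain ⟨_, ⟨V', hV', rfl⟩, hxV', hle⟩ :=
    X.isBasis_affineOpens.exists_subset_of_mem_open hx V.isOpen
  refine ⟨V', hle, hxV', ?_⟩
  obtain ⟨s, hs⟩ := Groth.Agent.Lib.Helper23.FinType.surjective_app_of_epi p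
    (isAffineOpen_preimage_ι U (hU V' hV'))
    (((Scheme.Modules.pushforward U.ι).obj N).presheaf.map (homOfLE hle).op t)
  exact ⟨s, hs⟩

/-- flatness of the sections of a direct image along an open immersion -/
theorem flat_sections_pushforward (K : (↑U : Scheme.{u}).Modules) {V : X.Opens} (hV : IsAffineOpen V)
    (hVU : IsAffineOpen (V ⊓ U)) (hK : Module.Flat Γ(↑U, U.ι ⁻¹ᵁ V) Γ(K, U.ι ⁻¹ᵁ V)) :
    Module.Flat Γ(X, V) Γ((Scheme.Modules.pushforward U.ι).obj K, V) := by
  have hφ : (U.ι.app V).hom.Flat := by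
    have h := HasRingHomProperty.appLE (P := @Flat) U.ι inferInstance ⟨V, hV⟩
      ⟨U.ι ⁻¹ᵁ V, isAffineOpen_preimage_ι U hVU⟩ le_rfl
    rwa [Scheme.Hom.appLE_eq_app] at h
  letI : Algebra Γ(X, V) Γ(↑U, U.ι ⁻¹ᵁ V) := (U.ι.app V).hom.toAlgebra
  haveI : Module.Flat Γ(X, V) Γ(↑U, U.ι ⁻¹ᵁ V) := hφ
  letI : Module Γ(X, V) Γ(K, U.ι ⁻¹ᵁ V) := Module.compHom Γ(K, U.ι ⁻¹ᵁ V) (U.ι.app V).hom
  haveI : IsScalarTower Γ(X, V) Γ(↑U, U.ι ⁻¹ᵁ V) Γ(K, U.ι ⁻¹ᵁ V) := ⟨fun a b m => by
    change ((U.ι.app V).hom a * b) • m = (U.ι.app V).hom a • (b • m)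
    rw [mul_smul]⟩
  haveI h1 : Module.Flat Γ(X, V) Γ(K, U.ι ⁻¹ᵁ V) := Module.Flat.trans _ Γ(↑U, U.ι ⁻¹ᵁ V) _
  refine flat_of_semilinear_equiv (R := Γ(X, V)) (M := Γ(K, U.ι ⁻¹ᵁ V)) (RingEquiv.refl Γ(X, V))
    (AddEquiv.refl Γ(K, U.ι ⁻¹ᵁ V)) (fun r m => ?_)
  rfl

end Push

section Abelian

variable {C : Type u₁} [Category.{v₁} C] [Abelian C]

/-- the kernel of the first projection of a fibre product is the kernel of the second map -/
noncomputable def kernelFstIso {A B D : C} (f : A ⟶ D) (g : B ⟶ D) :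
    kernel (pullback.fst f g) ≅ kernel g where
  hom := kernel.lift g (kernel.ι _ ≫ pullback.snd f g) (by
    rw [Category.assoc, ← pullback.condition, ← Category.assoc, kernel.condition, zero_comp])
  inv := kernel.lift _ (pullback.lift 0 (kernel.ι g) (by rw [zero_comp, kernel.condition]))
    (pullback.lift_fst _ _ _)
  hom_inv_id := by
    rw [← cancel_mono (kernel.ι (pullback.fst f g))]
    apply pullback.hom_ext
    · simp only [Category.assoc, kernel.lift_ι, pullback.lift_fst, comp_zero, Category.id_comp,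
        kernel.condition]
    · simp only [Category.assoc, kernel.lift_ι, pullback.lift_snd, Category.id_comp]
  inv_hom_id := by
    rw [← cancel_mono (kernel.ι g)]
    simp only [Category.assoc, kernel.lift_ι, Category.id_comp]
    rw [← Category.assoc, kernel.lift_ι, pullback.lift_snd]

end Abelian

section Step

open Groth.Agent.Lib.Helper23.QCohLocal Groth.Agent.Lib.Seat5.HFreeLocus

attribute [local instance] restrictFunctor_isRightAdjoint

/-- **the improvement step**: given a quasi-coherent `G` and an affine open `U` whose inclusion is an affine morphism,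
there is an epimorphism `G' ⟶ G` from a quasi-coherent module which is flat at the points of `U`, and flat over every
affine open over which `G` is flat -/
theorem exists_step (U : X.Opens) (hUaff : IsAffineOpen U)
    (hU : ∀ V : X.Opens, IsAffineOpen V → IsAffineOpen (V ⊓ U)) (G : X.Modules) [G.IsQuasicoherent] :
    ∃ (G' : X.Modules) (π : G' ⟶ G), G'.IsQuasicoherent ∧ Epi π ∧ (∀ x ∈ U, FlatMod.IsFlatAt G' x) ∧
      ∀ V : X.Opens, IsAffineOpen V → (∀ x ∈ V, FlatMod.IsFlatAt G x) → ∀ x ∈ V, FlatMod.IsFlatAt G' x := by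
  haveI : IsAffine (↑U : Scheme.{u}) := hUaff
  haveI : IsAffineHom U.ι := ⟨fun V hV => isAffineOpen_preimage_ι U (hU V hV)⟩
  let R := Scheme.Modules.restrictFunctor U.ι
  let P := Scheme.Modules.pushforward U.ι
  haveI hGu : (R.obj G).IsQuasicoherent := Scheme.Modules.isQuasicoherent_restrictFunctor U.ι G
  obtain ⟨L, p, hLq, hLf, hp⟩ := exists_flat_epi_of_isAffine (↑U : Scheme.{u}) (R.obj G)
  let adj := Scheme.Modules.restrictAdjunction U.ι
  let η : G ⟶ P.obj (R.obj G) := adj.unit.app G
  let q : P.obj L ⟶ P.obj (R.obj G) := P.map p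
  haveI hq : Epi q := epi_pushforward_map U hU p
  haveI : (P.obj L).IsQuasicoherent := isQuasicoherent_pushforward U.ι L
  haveI : (P.obj (R.obj G)).IsQuasicoherent := isQuasicoherent_pushforward U.ι (R.obj G)
  haveI hG'q : (pullback η q).IsQuasicoherent := isQuasicoherent_pullback η q
  haveI hπ : Epi (pullback.fst η q) := Abelian.epi_pullback_of_epi_g η q
  refine ⟨pullback η q, pullback.fst η q, hG'q, hπ, ?_, ?_⟩
  · -- flatness over `U`
    intro x hx
    haveI : IsIso (R.map η) := by
      have h1 : R.map η ≫ adj.counit.app (R.obj G) = 𝟙 _ := adj.left_triangle_components G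
      haveI : IsIso (R.map η ≫ adj.counit.app (R.obj G)) := by rw [h1]; infer_instance
      exact IsIso.of_isIso_comp_right (R.map η) (adj.counit.app (R.obj G))
    let e : R.obj (pullback η q) ≅ L :=
      PreservesPullback.iso R η q ≪≫ asIso (pullback.snd (R.map η) (R.map q)) ≪≫
        asIso (adj.counit.app L)
    have h2 : FlatMod.IsFlatAt (R.obj (pullback η q)) ⟨x, hx⟩ := isFlatAt_of_iso e.symm _ (hLf _)
    exact Groth.Agent.Lib.Seat0.FlatLocal.isFlatAt_of_restrict U.ι (pullback η q) ⟨x, hx⟩ h2
  · -- flatness is preserved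
    intro V hV hGV x hx
    refine isFlatAt_of_flat_sections (pullback η q) hV ?_ x hx
    let T : ShortComplex X.Modules :=
      ShortComplex.mk (kernel.ι (pullback.fst η q)) (pullback.fst η q) (kernel.condition _)
    have hT : T.ShortExact :=
      { exact := ShortComplex.exact_kernel _
        mono_f := inferInstanceAs (Mono (kernel.ι (pullback.fst η q)))
        epi_g := hπ }
    haveI : T.X₁.IsQuasicoherent := isQuasicoherent_kernel (pullback.fst η q)
    haveI : T.X₂.IsQuasicoherent := hG'q
    haveI : T.X₃.IsQuasicoherent := inferInstanceAs G.IsQuasicoherent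
    refine (flat_sections_iff_of_shortExact T hT hV (flat_sections_of_isFlatAt G hV hGV)).2 ?_
    -- the kernel is the direct image of the kernel of `p`
    let e : kernel (pullback.fst η q) ≅ P.obj (kernel p) :=
      kernelFstIso η q ≪≫ (PreservesKernel.iso P p).symm
    refine flat_sections_of_iso e.symm V ?_
    refine flat_sections_pushforward U (kernel p) hV (hU V hV) ?_
    have hW' : IsAffineOpen (U.ι ⁻¹ᵁ V) := isAffineOpen_preimage_ι U (hU V hV)
    let T' : ShortComplex (↑U : Scheme.{u}).Modules :=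
      ShortComplex.mk (kernel.ι p) p (kernel.condition p)
    have hT' : T'.ShortExact :=
      { exact := ShortComplex.exact_kernel p
        mono_f := inferInstanceAs (Mono (kernel.ι p))
        epi_g := hp }
    haveI : T'.X₁.IsQuasicoherent := isQuasicoherent_kernel p
    haveI : T'.X₂.IsQuasicoherent := hLq
    haveI : T'.X₃.IsQuasicoherent := hGu
    refine (flat_sections_iff_of_shortExact T' hT' hW' ?_).1 ?_
    · refine flat_sections_of_isFlatAt (R.obj G) hW' (fun y hy => ?_)
      exact isFlatAt_restrict G U y (hGV (U.ι y) hy)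
    · exact flat_sections_of_isFlatAt L hW' (fun y _ => hLf y)

end Step

section Main

/-- improving a quasi-coherent module over finitely many affine opens with affine inclusions -/
theorem exists_flat_on_finset (hd : ∀ V W : X.Opens, IsAffineOpen V → IsAffineOpen W → IsAffineOpen (V ⊓ W))
    (M : X.Modules) [M.IsQuasicoherent] (t : Finset X.affineOpens) :
    ∃ (F : X.Modules) (π : F ⟶ M), F.IsQuasicoherent ∧ Epi π ∧
      ∀ W ∈ t, ∀ x ∈ W.1, FlatMod.IsFlatAt F x := by
  classical
  induction t using Finset.induction_on with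
  | empty => exact ⟨M, 𝟙 M, inferInstance, inferInstance, fun W hW => absurd hW (Finset.notMem_empty W)⟩
  | insert W t' _ ih =>
    obtain ⟨F₁, π₁, hF₁, hπ₁, hflat₁⟩ := ih
    haveI := hF₁
    obtain ⟨F₂, π₂, hF₂, hπ₂, hU₂, hkeep⟩ := exists_step W.1 W.2 (fun V hV => hd V W.1 hV W.2) F₁
    haveI := hπ₁
    haveI := hπ₂
    refine ⟨F₂, π₂ ≫ π₁, hF₂, epi_comp _ _, fun W' hW' x hx => ?_⟩
    rcases Finset.mem_insert.1 hW' with rfl | hW'
    · exact hU₂ x hx
    · exact hkeep W'.1 W'.2 (hflat₁ W' hW') x hx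

/-- **every quasi-coherent module on a quasi-compact scheme with affine diagonal is a quotient of a flat
quasi-coherent module** -/
theorem exists_flat_epi [CompactSpace X]
    (hd : ∀ V W : X.Opens, IsAffineOpen V → IsAffineOpen W → IsAffineOpen (V ⊓ W))
    (M : X.Modules) [M.IsQuasicoherent] :
    ∃ (F : X.Modules) (π : F ⟶ M), F.IsQuasicoherent ∧ FlatMod.IsFlat F ∧ Epi π := by
  classical
  obtain ⟨s, hs, hcov⟩ := (isCompact_iff_finite_and_eq_biUnion_affineOpens (X := X)
    (U := ⊤)).1 isCompact_univ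
  obtain ⟨F, π, hF, hπ, hflat⟩ := exists_flat_on_finset hd M hs.toFinset
  refine ⟨F, π, hF, fun x => ?_, hπ⟩
  have hx : x ∈ (⊤ : X.Opens) := trivial
  rw [hcov] at hx
  obtain ⟨W, hxW⟩ := Opens.mem_iSup.1 hx
  obtain ⟨hW, hxW⟩ := Opens.mem_iSup.1 hxW
  exact hflat W (hs.mem_toFinset.2 hW) x hxW

end Main

end Groth.Agent.Lib.Seat5.FlatQuot
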