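import Mathlib
import Groth.Prelude.Def_DCoh2
import Groth.Prelude.Def_CxOX
import Groth.Agent.Lib.Seat49QCohInj
import Groth.Agent.Lib.Seat81BC
import Groth.Agent.Lib.Seat81DerRes
import Groth.Agent.Lib.Helper23QCohAbelian

/-!
# Local cohomology sheaves of a quasi-coherent module are quasi-coherent (helper5)

Namespace `Groth.Agent.Lib.Seat5.LocCohQC`.

For an open immersion `j : U ⟶ Y` and a cochain complex `K` of `O_Y`-modules we build the short complex of
complexes `0 ⟶ Γ_Z(K) ⟶ K ⟶ j_* j^* K ⟶ 0` (`SC j K`), which is short exact when the terms of `K` are injective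
(`shortExact_SC`).  The restriction of an injective resolution to `U` is an injective resolution
(`resolution`).  Combining the long exact sequence with quasi-coherence of `R^i j_*` (S0030) gives
`isQuasicoherent_rightDerived_gammaZ`: for `j` quasi-compact and `M` quasi-coherent, all `R^q Γ_Z (M)` are
quasi-coherent.
-/

set_option backward.isDefEq.respectTransparency.types false
set_option autoImplicit false
set_option linter.style.haveILetI false
universe u
open CategoryTheory CategoryTheory.Limits AlgebraicGeometry
open AlgebraicGeometry.Scheme.Modules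

namespace Groth.Agent.Lib.Seat5.LocCohQC

noncomputable section

variable {U Y : Scheme.{u}} (j : U ⟶ Y) [IsOpenImmersion j]

/-- `Γ_Z(K)`, termwise. -/
abbrev X₁ (K : CochainComplex Y.Modules ℕ) : CochainComplex Y.Modules ℕ :=
  ((DCoh.gammaZ j).mapHomologicalComplex _).obj K

/-- `j^* K`, termwise. -/
abbrev resK (K : CochainComplex Y.Modules ℕ) : CochainComplex U.Modules ℕ :=
  ((restrictFunctor j).mapHomologicalComplex _).obj K

/-- `j_* j^* K`, termwise. -/
abbrev X₃ (K : CochainComplex Y.Modules ℕ) : CochainComplex Y.Modules ℕ :=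
  ((pushforward j).mapHomologicalComplex _).obj (resK j K)

/-- the inclusion `Γ_Z(K) ⟶ K` -/
def fHom (K : CochainComplex Y.Modules ℕ) : X₁ j K ⟶ K where
  f n := (CxOX.gammaZι j).app (K.X n)
  comm' a b _ := ((CxOX.gammaZι j).naturality (K.d a b)).symm

/-- the unit `K ⟶ j_* j^* K` -/
def gHom (K : CochainComplex Y.Modules ℕ) : K ⟶ X₃ j K where
  f n := (restrictAdjunction j).unit.app (K.X n)
  comm' a b _ := ((restrictAdjunction j).unit.naturality (K.d a b)).symm

/-- the short complex `Γ_Z(K) ⟶ K ⟶ j_* j^* K` of complexes -/
def SC (K : CochainComplex Y.Modules ℕ) : ShortComplex (CochainComplex Y.Modules ℕ) where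
  X₁ := X₁ j K
  X₂ := K
  X₃ := X₃ j K
  f := fHom j K
  g := gHom j K
  zero := by
    apply HomologicalComplex.hom_ext
    intro n
    exact kernel.condition ((restrictAdjunction j).unit.app (K.X n))

theorem shortExact_SC (K : CochainComplex Y.Modules ℕ) (hK : ∀ n, Injective (K.X n)) :
    (SC j K).ShortExact := by
  apply HomologicalComplex.shortExact_of_degreewise_shortExact
  intro n
  have hm : Mono ((SC j K).map (HomologicalComplex.eval _ _ n)).f := by
    show Mono (kernel.ι ((restrictAdjunction j).unit.app (K.X n)))
    infer_instance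
  have he : Epi ((SC j K).map (HomologicalComplex.eval _ _ n)).g := by
    show Epi ((restrictAdjunction j).unit.app (K.X n))
    haveI := hK n
    obtain ⟨h, hh⟩ := Groth.Agent.Lib.Seat49.QCohInj.exists_lift_unit j (K.X n) (𝟙 _)
    haveI : IsSplitEpi ((restrictAdjunction j).unit.app (K.X n)) :=
      IsSplitEpi.mk' { section_ := h, id := hh }
    infer_instance
  refine ShortComplex.ShortExact.mk ?_
  exact ShortComplex.exact_of_f_is_kernel _
    (kernelIsKernel ((restrictAdjunction j).unit.app (K.X n)))

attribute [local instance] Groth.Agent.Lib.Helper23.QCohLocal.restrictFunctor_isRightAdjoint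

/-- restricting an injective resolution to an open subscheme gives an injective resolution -/
def resolution {M : Y.Modules} (I : InjectiveResolution M) :
    InjectiveResolution ((restrictFunctor j).obj M) where
  cocomplex := resK j I.cocomplex
  injective n := Groth.Agent.Lib.Seat49.QCohInj.injective_restrict j _ (I.injective n)
  ι := (HomologicalComplex.singleMapHomologicalComplex (restrictFunctor j) (ComplexShape.up ℕ) 0).inv.app M ≫
    ((restrictFunctor j).mapHomologicalComplex _).map I.ι
  quasiIso := by
    haveI : QuasiIso (((restrictFunctor j).mapHomologicalComplex (ComplexShape.up ℕ)).map I.ι) :=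
      HomologicalComplex.quasiIso_map_of_preservesHomology I.ι (restrictFunctor j)
    infer_instance

theorem qc_of_iso {A B : Y.Modules} (e : A ≅ B) (h : A.IsQuasicoherent) : B.IsQuasicoherent :=
  (SheafOfModules.isQuasicoherent Y.ringCatSheaf).prop_of_iso e h

open Groth.Agent.Lib.Helper23.QCohLocal in
/-- **Local cohomology sheaves of quasi-coherent modules are quasi-coherent** (complement of a quasi-compact
open immersion). -/
theorem isQuasicoherent_rightDerived_gammaZ [QuasiCompact j] [HasInjectiveResolutions Y.Modules]
    (M : Y.Modules) (hM : M.IsQuasicoherent) (q : ℕ) :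
    (((DCoh.gammaZ j).rightDerived q).obj M).IsQuasicoherent := by
  haveI : EnoughInjectives U.Modules := Groth.Agent.Lib.Seat81.DerRes.enoughInjectives U
  haveI : HasInjectiveResolutions U.Modules := inferInstance
  let I : InjectiveResolution M := injectiveResolution M
  let K := I.cocomplex
  let J := resolution j I
  have hS := shortExact_SC j K I.injective
  haveI : ((restrictFunctor j).obj M).IsQuasicoherent := by
    haveI := hM
    infer_instance
  -- quasi-coherence of `H^i(j_* j^* K)`
  have h3 : ∀ i : ℕ, ((X₃ j K).homology i).IsQuasicoherent := fun i =>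
    qc_of_iso (J.isoRightDerivedObj (pushforward j) i)
      (Groth.Agent.Lib.Seat81.BC.qcoh_Rpush j ((restrictFunctor j).obj M) i)
  -- `H^0(K) ≅ M`
  have h20 : (K.homology 0).IsQuasicoherent := by
    have e1 : ((CochainComplex.single₀ Y.Modules).obj M).homology 0 ≅ K.homology 0 :=
      asIso (HomologicalComplex.homologyMap I.ι 0)
    have e2 : ((CochainComplex.single₀ Y.Modules).obj M).homology 0 ≅ M :=
      HomologicalComplex.singleObjHomologySelfIso _ _ _
    exact qc_of_iso (e2.symm ≪≫ e1) hM
  have h2 : ∀ i : ℕ, IsZero (K.homology (i + 1)) := fun i =>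
    (I.cocomplex_exactAt_succ i).isZero_homology
  have key : ((X₁ j K).homology q).IsQuasicoherent := by
    rcases q with _ | _ | q
    · -- `q = 0`: `H^0 = Z^0` and cycles are left exact
      haveI := hS.mono_f
      have hex := HomologicalComplex.cycles_left_exact (SC j K) hS.exact 0
      haveI : Mono (HomologicalComplex.cyclesMap (SC j K).f 0) := inferInstance
      have hker := hex.fIsKernel
      have e : (X₁ j K).cycles 0 ≅ kernel (HomologicalComplex.cyclesMap (SC j K).g 0) :=
        IsLimit.conePointUniqueUpToIso hker (limit.isLimit _)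
      haveI : ((SC j K).X₂.cycles 0).IsQuasicoherent :=
        qc_of_iso (CochainComplex.isoHomologyπ₀ K).symm h20
      haveI : ((SC j K).X₃.cycles 0).IsQuasicoherent :=
        qc_of_iso (CochainComplex.isoHomologyπ₀ (X₃ j K)).symm (h3 0)
      have hk : (kernel (HomologicalComplex.cyclesMap (SC j K).g 0)).IsQuasicoherent :=
        isQuasicoherent_kernel _
      exact qc_of_iso (e.symm ≪≫ CochainComplex.isoHomologyπ₀ (X₁ j K)) hk
    · -- `q = 1`: `H^1_Z = coker (H^0(K) ⟶ H^0(j_* j^* K))`
      have hex := hS.homology_exact₃ 0 1 rfl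
      haveI : Epi (hS.δ 0 1 rfl) := hS.epi_δ 0 1 rfl (h2 0)
      have hcok := hex.gIsCokernel
      have e : cokernel (HomologicalComplex.homologyMap (SC j K).g 0) ≅ (X₁ j K).homology 1 :=
        IsColimit.coconePointUniqueUpToIso (cokernelIsCokernel _) hcok
      haveI : ((SC j K).X₂.homology 0).IsQuasicoherent := h20
      haveI : ((SC j K).X₃.homology 0).IsQuasicoherent := h3 0
      exact qc_of_iso e (isQuasicoherent_cokernel _)
    · -- `q + 2`: the connecting morphism is an isomorphism
      exact qc_of_iso (hS.δIso (q + 1) (q + 2) rfl (h2 q) (h2 (q + 1))) (h3 (q + 1))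
  exact qc_of_iso (I.isoRightDerivedObj (DCoh.gammaZ j) q).symm key

end

end Groth.Agent.Lib.Seat5.LocCohQC
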