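import Mathlib
import Groth.Agent.Lib.Seat5LocCohQC
import Groth.Agent.Lib.Seat81MV3
import Groth.Agent.Lib.Seat81DerRes
import Groth.Agent.Lib.Seat81SecRpush2
import Groth.Agent.Lib.Helper18Epi1

/-!
# Vanishing of local cohomology sheaves above the number of equations (helper5)

Namespace `Groth.Agent.Lib.Seat5.LocCohVanish`.

* `isZero_left_succ`, `isZero_mid`: vanishing consequences of the long exact sequence of derived functors.
* `isZero_T_affine`, `isZero_T_sup`: Mayer-Vietoris induction: over an affine base, `R^p (f_* j_* j^*)` of a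
  quasi-coherent module vanishes for `p ≥ n` when the open is a union of `n ≥ 1` affine opens with affine
  intersections.
* `isZero_Rpush_of_finset_cover`.
* `isZero_rightDerived_gammaZ_succ`: `R^{q+1} Γ_Z M = 0` as soon as `R^q j_* (M|_U) = 0`.
-/

set_option backward.isDefEq.respectTransparency.types false
set_option autoImplicit false
set_option linter.style.haveILetI false
universe v v' u u'
open CategoryTheory CategoryTheory.Limits AlgebraicGeometry TopologicalSpace Opposite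
open AlgebraicGeometry.Scheme.Modules

namespace Groth.Agent.Lib.Seat5.LocCohVanish

section les

variable {C : Type u} [Category.{v} C] [Abelian C]
  {D : Type u'} [Category.{v'} D] [Abelian D]
  {T' T T'' : C ⥤ D} [T'.Additive] [T.Additive] [T''.Additive]
  (α : T' ⟶ T) (β : T ⟶ T'') (w : α ≫ β = 0)
  (hex : ∀ Q : C, Injective Q → (ShortComplex.mk (α.app Q) (β.app Q) (by
    rw [← NatTrans.comp_app, w]; rfl)).ShortExact)
  [HasInjectiveResolutions C]

open Groth.Agent.Lib.Helper21.DerLES2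

include hex in
theorem isZero_left_succ (X : C) (p : ℕ)
    (h2 : IsZero ((T''.rightDerived p).obj X)) (h3 : IsZero ((T.rightDerived (p + 1)).obj X)) :
    IsZero ((T'.rightDerived (p + 1)).obj X) := by
  obtain ⟨w1, e1⟩ := exact₁ α β w hex p X
  exact e1.isZero_of_both_zeros (h2.eq_of_src _ _) (h3.eq_of_tgt _ _)

include hex in
theorem isZero_mid (X : C) (p : ℕ)
    (h1 : IsZero ((T'.rightDerived p).obj X)) (h3 : IsZero ((T''.rightDerived p).obj X)) :
    IsZero ((T.rightDerived p).obj X) := by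
  obtain ⟨w2, e2⟩ := exact₂ α β w hex p X
  exact e2.isZero_of_both_zeros (h1.eq_of_src _ _) (h3.eq_of_tgt _ _)

end les

section biF

open Groth.Agent.Lib.Seat81.Five

variable {C : Type u} [Category.{v} C] [Abelian C]
  {D : Type u'} [Category.{v'} D] [Abelian D] (F G : C ⥤ D) [F.Additive] [G.Additive]
  [HasInjectiveResolutions C]

theorem isZero_biF (X : C) (p : ℕ) (hF : IsZero ((F.rightDerived p).obj X))
    (hG : IsZero ((G.rightDerived p).obj X)) : IsZero (((biF F G).rightDerived p).obj X) :=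
  isZero_mid (inlF F G) (sndF F G) (inlF_sndF F G) (fun Q _ => split_shortExact F G Q) X p hF hG

end biF

section MV

open Groth.Agent.Lib.Seat81.AW Groth.Agent.Lib.Seat81.Five Groth.Agent.Lib.Seat81.MV
open Groth.Agent.Lib.Seat81.DerRes Groth.Agent.Lib.Helper21 Groth.Agent.Lib.Helper23.QCohLocal

attribute [local instance] Groth.Agent.Lib.Helper23.QCohLocal.restrictFunctor_isRightAdjoint

variable {X S : Scheme.{u}} (f : X ⟶ S)

/-- higher direct images of a quasi-coherent module along an affine morphism vanish -/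
theorem isZero_Rpush_of_isAffineHom {Y : Scheme.{u}} (g : Y ⟶ S) [IsAffineHom g]
    [HasInjectiveResolutions Y.Modules] (N : Y.Modules) [N.IsQuasicoherent] (n : ℕ) (hn : 0 < n) :
    IsZero ((Coh.Rpush g n).obj N) := by
  apply RelExtSS.isZero_of_isZero_toAb
  obtain ⟨e⟩ := Groth.Agent.Lib.Helper23.ModAbBridge.nonempty_toAb_Rpush_iso g N n
  exact IsZero.of_iso (Groth.Agent.S0028.result g N n hn) e

/-- base case: `W` affine and `S` affine -/
theorem isZero_T_affine [IsAffine S] [HasInjectiveResolutions X.Modules] (W : X.Opens)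
    (hW : IsAffineOpen W) (M : X.Modules) [M.IsQuasicoherent] (p : ℕ) (hp : 0 < p) :
    IsZero (((T f W).rightDerived p).obj M) := by
  have : IsAffine (W : Scheme.{u}) := hW
  have := enoughInjectives (W : Scheme.{u})
  have : HasInjectiveResolutions (W : Scheme.{u}).Modules := inferInstance
  obtain ⟨e⟩ := nonempty_rightDerived_restrict_comp W (W.ι ≫ f) M p
  have h : IsZero ((Coh.Rpush (W.ι ≫ f) p).obj (M.restrict W.ι)) :=
    isZero_Rpush_of_isAffineHom (W.ι ≫ f) (M.restrict W.ι) p hp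
  exact IsZero.of_iso h (((DerPost.natIsoRightDerived (TIso f W) p).app M) ≪≫ e)

/-- Mayer-Vietoris step for vanishing -/
theorem isZero_T_sup_step [HasInjectiveResolutions X.Modules] (U V : X.Opens) (M : X.Modules) (p : ℕ)
    (hUV : IsZero (((T f (U ⊓ V)).rightDerived p).obj M))
    (hU : IsZero (((T f U).rightDerived (p + 1)).obj M))
    (hV : IsZero (((T f V).rightDerived (p + 1)).obj M)) :
    IsZero (((T f (U ⊔ V)).rightDerived (p + 1)).obj M) :=
  isZero_left_succ (mvα f U V) (mvβ f U V) (mv_zero f U V) (fun Q _ => mv_shortExact f U V Q) M p hUV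
    (isZero_biF _ _ M (p + 1) hU hV)

open Classical in
/-- **Mayer-Vietoris induction**: over an affine base, for a family `𝒜` of affine opens of `X` stable under binary
intersections, `R^p (f_* j_* j^*) M = 0` for quasi-coherent `M`, `j` the inclusion of a union of `n ≥ 1` members of
`𝒜`, and `p ≥ n`. -/
theorem isZero_T_sup [IsAffine S] [HasInjectiveResolutions X.Modules] (𝒜 : Set X.Opens)
    (h𝒜 : ∀ W ∈ 𝒜, IsAffineOpen W) (hinf : ∀ W ∈ 𝒜, ∀ W' ∈ 𝒜, W ⊓ W' ∈ 𝒜)
    (M : X.Modules) [M.IsQuasicoherent] :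
    ∀ (n : ℕ) (s : Finset X.Opens), s.Nonempty → (∀ W ∈ s, W ∈ 𝒜) → s.card ≤ n → ∀ p, n ≤ p →
      IsZero (((T f (s.sup id)).rightDerived p).obj M) := by
  intro n
  induction n with
  | zero =>
    intro s hs _ hc
    exact absurd (Finset.card_pos.2 hs) (by omega)
  | succ n ih =>
    intro s hs hsA hc p hp
    by_cases hc' : s.card ≤ n
    · exact ih s hs hsA hc' p (by omega)
    have hcard : s.card = n + 1 := by omega
    obtain ⟨W₀, hW₀⟩ := hs
    set s' := s.erase W₀ with hs'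
    have hcard' : s'.card = n := by
      rw [hs', Finset.card_erase_of_mem hW₀, hcard]
      rfl
    have hsup : s.sup id = s'.sup id ⊔ W₀ := by
      rw [← Finset.insert_erase hW₀, Finset.sup_insert, sup_comm]
      rfl
    obtain ⟨p', rfl⟩ : ∃ p', p = p' + 1 := ⟨p - 1, by omega⟩
    rcases Nat.eq_zero_or_pos n with hn0 | hnpos
    · -- `s = {W₀}`
      have hs'e : s' = ∅ := Finset.card_eq_zero.1 (by rw [hcard', hn0])
      rw [hsup, hs'e, Finset.sup_empty, bot_sup_eq]
      exact isZero_T_affine f W₀ (h𝒜 _ (hsA _ hW₀)) M (p' + 1) (Nat.succ_pos _)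
    · have hs'ne : s'.Nonempty := Finset.card_pos.1 (by rw [hcard']; exact hnpos)
      have hs'A : ∀ W ∈ s', W ∈ 𝒜 := fun W hW => hsA W (Finset.mem_of_mem_erase hW)
      rw [hsup]
      refine isZero_T_sup_step f _ _ M p' ?_ ?_ ?_
      · -- the intersection
        have hinfeq : s'.sup id ⊓ W₀ = (s'.image (fun W => W ⊓ W₀)).sup id := by
          rw [Finset.sup_inf_distrib_right, Finset.sup_image]
          rfl
        rw [hinfeq]
        refine ih _ (hs'ne.image _) ?_ (Finset.card_image_le.trans hcard'.le) p' (by omega)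
        intro W hW
        obtain ⟨W', hW', rfl⟩ := Finset.mem_image.1 hW
        exact hinf _ (hs'A _ hW') _ (hsA _ hW₀)
      · exact ih s' hs'ne hs'A hcard'.le (p' + 1) (by omega)
      · exact isZero_T_affine f W₀ (h𝒜 _ (hsA _ hW₀)) M (p' + 1) (Nat.succ_pos _)

/-- vanishing of higher direct images from a finite affine cover with affine intersections -/
theorem isZero_Rpush_of_finset_cover [IsAffine S] [HasInjectiveResolutions X.Modules] (𝒜 : Set X.Opens)
    (h𝒜 : ∀ W ∈ 𝒜, IsAffineOpen W) (hinf : ∀ W ∈ 𝒜, ∀ W' ∈ 𝒜, W ⊓ W' ∈ 𝒜)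
    (M : X.Modules) [M.IsQuasicoherent] (s : Finset X.Opens) (hs : s.Nonempty) (hsA : ∀ W ∈ s, W ∈ 𝒜)
    (hcov : s.sup id = ⊤) (p : ℕ) (hp : s.card ≤ p) :
    IsZero ((Coh.Rpush f p).obj M) := by
  have h := isZero_T_sup f 𝒜 h𝒜 hinf M s.card s hs hsA le_rfl p hp
  rw [hcov] at h
  exact IsZero.of_iso h ((DerPost.natIsoRightDerived (TTopIso f) p).app M)

end MV

section LES

open Groth.Agent.Lib.Seat5.LocCohQC

variable {U Y : Scheme.{u}} (j : U ⟶ Y) [IsOpenImmersion j]

attribute [local instance] Groth.Agent.Lib.Helper23.QCohLocal.restrictFunctor_isRightAdjoint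

/-- `R^{q+1} Γ_Z M = 0` as soon as `R^q j_* (M|_U) = 0` -/
theorem isZero_rightDerived_gammaZ_succ [HasInjectiveResolutions Y.Modules]
    [HasInjectiveResolutions U.Modules] (M : Y.Modules) (q : ℕ)
    (h : IsZero ((Coh.Rpush j q).obj ((restrictFunctor j).obj M))) :
    IsZero (((DCoh.gammaZ j).rightDerived (q + 1)).obj M) := by
  let I : InjectiveResolution M := injectiveResolution M
  let K := I.cocomplex
  let J := resolution j I
  have hS := shortExact_SC j K I.injective
  have h3 : IsZero ((X₃ j K).homology q) :=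
    IsZero.of_iso h (J.isoRightDerivedObj (pushforward j) q).symm
  have h2 : IsZero (K.homology (q + 1)) := (I.cocomplex_exactAt_succ q).isZero_homology
  have key : IsZero ((X₁ j K).homology (q + 1)) :=
    (hS.homology_exact₁ q (q + 1) rfl).isZero_of_both_zeros (h3.eq_of_src _ _) (h2.eq_of_tgt _ _)
  exact IsZero.of_iso key (I.isoRightDerivedObj (DCoh.gammaZ j) (q + 1))

end LES

section Local

variable {X : Scheme.{u}} (U : X.Opens)

/-- the complement of the zero locus, pointwise -/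
theorem mem_iff_exists_mem_basicOpen {V : X.Opens} (fs : Finset Γ(X, V))
    (hZ : X.zeroLocus (U := V) (↑fs : Set Γ(X, V)) ∩ (V : Set X) = (U : Set X)ᶜ ∩ (V : Set X))
    (y : X) (hy : y ∈ V) : y ∈ U ↔ ∃ a ∈ fs, y ∈ X.basicOpen a := by
  have h1 : y ∈ X.zeroLocus (U := V) (↑fs : Set Γ(X, V)) ↔ y ∉ U := by
    have h := Set.ext_iff.1 hZ y
    simp only [Set.mem_inter_iff, Set.mem_compl_iff, SetLike.mem_coe, hy, and_true] at h
    exact h
  rw [Scheme.mem_zeroLocus_iff] at h1
  constructor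
  · intro hU
    by_contra hcon
    exact (h1.1 (fun a ha hya => hcon ⟨a, ha, hya⟩)) hU
  · rintro ⟨a, ha, hya⟩
    by_contra hU
    exact (h1.2 hU) a ha hya

/-- we may assume the set of equations nonempty -/
theorem exists_nonempty_finset (c : ℕ) (hc : 0 < c) {V : X.Opens} (fs : Finset Γ(X, V)) (hcard : fs.card ≤ c)
    (hZ : X.zeroLocus (U := V) (↑fs : Set Γ(X, V)) ∩ (V : Set X) = (U : Set X)ᶜ ∩ (V : Set X)) :
    ∃ fs' : Finset Γ(X, V), fs'.Nonempty ∧ fs'.card ≤ c ∧
      ∀ y ∈ V, (y ∈ U ↔ ∃ a ∈ fs', y ∈ X.basicOpen a) := by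
  classical
  by_cases hne : fs.Nonempty
  · exact ⟨fs, hne, hcard, mem_iff_exists_mem_basicOpen U fs hZ⟩
  · rw [Finset.not_nonempty_iff_eq_empty] at hne
    refine ⟨{0}, Finset.singleton_nonempty _, by rw [Finset.card_singleton]; exact hc, fun y hy => ?_⟩
    have h := mem_iff_exists_mem_basicOpen U fs hZ y hy
    rw [h, hne]
    simp [Scheme.basicOpen_zero]

open Classical in
/-- local structure: `U ∩ V'` is a union of at most `c` affine opens -/
theorem exists_affine_finset (c : ℕ) (hc : 0 < c) {V : X.Opens} (fs : Finset Γ(X, V)) (hcard : fs.card ≤ c)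
    (hZ : X.zeroLocus (U := V) (↑fs : Set Γ(X, V)) ∩ (V : Set X) = (U : Set X)ᶜ ∩ (V : Set X))
    (V' : X.Opens) (hV' : IsAffineOpen V') (hle : V' ≤ V) :
    ∃ s : Finset ((U.ι ⁻¹ᵁ V' : U.toScheme.Opens) : Scheme.{u}).Opens,
      s.Nonempty ∧ (∀ W' ∈ s, IsAffineOpen W') ∧ s.sup id = ⊤ ∧ s.card ≤ c := by
  obtain ⟨fs', hne, hcard', hkey⟩ := exists_nonempty_finset U c hc fs hcard hZ
  let k : ((U.ι ⁻¹ᵁ V' : U.toScheme.Opens) : Scheme.{u}) ⟶ X := (U.ι ⁻¹ᵁ V').ι ≫ U.ι
  have hkV' : ∀ w, k w ∈ V' := fun w => w.2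
  have hkU : ∀ w, k w ∈ U := fun w => w.1.2
  let O : Γ(X, V) → X.Opens := fun a => X.basicOpen (X.presheaf.map (homOfLE hle).op a)
  have hO : ∀ a, O a = V' ⊓ X.basicOpen a := fun a => Scheme.basicOpen_res _ _ _
  have hOaff : ∀ a, IsAffineOpen (O a) := fun a => hV'.basicOpen _
  have hOle : ∀ a ∈ fs', O a ≤ k.opensRange := by
    intro a ha y hy
    rw [hO] at hy
    have hyU : y ∈ U := (hkey y (hle hy.1)).2 ⟨a, ha, hy.2⟩
    exact ⟨⟨⟨y, hyU⟩, hy.1⟩, rfl⟩
  refine ⟨fs'.image (fun a => k ⁻¹ᵁ O a), hne.image _, ?_, ?_, Finset.card_image_le.trans hcard'⟩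
  · intro W' hW'
    obtain ⟨a, ha, rfl⟩ := Finset.mem_image.1 hW'
    exact (hOaff a).preimage_of_isOpenImmersion k (hOle a ha)
  · rw [eq_top_iff]
    intro w _
    obtain ⟨a, ha, hya⟩ := (hkey (k w) (hle (hkV' w))).1 (hkU w)
    have hw : w ∈ k ⁻¹ᵁ O a := by
      change k w ∈ O a
      rw [hO]
      exact ⟨hkV' w, hya⟩
    have hle' : k ⁻¹ᵁ O a ≤ (fs'.image (fun a => k ⁻¹ᵁ O a)).sup id :=
      Finset.le_sup (f := id) (Finset.mem_image_of_mem _ ha)
    exact hle' hw

end Local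

section Main

open Groth.Agent.Lib.Seat81.DerRes Groth.Agent.Lib.Seat81.SecRpush Groth.Agent.Lib.Seat81
open Groth.Agent.Lib.Helper23.QCohLocal

attribute [local instance] Groth.Agent.Lib.Helper23.QCohLocal.restrictFunctor_isRightAdjoint

variable {X : Scheme.{u}} (U : X.Opens)

/-- cohomology of `U ∩ V'` vanishes in degrees `≥ c` -/
theorem subsingleton_HHon_of_finset (G : U.toScheme.Modules) [G.IsQuasicoherent]
    (V' : X.Opens) (hV' : IsAffineOpen V')
    (s : Finset ((U.ι ⁻¹ᵁ V' : U.toScheme.Opens) : Scheme.{u}).Opens)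
    (hs : s.Nonempty) (hsA : ∀ W' ∈ s, IsAffineOpen W') (hcov : s.sup id = ⊤) (p : ℕ) (hp : s.card ≤ p)
    [QuasiCompact U.ι] :
    Subsingleton (Coh.HHon U.toScheme G (U.ι ⁻¹ᵁ V') p) := by
  have : IsAffine (V' : Scheme.{u}) := hV'
  have := enoughInjectives ((U.ι ⁻¹ᵁ V' : U.toScheme.Opens) : Scheme.{u})
  have : HasInjectiveResolutions ((U.ι ⁻¹ᵁ V' : U.toScheme.Opens) : Scheme.{u}).Modules := inferInstance
  have hinf : ∀ W ∈ {W' : ((U.ι ⁻¹ᵁ V' : U.toScheme.Opens) : Scheme.{u}).Opens | IsAffineOpen W'},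
      ∀ W' ∈ {W' : ((U.ι ⁻¹ᵁ V' : U.toScheme.Opens) : Scheme.{u}).Opens | IsAffineOpen W'},
        W ⊓ W' ∈ {W' : ((U.ι ⁻¹ᵁ V' : U.toScheme.Opens) : Scheme.{u}).Opens | IsAffineOpen W'} := by
    intro W hW W' hW'
    have hd : IsAffineHom (pullback.diagonal (U.ι ∣_ V')) := inferInstance
    exact isAffineHom_diagonal_iff.mp hd ⊤ (isAffineOpen_top _) W (by simp) W' (by simp) hW hW'
  have hz : IsZero ((Coh.Rpush (U.ι ∣_ V') p).obj (G.restrict (U.ι ⁻¹ᵁ V').ι)) :=
    isZero_Rpush_of_finset_cover (U.ι ∣_ V') _ (fun _ h => h) hinf (G.restrict (U.ι ⁻¹ᵁ V').ι) s hs hsA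
      hcov p hp
  obtain ⟨e2⟩ := GammaPush.nonempty_HH_addEquiv (U.ι ∣_ V') (G.restrict (U.ι ⁻¹ᵁ V').ι) p
  obtain ⟨e3⟩ := Groth.Agent.Lib.Helper23.ModAbBridge.nonempty_toAb_Rpush_iso (U.ι ∣_ V')
    (G.restrict (U.ι ⁻¹ᵁ V').ι) p
  let a3 : Γ((Coh.Rpush (U.ι ∣_ V') p).obj (G.restrict (U.ι ⁻¹ᵁ V').ι), ⊤) ≃+
      ((Coh.RpushAb (U.ι ∣_ V') p).obj (Coh.toAb (G.restrict (U.ι ⁻¹ᵁ V').ι))).obj.obj (op ⊤) :=
    (((GammaDer.Γ (V' : Scheme.{u}).carrier).mapIso e3)).addCommGroupIsoToAddEquiv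
  have := subsingleton_sections_of_isZero _ hz ⊤
  exact (e2.trans a3.symm).toEquiv.subsingleton

/-- **Local cohomology sheaves vanish above the number of local equations of the closed set.** -/
theorem isZero_rightDerived_gammaZ_of_lt [HasInjectiveResolutions X.Modules]
    (c : ℕ) (hT : ∀ x : X, ∃ (V : X.Opens) (fs : Finset Γ(X, V)), x ∈ V ∧ fs.card ≤ c ∧
      X.zeroLocus (U := V) (↑fs : Set Γ(X, V)) ∩ (V : Set ↥X) = (U : Set ↥X)ᶜ ∩ (V : Set ↥X))
    (F : X.Modules) (hF : F.IsQuasicoherent) (i : ℕ) (hi : c < i) :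
    IsZero (((DCoh.gammaZ U.ι).rightDerived i).obj F) := by
  have := enoughInjectives U.toScheme
  have : HasInjectiveResolutions U.toScheme.Modules := inferInstance
  obtain ⟨p, rfl⟩ : ∃ p, i = p + 1 := ⟨i - 1, by omega⟩
  apply isZero_rightDerived_gammaZ_succ U.ι F p
  haveI : ((restrictFunctor U.ι).obj F).IsQuasicoherent := by
    haveI := hF
    infer_instance
  rcases Nat.eq_zero_or_pos c with hc0 | hcpos
  · -- `U` is empty
    have hempty : IsEmpty U.toScheme := by
      constructor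
      intro y
      obtain ⟨V, fs, hyV, hcard, hZ⟩ := hT y.1
      have hfs : fs = ∅ := Finset.card_eq_zero.1 (by omega)
      obtain ⟨a, ha, _⟩ := (mem_iff_exists_mem_basicOpen U fs hZ y.1 hyV).1 y.2
      rw [hfs] at ha
      exact absurd ha (Finset.notMem_empty a)
    have hG : IsZero ((restrictFunctor U.ι).obj F) :=
      Groth.Agent.Helper18Epi.isZero_of_subsingleton_stalk _ (fun x => (hempty.false x).elim)
    exact Functor.map_isZero _ hG
  · choose V fs hxV hcard hZ using hT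
    have haff : ∀ x : X, ∃ W : X.Opens, IsAffineOpen W ∧ x ∈ W ∧ W.1 ⊆ V x := fun x =>
      exists_isAffineOpen_mem_and_subset (hxV x)
    choose V' hV'aff hxV' hV'le using haff
    have hdata := fun x : X =>
      exists_affine_finset U c hcpos (fs x) (hcard x) (hZ x) (V' x) (hV'aff x) (hV'le x)
    choose s hs hsA hcov hscard using hdata
    have hcover : ⨆ x, V' x = ⊤ := by
      rw [eq_top_iff]
      intro x _
      exact Opens.mem_iSup.2 ⟨x, hxV' x⟩
    -- `U.ι` is quasi-compact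
    haveI : QuasiCompact U.ι := by
      refine HasAffineProperty.of_iSup_eq_top (P := @QuasiCompact)
        (fun x => (⟨V' x, hV'aff x⟩ : X.affineOpens)) hcover (fun x => ?_)
      change CompactSpace ((U.ι ⁻¹ᵁ V' x : U.toScheme.Opens) : Scheme.{u})
      rw [← isCompact_univ_iff]
      have hu : (Set.univ : Set ((U.ι ⁻¹ᵁ V' x : U.toScheme.Opens) : Scheme.{u})) =
          ⋃ W' ∈ s x, (W' : Set _) := by
        symm
        rw [Set.eq_univ_iff_forall]
        intro w
        have hw : w ∈ (s x).sup id := by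
          rw [hcov x]
          trivial
        rw [Finset.sup_eq_iSup] at hw
        obtain ⟨W', hw'⟩ := Opens.mem_iSup.1 hw
        obtain ⟨hW', hw''⟩ := Opens.mem_iSup.1 hw'
        exact Set.mem_biUnion hW' hw''
      rw [hu]
      exact (s x).isCompact_biUnion (fun W' hW' => (hsA x W' hW').isCompact)
    refine isZero_Rpush_of_affine_cover U.ι ((restrictFunctor U.ι).obj F) p V' hcover hV'aff (fun x => ?_)
    exact subsingleton_HHon_of_finset U _ (V' x) (hV'aff x) (s x) (hs x) (hsA x) (hcov x) p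
      ((hscard x).trans (by omega))

end Main

end Groth.Agent.Lib.Seat5.LocCohVanish
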