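import Mathlib
import Groth.Prelude.Def_PerfD
import Groth.Agent.Lib.Helper1Sky9
import Groth.Agent.Lib.Seat5PerfLocal
import Groth.Agent.Lib.Seat5EulerLocConst
import Groth.Agent.Lib.Seat5VBDeg
import Groth.Agent.Lib.Seat5ConcInd
set_option backward.isDefEq.respectTransparency.types false

/-!
# The open locus where a perfect object is a vector bundle of rank `r` in degree `i` (seat 5)

`exists_open_isVB`: for a perfect object `E` of `D(O_X)` there is an open `U ⊆ X` such that a morphism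
`f : Y ⟶ X` factors through `U` iff `Lf^* E` is a finite locally free module of rank `r` placed in
degree `i`.
-/

set_option autoImplicit false
set_option linter.style.haveILetI false

universe u

open CategoryTheory CategoryTheory.Limits AlgebraicGeometry Opposite

attribute [local instance] HasDerivedCategory.standard

namespace Groth.Agent.Lib.Seat5.LocFreeLocus

open Groth.Agent.Lib.Helper1.Sky Groth.Agent.Lib.Helper1.BKF Groth.Agent.Lib.Helper1.CI
  Groth.Agent.Lib.Helper2.LocFree Groth.Agent.Helper18Strict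
  Groth.Agent.Lib.Helper26.ModRank Groth.Agent.Lib.Helper20.LocFree
  Groth.Agent.Lib.Seat5.PointGamma Groth.Agent.Lib.Seat5.EulerLocConst
  Groth.Agent.Lib.Seat5.FibreUsc
  Groth.Agent.Lib.Seat5.LocFreeKer Groth.Agent.Lib.Seat5.VBDeg Groth.Agent.Lib.Seat5.ConcInd

/-- derived pullbacks compose, objectwise -/
theorem nonempty_lpull_comp_obj {A B C : Scheme.{u}} (f : A ⟶ B) (g : B ⟶ C) (h : A ⟶ C)
    (w : f ≫ g = h) [DCoh.HasLpull f] [DCoh.HasLpull g] [DCoh.HasLpull h] (D : DCoh.D C) :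
    Nonempty ((DCoh.Lpull f).obj ((DCoh.Lpull g).obj D) ≅ (DCoh.Lpull h).obj D) := by
  subst w
  obtain ⟨c⟩ := nonempty_lpull_comp_iso f g
  exact ⟨c.app D⟩

/-- a free module of rank `r` is finite locally free of rank `r` -/
theorem isFinLocFreeOfRank_of_iso_freeMod {Y : Scheme.{u}} {M : Y.Modules} {r : ℕ}
    (e : M ≅ FlatMod.freeMod Y r) : FlatMod.IsFinLocFreeOfRank r M := fun _ =>
  ⟨⊤, trivial, ⟨(Scheme.Modules.restrictFunctor (⊤ : Y.Opens).ι).mapIso e ≪≫ restrictFreeMod _ r⟩⟩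

variable {X : Scheme.{u}}

/-- **the local statement**: if the derived pullback of a perfect object `E` to a field-valued point
is a vector space of dimension `r` in degree `i`, then `E` is a vector bundle of rank `r` in degree
`i` on an open neighbourhood of the image point -/
theorem exists_good_nbhd (E : DCoh.D X) (hE : DCoh.IsPerfect E) (i : ℤ) (r : ℕ)
    {K : CommRingCat.{u}} (hK : IsField K) (s : Spec K ⟶ X) (pt : Spec K) [DCoh.HasLpull s]
    (h : IsVB i r ((DCoh.Lpull s).obj E)) :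
    ∃ (W : Scheme.{u}) (j : W ⟶ X) (_ : IsOpenImmersion j) (_ : DCoh.HasLpull j)
      (s' : Spec K ⟶ W), s' ≫ j = s ∧ IsVB i r ((DCoh.Lpull j).obj E) := by
  haveI := subsingleton_spec K hK
  have hY : ∀ U : (Spec K).Opens, (U : Set (Spec K)).Nonempty → U = ⊤ :=
    fun U hU => eq_top_of_nonempty U hU
  haveI : Nonempty (Spec K) := ⟨pt⟩
  obtain ⟨V₀, hzV₀, hV₀⟩ := hE (s pt)
  let F₀ : CochainComplex X.Modules ℤ := DerivedCategory.Q.objPreimage E
  let e₀ : DCoh.toD X F₀ ≅ E := DerivedCategory.Q.objObjPreimageIso E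
  obtain ⟨P, hP, ⟨eP⟩⟩ := hV₀ F₀ ⟨e₀⟩
  obtain ⟨⟨a₀, b₀, hv₀⟩, hfl⟩ := hP
  have hPK : KFFs P := kffs_of_isStrictlyPerfect P ⟨⟨a₀, b₀, hv₀⟩, hfl⟩
  -- the lift of the point
  let s₀ : Spec K ⟶ (V₀ : Scheme.{u}) := IsOpenImmersion.lift V₀.ι s (by
    rw [Scheme.Opens.range_ι]
    rintro _ ⟨y, rfl⟩
    rw [Subsingleton.elim y pt]
    exact hzV₀)
  have hs₀ : s₀ ≫ V₀.ι = s := IsOpenImmersion.lift_fac _ _ _
  haveI : DCoh.HasLpull V₀.ι := hasLpull _
  haveI : DCoh.HasLpull s₀ := hasLpull _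
  -- the fibre of `P`
  obtain ⟨c1⟩ := nonempty_lpull_comp_obj s₀ V₀.ι s hs₀ E
  let θ : (DCoh.Lpull s).obj E ≅ DCoh.toD _ ((pullC s₀).obj P) :=
    c1.symm ≪≫ (DCoh.Lpull s₀).mapIso
      ((DCoh.Lpull V₀.ι).mapIso e₀.symm ≪≫ lpullOpenIso V₀ F₀ ≪≫ eP) ≪≫ lpullIso s₀ P hPK
  obtain ⟨V', hV', ⟨eV'⟩⟩ := h
  -- exactness outside degree `i`
  have hfe : FibreExactOutside i P s₀ := by
    intro j hj
    rw [HomologicalComplex.exactAt_iff_isZero_homology]
    have e : ((pullC s₀).obj P).homology j ≅ DCoh.HD (sgD i V') j :=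
      ((DerivedCategory.homologyFunctorFactors _ j).app _).symm ≪≫
        (DerivedCategory.homologyFunctor _ j).mapIso (θ.symm ≪≫ eV')
    exact IsZero.of_iso (isZero_HD_sgD i j hj V') e
  -- the induction
  have hv : DCoh.VanishesOutside P (min a₀ i) (max b₀ i) := fun j hj =>
    hv₀ j (by rcases hj with hj | hj
              · exact Or.inl (lt_of_lt_of_le hj (min_le_left _ _))
              · exact Or.inr (lt_of_le_of_lt (le_max_left _ _) hj))
  obtain ⟨W, ι, hι, s', hs', V, hV, ⟨e⟩⟩ :=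
    locVB_of_fibreExact i (max b₀ i - min a₀ i).toNat V₀ P (min a₀ i) (max b₀ i)
      (min_le_right _ _) (le_max_right _ _) (by
        have : min a₀ i ≤ max b₀ i := le_trans (min_le_right _ _) (le_max_right _ _)
        omega) hv hfl K hK s₀ pt hfe
  haveI := hι
  haveI : DCoh.HasLpull ι := hasLpull _
  haveI : DCoh.HasLpull s' := hasLpull _
  haveI : V.IsQuasicoherent := isQCoh_of_isFP V (isFP_of_isFinLocFree V hV)
  -- `Lι^* (Q P) ≅ V` in degree `i`
  let eι : (DCoh.Lpull ι).obj (DCoh.toD _ P) ≅ sgD i V :=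
    lpullIso ι P hPK ≪≫ e ≪≫ (sgDIsoQ i V).symm
  -- the rank of `V` at the point
  obtain ⟨U₂, n, hwU₂, ⟨eU⟩⟩ := hV (s' pt)
  have hn : n = r := by
    obtain ⟨c2⟩ := nonempty_lpull_comp_obj s' ι s₀ hs' (DCoh.toD _ P)
    obtain ⟨c3⟩ := nonempty_lpull_sgD_iso s' i V hV
    let κ : sgD i ((Scheme.Modules.pullback s').obj V) ≅ sgD i V' :=
      c3.symm ≪≫ (DCoh.Lpull s').mapIso eι.symm ≪≫ c2 ≪≫ lpullIso s₀ P hPK ≪≫ θ.symm ≪≫ eV'
    let κ' : (Scheme.Modules.pullback s').obj V ≅ V' :=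
      (HDsgDIso i _).symm ≪≫ (DerivedCategory.homologyFunctor _ i).mapIso κ ≪≫ HDsgDIso i V'
    have h1 := (finite_and_finrank_pullback hY s' V hV eU pt hwU₂).2
    obtain ⟨U', hptU', ⟨e'⟩⟩ := hV' pt
    have h2 := (finite_and_finrank_of_restrict_iso hY V' e' pt hptU').2
    have h3 : Module.finrank (Coh.Γtop (Spec K))
        ((ΓT (Spec K)).obj ((Scheme.Modules.pullback s').obj V)) =
        Module.finrank (Coh.Γtop (Spec K)) ((ΓT (Spec K)).obj V') :=
      ((ΓT (Spec K)).mapIso κ').toLinearEquiv.finrank_eq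
    exact h1.symm.trans (h3.trans h2)
  subst hn
  -- the neighbourhood
  let j : ((U₂ : W.Opens) : Scheme.{u}) ⟶ X := U₂.ι ≫ ι ≫ V₀.ι
  haveI : DCoh.HasLpull j := hasLpull _
  haveI : DCoh.HasLpull U₂.ι := hasLpull _
  haveI : DCoh.HasLpull (U₂.ι ≫ ι) := hasLpull _
  let s'' : Spec K ⟶ ((U₂ : W.Opens) : Scheme.{u}) := IsOpenImmersion.lift U₂.ι s' (by
    rw [Scheme.Opens.range_ι]
    rintro _ ⟨y, rfl⟩
    rw [Subsingleton.elim y pt]
    exact hwU₂)
  have hs'' : s'' ≫ U₂.ι = s' := IsOpenImmersion.lift_fac _ _ _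
  refine ⟨_, j, inferInstance, inferInstance, s'', ?_, ?_⟩
  · show s'' ≫ U₂.ι ≫ ι ≫ V₀.ι = s
    rw [← Category.assoc, hs'', ← Category.assoc, hs', hs₀]
  · obtain ⟨d1⟩ := nonempty_lpull_comp_obj (U₂.ι ≫ ι) V₀.ι j (Category.assoc _ _ _) E
    obtain ⟨d2⟩ := nonempty_lpull_comp_obj U₂.ι ι (U₂.ι ≫ ι) rfl (DCoh.toD _ P)
    obtain ⟨d3⟩ := nonempty_lpull_sgD_iso U₂.ι i V hV
    have hrank : FlatMod.IsFinLocFreeOfRank n ((Scheme.Modules.pullback U₂.ι).obj V) :=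
      isFinLocFreeOfRank_of_iso_freeMod
        (((Scheme.Modules.restrictFunctorIsoPullback U₂.ι).app V).symm ≪≫ eU)
    refine ⟨_, hrank, ⟨?_⟩⟩
    exact d1.symm ≪≫ (DCoh.Lpull (U₂.ι ≫ ι)).mapIso
        ((DCoh.Lpull V₀.ι).mapIso e₀.symm ≪≫ lpullOpenIso V₀ F₀ ≪≫ eP) ≪≫
      d2.symm ≪≫ (DCoh.Lpull U₂.ι).mapIso eι ≪≫ d3

/-- **S1064**: the open locus where a perfect object is a vector bundle of rank `r` in degree `i` -/
theorem exists_open_isVB (E : DCoh.D X) (hE : DCoh.IsPerfect E) (i : ℤ) (r : ℕ) :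
    ∃ U : X.Opens, ∀ (Y : Scheme.{u}) (f : Y ⟶ X) [DCoh.HasLpull f],
      Set.range f.base ⊆ (U : Set X) ↔ IsVB i r ((DCoh.Lpull f).obj E) := by
  let S : Set X := {x | ∃ (W : Scheme.{u}) (j : W ⟶ X) (_ : IsOpenImmersion j)
    (_ : DCoh.HasLpull j), x ∈ Set.range j ∧ IsVB i r ((DCoh.Lpull j).obj E)}
  have hS : IsOpen S := by
    rw [isOpen_iff_forall_mem_open]
    rintro x ⟨W, j, hj, hL, hx, hVB⟩
    exact ⟨Set.range j, fun x' hx' => ⟨W, j, hj, hL, hx', hVB⟩, j.isOpenEmbedding.isOpen_range, hx⟩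
  refine ⟨⟨S, hS⟩, fun Y f _ => ⟨fun hf => ?_, fun hVB => ?_⟩⟩
  · -- the pullback is locally a vector bundle
    refine isVB_of_cover i r _ (fun y => ?_)
    obtain ⟨W, j, hj, hL, ⟨w, hw⟩, hVB⟩ := hf ⟨y, rfl⟩
    let Y' : Y.Opens := f ⁻¹ᵁ j.opensRange
    have hyY' : y ∈ Y' := ⟨w, hw⟩
    let f' : (Y' : Scheme.{u}) ⟶ W := IsOpenImmersion.lift j (Y'.ι ≫ f) (by
      rintro _ ⟨y', rfl⟩
      exact y'.2)
    have hf' : f' ≫ j = Y'.ι ≫ f := IsOpenImmersion.lift_fac _ _ _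
    haveI : DCoh.HasLpull Y'.ι := hasLpull _
    haveI : DCoh.HasLpull f' := hasLpull _
    haveI : DCoh.HasLpull (Y'.ι ≫ f) := hasLpull _
    refine ⟨Y', inferInstance, hyY', ?_⟩
    obtain ⟨c1⟩ := nonempty_lpull_comp_obj Y'.ι f (Y'.ι ≫ f) rfl E
    obtain ⟨c2⟩ := nonempty_lpull_comp_obj f' j (Y'.ι ≫ f) hf' E
    exact isVB_of_iso (c2 ≪≫ c1.symm) (isVB_lpull f' hVB)
  · -- points of the image are good
    rintro _ ⟨y, rfl⟩
    let K : CommRingCat.{u} := Y.residueField y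
    have hK : IsField K := Field.toIsField _
    let t : Spec K ⟶ Y := Y.fromSpecResidueField y
    let pt : Spec K := default
    haveI : DCoh.HasLpull t := hasLpull _
    haveI : DCoh.HasLpull (t ≫ f) := hasLpull _
    obtain ⟨c1⟩ := nonempty_lpull_comp_obj t f (t ≫ f) rfl E
    have hVB' : IsVB i r ((DCoh.Lpull (t ≫ f)).obj E) := isVB_of_iso c1 (isVB_lpull t hVB)
    obtain ⟨W, j, hj, hL, s', hs', hW⟩ := exists_good_nbhd E hE i r hK (t ≫ f) pt hVB'
    refine ⟨W, j, hj, hL, ⟨s' pt, ?_⟩, hW⟩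
    have h1 : (s' ≫ j) pt = (t ≫ f) pt := by rw [hs']
    have h2 : t pt = y := Scheme.fromSpecResidueField_apply y pt
    calc j (s' pt) = (s' ≫ j) pt := rfl
      _ = (t ≫ f) pt := h1
      _ = f (t pt) := rfl
      _ = f y := by rw [h2]

end Groth.Agent.Lib.Seat5.LocFreeLocus
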