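import Groth.Agent.Lib.Helper17PCoh17
import Groth.Prelude.Def_DRing2
set_option backward.isDefEq.respectTransparency.types false

/-!
# Pseudo-coherence over a finite free algebra (seat 5)

Namespace `Groth.Agent.Lib.Seat5.PCFinFree`.

* `FF R` : the object property "finite free" on `ModuleCat R` (`R` any ring), with
  `hsum`, `isQuasiLiftable`, `isQuasiStable` : the three hypotheses of helper17's abstract
  pseudo-coherence library (`PCoh`).
* `isOfFiniteType_iff_finite`.
* for a ring map `A → R` making `R` a finite free `A`-module: `ff_res`, `isOfFiniteType_of_res`,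
  `isZero_of_res`, `resHomologyIso`.
* `isNPC_of_res` : if the restriction of scalars of `Q K` is `n'`-pseudo-coherent over `A` for all `n'`
  and `K` is acyclic above `n + k`, then `Q K` is `n`-pseudo-coherent over `R`.
* `exists_finiteFree_of_res` : the statement of S1047.
-/

set_option autoImplicit false
set_option linter.style.haveILetI false

universe u

open CategoryTheory CategoryTheory.Limits

namespace Groth.Agent.Lib.Seat5.PCFinFree

open Groth.Agent.Lib.Helper17.PCoh8 Groth.Agent.Lib.Helper17.PCoh10 Groth.Agent.Lib.Helper17.PCoh12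
  Groth.Agent.Lib.Helper17.PCoh13 Groth.Agent.Lib.Helper17.PCoh14 Groth.Agent.Lib.Helper17.PCoh16
  Groth.Agent.Lib.Helper17.PCoh17

attribute [local instance] HasDerivedCategory.standard

section FinFree

variable (R : Type u) [Ring R]

/-- finite free modules -/
def FF : ObjectProperty (ModuleCat.{u} R) := fun M => Module.Finite R M ∧ Module.Free R M

instance : (FF R).IsClosedUnderIsomorphisms where
  of_iso {M N} e h := by
    obtain ⟨h1, h2⟩ := h
    exact ⟨Module.Finite.equiv e.toLinearEquiv, Module.Free.of_equiv e.toLinearEquiv⟩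

instance : (FF R).ContainsZero where
  exists_zero := ⟨ModuleCat.of R PUnit, ModuleCat.isZero_of_subsingleton _,
    ⟨inferInstance, inferInstance⟩⟩

theorem ff_of (M : Type u) [AddCommGroup M] [Module R M] [Module.Finite R M] [Module.Free R M] :
    FF R (ModuleCat.of R M) := ⟨inferInstance, inferInstance⟩

theorem hsum : ∀ X Y : ModuleCat.{u} R, FF R X → FF R Y → FF R (X ⨯ Y) := by
  intro X Y hX hY
  obtain ⟨hX1, hX2⟩ := hX
  obtain ⟨hY1, hY2⟩ := hY
  have h : FF R (ModuleCat.of R (X × Y)) := ⟨inferInstance, inferInstance⟩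
  exact (FF R).prop_of_iso
    ((ModuleCat.biprodIsoProd X Y).symm ≪≫ (biprod.isoProd X Y)) h

theorem isQuasiLiftable : PCoh.IsQuasiLiftable (FF R) := by
  intro E F u hu hF
  obtain ⟨hF1, hF2⟩ := hF
  haveI : Module.Free R F := hF2
  haveI : Module.Projective R F := Module.Projective.of_free
  have hsurj : Function.Surjective u.hom := (ModuleCat.epi_iff_surjective u).1 hu
  obtain ⟨s, hs⟩ := Module.projective_lifting_property u.hom LinearMap.id hsurj
  refine ⟨F, ModuleCat.ofHom s, ⟨hF1, hF2⟩, ?_⟩
  have : ModuleCat.ofHom s ≫ u = 𝟙 F := by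
    ext x
    exact LinearMap.congr_fun hs x
  rw [this]
  infer_instance

/-- finitely generated modules are of finite type -/
theorem isOfFiniteType_of_finite (M : ModuleCat.{u} R) [Module.Finite R M] :
    PCoh.IsOfFiniteType (FF R) M := by
  obtain ⟨n, f, hf⟩ := Module.Finite.exists_fin' R M
  refine ⟨ModuleCat.of R (Fin n → R), ModuleCat.ofHom f, ⟨inferInstance, inferInstance⟩, ?_⟩
  exact (ModuleCat.epi_iff_surjective _).2 hf

theorem finite_of_isOfFiniteType (M : ModuleCat.{u} R) (h : PCoh.IsOfFiniteType (FF R) M) :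
    Module.Finite R M := by
  obtain ⟨E, π, ⟨hE1, hE2⟩, hπ⟩ := h
  exact Module.Finite.of_surjective π.hom ((ModuleCat.epi_iff_surjective π).1 hπ)

theorem isQuasiStable : PCoh.IsQuasiStableUnderKernels (FF R) := by
  intro K hex hbd hK
  obtain ⟨n, hz⟩ := hbd
  have key : ∀ d : ℕ, ∀ i : ℕ, 1 ≤ i → n + 1 ≤ i + d →
      Module.Finite R (Z K i : ModuleCat.{u} R) ∧ Module.Projective R (Z K i : ModuleCat.{u} R) := by
    intro d
    induction d with
    | zero =>
      intro i hi hid
      have h0 : IsZero (Z K i) := IsZero.of_mono (kernel.ι _) (hz i (by omega))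
      haveI : Subsingleton (Z K i : ModuleCat.{u} R) := ModuleCat.subsingleton_of_isZero h0
      exact ⟨inferInstance, inferInstance⟩
    | succ d ih =>
      intro i hi hid
      obtain ⟨hfin, hproj⟩ := ih (i + 1) (by omega) (by omega)
      haveI : Module.Projective R ((zS K i).X₃ : ModuleCat.{u} R) := hproj
      have hS := zS_shortExact K i (hex _)
      obtain ⟨hKi1, hKi2⟩ := hK i hi
      have hsurj : Function.Surjective (zS K i).g.hom :=
        (ModuleCat.epi_iff_surjective _).1 hS.epi_g
      obtain ⟨s, hs⟩ := Module.projective_lifting_property (zS K i).g.hom LinearMap.id hsurj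
      have hsg : ModuleCat.ofHom s ≫ (zS K i).g = 𝟙 _ := by
        ext x
        exact LinearMap.congr_fun hs x
      haveI := hS.mono_f
      let sp := ShortComplex.Splitting.ofExactOfSection (zS K i) hS.exact (ModuleCat.ofHom s) hsg
        hS.mono_f
      have hfr : (zS K i).f ≫ sp.r = 𝟙 _ := sp.f_r
      have hfr' : sp.r.hom ∘ₗ (zS K i).f.hom = LinearMap.id := by
        have h2 := congrArg ModuleCat.Hom.hom hfr
        rw [ModuleCat.hom_comp, ModuleCat.hom_id] at h2
        exact h2
      have hrsurj : Function.Surjective sp.r.hom := fun x =>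
        ⟨(zS K i).f.hom x, LinearMap.congr_fun hfr' x⟩
      haveI : Module.Finite R ((zS K i).X₂ : ModuleCat.{u} R) := hKi1
      haveI : Module.Free R ((zS K i).X₂ : ModuleCat.{u} R) := hKi2
      haveI : Module.Projective R ((zS K i).X₂ : ModuleCat.{u} R) := Module.Projective.of_free
      refine ⟨Module.Finite.of_surjective sp.r.hom hrsurj, ?_⟩
      exact Module.Projective.of_split (zS K i).f.hom sp.r.hom hfr'
  obtain ⟨hZ1, -⟩ := key n 1 le_rfl (by omega)
  have hmono : Mono (K.d 0 1) := by
    have h := hex 0
    rw [K.exactAt_iff' 0 0 1 (by simp) (by simp)] at h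
    exact (ShortComplex.exact_iff_mono _ (K.shape _ _ (by simp))).1 h
  have hm : Mono (toZ K 0) := by
    have : Mono (toZ K 0 ≫ kernel.ι (K.d (0 + 1) (0 + 1 + 1))) := by
      rw [toZ_ι]; exact hmono
    exact mono_of_mono _ (kernel.ι (K.d (0 + 1) (0 + 1 + 1)))
  have he : Epi (toZ K 0) := epi_toZ K 0 (hex _)
  have hiso : IsIso (toZ K 0) := isIso_of_mono_of_epi _
  haveI : Module.Finite R (Z K (0 + 1) : ModuleCat.{u} R) := hZ1
  haveI : Module.Finite R (K.X 0) :=
    Module.Finite.equiv (asIso (toZ K 0)).symm.toLinearEquiv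
  exact isOfFiniteType_of_finite R (K.X 0)

end FinFree

section Single

variable {C : Type*} [Category C] [Abelian C] (P : ObjectProperty C) [P.IsClosedUnderIsomorphisms]
  [P.ContainsZero]

/-- an object of `P` placed in a single degree is strictly `m`-pseudo-coherent for all `m` -/
theorem isStrictPC_single' (m b : ℤ) {L : C} (hL : P L) :
    PCoh.IsStrictPC P m ((HomologicalComplex.single C (ComplexShape.up ℤ) b).obj L) := by
  refine ⟨⟨b, fun i hi => HomologicalComplex.isZero_single_obj_X _ _ _ _ (by omega)⟩,
    fun i _ => ?_⟩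
  by_cases h : i = b
  · subst h
    exact P.prop_of_iso (HomologicalComplex.singleObjXSelf (ComplexShape.up ℤ) i L).symm hL
  · exact P.prop_of_isZero (HomologicalComplex.isZero_single_obj_X _ _ _ _ h)

end Single

section Res

variable (A : Type u) [CommRing A] (R : Type u) [Ring R] [Algebra A R]
  [Module.Finite A R] [Module.Free A R]

/-- restriction of scalars -/
noncomputable abbrev res : ModuleCat.{u} R ⥤ ModuleCat.{u} A :=
  ModuleCat.restrictScalars.{u} (algebraMap A R)

theorem ff_res (L : ModuleCat.{u} R) (hL : FF R L) : FF A ((res A R).obj L) := by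
  obtain ⟨h1, h2⟩ := hL
  letI : Module A L := Module.compHom L (algebraMap A R)
  haveI : IsScalarTower A R L := ⟨fun a r x => by
    show (a • r) • x = (algebraMap A R a) • (r • x)
    rw [Algebra.smul_def, mul_smul]⟩
  have f1 : Module.Finite A L := Module.Finite.trans R L
  have f2 : Module.Free A L := Module.Free.trans (R := A) (S := R) (M := L)
  exact ⟨f1, f2⟩

omit [Module.Finite A R] [Module.Free A R] in
theorem isOfFiniteType_of_res (H : ModuleCat.{u} R)
    (h : PCoh.IsOfFiniteType (FF A) ((res A R).obj H)) : PCoh.IsOfFiniteType (FF R) H := by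
  have hfin : Module.Finite A ((res A R).obj H) := finite_of_isOfFiniteType A _ h
  letI : Module A H := Module.compHom H (algebraMap A R)
  haveI : IsScalarTower A R H := ⟨fun a r x => by
    show (a • r) • x = (algebraMap A R a) • (r • x)
    rw [Algebra.smul_def, mul_smul]⟩
  have hfin' : Module.Finite A H := hfin
  haveI : Module.Finite R H := Module.Finite.of_restrictScalars_finite A R H
  exact isOfFiniteType_of_finite R H

omit [Module.Finite A R] [Module.Free A R] in
theorem isZero_of_res (H : ModuleCat.{u} R) (h : IsZero ((res A R).obj H)) : IsZero H := by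
  have : Subsingleton ((res A R).obj H) := ModuleCat.subsingleton_of_isZero h
  have : Subsingleton H := this
  exact ModuleCat.isZero_of_subsingleton H

end Res

section Derived

variable (A : Type u) [CommRing A] (R : Type u) [Ring R] [Algebra A R]
  [Module.Finite A R] [Module.Free A R]
  [PreservesFiniteLimits (ModuleCat.restrictScalars.{u} (algebraMap A R))]
  [PreservesFiniteColimits (ModuleCat.restrictScalars.{u} (algebraMap A R))]

/-- restriction of scalars on derived categories -/
noncomputable abbrev resD :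
    DerivedCategory (ModuleCat.{u} R) ⥤ DerivedCategory (ModuleCat.{u} A) :=
  (res A R).mapDerivedCategory

/-- the cohomology of the restriction of scalars -/
noncomputable def resHomologyIso (K : CochainComplex (ModuleCat.{u} R) ℤ) (i : ℤ) :
    (DerivedCategory.homologyFunctor (ModuleCat.{u} A) i).obj
      ((resD A R).obj (DerivedCategory.Q.obj K)) ≅ (res A R).obj (K.homology i) :=
  (DerivedCategory.homologyFunctor (ModuleCat.{u} A) i).mapIso
      ((res A R).mapDerivedCategoryFactors.app K) ≪≫
    homologyIsoQ _ i ≪≫ (K.sc i).mapHomologyIso (res A R)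

/-- the top cohomology is of finite type over `R` -/
theorem isOfFiniteType_top (K : CochainComplex (ModuleCat.{u} R) ℤ) (m : ℤ)
    (h : IsNPC (FF A) m ((resD A R).obj (DerivedCategory.Q.obj K)))
    (hac : ∀ i : ℤ, m < i → IsZero (K.homology i)) :
    PCoh.IsOfFiniteType (FF R) (K.homology m) := by
  have h1 := isOfFiniteType_homology_of_isNPC (FF A) (isQuasiStable A) m _ h (fun i hi =>
    ((res A R).map_isZero (hac i hi)).of_iso (resHomologyIso A R K i))
  exact isOfFiniteType_of_res A R _
    (Groth.Agent.Lib.Helper17.PCoh1.isOfFiniteType_of_epi (FF A) (resHomologyIso A R K m).hom h1)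

/-- the restriction of a finite free module placed in one degree -/
theorem isNPC_res_single (L : ModuleCat.{u} R) (hL : FF R L) (b m : ℤ) :
    IsNPC (FF A) m ((resD A R).obj (DerivedCategory.Q.obj
      ((HomologicalComplex.single (ModuleCat.{u} R) (ComplexShape.up ℤ) b).obj L))) := by
  refine ⟨(HomologicalComplex.single (ModuleCat.{u} A) (ComplexShape.up ℤ) b).obj
    ((res A R).obj L), isStrictPC_single' (FF A) m b (ff_res A R L hL), ⟨?_⟩⟩
  exact (DerivedCategory.Q.mapIso
    ((HomologicalComplex.singleMapHomologicalComplex (res A R) (ComplexShape.up ℤ) b).app L)).symm ≪≫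
    ((res A R).mapDerivedCategoryFactors.app _).symm

theorem isNPC_of_res (n : ℤ) (k : ℕ) : ∀ (K : CochainComplex (ModuleCat.{u} R) ℤ),
    (∀ n' : ℤ, IsNPC (FF A) n' ((resD A R).obj (DerivedCategory.Q.obj K))) →
    (∀ i : ℤ, n + k < i → IsZero (K.homology i)) →
    IsNPC (FF R) n (DerivedCategory.Q.obj K) := by
  induction k with
  | zero =>
    intro K hA hac
    have hac' : ∀ i : ℤ, n < i → IsZero (K.homology i) := fun i hi => hac i (by simpa using hi)
    have hft := isOfFiniteType_top A R K n (hA n) hac'
    refine isNPC_of_isOfFiniteType_homology (FF R) (isQuasiLiftable R) n _ ?_ ?_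
    · intro i hi
      exact (hac' i hi).of_iso (homologyIsoQ K i)
    · exact Groth.Agent.Lib.Helper17.PCoh1.isOfFiniteType_of_epi (FF R) (homologyIsoQ K n).inv hft
  | succ k ih =>
    intro K hA hac
    have hac' : ∀ i : ℤ, n + k + 1 < i → IsZero (K.homology i) := fun i hi =>
      hac i (by push_cast; omega)
    have hft := isOfFiniteType_top A R K (n + k + 1) (hA _) hac'
    obtain ⟨L, z, hL, hz⟩ := exists_cycle_lift (FF R) (isQuasiLiftable R) K (n + k + 1) hft
    have hζ : IsNQuasiIso (n + k + 1) (cycleMap z) := by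
      refine ⟨fun i hi => ?_, epi_homologyMap_cycleMap z hz⟩
      have h1 : IsZero (((HomologicalComplex.single (ModuleCat.{u} R) (ComplexShape.up ℤ)
          (n + k + 1)).obj L).homology i) :=
        HomologicalComplex.isZero_single_obj_homology _ _ _ _ (by omega)
      exact ⟨0, h1.eq_of_src _ _, (hac' i hi).eq_of_src _ _⟩
    have hCac : ∀ i : ℤ, n + k < i →
        IsZero ((CochainComplex.mappingCone (cycleMap z)).homology i) := fun i hi =>
      isZero_homology_mappingCone (cycleMap z) (n + k + 1) hζ i (by omega)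
    have hT := DerivedCategory.mappingCone_triangle_distinguished (cycleMap z)
    have hCA : ∀ n' : ℤ, IsNPC (FF A) n'
        ((resD A R).obj (DerivedCategory.Q.obj (CochainComplex.mappingCone (cycleMap z)))) := by
      intro n'
      have hT' := (resD A R).map_distinguished _ hT
      exact isNPC_obj₃ (FF A) (hsum A) (isQuasiStable A) (isQuasiLiftable A) n' _ hT'
        (isNPC_res_single A R L hL _ _) (hA n')
    have hC := ih (CochainComplex.mappingCone (cycleMap z)) hCA hCac
    exact isNPC_obj₂ (FF R) (hsum R) (isQuasiStable R) (isQuasiLiftable R) n _ hT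
      ⟨_, isStrictPC_single' (FF R) n (n + k + 1) hL, ⟨Iso.refl _⟩⟩ hC

/-- S1047: if the restriction of scalars of `M ∈ D(R)` to `A` is pseudo-coherent, and `R` is a finite
free `A`-module, then `M` is represented by a bounded above complex of finite free `R`-modules. -/
theorem exists_finiteFree_of_res (M : DerivedCategory (ModuleCat.{u} R))
    (hM : DRing.IsPseudoCoherent' A ((resD A R).obj M)) :
    ∃ (F : CochainComplex (ModuleCat.{u} R) ℤ) (b : ℤ), (∀ i : ℤ, b < i → IsZero (F.X i)) ∧
      (∀ i : ℤ, Module.Finite R (F.X i) ∧ Module.Free R (F.X i)) ∧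
      Nonempty (DerivedCategory.Q.obj F ≅ M) := by
  obtain ⟨E, b, hvan, hff, ⟨e⟩⟩ := hM
  let K := (DerivedCategory.Q (C := ModuleCat.{u} R)).objPreimage M
  let eK : DerivedCategory.Q.obj K ≅ M := (DerivedCategory.Q (C := ModuleCat.{u} R)).objObjPreimageIso M
  have hA : ∀ n' : ℤ, IsNPC (FF A) n' ((resD A R).obj (DerivedCategory.Q.obj K)) := fun n' =>
    ⟨E, ⟨⟨b, hvan⟩, fun i _ => hff i⟩, ⟨e ≪≫ (resD A R).mapIso eK.symm⟩⟩
  have hac : ∀ i : ℤ, b < i → IsZero (K.homology i) := by
    intro i hi
    apply isZero_of_res A R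
    have h1 : IsZero (E.homology i) := isZero_homology_of_isZero_X E i (hvan i hi)
    exact h1.of_iso ((resHomologyIso A R K i).symm ≪≫
      (DerivedCategory.homologyFunctor (ModuleCat.{u} A) i).mapIso
        ((resD A R).mapIso eK ≪≫ e.symm) ≪≫ homologyIsoQ E i)
  have hPC : PCoh.IsPC (FF R) (DerivedCategory.Q.obj K) := fun n =>
    isNPC_of_res A R n (b - n).toNat K hA (fun i hi => hac i (by
      have := Int.self_le_toNat (b - n)
      omega))
  obtain ⟨E', hP, hz, ⟨e'⟩⟩ := exists_allTerms_iso (FF R) (hsum R) (isQuasiStable R)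
    (isQuasiLiftable R) (b + 1) (DerivedCategory.Q.obj K) hPC
    (fun i hi => (hac i (by omega)).of_iso (homologyIsoQ K i))
  exact ⟨E', b, fun i hi => hz i (by omega), hP, ⟨e' ≪≫ eK⟩⟩

end Derived

end Groth.Agent.Lib.Seat5.PCFinFree
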