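import Mathlib
import Groth.Agent.S12229
import Groth.Agent.Lib.Helper23SS3
import Groth.Agent.Lib.Helper23Adapted
import Groth.Agent.Lib.Seat81Five

/-!
# A way-out lemma for right derived functors on `D⁺` (helper5)

Namespace `Groth.Agent.Lib.Seat5.WayOut`.

`F : C ⥤ D` is a left exact additive functor between abelian categories, `C` with enough injectives.
For a bounded below complex `K` we write `RH F i K = H^i(RF(K))`.

* `nonempty_RH_iso_of_injective`: `RH F i J ≅ H^i(F J)` for a bounded below complex of injectives.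
* `isIso_RH_map`: `RH F i` inverts quasi-isomorphisms.
* `exists_resolution_iso`, `isZero_RH_of_lt`.
* `nonempty_RH_shift`: `RH F i (K⟦n⟧) ≅ RH F (n + i) K`.
* `nonempty_RH_single`, `isZero_RH_single`: `RH F (a + q) (M[-a]) ≅ R^q F (M)`.
* `wayout`: if `R^q F` sends a class `P` of objects of `C` into a class `Q` of objects of `D` closed under kernels,
  cokernels and extensions, then `H^i(RF(K)) ∈ Q` for every bounded below complex `K` with cohomology in `P`.
* `wayout_plus`: the same for objects of `D⁺(C)`.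
-/

set_option backward.isDefEq.respectTransparency.types false
set_option autoImplicit false
set_option linter.style.haveILetI false
universe w w' v v' u u'
open CategoryTheory CategoryTheory.Limits

namespace Groth.Agent.Lib.Seat5.WayOut

open Groth.Agent.S12229

noncomputable section

variable {C : Type u} [Category.{v} C] [Abelian C] [HasDerivedCategory.{w} C] [EnoughInjectives C]
  {D : Type u'} [Category.{v'} D] [Abelian D] [HasDerivedCategory.{w'} D]
  (F : C ⥤ D) [F.Additive]

/-- `K ↦ H^i(RF(K))` on bounded below complexes (the functor `Φ` of `S12229.result`) -/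
abbrev RH (i : ℤ) : CochainComplex.Plus C ⥤ D :=
  HomotopyCategory.Plus.quotient C ⋙ DerivedCategory.Plus.Qh ⋙ F.rightDerivedFunctorPlus ⋙
    DerivedCategory.Plus.ι ⋙ DerivedCategory.homologyFunctor D i

/-- a strictly bounded below complex as an object of `CochainComplex.Plus` -/
abbrev mk (K : CochainComplex C ℤ) (a : ℤ) [hK : K.IsStrictlyGE a] : CochainComplex.Plus C :=
  ⟨K, a, hK⟩

/-- a morphism of complexes as a morphism of `CochainComplex.Plus` -/
abbrev mkHom {K L : CochainComplex C ℤ} (f : K ⟶ L) (a b : ℤ) [K.IsStrictlyGE a] [L.IsStrictlyGE b] :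
    mk K a ⟶ mk L b :=
  ObjectProperty.homMk f

theorem nonempty_RH_iso_of_injective (J : CochainComplex C ℤ) (d : ℤ) [hJ : J.IsStrictlyGE d]
    (hinj : ∀ k, Injective (J.X k)) (i : ℤ) :
    Nonempty ((RH F i).obj (mk J d) ≅
      ((F.mapHomologicalComplex (ComplexShape.up ℤ)).obj J).homology i) := by
  have := isIso_τ F J d hJ hinj
  exact ⟨((DerivedCategory.homologyFunctor D i).mapIso (asIso (τ F (mk J d)))).symm ≪≫
    (DerivedCategory.homologyFunctorFactors D i).app _⟩

theorem isIso_RH_map {K L : CochainComplex.Plus C} (q : K ⟶ L) (hq : QuasiIso q.hom) (i : ℤ) :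
    IsIso ((RH F i).map q) := by
  have := isIso_Qh_map q hq
  dsimp [RH]
  infer_instance

/-- an iso of complexes induces an iso on `RH` -/
theorem nonempty_RH_iso_of_iso {K L : CochainComplex C ℤ} (e : K ≅ L) (a b : ℤ) [K.IsStrictlyGE a]
    [L.IsStrictlyGE b] (i : ℤ) : Nonempty ((RH F i).obj (mk K a) ≅ (RH F i).obj (mk L b)) := by
  haveI : QuasiIso (mkHom e.hom a b).hom := by
    change QuasiIso e.hom
    infer_instance
  haveI := isIso_RH_map F (mkHom e.hom a b) inferInstance i
  exact ⟨asIso ((RH F i).map (mkHom e.hom a b))⟩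

open CochainComplex.Plus.modelCategoryQuillen in
/-- `RH` is computed by an injective resolution in the same degrees -/
theorem exists_resolution_iso (K : CochainComplex C ℤ) (a : ℤ) [K.IsStrictlyGE a] :
    ∃ (J : CochainComplex C ℤ) (_ : J.IsStrictlyGE a) (q : K ⟶ J), QuasiIso q ∧
      (∀ k, Injective (J.X k)) ∧ ∀ i : ℤ, Nonempty ((RH F i).obj (mk K a) ≅
        ((F.mapHomologicalComplex (ComplexShape.up ℤ)).obj J).homology i) := by
  obtain ⟨J, q, hq, hinj, hJ⟩ := exists_quasiIso_injective K a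
  refine ⟨J, hJ, q, hq, hinj, fun i => ?_⟩
  haveI : QuasiIso (mkHom q a a).hom := hq
  haveI := isIso_RH_map F (mkHom q a a) inferInstance i
  obtain ⟨e⟩ := nonempty_RH_iso_of_injective F J a hinj i
  exact ⟨asIso ((RH F i).map (mkHom q a a)) ≪≫ e⟩

/-- `H^i(RF(K)) = 0` below the lower bound of `K` -/
theorem isZero_RH_of_lt (K : CochainComplex C ℤ) (a : ℤ) [K.IsStrictlyGE a] (i : ℤ) (hi : i < a) :
    IsZero ((RH F i).obj (mk K a)) := by
  obtain ⟨J, hJ, q, hq, hinj, h⟩ := exists_resolution_iso F K a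
  obtain ⟨e⟩ := h i
  refine IsZero.of_iso ?_ e
  apply ShortComplex.isZero_homology_of_isZero_X₂
  exact F.map_isZero (J.isZero_of_isStrictlyGE a i hi)

/-- `RF` commutes with shifts, on cohomology objects -/
theorem nonempty_RH_shift (K : CochainComplex C ℤ) (a : ℤ) [K.IsStrictlyGE a] (n a' : ℤ) (h : n + a' = a)
    [(K⟦n⟧).IsStrictlyGE a'] (i i' : ℤ) (hi : n + i = i') :
    Nonempty ((RH F i).obj (mk (K⟦n⟧) a') ≅ (RH F i').obj (mk K a)) := by
  obtain ⟨J, hJ, q, hq, hinj, hJi⟩ := exists_resolution_iso F K a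
  haveI : (J⟦n⟧).IsStrictlyGE a' := J.isStrictlyGE_shift a n a' h
  haveI : QuasiIso (q⟦n⟧') := by
    rw [CochainComplex.quasiIso_shift_iff]
    exact hq
  have hinj' : ∀ k, Injective ((J⟦n⟧).X k) := fun k => hinj (k + n)
  obtain ⟨e1⟩ := nonempty_RH_iso_of_injective F (J⟦n⟧) a' hinj' i
  haveI : QuasiIso (mkHom (q⟦n⟧') a' a').hom := by
    change QuasiIso (q⟦n⟧')
    infer_instance
  haveI := isIso_RH_map F (mkHom (q⟦n⟧') a' a') inferInstance i
  let e0 := asIso ((RH F i).map (mkHom (q⟦n⟧') a' a'))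
  let e2 := (HomologicalComplex.homologyFunctor D (ComplexShape.up ℤ) i).mapIso
    ((F.mapCochainComplexShiftIso n).app J)
  let e3 := (CochainComplex.ShiftSequence.shiftIso D n i i' hi).app
    ((F.mapHomologicalComplex (ComplexShape.up ℤ)).obj J)
  obtain ⟨e4⟩ := hJi i'
  exact ⟨e0 ≪≫ e1 ≪≫ e2 ≪≫ e3 ≪≫ e4.symm⟩

open Groth.Agent.Lib.Helper23SS3 in
/-- `H^q(RF(M[0])) ≅ R^q F(M)` -/
theorem nonempty_RH_single_zero (M : C) (q : ℕ) :
    Nonempty ((RH F (q : ℤ)).obj (mk ((CochainComplex.singleFunctor C 0).obj M) 0) ≅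
      (F.rightDerived q).obj M) := by
  let I : InjectiveResolution M := injectiveResolution M
  haveI : QuasiIso (mkHom I.ι' 0 0).hom := by
    change QuasiIso I.ι'
    infer_instance
  haveI := isIso_RH_map F (mkHom I.ι' 0 0) inferInstance (q : ℤ)
  obtain ⟨e1⟩ := nonempty_RH_iso_of_injective F I.cochainComplex 0 (fun k => inferInstance) (q : ℤ)
  obtain ⟨e2⟩ := homology_map_cochainComplex F I q (q : ℤ) rfl
  exact ⟨asIso ((RH F (q : ℤ)).map (mkHom I.ι' 0 0)) ≪≫ e1 ≪≫ e2⟩

/-- `H^{a+q}(RF(M[-a])) ≅ R^q F(M)` -/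
theorem nonempty_RH_single (M : C) (a : ℤ) (q : ℕ) (m : ℤ) (hm : m = a + q) :
    Nonempty ((RH F m).obj (mk ((CochainComplex.singleFunctor C a).obj M) a) ≅
      (F.rightDerived q).obj M) := by
  let es : ((CochainComplex.singleFunctor C 0).obj M)⟦-a⟧ ≅ (CochainComplex.singleFunctor C a).obj M :=
    ((CochainComplex.singleFunctors C).shiftIso (-a) a 0 (by simp)).app M
  haveI : (((CochainComplex.singleFunctor C 0).obj M)⟦-a⟧).IsStrictlyGE a :=
    ((CochainComplex.singleFunctor C 0).obj M).isStrictlyGE_shift 0 (-a) a (by simp)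
  obtain ⟨e1⟩ := nonempty_RH_iso_of_iso F es.symm a a m
  obtain ⟨e2⟩ := nonempty_RH_shift F ((CochainComplex.singleFunctor C 0).obj M) 0 (-a) a (by simp)
    m (q : ℤ) (by omega)
  obtain ⟨e3⟩ := nonempty_RH_single_zero F M q
  exact ⟨e1 ≪≫ e2 ≪≫ e3⟩

open Groth.Agent.Lib.Helper23Adapted in
/-- the part of the long exact sequence of `RF` attached to a short exact sequence of bounded below complexes
which is needed for the five-term argument -/
theorem exists_les [PreservesFiniteLimits F] (S : ShortComplex (CochainComplex C ℤ)) (hS : S.ShortExact)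
    (a : ℤ) [S.X₁.IsStrictlyGE a] [S.X₂.IsStrictlyGE a] [S.X₃.IsStrictlyGE a] (j : ℤ) :
    ∃ (δ : (RH F j).obj (mk S.X₃ a) ⟶ (RH F (j + 1)).obj (mk S.X₁ a))
      (δ' : (RH F (j + 1)).obj (mk S.X₃ a) ⟶ (RH F (j + 1 + 1)).obj (mk S.X₁ a))
      (w₁ : δ ≫ (RH F (j + 1)).map (mkHom S.f a a) = 0)
      (w₂ : (RH F (j + 1)).map (mkHom S.f a a) ≫ (RH F (j + 1)).map (mkHom S.g a a) = 0)
      (w₃ : (RH F (j + 1)).map (mkHom S.g a a) ≫ δ' = 0),
      (ShortComplex.mk _ _ w₁).Exact ∧ (ShortComplex.mk _ _ w₂).Exact ∧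
        (ShortComplex.mk _ _ w₃).Exact := by
  have hf : Mono ((CochainComplex.Plus.ι C).map (mkHom S.f a a)) := by
    change Mono S.f
    exact hS.mono_f
  have hg : Epi ((CochainComplex.Plus.ι C).map (mkHom S.g a a)) := by
    change Epi S.g
    exact hS.epi_g
  have hex : kernelSubobject ((CochainComplex.Plus.ι C).map (mkHom S.g a a)) =
      imageSubobject ((CochainComplex.Plus.ι C).map (mkHom S.f a a)) := by
    change kernelSubobject S.g = imageSubobject S.f
    exact ((ShortComplex.exact_iff_image_eq_kernel S).1 hS.exact).symm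
  obtain ⟨-, δ, -, h3⟩ := result F (mkHom S.f a a) (mkHom S.g a a) hf hg hex j
  obtain ⟨h1', δ', h2', -⟩ := result F (mkHom S.f a a) (mkHom S.g a a) hf hg hex (j + 1)
  obtain ⟨w₁, e₁⟩ := exact_of_subobject_eq h3
  obtain ⟨w₂, e₂⟩ := exact_of_subobject_eq h1'
  obtain ⟨w₃, e₃⟩ := exact_of_subobject_eq h2'
  exact ⟨δ, δ', w₁, w₂, w₃, e₁, e₂, e₃⟩

open Groth.Agent.Lib.Seat81.Five ZeroObject in
/-- **way-out lemma**, inductive form -/
theorem wayout_aux [PreservesFiniteLimits F] (P : C → Prop) (Q : D → Prop)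
    (hPiso : ∀ {A B : C}, (A ≅ B) → P A → P B) (hP0 : ∀ A : C, IsZero A → P A)
    (hQ : Closed Q) (hQiso : ∀ {A B : D}, (A ≅ B) → Q A → Q B)
    (hPQ : ∀ M : C, P M → ∀ q : ℕ, Q ((F.rightDerived q).obj M)) :
    ∀ (n : ℕ) (a : ℤ) (K : CochainComplex C ℤ) [K.IsStrictlyGE a], (∀ i, P (K.homology i)) →
      ∀ i : ℤ, i < a + n → Q ((RH F i).obj (mk K a)) := by
  -- zero objects are in `Q`
  have hQ0 : ∀ Z : D, IsZero Z → Q Z := by
    intro Z hZ
    obtain ⟨A, hA⟩ : ∃ A : D, Q A := ⟨_, hPQ 0 (hP0 0 (isZero_zero C)) 0⟩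
    have h1 : Q (kernel (𝟙 A)) := hQ.ker (𝟙 A) hA hA
    exact hQiso ((isZero_kernel_of_mono (𝟙 A)).iso hZ) h1
  intro n
  induction n with
  | zero =>
    intro a K _ hK i hi
    exact hQ0 _ (isZero_RH_of_lt F K a i (by simpa using hi))
  | succ n ih =>
    intro a K hKa hK i hi
    by_cases hia : i < a
    · exact hQ0 _ (isZero_RH_of_lt F K a i hia)
    obtain ⟨j, rfl⟩ : ∃ j, i = j + 1 := ⟨i - 1, by omega⟩
    -- the truncation sequence
    let S := K.shortComplexTruncLE a
    have hS : S.ShortExact := K.shortComplexTruncLE_shortExact a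
    haveI h1 : S.X₁.IsStrictlyGE a := inferInstanceAs ((K.truncLE a).IsStrictlyGE a)
    haveI h2 : S.X₂.IsStrictlyGE a := hKa
    haveI h3 : S.X₃.IsStrictlyGE a := by
      rw [CochainComplex.isStrictlyGE_iff]
      intro k hk
      have := (hS.map_of_exact (HomologicalComplex.eval C (ComplexShape.up ℤ) k)).epi_g
      exact IsZero.of_epi (S.g.f k) (K.isZero_of_isStrictlyGE a k hk)
    obtain ⟨δ, δ', w₁, w₂, w₃, e₁, e₂, e₃⟩ := exists_les F S hS a j
    -- `X₁` is a single complex
    haveI : S.X₁.IsStrictlyLE a := inferInstanceAs ((K.truncLE a).IsStrictlyLE a)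
    obtain ⟨M, ⟨eM⟩⟩ := S.X₁.exists_iso_single a
    have hPM : P M := by
      have e1 : ((CochainComplex.singleFunctor C a).obj M).homology a ≅ M :=
        HomologicalComplex.singleObjHomologySelfIso (ComplexShape.up ℤ) a M
      have e2 : S.X₁.homology a ≅ ((CochainComplex.singleFunctor C a).obj M).homology a :=
        (HomologicalComplex.homologyFunctor C _ a).mapIso eM
      haveI : IsIso (HomologicalComplex.homologyMap (K.ιTruncLE a) a) :=
        (quasiIsoAt_iff_isIso_homologyMap (K.ιTruncLE a) a).1 inferInstance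
      have e3 : (K.truncLE a).homology a ≅ K.homology a :=
        asIso (HomologicalComplex.homologyMap (K.ιTruncLE a) a)
      have e3' : S.X₁.homology a ≅ K.homology a := e3
      exact hPiso (e3'.symm ≪≫ e2 ≪≫ e1) (hK a)
    have hQX₁ : ∀ m : ℤ, Q ((RH F m).obj (mk S.X₁ a)) := by
      intro m
      obtain ⟨e⟩ := nonempty_RH_iso_of_iso F eM a a m
      by_cases hm : m < a
      · exact hQ0 _ (isZero_RH_of_lt F S.X₁ a m hm)
      · obtain ⟨q, hq⟩ : ∃ q : ℕ, m = a + q := ⟨(m - a).toNat, by omega⟩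
        obtain ⟨e'⟩ := nonempty_RH_single F M a q m hq
        exact hQiso (e ≪≫ e').symm (hPQ M hPM q)
    -- `X₃` is quasi-isomorphic to the truncation
    let T := K.truncGE (a + 1)
    haveI hT : T.IsStrictlyGE (a + 1) := inferInstanceAs ((K.truncGE (a + 1)).IsStrictlyGE (a + 1))
    let t : S.X₃ ⟶ T := K.shortComplexTruncLEX₃ToTruncGE a (a + 1) rfl
    haveI ht : QuasiIso t := inferInstance
    have hPT : ∀ k, P (T.homology k) := by
      intro k
      by_cases hk : a + 1 ≤ k
      · haveI : IsIso (HomologicalComplex.homologyMap (K.πTruncGE (a + 1)) k) :=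
          (quasiIsoAt_iff_isIso_homologyMap (K.πTruncGE (a + 1)) k).1
            (K.quasiIsoAt_πTruncGE (a + 1) k hk)
        exact hPiso (asIso (HomologicalComplex.homologyMap (K.πTruncGE (a + 1)) k)) (hK k)
      · exact hP0 _ (ShortComplex.isZero_homology_of_isZero_X₂ _
          (T.isZero_of_isStrictlyGE (a + 1) k (by omega)))
    have hQX₃ : ∀ m : ℤ, m < a + 1 + n → Q ((RH F m).obj (mk S.X₃ a)) := by
      intro m hm
      haveI : QuasiIso (mkHom t a (a + 1)).hom := ht
      haveI := isIso_RH_map F (mkHom t a (a + 1)) inferInstance m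
      exact hQiso (asIso ((RH F m).map (mkHom t a (a + 1)))).symm (ih (a + 1) T hPT m hm)
    push_cast at hi
    exact hQ.of_five δ _ _ δ' w₁ w₂ w₃ e₁ e₂ e₃ (hQX₃ j (by omega)) (hQX₁ (j + 1))
      (hQX₃ (j + 1) (by omega)) (hQX₁ (j + 1 + 1))

open Groth.Agent.Lib.Seat81.Five in
/-- **way-out lemma** for bounded below complexes: if `R^q F` sends `P` into `Q` (closed under kernels, cokernels
and extensions) then `H^i(RF(K)) ∈ Q` for every bounded below complex `K` with cohomology in `P` -/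
theorem wayout [PreservesFiniteLimits F] (P : C → Prop) (Q : D → Prop)
    (hPiso : ∀ {A B : C}, (A ≅ B) → P A → P B) (hP0 : ∀ A : C, IsZero A → P A)
    (hQ : Closed Q) (hQiso : ∀ {A B : D}, (A ≅ B) → Q A → Q B)
    (hPQ : ∀ M : C, P M → ∀ q : ℕ, Q ((F.rightDerived q).obj M))
    (a : ℤ) (K : CochainComplex C ℤ) [K.IsStrictlyGE a] (hK : ∀ i, P (K.homology i)) (i : ℤ) :
    Q ((RH F i).obj (mk K a)) :=
  wayout_aux F P Q hPiso hP0 hQ hQiso hPQ (i - a + 1).toNat a K hK i (by omega)

open Groth.Agent.Lib.Seat81.Five in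
/-- **way-out lemma** on `D⁺` -/
theorem wayout_plus [PreservesFiniteLimits F] (P : C → Prop) (Q : D → Prop)
    (hPiso : ∀ {A B : C}, (A ≅ B) → P A → P B) (hP0 : ∀ A : C, IsZero A → P A)
    (hQ : Closed Q) (hQiso : ∀ {A B : D}, (A ≅ B) → Q A → Q B)
    (hPQ : ∀ M : C, P M → ∀ q : ℕ, Q ((F.rightDerived q).obj M))
    (E : DerivedCategory.Plus C) (hE : ∀ i, P ((DerivedCategory.homologyFunctor C i).obj E.obj)) (i : ℤ) :
    Q ((DerivedCategory.homologyFunctor D i).obj (F.rightDerivedFunctorPlus.obj E).obj) := by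
  let H := DerivedCategory.Plus.Qh.objPreimage E
  let K := (HomotopyCategory.Plus.quotient C).objPreimage H
  let e : DerivedCategory.Plus.Qh.obj ((HomotopyCategory.Plus.quotient C).obj K) ≅ E :=
    DerivedCategory.Plus.Qh.mapIso ((HomotopyCategory.Plus.quotient C).objObjPreimageIso H) ≪≫
      DerivedCategory.Plus.Qh.objObjPreimageIso E
  obtain ⟨a, ha⟩ := K.property
  haveI := ha
  have e' : DerivedCategory.Q.obj K.obj ≅ E.obj := DerivedCategory.Plus.ι.mapIso e
  have hK : ∀ k, P (K.obj.homology k) := fun k =>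
    hPiso ((DerivedCategory.homologyFunctor C k).mapIso e'.symm ≪≫
      (DerivedCategory.homologyFunctorFactors C k).app K.obj) (hE k)
  have h := wayout F P Q hPiso hP0 hQ hQiso hPQ a K.obj hK i
  exact hQiso ((DerivedCategory.homologyFunctor D i).mapIso
    ((F.rightDerivedFunctorPlus ⋙ DerivedCategory.Plus.ι).mapIso e)) h

end

end Groth.Agent.Lib.Seat5.WayOut
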