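import Mathlib
import Groth.Prelude.Def_DCoh2
import Groth.Prelude.Def_CohB1
import Groth.Prelude.Def_CxOX
import Groth.Agent.Lib.Seat5WayOut
import Groth.Agent.Lib.Seat5LocCohQC
import Groth.Agent.Lib.Helper18Epi1

/-!
# `RΓ_Z` on `D⁺(O_X)` preserves quasi-coherent cohomology, with supports in `Z` (helper5)

Namespace `Groth.Agent.Lib.Seat5.RGammaZPlus`.

* `isZero_restrict_gammaZ`: `(Γ_Z M)|_U = 0`.
* `preservesFiniteLimits_gammaZ`: `Γ_Z` is left exact.
* `closed_isZero_restrict`: modules vanishing on `U` are closed under kernels, cokernels, extensions.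
* `isZero_restrict_rightDerived_gammaZ`: `(R^q Γ_Z M)|_U = 0`.
* `isQCohD_RgammaZPlus`, `isZero_restrict_HD_RgammaZPlus`: the two halves of S1046 (way-out lemma + S6030).
* `support_subset_compl_of_isZero_restrict`.
-/

set_option backward.isDefEq.respectTransparency.types false
set_option autoImplicit false
set_option linter.style.haveILetI false
universe u
open CategoryTheory CategoryTheory.Limits AlgebraicGeometry
open AlgebraicGeometry.Scheme.Modules

attribute [local instance] HasDerivedCategory.standard

namespace Groth.Agent.Lib.Seat5.RGammaZPlus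

open Groth.Agent.Lib.Seat81.Five Groth.Agent.Lib.Seat5.WayOut Groth.Agent.Lib.Seat5.LocCohQC

noncomputable section

variable {U Y : Scheme.{u}} (j : U ⟶ Y) [IsOpenImmersion j]

attribute [local instance] Groth.Agent.Lib.Helper23.QCohLocal.restrictFunctor_isRightAdjoint

/-- `j^*` of the unit `M ⟶ j_* j^* M` is an isomorphism -/
instance isIso_restrict_unit (M : Y.Modules) :
    IsIso ((restrictFunctor j).map ((restrictAdjunction j).unit.app M)) := by
  have h := (restrictAdjunction j).left_triangle_components M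
  haveI : IsIso ((restrictFunctor j).map ((restrictAdjunction j).unit.app M) ≫
      (restrictAdjunction j).counit.app ((restrictFunctor j).obj M)) := by
    rw [h]
    infer_instance
  exact IsIso.of_isIso_comp_right _ ((restrictAdjunction j).counit.app ((restrictFunctor j).obj M))

/-- `(Γ_Z M)|_U = 0` -/
theorem isZero_restrict_gammaZ (M : Y.Modules) :
    IsZero ((restrictFunctor j).obj ((DCoh.gammaZ j).obj M)) := by
  let η := (restrictAdjunction j).unit.app M
  have h0 : (restrictFunctor j).map (kernel.ι η) = 0 := by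
    rw [← cancel_mono ((restrictFunctor j).map η), zero_comp, ← Functor.map_comp, kernel.condition,
      Functor.map_zero]
  change IsZero ((restrictFunctor j).obj (kernel η))
  exact IsZero.of_mono_eq_zero _ h0

/-- `Γ_Z` is left exact -/
instance preservesFiniteLimits_gammaZ : PreservesFiniteLimits (DCoh.gammaZ j) := by
  rw [Functor.preservesFiniteLimits_iff_forall_exact_map_and_mono]
  intro S hS
  have hmf := hS.mono_f
  let ι := CxOX.gammaZι j
  have hι : ∀ M : Y.Modules, Mono (ι.app M) := fun M => by
    change Mono (kernel.ι ((restrictAdjunction j).unit.app M))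
    infer_instance
  have hcond : ∀ M : Y.Modules, ι.app M ≫ (restrictAdjunction j).unit.app M = 0 := fun M =>
    kernel.condition ((restrictAdjunction j).unit.app M)
  have hm : Mono ((DCoh.gammaZ j).map S.f) := by
    have h : (DCoh.gammaZ j).map S.f ≫ ι.app S.X₂ = ι.app S.X₁ ≫ S.f := ι.naturality S.f
    haveI := hι S.X₁
    haveI : Mono ((DCoh.gammaZ j).map S.f ≫ ι.app S.X₂) := by
      rw [h]
      infer_instance
    exact mono_of_mono _ (ι.app S.X₂)
  refine ⟨?_, hm⟩
  haveI : Mono (S.map (DCoh.gammaZ j)).f := hm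
  apply ShortComplex.exact_of_f_is_kernel
  refine KernelFork.IsLimit.ofι' _ _ (fun {T} k hk => ?_)
  change T ⟶ (DCoh.gammaZ j).obj S.X₂ at k
  change k ≫ (DCoh.gammaZ j).map S.g = 0 at hk
  have h1 : (k ≫ ι.app S.X₂) ≫ S.g = 0 := by
    have hn : (DCoh.gammaZ j).map S.g ≫ ι.app S.X₃ = ι.app S.X₂ ≫ S.g := ι.naturality S.g
    rw [Category.assoc, ← hn, ← Category.assoc, hk, zero_comp]
  obtain ⟨t, ht⟩ := KernelFork.IsLimit.lift' hS.fIsKernel (k ≫ ι.app S.X₂) h1
  change t ≫ S.f = k ≫ ι.app S.X₂ at ht
  have h2 : t ≫ (restrictAdjunction j).unit.app S.X₁ = 0 := by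
    haveI : Mono ((pushforward j).map ((restrictFunctor j).map S.f)) := inferInstance
    rw [← cancel_mono ((pushforward j).map ((restrictFunctor j).map S.f)), zero_comp, Category.assoc]
    have hn := (restrictAdjunction j).unit.naturality S.f
    simp only [Functor.id_obj, Functor.id_map, Functor.comp_obj, Functor.comp_map] at hn
    rw [← hn, ← Category.assoc, ht, Category.assoc, hcond, comp_zero]
  let l : T ⟶ (DCoh.gammaZ j).obj S.X₁ := kernel.lift _ t h2
  have h3 : l ≫ ι.app S.X₁ = t := kernel.lift_ι _ t h2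
  refine ⟨l, ?_⟩
  change l ≫ (DCoh.gammaZ j).map S.f = k
  haveI := hι S.X₂
  rw [← cancel_mono (ι.app S.X₂), Category.assoc]
  have h : (DCoh.gammaZ j).map S.f ≫ ι.app S.X₂ = ι.app S.X₁ ≫ S.f := ι.naturality S.f
  rw [h, ← Category.assoc, h3, ht]

/-- modules vanishing on `U` are closed under kernels, cokernels and extensions -/
theorem closed_isZero_restrict :
    Closed (fun N : Y.Modules => IsZero ((restrictFunctor j).obj N)) where
  ker f hX _ := IsZero.of_mono ((restrictFunctor j).map (kernel.ι f)) hX
  coker f _ hY := IsZero.of_epi ((restrictFunctor j).map (cokernel.π f)) hY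
  ext _ hS h₁ h₃ :=
    (hS.map_of_exact (restrictFunctor j)).exact.isZero_of_both_zeros (h₁.eq_of_src _ _)
      (h₃.eq_of_tgt _ _)

/-- `(R^q Γ_Z M)|_U = 0` -/
theorem isZero_restrict_rightDerived_gammaZ [HasInjectiveResolutions Y.Modules] (M : Y.Modules) (q : ℕ) :
    IsZero ((restrictFunctor j).obj (((DCoh.gammaZ j).rightDerived q).obj M)) := by
  let I : InjectiveResolution M := injectiveResolution M
  let K := ((DCoh.gammaZ j).mapHomologicalComplex (ComplexShape.up ℕ)).obj I.cocomplex
  have e := I.isoRightDerivedObj (DCoh.gammaZ j) q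
  have h0 : IsZero ((restrictFunctor j).obj (K.X q)) := isZero_restrict_gammaZ j (I.cocomplex.X q)
  have h1 : IsZero ((restrictFunctor j).obj (K.cycles q)) :=
    IsZero.of_mono ((restrictFunctor j).map (K.iCycles q)) h0
  have h2 : IsZero ((restrictFunctor j).obj (K.homology q)) :=
    IsZero.of_epi ((restrictFunctor j).map (K.homologyπ q)) h1
  exact IsZero.of_iso h2 ((restrictFunctor j).mapIso e)

/-- first half of S1046: `RΓ_Z` preserves `D⁺_QCoh` -/
theorem isQCohD_RgammaZPlus [QuasiCompact j] [EnoughInjectives Y.Modules]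
    (E : DerivedCategory.Plus Y.Modules) (hE : DCoh.IsQCohD E.obj) :
    DCoh.IsQCohD ((DCoh.RgammaZPlus j).obj E).obj := fun i =>
  wayout_plus (DCoh.gammaZ j) (fun M : Y.Modules => M.IsQuasicoherent)
    (fun N : Y.Modules => N.IsQuasicoherent)
    (fun e h => qc_of_iso e h)
    (fun A hA => by
      haveI : (SheafOfModules.unit Y.ringCatSheaf).IsQuasicoherent := inferInstance
      exact Groth.Agent.Lib.Seat81.DerRes.isQuasicoherent_of_isZero
        (N := SheafOfModules.unit Y.ringCatSheaf) hA)
    (Groth.Agent.Lib.Seat81.DerRes.qcohClosed Y)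
    (fun e h => qc_of_iso e h)
    (fun M hM q => isQuasicoherent_rightDerived_gammaZ j M hM q) E hE i

/-- second half of S1046: the cohomology sheaves of `RΓ_Z E` vanish on `U` -/
theorem isZero_restrict_HD_RgammaZPlus [EnoughInjectives Y.Modules]
    (E : DerivedCategory.Plus Y.Modules) (i : ℤ) :
    IsZero ((restrictFunctor j).obj (DCoh.HD ((DCoh.RgammaZPlus j).obj E).obj i)) :=
  wayout_plus (DCoh.gammaZ j) (fun _ : Y.Modules => True)
    (fun N : Y.Modules => IsZero ((restrictFunctor j).obj N))
    (fun _ _ => trivial) (fun _ _ => trivial)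
    (closed_isZero_restrict j)
    (fun e h => IsZero.of_iso h ((restrictFunctor j).mapIso e.symm))
    (fun M _ q => isZero_restrict_rightDerived_gammaZ j M q) E (fun _ => trivial) i

/-- a module vanishing on an open `U` is supported in the complement of `U` -/
theorem support_subset_compl_of_isZero_restrict {X : Scheme.{u}} (N : X.Modules) (U : X.Opens)
    (h : IsZero ((restrictFunctor U.ι).obj N)) : CohB1.support N ⊆ (U : Set X)ᶜ := by
  intro x hx hxU
  apply hx
  have hs : Subsingleton (((restrictFunctor U.ι).obj N).presheaf.stalk ⟨x, hxU⟩) :=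
    Groth.Agent.Helper18Epi.subsingleton_stalk_of_isZero h ⟨x, hxU⟩
  have e : ((restrictFunctor U.ι).obj N).presheaf.stalk ⟨x, hxU⟩ ≅ N.presheaf.stalk x :=
    (Scheme.Modules.restrictStalkNatIso U.ι ⟨x, hxU⟩).app N
  exact (e.symm.addCommGroupIsoToAddEquiv.toEquiv).subsingleton

end

end Groth.Agent.Lib.Seat5.RGammaZPlus
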