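import Mathlib
import Groth.Prelude.Def_PerfAux
import Groth.Agent.Lib.Seat5FGObject
import Groth.Agent.Lib.Helper23RestrTensor
import Groth.Agent.Lib.Helper23RelAmpleCounit
import Groth.Agent.Lib.Helper23FinTypeLocal
import Groth.Agent.Lib.Helper23LocGen
import Groth.Agent.Lib.Helper23Restr2
import Groth.Agent.Lib.Helper23SecTw7
import Groth.Agent.Lib.Helper23TensorQCoh
import Groth.Agent.Lib.Helper23QCohLocal
import Groth.Agent.Lib.Helper20ZClos20
import Groth.Agent.Lib.Seat21SubAlgGen
import Groth.Agent.Lib.Seat96ModSec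
import Groth.Agent.Lib.Seat98PicCalc
import Groth.Agent.Lib.Seat20ResProp
import Groth.Agent.Lib.Seat20InvMod2
import Groth.Agent.Lib.Helper1Sky9
import Groth.Agent.Lib.Helper1FLF1
import Groth.Agent.Lib.Seat28FLF
import Groth.Agent.Lib.Helper21ModTensor5

/-!
# The resolution property ascends along a morphism with a relatively ample invertible module (seat 5)

Namespace `Groth.Agent.Lib.Seat5.ResPropRelAmple`.

* `epi_counit_eventually` : for `L` ample relative to a morphism `f` with quasi-compact source, and `F` quasi-coherent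
  of finite type, the counit `f^* f_* (F ⊗ L^n) ⟶ F ⊗ L^n` is an epimorphism for all large `n`.
* `quasiSeparated_of_isRelAmple` : a morphism with a relatively ample module is quasi-separated.
* `jointlyEpi_of_hasResolutionProperty` : on a quasi-compact quasi-separated scheme with the resolution property, the
  morphisms from finite locally free modules to a given quasi-coherent module are jointly epimorphic.
-/

set_option autoImplicit false
set_option linter.style.haveILetI false
universe u
open CategoryTheory CategoryTheory.Limits AlgebraicGeometry TopologicalSpace Opposite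

namespace Groth.Agent.Lib.Seat5.ResPropRelAmple
set_option backward.isDefEq.respectTransparency.types false

open Groth.Agent.Lib.Helper23.RestrTensor Groth.Agent.Lib.Helper23.RelAmpleCounit
  Groth.Agent.Lib.Helper23.CounitEpi

variable {X Y : Scheme.{u}}

/-- for `L` ample relative to `f`, the counit at `F ⊗ L^n` is an epimorphism for all large `n` -/
theorem epi_counit_eventually [CompactSpace X] (f : X ⟶ Y) (L : X.Modules) (hL : PicF.IsInvertible L)
    (h : RelAmple.IsRelAmple f L) (F : X.Modules) [F.IsQuasicoherent]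
    [SheafOfModules.IsFiniteType (R := X.ringCatSheaf) F] :
    ∃ n₀ : ℕ, ∀ n : ℕ, n₀ ≤ n →
      Epi ((Scheme.Modules.pullbackPushforwardAdjunction f).counit.app
        (CohB1.tensorMod F (CohB1.tensorPow L n))) := by
  have key : ∀ V : Y.affineOpens, ∃ n₀ : ℕ, ∀ n, n₀ ≤ n →
      Curv2.IsGloballyGenerated ((CohB1.tensorMod F (CohB1.tensorPow L n)).restrict (f ⁻¹ᵁ V.1).ι) := by
    intro V
    haveI : (F.restrict (f ⁻¹ᵁ V.1).ι).IsQuasicoherent :=
      Scheme.Modules.isQuasicoherent_restrictFunctor (f ⁻¹ᵁ V.1).ι F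
    haveI : SheafOfModules.IsFiniteType (R := ((f ⁻¹ᵁ V.1 : X.Opens) : Scheme.{u}).ringCatSheaf)
        (F.restrict (f ⁻¹ᵁ V.1).ι) :=
      Groth.Agent.Lib.Helper23.FinType.isFiniteType_restrict (f ⁻¹ᵁ V.1).ι F
    obtain ⟨n₀, hn₀⟩ := Groth.Agent.Lib.Helper23.LocGen.isGloballyGenerated_twist_eventually
      (L.restrict (f ⁻¹ᵁ V.1).ι) (h.2 V) (F.restrict (f ⁻¹ᵁ V.1).ι)
    refine ⟨n₀, fun n hn => ?_⟩
    obtain ⟨e⟩ := nonempty_restrict_twist_iso F L hL (f ⁻¹ᵁ V.1) n
    exact isGloballyGenerated_of_iso e.symm (hn₀ n hn)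
  choose N hN using key
  have hcov : ∀ x : X, ∃ V : Y.affineOpens, f x ∈ V.1 := by
    intro x
    obtain ⟨V, hV, hxV, -⟩ := Opens.isBasis_iff_nbhd.1 Y.isBasis_affineOpens (Opens.mem_top (f x))
    exact ⟨⟨V, hV⟩, hxV⟩
  choose V hV using hcov
  obtain ⟨T, hT⟩ : ∃ T : Finset X, (Set.univ : Set X) ⊆ ⋃ x ∈ T, ((f ⁻¹ᵁ (V x).1 : X.Opens) : Set X) :=
    isCompact_univ.elim_finite_subcover (fun x => ((f ⁻¹ᵁ (V x).1 : X.Opens) : Set X))
      (fun x => (f ⁻¹ᵁ (V x).1).2) (fun x _ => Set.mem_iUnion.2 ⟨x, hV x⟩)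
  refine ⟨T.sup fun x => N (V x), fun n hn => ?_⟩
  apply epi_counit_of_isGloballyGenerated f
  intro y
  obtain ⟨x, hx⟩ := Set.mem_iUnion.1 (hT (Set.mem_univ y))
  obtain ⟨hxT, hyx⟩ := Set.mem_iUnion.1 hx
  exact ⟨(V x).1, hyx, hN (V x) n (le_trans (Finset.le_sup (f := fun x => N (V x)) hxT) hn)⟩

/-- a morphism with a relatively ample module is quasi-separated -/
theorem quasiSeparated_of_isRelAmple (f : X ⟶ Y) (L : X.Modules) (h : RelAmple.IsRelAmple f L) :
    QuasiSeparated f := by
  rw [HasAffineProperty.eq_targetAffineLocally (P := @QuasiSeparated)]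
  intro V
  exact Groth.Agent.Lib.Helper23.SecTw.quasiSeparatedSpace_of_isAmple _ (h.2 V)

open Groth.Agent.Lib.Seat5.FGObject Groth.Agent.Lib.Seat21.QSub

/-- the index type of the family of all morphisms from finite locally free modules to `G` -/
abbrev FLFOver (G : Y.Modules) : Type (u + 1) :=
  Σ E : {E : Y.Modules // FlatMod.IsFinLocFree E}, (E.1 ⟶ G)

/-- on a quasi-compact quasi-separated scheme with the resolution property, the morphisms from finite locally free
modules to a quasi-coherent module are jointly epimorphic -/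
theorem jointlyEpi_of_hasResolutionProperty [CompactSpace Y] [QuasiSeparatedSpace Y]
    (hY : PerfAux.HasResolutionProperty Y) (G : Y.Modules) [G.IsQuasicoherent] :
    JointlyEpi (fun α : FLFOver G => α.2) := by
  intro H a b hab
  apply Groth.Agent.Lib.Seat96.ModSec.hom_ext_affine
  intro U
  ext t
  obtain ⟨N, hq, hf, hmem⟩ := hasSubExt_of_qcqs G U.1 U.2 {t} (Set.finite_singleton t)
  have hQ := SubSh.isQuasicoherent_toModules hq
  have hF := SubSh.isFiniteType_toModules hq hf
  obtain ⟨E, π, hE, hπ⟩ := hY N.toModules hQ hF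
  have h1 := hab ⟨⟨E, hE⟩, π ≫ N.ι⟩
  have h2 : N.ι ≫ a = N.ι ≫ b := by
    rw [← cancel_epi π]
    simpa [Category.assoc] using h1
  have ht : t ∈ N.carrier U.1 := hmem t rfl
  have h3 := congrArg (fun m => Scheme.Modules.Hom.app m U.1 (N.mkSec U.1 ⟨t, ht⟩)) h2
  exact h3

/-- transposing a jointly epimorphic family on `Y` to `f_* F'` along the adjunction gives a jointly epimorphic family
to `F'` when the counit at `F'` is an epimorphism -/
theorem jointlyEpi_transpose (f : X ⟶ Y) (F' : X.Modules)
    [Epi ((Scheme.Modules.pullbackPushforwardAdjunction f).counit.app F')]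
    {κ : Type (u + 1)} {E : κ → Y.Modules} (ψ : ∀ α, E α ⟶ (Scheme.Modules.pushforward f).obj F')
    (hψ : JointlyEpi ψ) :
    JointlyEpi (fun α => ((Scheme.Modules.pullbackPushforwardAdjunction f).homEquiv (E α) F').symm (ψ α)) := by
  intro H a b hab
  refine (epi_counit_app_iff (Scheme.Modules.pullbackPushforwardAdjunction f) F').1 inferInstance H a b ?_
  apply hψ
  intro α
  have h1 := congrArg ((Scheme.Modules.pullbackPushforwardAdjunction f).homEquiv (E α) H) (hab α)
  rw [Adjunction.homEquiv_naturality_right, Adjunction.homEquiv_naturality_right,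
    Equiv.apply_symm_apply] at h1
  exact h1

open Groth.Agent.Lib.Helper21.ModTensor3 Groth.Agent.Lib.Helper21.ModTensor5 Groth.Agent.Lib.Seat98.PicCalc

/-- tensoring an epimorphism with a module on the right -/
theorem exists_epi_tensor_right {A B : X.Modules} (p : A ⟶ B) [Epi p] (M : X.Modules) :
    ∃ q : CohB1.tensorMod A M ⟶ CohB1.tensorMod B M, Epi q := by
  let A' : ModSite.Mod X.sheaf := A
  let B' : ModSite.Mod X.sheaf := B
  let p' : A' ⟶ B' := p
  have hp' : Epi p' := ‹Epi p›
  have : (tR X.sheaf M).PreservesEpimorphisms := inferInstance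
  exact ⟨(tR X.sheaf M).map p', (tR X.sheaf M).map_epi p'⟩

/-- **the resolution property ascends along a morphism carrying a relatively ample invertible module** -/
theorem hasResolutionProperty_of_isRelAmple (f : X ⟶ Y) [CompactSpace Y] [QuasiSeparatedSpace Y]
    (hY : PerfAux.HasResolutionProperty Y) (L : X.Modules) (hL : RelAmple.IsRelAmple f L) :
    PerfAux.HasResolutionProperty X := by
  classical
  intro F hF hFT
  haveI : F.IsQuasicoherent := hF
  haveI : SheafOfModules.IsFiniteType (R := X.ringCatSheaf) F := hFT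
  haveI : QuasiCompact f := hL.1
  haveI : CompactSpace X := QuasiCompact.compactSpace_of_compactSpace f
  haveI : QuasiSeparated f := quasiSeparated_of_isRelAmple f L hL
  have hinv : PicF.IsInvertible L := Groth.Agent.Lib.Helper23.SecTw.isInvertible_of_isRelAmple f L hL
  obtain ⟨n₀, hn₀⟩ := epi_counit_eventually f L hinv hL F
  have hQ : PicF.IsInvertible (CohB1.tensorPow L n₀) :=
    Groth.Agent.Lib.Helper23.SecTw.isInvertible_tensorPow hinv n₀
  haveI : (CohB1.tensorPow L n₀).IsQuasicoherent :=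
    Groth.Agent.Lib.Helper23.SecTw.isQuasicoherent_of_isInvertible _ hQ
  haveI : SheafOfModules.IsFiniteType (R := X.ringCatSheaf) (CohB1.tensorPow L n₀) :=
    Groth.Agent.Lib.Helper20.ZClosLib.isFiniteType_of_isInvertible _ hQ
  haveI : (CohB1.tensorMod F (CohB1.tensorPow L n₀)).IsQuasicoherent :=
    Groth.Agent.Lib.Helper23.TensorQCoh.isQuasicoherent_tensorMod _ _
  haveI : SheafOfModules.IsFiniteType (R := X.ringCatSheaf) (CohB1.tensorMod F (CohB1.tensorPow L n₀)) :=
    Groth.Agent.Lib.Helper23.TensorQCoh.isFiniteType_tensorMod _ _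
  haveI : Epi ((Scheme.Modules.pullbackPushforwardAdjunction f).counit.app
      (CohB1.tensorMod F (CohB1.tensorPow L n₀))) := hn₀ n₀ le_rfl
  haveI : ((Scheme.Modules.pushforward f).obj (CohB1.tensorMod F (CohB1.tensorPow L n₀))).IsQuasicoherent :=
    Groth.Agent.Lib.Helper23.QCohLocal.isQuasicoherent_pushforward f _
  have hJE := jointlyEpi_of_hasResolutionProperty hY
    ((Scheme.Modules.pushforward f).obj (CohB1.tensorMod F (CohB1.tensorPow L n₀)))
  have hJE' := jointlyEpi_transpose f (CohB1.tensorMod F (CohB1.tensorPow L n₀)) _ hJE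
  obtain ⟨S, hS⟩ := exists_finset_epi _ hJE'
  -- the finite locally free source
  have hflf : FlatMod.IsFinLocFree (⨁ fun α : S => (Scheme.Modules.pullback f).obj α.1.1.1) := by
    have e : (⨁ fun α : S => (Scheme.Modules.pullback f).obj α.1.1.1) ≅
        ⨁ ((fun α : S => (Scheme.Modules.pullback f).obj α.1.1.1) ∘ (Fintype.equivFin S).symm) :=
      biproduct.whiskerEquiv (f := fun α : S => (Scheme.Modules.pullback f).obj α.1.1.1)
        (g := (fun α : S => (Scheme.Modules.pullback f).obj α.1.1.1) ∘ (Fintype.equivFin S).symm)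
        (Fintype.equivFin S) (fun k => eqToIso (by simp))
    exact Groth.Agent.Lib.Seat28.FLF.isFinLocFree_of_iso e.symm
      (Groth.Agent.Lib.Seat28.FLF.isFinLocFree_biproduct _
        (fun j => Groth.Agent.Lib.Helper1.Sky.isFinLocFree_pullback f _ ((Fintype.equivFin S).symm j).1.1.2))
  -- untwisting
  obtain ⟨M, ⟨θ⟩⟩ := Groth.Agent.Lib.Seat20.InvMod.exists_inverse _ hQ
  have hM : PicF.IsInvertible M := Groth.Agent.Lib.Helper2.TensorInv.isInvertible_of_tensor_iso M _ θ
  have hMflf : FlatMod.IsFinLocFree M := fun y => by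
    obtain ⟨U, hyU, e⟩ := Groth.Agent.Lib.Helper23.SecTw.isFinLocFreeOfRank_one_of_isInvertible M hM y
    exact ⟨U, 1, hyU, e⟩
  obtain ⟨q, hq⟩ := exists_epi_tensor_right
    (biproduct.desc (fun α : S =>
      ((Scheme.Modules.pullbackPushforwardAdjunction f).homEquiv α.1.1.1
        (CohB1.tensorMod F (CohB1.tensorPow L n₀))).symm α.1.2)) M
  let ε : CohB1.tensorMod (CohB1.tensorMod F (CohB1.tensorPow L n₀)) M ≅ F :=
    tAssoc F (CohB1.tensorPow L n₀) M ≪≫ tIso (Iso.refl F) (tComm _ _ ≪≫ θ) ≪≫ tUnitR F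
  refine ⟨_, q ≫ ε.hom, Groth.Agent.Lib.Helper1.FLF.isFinLocFree_tensor _ M hflf hMflf, epi_comp _ _⟩

end Groth.Agent.Lib.Seat5.ResPropRelAmple
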