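import Mathlib
import Groth.Agent.Lib.Seat28RD3
import Groth.Agent.Lib.Seat4RpushSingle

/-!
# Way-out lemma for the unbounded total right derived functor, on bounded objects (seat 5)

Namespace `Groth.Agent.Lib.Seat5.WayOutD`.

`G : B ⥤ A` additive, `B` Grothendieck abelian, `RFun G : D(B) ⥤ D(A)` the (unbounded) total right derived functor
(Seat28).  If `R^p G` vanishes for `p ≥ N` on a class `P` of objects of `B` stable under isomorphisms, and `E ∈ D(B)` has
cohomology in `P`, concentrated in `[a, b]`, then `H^i(RG(E)) = 0` for `i ∉ [a, b + N - 1]` (`wayout_bounded`).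
-/

set_option autoImplicit false
set_option linter.style.haveILetI false
universe w w₁ w₂ v v' u u'
open CategoryTheory CategoryTheory.Limits Pretriangulated DerivedCategory

namespace Groth.Agent.Lib.Seat5.WayOutD

open Groth.Agent.Lib.Seat28.RD Groth.Agent.Lib.Seat28.RD3 Groth.Agent.Lib.Seat4.RpushSingle
open DerivedCategory.TStructure ZeroObject

variable {A : Type u} [Category.{v} A] [Abelian A] {B : Type u'} [Category.{v'} B] [Abelian B]
  [IsGrothendieckAbelian.{w} B] [HasDerivedCategory.{w₁} A] [HasDerivedCategory.{w₂} B]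
  (G : B ⥤ A) [G.Additive]
  [(Kh G).HasRightDerivedFunctor (HomotopyCategory.quasiIso B (ComplexShape.up ℤ))]

/-- the homology of `RG(E)` vanishes in degree `i` if it does for the outer terms of a distinguished triangle -/
theorem isZero_homology_of_triangle (T : Triangle (DerivedCategory B)) (hT : T ∈ distTriang (DerivedCategory B))
    (i : ℤ) (h₁ : IsZero ((homologyFunctor A i).obj ((RFun G).obj T.obj₁)))
    (h₃ : IsZero ((homologyFunctor A i).obj ((RFun G).obj T.obj₃))) :
    IsZero ((homologyFunctor A i).obj ((RFun G).obj T.obj₂)) := by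
  obtain ⟨w, hw⟩ := exists_distinguished_map.{w} G T hT
  exact (HomologySequence.exact₂ _ hw i).isZero_of_both_zeros (h₁.eq_of_src _ _) (h₃.eq_of_tgt _ _)

/-- `H^i(RG(E)) = 0` for every `i` when `E` is a zero object -/
theorem isZero_homology_RFun_of_isZero (E : DerivedCategory B) (hE : IsZero E) (i : ℤ) :
    IsZero ((homologyFunctor A i).obj ((RFun G).obj E)) := by
  have e : E ≅ (singleFunctor B (i + 1)).obj 0 :=
    hE.iso (Functor.map_isZero _ (isZero_zero B))
  exact IsZero.of_iso (isZero_homology_RFun_single.{w} G 0 (i + 1) i (by omega))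
    ((homologyFunctor A i).mapIso ((RFun G).mapIso e))

omit [IsGrothendieckAbelian.{w} B] in
/-- `H^k(τ_{<b} E) ≅ H^k(E)` for `k < b` -/
theorem isIso_homology_truncLTι (E : DerivedCategory B) (b k : ℤ) (hk : k < b) :
    IsIso ((homologyFunctor B k).map ((t.truncLTι b).app E)) := by
  have hT := t.triangleLTGE_distinguished b E
  haveI : Mono ((homologyFunctor B k).map ((t.truncLTι b).app E)) := by
    have h := (HomologySequence.mono_homologyMap_mor₁_iff _ hT (k - 1) k (by omega)).2
      ((isZero_of_isGE ((t.truncGE b).obj E) b (k - 1) (by omega)).eq_of_src _ _)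
    exact h
  haveI : Epi ((homologyFunctor B k).map ((t.truncLTι b).app E)) := by
    have h := (HomologySequence.epi_homologyMap_mor₁_iff _ hT k).2
      ((isZero_of_isGE ((t.truncGE b).obj E) b k hk).eq_of_tgt _ _)
    exact h
  exact isIso_of_mono_of_epi _

omit [IsGrothendieckAbelian.{w} B] in
/-- `H^b(E) ≅ H^b(τ_{≥b} E)` -/
theorem isIso_homology_truncGEπ (E : DerivedCategory B) (b : ℤ) :
    IsIso ((homologyFunctor B b).map ((t.truncGEπ b).app E)) := by
  have hT := t.triangleLTGE_distinguished b E
  haveI : Mono ((homologyFunctor B b).map ((t.truncGEπ b).app E)) := by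
    have h := (HomologySequence.mono_homologyMap_mor₂_iff _ hT b).2
      ((isZero_of_isLE ((t.truncLT b).obj E) (b - 1) b (by omega)).eq_of_src _ _)
    exact h
  haveI : Epi ((homologyFunctor B b).map ((t.truncGEπ b).app E)) := by
    have h := (HomologySequence.epi_homologyMap_mor₂_iff _ hT b (b + 1) rfl).2
      ((isZero_of_isLE ((t.truncLT b).obj E) (b - 1) (b + 1) (by omega)).eq_of_tgt _ _)
    exact h
  exact isIso_of_mono_of_epi _

/-- **way-out lemma on bounded objects** -/
theorem wayout_bounded_aux (P : B → Prop) (hP : ∀ {M M' : B}, (M ≅ M') → P M → P M') (N : ℕ)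
    (hG : ∀ M : B, P M → ∀ p : ℕ, N ≤ p → IsZero ((G.rightDerived p).obj M)) :
    ∀ (n : ℕ) (E : DerivedCategory B) (a b : ℤ), b - a + 1 ≤ n → E.IsGE a → E.IsLE b →
      (∀ i, P ((homologyFunctor B i).obj E)) → ∀ i : ℤ, (i < a ∨ b + N - 1 < i) →
      IsZero ((homologyFunctor A i).obj ((RFun G).obj E)) := by
  intro n
  induction n with
  | zero =>
    intro E a b hn hGE hLE _ i _
    exact isZero_homology_RFun_of_isZero.{w} G E (t.isZero E b a (by omega)) i
  | succ n ih =>
    intro E a b hn hGE hLE hPE i hi
    by_cases hab : b < a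
    · exact isZero_homology_RFun_of_isZero.{w} G E (t.isZero E b a hab) i
    have hP0 : ∀ M : B, IsZero M → P M := fun M hM =>
      hP ((isZero_of_isLE E b (b + 1) (by omega)).iso hM) (hPE (b + 1))
    have hT := t.triangleLTGE_distinguished b E
    refine isZero_homology_of_triangle.{w} G _ hT i ?_ ?_
    · refine ih ((t.truncLT b).obj E) a (b - 1) (by omega) inferInstance inferInstance ?_ i (by omega)
      intro k
      by_cases hk : k < b
      · haveI := isIso_homology_truncLTι E b k hk
        exact hP (asIso ((homologyFunctor B k).map ((t.truncLTι b).app E))).symm (hPE k)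
      · exact hP0 _ (isZero_of_isLE ((t.truncLT b).obj E) (b - 1) k (by omega))
    · obtain ⟨Y, ⟨e⟩⟩ := exists_iso_singleFunctor_obj_of_isGE_of_isLE ((t.truncGE b).obj E) b
      have hY : P Y := by
        haveI := isIso_homology_truncGEπ E b
        exact hP (asIso ((homologyFunctor B b).map ((t.truncGEπ b).app E)) ≪≫
          (homologyFunctor B b).mapIso e ≪≫ (singleFunctorCompHomologyFunctorIso B b).app Y) (hPE b)
      refine IsZero.of_iso ?_ ((homologyFunctor A i).mapIso ((RFun G).mapIso e))
      rcases hi with hi | hi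
      · exact isZero_homology_RFun_single.{w} G Y b i (by omega)
      · obtain ⟨p, hp⟩ : ∃ p : ℕ, b + (p : ℤ) = i := ⟨(i - b).toNat, by omega⟩
        obtain ⟨ε⟩ := nonempty_homology_RFun_single_iso.{w} G Y b i p hp
        exact IsZero.of_iso (hG Y hY p (by omega)) ε

/-- **way-out lemma on bounded objects**: if `R^p G` vanishes for `p ≥ N` on the class `P`, and `E` has cohomology in `P`
concentrated in `[a, b]`, then `H^i(RG(E)) = 0` for `i ∉ [a, b + N - 1]` -/
theorem wayout_bounded (P : B → Prop) (hP : ∀ {M M' : B}, (M ≅ M') → P M → P M') (N : ℕ)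
    (hG : ∀ M : B, P M → ∀ p : ℕ, N ≤ p → IsZero ((G.rightDerived p).obj M))
    (E : DerivedCategory B) (a b : ℤ) (hPE : ∀ i, P ((homologyFunctor B i).obj E))
    (hab : ∀ i : ℤ, i < a ∨ b < i → IsZero ((homologyFunctor B i).obj E))
    (i : ℤ) (hi : i < a ∨ b + N - 1 < i) :
    IsZero ((homologyFunctor A i).obj ((RFun G).obj E)) := by
  have hGE : E.IsGE a := (isGE_iff E a).2 (fun k hk => hab k (Or.inl hk))
  have hLE : E.IsLE b := (isLE_iff E b).2 (fun k hk => hab k (Or.inr hk))
  exact wayout_bounded_aux.{w} G P hP N hG (b - a + 1).toNat E a b (by omega) hGE hLE hPE i hi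

end Groth.Agent.Lib.Seat5.WayOutD
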