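import Mathlib
import Groth.Agent.Lib.Helper10DerComplete5

/-!
# Power series act on derived `f`-complete modules

For a module `M` with `Crit f M` (the elementwise criterion for derived `f`-completeness), every
sequence `y : ℕ → M` has a well-defined "sum" `∑ f ^ k • y k`.  This gives `M` the structure of a
module over `A⟦X⟧` in which `X` acts as `f`.
-/

set_option autoImplicit false
universe u
open PowerSeries

namespace Groth.Agent.Lib.Seat60.DComp

open Groth.Agent.Lib.Helper10.DerComplete

variable {A : Type u} [CommRing A] {M : Type*} [AddCommGroup M] [Module A M] {f : A}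

/-- the solution `m` of `m n - f • m (n+1) = y n`; morally `m n = ∑ₖ f ^ k • y (n + k)`. -/
noncomputable def sol (h : Crit f M) (y : ℕ → M) : ℕ → M := (h.2 y).choose

lemma sol_spec (h : Crit f M) (y : ℕ → M) (n : ℕ) :
    sol h y n - f • sol h y (n + 1) = y n := (h.2 y).choose_spec n

lemma sol_unique (h : Crit f M) {y m : ℕ → M} (hm : ∀ n, m n - f • m (n + 1) = y n) :
    m = sol h y := by
  funext n
  have key := h.1 (fun n => m n - sol h y n) (fun n => by
    have h1 := hm n
    have h2 := sol_spec h y n
    have h3 : m n - f • m (n + 1) = sol h y n - f • sol h y (n + 1) := h1.trans h2.symm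
    change m n - sol h y n = f • (m (n + 1) - sol h y (n + 1))
    rw [smul_sub]
    rw [sub_eq_sub_iff_add_eq_add] at h3 ⊢
    rw [add_comm (f • m (n + 1)), ← h3, add_comm]) n
  exact sub_eq_zero.mp key

lemma sol_add (h : Crit f M) (y y' : ℕ → M) : sol h (y + y') = sol h y + sol h y' := by
  symm
  apply sol_unique
  intro n
  have h1 := sol_spec h y n
  have h2 := sol_spec h y' n
  simp only [Pi.add_apply, smul_add]
  rw [← h1, ← h2]
  abel

lemma sol_smul (h : Crit f M) (a : A) (y : ℕ → M) : sol h (a • y) = a • sol h y := by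
  symm
  apply sol_unique
  intro n
  have h1 := sol_spec h y n
  simp only [Pi.smul_apply]
  rw [← h1, smul_sub, smul_comm a f]

lemma sol_zero (h : Crit f M) : sol h (0 : ℕ → M) = 0 := by
  symm
  apply sol_unique
  intro n
  simp

lemma sol_shift (h : Crit f M) (y : ℕ → M) :
    sol h (fun n => y (n + 1)) = fun n => sol h y (n + 1) := by
  symm
  apply sol_unique
  intro n
  exact sol_spec h y (n + 1)

lemma sol_sum (h : Crit f M) {ι : Type*} (s : Finset ι) (y : ι → ℕ → M) :
    sol h (fun n => ∑ i ∈ s, y i n) = fun n => ∑ i ∈ s, sol h (y i) n := by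
  symm
  apply sol_unique
  intro n
  rw [Finset.smul_sum, ← Finset.sum_sub_distrib]
  exact Finset.sum_congr rfl fun i _ => sol_spec h (y i) n

/-- Fubini for the summation operator. -/
lemma sol_fubini (h : Crit f M) (c : ℕ → ℕ → M) :
    sol h (fun k => sol h (c k) 0) 0 =
      sol h (fun n => ∑ k ∈ Finset.range (n + 1), c k (n - k)) 0 := by
  -- `s k j = ∑_{j' ≥ j} f^(j'-j) c k j'`
  set s : ℕ → ℕ → M := fun k => sol h (c k) with hs
  -- `u k = ∑_{k' ≥ k} f^(k'-k) s k' 0`
  set u : ℕ → M := sol h (fun k => s k 0) with hu
  have hs' : ∀ k j, s k j - f • s k (j + 1) = c k j := fun k j => sol_spec h (c k) j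
  have hu' : ∀ k, u k - f • u (k + 1) = s k 0 := fun k => sol_spec h (fun k => s k 0) k
  set w : ℕ → M := fun n => (∑ k ∈ Finset.range (n + 1), s k (n - k)) + f • u (n + 1) with hw
  have hw' : w = sol h (fun n => ∑ k ∈ Finset.range (n + 1), c k (n - k)) := by
    apply sol_unique
    intro n
    simp only [hw]
    rw [Finset.sum_range_succ (fun k => s k (n + 1 - k)) (n + 1)]
    have e1 : ∑ k ∈ Finset.range (n + 1), s k (n + 1 - k) =
        ∑ k ∈ Finset.range (n + 1), s k (n - k + 1) := by
      refine Finset.sum_congr rfl fun k hk => ?_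
      rw [Finset.mem_range] at hk
      congr 1
      omega
    rw [e1, Nat.sub_self]
    have e2 : ∑ k ∈ Finset.range (n + 1), c k (n - k) =
        ∑ k ∈ Finset.range (n + 1), (s k (n - k) - f • s k (n - k + 1)) :=
      Finset.sum_congr rfl fun k _ => (hs' k (n - k)).symm
    rw [e2, Finset.sum_sub_distrib, ← Finset.smul_sum]
    have e3 := hu' (n + 1)
    rw [← e3, add_assoc, sub_add_cancel, smul_add]
    abel
  have h0 : w 0 = u 0 := by
    simp only [hw]
    have := hu' 0
    simp only [zero_add, Finset.range_one, Finset.sum_singleton, Nat.sub_zero]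
    rw [← this]
    abel
  change u 0 = _
  rw [← hw', h0]

/-- the action of a power series: `p • m = ∑ₖ f ^ k • pₖ • m`. -/
noncomputable def psSMul (h : Crit f M) (p : A⟦X⟧) (m : M) : M :=
  sol h (fun k => coeff k p • m) 0

lemma psSMul_add_left (h : Crit f M) (p q : A⟦X⟧) (m : M) :
    psSMul h (p + q) m = psSMul h p m + psSMul h q m := by
  unfold psSMul
  have : (fun k => coeff k (p + q) • m) = (fun k => coeff k p • m) + (fun k => coeff k q • m) := by
    funext k
    simp [add_smul]
  rw [this, sol_add]
  rfl

lemma psSMul_add_right (h : Crit f M) (p : A⟦X⟧) (m m' : M) :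
    psSMul h p (m + m') = psSMul h p m + psSMul h p m' := by
  unfold psSMul
  have : (fun k => coeff k p • (m + m')) = (fun k => coeff k p • m) + (fun k => coeff k p • m') := by
    funext k
    simp [smul_add]
  rw [this, sol_add]
  rfl

lemma psSMul_zero_left (h : Crit f M) (m : M) : psSMul h 0 m = 0 := by
  unfold psSMul
  have : (fun k => coeff k (0 : A⟦X⟧) • m) = 0 := by
    funext k
    simp
  rw [this, sol_zero]
  rfl

lemma psSMul_zero_right (h : Crit f M) (p : A⟦X⟧) : psSMul h p (0 : M) = 0 := by
  unfold psSMul
  have : (fun k => coeff k p • (0 : M)) = 0 := by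
    funext k
    simp
  rw [this, sol_zero]
  rfl

lemma psSMul_C (h : Crit f M) (a : A) (m : M) : psSMul h (C a) m = a • m := by
  unfold psSMul
  have : (fun n => if n = 0 then a • m else 0) = sol h (fun k => coeff k (C a : A⟦X⟧) • m) := by
    apply sol_unique
    intro n
    rcases Nat.eq_zero_or_pos n with rfl | hn
    · simp [coeff_C]
    · have : n ≠ 0 := hn.ne'
      simp [coeff_C, this]
  rw [← this]
  simp

lemma psSMul_one (h : Crit f M) (m : M) : psSMul h 1 m = m := by
  have := psSMul_C h 1 m
  rwa [map_one, one_smul] at this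

lemma psSMul_X (h : Crit f M) (m : M) : psSMul h X m = f • m := by
  unfold psSMul
  have : (fun n => if n = 0 then f • m else if n = 1 then m else 0) =
      sol h (fun k => coeff k (X : A⟦X⟧) • m) := by
    apply sol_unique
    intro n
    rcases n with _ | _ | n
    · simp [coeff_X]
    · simp [coeff_X]
    · simp [coeff_X]
  rw [← this]
  simp

lemma psSMul_mul (h : Crit f M) (p q : A⟦X⟧) (m : M) :
    psSMul h (p * q) m = psSMul h p (psSMul h q m) := by
  unfold psSMul
  have e1 : (fun k => coeff k p • sol h (fun j => coeff j q • m) 0) =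
      fun k => sol h (fun j => (coeff k p * coeff j q) • m) 0 := by
    funext k
    have : (fun j => (coeff k p * coeff j q) • m) = coeff k p • (fun j => coeff j q • m) := by
      funext j
      simp [mul_smul]
    rw [this, sol_smul]
    rfl
  rw [e1, sol_fubini h (fun k j => (coeff k p * coeff j q) • m)]
  congr 1
  funext n
  rw [coeff_mul, Finset.Nat.sum_antidiagonal_eq_sum_range_succ (fun i j => coeff i p * coeff j q),
    Finset.sum_smul]

/-- the `A⟦X⟧`-module structure on a derived `f`-complete module, `X` acting as `f`. -/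
@[reducible] noncomputable def psModule (h : Crit f M) : Module A⟦X⟧ M where
  smul := psSMul h
  one_smul := psSMul_one h
  mul_smul := psSMul_mul h
  smul_zero := psSMul_zero_right h
  smul_add := psSMul_add_right h
  add_smul := psSMul_add_left h
  zero_smul := psSMul_zero_left h

lemma psModule_smul_def (h : Crit f M) (p : A⟦X⟧) (m : M) :
    letI := psModule h
    p • m = psSMul h p m := rfl

lemma psModule_C_smul (h : Crit f M) (a : A) (m : M) :
    letI := psModule h
    (C a : A⟦X⟧) • m = a • m := psSMul_C h a m

lemma psModule_X_smul (h : Crit f M) (m : M) :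
    letI := psModule h
    (X : A⟦X⟧) • m = f • m := psSMul_X h m

lemma psModule_isScalarTower (h : Crit f M) :
    letI := psModule h
    IsScalarTower A A⟦X⟧ M := by
  let _ := psModule h
  refine ⟨fun a p m => ?_⟩
  have h1 : a • p = (C a : A⟦X⟧) * p := by
    rw [← PowerSeries.smul_eq_C_mul]
  rw [h1, mul_smul]
  exact psModule_C_smul h a (p • m)

end Groth.Agent.Lib.Seat60.DComp
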