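import Mathlib
import Groth.Agent.Lib.Seat60DCompA
import Groth.Agent.Lib.Helper10DerComplete3
import Groth.Agent.Lib.Helper10DerComplete6
import Groth.Agent.S7048

/-!
# Derived complete modules with `M / I M` finite over a Noetherian ring are Hausdorff
-/

set_option autoImplicit false
universe u
open PowerSeries

namespace Groth.Agent.Lib.Seat60.DComp

open Groth.Agent.Lib.Helper10.DerComplete

attribute [local instance] HasDerivedCategory.standard

section general

variable {A : Type u} [CommRing A]

/-- `Crit` passes to cokernels, in the form of an exact sequence `N' → N → Q → 0`. -/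
lemma crit_of_exact {N' N Q : Type*} [AddCommGroup N'] [Module A N'] [AddCommGroup N] [Module A N]
    [AddCommGroup Q] [Module A Q] {g : A} (u : N' →ₗ[A] N) (π : N →ₗ[A] Q)
    (hπ : Function.Surjective π) (hex : LinearMap.ker π = LinearMap.range u)
    (h' : Crit g N') (h : Crit g N) : Crit g Q := by
  have h1 : Crit g (N ⧸ LinearMap.range u) := Crit.coker u h' h
  have e : (N ⧸ LinearMap.range u) ≃ₗ[A] Q :=
    (Submodule.quotEquivOfEq _ _ hex.symm).trans (π.quotKerEquivOfSurjective hπ)
  exact h1.of_linearEquiv e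

lemma crit_powerSeries {g : A} (h : Crit g A) : Crit g A⟦X⟧ :=
  (Crit.pi (Unit →₀ ℕ) h : Crit g ((Unit →₀ ℕ) → A))

lemma crit_X_powerSeries : Crit (X : A⟦X⟧) A⟦X⟧ := by
  have h1 := Groth.Agent.S7048.result (Ideal.span {(X : A⟦X⟧)}) A⟦X⟧
  rw [isDerivedComplete_iff_crit] at h1
  exact h1 X (Ideal.subset_span rfl)

end general

section quot

variable {A : Type u} [CommRing A] (f : A)

/-- the ring `A⟦X⟧ / (X - f)`. -/
abbrev Q : Type u := A⟦X⟧ ⧸ Ideal.span {(X - C f : A⟦X⟧)}

lemma ker_mk_eq_range_mul :
    LinearMap.ker (Ideal.Quotient.mkₐ A (Ideal.span {(X - C f : A⟦X⟧)})).toLinearMap =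
      LinearMap.range (LinearMap.mulLeft A (X - C f : A⟦X⟧)) := by
  ext x
  rw [LinearMap.mem_ker, LinearMap.mem_range]
  change Ideal.Quotient.mk _ x = 0 ↔ _
  rw [Ideal.Quotient.eq_zero_iff_mem, Ideal.mem_span_singleton']
  constructor
  · rintro ⟨a, ha⟩
    exact ⟨a, by rw [LinearMap.mulLeft_apply, mul_comm, ha]⟩
  · rintro ⟨a, ha⟩
    exact ⟨a, by rw [← ha, LinearMap.mulLeft_apply, mul_comm]⟩

lemma crit_quot_of_crit {g : A} (h : Crit g A) : Crit (algebraMap A (Q f) g) (Q f) := by
  have h1 : Crit g (Q f) :=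
    crit_of_exact (LinearMap.mulLeft A (X - C f : A⟦X⟧))
      (Ideal.Quotient.mkₐ A (Ideal.span {(X - C f : A⟦X⟧)})).toLinearMap
      (Ideal.Quotient.mkₐ_surjective A _) (ker_mk_eq_range_mul f)
      (crit_powerSeries h) (crit_powerSeries h)
  exact Crit.of_smul_eq (fun x => algebraMap_smul (Q f) g x) h1

lemma crit_quot_self : Crit (algebraMap A (Q f) f) (Q f) := by
  have h0 : Crit (X : A⟦X⟧) (Q f) := by
    refine crit_of_exact (LinearMap.mulLeft A⟦X⟧ (X - C f : A⟦X⟧))
      (Submodule.mkQ (Ideal.span {(X - C f : A⟦X⟧)})) (Submodule.mkQ_surjective _) ?_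
      crit_X_powerSeries crit_X_powerSeries
    ext x
    rw [Submodule.ker_mkQ, LinearMap.mem_range, Ideal.mem_span_singleton']
    constructor
    · rintro ⟨a, ha⟩
      exact ⟨a, by rw [LinearMap.mulLeft_apply, mul_comm, ha]⟩
    · rintro ⟨a, ha⟩
      exact ⟨a, by rw [← ha, LinearMap.mulLeft_apply, mul_comm]⟩
  refine Crit.of_smul_eq (fun x => ?_) h0
  obtain ⟨y, rfl⟩ := Ideal.Quotient.mk_surjective x
  change Ideal.Quotient.mk _ (C f) * Ideal.Quotient.mk _ y = Ideal.Quotient.mk _ (X * y)
  rw [← map_mul, Ideal.Quotient.eq, Ideal.mem_span_singleton']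
  exact ⟨-y, by ring⟩

end quot

/-- Base case: if the ring itself is derived complete, the module is finite and Krull's
intersection theorem applies. -/
theorem isHausdorff_base (A : Type u) [CommRing A] [IsNoetherianRing A] (s : Finset A)
    (M : Type u) [AddCommGroup M] [Module A M] (hM : ∀ f ∈ s, Crit f M) (hA : ∀ f ∈ s, Crit f A)
    (T : Finset M)
    (hT : Submodule.span A (T : Set M) ⊔ Ideal.span (s : Set A) • (⊤ : Submodule A M) = ⊤) :
    IsHausdorff (Ideal.span (s : Set A)) M ∧ Module.Finite A M := by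
  classical
  have hI : Ideal.span (s : Set A) ≤ critIdeal A A := Ideal.span_le.mpr (fun f hf => hA f hf)
  have hjac : Ideal.span (s : Set A) ≤ Ideal.jacobson ⊥ := by
    intro g hg
    rw [Ideal.mem_jacobson_bot]
    intro y
    have hc : Crit (g * (-y)) A := hI (Ideal.mul_mem_right _ _ hg)
    have hb := hc.bijective_id_sub (LinearMap.id : A →ₗ[A] A)
    obtain ⟨z, hz⟩ := hb.2 1
    refine IsUnit.of_mul_eq_one z ?_
    simp only [LinearMap.sub_apply, LinearMap.id_apply, LinearMap.smul_apply, smul_eq_mul] at hz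
    linear_combination hz
  let u : (T → A) →ₗ[A] M := Fintype.linearCombination A (fun i : T => (i : M))
  have hrange : LinearMap.range u = Submodule.span A (T : Set M) := by
    rw [Fintype.range_linearCombination]
    simp
  have hC : Subsingleton (M ⧸ LinearMap.range u) := by
    apply subsingleton_of_crit_of_smul_top_eq_top s
    · intro f hf
      exact Crit.coker u (Crit.pi _ (hA f hf)) (hM f hf)
    · have := congrArg (Submodule.map (LinearMap.range u).mkQ) hT
      rw [Submodule.map_sup, Submodule.map_top, Submodule.range_mkQ, Submodule.map_smul'',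
        Submodule.map_top, Submodule.range_mkQ, ← hrange, Submodule.mkQ_map_self,
        bot_sup_eq] at this
      exact this
  have hsurj : Function.Surjective u := by
    rw [← LinearMap.range_eq_top]
    exact Submodule.Quotient.subsingleton_iff.mp hC
  have : Module.Finite A M := Module.Finite.of_surjective u hsurj
  exact ⟨IsHausdorff.of_le_jacobson _ _ hjac, inferInstance⟩

end Groth.Agent.Lib.Seat60.DComp
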