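import Mathlib
import Groth.Agent.Lib.Seat60DCompB

/-!
# Derived complete modules with `M / I M` finite over a Noetherian ring are Hausdorff: induction
-/

set_option autoImplicit false
universe u
open PowerSeries

namespace Groth.Agent.Lib.Seat60.DComp

open Groth.Agent.Lib.Helper10.DerComplete

lemma isHausdorff_of_map {A B : Type*} [CommRing A] [CommRing B] [Algebra A B] (I : Ideal A)
    (M : Type*) [AddCommGroup M] [Module A M] [Module B M] [IsScalarTower A B M]
    (h : IsHausdorff (I.map (algebraMap A B)) M) : IsHausdorff I M := by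
  refine ⟨fun x hx => h.haus x (fun n => ?_)⟩
  have h1 := hx n
  rw [SModEq.zero] at h1 ⊢
  rw [← Ideal.map_pow]
  have e := Ideal.smul_restrictScalars (I ^ n) (⊤ : Submodule B M)
  rw [Submodule.restrictScalars_top] at e
  rw [← e] at h1
  exact h1

lemma fin_hyp_map {A B : Type*} [CommRing A] [CommRing B] [Algebra A B] (I : Ideal A)
    (M : Type*) [AddCommGroup M] [Module A M] [Module B M] [IsScalarTower A B M]
    (T : Finset M)
    (hT : Submodule.span A (T : Set M) ⊔ I • (⊤ : Submodule A M) = ⊤) :
    Submodule.span B (T : Set M) ⊔ (I.map (algebraMap A B)) • (⊤ : Submodule B M) = ⊤ := by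
  rw [eq_top_iff]
  intro x _
  have hx : x ∈ Submodule.span A (T : Set M) ⊔ I • (⊤ : Submodule A M) := by
    rw [hT]
    exact Submodule.mem_top
  obtain ⟨y, hy, z, hz, rfl⟩ := Submodule.mem_sup.mp hx
  refine Submodule.add_mem _ (Submodule.mem_sup_left ?_) (Submodule.mem_sup_right ?_)
  · exact Submodule.span_le_restrictScalars A B _ hy
  · have e := Ideal.smul_restrictScalars I (⊤ : Submodule B M)
    rw [Submodule.restrictScalars_top] at e
    rw [← e] at hz
    exact hz

/-- **Main induction.** -/
theorem isHausdorff_of_crit : ∀ (r : ℕ) (A : Type u) [CommRing A] [IsNoetherianRing A]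
    (s : Finset A) (M : Type u) [AddCommGroup M] [Module A M], (∀ f ∈ s, Crit f M) →
    (∃ T : Finset M,
      Submodule.span A (T : Set M) ⊔ Ideal.span (s : Set A) • (⊤ : Submodule A M) = ⊤) →
    ∀ bad : Finset A, (∀ f ∈ s, f ∉ bad → Crit f A) → bad.card ≤ r →
    IsHausdorff (Ideal.span (s : Set A)) M := by
  intro r
  induction r with
  | zero =>
    intro A _ _ s M _ _ hM ⟨T, hT⟩ bad hbad hcard
    have hb : bad = ∅ := Finset.card_eq_zero.mp (Nat.le_zero.mp hcard)
    exact (isHausdorff_base A s M hM (fun f hf => hbad f hf (by simp [hb])) T hT).1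
  | succ r ih =>
    intro A _ _ s M _ _ hM ⟨T, hT⟩ bad hbad hcard
    classical
    by_cases hall : ∀ f ∈ s, Crit f A
    · exact (isHausdorff_base A s M hM hall T hT).1
    · push Not at hall
      obtain ⟨f, hfs, hfA⟩ := hall
      have hfbad : f ∈ bad := by
        by_contra hcon
        exact hfA (hbad f hfs hcon)
      have hfM : Crit f M := hM f hfs
      let modP : Module A⟦X⟧ M := psModule hfM
      have towP : IsScalarTower A A⟦X⟧ M := psModule_isScalarTower hfM
      have htors : Module.IsTorsionBy A⟦X⟧ M (X - C f : A⟦X⟧) := by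
        intro m
        rw [sub_smul, psModule_X_smul hfM m, psModule_C_smul hfM f m, sub_self]
      let modB : Module (Q f) M := htors.module
      have towB : IsScalarTower A (Q f) M :=
        IsScalarTower.of_algebraMap_smul (R := A) (A := Q f) (M := M) (fun a m => by
          change (C a : A⟦X⟧) • m = a • m
          exact psModule_C_smul hfM a m)
      have key := ih (Q f) (s.image (algebraMap A (Q f))) M ?_ ⟨T, ?_⟩
        ((bad.erase f).image (algebraMap A (Q f))) ?_ ?_
      · apply isHausdorff_of_map (B := Q f)
        rwa [Ideal.map_span, ← Finset.coe_image]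
      · intro g' hg'
        obtain ⟨g, hg, rfl⟩ := Finset.mem_image.mp hg'
        exact Crit.of_smul_eq (fun x => algebraMap_smul (Q f) g x) (hM g hg)
      · have := fin_hyp_map (B := Q f) (Ideal.span (s : Set A)) M T hT
        rwa [Ideal.map_span, ← Finset.coe_image] at this
      · intro g' hg' hg'bad
        obtain ⟨g, hg, rfl⟩ := Finset.mem_image.mp hg'
        by_cases hgf : g = f
        · rw [hgf]
          exact crit_quot_self f
        · have hgb : g ∉ bad := by
            intro hcon
            exact hg'bad (Finset.mem_image_of_mem _ (Finset.mem_erase.mpr ⟨hgf, hcon⟩))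
          exact crit_quot_of_crit f (hbad g hg hgb)
      · calc ((bad.erase f).image (algebraMap A (Q f))).card ≤ (bad.erase f).card :=
              Finset.card_image_le
          _ = bad.card - 1 := Finset.card_erase_of_mem hfbad
          _ ≤ r := by omega

end Groth.Agent.Lib.Seat60.DComp
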