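import Mathlib

/-! Seat60: a planar duality count. For two staircase functions `h, g` on the quadrant and a level `c`,
the spaces `Xa` and `Xb` (models of two multigraded pieces of the tangent space of a monomial ideal in
three variables) have dimensions differing by an explicit count of lattice vertices, edges and squares. -/

set_option autoImplicit false
set_option linter.style.haveILetI false
set_option linter.unusedSectionVars false
set_option linter.unusedVariables false

namespace Groth.Agent.Lib.Seat60.Dual2D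

open Module

variable {k : Type*} [Field k]


/-- the transpose-kernel of a linear map between coordinate spaces -/
def Kt {E S : Type*} [Fintype E] [Fintype S] [DecidableEq E] (D : (E → k) →ₗ[k] (S → k)) :
    Submodule k (S → k) where
  carrier := {w | ∀ e, ∑ s, w s * D (Pi.single e 1) s = 0}
  zero_mem' := by intro e; simp
  add_mem' := by
    intro a b ha hb e
    have h1 := ha e
    have h2 := hb e
    simp only [Pi.add_apply, add_mul, Finset.sum_add_distrib, h1, h2, add_zero]
  smul_mem' := by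
    intro r a ha e
    have h1 := ha e
    simp only [Pi.smul_apply, smul_eq_mul, mul_assoc, ← Finset.mul_sum, h1, mul_zero]

lemma finrank_Kt {E S : Type*} [Fintype E] [Fintype S] [DecidableEq E] [DecidableEq S]
    (D : (E → k) →ₗ[k] (S → k)) :
    finrank k (Kt D) + finrank k (LinearMap.range D) = Fintype.card S := by
  set M : Matrix S E k := LinearMap.toMatrix' D with hM
  have h1 : Kt D = LinearMap.ker (M.transpose.mulVecLin) := by
    ext w
    rw [LinearMap.mem_ker]
    constructor
    · intro hw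
      funext e
      rw [Matrix.mulVecLin_apply]
      simp only [Matrix.mulVec, dotProduct, Matrix.transpose_apply, Pi.zero_apply]
      rw [← hw e]
      apply Finset.sum_congr rfl
      intro s _
      rw [hM, LinearMap.toMatrix'_apply, mul_comm]
    · intro hw e
      have := congrFun hw e
      rw [Matrix.mulVecLin_apply] at this
      simp only [Matrix.mulVec, dotProduct, Matrix.transpose_apply, Pi.zero_apply] at this
      rw [← this]
      apply Finset.sum_congr rfl
      intro s _
      rw [hM, LinearMap.toMatrix'_apply, mul_comm]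
  have h2 : finrank k (LinearMap.range D) = M.transpose.rank := by
    rw [Matrix.rank_transpose]
    unfold Matrix.rank
    rw [← Matrix.toLin'_apply', hM, Matrix.toLin'_toMatrix']
  have h3 := LinearMap.finrank_range_add_finrank_ker (M.transpose.mulVecLin)
  rw [h1, h2]
  unfold Matrix.rank
  rw [add_comm, h3, Module.finrank_fintype_fun_eq_card]



/-- functions on the quadrant -/
abbrev Fn (k : Type*) := ℕ → ℕ → k

/-- index type of a planar predicate -/
abbrev Idx (P : ℕ → ℕ → Prop) : Type := {p : ℕ × ℕ // P p.1 p.2}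

open Classical in
/-- extension by zero -/
noncomputable def ext0 (P : ℕ → ℕ → Prop) : (Idx P → k) →ₗ[k] Fn k where
  toFun w := fun x y => if h : P x y then w ⟨(x, y), h⟩ else 0
  map_add' a b := by
    funext x y
    by_cases h : P x y <;> simp [h]
  map_smul' r a := by
    funext x y
    by_cases h : P x y <;> simp [h]

open Classical in
lemma ext0_pos {P : ℕ → ℕ → Prop} (w : Idx P → k) {x y : ℕ} (h : P x y) :
    ext0 P w x y = w ⟨(x, y), h⟩ := by
  show (if h : P x y then w ⟨(x, y), h⟩ else 0) = _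
  rw [dif_pos h]

open Classical in
lemma ext0_neg {P : ℕ → ℕ → Prop} (w : Idx P → k) {x y : ℕ} (h : ¬ P x y) :
    ext0 P w x y = 0 := by
  show (if h : P x y then w ⟨(x, y), h⟩ else 0) = _
  rw [dif_neg h]

lemma ext0_injective (P : ℕ → ℕ → Prop) : Function.Injective (ext0 (k := k) P) := by
  intro a b hab
  funext p
  have := congrFun (congrFun hab p.1.1) p.1.2
  rw [ext0_pos a p.2, ext0_pos b p.2] at this
  exact this

/-- functions supported on a planar predicate -/
def Supp (k : Type*) [Field k] (P : ℕ → ℕ → Prop) : Submodule k (Fn k) where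
  carrier := {u | ∀ x y, ¬ P x y → u x y = 0}
  zero_mem' := by intro x y _; rfl
  add_mem' := by
    intro a b ha hb x y h
    show a x y + b x y = 0
    rw [ha x y h, hb x y h, add_zero]
  smul_mem' := by
    intro r a ha x y h
    show r • a x y = 0
    rw [ha x y h, smul_zero]

lemma range_ext0 (P : ℕ → ℕ → Prop) : LinearMap.range (ext0 (k := k) P) = Supp k P := by
  ext u
  constructor
  · rintro ⟨w, rfl⟩ x y h
    exact ext0_neg w h
  · intro hu
    refine ⟨fun p => u p.1.1 p.1.2, ?_⟩
    funext x y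
    by_cases h : P x y
    · rw [ext0_pos _ h]
    · rw [ext0_neg _ h, hu x y h]

lemma finrank_Supp (P : ℕ → ℕ → Prop) [Finite (Idx P)] :
    finrank k (Supp k P) = Nat.card (Idx P) := by
  haveI := Fintype.ofFinite (Idx P)
  rw [← range_ext0, LinearMap.finrank_range_of_inj (ext0_injective P),
    Module.finrank_fintype_fun_eq_card, Nat.card_eq_fintype_card]

lemma finite_Supp (P : ℕ → ℕ → Prop) [Finite (Idx P)] : Module.Finite k (Supp k P) := by
  haveI := Fintype.ofFinite (Idx P)
  rw [← range_ext0]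
  exact Module.Finite.range _




/-- hypotheses on the two staircase functions -/
structure Hyp (h g : ℕ → ℕ → ℕ) : Prop where
  hx : ∀ x y, h (x + 1) y ≤ h x y
  hy : ∀ x y, h x (y + 1) ≤ h x y
  gx : ∀ x y, g (x + 1) y ≤ g x y
  gy : ∀ x y, g x (y + 1) ≤ g x y
  bdd : ∃ M, ∀ x y, M ≤ x ∨ M ≤ y → h x y = 0

section defs

variable (h g : ℕ → ℕ → ℕ) (c : ℕ)

def VN (x y : ℕ) : Prop := g x y + c ≤ h x y
def EN1 (x y : ℕ) : Prop := g (x + 1) y + c ≤ h x y
def EN2 (x y : ℕ) : Prop := g x (y + 1) + c ≤ h x y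
def SN (x y : ℕ) : Prop := g (x + 1) (y + 1) + c ≤ h x y

/-- the model of the graded piece of degree `(a, b, -c)` -/
def Xa (k : Type*) [Field k] : Submodule k (Fn k) where
  carrier := {u | (∀ x y, h x y < c → u x y = 0) ∧ (∀ x y, VN h g c x y → u x y = 0) ∧
    (∀ x y, ¬ EN1 h g c x y → u (x + 1) y = u x y) ∧
    (∀ x y, ¬ EN2 h g c x y → u x (y + 1) = u x y)}
  zero_mem' := ⟨fun _ _ _ => rfl, fun _ _ _ => rfl, fun _ _ _ => rfl, fun _ _ _ => rfl⟩
  add_mem' := by
    rintro a b ⟨ha1, ha2, ha3, ha4⟩ ⟨hb1, hb2, hb3, hb4⟩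
    refine ⟨fun x y hh => ?_, fun x y hh => ?_, fun x y hh => ?_, fun x y hh => ?_⟩
    · show a x y + b x y = 0
      rw [ha1 x y hh, hb1 x y hh, add_zero]
    · show a x y + b x y = 0
      rw [ha2 x y hh, hb2 x y hh, add_zero]
    · show a (x + 1) y + b (x + 1) y = a x y + b x y
      rw [ha3 x y hh, hb3 x y hh]
    · show a x (y + 1) + b x (y + 1) = a x y + b x y
      rw [ha4 x y hh, hb4 x y hh]
  smul_mem' := by
    rintro r a ⟨ha1, ha2, ha3, ha4⟩
    refine ⟨fun x y hh => ?_, fun x y hh => ?_, fun x y hh => ?_, fun x y hh => ?_⟩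
    · show r • a x y = 0
      rw [ha1 x y hh, smul_zero]
    · show r • a x y = 0
      rw [ha2 x y hh, smul_zero]
    · show r • a (x + 1) y = r • a x y
      rw [ha3 x y hh]
    · show r • a x (y + 1) = r • a x y
      rw [ha4 x y hh]

/-- the model of the graded piece of degree `(-a-1, -b-1, c-1)` -/
def Xb (k : Type*) [Field k] : Submodule k (Fn k) where
  carrier := {w | (∀ x y, ¬ SN h g c x y → w x y = 0) ∧
    (∀ x y, EN2 h g c (x + 1) y → w (x + 1) y = w x y) ∧
    (∀ x y, EN1 h g c x (y + 1) → w x (y + 1) = w x y) ∧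
    (∀ y, EN2 h g c 0 y → w 0 y = 0) ∧ (∀ x, EN1 h g c x 0 → w x 0 = 0)}
  zero_mem' := ⟨fun _ _ _ => rfl, fun _ _ _ => rfl, fun _ _ _ => rfl, fun _ _ => rfl,
    fun _ _ => rfl⟩
  add_mem' := by
    rintro a b ⟨ha1, ha2, ha3, ha4, ha5⟩ ⟨hb1, hb2, hb3, hb4, hb5⟩
    refine ⟨fun x y hh => ?_, fun x y hh => ?_, fun x y hh => ?_, fun y hh => ?_, fun x hh => ?_⟩
    · show a x y + b x y = 0
      rw [ha1 x y hh, hb1 x y hh, add_zero]
    · show a (x + 1) y + b (x + 1) y = a x y + b x y
      rw [ha2 x y hh, hb2 x y hh]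
    · show a x (y + 1) + b x (y + 1) = a x y + b x y
      rw [ha3 x y hh, hb3 x y hh]
    · show a 0 y + b 0 y = 0
      rw [ha4 y hh, hb4 y hh, add_zero]
    · show a x 0 + b x 0 = 0
      rw [ha5 x hh, hb5 x hh, add_zero]
  smul_mem' := by
    rintro r a ⟨ha1, ha2, ha3, ha4, ha5⟩
    refine ⟨fun x y hh => ?_, fun x y hh => ?_, fun x y hh => ?_, fun y hh => ?_, fun x hh => ?_⟩
    · show r • a x y = 0
      rw [ha1 x y hh, smul_zero]
    · show r • a (x + 1) y = r • a x y
      rw [ha2 x y hh]
    · show r • a x (y + 1) = r • a x y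
      rw [ha3 x y hh]
    · show r • a 0 y = 0
      rw [ha4 y hh, smul_zero]
    · show r • a x 0 = 0
      rw [ha5 x hh, smul_zero]

/-- the auxiliary space `A` -/
def XA (k : Type*) [Field k] : Submodule k (Fn k) where
  carrier := {u | (∀ x y, h x y < c → u x y = 0) ∧
    (∀ x y, ¬ EN1 h g c x y → u (x + 1) y = u x y) ∧
    (∀ x y, ¬ EN2 h g c x y → u x (y + 1) = u x y)}
  zero_mem' := ⟨fun _ _ _ => rfl, fun _ _ _ => rfl, fun _ _ _ => rfl⟩
  add_mem' := by
    rintro a b ⟨ha1, ha3, ha4⟩ ⟨hb1, hb3, hb4⟩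
    refine ⟨fun x y hh => ?_, fun x y hh => ?_, fun x y hh => ?_⟩
    · show a x y + b x y = 0
      rw [ha1 x y hh, hb1 x y hh, add_zero]
    · show a (x + 1) y + b (x + 1) y = a x y + b x y
      rw [ha3 x y hh, hb3 x y hh]
    · show a x (y + 1) + b x (y + 1) = a x y + b x y
      rw [ha4 x y hh, hb4 x y hh]
  smul_mem' := by
    rintro r a ⟨ha1, ha3, ha4⟩
    refine ⟨fun x y hh => ?_, fun x y hh => ?_, fun x y hh => ?_⟩
    · show r • a x y = 0
      rw [ha1 x y hh, smul_zero]
    · show r • a (x + 1) y = r • a x y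
      rw [ha3 x y hh]
    · show r • a x (y + 1) = r • a x y
      rw [ha4 x y hh]

/-- the coboundary from vertex functions to edge functions -/
def d0 (k : Type*) [Field k] : Fn k →ₗ[k] (Fn k × Fn k) where
  toFun u := (fun x y => u (x + 1) y - u x y, fun x y => u x (y + 1) - u x y)
  map_add' a b := by
    ext x y
    · show (a (x+1) y + b (x+1) y) - (a x y + b x y) = (a (x+1) y - a x y) + (b (x+1) y - b x y)
      ring
    · show (a x (y+1) + b x (y+1)) - (a x y + b x y) = (a x (y+1) - a x y) + (b x (y+1) - b x y)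
      ring
  map_smul' r a := by
    ext x y
    · show r * a (x+1) y - r * a x y = r * (a (x+1) y - a x y)
      ring
    · show r * a x (y+1) - r * a x y = r * (a x (y+1) - a x y)
      ring

/-- the coboundary from edge functions to square functions -/
def d1 (k : Type*) [Field k] : (Fn k × Fn k) →ₗ[k] Fn k where
  toFun ω := fun x y => ω.1 x y + ω.2 (x + 1) y - ω.1 x (y + 1) - ω.2 x y
  map_add' a b := by
    funext x y
    show (a.1 x y + b.1 x y) + (a.2 (x+1) y + b.2 (x+1) y) - (a.1 x (y+1) + b.1 x (y+1)) -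
      (a.2 x y + b.2 x y) = (a.1 x y + a.2 (x + 1) y - a.1 x (y + 1) - a.2 x y) +
      (b.1 x y + b.2 (x + 1) y - b.1 x (y + 1) - b.2 x y)
    ring
  map_smul' r a := by
    funext x y
    show r * a.1 x y + r * a.2 (x+1) y - r * a.1 x (y+1) - r * a.2 x y =
      r * (a.1 x y + a.2 (x + 1) y - a.1 x (y + 1) - a.2 x y)
    ring

/-- the cocycle space `Z` -/
def XZ (k : Type*) [Field k] : Submodule k (Fn k × Fn k) where
  carrier := {ω | (∀ x y, ¬ EN1 h g c x y → ω.1 x y = 0) ∧ (∀ x y, ¬ EN2 h g c x y → ω.2 x y = 0) ∧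
    d1 k ω = 0}
  zero_mem' := ⟨fun _ _ _ => rfl, fun _ _ _ => rfl, map_zero _⟩
  add_mem' := by
    rintro a b ⟨ha1, ha2, ha3⟩ ⟨hb1, hb2, hb3⟩
    refine ⟨fun x y hh => ?_, fun x y hh => ?_, ?_⟩
    · show a.1 x y + b.1 x y = 0
      rw [ha1 x y hh, hb1 x y hh, add_zero]
    · show a.2 x y + b.2 x y = 0
      rw [ha2 x y hh, hb2 x y hh, add_zero]
    · rw [map_add, ha3, hb3, add_zero]
  smul_mem' := by
    rintro r a ⟨ha1, ha2, ha3⟩
    refine ⟨fun x y hh => ?_, fun x y hh => ?_, ?_⟩
    · show r • a.1 x y = 0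
      rw [ha1 x y hh, smul_zero]
    · show r • a.2 x y = 0
      rw [ha2 x y hh, smul_zero]
    · rw [map_smul, ha3, smul_zero]

end defs

end Groth.Agent.Lib.Seat60.Dual2D
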