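import Mathlib
import Groth.Agent.Lib.Seat60Dual2D

/-! Seat60: proof of the planar duality count (see `Seat60Dual2D`). -/

set_option autoImplicit false
set_option linter.style.haveILetI false
set_option linter.unusedSectionVars false
set_option linter.unusedVariables false

namespace Groth.Agent.Lib.Seat60.Dual2D

open Module

variable {k : Type*} [Field k]

variable {h g : ℕ → ℕ → ℕ} {c : ℕ}


lemma Hyp.h_le_of_le_x (H : Hyp h g) (x y : ℕ) (t : ℕ) : h (x + t) y ≤ h x y := by
  induction t with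
  | zero => exact le_rfl
  | succ t ih => exact (H.hx (x + t) y).trans ih

lemma Hyp.h_le_of_le_y (H : Hyp h g) (x y : ℕ) (t : ℕ) : h x (y + t) ≤ h x y := by
  induction t with
  | zero => exact le_rfl
  | succ t ih => exact (H.hy x (y + t)).trans ih

lemma finite_idx_of_bdd (P : ℕ → ℕ → Prop) (M : ℕ) (hP : ∀ x y, P x y → x < M ∧ y < M) :
    Finite (Idx P) := by
  have : ({p : ℕ × ℕ | P p.1 p.2}).Finite := by
    apply Set.Finite.subset (Finset.finite_toSet (Finset.range M ×ˢ Finset.range M))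
    intro p hp
    simp only [Finset.coe_product, Finset.coe_range, Set.mem_prod, Set.mem_Iio]
    exact hP p.1 p.2 hp
  exact this.to_subtype

lemma Hyp.finite_of_le (H : Hyp h g) (hc : 1 ≤ c) (P : ℕ → ℕ → Prop)
    (hP : ∀ x y, P x y → c ≤ h x y) : Finite (Idx P) := by
  obtain ⟨M, hM⟩ := H.bdd
  apply finite_idx_of_bdd P M
  intro x y hxy
  have := hP x y hxy
  constructor
  · by_contra hcon
    have := hM x y (Or.inl (not_lt.mp hcon))
    omega
  · by_contra hcon
    have := hM x y (Or.inr (not_lt.mp hcon))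
    omega

lemma Hyp.finite_VN (H : Hyp h g) (hc : 1 ≤ c) : Finite (Idx (VN h g c)) :=
  H.finite_of_le hc _ (fun x y hh => by unfold VN at hh; omega)

lemma Hyp.finite_EN1 (H : Hyp h g) (hc : 1 ≤ c) : Finite (Idx (EN1 h g c)) :=
  H.finite_of_le hc _ (fun x y hh => by unfold EN1 at hh; omega)

lemma Hyp.finite_EN2 (H : Hyp h g) (hc : 1 ≤ c) : Finite (Idx (EN2 h g c)) :=
  H.finite_of_le hc _ (fun x y hh => by unfold EN2 at hh; omega)

lemma Hyp.finite_SN (H : Hyp h g) (hc : 1 ≤ c) : Finite (Idx (SN h g c)) :=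
  H.finite_of_le hc _ (fun x y hh => by unfold SN at hh; omega)

lemma Hyp.finite_V (H : Hyp h g) (hc : 1 ≤ c) : Finite (Idx (fun x y => c ≤ h x y)) :=
  H.finite_of_le hc _ (fun x y hh => hh)

/-! ### `XA = Xa ⊕ Supp VN` -/

lemma XA_le_Supp : XA h g c k ≤ Supp k (fun x y => c ≤ h x y) := by
  intro u hu x y hxy
  exact hu.1 x y (not_le.mp hxy)

lemma Xa_le_XA : Xa h g c k ≤ XA h g c k := fun u hu => ⟨hu.1, hu.2.2.1, hu.2.2.2⟩

lemma Supp_VN_le_XA (H : Hyp h g) : Supp k (VN h g c) ≤ XA h g c k := by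
  intro u hu
  refine ⟨fun x y hh => ?_, fun x y hh => ?_, fun x y hh => ?_⟩
  · apply hu
    unfold VN
    omega
  · have h1 : ¬ VN h g c x y := by
      unfold VN; unfold EN1 at hh
      have := H.gx x y
      omega
    have h2 : ¬ VN h g c (x + 1) y := by
      unfold VN; unfold EN1 at hh
      have := H.hx x y
      omega
    rw [hu _ _ h1, hu _ _ h2]
  · have h1 : ¬ VN h g c x y := by
      unfold VN; unfold EN2 at hh
      have := H.gy x y
      omega
    have h2 : ¬ VN h g c x (y + 1) := by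
      unfold VN; unfold EN2 at hh
      have := H.hy x y
      omega
    rw [hu _ _ h1, hu _ _ h2]

lemma Xa_inf_Supp_VN : Xa h g c k ⊓ Supp k (VN h g c) = ⊥ := by
  rw [eq_bot_iff]
  rintro u ⟨hu1, hu2⟩
  rw [Submodule.mem_bot]
  funext x y
  by_cases hv : VN h g c x y
  · exact hu1.2.1 x y hv
  · exact hu2 x y hv

open Classical in
lemma XA_le_sup (H : Hyp h g) : XA h g c k ≤ Xa h g c k ⊔ Supp k (VN h g c) := by
  intro u hu
  rw [Submodule.mem_sup]
  refine ⟨fun x y => if VN h g c x y then 0 else u x y, ?_,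
    fun x y => if VN h g c x y then u x y else 0, ?_, ?_⟩
  · refine ⟨fun x y hh => ?_, fun x y hh => ?_, fun x y hh => ?_, fun x y hh => ?_⟩
    · show (if VN h g c x y then 0 else u x y) = 0
      rw [hu.1 x y hh, ite_self]
    · show (if VN h g c x y then 0 else u x y) = 0
      rw [if_pos hh]
    · have h1 : ¬ VN h g c x y := by
        unfold VN; unfold EN1 at hh
        have := H.gx x y
        omega
      have h2 : ¬ VN h g c (x + 1) y := by
        unfold VN; unfold EN1 at hh
        have := H.hx x y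
        omega
      show (if VN h g c (x+1) y then 0 else u (x+1) y) = (if VN h g c x y then 0 else u x y)
      rw [if_neg h1, if_neg h2]
      exact hu.2.1 x y hh
    · have h1 : ¬ VN h g c x y := by
        unfold VN; unfold EN2 at hh
        have := H.gy x y
        omega
      have h2 : ¬ VN h g c x (y + 1) := by
        unfold VN; unfold EN2 at hh
        have := H.hy x y
        omega
      show (if VN h g c x (y+1) then 0 else u x (y+1)) = (if VN h g c x y then 0 else u x y)
      rw [if_neg h1, if_neg h2]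
      exact hu.2.2 x y hh
  · intro x y hh
    show (if VN h g c x y then u x y else 0) = 0
    rw [if_neg hh]
  · funext x y
    show (if VN h g c x y then 0 else u x y) + (if VN h g c x y then u x y else 0) = u x y
    by_cases hv : VN h g c x y
    · rw [if_pos hv, if_pos hv, zero_add]
    · rw [if_neg hv, if_neg hv, add_zero]

lemma XA_eq_sup (H : Hyp h g) : XA h g c k = Xa h g c k ⊔ Supp k (VN h g c) :=
  le_antisymm (XA_le_sup H) (sup_le Xa_le_XA (Supp_VN_le_XA H))

lemma finite_XA (H : Hyp h g) (hc : 1 ≤ c) : Module.Finite k (XA h g c k) := by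
  haveI := H.finite_V hc
  haveI : Module.Finite k (Supp k (fun x y => c ≤ h x y)) := finite_Supp _
  exact Submodule.finiteDimensional_of_le XA_le_Supp

lemma finite_Xa (H : Hyp h g) (hc : 1 ≤ c) : Module.Finite k (Xa h g c k) := by
  haveI := finite_XA (k := k) H hc
  exact Submodule.finiteDimensional_of_le Xa_le_XA

lemma finrank_XA (H : Hyp h g) (hc : 1 ≤ c) :
    finrank k (XA h g c k) = finrank k (Xa h g c k) + Nat.card (Idx (VN h g c)) := by
  haveI := H.finite_VN hc
  haveI : Module.Finite k (Supp k (VN h g c)) := finite_Supp _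
  haveI := finite_Xa (k := k) H hc
  have h1 := Submodule.finrank_sup_add_finrank_inf_eq (Xa h g c k) (Supp k (VN h g c))
  rw [Xa_inf_Supp_VN, finrank_bot, add_zero, ← XA_eq_sup H, finrank_Supp] at h1
  exact h1




lemma d0_fst (u : Fn k) (x y : ℕ) : (d0 k u).1 x y = u (x + 1) y - u x y := rfl
lemma d0_snd (u : Fn k) (x y : ℕ) : (d0 k u).2 x y = u x (y + 1) - u x y := rfl
lemma d1_apply (ω : Fn k × Fn k) (x y : ℕ) :
    d1 k ω x y = ω.1 x y + ω.2 (x + 1) y - ω.1 x (y + 1) - ω.2 x y := rfl

lemma d1_d0 (u : Fn k) : d1 k (d0 k u) = 0 := by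
  funext x y
  rw [d1_apply, d0_fst, d0_fst, d0_snd, d0_snd]
  show _ = (0 : k)
  ring

lemma d0_mem_XZ {u : Fn k} (hu : u ∈ XA h g c k) : d0 k u ∈ XZ h g c k := by
  refine ⟨fun x y hh => ?_, fun x y hh => ?_, d1_d0 u⟩
  · rw [d0_fst, hu.2.1 x y hh, sub_self]
  · rw [d0_snd, hu.2.2 x y hh, sub_self]

/-- a function vanishing far out in the `x`-direction with zero `x`-differences vanishes -/
lemma eq_zero_of_d0_eq_zero (H : Hyp h g) (hc : 1 ≤ c) {u : Fn k} (hu : u ∈ XA h g c k)
    (h0 : d0 k u = 0) : u = 0 := by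
  obtain ⟨M, hM⟩ := H.bdd
  have hstep : ∀ x y, u (x + 1) y = u x y := by
    intro x y
    have := congrFun (congrFun (congrArg Prod.fst h0) x) y
    rw [d0_fst] at this
    exact sub_eq_zero.mp this
  have hshift : ∀ t x y, u (x + t) y = u x y := by
    intro t
    induction t with
    | zero => intro x y; rfl
    | succ t ih =>
      intro x y
      rw [← add_assoc, hstep, ih]
  funext x y
  rw [← hshift M x y]
  apply hu.1
  have := hM (x + M) y (Or.inl (Nat.le_add_left M x))
  show h (x + M) y < c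
  omega

/-- the planar Poincare lemma with supports -/
lemma exists_primitive (H : Hyp h g) (hc : 1 ≤ c) {ω : Fn k × Fn k} (hω : ω ∈ XZ h g c k) :
    ∃ u ∈ XA h g c k, d0 k u = ω := by
  obtain ⟨M, hM⟩ := H.bdd
  obtain ⟨hω1, hω2, hω3⟩ := hω
  have hfar1 : ∀ x y, M ≤ x → ω.1 x y = 0 := by
    intro x y hx
    apply hω1
    unfold EN1
    have := hM x y (Or.inl hx)
    omega
  have hfar2 : ∀ x y, M ≤ x → ω.2 x y = 0 := by
    intro x y hx
    apply hω2
    unfold EN2
    have := hM x y (Or.inl hx)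
    omega
  have hcoc : ∀ x y, ω.1 x (y + 1) - ω.1 x y = ω.2 (x + 1) y - ω.2 x y := by
    intro x y
    have := congrFun (congrFun hω3 x) y
    rw [d1_apply] at this
    have h0 : ω.1 x y + ω.2 (x + 1) y - ω.1 x (y + 1) - ω.2 x y = 0 := this
    linear_combination -h0
  set u : Fn k := fun x y => - ∑ s ∈ Finset.range M, ω.1 (x + s) y with hu
  have hd1 : ∀ x y, u (x + 1) y - u x y = ω.1 x y := by
    intro x y
    have h1 := Finset.sum_range_sub' (fun s => ω.1 (x + s) y) M
    simp only [add_zero] at h1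
    rw [hfar1 (x + M) y (Nat.le_add_left M x), sub_zero] at h1
    rw [← h1, Finset.sum_sub_distrib]
    show - ∑ s ∈ Finset.range M, ω.1 (x + 1 + s) y - - ∑ s ∈ Finset.range M, ω.1 (x + s) y = _
    have h2 : ∀ s, ω.1 (x + 1 + s) y = ω.1 (x + (s + 1)) y := by
      intro s
      rw [add_assoc, add_comm 1 s]
    simp only [h2]
    ring
  have hd2 : ∀ x y, u x (y + 1) - u x y = ω.2 x y := by
    intro x y
    have h1 := Finset.sum_range_sub' (fun s => ω.2 (x + s) y) M
    simp only [add_zero] at h1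
    rw [hfar2 (x + M) y (Nat.le_add_left M x), sub_zero] at h1
    rw [← h1]
    show - ∑ s ∈ Finset.range M, ω.1 (x + s) (y + 1) - - ∑ s ∈ Finset.range M, ω.1 (x + s) y = _
    rw [neg_sub_neg, ← Finset.sum_sub_distrib]
    apply Finset.sum_congr rfl
    intro s _
    have := hcoc (x + s) y
    rw [add_assoc] at this
    linear_combination -this
  refine ⟨u, ⟨fun x y hh => ?_, fun x y hh => ?_, fun x y hh => ?_⟩, ?_⟩
  · show - ∑ s ∈ Finset.range M, ω.1 (x + s) y = 0
    rw [neg_eq_zero]
    apply Finset.sum_eq_zero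
    intro s _
    apply hω1
    unfold EN1
    have := H.h_le_of_le_x x y s
    omega
  · have := hd1 x y
    rw [hω1 x y hh] at this
    exact sub_eq_zero.mp this
  · have := hd2 x y
    rw [hω2 x y hh] at this
    exact sub_eq_zero.mp this
  · ext x y
    · exact hd1 x y
    · exact hd2 x y

lemma map_d0_XA (H : Hyp h g) (hc : 1 ≤ c) : (XA h g c k).map (d0 k) = XZ h g c k := by
  apply le_antisymm
  · rintro _ ⟨u, hu, rfl⟩
    exact d0_mem_XZ hu
  · intro ω hω
    obtain ⟨u, hu, hu2⟩ := exists_primitive H hc hω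
    exact ⟨u, hu, hu2⟩

lemma finrank_XZ (H : Hyp h g) (hc : 1 ≤ c) :
    finrank k (XZ h g c k) = finrank k (XA h g c k) := by
  have hinj : Function.Injective ((d0 k).domRestrict (XA h g c k)) := by
    rw [injective_iff_map_eq_zero]
    intro u hu
    apply Subtype.ext
    exact eq_zero_of_d0_eq_zero H hc u.2 hu
  rw [← map_d0_XA H hc, ← LinearMap.range_domRestrict, LinearMap.finrank_range_of_inj hinj]




section fin

variable (h g c)

/-- the edge index type -/
abbrev ET : Type := Idx (EN1 h g c) ⊕ Idx (EN2 h g c)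

/-- extension by zero of edge functions -/
noncomputable def extE : (ET h g c → k) →ₗ[k] (Fn k × Fn k) :=
  LinearMap.prod ((ext0 (EN1 h g c)).comp (LinearMap.funLeft k k Sum.inl))
    ((ext0 (EN2 h g c)).comp (LinearMap.funLeft k k Sum.inr))

lemma extE_fst (ω : ET h g c → k) : (extE h g c ω).1 = ext0 (EN1 h g c) (fun p => ω (Sum.inl p)) := rfl
lemma extE_snd (ω : ET h g c → k) : (extE h g c ω).2 = ext0 (EN2 h g c) (fun p => ω (Sum.inr p)) := rfl

lemma extE_injective : Function.Injective (extE (k := k) h g c) := by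
  intro a b hab
  funext e
  rcases e with e | e
  · have h1 : (extE h g c a).1 = (extE h g c b).1 := by rw [hab]
    rw [extE_fst, extE_fst] at h1
    exact congrFun (ext0_injective _ h1) e
  · have h1 : (extE h g c a).2 = (extE h g c b).2 := by rw [hab]
    rw [extE_snd, extE_snd] at h1
    exact congrFun (ext0_injective _ h1) e

/-- restriction to the squares -/
def resS : Fn k →ₗ[k] (Idx (SN h g c) → k) where
  toFun f := fun p => f p.1.1 p.1.2
  map_add' _ _ := rfl
  map_smul' _ _ := rfl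

/-- the coboundary on the finite coordinate spaces -/
noncomputable def DD : (ET h g c → k) →ₗ[k] (Idx (SN h g c) → k) :=
  (resS h g c).comp ((d1 k).comp (extE h g c))

lemma DD_apply (ω : ET h g c → k) (p : Idx (SN h g c)) :
    DD h g c ω p = d1 k (extE h g c ω) p.1.1 p.1.2 := rfl

end fin

/-- `d1` of an edge function supported on `EN` is supported on `SN` -/
lemma d1_eq_zero_of_not_SN (H : Hyp h g) {ω : Fn k × Fn k}
    (h1 : ∀ x y, ¬ EN1 h g c x y → ω.1 x y = 0) (h2 : ∀ x y, ¬ EN2 h g c x y → ω.2 x y = 0)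
    {x y : ℕ} (hs : ¬ SN h g c x y) : d1 k ω x y = 0 := by
  unfold SN at hs
  rw [d1_apply]
  have e1 : ω.1 x y = 0 := by
    apply h1; unfold EN1
    have := H.gy (x + 1) y
    omega
  have e2 : ω.2 (x + 1) y = 0 := by
    apply h2; unfold EN2
    have := H.hx x y
    omega
  have e3 : ω.1 x (y + 1) = 0 := by
    apply h1; unfold EN1
    have := H.hy x y
    omega
  have e4 : ω.2 x y = 0 := by
    apply h2; unfold EN2
    have := H.gx x (y + 1)
    omega
  rw [e1, e2, e3, e4]
  ring

lemma map_extE_ker (H : Hyp h g) : (LinearMap.ker (DD (k := k) h g c)).map (extE h g c) = XZ h g c k := by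
  apply le_antisymm
  · rintro _ ⟨ω, hω, rfl⟩
    rw [SetLike.mem_coe, LinearMap.mem_ker] at hω
    have h1 : ∀ x y, ¬ EN1 h g c x y → (extE h g c ω).1 x y = 0 := by
      intro x y hh
      rw [extE_fst, ext0_neg _ hh]
    have h2 : ∀ x y, ¬ EN2 h g c x y → (extE h g c ω).2 x y = 0 := by
      intro x y hh
      rw [extE_snd, ext0_neg _ hh]
    refine ⟨h1, h2, ?_⟩
    funext x y
    by_cases hs : SN h g c x y
    · have := congrFun hω ⟨(x, y), hs⟩
      rw [DD_apply] at this
      exact this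
    · exact d1_eq_zero_of_not_SN H h1 h2 hs
  · rintro ω ⟨h1, h2, h3⟩
    refine ⟨fun e => Sum.elim (fun p => ω.1 p.1.1 p.1.2) (fun p => ω.2 p.1.1 p.1.2) e, ?_, ?_⟩
    · rw [SetLike.mem_coe, LinearMap.mem_ker]
      funext p
      rw [DD_apply]
      have : extE h g c (fun e => Sum.elim (fun p => ω.1 p.1.1 p.1.2) (fun p => ω.2 p.1.1 p.1.2) e) = ω := by
        ext x y
        · rw [extE_fst]
          by_cases hh : EN1 h g c x y
          · rw [ext0_pos _ hh]; rfl
          · rw [ext0_neg _ hh, h1 x y hh]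
        · rw [extE_snd]
          by_cases hh : EN2 h g c x y
          · rw [ext0_pos _ hh]; rfl
          · rw [ext0_neg _ hh, h2 x y hh]
      rw [this, h3]
      rfl
    · ext x y
      · rw [extE_fst]
        by_cases hh : EN1 h g c x y
        · rw [ext0_pos _ hh]; rfl
        · rw [ext0_neg _ hh, h1 x y hh]
      · rw [extE_snd]
        by_cases hh : EN2 h g c x y
        · rw [ext0_pos _ hh]; rfl
        · rw [ext0_neg _ hh, h2 x y hh]

lemma finrank_XZ_eq_ker (H : Hyp h g) :
    finrank k (XZ h g c k) = finrank k (LinearMap.ker (DD (k := k) h g c)) := by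
  rw [← map_extE_ker H]
  exact (Submodule.equivMapOfInjective _ (extE_injective h g c) _).finrank_eq.symm


section transpose

open Classical in
lemma ext0_indicator (P : ℕ → ℕ → Prop) (p : Idx P) (x y : ℕ) :
    ext0 (k := k) P (fun q => if q = p then 1 else 0) x y = if (x, y) = p.1 then 1 else 0 := by
  by_cases hh : P x y
  · rw [ext0_pos _ hh]
    by_cases hp : (x, y) = p.1
    · rw [if_pos hp, if_pos (Subtype.ext hp)]
    · rw [if_neg hp, if_neg (fun h => hp (congrArg Subtype.val h))]
  · rw [ext0_neg _ hh, if_neg]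
    intro hp
    apply hh
    have := p.2
    rw [← hp] at this
    exact this

lemma ext0_zero' (P : ℕ → ℕ → Prop) (x y : ℕ) :
    ext0 (k := k) P (fun _ => 0) x y = 0 := by
  have : ext0 (k := k) P (fun _ => 0) = 0 := map_zero _
  rw [this]; rfl

open Classical in
lemma DD_single_inl (p : Idx (EN1 h g c)) (s : Idx (SN h g c)) :
    DD (k := k) h g c (Pi.single (Sum.inl p) 1) s =
      (if s.1 = p.1 then 1 else 0) - (if (s.1.1, s.1.2 + 1) = p.1 then 1 else 0) := by
  have h1 : (fun q : Idx (EN1 h g c) => (Pi.single (Sum.inl p) (1:k) : ET h g c → k) (Sum.inl q)) =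
      fun q => if q = p then 1 else 0 := by
    funext q
    rw [Pi.single_apply]
    simp only [Sum.inl.injEq]
  have h2 : (fun q : Idx (EN2 h g c) => (Pi.single (Sum.inl p) (1:k) : ET h g c → k) (Sum.inr q)) =
      fun _ => 0 := by
    funext q
    rw [Pi.single_apply, if_neg]
    exact Sum.inr_ne_inl
  rw [DD_apply, d1_apply, extE_fst, extE_snd, h1, h2, ext0_zero', ext0_zero', ext0_indicator,
    ext0_indicator]
  simp only [Prod.mk.eta]
  ring

open Classical in
lemma DD_single_inr (p : Idx (EN2 h g c)) (s : Idx (SN h g c)) :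
    DD (k := k) h g c (Pi.single (Sum.inr p) 1) s =
      (if (s.1.1 + 1, s.1.2) = p.1 then 1 else 0) - (if s.1 = p.1 then 1 else 0) := by
  have h1 : (fun q : Idx (EN2 h g c) => (Pi.single (Sum.inr p) (1:k) : ET h g c → k) (Sum.inr q)) =
      fun q => if q = p then 1 else 0 := by
    funext q
    rw [Pi.single_apply]
    simp only [Sum.inr.injEq]
  have h2 : (fun q : Idx (EN1 h g c) => (Pi.single (Sum.inr p) (1:k) : ET h g c → k) (Sum.inl q)) =
      fun _ => 0 := by
    funext q
    rw [Pi.single_apply, if_neg]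
    exact Sum.inl_ne_inr
  rw [DD_apply, d1_apply, extE_fst, extE_snd, h1, h2, ext0_zero', ext0_zero', ext0_indicator,
    ext0_indicator]
  simp only [Prod.mk.eta]
  ring

open Classical in
lemma sum_mul_ite_eq (P : ℕ → ℕ → Prop) [Fintype (Idx P)] (w : Idx P → k) (q : ℕ × ℕ) :
    ∑ s : Idx P, w s * (if s.1 = q then (1:k) else 0) = ext0 P w q.1 q.2 := by
  by_cases hq : P q.1 q.2
  · rw [ext0_pos _ hq, Finset.sum_eq_single ⟨q, hq⟩]
    · simp
    · intro s _ hs
      rw [if_neg (fun h => hs (Subtype.ext h)), mul_zero]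
    · intro h; exact absurd (Finset.mem_univ _) h
  · rw [ext0_neg _ hq]
    apply Finset.sum_eq_zero
    intro s _
    rw [if_neg, mul_zero]
    rintro rfl
    exact hq s.2

open Classical in
lemma sum_mul_ite_up (P : ℕ → ℕ → Prop) [Fintype (Idx P)] (w : Idx P → k) (x y : ℕ) :
    ∑ s : Idx P, w s * (if (s.1.1, s.1.2 + 1) = (x, y + 1) then (1:k) else 0) = ext0 P w x y := by
  rw [← sum_mul_ite_eq P w (x, y)]
  apply Finset.sum_congr rfl
  intro s _
  congr 1
  have : ((s.1.1, s.1.2 + 1) = (x, y + 1)) ↔ (s.1 = (x, y)) := by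
    rw [Prod.ext_iff, Prod.ext_iff]
    simp only [add_left_inj]
  simp only [this]

open Classical in
lemma sum_mul_ite_up0 (P : ℕ → ℕ → Prop) [Fintype (Idx P)] (w : Idx P → k) (x : ℕ) :
    ∑ s : Idx P, w s * (if (s.1.1, s.1.2 + 1) = (x, 0) then (1:k) else 0) = 0 := by
  apply Finset.sum_eq_zero
  intro s _
  rw [if_neg, mul_zero]
  intro hh
  have := congrArg Prod.snd hh
  simp at this

open Classical in
lemma sum_mul_ite_right (P : ℕ → ℕ → Prop) [Fintype (Idx P)] (w : Idx P → k) (x y : ℕ) :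
    ∑ s : Idx P, w s * (if (s.1.1 + 1, s.1.2) = (x + 1, y) then (1:k) else 0) = ext0 P w x y := by
  rw [← sum_mul_ite_eq P w (x, y)]
  apply Finset.sum_congr rfl
  intro s _
  congr 1
  have : ((s.1.1 + 1, s.1.2) = (x + 1, y)) ↔ (s.1 = (x, y)) := by
    rw [Prod.ext_iff, Prod.ext_iff]
    simp only [add_left_inj]
  simp only [this]

open Classical in
lemma sum_mul_ite_right0 (P : ℕ → ℕ → Prop) [Fintype (Idx P)] (w : Idx P → k) (y : ℕ) :
    ∑ s : Idx P, w s * (if (s.1.1 + 1, s.1.2) = (0, y) then (1:k) else 0) = 0 := by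
  apply Finset.sum_eq_zero
  intro s _
  rw [if_neg, mul_zero]
  intro hh
  have := congrArg Prod.fst hh
  simp at this

end transpose


section KtXb

variable [Fintype (Idx (SN h g c))]

lemma sum_inl_succ (w : Idx (SN h g c) → k) (x y : ℕ) (hh : EN1 h g c x (y + 1)) :
    ∑ s, w s * DD (k := k) h g c (Pi.single (Sum.inl ⟨(x, y + 1), hh⟩) 1) s =
      ext0 (SN h g c) w x (y + 1) - ext0 (SN h g c) w x y := by
  simp only [DD_single_inl, mul_sub, Finset.sum_sub_distrib]
  rw [sum_mul_ite_eq, sum_mul_ite_up]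

lemma sum_inl_zero (w : Idx (SN h g c) → k) (x : ℕ) (hh : EN1 h g c x 0) :
    ∑ s, w s * DD (k := k) h g c (Pi.single (Sum.inl ⟨(x, 0), hh⟩) 1) s =
      ext0 (SN h g c) w x 0 := by
  simp only [DD_single_inl, mul_sub, Finset.sum_sub_distrib]
  rw [sum_mul_ite_eq, sum_mul_ite_up0, sub_zero]

lemma sum_inr_succ (w : Idx (SN h g c) → k) (x y : ℕ) (hh : EN2 h g c (x + 1) y) :
    ∑ s, w s * DD (k := k) h g c (Pi.single (Sum.inr ⟨(x + 1, y), hh⟩) 1) s =
      ext0 (SN h g c) w x y - ext0 (SN h g c) w (x + 1) y := by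
  simp only [DD_single_inr, mul_sub, Finset.sum_sub_distrib]
  rw [sum_mul_ite_eq, sum_mul_ite_right]

lemma sum_inr_zero (w : Idx (SN h g c) → k) (y : ℕ) (hh : EN2 h g c 0 y) :
    ∑ s, w s * DD (k := k) h g c (Pi.single (Sum.inr ⟨(0, y), hh⟩) 1) s =
      - ext0 (SN h g c) w 0 y := by
  simp only [DD_single_inr, mul_sub, Finset.sum_sub_distrib]
  rw [sum_mul_ite_eq, sum_mul_ite_right0, zero_sub]

variable [Fintype (ET h g c)]

lemma map_ext0_Kt : (Kt (DD (k := k) h g c)).map (ext0 (SN h g c)) = Xb h g c k := by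
  apply le_antisymm
  · rintro _ ⟨w, hw, rfl⟩
    have hw' : ∀ e, ∑ s, w s * DD (k := k) h g c (Pi.single e 1) s = 0 := hw
    refine ⟨fun x y hh => ext0_neg w hh, fun x y hh => ?_, fun x y hh => ?_, fun y hh => ?_,
      fun x hh => ?_⟩
    · have := hw' (Sum.inr ⟨(x + 1, y), hh⟩)
      rw [sum_inr_succ] at this
      exact (sub_eq_zero.mp this).symm
    · have := hw' (Sum.inl ⟨(x, y + 1), hh⟩)
      rw [sum_inl_succ] at this
      exact sub_eq_zero.mp this
    · have := hw' (Sum.inr ⟨(0, y), hh⟩)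
      rw [sum_inr_zero] at this
      exact neg_eq_zero.mp this
    · have := hw' (Sum.inl ⟨(x, 0), hh⟩)
      rw [sum_inl_zero] at this
      exact this
  · rintro W ⟨h1, h2, h3, h4, h5⟩
    have hW : ext0 (SN h g c) (fun p => W p.1.1 p.1.2) = W := by
      funext x y
      by_cases hh : SN h g c x y
      · rw [ext0_pos _ hh]
      · rw [ext0_neg _ hh, h1 x y hh]
    refine ⟨fun p => W p.1.1 p.1.2, ?_, hW⟩
    show ∀ e, ∑ s, (fun p : Idx (SN h g c) => W p.1.1 p.1.2) s *
      DD (k := k) h g c (Pi.single e 1) s = 0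
    rintro (⟨⟨x, y⟩, hh⟩ | ⟨⟨x, y⟩, hh⟩)
    · cases y with
      | zero =>
        rw [sum_inl_zero, hW]
        exact h5 x hh
      | succ y =>
        rw [sum_inl_succ, hW]
        exact sub_eq_zero.mpr (h3 x y hh)
    · cases x with
      | zero =>
        rw [sum_inr_zero, hW]
        exact neg_eq_zero.mpr (h4 y hh)
      | succ x =>
        rw [sum_inr_succ, hW]
        exact sub_eq_zero.mpr (h2 x y hh).symm

lemma finrank_Xb_eq_Kt :
    finrank k (Xb h g c k) = finrank k (Kt (DD (k := k) h g c)) := by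
  rw [← map_ext0_Kt]
  exact (Submodule.equivMapOfInjective _ (ext0_injective _) _).finrank_eq.symm

end KtXb


/-- **The planar duality count.** -/
theorem finrank_Xa_add (H : Hyp h g) (hc : 1 ≤ c) :
    finrank k (Xa h g c k) + Nat.card (Idx (VN h g c)) + Nat.card (Idx (SN h g c)) =
      finrank k (Xb h g c k) + Nat.card (Idx (EN1 h g c)) + Nat.card (Idx (EN2 h g c)) := by
  haveI := H.finite_EN1 hc
  haveI := H.finite_EN2 hc
  haveI := H.finite_SN hc
  haveI := Fintype.ofFinite (Idx (EN1 h g c))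
  haveI := Fintype.ofFinite (Idx (EN2 h g c))
  haveI := Fintype.ofFinite (Idx (SN h g c))
  have e1 := finrank_XA (k := k) H hc
  have e2 := finrank_XZ (k := k) H hc
  have e3 := finrank_XZ_eq_ker (k := k) (c := c) H
  have e4 := LinearMap.finrank_range_add_finrank_ker (DD (k := k) h g c)
  have e5 := finrank_Xb_eq_Kt (k := k) (h := h) (g := g) (c := c)
  have e6 := finrank_Kt (DD (k := k) h g c)
  rw [Module.finrank_fintype_fun_eq_card, Fintype.card_sum, ← Nat.card_eq_fintype_card,
    ← Nat.card_eq_fintype_card] at e4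
  rw [← Nat.card_eq_fintype_card] at e6
  omega

end Groth.Agent.Lib.Seat60.Dual2D
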