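import Mathlib
import Groth.Agent.Lib.Seat60Dual2DMain

/-! Seat60: the planar duality count summed over all levels. -/

set_option autoImplicit false
set_option linter.style.haveILetI false
set_option linter.unusedSectionVars false
set_option linter.unusedVariables false

namespace Groth.Agent.Lib.Seat60.Dual2D

open Module

variable {k : Type*} [Field k]

open Classical in
lemma card_idx_eq (P : ℕ → ℕ → Prop) (M : ℕ) (hP : ∀ x y, P x y → x < M ∧ y < M) :
    Nat.card (Idx P) =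
      ((Finset.range M ×ˢ Finset.range M).filter (fun p : ℕ × ℕ => P p.1 p.2)).card := by
  rw [← Fintype.card_coe, ← Nat.card_eq_fintype_card]
  apply Nat.card_congr
  apply Equiv.subtypeEquivRight
  intro p
  rw [Finset.mem_filter, Finset.mem_product, Finset.mem_range, Finset.mem_range]
  constructor
  · intro hp
    exact ⟨hP p.1 p.2 hp, hp⟩
  · intro hp
    exact hp.2

open Classical in
lemma sum_card_level (h g' : ℕ → ℕ → ℕ) (M C : ℕ) (hM : ∀ x y, M ≤ x ∨ M ≤ y → h x y = 0)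
    (hC : ∀ x y, h x y ≤ C) :
    ∑ c ∈ Finset.Icc 1 C, Nat.card (Idx (VN h g' c)) =
      ∑ p ∈ Finset.range M ×ˢ Finset.range M, (h p.1 p.2 - g' p.1 p.2) := by
  have h1 : ∀ c ∈ Finset.Icc 1 C, Nat.card (Idx (VN h g' c)) =
      ∑ p ∈ Finset.range M ×ˢ Finset.range M, if g' p.1 p.2 + c ≤ h p.1 p.2 then 1 else 0 := by
    intro c hc
    rw [Finset.mem_Icc] at hc
    rw [card_idx_eq (VN h g' c) M, Finset.card_filter]
    · apply Finset.sum_congr rfl
      intro p _
      unfold VN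
      congr
    · intro x y hxy
      unfold VN at hxy
      constructor
      · by_contra hcon
        have := hM x y (Or.inl (not_lt.mp hcon))
        omega
      · by_contra hcon
        have := hM x y (Or.inr (not_lt.mp hcon))
        omega
  rw [Finset.sum_congr rfl h1, Finset.sum_comm]
  apply Finset.sum_congr rfl
  intro p _
  rw [← Finset.card_filter]
  have : (Finset.Icc 1 C).filter (fun c => g' p.1 p.2 + c ≤ h p.1 p.2) =
      Finset.Icc 1 (h p.1 p.2 - g' p.1 p.2) := by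
    ext c
    rw [Finset.mem_filter, Finset.mem_Icc, Finset.mem_Icc]
    have := hC p.1 p.2
    omega
  rw [this, Nat.card_Icc]
  omega

lemma telescope (G : ℕ → ℕ → ℤ) (M : ℕ) (hM : ∀ x y, M ≤ x ∨ M ≤ y → G x y = 0) :
    ∑ p ∈ Finset.range M ×ˢ Finset.range M,
      (G p.1 p.2 + G (p.1 + 1) (p.2 + 1) - G (p.1 + 1) p.2 - G p.1 (p.2 + 1)) = G 0 0 := by
  rw [Finset.sum_product]
  have h1 : ∀ x ∈ Finset.range M, ∑ y ∈ Finset.range M,
      (G x y + G (x + 1) (y + 1) - G (x + 1) y - G x (y + 1)) = G x 0 - G (x + 1) 0 := by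
    intro x _
    have e1 := Finset.sum_range_sub' (fun y => G x y) M
    have e2 := Finset.sum_range_sub' (fun y => G (x + 1) y) M
    rw [hM x M (Or.inr le_rfl), sub_zero] at e1
    rw [hM (x + 1) M (Or.inr le_rfl), sub_zero] at e2
    rw [← e1, ← e2, ← Finset.sum_sub_distrib]
    apply Finset.sum_congr rfl
    intro y _
    ring
  rw [Finset.sum_congr rfl h1]
  have e3 := Finset.sum_range_sub' (fun x => G x 0) M
  rw [hM M 0 (Or.inl le_rfl), sub_zero] at e3
  exact e3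


variable {h g : ℕ → ℕ → ℕ}

lemma cast_sum_sub (h g' : ℕ → ℕ → ℕ) (s : Finset (ℕ × ℕ)) (hle : ∀ x y, g' x y ≤ h x y) :
    ((∑ p ∈ s, (h p.1 p.2 - g' p.1 p.2) : ℕ) : ℤ) =
      ∑ p ∈ s, ((h p.1 p.2 : ℤ) - (g' p.1 p.2 : ℤ)) := by
  rw [Nat.cast_sum]
  apply Finset.sum_congr rfl
  intro p _
  rw [Nat.cast_sub (hle p.1 p.2)]

/-- **The summed planar duality count.** -/
theorem sum_finrank_Xa (H : Hyp h g) (hgh : ∀ x y, g x y ≤ h x y) (C : ℕ)
    (hC : ∀ x y, h x y ≤ C) :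
    ∑ c ∈ Finset.Icc 1 C, finrank k (Xa h g c k) =
      g 0 0 + ∑ c ∈ Finset.Icc 1 C, finrank k (Xb h g c k) := by
  obtain ⟨M, hM⟩ := H.bdd
  have hper : ∀ c ∈ Finset.Icc 1 C,
      finrank k (Xa h g c k) + Nat.card (Idx (VN h g c)) + Nat.card (Idx (SN h g c)) =
      finrank k (Xb h g c k) + Nat.card (Idx (EN1 h g c)) + Nat.card (Idx (EN2 h g c)) := by
    intro c hc
    exact finrank_Xa_add H (Finset.mem_Icc.mp hc).1
  have hsum := Finset.sum_congr rfl hper
  rw [Finset.sum_add_distrib, Finset.sum_add_distrib, Finset.sum_add_distrib,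
    Finset.sum_add_distrib] at hsum
  have sV := sum_card_level h g M C hM hC
  have s1 : ∑ c ∈ Finset.Icc 1 C, Nat.card (Idx (EN1 h g c)) = _ :=
    sum_card_level h (fun x y => g (x + 1) y) M C hM hC
  have s2 : ∑ c ∈ Finset.Icc 1 C, Nat.card (Idx (EN2 h g c)) = _ :=
    sum_card_level h (fun x y => g x (y + 1)) M C hM hC
  have sS : ∑ c ∈ Finset.Icc 1 C, Nat.card (Idx (SN h g c)) = _ :=
    sum_card_level h (fun x y => g (x + 1) (y + 1)) M C hM hC
  rw [sV, s1, s2, sS] at hsum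
  have hg10 : ∀ x y, g (x + 1) y ≤ h x y := fun x y => (H.gx x y).trans (hgh x y)
  have hg01 : ∀ x y, g x (y + 1) ≤ h x y := fun x y => (H.gy x y).trans (hgh x y)
  have hg11 : ∀ x y, g (x + 1) (y + 1) ≤ h x y := fun x y => (H.gy (x + 1) y).trans (hg10 x y)
  have cV := cast_sum_sub h g (Finset.range M ×ˢ Finset.range M) hgh
  have c1 := cast_sum_sub h (fun x y => g (x + 1) y) (Finset.range M ×ˢ Finset.range M) hg10
  have c2 := cast_sum_sub h (fun x y => g x (y + 1)) (Finset.range M ×ˢ Finset.range M) hg01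
  have cS := cast_sum_sub h (fun x y => g (x + 1) (y + 1)) (Finset.range M ×ˢ Finset.range M) hg11
  have hG : ∀ x y, M ≤ x ∨ M ≤ y → ((g x y : ℕ) : ℤ) = 0 := by
    intro x y hxy
    have := hM x y hxy
    have := hgh x y
    have : g x y = 0 := by omega
    rw [this]; rfl
  have tel := telescope (fun x y => ((g x y : ℕ) : ℤ)) M hG
  have key : (∑ p ∈ Finset.range M ×ˢ Finset.range M, ((h p.1 p.2 : ℤ) - (g (p.1 + 1) p.2 : ℤ))) +
      (∑ p ∈ Finset.range M ×ˢ Finset.range M, ((h p.1 p.2 : ℤ) - (g p.1 (p.2 + 1) : ℤ))) =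
      (∑ p ∈ Finset.range M ×ˢ Finset.range M, ((h p.1 p.2 : ℤ) - (g p.1 p.2 : ℤ))) +
      (∑ p ∈ Finset.range M ×ˢ Finset.range M, ((h p.1 p.2 : ℤ) - (g (p.1 + 1) (p.2 + 1) : ℤ))) +
      (g 0 0 : ℤ) := by
    rw [← tel, ← Finset.sum_add_distrib, ← Finset.sum_add_distrib, ← Finset.sum_add_distrib]
    apply Finset.sum_congr rfl
    intro p _
    ring
  rw [← cV, ← c1, ← c2, ← cS] at key
  have key' : (∑ p ∈ Finset.range M ×ˢ Finset.range M, (h p.1 p.2 - g (p.1 + 1) p.2)) +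
      (∑ p ∈ Finset.range M ×ˢ Finset.range M, (h p.1 p.2 - g p.1 (p.2 + 1))) =
      (∑ p ∈ Finset.range M ×ˢ Finset.range M, (h p.1 p.2 - g p.1 p.2)) +
      (∑ p ∈ Finset.range M ×ˢ Finset.range M, (h p.1 p.2 - g (p.1 + 1) (p.2 + 1))) + g 0 0 := by
    exact_mod_cast key
  omega


lemma Xa_eq_bot_of_lt {c : ℕ} (hC : ∀ x y, h x y < c) : Xa h g c k = ⊥ := by
  rw [eq_bot_iff]
  intro u hu
  rw [Submodule.mem_bot]
  funext x y
  exact hu.1 x y (hC x y)

lemma Xb_eq_bot_of_lt {c : ℕ} (hC : ∀ x y, h x y < c) : Xb h g c k = ⊥ := by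
  rw [eq_bot_iff]
  intro u hu
  rw [Submodule.mem_bot]
  funext x y
  apply hu.1 x y
  unfold SN
  have := hC x y
  omega

end Groth.Agent.Lib.Seat60.Dual2D
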