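import Mathlib
import Groth.Agent.Lib.Seat60Dual2DSum

/-! Seat60: the planar model `Xa` has dimension at most the number of its sinks; the number of sinks
summed over all levels. -/

set_option autoImplicit false
set_option linter.style.haveILetI false
set_option linter.unusedSectionVars false
set_option linter.unusedVariables false

namespace Groth.Agent.Lib.Seat60.Dual2D

open Module

variable {k : Type*} [Field k] {h g : ℕ → ℕ → ℕ} {c : ℕ}

/-- sinks of the planar model: vertices of the support both of whose outgoing edges are cut -/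
def Sink (h g : ℕ → ℕ → ℕ) (c : ℕ) (x y : ℕ) : Prop :=
  c ≤ h x y ∧ h x y < g x y + c ∧ EN1 h g c x y ∧ EN2 h g c x y

lemma eq_zero_of_sink_zero (H : Hyp h g) {u : Fn k} (hu : u ∈ Xa h g c k)
    (h0 : ∀ x y, Sink h g c x y → u x y = 0) (hc : 1 ≤ c) : u = 0 := by
  obtain ⟨M, hM⟩ := H.bdd
  have key : ∀ n x y, 2 * M ≤ x + y + n → u x y = 0 := by
    intro n
    induction n with
    | zero =>
      intro x y hxy
      apply hu.1
      have : M ≤ x ∨ M ≤ y := by omega
      rw [hM x y this]
      omega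
    | succ n ih =>
      intro x y hxy
      by_cases h1 : h x y < c
      · exact hu.1 x y h1
      by_cases h2 : VN h g c x y
      · exact hu.2.1 x y h2
      by_cases h3 : EN1 h g c x y
      · by_cases h4 : EN2 h g c x y
        · apply h0
          unfold VN at h2
          exact ⟨by omega, by omega, h3, h4⟩
        · rw [← hu.2.2.2 x y h4]
          apply ih
          omega
      · rw [← hu.2.2.1 x y h3]
        apply ih
        omega
  funext x y
  exact key (2 * M) x y (by omega)

lemma Hyp.finite_Sink (H : Hyp h g) (hc : 1 ≤ c) : Finite (Idx (Sink h g c)) :=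
  H.finite_of_le hc _ (fun x y hh => hh.1)

/-- the dimension of the planar model is at most the number of sinks -/
theorem finrank_Xa_le (H : Hyp h g) (hc : 1 ≤ c) :
    finrank k (Xa h g c k) ≤ Nat.card (Idx (Sink h g c)) := by
  haveI := H.finite_Sink hc
  haveI := Fintype.ofFinite (Idx (Sink h g c))
  haveI := finite_Xa (k := k) H hc
  let R : ↥(Xa h g c k) →ₗ[k] (Idx (Sink h g c) → k) :=
    { toFun := fun u p => u.1 p.1.1 p.1.2
      map_add' := fun _ _ => rfl
      map_smul' := fun _ _ => rfl }
  have hR : Function.Injective R := by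
    rw [injective_iff_map_eq_zero]
    intro u hu
    apply Subtype.ext
    apply eq_zero_of_sink_zero H u.2 _ hc
    intro x y hs
    exact congrFun hu ⟨(x, y), hs⟩
  have := LinearMap.finrank_le_finrank_of_injective hR
  rw [Module.finrank_fintype_fun_eq_card, ← Nat.card_eq_fintype_card] at this
  exact this

open Classical in
lemma sum_card_sink (h g : ℕ → ℕ → ℕ) (M C : ℕ) (hM : ∀ x y, M ≤ x ∨ M ≤ y → h x y = 0)
    (hC : ∀ x y, h x y ≤ C) (hgh : ∀ x y, g x y ≤ h x y)
    (hgx : ∀ x y, g (x + 1) y ≤ g x y) (hgy : ∀ x y, g x (y + 1) ≤ g x y) :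
    ∑ c ∈ Finset.Icc 1 C, Nat.card (Idx (Sink h g c)) =
      ∑ p ∈ Finset.range M ×ˢ Finset.range M,
        (g p.1 p.2 - max (g (p.1 + 1) p.2) (g p.1 (p.2 + 1))) := by
  have h1 : ∀ c ∈ Finset.Icc 1 C, Nat.card (Idx (Sink h g c)) =
      ∑ p ∈ Finset.range M ×ˢ Finset.range M,
        if (c ≤ h p.1 p.2 ∧ h p.1 p.2 < g p.1 p.2 + c ∧ g (p.1 + 1) p.2 + c ≤ h p.1 p.2 ∧
          g p.1 (p.2 + 1) + c ≤ h p.1 p.2) then 1 else 0 := by
    intro c hc
    rw [Finset.mem_Icc] at hc
    rw [card_idx_eq (Sink h g c) M, Finset.card_filter]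
    · apply Finset.sum_congr rfl
      intro p _
      unfold Sink EN1 EN2
      congr
    · intro x y hxy
      have := hxy.1
      constructor
      · by_contra hcon
        have := hM x y (Or.inl (not_lt.mp hcon))
        omega
      · by_contra hcon
        have := hM x y (Or.inr (not_lt.mp hcon))
        omega
  rw [Finset.sum_congr rfl h1, Finset.sum_comm]
  apply Finset.sum_congr rfl
  intro p _
  rw [← Finset.card_filter]
  have : (Finset.Icc 1 C).filter (fun c => c ≤ h p.1 p.2 ∧ h p.1 p.2 < g p.1 p.2 + c ∧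
      g (p.1 + 1) p.2 + c ≤ h p.1 p.2 ∧ g p.1 (p.2 + 1) + c ≤ h p.1 p.2) =
      Finset.Icc (h p.1 p.2 - g p.1 p.2 + 1)
        (h p.1 p.2 - max (g (p.1 + 1) p.2) (g p.1 (p.2 + 1))) := by
    ext c
    rw [Finset.mem_filter, Finset.mem_Icc, Finset.mem_Icc]
    have := hC p.1 p.2
    have := hgh p.1 p.2
    have := hgx p.1 p.2
    have := hgy p.1 p.2
    omega
  rw [this, Nat.card_Icc]
  have := hgh p.1 p.2
  have := hgx p.1 p.2
  have := hgy p.1 p.2
  omega

end Groth.Agent.Lib.Seat60.Dual2D
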