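import Mathlib
import Groth.Agent.Lib.Seat60Dual2DSink

/-! Seat60: the planar model `Xb` has dimension at most the number of its sources; the number of
sources summed over all levels. -/

set_option autoImplicit false
set_option linter.style.haveILetI false
set_option linter.unusedSectionVars false
set_option linter.unusedVariables false

namespace Groth.Agent.Lib.Seat60.Dual2D

open Module

variable {k : Type*} [Field k] {h g : ℕ → ℕ → ℕ} {c : ℕ}

/-- sources of the planar model `Xb`: top of a column of a horizontal slice, with no neighbour to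
the left in that slice -/
def Src (h g : ℕ → ℕ → ℕ) (c : ℕ) (x y : ℕ) : Prop :=
  ∃ ξ, g (x + 1) (y + 1) ≤ ξ ∧ ξ < g x (y + 1) ∧ h x (y + 1) < ξ + c ∧ ξ + c ≤ h x y

lemma eq_zero_of_src_zero (H : Hyp h g) (hc : 1 ≤ c) {w : Fn k} (hw : w ∈ Xb h g c k)
    (h0 : ∀ x y, Src h g c x y → w x y = 0) : w = 0 := by
  obtain ⟨M, hM⟩ := H.bdd
  obtain ⟨w1, w2, w3, w4, w5⟩ := hw
  have key : ∀ x, ∀ n y ξ, M ≤ y + n → g (x + 1) (y + 1) ≤ ξ → ξ + c ≤ h x y → w x y = 0 := by
    intro x
    induction x with
    | zero =>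
      intro n
      induction n with
      | zero =>
        intro y ξ hy h1 h2
        have := hM 0 y (Or.inr (by omega))
        omega
      | succ n ih =>
        intro y ξ hy h1 h2
        by_cases hA : ξ + c ≤ h 0 (y + 1)
        · have hE : EN1 h g c 0 (y + 1) := by
            unfold EN1
            omega
          rw [← w3 0 y hE]
          exact ih (y + 1) ξ (by omega) (le_trans (H.gy _ _) h1) hA
        · by_cases hB : g 0 (y + 1) ≤ ξ
          · apply w4 y
            unfold EN2
            omega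
          · exact h0 0 y ⟨ξ, h1, not_le.mp hB, not_le.mp hA, h2⟩
    | succ x ihx =>
      intro n
      induction n with
      | zero =>
        intro y ξ hy h1 h2
        have := hM (x + 1) y (Or.inr (by omega))
        omega
      | succ n ih =>
        intro y ξ hy h1 h2
        by_cases hA : ξ + c ≤ h (x + 1) (y + 1)
        · have hE : EN1 h g c (x + 1) (y + 1) := by
            unfold EN1
            omega
          rw [← w3 (x + 1) y hE]
          exact ih (y + 1) ξ (by omega) (le_trans (H.gy _ _) h1) hA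
        · by_cases hB : g (x + 1) (y + 1) ≤ ξ
          · have hE : EN2 h g c (x + 1) y := by
              unfold EN2
              omega
            rw [w2 x y hE]
            exact ihx M y ξ (by omega) hB (le_trans h2 (H.hx x y))
          · exact h0 (x + 1) y ⟨ξ, h1, not_le.mp hB, not_le.mp hA, h2⟩
  funext x y
  by_cases hS : SN h g c x y
  · exact key x M y (g (x + 1) (y + 1)) (by omega) le_rfl hS
  · exact w1 x y hS

lemma Hyp.finite_Src (H : Hyp h g) (hc : 1 ≤ c) : Finite (Idx (Src h g c)) :=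
  H.finite_of_le hc _ (fun x y hh => by
    obtain ⟨ξ, _, _, _, h4⟩ := hh
    omega)

/-- the dimension of the planar model `Xb` is at most the number of sources -/
theorem finrank_Xb_le (H : Hyp h g) (hc : 1 ≤ c) :
    finrank k (Xb h g c k) ≤ Nat.card (Idx (Src h g c)) := by
  haveI := H.finite_Src hc
  haveI := Fintype.ofFinite (Idx (Src h g c))
  let R : ↥(Xb h g c k) →ₗ[k] (Idx (Src h g c) → k) :=
    { toFun := fun u p => u.1 p.1.1 p.1.2
      map_add' := fun _ _ => rfl
      map_smul' := fun _ _ => rfl }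
  have hR : Function.Injective R := by
    rw [injective_iff_map_eq_zero]
    intro u hu
    apply Subtype.ext
    apply eq_zero_of_src_zero H hc u.2
    intro x y hs
    exact congrFun hu ⟨(x, y), hs⟩
  have := LinearMap.finrank_le_finrank_of_injective hR
  rw [Module.finrank_fintype_fun_eq_card, ← Nat.card_eq_fintype_card] at this
  exact this

open Classical in
lemma sum_card_src (h g : ℕ → ℕ → ℕ) (M C : ℕ) (hM : ∀ x y, M ≤ x ∨ M ≤ y → h x y = 0) :
    ∑ c ∈ Finset.Icc 1 C, Nat.card (Idx (Src h g c)) ≤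
      ∑ p ∈ Finset.range M ×ˢ Finset.range M,
        (g p.1 (p.2 + 1) - g (p.1 + 1) (p.2 + 1)) * (h p.1 p.2 - h p.1 (p.2 + 1)) := by
  have h1 : ∀ c ∈ Finset.Icc 1 C, Nat.card (Idx (Src h g c)) ≤
      ∑ p ∈ Finset.range M ×ˢ Finset.range M,
        ∑ ξ ∈ Finset.Ico (g (p.1 + 1) (p.2 + 1)) (g p.1 (p.2 + 1)),
          if (h p.1 (p.2 + 1) < ξ + c ∧ ξ + c ≤ h p.1 p.2) then 1 else 0 := by
    intro c hc
    rw [Finset.mem_Icc] at hc
    rw [card_idx_eq (Src h g c) M, Finset.card_filter]
    · apply Finset.sum_le_sum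
      intro p _
      split_ifs with hs
      · obtain ⟨ξ, h1, h2, h3, h4⟩ := hs
        have hmem : ξ ∈ Finset.Ico (g (p.1 + 1) (p.2 + 1)) (g p.1 (p.2 + 1)) :=
          Finset.mem_Ico.mpr ⟨h1, h2⟩
        refine le_trans ?_ (Finset.single_le_sum (f := fun ξ =>
          if (h p.1 (p.2 + 1) < ξ + c ∧ ξ + c ≤ h p.1 p.2) then 1 else 0)
          (fun _ _ => Nat.zero_le _) hmem)
        rw [if_pos ⟨h3, h4⟩]
      · exact Nat.zero_le _
    · intro x y hxy
      obtain ⟨ξ, _, _, _, h4⟩ := hxy
      constructor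
      · by_contra hcon
        have := hM x y (Or.inl (not_lt.mp hcon))
        omega
      · by_contra hcon
        have := hM x y (Or.inr (not_lt.mp hcon))
        omega
  refine le_trans (Finset.sum_le_sum h1) ?_
  rw [Finset.sum_comm]
  apply Finset.sum_le_sum
  intro p _
  rw [Finset.sum_comm]
  have h2 : ∀ ξ ∈ Finset.Ico (g (p.1 + 1) (p.2 + 1)) (g p.1 (p.2 + 1)),
      (∑ c ∈ Finset.Icc 1 C, if (h p.1 (p.2 + 1) < ξ + c ∧ ξ + c ≤ h p.1 p.2) then 1 else 0) ≤
        h p.1 p.2 - h p.1 (p.2 + 1) := by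
    intro ξ _
    rw [← Finset.card_filter]
    have hsub : (Finset.Icc 1 C).filter (fun c => h p.1 (p.2 + 1) < ξ + c ∧ ξ + c ≤ h p.1 p.2) ⊆
        Finset.Ioc (h p.1 (p.2 + 1) - ξ) (h p.1 p.2 - ξ) := by
      intro c hc
      rw [Finset.mem_filter, Finset.mem_Icc] at hc
      rw [Finset.mem_Ioc]
      omega
    refine le_trans (Finset.card_le_card hsub) ?_
    rw [Nat.card_Ioc]
    omega
  refine le_trans (Finset.sum_le_sum h2) ?_
  rw [Finset.sum_const, Nat.card_Ico, smul_eq_mul]

end Groth.Agent.Lib.Seat60.Dual2D
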