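import Mathlib

/-!
# Irreducibility of a quadratic polynomial over a domain (seat 60)

`C A * X ^ 2 + C B * X + C C'` over a domain is irreducible as soon as its coefficients have no common
non-unit divisor and its discriminant is not a square.
-/

set_option autoImplicit false

namespace Groth.Agent.Lib.Seat60.E24

open Polynomial

theorem quad_irreducible {R : Type*} [CommRing R] [IsDomain R] (A B C' : R) (hA : A ≠ 0)
    (hprim : ∀ r : R, r ∣ A → r ∣ B → r ∣ C' → IsUnit r)
    (hdisc : ∀ w : R, w * w ≠ B * B - 4 * A * C') :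
    Irreducible (C A * X ^ 2 + C B * X + C C' : R[X]) := by
  set q : R[X] := C A * X ^ 2 + C B * X + C C' with hq
  have hdeg : q.natDegree = 2 := natDegree_quadratic hA
  have hcoeff : ∀ a b c : R, (C a * X ^ 2 + C b * X + C c : R[X]).coeff 2 = a ∧
      (C a * X ^ 2 + C b * X + C c : R[X]).coeff 1 = b ∧
      (C a * X ^ 2 + C b * X + C c : R[X]).coeff 0 = c := by
    intro a b c
    refine ⟨?_, ?_, ?_⟩ <;> simp [coeff_X, coeff_C]
  have hc2 : q.coeff 2 = A := (hcoeff A B C').1
  have hc1 : q.coeff 1 = B := (hcoeff A B C').2.1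
  have hc0 : q.coeff 0 = C' := (hcoeff A B C').2.2
  have hq0 : q ≠ 0 := by
    intro h
    rw [h, natDegree_zero] at hdeg
    omega
  have hconst : ∀ u v : R[X], q = u * v → u.natDegree = 0 → IsUnit u := by
    intro u v huv hu
    obtain ⟨u₀, rfl⟩ : ∃ u₀, u = C u₀ := ⟨u.coeff 0, eq_C_of_natDegree_eq_zero hu⟩
    rw [isUnit_C]
    apply hprim
    · rw [← hc2, huv, coeff_C_mul]
      exact dvd_mul_right _ _
    · rw [← hc1, huv, coeff_C_mul]
      exact dvd_mul_right _ _
    · rw [← hc0, huv, coeff_C_mul]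
      exact dvd_mul_right _ _
  refine ⟨fun hu => ?_, fun u v huv => ?_⟩
  · have := natDegree_eq_zero_of_isUnit hu
    omega
  · have hu0 : u ≠ 0 := by
      rintro rfl
      rw [zero_mul] at huv
      exact hq0 huv
    have hv0 : v ≠ 0 := by
      rintro rfl
      rw [mul_zero] at huv
      exact hq0 huv
    have hsum : u.natDegree + v.natDegree = 2 := by
      rw [← natDegree_mul hu0 hv0, ← huv, hdeg]
    by_cases hu : u.natDegree = 0
    · exact Or.inl (hconst u v huv hu)
    by_cases hv : v.natDegree = 0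
    · exact Or.inr (hconst v u (by rw [huv, mul_comm]) hv)
    exfalso
    have hu1 : u.natDegree ≤ 1 := by omega
    have hv1 : v.natDegree ≤ 1 := by omega
    have hu' := eq_X_add_C_of_natDegree_le_one hu1
    have hv' := eq_X_add_C_of_natDegree_le_one hv1
    obtain ⟨α, hα⟩ : ∃ α, α = u.coeff 1 := ⟨_, rfl⟩
    obtain ⟨β, hβ⟩ : ∃ β, β = u.coeff 0 := ⟨_, rfl⟩
    obtain ⟨γ, hγ⟩ : ∃ γ, γ = v.coeff 1 := ⟨_, rfl⟩
    obtain ⟨δ, hδ⟩ : ∃ δ, δ = v.coeff 0 := ⟨_, rfl⟩
    rw [← hα, ← hβ] at hu'
    rw [← hγ, ← hδ] at hv'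
    have hprod : q = C (α * γ) * X ^ 2 + C (α * δ + β * γ) * X + C (β * δ) := by
      rw [huv, hu', hv']
      simp only [map_mul, map_add]
      ring
    have e2 : A = α * γ := by
      rw [← hc2, hprod]
      exact (hcoeff _ _ _).1
    have e1 : B = α * δ + β * γ := by
      rw [← hc1, hprod]
      exact (hcoeff _ _ _).2.1
    have e0 : C' = β * δ := by
      rw [← hc0, hprod]
      exact (hcoeff _ _ _).2.2
    apply hdisc (α * δ - β * γ)
    rw [e2, e1, e0]
    ring

end Groth.Agent.Lib.Seat60.E24
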