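import Mathlib
import Groth.Agent.Lib.Seat60E24A

/-!
# The double cover quadratic of `V(σ₂, σ₄)` is prime (seat 60)

Over a field of characteristic zero, with `s₁, s₂, s₃` the elementary symmetric polynomials in three
variables, the polynomial `(s₃ - s₁ s₂) T² - s₂² T - s₂ s₃` of `k[x₀,x₁,x₂][T]` is prime.
-/

set_option autoImplicit false
universe u

namespace Groth.Agent.Lib.Seat60.E24

open MvPolynomial

variable (k : Type u) [Field k]

noncomputable def s1 : MvPolynomial (Fin 3) k := X 0 + X 1 + X 2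
noncomputable def s2 : MvPolynomial (Fin 3) k := X 0 * X 1 + X 0 * X 2 + X 1 * X 2
noncomputable def s3 : MvPolynomial (Fin 3) k := X 0 * X 1 * X 2

noncomputable def cA : MvPolynomial (Fin 3) k := s3 k - s1 k * s2 k
noncomputable def cB : MvPolynomial (Fin 3) k := - (s2 k) ^ 2
noncomputable def cC : MvPolynomial (Fin 3) k := - (s2 k * s3 k)

theorem cA_ne_zero [CharZero k] : cA k ≠ 0 := by
  intro h
  have := congrArg (eval (![1, 1, 1] : Fin 3 → k)) h
  simp [cA, s1, s2, s3] at this
  norm_num at this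

theorem disc_not_sq [CharZero k] (w : MvPolynomial (Fin 3) k) :
    w * w ≠ cB k * cB k - 4 * cA k * cC k := by
  intro hw
  let φ : MvPolynomial (Fin 3) k →ₐ[k] Polynomial k :=
    aeval (![2, Polynomial.X - 1, 2] : Fin 3 → Polynomial k)
  have h1 : φ (s1 k) = Polynomial.X + 3 := by
    simp [φ, s1]
    ring
  have h2 : φ (s2 k) = 4 * Polynomial.X := by
    simp [φ, s2]
    ring
  have h3 : φ (s3 k) = 4 * Polynomial.X - 4 := by
    simp [φ, s3]
    ring
  obtain ⟨U, hU⟩ : ∃ U : Polynomial k, U = (4 * Polynomial.X) ^ 3 + 4 * (4 * Polynomial.X - 4) ^ 2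
      - 4 * (Polynomial.X + 3) * (4 * Polynomial.X) * (4 * Polynomial.X - 4) := ⟨_, rfl⟩
  have hUeval : U.eval 0 = 64 := by
    rw [hU]
    simp
    norm_num
  have hφ : φ w * φ w = 4 * Polynomial.X * U := by
    rw [← map_mul, hw]
    simp only [cA, cB, cC, map_sub, map_mul, map_neg, map_pow, h1, h2, h3, hU, map_ofNat]
    ring
  have hW0 : (φ w).coeff 0 = 0 := by
    have := congrArg (Polynomial.eval 0) hφ
    simp only [Polynomial.eval_mul, Polynomial.eval_X, mul_zero, zero_mul] at this
    rw [Polynomial.coeff_zero_eq_eval_zero]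
    exact mul_self_eq_zero.mp this
  obtain ⟨W', hW'⟩ := Polynomial.X_dvd_iff.mpr hW0
  rw [hW'] at hφ
  have hcancel : W' * W' * Polynomial.X = 4 * U := by
    have hX : (Polynomial.X : Polynomial k) ≠ 0 := Polynomial.X_ne_zero
    apply mul_left_cancel₀ hX
    calc Polynomial.X * (W' * W' * Polynomial.X) = Polynomial.X * W' * (Polynomial.X * W') := by ring
      _ = 4 * Polynomial.X * U := hφ
      _ = Polynomial.X * (4 * U) := by ring
  have := congrArg (Polynomial.eval 0) hcancel
  simp only [Polynomial.eval_mul, Polynomial.eval_X, mul_zero, hUeval] at this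
  norm_num at this

theorem unit_of_dvd_coeffs (r : MvPolynomial (Fin 3) k) (hA : r ∣ cA k) (hB : r ∣ cB k)
    (hC : r ∣ cC k) : IsUnit r := by
  classical
  -- `r` divides the three monomials `(xᵢ xⱼ)⁶`
  have key : ∀ (i j l : Fin 3), (X i * X j + X i * X l + X j * X l = s2 k) →
      (X i * X j * X l = s3 k) → (X i + X j + X l = s1 k) →
      r ∣ (X i : MvPolynomial (Fin 3) k) ^ 6 * X j ^ 6 := by
    intro i j l e2 e3 e1
    obtain ⟨α, hα⟩ : ∃ α : MvPolynomial (Fin 3) k, α = X i * X j := ⟨_, rfl⟩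
    obtain ⟨β, hβ⟩ : ∃ β : MvPolynomial (Fin 3) k, β = -(X i + X j) := ⟨_, rfl⟩
    have hg : (X i : MvPolynomial (Fin 3) k) ^ 2 * X j ^ 2 = α * s2 k + β * s3 k := by
      rw [← e2, ← e3, hα, hβ]
      ring
    have h6 : (X i : MvPolynomial (Fin 3) k) ^ 6 * X j ^ 6 =
        cA k * (s3 k * (3 * α * β ^ 2 * s2 k + β ^ 3 * s3 k)) +
        cB k * (-(α ^ 3 * s2 k + 3 * α ^ 2 * β * s3 k)) +
        cC k * (-(s1 k) * (3 * α * β ^ 2 * s2 k + β ^ 3 * s3 k)) := by
      have : (X i : MvPolynomial (Fin 3) k) ^ 6 * X j ^ 6 = (X i ^ 2 * X j ^ 2) ^ 3 := by ring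
      rw [this, hg]
      simp only [cA, cB, cC]
      ring
    rw [h6]
    exact dvd_add (dvd_add (Dvd.dvd.mul_right hA _) (Dvd.dvd.mul_right hB _))
      (Dvd.dvd.mul_right hC _)
  have h01 := key 0 1 2 (by simp only [s2]) (by simp only [s3]) (by simp only [s1])
  have h02 := key 0 2 1 (by simp only [s2]; ring) (by simp only [s3]; ring) (by simp only [s1]; ring)
  have h12 := key 1 2 0 (by simp only [s2]; ring) (by simp only [s3]; ring) (by simp only [s1]; ring)
  have hmon : ∀ i j : Fin 3, (X i : MvPolynomial (Fin 3) k) ^ 6 * X j ^ 6 =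
      monomial (Finsupp.single i 6 + Finsupp.single j 6) 1 := by
    intro i j
    rw [X_pow_eq_monomial, X_pow_eq_monomial, monomial_mul, one_mul]
  rw [hmon] at h01 h02 h12
  obtain ⟨m, u, hm, hu, rfl⟩ := dvd_monomial_one_iff_exists.mp h01
  obtain ⟨m', u', hm', hu', h'⟩ := dvd_monomial_one_iff_exists.mp h02
  obtain ⟨m'', u'', hm'', hu'', h''⟩ := dvd_monomial_one_iff_exists.mp h12
  have hu0 : u ≠ 0 := hu.ne_zero
  have e' : m = m' := by
    rcases (monomial_eq_monomial_iff _ _ _ _).mp h' with h | h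
    · exact h.1
    · exact absurd h.1 hu0
  have e'' : m = m'' := by
    rcases (monomial_eq_monomial_iff _ _ _ _).mp h'' with h | h
    · exact h.1
    · exact absurd h.1 hu0
  have hm0 : m = 0 := by
    ext t
    fin_cases t
    · have := hm'' 0
      rw [← e''] at this
      simpa using this
    · have := hm' 1
      rw [← e'] at this
      simpa using this
    · have := hm 2
      simpa using this
  rw [hm0]
  exact hu.map (C : k →+* MvPolynomial (Fin 3) k)

/-- The quadratic `(s₃ - s₁ s₂) T² - s₂² T - s₂ s₃`. -/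
noncomputable def q3 : Polynomial (MvPolynomial (Fin 3) k) :=
  Polynomial.C (cA k) * Polynomial.X ^ 2 + Polynomial.C (cB k) * Polynomial.X + Polynomial.C (cC k)

theorem q3_irreducible [CharZero k] : Irreducible (q3 k) :=
  quad_irreducible (cA k) (cB k) (cC k) (cA_ne_zero k) (unit_of_dvd_coeffs k) (disc_not_sq k)

theorem q3_prime [CharZero k] : Prime (q3 k) :=
  (q3_irreducible k).prime

instance q3_span_isPrime [CharZero k] : (Ideal.span {q3 k}).IsPrime :=
  (Ideal.span_singleton_prime (q3_irreducible k).ne_zero).mpr (q3_prime k)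

end Groth.Agent.Lib.Seat60.E24
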