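import Mathlib
import Groth.Agent.Lib.Seat60E24B

/-!
# The chart `x₀+x₁+x₂+x₃ ≠ 0` of `V(σ₂, σ₄)` (seat 60)

We build a ring map `ψ` from `k[x₀,…,x₄]` to the fraction field of `k[x₀,x₁,x₂][T]/(q₃)` and show
that its kernel is the saturation `(σ₂, σ₄) : a^∞`, `a = x₀+x₁+x₂+x₃`.
-/

set_option autoImplicit false
universe u

namespace Groth.Agent.Lib.Seat60.E24

open MvPolynomial

variable (k : Type u) [Field k]

/-- `k[x₀,x₁,x₂] → k[x₀,…,x₄]`. -/
noncomputable def jmap : MvPolynomial (Fin 3) k →+* MvPolynomial (Fin 5) k :=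
  (aeval (![X 0, X 1, X 2] : Fin 3 → MvPolynomial (Fin 5) k)).toRingHom

/-- `k[x₀,x₁,x₂][T] → k[x₀,…,x₄]`, `T ↦ x₃`. -/
noncomputable def iota : Polynomial (MvPolynomial (Fin 3) k) →+* MvPolynomial (Fin 5) k :=
  Polynomial.eval₂RingHom (jmap k) (X 3)

noncomputable def pa : Polynomial (MvPolynomial (Fin 3) k) := Polynomial.C (s1 k) + Polynomial.X
noncomputable def pb : Polynomial (MvPolynomial (Fin 3) k) :=
  Polynomial.C (s2 k) + Polynomial.X * Polynomial.C (s1 k)
noncomputable def pc : Polynomial (MvPolynomial (Fin 3) k) :=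
  Polynomial.C (s3 k) + Polynomial.X * Polynomial.C (s2 k)
noncomputable def pd : Polynomial (MvPolynomial (Fin 3) k) := Polynomial.X * Polynomial.C (s3 k)

theorem pa_pd_sub : pa k * pd k - pb k * pc k = q3 k := by
  simp only [pa, pb, pc, pd, q3, cA, cB, cC, map_sub, map_mul, map_neg, map_pow]
  ring

noncomputable def sig2 : MvPolynomial (Fin 5) k :=
  X 0 * X 1 + X 0 * X 2 + X 0 * X 3 + X 0 * X 4 + X 1 * X 2 + X 1 * X 3 + X 1 * X 4
      + X 2 * X 3 + X 2 * X 4 + X 3 * X 4

noncomputable def sig4 : MvPolynomial (Fin 5) k :=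
  X 0 * X 1 * X 2 * X 3 + X 0 * X 1 * X 2 * X 4 + X 0 * X 1 * X 3 * X 4 + X 0 * X 2 * X 3 * X 4
      + X 1 * X 2 * X 3 * X 4

theorem jmap_s1 : jmap k (s1 k) = X 0 + X 1 + X 2 := by simp [jmap, s1]
theorem jmap_s2 : jmap k (s2 k) = X 0 * X 1 + X 0 * X 2 + X 1 * X 2 := by simp [jmap, s2]
theorem jmap_s3 : jmap k (s3 k) = X 0 * X 1 * X 2 := by simp [jmap, s3]

theorem iota_C (r : MvPolynomial (Fin 3) k) : iota k (Polynomial.C r) = jmap k r := by
  simp [iota]

theorem iota_X : iota k Polynomial.X = X 3 := by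
  simp [iota]

theorem iota_pa : iota k (pa k) = X 0 + X 1 + X 2 + X 3 := by
  simp only [pa, map_add, iota_C, iota_X, jmap_s1]

theorem sig2_eq : sig2 k = iota k (pb k) + X 4 * iota k (pa k) := by
  simp only [pa, pb, map_add, map_mul, iota_C, iota_X, jmap_s1, jmap_s2, sig2]
  ring

theorem sig4_eq : sig4 k = iota k (pd k) + X 4 * iota k (pc k) := by
  simp only [pc, pd, map_add, map_mul, iota_C, iota_X, jmap_s2, jmap_s3, sig4]
  ring

theorem iota_q3 : iota k (q3 k) = iota k (pa k) * sig4 k - iota k (pc k) * sig2 k := by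
  rw [← pa_pd_sub, sig2_eq, sig4_eq, map_sub, map_mul, map_mul]
  ring

section charZero

variable [CharZero k]

instance adjoinRoot_q3_isDomain : IsDomain (AdjoinRoot (q3 k)) :=
  AdjoinRoot.isDomain_of_prime (q3_prime k)

/-- The function field of the double cover. -/
abbrev Lf : Type u := FractionRing (AdjoinRoot (q3 k))

noncomputable def piMap : Polynomial (MvPolynomial (Fin 3) k) →+* Lf k :=
  (algebraMap (AdjoinRoot (q3 k)) (Lf k)).comp (AdjoinRoot.mk (q3 k))

theorem piMap_eq_zero_iff (r : Polynomial (MvPolynomial (Fin 3) k)) :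
    piMap k r = 0 ↔ q3 k ∣ r := by
  rw [piMap, RingHom.comp_apply,
    (injective_iff_map_eq_zero' _).mp (IsFractionRing.injective _ (Lf k)),
    AdjoinRoot.mk_eq_zero]

theorem piMap_pa_ne_zero : piMap k (pa k) ≠ 0 := by
  rw [Ne, piMap_eq_zero_iff]
  intro hdvd
  have hpa : pa k = Polynomial.X + Polynomial.C (s1 k) := by rw [pa, add_comm]
  have hne : pa k ≠ 0 := by
    rw [hpa]
    exact Polynomial.X_add_C_ne_zero _
  have h1 := Polynomial.natDegree_le_of_dvd hdvd hne
  have h2 : (q3 k).natDegree = 2 := Polynomial.natDegree_quadratic (cA_ne_zero k)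
  rw [hpa, Polynomial.natDegree_X_add_C, h2] at h1
  omega

noncomputable def vals : Fin 5 → Lf k :=
  ![piMap k (Polynomial.C (X 0)), piMap k (Polynomial.C (X 1)), piMap k (Polynomial.C (X 2)),
    piMap k Polynomial.X, - piMap k (pb k) / piMap k (pa k)]

noncomputable def psi : MvPolynomial (Fin 5) k →+* Lf k :=
  eval₂Hom ((piMap k).comp ((Polynomial.C).comp MvPolynomial.C)) (vals k)

theorem psi_X (i : Fin 5) : psi k (X i) = vals k i := by
  rw [psi]
  exact eval₂Hom_X' _ _ _

theorem psi_C (c : k) : psi k (C c) = piMap k (Polynomial.C (C c)) := by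
  rw [psi]
  exact eval₂Hom_C _ _ _

omit [CharZero k] in
theorem jmap_X (i : Fin 3) :
    jmap k (X i) = (![X 0, X 1, X 2] : Fin 3 → MvPolynomial (Fin 5) k) i := by
  simp [jmap]

omit [CharZero k] in
theorem jmap_C (c : k) : jmap k (C c) = C c := by
  simp [jmap]

theorem psi_jmap (r : MvPolynomial (Fin 3) k) : psi k (jmap k r) = piMap k (Polynomial.C r) := by
  induction r using MvPolynomial.induction_on with
  | C c => rw [jmap_C, psi_C]
  | add p q hp hq => rw [map_add, map_add, hp, hq, map_add, map_add]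
  | mul_X p i hp =>
    have hX : psi k (jmap k (X i)) = piMap k (Polynomial.C (X i)) := by
      rw [jmap_X]
      fin_cases i
      · exact psi_X k 0
      · exact psi_X k 1
      · exact psi_X k 2
    rw [map_mul, map_mul, hp, hX, map_mul, map_mul]

theorem psi_iota (x : Polynomial (MvPolynomial (Fin 3) k)) : psi k (iota k x) = piMap k x := by
  induction x using Polynomial.induction_on' with
  | add p q hp hq => rw [map_add, map_add, hp, hq, map_add]
  | monomial n r =>
    have hX : psi k (X 3) = piMap k Polynomial.X := psi_X k 3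
    rw [← Polynomial.C_mul_X_pow_eq_monomial, map_mul, map_mul, map_pow, map_pow, iota_C, iota_X,
      psi_jmap, hX, map_mul, map_pow]

theorem psi_X4 : psi k (X 4) = - piMap k (pb k) / piMap k (pa k) :=
  psi_X k 4

theorem psi_sig2 : psi k (sig2 k) = 0 := by
  rw [sig2_eq, map_add, map_mul, psi_iota, psi_iota, psi_X4]
  field_simp [piMap_pa_ne_zero k]
  ring

theorem psi_sig4 : psi k (sig4 k) = 0 := by
  rw [sig4_eq, map_add, map_mul, psi_iota, psi_iota, psi_X4]
  have hq : piMap k (pa k) * piMap k (pd k) - piMap k (pb k) * piMap k (pc k) = 0 := by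
    rw [← map_mul, ← map_mul, ← map_sub, pa_pd_sub, piMap_eq_zero_iff]
  have hne := piMap_pa_ne_zero k
  field_simp
  linear_combination hq

/-- `f` is congruent modulo `σ₂`, after multiplication by a power of `a`, to a polynomial not
involving `x₄`. -/
def Good (f : MvPolynomial (Fin 5) k) : Prop :=
  ∃ (n : ℕ) (r : Polynomial (MvPolynomial (Fin 3) k)),
    iota k (pa k) ^ n * f - iota k r ∈ Ideal.span {sig2 k}

theorem good_of_iota (r : Polynomial (MvPolynomial (Fin 3) k)) : Good k (iota k r) :=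
  ⟨0, r, by simp⟩

theorem good_add {f g : MvPolynomial (Fin 5) k} (hf : Good k f) (hg : Good k g) :
    Good k (f + g) := by
  obtain ⟨n₁, r₁, h₁⟩ := hf
  obtain ⟨n₂, r₂, h₂⟩ := hg
  refine ⟨n₁ + n₂, pa k ^ n₂ * r₁ + pa k ^ n₁ * r₂, ?_⟩
  have : iota k (pa k) ^ (n₁ + n₂) * (f + g) - iota k (pa k ^ n₂ * r₁ + pa k ^ n₁ * r₂) =
      iota k (pa k) ^ n₂ * (iota k (pa k) ^ n₁ * f - iota k r₁) +
      iota k (pa k) ^ n₁ * (iota k (pa k) ^ n₂ * g - iota k r₂) := by
    simp only [map_add, map_mul, map_pow]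
    ring
  rw [this]
  exact Ideal.add_mem _ (Ideal.mul_mem_left _ _ h₁) (Ideal.mul_mem_left _ _ h₂)

theorem good_mul {f g : MvPolynomial (Fin 5) k} (hf : Good k f) (hg : Good k g) :
    Good k (f * g) := by
  obtain ⟨n₁, r₁, h₁⟩ := hf
  obtain ⟨n₂, r₂, h₂⟩ := hg
  refine ⟨n₁ + n₂, r₁ * r₂, ?_⟩
  have : iota k (pa k) ^ (n₁ + n₂) * (f * g) - iota k (r₁ * r₂) =
      (iota k (pa k) ^ n₁ * f) * (iota k (pa k) ^ n₂ * g - iota k r₂) +
      iota k r₂ * (iota k (pa k) ^ n₁ * f - iota k r₁) := by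
    simp only [map_mul]
    ring
  rw [this]
  exact Ideal.add_mem _ (Ideal.mul_mem_left _ _ h₂) (Ideal.mul_mem_left _ _ h₁)

theorem good_X (i : Fin 5) : Good k (X i) := by
  fin_cases i
  · have := good_of_iota k (Polynomial.C (X 0))
    rwa [iota_C, show jmap k (X 0) = X 0 by simp [jmap]] at this
  · have := good_of_iota k (Polynomial.C (X 1))
    rwa [iota_C, show jmap k (X 1) = X 1 by simp [jmap]] at this
  · have := good_of_iota k (Polynomial.C (X 2))
    rwa [iota_C, show jmap k (X 2) = X 2 by simp [jmap]] at this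
  · have := good_of_iota k Polynomial.X
    rwa [iota_X] at this
  · refine ⟨1, - pb k, ?_⟩
    have : iota k (pa k) ^ 1 * X 4 - iota k (- pb k) = sig2 k := by
      rw [sig2_eq, map_neg]
      ring
    show iota k (pa k) ^ 1 * X 4 - iota k (- pb k) ∈ Ideal.span {sig2 k}
    rw [this]
    exact Ideal.subset_span rfl

theorem good_all (f : MvPolynomial (Fin 5) k) : Good k f := by
  induction f using MvPolynomial.induction_on with
  | C c =>
    have := good_of_iota k (Polynomial.C (C c))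
    rwa [iota_C, show jmap k (C c) = C c by simp [jmap]] at this
  | add p q hp hq => exact good_add k hp hq
  | mul_X p i hp => exact good_mul k hp (good_X k i)

/-- The ideal `(σ₂, σ₄)`. -/
noncomputable def I24 : Ideal (MvPolynomial (Fin 5) k) := Ideal.span {sig2 k, sig4 k}

theorem I24_le_ker : I24 k ≤ RingHom.ker (psi k) := by
  rw [I24, Ideal.span_le]
  rintro x (rfl | rfl)
  · exact psi_sig2 k
  · exact psi_sig4 k

theorem mem_ker_psi_iff (f : MvPolynomial (Fin 5) k) :
    f ∈ RingHom.ker (psi k) ↔ ∃ n : ℕ, iota k (pa k) ^ n * f ∈ I24 k := by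
  constructor
  · intro hf
    obtain ⟨n, r, hr⟩ := good_all k f
    refine ⟨n, ?_⟩
    have hle : Ideal.span {sig2 k} ≤ I24 k := Ideal.span_mono (by simp)
    have h0 : psi k (iota k (pa k) ^ n * f - iota k r) = 0 := I24_le_ker k (hle hr)
    rw [map_sub, map_mul, (RingHom.mem_ker).mp hf, mul_zero, zero_sub, neg_eq_zero, psi_iota,
      piMap_eq_zero_iff] at h0
    obtain ⟨t, rfl⟩ := h0
    have hq : iota k (q3 k) ∈ I24 k := by
      rw [iota_q3]
      exact Ideal.sub_mem _ (Ideal.mul_mem_left _ _ (Ideal.subset_span (by simp)))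
        (Ideal.mul_mem_left _ _ (Ideal.subset_span (by simp)))
    have : iota k (pa k) ^ n * f = (iota k (pa k) ^ n * f - iota k (q3 k * t)) + iota k (q3 k * t) := by
      ring
    rw [this]
    refine Ideal.add_mem _ (hle hr) ?_
    rw [map_mul]
    exact Ideal.mul_mem_right _ _ hq
  · rintro ⟨n, hn⟩
    have h0 := I24_le_ker k hn
    rw [RingHom.mem_ker, map_mul, map_pow, psi_iota] at h0
    rw [RingHom.mem_ker]
    exact (mul_eq_zero.mp h0).resolve_left (pow_ne_zero _ (piMap_pa_ne_zero k))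

instance ker_psi_isPrime : (RingHom.ker (psi k)).IsPrime := RingHom.ker_isPrime _

end charZero

end Groth.Agent.Lib.Seat60.E24
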