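import Mathlib
import Groth.Agent.Lib.Seat60E24C

/-!
# The radical of `(σ₂, σ₄)` in five variables is prime (seat 60)
-/

set_option autoImplicit false
universe u

namespace Groth.Agent.Lib.Seat60.E24

open MvPolynomial

variable (k : Type u) [Field k]

theorem sig2_eq_esymm : sig2 k = esymm (Fin 5) k 2 := by
  rw [esymm]
  have : Finset.powersetCard 2 (Finset.univ : Finset (Fin 5)) =
    {{0,1},{0,2},{0,3},{0,4},{1,2},{1,3},{1,4},{2,3},{2,4},{3,4}} := by decide
  rw [this]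
  repeat rw [Finset.sum_insert (by decide)]
  rw [Finset.sum_singleton]
  repeat rw [Finset.prod_insert (by decide)]
  simp only [Finset.prod_singleton, sig2]
  ring

theorem sig4_eq_esymm : sig4 k = esymm (Fin 5) k 4 := by
  rw [esymm]
  have : Finset.powersetCard 4 (Finset.univ : Finset (Fin 5)) =
    {{0,1,2,3},{0,1,2,4},{0,1,3,4},{0,2,3,4},{1,2,3,4}} := by decide
  rw [this]
  repeat rw [Finset.sum_insert (by decide)]
  rw [Finset.sum_singleton]
  repeat rw [Finset.prod_insert (by decide)]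
  simp only [Finset.prod_singleton, sig4]
  ring

/-- `aᵢ = σ₁ - xᵢ`. -/
noncomputable def av (i : Fin 5) : MvPolynomial (Fin 5) k := (∑ j : Fin 5, X j) - X i

theorem iota_pa_eq : iota k (pa k) = av k 4 := by
  rw [iota_pa, av, Fin.sum_univ_five]
  ring

/-- The automorphism of `k[x₀,…,x₄]` swapping `xᵢ` and `x₄`. -/
noncomputable def rho (i : Fin 5) : MvPolynomial (Fin 5) k →+* MvPolynomial (Fin 5) k :=
  (rename (Equiv.swap i 4) : MvPolynomial (Fin 5) k →ₐ[k] MvPolynomial (Fin 5) k).toRingHom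

theorem rho_apply (i : Fin 5) (f : MvPolynomial (Fin 5) k) :
    rho k i f = rename (Equiv.swap i 4) f := rfl

theorem rho_rho (i : Fin 5) (f : MvPolynomial (Fin 5) k) : rho k i (rho k i f) = f := by
  rw [rho_apply, rho_apply, rename_rename]
  have : (Equiv.swap i 4 : Fin 5 → Fin 5) ∘ (Equiv.swap i 4) = id := by
    funext x
    simp
  rw [this, rename_id]
  rfl

theorem rho_sig2 (i : Fin 5) : rho k i (sig2 k) = sig2 k := by
  rw [sig2_eq_esymm, rho_apply]
  exact rename_esymm _ _ 2 (Equiv.swap i 4)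

theorem rho_sig4 (i : Fin 5) : rho k i (sig4 k) = sig4 k := by
  rw [sig4_eq_esymm, rho_apply]
  exact rename_esymm _ _ 4 (Equiv.swap i 4)

theorem rho_av (i : Fin 5) : rho k i (av k 4) = av k i := by
  rw [av, av, map_sub, map_sum, rho_apply, rename_X, Equiv.swap_apply_right]
  congr 1
  simp only [rho_apply, rename_X]
  exact Equiv.sum_comp (Equiv.swap i 4) (fun j => (X j : MvPolynomial (Fin 5) k))

theorem rho_mem_I24 (i : Fin 5) {f : MvPolynomial (Fin 5) k} (hf : f ∈ I24 k) :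
    rho k i f ∈ I24 k := by
  have : Ideal.map (rho k i) (I24 k) ≤ I24 k := by
    rw [I24, Ideal.map_span, Ideal.span_le]
    rintro _ ⟨x, (rfl | rfl), rfl⟩
    · rw [rho_sig2]
      exact Ideal.subset_span (by simp)
    · rw [rho_sig4]
      exact Ideal.subset_span (by simp)
  exact this (Ideal.mem_map_of_mem _ hf)

/-- The point `(1, ζ, ζ², ζ³, ζ⁴)`. -/
def pt (ζ : k) : Fin 5 → k := ![1, ζ, ζ ^ 2, ζ ^ 3, ζ ^ 4]

theorem eval_pt_sig2 (ζ : k) (h : ζ ^ 4 + ζ ^ 3 + ζ ^ 2 + ζ + 1 = 0) :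
    eval (pt k ζ) (sig2 k) = 0 := by
  simp [sig2, pt]
  linear_combination (ζ ^ 3 + ζ) * h

theorem eval_pt_sig4 (ζ : k) (h : ζ ^ 4 + ζ ^ 3 + ζ ^ 2 + ζ + 1 = 0) :
    eval (pt k ζ) (sig4 k) = 0 := by
  simp [sig4, pt]
  linear_combination ζ ^ 6 * h

theorem eval_pt_I24 (ζ : k) (h : ζ ^ 4 + ζ ^ 3 + ζ ^ 2 + ζ + 1 = 0)
    {f : MvPolynomial (Fin 5) k} (hf : f ∈ I24 k) : eval (pt k ζ) f = 0 := by
  have : I24 k ≤ RingHom.ker (eval (pt k ζ)) := by
    rw [I24, Ideal.span_le]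
    rintro x (rfl | rfl)
    · exact eval_pt_sig2 k ζ h
    · exact eval_pt_sig4 k ζ h
  exact this hf

theorem zeta_ne_zero (ζ : k) (h : ζ ^ 4 + ζ ^ 3 + ζ ^ 2 + ζ + 1 = 0) : ζ ≠ 0 := by
  rintro rfl
  simp at h

theorem eval_pt_av (ζ : k) (h : ζ ^ 4 + ζ ^ 3 + ζ ^ 2 + ζ + 1 = 0) (i : Fin 5) :
    eval (pt k ζ) (av k i) ≠ 0 := by
  have hζ := zeta_ne_zero k ζ h
  have hval : eval (pt k ζ) (av k i) = - pt k ζ i := by
    rw [av, map_sub, map_sum, Fin.sum_univ_five]
    simp only [eval_X]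
    have : pt k ζ 0 + pt k ζ 1 + pt k ζ 2 + pt k ζ 3 + pt k ζ 4 = 0 := by
      simp [pt]
      linear_combination h
    rw [this, zero_sub]
  rw [hval, neg_ne_zero]
  fin_cases i <;> simp [pt, hζ]

/-- The line through the origin and the point `(1, ζ, ζ², ζ³, ζ⁴)`. -/
noncomputable def lam (ζ : k) : MvPolynomial (Fin 5) k →+* Polynomial k :=
  eval₂Hom Polynomial.C (fun i => Polynomial.C (pt k ζ i) * Polynomial.X)

theorem lam_X (ζ : k) (i : Fin 5) : lam k ζ (X i) = Polynomial.C (pt k ζ i) * Polynomial.X := by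
  rw [lam]
  exact eval₂Hom_X' _ _ _

theorem lam_sig2 (ζ : k) (h : ζ ^ 4 + ζ ^ 3 + ζ ^ 2 + ζ + 1 = 0) : lam k ζ (sig2 k) = 0 := by
  have hz : (Polynomial.C ζ) ^ 4 + (Polynomial.C ζ) ^ 3 + (Polynomial.C ζ) ^ 2 + Polynomial.C ζ + 1
      = 0 := by
    have := congrArg (Polynomial.C : k →+* Polynomial k) h
    simpa using this
  simp only [sig2, map_add, map_mul, lam_X]
  simp only [pt, Matrix.cons_val_zero, Matrix.cons_val_one, Matrix.cons_val, map_one, map_pow]
  linear_combination ((Polynomial.C ζ) ^ 3 + Polynomial.C ζ) * Polynomial.X ^ 2 * hz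

theorem lam_sig4 (ζ : k) (h : ζ ^ 4 + ζ ^ 3 + ζ ^ 2 + ζ + 1 = 0) : lam k ζ (sig4 k) = 0 := by
  have hz : (Polynomial.C ζ) ^ 4 + (Polynomial.C ζ) ^ 3 + (Polynomial.C ζ) ^ 2 + Polynomial.C ζ + 1
      = 0 := by
    have := congrArg (Polynomial.C : k →+* Polynomial k) h
    simpa using this
  simp only [sig4, map_add, map_mul, lam_X]
  simp only [pt, Matrix.cons_val_zero, Matrix.cons_val_one, Matrix.cons_val, map_one, map_pow]
  linear_combination (Polynomial.C ζ) ^ 6 * Polynomial.X ^ 4 * hz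

theorem lam_I24 (ζ : k) (h : ζ ^ 4 + ζ ^ 3 + ζ ^ 2 + ζ + 1 = 0)
    {f : MvPolynomial (Fin 5) k} (hf : f ∈ I24 k) : lam k ζ f = 0 := by
  have : I24 k ≤ RingHom.ker (lam k ζ) := by
    rw [I24, Ideal.span_le]
    rintro x (rfl | rfl)
    · exact lam_sig2 k ζ h
    · exact lam_sig4 k ζ h
  exact this hf

theorem lam_av_ne_zero (ζ : k) (h : ζ ^ 4 + ζ ^ 3 + ζ ^ 2 + ζ + 1 = 0) (i : Fin 5) :
    lam k ζ (av k i) ≠ 0 := by
  have hval : lam k ζ (av k i) = Polynomial.C (eval (pt k ζ) (av k i)) * Polynomial.X := by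
    rw [av, map_sub, map_sum, map_sub, map_sum]
    simp only [lam_X, eval_X, map_sub, map_sum]
    rw [sub_mul, Finset.sum_mul]
  rw [hval]
  exact mul_ne_zero (by simpa using eval_pt_av k ζ h i) Polynomial.X_ne_zero

theorem coeff_zero_lam (ζ : k) (f : MvPolynomial (Fin 5) k) :
    (lam k ζ f).coeff 0 = constantCoeff f := by
  have : (Polynomial.constantCoeff).comp (lam k ζ) = (constantCoeff : MvPolynomial (Fin 5) k →+* k) := by
    apply MvPolynomial.ringHom_ext
    · intro c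
      simp [lam]
    · intro i
      simp [lam_X]
  have h2 := congrArg (fun g => g f) this
  simpa using h2

theorem sub_C_mem_span_X (f : MvPolynomial (Fin 5) k) :
    f - C (constantCoeff f) ∈ Ideal.span (Set.range (X : Fin 5 → MvPolynomial (Fin 5) k)) := by
  induction f using MvPolynomial.induction_on with
  | C c => simp
  | add p q hp hq =>
    have : p + q - C (constantCoeff (p + q)) = (p - C (constantCoeff p)) + (q - C (constantCoeff q)) := by
      rw [map_add, map_add]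
      ring
    rw [this]
    exact Ideal.add_mem _ hp hq
  | mul_X p i _ =>
    have : constantCoeff (p * X i) = 0 := by simp
    rw [this, map_zero, sub_zero]
    exact Ideal.mul_mem_left _ _ (Ideal.subset_span ⟨i, rfl⟩)

section main

variable [CharZero k]

theorem av_notMem_ker (ζ : k) (h : ζ ^ 4 + ζ ^ 3 + ζ ^ 2 + ζ + 1 = 0) (i : Fin 5) :
    av k i ∉ RingHom.ker (psi k) := by
  intro hmem
  obtain ⟨n, hn⟩ := (mem_ker_psi_iff k _).mp hmem
  have := eval_pt_I24 k ζ h hn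
  rw [map_mul, map_pow, iota_pa_eq] at this
  rcases mul_eq_zero.mp this with h1 | h1
  · exact eval_pt_av k ζ h 4 (pow_eq_zero_iff (by
      rintro rfl
      simp at h1) |>.mp h1)
  · exact eval_pt_av k ζ h i h1

theorem constantCoeff_eq_zero_of_mem_ker (ζ : k) (h : ζ ^ 4 + ζ ^ 3 + ζ ^ 2 + ζ + 1 = 0)
    {f : MvPolynomial (Fin 5) k} (hf : f ∈ RingHom.ker (psi k)) : constantCoeff f = 0 := by
  obtain ⟨n, hn⟩ := (mem_ker_psi_iff k _).mp hf
  have h0 := lam_I24 k ζ h hn
  rw [map_mul, map_pow, iota_pa_eq] at h0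
  have hf0 : lam k ζ f = 0 :=
    (mul_eq_zero.mp h0).resolve_left (pow_ne_zero _ (lam_av_ne_zero k ζ h 4))
  rw [← coeff_zero_lam k ζ, hf0, Polynomial.coeff_zero]

theorem ker_le_radical (ζ : k) (h : ζ ^ 4 + ζ ^ 3 + ζ ^ 2 + ζ + 1 = 0) :
    RingHom.ker (psi k) ≤ (I24 k).radical := by
  intro f hf
  rw [Ideal.radical_eq_sInf, Ideal.mem_sInf]
  rintro Q ⟨hIQ, hQ⟩
  by_cases hex : ∃ i, av k i ∉ Q
  · obtain ⟨i, hi⟩ := hex
    obtain ⟨n, hn⟩ := (mem_ker_psi_iff k _).mp hf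
    rw [iota_pa_eq] at hn
    have hle : I24 k ≤ Ideal.comap (rho k i) (RingHom.ker (psi k)) := by
      intro g hg
      exact I24_le_ker k (rho_mem_I24 k i hg)
    have hprime : (Ideal.comap (rho k i) (RingHom.ker (psi k))).IsPrime := Ideal.comap_isPrime _ _
    have hf' : f ∈ Ideal.comap (rho k i) (RingHom.ker (psi k)) := by
      rcases hprime.mem_or_mem (hle hn) with h1 | h1
      · exfalso
        have h2 := hprime.mem_of_pow_mem n h1
        rw [Ideal.mem_comap, rho_av] at h2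
        exact av_notMem_ker k ζ h i h2
      · exact h1
    rw [Ideal.mem_comap] at hf'
    obtain ⟨m, hm⟩ := (mem_ker_psi_iff k _).mp hf'
    rw [iota_pa_eq] at hm
    have hm' := rho_mem_I24 k i hm
    rw [map_mul, map_pow, rho_av, rho_rho] at hm'
    rcases hQ.mem_or_mem (hIQ hm') with h1 | h1
    · exact absurd (hQ.mem_of_pow_mem m h1) hi
    · exact h1
  · push Not at hex
    have hsum : (∑ j : Fin 5, X j : MvPolynomial (Fin 5) k) ∈ Q := by
      have h4 : (C (4 : k) : MvPolynomial (Fin 5) k) * (∑ j : Fin 5, X j) ∈ Q := by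
        have : (C (4 : k) : MvPolynomial (Fin 5) k) * (∑ j : Fin 5, X j) = ∑ i : Fin 5, av k i := by
          simp only [av, Fin.sum_univ_five, map_ofNat]
          ring
        rw [this]
        exact Ideal.sum_mem _ (fun i _ => hex i)
      have : (∑ j : Fin 5, X j : MvPolynomial (Fin 5) k) =
          C ((4 : k)⁻¹) * (C (4 : k) * (∑ j : Fin 5, X j)) := by
        rw [← mul_assoc, ← C_mul, inv_mul_cancel₀ (by norm_num : (4 : k) ≠ 0), C_1, one_mul]
      rw [this]
      exact Ideal.mul_mem_left _ _ h4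
    have hX : ∀ i : Fin 5, (X i : MvPolynomial (Fin 5) k) ∈ Q := by
      intro i
      have : (X i : MvPolynomial (Fin 5) k) = (∑ j : Fin 5, X j) - av k i := by
        rw [av]
        ring
      rw [this]
      exact Ideal.sub_mem _ hsum (hex i)
    have hspan : Ideal.span (Set.range (X : Fin 5 → MvPolynomial (Fin 5) k)) ≤ Q := by
      rw [Ideal.span_le]
      rintro _ ⟨i, rfl⟩
      exact hX i
    have := hspan (sub_C_mem_span_X k f)
    rwa [constantCoeff_eq_zero_of_mem_ker k ζ h hf, map_zero, sub_zero] at this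

theorem radical_I24_eq (ζ : k) (h : ζ ^ 4 + ζ ^ 3 + ζ ^ 2 + ζ + 1 = 0) :
    (I24 k).radical = RingHom.ker (psi k) :=
  le_antisymm ((Ideal.IsPrime.radical_le_iff (ker_psi_isPrime k)).mpr (I24_le_ker k))
    (ker_le_radical k ζ h)

theorem exists_zeta [IsAlgClosed k] : ∃ ζ : k, ζ ^ 4 + ζ ^ 3 + ζ ^ 2 + ζ + 1 = 0 := by
  have hdeg : (Polynomial.X ^ 4 + Polynomial.X ^ 3 + Polynomial.X ^ 2 + Polynomial.X + 1 :
      Polynomial k).degree ≠ 0 := by
    have : (Polynomial.X ^ 4 + Polynomial.X ^ 3 + Polynomial.X ^ 2 + Polynomial.X + 1 :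
      Polynomial k).degree = 4 := by compute_degree!
    rw [this]
    norm_num
  obtain ⟨ζ, hζ⟩ := IsAlgClosed.exists_root _ hdeg
  exact ⟨ζ, by simpa using hζ⟩

theorem radical_isPrime [IsAlgClosed k] :
    (Ideal.span ({esymm (Fin 5) k 2, esymm (Fin 5) k 4} : Set (MvPolynomial (Fin 5) k))).radical.IsPrime := by
  obtain ⟨ζ, h⟩ := exists_zeta k
  rw [← sig2_eq_esymm, ← sig4_eq_esymm]
  show (I24 k).radical.IsPrime
  rw [radical_I24_eq k ζ h]
  exact ker_psi_isPrime k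

end main

end Groth.Agent.Lib.Seat60.E24
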