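import Mathlib
import Groth.Prelude.Def_W4c6instabfans3FanCvx
import Groth.Agent.S19366
import Groth.Agent.S19370

/-!
# Seat60: helper lemmas for local maxima on projective realizations of formal fans

* `exists_cell_infinite`: an infinite subset of a compact subset of `P F` (quasi-separated, T1)
  has infinitely many points in a single rational simplex;
* `exists_normalized`: every point of a cell lifts to the standard simplex;
* `exists_subseq_tendsto`: Bolzano–Weierstrass for normalized lifts.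
-/

set_option autoImplicit false

namespace Groth.Agent.Lib.Seat60.FanMax

universe u v

open CategoryTheory Opposite Instab Instab.Fan Filter Topology
open Groth.Agent.S19370.Aux.FanCvx

variable {F : Fan.{u}}

/-- In a quasi-separated fan with `T1` realization, an infinite subset of a compact set has
infinitely many points in one rational simplex. -/
theorem exists_cell_infinite (hF : F.IsQuasiSeparated) [T1Space (P F)]
    (U : Set (P F)) (hUc : IsCompact U) (T : Set (P F)) (hTU : T ⊆ U) (hT : T.Infinite) :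
    ∃ (n : ICone) (ξ : F.obj (op n)), (T ∩ P.cell ξ).Infinite := by
  by_contra hcon
  push Not at hcon
  have hfin : ∀ (n : ICone) (ξ : F.obj (op n)), (T ∩ P.cell ξ).Finite := hcon
  have hclosed : ∀ T' : Set (P F), T' ⊆ T → IsClosed T' := by
    intro T' hT'
    rw [(Groth.Agent.S19366.result F hF).2 T']
    intro n ξ
    exact ((hfin n ξ).subset (Set.inter_subset_inter_left _ hT')).isClosed
  have hTc : IsCompact T := hUc.of_isClosed_subset (hclosed T subset_rfl) hTU
  have hdisc : IsDiscrete T := by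
    rw [isDiscrete_iff_forall_mem_exists_isClosed]
    intro s hs
    exact ⟨s, hclosed s hs, Set.inter_eq_left.mpr hs⟩
  exact hT (hTc.finite hdisc)

/-- the sum of the coordinates of a point of the punctured orthant is positive -/
theorem sum_pos {n : ICone} (v : Orth n) : 0 < ∑ i, v.1 i := by
  have h0 : 0 ≤ ∑ i, v.1 i := Finset.sum_nonneg fun i _ => v.2.1 i
  rcases h0.lt_or_eq with h | h
  · exact h
  · exfalso
    apply v.2.2
    funext i
    have := (Finset.sum_eq_zero_iff_of_nonneg (fun i _ => v.2.1 i)).mp h.symm i (Finset.mem_univ i)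
    simpa using this

/-- every point of a rational simplex has a lift in the standard simplex -/
theorem exists_normalized {n : ICone} (ξ : F.obj (op n)) (v : Orth n) :
    ∃ w : Orth n, w.1 ∈ stdSimplex ℝ (Fin n.dim) ∧ P.mk ξ w = P.mk ξ v := by
  have hs := sum_pos v
  set s := ∑ i, v.1 i with hsdef
  have hw0 : ∀ i, 0 ≤ (s⁻¹ • v.1) i := fun i => by
    show 0 ≤ s⁻¹ * v.1 i
    exact mul_nonneg (inv_nonneg.mpr hs.le) (v.2.1 i)
  have hsum : ∑ i, (s⁻¹ • v.1) i = 1 := by
    show ∑ i, s⁻¹ * v.1 i = 1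
    rw [← Finset.mul_sum, ← hsdef, inv_mul_cancel₀ hs.ne']
  have hne : s⁻¹ • v.1 ≠ 0 := by
    intro h
    rw [h] at hsum
    simp at hsum
  refine ⟨⟨s⁻¹ • v.1, hw0, hne⟩, ⟨hw0, hsum⟩, ?_⟩
  symm
  apply Quot.sound
  have e : F.map (𝟙 n : n ⟶ n).op ξ = ξ := by simp
  have hr := Rel.glue (F := F) (𝟙 n) ξ v ⟨s⁻¹ • v.1, hw0, hne⟩ s⁻¹ (inv_pos.mpr hs) (by
    show s⁻¹ • v.1 = s⁻¹ • (𝟙 n : n ⟶ n).realMap v.1
    congr 1
    funext j
    unfold ICone.Hom.realMap
    show v.1 j = ∑ i, (((Pi.single i (1 : ℤ) : Fin n.dim → ℤ) j : ℤ) : ℝ) * v.1 i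
    rw [Fintype.sum_eq_single j]
    · simp
    · intro i hi
      simp [hi.symm])
  rw [e] at hr
  exact hr

/-- two normalized vectors that are proportional are equal -/
theorem eq_of_smul_of_stdSimplex {n : ICone} (v w : Fin n.dim → ℝ)
    (hv : v ∈ stdSimplex ℝ (Fin n.dim)) (hw : w ∈ stdSimplex ℝ (Fin n.dim))
    (h : ∃ c : ℝ, w = c • v) : w = v := by
  obtain ⟨c, rfl⟩ := h
  have h1 : ∑ i, (c • v) i = 1 := hw.2
  have h2 : ∑ i, v i = 1 := hv.2
  have h3 : ∑ i, (c • v) i = c * ∑ i, v i := by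
    rw [Finset.mul_sum]
    rfl
  rw [h3, h2, mul_one] at h1
  rw [h1, one_smul]

/-- Bolzano–Weierstrass for normalized lifts in a fixed orthant -/
theorem exists_subseq_tendsto {n : ICone} (w : ℕ → Orth n)
    (hw : ∀ i, (w i).1 ∈ stdSimplex ℝ (Fin n.dim)) :
    ∃ (w₀ : Orth n) (φ : ℕ → ℕ), StrictMono φ ∧ Tendsto (w ∘ φ) atTop (𝓝 w₀) := by
  obtain ⟨a, ha, φ, hφ, hlim⟩ := (isCompact_stdSimplex (𝕜 := ℝ) (Fin n.dim)).tendsto_subseq hw
  have ha1 : ∀ i, 0 ≤ a i := ha.1
  have ha2 : ∑ i, a i = 1 := ha.2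
  have hne : a ≠ 0 := by
    intro h
    rw [h] at ha2
    simp at ha2
  refine ⟨⟨a, ha1, hne⟩, φ, hφ, ?_⟩
  exact (inducing_val n).tendsto_nhds_iff.mpr hlim

end Groth.Agent.Lib.Seat60.FanMax
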