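import Mathlib
import Groth.Agent.Lib.Seat60FanMaxA

/-!
# Seat60: level points on rational segments

* `exists_path_point`: on the rational `1`-simplex joining two rational points of a convex set,
  a continuous real function takes every intermediate value, at a point where a strictly
  quasi-concave function exceeds the minimum of its values at the end points;
* `exists_level_point`: the limit version for arbitrary points of a compact convex set.
-/

set_option autoImplicit false

namespace Groth.Agent.Lib.Seat60.FanMax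

universe u v

open CategoryTheory Opposite Instab Instab.Fan Filter Topology
open Groth.Agent.S19370.Aux.FanCvx

variable {F : Fan.{u}}

theorem basis_two_00 : (Orth.basis two 0).1 0 = 1 := by
  show (if (0 : Fin two.dim) = 0 then (1 : ℝ) else 0) = 1
  rw [if_pos rfl]
theorem basis_two_11 : (Orth.basis two 1).1 1 = 1 := by
  show (if (1 : Fin two.dim) = 1 then (1 : ℝ) else 0) = 1
  rw [if_pos rfl]
theorem basis_two_01 : (Orth.basis two 0).1 1 = 0 := by
  have h10 : (1 : Fin two.dim) ≠ 0 := by decide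
  show (if (1 : Fin two.dim) = 0 then (1 : ℝ) else 0) = 0
  rw [if_neg h10]
theorem basis_two_10 : (Orth.basis two 1).1 0 = 0 := by
  have h01 : (0 : Fin two.dim) ≠ 1 := by decide
  show (if (0 : Fin two.dim) = 1 then (1 : ℝ) else 0) = 0
  rw [if_neg h01]

theorem fin_two_cases (j : Fin two.dim) : j = 0 ∨ j = 1 := by
  have h2 : (two.dim : ℕ) = 2 := rfl
  rcases j with ⟨j, hj⟩
  have hj' : j < 2 := h2 ▸ hj
  interval_cases j
  · left; rfl
  · right; rfl

/-- the segment `|1 - t| e₀ + |t| e₁` in the orthant of `[2]` -/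
noncomputable def seg (t : ℝ) : Orth two :=
  ⟨fun j => |1 - t| * (Orth.basis two 0).1 j + |t| * (Orth.basis two 1).1 j, fun j => by
    have h0 := (Orth.basis two 0).2.1 j
    have h1 := (Orth.basis two 1).2.1 j
    have := abs_nonneg t
    have := abs_nonneg (1 - t)
    positivity, fun h => by
    have h0 := congr_fun h 0
    have h1 := congr_fun h 1
    simp only [Pi.zero_apply] at h0 h1
    rw [basis_two_00, basis_two_10] at h0
    rw [basis_two_01, basis_two_11] at h1
    have e1 : |1 - t| = 0 := by linarith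
    have e2 : |t| = 0 := by linarith
    rw [abs_eq_zero] at e1 e2
    linarith⟩

theorem seg_zero : seg 0 = Orth.basis two 0 := by
  apply Subtype.ext
  funext j
  simp [seg]

theorem seg_one : seg 1 = Orth.basis two 1 := by
  apply Subtype.ext
  funext j
  simp [seg]

theorem continuous_seg : Continuous seg := by
  rw [(inducing_val two).continuous_iff]
  apply continuous_pi
  intro j
  show Continuous fun t : ℝ => |1 - t| * (Orth.basis two 0).1 j + |t| * (Orth.basis two 1).1 j
  fun_prop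

theorem seg_eq (t : ℝ) (h0 : 0 < t) (h1 : t < 1) :
    (seg t).1 = (1 - t) • (Orth.basis two 0).1 + t • (Orth.basis two 1).1 := by
  funext j
  show |1 - t| * (Orth.basis two 0).1 j + |t| * (Orth.basis two 1).1 j
    = (1 - t) * (Orth.basis two 0).1 j + t * (Orth.basis two 1).1 j
  rw [abs_of_pos h0, abs_of_pos (by linarith : (0 : ℝ) < 1 - t)]

/-- On the rational segment between two rational points of a convex set, a continuous function
takes each intermediate value at a point where a strictly quasi-concave function exceeds the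
minimum of its end values. -/
theorem exists_path_point (U : Set (P F)) (hU : IsConvex U) {Γ : Type v} [LinearOrder Γ]
    (Φ : U → Γ) (hΦ : IsStrictQuasiConcaveOn U Φ) (g : U → ℝ) (hg : Continuous g)
    (x y : U) (hx : (x : P F).IsRational) (hy : (y : P F).IsRational) (c : ℝ)
    (h1 : g x < c) (h2 : c < g y) :
    ∃ q : U, g q = c ∧ min (Φ x) (Φ y) < Φ q := by
  have hxy' : (x : P F) ≠ y := by
    intro h
    have : x = y := Subtype.ext h
    rw [this] at h1
    exact lt_irrefl _ (h1.trans h2)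
  obtain ⟨τ, hτU, hτ0, hτ1⟩ := hU.2.2 x y x.2 y.2 hx hy hxy'
  have hcell : ∀ w : Orth two, P.mk τ w ∈ U := fun w => hτU ⟨w, rfl⟩
  let γ : ℝ → U := fun t => ⟨P.mk τ (seg t), hcell _⟩
  have hγc : Continuous γ :=
    Continuous.subtype_mk ((continuous_mk τ).comp continuous_seg) _
  have hγ0 : γ 0 = x := by
    apply Subtype.ext
    show P.mk τ (seg 0) = x
    rw [seg_zero, hτ0]
  have hγ1 : γ 1 = y := by
    apply Subtype.ext
    show P.mk τ (seg 1) = y
    rw [seg_one, hτ1]
  have hcont : ContinuousOn (fun t => g (γ t)) (Set.Icc (0 : ℝ) 1) :=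
    (hg.comp hγc).continuousOn
  have hmem : c ∈ Set.Icc (g (γ 0)) (g (γ 1)) := by
    rw [hγ0, hγ1]
    exact ⟨h1.le, h2.le⟩
  obtain ⟨t, ht, htc⟩ := intermediate_value_Icc (zero_le_one' ℝ) hcont hmem
  have htc' : g (γ t) = c := htc
  have ht0 : t ≠ 0 := by
    rintro rfl
    rw [hγ0] at htc'
    exact h1.ne htc'
  have ht1 : t ≠ 1 := by
    rintro rfl
    rw [hγ1] at htc'
    exact h2.ne' htc'
  have ht0' : 0 < t := lt_of_le_of_ne ht.1 (Ne.symm ht0)
  have ht1' : t < 1 := lt_of_le_of_ne ht.2 ht1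
  refine ⟨γ t, htc', ?_⟩
  have hq := hΦ two τ (Orth.basis two 0) (seg t) (Orth.basis two 1) (hcell _) (hcell _) (hcell _)
    basis_not_mul ⟨1 - t, t, by linarith, ht0', seg_eq t ht0' ht1'⟩
  have e₀ : (⟨P.mk τ (Orth.basis two 0), hcell _⟩ : U) = x := Subtype.ext hτ0
  have e₂ : (⟨P.mk τ (Orth.basis two 1), hcell _⟩ : U) = y := Subtype.ext hτ1
  rw [e₀, e₂] at hq
  exact hq

/-- every point of a realizable set lies in a rational simplex contained in the set -/
theorem exists_cell_of_mem (U : Set (P F)) (hU : IsRealizable U) (x : P F) (hx : x ∈ U) :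
    ∃ (n : ICone) (ξ : F.obj (op n)) (v : Orth n), x = P.mk ξ v ∧ ∀ w : Orth n, P.mk ξ w ∈ U := by
  obtain ⟨S, hS⟩ := hU
  have hx' : x ∈ Set.range (P.map S.ι) := hS ▸ hx
  obtain ⟨z, hz⟩ := hx'
  obtain ⟨⟨⟨n, ξ'⟩, v⟩, rfl⟩ := Quot.exists_rep z
  refine ⟨n, S.ι.app (op n) ξ', v, hz.symm, ?_⟩
  intro w
  rw [hS]
  exact ⟨P.mk ξ' w, rfl⟩

/-- rational approximation of a point of a convex set, inside the set -/
theorem exists_rational_seq (U : Set (P F)) (hU : IsRealizable U) (x : U) :
    ∃ xs : ℕ → U, (∀ k, ((xs k : U) : P F).IsRational) ∧ Tendsto xs atTop (𝓝 x) := by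
  obtain ⟨n, ξ, v, hxv, hcell⟩ := exists_cell_of_mem U hU x x.2
  refine ⟨fun k => ⟨P.mk ξ (approx v k), hcell _⟩, fun k => approx_rational ξ v k, ?_⟩
  rw [tendsto_subtype_rng]
  show Tendsto (fun k => P.mk ξ (approx v k)) atTop (𝓝 (x : P F))
  rw [hxv]
  exact ((continuous_mk ξ).tendsto v).comp (tendsto_approx v)

/-- Limit version: if `Φ x ≤ Φ y`, `g x = 0`, `g y = 1`, and `Φ ≤ Φ x` wherever `g < 1`, then
every level `0 < c < 1` of `g` contains a point where `Φ = Φ x`. -/
theorem exists_level_point (U : Set (P F)) [CompactSpace U] (hU : IsConvex U)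
    {Γ : Type v} [LinearOrder Γ] [TopologicalSpace Γ] [OrderTopology Γ]
    (Φ : U → Γ) (hΦc : Continuous Φ) (hΦ : IsStrictQuasiConcaveOn U Φ)
    (g : U → ℝ) (hg : Continuous g) (x y : U) (hxy : Φ x ≤ Φ y)
    (hA : ∀ q : U, g q < 1 → Φ q ≤ Φ x) (hgx : g x = 0) (hgy : g y = 1)
    (c : ℝ) (hc0 : 0 < c) (hc1 : c < 1) :
    ∃ p : U, g p = c ∧ Φ p = Φ x := by
  obtain ⟨xs, hxr, hxs⟩ := exists_rational_seq U hU.2.1 x
  obtain ⟨ys, hyr, hys⟩ := exists_rational_seq U hU.2.1 y
  have hgxs : Tendsto (fun k => g (xs k)) atTop (𝓝 0) := by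
    have := (hg.tendsto x).comp hxs
    rwa [hgx] at this
  have hgys : Tendsto (fun k => g (ys k)) atTop (𝓝 1) := by
    have := (hg.tendsto y).comp hys
    rwa [hgy] at this
  have hev1 : ∀ᶠ k in atTop, g (xs k) < c := hgxs.eventually (gt_mem_nhds hc0)
  have hev2 : ∀ᶠ k in atTop, c < g (ys k) := hgys.eventually (lt_mem_nhds hc1)
  have hq : ∀ k, ∃ q : U, (g (xs k) < c ∧ c < g (ys k)) →
      (g q = c ∧ min (Φ (xs k)) (Φ (ys k)) < Φ q) := by
    intro k
    by_cases h : g (xs k) < c ∧ c < g (ys k)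
    · obtain ⟨q, hq1, hq2⟩ := exists_path_point U hU Φ hΦ g hg (xs k) (ys k) (hxr k) (hyr k) c
        h.1 h.2
      exact ⟨q, fun _ => ⟨hq1, hq2⟩⟩
    · exact ⟨x, fun h' => absurd h' h⟩
  choose q hq using hq
  have hev3 : ∀ᶠ k in atTop, g (q k) = c ∧ min (Φ (xs k)) (Φ (ys k)) < Φ (q k) := by
    filter_upwards [hev1, hev2] with k h1 h2
    exact hq k ⟨h1, h2⟩
  have hlow : Tendsto (fun k => min (Φ (xs k)) (Φ (ys k))) atTop (𝓝 (Φ x)) := by
    have h1 : Tendsto (fun k => Φ (xs k)) atTop (𝓝 (Φ x)) := (hΦc.tendsto x).comp hxs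
    have h2 : Tendsto (fun k => Φ (ys k)) atTop (𝓝 (Φ y)) := (hΦc.tendsto y).comp hys
    have := h1.min h2
    rwa [min_eq_left hxy] at this
  have hΦq : Tendsto (fun k => Φ (q k)) atTop (𝓝 (Φ x)) := by
    refine tendsto_of_tendsto_of_tendsto_of_le_of_le' hlow tendsto_const_nhds ?_ ?_
    · filter_upwards [hev3] with k hk
      exact hk.2.le
    · filter_upwards [hev3] with k hk
      exact hA (q k) (by rw [hk.1]; exact hc1)
  obtain ⟨p, hp⟩ := exists_clusterPt_of_compactSpace (map q atTop)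
  refine ⟨p, ?_, ?_⟩
  · have hcl : IsClosed {u : U | g u = c} := isClosed_eq hg continuous_const
    have hle : map q atTop ≤ 𝓟 {u : U | g u = c} := by
      rw [le_principal_iff]
      show ∀ᶠ k in atTop, g (q k) = c
      filter_upwards [hev3] with k hk using hk.1
    have := mem_closure_iff_clusterPt.mpr (hp.mono hle)
    rwa [hcl.closure_eq] at this
  · have h1 : ClusterPt (Φ p) (map Φ (map q atTop)) :=
      hp.map (hΦc.tendsto p) tendsto_map
    have h2 : map Φ (map q atTop) ≤ 𝓝 (Φ x) := by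
      rw [Filter.map_map]
      exact hΦq
    have h3 : ClusterPt (Φ p) (𝓝 (Φ x)) := h1.mono h2
    have : (𝓝 (Φ p) ⊓ 𝓝 (Φ x)).NeBot := h3
    exact eq_of_nhds_neBot this

end Groth.Agent.Lib.Seat60.FanMax
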