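import Mathlib

/-!
# Finite fibres of weighted-homogeneous polynomial maps (seat 60)

Over an algebraically closed field, finitely many weighted-homogeneous polynomials of positive
degrees (positive weights) whose only common zero is the origin define a polynomial map with finite
fibres.  Proof: by the Nullstellensatz a power of every variable lies in the ideal of the `w m`;
then by induction on the weighted degree every monomial is congruent modulo `(w m - c m)` to a
combination of the finitely many monomials with small exponents, so the quotient algebra is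
finite-dimensional and has finitely many points.
-/

set_option autoImplicit false
open MvPolynomial

namespace Groth.Agent.Lib.Seat60.FiniteFibre

variable {k : Type*} [Field k] [IsAlgClosed k] {σ τ : Type*} [Finite σ] [Fintype τ]

omit [Fintype τ] in
theorem exists_pow_mem (w : τ → MvPolynomial σ k)
    (hzero : ∀ y : σ → k, (∀ m, eval y (w m) = 0) → y = 0) :
    ∃ M : ℕ, ∀ i : σ, (X i : MvPolynomial σ k) ^ M ∈ Ideal.span (Set.range w) := by
  classical
  have := Fintype.ofFinite σ
  have hrad : ∀ i : σ, (X i : MvPolynomial σ k) ∈ (Ideal.span (Set.range w)).radical := by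
    intro i
    rw [← vanishingIdeal_zeroLocus_eq_radical (K := k), mem_vanishingIdeal_iff]
    intro x hx
    rw [zeroLocus_span] at hx
    have hx0 : x = 0 := by
      apply hzero
      intro m
      have := hx (w m) ⟨m, rfl⟩
      exact this
    simp [hx0]
  choose n hn using hrad
  refine ⟨Finset.univ.sup n, fun i => ?_⟩
  have hle : n i ≤ Finset.univ.sup n := Finset.le_sup (Finset.mem_univ i)
  obtain ⟨r, hr⟩ := Nat.exists_eq_add_of_le hle
  rw [hr, pow_add]
  exact Ideal.mul_mem_right _ _ (hn i)

/-- The finite set of monomials with all exponents `< M`. -/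
def smallMonomials (k : Type*) [Field k] (σ : Type*) (M : ℕ) : Set (MvPolynomial σ k) :=
  {q | ∃ s : σ →₀ ℕ, (∀ i, s i < M) ∧ q = monomial s 1}

omit [IsAlgClosed k] [Finite σ] in
theorem monomial_mem (wt : σ → ℕ) (w : τ → MvPolynomial σ k) (δ : τ → ℕ) (hδ : ∀ m, 0 < δ m)
    (hw : ∀ m, IsWeightedHomogeneous wt (w m) (δ m)) (c : τ → k) (M : ℕ)
    (hM : ∀ i : σ, (X i : MvPolynomial σ k) ^ M ∈ Ideal.span (Set.range w)) :
    ∀ (D : ℕ) (s : σ →₀ ℕ), Finsupp.weight wt s = D →
      monomial s (1 : k) ∈ Submodule.span k (smallMonomials k σ M) ⊔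
        (Ideal.span (Set.range fun m => w m - C (c m))).restrictScalars k := by
  classical
  intro D
  induction D using Nat.strong_induction_on with
  | _ D ih =>
    intro s hs
    by_cases hsmall : ∀ i, s i < M
    · exact Submodule.mem_sup_left (Submodule.subset_span ⟨s, hsmall, rfl⟩)
    · push Not at hsmall
      obtain ⟨i, hi⟩ := hsmall
      have hmem : monomial s (1 : k) ∈ Ideal.span (Set.range w) := by
        have hse : Finsupp.single i M + (s - Finsupp.single i M) = s := by
          ext j
          by_cases hj : j = i
          · subst hj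
            simp only [Finsupp.coe_add, Finsupp.coe_tsub, Pi.add_apply, Pi.sub_apply,
              Finsupp.single_eq_same]
            omega
          · simp [Finsupp.single_eq_of_ne hj]
        have : monomial s (1 : k) = X i ^ M * monomial (s - Finsupp.single i M) 1 := by
          rw [X_pow_eq_monomial, monomial_mul, one_mul, hse]
        rw [this]
        exact Ideal.mul_mem_right _ _ (hM i)
      obtain ⟨a, ha⟩ := (Ideal.mem_span_range_iff_exists_fun).mp hmem
      have hcomp : monomial s (1 : k) = ∑ m, ∑ t ∈ (a m).support,
          weightedHomogeneousComponent wt D (monomial t (coeff t (a m)) * w m) := by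
        conv_lhs => rw [← (isWeightedHomogeneous_monomial wt s (1 : k)
          hs).weightedHomogeneousComponent_same, ← ha]
        rw [map_sum]
        refine Finset.sum_congr rfl fun m _ => ?_
        conv_lhs => rw [(a m).as_sum, Finset.sum_mul, map_sum]
      rw [hcomp]
      refine Submodule.sum_mem _ fun m _ => Submodule.sum_mem _ fun t _ => ?_
      have hhom : IsWeightedHomogeneous wt (monomial t (coeff t (a m)) * w m)
          (Finsupp.weight wt t + δ m) :=
        (isWeightedHomogeneous_monomial wt t (coeff t (a m)) rfl).mul (hw m)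
      rw [weightedHomogeneousComponent_of_mem hhom]
      split_ifs with hD
      · have hlt : Finsupp.weight wt t < D := by have := hδ m; omega
        have h2 : monomial t (coeff t (a m)) * C (c m) =
            (c m * coeff t (a m)) • monomial t (1 : k) := by
          rw [mul_comm, C_mul_monomial, smul_monomial, smul_eq_mul, mul_one]
        have h1 : monomial t (coeff t (a m)) * w m =
            monomial t (coeff t (a m)) * (w m - C (c m))
              + (c m * coeff t (a m)) • monomial t (1 : k) := by
          rw [← h2]
          ring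
        rw [h1]
        refine Submodule.add_mem _ (Submodule.mem_sup_right ?_)
          (Submodule.smul_mem _ _ (ih _ hlt t rfl))
        exact Ideal.mul_mem_left _ _ (Ideal.subset_span ⟨m, rfl⟩)
      · exact Submodule.zero_mem _

omit [IsAlgClosed k] [Fintype τ] in
theorem finite_smallMonomials (M : ℕ) : (smallMonomials k σ M).Finite := by
  classical
  have := Fintype.ofFinite σ
  have hsub : smallMonomials k σ M ⊆ Set.range (fun s : σ → Fin M =>
      monomial (Finsupp.equivFunOnFinite.symm (fun i => ((s i : ℕ)))) (1 : k)) := by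
    rintro q ⟨s, hs, rfl⟩
    refine ⟨fun i => ⟨s i, hs i⟩, ?_⟩
    show monomial (Finsupp.equivFunOnFinite.symm fun i => s i) (1 : k) = monomial s 1
    congr 2
    ext i
    simp
  exact (Set.finite_range _).subset hsub

theorem finite_fibre (wt : σ → ℕ) (w : τ → MvPolynomial σ k) (δ : τ → ℕ) (hδ : ∀ m, 0 < δ m)
    (hw : ∀ m, IsWeightedHomogeneous wt (w m) (δ m))
    (hzero : ∀ y : σ → k, (∀ m, eval y (w m) = 0) → y = 0) (c : τ → k) :
    {y : σ → k | ∀ m, eval y (w m) = c m}.Finite := by
  classical
  obtain ⟨M, hM⟩ := exists_pow_mem w hzero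
  obtain ⟨I, hI⟩ : ∃ I : Ideal (MvPolynomial σ k),
      I = Ideal.span (Set.range fun m => w m - C (c m)) := ⟨_, rfl⟩
  have htop : ∀ q : MvPolynomial σ k,
      q ∈ Submodule.span k (smallMonomials k σ M) ⊔ I.restrictScalars k := by
    intro q
    rw [q.as_sum]
    refine Submodule.sum_mem _ fun t _ => ?_
    have : monomial t (coeff t q) = (coeff t q) • monomial t (1 : k) := by
      rw [smul_monomial, smul_eq_mul, mul_one]
    rw [this, hI]
    exact Submodule.smul_mem _ _ (monomial_mem wt w δ hδ hw c M hM _ t rfl)
  have hfin : Module.Finite k (MvPolynomial σ k ⧸ I) := by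
    have hS : Module.Finite k (Submodule.span k (smallMonomials k σ M)) :=
      Module.Finite.span_of_finite k (finite_smallMonomials M)
    let f : Submodule.span k (smallMonomials k σ M) →ₗ[k] (MvPolynomial σ k ⧸ I) :=
      (Ideal.Quotient.mkₐ k I).toLinearMap ∘ₗ (Submodule.subtype _)
    apply Module.Finite.of_surjective f
    intro z
    obtain ⟨q, rfl⟩ := Ideal.Quotient.mk_surjective z
    obtain ⟨q1, hq1, q2, hq2, rfl⟩ := Submodule.mem_sup.mp (htop q)
    refine ⟨⟨q1, hq1⟩, ?_⟩
    have hq2' : Ideal.Quotient.mk I q2 = 0 := Ideal.Quotient.eq_zero_iff_mem.mpr hq2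
    simp only [f, LinearMap.coe_comp, Function.comp_apply, Submodule.subtype_apply,
      AlgHom.toLinearMap_apply, Ideal.Quotient.mkₐ_eq_mk, map_add, hq2', add_zero]
  have hle : ∀ y : {y : σ → k | ∀ m, eval y (w m) = c m}, ∀ q ∈ I, aeval (R := k) y.1 q = 0 := by
    intro y q hq
    have hker : I ≤ RingHom.ker (aeval (R := k) y.1 : MvPolynomial σ k →ₐ[k] k) := by
      rw [hI, Ideal.span_le]
      rintro _ ⟨m, rfl⟩
      have := y.2 m
      simp only [SetLike.mem_coe, RingHom.mem_ker, map_sub, aeval_C, Algebra.algebraMap_self,
        RingHom.id_apply]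
      rw [sub_eq_zero]
      exact this
    exact hker hq
  let Φ : {y : σ → k | ∀ m, eval y (w m) = c m} → ((MvPolynomial σ k ⧸ I) →ₐ[k] k) :=
    fun y => Ideal.Quotient.liftₐ I (aeval y.1) (hle y)
  have hΦ : Function.Injective Φ := by
    intro y y' h
    apply Subtype.ext
    funext i
    have := congrArg (fun φ : (MvPolynomial σ k ⧸ I) →ₐ[k] k => φ (Ideal.Quotient.mk I (X i))) h
    simpa [Φ] using this
  have : Finite ((MvPolynomial σ k ⧸ I) →ₐ[k] k) := Finite.algHom k _ k
  exact Set.finite_coe_iff.mp (Finite.of_injective Φ hΦ)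

end Groth.Agent.Lib.Seat60.FiniteFibre
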