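import Mathlib
import Groth.Agent.Lib.Helper18Fitt20

/-!
# Modules whose `k`-th Fitting ideal is principal, generated by a nonzerodivisor

Matrix core: let `x : Fin n → M` generate `M`, `s = n - k`, and suppose the ideal of `s`-minors of relation
rows is `(f)` with `f` a nonzerodivisor and all `(s+1)`-minors vanish.  Then the module of relations is
projective (a retract of a finite free module, by Cramer's rule on a family of minors `c_α f` with
`(c_α) = 1`), and `f`-power torsion of `M` is killed by `f`.
-/

set_option autoImplicit false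
universe u

namespace Groth.Agent.Lib.Seat86.FittSplit

open Groth.Agent.Helper18Fitt Matrix

section Core

variable {R : Type u} [CommRing R] {M : Type u} [AddCommGroup M] [Module R M] {n : ℕ}
  (x : Fin n → M)

/-- the module of relations among the family `x` -/
def rel : Submodule R (Fin n → R) := LinearMap.ker (Fintype.linearCombination R x)

lemma mem_rel {r : Fin n → R} : r ∈ rel x ↔ ∑ i, r i • x i = 0 := by
  rw [rel, LinearMap.mem_ker, Fintype.linearCombination_apply]

variable {x} {s : ℕ} (z : Fin s → (Fin n → R)) (e : Fin s → Fin n)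

/-- the minor matrix of the relation rows `z` along the column choice `e` -/
def W : Matrix (Fin s) (Fin s) R := Matrix.of fun a b => z b (e a)

lemma cramer_identity (r : Fin n → R) (a : Fin s) :
    ∑ b, (W z e).cramer (r ∘ e) b * z b (e a) = (W z e).det * r (e a) := by
  have h := congrFun (Matrix.mulVec_cramer (W z e) (r ∘ e)) a
  simp only [Matrix.mulVec, dotProduct, Pi.smul_apply, Function.comp_apply, smul_eq_mul] at h
  rw [← h]
  exact Finset.sum_congr rfl (fun b _ => mul_comm _ _)

lemma cramer_mem_minors (hz : ∀ b, z b ∈ rel x) (r : Fin n → R) (hr : r ∈ rel x) (b : Fin s) :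
    (W z e).cramer (r ∘ e) b ∈ minors (R := R) x s := by
  rw [Matrix.cramer_apply]
  apply Ideal.subset_span
  refine ⟨Function.update z b r, e, ?_, ?_⟩
  · intro j
    by_cases hj : j = b
    · subst hj
      rw [Function.update_self]
      exact (mem_rel x).mp hr
    · rw [Function.update_of_ne hj]
      exact (mem_rel x).mp (hz j)
  · congr 1
    ext a b'
    simp only [Matrix.updateCol_apply, W, Matrix.of_apply, Function.comp_apply]
    by_cases hb : b' = b
    · subst hb
      simp
    · simp [hb]

lemma mul_det_eq_zero_of_vanish (hz : ∀ b, z b ∈ rel x) (H2 : minors (R := R) x (s + 1) = ⊥)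
    (r : Fin n → R) (hr : r ∈ rel x) (hre : ∀ a, r (e a) = 0) (i : Fin n) :
    r i * (W z e).det = 0 := by
  have hmem : (Matrix.of fun a b => (Fin.cons r z : Fin (s + 1) → (Fin n → R)) b
      ((Fin.cons i e : Fin (s + 1) → Fin n) a)).det ∈ minors (R := R) x (s + 1) := by
    apply Ideal.subset_span
    refine ⟨Fin.cons r z, Fin.cons i e, ?_, rfl⟩
    intro j
    refine Fin.cases ?_ (fun j' => ?_) j
    · simpa using (mem_rel x).mp hr
    · simpa using (mem_rel x).mp (hz j')
  rw [H2, Ideal.mem_bot, Matrix.det_succ_column_zero, Fin.sum_univ_succ] at hmem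
  have h0 : ∀ j : Fin s, (Matrix.of fun a b => (Fin.cons r z : Fin (s + 1) → (Fin n → R)) b
      ((Fin.cons i e : Fin (s + 1) → Fin n) a)) j.succ 0 = 0 := by
    intro j
    simp [hre]
  have h1 : (Matrix.of fun a b => (Fin.cons r z : Fin (s + 1) → (Fin n → R)) b
      ((Fin.cons i e : Fin (s + 1) → Fin n) a)) 0 0 = r i := by
    simp
  have h2 : (Matrix.of fun a b => (Fin.cons r z : Fin (s + 1) → (Fin n → R)) b
      ((Fin.cons i e : Fin (s + 1) → Fin n) a)).submatrix (Fin.succAbove 0) Fin.succ = W z e := by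
    ext a b
    simp [W]
  simp only [h0, h1, h2, mul_zero, zero_mul, Finset.sum_const_zero, add_zero] at hmem
  simpa using hmem

lemma key_alpha {f c : R} (hf : f ∈ nonZeroDivisors R) (hz : ∀ b, z b ∈ rel x)
    (H2 : minors (R := R) x (s + 1) = ⊥) (hdet : (W z e).det = c * f)
    (r : Fin n → R) (m : ℕ) (hr : f ^ m • r ∈ rel x) :
    (c ^ 2 * f) • r = c • ∑ b, (W z e).cramer (r ∘ e) b • z b := by
  set N := (W z e).cramer (r ∘ e) with hN
  let r'' : Fin n → R := (W z e).det • (f ^ m • r) - f ^ m • ∑ b, N b • z b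
  have hr'' : r'' ∈ rel x :=
    Submodule.sub_mem _ (Submodule.smul_mem _ _ hr)
      (Submodule.smul_mem _ _ (Submodule.sum_mem _ fun b _ => Submodule.smul_mem _ _ (hz b)))
  have hvan : ∀ a, r'' (e a) = 0 := by
    intro a
    have h := cramer_identity z e r a
    rw [← hN] at h
    simp only [r'', Pi.sub_apply, Pi.smul_apply, Finset.sum_apply, smul_eq_mul]
    rw [h]
    ring
  ext i
  have h3 := mul_det_eq_zero_of_vanish z e hz H2 r'' hr'' hvan i
  simp only [r'', Pi.sub_apply, Pi.smul_apply, Finset.sum_apply, smul_eq_mul] at h3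
  rw [hdet] at h3
  have h4 : (c ^ 2 * f * r i - c * ∑ b, N b * z b i) * f ^ (m + 1) = 0 := by
    rw [← h3]
    ring
  have h5 := (mul_right_mem_nonZeroDivisors_eq_zero_iff (pow_mem hf (m + 1))).mp h4
  simp only [Pi.smul_apply, Finset.sum_apply, smul_eq_mul]
  exact sub_eq_zero.mp h5

/-- finitely many minors `c_α f` with `∑ v_α c_α² = 1` -/
theorem exists_data {f : R} (hf : f ∈ nonZeroDivisors R)
    (H1 : minors (R := R) x s = Ideal.span {f}) :
    ∃ (ι : Type u) (_ : Fintype ι) (z : ι → Fin s → (Fin n → R)) (e : ι → Fin s → Fin n)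
      (c v : ι → R), (∀ α b, z α b ∈ rel x) ∧ (∀ α, (W (z α) (e α)).det = c α * f) ∧
        ∑ α, v α * c α ^ 2 = 1 := by
  classical
  have hfm : f ∈ minors (R := R) x s := by
    rw [H1]
    exact Ideal.mem_span_singleton_self f
  unfold minors at hfm
  obtain ⟨u, t, hts, -, hsum⟩ := Submodule.mem_span_iff_exists_finset_subset.mp hfm
  have hch : ∀ d : t, ∃ (z : Fin s → (Fin n → R)) (e : Fin s → Fin n) (c : R),
      (∀ b, z b ∈ rel x) ∧ (W z e).det = c * f ∧ (d : R) = c * f := by
    intro d
    obtain ⟨z, e, hz, hd⟩ := hts d.2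
    have hdm : (d : R) ∈ Ideal.span {f} := by
      rw [← H1]
      exact Ideal.subset_span ⟨z, e, hz, hd⟩
    obtain ⟨c, hc⟩ := Ideal.mem_span_singleton'.mp hdm
    exact ⟨z, e, c, fun b => (mem_rel x).mpr (hz b), by rw [hc]; exact hd.symm, hc.symm⟩
  choose z e c hz hdet hd using hch
  have hone : ∑ d : t, u d * c d = 1 := by
    have h1 : (∑ d : t, u d * c d) * f = 1 * f := by
      rw [one_mul]
      calc (∑ d : t, u d * c d) * f = ∑ d : t, u d • (d : R) := by
            rw [Finset.sum_mul]
            refine Finset.sum_congr rfl (fun d _ => ?_)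
            rw [smul_eq_mul, hd d]
            ring
        _ = ∑ a ∈ t, u a • a := Finset.sum_coe_sort t (fun a => u a • a)
        _ = f := hsum
    exact (mul_cancel_right_mem_nonZeroDivisors hf).mp h1
  have hspan : Ideal.span (Set.range c) = ⊤ := by
    rw [Ideal.eq_top_iff_one, ← hone]
    exact Ideal.sum_mem _ (fun d _ => Ideal.mul_mem_left _ _ (Ideal.subset_span ⟨d, rfl⟩))
  have hspan2 := Ideal.span_pow_eq_top _ hspan 2
  have hr : (fun y : R => y ^ 2) '' Set.range c = Set.range (fun d => c d ^ 2) := by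
    rw [← Set.range_comp]
    rfl
  rw [hr] at hspan2
  have h1mem : (1 : R) ∈ Ideal.span (Set.range (fun d => c d ^ 2)) := by
    rw [hspan2]
    trivial
  obtain ⟨v, hv⟩ := Ideal.mem_span_range_iff_exists_fun.mp h1mem
  exact ⟨t, inferInstance, z, e, c, v, hz, hdet, hv⟩

/-- `f`-power torsion relations: if `f ^ m • r` is a relation then so is `f • r`. -/
theorem smul_mem_rel {f : R} (hf : f ∈ nonZeroDivisors R)
    (H1 : minors (R := R) x s = Ideal.span {f}) (H2 : minors (R := R) x (s + 1) = ⊥)
    (r : Fin n → R) (m : ℕ) (hr : f ^ m • r ∈ rel x) : f • r ∈ rel x := by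
  obtain ⟨ι, _, z, e, c, v, hz, hdet, hv⟩ := exists_data (x := x) hf H1
  have h1 : f • r = ∑ α, v α • ((c α ^ 2 * f) • r) := by
    simp_rw [smul_smul]
    rw [← Finset.sum_smul]
    congr 1
    calc f = (∑ α, v α * c α ^ 2) * f := by rw [hv, one_mul]
      _ = ∑ α, v α * (c α ^ 2 * f) := by
        rw [Finset.sum_mul]
        exact Finset.sum_congr rfl (fun α _ => by ring)
  rw [h1]
  refine Submodule.sum_mem _ (fun α _ => Submodule.smul_mem _ _ ?_)
  rw [key_alpha (z α) (e α) hf (hz α) H2 (hdet α) r m hr]
  exact Submodule.smul_mem _ _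
    (Submodule.sum_mem _ fun b _ => Submodule.smul_mem _ _ (hz α b))

/-- the module of relations is projective -/
theorem projective_rel {f : R} (hf : f ∈ nonZeroDivisors R)
    (H1 : minors (R := R) x s = Ideal.span {f}) (H2 : minors (R := R) x (s + 1) = ⊥) :
    Module.Projective R (rel (R := R) x) := by
  classical
  obtain ⟨ι, _, z, e, c, v, hz, hdet, hv⟩ := exists_data (x := x) hf H1
  -- multiplication by `f` on the free module
  let μ : (Fin s → R) →ₗ[R] (Fin s → R) := f • LinearMap.id
  have hμ : Function.Injective μ := by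
    intro a a' h
    funext b
    have := congrFun h b
    simp only [μ, LinearMap.smul_apply, LinearMap.id_apply, Pi.smul_apply, smul_eq_mul] at this
    exact (mul_cancel_left_mem_nonZeroDivisors hf).mp this
  -- Cramer maps
  let Ψ' : ι → (rel x →ₗ[R] (Fin s → R)) := fun α =>
    (W (z α) (e α)).cramer ∘ₗ (LinearMap.funLeft R R (e α)) ∘ₗ (rel x).subtype
  have hΨ'_apply : ∀ α (r : rel x), Ψ' α r = (W (z α) (e α)).cramer ((r : Fin n → R) ∘ e α) :=
    fun α r => rfl
  have hΨ'range : ∀ α (r : rel x), Ψ' α r ∈ LinearMap.range μ := by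
    intro α r
    have hmem : ∀ b, ∃ t : R, t * f = Ψ' α r b := by
      intro b
      have := cramer_mem_minors (z α) (e α) (hz α) r r.2 b
      rw [H1] at this
      exact Ideal.mem_span_singleton'.mp this
    choose t ht using hmem
    refine ⟨t, ?_⟩
    funext b
    simp only [μ, LinearMap.smul_apply, LinearMap.id_apply, Pi.smul_apply, smul_eq_mul]
    rw [mul_comm, ht]
  let Ψ : ι → (rel x →ₗ[R] (Fin s → R)) := fun α =>
    (LinearEquiv.ofInjective μ hμ).symm.toLinearMap ∘ₗ
      (LinearMap.codRestrict (LinearMap.range μ) (Ψ' α) (hΨ'range α))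
  have hΨ : ∀ α (r : rel x), f • Ψ α r = Ψ' α r := by
    intro α r
    have h2 : (((LinearEquiv.ofInjective μ hμ) ((LinearEquiv.ofInjective μ hμ).symm
        (LinearMap.codRestrict (LinearMap.range μ) (Ψ' α) (hΨ'range α) r)) :
          LinearMap.range μ) : Fin s → R) = μ ((LinearEquiv.ofInjective μ hμ).symm
        (LinearMap.codRestrict (LinearMap.range μ) (Ψ' α) (hΨ'range α) r)) :=
      LinearEquiv.ofInjective_apply _ _
    rw [LinearEquiv.apply_symm_apply] at h2
    exact h2.symm
  -- the maps from the free modules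
  let φ : ι → ((Fin s → R) →ₗ[R] rel x) := fun α =>
    Fintype.linearCombination R (fun b => (⟨z α b, hz α b⟩ : rel x))
  have hφ : ∀ α (a : Fin s → R), ((φ α a : rel x) : Fin n → R) = ∑ b, a b • z α b := by
    intro α a
    simp only [φ, Fintype.linearCombination_apply]
    rw [Submodule.coe_sum]
    rfl
  -- the splitting
  let i : rel x →ₗ[R] (ι → (Fin s → R)) := LinearMap.pi Ψ
  let p : (ι → (Fin s → R)) →ₗ[R] rel x :=
    ∑ α, (v α * c α) • ((φ α) ∘ₗ (LinearMap.proj α))
  have hpi : p ∘ₗ i = LinearMap.id := by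
    ext1 r
    apply Subtype.ext
    have hf' : Function.Injective (fun w : Fin n → R => f • w) := by
      intro w w' h
      funext j
      have := congrFun h j
      simp only [Pi.smul_apply, smul_eq_mul] at this
      exact (mul_cancel_left_mem_nonZeroDivisors hf).mp this
    apply hf'
    show f • ((p (i r) : rel x) : Fin n → R) = f • ((r : rel x) : Fin n → R)
    have h1 : ((p (i r) : rel x) : Fin n → R) = ∑ α, (v α * c α) • ∑ b, (Ψ α r) b • z α b := by
      simp only [p, i, LinearMap.sum_apply, LinearMap.smul_apply, LinearMap.comp_apply,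
        LinearMap.proj_apply, LinearMap.pi_apply]
      rw [Submodule.coe_sum]
      refine Finset.sum_congr rfl (fun α _ => ?_)
      rw [Submodule.coe_smul, hφ]
    rw [h1, Finset.smul_sum]
    have h2 : ∀ α, f • ((v α * c α) • ∑ b, (Ψ α r) b • z α b) =
        v α • ((c α ^ 2 * f) • (r : Fin n → R)) := by
      intro α
      rw [key_alpha (z α) (e α) hf (hz α) H2 (hdet α) (r : Fin n → R) 0
        (by rw [pow_zero, one_smul]; exact r.2)]
      rw [← hΨ'_apply, ← hΨ]
      simp only [Pi.smul_apply, smul_eq_mul, Finset.smul_sum, smul_smul]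
      refine Finset.sum_congr rfl (fun b _ => ?_)
      congr 1
      ring
    rw [Finset.sum_congr rfl (fun α _ => h2 α)]
    simp_rw [smul_smul]
    rw [← Finset.sum_smul]
    congr 1
    calc ∑ α, v α * (c α ^ 2 * f) = (∑ α, v α * c α ^ 2) * f := by
          rw [Finset.sum_mul]
          exact Finset.sum_congr rfl (fun α _ => by ring)
      _ = f := by rw [hv, one_mul]
  exact Module.Projective.of_split i p hpi

end Core

end Groth.Agent.Lib.Seat86.FittSplit
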