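import Mathlib
import Groth.Agent.Lib.Seat86FittSplit

/-!
# Principal Fitting ideal generated by a nonzerodivisor: projective dimension and splitting

Module-level consequences of `Seat86FittSplit`: for a finitely presented `M` with `Fit_k(M) = (f)`, `f` a
nonzerodivisor, and `Fit_{k-1}(M) = 0`: `pd M ≤ 1`, `Ker(f) = f`-power torsion, `M / Ker(f)` is finite
locally free of rank `k`, `M ≅ M / Ker(f) × Ker(f)` and `pd Ker(f) ≤ 1`.
-/

set_option autoImplicit false
universe u

namespace Groth.Agent.Lib.Seat86.FittSplit

open Groth.Agent.Helper18Fitt Matrix CategoryTheory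

section General

variable {R : Type u} [CommRing R]

/-- a finite module which is locally free of rank `r` on basic opens is projective -/
theorem projective_of_locFree (Q : Type u) [AddCommGroup Q] [Module R Q] [Module.Finite R Q]
    (r : ℕ) (h : LocFree (R := R) Q r) : Module.Projective R Q := by
  let s : Set R := {g | Module.Free (Localization.Away g) (LocalizedModule (Submonoid.powers g) Q)}
  have hs : Ideal.span s = ⊤ := by
    by_contra hne
    obtain ⟨m, hm, hle⟩ := Ideal.exists_le_maximal _ hne
    have := hm.isPrime
    obtain ⟨g, hg, hfree, -⟩ := h m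
    exact hg (hle (Ideal.subset_span hfree))
  have hfp : Module.FinitePresentation R Q := by
    apply Module.FinitePresentation.of_localizationSpan s hs
    intro g
    have : Module.Free (Localization.Away g.1) (LocalizedModule (Submonoid.powers g.1) Q) := g.2
    have : Module.Finite (Localization.Away g.1) (LocalizedModule (Submonoid.powers g.1) Q) :=
      Module.Finite.of_isLocalizedModule (Submonoid.powers g.1)
        (LocalizedModule.mkLinearMap (Submonoid.powers g.1) Q)
    exact Module.finitePresentation_of_projective _ _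
  have hflat : Module.Flat R Q := by
    apply Module.flat_of_localized_span R Q s hs
    intro g
    have : Module.Free (Localization.Away g.1) (LocalizedModule (Submonoid.powers g.1) Q) := g.2
    exact Module.Flat.trans R (Localization.Away g.1) _
  exact Module.Flat.projective_of_finitePresentation

variable {M : Type u} [AddCommGroup M] [Module R M]

/-- a surjection from a projective module with projective kernel gives `pd ≤ 1` -/
theorem pd_lt_two_of_projective_ker {F : Type u} [AddCommGroup F] [Module R F]
    [Module.Projective R F] (π : F →ₗ[R] M) (hπ : Function.Surjective π)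
    (hK : Module.Projective R (LinearMap.ker π)) :
    HasProjectiveDimensionLT (ModuleCat.of R M) 2 := by
  have hS := LinearMap.shortExact_shortComplexKer hπ
  have h2 : Projective π.shortComplexKer.X₂ := (IsProjective.iff_projective F).mp inferInstance
  have h1 : Projective π.shortComplexKer.X₁ := (IsProjective.iff_projective _).mp hK
  exact (hS.hasProjectiveDimensionLT_X₃_iff 0 h2).mpr inferInstance

/-- splitting off a submodule with projective quotient -/
theorem exists_splitting (N : Submodule R M) [Module.Projective R (M ⧸ N)] :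
    ∃ (ρ : M →ₗ[R] N) (e : M ≃ₗ[R] (M ⧸ N) × N), (∀ y : N, ρ y = y) ∧ ∀ y, (e y).2 = ρ y := by
  obtain ⟨σ, hσ⟩ := Module.projective_lifting_property N.mkQ LinearMap.id N.mkQ_surjective
  have hσ' : ∀ q, N.mkQ (σ q) = q := fun q => LinearMap.congr_fun hσ q
  let ρ : M →ₗ[R] N := LinearMap.codRestrict N (LinearMap.id - σ ∘ₗ N.mkQ) (by
    intro y
    rw [← Submodule.Quotient.mk_eq_zero, ← Submodule.mkQ_apply]
    simp only [LinearMap.sub_apply, LinearMap.id_apply, LinearMap.comp_apply, map_sub, hσ',
      sub_self])
  have hρ_apply : ∀ y, ((ρ y : N) : M) = y - σ (N.mkQ y) := fun y => rfl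
  have hρ : ∀ y : N, ρ y = y := by
    intro y
    apply Subtype.ext
    rw [hρ_apply]
    have : N.mkQ (y : M) = 0 := by
      rw [Submodule.mkQ_apply, Submodule.Quotient.mk_eq_zero]
      exact y.2
    rw [this, map_zero, sub_zero]
  let e : M ≃ₗ[R] (M ⧸ N) × N :=
    { toFun := fun y => (N.mkQ y, ρ y)
      map_add' := by
        intro a b
        simp
      map_smul' := by
        intro c a
        simp
      invFun := fun p => σ p.1 + (p.2 : M)
      left_inv := by
        intro y
        show σ (N.mkQ y) + ((ρ y : N) : M) = y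
        rw [hρ_apply]
        abel
      right_inv := by
        rintro ⟨q, y⟩
        have h1 : N.mkQ (σ q + (y : M)) = q := by
          rw [map_add, hσ', Submodule.mkQ_apply, (Submodule.Quotient.mk_eq_zero N).mpr y.2,
            add_zero]
        apply Prod.ext
        · exact h1
        · apply Subtype.ext
          show ((ρ (σ q + (y : M)) : N) : M) = y
          rw [hρ_apply, h1]
          abel }
  exact ⟨ρ, e, hρ, fun y => rfl⟩

/-- a retract of a module with `pd < n` has `pd < n` -/
theorem pd_of_retract (N : Submodule R M) (ρ : M →ₗ[R] N) (hρ : ∀ y : N, ρ y = y) (n : ℕ)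
    [HasProjectiveDimensionLT (ModuleCat.of R M) n] :
    HasProjectiveDimensionLT (ModuleCat.of R N) n := by
  let h : Retract (ModuleCat.of R N) (ModuleCat.of R M) :=
    { i := ModuleCat.ofHom N.subtype
      r := ModuleCat.ofHom ρ
      retract := by
        ext y
        exact congrArg Subtype.val (hρ y) }
  exact h.hasProjectiveDimensionLT n

end General

section Main

variable {R : Type u} [CommRing R] (M : Type u) [AddCommGroup M] [Module R M]

lemma minors_succ_eq_bot [Module.Finite R M] {n : ℕ} (x : Fin n → M)
    (hx : Submodule.span R (Set.range x) = ⊤) (k : ℕ)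
    (hk : k = 0 ∨ Fitt.ideal R M (k - 1) = ⊥) : minors (R := R) x (n - k + 1) = ⊥ := by
  rcases Nat.eq_zero_or_pos k with h0 | hpos
  · subst h0
    rw [Nat.sub_zero, eq_bot_iff]
    unfold minors
    rw [Ideal.span_le]
    rintro d ⟨z, e, -, rfl⟩
    rw [SetLike.mem_coe, Ideal.mem_bot]
    obtain ⟨a, a', hne, hea⟩ := Fintype.exists_ne_map_eq_of_card_lt e (by simp)
    apply Matrix.det_zero_of_row_eq hne
    funext b
    simp [hea]
  · rcases hk with h0 | hk
    · omega
    · rw [fitt_eq_minors x hx (k - 1)] at hk
      by_cases hkn : k ≤ n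
      · rw [show n - k + 1 = n - (k - 1) by omega]
        exact hk
      · rw [show n - (k - 1) = 0 by omega, minors_zero_eq_top] at hk
        rw [eq_bot_iff]
        intro d _
        have : (1 : R) ∈ (⊥ : Ideal R) := by rw [← hk]; trivial
        rw [Ideal.mem_bot] at this
        rw [Ideal.mem_bot]
        calc d = d * 1 := (mul_one d).symm
          _ = 0 := by rw [this, mul_zero]

theorem main [Module.FinitePresentation R M] (k : ℕ) (f : R) (hf0 : f ∈ nonZeroDivisors R)
    (hf : Fitt.ideal R M k = Ideal.span {f}) (hk : k = 0 ∨ Fitt.ideal R M (k - 1) = ⊥) :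
    HasProjectiveDimensionLT (ModuleCat.of R M) 2 ∧
    (∀ x : M, (∃ n : ℕ, f ^ n • x = 0) ↔ f • x = 0) ∧
    HasProjectiveDimensionLT (ModuleCat.of R ↥(LinearMap.ker (f • (LinearMap.id : M →ₗ[R] M)))) 2 ∧
    (∀ (p : Ideal R) [p.IsPrime], ∃ g : R, g ∉ p ∧
      Module.Free (Localization.Away g)
          (LocalizedModule (Submonoid.powers g) (M ⧸ LinearMap.ker (f • (LinearMap.id : M →ₗ[R] M)))) ∧
        Module.finrank (Localization.Away g)
          (LocalizedModule (Submonoid.powers g) (M ⧸ LinearMap.ker (f • (LinearMap.id : M →ₗ[R] M)))) = k) ∧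
    Nonempty (M ≃ₗ[R] (M ⧸ LinearMap.ker (f • (LinearMap.id : M →ₗ[R] M))) ×
      ↥(LinearMap.ker (f • (LinearMap.id : M →ₗ[R] M)))) := by
  classical
  obtain ⟨n, x, hx⟩ := Module.Finite.exists_fin (R := R) (M := M)
  have H1 : minors (R := R) x (n - k) = Ideal.span {f} := by
    rw [← fitt_eq_minors x hx k, hf]
  have H2 : minors (R := R) x (n - k + 1) = ⊥ := minors_succ_eq_bot M x hx k hk
  have hπ : Function.Surjective (Fintype.linearCombination R x) := by
    rw [← LinearMap.range_eq_top, Fintype.range_linearCombination, hx]
  -- (1)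
  have hpd : HasProjectiveDimensionLT (ModuleCat.of R M) 2 :=
    pd_lt_two_of_projective_ker (Fintype.linearCombination R x) hπ
      (projective_rel (x := x) hf0 H1 H2)
  -- (2)
  have htors : ∀ y : M, (∃ m : ℕ, f ^ m • y = 0) ↔ f • y = 0 := by
    intro y
    constructor
    · rintro ⟨m, hm⟩
      obtain ⟨r, rfl⟩ := hπ y
      have h1 : f ^ m • r ∈ rel (R := R) x := by
        rw [rel, LinearMap.mem_ker, map_smul]
        exact hm
      have h2 := smul_mem_rel (x := x) hf0 H1 H2 r m h1
      rw [rel, LinearMap.mem_ker, map_smul] at h2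
      exact h2
    · intro h
      exact ⟨1, by rw [pow_one]; exact h⟩
  -- identification of the kernel with the power torsion
  have hN : LinearMap.ker (f • (LinearMap.id : M →ₗ[R] M)) = FlatCA.powTorsion R f M := by
    ext y
    rw [LinearMap.mem_ker, LinearMap.smul_apply, LinearMap.id_apply, mem_powTorsion_iff]
    exact (htors y).symm
  -- local freeness of the quotient
  have hloc : LocFree (R := R) (M ⧸ LinearMap.ker (f • (LinearMap.id : M →ₗ[R] M))) k := by
    rw [hN]
    apply locFree_of_fitt
    · intro j hj
      apply fitt_quot_torsion_eq_bot M j f hf0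
      rcases hk with h0 | hk
      · omega
      · rw [eq_bot_iff, ← hk]
        exact fitt_mono (by omega)
    · intro j hj
      rw [eq_top_iff, ← fitt_quot_torsion_eq_top M k f hf]
      exact fitt_mono hj
  have : Module.Projective R (M ⧸ LinearMap.ker (f • (LinearMap.id : M →ₗ[R] M))) :=
    projective_of_locFree _ k hloc
  obtain ⟨ρ, e, hρ, -⟩ := exists_splitting (LinearMap.ker (f • (LinearMap.id : M →ₗ[R] M)))
  exact ⟨hpd, htors, pd_of_retract _ ρ hρ 2, hloc, ⟨e⟩⟩

end Main

end Groth.Agent.Lib.Seat86.FittSplit
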