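import Mathlib
import Groth.Agent.Lib.Helper18Fitt30
import Groth.Agent.Lib.Helper18Fitt20
import Groth.Agent.Lib.Seat86FittSplit2

/-!
# Strata of a Hilbert function: the Fitting-ideal criterion for one graded piece (seat 60)

For a finite module `N` over `A` and an `A`-algebra `B`: `B ⊗ N` is finite projective of constant rank
`k` iff `Fitt_j(N) B = 0` for `j < k` and `Fitt_k(N) B = B`.
-/

set_option autoImplicit false
universe u
open TensorProduct

namespace Groth.Agent.Lib.Seat60.HFStrata

open Groth.Agent.Helper18Fitt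
open Groth.Agent.Lib.Seat86.FittSplit (projective_of_locFree)

theorem rankAtStalk_of_locFree {B : Type u} [CommRing B] (Q : Type u) [AddCommGroup Q]
    [Module B Q] [Module.Finite B Q] (k : ℕ) (h : LocFree (R := B) Q k) (P : PrimeSpectrum B) :
    Module.rankAtStalk Q P = k := by
  have hproj := projective_of_locFree Q k h
  obtain ⟨f, hf, hfree, hrank⟩ := h P.asIdeal
  obtain ⟨P', rfl⟩ : P ∈ Set.range (PrimeSpectrum.comap (algebraMap B (Localization.Away f))) := by
    rw [PrimeSpectrum.localization_away_comap_range _ f]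
    exact hf
  rw [← Module.rankAtStalk_isBaseChange (LocalizedModule.isBaseChange (Submonoid.powers f) Q) P',
    Module.rankAtStalk_eq_finrank_of_free]
  exact hrank

theorem pieces_iff {A : Type u} [CommRing A] (N : Type u) [AddCommGroup N] [Module A N]
    [Module.Finite A N] (k : ℕ) (B : Type u) [CommRing B] [Algebra A B] :
    (Module.Finite B (B ⊗[A] N) ∧ Module.Projective B (B ⊗[A] N) ∧
        ∀ p : PrimeSpectrum B, Module.rankAtStalk (B ⊗[A] N) p = k) ↔
      ((∀ j, j < k → (Fitt.ideal A N j).map (algebraMap A B) = ⊥) ∧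
        (Fitt.ideal A N k).map (algebraMap A B) = ⊤) := by
  constructor
  · rintro ⟨hfin, hproj, hrank⟩
    have hlf := locFree_of_projective (B ⊗[A] N) k hrank
    obtain ⟨h1, h2⟩ := fitt_of_locFree (B ⊗[A] N) k hlf
    refine ⟨fun j hj => ?_, ?_⟩
    · rw [← fitt_baseChange]
      exact h1 j hj
    · rw [← fitt_baseChange]
      exact h2 k le_rfl
  · rintro ⟨h1, h2⟩
    have hfin : Module.Finite B (B ⊗[A] N) := inferInstance
    have hlf : LocFree (R := B) (B ⊗[A] N) k := by
      apply locFree_of_fitt
      · intro j hj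
        rw [fitt_baseChange]
        exact h1 j hj
      · intro j hj
        rw [eq_top_iff, ← h2, ← fitt_baseChange]
        exact fitt_mono hj
    exact ⟨hfin, projective_of_locFree _ k hlf, fun p => rankAtStalk_of_locFree _ k hlf p⟩

end Groth.Agent.Lib.Seat60.HFStrata
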