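import Mathlib
import Groth.Agent.Lib.Seat60HFStrataA
import Groth.Agent.Lib.Helper14NormFlat

/-!
# Strata of a Hilbert function: generic constancy of the Fitting conditions (seat 60)
-/

set_option autoImplicit false
universe u
open TensorProduct

namespace Groth.Agent.Lib.Seat60.HFStrata

open Groth.Agent.Helper18Fitt
open Groth.Agent.Lib.Helper2.GenFree (FreeAway)

/-- `(A ⧸ p) ⊗ M ≃ M ⧸ pM`, linear over `A ⧸ p`. -/
noncomputable def quotEquiv {A : Type u} [CommRing A] (p : Ideal A) (M : Type u) [AddCommGroup M]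
    [Module A M] : ((A ⧸ p) ⊗[A] M) ≃ₗ[A ⧸ p] (M ⧸ (p • ⊤ : Submodule A M)) :=
  { TensorProduct.quotTensorEquivQuotSMul M p with
    map_smul' := by
      intro r x
      obtain ⟨a, rfl⟩ := Ideal.Quotient.mk_surjective r
      have h1 : (Ideal.Quotient.mk p a) • x = a • x := by
        rw [← Ideal.Quotient.algebraMap_eq, algebraMap_smul]
      have h2 : ∀ y : M ⧸ (p • ⊤ : Submodule A M), (Ideal.Quotient.mk p a) • y = a • y := by
        intro y
        rw [← Ideal.Quotient.algebraMap_eq, algebraMap_smul]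
      simp only [AddHom.toFun_eq_coe, LinearMap.coe_toAddHom, LinearEquiv.coe_coe,
        RingHom.id_apply]
      rw [h1, h2, map_smul] }

/-- A finite projective module over a domain has Fitting ideals `⊥` or `⊤`. -/
theorem fitt_eq_bot_or_top_of_projective {D : Type u} [CommRing D] [IsDomain D] (P : Type u)
    [AddCommGroup P] [Module D P] [Module.Finite D P] [Module.Projective D P] (k : ℕ) :
    Fitt.ideal D P k = ⊥ ∨ Fitt.ideal D P k = ⊤ := by
  have hfp : Module.FinitePresentation D P := Module.finitePresentation_of_projective D P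
  obtain ⟨r, hr⟩ : ∃ r, ∀ q : PrimeSpectrum D, Module.rankAtStalk P q = r :=
    ⟨Module.rankAtStalk P (⊥ : PrimeSpectrum D), fun q =>
      (Module.isLocallyConstant_rankAtStalk (R := D) (M := P)).apply_eq_of_preconnectedSpace _ _⟩
  obtain ⟨h1, h2⟩ := fitt_of_locFree P r (locFree_of_projective P r hr)
  by_cases hk : k < r
  · exact Or.inl (h1 k hk)
  · exact Or.inr (h2 k (by omega))

theorem exists_prime_over {A : Type u} [CommRing A] (p q : Ideal A) [p.IsPrime] [hq : q.IsPrime]
    (hpq : p ≤ q) (f : A) (hf : f ∉ q) :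
    ∃ q' : Ideal (Localization.Away (Ideal.Quotient.mk p f)), q'.IsPrime ∧
      q'.comap (algebraMap A (Localization.Away (Ideal.Quotient.mk p f))) = q := by
  have hker : RingHom.ker (Ideal.Quotient.mk p) ≤ q := by
    rw [Ideal.mk_ker]
    exact hpq
  have hqb : (q.map (Ideal.Quotient.mk p)).IsPrime :=
    Ideal.map_isPrime_of_surjective Ideal.Quotient.mk_surjective hker
  have hcomap : (q.map (Ideal.Quotient.mk p)).comap (Ideal.Quotient.mk p) = q := by
    rw [Ideal.comap_map_of_surjective _ Ideal.Quotient.mk_surjective]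
    apply le_antisymm
    · exact sup_le le_rfl (by
        rw [← RingHom.ker_eq_comap_bot]
        exact hker)
    · exact le_sup_left
  have hfb : Ideal.Quotient.mk p f ∉ q.map (Ideal.Quotient.mk p) := by
    intro h
    apply hf
    rw [← hcomap]
    exact h
  have hdisj : Disjoint (Submonoid.powers (Ideal.Quotient.mk p f) : Set (A ⧸ p))
      ↑(q.map (Ideal.Quotient.mk p)) :=
    (Ideal.disjoint_powers_iff_notMem _ hqb.isRadical).mpr hfb
  refine ⟨(q.map (Ideal.Quotient.mk p)).map
    (algebraMap (A ⧸ p) (Localization.Away (Ideal.Quotient.mk p f))),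
    IsLocalization.isPrime_of_isPrime_disjoint _ _ _ hqb hdisj, ?_⟩
  have hunder : ((q.map (Ideal.Quotient.mk p)).map
      (algebraMap (A ⧸ p) (Localization.Away (Ideal.Quotient.mk p f)))).comap
      (algebraMap (A ⧸ p) (Localization.Away (Ideal.Quotient.mk p f))) =
      q.map (Ideal.Quotient.mk p) :=
    IsLocalization.under_map_of_isPrime_disjoint
      (Submonoid.powers (Ideal.Quotient.mk p f)) _ hqb hdisj
  rw [IsScalarTower.algebraMap_eq A (A ⧸ p) (Localization.Away (Ideal.Quotient.mk p f)),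
    ← Ideal.comap_comap, hunder, Ideal.Quotient.algebraMap_eq, hcomap]

theorem generic_fitt_const (A : Type u) [CommRing A] (R : Type u) [CommRing R] [Algebra A R]
    [Algebra.FiniteType A R] (M : Type u) [AddCommGroup M] [Module A M] [Module R M]
    [IsScalarTower A R M] [Module.Finite R M] (ℳ : ℤ → Submodule A M) [DirectSum.Decomposition ℳ]
    (hfg : ∀ v : ℤ, Module.Finite A ↥(ℳ v)) (p : Ideal A) [p.IsPrime] :
    ∃ f : A, f ∉ p ∧ ∀ (v : ℤ) (k : ℕ) (q : Ideal A) [q.IsPrime], p ≤ q → f ∉ q →
      (Fitt.ideal A ↥(ℳ v) k ≤ q ↔ Fitt.ideal A ↥(ℳ v) k ≤ p) := by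
  classical
  obtain ⟨f, hf, hfree⟩ := Groth.Agent.Lib.Helper14.NormFlat.exists_freeAway_quotient p R M
  refine ⟨f, hf, ?_⟩
  have hfb : Ideal.Quotient.mk p f ≠ 0 := fun h => hf (Ideal.Quotient.eq_zero_iff_mem.mp h)
  have hdom : IsDomain (Localization.Away (Ideal.Quotient.mk p f)) :=
    IsLocalization.isDomain_localization (powers_le_nonZeroDivisors_of_noZeroDivisors hfb)
  have hfreeD : Module.Free (Localization.Away (Ideal.Quotient.mk p f))
      (Localization.Away (Ideal.Quotient.mk p f) ⊗[A ⧸ p] (M ⧸ (p • ⊤ : Submodule A M))) :=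
    hfree.free (Localization.Away (Ideal.Quotient.mk p f))
      (TensorProduct.mk (A ⧸ p) (Localization.Away (Ideal.Quotient.mk p f))
        (M ⧸ (p • ⊤ : Submodule A M)) 1)
  have hprojM : Module.Projective (Localization.Away (Ideal.Quotient.mk p f))
      (Localization.Away (Ideal.Quotient.mk p f) ⊗[A] M) := by
    let e1 : Localization.Away (Ideal.Quotient.mk p f) ⊗[A ⧸ p] ((A ⧸ p) ⊗[A] M)
        ≃ₗ[Localization.Away (Ideal.Quotient.mk p f)]
        Localization.Away (Ideal.Quotient.mk p f) ⊗[A] M :=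
      AlgebraTensorModule.cancelBaseChange A (A ⧸ p) (Localization.Away (Ideal.Quotient.mk p f))
        (Localization.Away (Ideal.Quotient.mk p f)) M
    let e2 : Localization.Away (Ideal.Quotient.mk p f) ⊗[A ⧸ p] ((A ⧸ p) ⊗[A] M)
        ≃ₗ[Localization.Away (Ideal.Quotient.mk p f)]
        Localization.Away (Ideal.Quotient.mk p f) ⊗[A ⧸ p] (M ⧸ (p • ⊤ : Submodule A M)) :=
      AlgebraTensorModule.congr (LinearEquiv.refl _ _) (quotEquiv p M)
    exact Module.Projective.of_equiv (e2.symm.trans e1)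
  intro v k q _ hpq hfq
  have hprojv : Module.Projective (Localization.Away (Ideal.Quotient.mk p f))
      (Localization.Away (Ideal.Quotient.mk p f) ⊗[A] ↥(ℳ v)) := by
    let ι : ↥(ℳ v) →ₗ[A] M := (ℳ v).subtype
    let π : M →ₗ[A] ↥(ℳ v) :=
      (DirectSum.component A ℤ (fun i => ↥(ℳ i)) v) ∘ₗ (DirectSum.decomposeLinearEquiv ℳ).toLinearMap
    have hπι : π ∘ₗ ι = LinearMap.id := by
      ext x
      simp only [π, ι, LinearMap.coe_comp, LinearEquiv.coe_coe, Function.comp_apply,
        Submodule.subtype_apply, LinearMap.id_coe, id_eq]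
      rw [DirectSum.decomposeLinearEquiv_apply, DirectSum.decompose_coe]
      rw [← DirectSum.apply_eq_component, DirectSum.of_eq_same]
    exact Module.Projective.of_split
      (LinearMap.baseChange (Localization.Away (Ideal.Quotient.mk p f)) ι)
      (LinearMap.baseChange (Localization.Away (Ideal.Quotient.mk p f)) π)
      (by rw [← LinearMap.baseChange_comp, hπι, LinearMap.baseChange_id])
  have hfin := hfg v
  have hbc := fitt_baseChange (R := A) (R' := Localization.Away (Ideal.Quotient.mk p f))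
    (M := ↥(ℳ v)) k
  obtain ⟨q', hq'prime, hq'⟩ := exists_prime_over p q hpq f hfq
  obtain ⟨p', hp'prime, hp'⟩ := exists_prime_over p p le_rfl f hf
  have hq_iff : Fitt.ideal A ↥(ℳ v) k ≤ q ↔
      (Fitt.ideal A ↥(ℳ v) k).map (algebraMap A (Localization.Away (Ideal.Quotient.mk p f))) ≤ q' := by
    rw [Ideal.map_le_iff_le_comap, hq']
  have hp_iff : Fitt.ideal A ↥(ℳ v) k ≤ p ↔
      (Fitt.ideal A ↥(ℳ v) k).map (algebraMap A (Localization.Away (Ideal.Quotient.mk p f))) ≤ p' := by
    rw [Ideal.map_le_iff_le_comap, hp']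
  rw [hq_iff, hp_iff, ← hbc]
  rcases fitt_eq_bot_or_top_of_projective (D := Localization.Away (Ideal.Quotient.mk p f))
    (Localization.Away (Ideal.Quotient.mk p f) ⊗[A] ↥(ℳ v)) k with h | h
  · rw [h]
    exact ⟨fun _ => bot_le, fun _ => bot_le⟩
  · rw [h]
    constructor
    · intro hle
      exact absurd (top_le_iff.mp hle) hq'prime.ne_top
    · intro hle
      exact absurd (top_le_iff.mp hle) hp'prime.ne_top

end Groth.Agent.Lib.Seat60.HFStrata
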