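import Mathlib
import Groth.Agent.Lib.Seat60HFStrataB

/-!
# Strata of a Hilbert function: Noetherian induction and the representing ideals (seat 60)
-/

set_option autoImplicit false
universe u
open TensorProduct

namespace Groth.Agent.Lib.Seat60.HFStrata

open Groth.Agent.Helper18Fitt

/-- On `V(I)`, the (a priori infinite) intersection of the open sets `D(Fitt_{h v}(ℳ_v))` is the
intersection of finitely many of them. -/
theorem exists_finset_open (A : Type u) [CommRing A] [IsNoetherianRing A] (R : Type u) [CommRing R]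
    [Algebra A R] [Algebra.FiniteType A R] (M : Type u) [AddCommGroup M] [Module A M] [Module R M]
    [IsScalarTower A R M] [Module.Finite R M] (ℳ : ℤ → Submodule A M) [DirectSum.Decomposition ℳ]
    (hfg : ∀ v : ℤ, Module.Finite A ↥(ℳ v)) (h : ℤ → ℕ) (I : Ideal A) :
    ∃ D : Finset ℤ, ∀ (q : Ideal A), q.IsPrime → I ≤ q →
      (∀ v ∈ D, ¬ Fitt.ideal A ↥(ℳ v) (h v) ≤ q) → ∀ v, ¬ Fitt.ideal A ↥(ℳ v) (h v) ≤ q := by
  classical
  refine IsNoetherian.induction (P := fun I : Ideal A => ∃ D : Finset ℤ, ∀ (q : Ideal A),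
      q.IsPrime → I ≤ q →
      (∀ v ∈ D, ¬ Fitt.ideal A ↥(ℳ v) (h v) ≤ q) → ∀ v, ¬ Fitt.ideal A ↥(ℳ v) (h v) ≤ q) ?_ I
  intro (I : Ideal A) ih
  by_cases htop : I = ⊤
  · refine ⟨∅, fun q hq hIq _ => ?_⟩
    exact absurd (top_le_iff.mp (htop ▸ hIq)) hq.ne_top
  by_cases hprime : Ideal.IsPrime I
  · obtain ⟨f, hf, hconst⟩ := generic_fitt_const A R M ℳ hfg I
    have hJ : I < I ⊔ Ideal.span {f} := by
      refine lt_of_le_of_ne le_sup_left ?_
      intro heq
      apply hf
      rw [heq]
      exact Ideal.mem_sup_right (Ideal.mem_span_singleton_self f)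
    obtain ⟨D, hD⟩ := ih _ hJ
    by_cases hex : ∃ v₀, Fitt.ideal A ↥(ℳ v₀) (h v₀) ≤ I
    · obtain ⟨v₀, hv₀⟩ := hex
      refine ⟨insert v₀ D, fun q hq hIq hcond => ?_⟩
      by_cases hfq : f ∈ q
      · apply hD q hq
        · exact sup_le hIq ((Ideal.span_singleton_le_iff_mem _).mpr hfq)
        · intro v hv
          exact hcond v (Finset.mem_insert_of_mem hv)
      · exfalso
        apply hcond v₀ (Finset.mem_insert_self _ _)
        exact (@hconst v₀ (h v₀) q hq hIq hfq).mpr hv₀
    · push Not at hex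
      refine ⟨D, fun q hq hIq hcond => ?_⟩
      by_cases hfq : f ∈ q
      · exact hD q hq (sup_le hIq ((Ideal.span_singleton_le_iff_mem _).mpr hfq)) hcond
      · intro v hv
        exact hex v ((@hconst v (h v) q hq hIq hfq).mp hv)
  · rw [Ideal.isPrime_iff] at hprime
    push Not at hprime
    obtain ⟨x, y, hxy, hx, hy⟩ := hprime htop
    have hJx : I < I ⊔ Ideal.span {x} := by
      refine lt_of_le_of_ne le_sup_left ?_
      intro heq
      apply hx
      rw [heq]
      exact Ideal.mem_sup_right (Ideal.mem_span_singleton_self x)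
    have hJy : I < I ⊔ Ideal.span {y} := by
      refine lt_of_le_of_ne le_sup_left ?_
      intro heq
      apply hy
      rw [heq]
      exact Ideal.mem_sup_right (Ideal.mem_span_singleton_self y)
    obtain ⟨Dx, hDx⟩ := ih _ hJx
    obtain ⟨Dy, hDy⟩ := ih _ hJy
    refine ⟨Dx ∪ Dy, fun q hq hIq hcond => ?_⟩
    rcases hq.mem_or_mem (hIq hxy) with hxq | hyq
    · exact hDx q hq (sup_le hIq ((Ideal.span_singleton_le_iff_mem _).mpr hxq))
        (fun v hv => hcond v (Finset.mem_union_left _ hv))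
    · exact hDy q hq (sup_le hIq ((Ideal.span_singleton_le_iff_mem _).mpr hyq))
        (fun v hv => hcond v (Finset.mem_union_right _ hv))

end Groth.Agent.Lib.Seat60.HFStrata
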