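import Mathlib
import Groth.Agent.Lib.Seat60HFStrataC

/-!
# Strata of a Hilbert function: the representing ideals (seat 60)
-/

set_option autoImplicit false
universe u
open TensorProduct

namespace Groth.Agent.Lib.Seat60.HFStrata

open Groth.Agent.Helper18Fitt

theorem mul_eq_top_iff {B : Type u} [CommRing B] (I J : Ideal B) :
    I * J = ⊤ ↔ I = ⊤ ∧ J = ⊤ := by
  constructor
  · intro h
    exact ⟨top_le_iff.mp (h ▸ Ideal.mul_le_left), top_le_iff.mp (h ▸ Ideal.mul_le_right)⟩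
  · rintro ⟨rfl, rfl⟩
    exact Ideal.top_mul _

theorem map_prod_eq_top_iff {A B : Type u} [CommRing A] [CommRing B] (φ : A →+* B)
    (D : Finset ℤ) (F : ℤ → Ideal A) :
    Ideal.map φ (∏ v ∈ D, F v) = ⊤ ↔ ∀ v ∈ D, (F v).map φ = ⊤ := by
  classical
  induction D using Finset.induction_on with
  | empty => simp [Ideal.one_eq_top, Ideal.map_top]
  | insert v D hv ih =>
    rw [Finset.prod_insert hv, Ideal.map_mul, mul_eq_top_iff, ih]
    simp

theorem main (A : Type u) [CommRing A] [IsNoetherianRing A]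
    (R : Type u) [CommRing R] [Algebra A R] [Algebra.FiniteType A R]
    (M : Type u) [AddCommGroup M] [Module A M] [Module R M] [IsScalarTower A R M] [Module.Finite R M]
    (ℳ : ℤ → Submodule A M) [DirectSum.Decomposition ℳ]
    (hfg : ∀ v : ℤ, Module.Finite A ↥(ℳ v)) (h : ℤ → ℕ) :
    ∃ a b : Ideal A, ∀ (B : Type u) [CommRing B] [Algebra A B],
      ((∀ v : ℤ, Module.Finite B (B ⊗[A] ↥(ℳ v)) ∧ Module.Projective B (B ⊗[A] ↥(ℳ v)) ∧
          ∀ p : PrimeSpectrum B, Module.rankAtStalk (B ⊗[A] ↥(ℳ v)) p = h v) ↔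
        (Ideal.map (algebraMap A B) a = ⊥ ∧ Ideal.map (algebraMap A B) b = ⊤)) := by
  classical
  obtain ⟨D, hD⟩ := exists_finset_open A R M ℳ hfg h ⊥
  refine ⟨⨆ v : ℤ, ⨆ j : Fin (h v), Fitt.ideal A ↥(ℳ v) j,
    ∏ v ∈ D, Fitt.ideal A ↥(ℳ v) (h v), ?_⟩
  intro B _ _
  have hpieces : ∀ v : ℤ, (Module.Finite B (B ⊗[A] ↥(ℳ v)) ∧ Module.Projective B (B ⊗[A] ↥(ℳ v)) ∧
        ∀ p : PrimeSpectrum B, Module.rankAtStalk (B ⊗[A] ↥(ℳ v)) p = h v) ↔
      ((∀ j, j < h v → (Fitt.ideal A ↥(ℳ v) j).map (algebraMap A B) = ⊥) ∧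
        (Fitt.ideal A ↥(ℳ v) (h v)).map (algebraMap A B) = ⊤) := fun v =>
    haveI := hfg v
    pieces_iff (A := A) ↥(ℳ v) (h v) B
  have ha : Ideal.map (algebraMap A B) (⨆ v : ℤ, ⨆ j : Fin (h v), Fitt.ideal A ↥(ℳ v) j) = ⊥ ↔
      ∀ v j, j < h v → (Fitt.ideal A ↥(ℳ v) j).map (algebraMap A B) = ⊥ := by
    rw [Ideal.map_iSup, iSup_eq_bot]
    constructor
    · intro H v j hj
      have := H v
      rw [Ideal.map_iSup, iSup_eq_bot] at this
      exact this ⟨j, hj⟩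
    · intro H v
      rw [Ideal.map_iSup, iSup_eq_bot]
      intro j
      exact H v j j.2
  rw [ha, map_prod_eq_top_iff]
  constructor
  · intro H
    exact ⟨fun v j hj => ((hpieces v).mp (H v)).1 j hj, fun v _ => ((hpieces v).mp (H v)).2⟩
  · rintro ⟨H1, H2⟩ v
    rw [hpieces v]
    refine ⟨H1 v, ?_⟩
    by_contra hne
    obtain ⟨Q, hQmax, hQ⟩ := Ideal.exists_le_maximal _ hne
    have hQprime : Q.IsPrime := hQmax.isPrime
    have hq : (Q.comap (algebraMap A B)).IsPrime := Ideal.comap_isPrime _ _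
    refine hD (Q.comap (algebraMap A B)) hq bot_le ?_ v (Ideal.map_le_iff_le_comap.mp hQ)
    intro v' hv' hle
    have := Ideal.map_le_iff_le_comap.mpr hle
    rw [H2 v' hv'] at this
    exact hQprime.ne_top (top_le_iff.mp this)

end Groth.Agent.Lib.Seat60.HFStrata
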