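import Mathlib
import Groth.Prelude.Def_W4c1hilbpnTgt
import Groth.Agent.Lib.Helper24TgtPiece2

/-! Seat60: basic vanishing results for the multigraded pieces of `T(I) = Hom_S(I, S/I)` of a monomial
ideal: pieces of nonnegative multidegree vanish, pieces of all-negative multidegree vanish. -/

set_option autoImplicit false
set_option linter.style.haveILetI false
set_option linter.unusedSectionVars false
set_option linter.unusedVariables false
universe u

namespace Groth.Agent.Lib.Seat60.TgtBasic

open W4c1hilbpn MvPolynomial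
open Groth.Agent.Lib.Helper24TgtPiece

variable {σ : Type*} {k : Type*} [Field k] [Fintype σ]

/-- for a monomial ideal of finite colength, a pure power of each variable lies in the ideal -/
lemma exists_single_mem_exps {I : Ideal (MvPolynomial σ k)} (hI : IsMonomial I)
    [Module.Finite k (MvPolynomial σ k ⧸ I)] (i : σ) :
    ∃ N : ℕ, Finsupp.single i N ∈ exps I := by
  classical
  haveI := Groth.Agent.Lib.Helper20.finite_compl_exps I hI
  by_contra hcon
  push Not at hcon
  have : Function.Injective (fun N : ℕ => (⟨Finsupp.single i N, hcon N⟩ : {β : σ →₀ ℕ // β ∉ exps I})) := by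
    intro a b h
    have h1 := congrArg (fun x => x.1 i) h
    simpa using h1
  haveI := Finite.of_injective _ this
  exact not_finite ℕ

/-- the exponent vector of nonnegative parts of `α` -/
noncomputable def posPart (α : σ → ℤ) : σ →₀ ℕ :=
  Finsupp.equivFunOnFinite.symm fun i => (α i).toNat

lemma shift_eq_add_posPart (β : σ →₀ ℕ) (α : σ → ℤ) (h : ∀ i, 0 ≤ α i) :
    shift β α = β + posPart α := by
  ext i
  simp only [shift_apply, Finsupp.add_apply, posPart, Finsupp.equivFunOnFinite_symm_apply_apply]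
  have := h i
  omega

/-- graded pieces of nonnegative multidegree vanish -/
theorem tPiece_eq_bot_of_nonneg {I : Ideal (MvPolynomial σ k)} (hI : IsMonomial I)
    (α : σ → ℤ) (h : ∀ i, 0 ≤ α i) : tPiece I α = ⊥ := by
  rw [eq_bot_iff]
  intro φ hφ
  rw [Submodule.mem_bot]
  apply ext_monomial hI
  intro β hβ
  rw [LinearMap.zero_apply]
  have h1 := (hφ β hβ).1 (fun i => by have := h i; positivity)
  have h2 : Ideal.Quotient.mk I (monomial (shift β α) (1 : k)) = 0 := by
    rw [mk_monomial_eq_zero, shift_eq_add_posPart β α h]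
    exact exps_add hβ _
  rw [h2] at h1
  simpa using h1

variable {I : Ideal (MvPolynomial σ k)} {α : σ → ℤ}

lemma pt_add_single_same (α : σ → ℤ) (β : σ →₀ ℕ) (i : σ) (t : ℕ) :
    pt α (β + Finsupp.single i t) i = pt α β i + (t : ℤ) := by
  simp only [pt, Finsupp.add_apply, Finsupp.single_eq_same, Nat.cast_add]
  ring

lemma pt_add_single_ne (α : σ → ℤ) (β : σ →₀ ℕ) {i l : σ} (h : l ≠ i) (t : ℕ) :
    pt α (β + Finsupp.single i t) l = pt α β l := by
  classical
  simp only [pt, Finsupp.add_apply, Finsupp.single_apply, if_neg (Ne.symm h), add_zero]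

/-- walking along a coordinate direction inside the region -/
lemma reachable_add_single {β : σ →₀ ℕ} (i : σ) (t : ℕ)
    (hmem : ∀ s ≤ t, pt α (β + Finsupp.single i s) ∈ region I α) :
    (RG I α).Reachable ⟨pt α (β + Finsupp.single i 0), hmem 0 (Nat.zero_le _)⟩
      ⟨pt α (β + Finsupp.single i t), hmem t le_rfl⟩ := by
  induction t with
  | zero => exact SimpleGraph.Reachable.refl _
  | succ t ih =>
    refine (ih (fun s hs => hmem s (Nat.le_succ_of_le hs))).trans (SimpleGraph.Adj.reachable ?_)
    rw [SimpleGraph.induce_adj]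
    have e : β + Finsupp.single i (t+1) = β + Finsupp.single i t + Finsupp.single i 1 := by
      rw [add_assoc, ← Finsupp.single_add]
    show (stepGraph σ).Adj (pt α (β + Finsupp.single i t)) (pt α (β + Finsupp.single i (t+1)))
    rw [e]
    exact adj_step α _ i

/-- From a nonnegative point of the region one can walk in direction `i` (staying in the region) to
a point whose successor in direction `i` is an exponent of `I`. -/
lemma exists_walk_to_boundary (hI : IsMonomial I) [Module.Finite k (MvPolynomial σ k ⧸ I)]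
    {β : σ →₀ ℕ} (hβ : β ∈ exps I) (hr : pt α β ∈ region I α) (hnn : ∀ l, 0 ≤ pt α β l) (i : σ) :
    ∃ (t : ℕ) (hr' : pt α (β + Finsupp.single i t) ∈ region I α),
      (RG I α).Reachable ⟨pt α β, hr⟩ ⟨pt α (β + Finsupp.single i t), hr'⟩ ∧
      shift β α + Finsupp.single i (t + 1) ∈ exps I := by
  classical
  obtain ⟨N, hN⟩ := exists_single_mem_exps hI i
  have hex : ∃ s : ℕ, shift β α + Finsupp.single i s ∈ exps I :=
    ⟨N, by rw [add_comm]; exact exps_add hN _⟩
  have hnot0 : shift β α ∉ exps I := fun h => (mem_region_pt hβ).mp hr ⟨hnn, h⟩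
  have hpos : 0 < Nat.find hex := by
    rw [Nat.pos_iff_ne_zero]
    intro h0
    have := Nat.find_spec hex
    rw [h0] at this
    simp only [Finsupp.single_zero, add_zero] at this
    exact hnot0 this
  obtain ⟨t, ht⟩ : ∃ t, Nat.find hex = t + 1 := ⟨Nat.find hex - 1, by omega⟩
  have hmem : ∀ s ≤ t, pt α (β + Finsupp.single i s) ∈ region I α := by
    intro s hs
    rw [mem_region_pt (exps_add hβ _)]
    rintro ⟨_, h2⟩
    rw [shift_add_of_nonneg α _ hnn] at h2
    exact Nat.find_min hex (by omega) h2
  have h0 : (⟨pt α β, hr⟩ : ↥(region I α)) =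
      ⟨pt α (β + Finsupp.single i 0), hmem 0 (Nat.zero_le _)⟩ := by
    apply Subtype.ext
    simp
  refine ⟨t, hmem t le_rfl, ?_, ?_⟩
  · rw [h0]
    exact reachable_add_single i t hmem
  · rw [← ht]
    exact Nat.find_spec hex

/-- one step down in direction `j` (after walking in direction `i`), when all entries of `α`
are negative -/
lemma step_down_of_allneg (hI : IsMonomial I) [Module.Finite k (MvPolynomial σ k ⧸ I)]
    (hα : ∀ l, α l < 0) {i j : σ} (hij : i ≠ j)
    {β : σ →₀ ℕ} (hβ : β ∈ exps I) (hr : pt α β ∈ region I α) (hnn : ∀ l, 0 ≤ pt α β l) :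
    ∃ (β2 : σ →₀ ℕ) (hβ2 : β2 ∈ exps I) (hr2 : pt α β2 ∈ region I α),
      (RG I α).Reachable ⟨pt α β, hr⟩ ⟨pt α β2, hr2⟩ ∧ pt α β2 j = pt α β j - 1 ∧
      ∀ l, l ≠ j → 0 ≤ pt α β2 l := by
  classical
  obtain ⟨t, hr1, hreach, hbd⟩ := exists_walk_to_boundary hI hβ hr hnn i
  set β1 := β + Finsupp.single i t with hβ1
  have hβ1U : β1 ∈ exps I := exps_add hβ _
  have hnn1 : ∀ l, 0 ≤ pt α β1 l := by
    intro l
    by_cases hl : l = i
    · subst hl; rw [pt_add_single_same]; have := hnn l; positivity
    · rw [pt_add_single_ne α β hl]; exact hnn l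
  have hj1 : pt α β1 j = pt α β j := pt_add_single_ne α β (Ne.symm hij) t
  -- the point below
  set β2 := β1 - Finsupp.single j 1 with hβ2
  have hβ1j : 1 ≤ β1 j := by
    have h1 := hnn1 j
    have h2 := hα j
    simp only [pt] at h1
    omega
  have hβ21 : β2 + Finsupp.single j 1 = β1 := by
    ext l
    by_cases hl : l = j
    · subst hl
      simp only [hβ2, Finsupp.add_apply, Finsupp.tsub_apply, Finsupp.single_eq_same]
      omega
    · simp [hβ2, Finsupp.single_apply, Ne.symm hl]
  have hle : shift β α + Finsupp.single i (t + 1) ≤ β2 := by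
    intro l
    have hαl := hα l
    have hnnl := hnn l
    simp only [pt] at hnnl
    by_cases hl : l = j
    · subst hl
      simp only [hβ2, hβ1, Finsupp.add_apply, Finsupp.tsub_apply, Finsupp.single_eq_same,
        Finsupp.single_apply, if_neg hij, shift_apply, add_zero]
      omega
    · by_cases hli : l = i
      · subst hli
        simp only [hβ2, hβ1, Finsupp.add_apply, Finsupp.tsub_apply, Finsupp.single_eq_same,
          Finsupp.single_apply, if_neg (Ne.symm hl), shift_apply, tsub_zero]
        omega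
      · simp only [hβ2, hβ1, Finsupp.add_apply, Finsupp.tsub_apply,
          Finsupp.single_apply, if_neg (Ne.symm hl), if_neg (Ne.symm hli), shift_apply, tsub_zero,
          add_zero]
        omega
  have hβ2U : β2 ∈ exps I := by
    have : β2 = (shift β α + Finsupp.single i (t + 1)) + (β2 - (shift β α + Finsupp.single i (t + 1))) :=
      (add_tsub_cancel_of_le hle).symm
    rw [this]
    exact exps_add hbd _
  have hr2 : pt α β2 ∈ region I α := by
    rw [mem_region_pt hβ2U]
    rintro ⟨h1, h2⟩
    apply (mem_region_pt hβ1U).mp hr1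
    refine ⟨hnn1, ?_⟩
    rw [← hβ21, shift_add_of_nonneg α _ h1]
    exact exps_add h2 _
  refine ⟨β2, hβ2U, hr2, hreach.trans (SimpleGraph.Adj.reachable ?_).symm, ?_, ?_⟩
  · rw [SimpleGraph.induce_adj]
    show (stepGraph σ).Adj (pt α β2) (pt α β1)
    rw [← hβ21]
    exact adj_step α _ j
  · have := pt_add_single_same α β2 j 1
    rw [hβ21, hj1] at this
    push_cast at this
    omega
  · intro l hl
    have := pt_add_single_ne α β2 hl 1
    rw [hβ21] at this
    rw [← this]
    exact hnn1 l

/-- if all entries of `α` are negative, every point of the region is connected to a point with a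
negative coordinate -/
lemma reachable_neg_of_allneg (hI : IsMonomial I) [Module.Finite k (MvPolynomial σ k ⧸ I)]
    [Nontrivial σ] (hα : ∀ l, α l < 0) (v : ↥(region I α)) :
    ∃ w : ↥(region I α), (∃ l, w.1 l < 0) ∧ (RG I α).Reachable v w := by
  classical
  obtain ⟨j⟩ : Nonempty σ := inferInstance
  obtain ⟨i, hij⟩ := exists_ne j
  have key : ∀ (m : ℕ) (β : σ →₀ ℕ) (hβ : β ∈ exps I) (hr : pt α β ∈ region I α),
      (∀ l, 0 ≤ pt α β l) → pt α β j = (m : ℤ) →
      ∃ w : ↥(region I α), (∃ l, w.1 l < 0) ∧ (RG I α).Reachable ⟨pt α β, hr⟩ w := by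
    intro m
    induction m with
    | zero =>
      intro β hβ hr hnn hj
      obtain ⟨β2, hβ2, hr2, hreach, hj2, _⟩ := step_down_of_allneg hI hα hij hβ hr hnn
      refine ⟨⟨pt α β2, hr2⟩, ⟨j, ?_⟩, hreach⟩
      show pt α β2 j < 0
      rw [hj2, hj]; norm_num
    | succ m ih =>
      intro β hβ hr hnn hj
      obtain ⟨β2, hβ2, hr2, hreach, hj2, hnn2⟩ := step_down_of_allneg hI hα hij hβ hr hnn
      have hj2' : pt α β2 j = (m : ℤ) := by rw [hj2, hj]; push_cast; ring
      have hnn2' : ∀ l, 0 ≤ pt α β2 l := by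
        intro l
        by_cases hl : l = j
        · subst hl; rw [hj2']; positivity
        · exact hnn2 l hl
      obtain ⟨w, hw, hreach2⟩ := ih β2 hβ2 hr2 hnn2' hj2'
      exact ⟨w, hw, hreach.trans hreach2⟩
  obtain ⟨⟨β, hβ, hvβ⟩, hn⟩ := v.2
  by_cases hneg : ∃ l, v.1 l < 0
  · exact ⟨v, hneg, SimpleGraph.Reachable.refl _⟩
  · push Not at hneg
    have hvβ' : v.1 = pt α β := hvβ
    have hr : pt α β ∈ region I α := hvβ' ▸ v.2
    have hv : v = ⟨pt α β, hr⟩ := Subtype.ext hvβ'
    have hnn : ∀ l, 0 ≤ pt α β l := fun l => by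
      have := hneg l
      rw [hvβ'] at this
      exact this
    obtain ⟨w, hw, hreach⟩ := key (pt α β j).toNat β hβ hr hnn
      (Int.toNat_of_nonneg (hnn j)).symm
    exact ⟨w, hw, hv ▸ hreach⟩

/-- A graded piece vanishes as soon as every point of the region is connected to a point with a
negative coordinate. -/
theorem tPiece_eq_bot_of_forall_reachable_neg (hI : IsMonomial I)
    (h : ∀ v : ↥(region I α), ∃ w : ↥(region I α), (∃ l, w.1 l < 0) ∧ (RG I α).Reachable v w) :
    tPiece I α = ⊥ := by
  rw [eq_bot_iff]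
  intro φ hφ
  rw [Submodule.mem_bot]
  obtain ⟨F, hF, hFe⟩ := exists_good_of_mem hφ
  apply ext_monomial hI
  intro β hβ
  rw [LinearMap.zero_apply, hFe]
  unfold gF
  by_cases hr : pt α β ∈ region I α
  · obtain ⟨w, hw, hreach⟩ := h ⟨pt α β, hr⟩
    have h1 : F (pt α β) = F w.1 := good_reachable hF hreach
    rw [h1, hF.neg _ w.2 hw, zero_smul]
  · rw [mem_region_pt hβ, not_not] at hr
    rw [mk_monomial_eq_zero.mpr hr.2, smul_zero]

theorem tPiece_eq_bot_of_neg (hI : IsMonomial I) [Module.Finite k (MvPolynomial σ k ⧸ I)]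
    [Nontrivial σ] (hα : ∀ l, α l < 0) : tPiece I α = ⊥ :=
  tPiece_eq_bot_of_forall_reachable_neg hI (reachable_neg_of_allneg hI hα)

end Groth.Agent.Lib.Seat60.TgtBasic
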