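import Mathlib
import Groth.Prelude.Def_W4c1hilbpnTgt
import Groth.Agent.Lib.Seat60TgtBasic

/-! Seat60: coefficient functionals on the quotient by a monomial ideal, independence of the multigraded
pieces of `T(I) = Hom_S(I, S/I)`, finite dimensionality of `T(I)` and the dimension of a supremum of
independent subspaces. -/

set_option autoImplicit false
set_option linter.style.haveILetI false
set_option linter.unusedSectionVars false
set_option linter.unusedVariables false
universe u

namespace Groth.Agent.Lib.Seat60.TgtIndep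

open W4c1hilbpn MvPolynomial
open Groth.Agent.Lib.Helper24TgtPiece
open Groth.Agent.Lib.Seat60.TgtBasic

variable {σ : Type*} {k : Type*} [Field k]

section coeffQ

variable (I : Ideal (MvPolynomial σ k))

lemma coeff_eq_zero_of_mem (hI : IsMonomial I) {γ : σ →₀ ℕ} (hγ : γ ∉ exps I)
    {p : MvPolynomial σ k} (hp : p ∈ I) : coeff γ p = 0 := by
  by_contra hne
  exact hγ (hI p hp γ (mem_support_iff.mpr hne))

open Classical in
/-- the coefficient functional of a standard monomial on the quotient by a monomial ideal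
(zero if `γ` is not standard or `I` is not monomial) -/
noncomputable def coeffQ (γ : σ →₀ ℕ) : (MvPolynomial σ k ⧸ I) →ₗ[k] k :=
  if h : IsMonomial I ∧ γ ∉ exps I then
    ((I.restrictScalars k).liftQ (lcoeff k γ) (fun p hp => by
      rw [LinearMap.mem_ker, lcoeff_apply]
      exact coeff_eq_zero_of_mem I h.1 h.2 hp)).comp
      (Submodule.Quotient.restrictScalarsEquiv k I).symm.toLinearMap
  else 0

variable {I}

lemma coeffQ_mk (hI : IsMonomial I) {γ : σ →₀ ℕ} (hγ : γ ∉ exps I) (p : MvPolynomial σ k) :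
    coeffQ I γ (Ideal.Quotient.mk I p) = coeff γ p := by
  unfold coeffQ
  rw [dif_pos ⟨hI, hγ⟩]
  rfl

lemma coeffQ_mk_monomial_same (hI : IsMonomial I) {γ : σ →₀ ℕ} (hγ : γ ∉ exps I) (a : k) :
    coeffQ I γ (Ideal.Quotient.mk I (monomial γ a)) = a := by
  classical
  rw [coeffQ_mk hI hγ, coeff_monomial, if_pos rfl]

lemma coeffQ_mk_monomial_ne (hI : IsMonomial I) {γ : σ →₀ ℕ} (hγ : γ ∉ exps I) {γ' : σ →₀ ℕ}
    (h : γ' ≠ γ) (a : k) :
    coeffQ I γ (Ideal.Quotient.mk I (monomial γ' a)) = 0 := by
  classical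
  rw [coeffQ_mk hI hγ, coeff_monomial, if_neg h]

end coeffQ

section indep

variable [Fintype σ] {I : Ideal (MvPolynomial σ k)}

/-- value of an element of a graded piece on a monomial -/
lemma tPiece_apply_eq (hI : IsMonomial I) {α : σ → ℤ} {φ : Tgt I} (hφ : φ ∈ tPiece I α)
    (β : σ →₀ ℕ) (hβ : monomial β (1:k) ∈ I) :
    (∃ c : k, (∀ i, 0 ≤ (β i : ℤ) + α i) ∧ shift β α ∉ exps I ∧
      φ ⟨monomial β 1, hβ⟩ = c • Ideal.Quotient.mk I (monomial (shift β α) (1 : k))) ∨
    φ ⟨monomial β 1, hβ⟩ = 0 := by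
  by_cases hnn : ∀ i, 0 ≤ (β i : ℤ) + α i
  · obtain ⟨c, hc⟩ := Submodule.mem_span_singleton.mp ((hφ β hβ).1 hnn)
    by_cases hin : shift β α ∈ exps I
    · right
      rw [← hc, mk_monomial_eq_zero.mpr hin, smul_zero]
    · left
      exact ⟨c, hnn, hin, hc.symm⟩
  · right
    push Not at hnn
    exact (hφ β hβ).2 hnn

lemma shift_injective_of_nonneg (β : σ →₀ ℕ) {α α' : σ → ℤ} (h : ∀ i, 0 ≤ (β i : ℤ) + α i)
    (h' : ∀ i, 0 ≤ (β i : ℤ) + α' i) (he : shift β α = shift β α') : α = α' := by
  funext i
  have := DFunLike.congr_fun he i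
  simp only [shift_apply] at this
  have h1 := h i
  have h2 := h' i
  omega

/-- elements of graded pieces of distinct multidegrees summing to zero all vanish -/
theorem eq_zero_of_sum_eq_zero (hI : IsMonomial I) (s : Finset (σ → ℤ)) (φ : (σ → ℤ) → Tgt I)
    (hφ : ∀ α ∈ s, φ α ∈ tPiece I α) (hsum : ∑ α ∈ s, φ α = 0) : ∀ α ∈ s, φ α = 0 := by
  classical
  intro α0 hα0
  apply ext_monomial hI
  intro β hβ
  rw [LinearMap.zero_apply]
  rcases tPiece_apply_eq hI (hφ α0 hα0) β hβ with ⟨c, hnn, hγ, hc⟩ | h0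
  · have h1 : (∑ α ∈ s, φ α) ⟨monomial β 1, hβ⟩ = 0 := by rw [hsum, LinearMap.zero_apply]
    rw [LinearMap.sum_apply] at h1
    have h2 := congrArg (coeffQ I (shift β α0)) h1
    rw [map_sum, map_zero, Finset.sum_eq_single α0] at h2
    · rw [hc, map_smul, coeffQ_mk_monomial_same hI hγ, smul_eq_mul, mul_one] at h2
      rw [hc, h2, zero_smul]
    · intro α hα hne
      rcases tPiece_apply_eq hI (hφ α hα) β hβ with ⟨c', hnn', hγ', hc'⟩ | h0'
      · rw [hc', map_smul, coeffQ_mk_monomial_ne hI hγ, smul_zero]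
        intro he
        exact hne (shift_injective_of_nonneg β hnn' hnn he)
      · rw [h0', map_zero]
    · intro h; exact absurd hα0 h
  · exact h0

theorem iSupIndep_tPiece (hI : IsMonomial I) : iSupIndep (fun α : σ → ℤ => tPiece I α) :=
  (iSupIndep_iff_finsetSum_eq_zero_imp_eq_zero _).mpr
    (fun s v hv hsum => eq_zero_of_sum_eq_zero hI s v hv hsum)

end indep

section findim

variable [Finite σ] (I : Ideal (MvPolynomial σ k))

/-- the tangent space module is finite dimensional when the colength is finite -/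
theorem finite_Tgt [Module.Finite k (MvPolynomial σ k ⧸ I)] : Module.Finite k (Tgt I) := by
  classical
  haveI : IsNoetherianRing (MvPolynomial σ k) := inferInstance
  haveI : Module.Finite (MvPolynomial σ k) ↥I := Module.IsNoetherian.finite _ _
  obtain ⟨s, hs⟩ := (Module.finite_def.mp (inferInstance : Module.Finite (MvPolynomial σ k) ↥I))
  let ev : Tgt I →ₗ[k] (s → (MvPolynomial σ k ⧸ I)) :=
    { toFun := fun φ g => φ g.1
      map_add' := fun φ ψ => by ext g; simp
      map_smul' := fun c φ => by ext g; simp }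
  have hinj : Function.Injective ev := by
    intro φ ψ h
    apply LinearMap.ext_on hs
    intro g hg
    exact congrFun h ⟨g, hg⟩
  exact Module.Finite.of_injective ev hinj

end findim

section sup

variable {V : Type*} [AddCommGroup V] [Module k V] [FiniteDimensional k V] {ι : Type*}

lemma finrank_biSup_of_indep (p : ι → Submodule k V) (hind : iSupIndep p) (s : Finset ι) :
    Module.finrank k ↥(⨆ i ∈ s, p i) = ∑ i ∈ s, Module.finrank k ↥(p i) := by
  classical
  induction s using Finset.induction_on with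
  | empty => simp
  | insert a s ha ih =>
    rw [Finset.sum_insert ha, ← ih, Finset.iSup_insert]
    have hdisj : Disjoint (p a) (⨆ i ∈ s, p i) := hind.disjoint_biSup ha
    have := Submodule.finrank_sup_add_finrank_inf_eq (p a) (⨆ i ∈ s, p i)
    rw [hdisj.eq_bot, finrank_bot, add_zero] at this
    exact this

lemma finrank_iSup_of_indep (p : ι → Submodule k V) (hind : iSupIndep p) (s : Finset ι)
    (hs : ∀ i, i ∉ s → p i = ⊥) :
    Module.finrank k ↥(⨆ i, p i) = ∑ i ∈ s, Module.finrank k ↥(p i) := by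
  have he : (⨆ i, p i) = ⨆ i ∈ s, p i := by
    apply le_antisymm
    · apply iSup_le
      intro i
      by_cases hi : i ∈ s
      · exact le_biSup p hi
      · rw [hs i hi]; exact bot_le
    · exact iSup₂_le fun i _ => le_iSup p i
  rw [he, finrank_biSup_of_indep p hind s]

end sup


section tsup

variable [Fintype σ] {I : Ideal (MvPolynomial σ k)}

/-- the dimension of a span of graded pieces is the sum of the dimensions of the pieces -/
theorem finrank_iSup_tPiece (hI : IsMonomial I) [Module.Finite k (MvPolynomial σ k ⧸ I)]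
    {ι : Type*} (f : ι → σ → ℤ) (hf : Function.Injective f) (s : Finset ι)
    (hs : ∀ x, x ∉ s → tPiece I (f x) = ⊥) :
    Module.finrank k ↥(⨆ x, tPiece I (f x)) = ∑ x ∈ s, Module.finrank k ↥(tPiece I (f x)) := by
  haveI := finite_Tgt I
  exact finrank_iSup_of_indep (fun x => tPiece I (f x)) ((iSupIndep_tPiece hI).comp hf) s hs

/-- only finitely many graded pieces are nonzero -/
theorem finite_ne_bot (hI : IsMonomial I) [Module.Finite k (MvPolynomial σ k ⧸ I)] :
    {α : σ → ℤ | tPiece I α ≠ ⊥}.Finite := by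
  haveI := finite_Tgt I
  exact WellFoundedGT.finite_ne_bot_of_iSupIndep (iSupIndep_tPiece hI)

end tsup

end Groth.Agent.Lib.Seat60.TgtIndep
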