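import Mathlib
import Groth.Prelude.Def_W4c1hilbpnTgt
import Groth.Agent.Lib.Seat60TgtIndep

/-! Seat60: the tangent space `T(I) = Hom_S(I, S/I)` of a monomial ideal of finite colength is the
(internal direct) sum of its multigraded pieces. -/

set_option autoImplicit false
set_option linter.style.haveILetI false
set_option linter.unusedSectionVars false
set_option linter.unusedVariables false
universe u

namespace Groth.Agent.Lib.Seat60.TgtGraded

open W4c1hilbpn MvPolynomial
open Groth.Agent.Lib.Helper24TgtPiece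
open Groth.Agent.Lib.Seat60.TgtBasic
open Groth.Agent.Lib.Seat60.TgtIndep

variable {σ : Type*} {k : Type*} [Field k]

section sep

variable {I : Ideal (MvPolynomial σ k)}

/-- elements of the quotient by a monomial ideal are separated by the coefficient functionals of
standard monomials -/
lemma eq_zero_of_coeffQ_eq_zero (hI : IsMonomial I) (q : MvPolynomial σ k ⧸ I)
    (h : ∀ γ, γ ∉ exps I → coeffQ I γ q = 0) : q = 0 := by
  obtain ⟨p, rfl⟩ := Ideal.Quotient.mk_surjective q
  rw [Ideal.Quotient.eq_zero_iff_mem]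
  rw [← support_sum_monomial_coeff p]
  apply Ideal.sum_mem
  intro γ hγ
  have hγU : γ ∈ exps I := by
    by_contra hcon
    have := h γ hcon
    rw [coeffQ_mk hI hcon] at this
    exact (mem_support_iff.mp hγ) this
  have : monomial γ (coeff γ p) = C (coeff γ p) * monomial γ 1 := by
    rw [C_mul_monomial, mul_one]
  rw [this]
  exact I.mul_mem_left _ hγU

/-- coefficient of `x^(δ + e)` in `x^e · q` -/
lemma coeffQ_monomial_mul (hI : IsMonomial I) (δ e : σ →₀ ℕ) (hδe : δ + e ∉ exps I)
    (q : MvPolynomial σ k ⧸ I) :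
    coeffQ I (δ + e) (Ideal.Quotient.mk I (monomial e 1) * q) = coeffQ I δ q := by
  obtain ⟨p, rfl⟩ := Ideal.Quotient.mk_surjective q
  have hδ : δ ∉ exps I := fun h => hδe (exps_add h e)
  rw [← map_mul, coeffQ_mk hI hδe, coeffQ_mk hI hδ, add_comm δ e, coeff_monomial_mul, one_mul]

/-- coefficient of a monomial not divisible by `x^e` in `x^e · q` -/
lemma coeffQ_monomial_mul_of_not_le (hI : IsMonomial I) (γ e : σ →₀ ℕ) (hγ : γ ∉ exps I)
    (hle : ¬ e ≤ γ) (q : MvPolynomial σ k ⧸ I) :
    coeffQ I γ (Ideal.Quotient.mk I (monomial e 1) * q) = 0 := by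
  classical
  obtain ⟨p, rfl⟩ := Ideal.Quotient.mk_surjective q
  rw [← map_mul, coeffQ_mk hI hγ, coeff_monomial_mul', if_neg hle]

end sep

section comp

variable [Fintype σ] {I : Ideal (MvPolynomial σ k)}

open Classical in
/-- value of a tangent vector on a monomial (zero when the monomial is not in the ideal) -/
noncomputable def evalMon (φ : Tgt I) (β : σ →₀ ℕ) : MvPolynomial σ k ⧸ I :=
  if h : monomial β (1:k) ∈ I then φ ⟨monomial β 1, h⟩ else 0

lemma evalMon_of_mem (φ : Tgt I) {β : σ →₀ ℕ} (h : monomial β (1:k) ∈ I) :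
    evalMon φ β = φ ⟨monomial β 1, h⟩ := by
  unfold evalMon
  rw [dif_pos h]

/-- nonnegative truncation of an integer vector -/
noncomputable def natVec (γ : σ → ℤ) : σ →₀ ℕ :=
  Finsupp.equivFunOnFinite.symm fun i => (γ i).toNat

lemma natVec_pt (α : σ → ℤ) (β : σ →₀ ℕ) : natVec (pt α β) = shift β α := rfl

open Classical in
/-- the function on integer vectors describing the component of multidegree `α` of `φ` -/
noncomputable def compF (φ : Tgt I) (α : σ → ℤ) : (σ → ℤ) → k := fun γ =>
  if ∀ i, 0 ≤ γ i then coeffQ I (natVec γ) (evalMon φ (bOf α γ)) else 0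

lemma compF_pt_of_nonneg (φ : Tgt I) (α : σ → ℤ) {β : σ →₀ ℕ} (hβ : monomial β (1:k) ∈ I)
    (hnn : ∀ i, 0 ≤ pt α β i) :
    compF φ α (pt α β) = coeffQ I (shift β α) (φ ⟨monomial β 1, hβ⟩) := by
  unfold compF
  rw [if_pos hnn, bOf_pt, natVec_pt, evalMon_of_mem φ hβ]

lemma compF_of_neg (φ : Tgt I) (α : σ → ℤ) {γ : σ → ℤ} (h : ∃ i, γ i < 0) :
    compF φ α γ = 0 := by
  unfold compF
  rw [if_neg]
  push Not
  exact h

lemma compF_step (hI : IsMonomial I) (φ : Tgt I) (α : σ → ℤ) {β : σ →₀ ℕ} (hβ : β ∈ exps I) (i : σ)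
    (hr : pt α β ∈ region I α) (hr' : pt α (β + Finsupp.single i 1) ∈ region I α) :
    compF φ α (pt α β) = compF φ α (pt α (β + Finsupp.single i 1)) := by
  classical
  have hβ' : β + Finsupp.single i 1 ∈ exps I := exps_add hβ _
  by_cases hnn' : ∀ l, 0 ≤ pt α (β + Finsupp.single i 1) l
  · have hγ' : shift (β + Finsupp.single i 1) α ∉ exps I := fun h =>
      (mem_region_pt hβ').mp hr' ⟨hnn', h⟩
    rw [compF_pt_of_nonneg φ α hβ' hnn', map_monomial_add φ hβ (Finsupp.single i 1) hβ']
    by_cases hnn : ∀ l, 0 ≤ pt α β l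
    · rw [compF_pt_of_nonneg φ α hβ hnn]
      have hs : shift (β + Finsupp.single i 1) α = shift β α + Finsupp.single i 1 :=
        shift_add_of_nonneg α _ hnn
      rw [hs] at hγ' ⊢
      exact (coeffQ_monomial_mul hI _ _ hγ' _).symm
    · push Not at hnn
      rw [compF_of_neg φ α hnn]
      symm
      apply coeffQ_monomial_mul_of_not_le hI _ _ hγ'
      intro hle
      obtain ⟨l, hl⟩ := hnn
      have hli : l = i := by
        by_contra hne
        have := hnn' l
        rw [pt_add_single_ne α β hne] at this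
        omega
      subst hli
      have h1 := hle l
      have h2 := hnn' l
      rw [pt_add_single_same] at h2
      simp only [Finsupp.single_eq_same, shift_apply, Finsupp.add_apply] at h1
      simp only [pt] at hl h2
      push_cast at h1 h2
      omega
  · push Not at hnn'
    rw [compF_of_neg φ α hnn']
    apply compF_of_neg
    obtain ⟨l, hl⟩ := hnn'
    refine ⟨l, lt_of_le_of_lt ?_ hl⟩
    by_cases hli : l = i
    · subst hli; rw [pt_add_single_same]; norm_num
    · rw [pt_add_single_ne α β hli]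

lemma good_compF (hI : IsMonomial I) (φ : Tgt I) (α : σ → ℤ) : Good I α (compF φ α) := by
  constructor
  · rintro γ γ' ⟨⟨β, hβ, rfl⟩, hn⟩ ⟨⟨β', hβ', rfl⟩, hn'⟩ hadj
    have hr : pt α β ∈ region I α := ⟨⟨β, hβ, rfl⟩, hn⟩
    have hr' : pt α β' ∈ region I α := ⟨⟨β', hβ', rfl⟩, hn'⟩
    show compF φ α (pt α β) = compF φ α (pt α β')
    obtain ⟨i, hi | hi⟩ := adj_pt_cases α hadj
    · subst hi
      exact compF_step hI φ α hβ i hr hr'
    · subst hi
      exact (compF_step hI φ α hβ' i hr' hr).symm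
  · intro γ _ hneg
    exact compF_of_neg φ α hneg

/-- the component of multidegree `α` of a tangent vector -/
noncomputable def comp (hI : IsMonomial I) (φ : Tgt I) (α : σ → ℤ) : Tgt I :=
  mkTgt hI (compF φ α) (good_compF hI φ α)

lemma comp_mem (hI : IsMonomial I) (φ : Tgt I) (α : σ → ℤ) : comp hI φ α ∈ tPiece I α :=
  mkTgt_mem hI _ _

lemma comp_apply (hI : IsMonomial I) (φ : Tgt I) (α : σ → ℤ) (β : σ →₀ ℕ)
    (hβ : monomial β (1:k) ∈ I) :
    comp hI φ α ⟨monomial β 1, hβ⟩ =
      compF φ α (pt α β) • Ideal.Quotient.mk I (monomial (shift β α) (1 : k)) :=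
  mkTgt_apply hI _ _ β hβ

/-- every tangent vector is the sum of its homogeneous components -/
theorem eq_sum_comp (hI : IsMonomial I) [Module.Finite k (MvPolynomial σ k ⧸ I)] (φ : Tgt I) :
    φ = ∑ α ∈ (finite_ne_bot hI).toFinset, comp hI φ α := by
  classical
  apply ext_monomial hI
  intro β hβ
  rw [LinearMap.sum_apply, ← sub_eq_zero]
  apply eq_zero_of_coeffQ_eq_zero hI
  intro γ0 hγ0
  rw [map_sub, map_sum, sub_eq_zero]
  -- the only degree that can contribute
  set α0 : σ → ℤ := fun i => (γ0 i : ℤ) - (β i : ℤ) with hα0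
  have hnn0 : ∀ i, 0 ≤ pt α0 β i := by
    intro i
    simp only [pt, hα0]
    have : (0:ℤ) ≤ (γ0 i : ℤ) := Int.natCast_nonneg _
    omega
  have hs0 : shift β α0 = γ0 := by
    ext i
    simp only [shift_apply, hα0]
    omega
  have hterm0 : coeffQ I γ0 (comp hI φ α0 ⟨monomial β 1, hβ⟩) =
      coeffQ I γ0 (φ ⟨monomial β 1, hβ⟩) := by
    rw [comp_apply, map_smul, hs0, coeffQ_mk_monomial_same hI hγ0, smul_eq_mul, mul_one,
      compF_pt_of_nonneg φ α0 hβ hnn0, hs0]
  have hterm : ∀ α, α ≠ α0 → coeffQ I γ0 (comp hI φ α ⟨monomial β 1, hβ⟩) = 0 := by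
    intro α hne
    rw [comp_apply, map_smul]
    by_cases hnn : ∀ i, 0 ≤ pt α β i
    · rw [coeffQ_mk_monomial_ne hI hγ0, smul_zero]
      intro he
      apply hne
      exact shift_injective_of_nonneg β hnn hnn0 (he.trans hs0.symm)
    · push Not at hnn
      rw [compF_of_neg φ α hnn, zero_smul]
  by_cases hmem : α0 ∈ (finite_ne_bot hI).toFinset
  · rw [Finset.sum_eq_single_of_mem α0 hmem (fun α _ hne => hterm α hne), hterm0]
  · rw [Finset.sum_eq_zero (fun α hα => hterm α (fun h => hmem (h ▸ hα)))]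
    rw [Set.Finite.mem_toFinset, Set.mem_ofPred_eq, not_not] at hmem
    have h0 : comp hI φ α0 = 0 := by
      have := comp_mem hI φ α0
      rw [hmem, Submodule.mem_bot] at this
      exact this
    rw [← hterm0, h0, LinearMap.zero_apply, map_zero]

/-- `T(I)` is spanned by its multigraded pieces -/
theorem iSup_tPiece_eq_top (hI : IsMonomial I) [Module.Finite k (MvPolynomial σ k ⧸ I)] :
    (⨆ α : σ → ℤ, tPiece I α) = ⊤ := by
  rw [eq_top_iff]
  intro φ _
  rw [eq_sum_comp hI φ]
  exact Submodule.sum_mem _ (fun α _ => Submodule.mem_iSup_of_mem α (comp_mem hI φ α))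

end comp

end Groth.Agent.Lib.Seat60.TgtGraded
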