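import Mathlib
import Groth.Prelude.Def_W4c1hilbpnTgt
import Groth.Agent.Lib.Seat60TgtGraded

/-! Seat60: the multigraded pieces of `T(I) = Hom_S(I, S/I)` for an arbitrary monomial ideal (finite
colength is not assumed), described on a family of monomial generators: `T(I)_α` is isomorphic to a
space `W` of functions on the generators cut out by vanishing at the inactive generators and
equality along the pairs of generators whose least common multiple is shifted by `α` to a standard
monomial. -/

set_option autoImplicit false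
set_option linter.style.haveILetI false
set_option linter.unusedSectionVars false
set_option linter.unusedVariables false
universe u

namespace Groth.Agent.Lib.Seat60.Hom0

open W4c1hilbpn MvPolynomial
open Groth.Agent.Lib.Helper24TgtPiece
open Groth.Agent.Lib.Seat60.TgtIndep
open Groth.Agent.Lib.Seat60.TgtGraded

variable {σ : Type*} {k : Type*} [Field k]

section span

variable {ι : Type*} (G : ι → σ →₀ ℕ)

/-- the monomial ideal generated by the monomials with exponents `G i` -/
noncomputable def monIdeal (k : Type*) [Field k] : Ideal (MvPolynomial σ k) :=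
  Ideal.span (Set.range fun i => monomial (G i) (1 : k))

lemma monIdeal_eq_image :
    monIdeal G k = Ideal.span ((fun s => monomial s (1 : k)) '' Set.range G) := by
  unfold monIdeal
  rw [← Set.range_comp]
  rfl

lemma mem_exps_monIdeal (β : σ →₀ ℕ) : β ∈ exps (monIdeal G k) ↔ ∃ i, G i ≤ β := by
  classical
  show monomial β (1 : k) ∈ monIdeal G k ↔ _
  rw [monIdeal_eq_image, mem_ideal_span_monomial_image]
  constructor
  · intro h
    have hmem : β ∈ (monomial β (1 : k)).support := by
      rw [support_monomial, if_neg one_ne_zero]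
      exact Finset.mem_singleton_self β
    obtain ⟨s, ⟨i, rfl⟩, hs⟩ := h β hmem
    exact ⟨i, hs⟩
  · rintro ⟨i, hi⟩ x hx
    rw [support_monomial, if_neg one_ne_zero, Finset.mem_singleton] at hx
    subst hx
    exact ⟨G i, ⟨i, rfl⟩, hi⟩

lemma isMonomial_monIdeal : IsMonomial (monIdeal G k) := by
  classical
  intro p hp β hβ
  rw [monIdeal_eq_image, mem_ideal_span_monomial_image] at hp
  obtain ⟨s, ⟨i, rfl⟩, hs⟩ := hp β hβ
  exact (mem_exps_monIdeal G β).mpr ⟨i, hs⟩

end span

section W

variable [Fintype σ] {ι : Type*} (G : ι → σ →₀ ℕ) (I : Ideal (MvPolynomial σ k)) (α : σ → ℤ)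

/-- the generator `G i` is active for `α`: it is shifted by `α` to a standard monomial -/
def Act (i : ι) : Prop := (∀ l, 0 ≤ (G i l : ℤ) + α l) ∧ shift (G i) α ∉ exps I

/-- the generators `G i`, `G j` are linked for `α`: their least common multiple is shifted by `α`
to a standard monomial -/
def Conn (i j : ι) : Prop :=
  (∀ l, 0 ≤ ((G i ⊔ G j) l : ℤ) + α l) ∧ shift (G i ⊔ G j) α ∉ exps I

/-- the space of coefficient functions on the generators -/
def W : Submodule k (ι → k) where
  carrier := {c | (∀ i, ¬ Act G I α i → c i = 0) ∧ ∀ i j, Conn G I α i j → c i = c j}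
  zero_mem' := ⟨fun _ _ => rfl, fun _ _ _ => rfl⟩
  add_mem' := by
    rintro a b ⟨ha1, ha2⟩ ⟨hb1, hb2⟩
    refine ⟨fun i hi => ?_, fun i j hij => ?_⟩
    · show a i + b i = 0
      rw [ha1 i hi, hb1 i hi, add_zero]
    · show a i + b i = a j + b j
      rw [ha2 i j hij, hb2 i j hij]
  smul_mem' := by
    rintro r a ⟨ha1, ha2⟩
    refine ⟨fun i hi => ?_, fun i j hij => ?_⟩
    · show r • a i = 0
      rw [ha1 i hi, smul_zero]
    · show r • a i = r • a j
      rw [ha2 i j hij]

end W

section main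

variable [Fintype σ] {ι : Type*} {G : ι → σ →₀ ℕ} {I : Ideal (MvPolynomial σ k)} {α : σ → ℤ}

lemma compF_add (φ ψ : Tgt I) (α : σ → ℤ) (γ : σ → ℤ) :
    compF (φ + ψ) α γ = compF φ α γ + compF ψ α γ := by
  unfold compF
  split_ifs
  · rw [← map_add]
    congr 1
    unfold evalMon
    split_ifs
    · rfl
    · rw [add_zero]
  · rw [add_zero]

lemma compF_smul (r : k) (φ : Tgt I) (α : σ → ℤ) (γ : σ → ℤ) :
    compF (r • φ) α γ = r * compF φ α γ := by
  unfold compF
  split_ifs
  · rw [← smul_eq_mul, ← map_smul]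
    congr 1
    unfold evalMon
    split_ifs
    · rfl
    · rw [smul_zero]
  · rw [mul_zero]

/-- the coefficient vector of an element of the graded piece -/
noncomputable def coeffs (G : ι → σ →₀ ℕ) (α : σ → ℤ) : Tgt I →ₗ[k] (ι → k) where
  toFun φ := fun i => compF φ α (pt α (G i))
  map_add' φ ψ := by
    funext i
    exact compF_add φ ψ α _
  map_smul' r φ := by
    funext i
    exact compF_smul r φ α _

lemma coeffs_apply (φ : Tgt I) (i : ι) : coeffs G α φ i = compF φ α (pt α (G i)) := rfl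

variable (hI : IsMonomial I) (hG : ∀ β, β ∈ exps I ↔ ∃ i, G i ≤ β)

include hG in
lemma G_mem (i : ι) : G i ∈ exps I := (hG _).mpr ⟨i, le_rfl⟩

lemma pt_sup_eq (β : σ →₀ ℕ) (δ : σ →₀ ℕ) (h : δ ≤ β) : δ + (β - δ) = β := by
  ext l
  have := h l
  simp only [Finsupp.add_apply, Finsupp.tsub_apply]
  omega

include hI hG in
/-- the value of the coefficient function at a monomial of `I` is the coefficient at any
generator dividing it -/
lemma compF_eq_of_le (φ : Tgt I) {β : σ →₀ ℕ} {i : ι} (hle : G i ≤ β)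
    (hr : pt α β ∈ region I α) : compF φ α (pt α (G i)) = compF φ α (pt α β) := by
  have h := path (good_compF hI φ α) (β - G i) (G i) (G_mem hG i)
  rw [pt_sup_eq β (G i) hle] at h
  exact h hr

include hI hG in
lemma coeffs_mem_W (φ : Tgt I) : coeffs G α φ ∈ W G I α := by
  refine ⟨fun i hi => ?_, fun i j hij => ?_⟩
  · rw [coeffs_apply]
    by_cases hnn : ∀ l, 0 ≤ (G i l : ℤ) + α l
    · have hin : shift (G i) α ∈ exps I := by
        by_contra hcon
        exact hi ⟨hnn, hcon⟩
      rw [compF_pt_of_nonneg φ α (G_mem hG i) hnn]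
      unfold coeffQ
      rw [dif_neg (fun h => h.2 hin)]
      rfl
    · push Not at hnn
      exact compF_of_neg φ α hnn
  · rw [coeffs_apply, coeffs_apply]
    have hL : G i ⊔ G j ∈ exps I := (hG _).mpr ⟨i, le_sup_left⟩
    have hr : pt α (G i ⊔ G j) ∈ region I α :=
      (mem_region_pt hL).mpr (fun h => hij.2 h.2)
    rw [compF_eq_of_le hI hG φ le_sup_left hr, compF_eq_of_le hI hG φ le_sup_right hr]

include hI hG in
lemma coeffs_injOn {φ : Tgt I} (hφ : φ ∈ tPiece I α) (h0 : coeffs G α φ = 0) : φ = 0 := by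
  apply ext_monomial hI
  intro β hβ
  rw [LinearMap.zero_apply]
  rcases tPiece_apply_eq hI hφ β hβ with ⟨c, hnn, hout, hc⟩ | h
  · have hβ' : β ∈ exps I := hβ
    obtain ⟨i, hi⟩ := (hG β).mp hβ'
    have hr : pt α β ∈ region I α := (mem_region_pt hβ').mpr (fun h => hout h.2)
    have h1 := compF_eq_of_le hI hG φ hi hr
    have h2 : compF φ α (pt α (G i)) = 0 := congrFun h0 i
    rw [h2, compF_pt_of_nonneg φ α hβ hnn, hc, map_smul, coeffQ_mk_monomial_same hI hout,
      smul_eq_mul, mul_one] at h1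
    rw [hc, ← h1, zero_smul]
  · exact h

end main

section construct

variable [Fintype σ] {ι : Type*} {G : ι → σ →₀ ℕ} {I : Ideal (MvPolynomial σ k)} {α : σ → ℤ}
variable (hI : IsMonomial I) (hG : ∀ β, β ∈ exps I ↔ ∃ i, G i ≤ β)

open Classical in
/-- the function on integer vectors attached to a coefficient function -/
noncomputable def Fc (G : ι → σ →₀ ℕ) (α : σ → ℤ) (c : ι → k) : (σ → ℤ) → k := fun γ =>
  if h : ∃ i, G i ≤ bOf α γ then c (Classical.choose h) else 0

include hG in
lemma Fc_pt {c : ι → k} (hc : c ∈ W G I α) {β : σ →₀ ℕ} {i : ι} (hle : G i ≤ β)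
    (hr : pt α β ∈ region I α) : Fc G α c (pt α β) = c i := by
  unfold Fc
  rw [bOf_pt]
  have hex : ∃ i, G i ≤ β := ⟨i, hle⟩
  rw [dif_pos hex]
  set j := Classical.choose hex with hj
  have hjle : G j ≤ β := Classical.choose_spec hex
  have hβ : β ∈ exps I := (hG β).mpr hex
  have hLle : G j ⊔ G i ≤ β := sup_le hjle hle
  by_cases hnn : ∀ l, 0 ≤ ((G j ⊔ G i) l : ℤ) + α l
  · apply hc.2 j i
    refine ⟨hnn, fun hin => ?_⟩
    -- then `β + α` would be in the ideal
    have hnnβ : ∀ l, 0 ≤ (β l : ℤ) + α l := by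
      intro l
      have h1 := hnn l
      have h2 := hLle l
      have h3 : ((G j ⊔ G i) l : ℤ) ≤ (β l : ℤ) := by exact_mod_cast h2
      omega
    apply (mem_region_pt hβ).mp hr
    refine ⟨hnnβ, ?_⟩
    have e : β = (G j ⊔ G i) + (β - (G j ⊔ G i)) := (pt_sup_eq β _ hLle).symm
    rw [e, shift_add_of_nonneg α _ hnn]
    exact exps_add hin _
  · push Not at hnn
    obtain ⟨l, hl⟩ := hnn
    have h1 : (G j l : ℤ) ≤ ((G j ⊔ G i) l : ℤ) := by
      exact_mod_cast (le_sup_left : G j ≤ G j ⊔ G i) l
    have h2 : (G i l : ℤ) ≤ ((G j ⊔ G i) l : ℤ) := by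
      exact_mod_cast (le_sup_right : G i ≤ G j ⊔ G i) l
    rw [hc.1 j (fun h => absurd (h.1 l) (by omega)), hc.1 i (fun h => absurd (h.1 l) (by omega))]

include hG in
lemma good_Fc {c : ι → k} (hc : c ∈ W G I α) : Good I α (Fc G α c) := by
  constructor
  · rintro γ γ' ⟨⟨β, hβ, rfl⟩, hn⟩ ⟨⟨β', hβ', rfl⟩, hn'⟩ hadj
    have hr : pt α β ∈ region I α := ⟨⟨β, hβ, rfl⟩, hn⟩
    have hr' : pt α β' ∈ region I α := ⟨⟨β', hβ', rfl⟩, hn'⟩
    show Fc G α c (pt α β) = Fc G α c (pt α β')
    obtain ⟨l, hl | hl⟩ := adj_pt_cases α hadj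
    · subst hl
      obtain ⟨i, hi⟩ := (hG β).mp hβ
      rw [Fc_pt hG hc hi hr, Fc_pt hG hc (hi.trans (le_self_add)) hr']
    · subst hl
      obtain ⟨i, hi⟩ := (hG β').mp hβ'
      rw [Fc_pt hG hc hi hr', Fc_pt hG hc (hi.trans (le_self_add)) hr]
  · rintro γ ⟨⟨β, hβ, rfl⟩, hn⟩ ⟨l, hl⟩
    have hr : pt α β ∈ region I α := ⟨⟨β, hβ, rfl⟩, hn⟩
    obtain ⟨i, hi⟩ := (hG β).mp hβ
    show Fc G α c (pt α β) = 0
    rw [Fc_pt hG hc hi hr]
    apply hc.1 i
    intro hact
    have h1 := hact.1 l
    have h2 : (G i l : ℤ) ≤ (β l : ℤ) := by exact_mod_cast hi l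
    have h3 : (β l : ℤ) + α l < 0 := hl
    omega

/-- the element of the graded piece with prescribed coefficients -/
noncomputable def ofW (c : W G I α) : Tgt I := mkTgt hI (Fc G α c.1) (good_Fc hG c.2)

lemma ofW_mem (c : W G I α) : ofW hI hG c ∈ tPiece I α := mkTgt_mem hI _ _

lemma coeffs_ofW (c : W G I α) : coeffs G α (ofW hI hG c) = c.1 := by
  funext i
  rw [coeffs_apply]
  by_cases hact : Act G I α i
  · have hmem : monomial (G i) (1 : k) ∈ I := G_mem hG i
    rw [compF_pt_of_nonneg _ α hmem hact.1]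
    unfold ofW
    rw [mkTgt_apply]
    unfold gF
    have hr : pt α (G i) ∈ region I α := (mem_region_pt (G_mem hG i)).mpr (fun h => hact.2 h.2)
    rw [map_smul, coeffQ_mk_monomial_same hI hact.2, smul_eq_mul, mul_one,
      Fc_pt hG c.2 le_rfl hr]
  · rw [c.2.1 i hact]
    exact (coeffs_mem_W hI hG (ofW hI hG c)).1 i hact

/-- **The graded piece of multidegree `α` is isomorphic to the space of coefficient functions.** -/
noncomputable def equivW : ↥(tPiece I α) ≃ₗ[k] ↥(W G I α) :=
  LinearEquiv.ofBijective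
    ((coeffs G α).restrict (p := tPiece I α) (q := W G I α)
      (fun φ _ => coeffs_mem_W hI hG φ))
    ⟨by
      rw [injective_iff_map_eq_zero]
      intro φ h
      apply Subtype.ext
      apply coeffs_injOn hI hG φ.2
      exact congrArg Subtype.val h,
    by
      intro c
      refine ⟨⟨ofW hI hG c, ofW_mem hI hG c⟩, ?_⟩
      apply Subtype.ext
      exact coeffs_ofW hI hG c⟩

include hI hG in
theorem finrank_tPiece_eq_finrank_W :
    Module.finrank k ↥(tPiece I α) = Module.finrank k ↥(W G I α) :=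
  (equivW hI hG).finrank_eq

include hI hG in
theorem finite_tPiece [Finite ι] : Module.Finite k ↥(tPiece I α) :=
  Module.Finite.equiv (equivW (α := α) hI hG).symm

include hI hG in
theorem tPiece_eq_bot_of_W (h : ∀ c ∈ W G I α, c = 0) : tPiece I α = ⊥ := by
  rw [eq_bot_iff]
  intro φ hφ
  rw [Submodule.mem_bot]
  apply coeffs_injOn hI hG hφ
  exact h _ (coeffs_mem_W hI hG φ)

end construct

section cls

variable [Fintype σ] {ι : Type*} {G : ι → σ →₀ ℕ} {I : Ideal (MvPolynomial σ k)} {α : σ → ℤ}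

/-- the dimension of the space of coefficient functions, from a labelling of the generators by
classes -/
theorem finrank_W_eq_of_cls {d : ℕ} (cls : ι → Option (Fin d))
    (ha : ∀ i, ¬ Act G I α i → cls i = none)
    (hb : ∀ i j, Conn G I α i j → cls i = cls j)
    (hc : ∀ r : Fin d, ∃ i, cls i = some r)
    (hd : ∀ c ∈ W G I α, ∀ i j r, cls i = some r → cls j = some r → c i = c j)
    (he : ∀ c ∈ W G I α, ∀ i, cls i = none → c i = 0) :
    Module.finrank k ↥(W G I α) = d := by
  choose rep hrep using hc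
  let toF : ↥(W G I α) →ₗ[k] (Fin d → k) :=
    { toFun := fun c r => c.1 (rep r)
      map_add' := fun _ _ => rfl
      map_smul' := fun _ _ => rfl }
  have hinj : Function.Injective toF := by
    rw [injective_iff_map_eq_zero]
    intro c hc0
    apply Subtype.ext
    funext i
    show c.1 i = 0
    cases hcls : cls i with
    | none => exact he c.1 c.2 i hcls
    | some r =>
      rw [hd c.1 c.2 i (rep r) r hcls (hrep r)]
      exact congrFun hc0 r
  have hsurj : Function.Surjective toF := by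
    intro t
    refine ⟨⟨fun i => match cls i with | none => 0 | some r => t r, ?_, ?_⟩, ?_⟩
    · intro i hi
      show (match cls i with | none => 0 | some r => t r) = 0
      rw [ha i hi]
    · intro i j hij
      show (match cls i with | none => 0 | some r => t r) =
        (match cls j with | none => 0 | some r => t r)
      rw [hb i j hij]
    · funext r
      show (match cls (rep r) with | none => 0 | some r => t r) = t r
      rw [hrep r]
  have e := LinearEquiv.ofBijective toF ⟨hinj, hsurj⟩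
  rw [e.finrank_eq, Module.finrank_fin_fun]

variable (hG : ∀ β, β ∈ exps I ↔ ∃ i, G i ≤ β)

include hG in
lemma act_iff (i : ι) : Act G I α i ↔ (∀ l, 0 ≤ (G i l : ℤ) + α l) ∧
    ¬ ∃ j, ∀ l, (G j l : ℤ) ≤ (G i l : ℤ) + α l := by
  unfold Act
  constructor
  · rintro ⟨h1, h2⟩
    refine ⟨h1, ?_⟩
    rintro ⟨j, hj⟩
    apply h2
    rw [hG]
    refine ⟨j, fun l => ?_⟩
    have := hj l
    have := h1 l
    rw [shift_apply]
    omega
  · rintro ⟨h1, h2⟩
    refine ⟨h1, ?_⟩
    intro hin
    rw [hG] at hin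
    obtain ⟨j, hj⟩ := hin
    apply h2
    refine ⟨j, fun l => ?_⟩
    have h3 := hj l
    have h4 := h1 l
    rw [shift_apply] at h3
    omega

include hG in
lemma conn_iff (i j : ι) : Conn G I α i j ↔
    (∀ l, 0 ≤ (max (G i l) (G j l) : ℤ) + α l) ∧
    ¬ ∃ j', ∀ l, (G j' l : ℤ) ≤ (max (G i l) (G j l) : ℤ) + α l := by
  unfold Conn
  have hsup : ∀ l, ((G i ⊔ G j) l : ℤ) = max (G i l : ℤ) (G j l : ℤ) := by
    intro l
    rw [Finsupp.sup_apply]
    push_cast
    rfl
  constructor
  · rintro ⟨h1, h2⟩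
    refine ⟨fun l => by rw [← hsup]; exact h1 l, ?_⟩
    rintro ⟨j', hj⟩
    apply h2
    rw [hG]
    refine ⟨j', fun l => ?_⟩
    have := hj l
    have := h1 l
    rw [← hsup] at *
    rw [shift_apply]
    omega
  · rintro ⟨h1, h2⟩
    refine ⟨fun l => by rw [hsup]; exact h1 l, ?_⟩
    intro hin
    rw [hG] at hin
    obtain ⟨j', hj⟩ := hin
    apply h2
    refine ⟨j', fun l => ?_⟩
    have h3 := hj l
    have h4 := h1 l
    rw [shift_apply, hsup] at h3
    omega

end cls

section sum

variable {V : Type*} [AddCommGroup V] [Module k V] {κ : Type*}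

lemma finite_and_finrank_biSup_of_indep (p : κ → Submodule k V) (hind : iSupIndep p)
    (s : Finset κ) (hfin : ∀ i ∈ s, Module.Finite k ↥(p i)) :
    Module.Finite k ↥(⨆ i ∈ s, p i) ∧
      Module.finrank k ↥(⨆ i ∈ s, p i) = ∑ i ∈ s, Module.finrank k ↥(p i) := by
  classical
  induction s using Finset.induction_on with
  | empty =>
    have h0 : (⨆ i ∈ (∅ : Finset κ), p i) = ⊥ := by simp
    rw [h0, Finset.sum_empty]
    exact ⟨inferInstance, finrank_bot k V⟩
  | insert a s ha ih =>
    obtain ⟨ih1, ih2⟩ := ih (fun i hi => hfin i (Finset.mem_insert_of_mem hi))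
    haveI := ih1
    haveI := hfin a (Finset.mem_insert_self a s)
    rw [Finset.sum_insert ha, ← ih2, Finset.iSup_insert]
    refine ⟨inferInstance, ?_⟩
    have hdisj : Disjoint (p a) (⨆ i ∈ s, p i) := hind.disjoint_biSup ha
    have := Submodule.finrank_sup_add_finrank_inf_eq (p a) (⨆ i ∈ s, p i)
    rw [hdisj.eq_bot, finrank_bot, add_zero] at this
    exact this

end sum

section hom0

variable [Fintype σ] {ι : Type*} [Finite ι] {G : ι → σ →₀ ℕ} {I : Ideal (MvPolynomial σ k)}
variable (hI : IsMonomial I) (hG : ∀ β, β ∈ exps I ↔ ∃ i, G i ≤ β)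

include hI hG in
/-- **The dimension of the span of the degree-zero graded pieces** of a monomial ideal with
finitely many generators, in terms of a finite list of multidegrees. -/
theorem finrank_hom0 (L : Finset (σ → ℤ)) (hL0 : ∀ α ∈ L, ∑ i, α i = 0)
    (hvan : ∀ α : σ → ℤ, ∑ i, α i = 0 → α ∉ L → tPiece I α = ⊥) :
    Module.finrank k ↥(⨆ α : {α : σ → ℤ // ∑ i, α i = 0}, tPiece I α.1) =
      ∑ α ∈ L, Module.finrank k ↥(W G I α) := by
  have he : (⨆ α : {α : σ → ℤ // ∑ i, α i = 0}, tPiece I α.1) = ⨆ α ∈ L, tPiece I α := by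
    apply le_antisymm
    · apply iSup_le
      rintro ⟨α, hα⟩
      by_cases hm : α ∈ L
      · exact le_biSup (fun α => tPiece I α) hm
      · rw [hvan α hα hm]
        exact bot_le
    · apply iSup₂_le
      intro α hα
      exact le_iSup (fun α : {α : σ → ℤ // ∑ i, α i = 0} => tPiece I α.1) ⟨α, hL0 α hα⟩
  rw [he, (finite_and_finrank_biSup_of_indep (fun α => tPiece I α) (iSupIndep_tPiece hI) L
    (fun α _ => finite_tPiece hI hG)).2]
  apply Finset.sum_congr rfl
  intro α _
  exact finrank_tPiece_eq_finrank_W hI hG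

include hI hG in
/-- variant of `finrank_hom0` in terms of the graded pieces themselves -/
theorem finrank_hom0' (L : Finset (σ → ℤ)) (hL0 : ∀ α ∈ L, ∑ i, α i = 0)
    (hvan : ∀ α : σ → ℤ, ∑ i, α i = 0 → α ∉ L → tPiece I α = ⊥) :
    Module.finrank k ↥(⨆ α : {α : σ → ℤ // ∑ i, α i = 0}, tPiece I α.1) =
      ∑ α ∈ L, Module.finrank k ↥(tPiece I α) := by
  rw [finrank_hom0 hI hG L hL0 hvan]
  apply Finset.sum_congr rfl
  intro α _
  exact (finrank_tPiece_eq_finrank_W hI hG).symm

end hom0

section deg2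

/-- a nonnegative integer vector of total degree two is the sum of two unit vectors -/
lemma exists_two_of_sum_eq_two {N : ℕ} (f : Fin N → ℤ) (h0 : ∀ l, 0 ≤ f l) (h2 : ∑ l, f l = 2) :
    ∃ u v : Fin N, ∀ l, f l = (if u = l then 1 else 0) + (if v = l then 1 else 0) := by
  classical
  have h1 : ∃ u, 1 ≤ f u := by
    by_contra hcon
    push Not at hcon
    have : ∑ l, f l = 0 := Finset.sum_eq_zero (fun l _ => by have := h0 l; have := hcon l; omega)
    omega
  obtain ⟨u, hu⟩ := h1
  set f1 : Fin N → ℤ := fun l => f l - (if u = l then 1 else 0) with hf1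
  have h10 : ∀ l, 0 ≤ f1 l := by
    intro l
    rw [hf1]
    simp only
    split_ifs with h
    · subst h; omega
    · have := h0 l; omega
  have h1s : ∑ l, f1 l = 1 := by
    rw [hf1, Finset.sum_sub_distrib, h2, Finset.sum_ite_eq Finset.univ u (fun _ => (1 : ℤ)),
      if_pos (Finset.mem_univ u)]
    norm_num
  have h2' : ∃ v, 1 ≤ f1 v := by
    by_contra hcon
    push Not at hcon
    have : ∑ l, f1 l = 0 :=
      Finset.sum_eq_zero (fun l _ => by have := h10 l; have := hcon l; omega)
    omega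
  obtain ⟨v, hv⟩ := h2'
  set f2 : Fin N → ℤ := fun l => f1 l - (if v = l then 1 else 0) with hf2
  have h20 : ∀ l, 0 ≤ f2 l := by
    intro l
    rw [hf2]
    simp only
    split_ifs with h
    · subst h; omega
    · have := h10 l; omega
  have h2s : ∑ l, f2 l = 0 := by
    rw [hf2, Finset.sum_sub_distrib, h1s, Finset.sum_ite_eq Finset.univ v (fun _ => (1 : ℤ)),
      if_pos (Finset.mem_univ v)]
    norm_num
  have hz : ∀ l, f2 l = 0 := by
    intro l
    exact (Finset.sum_eq_zero_iff_of_nonneg (fun l _ => h20 l)).mp h2s l (Finset.mem_univ l)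
  refine ⟨u, v, fun l => ?_⟩
  have := hz l
  rw [hf2, hf1] at this
  simp only at this
  omega

end deg2

end Groth.Agent.Lib.Seat60.Hom0
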