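import Groth.Agent.Lib.Seat60Hom0Key

/-! Seat60: variant of the class count by keys, where generators with equal keys are only required
to carry equal coefficients (e.g. through a chain of links). -/

set_option autoImplicit false
set_option linter.unusedSectionVars false
set_option linter.unusedVariables false
universe u

namespace Groth.Agent.Lib.Seat60.Hom0

open W4c1hilbpn MvPolynomial

variable {σ : Type*} {k : Type*} [Field k] [Fintype σ] {ι : Type*} {G : ι → σ →₀ ℕ}
  {I : Ideal (MvPolynomial σ k)} {α : σ → ℤ}

/-- the dimension of the space of coefficient functions, from a key function on the generators whose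
fibres over a finite set `K` of keys are the classes of active generators -/
theorem finrank_W_eq_card_of_key' {κ : Type*} [DecidableEq κ] (key : ι → κ) (K : Finset κ)
    (hact : ∀ i, Act G I α i ↔ key i ∈ K)
    (hconn : ∀ i j, Conn G I α i j → key i = key j)
    (hrep : ∀ x ∈ K, ∃ i, key i = x)
    (hsame : ∀ c ∈ W G I α, ∀ i j, key i ∈ K → key i = key j → c i = c j) :
    Module.finrank k ↥(W G I α) = K.card := by
  classical
  let F : κ → Option (Fin K.card) := fun x =>
    if h : x ∈ K then some (K.equivFin ⟨x, h⟩) else none
  have hF_some : ∀ x r, F x = some r → ∃ h : x ∈ K, K.equivFin ⟨x, h⟩ = r := by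
    intro x r hx
    by_cases h : x ∈ K
    · refine ⟨h, ?_⟩
      simp only [F, dif_pos h] at hx
      exact Option.some.inj hx
    · simp only [F, dif_neg h] at hx
      exact absurd hx (by simp)
  have hF_none : ∀ x, F x = none → x ∉ K := by
    intro x hx h
    simp only [F, dif_pos h] at hx
    exact absurd hx (by simp)
  apply finrank_W_eq_of_cls (fun i => F (key i))
  · intro i hi
    rw [hact] at hi
    simp only [F, dif_neg hi]
  · intro i j hij
    show F (key i) = F (key j)
    rw [hconn i j hij]
  · intro r
    obtain ⟨i, hi⟩ := hrep (K.equivFin.symm r).1 (K.equivFin.symm r).2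
    refine ⟨i, ?_⟩
    show F (key i) = some r
    rw [hi]
    simp only [F, dif_pos (K.equivFin.symm r).2]
    congr 1
    exact K.equivFin.apply_symm_apply r
  · intro c hc i j r hi hj
    obtain ⟨h1, e1⟩ := hF_some _ _ hi
    obtain ⟨h2, e2⟩ := hF_some _ _ hj
    have := K.equivFin.injective (e1.trans e2.symm)
    have hkey : key i = key j := congrArg Subtype.val this
    exact hsame c hc i j h1 hkey
  · intro c hc i hi
    apply hc.1 i
    rw [hact]
    exact hF_none _ hi

end Groth.Agent.Lib.Seat60.Hom0
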