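import Mathlib
import Groth.Prelude.Def_W4c6instabfans3FanCvx
import Groth.Agent.Lib.Helper15FanB

/-!
# Seat60: real extensions of integer linear maps and common refinements

* `rext L`: the real linear map with the integer matrix of `L : ℤ^n → ℤ^N`;
* `rext_injective`: injectivity passes from `L` to `rext L`;
* `exists_refine`: two injective integer maps `L, L'` into a common `ℤ^N` and points `y, z` of the
  orthants with `rext L y = c • rext L' z` have a common simplicial refinement (the analogue of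
  `Helper15.FanCone.exists_fibre` for maps into a lattice rather than cone morphisms).
-/

set_option autoImplicit false

namespace Groth.Agent.Lib.Seat60.RFanEmb

open CategoryTheory Opposite Instab Instab.Fan
open Groth.Agent.Lib.Helper15.FanCone Groth.Agent.Lib.Helper15.FanLin

/-- integer linear maps between coordinate spaces are given by their columns. -/
theorem lin_apply_eq_sum {n N : ℕ} (L : (Fin n → ℤ) →ₗ[ℤ] (Fin N → ℤ)) (v : Fin n → ℤ)
    (j : Fin N) : L v j = ∑ i, L (Pi.single i 1) j * v i := by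
  classical
  have h1 : v = ∑ i, v i • (Pi.single i 1 : Fin n → ℤ) := by
    funext i'
    simp [Finset.sum_apply, Pi.single_apply]
  conv_lhs => rw [h1]
  rw [map_sum, Finset.sum_apply]
  apply Finset.sum_congr rfl
  intro i _
  rw [map_smul, Pi.smul_apply, smul_eq_mul, mul_comm]

/-- the real extension of an integer linear map -/
noncomputable def rext {n N : ℕ} (L : (Fin n → ℤ) →ₗ[ℤ] (Fin N → ℤ)) :
    (Fin n → ℝ) →ₗ[ℝ] (Fin N → ℝ) where
  toFun v := fun j => ∑ i, (L (Pi.single i 1) j : ℝ) * v i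
  map_add' a b := by
    funext j
    simp only [Pi.add_apply, mul_add, Finset.sum_add_distrib]
  map_smul' c v := by
    funext j
    simp only [Pi.smul_apply, smul_eq_mul, RingHom.id_apply, Finset.mul_sum]
    apply Finset.sum_congr rfl
    intro i _
    ring

theorem rext_apply {n N : ℕ} (L : (Fin n → ℤ) →ₗ[ℤ] (Fin N → ℤ)) (v : Fin n → ℝ) (j : Fin N) :
    rext L v j = ∑ i, (L (Pi.single i 1) j : ℝ) * v i := rfl

theorem rext_intCast {n N : ℕ} (L : (Fin n → ℤ) →ₗ[ℤ] (Fin N → ℤ)) (z : Fin n → ℤ) :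
    rext L (fun i => (z i : ℝ)) = fun j => (L z j : ℝ) := by
  funext j
  rw [lin_apply_eq_sum, rext_apply]
  push_cast
  rfl

theorem rext_comp {m n N : ℕ} (L : (Fin n → ℤ) →ₗ[ℤ] (Fin N → ℤ))
    (M : (Fin m → ℤ) →ₗ[ℤ] (Fin n → ℤ)) (x : Fin m → ℝ) :
    rext (L.comp M) x = rext L (rext M x) := by
  funext j
  simp only [rext_apply]
  have h1 : ∀ l, ((L.comp M) (Pi.single l 1) j : ℝ)
      = ∑ i, (L (Pi.single i 1) j : ℝ) * (M (Pi.single l 1) i : ℝ) := by
    intro l
    have : (L.comp M) (Pi.single l 1) j = L (M (Pi.single l 1)) j := rfl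
    rw [this, lin_apply_eq_sum]
    push_cast
    rfl
  simp_rw [h1, Finset.sum_mul, Finset.mul_sum]
  rw [Finset.sum_comm]
  apply Finset.sum_congr rfl
  intro i _
  apply Finset.sum_congr rfl
  intro l _
  ring

theorem rext_eq_zero {n N : ℕ} (L : (Fin n → ℤ) →ₗ[ℤ] (Fin N → ℤ)) (hL : Function.Injective L)
    (u : Fin n → ℝ) (h : rext L u = 0) : u = 0 := by
  by_contra hne
  obtain ⟨i₀, hi₀⟩ : ∃ i, u i ≠ 0 := by
    by_contra hall
    push Not at hall
    exact hne (funext hall)
  have key : ∀ u' : Fin n → ℝ, rext L u' = 0 → 0 < u' i₀ → False := by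
    intro u' h' hpos
    obtain ⟨z, hz1, hz2⟩ := exists_int_solution
      (fun (j : Fin N) (i : Fin n) => L (Pi.single i 1) j) u'
      (fun j => by simpa [rext_apply] using congr_fun h' j)
    have hz0 : L z = 0 := by
      funext j
      rw [lin_apply_eq_sum]
      exact hz1 j
    have : z = 0 := hL (by rw [hz0, map_zero])
    have h2 := hz2 i₀ hpos
    rw [this] at h2
    simp at h2
  rcases lt_or_gt_of_ne hi₀ with hlt | hgt
  · apply key (-u)
    · rw [map_neg, h, neg_zero]
    · simpa using hlt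
  · exact key u h hgt

theorem rext_injective {n N : ℕ} (L : (Fin n → ℤ) →ₗ[ℤ] (Fin N → ℤ)) (hL : Function.Injective L) :
    Function.Injective (rext L) := by
  intro a b hab
  have : rext L (a - b) = 0 := by rw [map_sub, hab, sub_self]
  exact sub_eq_zero.mp (rext_eq_zero L hL _ this)

theorem realMap_eq_rext {k n : ICone} (ψ : k ⟶ n) (v : Fin k.dim → ℝ) :
    ψ.realMap v = rext ψ.toLin v := rfl

theorem toVec_eq_rext {N : ℕ} {ι : Type} (K : ι → Set (Fin N → ℝ)) (n : ICone)
    (φ : RFan.Cone K n) (v : Fin n.dim → ℝ) : RFan.toVec K n φ v = rext φ.1 v := rfl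

/-- common simplicial refinement of two injective integer maps at a common real point. -/
theorem exists_refine {k l : ICone} {N : ℕ} (L : (Fin k.dim → ℤ) →ₗ[ℤ] (Fin N → ℤ))
    (L' : (Fin l.dim → ℤ) →ₗ[ℤ] (Fin N → ℤ)) (hL : Function.Injective L)
    (hL' : Function.Injective L') (y : Orth k) (z : Orth l) (c : ℝ)
    (hc : 0 < c) (h : rext L y.1 = c • rext L' z.1) :
    ∃ (m : ICone) (α : m ⟶ k) (β : m ⟶ l) (x : Orth m) (c₂ : ℝ), 0 < c₂ ∧
      L.comp α.toLin = L'.comp β.toLin ∧ y.1 = α.realMap x.1 ∧ z.1 = c₂ • β.realMap x.1 := by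
  classical
  let A : Fin N → (Fin k.dim ⊕ Fin l.dim) → ℤ := fun j =>
    Sum.elim (fun i => L (Pi.single i 1) j) (fun i => - L' (Pi.single i 1) j)
  let u : (Fin k.dim ⊕ Fin l.dim) → ℝ := Sum.elim y.1 (fun i => c * z.1 i)
  have hu0 : ∀ i, 0 ≤ u i := by
    rintro (i | i)
    · exact y.2.1 i
    · exact mul_nonneg hc.le (z.2.1 i)
  have hu : ∀ j, ∑ i, (A j i : ℝ) * u i = 0 := by
    intro j
    rw [Fintype.sum_sum_type]
    simp only [A, u, Sum.elim_inl, Sum.elim_inr]
    have h1 := congr_fun h j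
    simp only [rext_apply, Pi.smul_apply, smul_eq_mul, Finset.mul_sum] at h1
    push_cast
    simp only [neg_mul, Finset.sum_neg_distrib]
    rw [h1]
    have : ∀ i, c * ((L' (Pi.single i 1) j : ℝ) * z.1 i)
        = (L' (Pi.single i 1) j : ℝ) * (c * z.1 i) := fun i => by ring
    simp_rw [this]
    ring
  obtain ⟨m, w, x, hx, hw1, hw2, hw3, hw4⟩ := exists_decomp A _ u hu0 hu le_rfl
  have hm : 0 < m := by
    rcases Nat.eq_zero_or_pos m with h0 | h0
    · exfalso
      subst h0
      apply y.2.2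
      funext i
      have := hw4 (Sum.inl i)
      simpa [u] using this
    · exact h0
  let M : ICone := ⟨⟨m, hm⟩⟩
  let Ma : Matrix (Fin k.dim) (Fin m) ℤ := fun i l => (w l (Sum.inl i) : ℤ)
  let Mb : Matrix (Fin l.dim) (Fin m) ℤ := fun i l => (w l (Sum.inr i) : ℤ)
  have hMa : ∀ (t : Fin m → ℤ) (i : Fin k.dim),
      Ma.mulVecLin t i = ∑ l', (w l' (Sum.inl i) : ℤ) * t l' := fun t i => rfl
  have hMb : ∀ (t : Fin m → ℤ) (i : Fin l.dim),
      Mb.mulVecLin t i = ∑ l', (w l' (Sum.inr i) : ℤ) * t l' := fun t i => rfl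
  have hcol : ∀ (l' : Fin m) (j : Fin N),
      ∑ i, L (Pi.single i 1) j * (w l' (Sum.inl i) : ℤ)
        = ∑ i, L' (Pi.single i 1) j * (w l' (Sum.inr i) : ℤ) := by
    intro l' j
    have h1 := hw1 l' j
    rw [Fintype.sum_sum_type] at h1
    simp only [A, Sum.elim_inl, Sum.elim_inr, neg_mul, Finset.sum_neg_distrib] at h1
    linarith
  have hcomm : ∀ t : Fin m → ℤ, L (Ma.mulVecLin t) = L' (Mb.mulVecLin t) := by
    intro t
    funext j
    rw [lin_apply_eq_sum, lin_apply_eq_sum]
    simp only [hMa, hMb]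
    simp_rw [Finset.mul_sum]
    rw [Finset.sum_comm]
    conv_rhs => rw [Finset.sum_comm]
    apply Finset.sum_congr rfl
    intro l' _
    have := hcol l' j
    calc ∑ i, L (Pi.single i 1) j * ((w l' (Sum.inl i) : ℤ) * t l')
        = (∑ i, L (Pi.single i 1) j * (w l' (Sum.inl i) : ℤ)) * t l' := by
          rw [Finset.sum_mul]; apply Finset.sum_congr rfl; intro i _; ring
      _ = (∑ i, L' (Pi.single i 1) j * (w l' (Sum.inr i) : ℤ)) * t l' := by rw [this]
      _ = _ := by rw [Finset.sum_mul]; apply Finset.sum_congr rfl; intro i _; ring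
  have hker : ∀ t : Fin m → ℤ, (Ma.mulVecLin t = 0 ∨ Mb.mulVecLin t = 0) → t = 0 := by
    intro t ht
    have hboth : Ma.mulVecLin t = 0 ∧ Mb.mulVecLin t = 0 := by
      rcases ht with ht | ht
      · refine ⟨ht, ?_⟩
        apply hL'
        rw [← hcomm, ht, map_zero, map_zero]
      · refine ⟨?_, ht⟩
        apply hL
        rw [hcomm, ht, map_zero, map_zero]
    funext l'
    apply hw3 t
    rintro (i | i)
    · have := congr_fun hboth.1 i
      rw [hMa, Pi.zero_apply] at this
      rw [← this]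
      apply Finset.sum_congr rfl; intro l' _; ring
    · have := congr_fun hboth.2 i
      rw [hMb, Pi.zero_apply] at this
      rw [← this]
      apply Finset.sum_congr rfl; intro l' _; ring
  let α : M ⟶ k :=
    { toLin := Ma.mulVecLin
      injective := by
        intro (t : Fin m → ℤ) (t' : Fin m → ℤ) (htt : Ma.mulVecLin t = Ma.mulVecLin t')
        have : Ma.mulVecLin (t - t') = 0 := by rw [map_sub, htt, sub_self]
        have := hker _ (Or.inl this)
        exact sub_eq_zero.mp this
      nonneg := by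
        intro (v : Fin m → ℤ) hv i
        show 0 ≤ ∑ l' : Fin m, (w l' (Sum.inl i) : ℤ) * v l'
        exact Finset.sum_nonneg (fun l' _ => mul_nonneg (Int.natCast_nonneg _) (hv l')) }
  let β : M ⟶ l :=
    { toLin := Mb.mulVecLin
      injective := by
        intro (t : Fin m → ℤ) (t' : Fin m → ℤ) (htt : Mb.mulVecLin t = Mb.mulVecLin t')
        have : Mb.mulVecLin (t - t') = 0 := by rw [map_sub, htt, sub_self]
        have := hker _ (Or.inr this)
        exact sub_eq_zero.mp this
      nonneg := by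
        intro (v : Fin m → ℤ) hv i
        show 0 ≤ ∑ l' : Fin m, (w l' (Sum.inr i) : ℤ) * v l'
        exact Finset.sum_nonneg (fun l' _ => mul_nonneg (Int.natCast_nonneg _) (hv l')) }
  let X : Orth M := ⟨x, fun l' => (hx l').le, fun h0 => by
    have h1 : x ⟨0, hm⟩ = 0 := congr_fun h0 ⟨0, hm⟩
    have h2 := hx ⟨0, hm⟩
    linarith⟩
  refine ⟨M, α, β, X, 1 / c, by positivity, ?_, ?_, ?_⟩
  · apply LinearMap.ext
    intro t
    exact hcomm t
  · funext i
    have := hw4 (Sum.inl i)
    simp only [u, Sum.elim_inl] at this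
    rw [this]
    simp only [ICone.Hom.realMap]
    apply Finset.sum_congr rfl
    intro l' _
    have : α.toLin (Pi.single l' 1) i = (w l' (Sum.inl i) : ℤ) := by
      show (Ma.mulVecLin (Pi.single l' 1)) i = _
      rw [hMa, Fintype.sum_eq_single l']
      · simp
      · intro l'' hl''
        simp [hl'']
    rw [this]
    push_cast
    ring
  · funext i
    have := hw4 (Sum.inr i)
    simp only [u, Sum.elim_inr] at this
    have h2 : z.1 i = (1 / c) * (c * z.1 i) := by field_simp
    rw [h2, this]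
    simp only [ICone.Hom.realMap, Pi.smul_apply, smul_eq_mul]
    congr 1
    apply Finset.sum_congr rfl
    intro l' _
    have : β.toLin (Pi.single l' 1) i = (w l' (Sum.inr i) : ℤ) := by
      show (Mb.mulVecLin (Pi.single l' 1)) i = _
      rw [hMb, Fintype.sum_eq_single l']
      · simp
      · intro l'' hl''
        simp [hl'']
    rw [this]
    push_cast
    ring

end Groth.Agent.Lib.Seat60.RFanEmb
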