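import Mathlib
import Groth.Agent.Lib.Seat60RFanA

/-!
# Seat60: the ray map `P (RFan K) → Rays N`

* `ray_eq_iff`: equality in `Rays N`;
* `rayMap K`: the canonical map, `rayMap_mk`, `continuous_rayMap`, `rayMap_injective`.
-/

set_option autoImplicit false

namespace Groth.Agent.Lib.Seat60.RFanEmb

open CategoryTheory Opposite Instab Instab.Fan
open Groth.Agent.Lib.Helper15.FanCone

variable {N : ℕ} {ι : Type} (K : ι → Set (Fin N → ℝ))

theorem ray_eq_iff (v w : {v : Fin N → ℝ // v ≠ 0}) :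
    (Quot.mk _ v : Rays N) = Quot.mk _ w ↔ ∃ c : ℝ, 0 < c ∧ w.1 = c • v.1 := by
  constructor
  · intro h
    have h' := Quot.eqvGen_exact h
    clear h
    induction h' with
    | rel a b hab => exact hab
    | refl a => exact ⟨1, one_pos, by rw [one_smul]⟩
    | symm a b _ ih =>
      obtain ⟨c, hc, hcab⟩ := ih
      refine ⟨c⁻¹, inv_pos.mpr hc, ?_⟩
      rw [hcab, smul_smul, inv_mul_cancel₀ hc.ne', one_smul]
    | trans a b d _ _ ih1 ih2 =>
      obtain ⟨c1, hc1, h1⟩ := ih1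
      obtain ⟨c2, hc2, h2⟩ := ih2
      refine ⟨c2 * c1, mul_pos hc2 hc1, ?_⟩
      rw [h2, h1, smul_smul]
  · intro h
    exact Quot.sound h

theorem toVec_ne_zero (n : ICone) (φ : RFan.Cone K n) (v : Orth n) :
    RFan.toVec K n φ v.1 ≠ 0 := by
  intro h
  exact v.2.2 (rext_eq_zero φ.1 φ.2.1 v.1 h)

/-- the ray map on the disjoint union of orthants -/
noncomputable def rayPt (p : Pt (RFan K)) : Rays N :=
  Quot.mk _ ⟨RFan.toVec K p.1.1 p.1.2 p.2.1, toVec_ne_zero K p.1.1 p.1.2 p.2⟩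

theorem map_val {k n : ICone} (ψ : k ⟶ n) (φ : RFan.Cone K n) :
    (((RFan K).map ψ.op φ : RFan.Cone K k)).1 = φ.1.comp ψ.toLin := rfl

theorem rayPt_rel (a b : Pt (RFan K)) (h : Rel (RFan K) a b) : rayPt K a = rayPt K b := by
  obtain ⟨ψ, φ, v, w, c, hc, hw⟩ := h
  apply Quot.sound
  refine ⟨c, hc, ?_⟩
  show RFan.toVec K _ φ w.1 = c • RFan.toVec K _ ((RFan K).map ψ.op φ) v.1
  rw [toVec_eq_rext, toVec_eq_rext, map_val, rext_comp, hw, map_smul]
  rfl

/-- the canonical map from the projective realization of `R(K)` to the space of rays -/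
noncomputable def rayMap : P (RFan K) → Rays N := Quot.lift (rayPt K) (rayPt_rel K)

theorem rayMap_mk (n : ICone) (φ : (RFan K).obj (op n)) (v : Orth n)
    (h : RFan.toVec K n φ v.1 ≠ 0) :
    rayMap K (P.mk φ v) = Quot.mk _ ⟨RFan.toVec K n φ v.1, h⟩ := rfl

theorem continuous_rayMap : Continuous (rayMap K) := by
  apply continuous_quot_lift
  apply continuous_sigma
  rintro ⟨n, φ⟩
  have h1 : Continuous fun v : Orth n => rext (φ : RFan.Cone K n).1 v.1 :=
    (LinearMap.continuous_of_finiteDimensional _).comp (inducing_val n).continuous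
  exact continuous_quot_mk.comp (Continuous.subtype_mk h1 _)

theorem rayMap_injective : Function.Injective (rayMap K) := by
  intro x x' hxx
  obtain ⟨n, φ, v, rfl⟩ := mk_surjective x
  obtain ⟨n', φ', v', rfl⟩ := mk_surjective x'
  rw [rayMap_mk K n φ v (toVec_ne_zero K n φ v),
    rayMap_mk K n' φ' v' (toVec_ne_zero K n' φ' v')] at hxx
  obtain ⟨c, hc, hcv⟩ := (ray_eq_iff _ _).mp hxx
  have hcv' : rext (φ' : RFan.Cone K n').1 v'.1 = c • rext (φ : RFan.Cone K n).1 v.1 := hcv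
  obtain ⟨m, α, β, x, c₂, hc₂, hcomp, hy, hz⟩ :=
    exists_refine (φ' : RFan.Cone K n').1 (φ : RFan.Cone K n).1 (φ' : RFan.Cone K n').2.1
      (φ : RFan.Cone K n).2.1 v' v c hc hcv'
  symm
  refine mk_eq_of_common φ' φ v' v α β x 1 c₂ ?_ one_pos hc₂ (by rw [one_smul]; exact hy) hz
  apply Subtype.ext
  exact hcomp

end Groth.Agent.Lib.Seat60.RFanEmb
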