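import Mathlib
import Groth.Prelude.Def_W4c6instabfans3FanCvx

/-!
# Seat60: the space of rays is Hausdorff; conic Carathéodory for integer generators
-/

set_option autoImplicit false

namespace Groth.Agent.Lib.Seat60.RFanEmb

open Instab Instab.Fan

/-- normalization of a nonzero vector -/
noncomputable def nrm {N : ℕ} (v : {v : Fin N → ℝ // v ≠ 0}) : Fin N → ℝ := ‖v.1‖⁻¹ • v.1

theorem continuous_nrm {N : ℕ} : Continuous (nrm (N := N)) := by
  have h1 : Continuous fun v : {v : Fin N → ℝ // v ≠ 0} => ‖v.1‖⁻¹ :=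
    Continuous.inv₀ continuous_subtype_val.norm (fun v => norm_ne_zero_iff.mpr v.2)
  exact h1.smul continuous_subtype_val

theorem nrm_rel {N : ℕ} (v w : {v : Fin N → ℝ // v ≠ 0}) (h : ∃ c : ℝ, 0 < c ∧ w.1 = c • v.1) :
    nrm v = nrm w := by
  obtain ⟨c, hc, hw⟩ := h
  unfold nrm
  rw [hw, norm_smul, Real.norm_of_nonneg hc.le, smul_smul]
  congr 1
  have hv : ‖v.1‖ ≠ 0 := norm_ne_zero_iff.mpr v.2
  field_simp

/-- the normalization map on rays -/
noncomputable def rayNrm (N : ℕ) : Rays N → (Fin N → ℝ) := Quot.lift nrm nrm_rel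

theorem continuous_rayNrm (N : ℕ) : Continuous (rayNrm N) :=
  continuous_quot_lift _ continuous_nrm

theorem rayNrm_injective (N : ℕ) : Function.Injective (rayNrm N) := by
  intro a b hab
  induction a using Quot.ind with
  | mk v =>
  induction b using Quot.ind with
  | mk w =>
  apply Quot.sound
  have h : ‖v.1‖⁻¹ • v.1 = ‖w.1‖⁻¹ • w.1 := hab
  have hv : ‖v.1‖ ≠ 0 := norm_ne_zero_iff.mpr v.2
  have hw : ‖w.1‖ ≠ 0 := norm_ne_zero_iff.mpr w.2
  refine ⟨‖w.1‖ * ‖v.1‖⁻¹, by positivity, ?_⟩
  rw [mul_smul, h, smul_smul, mul_inv_cancel₀ hw, one_smul]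

instance instT2SpaceRays (N : ℕ) : T2Space (Rays N) :=
  T2Space.of_injective_continuous (rayNrm_injective N) (continuous_rayNrm N)

/-- the real vector of an integer vector -/
def toR {N : ℕ} (g : Fin N → ℤ) : Fin N → ℝ := fun j => (g j : ℝ)

theorem toR_sum_smul {N : ℕ} {α : Type*} (S : Finset α) (t : α → ℤ) (f : α → Fin N → ℤ) :
    toR (∑ g ∈ S, t g • f g) = ∑ g ∈ S, (t g : ℝ) • toR (f g) := by
  funext j
  simp only [toR, Finset.sum_apply, Pi.smul_apply, smul_eq_mul]
  push_cast
  rfl

/-- Conic Carathéodory: a nonnegative combination of finitely many integer vectors is a positive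
combination of a `ℤ`-linearly independent subfamily. -/
theorem conic_caratheodory {N : ℕ} (G : Finset (Fin N → ℤ)) :
    ∀ (n : ℕ) (c : (Fin N → ℤ) → ℝ), (∀ g, 0 ≤ c g) →
      (G.filter (fun g => c g ≠ 0)).card ≤ n →
      ∃ (G' : Finset (Fin N → ℤ)) (c' : (Fin N → ℤ) → ℝ), G' ⊆ G ∧ (∀ g ∈ G', 0 < c' g) ∧
        (∑ g ∈ G', c' g • toR g) = ∑ g ∈ G, c g • toR g ∧
        LinearIndependent ℤ (fun g : ↥G' => (g : Fin N → ℤ)) := by
  classical
  intro n
  induction n with
  | zero =>
    intro c hc hcard
    have hall : ∀ g ∈ G, c g = 0 := by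
      intro g hg
      by_contra hne
      have : g ∈ G.filter (fun g => c g ≠ 0) := Finset.mem_filter.mpr ⟨hg, hne⟩
      have := Finset.card_pos.mpr ⟨g, this⟩
      omega
    refine ⟨∅, c, Finset.empty_subset _, fun g hg => absurd hg (Finset.notMem_empty g), ?_, ?_⟩
    · rw [Finset.sum_empty]
      symm
      apply Finset.sum_eq_zero
      intro g hg
      rw [hall g hg, zero_smul]
    · exact linearIndependent_empty_type
  | succ n ih =>
    intro c hc hcard
    set S := G.filter (fun g => c g ≠ 0) with hS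
    have hSG : S ⊆ G := Finset.filter_subset _ _
    have hsumS : ∑ g ∈ S, c g • toR g = ∑ g ∈ G, c g • toR g := by
      apply Finset.sum_subset hSG
      intro g hg hgS
      have : c g = 0 := by
        by_contra hne
        exact hgS (Finset.mem_filter.mpr ⟨hg, hne⟩)
      rw [this, zero_smul]
    have hposS : ∀ g ∈ S, 0 < c g := by
      intro g hg
      have := (Finset.mem_filter.mp hg).2
      exact lt_of_le_of_ne (hc g) (Ne.symm this)
    by_cases hind : LinearIndependent ℤ (fun g : ↥S => (g : Fin N → ℤ))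
    · exact ⟨S, c, hSG, hposS, hsumS, hind⟩
    · obtain ⟨t, ht0, i₁, hi₁⟩ := Fintype.not_linearIndependent_iff.mp hind
      -- extend t to all vectors
      let tt : (Fin N → ℤ) → ℤ := fun g => if h : g ∈ S then t ⟨g, h⟩ else 0
      have htt : ∑ g ∈ S, tt g • g = 0 := by
        rw [← Finset.sum_coe_sort S (fun g => tt g • g), ← ht0]
        apply Finset.sum_congr rfl
        intro i _
        have : tt i.1 = t i := by
          simp only [tt, dif_pos i.2]
        rw [this]
      have htt1 : tt i₁.1 ≠ 0 := by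
        simp only [tt, dif_pos i₁.2]
        exact hi₁
      -- choose the sign
      obtain ⟨t', ht', g₁, hg₁S, hg₁⟩ : ∃ t' : (Fin N → ℤ) → ℤ, ∑ g ∈ S, t' g • g = 0 ∧
          ∃ g₁ ∈ S, 0 < t' g₁ := by
        rcases lt_or_gt_of_ne htt1 with hlt | hgt
        · refine ⟨fun g => - tt g, ?_, i₁.1, i₁.2, by simpa using hlt⟩
          simp only [neg_smul, Finset.sum_neg_distrib, htt, neg_zero]
        · exact ⟨tt, htt, i₁.1, i₁.2, hgt⟩
      have ht'R : ∑ g ∈ S, (t' g : ℝ) • toR g = 0 := by
        rw [← toR_sum_smul, ht']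
        funext j
        simp [toR]
      set Pp := S.filter (fun g => 0 < t' g) with hPp
      have hPne : Pp.Nonempty := ⟨g₁, Finset.mem_filter.mpr ⟨hg₁S, hg₁⟩⟩
      obtain ⟨g₀, hg₀P, hg₀min⟩ := Finset.exists_min_image Pp (fun g => c g / (t' g : ℝ)) hPne
      have hg₀S : g₀ ∈ S := (Finset.mem_filter.mp hg₀P).1
      have hg₀t : (0 : ℝ) < (t' g₀ : ℝ) := by exact_mod_cast (Finset.mem_filter.mp hg₀P).2
      set s : ℝ := c g₀ / (t' g₀ : ℝ) with hs
      have hspos : 0 < s := div_pos (hposS g₀ hg₀S) hg₀t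
      let c'' : (Fin N → ℤ) → ℝ := fun g => if g ∈ S then c g - s * (t' g : ℝ) else 0
      have hc''0 : ∀ g, 0 ≤ c'' g := by
        intro g
        simp only [c'']
        split_ifs with hgS
        · by_cases hgt : 0 < t' g
          · have hgP : g ∈ Pp := Finset.mem_filter.mpr ⟨hgS, hgt⟩
            have h1 := hg₀min g hgP
            have hgt' : (0 : ℝ) < (t' g : ℝ) := by exact_mod_cast hgt
            have : s * (t' g : ℝ) ≤ c g := by
              rw [← le_div_iff₀ hgt']
              exact h1
            linarith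
          · have hgt' : (t' g : ℝ) ≤ 0 := by
              have : t' g ≤ 0 := not_lt.mp hgt
              exact_mod_cast this
            have : s * (t' g : ℝ) ≤ 0 := mul_nonpos_of_nonneg_of_nonpos hspos.le hgt'
            have := hc g
            linarith
        · exact le_rfl
      have hc''g₀ : c'' g₀ = 0 := by
        simp only [c'', if_pos hg₀S, hs]
        field_simp
        ring
      have hsub : G.filter (fun g => c'' g ≠ 0) ⊆ S.erase g₀ := by
        intro g hg
        obtain ⟨hgG, hgne⟩ := Finset.mem_filter.mp hg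
        rw [Finset.mem_erase]
        refine ⟨fun h => hgne (h ▸ hc''g₀), ?_⟩
        by_contra hgS
        apply hgne
        simp only [c'', if_neg hgS]
      have hcard' : (G.filter (fun g => c'' g ≠ 0)).card ≤ n := by
        have h1 := Finset.card_le_card hsub
        rw [Finset.card_erase_of_mem hg₀S] at h1
        omega
      have hsum'' : ∑ g ∈ G, c'' g • toR g = ∑ g ∈ G, c g • toR g := by
        rw [← hsumS]
        have h1 : ∑ g ∈ G, c'' g • toR g = ∑ g ∈ S, c'' g • toR g := by
          symm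
          apply Finset.sum_subset hSG
          intro g _ hgS
          simp only [c'', if_neg hgS, zero_smul]
        rw [h1]
        have h2 : ∑ g ∈ S, c'' g • toR g
            = ∑ g ∈ S, c g • toR g - s • ∑ g ∈ S, (t' g : ℝ) • toR g := by
          rw [Finset.smul_sum, ← Finset.sum_sub_distrib]
          apply Finset.sum_congr rfl
          intro g hgS
          simp only [c'', if_pos hgS]
          rw [sub_smul, mul_smul]
        rw [h2, ht'R, smul_zero, sub_zero]
      obtain ⟨G', c', hG', hc', hsum', hli⟩ := ih c'' hc''0 hcard'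
      exact ⟨G', c', hG', hc', hsum'.trans hsum'', hli⟩

end Groth.Agent.Lib.Seat60.RFanEmb
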