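import Mathlib
import Groth.Agent.Lib.Seat60RFanB
import Groth.Agent.Lib.Seat60RFanC
import Groth.Agent.Lib.Seat60FanMaxA

/-!
# Seat60: polyhedral cones with integer generators and the simplicial cones of `R(K)` they contain
-/

set_option autoImplicit false

namespace Groth.Agent.Lib.Seat60.RFanEmb

open CategoryTheory Opposite Instab Instab.Fan Filter Topology
open Groth.Agent.Lib.Helper15.FanCone
open Groth.Agent.S19370.Aux.FanCvx

variable {N : ℕ}

/-- the polyhedral cone spanned by a finite set of integer vectors -/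
def coneSet (G : Finset (Fin N → ℤ)) : Set (Fin N → ℝ) :=
  {x | ∃ c : (Fin N → ℤ) → ℝ, (∀ g, 0 ≤ c g) ∧ x = ∑ g ∈ G, c g • toR g}

theorem coneSet_smul (G : Finset (Fin N → ℤ)) (x : Fin N → ℝ) (hx : x ∈ coneSet G) (r : ℝ)
    (hr : 0 ≤ r) : r • x ∈ coneSet G := by
  obtain ⟨c, hc, rfl⟩ := hx
  refine ⟨fun g => r * c g, fun g => mul_nonneg hr (hc g), ?_⟩
  rw [Finset.smul_sum]
  apply Finset.sum_congr rfl
  intro g _
  rw [smul_smul]

theorem coneSet_mono {G' G : Finset (Fin N → ℤ)} (h : G' ⊆ G) : coneSet G' ⊆ coneSet G := by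
  classical
  rintro x ⟨c, hc, rfl⟩
  refine ⟨fun g => if g ∈ G' then c g else 0, fun g => ?_, ?_⟩
  · show 0 ≤ if g ∈ G' then c g else 0
    split_ifs
    · exact hc g
    · exact le_rfl
  · have h1 : ∑ g ∈ G, (if g ∈ G' then c g else 0) • toR g
        = ∑ g ∈ G', (if g ∈ G' then c g else 0) • toR g := by
      symm
      apply Finset.sum_subset h
      intro g _ hg
      rw [if_neg hg, zero_smul]
    rw [h1]
    apply Finset.sum_congr rfl
    intro g hg
    rw [if_pos hg]

theorem sum_equivFin {α M : Type*} [AddCommMonoid M] (G' : Finset α) (f : α → M) :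
    ∑ i : Fin G'.card, f (G'.equivFin.symm i).1 = ∑ g ∈ G', f g := by
  rw [← Finset.sum_coe_sort G' f]
  exact Equiv.sum_comp G'.equivFin.symm (fun g : ↥G' => f g.1)

/-- the integer linear map with columns the elements of `G'` -/
noncomputable def linOf (G' : Finset (Fin N → ℤ)) : (Fin G'.card → ℤ) →ₗ[ℤ] (Fin N → ℤ) :=
  Fintype.linearCombination ℤ (fun i => ((G'.equivFin.symm i : ↥G') : Fin N → ℤ))

theorem linOf_single (G' : Finset (Fin N → ℤ)) (i : Fin G'.card) :
    linOf G' (Pi.single i 1) = (G'.equivFin.symm i).1 := by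
  classical
  unfold linOf
  rw [Fintype.linearCombination_apply_single, one_smul]

theorem linOf_injective (G' : Finset (Fin N → ℤ))
    (hli : LinearIndependent ℤ (fun g : ↥G' => (g : Fin N → ℤ))) :
    Function.Injective (linOf G') := by
  have h1 : LinearIndependent ℤ (fun i => ((G'.equivFin.symm i : ↥G') : Fin N → ℤ)) :=
    hli.comp _ G'.equivFin.symm.injective
  exact linearIndependent_iff_injective_fintypeLinearCombination.mp h1

theorem rext_linOf (G' : Finset (Fin N → ℤ)) (v : Fin G'.card → ℝ) :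
    rext (linOf G') v = ∑ i, v i • toR (G'.equivFin.symm i).1 := by
  funext j
  rw [rext_apply, Finset.sum_apply]
  apply Finset.sum_congr rfl
  intro i _
  rw [linOf_single]
  simp only [Pi.smul_apply, smul_eq_mul, toR]
  ring

theorem rext_linOf_fun (G' : Finset (Fin N → ℤ)) (c : (Fin N → ℤ) → ℝ) :
    rext (linOf G') (fun i => c (G'.equivFin.symm i).1) = ∑ g ∈ G', c g • toR g := by
  rw [rext_linOf]
  exact sum_equivFin G' (fun g => c g • toR g)

theorem exists_fun_of_vec (G' : Finset (Fin N → ℤ)) (v : Fin G'.card → ℝ) (hv : ∀ i, 0 ≤ v i) :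
    ∃ c : (Fin N → ℤ) → ℝ, (∀ g, 0 ≤ c g) ∧ v = fun i => c (G'.equivFin.symm i).1 := by
  classical
  refine ⟨fun g => if h : g ∈ G' then v (G'.equivFin ⟨g, h⟩) else 0, fun g => ?_, ?_⟩
  · show 0 ≤ if h : g ∈ G' then v (G'.equivFin ⟨g, h⟩) else 0
    split_ifs
    · exact hv _
    · exact le_rfl
  · funext i
    show v i = if h : (G'.equivFin.symm i).1 ∈ G' then v (G'.equivFin ⟨(G'.equivFin.symm i).1, h⟩)
      else 0
    rw [dif_pos (G'.equivFin.symm i).2]
    congr 1
    simp

theorem image_orthant_eq (G' : Finset (Fin N → ℤ)) :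
    rext (linOf G') '' {v | ∀ i, 0 ≤ v i} = coneSet G' := by
  ext x
  constructor
  · rintro ⟨v, hv, rfl⟩
    obtain ⟨c, hc, rfl⟩ := exists_fun_of_vec G' v hv
    exact ⟨c, hc, rext_linOf_fun G' c⟩
  · rintro ⟨c, hc, rfl⟩
    exact ⟨fun i => c (G'.equivFin.symm i).1, fun i => hc _, rext_linOf_fun G' c⟩

theorem isClosed_coneSet_of_indep (G' : Finset (Fin N → ℤ))
    (hli : LinearIndependent ℤ (fun g : ↥G' => (g : Fin N → ℤ))) : IsClosed (coneSet G') := by
  rw [← image_orthant_eq]
  have hinj := rext_injective (linOf G') (linOf_injective G' hli)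
  have hce : Topology.IsClosedEmbedding (rext (linOf G')) :=
    LinearMap.isClosedEmbedding_of_injective (LinearMap.ker_eq_bot.mpr hinj)
  apply hce.isClosedMap
  have : {v : Fin G'.card → ℝ | ∀ i, 0 ≤ v i} = ⋂ i, {v | 0 ≤ v i} := by
    ext v; simp
  rw [this]
  exact isClosed_iInter (fun i => isClosed_le continuous_const (continuous_apply i))

/-- Carathéodory: the cone is the union of the cones on its independent subsets -/
theorem coneSet_eq_biUnion (G : Finset (Fin N → ℤ)) :
    coneSet G = ⋃ G' ∈ {G' : Finset (Fin N → ℤ) | G' ∈ G.powerset ∧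
      LinearIndependent ℤ (fun g : ↥G' => (g : Fin N → ℤ))}, coneSet G' := by
  ext x
  constructor
  · rintro ⟨c, hc, rfl⟩
    obtain ⟨G', c', hG', hc', hsum, hli⟩ := conic_caratheodory G _ c hc le_rfl
    simp only [Set.mem_iUnion]
    classical
    refine ⟨G', ⟨Finset.mem_powerset.mpr hG', hli⟩, fun g => if g ∈ G' then c' g else 0,
      fun g => ?_, ?_⟩
    · show 0 ≤ if g ∈ G' then c' g else 0
      split_ifs with h
      · exact (hc' g h).le
      · exact le_rfl
    · rw [← hsum]
      apply Finset.sum_congr rfl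
      intro g hg
      show c' g • toR g = (if g ∈ G' then c' g else 0) • toR g
      rw [if_pos hg]
  · intro hx
    simp only [Set.mem_iUnion] at hx
    obtain ⟨G', ⟨hG', _⟩, hx⟩ := hx
    exact coneSet_mono (Finset.mem_powerset.mp hG') hx

theorem isClosed_coneSet (G : Finset (Fin N → ℤ)) : IsClosed (coneSet G) := by
  rw [coneSet_eq_biUnion]
  apply Set.Finite.isClosed_biUnion
  · exact (G.powerset.finite_toSet).subset (fun G' h => h.1)
  · intro G' hG'
    exact isClosed_coneSet_of_indep G' hG'.2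

/-- a nonzero element of a cone lies in the simplicial cone of an independent nonempty subset -/
theorem exists_indep_of_mem (G : Finset (Fin N → ℤ)) (w : Fin N → ℝ) (hw : w ∈ coneSet G)
    (hw0 : w ≠ 0) :
    ∃ G' : Finset (Fin N → ℤ), G' ⊆ G ∧ G'.Nonempty ∧
      LinearIndependent ℤ (fun g : ↥G' => (g : Fin N → ℤ)) ∧
      ∃ v : Fin G'.card → ℝ, (∀ i, 0 ≤ v i) ∧ v ≠ 0 ∧ rext (linOf G') v = w := by
  obtain ⟨c, hc, rfl⟩ := hw
  obtain ⟨G', c', hG', hc', hsum, hli⟩ := conic_caratheodory G _ c hc le_rfl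
  have hne : G'.Nonempty := by
    rw [Finset.nonempty_iff_ne_empty]
    rintro rfl
    rw [Finset.sum_empty] at hsum
    exact hw0 hsum.symm
  refine ⟨G', hG', hne, hli, fun i => c' (G'.equivFin.symm i).1,
    fun i => (hc' _ (G'.equivFin.symm i).2).le, ?_, ?_⟩
  · intro h0
    have : rext (linOf G') (fun i => c' (G'.equivFin.symm i).1) = 0 := by
      rw [h0, map_zero]
    rw [rext_linOf_fun, hsum] at this
    exact hw0 this
  · rw [rext_linOf_fun, hsum]

end Groth.Agent.Lib.Seat60.RFanEmb
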