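import Mathlib
import Groth.Agent.Lib.Seat60RFanD

/-!
# Seat60: the projective realization of `R(K)` embeds into the space of rays
-/

set_option autoImplicit false

namespace Groth.Agent.Lib.Seat60.RFanEmb

open CategoryTheory Opposite Instab Instab.Fan Filter Topology
open Groth.Agent.S19370.Aux.FanCvx Groth.Agent.Lib.Seat60.FanMax

universe u

/-- every rational simplex is compact -/
theorem isCompact_cell {F : Fan.{u}} {n : ICone} (ξ : F.obj (op n)) : IsCompact (P.cell ξ) := by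
  let incl : stdSimplex ℝ (Fin n.dim) → Orth n := fun s => ⟨s.1, s.2.1, fun h => by
    have h2 : ∑ i, s.1 i = 1 := s.2.2
    rw [h] at h2
    simp at h2⟩
  have hincl : Continuous incl := (inducing_val n).continuous_iff.mpr continuous_subtype_val
  have : P.cell ξ = Set.range (P.mk ξ ∘ incl) := by
    ext x
    constructor
    · rintro ⟨v, rfl⟩
      obtain ⟨w, hw1, hw2⟩ := exists_normalized ξ v
      exact ⟨⟨w.1, hw1⟩, hw2⟩
    · rintro ⟨s, rfl⟩
      exact ⟨incl s, rfl⟩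
  rw [this]
  exact isCompact_range ((continuous_mk ξ).comp hincl)

variable {N : ℕ} {ι : Type}

/-- a closed, scaling-stable `K a` contains the real orthant image of any cone of `R(K)` that
sends the integral orthant into it -/
theorem rext_mem_of_closed (K : ι → Set (Fin N → ℝ)) (n : ICone) (φ : RFan.Cone K n) (a : ι)
    (ha : ∀ z : Fin n.dim → ℤ, (∀ i, 0 ≤ z i) → (fun j => (φ.1 z j : ℝ)) ∈ K a)
    (hcl : IsClosed (K a)) (hsc : ∀ x ∈ K a, ∀ r : ℝ, 0 ≤ r → r • x ∈ K a) (v : Orth n) :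
    rext φ.1 v.1 ∈ K a := by
  have hk : ∀ k : ℕ, rext φ.1 (approx v k).1 ∈ K a := by
    intro k
    have e : (approx v k).1 = (1 / ((k : ℝ) + 1)) •
        (fun j => (((⌊((k : ℝ) + 1) * v.1 j⌋₊ + 1 : ℕ) : ℤ) : ℝ)) := by
      funext j
      show (1 / ((k : ℝ) + 1)) * ((⌊((k : ℝ) + 1) * v.1 j⌋₊ + 1 : ℕ) : ℝ)
        = (1 / ((k : ℝ) + 1)) * (((⌊((k : ℝ) + 1) * v.1 j⌋₊ + 1 : ℕ) : ℤ) : ℝ)
      rw [Int.cast_natCast]
    rw [e, map_smul, rext_intCast]
    exact hsc _ (ha _ (fun i => Int.natCast_nonneg _)) _ (by positivity)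
  have hcont : Continuous (rext φ.1) := LinearMap.continuous_of_finiteDimensional _
  have hlim : Tendsto (fun k => rext φ.1 (approx v k).1) atTop (𝓝 (rext φ.1 v.1)) :=
    (hcont.tendsto _).comp ((inducing_val n).tendsto_nhds_iff.mp (tendsto_approx v))
  exact hcl.mem_of_tendsto hlim (Eventually.of_forall hk)

theorem linOf_int_mem (G' : Finset (Fin N → ℤ)) (z : Fin G'.card → ℤ) (hz : ∀ i, 0 ≤ z i) :
    (fun j => (linOf G' z j : ℝ)) ∈ coneSet G' := by
  rw [← rext_intCast, ← image_orthant_eq]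
  exact ⟨_, fun i => by exact_mod_cast hz i, rfl⟩

/-- the cone of `R(K)` on an independent nonempty set of integer vectors whose cone lies in `K a` -/
noncomputable def coneOf (K : ι → Set (Fin N → ℝ)) (a : ι) (G' : Finset (Fin N → ℤ))
    (hne : G'.Nonempty) (hli : LinearIndependent ℤ (fun g : ↥G' => (g : Fin N → ℤ)))
    (hsub : coneSet G' ⊆ K a) : RFan.Cone K ⟨⟨G'.card, hne.card_pos⟩⟩ :=
  ⟨linOf G', linOf_injective G' hli, a, fun z hz => hsub (linOf_int_mem G' z hz)⟩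

theorem main [Finite ι] (K : ι → Set (Fin N → ℝ))
    (hK : ∀ a, ∃ (m : ℕ) (gen : Fin m → Finset (Fin N → ℤ)),
      K a = Set.iUnion fun l => {x | ∃ c : (Fin N → ℤ) → ℝ, (∀ g, 0 ≤ c g) ∧
        x = Finset.sum (gen l) fun g => c g • fun j => (g j : ℝ)}) :
    ∃ g : Fan.P (RFan K) → Fan.Rays N,
      (∀ (n : ICone) (φ : (RFan K).obj (op n)) (v : Fan.Orth n) (h : RFan.toVec K n φ v.1 ≠ 0),
        g (Fan.P.mk φ v) = Quot.mk _ ⟨RFan.toVec K n φ v.1, h⟩) ∧
      Topology.IsEmbedding g ∧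
      Set.range g = {r | ∃ w : {w : Fin N → ℝ // w ≠ 0}, r = Quot.mk _ w ∧ w.1 ∈ Set.iUnion K} := by
  choose m gen hKeq using hK
  have hKa : ∀ a, K a = ⋃ l : Fin (m a), coneSet (gen a l) := fun a => hKeq a
  have hcl : ∀ a, IsClosed (K a) := by
    intro a
    rw [hKa a]
    exact isClosed_iUnion_of_finite (fun l => isClosed_coneSet _)
  have hsc : ∀ a, ∀ x ∈ K a, ∀ r : ℝ, 0 ≤ r → r • x ∈ K a := by
    intro a x hx r hr
    rw [hKa a] at hx ⊢
    obtain ⟨l, hl⟩ := Set.mem_iUnion.mp hx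
    exact Set.mem_iUnion.mpr ⟨l, coneSet_smul _ x hl r hr⟩
  -- the real orthant of every cone maps into some `K a`
  have hmem : ∀ (n : ICone) (φ : RFan.Cone K n) (v : Orth n), ∃ a, rext φ.1 v.1 ∈ K a := by
    intro n φ v
    obtain ⟨a, ha⟩ := φ.2.2
    exact ⟨a, rext_mem_of_closed K n φ a ha (hcl a) (hsc a) v⟩
  -- the finite family of simplicial cones
  let T : Type := Σ a : ι, Σ l : Fin (m a),
    {G' : ↥((gen a l).powerset) // G'.1.Nonempty ∧
      LinearIndependent ℤ (fun g : ↥G'.1 => (g : Fin N → ℤ))}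
  have hTfin : Finite T := inferInstance
  have hsubT : ∀ t : T, coneSet t.2.2.1.1 ⊆ K t.1 := by
    intro t
    rw [hKa t.1]
    exact Set.subset_iUnion_of_subset t.2.1 (coneSet_mono (Finset.mem_powerset.mp t.2.2.1.2))
  let nn : T → ICone := fun t => ⟨⟨t.2.2.1.1.card, t.2.2.2.1.card_pos⟩⟩
  let cone : ∀ t : T, RFan.Cone K (nn t) := fun t =>
    coneOf K t.1 t.2.2.1.1 t.2.2.2.1 t.2.2.2.2 (hsubT t)
  have hsurj : ∀ a (w : Fin N → ℝ), w ∈ K a → w ≠ 0 →
      ∃ (t : T) (v : Orth (nn t)), rext (cone t).1 v.1 = w := by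
    intro a w hw hw0
    rw [hKa a] at hw
    obtain ⟨l, hl⟩ := Set.mem_iUnion.mp hw
    obtain ⟨G', hG', hne, hli, v, hv0, hvne, hv⟩ := exists_indep_of_mem (gen a l) w hl hw0
    exact ⟨⟨a, l, ⟨⟨G', Finset.mem_powerset.mpr hG'⟩, hne, hli⟩⟩, ⟨v, hv0, hvne⟩, hv⟩
  -- the cover by finitely many cells
  have hcover : ∀ x : P (RFan K), ∃ t : T, x ∈ P.cell (F := RFan K) (cone t) := by
    intro x
    obtain ⟨n, φ, v, rfl⟩ := Groth.Agent.Lib.Helper15.FanCone.mk_surjective x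
    obtain ⟨a, ha⟩ := hmem n φ v
    have hne : rext (φ : RFan.Cone K n).1 v.1 ≠ 0 := toVec_ne_zero K n φ v
    obtain ⟨t, v', hv'⟩ := hsurj a _ ha hne
    refine ⟨t, v', ?_⟩
    apply rayMap_injective K
    rw [rayMap_mk K (nn t) (cone t) v' (toVec_ne_zero K (nn t) (cone t) v'),
      rayMap_mk K n φ v (toVec_ne_zero K n φ v)]
    congr 1
    apply Subtype.ext
    exact hv'
  have hcompact : CompactSpace (P (RFan K)) := by
    constructor
    have : (Set.univ : Set (P (RFan K))) = ⋃ t : T, P.cell (F := RFan K) (cone t) := by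
      ext x
      simp only [Set.mem_univ, Set.mem_iUnion, true_iff]
      exact hcover x
    rw [this]
    exact isCompact_iUnion (fun t => isCompact_cell (F := RFan K) (cone t))
  refine ⟨rayMap K, fun n φ v h => rayMap_mk K n φ v h, ?_, ?_⟩
  · exact ((continuous_rayMap K).isClosedEmbedding (rayMap_injective K)).isEmbedding
  · ext r
    constructor
    · rintro ⟨x, rfl⟩
      obtain ⟨n, φ, v, rfl⟩ := Groth.Agent.Lib.Helper15.FanCone.mk_surjective x
      obtain ⟨a, ha⟩ := hmem n φ v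
      exact ⟨⟨RFan.toVec K n φ v.1, toVec_ne_zero K n φ v⟩, rfl, Set.mem_iUnion.mpr ⟨a, ha⟩⟩
    · rintro ⟨w, rfl, hw⟩
      obtain ⟨a, ha⟩ := Set.mem_iUnion.mp hw
      obtain ⟨t, v, hv⟩ := hsurj a w.1 ha w.2
      refine ⟨P.mk (F := RFan K) (cone t) v, ?_⟩
      rw [rayMap_mk K (nn t) (cone t) v (toVec_ne_zero K (nn t) (cone t) v)]
      congr 1
      apply Subtype.ext
      exact hv

end Groth.Agent.Lib.Seat60.RFanEmb
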