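import Mathlib.LinearAlgebra.FiniteDimensional.Lemmas
import Mathlib.LinearAlgebra.Dimension.OrzechProperty
import Mathlib.LinearAlgebra.Dimension.Constructions
import Mathlib.LinearAlgebra.StdBasis
import Mathlib.Data.Set.Card
import Mathlib.Data.Multiset.Filter
import Mathlib.Algebra.BigOperators.Pi
import Mathlib.Tactic

/-! Seat60: Rado's theorem for families of vectors (independent transversals), and the Rado–Horn
partition theorem deduced from it. -/

set_option autoImplicit false
set_option linter.unusedVariables false
set_option linter.unusedSectionVars false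

namespace Groth.Agent.Lib.Seat60.Rado

open Module

variable {K : Type*} [Field K] {W : Type*} [AddCommGroup W] [Module K W] [FiniteDimensional K W]

/-- the span of the vectors indexed by a finite set of indices -/
def sp {ι : Type*} (y : ι → W) (s : Finset ι) : Submodule K W :=
  Submodule.span K (y '' (s : Set ι))

lemma sp_mono {ι : Type*} (y : ι → W) {s t : Finset ι} (h : s ⊆ t) :
    sp (K := K) y s ≤ sp y t :=
  Submodule.span_mono (Set.image_mono (Finset.coe_subset.mpr h))

lemma sp_union {ι : Type*} [DecidableEq ι] (y : ι → W) (s t : Finset ι) :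
    sp (K := K) y (s ∪ t) = sp y s ⊔ sp y t := by
  unfold sp
  rw [Finset.coe_union, Set.image_union, Submodule.span_union]

/-- **Rado's theorem** for vectors: a finite family of finite sets of vectors has a linearly
independent transversal as soon as the union of any `r` of the sets spans a subspace of dimension at
least `r`. -/
theorem rado {J ι : Type*} [Fintype J] [DecidableEq J] [DecidableEq ι] (y : ι → W)
    (A : J → Finset ι)
    (h : ∀ S : Finset J, S.card ≤ finrank K (sp (K := K) y (S.biUnion A))) :
    ∃ f : J → ι, (∀ j, f j ∈ A j) ∧ LinearIndependent K (y ∘ f) := by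
  classical
  induction' hN : ∑ j, (A j).card using Nat.strong_induction_on with N ih generalizing A
  by_cases hbig : ∃ j1, 2 ≤ (A j1).card
  · -- shrink one of the sets
    obtain ⟨j1, hj1⟩ := hbig
    obtain ⟨a, ha, b, hb, hab⟩ := Finset.one_lt_card.mp hj1
    -- the family with `c` removed from `A j1`
    let A' : ι → J → Finset ι := fun c => Function.update A j1 ((A j1).erase c)
    have hA'j1 : ∀ c, A' c j1 = (A j1).erase c := fun c => Function.update_self ..
    have hA'ne : ∀ c j, j ≠ j1 → A' c j = A j := fun c j hj => Function.update_of_ne hj ..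
    have hsum : ∀ c ∈ A j1, ∑ j, (A' c j).card < N := by
      intro c hc
      rw [← hN]
      apply Finset.sum_lt_sum
      · intro j _
        by_cases hj : j = j1
        · rw [hj, hA'j1]
          exact Finset.card_le_card (Finset.erase_subset _ _)
        · rw [hA'ne c j hj]
      · refine ⟨j1, Finset.mem_univ _, ?_⟩
        rw [hA'j1]
        exact Finset.card_erase_lt_of_mem hc
    -- if the condition fails for `A' c`, it fails on a set `insert j1 T` with `j1 ∉ T`
    have hfail : ∀ c, (¬ ∀ S : Finset J, S.card ≤ finrank K (sp (K := K) y (S.biUnion (A' c)))) →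
        ∃ T : Finset J, j1 ∉ T ∧
          finrank K (sp (K := K) y ((A j1).erase c ∪ T.biUnion A)) ≤ T.card := by
      intro c hc
      push Not at hc
      obtain ⟨S, hS⟩ := hc
      have hj1S : j1 ∈ S := by
        by_contra hj1S
        have : S.biUnion (A' c) = S.biUnion A := by
          apply Finset.biUnion_congr rfl
          intro j hj
          exact hA'ne c j (fun e => hj1S (e ▸ hj))
        rw [this] at hS
        exact absurd (h S) (not_le.mpr hS)
      refine ⟨S.erase j1, Finset.notMem_erase _ _, ?_⟩
      have hbU : S.biUnion (A' c) = (A j1).erase c ∪ (S.erase j1).biUnion A := by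
        conv_lhs => rw [← Finset.insert_erase hj1S]
        rw [Finset.biUnion_insert, hA'j1]
        congr 1
        apply Finset.biUnion_congr rfl
        intro j hj
        exact hA'ne c j (Finset.ne_of_mem_erase hj)
      rw [hbU] at hS
      have := Finset.card_erase_of_mem hj1S
      omega
    have hgood : (∀ S : Finset J, S.card ≤ finrank K (sp (K := K) y (S.biUnion (A' a)))) ∨
        (∀ S : Finset J, S.card ≤ finrank K (sp (K := K) y (S.biUnion (A' b)))) := by
      by_contra hcon
      push Not at hcon
      obtain ⟨T1, hT1, hr1⟩ := hfail a (by push Not; exact hcon.1)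
      obtain ⟨T2, hT2, hr2⟩ := hfail b (by push Not; exact hcon.2)
      set U1 := sp (K := K) y ((A j1).erase a ∪ T1.biUnion A) with hU1
      set U2 := sp (K := K) y ((A j1).erase b ∪ T2.biUnion A) with hU2
      have hsup : sp (K := K) y ((insert j1 (T1 ∪ T2)).biUnion A) ≤ U1 ⊔ U2 := by
        rw [hU1, hU2, ← sp_union]
        apply sp_mono
        intro z hz
        rw [Finset.mem_biUnion] at hz
        obtain ⟨j, hj, hz⟩ := hz
        rw [Finset.mem_insert, Finset.mem_union] at hj
        simp only [Finset.mem_union, Finset.mem_erase, Finset.mem_biUnion]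
        rcases hj with rfl | hj | hj
        · by_cases hza : z = a
          · right; left
            exact ⟨fun e => hab (hza ▸ e), hz⟩
          · left; left
            exact ⟨hza, hz⟩
        · left; right
          exact ⟨j, hj, hz⟩
        · right; right
          exact ⟨j, hj, hz⟩
      have hinf : sp (K := K) y ((T1 ∩ T2).biUnion A) ≤ U1 ⊓ U2 := by
        apply le_inf
        · apply sp_mono
          intro z hz
          rw [Finset.mem_biUnion] at hz
          obtain ⟨j, hj, hz⟩ := hz
          apply Finset.mem_union_right
          rw [Finset.mem_biUnion]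
          exact ⟨j, (Finset.mem_inter.mp hj).1, hz⟩
        · apply sp_mono
          intro z hz
          rw [Finset.mem_biUnion] at hz
          obtain ⟨j, hj, hz⟩ := hz
          apply Finset.mem_union_right
          rw [Finset.mem_biUnion]
          exact ⟨j, (Finset.mem_inter.mp hj).2, hz⟩
      have h1 := h (insert j1 (T1 ∪ T2))
      have h2 := h (T1 ∩ T2)
      have h3 := Submodule.finrank_mono hsup
      have h4 := Submodule.finrank_mono hinf
      have h5 := Submodule.finrank_sup_add_finrank_inf_eq U1 U2
      have h6 := Finset.card_union_add_card_inter T1 T2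
      have h7 : (insert j1 (T1 ∪ T2)).card = (T1 ∪ T2).card + 1 := by
        apply Finset.card_insert_of_notMem
        rw [Finset.mem_union]
        tauto
      omega
    rcases hgood with hg | hg
    · obtain ⟨f, hf1, hf2⟩ := ih _ (hsum a ha) (A' a) hg rfl
      refine ⟨f, fun j => ?_, hf2⟩
      by_cases hj : j = j1
      · have := hf1 j
        rw [hj, hA'j1] at this
        rw [hj]
        exact Finset.mem_of_mem_erase this
      · have := hf1 j
        rwa [hA'ne a j hj] at this
    · obtain ⟨f, hf1, hf2⟩ := ih _ (hsum b hb) (A' b) hg rfl
      refine ⟨f, fun j => ?_, hf2⟩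
      by_cases hj : j = j1
      · have := hf1 j
        rw [hj, hA'j1] at this
        rw [hj]
        exact Finset.mem_of_mem_erase this
      · have := hf1 j
        rwa [hA'ne b j hj] at this
  · -- all sets are singletons
    push Not at hbig
    have hne : ∀ j, (A j).Nonempty := by
      intro j
      by_contra hempty
      rw [Finset.not_nonempty_iff_eq_empty] at hempty
      have := h {j}
      rw [Finset.singleton_biUnion, hempty, Finset.card_singleton] at this
      unfold sp at this
      rw [Finset.coe_empty, Set.image_empty, Submodule.span_empty, finrank_bot] at this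
      omega
    choose f hf using hne
    have hAj : ∀ j, A j = {f j} := by
      intro j
      have h1 : (A j).card = 1 := by
        have := hbig j
        have := Finset.card_pos.mpr ⟨f j, hf j⟩
        omega
      obtain ⟨z, hz⟩ := Finset.card_eq_one.mp h1
      have := hf j
      rw [hz, Finset.mem_singleton] at this
      rw [hz, this]
    refine ⟨f, hf, ?_⟩
    rw [linearIndependent_iff_card_le_finrank_span]
    have := h Finset.univ
    rw [Finset.card_univ] at this
    have hset : y '' ((Finset.univ.biUnion A : Finset ι) : Set ι) = Set.range (y ∘ f) := by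
      ext v
      simp only [Finset.coe_biUnion, Finset.coe_univ, Set.mem_univ, Set.iUnion_true, Set.mem_image,
        Set.mem_iUnion, Set.mem_range, Function.comp_apply]
      constructor
      · rintro ⟨z, ⟨j, hz⟩, rfl⟩
        rw [hAj j, Finset.coe_singleton, Set.mem_singleton_iff] at hz
        exact ⟨j, by rw [hz]⟩
      · rintro ⟨j, rfl⟩
        exact ⟨f j, ⟨j, by rw [hAj j]; simp⟩, rfl⟩
    unfold sp at this
    rw [hset] at this
    exact this

/-- **Rado–Horn theorem**: a finite family of vectors can be partitioned into `k` linearly independent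
subfamilies as soon as every subfamily of `s` vectors spans a subspace of dimension at least
`s / k`. -/
theorem exists_partition {V : Type*} [AddCommGroup V] [Module K V] [FiniteDimensional K V]
    {E : Type*} [Fintype E] [DecidableEq E] (x : E → V) (k : ℕ)
    (h : ∀ S : Finset E, S.card ≤ k * finrank K (Submodule.span K (x '' (S : Set E)))) :
    ∃ c : E → Fin k, ∀ i : Fin k, LinearIndependent K (fun e : {e // c e = i} => x e.1) := by
  classical
  let y : E × Fin k → (Fin k → V) := fun p => Pi.single p.2 (x p.1)
  let A : E → Finset (E × Fin k) := fun e => ({e} : Finset E) ×ˢ (Finset.univ : Finset (Fin k))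
  have hcond : ∀ S : Finset E, S.card ≤ finrank K (sp (K := K) y (S.biUnion A)) := by
    intro S
    refine le_trans (h S) ?_
    set U := Submodule.span K (x '' (S : Set E)) with hU
    let g : (Fin k → U) →ₗ[K] (Fin k → V) := LinearMap.pi (fun i => U.subtype ∘ₗ LinearMap.proj i)
    have hg_apply : ∀ a i, g a i = (a i : V) := fun a i => rfl
    have hg_inj : Function.Injective g := by
      intro a b hab
      funext i
      have := congrFun hab i
      rw [hg_apply, hg_apply] at this
      exact Subtype.ext this
    have hg_range : ∀ a, g a ∈ sp (K := K) y (S.biUnion A) := by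
      intro a
      have hsum : g a = ∑ i, Pi.single i ((a i : V)) := by
        funext j
        rw [Finset.sum_apply, hg_apply, Finset.sum_eq_single j]
        · rw [Pi.single_eq_same]
        · intro i _ hij
          rw [Pi.single_eq_of_ne (Ne.symm hij)]
        · intro hj
          exact absurd (Finset.mem_univ j) hj
      rw [hsum]
      apply Submodule.sum_mem
      intro i _
      have hmap : Submodule.map (LinearMap.single K (fun _ : Fin k => V) i) U ≤
          sp (K := K) y (S.biUnion A) := by
        rw [hU, Submodule.map_span]
        apply Submodule.span_mono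
        rintro _ ⟨_, ⟨e, he, rfl⟩, rfl⟩
        refine ⟨(e, i), ?_, rfl⟩
        rw [Finset.mem_coe, Finset.mem_biUnion]
        refine ⟨e, he, ?_⟩
        rw [Finset.mem_product]
        exact ⟨Finset.mem_singleton_self _, Finset.mem_univ _⟩
      exact hmap ⟨(a i : V), (a i).2, rfl⟩
    have hle : finrank K (Fin k → U) ≤ finrank K (sp (K := K) y (S.biUnion A)) :=
      LinearMap.finrank_le_finrank_of_injective (f := g.codRestrict _ hg_range)
        (fun a b hab => hg_inj (congrArg Subtype.val hab))
    rw [Module.finrank_pi_fintype, Finset.sum_const, Finset.card_univ, Fintype.card_fin,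
      smul_eq_mul] at hle
    exact hle
  obtain ⟨f, hf1, hf2⟩ := rado (K := K) y A hcond
  have hfst : ∀ e, (f e).1 = e := by
    intro e
    have := hf1 e
    rw [Finset.mem_product, Finset.mem_singleton] at this
    exact this.1
  refine ⟨fun e => (f e).2, fun i => ?_⟩
  have h1 : LinearIndependent K ((y ∘ f) ∘ (Subtype.val : {e // (f e).2 = i} → E)) :=
    hf2.comp _ Subtype.val_injective
  have h2 : (y ∘ f) ∘ (Subtype.val : {e // (f e).2 = i} → E) =
      (LinearMap.single K (fun _ : Fin k => V) i) ∘ (fun e : {e // (f e).2 = i} => x e.1) := by
    funext e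
    show (Pi.single (f e.1).2 (x (f e.1).1) : Fin k → V) = Pi.single i (x e.1)
    rw [hfst e.1, e.2]
  rw [h2] at h1
  exact h1.of_comp _

/-- covering with prescribed multiplicities by linearly independent sets: if the weights `w` satisfy
`w(T) ≤ k · dim span(x_T)` for all sets `T` of indices, there are `k` sets of indices, each indexing
a linearly independent subfamily, which cover every index `j` exactly `w j` times -/
theorem exists_cover {V : Type*} [AddCommGroup V] [Module K V] [FiniteDimensional K V]
    {ι : Type*} [Fintype ι] [DecidableEq ι] (x : ι → V) (w : ι → ℕ) (k : ℕ)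
    (h : ∀ T : Finset ι, ∑ j ∈ T, w j ≤ k * finrank K (Submodule.span K (x '' (T : Set ι)))) :
    ∃ S : Fin k → Finset ι, (∀ i, LinearIndependent K (fun j : S i => x j)) ∧
      ∀ j, (Finset.univ.filter (fun i => j ∈ S i)).card = w j := by
  classical
  let x' : (Σ j : ι, Fin (w j)) → V := fun e => x e.1
  have hcond : ∀ S : Finset (Σ j : ι, Fin (w j)),
      S.card ≤ k * finrank K (Submodule.span K (x' '' (S : Set (Σ j : ι, Fin (w j))))) := by
    intro S
    set T := S.image Sigma.fst with hT
    have h1 : S.card ≤ ∑ j ∈ T, w j := by
      have hsub : S ⊆ T.sigma (fun j => (Finset.univ : Finset (Fin (w j)))) := by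
        intro e he
        rw [Finset.mem_sigma]
        exact ⟨Finset.mem_image_of_mem _ he, Finset.mem_univ _⟩
      have := Finset.card_le_card hsub
      rw [Finset.card_sigma] at this
      simpa using this
    have h2 : x' '' (S : Set (Σ j : ι, Fin (w j))) = x '' (T : Set ι) := by
      ext v
      constructor
      · rintro ⟨e, he, rfl⟩
        exact ⟨e.1, Finset.mem_coe.mpr (Finset.mem_image_of_mem _ (Finset.mem_coe.mp he)), rfl⟩
      · rintro ⟨j, hj, rfl⟩
        rw [Finset.mem_coe, hT, Finset.mem_image] at hj
        obtain ⟨e, he, rfl⟩ := hj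
        exact ⟨e, Finset.mem_coe.mpr he, rfl⟩
    rw [h2]
    exact le_trans h1 (h T)
  obtain ⟨c, hc⟩ := exists_partition (K := K) x' k hcond
  -- two copies of one index lie in different classes
  have hinj : ∀ j (a b : Fin (w j)), c ⟨j, a⟩ = c ⟨j, b⟩ → a = b := by
    intro j a b hab
    have := (hc (c ⟨j, b⟩)).injective
      (a₁ := ⟨⟨j, a⟩, hab⟩) (a₂ := ⟨⟨j, b⟩, rfl⟩) rfl
    have h2 := congrArg Subtype.val this
    simpa using h2
  refine ⟨fun i => (Finset.univ.filter (fun e => c e = i)).image Sigma.fst, fun i => ?_, fun j => ?_⟩
  · have h1 : LinearIndepOn K (x ∘ Sigma.fst) {e : Σ j : ι, Fin (w j) | c e = i} := hc i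
    have h2 := LinearIndepOn.image_of_comp Sigma.fst x h1
    have h3 : (((Finset.univ.filter (fun e => c e = i)).image Sigma.fst : Finset ι) : Set ι) =
        Sigma.fst '' {e : Σ j : ι, Fin (w j) | c e = i} := by
      ext j
      simp
    rw [← h3] at h2
    exact h2
  · have h1 : Finset.univ.filter
        (fun i => j ∈ (Finset.univ.filter (fun e => c e = i)).image Sigma.fst) =
        (Finset.univ : Finset (Fin (w j))).image (fun a => c ⟨j, a⟩) := by
      ext i
      simp only [Finset.mem_filter, Finset.mem_univ, true_and, Finset.mem_image]
      constructor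
      · rintro ⟨⟨j', a⟩, he, rfl⟩
        exact ⟨a, he⟩
      · rintro ⟨a, ha⟩
        exact ⟨⟨j, a⟩, ha, rfl⟩
    rw [h1, Finset.card_image_of_injective _ (fun a b hab => hinj j a b hab), Finset.card_univ,
      Fintype.card_fin]

end Groth.Agent.Lib.Seat60.Rado
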