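import Groth.Agent.Lib.Seat60Rado

/-! Seat60: counting lemmas for multisets of sets of indices covering a configuration of vectors. -/

set_option autoImplicit false
set_option linter.unusedVariables false
set_option linter.unusedSectionVars false

namespace Groth.Agent.Lib.Seat60.Rado

open Module

variable {K : Type*} [Field K] {V : Type*} [AddCommGroup V] [Module K V] [FiniteDimensional K V]
variable {ι : Type*} [Fintype ι] [DecidableEq ι]

/-- double counting: the multiplicities with which a multiset of sets covers the elements of `T` add
up to the sum of the sizes of the traces on `T` -/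
lemma sum_cover_eq (P : Multiset (Finset ι)) (T : Finset ι) :
    ∑ j ∈ T, Multiset.card (P.filter (fun S => j ∈ S)) =
      (P.map (fun S => (S ∩ T).card)).sum := by
  induction P using Multiset.induction_on with
  | empty => simp
  | cons S P ih =>
    rw [Multiset.map_cons, Multiset.sum_cons, ← ih]
    have h1 : ∀ j, Multiset.card ((S ::ₘ P).filter (fun S => j ∈ S)) =
        (if j ∈ S then 1 else 0) + Multiset.card (P.filter (fun S => j ∈ S)) := by
      intro j
      by_cases hj : j ∈ S
      · rw [Multiset.filter_cons_of_pos (p := fun S => j ∈ S) P hj, Multiset.card_cons, if_pos hj, add_comm]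
      · rw [Multiset.filter_cons_of_neg (p := fun S => j ∈ S) P hj, if_neg hj, zero_add]
    simp only [h1]
    rw [Finset.sum_add_distrib]
    congr 1
    rw [← Finset.card_filter, Finset.inter_comm, Finset.filter_mem_eq_inter]

/-- a linearly independent subfamily meets a subspace `L` in at most `dim L` vectors -/
lemma card_inter_le (x : ι → V) (S T : Finset ι) (L : Submodule K V)
    (hS : LinearIndependent K (fun j : S => x j)) (hT : ∀ j ∈ T, x j ∈ L) :
    (S ∩ T).card ≤ finrank K L := by
  classical
  let g : (S ∩ T : Finset ι) → L := fun j =>
    ⟨x j.1, hT j.1 (Finset.mem_of_mem_inter_right j.2)⟩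
  have hg : LinearIndependent K g := by
    apply LinearIndependent.of_comp L.subtype
    have : L.subtype ∘ g = (fun j : S => x j) ∘
        (fun j : (S ∩ T : Finset ι) => (⟨j.1, Finset.mem_of_mem_inter_left j.2⟩ : S)) := rfl
    rw [this]
    apply hS.comp
    intro a b hab
    exact Subtype.ext (Subtype.mk.inj hab)
  have := hg.fintype_card_le_finrank
  rwa [Fintype.card_coe] at this

/-- double counting for a family of sets indexed by `Fin k` -/
lemma sum_card_eq {k : ℕ} (S : Fin k → Finset ι) :
    ∑ i, (S i).card = ∑ j, (Finset.univ.filter (fun i => j ∈ S i)).card := by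
  have h1 : ∀ i, (S i).card = ∑ j, (if j ∈ S i then 1 else 0) := by
    intro i
    rw [← Finset.card_filter, Finset.filter_mem_eq_inter, Finset.univ_inter]
  have h2 : ∀ j, (Finset.univ.filter (fun i => j ∈ S i)).card = ∑ i, (if j ∈ S i then 1 else 0) := by
    intro j
    rw [Finset.card_filter]
  simp only [h1, h2]
  exact Finset.sum_comm

end Groth.Agent.Lib.Seat60.Rado
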