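import Groth.Agent.Lib.Seat60ThreePtD

/-!
# Three ramification points: characteristic arguments (seat 60)
-/

set_option autoImplicit false
universe u
open Polynomial Function

namespace Groth.Agent.Lib.Seat60.ThreePt

open W4c1limliniiii
open Groth.Agent.S19560.Aux.WronRam (wron_change)

variable {k : Type u} [Field k]

theorem eq_C_of_derivative_eq_zero (p : ℕ) [CharP k p] (d : ℕ) (hp : p = 0 ∨ d < p) (F : k[X])
    (hF : F.natDegree ≤ d) (hd : derivative F = 0) : F = C (F.coeff 0) := by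
  apply eq_C_of_natDegree_eq_zero
  by_contra hne
  obtain ⟨n, hn⟩ : ∃ n, F.natDegree = n + 1 := Nat.exists_eq_succ_of_ne_zero hne
  have h1 : (derivative F).coeff n = 0 := by rw [hd, coeff_zero]
  rw [coeff_derivative, ← hn, coeff_natDegree] at h1
  have hF0 : F ≠ 0 := by
    rintro rfl
    simp at hne
  rcases mul_eq_zero.mp h1 with h | h
  · exact hF0 (leadingCoeff_eq_zero.mp h)
  · have h2 : ((n + 1 : ℕ) : k) = 0 := by
      push_cast
      exact h
    rw [CharP.cast_eq_zero_iff k p] at h2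
    rcases hp with rfl | hp
    · simp at h2
    · have := Nat.le_of_dvd (Nat.succ_pos n) h2
      omega

theorem dependent_of_wronskian_eq_zero (p : ℕ) [CharP k p] (d : ℕ) (hp : p = 0 ∨ d < p)
    (F G : k[X]) (hF : F.natDegree ≤ d) (hG : G.natDegree ≤ d) (hG0 : G ≠ 0)
    (hW : wronskian F G = 0) : ∃ c : k, F = c • G := by
  classical
  by_cases hF0 : F = 0
  · exact ⟨0, by rw [hF0, zero_smul]⟩
  obtain ⟨D, hD⟩ : ∃ D, D = EuclideanDomain.gcd F G := ⟨_, rfl⟩
  have hD0 : D ≠ 0 := by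
    intro h
    rw [hD] at h
    exact hG0 (EuclideanDomain.gcd_eq_zero_iff.mp h).2
  obtain ⟨F1, hF1⟩ : D ∣ F := hD ▸ EuclideanDomain.gcd_dvd_left F G
  obtain ⟨G1, hG1⟩ : D ∣ G := hD ▸ EuclideanDomain.gcd_dvd_right F G
  obtain ⟨a, b, hab⟩ : ∃ a b, D = F * a + G * b :=
    ⟨EuclideanDomain.gcdA F G, EuclideanDomain.gcdB F G, by
      rw [hD]
      exact EuclideanDomain.gcd_eq_gcd_ab F G⟩
  have hcop : IsCoprime F1 G1 := by
    refine ⟨a, b, ?_⟩
    have h2 : D * (a * F1 + b * G1) = D * 1 := by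
      rw [mul_one]
      conv_rhs => rw [hab, hF1, hG1]
      ring
    exact mul_left_cancel₀ hD0 h2
  have hW1 : wronskian F1 G1 = 0 := by
    have h := wron_mul_mul D F1 G1
    rw [← hF1, ← hG1, hW] at h
    rcases mul_eq_zero.mp h.symm with h' | h'
    · exact absurd (pow_eq_zero_iff (by norm_num) |>.mp h') hD0
    · exact h'
  obtain ⟨hdF1, hdG1⟩ := hcop.wronskian_eq_zero_iff.mp hW1
  have hF1deg : F1.natDegree ≤ d :=
    (natDegree_le_of_dvd (Dvd.intro_left _ hF1.symm) hF0).trans hF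
  have hG1deg : G1.natDegree ≤ d :=
    (natDegree_le_of_dvd (Dvd.intro_left _ hG1.symm) hG0).trans hG
  have hF1C := eq_C_of_derivative_eq_zero p d hp F1 hF1deg hdF1
  have hG1C := eq_C_of_derivative_eq_zero p d hp G1 hG1deg hdG1
  obtain ⟨f, rfl⟩ : ∃ f, F1 = C f := ⟨_, hF1C⟩
  obtain ⟨g, rfl⟩ : ∃ g, G1 = C g := ⟨_, hG1C⟩
  have hg : g ≠ 0 := by
    rintro rfl
    rw [C_0, mul_zero] at hG1
    exact hG0 hG1
  refine ⟨f / g, ?_⟩
  rw [smul_eq_C_mul, hF1, hG1, div_eq_mul_inv, C_mul]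
  have : C g⁻¹ * C g = (1 : k[X]) := by rw [← C_mul, inv_mul_cancel₀ hg, C_1]
  calc D * C f = D * C f * (C g⁻¹ * C g) := by rw [this, mul_one]
    _ = C f * C g⁻¹ * (D * C g) := by ring

section

variable {d : ℕ} {P : Fin 3 → k} {e : Fin 3 → ℕ} [IsAlgClosed k]

/-- Existence and uniqueness when `p = 0` or `d < p`. -/
theorem exists_eq_singleton {p : ℕ} [CharP k p] (hP : Injective P) (he : Admissible p d e)
    (hp : p = 0 ∨ d < p) : ∃ V : Submodule k k[X], ramMaps d P e = {V} := by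
  have hle : ∀ i, e i ≤ d := fun i => (he.1 i).2.1
  obtain ⟨F, G, hT, hF0, hG0, hFG0⟩ := exists_triple (k := k) hP hle (sum3 he)
  have hFm : F ∈ Submodule.span k ({F, G} : Set k[X]) := Submodule.subset_span (by simp)
  have hGm : G ∈ Submodule.span k ({F, G} : Set k[X]) := Submodule.subset_span (by simp)
  have hs : ∀ i, ∃ s ∈ Submodule.span k ({F, G} : Set k[X]), s ≠ 0 ∧ (X - C (P i)) ^ (e i) ∣ s := by
    intro i
    fin_cases i
    · exact ⟨F, hFm, hF0, hT.2.2.1⟩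
    · exact ⟨G, hGm, hG0, hT.2.2.2.1⟩
    · exact ⟨F - G, Submodule.sub_mem _ hFm hGm, hFG0, hT.2.2.2.2⟩
  have hW : wronskian F G ≠ 0 := by
    intro hW
    obtain ⟨c, hc⟩ := dependent_of_wronskian_eq_zero p d hp F G hT.1 hT.2.1 hG0 hW
    apply hF0
    apply eq_zero_of_two hP hle (sum3 he) (i := 0) (j := 1) (by decide) F hT.1 hT.2.2.1
    rw [hc, smul_eq_C_mul]
    exact Dvd.dvd.mul_left hT.2.2.2.1 _
  have hmem := mem_ramMaps_of_wronskian_ne_zero d P hP e (fun i => le_trans (by norm_num) (he.1 i).1)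
    he.2 (le_trans (he.1 0).1 (he.1 0).2.1) F G hT.1 hT.2.1 hW hs
  exact ⟨_, (ramMaps_subsingleton hP he).eq_singleton_of_mem hmem⟩

end

end Groth.Agent.Lib.Seat60.ThreePt
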