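import Groth.Agent.Lib.Seat60FiniteFibre
import Groth.Agent.Lib.Seat60ThreePtE

/-!
# Finiteness of `ramMaps` in characteristic zero or `d < p`: the generic normalised pencil (seat 60)

The generic pair `F = X^d + Σ_{i<d-1} f_i X^i`, `G = X^(d-1) + Σ_{j<d-1} g_j X^j` over the polynomial
ring in the `f_i, g_j`; the coefficients of its Wronskian are weighted homogeneous.
-/

set_option autoImplicit false
universe u
open Polynomial

namespace Groth.Agent.Lib.Seat60.RamFin

/-- Index type of the unknown coefficients. -/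
abbrev Idx (d : ℕ) := Fin (d - 1) ⊕ Fin (d - 1)

/-- Weights: `f_i ↦ d - i`, `g_j ↦ d - 1 - j`. -/
def wt (d : ℕ) : Idx d → ℕ
  | Sum.inl i => d - i
  | Sum.inr j => d - 1 - j

theorem wt_pos (d : ℕ) (x : Idx d) : 0 < wt d x := by
  rcases x with i | j
  · have := i.2
    simp only [wt]
    omega
  · have := j.2
    simp only [wt]
    omega

variable (k : Type u) [Field k]

/-- The generic monic polynomial of degree `d` without `X^(d-1)` term. -/
noncomputable def Fgen (d : ℕ) : (MvPolynomial (Idx d) k)[X] :=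
  X ^ d + ∑ i : Fin (d - 1), Polynomial.monomial (i : ℕ) (MvPolynomial.X (Sum.inl i))

/-- The generic monic polynomial of degree `d - 1`. -/
noncomputable def Ggen (d : ℕ) : (MvPolynomial (Idx d) k)[X] :=
  X ^ (d - 1) + ∑ j : Fin (d - 1), Polynomial.monomial (j : ℕ) (MvPolynomial.X (Sum.inr j))

variable {k}

/-- A polynomial over the coefficient ring is graded of weight `N`: its `i`-th coefficient is weighted
homogeneous of degree `N - i` and vanishes for `i > N`. -/
def IsGr (d N : ℕ) (Q : (MvPolynomial (Idx d) k)[X]) : Prop :=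
  ∀ i, MvPolynomial.IsWeightedHomogeneous (wt d) (Q.coeff i) (N - i) ∧ (N < i → Q.coeff i = 0)

variable {d : ℕ}

theorem IsGr.mul {N1 N2 : ℕ} {Q1 Q2 : (MvPolynomial (Idx d) k)[X]} (h1 : IsGr d N1 Q1)
    (h2 : IsGr d N2 Q2) : IsGr d (N1 + N2) (Q1 * Q2) := by
  intro i
  rw [coeff_mul]
  constructor
  · apply MvPolynomial.IsWeightedHomogeneous.sum
    intro x hx
    have hx' : x.1 + x.2 = i := Finset.HasAntidiagonal.mem_antidiagonal.mp hx
    by_cases ha : N1 < x.1
    · rw [(h1 x.1).2 ha, zero_mul]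
      exact MvPolynomial.isWeightedHomogeneous_zero _ _ _
    by_cases hb : N2 < x.2
    · rw [(h2 x.2).2 hb, mul_zero]
      exact MvPolynomial.isWeightedHomogeneous_zero _ _ _
    have : N1 + N2 - i = (N1 - x.1) + (N2 - x.2) := by omega
    rw [this]
    exact (h1 x.1).1.mul (h2 x.2).1
  · intro hi
    apply Finset.sum_eq_zero
    intro x hx
    have hx' : x.1 + x.2 = i := Finset.HasAntidiagonal.mem_antidiagonal.mp hx
    by_cases ha : N1 < x.1
    · rw [(h1 x.1).2 ha, zero_mul]
    · have hb : N2 < x.2 := by omega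
      rw [(h2 x.2).2 hb, mul_zero]

theorem IsGr.derivative {N : ℕ} {Q : (MvPolynomial (Idx d) k)[X]} (h : IsGr d N Q) :
    IsGr d (N - 1) (derivative Q) := by
  intro i
  rw [coeff_derivative]
  constructor
  · have h1 : N - 1 - i = (N - (i + 1)) + 0 := by omega
    rw [h1]
    refine (h (i + 1)).1.mul ?_
    have h2 : ((i : MvPolynomial (Idx d) k) + 1) = MvPolynomial.C ((i : k) + 1) := by simp
    rw [h2]
    exact MvPolynomial.isWeightedHomogeneous_C _ _
  · intro hi
    rw [(h (i + 1)).2 (by omega), zero_mul]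

theorem IsGr.sub {N : ℕ} {Q1 Q2 : (MvPolynomial (Idx d) k)[X]} (h1 : IsGr d N Q1)
    (h2 : IsGr d N Q2) : IsGr d N (Q1 - Q2) := by
  intro i
  rw [coeff_sub]
  exact ⟨(h1 i).1.sub (h2 i).1, fun hi => by rw [(h1 i).2 hi, (h2 i).2 hi, sub_zero]⟩

theorem IsGr.add {N : ℕ} {Q1 Q2 : (MvPolynomial (Idx d) k)[X]} (h1 : IsGr d N Q1)
    (h2 : IsGr d N Q2) : IsGr d N (Q1 + Q2) := by
  intro i
  rw [coeff_add]
  exact ⟨(h1 i).1.add (h2 i).1, fun hi => by rw [(h1 i).2 hi, (h2 i).2 hi, add_zero]⟩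

theorem IsGr.sum {N : ℕ} {ι : Type*} (s : Finset ι) (Q : ι → (MvPolynomial (Idx d) k)[X])
    (h : ∀ i ∈ s, IsGr d N (Q i)) : IsGr d N (∑ i ∈ s, Q i) := by
  intro n
  rw [finsetSum_coeff]
  refine ⟨MvPolynomial.IsWeightedHomogeneous.sum _ _ _ fun i hi => (h i hi n).1, fun hn => ?_⟩
  exact Finset.sum_eq_zero fun i hi => (h i hi n).2 hn

theorem isGr_X_pow (n : ℕ) : IsGr d n (X ^ n : (MvPolynomial (Idx d) k)[X]) := by
  intro i
  rw [coeff_X_pow]
  constructor
  · split_ifs with h
    · rw [h, Nat.sub_self]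
      exact MvPolynomial.isWeightedHomogeneous_one _ _
    · exact MvPolynomial.isWeightedHomogeneous_zero _ _ _
  · intro hi
    rw [if_neg (by omega)]

theorem isGr_monomial (N j : ℕ) (hj : j ≤ N) (a : MvPolynomial (Idx d) k)
    (ha : MvPolynomial.IsWeightedHomogeneous (wt d) a (N - j)) :
    IsGr d N (Polynomial.monomial j a) := by
  intro i
  rw [coeff_monomial]
  constructor
  · split_ifs with h
    · rw [← h]
      exact ha
    · exact MvPolynomial.isWeightedHomogeneous_zero _ _ _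
  · intro hi
    rw [if_neg (by omega)]

theorem isGr_Fgen : IsGr d d (Fgen k d) := by
  unfold Fgen
  refine (isGr_X_pow d).add (IsGr.sum _ _ fun i _ => ?_)
  have := i.2
  refine isGr_monomial d i (by omega) _ ?_
  exact MvPolynomial.isWeightedHomogeneous_X _ _ _

theorem isGr_Ggen : IsGr d (d - 1) (Ggen k d) := by
  unfold Ggen
  refine (isGr_X_pow (d - 1)).add (IsGr.sum _ _ fun j _ => ?_)
  have := j.2
  refine isGr_monomial (d - 1) j (by omega) _ ?_
  exact MvPolynomial.isWeightedHomogeneous_X _ _ _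

theorem isGr_wronskian (hd : 2 ≤ d) : IsGr d (2 * d - 2) (wronskian (Fgen k d) (Ggen k d)) := by
  unfold wronskian
  have h1 := (isGr_Fgen (k := k) (d := d)).mul (isGr_Ggen (k := k) (d := d)).derivative
  have h2 := (isGr_Fgen (k := k) (d := d)).derivative.mul (isGr_Ggen (k := k) (d := d))
  have e1 : d + (d - 1 - 1) = 2 * d - 2 := by omega
  have e2 : d - 1 + (d - 1) = 2 * d - 2 := by omega
  rw [e1] at h1
  rw [e2] at h2
  exact h1.sub h2

/-- The coefficient polynomials of the generic Wronskian. -/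
noncomputable def wgen (k : Type u) [Field k] (d : ℕ) (m : Fin (2 * d - 2)) :
    MvPolynomial (Idx d) k :=
  (wronskian (Fgen k d) (Ggen k d)).coeff m

theorem wgen_homogeneous (hd : 2 ≤ d) (m : Fin (2 * d - 2)) :
    MvPolynomial.IsWeightedHomogeneous (wt d) (wgen k d m) (2 * d - 2 - m) :=
  (isGr_wronskian hd m).1

end Groth.Agent.Lib.Seat60.RamFin
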