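import Groth.Agent.Lib.Seat60RamFinA

/-!
# Finiteness of `ramMaps`: specialisation of the generic normalised pencil (seat 60)
-/

set_option autoImplicit false
universe u
open Polynomial

namespace Groth.Agent.Lib.Seat60.RamFin

variable {k : Type u} [Field k] {d : ℕ}

theorem sum_fin_ite {m : ℕ} (c : Fin m → k) (n : ℕ) :
    (∑ i : Fin m, if (i : ℕ) = n then c i else 0) = if h : n < m then c ⟨n, h⟩ else 0 := by
  split_ifs with h
  · rw [Finset.sum_eq_single (⟨n, h⟩ : Fin m)]
    · simp
    · intro b _ hb
      rw [if_neg]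
      intro hbn
      apply hb
      exact Fin.ext hbn
    · intro hn
      exact absurd (Finset.mem_univ _) hn
  · apply Finset.sum_eq_zero
    intro i _
    rw [if_neg]
    have := i.2
    omega

/-- The specialisation of the generic `F` at `y`. -/
noncomputable def Fy (d : ℕ) (y : Idx d → k) : k[X] := (Fgen k d).map (MvPolynomial.eval y)

/-- The specialisation of the generic `G` at `y`. -/
noncomputable def Gy (d : ℕ) (y : Idx d → k) : k[X] := (Ggen k d).map (MvPolynomial.eval y)

theorem map_wronskian {R S : Type*} [CommRing R] [CommRing S] (f : R →+* S) (F G : R[X]) :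
    (wronskian F G).map f = wronskian (F.map f) (G.map f) := by
  simp [wronskian, Polynomial.map_sub, Polynomial.map_mul, derivative_map]

theorem eval_wgen (y : Idx d → k) (m : Fin (2 * d - 2)) :
    MvPolynomial.eval y (wgen k d m) = (wronskian (Fy d y) (Gy d y)).coeff m := by
  unfold wgen Fy Gy
  rw [← map_wronskian, coeff_map]

theorem Fy_coeff (y : Idx d → k) (n : ℕ) :
    (Fy d y).coeff n = (if n = d then 1 else 0) +
      if h : n < d - 1 then y (Sum.inl ⟨n, h⟩) else 0 := by
  unfold Fy Fgen
  rw [Polynomial.map_add, Polynomial.map_pow, map_X, Polynomial.map_sum, coeff_add, coeff_X_pow,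
    finsetSum_coeff]
  congr 1
  rw [← sum_fin_ite (fun i : Fin (d - 1) => y (Sum.inl i)) n]
  refine Finset.sum_congr rfl fun i _ => ?_
  rw [map_monomial, coeff_monomial, MvPolynomial.eval_X]

theorem Gy_coeff (y : Idx d → k) (n : ℕ) :
    (Gy d y).coeff n = (if n = d - 1 then 1 else 0) +
      if h : n < d - 1 then y (Sum.inr ⟨n, h⟩) else 0 := by
  unfold Gy Ggen
  rw [Polynomial.map_add, Polynomial.map_pow, map_X, Polynomial.map_sum, coeff_add, coeff_X_pow,
    finsetSum_coeff]
  congr 1
  rw [← sum_fin_ite (fun i : Fin (d - 1) => y (Sum.inr i)) n]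
  refine Finset.sum_congr rfl fun i _ => ?_
  rw [map_monomial, coeff_monomial, MvPolynomial.eval_X]

theorem Fy_natDegree_le (y : Idx d → k) : (Fy d y).natDegree ≤ d := by
  rw [natDegree_le_iff_coeff_eq_zero]
  intro N hN
  rw [Fy_coeff, if_neg (by omega), dif_neg (by omega), add_zero]

theorem Gy_natDegree_le (y : Idx d → k) : (Gy d y).natDegree ≤ d - 1 := by
  rw [natDegree_le_iff_coeff_eq_zero]
  intro N hN
  rw [Gy_coeff, if_neg (by omega), dif_neg (by omega), add_zero]

theorem Fy_coeff_top (y : Idx d → k) : (Fy d y).coeff d = 1 := by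
  rw [Fy_coeff, if_pos rfl, dif_neg (by omega), add_zero]

theorem Gy_coeff_top (y : Idx d → k) : (Gy d y).coeff (d - 1) = 1 := by
  rw [Gy_coeff, if_pos rfl, dif_neg (by omega), add_zero]

theorem Fy_coeff_pred (hd : 1 ≤ d) (y : Idx d → k) : (Fy d y).coeff (d - 1) = 0 := by
  rw [Fy_coeff, if_neg (by omega), dif_neg (by omega), add_zero]

theorem Fy_natDegree (y : Idx d → k) : (Fy d y).natDegree = d := by
  apply le_antisymm (Fy_natDegree_le y)
  apply le_natDegree_of_ne_zero
  rw [Fy_coeff_top]
  exact one_ne_zero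

theorem Gy_natDegree (y : Idx d → k) : (Gy d y).natDegree = d - 1 := by
  apply le_antisymm (Gy_natDegree_le y)
  apply le_natDegree_of_ne_zero
  rw [Gy_coeff_top]
  exact one_ne_zero

/-- Every normalised pair is a specialisation. -/
theorem exists_y_of_normalized (hd : 1 ≤ d) (F G : k[X]) (hF : F.natDegree = d) (hFm : F.Monic)
    (hFp : F.coeff (d - 1) = 0) (hG : G.natDegree = d - 1) (hGm : G.Monic) :
    ∃ y : Idx d → k, Fy d y = F ∧ Gy d y = G := by
  refine ⟨Sum.elim (fun i => F.coeff i) (fun j => G.coeff j), ?_, ?_⟩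
  · ext n
    rw [Fy_coeff]
    by_cases h1 : n < d - 1
    · rw [if_neg (by omega), dif_pos h1, zero_add]
      rfl
    · rw [dif_neg h1, add_zero]
      by_cases h2 : n = d
      · rw [if_pos h2, h2, ← hF]
        exact hFm.coeff_natDegree.symm
      · rw [if_neg h2]
        by_cases h3 : n = d - 1
        · rw [h3, hFp]
        · rw [coeff_eq_zero_of_natDegree_lt]
          omega
  · ext n
    rw [Gy_coeff]
    by_cases h1 : n < d - 1
    · rw [if_neg (by omega), dif_pos h1, zero_add]
      rfl
    · rw [dif_neg h1, add_zero]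
      by_cases h2 : n = d - 1
      · rw [if_pos h2, h2, ← hG]
        exact hGm.coeff_natDegree.symm
      · rw [if_neg h2, coeff_eq_zero_of_natDegree_lt]
        omega

theorem y_eq_zero_of (hd : 1 ≤ d) (y : Idx d → k) (hF : Fy d y = X ^ d) (hG : Gy d y = X ^ (d - 1)) :
    y = 0 := by
  funext x
  rcases x with i | j
  · have h := Fy_coeff y i
    have hi := i.2
    rw [hF, coeff_X_pow, if_neg (by omega), dif_pos hi, zero_add] at h
    exact h.symm
  · have h := Gy_coeff y j
    have hj := j.2
    rw [hG, coeff_X_pow, if_neg (by omega), dif_pos hj, zero_add] at h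
    exact h.symm

end Groth.Agent.Lib.Seat60.RamFin
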