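import Groth.Agent.Lib.Seat60RamFinB

/-!
# Finiteness of `ramMaps`: the generic Wronskian system has only the trivial zero (seat 60)
-/

set_option autoImplicit false
universe u
open Polynomial

namespace Groth.Agent.Lib.Seat60.RamFin

open Groth.Agent.Lib.Seat60.ThreePt

variable {k : Type u} [Field k]

theorem coeff_wronskian_top (d : ℕ) (hd : 2 ≤ d) (F G : k[X]) (hF : F.natDegree ≤ d)
    (hG : G.natDegree ≤ d - 1) :
    (wronskian F G).coeff (2 * d - 2) = -(F.coeff d * G.coeff (d - 1)) := by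
  obtain ⟨e, rfl⟩ : ∃ e, d = e + 2 := ⟨d - 2, by omega⟩
  have hG1 : G.natDegree ≤ e + 1 := by omega
  have hG' : (derivative G).natDegree ≤ e := by
    have := natDegree_derivative_le G
    omega
  have hF' : (derivative F).natDegree ≤ e + 1 := by
    have := natDegree_derivative_le F
    omega
  unfold wronskian
  rw [coeff_sub]
  have e1 : 2 * (e + 2) - 2 = (e + 2) + e := by omega
  have e2 : (e + 2) + e = (e + 1) + (e + 1) := by omega
  have e3 : e + 2 - 1 = e + 1 := by omega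
  rw [e1, coeff_mul_add_eq_of_natDegree_le hF hG', e2, coeff_mul_add_eq_of_natDegree_le hF' hG1,
    coeff_derivative, coeff_derivative, e3]
  push_cast
  ring

theorem X_mul_derivative_pow_mul (n : ℕ) (u : k[X]) :
    X * derivative (X ^ n * u) = C (n : k) * (X ^ n * u) + X ^ (n + 1) * derivative u := by
  rw [derivative_mul, derivative_X_pow]
  cases n with
  | zero => simp
  | succ m =>
    simp only [Nat.add_sub_cancel]
    ring

theorem order_eq (S1 T1 : k[X]) (a b N : ℕ) (a0 : k) (hS : S1.eval 0 ≠ 0) (hT : T1.eval 0 ≠ 0)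
    (hab : (b : k) - (a : k) ≠ 0) (ha0 : a0 ≠ 0)
    (hW : wronskian (X ^ a * S1) (X ^ b * T1) = C a0 * X ^ N) : a + b = N + 1 := by
  obtain ⟨Q, hQ⟩ : ∃ Q : k[X], Q = C ((b : k) - (a : k)) * S1 * T1
      + X * (S1 * derivative T1 - derivative S1 * T1) := ⟨_, rfl⟩
  have hQ0 : Q.eval 0 ≠ 0 := by
    rw [hQ]
    simp only [eval_add, eval_mul, eval_C, eval_X, zero_mul, add_zero]
    exact mul_ne_zero (mul_ne_zero hab hS) hT
  have hXW : X ^ (a + b) * Q = C a0 * X ^ (N + 1) := by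
    have h1 : X * wronskian (X ^ a * S1) (X ^ b * T1) = X ^ (a + b) * Q := by
      unfold wronskian
      rw [mul_sub, ← mul_assoc X, mul_comm X (X ^ a * S1), mul_assoc (X ^ a * S1),
        X_mul_derivative_pow_mul, ← mul_assoc X, X_mul_derivative_pow_mul, hQ, C_sub]
      ring
    rw [← h1, hW]
    ring
  rcases lt_trichotomy (a + b) (N + 1) with h | h | h
  · exfalso
    obtain ⟨r, hr⟩ := Nat.exists_eq_add_of_lt h
    have h2 : X ^ (a + b) * Q = X ^ (a + b) * (C a0 * X ^ (r + 1)) := by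
      rw [hXW, hr]
      ring
    have h3 := mul_left_cancel₀ (pow_ne_zero _ X_ne_zero) h2
    apply hQ0
    rw [h3]
    simp
  · exact h
  · exfalso
    obtain ⟨r, hr⟩ := Nat.exists_eq_add_of_lt h
    have h2 : X ^ (N + 1) * (X ^ (r + 1) * Q) = X ^ (N + 1) * C a0 := by
      have hr' : N + 1 + (r + 1) = a + b := by omega
      rw [← mul_assoc, ← pow_add, hr', hXW]
      ring
    have h3 := mul_left_cancel₀ (pow_ne_zero _ X_ne_zero) h2
    have h4 := congrArg (Polynomial.eval 0) h3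
    simp at h4
    exact ha0 h4.symm

theorem cast_sub_ne_zero (p : ℕ) [CharP k p] (d : ℕ) (hp : p = 0 ∨ d < p) (a b : ℕ) (ha : a ≤ d)
    (hb : b ≤ d) (hab : a ≠ b) : (b : k) - (a : k) ≠ 0 := by
  have key : ∀ n : ℕ, 1 ≤ n → n ≤ d → (n : k) ≠ 0 := by
    intro n h1 h2 h0
    rw [CharP.cast_eq_zero_iff k p] at h0
    rcases hp with rfl | hp
    · simp at h0
      omega
    · have := Nat.le_of_dvd (by omega) h0
      omega
  rcases lt_or_gt_of_ne hab with h | h
  · have := key (b - a) (by omega) (by omega)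
    rwa [Nat.cast_sub h.le] at this
  · have := key (a - b) (by omega) (by omega)
    rw [Nat.cast_sub h.le] at this
    intro h0
    apply this
    rw [← neg_sub, h0, neg_zero]

theorem eq_X_pow_of_monic_of_dvd (n : ℕ) (Q : k[X]) (hQ : Q.Monic) (hn : Q.natDegree = n)
    (h : X ^ n ∣ Q) : Q = X ^ n := by
  obtain ⟨Q1, hQ1⟩ := h
  have hQ10 : Q1 ≠ 0 := by
    rintro rfl
    rw [mul_zero] at hQ1
    exact hQ.ne_zero hQ1
  have hdeg : Q.natDegree = n + Q1.natDegree := by
    rw [hQ1, natDegree_mul (pow_ne_zero _ X_ne_zero) hQ10, natDegree_X_pow]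
  have hQ1deg : Q1.natDegree = 0 := by omega
  obtain ⟨g, hg⟩ : ∃ g, Q1 = C g := ⟨_, eq_C_of_natDegree_eq_zero hQ1deg⟩
  have hlead : Q.leadingCoeff = g := by
    rw [hQ1, hg, leadingCoeff_mul, leadingCoeff_X_pow, one_mul, leadingCoeff_C]
  rw [hQ.leadingCoeff] at hlead
  rw [hQ1, hg, ← hlead, C_1, mul_one]

theorem wronskian_sub_C_mul (F G : k[X]) (c : k) :
    wronskian (F - C c * G) G = wronskian F G := by
  unfold wronskian
  rw [derivative_sub, derivative_C_mul]
  ring

theorem wronskian_Fy_Gy (d : ℕ) (hd : 2 ≤ d) (y : Idx d → k)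
    (hy : ∀ m : Fin (2 * d - 2), MvPolynomial.eval y (wgen k d m) = 0) :
    wronskian (Fy d y) (Gy d y) = C (-1 : k) * X ^ (2 * d - 2) := by
  ext n
  rw [coeff_C_mul, coeff_X_pow]
  by_cases h1 : n < 2 * d - 2
  · have := hy ⟨n, h1⟩
    rw [eval_wgen] at this
    rw [this, if_neg (by omega), mul_zero]
  · by_cases h2 : n = 2 * d - 2
    · rw [if_pos h2, h2, coeff_wronskian_top d hd _ _ (Fy_natDegree_le y) (Gy_natDegree_le y),
        Fy_coeff_top, Gy_coeff_top]
      ring
    · rw [if_neg h2, mul_zero]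
      apply coeff_eq_zero_of_natDegree_lt
      have := natDegree_wronskian_le d _ _ (Fy_natDegree_le y)
        ((Gy_natDegree_le y).trans (Nat.sub_le _ _))
      omega

theorem trivial_zero (p : ℕ) [CharP k p] (d : ℕ) (hd : 2 ≤ d) (hp : p = 0 ∨ d < p)
    (y : Idx d → k) (hy : ∀ m : Fin (2 * d - 2), MvPolynomial.eval y (wgen k d m) = 0) :
    y = 0 := by
  have hW := wronskian_Fy_Gy d hd y hy
  have hFdeg := Fy_natDegree (k := k) y
  have hGdeg := Gy_natDegree (k := k) y
  have hFtop := Fy_coeff_top (k := k) y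
  have hGtop := Gy_coeff_top (k := k) y
  have hFpred := Fy_coeff_pred (k := k) (by omega : 1 ≤ d) y
  obtain ⟨F, hFdef⟩ : ∃ F, F = Fy d y := ⟨_, rfl⟩
  obtain ⟨G, hGdef⟩ : ∃ G, G = Gy d y := ⟨_, rfl⟩
  rw [← hFdef, ← hGdef] at hW
  rw [← hFdef] at hFdeg hFtop hFpred
  rw [← hGdef] at hGdeg hGtop
  have hG0 : G ≠ 0 := by
    rintro rfl
    simp at hGtop
  have hF0 : F ≠ 0 := by
    rintro rfl
    simp at hFtop
  have hGmonic : G.Monic := by
    rw [Monic, leadingCoeff, hGdeg, hGtop]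
  obtain ⟨G1, hG1, hG1dvd⟩ := exists_eq_pow_rootMultiplicity_mul_and_not_dvd G hG0 0
  have hG1a : G1.eval 0 ≠ 0 := fun h => hG1dvd (dvd_iff_isRoot.mpr h)
  simp only [C_0, sub_zero] at hG1
  obtain ⟨b, hb⟩ : ∃ b, b = rootMultiplicity 0 G := ⟨_, rfl⟩
  rw [← hb] at hG1
  have hbd : b ≤ d - 1 := by
    have := natDegree_le_of_dvd (Dvd.intro _ hG1.symm) hG0
    rw [natDegree_X_pow] at this
    omega
  have hFt0 : ∀ c : k, F - C c * G ≠ 0 := by
    intro c h
    have h1 : F.natDegree = (C c * G).natDegree := by rw [sub_eq_zero.mp h]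
    have h2 := natDegree_C_mul_le c G
    omega
  obtain ⟨c, a', F2, hF2, hF2a, ha'b⟩ : ∃ (c : k) (a' : ℕ) (F2 : k[X]),
      F - C c * G = X ^ a' * F2 ∧ F2.eval 0 ≠ 0 ∧ a' ≠ b := by
    obtain ⟨F1, hF1, hF1dvd⟩ := exists_eq_pow_rootMultiplicity_mul_and_not_dvd F hF0 0
    have hF1a : F1.eval 0 ≠ 0 := fun h => hF1dvd (dvd_iff_isRoot.mpr h)
    simp only [C_0, sub_zero] at hF1
    by_cases hab : rootMultiplicity 0 F = b
    · rw [hab] at hF1
      obtain ⟨c, hc⟩ : ∃ c : k, c = F1.eval 0 / G1.eval 0 := ⟨_, rfl⟩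
      obtain ⟨F2, hF2, hF2dvd⟩ :=
        exists_eq_pow_rootMultiplicity_mul_and_not_dvd (F - C c * G) (hFt0 c) 0
      simp only [C_0, sub_zero] at hF2
      refine ⟨c, rootMultiplicity 0 (F - C c * G), F2, hF2,
        fun h => hF2dvd (dvd_iff_isRoot.mpr h), ?_⟩
      have hroot : (F1 - C c * G1).IsRoot 0 := by
        rw [IsRoot, eval_sub, eval_mul, eval_C, hc, div_mul_cancel₀ _ hG1a, sub_self]
      obtain ⟨q, hq⟩ := dvd_iff_isRoot.mpr hroot
      rw [C_0, sub_zero] at hq
      have hdvd : (X - C 0) ^ (b + 1) ∣ F - C c * G := by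
        refine ⟨q, ?_⟩
        rw [C_0, sub_zero]
        calc F - C c * G = X ^ b * (F1 - C c * G1) := by
              conv_lhs => rw [hF1, hG1]
              ring
          _ = X ^ (b + 1) * q := by
              rw [hq]
              ring
      have := (le_rootMultiplicity_iff (hFt0 c)).mpr hdvd
      omega
    · exact ⟨0, rootMultiplicity 0 F, F1, by simpa using hF1, hF1a, hab⟩
  have ha'd : a' ≤ d := by
    have h1 := natDegree_le_of_dvd (Dvd.intro _ hF2.symm) (hFt0 c)
    rw [natDegree_X_pow] at h1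
    have h2 : (F - C c * G).natDegree ≤ d := by
      refine (natDegree_sub_le _ _).trans (max_le hFdeg.le ?_)
      exact (natDegree_C_mul_le c G).trans (by omega)
    omega
  have hW' : wronskian (X ^ a' * F2) (X ^ b * G1) = C (-1 : k) * X ^ (2 * d - 2) := by
    rw [← hF2, ← hG1, wronskian_sub_C_mul, hW]
  have hsum := order_eq F2 G1 a' b (2 * d - 2) (-1) hF2a hG1a
    (cast_sub_ne_zero p d hp a' b ha'd (by omega) ha'b) (by norm_num) hW'
  have ha'eq : a' = d := by omega
  have hbeq : b = d - 1 := by omega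
  have hGX : G = X ^ (d - 1) :=
    eq_X_pow_of_monic_of_dvd (d - 1) G hGmonic hGdeg ⟨G1, by rw [← hbeq]; exact hG1⟩
  have hFtdeg : (F - C c * G).natDegree = d := by
    rw [natDegree_sub_eq_left_of_natDegree_lt, hFdeg]
    have := natDegree_C_mul_le c G
    omega
  have hFtmonic : (F - C c * G).Monic := by
    rw [Monic, leadingCoeff, hFtdeg, coeff_sub, coeff_C_mul, hFtop,
      coeff_eq_zero_of_natDegree_lt (by omega), mul_zero, sub_zero]
  have hFtX : F - C c * G = X ^ d :=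
    eq_X_pow_of_monic_of_dvd d _ hFtmonic hFtdeg ⟨F2, by rw [← ha'eq]; exact hF2⟩
  have hFeq : F = X ^ d + C c * X ^ (d - 1) := by
    rw [← hFtX, hGX]
    ring
  have hc0 : c = 0 := by
    have h := hFpred
    rw [hFeq, coeff_add, coeff_X_pow, if_neg (by omega), coeff_C_mul, coeff_X_pow, if_pos rfl,
      zero_add, mul_one] at h
    exact h
  have hFX : F = X ^ d := by
    rw [hFeq, hc0, C_0, zero_mul, add_zero]
  apply y_eq_zero_of (by omega : 1 ≤ d) y
  · rw [← hFdef, hFX]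
  · rw [← hGdef, hGX]

end Groth.Agent.Lib.Seat60.RamFin
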