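import Groth.Agent.Lib.Seat60RamFinC

/-!
# Finiteness of `ramMaps` in characteristic zero or `d < p` (seat 60)
-/

set_option autoImplicit false
universe u
open Polynomial Function

namespace Groth.Agent.Lib.Seat60.RamFin

open W4c1limliniiii
open Groth.Agent.Lib.Seat60.ThreePt

variable {k : Type u} [Field k]

/-- The Wronskian of a pencil with the prescribed vanishing is a non-zero multiple of
`∏ (X - P i)^(e i - 1)`. -/
theorem wronskian_eq_prod {n : ℕ} (d : ℕ) (P : Fin n → k)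
    (hP : Function.Injective P) (e : Fin n → ℕ) (he1 : ∀ i, 1 ≤ e i)
    (hsum : (∑ i, e i) + 2 = 2 * d + n) (hd : 2 ≤ d)
    (F G : k[X]) (hF : F.natDegree ≤ d) (hG : G.natDegree ≤ d) (hW : wronskian F G ≠ 0)
    (hs : ∀ i, ∃ s ∈ Submodule.span k ({F, G} : Set k[X]), s ≠ 0 ∧ (X - C (P i)) ^ (e i) ∣ s) :
    ∃ c : k, c ≠ 0 ∧ wronskian F G = (∏ i, (X - C (P i)) ^ (e i - 1)) * C c ∧
      (∏ i, (X - C (P i)) ^ (e i - 1)).Monic ∧
      (∏ i, (X - C (P i)) ^ (e i - 1)).natDegree = 2 * d - 2 := by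
  classical
  have hdiv : ∀ i, (X - C (P i)) ^ (e i - 1) ∣ wronskian F G := by
    intro i
    obtain ⟨s, hsV, hs0, hsd⟩ := hs i
    obtain ⟨t, c, -, hc, hWc⟩ := exists_wron_eq F G s hsV hs0
    rw [hWc]
    exact Dvd.dvd.mul_left (dvd_wron_left s t (P i) (e i) hsd) _
  have hcop : Pairwise (IsCoprime on fun i => (X - C (P i)) ^ (e i - 1)) := by
    intro i j hij
    exact (isCoprime_X_sub_C_of_isUnit_sub
      (sub_ne_zero.mpr (hP.ne hij)).isUnit).pow
  have hprod : (∏ i, (X - C (P i)) ^ (e i - 1)) ∣ wronskian F G :=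
    Fintype.prod_dvd_of_coprime hcop hdiv
  have hmonic : ∀ i, ((X - C (P i)) ^ (e i - 1)).Monic := fun i => (monic_X_sub_C _).pow _
  have hPimonic : (∏ i, (X - C (P i)) ^ (e i - 1)).Monic :=
    monic_prod_of_monic _ _ fun i _ => hmonic i
  have hPideg : (∏ i, (X - C (P i)) ^ (e i - 1)).natDegree = 2 * d - 2 := by
    rw [natDegree_prod_of_monic _ _ fun i _ => hmonic i]
    have h1 : ∀ i, ((X - C (P i)) ^ (e i - 1)).natDegree = e i - 1 := fun i => by
      rw [(monic_X_sub_C _).natDegree_pow, natDegree_X_sub_C, mul_one]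
    simp only [h1]
    have h2 : ∑ i, e i = ∑ i, (e i - 1) + n := by
      have : ∀ i, e i = (e i - 1) + 1 := fun i => by have := he1 i; omega
      calc ∑ i, e i = ∑ i, ((e i - 1) + 1) := Finset.sum_congr rfl fun i _ => this i
        _ = ∑ i, (e i - 1) + n := by
          rw [Finset.sum_add_distrib]
          simp
    omega
  obtain ⟨q, hq⟩ := hprod
  have hq0 : q ≠ 0 := by
    rintro rfl
    rw [mul_zero] at hq
    exact hW hq
  have hWdeg : (wronskian F G).natDegree = 2 * d - 2 + q.natDegree := by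
    rw [hq, hPimonic.natDegree_mul' hq0, hPideg]
  have hqdeg : q.natDegree = 0 := by
    have := natDegree_wronskian_le d F G hF hG
    omega
  obtain ⟨c, rfl⟩ : ∃ c, q = C c := ⟨_, eq_C_of_natDegree_eq_zero hqdeg⟩
  have hc : c ≠ 0 := by
    rintro rfl
    exact hq0 C_0
  exact ⟨c, hc, hq, hPimonic, hPideg⟩

theorem wronskian_C_mul_C_mul (F G : k[X]) (a b : k) :
    wronskian (C a * F) (C b * G) = C (a * b) * wronskian F G := by
  unfold wronskian
  rw [derivative_C_mul, derivative_C_mul, C_mul]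
  ring

theorem wronskian_right_sub_C_mul (F G : k[X]) (c : k) :
    wronskian F (G - C c * F) = wronskian F G := by
  unfold wronskian
  rw [derivative_sub, derivative_C_mul]
  ring

theorem span_pair_eq_of_wronskian_ne_zero (V : Submodule k k[X]) (hfin : Module.finrank k V = 2)
    (F G : k[X]) (hF : F ∈ V) (hG : G ∈ V) (hW : wronskian F G ≠ 0) :
    Submodule.span k ({F, G} : Set k[X]) = V := by
  have hfd : FiniteDimensional k V := Module.finite_of_finrank_pos (by omega)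
  apply Submodule.eq_of_le_of_finrank_eq
  · rw [Submodule.span_le]
    intro x hx
    rcases hx with hx | hx
    · rw [hx]; exact hF
    · rw [Set.mem_singleton_iff] at hx
      rw [hx]; exact hG
  · rw [finrank_span_pair F G hW, hfin]

theorem exists_normalized {p n : ℕ} {d : ℕ} {P : Fin n → k} {e : Fin n → ℕ}
    (hP : Injective P) (he : Admissible p d e) (hd : 2 ≤ d)
    {V : Submodule k k[X]} (hV : V ∈ ramMaps d P e) :
    ∃ y : Idx d → k, V = Submodule.span k ({Fy d y, Gy d y} : Set k[X]) ∧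
      wronskian (Fy d y) (Gy d y) = -(∏ i, (X - C (P i)) ^ (e i - 1)) := by
  obtain ⟨⟨hle, hfin, ⟨F0, hF0V, hF0deg⟩, hbpf⟩, ⟨F', hF'V, G', hG'V, hW'⟩, hram⟩ := hV
  have hdeg : ∀ s ∈ V, s.natDegree ≤ d := fun s hs =>
    natDegree_le_of_degree_le (mem_degreeLE.mp (hle hs))
  have hspan' := span_pair_eq_of_wronskian_ne_zero V hfin F' G' hF'V hG'V hW'
  have hF00 : F0 ≠ 0 := by
    rintro rfl
    simp at hF0deg
    omega
  obtain ⟨G0, c, hG0, hc, hWc⟩ := exists_wron_eq F' G' F0 (hspan' ▸ hF0V) hF00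
  have hG0V : G0 ∈ V := by
    rcases hG0 with rfl | rfl
    · exact hF'V
    · exact hG'V
  have hW0 : wronskian F0 G0 ≠ 0 := by
    intro h
    rw [h, mul_zero] at hWc
    exact hW' hWc
  have hspan0 := span_pair_eq_of_wronskian_ne_zero V hfin F0 G0 hF0V hG0V hW0
  have hs : ∀ i, ∃ s ∈ Submodule.span k ({F0, G0} : Set k[X]), s ≠ 0 ∧
      (X - C (P i)) ^ (e i) ∣ s := by
    intro i
    rw [hspan0]
    exact dvd_of_hasRamIdx (hram i)
  obtain ⟨c0, hc0, hWeq, hPimonic, hPideg⟩ := wronskian_eq_prod d P hP e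
    (fun i => le_trans (by norm_num) (he.1 i).1) he.2 hd F0 G0 (hdeg F0 hF0V) (hdeg G0 hG0V) hW0 hs
  have hW0deg : (wronskian F0 G0).natDegree = 2 * d - 2 := by
    rw [hWeq, natDegree_mul_C hc0, hPideg]
  have hlF : F0.coeff d ≠ 0 := by
    rw [← hF0deg]
    exact leadingCoeff_ne_zero.mpr hF00
  -- G1 := G0 - (G0_d / F0_d) F0
  obtain ⟨G1, hG1def⟩ : ∃ G1, G1 = G0 - C (G0.coeff d / F0.coeff d) * F0 := ⟨_, rfl⟩
  have hG1V : G1 ∈ V := by
    rw [hG1def]
    exact V.sub_mem hG0V (by rw [← smul_eq_C_mul]; exact V.smul_mem _ hF0V)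
  have hW1 : wronskian F0 G1 = wronskian F0 G0 := by
    rw [hG1def, wronskian_right_sub_C_mul]
  have hG1le : G1.natDegree ≤ d - 1 := by
    have h1 : G1.natDegree ≤ d := hdeg G1 hG1V
    have h2 : G1.coeff d = 0 := by
      rw [hG1def, coeff_sub, coeff_C_mul, div_mul_cancel₀ _ hlF, sub_self]
    rw [natDegree_le_iff_coeff_eq_zero]
    intro N hN
    by_cases hNd : N = d
    · rw [hNd, h2]
    · exact coeff_eq_zero_of_natDegree_lt (by omega)
  have hG1deg : G1.natDegree = d - 1 := by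
    have h := natDegree_wronskian_lt_add (by rw [hW1]; exact hW0 : wronskian F0 G1 ≠ 0)
    rw [hW1, hW0deg, hF0deg] at h
    omega
  have hG10 : G1 ≠ 0 := by
    rintro rfl
    rw [wronskian_zero_right] at hW1
    exact hW0 hW1.symm
  have hlG : G1.leadingCoeff ≠ 0 := leadingCoeff_ne_zero.mpr hG10
  -- normalise
  obtain ⟨G, hGdef⟩ : ∃ G, G = C G1.leadingCoeff⁻¹ * G1 := ⟨_, rfl⟩
  obtain ⟨F1, hF1def⟩ : ∃ F1, F1 = C (F0.coeff d)⁻¹ * F0 := ⟨_, rfl⟩
  have hGV : G ∈ V := by
    rw [hGdef, ← smul_eq_C_mul]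
    exact V.smul_mem _ hG1V
  have hF1V : F1 ∈ V := by
    rw [hF1def, ← smul_eq_C_mul]
    exact V.smul_mem _ hF0V
  have hGdeg : G.natDegree = d - 1 := by
    rw [hGdef, natDegree_C_mul (inv_ne_zero hlG), hG1deg]
  have hGmonic : G.Monic := by
    rw [Monic, hGdef, leadingCoeff_mul, leadingCoeff_C, inv_mul_cancel₀ hlG]
  have hF1deg : F1.natDegree = d := by
    rw [hF1def, natDegree_C_mul (inv_ne_zero hlF), hF0deg]
  have hF1top : F1.coeff d = 1 := by
    rw [hF1def, coeff_C_mul, inv_mul_cancel₀ hlF]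
  obtain ⟨F, hFdef⟩ : ∃ F, F = F1 - C (F1.coeff (d - 1)) * G := ⟨_, rfl⟩
  have hFV : F ∈ V := by
    rw [hFdef]
    exact V.sub_mem hF1V (by rw [← smul_eq_C_mul]; exact V.smul_mem _ hGV)
  have hFdeg : F.natDegree = d := by
    rw [hFdef, natDegree_sub_eq_left_of_natDegree_lt, hF1deg]
    have := natDegree_C_mul_le (F1.coeff (d - 1)) G
    omega
  have hGtop : G.coeff (d - 1) = 1 := by
    rw [← hGdeg]
    exact hGmonic.coeff_natDegree
  have hFtop : F.coeff d = 1 := by
    have hGd : G.coeff d = 0 := coeff_eq_zero_of_natDegree_lt (by omega)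
    rw [hFdef, coeff_sub, coeff_C_mul, hF1top, hGd, mul_zero, sub_zero]
  have hFmonic : F.Monic := by
    rw [Monic, leadingCoeff, hFdeg, hFtop]
  have hFpred : F.coeff (d - 1) = 0 := by
    rw [hFdef, coeff_sub, coeff_C_mul, hGtop, mul_one, sub_self]
  have hWFG : wronskian F G = C ((F0.coeff d)⁻¹ * G1.leadingCoeff⁻¹) * wronskian F0 G0 := by
    rw [hFdef, wronskian_sub_C_mul, hF1def, hGdef, wronskian_C_mul_C_mul, hW1]
  have hWFG0 : wronskian F G ≠ 0 := by
    rw [hWFG]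
    exact mul_ne_zero (C_ne_zero.mpr (mul_ne_zero (inv_ne_zero hlF) (inv_ne_zero hlG))) hW0
  have hspanFG := span_pair_eq_of_wronskian_ne_zero V hfin F G hFV hGV hWFG0
  -- the constant is -1
  obtain ⟨c1, hc1def⟩ : ∃ c1, c1 = (F0.coeff d)⁻¹ * G1.leadingCoeff⁻¹ * c0 := ⟨_, rfl⟩
  have hWFG' : wronskian F G = C c1 * ∏ i, (X - C (P i)) ^ (e i - 1) := by
    rw [hWFG, hWeq, hc1def]
    simp only [C_mul]
    ring
  have hc1 : c1 = -1 := by
    have h1 := coeff_wronskian_top d hd F G hFdeg.le (by omega)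
    rw [hFtop, hGtop, one_mul, hWFG', coeff_C_mul, ← hPideg, hPimonic.coeff_natDegree,
      mul_one] at h1
    exact h1
  obtain ⟨y, hyF, hyG⟩ := exists_y_of_normalized (by omega : 1 ≤ d) F G hFdeg hFmonic hFpred hGdeg
    hGmonic
  refine ⟨y, ?_, ?_⟩
  · rw [hyF, hyG, hspanFG]
  · rw [hyF, hyG, hWFG', hc1, C_neg, C_1, neg_one_mul]

theorem ramMaps_finite [IsAlgClosed k] {p : ℕ} [CharP k p] (d n : ℕ) (P : Fin n → k)
    (hP : Injective P) (e : Fin n → ℕ) (he : Admissible p d e) (hp : p = 0 ∨ d < p) :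
    (ramMaps d P e).Finite := by
  rcases Nat.eq_zero_or_pos n with hn | hn
  · -- no points: `d = 1` and the only pencil is the space of polynomials of degree `≤ 1`
    subst hn
    have hd1 : d = 1 := by
      have := he.2
      simp at this
      omega
    subst hd1
    apply Set.Finite.subset (Set.finite_singleton (degreeLE k (1 : ℕ)))
    intro V hV
    obtain ⟨⟨hle, hfin, -, -⟩, -, -⟩ := hV
    rw [Set.mem_singleton_iff]
    have hfd : FiniteDimensional k (degreeLE k ((1 : ℕ) : WithBot ℕ)) := by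
      rw [← degreeLT_succ_eq_degreeLE]
      exact Module.Finite.equiv (degreeLTEquiv k _).symm
    apply Submodule.eq_of_le_of_finrank_eq hle
    rw [hfin, ← degreeLT_succ_eq_degreeLE, (degreeLTEquiv k _).finrank_eq, Module.finrank_fin_fun]
  · have hd : 2 ≤ d := le_trans (he.1 ⟨0, hn⟩).1 (he.1 ⟨0, hn⟩).2.1
    have hfib := FiniteFibre.finite_fibre (k := k) (wt d) (wgen k d)
      (fun m => 2 * d - 2 - (m : ℕ)) (fun m => by have := m.2; omega) (wgen_homogeneous hd)
      (fun y hy => trivial_zero p d hd hp y hy)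
      (fun m => (-(∏ i, (X - C (P i)) ^ (e i - 1))).coeff m)
    apply Set.Finite.subset (hfib.image fun y => Submodule.span k ({Fy d y, Gy d y} : Set k[X]))
    intro V hV
    obtain ⟨y, hyV, hyW⟩ := exists_normalized hP he hd hV
    refine ⟨y, ?_, hyV.symm⟩
    intro m
    rw [eval_wgen, hyW]

end Groth.Agent.Lib.Seat60.RamFin
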