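import Groth.Agent.Lib.Seat60ThreePtD
import Groth.Agent.S19561

/-!
# Wild ramification at infinity: the family `F + t X^p G` (seat 60)
-/

set_option autoImplicit false
universe u
open Polynomial Function

namespace Groth.Agent.Lib.Seat60.RamInf

open W4c1limliniiii
open Groth.Agent.Lib.Seat60.ThreePt
open Groth.Agent.S19560.Aux.WronRam (wron_factor wron_change rootMult_C_mul)

variable {k : Type u} [Field k]

/-- Converse of the Wronskian criterion: the Wronskian vanishes to order exactly `e - 1` at a point
of ramification index `e` prime to the characteristic. -/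
theorem rootMultiplicity_wronskian_of_hasRamIdx (F G : k[X]) (a : k) (e : ℕ)
    (hbpf : ∃ s ∈ Submodule.span k ({F, G} : Set k[X]), s.eval a ≠ 0)
    (hram : HasRamIdx (Submodule.span k ({F, G} : Set k[X])) a e) (he1 : 1 ≤ e)
    (hek : (e : k) ≠ 0) : rootMultiplicity a (wronskian F G) + 1 = e := by
  obtain ⟨s', hs'V, hs'a⟩ := hbpf
  obtain ⟨⟨s, hsV, hs0, hse⟩, hmax⟩ := hram
  have hmult : rootMultiplicity a s = e := le_antisymm (hmax s hsV hs0) hse
  obtain ⟨u, hu, hudvd⟩ := exists_eq_pow_rootMultiplicity_mul_and_not_dvd s hs0 a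
  rw [hmult] at hu
  obtain ⟨m, rfl⟩ : ∃ m, e = m + 1 := ⟨e - 1, by omega⟩
  have hua : u.eval a ≠ 0 := fun h => hudvd (dvd_iff_isRoot.mpr h)
  have hfac := wron_factor s' u a m
  rw [← hu] at hfac
  obtain ⟨Q, hQ⟩ : ∃ Q : k[X], Q = C ((m + 1 : ℕ) : k) * s' * u
      + (X - C a) * (s' * derivative u - derivative s' * u) := ⟨_, rfl⟩
  rw [← hQ] at hfac
  have hQa : Q.eval a ≠ 0 := by
    rw [hQ]
    simp only [eval_add, eval_mul, eval_C, eval_sub, eval_X, sub_self, zero_mul, add_zero]
    exact mul_ne_zero (mul_ne_zero hek hs'a) hua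
  have hQ0 : Q ≠ 0 := by
    rintro rfl
    simp at hQa
  have hroot : rootMultiplicity a (wronskian s' s) = m := by
    rw [hfac, mul_comm, rootMultiplicity_mul_X_sub_C_pow hQ0,
      rootMultiplicity_eq_zero (by simpa [IsRoot] using hQa), zero_add]
  have hWne : wronskian s' s ≠ 0 := by
    rw [hfac]
    exact mul_ne_zero (pow_ne_zero _ (X_sub_C_ne_zero _)) hQ0
  obtain ⟨α, β, rfl⟩ := Submodule.mem_span_pair.mp hs'V
  obtain ⟨γ, δ, rfl⟩ := Submodule.mem_span_pair.mp hsV
  rw [wron_change] at hroot hWne
  have hdet : α * δ - β * γ ≠ 0 := by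
    intro h
    rw [h, C_0, zero_mul] at hWne
    exact hWne rfl
  rw [rootMult_C_mul hdet] at hroot
  rw [hroot]

theorem wron_add_mul (F G h : k[X]) (hh : derivative h = 0) :
    wronskian (F + h * G) G = wronskian F G := by
  unfold wronskian
  rw [derivative_add, derivative_mul, hh]
  ring

section

variable [IsAlgClosed k] {p : ℕ} [Fact p.Prime] [CharP k p]

theorem main (d n : ℕ) (P : Fin n → k) (e : Fin n → ℕ) (E : ℕ)
    (he : Admissible p d (Fin.cons E e : Fin (n + 1) → ℕ))
    (hlt : ∀ i, e i < p) (hE : p < E) :
    {V : Submodule k k[X] | V ∈ ramMaps d P e ∧ HasRamIdxInf d V E} = ∅ ∨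
      {V : Submodule k k[X] | V ∈ ramMaps d P e ∧ HasRamIdxInf d V E}.Infinite := by
  by_cases hemp : {V : Submodule k k[X] | V ∈ ramMaps d P e ∧ HasRamIdxInf d V E} = ∅
  · exact Or.inl hemp
  right
  obtain ⟨V, hV⟩ := Set.nonempty_iff_ne_empty.mpr hemp
  obtain ⟨⟨⟨hle, hfin, ⟨F, hFV, hFdeg⟩, hbpf⟩, hsep, hram⟩, ⟨G, hGV, hG0, hGdeg⟩, hinf⟩ := hV
  have hp0 : 0 < p := (Fact.out : p.Prime).pos
  have hEd : E ≤ d := by
    have := (he.1 0).2.1
    simpa using this
  have hGdeg' : G.natDegree = d - E := by
    have := hinf G hGV hG0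
    omega
  have hF0 : F ≠ 0 := by
    rintro rfl
    simp at hFdeg
    omega
  -- V = span {F, G}
  have hli : LinearIndependent k ![F, G] := by
    rw [LinearIndependent.pair_iff]
    intro a b hab
    by_cases ha : a = 0
    · refine ⟨ha, ?_⟩
      rw [ha, zero_smul, zero_add] at hab
      rcases smul_eq_zero.mp hab with h | h
      · exact h
      · exact absurd h hG0
    · exfalso
      have h1 : a • F = -(b • G) := eq_neg_of_add_eq_zero_left hab
      have h2 : (a • F).natDegree = d := by rw [natDegree_smul _ ha, hFdeg]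
      have h3 : (-(b • G)).natDegree ≤ d - E := by
        rw [natDegree_neg]
        exact (natDegree_smul_le b G).trans hGdeg'.le
      rw [h1] at h2
      omega
  have hfd : FiniteDimensional k V := Module.finite_of_finrank_pos (by omega)
  have hspan : Submodule.span k ({F, G} : Set k[X]) = V := by
    apply Submodule.eq_of_le_of_finrank_eq
    · rw [Submodule.span_le]
      intro x hx
      rcases hx with hx | hx
      · rw [hx]; exact hFV
      · rw [Set.mem_singleton_iff] at hx
        rw [hx]; exact hGV
    · rw [finrank_span_pair_of_li F G hli, hfin]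
  have hW : wronskian F G ≠ 0 := by
    apply wronskian_ne_zero_of_isSeparable
    rw [hspan]
    exact hsep
  have hbpf' : ∀ a : k, F.eval a ≠ 0 ∨ G.eval a ≠ 0 := by
    intro a
    obtain ⟨s, hsV, hsa⟩ := hbpf a
    rw [← hspan] at hsV
    obtain ⟨α, β, rfl⟩ := Submodule.mem_span_pair.mp hsV
    by_contra hcon
    push Not at hcon
    apply hsa
    simp [eval_add, eval_smul, hcon.1, hcon.2]
  -- the family
  have hder : ∀ t : k, derivative (C t * X ^ p : k[X]) = 0 := by
    intro t
    rw [derivative_C_mul, derivative_X_pow, CharP.cast_eq_zero k p, C_0, zero_mul, mul_zero]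
  have hXG : ∀ t : k, (C t * X ^ p * G).natDegree < d := by
    intro t
    have h1 : (C t * X ^ p * G).natDegree ≤ p + (d - E) := by
      refine natDegree_mul_le.trans ?_
      have : (C t * X ^ p : k[X]).natDegree ≤ p := by
        refine natDegree_mul_le.trans ?_
        rw [natDegree_C, zero_add, natDegree_X_pow]
      omega
    have hE2 : 2 ≤ E := by
      have := (he.1 0).1
      simpa using this
    omega
  have hFt : ∀ t : k, (F + C t * X ^ p * G).natDegree = d := by
    intro t
    rw [natDegree_add_eq_left_of_natDegree_lt (by rw [hFdeg]; exact hXG t), hFdeg]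
  have hWt : ∀ t : k, wronskian (F + C t * X ^ p * G) G = wronskian F G :=
    fun t => wron_add_mul F G _ (hder t)
  have hmemt : ∀ t : k, Submodule.span k ({F + C t * X ^ p * G, G} : Set k[X]) ∈
      {V : Submodule k k[X] | V ∈ ramMaps d P e ∧ HasRamIdxInf d V E} := by
    intro t
    have hFm : F + C t * X ^ p * G ∈ Submodule.span k ({F + C t * X ^ p * G, G} : Set k[X]) :=
      Submodule.subset_span (by simp)
    have hGm : G ∈ Submodule.span k ({F + C t * X ^ p * G, G} : Set k[X]) :=
      Submodule.subset_span (by simp)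
    have hWt' : wronskian (F + C t * X ^ p * G) G ≠ 0 := by rw [hWt]; exact hW
    have hpen : IsPencil d (Submodule.span k ({F + C t * X ^ p * G, G} : Set k[X])) := by
      refine ⟨?_, finrank_span_pair _ _ hWt', ⟨_, hFm, hFt t⟩, ?_⟩
      · rw [Submodule.span_le]
        intro x hx
        rcases hx with hx | hx
        · rw [hx]
          exact mem_degreeLE.mpr (natDegree_le_iff_degree_le.mp (hFt t).le)
        · rw [Set.mem_singleton_iff] at hx
          rw [hx]
          exact hle hGV
      · intro a
        rcases hbpf' a with h | h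
        · by_cases hGa : G.eval a = 0
          · refine ⟨_, hFm, ?_⟩
            rw [eval_add, eval_mul, hGa, mul_zero, add_zero]
            exact h
          · exact ⟨G, hGm, hGa⟩
        · exact ⟨G, hGm, h⟩
    refine ⟨⟨hpen, ⟨_, hFm, _, hGm, hWt'⟩, ?_⟩, ?_⟩
    · intro i
      have hei := he.1 i.succ
      simp only [Fin.cons_succ] at hei
      have hek : (e i : k) ≠ 0 := by
        intro h
        exact hei.2.2 ((CharP.cast_eq_zero_iff k p (e i)).mp h)
      have h1 : rootMultiplicity (P i) (wronskian F G) + 1 = e i := by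
        apply rootMultiplicity_wronskian_of_hasRamIdx F G (P i) (e i) _ _ (by omega) hek
        · obtain ⟨s, hsV, hsa⟩ := hbpf (P i)
          exact ⟨s, hspan ▸ hsV, hsa⟩
        · rw [hspan]
          exact hram i
      have := Groth.Agent.S19560.Aux.WronRam.main p d _ _ hpen hWt' (P i) (e i)
        (by rw [hWt]; exact h1) (Or.inr (by have := hlt i; omega))
      exact this.1
    · have h2 := Groth.Agent.S19561.result k (F + C t * X ^ p * G) G
        (by rw [hFt, hGdeg']; have := (he.1 0).1; simp at this; omega)
        (by rw [hFt]; exact hpen)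
      rw [hFt, hGdeg'] at h2
      have : d - (d - E) = E := by omega
      rw [this] at h2
      exact h2
  -- injectivity
  have hinj : Injective fun t : k => Submodule.span k ({F + C t * X ^ p * G, G} : Set k[X]) := by
    intro t s hts
    by_contra hne
    have hFm : F + C t * X ^ p * G ∈ Submodule.span k ({F + C s * X ^ p * G, G} : Set k[X]) := by
      have h : F + C t * X ^ p * G ∈ Submodule.span k ({F + C t * X ^ p * G, G} : Set k[X]) :=
        Submodule.subset_span (by simp)
      have hts' : Submodule.span k ({F + C t * X ^ p * G, G} : Set k[X]) =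
        Submodule.span k ({F + C s * X ^ p * G, G} : Set k[X]) := hts
      rwa [hts'] at h
    obtain ⟨α, β, hαβ⟩ := Submodule.mem_span_pair.mp hFm
    -- compare: (1 - α) F = ((α s - t) X^p + β) G
    have hrel : C (1 - α) * F = (C (α * s - t) * X ^ p + C β) * G := by
      have : F + C t * X ^ p * G = C α * (F + C s * X ^ p * G) + C β * G := by
        rw [← hαβ, smul_eq_C_mul, smul_eq_C_mul]
      simp only [C_sub, C_mul, C_1]
      linear_combination this
    by_cases hα : α = 1
    · rw [hα, sub_self, C_0, zero_mul, one_mul] at hrel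
      have h3 : C (s - t) * X ^ p + C β = 0 := by
        rcases mul_eq_zero.mp hrel.symm with h | h
        · exact h
        · exact absurd h hG0
      have h4 := congrArg (fun q : k[X] => q.coeff p) h3
      simp only [coeff_add, coeff_C_mul, coeff_X_pow, if_true, mul_one, coeff_C, coeff_zero] at h4
      rw [if_neg (by omega), add_zero] at h4
      exact hne (sub_eq_zero.mp h4).symm
    · have h5 : (C (1 - α) * F).natDegree = d := by
        rw [natDegree_C_mul (sub_ne_zero.mpr (Ne.symm hα)), hFdeg]
      have h6 : ((C (α * s - t) * X ^ p + C β) * G).natDegree ≤ p + (d - E) := by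
        refine natDegree_mul_le.trans ?_
        have : (C (α * s - t) * X ^ p + C β : k[X]).natDegree ≤ p := by
          refine (natDegree_add_le _ _).trans (max_le ?_ ?_)
          · refine natDegree_mul_le.trans ?_
            rw [natDegree_C, zero_add, natDegree_X_pow]
          · rw [natDegree_C]
            exact Nat.zero_le _
        omega
      rw [hrel] at h5
      omega
  exact Set.infinite_of_injective_forall_mem hinj hmemt

end

end Groth.Agent.Lib.Seat60.RamInf
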