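import Groth.Agent.Lib.Seat60S13450e

/-! Seat60: the ideal `x_{s0}·(x_l : l ≠ t) + x_{s1}^q·(x_j : j = s1 or j a middle index)` (abstract
distinct indices `s0, s1, t`, and a set `R` of further indices; the middle indices are the remaining
ones): generators, membership in coordinates. -/

set_option autoImplicit false
set_option linter.unusedVariables false
set_option linter.unusedSectionVars false
set_option linter.unusedSimpArgs false
universe u
open W4c1hilbpn MvPolynomial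
open Groth.Agent.Lib.Seat60.Hom0
open Groth.Agent.S13449 (dv dq pair_le)

namespace Groth.Agent.S13447

section abstract

variable {k : Type u} [Field k] {n : ℕ} (s0 s1 t : Fin (n + 1)) (R : Fin (n + 1) → Prop) (q : ℕ)

/-- `l` is a middle index -/
def IsMid (l : Fin (n + 1)) : Prop := l ≠ s0 ∧ l ≠ s1 ∧ l ≠ t ∧ ¬ R l

/-- index type of the generators: `inl i` for `x_{s0} x_i`, `inr j` for `x_{s1}^q x_j` -/
abbrev Idx : Type := {i : Fin (n + 1) // i ≠ t} ⊕ {j : Fin (n + 1) // j = s1 ∨ IsMid s0 s1 t R j}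

variable {s0 s1 t R}

/-- exponent vectors of the generators -/
noncomputable def G : Idx s0 s1 t R → (Fin (n + 1) →₀ ℕ)
  | Sum.inl i => Finsupp.single s0 1 + Finsupp.single i.1 1
  | Sum.inr j => Finsupp.single s1 q + Finsupp.single j.1 1

variable {q}

lemma GZ_inl (i : {i : Fin (n + 1) // i ≠ t}) (l : Fin (n + 1)) :
    (G q (Sum.inl i : Idx s0 s1 t R) l : ℤ) =
      (if s0 = l then 1 else 0) + (if i.1 = l then 1 else 0) := by
  unfold G
  rw [Finsupp.add_apply, Finsupp.single_apply, Finsupp.single_apply]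
  push_cast
  rfl

lemma GZ_inr (j : {j : Fin (n + 1) // j = s1 ∨ IsMid s0 s1 t R j}) (l : Fin (n + 1)) :
    (G q (Sum.inr j : Idx s0 s1 t R) l : ℤ) =
      (if s1 = l then (q : ℤ) else 0) + (if j.1 = l then 1 else 0) := by
  unfold G
  rw [Finsupp.add_apply, Finsupp.single_apply, Finsupp.single_apply]
  push_cast
  rfl

variable (k s0 s1 t R q)

/-- the ideal -/
noncomputable def J : Ideal (MvPolynomial (Fin (n + 1)) k) :=
  Ideal.span ({f : MvPolynomial (Fin (n + 1)) k | ∃ i : Fin (n + 1), i ≠ t ∧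
        f = MvPolynomial.X s0 * MvPolynomial.X i} ∪
    {f : MvPolynomial (Fin (n + 1)) k | ∃ j : Fin (n + 1), (j = s1 ∨ IsMid s0 s1 t R j) ∧
        f = MvPolynomial.X s1 ^ q * MvPolynomial.X j})

lemma J_eq : J k s0 s1 t R q = monIdeal (G q (s0 := s0) (s1 := s1) (t := t) (R := R)) k := by
  unfold J monIdeal
  congr 1
  ext f
  constructor
  · rintro (⟨i, hi, rfl⟩ | ⟨j, hj, rfl⟩)
    · refine ⟨Sum.inl ⟨i, hi⟩, ?_⟩
      show monomial (G q (Sum.inl ⟨i, hi⟩)) (1 : k) = _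
      unfold G
      rw [X, X, monomial_mul, one_mul]
    · refine ⟨Sum.inr ⟨j, hj⟩, ?_⟩
      show monomial (G q (Sum.inr ⟨j, hj⟩)) (1 : k) = _
      unfold G
      rw [X_pow_eq_monomial, X, monomial_mul, one_mul]
  · rintro ⟨p, rfl⟩
    cases p with
    | inl i =>
      left
      refine ⟨i.1, i.2, ?_⟩
      show monomial (G q (Sum.inl i)) (1 : k) = _
      unfold G
      rw [X, X, monomial_mul, one_mul]
    | inr j =>
      right
      refine ⟨j.1, j.2, ?_⟩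
      show monomial (G q (Sum.inr j)) (1 : k) = _
      unfold G
      rw [X_pow_eq_monomial, X, monomial_mul, one_mul]

lemma hI : IsMonomial (J k s0 s1 t R q) := by
  rw [J_eq]
  exact isMonomial_monIdeal _

lemma hG (β : Fin (n + 1) →₀ ℕ) :
    β ∈ exps (J k s0 s1 t R q) ↔ ∃ p : Idx s0 s1 t R, G q p ≤ β := by
  rw [J_eq]
  exact mem_exps_monIdeal _ β

variable {k s0 s1 t R q}

variable (s0 s1 t R q) in
/-- membership of a nonnegative integer vector in the exponent set, in coordinates -/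
def inI (m : Fin (n + 1) → ℤ) : Prop :=
  2 ≤ m s0 ∨ (1 ≤ m s0 ∧ 1 ≤ m s1) ∨ (1 ≤ m s0 ∧ ∃ l, IsMid s0 s1 t R l ∧ 1 ≤ m l) ∨
    (1 ≤ m s0 ∧ ∃ l, R l ∧ 1 ≤ m l) ∨ (q : ℤ) + 1 ≤ m s1 ∨
    ((q : ℤ) ≤ m s1 ∧ ∃ l, IsMid s0 s1 t R l ∧ 1 ≤ m l)

lemma not_inI_iff (m : Fin (n + 1) → ℤ) : ¬ inI s0 s1 t R q m ↔
    m s0 ≤ 1 ∧ m s1 ≤ q ∧
      (1 ≤ m s0 → m s1 ≤ 0 ∧ (∀ l, IsMid s0 s1 t R l → m l ≤ 0) ∧ (∀ l, R l → m l ≤ 0)) ∧
      ((q : ℤ) ≤ m s1 → ∀ l, IsMid s0 s1 t R l → m l ≤ 0) := by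
  unfold inI
  constructor
  · intro h
    push Not at h
    obtain ⟨h1, h2, h3, h4, h5, h6⟩ := h
    refine ⟨by omega, by omega, fun h7 => ⟨?_, fun l hl => ?_, fun l hl => ?_⟩, fun h7 l hl => ?_⟩
    · have := h2 h7
      omega
    · have := h3 h7 l hl
      omega
    · have := h4 h7 l hl
      omega
    · have := h6 h7 l hl
      omega
  · rintro ⟨h1, h2, h3, h4⟩
    rintro (h | ⟨h5, h6⟩ | ⟨h5, l, hl, hl'⟩ | ⟨h5, l, hl, hl'⟩ | h | ⟨h5, l, hl, hl'⟩)
    · omega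
    · have := (h3 h5).1
      omega
    · have := (h3 h5).2.1 l hl
      omega
    · have := (h3 h5).2.2 l hl
      omega
    · omega
    · have := h4 h5 l hl
      omega

variable (h01 : s0 ≠ s1) (h0t : s0 ≠ t) (h1t : s1 ≠ t) (hR0 : ¬ R s0) (hR1 : ¬ R s1) (hRt : ¬ R t)

/-- a variant of `pair_le` for the generators `x_{s1}^q x_j` -/
lemma pair_le' (a i : Fin (n + 1)) (m : Fin (n + 1) → ℤ) (hm : ∀ l, 0 ≤ m l)
    (h : if a = i then (q : ℤ) + 1 ≤ m a else ((q : ℤ) ≤ m a ∧ 1 ≤ m i)) (l : Fin (n + 1)) :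
    ((if a = l then (q : ℤ) else 0) + (if i = l then 1 else 0) : ℤ) ≤ m l := by
  have h4 := hm l
  by_cases e : a = l
  · subst e
    by_cases e' : i = a
    · subst e'
      rw [if_pos rfl] at h
      rw [if_pos rfl]
      omega
    · rw [if_neg (Ne.symm e')] at h
      rw [if_pos rfl, if_neg e']
      omega
  by_cases e' : i = l
  · subst e'
    rw [if_neg e] at h
    rw [if_neg e, if_pos rfl]
    omega
  rw [if_neg e, if_neg e']
  omega

include h01 h0t h1t hR0 hR1 hRt in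
lemma exists_le_iff (m : Fin (n + 1) → ℤ) (hm : ∀ l, 0 ≤ m l) :
    (∃ p : Idx s0 s1 t R, ∀ l, (G q p l : ℤ) ≤ m l) ↔ inI s0 s1 t R q m := by
  have e1 := h01.symm
  constructor
  · rintro ⟨p, h⟩
    cases p with
    | inl i =>
      obtain ⟨i, hit⟩ := i
      have f0 := h s0
      have f1 := h i
      rw [GZ_inl] at f0 f1
      simp only [↓reduceIte] at f0 f1
      by_cases hi0 : i = s0
      · left
        rw [if_pos hi0] at f0
        omega
      rw [if_neg hi0] at f0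
      rw [if_neg (Ne.symm hi0)] at f1
      by_cases hi1 : i = s1
      · right; left
        subst i
        constructor <;> omega
      by_cases hiR : R i
      · right; right; right; left
        exact ⟨by omega, i, hiR, by omega⟩
      · right; right; left
        exact ⟨by omega, i, ⟨hi0, hi1, hit, hiR⟩, by omega⟩
    | inr j =>
      obtain ⟨j, hj⟩ := j
      have f0 := h s1
      have f1 := h j
      rw [GZ_inr] at f0 f1
      simp only [↓reduceIte] at f0 f1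
      rcases hj with rfl | hj
      · right; right; right; right; left
        rw [if_pos rfl] at f0
        omega
      · right; right; right; right; right
        rw [if_neg hj.2.1] at f0
        rw [if_neg (Ne.symm hj.2.1)] at f1
        exact ⟨by omega, j, hj, by omega⟩
  · rintro (h | ⟨h, h'⟩ | ⟨h, l, ⟨hl0, hl1, hlt, hlR⟩, hl⟩ | ⟨h, l, hlR, hl⟩ | h |
      ⟨h, l, ⟨hl0, hl1, hlt, hlR⟩, hl⟩)
    · refine ⟨Sum.inl ⟨s0, h0t⟩, fun l => ?_⟩
      rw [GZ_inl]
      exact pair_le s0 s0 m hm (by rw [if_pos rfl]; exact h) l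
    · refine ⟨Sum.inl ⟨s1, h1t⟩, fun l => ?_⟩
      rw [GZ_inl]
      exact pair_le s0 s1 m hm (by rw [if_neg h01]; exact ⟨h, h'⟩) l
    · refine ⟨Sum.inl ⟨l, hlt⟩, fun l' => ?_⟩
      rw [GZ_inl]
      exact pair_le s0 l m hm (by rw [if_neg (Ne.symm hl0)]; exact ⟨h, hl⟩) l'
    · have hlt : l ≠ t := fun h => hRt (h ▸ hlR)
      have hl0 : l ≠ s0 := fun h => hR0 (h ▸ hlR)
      refine ⟨Sum.inl ⟨l, hlt⟩, fun l' => ?_⟩
      rw [GZ_inl]
      exact pair_le s0 l m hm (by rw [if_neg (Ne.symm hl0)]; exact ⟨h, hl⟩) l'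
    · refine ⟨Sum.inr ⟨s1, Or.inl rfl⟩, fun l => ?_⟩
      rw [GZ_inr]
      exact pair_le' s1 s1 m hm (by rw [if_pos rfl]; exact h) l
    · refine ⟨Sum.inr ⟨l, Or.inr ⟨hl0, hl1, hlt, hlR⟩⟩, fun l' => ?_⟩
      rw [GZ_inr]
      exact pair_le' s1 l m hm (by rw [if_neg (Ne.symm hl1)]; exact ⟨h, hl⟩) l'

include h01 h0t h1t hR0 hR1 hRt in
lemma act_iff' (α : Fin (n + 1) → ℤ) (p : Idx s0 s1 t R) :
    Act (G q) (J k s0 s1 t R q) α p ↔ (∀ l, 0 ≤ (G q p l : ℤ) + α l) ∧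
      ¬ inI s0 s1 t R q (fun l => (G q p l : ℤ) + α l) := by
  rw [act_iff (hG k s0 s1 t R q)]
  constructor
  · rintro ⟨h1, h2⟩
    exact ⟨h1, fun h => h2 ((exists_le_iff h01 h0t h1t hR0 hR1 hRt _ h1).mpr h)⟩
  · rintro ⟨h1, h2⟩
    exact ⟨h1, fun h => h2 ((exists_le_iff h01 h0t h1t hR0 hR1 hRt _ h1).mp h)⟩

include h01 h0t h1t hR0 hR1 hRt in
lemma conn_iff' (α : Fin (n + 1) → ℤ) (p p' : Idx s0 s1 t R) :
    Conn (G q) (J k s0 s1 t R q) α p p' ↔
      (∀ l, 0 ≤ (max (G q p l) (G q p' l) : ℤ) + α l) ∧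
      ¬ inI s0 s1 t R q (fun l => (max (G q p l) (G q p' l) : ℤ) + α l) := by
  rw [conn_iff (hG k s0 s1 t R q)]
  constructor
  · rintro ⟨h1, h2⟩
    exact ⟨h1, fun h => h2 ((exists_le_iff h01 h0t h1t hR0 hR1 hRt _ h1).mpr h)⟩
  · rintro ⟨h1, h2⟩
    exact ⟨h1, fun h => h2 ((exists_le_iff h01 h0t h1t hR0 hR1 hRt _ h1).mp h)⟩

lemma act_iff_conn_self (α : Fin (n + 1) → ℤ) (p : Idx s0 s1 t R) :
    Act (G q) (J k s0 s1 t R q) α p ↔ Conn (G q) (J k s0 s1 t R q) α p p := by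
  unfold Act Conn
  rw [sup_idem]

end abstract

end Groth.Agent.S13447
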