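import Groth.Agent.Lib.Seat60S13447a

/-! Seat60: integer profiles of the generators of the ideal of `Seat60S13447a`. -/

set_option autoImplicit false
set_option linter.unusedVariables false
set_option linter.unusedSectionVars false
set_option linter.unusedSimpArgs false
universe u
open W4c1hilbpn MvPolynomial
open Groth.Agent.Lib.Seat60.Hom0
open Groth.Agent.S13449 (dv dq pair_le)

namespace Groth.Agent.S13447

variable {k : Type u} [Field k] {n : ℕ} {s0 s1 t : Fin (n + 1)} {R : Fin (n + 1) → Prop} {q : ℕ}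
variable (h01 : s0 ≠ s1) (h0t : s0 ≠ t) (h1t : s1 ≠ t) (hR0 : ¬ R s0) (hR1 : ¬ R s1) (hRt : ¬ R t)

include h0t h1t in
lemma G_t' (p : Idx s0 s1 t R) : (G q p t : ℤ) = 0 := by
  cases p with
  | inl i =>
    rw [GZ_inl, if_neg h0t, if_neg i.2]
    norm_num
  | inr j =>
    obtain ⟨j, hj⟩ := j
    have hjt : j ≠ t := by
      rcases hj with rfl | hj
      · exact h1t
      · exact hj.2.2.1
    rw [GZ_inr, if_neg h1t, if_neg hjt]
    norm_num

open Classical in
/-- the generator carries a middle index other than `c` -/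
noncomputable def EMi (q : ℕ) (c : Fin (n + 1)) (p : Idx s0 s1 t R) : ℤ :=
  if (∃ l, IsMid s0 s1 t R l ∧ l ≠ c ∧ 1 ≤ (G q p l : ℤ)) then 1 else 0

open Classical in
/-- the generator carries an index of `R` other than `d` -/
noncomputable def ERi (q : ℕ) (d : Fin (n + 1)) (p : Idx s0 s1 t R) : ℤ :=
  if (∃ l, R l ∧ l ≠ d ∧ 1 ≤ (G q p l : ℤ)) then 1 else 0

lemma EMi_eq_zero_iff (c : Fin (n + 1)) (p : Idx s0 s1 t R) :
    EMi q c p = 0 ↔ ¬ ∃ l, IsMid s0 s1 t R l ∧ l ≠ c ∧ 1 ≤ (G q p l : ℤ) := by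
  unfold EMi
  split_ifs with h
  · constructor
    · intro h0
      norm_num at h0
    · intro hn
      exact absurd h hn
  · constructor
    · intro _
      exact h
    · intro _
      rfl

lemma ERi_eq_zero_iff (d : Fin (n + 1)) (p : Idx s0 s1 t R) :
    ERi q d p = 0 ↔ ¬ ∃ l, R l ∧ l ≠ d ∧ 1 ≤ (G q p l : ℤ) := by
  unfold ERi
  split_ifs with h
  · constructor
    · intro h0
      norm_num at h0
    · intro hn
      exact absurd h hn
  · constructor
    · intro _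
      exact h
    · intro _
      rfl

open Classical in
lemma EMi_inl (c : Fin (n + 1)) (i : {i : Fin (n + 1) // i ≠ t}) :
    EMi q c (Sum.inl i : Idx s0 s1 t R) = if (IsMid s0 s1 t R i.1 ∧ i.1 ≠ c) then 1 else 0 := by
  unfold EMi
  congr 1
  apply propext
  constructor
  · rintro ⟨l, hl, hlc, h⟩
    rw [GZ_inl, if_neg (Ne.symm hl.1)] at h
    have hil : i.1 = l := by
      by_contra hil
      rw [if_neg hil] at h
      norm_num at h
    rw [hil]
    exact ⟨hl, hlc⟩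
  · rintro ⟨h1, h2⟩
    refine ⟨i.1, h1, h2, ?_⟩
    rw [GZ_inl, if_pos rfl]
    split_ifs <;> norm_num

include hR0 in
open Classical in
lemma ERi_inl (d : Fin (n + 1)) (i : {i : Fin (n + 1) // i ≠ t}) :
    ERi q d (Sum.inl i : Idx s0 s1 t R) = if (R i.1 ∧ i.1 ≠ d) then 1 else 0 := by
  unfold ERi
  congr 1
  apply propext
  constructor
  · rintro ⟨l, hl, hld, h⟩
    have hl0 : s0 ≠ l := fun e => hR0 (e ▸ hl)
    rw [GZ_inl, if_neg hl0] at h
    have hil : i.1 = l := by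
      by_contra hil
      rw [if_neg hil] at h
      norm_num at h
    rw [hil]
    exact ⟨hl, hld⟩
  · rintro ⟨h1, h2⟩
    refine ⟨i.1, h1, h2, ?_⟩
    rw [GZ_inl, if_pos rfl]
    split_ifs <;> norm_num

open Classical in
lemma EMi_inr (c : Fin (n + 1)) (j : {j : Fin (n + 1) // j = s1 ∨ IsMid s0 s1 t R j}) :
    EMi q c (Sum.inr j : Idx s0 s1 t R) = if (IsMid s0 s1 t R j.1 ∧ j.1 ≠ c) then 1 else 0 := by
  unfold EMi
  congr 1
  apply propext
  constructor
  · rintro ⟨l, hl, hlc, h⟩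
    rw [GZ_inr, if_neg (Ne.symm hl.2.1)] at h
    have hjl : j.1 = l := by
      by_contra hjl
      rw [if_neg hjl] at h
      norm_num at h
    rw [hjl]
    exact ⟨hl, hlc⟩
  · rintro ⟨h1, h2⟩
    refine ⟨j.1, h1, h2, ?_⟩
    rw [GZ_inr, if_pos rfl]
    split_ifs <;> first | positivity | norm_num

include hR1 in
lemma ERi_inr (d : Fin (n + 1)) (j : {j : Fin (n + 1) // j = s1 ∨ IsMid s0 s1 t R j}) :
    ERi q d (Sum.inr j : Idx s0 s1 t R) = 0 := by
  rw [ERi_eq_zero_iff]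
  rintro ⟨l, hl, hld, h⟩
  have hl1 : s1 ≠ l := fun e => hR1 (e ▸ hl)
  have hjl : j.1 ≠ l := by
    intro e
    rcases j.2 with h' | h'
    · exact hl1 (h' ▸ e)
    · exact h'.2.2.2 (e ▸ hl)
  rw [GZ_inr, if_neg hl1, if_neg hjl] at h
  norm_num at h

include h01 h0t h1t hR0 hR1 hRt in
/-- the profile of a generator: its exponents at `s0`, `s1`, at a middle index `c` (or `c = t`), at
an index `d` of `R` (or `d = t`), and whether it carries another middle index or index of `R` -/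
lemma prof {c d : Fin (n + 1)} (hc : c = t ∨ IsMid s0 s1 t R c) (hd : d = t ∨ R d)
    (p : Idx s0 s1 t R) :
    ((G q p s0 : ℤ) = 2 ∧ (G q p s1 : ℤ) = 0 ∧ (G q p c : ℤ) = 0 ∧ (G q p d : ℤ) = 0 ∧
        EMi q c p = 0 ∧ ERi q d p = 0) ∨
    ((G q p s0 : ℤ) = 1 ∧ (G q p s1 : ℤ) = 1 ∧ (G q p c : ℤ) = 0 ∧ (G q p d : ℤ) = 0 ∧
        EMi q c p = 0 ∧ ERi q d p = 0) ∨
    ((G q p s0 : ℤ) = 1 ∧ (G q p s1 : ℤ) = 0 ∧ (G q p c : ℤ) = 1 ∧ (G q p d : ℤ) = 0 ∧
        EMi q c p = 0 ∧ ERi q d p = 0 ∧ c ≠ t) ∨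
    ((G q p s0 : ℤ) = 1 ∧ (G q p s1 : ℤ) = 0 ∧ (G q p c : ℤ) = 0 ∧ (G q p d : ℤ) = 0 ∧
        EMi q c p = 1 ∧ ERi q d p = 0) ∨
    ((G q p s0 : ℤ) = 1 ∧ (G q p s1 : ℤ) = 0 ∧ (G q p c : ℤ) = 0 ∧ (G q p d : ℤ) = 1 ∧
        EMi q c p = 0 ∧ ERi q d p = 0 ∧ d ≠ t) ∨
    ((G q p s0 : ℤ) = 1 ∧ (G q p s1 : ℤ) = 0 ∧ (G q p c : ℤ) = 0 ∧ (G q p d : ℤ) = 0 ∧
        EMi q c p = 0 ∧ ERi q d p = 1) ∨
    ((G q p s0 : ℤ) = 0 ∧ (G q p s1 : ℤ) = (q : ℤ) + 1 ∧ (G q p c : ℤ) = 0 ∧ (G q p d : ℤ) = 0 ∧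
        EMi q c p = 0 ∧ ERi q d p = 0) ∨
    ((G q p s0 : ℤ) = 0 ∧ (G q p s1 : ℤ) = (q : ℤ) ∧ (G q p c : ℤ) = 1 ∧ (G q p d : ℤ) = 0 ∧
        EMi q c p = 0 ∧ ERi q d p = 0 ∧ c ≠ t) ∨
    ((G q p s0 : ℤ) = 0 ∧ (G q p s1 : ℤ) = (q : ℤ) ∧ (G q p c : ℤ) = 0 ∧ (G q p d : ℤ) = 0 ∧
        EMi q c p = 1 ∧ ERi q d p = 0) := by
  classical
  have e1 := h01.symm
  have e2 := h0t.symm
  have e3 := h1t.symm
  have hc0 : c ≠ s0 := by
    rcases hc with rfl | hc
    · exact e2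
    · exact hc.1
  have hc1 : c ≠ s1 := by
    rcases hc with rfl | hc
    · exact e3
    · exact hc.2.1
  have hcR : ¬ R c := by
    rcases hc with rfl | hc
    · exact hRt
    · exact hc.2.2.2
  have hd0 : d ≠ s0 := by
    rcases hd with rfl | hd
    · exact e2
    · exact fun e => hR0 (e ▸ hd)
  have hd1 : d ≠ s1 := by
    rcases hd with rfl | hd
    · exact e3
    · exact fun e => hR1 (e ▸ hd)
  have hdM : ¬ IsMid s0 s1 t R d := by
    rcases hd with rfl | hd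
    · exact fun h => h.2.2.1 rfl
    · exact fun h => h.2.2.2 hd
  have hcd : c ≠ d ∨ (c = t ∧ d = t) := by
    by_cases h : c = d
    · right
      rcases hc with rfl | hc
      · exact ⟨rfl, h.symm⟩
      · exact absurd (h ▸ hc) hdM
    · exact Or.inl h
  cases p with
  | inl i =>
    obtain ⟨i, hit⟩ := i
    rw [EMi_inl, ERi_inl hR0, GZ_inl, GZ_inl, GZ_inl, GZ_inl]
    simp only [h01, Ne.symm hc0, Ne.symm hd0, ↓reduceIte]
    by_cases hi0 : i = s0
    · left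
      subst hi0
      have hm : ¬ IsMid i s1 t R i := fun h => h.1 rfl
      simp only [h01, Ne.symm hc0, Ne.symm hd0, hm, hR0, false_and, ↓reduceIte]
      norm_num
    by_cases hi1 : i = s1
    · right; left
      subst hi1
      have hm : ¬ IsMid s0 i t R i := fun h => h.2.1 rfl
      simp only [e1, Ne.symm hc1, Ne.symm hd1, hm, hR1, false_and, ↓reduceIte]
      norm_num
    by_cases hiR : R i
    · have hm : ¬ IsMid s0 s1 t R i := fun h => h.2.2.2 hiR
      have hic : i ≠ c := fun e => hcR (e ▸ hiR)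
      by_cases hid : i = d
      · right; right; right; right; left
        subst hid
        refine ⟨?_, ?_, ?_, ?_, ?_, ?_, hit⟩ <;> simp [hi0, hi1, hm, hic, hiR]
      · right; right; right; right; right; left
        refine ⟨?_, ?_, ?_, ?_, ?_, ?_⟩ <;> simp [hi0, hi1, hm, hic, hid, hiR]
    · have hm : IsMid s0 s1 t R i := ⟨hi0, hi1, hit, hiR⟩
      have hid : i ≠ d := fun e => hdM (e ▸ hm)
      by_cases hic : i = c
      · right; right; left
        subst hic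
        refine ⟨?_, ?_, ?_, ?_, ?_, ?_, hit⟩ <;> simp [hi0, hi1, hm, hid, hiR]
      · right; right; right; left
        refine ⟨?_, ?_, ?_, ?_, ?_, ?_⟩ <;> simp [hi0, hi1, hm, hic, hid, hiR]
  | inr j =>
    obtain ⟨j, hj⟩ := j
    rw [EMi_inr, ERi_inr hR1, GZ_inr, GZ_inr, GZ_inr, GZ_inr]
    simp only [e1, Ne.symm hc1, Ne.symm hd1, ↓reduceIte]
    rcases hj with rfl | hj
    · right; right; right; right; right; right; left
      have hm : ¬ IsMid s0 j t R j := fun h => h.2.1 rfl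
      simp only [e1, Ne.symm hc1, Ne.symm hd1, hm, false_and, ↓reduceIte]
      norm_num
    · have hjd : j ≠ d := fun e => hdM (e ▸ hj)
      by_cases hjc : j = c
      · right; right; right; right; right; right; right; left
        subst hjc
        refine ⟨?_, ?_, ?_, ?_, ?_, ?_, hj.2.2.1⟩ <;> simp [hj.1, hj.2.1, hjd, hj]
      · right; right; right; right; right; right; right; right
        refine ⟨?_, ?_, ?_, ?_, ?_, ?_⟩ <;> simp [hj.1, hj.2.1, hjd, hjc, hj]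

end Groth.Agent.S13447
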