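import Groth.Agent.Lib.Seat60S13447b

/-! Seat60: the linking relation of the generators of the ideal of `Seat60S13447a` in integer
coordinates. -/

set_option autoImplicit false
set_option linter.unusedVariables false
set_option linter.unusedSectionVars false
set_option linter.unusedSimpArgs false
universe u
open W4c1hilbpn MvPolynomial
open Groth.Agent.Lib.Seat60.Hom0
open Groth.Agent.S13449 (dv dq pair_le)

namespace Groth.Agent.S13447

variable {k : Type u} [Field k] {n : ℕ} {s0 s1 t : Fin (n + 1)} {R : Fin (n + 1) → Prop} {q : ℕ}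
variable (h01 : s0 ≠ s1) (h0t : s0 ≠ t) (h1t : s1 ≠ t) (hR0 : ¬ R s0) (hR1 : ¬ R s1) (hRt : ¬ R t)

/-- the shifted least common multiple of two generators -/
noncomputable def mm (q : ℕ) (α : Fin (n + 1) → ℤ) (p p' : Idx s0 s1 t R) : Fin (n + 1) → ℤ :=
  fun l => max (G q p l : ℤ) (G q p' l) + α l

lemma mm_apply (α : Fin (n + 1) → ℤ) (p p' : Idx s0 s1 t R) (l : Fin (n + 1)) :
    mm q α p p' l = max (G q p l : ℤ) (G q p' l) + α l := rfl

lemma le_mm_left (α : Fin (n + 1) → ℤ) (p p' : Idx s0 s1 t R) (l : Fin (n + 1)) :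
    (G q p l : ℤ) + α l ≤ mm q α p p' l := by
  rw [mm_apply]
  have : (G q p l : ℤ) ≤ max (G q p l : ℤ) (G q p' l) := le_max_left _ _
  omega

lemma le_mm_right (α : Fin (n + 1) → ℤ) (p p' : Idx s0 s1 t R) (l : Fin (n + 1)) :
    (G q p' l : ℤ) + α l ≤ mm q α p p' l := by
  rw [mm_apply]
  have : (G q p' l : ℤ) ≤ max (G q p l : ℤ) (G q p' l) := le_max_right _ _
  omega

include h0t h1t in
lemma nonneg_split (α : Fin (n + 1) → ℤ) (p p' : Idx s0 s1 t R) :
    (∀ l, 0 ≤ mm q α p p' l) ↔ 0 ≤ mm q α p p' s0 ∧ 0 ≤ mm q α p p' s1 ∧ 0 ≤ α t ∧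
      (∀ l, IsMid s0 s1 t R l → 0 ≤ mm q α p p' l) ∧ (∀ l, R l → 0 ≤ mm q α p p' l) := by
  have ht : mm q α p p' t = α t := by
    rw [mm_apply, G_t' h0t h1t, G_t' h0t h1t]
    simp
  constructor
  · intro h
    refine ⟨h s0, h s1, ?_, fun l _ => h l, fun l _ => h l⟩
    rw [← ht]
    exact h t
  · rintro ⟨h1, h2, h3, h4, h5⟩ l
    by_cases hl0 : l = s0
    · rw [hl0]; exact h1
    by_cases hl1 : l = s1
    · rw [hl1]; exact h2
    by_cases hlt : l = t
    · rw [hlt, ht]; exact h3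
    by_cases hlR : R l
    · exact h5 l hlR
    · exact h4 l ⟨hl0, hl1, hlt, hlR⟩

/-! ### the middle indices -/

section mid

variable (α : Fin (n + 1) → ℤ) {c : Fin (n + 1)}

lemma nonneg_mid_plus (hα : ∀ l, IsMid s0 s1 t R l → 0 ≤ α l) (p p' : Idx s0 s1 t R) :
    ∀ l, IsMid s0 s1 t R l → 0 ≤ mm q α p p' l := by
  intro l hl
  have := hα l hl
  have := le_mm_left (q := q) α p p' l
  have : (0 : ℤ) ≤ (G q p l : ℤ) := by positivity
  omega

lemma NM_false_plus (hα : ∃ b, IsMid s0 s1 t R b ∧ 1 ≤ α b) (p p' : Idx s0 s1 t R) :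
    ¬ ∀ l, IsMid s0 s1 t R l → mm q α p p' l ≤ 0 := by
  intro h
  obtain ⟨b, hb, hb1⟩ := hα
  have := h b hb
  have := le_mm_left (q := q) α p p' b
  have : (0 : ℤ) ≤ (G q p b : ℤ) := by positivity
  omega

variable (hc : c = t ∨ IsMid s0 s1 t R c)
  (hα : ∀ l, IsMid s0 s1 t R l → α l = -(if c = l then 1 else 0))

include hc hα in
lemma nonneg_mid_minus (p p' : Idx s0 s1 t R) :
    (∀ l, IsMid s0 s1 t R l → 0 ≤ mm q α p p' l) ↔
      (c ≠ t → 1 ≤ max (G q p c : ℤ) (G q p' c)) := by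
  constructor
  · intro h hct
    have hcm : IsMid s0 s1 t R c := by
      rcases hc with h' | h'
      · exact absurd h' hct
      · exact h'
    have := h c hcm
    rw [mm_apply, hα c hcm, if_pos rfl] at this
    omega
  · intro h l hl
    rw [mm_apply, hα l hl]
    by_cases hcl : c = l
    · subst hcl
      rw [if_pos rfl]
      have := h hl.2.2.1
      omega
    · rw [if_neg hcl]
      have : (0 : ℤ) ≤ (G q p l : ℤ) := by positivity
      have : (G q p l : ℤ) ≤ max (G q p l : ℤ) (G q p' l) := le_max_left _ _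
      omega

include hc hα in
lemma NM_iff_minus (p p' : Idx s0 s1 t R) (hz : (G q p c : ℤ) ≤ 1) (hz' : (G q p' c : ℤ) ≤ 1) :
    (∀ l, IsMid s0 s1 t R l → mm q α p p' l ≤ 0) ↔ EMi q c p = 0 ∧ EMi q c p' = 0 := by
  rw [EMi_eq_zero_iff, EMi_eq_zero_iff]
  constructor
  · intro h
    constructor
    · rintro ⟨l, hl, hlc, h1⟩
      have := h l hl
      have := le_mm_left (q := q) α p p' l
      rw [hα l hl, if_neg (Ne.symm hlc)] at this
      omega
    · rintro ⟨l, hl, hlc, h1⟩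
      have := h l hl
      have := le_mm_right (q := q) α p p' l
      rw [hα l hl, if_neg (Ne.symm hlc)] at this
      omega
  · rintro ⟨h1, h2⟩ l hl
    rw [mm_apply, hα l hl]
    by_cases hcl : c = l
    · subst hcl
      rw [if_pos rfl]
      have : max (G q p c : ℤ) (G q p' c) ≤ 1 := max_le hz hz'
      omega
    · rw [if_neg hcl]
      have e1 : (G q p l : ℤ) ≤ 0 := by
        by_contra hcon
        exact h1 ⟨l, hl, Ne.symm hcl, by omega⟩
      have e2 : (G q p' l : ℤ) ≤ 0 := by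
        by_contra hcon
        exact h2 ⟨l, hl, Ne.symm hcl, by omega⟩
      have : max (G q p l : ℤ) (G q p' l) ≤ 0 := max_le e1 e2
      omega

end mid

/-! ### the indices of `R` -/

section R

variable (α : Fin (n + 1) → ℤ) {d : Fin (n + 1)}

lemma nonneg_R_plus (hα : ∀ l, R l → 0 ≤ α l) (p p' : Idx s0 s1 t R) :
    ∀ l, R l → 0 ≤ mm q α p p' l := by
  intro l hl
  have := hα l hl
  have := le_mm_left (q := q) α p p' l
  have : (0 : ℤ) ≤ (G q p l : ℤ) := by positivity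
  omega

lemma NR_false_plus (hα : ∃ b, R b ∧ 1 ≤ α b) (p p' : Idx s0 s1 t R) :
    ¬ ∀ l, R l → mm q α p p' l ≤ 0 := by
  intro h
  obtain ⟨b, hb, hb1⟩ := hα
  have := h b hb
  have := le_mm_left (q := q) α p p' b
  have : (0 : ℤ) ≤ (G q p b : ℤ) := by positivity
  omega

variable (hd : d = t ∨ R d) (hα : ∀ l, R l → α l = -(if d = l then 1 else 0))

include hRt hd hα in
lemma nonneg_R_minus (p p' : Idx s0 s1 t R) :
    (∀ l, R l → 0 ≤ mm q α p p' l) ↔ (d ≠ t → 1 ≤ max (G q p d : ℤ) (G q p' d)) := by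
  constructor
  · intro h hdt
    have hdR : R d := by
      rcases hd with h' | h'
      · exact absurd h' hdt
      · exact h'
    have := h d hdR
    rw [mm_apply, hα d hdR, if_pos rfl] at this
    omega
  · intro h l hl
    rw [mm_apply, hα l hl]
    by_cases hdl : d = l
    · subst hdl
      rw [if_pos rfl]
      have := h (fun e => hRt (e ▸ hl))
      omega
    · rw [if_neg hdl]
      have : (0 : ℤ) ≤ (G q p l : ℤ) := by positivity
      have : (G q p l : ℤ) ≤ max (G q p l : ℤ) (G q p' l) := le_max_left _ _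
      omega

include hd hα in
lemma NR_iff_minus (p p' : Idx s0 s1 t R) (hz : (G q p d : ℤ) ≤ 1) (hz' : (G q p' d : ℤ) ≤ 1) :
    (∀ l, R l → mm q α p p' l ≤ 0) ↔ ERi q d p = 0 ∧ ERi q d p' = 0 := by
  rw [ERi_eq_zero_iff, ERi_eq_zero_iff]
  constructor
  · intro h
    constructor
    · rintro ⟨l, hl, hld, h1⟩
      have := h l hl
      have := le_mm_left (q := q) α p p' l
      rw [hα l hl, if_neg (Ne.symm hld)] at this
      omega
    · rintro ⟨l, hl, hld, h1⟩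
      have := h l hl
      have := le_mm_right (q := q) α p p' l
      rw [hα l hl, if_neg (Ne.symm hld)] at this
      omega
  · rintro ⟨h1, h2⟩ l hl
    rw [mm_apply, hα l hl]
    by_cases hdl : d = l
    · subst hdl
      rw [if_pos rfl]
      have : max (G q p d : ℤ) (G q p' d) ≤ 1 := max_le hz hz'
      omega
    · rw [if_neg hdl]
      have e1 : (G q p l : ℤ) ≤ 0 := by
        by_contra hcon
        exact h1 ⟨l, hl, Ne.symm hdl, by omega⟩
      have e2 : (G q p' l : ℤ) ≤ 0 := by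
        by_contra hcon
        exact h2 ⟨l, hl, Ne.symm hdl, by omega⟩
      have : max (G q p l : ℤ) (G q p' l) ≤ 0 := max_le e1 e2
      omega

end R


/-! ### the linking relation -/

include h01 h0t h1t hR0 hR1 hRt in
lemma conn_iff'' (α : Fin (n + 1) → ℤ) (p p' : Idx s0 s1 t R) :
    Conn (G q) (J k s0 s1 t R q) α p p' ↔
      (∀ l, 0 ≤ mm q α p p' l) ∧ ¬ inI s0 s1 t R q (mm q α p p') :=
  conn_iff' h01 h0t h1t hR0 hR1 hRt α p p'

include h01 h0t h1t hR0 hR1 hRt in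
lemma G_le_one {c d : Fin (n + 1)} (hc : c = t ∨ IsMid s0 s1 t R c) (hd : d = t ∨ R d)
    (p : Idx s0 s1 t R) : (G q p c : ℤ) ≤ 1 ∧ (G q p d : ℤ) ≤ 1 := by
  have := prof (q := q) h01 h0t h1t hR0 hR1 hRt hc hd p
  omega

include h01 h0t h1t hR0 hR1 hRt in
/-- the linking relation in coordinates: multidegree `-e_c` (or zero) on the middle indices and
`-e_d` (or zero) on `R` -/
lemma conn_mm (α : Fin (n + 1) → ℤ) {c d : Fin (n + 1)} (hc : c = t ∨ IsMid s0 s1 t R c)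
    (hd : d = t ∨ R d)
    (hαM : ∀ l, IsMid s0 s1 t R l → α l = -(if c = l then 1 else 0))
    (hαR : ∀ l, R l → α l = -(if d = l then 1 else 0)) (p p' : Idx s0 s1 t R) :
    Conn (G q) (J k s0 s1 t R q) α p p' ↔
      0 ≤ mm q α p p' s0 ∧ 0 ≤ mm q α p p' s1 ∧ 0 ≤ α t ∧
      (c ≠ t → 1 ≤ max (G q p c : ℤ) (G q p' c)) ∧ (d ≠ t → 1 ≤ max (G q p d : ℤ) (G q p' d)) ∧
      mm q α p p' s0 ≤ 1 ∧ mm q α p p' s1 ≤ q ∧
      (1 ≤ mm q α p p' s0 → mm q α p p' s1 ≤ 0 ∧ (EMi q c p = 0 ∧ EMi q c p' = 0) ∧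
        (ERi q d p = 0 ∧ ERi q d p' = 0)) ∧
      ((q : ℤ) ≤ mm q α p p' s1 → EMi q c p = 0 ∧ EMi q c p' = 0) := by
  obtain ⟨z1, w1⟩ := G_le_one (q := q) h01 h0t h1t hR0 hR1 hRt hc hd p
  obtain ⟨z2, w2⟩ := G_le_one (q := q) h01 h0t h1t hR0 hR1 hRt hc hd p'
  rw [conn_iff'' h01 h0t h1t hR0 hR1 hRt, not_inI_iff, nonneg_split h0t h1t,
    nonneg_mid_minus α hc hαM, nonneg_R_minus hRt α hd hαR, NM_iff_minus α hc hαM p p' z1 z2,
    NR_iff_minus α hd hαR p p' w1 w2]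
  tauto

include h01 h0t h1t hR0 hR1 hRt in
/-- the linking relation in coordinates: multidegree nonnegative and somewhere positive on the
middle indices, and `-e_d` (or zero) on `R` -/
lemma conn_pm (α : Fin (n + 1) → ℤ) {d : Fin (n + 1)} (hd : d = t ∨ R d)
    (hαM : ∀ l, IsMid s0 s1 t R l → 0 ≤ α l) (hαM' : ∃ b, IsMid s0 s1 t R b ∧ 1 ≤ α b)
    (hαR : ∀ l, R l → α l = -(if d = l then 1 else 0)) (p p' : Idx s0 s1 t R) :
    Conn (G q) (J k s0 s1 t R q) α p p' ↔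
      0 ≤ mm q α p p' s0 ∧ 0 ≤ mm q α p p' s1 ∧ 0 ≤ α t ∧
      (d ≠ t → 1 ≤ max (G q p d : ℤ) (G q p' d)) ∧
      mm q α p p' s0 ≤ 0 ∧ mm q α p p' s1 ≤ (q : ℤ) - 1 := by
  have hNM := NM_false_plus (q := q) α hαM' p p'
  have hnn := nonneg_mid_plus (q := q) α hαM p p'
  rw [conn_iff'' h01 h0t h1t hR0 hR1 hRt, not_inI_iff, nonneg_split h0t h1t,
    nonneg_R_minus hRt α hd hαR]
  constructor
  · rintro ⟨⟨h1, h2, h3, -, h5⟩, h6, h7, h8, h9⟩
    refine ⟨h1, h2, h3, h5, ?_, ?_⟩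
    · by_contra hcon
      exact hNM (h8 (by omega)).2.1
    · by_contra hcon
      exact hNM (h9 (by omega))
  · rintro ⟨h1, h2, h3, h5, h6, h7⟩
    refine ⟨⟨h1, h2, h3, hnn, h5⟩, by omega, by omega, fun h => by omega, fun h => by omega⟩

include h01 h0t h1t hR0 hR1 hRt in
/-- the linking relation in coordinates: multidegree `-e_c` (or zero) on the middle indices, and
nonnegative and somewhere positive on `R` -/
lemma conn_mp (α : Fin (n + 1) → ℤ) {c : Fin (n + 1)} (hc : c = t ∨ IsMid s0 s1 t R c)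
    (hαM : ∀ l, IsMid s0 s1 t R l → α l = -(if c = l then 1 else 0))
    (hαR : ∀ l, R l → 0 ≤ α l) (hαR' : ∃ b, R b ∧ 1 ≤ α b) (p p' : Idx s0 s1 t R) :
    Conn (G q) (J k s0 s1 t R q) α p p' ↔
      0 ≤ mm q α p p' s0 ∧ 0 ≤ mm q α p p' s1 ∧ 0 ≤ α t ∧
      (c ≠ t → 1 ≤ max (G q p c : ℤ) (G q p' c)) ∧
      mm q α p p' s0 ≤ 0 ∧ mm q α p p' s1 ≤ q ∧
      ((q : ℤ) ≤ mm q α p p' s1 → EMi q c p = 0 ∧ EMi q c p' = 0) := by
  have hNR := NR_false_plus (q := q) α hαR' p p'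
  have hnn := nonneg_R_plus (q := q) α hαR p p'
  obtain ⟨z1, -⟩ := G_le_one (q := q) (d := t) h01 h0t h1t hR0 hR1 hRt hc (Or.inl rfl) p
  obtain ⟨z2, -⟩ := G_le_one (q := q) (d := t) h01 h0t h1t hR0 hR1 hRt hc (Or.inl rfl) p'
  rw [conn_iff'' h01 h0t h1t hR0 hR1 hRt, not_inI_iff, nonneg_split h0t h1t,
    nonneg_mid_minus α hc hαM, NM_iff_minus α hc hαM p p' z1 z2]
  constructor
  · rintro ⟨⟨h1, h2, h3, h4, -⟩, h6, h7, h8, h9⟩
    refine ⟨h1, h2, h3, h4, ?_, h7, h9⟩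
    by_contra hcon
    exact hNR (h8 (by omega)).2.2
  · rintro ⟨h1, h2, h3, h4, h6, h7, h9⟩
    exact ⟨⟨h1, h2, h3, h4, hnn⟩, by omega, h7, fun h => by omega, h9⟩

end Groth.Agent.S13447
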