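import Groth.Agent.Lib.Seat60S13447c

/-! Seat60: the special nonzero graded pieces of total degree zero of `T(I)` for the ideal of
`Seat60S13447a`, with their dimensions. -/

set_option autoImplicit false
set_option linter.unusedVariables false
set_option linter.unusedSectionVars false
set_option linter.unusedSimpArgs false
set_option linter.unusedTactic false
set_option linter.unreachableTactic false
set_option linter.unnecessarySeqFocus false
universe u
open W4c1hilbpn MvPolynomial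
open Groth.Agent.Lib.Seat60.Hom0
open Groth.Agent.S13449 (dv dq pair_le dv_self_right dv_self_left dv_other dq_apply)

namespace Groth.Agent.S13447

variable {k : Type u} [Field k] {n : ℕ} {s0 s1 t : Fin (n + 1)} {R : Fin (n + 1) → Prop} {q : ℕ}
variable (h01 : s0 ≠ s1) (h0t : s0 ≠ t) (h1t : s1 ≠ t) (hR0 : ¬ R s0) (hR1 : ¬ R s1) (hRt : ¬ R t)
  (hq : 1 ≤ q)

lemma dv_apply (b a l : Fin (n + 1)) :
    dv b a l = (if b = l then 1 else 0) - (if a = l then 1 else 0) := rfl

/-- the multidegree `e_{s0} + q e_t - q e_{s1} - e_j` -/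
def aF (s0 s1 t : Fin (n + 1)) (q : ℕ) (j : Fin (n + 1)) : Fin (n + 1) → ℤ :=
  fun l => (if s0 = l then 1 else 0) + (if t = l then (q : ℤ) else 0) -
    (if s1 = l then (q : ℤ) else 0) - (if j = l then 1 else 0)

lemma aF_apply (j l : Fin (n + 1)) : aF s0 s1 t q j l =
    (if s0 = l then 1 else 0) + (if t = l then (q : ℤ) else 0) -
      (if s1 = l then (q : ℤ) else 0) - (if j = l then 1 else 0) := rfl

/-- the generator `x_{s0} x_b`, `b ∈ R` -/
def hub (hRt : ¬ R t) (b : Fin (n + 1)) (hb : R b) : Idx s0 s1 t R :=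
  Sum.inl ⟨b, fun e => hRt (e ▸ hb)⟩

include hR0 in
lemma ERi_hub (b : Fin (n + 1)) (hb : R b) :
    ERi q t (hub (s0 := s0) (s1 := s1) hRt b hb) = 1 := by
  unfold hub
  rw [ERi_inl hR0, if_pos]
  exact ⟨hb, fun e => hRt (e ▸ hb)⟩

/-! ### A1: `e_t - e_{s0}` -/

include h01 h0t h1t hR0 hR1 hRt hq in
theorem finrank_A1 (hRne : ∃ b0, R b0) :
    Module.finrank k ↥(tPiece (J k s0 s1 t R q) (dv t s0)) = 2 := by
  classical
  rw [finrank_tPiece_eq_finrank_W (hI k s0 s1 t R q) (hG k s0 s1 t R q)]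
  have e1 := h01.symm
  have e2 := h0t.symm
  have e3 := h1t.symm
  have hqz : (1 : ℤ) ≤ (q : ℤ) := by exact_mod_cast hq
  have hαM : ∀ l, IsMid s0 s1 t R l → (dv t s0) l = -(if t = l then 1 else 0) := by
    rintro l ⟨hl0, hl1, hlt, hlR⟩
    simp only [dv_apply, aF_apply, Ne.symm hl0, Ne.symm hl1, Ne.symm hlt, ↓reduceIte]
    try ring
  have hαR : ∀ l, R l → (dv t s0) l = -(if t = l then 1 else 0) := by
    intro l hl
    have hl0 : s0 ≠ l := fun e => hR0 (e ▸ hl)
    have hl1 : s1 ≠ l := fun e => hR1 (e ▸ hl)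
    have hlt : t ≠ l := fun e => hRt (e ▸ hl)
    simp only [dv_apply, aF_apply, hl0, hl1, hlt, ↓reduceIte]
    try ring
  have a0 : (dv t s0) s0 = -1 := by
    simp only [dv_apply, aF_apply, h01, h0t, h1t, e1, e2, e3, ↓reduceIte]
    try ring
  have a1 : (dv t s0) s1 = 0 := by
    simp only [dv_apply, aF_apply, h01, h0t, h1t, e1, e2, e3, ↓reduceIte]
    try ring
  have at' : (dv t s0) t = 1 := by
    simp only [dv_apply, aF_apply, h01, h0t, h1t, e1, e2, e3, ↓reduceIte]
    try ring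
  have hc : t = t ∨ IsMid s0 s1 t R t := Or.inl rfl
  have hd : t = t ∨ R t := Or.inl rfl
  obtain ⟨b0, hb0⟩ := hRne
  have Hp := prof (q := q) h01 h0t h1t hR0 hR1 hRt hc (Or.inl rfl : t = t ∨ R t) (hub (s0 := s0) (s1 := s1) hRt b0 hb0)
  have HE := ERi_hub (q := q) (s0 := s0) (s1 := s1) hR0 hRt b0 hb0
  have key := finrank_W_eq_card_of_key' (k := k) (G := G q) (I := J k s0 s1 t R q) (α := dv t s0)
    (fun p : Idx s0 s1 t R => (G q p s0 : ℤ)) ({(2 : ℤ), (1 : ℤ)} : Finset (ℤ))
  rw [key]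
  · first
    | rfl
    | (rw [Finset.card_insert_of_notMem, Finset.card_insert_of_notMem, Finset.card_singleton] <;>
        (simp only [Finset.mem_insert, Finset.mem_singleton, Prod.mk.injEq]; omega))
    | (rw [Finset.card_insert_of_notMem, Finset.card_singleton] <;>
        (simp only [Finset.mem_insert, Finset.mem_singleton, Prod.mk.injEq]; omega))
  · intro p
    have P := prof (q := q) h01 h0t h1t hR0 hR1 hRt hc hd p
    rw [act_iff_conn_self]
    rw [conn_mm h01 h0t h1t hR0 hR1 hRt _ hc hd hαM hαR]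
    simp only [mm_apply, a0, a1, at']
    simp only [max_self, Finset.mem_insert, Finset.mem_singleton, Prod.mk.injEq]
    omega
  · intro p p'
    have P := prof (q := q) h01 h0t h1t hR0 hR1 hRt hc hd p
    have Q := prof (q := q) h01 h0t h1t hR0 hR1 hRt hc hd p'
    rw [conn_mm h01 h0t h1t hR0 hR1 hRt _ hc hd hαM hαR]
    simp only [mm_apply, a0, a1, at']
    try simp only [Finset.mem_insert, Finset.mem_singleton, Prod.mk.injEq]
    omega
  · intro x hx
    simp only [Finset.mem_insert, Finset.mem_singleton] at hx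
    rcases hx with rfl | rfl
    · refine ⟨(Sum.inl ⟨s0, h0t⟩ : Idx s0 s1 t R), ?_⟩
      simp only [GZ_inl, GZ_inr, h01, h0t, h1t, e1, e2, e3, ↓reduceIte, Prod.mk.injEq]
      try norm_num
      try omega
    · refine ⟨(hub hRt b0 hb0), ?_⟩
      try simp only [Prod.mk.injEq]
      omega
  · intro c hc' p p' hp hpq
    have P := prof (q := q) h01 h0t h1t hR0 hR1 hRt hc hd p
    have Q := prof (q := q) h01 h0t h1t hR0 hR1 hRt hc hd p'
    simp only [Finset.mem_insert, Finset.mem_singleton, Prod.mk.injEq] at hp hpq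
    rcases hp with hp | hp
    · apply hc'.2
      rw [conn_mm h01 h0t h1t hR0 hR1 hRt _ hc hd hαM hαR]
      simp only [mm_apply, a0, a1, at']
      omega
    · have h1 : c p = c (hub hRt b0 hb0) := by
        apply hc'.2
        rw [conn_mm h01 h0t h1t hR0 hR1 hRt _ hc hd hαM hαR]
        simp only [mm_apply, a0, a1, at']
        omega
      have h2 : c p' = c (hub hRt b0 hb0) := by
        apply hc'.2
        rw [conn_mm h01 h0t h1t hR0 hR1 hRt _ hc hd hαM hαR]
        simp only [mm_apply, a0, a1, at']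
        omega
      rw [h1, h2]

/-! ### A2: `e_{s1} - e_{s0}` -/

include h01 h0t h1t hR0 hR1 hRt hq in
theorem finrank_A2 (hRne : ∃ b0, R b0) :
    Module.finrank k ↥(tPiece (J k s0 s1 t R q) (dv s1 s0)) = 1 := by
  classical
  rw [finrank_tPiece_eq_finrank_W (hI k s0 s1 t R q) (hG k s0 s1 t R q)]
  have e1 := h01.symm
  have e2 := h0t.symm
  have e3 := h1t.symm
  have hqz : (1 : ℤ) ≤ (q : ℤ) := by exact_mod_cast hq
  have hαM : ∀ l, IsMid s0 s1 t R l → (dv s1 s0) l = -(if t = l then 1 else 0) := by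
    rintro l ⟨hl0, hl1, hlt, hlR⟩
    simp only [dv_apply, aF_apply, Ne.symm hl0, Ne.symm hl1, Ne.symm hlt, ↓reduceIte]
    try ring
  have hαR : ∀ l, R l → (dv s1 s0) l = -(if t = l then 1 else 0) := by
    intro l hl
    have hl0 : s0 ≠ l := fun e => hR0 (e ▸ hl)
    have hl1 : s1 ≠ l := fun e => hR1 (e ▸ hl)
    have hlt : t ≠ l := fun e => hRt (e ▸ hl)
    simp only [dv_apply, aF_apply, hl0, hl1, hlt, ↓reduceIte]
    try ring
  have a0 : (dv s1 s0) s0 = -1 := by
    simp only [dv_apply, aF_apply, h01, h0t, h1t, e1, e2, e3, ↓reduceIte]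
    try ring
  have a1 : (dv s1 s0) s1 = 1 := by
    simp only [dv_apply, aF_apply, h01, h0t, h1t, e1, e2, e3, ↓reduceIte]
    try ring
  have at' : (dv s1 s0) t = 0 := by
    simp only [dv_apply, aF_apply, h01, h0t, h1t, e1, e2, e3, ↓reduceIte]
    try ring
  have hc : t = t ∨ IsMid s0 s1 t R t := Or.inl rfl
  have hd : t = t ∨ R t := Or.inl rfl
  obtain ⟨b0, hb0⟩ := hRne
  have Hp := prof (q := q) h01 h0t h1t hR0 hR1 hRt hc (Or.inl rfl : t = t ∨ R t) (hub (s0 := s0) (s1 := s1) hRt b0 hb0)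
  have HE := ERi_hub (q := q) (s0 := s0) (s1 := s1) hR0 hRt b0 hb0
  have key := finrank_W_eq_card_of_key' (k := k) (G := G q) (I := J k s0 s1 t R q) (α := dv s1 s0)
    (fun p : Idx s0 s1 t R => (if (G q p s0 : ℤ) = 1 ∧ (G q p s1 : ℤ) + 1 ≤ (q : ℤ) ∧ ((q : ℤ) ≤ (G q p s1 : ℤ) + 1 → EMi q t p = 0) then (1 : ℤ) else 0)) ({(1 : ℤ)} : Finset (ℤ))
  rw [key]
  · first
    | rfl
    | (rw [Finset.card_insert_of_notMem, Finset.card_insert_of_notMem, Finset.card_singleton] <;>
        (simp only [Finset.mem_insert, Finset.mem_singleton, Prod.mk.injEq]; omega))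
    | (rw [Finset.card_insert_of_notMem, Finset.card_singleton] <;>
        (simp only [Finset.mem_insert, Finset.mem_singleton, Prod.mk.injEq]; omega))
  · intro p
    have P := prof (q := q) h01 h0t h1t hR0 hR1 hRt hc hd p
    rw [act_iff_conn_self]
    rw [conn_mm h01 h0t h1t hR0 hR1 hRt _ hc hd hαM hαR]
    simp only [mm_apply, a0, a1, at']
    simp only [max_self, Finset.mem_insert, Finset.mem_singleton, Prod.mk.injEq]
    omega
  · intro p p'
    have P := prof (q := q) h01 h0t h1t hR0 hR1 hRt hc hd p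
    have Q := prof (q := q) h01 h0t h1t hR0 hR1 hRt hc hd p'
    rw [conn_mm h01 h0t h1t hR0 hR1 hRt _ hc hd hαM hαR]
    simp only [mm_apply, a0, a1, at']
    try simp only [Finset.mem_insert, Finset.mem_singleton, Prod.mk.injEq]
    omega
  · intro x hx
    simp only [Finset.mem_insert, Finset.mem_singleton] at hx
    subst hx
    · refine ⟨(hub hRt b0 hb0), ?_⟩
      try simp only [Prod.mk.injEq]
      omega
  · intro c hc' p p' hp hpq
    have P := prof (q := q) h01 h0t h1t hR0 hR1 hRt hc hd p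
    have Q := prof (q := q) h01 h0t h1t hR0 hR1 hRt hc hd p'
    simp only [Finset.mem_insert, Finset.mem_singleton, Prod.mk.injEq] at hp hpq
    have h1 : c p = c (hub hRt b0 hb0) := by
      apply hc'.2
      rw [conn_mm h01 h0t h1t hR0 hR1 hRt _ hc hd hαM hαR]
      simp only [mm_apply, a0, a1, at']
      omega
    have h2 : c p' = c (hub hRt b0 hb0) := by
      apply hc'.2
      rw [conn_mm h01 h0t h1t hR0 hR1 hRt _ hc hd hαM hαR]
      simp only [mm_apply, a0, a1, at']
      omega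
    rw [h1, h2]

/-! ### A3: `e_b - e_{s0}`, `b` a middle index -/

include h01 h0t h1t hR0 hR1 hRt hq in
theorem finrank_A3 {b : Fin (n + 1)} (hm : IsMid s0 s1 t R b) :
    Module.finrank k ↥(tPiece (J k s0 s1 t R q) (dv b s0)) = 1 := by
  classical
  rw [finrank_tPiece_eq_finrank_W (hI k s0 s1 t R q) (hG k s0 s1 t R q)]
  have e1 := h01.symm
  have e2 := h0t.symm
  have e3 := h1t.symm
  have hqz : (1 : ℤ) ≤ (q : ℤ) := by exact_mod_cast hq
  obtain ⟨hm0, hm1, hmt, hmR⟩ := id hm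
  have e7 := hm0.symm
  have e8 := hm1.symm
  have e9 := hmt.symm
  have hαM : ∀ l, IsMid s0 s1 t R l → 0 ≤ (dv b s0) l := by
    rintro l ⟨hl0, hl1, hlt, hlR⟩
    simp only [dv_apply, aF_apply, Ne.symm hl0, Ne.symm hl1, Ne.symm hlt, ↓reduceIte]
    split_ifs <;> norm_num
  have hαM' : ∃ b', IsMid s0 s1 t R b' ∧ 1 ≤ (dv b s0) b' := by
    refine ⟨b, hm, ?_⟩
    simp only [dv_apply, aF_apply, h01, h0t, h1t, e1, e2, e3, hm0, hm1, hmt, e7, e8, e9, ↓reduceIte]
    norm_num
  have hαR : ∀ l, R l → (dv b s0) l = -(if t = l then 1 else 0) := by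
    intro l hl
    have hl0 : s0 ≠ l := fun e => hR0 (e ▸ hl)
    have hl1 : s1 ≠ l := fun e => hR1 (e ▸ hl)
    have hlt : t ≠ l := fun e => hRt (e ▸ hl)
    have hal : b ≠ l := fun e => hmR (e ▸ hl)
    simp only [dv_apply, aF_apply, hl0, hl1, hlt, hal, ↓reduceIte]
    try ring
  have a0 : (dv b s0) s0 = -1 := by
    simp only [dv_apply, aF_apply, h01, h0t, h1t, e1, e2, e3, hm0, hm1, hmt, e7, e8, e9, ↓reduceIte]
    try ring
  have a1 : (dv b s0) s1 = 0 := by
    simp only [dv_apply, aF_apply, h01, h0t, h1t, e1, e2, e3, hm0, hm1, hmt, e7, e8, e9, ↓reduceIte]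
    try ring
  have at' : (dv b s0) t = 0 := by
    simp only [dv_apply, aF_apply, h01, h0t, h1t, e1, e2, e3, hm0, hm1, hmt, e7, e8, e9, ↓reduceIte]
    try ring
  have hc : t = t ∨ IsMid s0 s1 t R t := Or.inl rfl
  have hd : t = t ∨ R t := Or.inl rfl
  have key := finrank_W_eq_card_of_key' (k := k) (G := G q) (I := J k s0 s1 t R q) (α := dv b s0)
    (fun p : Idx s0 s1 t R => (if (G q p s0 : ℤ) = 1 ∧ (G q p s1 : ℤ) ≤ (q : ℤ) - 1 then (1 : ℤ) else 0)) ({(1 : ℤ)} : Finset (ℤ))
  rw [key]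
  · first
    | rfl
    | (rw [Finset.card_insert_of_notMem, Finset.card_insert_of_notMem, Finset.card_singleton] <;>
        (simp only [Finset.mem_insert, Finset.mem_singleton, Prod.mk.injEq]; omega))
    | (rw [Finset.card_insert_of_notMem, Finset.card_singleton] <;>
        (simp only [Finset.mem_insert, Finset.mem_singleton, Prod.mk.injEq]; omega))
  · intro p
    have P := prof (q := q) h01 h0t h1t hR0 hR1 hRt hc hd p
    rw [act_iff_conn_self]
    rw [conn_pm h01 h0t h1t hR0 hR1 hRt _ hd hαM hαM' hαR]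
    simp only [mm_apply, a0, a1, at']
    simp only [max_self, Finset.mem_insert, Finset.mem_singleton, Prod.mk.injEq]
    omega
  · intro p p'
    have P := prof (q := q) h01 h0t h1t hR0 hR1 hRt hc hd p
    have Q := prof (q := q) h01 h0t h1t hR0 hR1 hRt hc hd p'
    rw [conn_pm h01 h0t h1t hR0 hR1 hRt _ hd hαM hαM' hαR]
    simp only [mm_apply, a0, a1, at']
    try simp only [Finset.mem_insert, Finset.mem_singleton, Prod.mk.injEq]
    omega
  · intro x hx
    simp only [Finset.mem_insert, Finset.mem_singleton] at hx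
    subst hx
    · refine ⟨(Sum.inl ⟨b, hmt⟩ : Idx s0 s1 t R), ?_⟩
      simp only [GZ_inl, GZ_inr, h01, h0t, h1t, e1, e2, e3, hm0, hm1, hmt, e7, e8, e9, ↓reduceIte, Prod.mk.injEq]
      try norm_num
      try omega
  · intro c hc' p p' hp hpq
    have P := prof (q := q) h01 h0t h1t hR0 hR1 hRt hc hd p
    have Q := prof (q := q) h01 h0t h1t hR0 hR1 hRt hc hd p'
    simp only [Finset.mem_insert, Finset.mem_singleton, Prod.mk.injEq] at hp hpq
    apply hc'.2
    rw [conn_pm h01 h0t h1t hR0 hR1 hRt _ hd hαM hαM' hαR]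
    simp only [mm_apply, a0, a1, at']
    omega

/-! ### A4: `e_b - e_{s0}`, `b ∈ R` -/

include h01 h0t h1t hR0 hR1 hRt hq in
theorem finrank_A4 {b : Fin (n + 1)} (hr : R b) :
    Module.finrank k ↥(tPiece (J k s0 s1 t R q) (dv b s0)) = 1 := by
  classical
  rw [finrank_tPiece_eq_finrank_W (hI k s0 s1 t R q) (hG k s0 s1 t R q)]
  have e1 := h01.symm
  have e2 := h0t.symm
  have e3 := h1t.symm
  have hqz : (1 : ℤ) ≤ (q : ℤ) := by exact_mod_cast hq
  have hr0 : b ≠ s0 := fun e => hR0 (e ▸ hr)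
  have hr1 : b ≠ s1 := fun e => hR1 (e ▸ hr)
  have hrt : b ≠ t := fun e => hRt (e ▸ hr)
  have e10 := hr0.symm
  have e11 := hr1.symm
  have e12 := hrt.symm
  have hαM : ∀ l, IsMid s0 s1 t R l → (dv b s0) l = -(if t = l then 1 else 0) := by
    rintro l ⟨hl0, hl1, hlt, hlR⟩
    have hbl : b ≠ l := fun e => hlR (e ▸ hr)
    simp only [dv_apply, aF_apply, Ne.symm hl0, Ne.symm hl1, Ne.symm hlt, hbl, ↓reduceIte]
    try ring
  have hαR : ∀ l, R l → 0 ≤ (dv b s0) l := by
    intro l hl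
    have hl0 : s0 ≠ l := fun e => hR0 (e ▸ hl)
    have hl1 : s1 ≠ l := fun e => hR1 (e ▸ hl)
    have hlt : t ≠ l := fun e => hRt (e ▸ hl)
    simp only [dv_apply, aF_apply, hl0, hl1, hlt, ↓reduceIte]
    split_ifs <;> norm_num
  have hαR' : ∃ b', R b' ∧ 1 ≤ (dv b s0) b' := by
    refine ⟨b, hr, ?_⟩
    simp only [dv_apply, aF_apply, h01, h0t, h1t, e1, e2, e3, hr0, hr1, hrt, e10, e11, e12, ↓reduceIte]
    norm_num
  have a0 : (dv b s0) s0 = -1 := by
    simp only [dv_apply, aF_apply, h01, h0t, h1t, e1, e2, e3, hr0, hr1, hrt, e10, e11, e12, ↓reduceIte]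
    try ring
  have a1 : (dv b s0) s1 = 0 := by
    simp only [dv_apply, aF_apply, h01, h0t, h1t, e1, e2, e3, hr0, hr1, hrt, e10, e11, e12, ↓reduceIte]
    try ring
  have at' : (dv b s0) t = 0 := by
    simp only [dv_apply, aF_apply, h01, h0t, h1t, e1, e2, e3, hr0, hr1, hrt, e10, e11, e12, ↓reduceIte]
    try ring
  have hc : t = t ∨ IsMid s0 s1 t R t := Or.inl rfl
  have hd : t = t ∨ R t := Or.inl rfl
  have Hp := prof (q := q) h01 h0t h1t hR0 hR1 hRt hc (Or.inl rfl : t = t ∨ R t) (hub (s0 := s0) (s1 := s1) hRt b hr)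
  have HE := ERi_hub (q := q) (s0 := s0) (s1 := s1) hR0 hRt b hr
  have key := finrank_W_eq_card_of_key' (k := k) (G := G q) (I := J k s0 s1 t R q) (α := dv b s0)
    (fun p : Idx s0 s1 t R => (G q p s0 : ℤ)) ({(1 : ℤ)} : Finset (ℤ))
  rw [key]
  · first
    | rfl
    | (rw [Finset.card_insert_of_notMem, Finset.card_insert_of_notMem, Finset.card_singleton] <;>
        (simp only [Finset.mem_insert, Finset.mem_singleton, Prod.mk.injEq]; omega))
    | (rw [Finset.card_insert_of_notMem, Finset.card_singleton] <;>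
        (simp only [Finset.mem_insert, Finset.mem_singleton, Prod.mk.injEq]; omega))
  · intro p
    have P := prof (q := q) h01 h0t h1t hR0 hR1 hRt hc hd p
    rw [act_iff_conn_self]
    rw [conn_mp h01 h0t h1t hR0 hR1 hRt _ hc hαM hαR hαR']
    simp only [mm_apply, a0, a1, at']
    simp only [max_self, Finset.mem_insert, Finset.mem_singleton, Prod.mk.injEq]
    omega
  · intro p p'
    have P := prof (q := q) h01 h0t h1t hR0 hR1 hRt hc hd p
    have Q := prof (q := q) h01 h0t h1t hR0 hR1 hRt hc hd p'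
    rw [conn_mp h01 h0t h1t hR0 hR1 hRt _ hc hαM hαR hαR']
    simp only [mm_apply, a0, a1, at']
    try simp only [Finset.mem_insert, Finset.mem_singleton, Prod.mk.injEq]
    omega
  · intro x hx
    simp only [Finset.mem_insert, Finset.mem_singleton] at hx
    subst hx
    · refine ⟨(hub hRt b hr), ?_⟩
      try simp only [Prod.mk.injEq]
      omega
  · intro c hc' p p' hp hpq
    have P := prof (q := q) h01 h0t h1t hR0 hR1 hRt hc hd p
    have Q := prof (q := q) h01 h0t h1t hR0 hR1 hRt hc hd p'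
    simp only [Finset.mem_insert, Finset.mem_singleton, Prod.mk.injEq] at hp hpq
    have h1 : c p = c (hub hRt b hr) := by
      apply hc'.2
      rw [conn_mp h01 h0t h1t hR0 hR1 hRt _ hc hαM hαR hαR']
      simp only [mm_apply, a0, a1, at']
      omega
    have h2 : c p' = c (hub hRt b hr) := by
      apply hc'.2
      rw [conn_mp h01 h0t h1t hR0 hR1 hRt _ hc hαM hαR hαR']
      simp only [mm_apply, a0, a1, at']
      omega
    rw [h1, h2]

/-! ### B1: `e_t - e_{s1}` -/

include h01 h0t h1t hR0 hR1 hRt hq in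
theorem finrank_B1 (hmid : ∃ w, IsMid s0 s1 t R w) :
    Module.finrank k ↥(tPiece (J k s0 s1 t R q) (dv t s1)) = 3 := by
  classical
  rw [finrank_tPiece_eq_finrank_W (hI k s0 s1 t R q) (hG k s0 s1 t R q)]
  have e1 := h01.symm
  have e2 := h0t.symm
  have e3 := h1t.symm
  have hqz : (1 : ℤ) ≤ (q : ℤ) := by exact_mod_cast hq
  have hαM : ∀ l, IsMid s0 s1 t R l → (dv t s1) l = -(if t = l then 1 else 0) := by
    rintro l ⟨hl0, hl1, hlt, hlR⟩
    simp only [dv_apply, aF_apply, Ne.symm hl0, Ne.symm hl1, Ne.symm hlt, ↓reduceIte]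
    try ring
  have hαR : ∀ l, R l → (dv t s1) l = -(if t = l then 1 else 0) := by
    intro l hl
    have hl0 : s0 ≠ l := fun e => hR0 (e ▸ hl)
    have hl1 : s1 ≠ l := fun e => hR1 (e ▸ hl)
    have hlt : t ≠ l := fun e => hRt (e ▸ hl)
    simp only [dv_apply, aF_apply, hl0, hl1, hlt, ↓reduceIte]
    try ring
  have a0 : (dv t s1) s0 = 0 := by
    simp only [dv_apply, aF_apply, h01, h0t, h1t, e1, e2, e3, ↓reduceIte]
    try ring
  have a1 : (dv t s1) s1 = -1 := by
    simp only [dv_apply, aF_apply, h01, h0t, h1t, e1, e2, e3, ↓reduceIte]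
    try ring
  have at' : (dv t s1) t = 1 := by
    simp only [dv_apply, aF_apply, h01, h0t, h1t, e1, e2, e3, ↓reduceIte]
    try ring
  have hc : t = t ∨ IsMid s0 s1 t R t := Or.inl rfl
  have hd : t = t ∨ R t := Or.inl rfl
  have key := finrank_W_eq_card_of_key' (k := k) (G := G q) (I := J k s0 s1 t R q) (α := dv t s1)
    (fun p : Idx s0 s1 t R => ((G q p s0 : ℤ), (G q p s1 : ℤ))) ({((1 : ℤ), (1 : ℤ)), ((0 : ℤ), (q : ℤ) + 1), ((0 : ℤ), (q : ℤ))} : Finset (ℤ × ℤ))
  rw [key]
  · first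
    | rfl
    | (rw [Finset.card_insert_of_notMem, Finset.card_insert_of_notMem, Finset.card_singleton] <;>
        (simp only [Finset.mem_insert, Finset.mem_singleton, Prod.mk.injEq]; omega))
    | (rw [Finset.card_insert_of_notMem, Finset.card_singleton] <;>
        (simp only [Finset.mem_insert, Finset.mem_singleton, Prod.mk.injEq]; omega))
  · intro p
    have P := prof (q := q) h01 h0t h1t hR0 hR1 hRt hc hd p
    rw [act_iff_conn_self]
    rw [conn_mm h01 h0t h1t hR0 hR1 hRt _ hc hd hαM hαR]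
    simp only [mm_apply, a0, a1, at']
    simp only [max_self, Finset.mem_insert, Finset.mem_singleton, Prod.mk.injEq]
    omega
  · intro p p'
    have P := prof (q := q) h01 h0t h1t hR0 hR1 hRt hc hd p
    have Q := prof (q := q) h01 h0t h1t hR0 hR1 hRt hc hd p'
    rw [conn_mm h01 h0t h1t hR0 hR1 hRt _ hc hd hαM hαR]
    simp only [mm_apply, a0, a1, at']
    try simp only [Finset.mem_insert, Finset.mem_singleton, Prod.mk.injEq]
    omega
  · intro x hx
    simp only [Finset.mem_insert, Finset.mem_singleton] at hx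
    rcases hx with rfl | rfl | rfl
    · refine ⟨(Sum.inl ⟨s1, h1t⟩ : Idx s0 s1 t R), ?_⟩
      simp only [GZ_inl, GZ_inr, h01, h0t, h1t, e1, e2, e3, ↓reduceIte, Prod.mk.injEq]
      try norm_num
      try omega
    · refine ⟨(Sum.inr ⟨s1, Or.inl rfl⟩ : Idx s0 s1 t R), ?_⟩
      simp only [GZ_inl, GZ_inr, h01, h0t, h1t, e1, e2, e3, ↓reduceIte, Prod.mk.injEq]
      try norm_num
      try omega
    · obtain ⟨w, hw⟩ := hmid
      obtain ⟨hw0, hw1, hwt, hwR⟩ := id hw
      refine ⟨(Sum.inr ⟨w, Or.inr hw⟩ : Idx s0 s1 t R), ?_⟩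
      simp only [GZ_inl, GZ_inr, h01, h0t, h1t, e1, e2, e3, hw0, hw1, hwt, Ne.symm hw0, Ne.symm hw1, Ne.symm hwt, ↓reduceIte, Prod.mk.injEq]
      try norm_num
  · intro c hc' p p' hp hpq
    have P := prof (q := q) h01 h0t h1t hR0 hR1 hRt hc hd p
    have Q := prof (q := q) h01 h0t h1t hR0 hR1 hRt hc hd p'
    simp only [Finset.mem_insert, Finset.mem_singleton, Prod.mk.injEq] at hp hpq
    rcases hp with hp | hp | hp
    · apply hc'.2
      rw [conn_mm h01 h0t h1t hR0 hR1 hRt _ hc hd hαM hαR]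
      simp only [mm_apply, a0, a1, at']
      omega
    · apply hc'.2
      rw [conn_mm h01 h0t h1t hR0 hR1 hRt _ hc hd hαM hαR]
      simp only [mm_apply, a0, a1, at']
      omega
    · apply hc'.2
      rw [conn_mm h01 h0t h1t hR0 hR1 hRt _ hc hd hαM hαR]
      simp only [mm_apply, a0, a1, at']
      omega

/-! ### B2: `e_b - e_{s1}`, `b ∈ R` -/

include h01 h0t h1t hR0 hR1 hRt hq in
theorem finrank_B2 {b : Fin (n + 1)} (hr : R b) (hmid : ∃ w, IsMid s0 s1 t R w) :
    Module.finrank k ↥(tPiece (J k s0 s1 t R q) (dv b s1)) = 2 := by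
  classical
  rw [finrank_tPiece_eq_finrank_W (hI k s0 s1 t R q) (hG k s0 s1 t R q)]
  have e1 := h01.symm
  have e2 := h0t.symm
  have e3 := h1t.symm
  have hqz : (1 : ℤ) ≤ (q : ℤ) := by exact_mod_cast hq
  have hr0 : b ≠ s0 := fun e => hR0 (e ▸ hr)
  have hr1 : b ≠ s1 := fun e => hR1 (e ▸ hr)
  have hrt : b ≠ t := fun e => hRt (e ▸ hr)
  have e10 := hr0.symm
  have e11 := hr1.symm
  have e12 := hrt.symm
  have hαM : ∀ l, IsMid s0 s1 t R l → (dv b s1) l = -(if t = l then 1 else 0) := by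
    rintro l ⟨hl0, hl1, hlt, hlR⟩
    have hbl : b ≠ l := fun e => hlR (e ▸ hr)
    simp only [dv_apply, aF_apply, Ne.symm hl0, Ne.symm hl1, Ne.symm hlt, hbl, ↓reduceIte]
    try ring
  have hαR : ∀ l, R l → 0 ≤ (dv b s1) l := by
    intro l hl
    have hl0 : s0 ≠ l := fun e => hR0 (e ▸ hl)
    have hl1 : s1 ≠ l := fun e => hR1 (e ▸ hl)
    have hlt : t ≠ l := fun e => hRt (e ▸ hl)
    simp only [dv_apply, aF_apply, hl0, hl1, hlt, ↓reduceIte]
    split_ifs <;> norm_num
  have hαR' : ∃ b', R b' ∧ 1 ≤ (dv b s1) b' := by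
    refine ⟨b, hr, ?_⟩
    simp only [dv_apply, aF_apply, h01, h0t, h1t, e1, e2, e3, hr0, hr1, hrt, e10, e11, e12, ↓reduceIte]
    norm_num
  have a0 : (dv b s1) s0 = 0 := by
    simp only [dv_apply, aF_apply, h01, h0t, h1t, e1, e2, e3, hr0, hr1, hrt, e10, e11, e12, ↓reduceIte]
    try ring
  have a1 : (dv b s1) s1 = -1 := by
    simp only [dv_apply, aF_apply, h01, h0t, h1t, e1, e2, e3, hr0, hr1, hrt, e10, e11, e12, ↓reduceIte]
    try ring
  have at' : (dv b s1) t = 0 := by
    simp only [dv_apply, aF_apply, h01, h0t, h1t, e1, e2, e3, hr0, hr1, hrt, e10, e11, e12, ↓reduceIte]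
    try ring
  have hc : t = t ∨ IsMid s0 s1 t R t := Or.inl rfl
  have hd : t = t ∨ R t := Or.inl rfl
  have key := finrank_W_eq_card_of_key' (k := k) (G := G q) (I := J k s0 s1 t R q) (α := dv b s1)
    (fun p : Idx s0 s1 t R => ((G q p s0 : ℤ), (G q p s1 : ℤ))) ({((0 : ℤ), (q : ℤ) + 1), ((0 : ℤ), (q : ℤ))} : Finset (ℤ × ℤ))
  rw [key]
  · first
    | rfl
    | (rw [Finset.card_insert_of_notMem, Finset.card_insert_of_notMem, Finset.card_singleton] <;>
        (simp only [Finset.mem_insert, Finset.mem_singleton, Prod.mk.injEq]; omega))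
    | (rw [Finset.card_insert_of_notMem, Finset.card_singleton] <;>
        (simp only [Finset.mem_insert, Finset.mem_singleton, Prod.mk.injEq]; omega))
  · intro p
    have P := prof (q := q) h01 h0t h1t hR0 hR1 hRt hc hd p
    rw [act_iff_conn_self]
    rw [conn_mp h01 h0t h1t hR0 hR1 hRt _ hc hαM hαR hαR']
    simp only [mm_apply, a0, a1, at']
    simp only [max_self, Finset.mem_insert, Finset.mem_singleton, Prod.mk.injEq]
    omega
  · intro p p'
    have P := prof (q := q) h01 h0t h1t hR0 hR1 hRt hc hd p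
    have Q := prof (q := q) h01 h0t h1t hR0 hR1 hRt hc hd p'
    rw [conn_mp h01 h0t h1t hR0 hR1 hRt _ hc hαM hαR hαR']
    simp only [mm_apply, a0, a1, at']
    try simp only [Finset.mem_insert, Finset.mem_singleton, Prod.mk.injEq]
    omega
  · intro x hx
    simp only [Finset.mem_insert, Finset.mem_singleton] at hx
    rcases hx with rfl | rfl
    · refine ⟨(Sum.inr ⟨s1, Or.inl rfl⟩ : Idx s0 s1 t R), ?_⟩
      simp only [GZ_inl, GZ_inr, h01, h0t, h1t, e1, e2, e3, hr0, hr1, hrt, e10, e11, e12, ↓reduceIte, Prod.mk.injEq]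
      try norm_num
      try omega
    · obtain ⟨w, hw⟩ := hmid
      obtain ⟨hw0, hw1, hwt, hwR⟩ := id hw
      refine ⟨(Sum.inr ⟨w, Or.inr hw⟩ : Idx s0 s1 t R), ?_⟩
      simp only [GZ_inl, GZ_inr, h01, h0t, h1t, e1, e2, e3, hr0, hr1, hrt, e10, e11, e12, hw0, hw1, hwt, Ne.symm hw0, Ne.symm hw1, Ne.symm hwt, ↓reduceIte, Prod.mk.injEq]
      try norm_num
  · intro c hc' p p' hp hpq
    have P := prof (q := q) h01 h0t h1t hR0 hR1 hRt hc hd p
    have Q := prof (q := q) h01 h0t h1t hR0 hR1 hRt hc hd p'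
    simp only [Finset.mem_insert, Finset.mem_singleton, Prod.mk.injEq] at hp hpq
    rcases hp with hp | hp
    · apply hc'.2
      rw [conn_mp h01 h0t h1t hR0 hR1 hRt _ hc hαM hαR hαR']
      simp only [mm_apply, a0, a1, at']
      omega
    · apply hc'.2
      rw [conn_mp h01 h0t h1t hR0 hR1 hRt _ hc hαM hαR hαR']
      simp only [mm_apply, a0, a1, at']
      omega

/-! ### C1: `e_t - e_a`, `a` a middle index -/

include h01 h0t h1t hR0 hR1 hRt hq in
theorem finrank_C1 {a : Fin (n + 1)} (hm : IsMid s0 s1 t R a) :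
    Module.finrank k ↥(tPiece (J k s0 s1 t R q) (dv t a)) = 2 := by
  classical
  rw [finrank_tPiece_eq_finrank_W (hI k s0 s1 t R q) (hG k s0 s1 t R q)]
  have e1 := h01.symm
  have e2 := h0t.symm
  have e3 := h1t.symm
  have hqz : (1 : ℤ) ≤ (q : ℤ) := by exact_mod_cast hq
  obtain ⟨hm0, hm1, hmt, hmR⟩ := id hm
  have e7 := hm0.symm
  have e8 := hm1.symm
  have e9 := hmt.symm
  have hαM : ∀ l, IsMid s0 s1 t R l → (dv t a) l = -(if a = l then 1 else 0) := by
    rintro l ⟨hl0, hl1, hlt, hlR⟩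
    simp only [dv_apply, aF_apply, Ne.symm hl0, Ne.symm hl1, Ne.symm hlt, ↓reduceIte]
    try ring
  have hαR : ∀ l, R l → (dv t a) l = -(if t = l then 1 else 0) := by
    intro l hl
    have hl0 : s0 ≠ l := fun e => hR0 (e ▸ hl)
    have hl1 : s1 ≠ l := fun e => hR1 (e ▸ hl)
    have hlt : t ≠ l := fun e => hRt (e ▸ hl)
    have hal : a ≠ l := fun e => hmR (e ▸ hl)
    simp only [dv_apply, aF_apply, hl0, hl1, hlt, hal, ↓reduceIte]
    try ring
  have a0 : (dv t a) s0 = 0 := by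
    simp only [dv_apply, aF_apply, h01, h0t, h1t, e1, e2, e3, hm0, hm1, hmt, e7, e8, e9, ↓reduceIte]
    try ring
  have a1 : (dv t a) s1 = 0 := by
    simp only [dv_apply, aF_apply, h01, h0t, h1t, e1, e2, e3, hm0, hm1, hmt, e7, e8, e9, ↓reduceIte]
    try ring
  have at' : (dv t a) t = 1 := by
    simp only [dv_apply, aF_apply, h01, h0t, h1t, e1, e2, e3, hm0, hm1, hmt, e7, e8, e9, ↓reduceIte]
    try ring
  have hc : a = t ∨ IsMid s0 s1 t R a := Or.inr hm
  have hd : t = t ∨ R t := Or.inl rfl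
  have key := finrank_W_eq_card_of_key' (k := k) (G := G q) (I := J k s0 s1 t R q) (α := dv t a)
    (fun p : Idx s0 s1 t R => ((G q p s0 : ℤ), (G q p a : ℤ))) ({((1 : ℤ), (1 : ℤ)), ((0 : ℤ), (1 : ℤ))} : Finset (ℤ × ℤ))
  rw [key]
  · first
    | rfl
    | (rw [Finset.card_insert_of_notMem, Finset.card_insert_of_notMem, Finset.card_singleton] <;>
        (simp only [Finset.mem_insert, Finset.mem_singleton, Prod.mk.injEq]; omega))
    | (rw [Finset.card_insert_of_notMem, Finset.card_singleton] <;>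
        (simp only [Finset.mem_insert, Finset.mem_singleton, Prod.mk.injEq]; omega))
  · intro p
    have P := prof (q := q) h01 h0t h1t hR0 hR1 hRt hc hd p
    rw [act_iff_conn_self]
    rw [conn_mm h01 h0t h1t hR0 hR1 hRt _ hc hd hαM hαR]
    simp only [mm_apply, a0, a1, at']
    simp only [max_self, Finset.mem_insert, Finset.mem_singleton, Prod.mk.injEq]
    omega
  · intro p p'
    have P := prof (q := q) h01 h0t h1t hR0 hR1 hRt hc hd p
    have Q := prof (q := q) h01 h0t h1t hR0 hR1 hRt hc hd p'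
    rw [conn_mm h01 h0t h1t hR0 hR1 hRt _ hc hd hαM hαR]
    simp only [mm_apply, a0, a1, at']
    try simp only [Finset.mem_insert, Finset.mem_singleton, Prod.mk.injEq]
    omega
  · intro x hx
    simp only [Finset.mem_insert, Finset.mem_singleton] at hx
    rcases hx with rfl | rfl
    · refine ⟨(Sum.inl ⟨a, hmt⟩ : Idx s0 s1 t R), ?_⟩
      simp only [GZ_inl, GZ_inr, h01, h0t, h1t, e1, e2, e3, hm0, hm1, hmt, e7, e8, e9, ↓reduceIte, Prod.mk.injEq]
      try norm_num
      try omega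
    · refine ⟨(Sum.inr ⟨a, Or.inr hm⟩ : Idx s0 s1 t R), ?_⟩
      simp only [GZ_inl, GZ_inr, h01, h0t, h1t, e1, e2, e3, hm0, hm1, hmt, e7, e8, e9, ↓reduceIte, Prod.mk.injEq]
      try norm_num
      try omega
  · intro c hc' p p' hp hpq
    have P := prof (q := q) h01 h0t h1t hR0 hR1 hRt hc hd p
    have Q := prof (q := q) h01 h0t h1t hR0 hR1 hRt hc hd p'
    simp only [Finset.mem_insert, Finset.mem_singleton, Prod.mk.injEq] at hp hpq
    rcases hp with hp | hp
    · apply hc'.2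
      rw [conn_mm h01 h0t h1t hR0 hR1 hRt _ hc hd hαM hαR]
      simp only [mm_apply, a0, a1, at']
      omega
    · apply hc'.2
      rw [conn_mm h01 h0t h1t hR0 hR1 hRt _ hc hd hαM hαR]
      simp only [mm_apply, a0, a1, at']
      omega

/-! ### C2: `e_b - e_a`, `a` a middle index, `b ∈ R` -/

include h01 h0t h1t hR0 hR1 hRt hq in
theorem finrank_C2 {a : Fin (n + 1)} (hm : IsMid s0 s1 t R a) {b : Fin (n + 1)} (hr : R b) :
    Module.finrank k ↥(tPiece (J k s0 s1 t R q) (dv b a)) = 1 := by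
  classical
  rw [finrank_tPiece_eq_finrank_W (hI k s0 s1 t R q) (hG k s0 s1 t R q)]
  have e1 := h01.symm
  have e2 := h0t.symm
  have e3 := h1t.symm
  have hqz : (1 : ℤ) ≤ (q : ℤ) := by exact_mod_cast hq
  obtain ⟨hm0, hm1, hmt, hmR⟩ := id hm
  have e7 := hm0.symm
  have e8 := hm1.symm
  have e9 := hmt.symm
  have hr0 : b ≠ s0 := fun e => hR0 (e ▸ hr)
  have hr1 : b ≠ s1 := fun e => hR1 (e ▸ hr)
  have hrt : b ≠ t := fun e => hRt (e ▸ hr)
  have e10 := hr0.symm
  have e11 := hr1.symm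
  have e12 := hrt.symm
  have hmr : a ≠ b := fun e => hmR (e ▸ hr)
  have e13 := hmr.symm
  have hαM : ∀ l, IsMid s0 s1 t R l → (dv b a) l = -(if a = l then 1 else 0) := by
    rintro l ⟨hl0, hl1, hlt, hlR⟩
    have hbl : b ≠ l := fun e => hlR (e ▸ hr)
    simp only [dv_apply, aF_apply, Ne.symm hl0, Ne.symm hl1, Ne.symm hlt, hbl, ↓reduceIte]
    try ring
  have hαR : ∀ l, R l → 0 ≤ (dv b a) l := by
    intro l hl
    have hl0 : s0 ≠ l := fun e => hR0 (e ▸ hl)
    have hl1 : s1 ≠ l := fun e => hR1 (e ▸ hl)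
    have hlt : t ≠ l := fun e => hRt (e ▸ hl)
    have hal : a ≠ l := fun e => hmR (e ▸ hl)
    simp only [dv_apply, aF_apply, hl0, hl1, hlt, hal, ↓reduceIte]
    split_ifs <;> norm_num
  have hαR' : ∃ b', R b' ∧ 1 ≤ (dv b a) b' := by
    refine ⟨b, hr, ?_⟩
    simp only [dv_apply, aF_apply, h01, h0t, h1t, e1, e2, e3, hm0, hm1, hmt, e7, e8, e9, hr0, hr1, hrt, e10, e11, e12, hmr, e13, ↓reduceIte]
    norm_num
  have a0 : (dv b a) s0 = 0 := by
    simp only [dv_apply, aF_apply, h01, h0t, h1t, e1, e2, e3, hm0, hm1, hmt, e7, e8, e9, hr0, hr1, hrt, e10, e11, e12, hmr, e13, ↓reduceIte]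
    try ring
  have a1 : (dv b a) s1 = 0 := by
    simp only [dv_apply, aF_apply, h01, h0t, h1t, e1, e2, e3, hm0, hm1, hmt, e7, e8, e9, hr0, hr1, hrt, e10, e11, e12, hmr, e13, ↓reduceIte]
    try ring
  have at' : (dv b a) t = 0 := by
    simp only [dv_apply, aF_apply, h01, h0t, h1t, e1, e2, e3, hm0, hm1, hmt, e7, e8, e9, hr0, hr1, hrt, e10, e11, e12, hmr, e13, ↓reduceIte]
    try ring
  have hc : a = t ∨ IsMid s0 s1 t R a := Or.inr hm
  have hd : t = t ∨ R t := Or.inl rfl
  have key := finrank_W_eq_card_of_key' (k := k) (G := G q) (I := J k s0 s1 t R q) (α := dv b a)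
    (fun p : Idx s0 s1 t R => ((G q p s0 : ℤ), (G q p a : ℤ))) ({((0 : ℤ), (1 : ℤ))} : Finset (ℤ × ℤ))
  rw [key]
  · first
    | rfl
    | (rw [Finset.card_insert_of_notMem, Finset.card_insert_of_notMem, Finset.card_singleton] <;>
        (simp only [Finset.mem_insert, Finset.mem_singleton, Prod.mk.injEq]; omega))
    | (rw [Finset.card_insert_of_notMem, Finset.card_singleton] <;>
        (simp only [Finset.mem_insert, Finset.mem_singleton, Prod.mk.injEq]; omega))
  · intro p
    have P := prof (q := q) h01 h0t h1t hR0 hR1 hRt hc hd p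
    rw [act_iff_conn_self]
    rw [conn_mp h01 h0t h1t hR0 hR1 hRt _ hc hαM hαR hαR']
    simp only [mm_apply, a0, a1, at']
    simp only [max_self, Finset.mem_insert, Finset.mem_singleton, Prod.mk.injEq]
    omega
  · intro p p'
    have P := prof (q := q) h01 h0t h1t hR0 hR1 hRt hc hd p
    have Q := prof (q := q) h01 h0t h1t hR0 hR1 hRt hc hd p'
    rw [conn_mp h01 h0t h1t hR0 hR1 hRt _ hc hαM hαR hαR']
    simp only [mm_apply, a0, a1, at']
    try simp only [Finset.mem_insert, Finset.mem_singleton, Prod.mk.injEq]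
    omega
  · intro x hx
    simp only [Finset.mem_insert, Finset.mem_singleton] at hx
    subst hx
    · refine ⟨(Sum.inr ⟨a, Or.inr hm⟩ : Idx s0 s1 t R), ?_⟩
      simp only [GZ_inl, GZ_inr, h01, h0t, h1t, e1, e2, e3, hm0, hm1, hmt, e7, e8, e9, hr0, hr1, hrt, e10, e11, e12, hmr, e13, ↓reduceIte, Prod.mk.injEq]
      try norm_num
      try omega
  · intro c hc' p p' hp hpq
    have P := prof (q := q) h01 h0t h1t hR0 hR1 hRt hc hd p
    have Q := prof (q := q) h01 h0t h1t hR0 hR1 hRt hc hd p'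
    simp only [Finset.mem_insert, Finset.mem_singleton, Prod.mk.injEq] at hp hpq
    apply hc'.2
    rw [conn_mp h01 h0t h1t hR0 hR1 hRt _ hc hαM hαR hαR']
    simp only [mm_apply, a0, a1, at']
    omega

/-! ### D: `e_t - e_b`, `b ∈ R` -/

include h01 h0t h1t hR0 hR1 hRt hq in
theorem finrank_D {b : Fin (n + 1)} (hr : R b) :
    Module.finrank k ↥(tPiece (J k s0 s1 t R q) (dv t b)) = 1 := by
  classical
  rw [finrank_tPiece_eq_finrank_W (hI k s0 s1 t R q) (hG k s0 s1 t R q)]
  have e1 := h01.symm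
  have e2 := h0t.symm
  have e3 := h1t.symm
  have hqz : (1 : ℤ) ≤ (q : ℤ) := by exact_mod_cast hq
  have hr0 : b ≠ s0 := fun e => hR0 (e ▸ hr)
  have hr1 : b ≠ s1 := fun e => hR1 (e ▸ hr)
  have hrt : b ≠ t := fun e => hRt (e ▸ hr)
  have e10 := hr0.symm
  have e11 := hr1.symm
  have e12 := hrt.symm
  have hαM : ∀ l, IsMid s0 s1 t R l → (dv t b) l = -(if t = l then 1 else 0) := by
    rintro l ⟨hl0, hl1, hlt, hlR⟩
    have hbl : b ≠ l := fun e => hlR (e ▸ hr)
    simp only [dv_apply, aF_apply, Ne.symm hl0, Ne.symm hl1, Ne.symm hlt, hbl, ↓reduceIte]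
    try ring
  have hαR : ∀ l, R l → (dv t b) l = -(if b = l then 1 else 0) := by
    intro l hl
    have hl0 : s0 ≠ l := fun e => hR0 (e ▸ hl)
    have hl1 : s1 ≠ l := fun e => hR1 (e ▸ hl)
    have hlt : t ≠ l := fun e => hRt (e ▸ hl)
    simp only [dv_apply, aF_apply, hl0, hl1, hlt, ↓reduceIte]
    try ring
  have a0 : (dv t b) s0 = 0 := by
    simp only [dv_apply, aF_apply, h01, h0t, h1t, e1, e2, e3, hr0, hr1, hrt, e10, e11, e12, ↓reduceIte]
    try ring
  have a1 : (dv t b) s1 = 0 := by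
    simp only [dv_apply, aF_apply, h01, h0t, h1t, e1, e2, e3, hr0, hr1, hrt, e10, e11, e12, ↓reduceIte]
    try ring
  have at' : (dv t b) t = 1 := by
    simp only [dv_apply, aF_apply, h01, h0t, h1t, e1, e2, e3, hr0, hr1, hrt, e10, e11, e12, ↓reduceIte]
    try ring
  have hc : t = t ∨ IsMid s0 s1 t R t := Or.inl rfl
  have hd : b = t ∨ R b := Or.inr hr
  have key := finrank_W_eq_card_of_key' (k := k) (G := G q) (I := J k s0 s1 t R q) (α := dv t b)
    (fun p : Idx s0 s1 t R => (G q p b : ℤ)) ({(1 : ℤ)} : Finset (ℤ))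
  rw [key]
  · first
    | rfl
    | (rw [Finset.card_insert_of_notMem, Finset.card_insert_of_notMem, Finset.card_singleton] <;>
        (simp only [Finset.mem_insert, Finset.mem_singleton, Prod.mk.injEq]; omega))
    | (rw [Finset.card_insert_of_notMem, Finset.card_singleton] <;>
        (simp only [Finset.mem_insert, Finset.mem_singleton, Prod.mk.injEq]; omega))
  · intro p
    have P := prof (q := q) h01 h0t h1t hR0 hR1 hRt hc hd p
    rw [act_iff_conn_self]
    rw [conn_mm h01 h0t h1t hR0 hR1 hRt _ hc hd hαM hαR]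
    simp only [mm_apply, a0, a1, at']
    simp only [max_self, Finset.mem_insert, Finset.mem_singleton, Prod.mk.injEq]
    omega
  · intro p p'
    have P := prof (q := q) h01 h0t h1t hR0 hR1 hRt hc hd p
    have Q := prof (q := q) h01 h0t h1t hR0 hR1 hRt hc hd p'
    rw [conn_mm h01 h0t h1t hR0 hR1 hRt _ hc hd hαM hαR]
    simp only [mm_apply, a0, a1, at']
    try simp only [Finset.mem_insert, Finset.mem_singleton, Prod.mk.injEq]
    omega
  · intro x hx
    simp only [Finset.mem_insert, Finset.mem_singleton] at hx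
    subst hx
    · refine ⟨(Sum.inl ⟨b, hrt⟩ : Idx s0 s1 t R), ?_⟩
      simp only [GZ_inl, GZ_inr, h01, h0t, h1t, e1, e2, e3, hr0, hr1, hrt, e10, e11, e12, ↓reduceIte, Prod.mk.injEq]
      try norm_num
      try omega
  · intro c hc' p p' hp hpq
    have P := prof (q := q) h01 h0t h1t hR0 hR1 hRt hc hd p
    have Q := prof (q := q) h01 h0t h1t hR0 hR1 hRt hc hd p'
    simp only [Finset.mem_insert, Finset.mem_singleton, Prod.mk.injEq] at hp hpq
    apply hc'.2
    rw [conn_mm h01 h0t h1t hR0 hR1 hRt _ hc hd hαM hαR]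
    simp only [mm_apply, a0, a1, at']
    omega

/-! ### F1: `e_{s0} + q e_t - (q + 1) e_{s1}` -/

include h01 h0t h1t hR0 hR1 hRt hq in
theorem finrank_F1 :
    Module.finrank k ↥(tPiece (J k s0 s1 t R q) (aF s0 s1 t q s1)) = 1 := by
  classical
  rw [finrank_tPiece_eq_finrank_W (hI k s0 s1 t R q) (hG k s0 s1 t R q)]
  have e1 := h01.symm
  have e2 := h0t.symm
  have e3 := h1t.symm
  have hqz : (1 : ℤ) ≤ (q : ℤ) := by exact_mod_cast hq
  have hαM : ∀ l, IsMid s0 s1 t R l → (aF s0 s1 t q s1) l = -(if t = l then 1 else 0) := by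
    rintro l ⟨hl0, hl1, hlt, hlR⟩
    simp only [dv_apply, aF_apply, Ne.symm hl0, Ne.symm hl1, Ne.symm hlt, ↓reduceIte]
    try ring
  have hαR : ∀ l, R l → (aF s0 s1 t q s1) l = -(if t = l then 1 else 0) := by
    intro l hl
    have hl0 : s0 ≠ l := fun e => hR0 (e ▸ hl)
    have hl1 : s1 ≠ l := fun e => hR1 (e ▸ hl)
    have hlt : t ≠ l := fun e => hRt (e ▸ hl)
    simp only [dv_apply, aF_apply, hl0, hl1, hlt, ↓reduceIte]
    try ring
  have a0 : (aF s0 s1 t q s1) s0 = 1 := by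
    simp only [dv_apply, aF_apply, h01, h0t, h1t, e1, e2, e3, ↓reduceIte]
    try ring
  have a1 : (aF s0 s1 t q s1) s1 = -((q : ℤ) + 1) := by
    simp only [dv_apply, aF_apply, h01, h0t, h1t, e1, e2, e3, ↓reduceIte]
    try ring
  have at' : (aF s0 s1 t q s1) t = (q : ℤ) := by
    simp only [dv_apply, aF_apply, h01, h0t, h1t, e1, e2, e3, ↓reduceIte]
    try ring
  have hc : t = t ∨ IsMid s0 s1 t R t := Or.inl rfl
  have hd : t = t ∨ R t := Or.inl rfl
  have key := finrank_W_eq_card_of_key' (k := k) (G := G q) (I := J k s0 s1 t R q) (α := aF s0 s1 t q s1)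
    (fun p : Idx s0 s1 t R => (G q p s1 : ℤ)) ({(q : ℤ) + 1} : Finset (ℤ))
  rw [key]
  · first
    | rfl
    | (rw [Finset.card_insert_of_notMem, Finset.card_insert_of_notMem, Finset.card_singleton] <;>
        (simp only [Finset.mem_insert, Finset.mem_singleton, Prod.mk.injEq]; omega))
    | (rw [Finset.card_insert_of_notMem, Finset.card_singleton] <;>
        (simp only [Finset.mem_insert, Finset.mem_singleton, Prod.mk.injEq]; omega))
  · intro p
    have P := prof (q := q) h01 h0t h1t hR0 hR1 hRt hc hd p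
    rw [act_iff_conn_self]
    rw [conn_mm h01 h0t h1t hR0 hR1 hRt _ hc hd hαM hαR]
    simp only [mm_apply, a0, a1, at']
    simp only [max_self, Finset.mem_insert, Finset.mem_singleton, Prod.mk.injEq]
    omega
  · intro p p'
    have P := prof (q := q) h01 h0t h1t hR0 hR1 hRt hc hd p
    have Q := prof (q := q) h01 h0t h1t hR0 hR1 hRt hc hd p'
    rw [conn_mm h01 h0t h1t hR0 hR1 hRt _ hc hd hαM hαR]
    simp only [mm_apply, a0, a1, at']
    try simp only [Finset.mem_insert, Finset.mem_singleton, Prod.mk.injEq]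
    omega
  · intro x hx
    simp only [Finset.mem_insert, Finset.mem_singleton] at hx
    subst hx
    · refine ⟨(Sum.inr ⟨s1, Or.inl rfl⟩ : Idx s0 s1 t R), ?_⟩
      simp only [GZ_inl, GZ_inr, h01, h0t, h1t, e1, e2, e3, ↓reduceIte, Prod.mk.injEq]
      try norm_num
      try omega
  · intro c hc' p p' hp hpq
    have P := prof (q := q) h01 h0t h1t hR0 hR1 hRt hc hd p
    have Q := prof (q := q) h01 h0t h1t hR0 hR1 hRt hc hd p'
    simp only [Finset.mem_insert, Finset.mem_singleton, Prod.mk.injEq] at hp hpq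
    apply hc'.2
    rw [conn_mm h01 h0t h1t hR0 hR1 hRt _ hc hd hαM hαR]
    simp only [mm_apply, a0, a1, at']
    omega

/-! ### F2: `e_{s0} + q e_t - q e_{s1} - e_j`, `j` a middle index -/

include h01 h0t h1t hR0 hR1 hRt hq in
theorem finrank_F2 {j : Fin (n + 1)} (hm : IsMid s0 s1 t R j) :
    Module.finrank k ↥(tPiece (J k s0 s1 t R q) (aF s0 s1 t q j)) = 1 := by
  classical
  rw [finrank_tPiece_eq_finrank_W (hI k s0 s1 t R q) (hG k s0 s1 t R q)]
  have e1 := h01.symm
  have e2 := h0t.symm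
  have e3 := h1t.symm
  have hqz : (1 : ℤ) ≤ (q : ℤ) := by exact_mod_cast hq
  obtain ⟨hm0, hm1, hmt, hmR⟩ := id hm
  have e7 := hm0.symm
  have e8 := hm1.symm
  have e9 := hmt.symm
  have hαM : ∀ l, IsMid s0 s1 t R l → (aF s0 s1 t q j) l = -(if j = l then 1 else 0) := by
    rintro l ⟨hl0, hl1, hlt, hlR⟩
    simp only [dv_apply, aF_apply, Ne.symm hl0, Ne.symm hl1, Ne.symm hlt, ↓reduceIte]
    try ring
  have hαR : ∀ l, R l → (aF s0 s1 t q j) l = -(if t = l then 1 else 0) := by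
    intro l hl
    have hl0 : s0 ≠ l := fun e => hR0 (e ▸ hl)
    have hl1 : s1 ≠ l := fun e => hR1 (e ▸ hl)
    have hlt : t ≠ l := fun e => hRt (e ▸ hl)
    have hal : j ≠ l := fun e => hmR (e ▸ hl)
    simp only [dv_apply, aF_apply, hl0, hl1, hlt, hal, ↓reduceIte]
    try ring
  have a0 : (aF s0 s1 t q j) s0 = 1 := by
    simp only [dv_apply, aF_apply, h01, h0t, h1t, e1, e2, e3, hm0, hm1, hmt, e7, e8, e9, ↓reduceIte]
    try ring
  have a1 : (aF s0 s1 t q j) s1 = -(q : ℤ) := by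
    simp only [dv_apply, aF_apply, h01, h0t, h1t, e1, e2, e3, hm0, hm1, hmt, e7, e8, e9, ↓reduceIte]
    try ring
  have at' : (aF s0 s1 t q j) t = (q : ℤ) := by
    simp only [dv_apply, aF_apply, h01, h0t, h1t, e1, e2, e3, hm0, hm1, hmt, e7, e8, e9, ↓reduceIte]
    try ring
  have hc : j = t ∨ IsMid s0 s1 t R j := Or.inr hm
  have hd : t = t ∨ R t := Or.inl rfl
  have key := finrank_W_eq_card_of_key' (k := k) (G := G q) (I := J k s0 s1 t R q) (α := aF s0 s1 t q j)
    (fun p : Idx s0 s1 t R => ((G q p s0 : ℤ), (G q p j : ℤ))) ({((0 : ℤ), (1 : ℤ))} : Finset (ℤ × ℤ))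
  rw [key]
  · first
    | rfl
    | (rw [Finset.card_insert_of_notMem, Finset.card_insert_of_notMem, Finset.card_singleton] <;>
        (simp only [Finset.mem_insert, Finset.mem_singleton, Prod.mk.injEq]; omega))
    | (rw [Finset.card_insert_of_notMem, Finset.card_singleton] <;>
        (simp only [Finset.mem_insert, Finset.mem_singleton, Prod.mk.injEq]; omega))
  · intro p
    have P := prof (q := q) h01 h0t h1t hR0 hR1 hRt hc hd p
    rw [act_iff_conn_self]
    rw [conn_mm h01 h0t h1t hR0 hR1 hRt _ hc hd hαM hαR]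
    simp only [mm_apply, a0, a1, at']
    simp only [max_self, Finset.mem_insert, Finset.mem_singleton, Prod.mk.injEq]
    omega
  · intro p p'
    have P := prof (q := q) h01 h0t h1t hR0 hR1 hRt hc hd p
    have Q := prof (q := q) h01 h0t h1t hR0 hR1 hRt hc hd p'
    rw [conn_mm h01 h0t h1t hR0 hR1 hRt _ hc hd hαM hαR]
    simp only [mm_apply, a0, a1, at']
    try simp only [Finset.mem_insert, Finset.mem_singleton, Prod.mk.injEq]
    omega
  · intro x hx
    simp only [Finset.mem_insert, Finset.mem_singleton] at hx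
    subst hx
    · refine ⟨(Sum.inr ⟨j, Or.inr hm⟩ : Idx s0 s1 t R), ?_⟩
      simp only [GZ_inl, GZ_inr, h01, h0t, h1t, e1, e2, e3, hm0, hm1, hmt, e7, e8, e9, ↓reduceIte, Prod.mk.injEq]
      try norm_num
      try omega
  · intro c hc' p p' hp hpq
    have P := prof (q := q) h01 h0t h1t hR0 hR1 hRt hc hd p
    have Q := prof (q := q) h01 h0t h1t hR0 hR1 hRt hc hd p'
    simp only [Finset.mem_insert, Finset.mem_singleton, Prod.mk.injEq] at hp hpq
    apply hc'.2
    rw [conn_mm h01 h0t h1t hR0 hR1 hRt _ hc hd hαM hαR]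
    simp only [mm_apply, a0, a1, at']
    omega

end Groth.Agent.S13447
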