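import Groth.Agent.Lib.Seat60S13447d

/-! Seat60: the generic graded pieces `ν / x_{s1}^j` for the ideal of `Seat60S13447a`. -/

set_option autoImplicit false
set_option linter.unusedVariables false
set_option linter.unusedSectionVars false
set_option linter.unusedSimpArgs false
universe u
open W4c1hilbpn MvPolynomial
open Groth.Agent.Lib.Seat60.Hom0
open Groth.Agent.S13449 (dv dq pair_le dv_self_right dv_self_left dv_other dq_apply)

namespace Groth.Agent.S13447

variable {k : Type u} [Field k] {n : ℕ} {s0 s1 t : Fin (n + 1)} {R : Fin (n + 1) → Prop} {q : ℕ}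
variable (h01 : s0 ≠ s1) (h0t : s0 ≠ t) (h1t : s1 ≠ t) (hR0 : ¬ R s0) (hR1 : ¬ R s1) (hRt : ¬ R t)
  (hq : 1 ≤ q)

/-- a nonnegative integer vector of total degree one is a unit vector -/
lemma exists_one_of_sum_eq_one {N : ℕ} (f : Fin N → ℤ) (h0 : ∀ l, 0 ≤ f l) (h1 : ∑ l, f l = 1) :
    ∃ u : Fin N, ∀ l, f l = (if u = l then 1 else 0) := by
  classical
  have h1' : ∃ u, 1 ≤ f u := by
    by_contra hcon
    push Not at hcon
    have : ∑ l, f l = 0 := Finset.sum_eq_zero (fun l _ => by have := h0 l; have := hcon l; omega)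
    omega
  obtain ⟨u, hu⟩ := h1'
  set f1 : Fin N → ℤ := fun l => f l - (if u = l then 1 else 0) with hf1
  have h10 : ∀ l, 0 ≤ f1 l := by
    intro l
    rw [hf1]
    simp only
    split_ifs with h
    · subst h; omega
    · have := h0 l; omega
  have h1s : ∑ l, f1 l = 0 := by
    rw [hf1, Finset.sum_sub_distrib, h1, Finset.sum_ite_eq Finset.univ u (fun _ => (1 : ℤ)),
      if_pos (Finset.mem_univ u)]
    norm_num
  have hz : ∀ l, f1 l = 0 := by
    intro l
    exact (Finset.sum_eq_zero_iff_of_nonneg (fun l _ => h10 l)).mp h1s l (Finset.mem_univ l)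
  refine ⟨u, fun l => ?_⟩
  have := hz l
  rw [hf1] at this
  simp only at this
  omega

/-- the generic family: multidegrees `ν - j e_{s1}`, `1 ≤ j ≤ q`, `ν` a monomial of degree `j` in the
variables other than `x_{s0}, x_{s1}` -/
def InF4 (s0 s1 : Fin (n + 1)) (q : ℕ) (α : Fin (n + 1) → ℤ) : Prop :=
  α s0 = 0 ∧ -(q : ℤ) ≤ α s1 ∧ α s1 ≤ -1 ∧ (∀ l, l ≠ s0 → l ≠ s1 → 0 ≤ α l)

section generic

variable (α : Fin (n + 1) → ℤ) (hF : InF4 s0 s1 q α)

include hF in
/-- the shifted least common multiple with a generator `x_{s0} x_i` has exponent `≥ 1` at `s0` -/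
lemma mm_inl_s0 (i : {i : Fin (n + 1) // i ≠ t}) (p' : Idx s0 s1 t R) :
    1 ≤ mm q α (Sum.inl i) p' s0 := by
  have := le_mm_left (q := q) α (Sum.inl i : Idx s0 s1 t R) p' s0
  rw [GZ_inl, if_pos rfl, hF.1] at this
  have : (0 : ℤ) ≤ (if i.1 = s0 then 1 else 0) := by split_ifs <;> norm_num
  omega

include h01 h0t h1t hR0 hR1 hRt hF hq in
lemma not_conn_inl_inr (i : {i : Fin (n + 1) // i ≠ t})
    (j : {j : Fin (n + 1) // j = s1 ∨ IsMid s0 s1 t R j}) :
    ¬ Conn (G q) (J k s0 s1 t R q) α (Sum.inl i : Idx s0 s1 t R) (Sum.inr j) := by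
  intro hc
  rw [conn_iff'' h01 h0t h1t hR0 hR1 hRt, not_inI_iff] at hc
  obtain ⟨hnn, -, -, h3, -⟩ := hc
  obtain ⟨h4, h5, -⟩ := h3 (mm_inl_s0 α hF i _)
  have h6 := le_mm_right (q := q) α (Sum.inl i : Idx s0 s1 t R) (Sum.inr j) s1
  rw [GZ_inr, if_pos rfl] at h6
  obtain ⟨j, hj⟩ := j
  obtain ⟨h0, h1, h1', hpos⟩ := hF
  have hqz : (1 : ℤ) ≤ (q : ℤ) := by exact_mod_cast hq
  rcases hj with rfl | hj
  · rw [if_pos rfl] at h6
    omega
  · have h7 := h5 j hj
    have h8 := le_mm_right (q := q) α (Sum.inl i : Idx s0 s1 t R) (Sum.inr ⟨j, Or.inr hj⟩) j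
    rw [GZ_inr, if_neg (Ne.symm hj.2.1), if_pos rfl] at h8
    have := hpos j hj.1 hj.2.1
    omega

include h01 h0t h1t hR0 hR1 hRt hF in
/-- no generator `x_{s0} x_i` is active, except for the multidegree `e_t - e_{s1}` -/
lemma not_act_inl (hsum : ∑ l, α l = 0) (hne : α ≠ dv t s1) (i : {i : Fin (n + 1) // i ≠ t}) :
    ¬ Act (G q) (J k s0 s1 t R q) α (Sum.inl i : Idx s0 s1 t R) := by
  obtain ⟨h0, h1, h1', hpos⟩ := hF
  have e1 := h01.symm
  have e2 := h0t.symm
  have e3 := h1t.symm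
  obtain ⟨i, hit⟩ := i
  rw [act_iff' h01 h0t h1t hR0 hR1 hRt, not_inI_iff]
  rintro ⟨hnn, -, -, h3, -⟩
  have f1 := hnn s1
  rw [GZ_inl] at f1
  simp only [h01, ↓reduceIte] at f1
  have hi1 : i = s1 := by
    by_contra hi1
    rw [if_neg hi1] at f1
    omega
  subst hi1
  rw [if_pos rfl] at f1
  have hs1 : α i = -1 := by omega
  have h4 := h3 (by
    simp only [GZ_inl, e1, ↓reduceIte]
    omega)
  have hz : ∀ l, Groth.Agent.S13450.IsMid s0 i t l → α l = 0 := by
    rintro l ⟨hl0, hl1, hlt⟩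
    have hp := hpos l hl0 hl1
    by_cases hlR : R l
    · have := h4.2.2 l hlR
      simp only [GZ_inl, Ne.symm hl0, Ne.symm hl1, ↓reduceIte] at this
      omega
    · have := h4.2.1 l ⟨hl0, hl1, hlt, hlR⟩
      simp only [GZ_inl, Ne.symm hl0, Ne.symm hl1, ↓reduceIte] at this
      omega
  have ht := Groth.Agent.S13450.val_t_of_mid_zero h01 h0t h1t α hsum hz
  apply hne
  funext l
  rw [dv_apply]
  by_cases hl0 : l = s0
  · subst hl0
    rw [if_neg e2, if_neg e1, h0]
    norm_num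
  by_cases hl1 : l = i
  · subst hl1
    rw [if_neg e3, if_pos rfl, hs1]
    norm_num
  by_cases hlt : l = t
  · subst hlt
    rw [if_pos rfl, if_neg h1t, ht, h0, hs1]
    norm_num
  · rw [if_neg (Ne.symm hlt), if_neg (Ne.symm hl1), hz l ⟨hl0, hl1, hlt⟩]
    norm_num

include hF in
lemma nonneg_inr (j : {j : Fin (n + 1) // j = s1 ∨ IsMid s0 s1 t R j}) (l : Fin (n + 1)) :
    0 ≤ (G q (Sum.inr j : Idx s0 s1 t R) l : ℤ) + α l := by
  obtain ⟨h0, h1, h1', hpos⟩ := hF
  rw [GZ_inr]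
  have : (0 : ℤ) ≤ (if j.1 = l then 1 else 0) := by split_ifs <;> norm_num
  by_cases hl1 : s1 = l
  · subst hl1
    rw [if_pos rfl]
    omega
  · rw [if_neg hl1]
    by_cases hl0 : l = s0
    · rw [hl0, h0]
      omega
    · have := hpos l hl0 (Ne.symm hl1)
      omega

include h01 h0t h1t hR0 hR1 hRt hF in
/-- the generators `x_{s1}^q x_j`, `j` a middle index, are active -/
lemma act_inr_mid {j : Fin (n + 1)} (hj : IsMid s0 s1 t R j) :
    Act (G q) (J k s0 s1 t R q) α (Sum.inr ⟨j, Or.inr hj⟩ : Idx s0 s1 t R) := by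
  have hnn := nonneg_inr (q := q) (t := t) (R := R) α hF ⟨j, Or.inr hj⟩
  obtain ⟨h0, h1, h1', hpos⟩ := hF
  have e1 := h01.symm
  rw [act_iff' h01 h0t h1t hR0 hR1 hRt, not_inI_iff]
  refine ⟨hnn, ?_, ?_, ?_, ?_⟩
  · simp only [GZ_inr, e1, hj.1, ↓reduceIte]
    omega
  · simp only [GZ_inr, hj.2.1, ↓reduceIte]
    omega
  · intro h
    simp only [GZ_inr, e1, hj.1, ↓reduceIte] at h
    omega
  · intro h
    simp only [GZ_inr, hj.2.1, ↓reduceIte] at h
    omega

include h01 h0t h1t hR0 hR1 hRt hF in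
/-- the generator `x_{s1}^{q+1}` is active exactly if the multidegree is not `e_b - e_{s1}` with `b` a
middle index -/
lemma act_inr_s1_iff :
    Act (G q) (J k s0 s1 t R q) α (Sum.inr ⟨s1, Or.inl rfl⟩ : Idx s0 s1 t R) ↔
      (α s1 ≤ -2 ∨ ∀ l, IsMid s0 s1 t R l → α l ≤ 0) := by
  have hnn := nonneg_inr (q := q) (t := t) (R := R) α hF ⟨s1, Or.inl rfl⟩
  obtain ⟨h0, h1, h1', hpos⟩ := hF
  have e1 := h01.symm
  rw [act_iff' h01 h0t h1t hR0 hR1 hRt, not_inI_iff]
  simp only [GZ_inr, e1, ↓reduceIte]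
  constructor
  · rintro ⟨-, -, -, -, h5⟩
    by_cases h2 : α s1 ≤ -2
    · exact Or.inl h2
    · right
      intro l hl
      have := h5 (by omega) l hl
      rw [if_neg (Ne.symm hl.2.1)] at this
      omega
  · intro h
    refine ⟨by simpa [GZ_inr] using hnn, by omega, by omega, fun h' => by omega, fun h' l hl => ?_⟩
    simp only [if_neg (Ne.symm hl.2.1)]
    rcases h with h | h
    · omega
    · have := h l hl
      omega

include h01 h0t h1t hR0 hR1 hRt hF in
/-- two generators `x_{s1}^q x_j`, `j` a middle index, are linked -/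
lemma conn_inr_mid_mid {j j' : Fin (n + 1)} (hj : IsMid s0 s1 t R j) (hj' : IsMid s0 s1 t R j') :
    Conn (G q) (J k s0 s1 t R q) α (Sum.inr ⟨j, Or.inr hj⟩ : Idx s0 s1 t R) (Sum.inr ⟨j', Or.inr hj'⟩) := by
  have hnn := nonneg_inr (q := q) (t := t) (R := R) α hF ⟨j, Or.inr hj⟩
  obtain ⟨h0, h1, h1', hpos⟩ := hF
  have e1 := h01.symm
  rw [conn_iff'' h01 h0t h1t hR0 hR1 hRt, not_inI_iff]
  refine ⟨fun l => le_trans (hnn l) (le_mm_left α _ _ l), ?_, ?_, ?_, ?_⟩
  · simp only [mm_apply, GZ_inr, e1, hj.1, hj'.1, ↓reduceIte]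
    norm_num
    omega
  · simp only [mm_apply, GZ_inr, hj.2.1, hj'.2.1, ↓reduceIte]
    norm_num
    omega
  · intro h
    simp only [mm_apply, GZ_inr, e1, hj.1, hj'.1, ↓reduceIte] at h
    norm_num at h
    omega
  · intro h
    simp only [mm_apply, GZ_inr, hj.2.1, hj'.2.1, ↓reduceIte] at h
    norm_num at h
    omega

include h01 h0t h1t hR0 hR1 hRt hF hq in
/-- the generator `x_{s1}^{q+1}` is linked to `x_{s1}^q x_j`, `j` a middle index, exactly if the
exponent of the multidegree at `s1` is at most `-2` -/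
lemma conn_inr_s1_mid_iff {j : Fin (n + 1)} (hj : IsMid s0 s1 t R j) :
    Conn (G q) (J k s0 s1 t R q) α (Sum.inr ⟨s1, Or.inl rfl⟩ : Idx s0 s1 t R) (Sum.inr ⟨j, Or.inr hj⟩) ↔
      α s1 ≤ -2 := by
  have hnn := nonneg_inr (q := q) (t := t) (R := R) α hF ⟨s1, Or.inl rfl⟩
  obtain ⟨h0, h1, h1', hpos⟩ := hF
  have e1 := h01.symm
  have hqz : (1 : ℤ) ≤ (q : ℤ) := by exact_mod_cast hq
  rw [conn_iff'' h01 h0t h1t hR0 hR1 hRt, not_inI_iff]
  have hs1 : mm q α (Sum.inr ⟨s1, Or.inl rfl⟩ : Idx s0 s1 t R) (Sum.inr ⟨j, Or.inr hj⟩) s1 =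
      (q : ℤ) + 1 + α s1 := by
    simp only [mm_apply, GZ_inr, hj.2.1, ↓reduceIte]
    rw [max_eq_left (by omega)]
  have hs0 : mm q α (Sum.inr ⟨s1, Or.inl rfl⟩ : Idx s0 s1 t R) (Sum.inr ⟨j, Or.inr hj⟩) s0 = 0 := by
    simp only [mm_apply, GZ_inr, e1, hj.1, ↓reduceIte, h0]
    norm_num
  rw [hs1, hs0]
  constructor
  · rintro ⟨-, -, -, -, h5⟩
    by_contra hcon
    have := h5 (by omega) j hj
    simp only [mm_apply, GZ_inr, Ne.symm hj.2.1, ↓reduceIte] at this
    have := hpos j hj.1 hj.2.1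
    omega
  · intro h
    refine ⟨fun l => le_trans (hnn l) (le_mm_left α _ _ l), by norm_num, by omega,
      fun h' => by norm_num at h', fun h' => by omega⟩

include h01 h0t h1t hR0 hR1 hRt hF in
/-- if the exponent at `s1` is `-1`, the multidegree is `e_u - e_{s1}` with `u` a middle index -/
lemma exists_mid_of_neg_one (hsum : ∑ l, α l = 0) (hne : α ≠ dv t s1)
    (hneR : ∀ b, R b → α ≠ dv b s1) (hs1 : α s1 = -1) :
    ∃ l, IsMid s0 s1 t R l ∧ 1 ≤ α l := by
  classical
  obtain ⟨h0, h1, h1', hpos⟩ := hF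
  have e1 := h01.symm
  obtain ⟨u, hu⟩ := exists_one_of_sum_eq_one (fun l => α l + (if s1 = l then 1 else 0))
    (fun l => by
      show 0 ≤ α l + (if s1 = l then 1 else 0)
      by_cases hl1 : s1 = l
      · subst hl1
        rw [if_pos rfl]
        omega
      · rw [if_neg hl1]
        by_cases hl0 : l = s0
        · rw [hl0, h0]
          norm_num
        · have := hpos l hl0 (Ne.symm hl1)
          omega)
    (by
      rw [Finset.sum_add_distrib, hsum, Finset.sum_ite_eq Finset.univ s1 (fun _ => (1 : ℤ)),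
        if_pos (Finset.mem_univ s1)]
      norm_num)
  have hα : α = dv u s1 := by
    funext l
    have := hu l
    rw [dv_apply]
    omega
  have hu0 : u ≠ s0 := by
    intro e
    have := hu s0
    simp only [e, e1, ↓reduceIte, h0] at this
    omega
  have hu1 : u ≠ s1 := by
    intro e
    have := hu s1
    simp only [e, ↓reduceIte, hs1] at this
    omega
  have hut : u ≠ t := by
    intro e
    exact hne (e ▸ hα)
  have huR : ¬ R u := fun hR => hneR u hR hα
  refine ⟨u, ⟨hu0, hu1, hut, huR⟩, ?_⟩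
  have := hu u
  simp only [Ne.symm hu1, ↓reduceIte] at this
  omega

include h01 h0t h1t hR0 hR1 hRt hq hF in
/-- the generic pieces are one-dimensional -/
theorem finrank_F4gen (hsum : ∑ l, α l = 0) (hne : α ≠ dv t s1)
    (hneR : ∀ b, R b → α ≠ dv b s1) (hmid : ∃ w, IsMid s0 s1 t R w) :
    Module.finrank k ↥(tPiece (J k s0 s1 t R q) α) = 1 := by
  classical
  rw [finrank_tPiece_eq_finrank_W (hI k s0 s1 t R q) (hG k s0 s1 t R q)]
  obtain ⟨w, hw⟩ := hmid
  have hkey := exists_mid_of_neg_one h01 h0t h1t hR0 hR1 hRt α hF hsum hne hneR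
  have hAinl := not_act_inl (k := k) h01 h0t h1t hR0 hR1 hRt α hF hsum hne
  have hAmid := fun {j : Fin (n + 1)} (hj : IsMid s0 s1 t R j) =>
    act_inr_mid (k := k) h01 h0t h1t hR0 hR1 hRt α hF hj
  have hAs1 := act_inr_s1_iff (k := k) h01 h0t h1t hR0 hR1 hRt α hF
  have hCio := not_conn_inl_inr (k := k) h01 h0t h1t hR0 hR1 hRt hq α hF
  have hCmm := fun {j j' : Fin (n + 1)} (hj : IsMid s0 s1 t R j) (hj' : IsMid s0 s1 t R j') =>
    conn_inr_mid_mid (k := k) h01 h0t h1t hR0 hR1 hRt α hF hj hj'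
  have hCsm := fun {j : Fin (n + 1)} (hj : IsMid s0 s1 t R j) =>
    conn_inr_s1_mid_iff (k := k) h01 h0t h1t hR0 hR1 hRt hq α hF hj
  -- the generator `x_{s1}^{q+1}` is active exactly if the exponent at `s1` is at most `-2`
  have hAs1' : Act (G q) (J k s0 s1 t R q) α (Sum.inr ⟨s1, Or.inl rfl⟩ : Idx s0 s1 t R) ↔
      α s1 ≤ -2 := by
    rw [hAs1]
    constructor
    · rintro (h | h)
      · exact h
      · by_contra hcon
        obtain ⟨l, hl, hl'⟩ := hkey (by have := hF.2.2.1; omega)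
        have := h l hl
        omega
    · exact fun h => Or.inl h
  have key := finrank_W_eq_card_of_key' (k := k) (G := G q) (I := J k s0 s1 t R q) (α := α)
    (fun p : Idx s0 s1 t R => decide (Act (G q) (J k s0 s1 t R q) α p)) ({true} : Finset Bool)
  rw [key]
  · rfl
  · intro p
    simp only [Finset.mem_singleton, decide_eq_true_eq]
  · intro p p' hpp
    have : Act (G q) (J k s0 s1 t R q) α p ↔ Act (G q) (J k s0 s1 t R q) α p' := by
      rcases p with i | ⟨j, hj⟩
      · rcases p' with i' | j'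
        · exact iff_of_false (hAinl i) (hAinl i')
        · exact (hCio i j' hpp).elim
      · rcases p' with i' | ⟨j', hj'⟩
        · exact (hCio i' ⟨j, hj⟩ (conn_symm hpp)).elim
        · rcases hj with hj | hj
          · subst hj
            rcases hj' with hj' | hj'
            · subst hj'
              exact Iff.rfl
            · exact iff_of_true (hAs1'.mpr ((hCsm hj').mp hpp)) (hAmid hj')
          · rcases hj' with hj' | hj'
            · subst hj'
              exact iff_of_true (hAmid hj) (hAs1'.mpr ((hCsm hj).mp (conn_symm hpp)))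
            · exact iff_of_true (hAmid hj) (hAmid hj')
    simp only [this]
  · intro x hx
    simp only [Finset.mem_singleton] at hx
    subst hx
    exact ⟨(Sum.inr ⟨w, Or.inr hw⟩ : Idx s0 s1 t R), by simp only [decide_eq_true_eq]; exact hAmid hw⟩
  · intro c hc p p' hp hpp
    simp only [Finset.mem_singleton, decide_eq_true_eq] at hp
    have hp' : Act (G q) (J k s0 s1 t R q) α p' := by
      have := hpp
      simp only [decide_eq_decide] at this
      exact this.mp hp
    -- every active generator carries the coefficient of the hub `x_{s1}^q x_w`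
    have hub : ∀ p : Idx s0 s1 t R, Act (G q) (J k s0 s1 t R q) α p →
        c p = c (Sum.inr ⟨w, Or.inr hw⟩) := by
      intro p hp
      rcases p with i | ⟨j, hj⟩
      · exact (hAinl i hp).elim
      · rcases hj with hj | hj
        · subst hj
          exact hc.2 _ _ ((hCsm hw).mpr (hAs1'.mp hp))
        · exact hc.2 _ _ (hCmm hj hw)
    rw [hub p hp, hub p' hp']

end generic

end Groth.Agent.S13447
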