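import Groth.Agent.Lib.Seat60S13447e

/-! Seat60: vanishing of the unlisted pieces of total degree zero for the ideal of `Seat60S13447a`. -/

set_option autoImplicit false
set_option linter.unusedVariables false
set_option linter.unusedSectionVars false
set_option linter.unusedSimpArgs false
set_option linter.unusedTactic false
set_option linter.unreachableTactic false
set_option linter.unnecessarySeqFocus false
universe u
open W4c1hilbpn MvPolynomial
open Groth.Agent.Lib.Seat60.Hom0
open Groth.Agent.S13449 (dv dq pair_le dv_self_right dv_self_left dv_other dq_apply)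

namespace Groth.Agent.S13447

variable {k : Type u} [Field k] {n : ℕ} {s0 s1 t : Fin (n + 1)} {R : Fin (n + 1) → Prop} {q : ℕ}
variable (h01 : s0 ≠ s1) (h0t : s0 ≠ t) (h1t : s1 ≠ t) (hR0 : ¬ R s0) (hR1 : ¬ R s1) (hRt : ¬ R t)
  (hq : 1 ≤ q)

lemma sum_single_one {N : ℕ} (a : Fin N) (x : ℤ) : ∑ l, (if a = l then x else 0) = x := by
  classical
  rw [Finset.sum_ite_eq Finset.univ a (fun _ => x), if_pos (Finset.mem_univ a)]

lemma sum_G_inl (i : {i : Fin (n + 1) // i ≠ t}) :
    ∑ l, (G q (Sum.inl i : Idx s0 s1 t R) l : ℤ) = 2 := by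
  simp only [GZ_inl]
  rw [Finset.sum_add_distrib, sum_single_one, sum_single_one]
  norm_num

lemma sum_G_inr (j : {j : Fin (n + 1) // j = s1 ∨ IsMid s0 s1 t R j}) :
    ∑ l, (G q (Sum.inr j : Idx s0 s1 t R) l : ℤ) = (q : ℤ) + 1 := by
  simp only [GZ_inr]
  rw [Finset.sum_add_distrib, sum_single_one, sum_single_one]

lemma sum_aF (j : Fin (n + 1)) : ∑ l, aF s0 s1 t q j l = 0 := by
  simp only [aF_apply]
  rw [Finset.sum_sub_distrib, Finset.sum_sub_distrib, Finset.sum_add_distrib, sum_single_one,
    sum_single_one, sum_single_one, sum_single_one]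
  ring

/-- two integer vectors with the same entry sum which agree off one index are equal -/
lemma eq_of_eq_off {N : ℕ} (t : Fin N) (α β : Fin N → ℤ) (hs : ∑ l, α l = ∑ l, β l)
    (h : ∀ l, l ≠ t → α l = β l) : α = β := by
  classical
  funext l
  by_cases hl : l = t
  · rw [hl]
    have h1 := Finset.add_sum_erase Finset.univ α (Finset.mem_univ t)
    have h2 := Finset.add_sum_erase Finset.univ β (Finset.mem_univ t)
    have h3 : ∑ x ∈ Finset.univ.erase t, α x = ∑ x ∈ Finset.univ.erase t, β x :=
      Finset.sum_congr rfl (fun x hx => h x (Finset.ne_of_mem_erase hx))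
    omega
  · exact h l hl

include h01 h0t h1t hR0 hR1 hRt in
/-- a coefficient is forced to vanish by a link to an inactive generator -/
lemma forced_zero (α : Fin (n + 1) → ℤ) (c : Idx s0 s1 t R → k)
    (hc : c ∈ W (G q) (J k s0 s1 t R q) α) (p p' : Idx s0 s1 t R)
    (hp : ∀ l, 0 ≤ (G q p l : ℤ) + α l) (hp' : ∃ l, (G q p' l : ℤ) + α l < 0)
    (hnot : ¬ inI s0 s1 t R q (mm q α p p')) : c p = 0 := by
  have hinact : ¬ Act (G q) (J k s0 s1 t R q) α p' := by
    rw [act_iff' h01 h0t h1t hR0 hR1 hRt]
    rintro ⟨h1, -⟩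
    obtain ⟨l, hl⟩ := hp'
    have := h1 l
    omega
  rw [← hc.1 p' hinact]
  apply hc.2
  rw [conn_iff'' h01 h0t h1t hR0 hR1 hRt]
  exact ⟨fun l => le_trans (hp l) (le_mm_left α p p' l), hnot⟩

include h01 hq in
lemma inF4_dv (b : Fin (n + 1)) (hb0 : b ≠ s0) (hb1 : b ≠ s1) : InF4 s0 s1 q (dv b s1) := by
  have hqz : (1 : ℤ) ≤ (q : ℤ) := by exact_mod_cast hq
  refine ⟨?_, ?_, ?_, ?_⟩
  · rw [dv_apply, if_neg hb0, if_neg h01.symm]
    norm_num
  · rw [dv_apply, if_neg hb1, if_pos rfl]
    omega
  · rw [dv_apply, if_neg hb1, if_pos rfl]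
    norm_num
  · intro l hl0 hl1
    rw [dv_apply, if_neg (Ne.symm hl1)]
    split_ifs <;> norm_num

section vanish

variable (α : Fin (n + 1) → ℤ)
  (hA1 : α ≠ dv t s0) (hA2 : α ≠ dv s1 s0) (hA3 : ∀ b, IsMid s0 s1 t R b → α ≠ dv b s0)
  (hA4 : ∀ b, R b → α ≠ dv b s0) (hF4 : ¬ InF4 s0 s1 q α)
  (hC1 : ∀ a, IsMid s0 s1 t R a → α ≠ dv t a)
  (hC2 : ∀ a b, IsMid s0 s1 t R a → R b → α ≠ dv b a)
  (hD : ∀ b, R b → α ≠ dv t b)
  (hF : ∀ j, (j = s1 ∨ IsMid s0 s1 t R j) → α ≠ aF s0 s1 t q j)

include h01 h0t h1t hq hA1 hF4 hC1 hD in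
/-- an active generator `x_{s0} x_i` with standard target `x_{s0} x_v`: the multidegree is listed -/
lemma auxA (i v : Fin (n + 1)) (hit : i ≠ t)
    (hα' : ∀ l, α l = (if s0 = l then 1 else 0) + (if v = l then 1 else 0) -
      (if s0 = l then 1 else 0) - (if i = l then 1 else 0))
    (hnot : ¬ inI s0 s1 t R q
      (fun l => ((if s0 = l then 1 else 0) + (if v = l then 1 else 0) : ℤ))) :
    False := by
  have e1 := h01.symm
  have hv : v = t := by
    by_contra hvt
    apply hnot
    unfold inI
    by_cases hv0 : v = s0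
    · left
      subst v
      simp only [↓reduceIte]
      norm_num
    by_cases hv1 : v = s1
    · right; left
      subst v
      simp only [h01, e1, ↓reduceIte]
      norm_num
    by_cases hvR : R v
    · right; right; right; left
      refine ⟨?_, v, hvR, ?_⟩
      · simp only [↓reduceIte]
        split_ifs <;> norm_num
      · simp only [↓reduceIte]
        split_ifs <;> norm_num
    · right; right; left
      refine ⟨?_, v, ⟨hv0, hv1, hvt, hvR⟩, ?_⟩
      · simp only [↓reduceIte]
        split_ifs <;> norm_num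
      · simp only [↓reduceIte]
        split_ifs <;> norm_num
  subst v
  have hα2 : α = dv t i := by
    funext l
    rw [hα' l]
    unfold dv
    ring
  by_cases hi0 : i = s0
  · subst i; exact hA1 hα2
  by_cases hi1 : i = s1
  · subst i
    apply hF4
    rw [hα2]
    exact inF4_dv h01 hq t (Ne.symm h0t) (Ne.symm h1t)
  by_cases hiR : R i
  · exact hD i hiR hα2
  · exact hC1 i ⟨hi0, hi1, hit, hiR⟩ hα2

include hA1 hA2 hA3 hA4 in
/-- an active generator `x_{s0} x_i` with standard target `x_i x_v`, `v ≠ s0`: the multidegree is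
listed -/
lemma aux2 (i v : Fin (n + 1)) (hv0 : v ≠ s0)
    (hα' : ∀ l, α l = (if i = l then 1 else 0) + (if v = l then 1 else 0) -
      (if s0 = l then 1 else 0) - (if i = l then 1 else 0)) : False := by
  have hα2 : α = dv v s0 := by
    funext l
    rw [hα' l]
    unfold dv
    ring
  by_cases hvt : v = t
  · subst v; exact hA1 hα2
  by_cases hv1 : v = s1
  · subst v; exact hA2 hα2
  by_cases hvR : R v
  · exact hA4 v hvR hα2
  · exact hA3 v ⟨hv0, hv1, hvt, hvR⟩ hα2

include h01 h0t h1t hR0 hR1 hRt hq hA1 hA2 hA3 hA4 hF4 hC1 hC2 hD hF in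
/-- all the pieces of total degree zero whose multidegree is not listed vanish -/
theorem tPiece_eq_bot (hmid : ∃ l, IsMid s0 s1 t R l) (hRne : ∃ b, R b)
    (hcase : (∀ i, ∃ w, R w ∧ w ≠ i) ∨ 3 ≤ q) (hα : ∑ l, α l = 0) :
    tPiece (J k s0 s1 t R q) α = ⊥ := by
  classical
  have e1 := h01.symm
  have e2 := h0t.symm
  have e3 := h1t.symm
  have hqz : (1 : ℤ) ≤ (q : ℤ) := by exact_mod_cast hq
  apply tPiece_eq_bot_of_W (hI k s0 s1 t R q) (hG k s0 s1 t R q)
  intro c hc
  funext p
  show c p = 0
  by_cases hact : Act (G q) (J k s0 s1 t R q) α p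
  swap
  · exact hc.1 p hact
  obtain ⟨hval, hnot⟩ := (act_iff' h01 h0t h1t hR0 hR1 hRt α p).mp hact
  rcases p with ⟨i, hit⟩ | ⟨j, hj⟩
  · -- a generator `x_{s0} x_i`
    have hsum : ∑ l, ((G q (Sum.inl ⟨i, hit⟩ : Idx s0 s1 t R) l : ℤ) + α l) = 2 := by
      rw [Finset.sum_add_distrib, sum_G_inl, hα, add_zero]
    obtain ⟨u, v, huv⟩ := exists_two_of_sum_eq_two _ hval hsum
    have hfun : (fun l => (G q (Sum.inl ⟨i, hit⟩ : Idx s0 s1 t R) l : ℤ) + α l) =
        fun l => ((if u = l then 1 else 0) + (if v = l then 1 else 0) : ℤ) := funext huv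
    rw [hfun] at hnot
    have hfun' : (fun l => ((if u = l then 1 else 0) + (if v = l then 1 else 0) : ℤ)) =
        fun l => ((if v = l then 1 else 0) + (if u = l then 1 else 0) : ℤ) := by
      funext l
      ring
    have hα' : ∀ l, α l = (if u = l then 1 else 0) + (if v = l then 1 else 0) -
        (if s0 = l then 1 else 0) - (if i = l then 1 else 0) := by
      intro l
      have := huv l
      rw [GZ_inl] at this
      simp only at this
      linarith
    have hα'' : ∀ l, α l = (if v = l then 1 else 0) + (if u = l then 1 else 0) -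
        (if s0 = l then 1 else 0) - (if i = l then 1 else 0) := by
      intro l
      rw [hα' l]
      ring
    by_cases hu0 : u = s0
    · subst u
      exact (auxA h01 h0t h1t hq α hA1 hF4 hC1 hD i v hit hα' hnot).elim
    by_cases hv0 : v = s0
    · subst v
      rw [hfun'] at hnot
      exact (auxA h01 h0t h1t hq α hA1 hF4 hC1 hD i u hit hα'' hnot).elim
    by_cases hiu : i = u
    · subst u
      exact (aux2 α hA1 hA2 hA3 hA4 i v hv0 hα').elim
    by_cases hiv : i = v
    · subst v
      exact (aux2 α hA1 hA2 hA3 hA4 i u hu0 hα'').elim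
    -- forced zero
    rw [not_inI_iff] at hnot
    obtain ⟨g1, g2, g3, g4⟩ := hnot
    beta_reduce at g2 g4
    have main : ∀ w, w ≠ t → w ≠ i → w ≠ s0 → (∀ l, IsMid s0 s1 t R l → w ≠ l) →
        (w = s1 → 3 ≤ q) → c (Sum.inl ⟨i, hit⟩) = 0 := by
      intro w hwt hwi hw0 hwm hwq
      apply forced_zero h01 h0t h1t hR0 hR1 hRt α c hc (Sum.inl ⟨i, hit⟩) (Sum.inl ⟨w, hwt⟩) hval
      · refine ⟨i, ?_⟩
        rw [GZ_inl, hα' i]
        simp only [Ne.symm hiu, Ne.symm hiv, hwi, ↓reduceIte]
        omega
      · rw [not_inI_iff]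
        have m0 : mm q α (Sum.inl ⟨i, hit⟩ : Idx s0 s1 t R) (Sum.inl ⟨w, hwt⟩) s0 = 0 := by
          rw [mm_apply, GZ_inl, GZ_inl, hα' s0]
          simp only [hu0, hv0, hw0, ↓reduceIte]
          omega
        have m1 : mm q α (Sum.inl ⟨i, hit⟩ : Idx s0 s1 t R) (Sum.inl ⟨w, hwt⟩) s1 =
            (if u = s1 then 1 else 0) + (if v = s1 then 1 else 0) + (if w = s1 then 1 else 0) := by
          rw [mm_apply, GZ_inl, GZ_inl, hα' s1]
          simp only [h01, ↓reduceIte]
          omega
        have mM : ∀ l, IsMid s0 s1 t R l →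
            mm q α (Sum.inl ⟨i, hit⟩ : Idx s0 s1 t R) (Sum.inl ⟨w, hwt⟩) l =
              (if u = l then 1 else 0) + (if v = l then 1 else 0) := by
          intro l hl
          rw [mm_apply, GZ_inl, GZ_inl, hα' l]
          simp only [Ne.symm hl.1, hwm l hl, ↓reduceIte]
          omega
        rw [m0, m1]
        refine ⟨by norm_num, ?_, fun h => by norm_num at h, fun h l hl => ?_⟩
        · by_cases hws : w = s1
          · have := hwq hws
            split_ifs <;> omega
          · rw [if_neg hws]
            omega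
        · rw [mM l hl]
          by_cases hws : w = s1
          · have := hwq hws
            have hl1 := hl.2.1
            rw [if_pos hws] at h
            have hu1 : u = s1 := by
              by_contra hne
              rw [if_neg hne] at h
              split_ifs at h <;> omega
            have hv1 : v = s1 := by
              by_contra hne
              rw [if_neg hne] at h
              split_ifs at h <;> omega
            rw [hu1, hv1, if_neg (Ne.symm hl1)]
            norm_num
          · rw [if_neg hws] at h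
            exact g4 (by omega) l hl
    by_cases hw : ∃ w, R w ∧ w ≠ i
    · obtain ⟨w, hwR, hwi⟩ := hw
      exact main w (fun e => hRt (e ▸ hwR)) hwi (fun e => hR0 (e ▸ hwR))
        (fun l hl e => hl.2.2.2 (e ▸ hwR)) (fun e => (hR1 (e ▸ hwR)).elim)
    · push Not at hw
      have hq3 : 3 ≤ q := by
        rcases hcase with h | h
        · obtain ⟨w, hw1, hw2⟩ := h i
          exact absurd (hw w hw1) hw2
        · exact h
      obtain ⟨b0, hb0⟩ := hRne
      have hib : b0 = i := hw b0 hb0
      subst hib
      exact main s1 h1t (fun e => hR1 (e ▸ hb0)) e1 (fun l hl e => hl.2.1 e.symm) (fun _ => hq3)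
  · -- a generator `x_{s1}^q x_j`
    rw [not_inI_iff] at hnot
    obtain ⟨g1, g2, g3, g4⟩ := hnot
    have hj0 : j ≠ s0 := by
      rcases hj with h | h
      · rw [h]; exact e1
      · exact h.1
    have b0 : (G q (Sum.inr ⟨j, hj⟩ : Idx s0 s1 t R) s0 : ℤ) = 0 := by
      rw [GZ_inr, if_neg e1, if_neg hj0]
      norm_num
    have n0 := hval s0
    rw [b0] at g1 g3 n0
    by_cases h0 : α s0 = 0
    swap
    · -- the multidegree is `e_{s0} + q e_t - q e_{s1} - e_j`
      exfalso
      have h0' : α s0 = 1 := by omega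
      obtain ⟨g5, g6, g7⟩ := g3 (by omega)
      apply hF j hj
      apply eq_of_eq_off t _ _ (by rw [hα, sum_aF])
      intro l hlt
      rw [aF_apply, if_neg (Ne.symm hlt)]
      by_cases hl0 : l = s0
      · rw [hl0, if_pos rfl, if_neg e1, if_neg hj0, h0']
        norm_num
      have hv := hval l
      have hg : (G q (Sum.inr ⟨j, hj⟩ : Idx s0 s1 t R) l : ℤ) + α l ≤ 0 := by
        by_cases hl1 : l = s1
        · rw [hl1]; exact g5
        by_cases hlR : R l
        · exact g7 l hlR
        · exact g6 l ⟨hl0, hl1, hlt, hlR⟩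
      simp only [GZ_inr] at hv hg
      rw [if_neg (Ne.symm hl0)]
      omega
    rcases hj with hj1 | hjm
    · subst j
      have b1 : (G q (Sum.inr ⟨s1, Or.inl rfl⟩ : Idx s0 s1 t R) s1 : ℤ) = (q : ℤ) + 1 := by
        rw [GZ_inr, if_pos rfl, if_pos rfl]
      have hpos : ∀ l, l ≠ s0 → l ≠ s1 → 0 ≤ α l := by
        intro l _ hl1
        have := hval l
        rw [GZ_inr, if_neg (Ne.symm hl1), if_neg (Ne.symm hl1)] at this
        omega
      have n1 := hval s1
      rw [b1] at n1 g2
      by_cases hs1 : -(q : ℤ) ≤ α s1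
      · exact (hF4 ⟨h0, hs1, by omega, hpos⟩).elim
      · obtain ⟨w, hw⟩ := hmid
        apply forced_zero h01 h0t h1t hR0 hR1 hRt α c hc (Sum.inr ⟨s1, Or.inl rfl⟩)
          (Sum.inr ⟨w, Or.inr hw⟩) hval
        · refine ⟨s1, ?_⟩
          rw [GZ_inr, if_pos rfl, if_neg hw.2.1]
          omega
        · rw [not_inI_iff]
          have m0 : mm q α (Sum.inr ⟨s1, Or.inl rfl⟩ : Idx s0 s1 t R) (Sum.inr ⟨w, Or.inr hw⟩) s0
              = 0 := by
            simp only [mm_apply, GZ_inr, e1, hw.1, ↓reduceIte, h0]
            norm_num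
          have m1 : mm q α (Sum.inr ⟨s1, Or.inl rfl⟩ : Idx s0 s1 t R) (Sum.inr ⟨w, Or.inr hw⟩) s1
              = 0 := by
            simp only [mm_apply, GZ_inr, hw.2.1, ↓reduceIte]
            omega
          rw [m0, m1]
          exact ⟨by norm_num, by omega, fun h => by norm_num at h, fun h => by omega⟩
    · obtain ⟨-, hj1, hjt, hjR⟩ := id hjm
      have b1 : (G q (Sum.inr ⟨j, Or.inr hjm⟩ : Idx s0 s1 t R) s1 : ℤ) = (q : ℤ) := by
        rw [GZ_inr, if_pos rfl, if_neg hj1]
        ring
      have bj : (G q (Sum.inr ⟨j, Or.inr hjm⟩ : Idx s0 s1 t R) j : ℤ) = 1 := by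
        rw [GZ_inr, if_neg (Ne.symm hj1), if_pos rfl]
        ring
      have bl : ∀ l, l ≠ s1 → l ≠ j → (G q (Sum.inr ⟨j, Or.inr hjm⟩ : Idx s0 s1 t R) l : ℤ) = 0 := by
        intro l hl1 hlj
        rw [GZ_inr, if_neg (Ne.symm hl1), if_neg (Ne.symm hlj)]
        ring
      have n1 := hval s1
      have nj := hval j
      rw [b1] at n1 g2 g4
      rw [bj] at nj
      have hpos : ∀ l, l ≠ s1 → l ≠ j → 0 ≤ α l := by
        intro l hl1 hlj
        have := hval l
        rw [bl l hl1 hlj] at this
        omega
      by_cases hαj : 0 ≤ α j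
      · exfalso
        by_cases hs1 : α s1 ≤ -1
        · refine hF4 ⟨h0, by omega, hs1, fun l hl0 hl1 => ?_⟩
          by_cases hlj : l = j
          · rw [hlj]; exact hαj
          · exact hpos l hl1 hlj
        · have := g4 (by omega) j hjm
          rw [bj] at this
          omega
      have hαj' : α j = -1 := by omega
      by_cases hs1 : α s1 = 0
      · -- the multidegree is `e_b - e_j`, `b ∈ R` or `b = t`
        exfalso
        have g4' := g4 (by omega)
        have hmid0 : ∀ l, IsMid s0 s1 t R l → l ≠ j → α l = 0 := by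
          intro l hl hlj
          have := g4' l hl
          rw [bl l hl.2.1 hlj] at this
          have := hpos l hl.2.1 hlj
          omega
        obtain ⟨u, hu⟩ := exists_one_of_sum_eq_one (fun l => α l + (if j = l then 1 else 0))
          (fun l => by
            show 0 ≤ α l + (if j = l then 1 else 0)
            by_cases hlj : j = l
            · rw [if_pos hlj, ← hlj, hαj']
              norm_num
            · rw [if_neg hlj]
              by_cases hl1 : l = s1
              · rw [hl1, hs1]
                norm_num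
              · have := hpos l hl1 (Ne.symm hlj)
                omega)
          (by
            rw [Finset.sum_add_distrib, hα, sum_single_one]
            norm_num)
        have hαu : α = dv u j := by
          funext l
          have := hu l
          rw [dv_apply]
          omega
        have hu0 : u ≠ s0 := by
          intro e
          have := hu s0
          simp only [e, hj0, ↓reduceIte, h0] at this
          omega
        have hu1 : u ≠ s1 := by
          intro e
          have := hu s1
          simp only [e, hj1, ↓reduceIte, hs1] at this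
          omega
        have huj : u ≠ j := by
          intro e
          have := hu j
          simp only [e, ↓reduceIte, hαj'] at this
          omega
        by_cases hut : u = t
        · rw [hut] at hαu
          exact hC1 j hjm hαu
        by_cases huR : R u
        · exact hC2 j u hjm huR hαu
        · have h1 := hmid0 u ⟨hu0, hu1, hut, huR⟩ huj
          have h2 := hu u
          simp only [Ne.symm huj, ↓reduceIte, h1] at h2
          omega
      · -- forced zero
        have hs1' : α s1 ≤ -1 := by omega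
        by_cases hw : ∃ w, IsMid s0 s1 t R w ∧ w ≠ j
        · obtain ⟨w, hw, hwj⟩ := hw
          apply forced_zero h01 h0t h1t hR0 hR1 hRt α c hc (Sum.inr ⟨j, Or.inr hjm⟩)
            (Sum.inr ⟨w, Or.inr hw⟩) hval
          · refine ⟨j, ?_⟩
            rw [GZ_inr, if_neg (Ne.symm hj1), if_neg hwj, hαj']
            norm_num
          · rw [not_inI_iff]
            have m0 : mm q α (Sum.inr ⟨j, Or.inr hjm⟩ : Idx s0 s1 t R) (Sum.inr ⟨w, Or.inr hw⟩) s0
                = 0 := by
              simp only [mm_apply, GZ_inr, e1, hj0, hw.1, ↓reduceIte, h0]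
              norm_num
            have m1 : mm q α (Sum.inr ⟨j, Or.inr hjm⟩ : Idx s0 s1 t R) (Sum.inr ⟨w, Or.inr hw⟩) s1
                = (q : ℤ) + α s1 := by
              simp only [mm_apply, GZ_inr, hj1, hw.2.1, ↓reduceIte]
              norm_num
            rw [m0, m1]
            exact ⟨by norm_num, by omega, fun h => by norm_num at h, fun h => by omega⟩
        · push Not at hw
          apply forced_zero h01 h0t h1t hR0 hR1 hRt α c hc (Sum.inr ⟨j, Or.inr hjm⟩)
            (Sum.inr ⟨s1, Or.inl rfl⟩) hval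
          · refine ⟨j, ?_⟩
            rw [GZ_inr, if_neg (Ne.symm hj1), if_neg (Ne.symm hj1), hαj']
            norm_num
          · rw [not_inI_iff]
            have m0 : mm q α (Sum.inr ⟨j, Or.inr hjm⟩ : Idx s0 s1 t R) (Sum.inr ⟨s1, Or.inl rfl⟩) s0
                = 0 := by
              simp only [mm_apply, GZ_inr, e1, hj0, ↓reduceIte, h0]
              norm_num
            have m1 : mm q α (Sum.inr ⟨j, Or.inr hjm⟩ : Idx s0 s1 t R) (Sum.inr ⟨s1, Or.inl rfl⟩) s1
                = (q : ℤ) + 1 + α s1 := by
              simp only [mm_apply, GZ_inr, hj1, ↓reduceIte]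
              omega
            rw [m0, m1]
            refine ⟨by norm_num, by omega, fun h => by norm_num at h, fun h l hl => ?_⟩
            rw [hw l hl]
            simp only [mm_apply, GZ_inr, Ne.symm hj1, ↓reduceIte, hαj']
            norm_num

end vanish

end Groth.Agent.S13447
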