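import Groth.Agent.Lib.Seat60S13447f

/-! Seat60: the finite sets of multidegrees and the dimension count of the degree-zero part of `T(I)`
for the ideal of `Seat60S13447a`. -/

set_option autoImplicit false
set_option linter.unusedVariables false
set_option linter.unusedSectionVars false
set_option linter.unusedSimpArgs false
set_option linter.unusedTactic false
set_option linter.unreachableTactic false
set_option linter.unnecessarySeqFocus false
universe u
open W4c1hilbpn MvPolynomial
open Groth.Agent.Lib.Seat60.Hom0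
open Groth.Agent.S13449 (dv dq pair_le dv_self_right dv_self_left dv_other dq_apply sum_dv sum_dq
  dv_inj dq_inj)
open Groth.Agent.S13450 (Aset mem_Aset card_Aset toα toα_apply toα_inj eq_single_of_apply_eq_sum)

namespace Groth.Agent.S13447

variable {k : Type u} [Field k] {n : ℕ} {s0 s1 t : Fin (n + 1)} {R : Fin (n + 1) → Prop} {q : ℕ}
variable (h01 : s0 ≠ s1) (h0t : s0 ≠ t) (h1t : s1 ≠ t) (hR0 : ¬ R s0) (hR1 : ¬ R s1) (hRt : ¬ R t)
  (hq : 1 ≤ q)

/-! ### the generic set -/

open Classical in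
/-- the finite set of the generic multidegrees -/
noncomputable def F4set (s0 s1 : Fin (n + 1)) (q : ℕ) : Finset (Fin (n + 1) → ℤ) :=
  ((Aset s0 q).erase (Finsupp.single s1 q)).image (toα s1 q)

include h01 in
lemma mem_F4set (α : Fin (n + 1) → ℤ) :
    α ∈ F4set s0 s1 q ↔ (∑ l, α l = 0) ∧ InF4 s0 s1 q α := by
  classical
  have e1 := h01.symm
  unfold F4set
  rw [Finset.mem_image]
  constructor
  · rintro ⟨μ, hμ, rfl⟩
    rw [Finset.mem_erase, mem_Aset] at hμ
    obtain ⟨hμ1, hsum, hμ0⟩ := hμ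
    have hsumZ : ∑ l, (μ l : ℤ) = q := by
      rw [← Nat.cast_sum, hsum]
    refine ⟨?_, ?_, ?_, ?_, ?_⟩
    · simp only [toα_apply]
      rw [Finset.sum_sub_distrib, hsumZ, sum_single_one]
      ring
    · rw [toα_apply, hμ0, if_neg e1]
      norm_num
    · rw [toα_apply, if_pos rfl]
      have : (0 : ℤ) ≤ (μ s1 : ℤ) := by positivity
      omega
    · rw [toα_apply, if_pos rfl]
      by_contra hcon
      apply hμ1
      have h1 : ∑ l, μ l ≤ μ s1 := by
        rw [hsum]
        have : (q : ℤ) ≤ (μ s1 : ℤ) := by omega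
        exact_mod_cast this
      have h2 := eq_single_of_apply_eq_sum μ s1 h1
      have h3 : μ s1 ≤ ∑ l, μ l :=
        Finset.single_le_sum (fun _ _ => Nat.zero_le _) (Finset.mem_univ s1)
      rw [h2]
      congr 1
      omega
    · intro l _ hl1
      rw [toα_apply, if_neg (Ne.symm hl1)]
      have : (0 : ℤ) ≤ (μ l : ℤ) := by positivity
      omega
  · rintro ⟨hsum, h0, h1, h1', hpos⟩
    set f : Fin (n + 1) → ℕ := fun l => (α l + (if s1 = l then (q : ℤ) else 0)).toNat with hf
    have hfz : ∀ l, (f l : ℤ) = α l + (if s1 = l then (q : ℤ) else 0) := by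
      intro l
      rw [hf]
      simp only
      rw [Int.toNat_of_nonneg]
      by_cases hl1 : s1 = l
      · subst hl1
        rw [if_pos rfl]
        omega
      · rw [if_neg hl1]
        by_cases hl0 : l = s0
        · rw [hl0, h0]
          norm_num
        · have := hpos l hl0 (Ne.symm hl1)
          omega
    set μ : Fin (n + 1) →₀ ℕ := Finsupp.equivFunOnFinite.symm f with hμ
    have hμl : ∀ l, μ l = f l := fun l => rfl
    have hto : toα s1 q μ = α := by
      funext l
      rw [toα_apply, hμl, hfz]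
      ring
    refine ⟨μ, ?_, hto⟩
    rw [Finset.mem_erase, mem_Aset]
    refine ⟨?_, ?_, ?_⟩
    · intro h
      have : toα s1 q μ s1 = 0 := by
        rw [h, toα_apply, Finsupp.single_apply, if_pos rfl, if_pos rfl]
        ring
      rw [hto] at this
      omega
    · have : ((∑ l, μ l : ℕ) : ℤ) = q := by
        rw [Nat.cast_sum]
        simp only [hμl, hfz]
        rw [Finset.sum_add_distrib, hsum, sum_single_one]
        ring
      exact_mod_cast this
    · have : (μ s0 : ℤ) = 0 := by
        rw [hμl, hfz, h0, if_neg e1]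
        norm_num
      exact_mod_cast this

include h01 in
lemma card_F4set : (F4set s0 s1 q).card = Nat.choose (n + q - 1) q - 1 := by
  classical
  unfold F4set
  rw [Finset.card_image_of_injective _ toα_inj, Finset.card_erase_of_mem, card_Aset]
  rw [mem_Aset]
  refine ⟨?_, ?_⟩
  · rw [Finset.sum_eq_single s1]
    · rw [Finsupp.single_apply, if_pos rfl]
    · intro l _ hl
      rw [Finsupp.single_apply, if_neg (Ne.symm hl)]
    · intro h
      exact absurd (Finset.mem_univ _) h
  · rw [Finsupp.single_apply, if_neg (Ne.symm h01)]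

/-! ### the index sets -/

open Classical in
/-- the middle indices -/
noncomputable def Mid (s0 s1 t : Fin (n + 1)) (R : Fin (n + 1) → Prop) : Finset (Fin (n + 1)) :=
  Finset.univ.filter (fun l => IsMid s0 s1 t R l)

open Classical in
/-- the indices in `R` -/
noncomputable def Rset (R : Fin (n + 1) → Prop) : Finset (Fin (n + 1)) :=
  Finset.univ.filter (fun l => R l)

lemma mem_Mid (l : Fin (n + 1)) : l ∈ Mid s0 s1 t R ↔ IsMid s0 s1 t R l := by
  unfold Mid
  simp only [Finset.mem_filter, Finset.mem_univ, true_and]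

lemma mem_Rset (l : Fin (n + 1)) : l ∈ Rset R ↔ R l := by
  unfold Rset
  simp only [Finset.mem_filter, Finset.mem_univ, true_and]

include h01 h0t h1t hR0 hR1 hRt in
lemma card_Mid_add : (Mid s0 s1 t R).card + (Rset R).card + 3 = n + 1 := by
  classical
  have h : Mid s0 s1 t R = Finset.univ \ ({s0, s1, t} ∪ Rset R) := by
    ext l
    rw [mem_Mid]
    simp only [IsMid, Finset.mem_sdiff, Finset.mem_univ, true_and, Finset.mem_union,
      Finset.mem_insert, Finset.mem_singleton, not_or, mem_Rset]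
    tauto
  have h3 : ({s0, s1, t} : Finset (Fin (n + 1))).card = 3 := by
    rw [Finset.card_insert_of_notMem, Finset.card_insert_of_notMem, Finset.card_singleton]
    · simpa using h1t
    · simp only [Finset.mem_insert, Finset.mem_singleton, not_or]
      exact ⟨h01, h0t⟩
  have hd : Disjoint ({s0, s1, t} : Finset (Fin (n + 1))) (Rset R) := by
    rw [Finset.disjoint_left]
    intro l hl hl'
    rw [mem_Rset] at hl'
    simp only [Finset.mem_insert, Finset.mem_singleton] at hl
    rcases hl with rfl | rfl | rfl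
    · exact hR0 hl'
    · exact hR1 hl'
    · exact hRt hl'
  have hle := Finset.card_le_univ ({s0, s1, t} ∪ Rset R)
  rw [h, Finset.card_sdiff_of_subset (Finset.subset_univ _), Finset.card_univ, Fintype.card_fin]
  rw [Finset.card_union_of_disjoint hd, h3, Fintype.card_fin] at hle
  rw [Finset.card_union_of_disjoint hd, h3]
  omega

/-! ### the count -/

lemma sum_univ_nine' {M : Type*} [AddCommMonoid M] (f : Fin 9 → M) :
    ∑ i, f i = f 0 + f 1 + f 2 + f 3 + f 4 + f 5 + f 6 + f 7 + f 8 := by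
  rw [Fin.sum_univ_castSucc, Fin.sum_univ_eight]
  rfl

open Classical in
/-- the code separating the families of multidegrees -/
noncomputable def code (s0 s1 t : Fin (n + 1)) (R : Fin (n + 1) → Prop) (α : Fin (n + 1) → ℤ) :
    ℤ × ℤ × ℤ × ℤ :=
  (α s0, max (α s1) (-1), (if 0 ≤ α s1 then α t else 0),
    (if 0 ≤ α s1 ∧ ∃ l, R l ∧ α l ≠ 0 then 1 else 0))

lemma code_neg (α : Fin (n + 1) → ℤ) (h : α s1 ≤ -1) :
    code s0 s1 t R α = (α s0, -1, 0, 0) := by
  unfold code
  rw [max_eq_right h, if_neg (by omega), if_neg (fun h' => by have := h'.1; omega)]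

lemma code_pos_none (α : Fin (n + 1) → ℤ) (h : 0 ≤ α s1) (h' : ¬ ∃ l, R l ∧ α l ≠ 0) :
    code s0 s1 t R α = (α s0, α s1, α t, 0) := by
  unfold code
  rw [max_eq_left (by omega), if_pos h, if_neg (fun h'' => h' h''.2)]

lemma code_pos_some (α : Fin (n + 1) → ℤ) (h : 0 ≤ α s1) (h' : ∃ l, R l ∧ α l ≠ 0) :
    code s0 s1 t R α = (α s0, α s1, α t, 1) := by
  unfold code
  rw [max_eq_left (by omega), if_pos h, if_pos ⟨h, h'⟩]

lemma dvR_none {a b : Fin (n + 1)} (hb : ¬ R b) (ha : ¬ R a) : ¬ ∃ l, R l ∧ dv b a l ≠ 0 := by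
  rintro ⟨l, hl, h⟩
  apply h
  have hbl : b ≠ l := fun e => hb (e ▸ hl)
  have hal : a ≠ l := fun e => ha (e ▸ hl)
  rw [dv_apply, if_neg hbl, if_neg hal]
  norm_num

lemma dvR_left {a b : Fin (n + 1)} (hb : R b) (hab : a ≠ b) : ∃ l, R l ∧ dv b a l ≠ 0 := by
  refine ⟨b, hb, ?_⟩
  rw [dv_apply, if_pos rfl, if_neg hab]
  norm_num

lemma dvR_right {a b : Fin (n + 1)} (ha : R a) (hab : a ≠ b) : ∃ l, R l ∧ dv b a l ≠ 0 := by
  refine ⟨a, ha, ?_⟩
  rw [dv_apply, if_pos rfl, if_neg (Ne.symm hab)]
  norm_num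

/-- the values of the code on the nine families -/
def codeVal : Fin 9 → ℤ × ℤ × ℤ × ℤ :=
  ![(-1, 0, 1, 0), (-1, 1, 0, 0), (-1, 0, 0, 0), (-1, 0, 0, 1), (0, -1, 0, 0), (0, 0, 1, 0),
    (0, 0, 0, 1), (0, 0, 1, 1), (1, -1, 0, 0)]

lemma codeVal_inj : Function.Injective codeVal := by
  decide

open Classical in
/-- the nine families of multidegrees -/
noncomputable def fam (s0 s1 t : Fin (n + 1)) (R : Fin (n + 1) → Prop) (q : ℕ) :
    Fin 9 → Finset (Fin (n + 1) → ℤ) :=
  ![{dv t s0}, {dv s1 s0}, (Mid s0 s1 t R).image (fun b => dv b s0),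
    (Rset R).image (fun b => dv b s0), F4set s0 s1 q,
    (Mid s0 s1 t R).image (fun a => dv t a),
    ((Mid s0 s1 t R) ×ˢ (Rset R)).image (fun x => dv x.2 x.1),
    (Rset R).image (fun b => dv t b),
    (insert s1 (Mid s0 s1 t R)).image (fun j => aF s0 s1 t q j)]

lemma fam0 : fam s0 s1 t R q 0 = {dv t s0} := rfl
lemma fam1 : fam s0 s1 t R q 1 = {dv s1 s0} := rfl
open Classical in
lemma fam2 : fam s0 s1 t R q 2 = (Mid s0 s1 t R).image (fun b => dv b s0) := rfl
open Classical in
lemma fam3 : fam s0 s1 t R q 3 = (Rset R).image (fun b => dv b s0) := rfl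
lemma fam4 : fam s0 s1 t R q 4 = F4set s0 s1 q := rfl
open Classical in
lemma fam5 : fam s0 s1 t R q 5 = (Mid s0 s1 t R).image (fun a => dv t a) := rfl
open Classical in
lemma fam6 : fam s0 s1 t R q 6 =
    ((Mid s0 s1 t R) ×ˢ (Rset R)).image (fun x => dv x.2 x.1) := rfl
open Classical in
lemma fam7 : fam s0 s1 t R q 7 = (Rset R).image (fun b => dv t b) := rfl
open Classical in
lemma fam8 : fam s0 s1 t R q 8 =
    (insert s1 (Mid s0 s1 t R)).image (fun j => aF s0 s1 t q j) := rfl

include h01 h0t h1t hR0 hR1 hRt hq in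
lemma code_fam (j : Fin 9) (α : Fin (n + 1) → ℤ) (hα : α ∈ fam s0 s1 t R q j) :
    code s0 s1 t R α = codeVal j := by
  classical
  have e1 := h01.symm
  have e2 := h0t.symm
  have e3 := h1t.symm
  have hqz : (1 : ℤ) ≤ (q : ℤ) := by exact_mod_cast hq
  fin_cases j
  · change α ∈ fam s0 s1 t R q 0 at hα
    rw [fam0, Finset.mem_singleton] at hα
    subst hα
    show code s0 s1 t R _ = ((-1 : ℤ), (0 : ℤ), (1 : ℤ), (0 : ℤ))
    rw [code_pos_none _ _ (dvR_none hRt hR0)]
    · simp only [dv_apply, h01, h0t, h1t, e1, e2, e3, ↓reduceIte]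
      norm_num
    · simp only [dv_apply, h01, h0t, h1t, e1, e2, e3, ↓reduceIte]
      norm_num
  · change α ∈ fam s0 s1 t R q 1 at hα
    rw [fam1, Finset.mem_singleton] at hα
    subst hα
    show code s0 s1 t R _ = ((-1 : ℤ), (1 : ℤ), (0 : ℤ), (0 : ℤ))
    rw [code_pos_none _ _ (dvR_none hR1 hR0)]
    · simp only [dv_apply, h01, h0t, h1t, e1, e2, e3, ↓reduceIte]
      norm_num
    · simp only [dv_apply, h01, h0t, h1t, e1, e2, e3, ↓reduceIte]
      norm_num
  · change α ∈ fam s0 s1 t R q 2 at hα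
    rw [fam2, Finset.mem_image] at hα
    obtain ⟨b, hb, rfl⟩ := hα
    rw [mem_Mid] at hb
    obtain ⟨hb0, hb1, hbt, hbR⟩ := hb
    show code s0 s1 t R _ = ((-1 : ℤ), (0 : ℤ), (0 : ℤ), (0 : ℤ))
    rw [code_pos_none _ _ (dvR_none hbR hR0)]
    · simp only [dv_apply, h01, h0t, h1t, e1, e2, e3, hb0, hb1, hbt, ↓reduceIte]
      norm_num
    · simp only [dv_apply, h01, h0t, h1t, e1, e2, e3, hb0, hb1, hbt, ↓reduceIte]
      norm_num
  · change α ∈ fam s0 s1 t R q 3 at hα
    rw [fam3, Finset.mem_image] at hα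
    obtain ⟨b, hb, rfl⟩ := hα
    rw [mem_Rset] at hb
    have hb0 : b ≠ s0 := fun e => hR0 (e ▸ hb)
    have hb1 : b ≠ s1 := fun e => hR1 (e ▸ hb)
    have hbt : b ≠ t := fun e => hRt (e ▸ hb)
    show code s0 s1 t R _ = ((-1 : ℤ), (0 : ℤ), (0 : ℤ), (1 : ℤ))
    rw [code_pos_some _ _ (dvR_left hb (Ne.symm hb0))]
    · simp only [dv_apply, h01, h0t, h1t, e1, e2, e3, hb0, hb1, hbt, ↓reduceIte]
      norm_num
    · simp only [dv_apply, h01, h0t, h1t, e1, e2, e3, hb0, hb1, hbt, ↓reduceIte]
      norm_num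
  · change α ∈ fam s0 s1 t R q 4 at hα
    rw [fam4, mem_F4set h01] at hα
    obtain ⟨-, h0, h1, h1', -⟩ := hα
    show code s0 s1 t R _ = ((0 : ℤ), (-1 : ℤ), (0 : ℤ), (0 : ℤ))
    rw [code_neg _ h1', h0]
  · change α ∈ fam s0 s1 t R q 5 at hα
    rw [fam5, Finset.mem_image] at hα
    obtain ⟨b, hb, rfl⟩ := hα
    rw [mem_Mid] at hb
    obtain ⟨hb0, hb1, hbt, hbR⟩ := hb
    show code s0 s1 t R _ = ((0 : ℤ), (0 : ℤ), (1 : ℤ), (0 : ℤ))
    rw [code_pos_none _ _ (dvR_none hRt hbR)]
    · simp only [dv_apply, h01, h0t, h1t, e1, e2, e3, hb0, hb1, hbt, Ne.symm hb0, Ne.symm hb1,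
        Ne.symm hbt, ↓reduceIte]
      norm_num
    · simp only [dv_apply, h01, h0t, h1t, e1, e2, e3, hb0, hb1, hbt, Ne.symm hb0, Ne.symm hb1,
        Ne.symm hbt, ↓reduceIte]
      norm_num
  · change α ∈ fam s0 s1 t R q 6 at hα
    rw [fam6, Finset.mem_image] at hα
    obtain ⟨⟨a, b⟩, hab, rfl⟩ := hα
    rw [Finset.mem_product, mem_Mid, mem_Rset] at hab
    obtain ⟨⟨ha0, ha1, hat, haR⟩, hb⟩ := hab
    have hb0 : b ≠ s0 := fun e => hR0 (e ▸ hb)
    have hb1 : b ≠ s1 := fun e => hR1 (e ▸ hb)
    have hbt : b ≠ t := fun e => hRt (e ▸ hb)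
    have hab' : a ≠ b := fun e => haR (e ▸ hb)
    show code s0 s1 t R (dv b a) = ((0 : ℤ), (0 : ℤ), (0 : ℤ), (1 : ℤ))
    rw [code_pos_some _ _ (dvR_left hb hab')]
    · simp only [dv_apply, h01, h0t, h1t, e1, e2, e3, hb0, hb1, hbt, ha0, ha1, hat, ↓reduceIte]
      norm_num
    · simp only [dv_apply, h01, h0t, h1t, e1, e2, e3, hb0, hb1, hbt, ha0, ha1, hat, ↓reduceIte]
      norm_num
  · change α ∈ fam s0 s1 t R q 7 at hα
    rw [fam7, Finset.mem_image] at hα
    obtain ⟨b, hb, rfl⟩ := hα
    rw [mem_Rset] at hb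
    have hb0 : b ≠ s0 := fun e => hR0 (e ▸ hb)
    have hb1 : b ≠ s1 := fun e => hR1 (e ▸ hb)
    have hbt : b ≠ t := fun e => hRt (e ▸ hb)
    show code s0 s1 t R _ = ((0 : ℤ), (0 : ℤ), (1 : ℤ), (1 : ℤ))
    rw [code_pos_some _ _ (dvR_right hb hbt)]
    · simp only [dv_apply, h01, h0t, h1t, e1, e2, e3, hb0, hb1, hbt, ↓reduceIte]
      norm_num
    · simp only [dv_apply, h01, h0t, h1t, e1, e2, e3, hb0, hb1, hbt, ↓reduceIte]
      norm_num
  · change α ∈ fam s0 s1 t R q 8 at hα
    rw [fam8, Finset.mem_image] at hα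
    obtain ⟨j, hj, rfl⟩ := hα
    rw [Finset.mem_insert, mem_Mid] at hj
    have hj0 : j ≠ s0 := by
      rcases hj with h | h
      · rw [h]; exact e1
      · exact h.1
    show code s0 s1 t R _ = ((1 : ℤ), (-1 : ℤ), (0 : ℤ), (0 : ℤ))
    rw [code_neg]
    · rw [aF_apply, if_pos rfl, if_neg e2, if_neg e1, if_neg hj0]
      norm_num
    · rw [aF_apply, if_neg h01, if_neg e3, if_pos rfl]
      split_ifs <;> omega

lemma aF_inj {j j' : Fin (n + 1)} (h : aF s0 s1 t q j = aF s0 s1 t q j') : j = j' := by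
  have h1 := congrFun h j
  rw [aF_apply, aF_apply, if_pos rfl] at h1
  by_contra hne
  rw [if_neg (Ne.symm hne)] at h1
  omega

include h01 h0t h1t hR0 hR1 hRt hq in
theorem main_abs (hmid : ∃ l, IsMid s0 s1 t R l) (hRne : ∃ b, R b)
    (hcase : (∀ i, ∃ w, R w ∧ w ≠ i) ∨ 3 ≤ q) :
    Module.finrank k ↥(⨆ α : {α : Fin (n + 1) → ℤ // ∑ i, α i = 0},
      tPiece (J k s0 s1 t R q) α.1) =
      Nat.choose (n + q - 1) q + 5 + 4 * (Mid s0 s1 t R).card + 3 * (Rset R).card +
        (Mid s0 s1 t R).card * (Rset R).card := by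
  classical
  have e1 := h01.symm
  have e2 := h0t.symm
  have e3 := h1t.symm
  set L := (Finset.univ : Finset (Fin 9)).biUnion (fam s0 s1 t R q) with hL
  have hmemL : ∀ (j : Fin 9) α, α ∈ fam s0 s1 t R q j → α ∈ L := by
    intro j α h
    rw [hL, Finset.mem_biUnion]
    exact ⟨j, Finset.mem_univ _, h⟩
  have hdvmem : dv t s1 ∈ F4set s0 s1 q := by
    rw [mem_F4set h01]
    exact ⟨sum_dv _ _, inF4_dv h01 hq t e2 e3⟩
  have hdvRmem : ∀ b, R b → dv b s1 ∈ F4set s0 s1 q := by
    intro b hb
    rw [mem_F4set h01]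
    exact ⟨sum_dv _ _, inF4_dv h01 hq b (fun e => hR0 (e ▸ hb)) (fun e => hR1 (e ▸ hb))⟩
  rw [finrank_hom0' (hI k s0 s1 t R q) (hG k s0 s1 t R q) L]
  · rw [hL, Finset.sum_biUnion]
    · rw [sum_univ_nine']
      have S0 : ∑ α ∈ fam s0 s1 t R q 0, Module.finrank k ↥(tPiece (J k s0 s1 t R q) α) = 2 := by
        rw [fam0, Finset.sum_singleton]
        exact finrank_A1 h01 h0t h1t hR0 hR1 hRt hq hRne
      have S1 : ∑ α ∈ fam s0 s1 t R q 1, Module.finrank k ↥(tPiece (J k s0 s1 t R q) α) = 1 := by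
        rw [fam1, Finset.sum_singleton]
        exact finrank_A2 h01 h0t h1t hR0 hR1 hRt hq hRne
      have S2 : ∑ α ∈ fam s0 s1 t R q 2, Module.finrank k ↥(tPiece (J k s0 s1 t R q) α) =
          (Mid s0 s1 t R).card := by
        rw [fam2, Finset.sum_image]
        · rw [Finset.card_eq_sum_ones]
          apply Finset.sum_congr rfl
          intro b hb
          rw [mem_Mid] at hb
          exact finrank_A3 h01 h0t h1t hR0 hR1 hRt hq hb
        · intro b hb b' hb' h
          rw [Finset.mem_coe, mem_Mid] at hb hb'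
          exact (dv_inj (Ne.symm hb.1) (Ne.symm hb'.1) h).2
      have S3 : ∑ α ∈ fam s0 s1 t R q 3, Module.finrank k ↥(tPiece (J k s0 s1 t R q) α) =
          (Rset R).card := by
        rw [fam3, Finset.sum_image]
        · rw [Finset.card_eq_sum_ones]
          apply Finset.sum_congr rfl
          intro b hb
          rw [mem_Rset] at hb
          exact finrank_A4 h01 h0t h1t hR0 hR1 hRt hq hb
        · intro b hb b' hb' h
          rw [Finset.mem_coe, mem_Rset] at hb hb'
          have hb0 : s0 ≠ b := fun e => hR0 (e ▸ hb)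
          have hb0' : s0 ≠ b' := fun e => hR0 (e ▸ hb')
          exact (dv_inj hb0 hb0' h).2
      have S4 : ∑ α ∈ fam s0 s1 t R q 4, Module.finrank k ↥(tPiece (J k s0 s1 t R q) α) =
          (F4set s0 s1 q).card + 2 + (Rset R).card := by
        rw [fam4]
        set S : Finset (Fin (n + 1) → ℤ) :=
          insert (dv t s1) ((Rset R).image (fun b => dv b s1)) with hS
        have hSsub : S ⊆ F4set s0 s1 q := by
          intro α hα
          rw [hS, Finset.mem_insert, Finset.mem_image] at hα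
          rcases hα with rfl | ⟨b, hb, rfl⟩
          · exact hdvmem
          · exact hdvRmem b ((mem_Rset b).mp hb)
        have hnotin : dv t s1 ∉ (Rset R).image (fun b => dv b s1) := by
          rw [Finset.mem_image]
          rintro ⟨b, hb, h⟩
          rw [mem_Rset] at hb
          have hb1 : s1 ≠ b := fun e => hR1 (e ▸ hb)
          have := (dv_inj hb1 h1t h).2
          exact hRt (this ▸ hb)
        have hinj : Set.InjOn (fun b => dv b s1) (Rset R : Set (Fin (n + 1))) := by
          intro b hb b' hb' h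
          rw [Finset.mem_coe, mem_Rset] at hb hb'
          have hb1 : s1 ≠ b := fun e => hR1 (e ▸ hb)
          have hb1' : s1 ≠ b' := fun e => hR1 (e ▸ hb')
          exact (dv_inj hb1 hb1' h).2
        have hScard : S.card = 1 + (Rset R).card := by
          rw [hS, Finset.card_insert_of_notMem hnotin, Finset.card_image_of_injOn hinj, add_comm]
        have hSsum : ∑ α ∈ S, Module.finrank k ↥(tPiece (J k s0 s1 t R q) α) =
            3 + 2 * (Rset R).card := by
          rw [hS, Finset.sum_insert hnotin, finrank_B1 h01 h0t h1t hR0 hR1 hRt hq hmid,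
            Finset.sum_image hinj]
          rw [Finset.sum_congr rfl (fun b hb =>
            finrank_B2 h01 h0t h1t hR0 hR1 hRt hq ((mem_Rset b).mp hb) hmid)]
          rw [Finset.sum_const, smul_eq_mul, mul_comm]
        have hrest : ∑ α ∈ F4set s0 s1 q \ S, Module.finrank k ↥(tPiece (J k s0 s1 t R q) α) =
            (F4set s0 s1 q \ S).card := by
          rw [Finset.card_eq_sum_ones]
          apply Finset.sum_congr rfl
          intro α hα
          rw [Finset.mem_sdiff, mem_F4set h01] at hα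
          obtain ⟨⟨hsum, hF⟩, hnS⟩ := hα
          apply finrank_F4gen h01 h0t h1t hR0 hR1 hRt hq α hF hsum ?_ ?_ hmid
          · intro h
            apply hnS
            rw [hS, h]
            exact Finset.mem_insert_self _ _
          · intro b hb h
            apply hnS
            rw [hS, h]
            exact Finset.mem_insert_of_mem (Finset.mem_image_of_mem _ ((mem_Rset b).mpr hb))
        rw [← Finset.sum_sdiff hSsub, hrest, hSsum, Finset.card_sdiff_of_subset hSsub, hScard]
        have := Finset.card_le_card hSsub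
        rw [hScard] at this
        omega
      have S5 : ∑ α ∈ fam s0 s1 t R q 5, Module.finrank k ↥(tPiece (J k s0 s1 t R q) α) =
          2 * (Mid s0 s1 t R).card := by
        rw [fam5, Finset.sum_image]
        · rw [Finset.sum_congr rfl (fun a ha =>
            finrank_C1 h01 h0t h1t hR0 hR1 hRt hq ((mem_Mid a).mp ha))]
          rw [Finset.sum_const, smul_eq_mul, mul_comm]
        · intro b hb b' hb' h
          rw [Finset.mem_coe, mem_Mid] at hb hb'
          exact (dv_inj hb.2.2.1 hb'.2.2.1 h).1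
      have S6 : ∑ α ∈ fam s0 s1 t R q 6, Module.finrank k ↥(tPiece (J k s0 s1 t R q) α) =
          (Mid s0 s1 t R).card * (Rset R).card := by
        rw [fam6, Finset.sum_image]
        · rw [← Finset.card_product, Finset.card_eq_sum_ones]
          apply Finset.sum_congr rfl
          rintro ⟨a, b⟩ hab
          rw [Finset.mem_product, mem_Mid, mem_Rset] at hab
          exact finrank_C2 h01 h0t h1t hR0 hR1 hRt hq hab.1 hab.2
        · rintro ⟨a, b⟩ hab ⟨a', b'⟩ hab' h
          rw [Finset.mem_coe, Finset.mem_product, mem_Mid, mem_Rset] at hab hab'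
          have hne : a ≠ b := fun e => hab.1.2.2.2 (e ▸ hab.2)
          have hne' : a' ≠ b' := fun e => hab'.1.2.2.2 (e ▸ hab'.2)
          obtain ⟨h1, h2⟩ := dv_inj hne hne' h
          rw [h1, h2]
      have S7 : ∑ α ∈ fam s0 s1 t R q 7, Module.finrank k ↥(tPiece (J k s0 s1 t R q) α) =
          (Rset R).card := by
        rw [fam7, Finset.sum_image]
        · rw [Finset.card_eq_sum_ones]
          apply Finset.sum_congr rfl
          intro b hb
          rw [mem_Rset] at hb
          exact finrank_D h01 h0t h1t hR0 hR1 hRt hq hb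
        · intro b hb b' hb' h
          rw [Finset.mem_coe, mem_Rset] at hb hb'
          have hbt : b ≠ t := fun e => hRt (e ▸ hb)
          have hbt' : b' ≠ t := fun e => hRt (e ▸ hb')
          exact (dv_inj hbt hbt' h).1
      have S8 : ∑ α ∈ fam s0 s1 t R q 8, Module.finrank k ↥(tPiece (J k s0 s1 t R q) α) =
          (Mid s0 s1 t R).card + 1 := by
        rw [fam8, Finset.sum_image (fun j _ j' _ h => aF_inj h)]
        have hone : ∀ j ∈ insert s1 (Mid s0 s1 t R),
            Module.finrank k ↥(tPiece (J k s0 s1 t R q) (aF s0 s1 t q j)) = 1 := by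
          intro j hj
          rw [Finset.mem_insert, mem_Mid] at hj
          rcases hj with hj | hj
          · rw [hj]
            exact finrank_F1 h01 h0t h1t hR0 hR1 hRt hq
          · exact finrank_F2 h01 h0t h1t hR0 hR1 hRt hq hj
        rw [Finset.sum_congr rfl hone, ← Finset.card_eq_sum_ones, Finset.card_insert_of_notMem]
        rw [mem_Mid]
        exact fun h => h.2.1 rfl
      rw [S0, S1, S2, S3, S4, S5, S6, S7, S8, card_F4set h01]
      have hpos : 1 ≤ (F4set s0 s1 q).card := Finset.card_pos.mpr ⟨_, hdvmem⟩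
      rw [card_F4set h01] at hpos
      omega
    · intro i _ j _ hij
      rw [Function.onFun, Finset.disjoint_left]
      intro α h1 h2
      apply hij
      apply codeVal_inj
      rw [← code_fam h01 h0t h1t hR0 hR1 hRt hq i α h1, ← code_fam h01 h0t h1t hR0 hR1 hRt hq j α h2]
  · intro α hα
    rw [hL, Finset.mem_biUnion] at hα
    obtain ⟨j, -, hj⟩ := hα
    fin_cases j
    · change α ∈ fam s0 s1 t R q 0 at hj
      rw [fam0, Finset.mem_singleton] at hj
      subst hj; exact sum_dv _ _
    · change α ∈ fam s0 s1 t R q 1 at hj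
      rw [fam1, Finset.mem_singleton] at hj
      subst hj; exact sum_dv _ _
    · change α ∈ fam s0 s1 t R q 2 at hj
      rw [fam2, Finset.mem_image] at hj
      obtain ⟨b, -, rfl⟩ := hj; exact sum_dv _ _
    · change α ∈ fam s0 s1 t R q 3 at hj
      rw [fam3, Finset.mem_image] at hj
      obtain ⟨b, -, rfl⟩ := hj; exact sum_dv _ _
    · change α ∈ fam s0 s1 t R q 4 at hj
      rw [fam4, mem_F4set h01] at hj
      exact hj.1
    · change α ∈ fam s0 s1 t R q 5 at hj
      rw [fam5, Finset.mem_image] at hj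
      obtain ⟨b, -, rfl⟩ := hj; exact sum_dv _ _
    · change α ∈ fam s0 s1 t R q 6 at hj
      rw [fam6, Finset.mem_image] at hj
      obtain ⟨b, -, rfl⟩ := hj; exact sum_dv _ _
    · change α ∈ fam s0 s1 t R q 7 at hj
      rw [fam7, Finset.mem_image] at hj
      obtain ⟨b, -, rfl⟩ := hj; exact sum_dv _ _
    · change α ∈ fam s0 s1 t R q 8 at hj
      rw [fam8, Finset.mem_image] at hj
      obtain ⟨b, -, rfl⟩ := hj; exact sum_aF _
  · intro α hα hnotin
    apply tPiece_eq_bot h01 h0t h1t hR0 hR1 hRt hq α _ _ _ _ _ _ _ _ _ hmid hRne hcase hα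
    · intro h
      exact hnotin (hmemL 0 α (by rw [fam0, h]; exact Finset.mem_singleton_self _))
    · intro h
      exact hnotin (hmemL 1 α (by rw [fam1, h]; exact Finset.mem_singleton_self _))
    · intro b hb h
      refine hnotin (hmemL 2 α ?_)
      rw [fam2, h]
      exact Finset.mem_image_of_mem _ ((mem_Mid b).mpr hb)
    · intro b hb h
      refine hnotin (hmemL 3 α ?_)
      rw [fam3, h]
      exact Finset.mem_image_of_mem _ ((mem_Rset b).mpr hb)
    · intro h
      refine hnotin (hmemL 4 α ?_)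
      rw [fam4, mem_F4set h01]
      exact ⟨hα, h⟩
    · intro a ha h
      refine hnotin (hmemL 5 α ?_)
      rw [fam5, h]
      exact Finset.mem_image_of_mem _ ((mem_Mid a).mpr ha)
    · intro a b ha hb h
      refine hnotin (hmemL 6 α ?_)
      rw [fam6, h]
      exact Finset.mem_image_of_mem (fun x : Fin (n + 1) × Fin (n + 1) => dv x.2 x.1)
        (show (a, b) ∈ _ from Finset.mem_product.mpr ⟨(mem_Mid a).mpr ha, (mem_Rset b).mpr hb⟩)
    · intro b hb h
      refine hnotin (hmemL 7 α ?_)
      rw [fam7, h]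
      exact Finset.mem_image_of_mem _ ((mem_Rset b).mpr hb)
    · intro j hj h
      refine hnotin (hmemL 8 α ?_)
      rw [fam8, h]
      apply Finset.mem_image_of_mem
      rw [Finset.mem_insert, mem_Mid]
      exact hj

end Groth.Agent.S13447
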