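import Groth.Agent.Lib.Seat60S13449e

/-! Seat60: the ideal `x_{s0}·(x_l : l ≠ t) + x_{s1}·(x_l : l ≠ s0, r, t)` (abstract distinct indices
`s0, s1, r, t`): generators, membership in coordinates. -/

set_option autoImplicit false
set_option linter.unusedVariables false
set_option linter.unusedSectionVars false
set_option linter.unusedSimpArgs false
universe u
open W4c1hilbpn MvPolynomial
open Groth.Agent.Lib.Seat60.Hom0
open Groth.Agent.S13449 (dv dq pair_le)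

namespace Groth.Agent.S13448

section abstract

variable {k : Type u} [Field k] {n : ℕ} (s0 s1 r t : Fin (n + 1))

/-- index type of the generators -/
abbrev Idx : Type := {p : Fin (n + 1) × Fin (n + 1) //
  (p.1 = s0 ∧ p.2 ≠ t) ∨ (p.1 = s1 ∧ p.2 ≠ s0 ∧ p.2 ≠ r ∧ p.2 ≠ t)}

variable {s0 s1 r t}

/-- exponent vector of `x_a x_i` -/
noncomputable def G (p : Idx s0 s1 r t) : Fin (n + 1) →₀ ℕ :=
  Finsupp.single p.1.1 1 + Finsupp.single p.1.2 1

lemma G_apply (p : Idx s0 s1 r t) (l : Fin (n + 1)) :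
    G p l = (if p.1.1 = l then 1 else 0) + (if p.1.2 = l then 1 else 0) := by
  unfold G
  rw [Finsupp.add_apply, Finsupp.single_apply, Finsupp.single_apply]

lemma GZ (p : Idx s0 s1 r t) (l : Fin (n + 1)) :
    (G p l : ℤ) = (if p.1.1 = l then 1 else 0) + (if p.1.2 = l then 1 else 0) := by
  rw [G_apply]
  push_cast
  rfl

variable (k s0 s1 r t)

/-- the ideal -/
noncomputable def J : Ideal (MvPolynomial (Fin (n + 1)) k) :=
  Ideal.span {f : MvPolynomial (Fin (n + 1)) k | ∃ a i : Fin (n + 1),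
    ((a = s0 ∧ i ≠ t) ∨ (a = s1 ∧ i ≠ s0 ∧ i ≠ r ∧ i ≠ t)) ∧
        f = MvPolynomial.X a * MvPolynomial.X i}

lemma J_eq : J k s0 s1 r t = monIdeal (G (s0 := s0) (s1 := s1) (r := r) (t := t)) k := by
  unfold J monIdeal
  congr 1
  ext f
  constructor
  · rintro ⟨i, j, hij, rfl⟩
    refine ⟨⟨(i, j), hij⟩, ?_⟩
    show monomial (G _) (1 : k) = _
    unfold G
    rw [X, X, monomial_mul, one_mul]
  · rintro ⟨⟨⟨i, j⟩, hij⟩, rfl⟩
    refine ⟨i, j, hij, ?_⟩
    show monomial (G _) (1 : k) = _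
    unfold G
    rw [X, X, monomial_mul, one_mul]

lemma hI : IsMonomial (J k s0 s1 r t) := by
  rw [J_eq]
  exact isMonomial_monIdeal _

lemma hG (β : Fin (n + 1) →₀ ℕ) :
    β ∈ exps (J k s0 s1 r t) ↔ ∃ p : Idx s0 s1 r t, G p ≤ β := by
  rw [J_eq]
  exact mem_exps_monIdeal _ β

variable {k s0 s1 r t}

/-- `l` is a middle index -/
def IsMid (s0 s1 r t l : Fin (n + 1)) : Prop := l ≠ s0 ∧ l ≠ s1 ∧ l ≠ r ∧ l ≠ t

/-- membership of a nonnegative integer vector in the exponent set, in coordinates -/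
def inI (s0 s1 r t : Fin (n + 1)) (m : Fin (n + 1) → ℤ) : Prop :=
  2 ≤ m s0 + m s1 ∨ (1 ≤ m s0 ∧ 1 ≤ m r) ∨
    (1 ≤ m s0 + m s1 ∧ ∃ l, IsMid s0 s1 r t l ∧ 1 ≤ m l)

lemma not_inI_iff (m : Fin (n + 1) → ℤ) : ¬ inI s0 s1 r t m ↔
    m s0 + m s1 ≤ 1 ∧ ¬ (1 ≤ m s0 ∧ 1 ≤ m r) ∧
      (1 ≤ m s0 + m s1 → ∀ l, IsMid s0 s1 r t l → m l ≤ 0) := by
  unfold inI
  constructor
  · intro h
    push Not at h
    refine ⟨by omega, fun h' => ?_, fun h1 l hl => ?_⟩
    · have := h.2.1 h'.1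
      omega
    · have := h.2.2 h1 l hl
      omega
  · rintro ⟨h1, h2, h3⟩
    rintro (h | h | ⟨h4, l, hl, hl'⟩)
    · omega
    · exact h2 h
    · have := h3 h4 l hl
      omega

variable (h01 : s0 ≠ s1) (h0r : s0 ≠ r) (h0t : s0 ≠ t) (h1r : s1 ≠ r) (h1t : s1 ≠ t) (hrt : r ≠ t)

include h01 h0r h0t h1r h1t hrt in
lemma exists_le_iff (m : Fin (n + 1) → ℤ) (hm : ∀ l, 0 ≤ m l) :
    (∃ p : Idx s0 s1 r t, ∀ l, (G p l : ℤ) ≤ m l) ↔ inI s0 s1 r t m := by
  have e1 := h01.symm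
  have e2 := h0r.symm
  have e3 := h0t.symm
  have e4 := h1r.symm
  have e5 := h1t.symm
  have e6 := hrt.symm
  constructor
  · rintro ⟨⟨⟨a, i⟩, hai⟩, h⟩
    simp only at hai
    have f0 := h s0
    have f1 := h s1
    have f2 := h r
    have f3 := h i
    simp only [GZ] at f0 f1 f2 f3
    rcases hai with ⟨rfl, hit⟩ | ⟨rfl, hi0, hir, hit⟩
    · by_cases hi0 : i = a
      · subst hi0
        left
        simp only [h01, h0r, h0t, e1, e2, e3, ↓reduceIte] at f0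
        have := hm s1
        omega
      by_cases hi1 : i = s1
      · subst hi1
        left
        simp only [h01, h0r, h0t, e1, e2, e3, ↓reduceIte] at f0 f1
        omega
      by_cases hir : i = r
      · subst hir
        right; left
        simp only [h01, h0r, h0t, e1, e2, e3, ↓reduceIte] at f0 f2
        omega
      · right; right
        simp only [h01, h0r, h0t, e1, e2, e3, hi0, hi1, hir, ↓reduceIte] at f0 f3
        have := hm s1
        exact ⟨by omega, i, ⟨hi0, hi1, hir, hit⟩, by omega⟩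
    · by_cases hi1 : i = a
      · subst hi1
        left
        simp only [h01, h1r, h1t, e1, e4, e5, ↓reduceIte] at f1
        have := hm s0
        omega
      · right; right
        simp only [h01, h1r, h1t, e1, e4, e5, hi0, hi1, hir, ↓reduceIte] at f1 f3
        have := hm s0
        exact ⟨by omega, i, ⟨hi0, hi1, hir, hit⟩, by omega⟩
  · have := hm s0
    have := hm s1
    rintro (h | ⟨h, h'⟩ | ⟨h, l, ⟨hl0, hl1, hlr, hlt⟩, hl⟩)
    · by_cases h2 : 2 ≤ m s0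
      · refine ⟨⟨(s0, s0), Or.inl ⟨rfl, h0t⟩⟩, fun l => ?_⟩
        rw [GZ]
        exact pair_le s0 s0 m hm (by rw [if_pos rfl]; exact h2) l
      by_cases h3 : 2 ≤ m s1
      · refine ⟨⟨(s1, s1), Or.inr ⟨rfl, e1, h1r, h1t⟩⟩, fun l => ?_⟩
        rw [GZ]
        exact pair_le s1 s1 m hm (by rw [if_pos rfl]; exact h3) l
      · refine ⟨⟨(s0, s1), Or.inl ⟨rfl, h1t⟩⟩, fun l => ?_⟩
        rw [GZ]
        exact pair_le s0 s1 m hm (by rw [if_neg h01]; constructor <;> omega) l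
    · refine ⟨⟨(s0, r), Or.inl ⟨rfl, hrt⟩⟩, fun l => ?_⟩
      rw [GZ]
      exact pair_le s0 r m hm (by rw [if_neg h0r]; exact ⟨h, h'⟩) l
    · by_cases h2 : 1 ≤ m s0
      · refine ⟨⟨(s0, l), Or.inl ⟨rfl, hlt⟩⟩, fun l' => ?_⟩
        rw [GZ]
        exact pair_le s0 l m hm (by rw [if_neg (Ne.symm hl0)]; exact ⟨h2, hl⟩) l'
      · refine ⟨⟨(s1, l), Or.inr ⟨rfl, hl0, hlr, hlt⟩⟩, fun l' => ?_⟩
        rw [GZ]
        exact pair_le s1 l m hm (by rw [if_neg (Ne.symm hl1)]; exact ⟨by omega, hl⟩) l'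

include h01 h0r h0t h1r h1t hrt in
lemma act_iff' (α : Fin (n + 1) → ℤ) (p : Idx s0 s1 r t) :
    Act G (J k s0 s1 r t) α p ↔ (∀ l, 0 ≤ (G p l : ℤ) + α l) ∧
      ¬ inI s0 s1 r t (fun l => (G p l : ℤ) + α l) := by
  rw [act_iff (hG k s0 s1 r t)]
  constructor
  · rintro ⟨h1, h2⟩
    exact ⟨h1, fun h => h2 ((exists_le_iff h01 h0r h0t h1r h1t hrt _ h1).mpr h)⟩
  · rintro ⟨h1, h2⟩
    exact ⟨h1, fun h => h2 ((exists_le_iff h01 h0r h0t h1r h1t hrt _ h1).mp h)⟩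

include h01 h0r h0t h1r h1t hrt in
lemma conn_iff' (α : Fin (n + 1) → ℤ) (p q : Idx s0 s1 r t) :
    Conn G (J k s0 s1 r t) α p q ↔ (∀ l, 0 ≤ (max (G p l) (G q l) : ℤ) + α l) ∧
      ¬ inI s0 s1 r t (fun l => (max (G p l) (G q l) : ℤ) + α l) := by
  rw [conn_iff (hG k s0 s1 r t)]
  constructor
  · rintro ⟨h1, h2⟩
    exact ⟨h1, fun h => h2 ((exists_le_iff h01 h0r h0t h1r h1t hrt _ h1).mpr h)⟩
  · rintro ⟨h1, h2⟩
    exact ⟨h1, fun h => h2 ((exists_le_iff h01 h0r h0t h1r h1t hrt _ h1).mp h)⟩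

lemma act_iff_conn_self (α : Fin (n + 1) → ℤ) (p : Idx s0 s1 r t) :
    Act G (J k s0 s1 r t) α p ↔ Conn G (J k s0 s1 r t) α p p := by
  unfold Act Conn
  rw [sup_idem]

end abstract

end Groth.Agent.S13448
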