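import Groth.Agent.Lib.Seat60S13448a

/-! Seat60: integer profiles of the generators of the ideal of `Seat60S13448a` and the linking
relation in integer coordinates. -/

set_option autoImplicit false
set_option linter.unusedVariables false
set_option linter.unusedSectionVars false
set_option linter.unusedSimpArgs false
universe u
open W4c1hilbpn MvPolynomial
open Groth.Agent.Lib.Seat60.Hom0
open Groth.Agent.S13449 (dv dq pair_le)

namespace Groth.Agent.S13448

variable {k : Type u} [Field k] {n : ℕ} {s0 s1 r t : Fin (n + 1)}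
variable (h01 : s0 ≠ s1) (h0r : s0 ≠ r) (h0t : s0 ≠ t) (h1r : s1 ≠ r) (h1t : s1 ≠ t) (hrt : r ≠ t)

include h01 h0r h0t h1r h1t hrt in
lemma G_t' (p : Idx s0 s1 r t) : (G p t : ℤ) = 0 := by
  obtain ⟨⟨a, i⟩, hai⟩ := p
  simp only at hai
  rw [GZ]
  simp only
  rcases hai with ⟨rfl, hit⟩ | ⟨rfl, hi0, hir, hit⟩
  · rw [if_neg h0t, if_neg hit]
    norm_num
  · rw [if_neg h1t, if_neg hit]
    norm_num

include h01 h0r h0t h1r h1t hrt in
/-- the profile of a generator: its exponents at `s0`, `s1`, `r` and at a further index `c` -/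
lemma prof {c : Fin (n + 1)} (hc0 : c ≠ s0) (hc1 : c ≠ s1) (hcr : c ≠ r) (p : Idx s0 s1 r t) :
    0 ≤ (G p s0 : ℤ) ∧ 0 ≤ (G p s1 : ℤ) ∧ 0 ≤ (G p r : ℤ) ∧ 0 ≤ (G p c : ℤ) ∧
      1 ≤ (G p s0 : ℤ) + G p s1 ∧ (G p s0 : ℤ) + G p s1 + G p r + G p c ≤ 2 ∧
      (G p r : ℤ) ≤ G p s0 ∧ (c = t → (G p c : ℤ) = 0) := by
  have hct := G_t' h01 h0r h0t h1r h1t hrt p
  obtain ⟨⟨a, i⟩, hai⟩ := p
  simp only at hai
  have e1 := h01.symm
  have e2 := h0r.symm
  have e3 := h0t.symm
  have e4 := h1r.symm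
  have e5 := h1t.symm
  have e6 := hrt.symm
  have e7 := hc0.symm
  have e8 := hc1.symm
  have e9 := hcr.symm
  refine ⟨by positivity, by positivity, by positivity, by positivity, ?_, ?_, ?_, ?_⟩
  · rcases hai with ⟨rfl, hit⟩ | ⟨rfl, hi0, hir, hit⟩
    · simp only [GZ, h01, h0r, h0t, e1, e2, e3, ↓reduceIte]
      split_ifs <;> omega
    · simp only [GZ, h01, h1r, h1t, e1, e4, e5, ↓reduceIte]
      split_ifs <;> omega
  · rcases hai with ⟨rfl, hit⟩ | ⟨rfl, hi0, hir, hit⟩
    · simp only [GZ, h01, h0r, h0t, e1, e2, e3, hc0, hc1, hcr, e7, e8, e9, ↓reduceIte]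
      split_ifs <;> omega
    · simp only [GZ, h01, h1r, h1t, e1, e4, e5, hc0, hc1, hcr, e7, e8, e9, ↓reduceIte]
      split_ifs <;> omega
  · rcases hai with ⟨rfl, hit⟩ | ⟨rfl, hi0, hir, hit⟩
    · simp only [GZ, h01, h0r, h0t, e1, e2, e3, ↓reduceIte]
      split_ifs <;> omega
    · simp only [GZ, h01, h1r, h1t, e1, e4, e5, hi0, hir, ↓reduceIte]
      omega
  · rintro rfl
    exact hct

/-- some middle index other than `c` carries the generator -/
def E (c : Fin (n + 1)) (p : Idx s0 s1 r t) : Prop :=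
  ∃ l, IsMid s0 s1 r t l ∧ l ≠ c ∧ 1 ≤ (G p l : ℤ)

include h01 h0r h0t h1r h1t hrt in
lemma E_iff {c : Fin (n + 1)} (hc0 : c ≠ s0) (hc1 : c ≠ s1) (hcr : c ≠ r) (p : Idx s0 s1 r t) :
    E c p ↔ (G p s0 : ℤ) + G p s1 = 1 ∧ (G p r : ℤ) = 0 ∧ (G p c : ℤ) = 0 := by
  obtain ⟨⟨a, i⟩, hai⟩ := p
  simp only at hai
  have e1 := h01.symm
  have e2 := h0r.symm
  have e3 := h0t.symm
  have e4 := h1r.symm
  have e5 := h1t.symm
  have e6 := hrt.symm
  have e7 := hc0.symm
  have e8 := hc1.symm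
  have e9 := hcr.symm
  have hit : i ≠ t := by
    rcases hai with ⟨_, h⟩ | ⟨_, _, _, h⟩ <;> exact h
  have ha : a = s0 ∨ a = s1 := by
    rcases hai with ⟨h, _⟩ | ⟨h, _⟩
    · exact Or.inl h
    · exact Or.inr h
  unfold E
  constructor
  · rintro ⟨l, ⟨hl0, hl1, hlr, hlt⟩, hlc, hl⟩
    have hal : a ≠ l := by
      rcases ha with rfl | rfl
      · exact Ne.symm hl0
      · exact Ne.symm hl1
    have hil : i = l := by
      by_contra hil
      simp only [GZ, if_neg hal, if_neg hil] at hl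
      omega
    subst hil
    have hci : c ≠ i := Ne.symm hlc
    rcases ha with rfl | rfl
    · simp only [GZ, h01, h0r, h0t, e1, e2, e3, hc0, hc1, hcr, e7, e8, e9, hl0, hl1, hlr, hlc,
        ↓reduceIte]
      omega
    · simp only [GZ, h01, h1r, h1t, e1, e4, e5, hc0, hc1, hcr, e7, e8, e9, hl0, hl1, hlr, hlc,
        ↓reduceIte]
      omega
  · rintro ⟨h1, h2, h3⟩
    refine ⟨i, ⟨?_, ?_, ?_, hit⟩, ?_, ?_⟩
    · rintro rfl
      rcases ha with rfl | rfl
      · simp only [GZ, h01, e1, ↓reduceIte] at h1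
        omega
      · simp only [GZ, h01, e1, ↓reduceIte] at h1
        omega
    · rintro rfl
      rcases ha with rfl | rfl
      · simp only [GZ, h01, e1, ↓reduceIte] at h1
        omega
      · simp only [GZ, h01, e1, ↓reduceIte] at h1
        omega
    · rintro rfl
      simp only [GZ, ↓reduceIte] at h2
      split_ifs at h2 <;> omega
    · rintro rfl
      simp only [GZ, ↓reduceIte] at h3
      split_ifs at h3 <;> omega
    · simp only [GZ, ↓reduceIte]
      split_ifs <;> omega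

include h01 h0r h0t h1r h1t hrt in
/-- the linking relation in coordinates, for a multidegree which on the middle indices is
`-e_c` (`c` a middle index) or zero (`c = t`) -/
lemma conn_minus (α : Fin (n + 1) → ℤ) {c : Fin (n + 1)} (hc0 : c ≠ s0) (hc1 : c ≠ s1)
    (hcr : c ≠ r)
    (hα : ∀ l, IsMid s0 s1 r t l → α l = -(if c = l then 1 else 0)) (p q : Idx s0 s1 r t) :
    Conn G (J k s0 s1 r t) α p q ↔
      0 ≤ max (G p s0 : ℤ) (G q s0) + α s0 ∧ 0 ≤ max (G p s1 : ℤ) (G q s1) + α s1 ∧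
      0 ≤ max (G p r : ℤ) (G q r) + α r ∧ 0 ≤ α t ∧
      (c ≠ t → 1 ≤ max (G p c : ℤ) (G q c)) ∧
      (max (G p s0 : ℤ) (G q s0) + α s0) + (max (G p s1 : ℤ) (G q s1) + α s1) ≤ 1 ∧
      ¬ (1 ≤ max (G p s0 : ℤ) (G q s0) + α s0 ∧ 1 ≤ max (G p r : ℤ) (G q r) + α r) ∧
      (1 ≤ (max (G p s0 : ℤ) (G q s0) + α s0) + (max (G p s1 : ℤ) (G q s1) + α s1) →
        ¬ E c p ∧ ¬ E c q) := by
  rw [conn_iff' h01 h0r h0t h1r h1t hrt, not_inI_iff]
  have hcmid : c ≠ t → IsMid s0 s1 r t c := fun h => ⟨hc0, hc1, hcr, h⟩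
  have P1 := prof h01 h0r h0t h1r h1t hrt hc0 hc1 hcr p
  have P2 := prof h01 h0r h0t h1r h1t hrt hc0 hc1 hcr q
  have Gt1 := G_t' h01 h0r h0t h1r h1t hrt p
  have Gt2 := G_t' h01 h0r h0t h1r h1t hrt q
  constructor
  · rintro ⟨h1, h2, h2', h3⟩
    refine ⟨h1 s0, h1 s1, h1 r, ?_, ?_, h2, h2', ?_⟩
    · have := h1 t
      rw [Gt1, Gt2] at this
      simpa using this
    · intro hct
      have := h1 c
      rw [hα c (hcmid hct), if_pos rfl] at this
      omega
    · intro hS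
      have h4 := h3 hS
      constructor
      · rintro ⟨l, hl, hlc, hl1⟩
        have := h4 l hl
        rw [hα l hl, if_neg (Ne.symm hlc)] at this
        have : (G p l : ℤ) ≤ max (G p l : ℤ) (G q l) := le_max_left _ _
        omega
      · rintro ⟨l, hl, hlc, hl1⟩
        have := h4 l hl
        rw [hα l hl, if_neg (Ne.symm hlc)] at this
        have : (G q l : ℤ) ≤ max (G p l : ℤ) (G q l) := le_max_right _ _
        omega
  · rintro ⟨h1, h2, h2r, h3, h4, h5, h5', h6⟩
    refine ⟨fun l => ?_, h5, h5', fun hS l hl => ?_⟩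
    · by_cases hl0 : l = s0
      · rw [hl0]; exact h1
      by_cases hl1 : l = s1
      · rw [hl1]; exact h2
      by_cases hlr : l = r
      · rw [hlr]; exact h2r
      by_cases hlt : l = t
      · rw [hlt, Gt1, Gt2]
        simpa using h3
      have hl : IsMid s0 s1 r t l := ⟨hl0, hl1, hlr, hlt⟩
      rw [hα l hl]
      by_cases hcl : c = l
      · subst hcl
        rw [if_pos rfl]
        have := h4 hlt
        omega
      · rw [if_neg hcl]
        have : (0 : ℤ) ≤ (G p l : ℤ) := by positivity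
        have : (G p l : ℤ) ≤ max (G p l : ℤ) (G q l) := le_max_left _ _
        omega
    · obtain ⟨h7, h8⟩ := h6 hS
      rw [hα l hl]
      by_cases hcl : c = l
      · subst hcl
        rw [if_pos rfl]
        have : max (G p c : ℤ) (G q c) ≤ 1 := max_le (by omega) (by omega)
        omega
      · rw [if_neg hcl]
        have e1 : (G p l : ℤ) ≤ 0 := by
          by_contra hcon
          exact h7 ⟨l, hl, Ne.symm hcl, by omega⟩
        have e2 : (G q l : ℤ) ≤ 0 := by
          by_contra hcon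
          exact h8 ⟨l, hl, Ne.symm hcl, by omega⟩
        have : max (G p l : ℤ) (G q l) ≤ 0 := max_le e1 e2
        omega

include h01 h0r h0t h1r h1t hrt in
/-- the linking relation in coordinates, for a multidegree which is nonnegative on the middle
indices and positive at one of them -/
lemma conn_plus (α : Fin (n + 1) → ℤ) (hα : ∀ l, IsMid s0 s1 r t l → 0 ≤ α l)
    (hb : ∃ b, IsMid s0 s1 r t b ∧ 1 ≤ α b) (p q : Idx s0 s1 r t) :
    Conn G (J k s0 s1 r t) α p q ↔
      0 ≤ max (G p s0 : ℤ) (G q s0) + α s0 ∧ 0 ≤ max (G p s1 : ℤ) (G q s1) + α s1 ∧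
      0 ≤ max (G p r : ℤ) (G q r) + α r ∧ 0 ≤ α t ∧
      (max (G p s0 : ℤ) (G q s0) + α s0) + (max (G p s1 : ℤ) (G q s1) + α s1) ≤ 0 := by
  rw [conn_iff' h01 h0r h0t h1r h1t hrt, not_inI_iff]
  obtain ⟨b, hbm, hb1⟩ := hb
  have Gt1 := G_t' h01 h0r h0t h1r h1t hrt p
  have Gt2 := G_t' h01 h0r h0t h1r h1t hrt q
  constructor
  · rintro ⟨h1, h2, h2', h3⟩
    refine ⟨h1 s0, h1 s1, h1 r, ?_, ?_⟩
    · have := h1 t
      rw [Gt1, Gt2] at this
      simpa using this
    · by_contra hcon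
      have := h3 (by omega) b hbm
      have : (0 : ℤ) ≤ (G p b : ℤ) := by positivity
      have : (G p b : ℤ) ≤ max (G p b : ℤ) (G q b) := le_max_left _ _
      omega
  · rintro ⟨h1, h2, h2r, h3, h4⟩
    refine ⟨fun l => ?_, by omega, fun h => by omega, fun hS => by omega⟩
    by_cases hl0 : l = s0
    · rw [hl0]; exact h1
    by_cases hl1 : l = s1
    · rw [hl1]; exact h2
    by_cases hlr : l = r
    · rw [hlr]; exact h2r
    by_cases hlt : l = t
    · rw [hlt, Gt1, Gt2]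
      simpa using h3
    have hl : IsMid s0 s1 r t l := ⟨hl0, hl1, hlr, hlt⟩
    have := hα l hl
    have : (0 : ℤ) ≤ (G p l : ℤ) := by positivity
    have : (G p l : ℤ) ≤ max (G p l : ℤ) (G q l) := le_max_left _ _
    omega

end Groth.Agent.S13448
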