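import Groth.Agent.Lib.Seat60S13448b
import Groth.Agent.Lib.Seat60Hom0Key2

/-! Seat60: the nonzero graded pieces of total degree zero of `T(I)` for the ideal of
`Seat60S13448a`, with their dimensions. -/

set_option autoImplicit false
set_option linter.unusedVariables false
set_option linter.unusedSectionVars false
set_option linter.unusedSimpArgs false
set_option linter.unusedTactic false
set_option linter.unreachableTactic false
universe u
open W4c1hilbpn MvPolynomial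
open Groth.Agent.Lib.Seat60.Hom0
open Groth.Agent.S13449 (dv dq pair_le dv_self_right dv_self_left dv_other dq_apply)

namespace Groth.Agent.S13448

variable {k : Type u} [Field k] {n : ℕ} {s0 s1 r t : Fin (n + 1)}
variable (h01 : s0 ≠ s1) (h0r : s0 ≠ r) (h0t : s0 ≠ t) (h1r : s1 ≠ r) (h1t : s1 ≠ t) (hrt : r ≠ t)

/-- the generator `x_{s0} x_r` -/
def hub (hrt : r ≠ t) : Idx s0 s1 r t := ⟨(s0, r), Or.inl ⟨rfl, hrt⟩⟩

include h0r in
lemma G_hub : (G (hub (s0 := s0) (s1 := s1) hrt) s0 : ℤ) = 1 ∧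
    (G (hub (s0 := s0) (s1 := s1) hrt) r : ℤ) = 1 ∧
    ∀ c, c ≠ s0 → c ≠ r → (G (hub (s0 := s0) (s1 := s1) hrt) c : ℤ) = 0 := by
  have e2 := h0r.symm
  refine ⟨?_, ?_, ?_⟩
  · simp only [hub, GZ, h0r, e2, ↓reduceIte]
    norm_num
  · simp only [hub, GZ, h0r, e2, ↓reduceIte]
    norm_num
  · intro c hc0 hcr
    simp only [hub, GZ, Ne.symm hc0, Ne.symm hcr, ↓reduceIte]
    norm_num

lemma dv_apply (b a l : Fin (n + 1)) :
    dv b a l = (if b = l then 1 else 0) - (if a = l then 1 else 0) := rfl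

/-! ### P1: `e_t - e_{s0}` -/

include h01 h0r h0t h1r h1t hrt in
theorem finrank_P1 :
    Module.finrank k ↥(tPiece (J k s0 s1 r t) (dv t s0)) = 2 := by
  classical
  rw [finrank_tPiece_eq_finrank_W (hI k s0 s1 r t) (hG k s0 s1 r t)]
  have e1 := h01.symm
  have e2 := h0r.symm
  have e3 := h0t.symm
  have e4 := h1r.symm
  have e5 := h1t.symm
  have e6 := hrt.symm
  have hα : ∀ l, IsMid s0 s1 r t l → (dv t s0) l = -(if t = l then 1 else 0) := by
    rintro l ⟨hl0, hl1, hlr, hlt⟩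
    simp only [dv_apply, dq_apply, Ne.symm hl0, Ne.symm hl1, Ne.symm hlr, Ne.symm hlt, ↓reduceIte]
    try ring
  have a0 : (dv t s0) s0 = -1 := by
    simp only [dv_apply, dq_apply, h01, h0r, h0t, h1r, h1t, hrt, e1, e2, e3, e4, e5, e6, ↓reduceIte]
    try norm_num
  have a1 : (dv t s0) s1 = 0 := by
    simp only [dv_apply, dq_apply, h01, h0r, h0t, h1r, h1t, hrt, e1, e2, e3, e4, e5, e6, ↓reduceIte]
    try norm_num
  have ar : (dv t s0) r = 0 := by
    simp only [dv_apply, dq_apply, h01, h0r, h0t, h1r, h1t, hrt, e1, e2, e3, e4, e5, e6, ↓reduceIte]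
    try norm_num
  have at' : (dv t s0) t = 1 := by
    simp only [dv_apply, dq_apply, h01, h0r, h0t, h1r, h1t, hrt, e1, e2, e3, e4, e5, e6, ↓reduceIte]
    try norm_num
  have hc0 : t ≠ s0 := e3
  have hc1 : t ≠ s1 := e5
  have hcr : t ≠ r := e6
  obtain ⟨H0, Hr, Hc⟩ := G_hub (s1 := s1) h0r hrt
  have H1 := Hc s1 e1 h1r
  have Ht := Hc t e3 e6
  have key := finrank_W_eq_card_of_key' (k := k) (G := G) (I := J k s0 s1 r t) (α := dv t s0)
    (fun p : Idx s0 s1 r t => (G p s0 : ℤ)) ({(2 : ℤ), (1 : ℤ)} : Finset (ℤ))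
  rw [key]
  · rfl
  · intro p
    have P := prof h01 h0r h0t h1r h1t hrt hc0 hc1 hcr p
    rw [act_iff_conn_self]
    rw [conn_minus h01 h0r h0t h1r h1t hrt _ hc0 hc1 hcr hα, E_iff h01 h0r h0t h1r h1t hrt hc0 hc1 hcr, a0, a1, ar, at']
    simp only [max_self, Finset.mem_insert, Finset.mem_singleton, Prod.mk.injEq]
    omega
  · intro p q
    have P := prof h01 h0r h0t h1r h1t hrt hc0 hc1 hcr p
    have Q := prof h01 h0r h0t h1r h1t hrt hc0 hc1 hcr q
    rw [conn_minus h01 h0r h0t h1r h1t hrt _ hc0 hc1 hcr hα, E_iff h01 h0r h0t h1r h1t hrt hc0 hc1 hcr, E_iff h01 h0r h0t h1r h1t hrt hc0 hc1 hcr, a0, a1, ar, at']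
    try simp only [Finset.mem_insert, Finset.mem_singleton, Prod.mk.injEq]
    omega
  · intro x hx
    simp only [Finset.mem_insert, Finset.mem_singleton] at hx
    rcases hx with rfl | rfl
    · refine ⟨⟨(s0, s0), Or.inl ⟨rfl, h0t⟩⟩, ?_⟩
      simp only [GZ, h01, h0r, h0t, h1r, h1t, hrt, e1, e2, e3, e4, e5, e6, ↓reduceIte, Prod.mk.injEq]
      try norm_num
    · refine ⟨hub hrt, ?_⟩
      try simp only [Prod.mk.injEq]
      omega
  · intro c hc p q hp hpq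
    have P := prof h01 h0r h0t h1r h1t hrt hc0 hc1 hcr p
    have Q := prof h01 h0r h0t h1r h1t hrt hc0 hc1 hcr q
    simp only [Finset.mem_insert, Finset.mem_singleton, Prod.mk.injEq] at hp hpq
    rcases hp with hp | hp
    · apply hc.2
      rw [conn_minus h01 h0r h0t h1r h1t hrt _ hc0 hc1 hcr hα, E_iff h01 h0r h0t h1r h1t hrt hc0 hc1 hcr, E_iff h01 h0r h0t h1r h1t hrt hc0 hc1 hcr, a0, a1, ar, at']
      omega
    · have h1 : c p = c (hub hrt) := by
        apply hc.2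
        rw [conn_minus h01 h0r h0t h1r h1t hrt _ hc0 hc1 hcr hα, E_iff h01 h0r h0t h1r h1t hrt hc0 hc1 hcr, E_iff h01 h0r h0t h1r h1t hrt hc0 hc1 hcr, a0, a1, ar, at']
        omega
      have h2 : c q = c (hub hrt) := by
        apply hc.2
        rw [conn_minus h01 h0r h0t h1r h1t hrt _ hc0 hc1 hcr hα, E_iff h01 h0r h0t h1r h1t hrt hc0 hc1 hcr, E_iff h01 h0r h0t h1r h1t hrt hc0 hc1 hcr, a0, a1, ar, at']
        omega
      rw [h1, h2]

/-! ### P2a: `e_{s1} - e_{s0}` -/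

include h01 h0r h0t h1r h1t hrt in
theorem finrank_P2a :
    Module.finrank k ↥(tPiece (J k s0 s1 r t) (dv s1 s0)) = 1 := by
  classical
  rw [finrank_tPiece_eq_finrank_W (hI k s0 s1 r t) (hG k s0 s1 r t)]
  have e1 := h01.symm
  have e2 := h0r.symm
  have e3 := h0t.symm
  have e4 := h1r.symm
  have e5 := h1t.symm
  have e6 := hrt.symm
  have hα : ∀ l, IsMid s0 s1 r t l → (dv s1 s0) l = -(if t = l then 1 else 0) := by
    rintro l ⟨hl0, hl1, hlr, hlt⟩
    simp only [dv_apply, dq_apply, Ne.symm hl0, Ne.symm hl1, Ne.symm hlr, Ne.symm hlt, ↓reduceIte]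
    try ring
  have a0 : (dv s1 s0) s0 = -1 := by
    simp only [dv_apply, dq_apply, h01, h0r, h0t, h1r, h1t, hrt, e1, e2, e3, e4, e5, e6, ↓reduceIte]
    try norm_num
  have a1 : (dv s1 s0) s1 = 1 := by
    simp only [dv_apply, dq_apply, h01, h0r, h0t, h1r, h1t, hrt, e1, e2, e3, e4, e5, e6, ↓reduceIte]
    try norm_num
  have ar : (dv s1 s0) r = 0 := by
    simp only [dv_apply, dq_apply, h01, h0r, h0t, h1r, h1t, hrt, e1, e2, e3, e4, e5, e6, ↓reduceIte]
    try norm_num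
  have at' : (dv s1 s0) t = 0 := by
    simp only [dv_apply, dq_apply, h01, h0r, h0t, h1r, h1t, hrt, e1, e2, e3, e4, e5, e6, ↓reduceIte]
    try norm_num
  have hc0 : t ≠ s0 := e3
  have hc1 : t ≠ s1 := e5
  have hcr : t ≠ r := e6
  obtain ⟨H0, Hr, Hc⟩ := G_hub (s1 := s1) h0r hrt
  have H1 := Hc s1 e1 h1r
  have Ht := Hc t e3 e6
  have key := finrank_W_eq_card_of_key' (k := k) (G := G) (I := J k s0 s1 r t) (α := dv s1 s0)
    (fun p : Idx s0 s1 r t => ((G p s0 : ℤ), (G p r : ℤ))) ({((1 : ℤ), (1 : ℤ))} : Finset (ℤ × ℤ))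
  rw [key]
  · rfl
  · intro p
    have P := prof h01 h0r h0t h1r h1t hrt hc0 hc1 hcr p
    rw [act_iff_conn_self]
    rw [conn_minus h01 h0r h0t h1r h1t hrt _ hc0 hc1 hcr hα, E_iff h01 h0r h0t h1r h1t hrt hc0 hc1 hcr, a0, a1, ar, at']
    simp only [max_self, Finset.mem_insert, Finset.mem_singleton, Prod.mk.injEq]
    omega
  · intro p q
    have P := prof h01 h0r h0t h1r h1t hrt hc0 hc1 hcr p
    have Q := prof h01 h0r h0t h1r h1t hrt hc0 hc1 hcr q
    rw [conn_minus h01 h0r h0t h1r h1t hrt _ hc0 hc1 hcr hα, E_iff h01 h0r h0t h1r h1t hrt hc0 hc1 hcr, E_iff h01 h0r h0t h1r h1t hrt hc0 hc1 hcr, a0, a1, ar, at']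
    try simp only [Finset.mem_insert, Finset.mem_singleton, Prod.mk.injEq]
    omega
  · intro x hx
    simp only [Finset.mem_insert, Finset.mem_singleton] at hx
    subst hx
    · refine ⟨hub hrt, ?_⟩
      try simp only [Prod.mk.injEq]
      omega
  · intro c hc p q hp hpq
    have P := prof h01 h0r h0t h1r h1t hrt hc0 hc1 hcr p
    have Q := prof h01 h0r h0t h1r h1t hrt hc0 hc1 hcr q
    simp only [Finset.mem_insert, Finset.mem_singleton, Prod.mk.injEq] at hp hpq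
    apply hc.2
    rw [conn_minus h01 h0r h0t h1r h1t hrt _ hc0 hc1 hcr hα, E_iff h01 h0r h0t h1r h1t hrt hc0 hc1 hcr, E_iff h01 h0r h0t h1r h1t hrt hc0 hc1 hcr, a0, a1, ar, at']
    omega

/-! ### P2b: `e_r - e_{s0}` -/

include h01 h0r h0t h1r h1t hrt in
theorem finrank_P2b :
    Module.finrank k ↥(tPiece (J k s0 s1 r t) (dv r s0)) = 1 := by
  classical
  rw [finrank_tPiece_eq_finrank_W (hI k s0 s1 r t) (hG k s0 s1 r t)]
  have e1 := h01.symm
  have e2 := h0r.symm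
  have e3 := h0t.symm
  have e4 := h1r.symm
  have e5 := h1t.symm
  have e6 := hrt.symm
  have hα : ∀ l, IsMid s0 s1 r t l → (dv r s0) l = -(if t = l then 1 else 0) := by
    rintro l ⟨hl0, hl1, hlr, hlt⟩
    simp only [dv_apply, dq_apply, Ne.symm hl0, Ne.symm hl1, Ne.symm hlr, Ne.symm hlt, ↓reduceIte]
    try ring
  have a0 : (dv r s0) s0 = -1 := by
    simp only [dv_apply, dq_apply, h01, h0r, h0t, h1r, h1t, hrt, e1, e2, e3, e4, e5, e6, ↓reduceIte]
    try norm_num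
  have a1 : (dv r s0) s1 = 0 := by
    simp only [dv_apply, dq_apply, h01, h0r, h0t, h1r, h1t, hrt, e1, e2, e3, e4, e5, e6, ↓reduceIte]
    try norm_num
  have ar : (dv r s0) r = 1 := by
    simp only [dv_apply, dq_apply, h01, h0r, h0t, h1r, h1t, hrt, e1, e2, e3, e4, e5, e6, ↓reduceIte]
    try norm_num
  have at' : (dv r s0) t = 0 := by
    simp only [dv_apply, dq_apply, h01, h0r, h0t, h1r, h1t, hrt, e1, e2, e3, e4, e5, e6, ↓reduceIte]
    try norm_num
  have hc0 : t ≠ s0 := e3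
  have hc1 : t ≠ s1 := e5
  have hcr : t ≠ r := e6
  obtain ⟨H0, Hr, Hc⟩ := G_hub (s1 := s1) h0r hrt
  have H1 := Hc s1 e1 h1r
  have Ht := Hc t e3 e6
  have key := finrank_W_eq_card_of_key' (k := k) (G := G) (I := J k s0 s1 r t) (α := dv r s0)
    (fun p : Idx s0 s1 r t => (G p s0 : ℤ)) ({(1 : ℤ)} : Finset (ℤ))
  rw [key]
  · rfl
  · intro p
    have P := prof h01 h0r h0t h1r h1t hrt hc0 hc1 hcr p
    rw [act_iff_conn_self]
    rw [conn_minus h01 h0r h0t h1r h1t hrt _ hc0 hc1 hcr hα, E_iff h01 h0r h0t h1r h1t hrt hc0 hc1 hcr, a0, a1, ar, at']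
    simp only [max_self, Finset.mem_insert, Finset.mem_singleton, Prod.mk.injEq]
    omega
  · intro p q
    have P := prof h01 h0r h0t h1r h1t hrt hc0 hc1 hcr p
    have Q := prof h01 h0r h0t h1r h1t hrt hc0 hc1 hcr q
    rw [conn_minus h01 h0r h0t h1r h1t hrt _ hc0 hc1 hcr hα, E_iff h01 h0r h0t h1r h1t hrt hc0 hc1 hcr, E_iff h01 h0r h0t h1r h1t hrt hc0 hc1 hcr, a0, a1, ar, at']
    try simp only [Finset.mem_insert, Finset.mem_singleton, Prod.mk.injEq]
    omega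
  · intro x hx
    simp only [Finset.mem_insert, Finset.mem_singleton] at hx
    subst hx
    · refine ⟨hub hrt, ?_⟩
      try simp only [Prod.mk.injEq]
      omega
  · intro c hc p q hp hpq
    have P := prof h01 h0r h0t h1r h1t hrt hc0 hc1 hcr p
    have Q := prof h01 h0r h0t h1r h1t hrt hc0 hc1 hcr q
    simp only [Finset.mem_insert, Finset.mem_singleton, Prod.mk.injEq] at hp hpq
    have h1 : c p = c (hub hrt) := by
      apply hc.2
      rw [conn_minus h01 h0r h0t h1r h1t hrt _ hc0 hc1 hcr hα, E_iff h01 h0r h0t h1r h1t hrt hc0 hc1 hcr, E_iff h01 h0r h0t h1r h1t hrt hc0 hc1 hcr, a0, a1, ar, at']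
      omega
    have h2 : c q = c (hub hrt) := by
      apply hc.2
      rw [conn_minus h01 h0r h0t h1r h1t hrt _ hc0 hc1 hcr hα, E_iff h01 h0r h0t h1r h1t hrt hc0 hc1 hcr, E_iff h01 h0r h0t h1r h1t hrt hc0 hc1 hcr, a0, a1, ar, at']
      omega
    rw [h1, h2]

/-! ### P2c: `e_b - e_{s0}`, `b` a middle index -/

include h01 h0r h0t h1r h1t hrt in
theorem finrank_P2c {b : Fin (n + 1)} (hm : IsMid s0 s1 r t b) :
    Module.finrank k ↥(tPiece (J k s0 s1 r t) (dv b s0)) = 1 := by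
  classical
  rw [finrank_tPiece_eq_finrank_W (hI k s0 s1 r t) (hG k s0 s1 r t)]
  have e1 := h01.symm
  have e2 := h0r.symm
  have e3 := h0t.symm
  have e4 := h1r.symm
  have e5 := h1t.symm
  have e6 := hrt.symm
  obtain ⟨hm0, hm1, hmr, hmt⟩ := hm
  have e7 := hm0.symm
  have e8 := hm1.symm
  have e9 := hmr.symm
  have e10 := hmt.symm
  have hα : ∀ l, IsMid s0 s1 r t l → 0 ≤ (dv b s0) l := by
    rintro l ⟨hl0, hl1, hlr, hlt⟩
    simp only [dv_apply, dq_apply, Ne.symm hl0, Ne.symm hl1, Ne.symm hlr, Ne.symm hlt, ↓reduceIte]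
    split_ifs <;> norm_num
  have hb' : ∃ b', IsMid s0 s1 r t b' ∧ 1 ≤ (dv b s0) b' := by
    refine ⟨b, ⟨hm0, hm1, hmr, hmt⟩, ?_⟩
    simp only [dv_apply, dq_apply, h01, h0r, h0t, h1r, h1t, hrt, e1, e2, e3, e4, e5, e6, hm0, hm1, hmr, hmt, e7, e8, e9, e10, ↓reduceIte]
    norm_num
  have a0 : (dv b s0) s0 = -1 := by
    simp only [dv_apply, dq_apply, h01, h0r, h0t, h1r, h1t, hrt, e1, e2, e3, e4, e5, e6, hm0, hm1, hmr, hmt, e7, e8, e9, e10, ↓reduceIte]
    try norm_num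
  have a1 : (dv b s0) s1 = 0 := by
    simp only [dv_apply, dq_apply, h01, h0r, h0t, h1r, h1t, hrt, e1, e2, e3, e4, e5, e6, hm0, hm1, hmr, hmt, e7, e8, e9, e10, ↓reduceIte]
    try norm_num
  have ar : (dv b s0) r = 0 := by
    simp only [dv_apply, dq_apply, h01, h0r, h0t, h1r, h1t, hrt, e1, e2, e3, e4, e5, e6, hm0, hm1, hmr, hmt, e7, e8, e9, e10, ↓reduceIte]
    try norm_num
  have at' : (dv b s0) t = 0 := by
    simp only [dv_apply, dq_apply, h01, h0r, h0t, h1r, h1t, hrt, e1, e2, e3, e4, e5, e6, hm0, hm1, hmr, hmt, e7, e8, e9, e10, ↓reduceIte]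
    try norm_num
  have hc0 : t ≠ s0 := e3
  have hc1 : t ≠ s1 := e5
  have hcr : t ≠ r := e6
  obtain ⟨H0, Hr, Hc⟩ := G_hub (s1 := s1) h0r hrt
  have H1 := Hc s1 e1 h1r
  have Ht := Hc t e3 e6
  have key := finrank_W_eq_card_of_key' (k := k) (G := G) (I := J k s0 s1 r t) (α := dv b s0)
    (fun p : Idx s0 s1 r t => ((G p s0 : ℤ), (G p s1 : ℤ))) ({((1 : ℤ), (0 : ℤ))} : Finset (ℤ × ℤ))
  rw [key]
  · rfl
  · intro p
    have P := prof h01 h0r h0t h1r h1t hrt hc0 hc1 hcr p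
    rw [act_iff_conn_self]
    rw [conn_plus h01 h0r h0t h1r h1t hrt _ hα hb', a0, a1, ar, at']
    simp only [max_self, Finset.mem_insert, Finset.mem_singleton, Prod.mk.injEq]
    omega
  · intro p q
    have P := prof h01 h0r h0t h1r h1t hrt hc0 hc1 hcr p
    have Q := prof h01 h0r h0t h1r h1t hrt hc0 hc1 hcr q
    rw [conn_plus h01 h0r h0t h1r h1t hrt _ hα hb', a0, a1, ar, at']
    try simp only [Finset.mem_insert, Finset.mem_singleton, Prod.mk.injEq]
    omega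
  · intro x hx
    simp only [Finset.mem_insert, Finset.mem_singleton] at hx
    subst hx
    · refine ⟨hub hrt, ?_⟩
      try simp only [Prod.mk.injEq]
      omega
  · intro c hc p q hp hpq
    have P := prof h01 h0r h0t h1r h1t hrt hc0 hc1 hcr p
    have Q := prof h01 h0r h0t h1r h1t hrt hc0 hc1 hcr q
    simp only [Finset.mem_insert, Finset.mem_singleton, Prod.mk.injEq] at hp hpq
    apply hc.2
    rw [conn_plus h01 h0r h0t h1r h1t hrt _ hα hb', a0, a1, ar, at']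
    omega

/-! ### P3: `e_t - e_{s1}` -/

include h01 h0r h0t h1r h1t hrt in
theorem finrank_P3 (hmid : ∃ w, IsMid s0 s1 r t w) :
    Module.finrank k ↥(tPiece (J k s0 s1 r t) (dv t s1)) = 3 := by
  classical
  rw [finrank_tPiece_eq_finrank_W (hI k s0 s1 r t) (hG k s0 s1 r t)]
  have e1 := h01.symm
  have e2 := h0r.symm
  have e3 := h0t.symm
  have e4 := h1r.symm
  have e5 := h1t.symm
  have e6 := hrt.symm
  have hα : ∀ l, IsMid s0 s1 r t l → (dv t s1) l = -(if t = l then 1 else 0) := by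
    rintro l ⟨hl0, hl1, hlr, hlt⟩
    simp only [dv_apply, dq_apply, Ne.symm hl0, Ne.symm hl1, Ne.symm hlr, Ne.symm hlt, ↓reduceIte]
    try ring
  have a0 : (dv t s1) s0 = 0 := by
    simp only [dv_apply, dq_apply, h01, h0r, h0t, h1r, h1t, hrt, e1, e2, e3, e4, e5, e6, ↓reduceIte]
    try norm_num
  have a1 : (dv t s1) s1 = -1 := by
    simp only [dv_apply, dq_apply, h01, h0r, h0t, h1r, h1t, hrt, e1, e2, e3, e4, e5, e6, ↓reduceIte]
    try norm_num
  have ar : (dv t s1) r = 0 := by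
    simp only [dv_apply, dq_apply, h01, h0r, h0t, h1r, h1t, hrt, e1, e2, e3, e4, e5, e6, ↓reduceIte]
    try norm_num
  have at' : (dv t s1) t = 1 := by
    simp only [dv_apply, dq_apply, h01, h0r, h0t, h1r, h1t, hrt, e1, e2, e3, e4, e5, e6, ↓reduceIte]
    try norm_num
  have hc0 : t ≠ s0 := e3
  have hc1 : t ≠ s1 := e5
  have hcr : t ≠ r := e6
  obtain ⟨H0, Hr, Hc⟩ := G_hub (s1 := s1) h0r hrt
  have H1 := Hc s1 e1 h1r
  have Ht := Hc t e3 e6
  have key := finrank_W_eq_card_of_key' (k := k) (G := G) (I := J k s0 s1 r t) (α := dv t s1)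
    (fun p : Idx s0 s1 r t => ((G p s0 : ℤ), (G p s1 : ℤ))) ({((1 : ℤ), (1 : ℤ)), ((0 : ℤ), (2 : ℤ)), ((0 : ℤ), (1 : ℤ))} : Finset (ℤ × ℤ))
  rw [key]
  · rfl
  · intro p
    have P := prof h01 h0r h0t h1r h1t hrt hc0 hc1 hcr p
    rw [act_iff_conn_self]
    rw [conn_minus h01 h0r h0t h1r h1t hrt _ hc0 hc1 hcr hα, E_iff h01 h0r h0t h1r h1t hrt hc0 hc1 hcr, a0, a1, ar, at']
    simp only [max_self, Finset.mem_insert, Finset.mem_singleton, Prod.mk.injEq]
    omega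
  · intro p q
    have P := prof h01 h0r h0t h1r h1t hrt hc0 hc1 hcr p
    have Q := prof h01 h0r h0t h1r h1t hrt hc0 hc1 hcr q
    rw [conn_minus h01 h0r h0t h1r h1t hrt _ hc0 hc1 hcr hα, E_iff h01 h0r h0t h1r h1t hrt hc0 hc1 hcr, E_iff h01 h0r h0t h1r h1t hrt hc0 hc1 hcr, a0, a1, ar, at']
    try simp only [Finset.mem_insert, Finset.mem_singleton, Prod.mk.injEq]
    omega
  · intro x hx
    simp only [Finset.mem_insert, Finset.mem_singleton] at hx
    rcases hx with rfl | rfl | rfl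
    · refine ⟨⟨(s0, s1), Or.inl ⟨rfl, h1t⟩⟩, ?_⟩
      simp only [GZ, h01, h0r, h0t, h1r, h1t, hrt, e1, e2, e3, e4, e5, e6, ↓reduceIte, Prod.mk.injEq]
      try norm_num
    · refine ⟨⟨(s1, s1), Or.inr ⟨rfl, e1, h1r, h1t⟩⟩, ?_⟩
      simp only [GZ, h01, h0r, h0t, h1r, h1t, hrt, e1, e2, e3, e4, e5, e6, ↓reduceIte, Prod.mk.injEq]
      try norm_num
    · obtain ⟨w, hw0, hw1, hwr, hwt⟩ := hmid
      refine ⟨⟨(s1, w), Or.inr ⟨rfl, hw0, hwr, hwt⟩⟩, ?_⟩
      simp only [GZ, h01, h0r, h0t, h1r, h1t, hrt, e1, e2, e3, e4, e5, e6, hw0, hw1, hwr, hwt, Ne.symm hw0, Ne.symm hw1, Ne.symm hwr, Ne.symm hwt, ↓reduceIte, Prod.mk.injEq]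
      try norm_num
  · intro c hc p q hp hpq
    have P := prof h01 h0r h0t h1r h1t hrt hc0 hc1 hcr p
    have Q := prof h01 h0r h0t h1r h1t hrt hc0 hc1 hcr q
    simp only [Finset.mem_insert, Finset.mem_singleton, Prod.mk.injEq] at hp hpq
    rcases hp with hp | hp | hp
    · apply hc.2
      rw [conn_minus h01 h0r h0t h1r h1t hrt _ hc0 hc1 hcr hα, E_iff h01 h0r h0t h1r h1t hrt hc0 hc1 hcr, E_iff h01 h0r h0t h1r h1t hrt hc0 hc1 hcr, a0, a1, ar, at']
      omega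
    · apply hc.2
      rw [conn_minus h01 h0r h0t h1r h1t hrt _ hc0 hc1 hcr hα, E_iff h01 h0r h0t h1r h1t hrt hc0 hc1 hcr, E_iff h01 h0r h0t h1r h1t hrt hc0 hc1 hcr, a0, a1, ar, at']
      omega
    · apply hc.2
      rw [conn_minus h01 h0r h0t h1r h1t hrt _ hc0 hc1 hcr hα, E_iff h01 h0r h0t h1r h1t hrt hc0 hc1 hcr, E_iff h01 h0r h0t h1r h1t hrt hc0 hc1 hcr, a0, a1, ar, at']
      omega

/-! ### P4: `e_r - e_{s1}` -/

include h01 h0r h0t h1r h1t hrt in
theorem finrank_P4 (hmid : ∃ w, IsMid s0 s1 r t w) :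
    Module.finrank k ↥(tPiece (J k s0 s1 r t) (dv r s1)) = 2 := by
  classical
  rw [finrank_tPiece_eq_finrank_W (hI k s0 s1 r t) (hG k s0 s1 r t)]
  have e1 := h01.symm
  have e2 := h0r.symm
  have e3 := h0t.symm
  have e4 := h1r.symm
  have e5 := h1t.symm
  have e6 := hrt.symm
  have hα : ∀ l, IsMid s0 s1 r t l → (dv r s1) l = -(if t = l then 1 else 0) := by
    rintro l ⟨hl0, hl1, hlr, hlt⟩
    simp only [dv_apply, dq_apply, Ne.symm hl0, Ne.symm hl1, Ne.symm hlr, Ne.symm hlt, ↓reduceIte]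
    try ring
  have a0 : (dv r s1) s0 = 0 := by
    simp only [dv_apply, dq_apply, h01, h0r, h0t, h1r, h1t, hrt, e1, e2, e3, e4, e5, e6, ↓reduceIte]
    try norm_num
  have a1 : (dv r s1) s1 = -1 := by
    simp only [dv_apply, dq_apply, h01, h0r, h0t, h1r, h1t, hrt, e1, e2, e3, e4, e5, e6, ↓reduceIte]
    try norm_num
  have ar : (dv r s1) r = 1 := by
    simp only [dv_apply, dq_apply, h01, h0r, h0t, h1r, h1t, hrt, e1, e2, e3, e4, e5, e6, ↓reduceIte]
    try norm_num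
  have at' : (dv r s1) t = 0 := by
    simp only [dv_apply, dq_apply, h01, h0r, h0t, h1r, h1t, hrt, e1, e2, e3, e4, e5, e6, ↓reduceIte]
    try norm_num
  have hc0 : t ≠ s0 := e3
  have hc1 : t ≠ s1 := e5
  have hcr : t ≠ r := e6
  obtain ⟨H0, Hr, Hc⟩ := G_hub (s1 := s1) h0r hrt
  have H1 := Hc s1 e1 h1r
  have Ht := Hc t e3 e6
  have key := finrank_W_eq_card_of_key' (k := k) (G := G) (I := J k s0 s1 r t) (α := dv r s1)
    (fun p : Idx s0 s1 r t => ((G p s0 : ℤ), (G p s1 : ℤ))) ({((0 : ℤ), (2 : ℤ)), ((0 : ℤ), (1 : ℤ))} : Finset (ℤ × ℤ))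
  rw [key]
  · rfl
  · intro p
    have P := prof h01 h0r h0t h1r h1t hrt hc0 hc1 hcr p
    rw [act_iff_conn_self]
    rw [conn_minus h01 h0r h0t h1r h1t hrt _ hc0 hc1 hcr hα, E_iff h01 h0r h0t h1r h1t hrt hc0 hc1 hcr, a0, a1, ar, at']
    simp only [max_self, Finset.mem_insert, Finset.mem_singleton, Prod.mk.injEq]
    omega
  · intro p q
    have P := prof h01 h0r h0t h1r h1t hrt hc0 hc1 hcr p
    have Q := prof h01 h0r h0t h1r h1t hrt hc0 hc1 hcr q
    rw [conn_minus h01 h0r h0t h1r h1t hrt _ hc0 hc1 hcr hα, E_iff h01 h0r h0t h1r h1t hrt hc0 hc1 hcr, E_iff h01 h0r h0t h1r h1t hrt hc0 hc1 hcr, a0, a1, ar, at']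
    try simp only [Finset.mem_insert, Finset.mem_singleton, Prod.mk.injEq]
    omega
  · intro x hx
    simp only [Finset.mem_insert, Finset.mem_singleton] at hx
    rcases hx with rfl | rfl
    · refine ⟨⟨(s1, s1), Or.inr ⟨rfl, e1, h1r, h1t⟩⟩, ?_⟩
      simp only [GZ, h01, h0r, h0t, h1r, h1t, hrt, e1, e2, e3, e4, e5, e6, ↓reduceIte, Prod.mk.injEq]
      try norm_num
    · obtain ⟨w, hw0, hw1, hwr, hwt⟩ := hmid
      refine ⟨⟨(s1, w), Or.inr ⟨rfl, hw0, hwr, hwt⟩⟩, ?_⟩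
      simp only [GZ, h01, h0r, h0t, h1r, h1t, hrt, e1, e2, e3, e4, e5, e6, hw0, hw1, hwr, hwt, Ne.symm hw0, Ne.symm hw1, Ne.symm hwr, Ne.symm hwt, ↓reduceIte, Prod.mk.injEq]
      try norm_num
  · intro c hc p q hp hpq
    have P := prof h01 h0r h0t h1r h1t hrt hc0 hc1 hcr p
    have Q := prof h01 h0r h0t h1r h1t hrt hc0 hc1 hcr q
    simp only [Finset.mem_insert, Finset.mem_singleton, Prod.mk.injEq] at hp hpq
    rcases hp with hp | hp
    · apply hc.2
      rw [conn_minus h01 h0r h0t h1r h1t hrt _ hc0 hc1 hcr hα, E_iff h01 h0r h0t h1r h1t hrt hc0 hc1 hcr, E_iff h01 h0r h0t h1r h1t hrt hc0 hc1 hcr, a0, a1, ar, at']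
      omega
    · apply hc.2
      rw [conn_minus h01 h0r h0t h1r h1t hrt _ hc0 hc1 hcr hα, E_iff h01 h0r h0t h1r h1t hrt hc0 hc1 hcr, E_iff h01 h0r h0t h1r h1t hrt hc0 hc1 hcr, a0, a1, ar, at']
      omega

/-! ### P5: `e_b - e_{s1}`, `b` a middle index -/

include h01 h0r h0t h1r h1t hrt in
theorem finrank_P5 {b : Fin (n + 1)} (hm : IsMid s0 s1 r t b) :
    Module.finrank k ↥(tPiece (J k s0 s1 r t) (dv b s1)) = 1 := by
  classical
  rw [finrank_tPiece_eq_finrank_W (hI k s0 s1 r t) (hG k s0 s1 r t)]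
  have e1 := h01.symm
  have e2 := h0r.symm
  have e3 := h0t.symm
  have e4 := h1r.symm
  have e5 := h1t.symm
  have e6 := hrt.symm
  obtain ⟨hm0, hm1, hmr, hmt⟩ := hm
  have e7 := hm0.symm
  have e8 := hm1.symm
  have e9 := hmr.symm
  have e10 := hmt.symm
  have hα : ∀ l, IsMid s0 s1 r t l → 0 ≤ (dv b s1) l := by
    rintro l ⟨hl0, hl1, hlr, hlt⟩
    simp only [dv_apply, dq_apply, Ne.symm hl0, Ne.symm hl1, Ne.symm hlr, Ne.symm hlt, ↓reduceIte]
    split_ifs <;> norm_num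
  have hb' : ∃ b', IsMid s0 s1 r t b' ∧ 1 ≤ (dv b s1) b' := by
    refine ⟨b, ⟨hm0, hm1, hmr, hmt⟩, ?_⟩
    simp only [dv_apply, dq_apply, h01, h0r, h0t, h1r, h1t, hrt, e1, e2, e3, e4, e5, e6, hm0, hm1, hmr, hmt, e7, e8, e9, e10, ↓reduceIte]
    norm_num
  have a0 : (dv b s1) s0 = 0 := by
    simp only [dv_apply, dq_apply, h01, h0r, h0t, h1r, h1t, hrt, e1, e2, e3, e4, e5, e6, hm0, hm1, hmr, hmt, e7, e8, e9, e10, ↓reduceIte]
    try norm_num
  have a1 : (dv b s1) s1 = -1 := by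
    simp only [dv_apply, dq_apply, h01, h0r, h0t, h1r, h1t, hrt, e1, e2, e3, e4, e5, e6, hm0, hm1, hmr, hmt, e7, e8, e9, e10, ↓reduceIte]
    try norm_num
  have ar : (dv b s1) r = 0 := by
    simp only [dv_apply, dq_apply, h01, h0r, h0t, h1r, h1t, hrt, e1, e2, e3, e4, e5, e6, hm0, hm1, hmr, hmt, e7, e8, e9, e10, ↓reduceIte]
    try norm_num
  have at' : (dv b s1) t = 0 := by
    simp only [dv_apply, dq_apply, h01, h0r, h0t, h1r, h1t, hrt, e1, e2, e3, e4, e5, e6, hm0, hm1, hmr, hmt, e7, e8, e9, e10, ↓reduceIte]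
    try norm_num
  have hc0 : t ≠ s0 := e3
  have hc1 : t ≠ s1 := e5
  have hcr : t ≠ r := e6
  obtain ⟨H0, Hr, Hc⟩ := G_hub (s1 := s1) h0r hrt
  have H1 := Hc s1 e1 h1r
  have Ht := Hc t e3 e6
  have key := finrank_W_eq_card_of_key' (k := k) (G := G) (I := J k s0 s1 r t) (α := dv b s1)
    (fun p : Idx s0 s1 r t => ((G p s0 : ℤ), (G p s1 : ℤ))) ({((0 : ℤ), (1 : ℤ))} : Finset (ℤ × ℤ))
  rw [key]
  · rfl
  · intro p
    have P := prof h01 h0r h0t h1r h1t hrt hc0 hc1 hcr p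
    rw [act_iff_conn_self]
    rw [conn_plus h01 h0r h0t h1r h1t hrt _ hα hb', a0, a1, ar, at']
    simp only [max_self, Finset.mem_insert, Finset.mem_singleton, Prod.mk.injEq]
    omega
  · intro p q
    have P := prof h01 h0r h0t h1r h1t hrt hc0 hc1 hcr p
    have Q := prof h01 h0r h0t h1r h1t hrt hc0 hc1 hcr q
    rw [conn_plus h01 h0r h0t h1r h1t hrt _ hα hb', a0, a1, ar, at']
    try simp only [Finset.mem_insert, Finset.mem_singleton, Prod.mk.injEq]
    omega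
  · intro x hx
    simp only [Finset.mem_insert, Finset.mem_singleton] at hx
    subst hx
    · refine ⟨⟨(s1, b), Or.inr ⟨rfl, hm0, hmr, hmt⟩⟩, ?_⟩
      simp only [GZ, h01, h0r, h0t, h1r, h1t, hrt, e1, e2, e3, e4, e5, e6, hm0, hm1, hmr, hmt, e7, e8, e9, e10, ↓reduceIte, Prod.mk.injEq]
      try norm_num
  · intro c hc p q hp hpq
    have P := prof h01 h0r h0t h1r h1t hrt hc0 hc1 hcr p
    have Q := prof h01 h0r h0t h1r h1t hrt hc0 hc1 hcr q
    simp only [Finset.mem_insert, Finset.mem_singleton, Prod.mk.injEq] at hp hpq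
    apply hc.2
    rw [conn_plus h01 h0r h0t h1r h1t hrt _ hα hb', a0, a1, ar, at']
    omega

/-! ### P6: `e_t - e_a`, `a` a middle index -/

include h01 h0r h0t h1r h1t hrt in
theorem finrank_P6 {a : Fin (n + 1)} (hm : IsMid s0 s1 r t a) :
    Module.finrank k ↥(tPiece (J k s0 s1 r t) (dv t a)) = 2 := by
  classical
  rw [finrank_tPiece_eq_finrank_W (hI k s0 s1 r t) (hG k s0 s1 r t)]
  have e1 := h01.symm
  have e2 := h0r.symm
  have e3 := h0t.symm
  have e4 := h1r.symm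
  have e5 := h1t.symm
  have e6 := hrt.symm
  obtain ⟨hm0, hm1, hmr, hmt⟩ := hm
  have e7 := hm0.symm
  have e8 := hm1.symm
  have e9 := hmr.symm
  have e10 := hmt.symm
  have hα : ∀ l, IsMid s0 s1 r t l → (dv t a) l = -(if a = l then 1 else 0) := by
    rintro l ⟨hl0, hl1, hlr, hlt⟩
    simp only [dv_apply, dq_apply, Ne.symm hl0, Ne.symm hl1, Ne.symm hlr, Ne.symm hlt, ↓reduceIte]
    try ring
  have a0 : (dv t a) s0 = 0 := by
    simp only [dv_apply, dq_apply, h01, h0r, h0t, h1r, h1t, hrt, e1, e2, e3, e4, e5, e6, hm0, hm1, hmr, hmt, e7, e8, e9, e10, ↓reduceIte]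
    try norm_num
  have a1 : (dv t a) s1 = 0 := by
    simp only [dv_apply, dq_apply, h01, h0r, h0t, h1r, h1t, hrt, e1, e2, e3, e4, e5, e6, hm0, hm1, hmr, hmt, e7, e8, e9, e10, ↓reduceIte]
    try norm_num
  have ar : (dv t a) r = 0 := by
    simp only [dv_apply, dq_apply, h01, h0r, h0t, h1r, h1t, hrt, e1, e2, e3, e4, e5, e6, hm0, hm1, hmr, hmt, e7, e8, e9, e10, ↓reduceIte]
    try norm_num
  have at' : (dv t a) t = 1 := by
    simp only [dv_apply, dq_apply, h01, h0r, h0t, h1r, h1t, hrt, e1, e2, e3, e4, e5, e6, hm0, hm1, hmr, hmt, e7, e8, e9, e10, ↓reduceIte]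
    try norm_num
  have hc0 : a ≠ s0 := hm0
  have hc1 : a ≠ s1 := hm1
  have hcr : a ≠ r := hmr
  obtain ⟨H0, Hr, Hc⟩ := G_hub (s1 := s1) h0r hrt
  have H1 := Hc s1 e1 h1r
  have Ht := Hc a hm0 hmr
  have key := finrank_W_eq_card_of_key' (k := k) (G := G) (I := J k s0 s1 r t) (α := dv t a)
    (fun p : Idx s0 s1 r t => ((G p a : ℤ), (G p s0 : ℤ))) ({((1 : ℤ), (1 : ℤ)), ((1 : ℤ), (0 : ℤ))} : Finset (ℤ × ℤ))
  rw [key]
  · rfl
  · intro p
    have P := prof h01 h0r h0t h1r h1t hrt hc0 hc1 hcr p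
    rw [act_iff_conn_self]
    rw [conn_minus h01 h0r h0t h1r h1t hrt _ hc0 hc1 hcr hα, E_iff h01 h0r h0t h1r h1t hrt hc0 hc1 hcr, a0, a1, ar, at']
    simp only [max_self, Finset.mem_insert, Finset.mem_singleton, Prod.mk.injEq]
    omega
  · intro p q
    have P := prof h01 h0r h0t h1r h1t hrt hc0 hc1 hcr p
    have Q := prof h01 h0r h0t h1r h1t hrt hc0 hc1 hcr q
    rw [conn_minus h01 h0r h0t h1r h1t hrt _ hc0 hc1 hcr hα, E_iff h01 h0r h0t h1r h1t hrt hc0 hc1 hcr, E_iff h01 h0r h0t h1r h1t hrt hc0 hc1 hcr, a0, a1, ar, at']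
    try simp only [Finset.mem_insert, Finset.mem_singleton, Prod.mk.injEq]
    omega
  · intro x hx
    simp only [Finset.mem_insert, Finset.mem_singleton] at hx
    rcases hx with rfl | rfl
    · refine ⟨⟨(s0, a), Or.inl ⟨rfl, hmt⟩⟩, ?_⟩
      simp only [GZ, h01, h0r, h0t, h1r, h1t, hrt, e1, e2, e3, e4, e5, e6, hm0, hm1, hmr, hmt, e7, e8, e9, e10, ↓reduceIte, Prod.mk.injEq]
      try norm_num
    · refine ⟨⟨(s1, a), Or.inr ⟨rfl, hm0, hmr, hmt⟩⟩, ?_⟩
      simp only [GZ, h01, h0r, h0t, h1r, h1t, hrt, e1, e2, e3, e4, e5, e6, hm0, hm1, hmr, hmt, e7, e8, e9, e10, ↓reduceIte, Prod.mk.injEq]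
      try norm_num
  · intro c hc p q hp hpq
    have P := prof h01 h0r h0t h1r h1t hrt hc0 hc1 hcr p
    have Q := prof h01 h0r h0t h1r h1t hrt hc0 hc1 hcr q
    simp only [Finset.mem_insert, Finset.mem_singleton, Prod.mk.injEq] at hp hpq
    rcases hp with hp | hp
    · apply hc.2
      rw [conn_minus h01 h0r h0t h1r h1t hrt _ hc0 hc1 hcr hα, E_iff h01 h0r h0t h1r h1t hrt hc0 hc1 hcr, E_iff h01 h0r h0t h1r h1t hrt hc0 hc1 hcr, a0, a1, ar, at']
      omega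
    · apply hc.2
      rw [conn_minus h01 h0r h0t h1r h1t hrt _ hc0 hc1 hcr hα, E_iff h01 h0r h0t h1r h1t hrt hc0 hc1 hcr, E_iff h01 h0r h0t h1r h1t hrt hc0 hc1 hcr, a0, a1, ar, at']
      omega

/-! ### P7: `e_r - e_a`, `a` a middle index -/

include h01 h0r h0t h1r h1t hrt in
theorem finrank_P7 {a : Fin (n + 1)} (hm : IsMid s0 s1 r t a) :
    Module.finrank k ↥(tPiece (J k s0 s1 r t) (dv r a)) = 1 := by
  classical
  rw [finrank_tPiece_eq_finrank_W (hI k s0 s1 r t) (hG k s0 s1 r t)]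
  have e1 := h01.symm
  have e2 := h0r.symm
  have e3 := h0t.symm
  have e4 := h1r.symm
  have e5 := h1t.symm
  have e6 := hrt.symm
  obtain ⟨hm0, hm1, hmr, hmt⟩ := hm
  have e7 := hm0.symm
  have e8 := hm1.symm
  have e9 := hmr.symm
  have e10 := hmt.symm
  have hα : ∀ l, IsMid s0 s1 r t l → (dv r a) l = -(if a = l then 1 else 0) := by
    rintro l ⟨hl0, hl1, hlr, hlt⟩
    simp only [dv_apply, dq_apply, Ne.symm hl0, Ne.symm hl1, Ne.symm hlr, Ne.symm hlt, ↓reduceIte]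
    try ring
  have a0 : (dv r a) s0 = 0 := by
    simp only [dv_apply, dq_apply, h01, h0r, h0t, h1r, h1t, hrt, e1, e2, e3, e4, e5, e6, hm0, hm1, hmr, hmt, e7, e8, e9, e10, ↓reduceIte]
    try norm_num
  have a1 : (dv r a) s1 = 0 := by
    simp only [dv_apply, dq_apply, h01, h0r, h0t, h1r, h1t, hrt, e1, e2, e3, e4, e5, e6, hm0, hm1, hmr, hmt, e7, e8, e9, e10, ↓reduceIte]
    try norm_num
  have ar : (dv r a) r = 1 := by
    simp only [dv_apply, dq_apply, h01, h0r, h0t, h1r, h1t, hrt, e1, e2, e3, e4, e5, e6, hm0, hm1, hmr, hmt, e7, e8, e9, e10, ↓reduceIte]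
    try norm_num
  have at' : (dv r a) t = 0 := by
    simp only [dv_apply, dq_apply, h01, h0r, h0t, h1r, h1t, hrt, e1, e2, e3, e4, e5, e6, hm0, hm1, hmr, hmt, e7, e8, e9, e10, ↓reduceIte]
    try norm_num
  have hc0 : a ≠ s0 := hm0
  have hc1 : a ≠ s1 := hm1
  have hcr : a ≠ r := hmr
  obtain ⟨H0, Hr, Hc⟩ := G_hub (s1 := s1) h0r hrt
  have H1 := Hc s1 e1 h1r
  have Ht := Hc a hm0 hmr
  have key := finrank_W_eq_card_of_key' (k := k) (G := G) (I := J k s0 s1 r t) (α := dv r a)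
    (fun p : Idx s0 s1 r t => ((G p a : ℤ), (G p s1 : ℤ))) ({((1 : ℤ), (1 : ℤ))} : Finset (ℤ × ℤ))
  rw [key]
  · rfl
  · intro p
    have P := prof h01 h0r h0t h1r h1t hrt hc0 hc1 hcr p
    rw [act_iff_conn_self]
    rw [conn_minus h01 h0r h0t h1r h1t hrt _ hc0 hc1 hcr hα, E_iff h01 h0r h0t h1r h1t hrt hc0 hc1 hcr, a0, a1, ar, at']
    simp only [max_self, Finset.mem_insert, Finset.mem_singleton, Prod.mk.injEq]
    omega
  · intro p q
    have P := prof h01 h0r h0t h1r h1t hrt hc0 hc1 hcr p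
    have Q := prof h01 h0r h0t h1r h1t hrt hc0 hc1 hcr q
    rw [conn_minus h01 h0r h0t h1r h1t hrt _ hc0 hc1 hcr hα, E_iff h01 h0r h0t h1r h1t hrt hc0 hc1 hcr, E_iff h01 h0r h0t h1r h1t hrt hc0 hc1 hcr, a0, a1, ar, at']
    try simp only [Finset.mem_insert, Finset.mem_singleton, Prod.mk.injEq]
    omega
  · intro x hx
    simp only [Finset.mem_insert, Finset.mem_singleton] at hx
    subst hx
    · refine ⟨⟨(s1, a), Or.inr ⟨rfl, hm0, hmr, hmt⟩⟩, ?_⟩
      simp only [GZ, h01, h0r, h0t, h1r, h1t, hrt, e1, e2, e3, e4, e5, e6, hm0, hm1, hmr, hmt, e7, e8, e9, e10, ↓reduceIte, Prod.mk.injEq]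
      try norm_num
  · intro c hc p q hp hpq
    have P := prof h01 h0r h0t h1r h1t hrt hc0 hc1 hcr p
    have Q := prof h01 h0r h0t h1r h1t hrt hc0 hc1 hcr q
    simp only [Finset.mem_insert, Finset.mem_singleton, Prod.mk.injEq] at hp hpq
    apply hc.2
    rw [conn_minus h01 h0r h0t h1r h1t hrt _ hc0 hc1 hcr hα, E_iff h01 h0r h0t h1r h1t hrt hc0 hc1 hcr, E_iff h01 h0r h0t h1r h1t hrt hc0 hc1 hcr, a0, a1, ar, at']
    omega

/-! ### P8: `e_t - e_r` -/

include h01 h0r h0t h1r h1t hrt in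
theorem finrank_P8 :
    Module.finrank k ↥(tPiece (J k s0 s1 r t) (dv t r)) = 1 := by
  classical
  rw [finrank_tPiece_eq_finrank_W (hI k s0 s1 r t) (hG k s0 s1 r t)]
  have e1 := h01.symm
  have e2 := h0r.symm
  have e3 := h0t.symm
  have e4 := h1r.symm
  have e5 := h1t.symm
  have e6 := hrt.symm
  have hα : ∀ l, IsMid s0 s1 r t l → (dv t r) l = -(if t = l then 1 else 0) := by
    rintro l ⟨hl0, hl1, hlr, hlt⟩
    simp only [dv_apply, dq_apply, Ne.symm hl0, Ne.symm hl1, Ne.symm hlr, Ne.symm hlt, ↓reduceIte]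
    try ring
  have a0 : (dv t r) s0 = 0 := by
    simp only [dv_apply, dq_apply, h01, h0r, h0t, h1r, h1t, hrt, e1, e2, e3, e4, e5, e6, ↓reduceIte]
    try norm_num
  have a1 : (dv t r) s1 = 0 := by
    simp only [dv_apply, dq_apply, h01, h0r, h0t, h1r, h1t, hrt, e1, e2, e3, e4, e5, e6, ↓reduceIte]
    try norm_num
  have ar : (dv t r) r = -1 := by
    simp only [dv_apply, dq_apply, h01, h0r, h0t, h1r, h1t, hrt, e1, e2, e3, e4, e5, e6, ↓reduceIte]
    try norm_num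
  have at' : (dv t r) t = 1 := by
    simp only [dv_apply, dq_apply, h01, h0r, h0t, h1r, h1t, hrt, e1, e2, e3, e4, e5, e6, ↓reduceIte]
    try norm_num
  have hc0 : t ≠ s0 := e3
  have hc1 : t ≠ s1 := e5
  have hcr : t ≠ r := e6
  obtain ⟨H0, Hr, Hc⟩ := G_hub (s1 := s1) h0r hrt
  have H1 := Hc s1 e1 h1r
  have Ht := Hc t e3 e6
  have key := finrank_W_eq_card_of_key' (k := k) (G := G) (I := J k s0 s1 r t) (α := dv t r)
    (fun p : Idx s0 s1 r t => (G p r : ℤ)) ({(1 : ℤ)} : Finset (ℤ))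
  rw [key]
  · rfl
  · intro p
    have P := prof h01 h0r h0t h1r h1t hrt hc0 hc1 hcr p
    rw [act_iff_conn_self]
    rw [conn_minus h01 h0r h0t h1r h1t hrt _ hc0 hc1 hcr hα, E_iff h01 h0r h0t h1r h1t hrt hc0 hc1 hcr, a0, a1, ar, at']
    simp only [max_self, Finset.mem_insert, Finset.mem_singleton, Prod.mk.injEq]
    omega
  · intro p q
    have P := prof h01 h0r h0t h1r h1t hrt hc0 hc1 hcr p
    have Q := prof h01 h0r h0t h1r h1t hrt hc0 hc1 hcr q
    rw [conn_minus h01 h0r h0t h1r h1t hrt _ hc0 hc1 hcr hα, E_iff h01 h0r h0t h1r h1t hrt hc0 hc1 hcr, E_iff h01 h0r h0t h1r h1t hrt hc0 hc1 hcr, a0, a1, ar, at']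
    try simp only [Finset.mem_insert, Finset.mem_singleton, Prod.mk.injEq]
    omega
  · intro x hx
    simp only [Finset.mem_insert, Finset.mem_singleton] at hx
    subst hx
    · refine ⟨hub hrt, ?_⟩
      try simp only [Prod.mk.injEq]
      omega
  · intro c hc p q hp hpq
    have P := prof h01 h0r h0t h1r h1t hrt hc0 hc1 hcr p
    have Q := prof h01 h0r h0t h1r h1t hrt hc0 hc1 hcr q
    simp only [Finset.mem_insert, Finset.mem_singleton, Prod.mk.injEq] at hp hpq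
    apply hc.2
    rw [conn_minus h01 h0r h0t h1r h1t hrt _ hc0 hc1 hcr hα, E_iff h01 h0r h0t h1r h1t hrt hc0 hc1 hcr, E_iff h01 h0r h0t h1r h1t hrt hc0 hc1 hcr, a0, a1, ar, at']
    omega

/-! ### P9: `e_{s1} + e_t - e_{s0} - e_r` -/

include h01 h0r h0t h1r h1t hrt in
theorem finrank_P9 :
    Module.finrank k ↥(tPiece (J k s0 s1 r t) (dq s1 t s0 r)) = 1 := by
  classical
  rw [finrank_tPiece_eq_finrank_W (hI k s0 s1 r t) (hG k s0 s1 r t)]
  have e1 := h01.symm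
  have e2 := h0r.symm
  have e3 := h0t.symm
  have e4 := h1r.symm
  have e5 := h1t.symm
  have e6 := hrt.symm
  have hα : ∀ l, IsMid s0 s1 r t l → (dq s1 t s0 r) l = -(if t = l then 1 else 0) := by
    rintro l ⟨hl0, hl1, hlr, hlt⟩
    simp only [dv_apply, dq_apply, Ne.symm hl0, Ne.symm hl1, Ne.symm hlr, Ne.symm hlt, ↓reduceIte]
    try ring
  have a0 : (dq s1 t s0 r) s0 = -1 := by
    simp only [dv_apply, dq_apply, h01, h0r, h0t, h1r, h1t, hrt, e1, e2, e3, e4, e5, e6, ↓reduceIte]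
    try norm_num
  have a1 : (dq s1 t s0 r) s1 = 1 := by
    simp only [dv_apply, dq_apply, h01, h0r, h0t, h1r, h1t, hrt, e1, e2, e3, e4, e5, e6, ↓reduceIte]
    try norm_num
  have ar : (dq s1 t s0 r) r = -1 := by
    simp only [dv_apply, dq_apply, h01, h0r, h0t, h1r, h1t, hrt, e1, e2, e3, e4, e5, e6, ↓reduceIte]
    try norm_num
  have at' : (dq s1 t s0 r) t = 1 := by
    simp only [dv_apply, dq_apply, h01, h0r, h0t, h1r, h1t, hrt, e1, e2, e3, e4, e5, e6, ↓reduceIte]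
    try norm_num
  have hc0 : t ≠ s0 := e3
  have hc1 : t ≠ s1 := e5
  have hcr : t ≠ r := e6
  obtain ⟨H0, Hr, Hc⟩ := G_hub (s1 := s1) h0r hrt
  have H1 := Hc s1 e1 h1r
  have Ht := Hc t e3 e6
  have key := finrank_W_eq_card_of_key' (k := k) (G := G) (I := J k s0 s1 r t) (α := dq s1 t s0 r)
    (fun p : Idx s0 s1 r t => (G p r : ℤ)) ({(1 : ℤ)} : Finset (ℤ))
  rw [key]
  · rfl
  · intro p
    have P := prof h01 h0r h0t h1r h1t hrt hc0 hc1 hcr p
    rw [act_iff_conn_self]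
    rw [conn_minus h01 h0r h0t h1r h1t hrt _ hc0 hc1 hcr hα, E_iff h01 h0r h0t h1r h1t hrt hc0 hc1 hcr, a0, a1, ar, at']
    simp only [max_self, Finset.mem_insert, Finset.mem_singleton, Prod.mk.injEq]
    omega
  · intro p q
    have P := prof h01 h0r h0t h1r h1t hrt hc0 hc1 hcr p
    have Q := prof h01 h0r h0t h1r h1t hrt hc0 hc1 hcr q
    rw [conn_minus h01 h0r h0t h1r h1t hrt _ hc0 hc1 hcr hα, E_iff h01 h0r h0t h1r h1t hrt hc0 hc1 hcr, E_iff h01 h0r h0t h1r h1t hrt hc0 hc1 hcr, a0, a1, ar, at']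
    try simp only [Finset.mem_insert, Finset.mem_singleton, Prod.mk.injEq]
    omega
  · intro x hx
    simp only [Finset.mem_insert, Finset.mem_singleton] at hx
    subst hx
    · refine ⟨hub hrt, ?_⟩
      try simp only [Prod.mk.injEq]
      omega
  · intro c hc p q hp hpq
    have P := prof h01 h0r h0t h1r h1t hrt hc0 hc1 hcr p
    have Q := prof h01 h0r h0t h1r h1t hrt hc0 hc1 hcr q
    simp only [Finset.mem_insert, Finset.mem_singleton, Prod.mk.injEq] at hp hpq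
    apply hc.2
    rw [conn_minus h01 h0r h0t h1r h1t hrt _ hc0 hc1 hcr hα, E_iff h01 h0r h0t h1r h1t hrt hc0 hc1 hcr, E_iff h01 h0r h0t h1r h1t hrt hc0 hc1 hcr, a0, a1, ar, at']
    omega

/-! ### P10a: `e_{s0} + e_t - 2 e_{s1}` -/

include h01 h0r h0t h1r h1t hrt in
theorem finrank_P10a :
    Module.finrank k ↥(tPiece (J k s0 s1 r t) (dq s0 t s1 s1)) = 1 := by
  classical
  rw [finrank_tPiece_eq_finrank_W (hI k s0 s1 r t) (hG k s0 s1 r t)]
  have e1 := h01.symm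
  have e2 := h0r.symm
  have e3 := h0t.symm
  have e4 := h1r.symm
  have e5 := h1t.symm
  have e6 := hrt.symm
  have hα : ∀ l, IsMid s0 s1 r t l → (dq s0 t s1 s1) l = -(if t = l then 1 else 0) := by
    rintro l ⟨hl0, hl1, hlr, hlt⟩
    simp only [dv_apply, dq_apply, Ne.symm hl0, Ne.symm hl1, Ne.symm hlr, Ne.symm hlt, ↓reduceIte]
    try ring
  have a0 : (dq s0 t s1 s1) s0 = 1 := by
    simp only [dv_apply, dq_apply, h01, h0r, h0t, h1r, h1t, hrt, e1, e2, e3, e4, e5, e6, ↓reduceIte]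
    try norm_num
  have a1 : (dq s0 t s1 s1) s1 = -2 := by
    simp only [dv_apply, dq_apply, h01, h0r, h0t, h1r, h1t, hrt, e1, e2, e3, e4, e5, e6, ↓reduceIte]
    try norm_num
  have ar : (dq s0 t s1 s1) r = 0 := by
    simp only [dv_apply, dq_apply, h01, h0r, h0t, h1r, h1t, hrt, e1, e2, e3, e4, e5, e6, ↓reduceIte]
    try norm_num
  have at' : (dq s0 t s1 s1) t = 1 := by
    simp only [dv_apply, dq_apply, h01, h0r, h0t, h1r, h1t, hrt, e1, e2, e3, e4, e5, e6, ↓reduceIte]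
    try norm_num
  have hc0 : t ≠ s0 := e3
  have hc1 : t ≠ s1 := e5
  have hcr : t ≠ r := e6
  obtain ⟨H0, Hr, Hc⟩ := G_hub (s1 := s1) h0r hrt
  have H1 := Hc s1 e1 h1r
  have Ht := Hc t e3 e6
  have key := finrank_W_eq_card_of_key' (k := k) (G := G) (I := J k s0 s1 r t) (α := dq s0 t s1 s1)
    (fun p : Idx s0 s1 r t => (G p s1 : ℤ)) ({(2 : ℤ)} : Finset (ℤ))
  rw [key]
  · rfl
  · intro p
    have P := prof h01 h0r h0t h1r h1t hrt hc0 hc1 hcr p
    rw [act_iff_conn_self]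
    rw [conn_minus h01 h0r h0t h1r h1t hrt _ hc0 hc1 hcr hα, E_iff h01 h0r h0t h1r h1t hrt hc0 hc1 hcr, a0, a1, ar, at']
    simp only [max_self, Finset.mem_insert, Finset.mem_singleton, Prod.mk.injEq]
    omega
  · intro p q
    have P := prof h01 h0r h0t h1r h1t hrt hc0 hc1 hcr p
    have Q := prof h01 h0r h0t h1r h1t hrt hc0 hc1 hcr q
    rw [conn_minus h01 h0r h0t h1r h1t hrt _ hc0 hc1 hcr hα, E_iff h01 h0r h0t h1r h1t hrt hc0 hc1 hcr, E_iff h01 h0r h0t h1r h1t hrt hc0 hc1 hcr, a0, a1, ar, at']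
    try simp only [Finset.mem_insert, Finset.mem_singleton, Prod.mk.injEq]
    omega
  · intro x hx
    simp only [Finset.mem_insert, Finset.mem_singleton] at hx
    subst hx
    · refine ⟨⟨(s1, s1), Or.inr ⟨rfl, e1, h1r, h1t⟩⟩, ?_⟩
      simp only [GZ, h01, h0r, h0t, h1r, h1t, hrt, e1, e2, e3, e4, e5, e6, ↓reduceIte, Prod.mk.injEq]
      try norm_num
  · intro c hc p q hp hpq
    have P := prof h01 h0r h0t h1r h1t hrt hc0 hc1 hcr p
    have Q := prof h01 h0r h0t h1r h1t hrt hc0 hc1 hcr q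
    simp only [Finset.mem_insert, Finset.mem_singleton, Prod.mk.injEq] at hp hpq
    apply hc.2
    rw [conn_minus h01 h0r h0t h1r h1t hrt _ hc0 hc1 hcr hα, E_iff h01 h0r h0t h1r h1t hrt hc0 hc1 hcr, E_iff h01 h0r h0t h1r h1t hrt hc0 hc1 hcr, a0, a1, ar, at']
    omega

/-! ### P10b: `e_{s0} + e_t - e_{s1} - e_j`, `j` a middle index -/

include h01 h0r h0t h1r h1t hrt in
theorem finrank_P10b {j : Fin (n + 1)} (hm : IsMid s0 s1 r t j) :
    Module.finrank k ↥(tPiece (J k s0 s1 r t) (dq s0 t s1 j)) = 1 := by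
  classical
  rw [finrank_tPiece_eq_finrank_W (hI k s0 s1 r t) (hG k s0 s1 r t)]
  have e1 := h01.symm
  have e2 := h0r.symm
  have e3 := h0t.symm
  have e4 := h1r.symm
  have e5 := h1t.symm
  have e6 := hrt.symm
  obtain ⟨hm0, hm1, hmr, hmt⟩ := hm
  have e7 := hm0.symm
  have e8 := hm1.symm
  have e9 := hmr.symm
  have e10 := hmt.symm
  have hα : ∀ l, IsMid s0 s1 r t l → (dq s0 t s1 j) l = -(if j = l then 1 else 0) := by
    rintro l ⟨hl0, hl1, hlr, hlt⟩
    simp only [dv_apply, dq_apply, Ne.symm hl0, Ne.symm hl1, Ne.symm hlr, Ne.symm hlt, ↓reduceIte]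
    try ring
  have a0 : (dq s0 t s1 j) s0 = 1 := by
    simp only [dv_apply, dq_apply, h01, h0r, h0t, h1r, h1t, hrt, e1, e2, e3, e4, e5, e6, hm0, hm1, hmr, hmt, e7, e8, e9, e10, ↓reduceIte]
    try norm_num
  have a1 : (dq s0 t s1 j) s1 = -1 := by
    simp only [dv_apply, dq_apply, h01, h0r, h0t, h1r, h1t, hrt, e1, e2, e3, e4, e5, e6, hm0, hm1, hmr, hmt, e7, e8, e9, e10, ↓reduceIte]
    try norm_num
  have ar : (dq s0 t s1 j) r = 0 := by
    simp only [dv_apply, dq_apply, h01, h0r, h0t, h1r, h1t, hrt, e1, e2, e3, e4, e5, e6, hm0, hm1, hmr, hmt, e7, e8, e9, e10, ↓reduceIte]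
    try norm_num
  have at' : (dq s0 t s1 j) t = 1 := by
    simp only [dv_apply, dq_apply, h01, h0r, h0t, h1r, h1t, hrt, e1, e2, e3, e4, e5, e6, hm0, hm1, hmr, hmt, e7, e8, e9, e10, ↓reduceIte]
    try norm_num
  have hc0 : j ≠ s0 := hm0
  have hc1 : j ≠ s1 := hm1
  have hcr : j ≠ r := hmr
  obtain ⟨H0, Hr, Hc⟩ := G_hub (s1 := s1) h0r hrt
  have H1 := Hc s1 e1 h1r
  have Ht := Hc j hm0 hmr
  have key := finrank_W_eq_card_of_key' (k := k) (G := G) (I := J k s0 s1 r t) (α := dq s0 t s1 j)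
    (fun p : Idx s0 s1 r t => ((G p s1 : ℤ), (G p j : ℤ))) ({((1 : ℤ), (1 : ℤ))} : Finset (ℤ × ℤ))
  rw [key]
  · rfl
  · intro p
    have P := prof h01 h0r h0t h1r h1t hrt hc0 hc1 hcr p
    rw [act_iff_conn_self]
    rw [conn_minus h01 h0r h0t h1r h1t hrt _ hc0 hc1 hcr hα, E_iff h01 h0r h0t h1r h1t hrt hc0 hc1 hcr, a0, a1, ar, at']
    simp only [max_self, Finset.mem_insert, Finset.mem_singleton, Prod.mk.injEq]
    omega
  · intro p q
    have P := prof h01 h0r h0t h1r h1t hrt hc0 hc1 hcr p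
    have Q := prof h01 h0r h0t h1r h1t hrt hc0 hc1 hcr q
    rw [conn_minus h01 h0r h0t h1r h1t hrt _ hc0 hc1 hcr hα, E_iff h01 h0r h0t h1r h1t hrt hc0 hc1 hcr, E_iff h01 h0r h0t h1r h1t hrt hc0 hc1 hcr, a0, a1, ar, at']
    try simp only [Finset.mem_insert, Finset.mem_singleton, Prod.mk.injEq]
    omega
  · intro x hx
    simp only [Finset.mem_insert, Finset.mem_singleton] at hx
    subst hx
    · refine ⟨⟨(s1, j), Or.inr ⟨rfl, hm0, hmr, hmt⟩⟩, ?_⟩
      simp only [GZ, h01, h0r, h0t, h1r, h1t, hrt, e1, e2, e3, e4, e5, e6, hm0, hm1, hmr, hmt, e7, e8, e9, e10, ↓reduceIte, Prod.mk.injEq]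
      try norm_num
  · intro c hc p q hp hpq
    have P := prof h01 h0r h0t h1r h1t hrt hc0 hc1 hcr p
    have Q := prof h01 h0r h0t h1r h1t hrt hc0 hc1 hcr q
    simp only [Finset.mem_insert, Finset.mem_singleton, Prod.mk.injEq] at hp hpq
    apply hc.2
    rw [conn_minus h01 h0r h0t h1r h1t hrt _ hc0 hc1 hcr hα, E_iff h01 h0r h0t h1r h1t hrt hc0 hc1 hcr, E_iff h01 h0r h0t h1r h1t hrt hc0 hc1 hcr, a0, a1, ar, at']
    omega

end Groth.Agent.S13448
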