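import Groth.Agent.Lib.Seat60S13448c

/-! Seat60: vanishing of the unlisted graded pieces of total degree zero for the ideal of
`Seat60S13448a`. -/

set_option autoImplicit false
set_option linter.unusedVariables false
set_option linter.unusedSectionVars false
set_option linter.unusedSimpArgs false
universe u
open W4c1hilbpn MvPolynomial
open Groth.Agent.Lib.Seat60.Hom0
open Groth.Agent.S13449 (dv dq pair_le dv_self_right dv_self_left dv_other dq_apply)

namespace Groth.Agent.S13448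

variable {k : Type u} [Field k] {n : ℕ} {s0 s1 r t : Fin (n + 1)}
variable (h01 : s0 ≠ s1) (h0r : s0 ≠ r) (h0t : s0 ≠ t) (h1r : s1 ≠ r) (h1t : s1 ≠ t) (hrt : r ≠ t)

lemma sum_G (p : Idx s0 s1 r t) : ∑ l, (G p l : ℤ) = 2 := by
  classical
  simp only [GZ]
  rw [Finset.sum_add_distrib, Finset.sum_ite_eq Finset.univ p.1.1 (fun _ => (1 : ℤ)),
    Finset.sum_ite_eq Finset.univ p.1.2 (fun _ => (1 : ℤ)), if_pos (Finset.mem_univ _),
    if_pos (Finset.mem_univ _)]
  norm_num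

include h01 h0r h0t h1r h1t hrt in
/-- a coefficient is forced to vanish by a link to an inactive generator -/
lemma forced_zero (α : Fin (n + 1) → ℤ) (c : Idx s0 s1 r t → k)
    (hc : c ∈ W G (J k s0 s1 r t) α) (q q' : Idx s0 s1 r t)
    (hq : ∀ l, 0 ≤ (G q l : ℤ) + α l) (hq' : ∃ l, (G q' l : ℤ) + α l < 0)
    (hS : (max (G q s0 : ℤ) (G q' s0) + α s0) + (max (G q s1 : ℤ) (G q' s1) + α s1) ≤ 1)
    (hR : ¬ (1 ≤ max (G q s0 : ℤ) (G q' s0) + α s0 ∧ 1 ≤ max (G q r : ℤ) (G q' r) + α r))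
    (hM : 1 ≤ (max (G q s0 : ℤ) (G q' s0) + α s0) + (max (G q s1 : ℤ) (G q' s1) + α s1) →
       ∀ l, IsMid s0 s1 r t l → max (G q l : ℤ) (G q' l) + α l ≤ 0) : c q = 0 := by
  have hinact : ¬ Act G (J k s0 s1 r t) α q' := by
    rw [act_iff' h01 h0r h0t h1r h1t hrt]
    rintro ⟨h1, -⟩
    obtain ⟨l, hl⟩ := hq'
    have := h1 l
    omega
  rw [← hc.1 q' hinact]
  apply hc.2
  rw [conn_iff' h01 h0r h0t h1r h1t hrt, not_inI_iff]
  refine ⟨fun l => ?_, hS, hR, hM⟩
  have := hq l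
  have : (G q l : ℤ) ≤ max (G q l : ℤ) (G q' l) := le_max_left _ _
  omega

section vanish

variable (α : Fin (n + 1) → ℤ) (c : Idx s0 s1 r t → k) (hc : c ∈ W G (J k s0 s1 r t) α)

include h01 h0r h0t h1r h1t hrt hc in
/-- forced vanishing through a generator `x_a x_w`, `w ∉ {s0, s1}` -/
lemma fz_high (a i u v w : Fin (n + 1))
    (hai : (a = s0 ∧ i ≠ t) ∨ (a = s1 ∧ i ≠ s0 ∧ i ≠ r ∧ i ≠ t))
    (haw : (a = s0 ∧ w ≠ t) ∨ (a = s1 ∧ w ≠ s0 ∧ w ≠ r ∧ w ≠ t))
    (hu0 : u ≠ s0) (hu1 : u ≠ s1) (hv0 : v ≠ s0) (hv1 : v ≠ s1) (hw0 : w ≠ s0) (hw1 : w ≠ s1)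
    (hwi : w ≠ i) (hiu : i ≠ u) (hiv : i ≠ v)
    (hα' : ∀ l, α l = (if u = l then 1 else 0) + (if v = l then 1 else 0) -
      (if a = l then 1 else 0) - (if i = l then 1 else 0))
    (hval : ∀ l, 0 ≤ (G (⟨(a, i), hai⟩ : Idx s0 s1 r t) l : ℤ) + α l) :
    c ⟨(a, i), hai⟩ = 0 := by
  have aux : ∀ x y : ℤ, 0 ≤ y → max (x + y) (x + 0) + (0 + 0 - x - y) = 0 := by
    intro x y hy
    rw [max_eq_left (by omega)]
    ring
  have hm0 : max (G (⟨(a, i), hai⟩ : Idx s0 s1 r t) s0 : ℤ) (G (⟨(a, w), haw⟩ : Idx s0 s1 r t) s0) +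
      α s0 = 0 := by
    rw [GZ, GZ, hα' s0]
    simp only [hu0, hv0, hw0, ↓reduceIte]
    exact aux _ _ (by split_ifs <;> norm_num)
  have hm1 : max (G (⟨(a, i), hai⟩ : Idx s0 s1 r t) s1 : ℤ) (G (⟨(a, w), haw⟩ : Idx s0 s1 r t) s1) +
      α s1 = 0 := by
    rw [GZ, GZ, hα' s1]
    simp only [hu1, hv1, hw1, ↓reduceIte]
    exact aux _ _ (by split_ifs <;> norm_num)
  apply forced_zero h01 h0r h0t h1r h1t hrt α c hc ⟨(a, i), hai⟩ ⟨(a, w), haw⟩ hval
  · refine ⟨i, ?_⟩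
    rw [GZ, hα' i]
    simp only [Ne.symm hiu, Ne.symm hiv, hwi, ↓reduceIte]
    split_ifs <;> norm_num
  · rw [hm0, hm1]
    norm_num
  · rw [hm0]
    rintro ⟨h, -⟩
    norm_num at h
  · rw [hm0, hm1]
    intro h
    norm_num at h


include h01 h0r h0t h1r h1t hrt hc in
/-- forced vanishing of the coefficient of `x_{s0} x_i`, `i = s0` or a middle index, with target
`x_{s1} x_v`, `v ∈ {r, t}`, through the generator `x_{s0} x_r` -/
lemma fz_hub (i v : Fin (n + 1)) (hit : i ≠ t) (hi1 : i ≠ s1) (hir : i ≠ r)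
    (hv : v = r ∨ v = t)
    (hα' : ∀ l, α l = (if s1 = l then 1 else 0) + (if v = l then 1 else 0) -
      (if s0 = l then 1 else 0) - (if i = l then 1 else 0))
    (hval : ∀ l, 0 ≤ (G (⟨(s0, i), Or.inl ⟨rfl, hit⟩⟩ : Idx s0 s1 r t) l : ℤ) + α l) :
    c ⟨(s0, i), Or.inl ⟨rfl, hit⟩⟩ = 0 := by
  have e1 := h01.symm
  have e2 := h0r.symm
  have e3 := h0t.symm
  have e4 := h1r.symm
  have e5 := h1t.symm
  have e6 := hrt.symm
  have hv0 : v ≠ s0 := by rcases hv with rfl | rfl <;> assumption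
  have hv1 : v ≠ s1 := by rcases hv with rfl | rfl <;> assumption
  have hvi : v ≠ i := by rcases hv with rfl | rfl <;> exact Ne.symm ‹_›
  have hm0 : max (G (⟨(s0, i), Or.inl ⟨rfl, hit⟩⟩ : Idx s0 s1 r t) s0 : ℤ)
      (G (hub (s0 := s0) (s1 := s1) hrt) s0) + α s0 = 0 := by
    rw [GZ, GZ, hα' s0]
    simp only [hub, h01, e1, e2, hv0, ↓reduceIte]
    split_ifs <;> norm_num
  have hm1 : max (G (⟨(s0, i), Or.inl ⟨rfl, hit⟩⟩ : Idx s0 s1 r t) s1 : ℤ)
      (G (hub (s0 := s0) (s1 := s1) hrt) s1) + α s1 = 1 := by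
    rw [GZ, GZ, hα' s1]
    simp only [hub, h01, e1, e4, hv1, hi1, ↓reduceIte]
    norm_num
  apply forced_zero h01 h0r h0t h1r h1t hrt α c hc _ (hub hrt) hval
  · refine ⟨i, ?_⟩
    rw [GZ, hα' i]
    simp only [hub, Ne.symm hir, Ne.symm hi1, hvi, ↓reduceIte]
    omega
  · rw [hm0, hm1]
    norm_num
  · rw [hm0]
    rintro ⟨h, -⟩
    norm_num at h
  · intro _ l hl
    obtain ⟨hl0, hl1, hlr, hlt⟩ := hl
    have hvl : v ≠ l := by rcases hv with rfl | rfl <;> exact Ne.symm ‹_›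
    rw [GZ, GZ, hα' l]
    simp only [hub, Ne.symm hl0, Ne.symm hl1, Ne.symm hlr, hvl, ↓reduceIte]
    split_ifs <;> norm_num

include h01 h0r h0t h1r h1t hrt hc in
/-- forced vanishing of the coefficient of `x_{s1} x_i`, `i` a middle index, with target
`x_u x_v`, `u, v ∈ {r, t}`, through the generator `x_{s1}^2` -/
lemma fz_s1s1 (i u v : Fin (n + 1)) (hi : IsMid s0 s1 r t i)
    (hu : u = r ∨ u = t) (hv : v = r ∨ v = t)
    (hα' : ∀ l, α l = (if u = l then 1 else 0) + (if v = l then 1 else 0) -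
      (if s1 = l then 1 else 0) - (if i = l then 1 else 0))
    (hval : ∀ l, 0 ≤ (G (⟨(s1, i), Or.inr ⟨rfl, hi.1, hi.2.2.1, hi.2.2.2⟩⟩ : Idx s0 s1 r t) l : ℤ)
      + α l) :
    c ⟨(s1, i), Or.inr ⟨rfl, hi.1, hi.2.2.1, hi.2.2.2⟩⟩ = 0 := by
  have e1 := h01.symm
  have e2 := h0r.symm
  have e3 := h0t.symm
  have e4 := h1r.symm
  have e5 := h1t.symm
  have e6 := hrt.symm
  obtain ⟨hi0, hi1, hir, hit⟩ := hi
  have hu0 : u ≠ s0 := by rcases hu with rfl | rfl <;> assumption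
  have hu1 : u ≠ s1 := by rcases hu with rfl | rfl <;> assumption
  have hui : u ≠ i := by rcases hu with rfl | rfl <;> exact Ne.symm ‹_›
  have hv0 : v ≠ s0 := by rcases hv with rfl | rfl <;> assumption
  have hv1 : v ≠ s1 := by rcases hv with rfl | rfl <;> assumption
  have hvi : v ≠ i := by rcases hv with rfl | rfl <;> exact Ne.symm ‹_›
  have hm0 : max (G (⟨(s1, i), Or.inr ⟨rfl, hi0, hir, hit⟩⟩ : Idx s0 s1 r t) s0 : ℤ)
      (G (⟨(s1, s1), Or.inr ⟨rfl, e1, h1r, h1t⟩⟩ : Idx s0 s1 r t) s0) + α s0 = 0 := by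
    rw [GZ, GZ, hα' s0]
    simp only [h01, e1, hu0, hv0, hi0, ↓reduceIte]
    norm_num
  have hm1 : max (G (⟨(s1, i), Or.inr ⟨rfl, hi0, hir, hit⟩⟩ : Idx s0 s1 r t) s1 : ℤ)
      (G (⟨(s1, s1), Or.inr ⟨rfl, e1, h1r, h1t⟩⟩ : Idx s0 s1 r t) s1) + α s1 = 1 := by
    rw [GZ, GZ, hα' s1]
    simp only [h01, e1, hu1, hv1, hi1, ↓reduceIte]
    norm_num
  apply forced_zero h01 h0r h0t h1r h1t hrt α c hc _
    (⟨(s1, s1), Or.inr ⟨rfl, e1, h1r, h1t⟩⟩ : Idx s0 s1 r t) hval
  · refine ⟨i, ?_⟩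
    rw [GZ, hα' i]
    simp only [Ne.symm hi1, hui, hvi, ↓reduceIte]
    norm_num
  · rw [hm0, hm1]
    norm_num
  · rw [hm0]
    rintro ⟨h, -⟩
    norm_num at h
  · intro _ l hl
    obtain ⟨hl0, hl1, hlr, hlt⟩ := hl
    have hul : u ≠ l := by rcases hu with rfl | rfl <;> exact Ne.symm ‹_›
    have hvl : v ≠ l := by rcases hv with rfl | rfl <;> exact Ne.symm ‹_›
    rw [GZ, GZ, hα' l]
    simp only [Ne.symm hl1, hul, hvl, ↓reduceIte]
    split_ifs <;> norm_num


variable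
    (hP1 : α ≠ dv t s0) (hP2a : α ≠ dv s1 s0) (hP2b : α ≠ dv r s0)
    (hP2c : ∀ b, IsMid s0 s1 r t b → α ≠ dv b s0)
    (hP3 : α ≠ dv t s1) (hP4 : α ≠ dv r s1) (hP5 : ∀ b, IsMid s0 s1 r t b → α ≠ dv b s1)
    (hP6 : ∀ a, IsMid s0 s1 r t a → α ≠ dv t a) (hP7 : ∀ a, IsMid s0 s1 r t a → α ≠ dv r a)
    (hP8 : α ≠ dv t r) (hP9 : α ≠ dq s1 t s0 r) (hP10a : α ≠ dq s0 t s1 s1)
    (hP10b : ∀ j, IsMid s0 s1 r t j → α ≠ dq s0 t s1 j)

include h01 h0r h0t h1r h1t hrt hP1 hP3 hP6 hP8 hP10a hP10b in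
/-- an active generator with standard target `x_{s0} x_v`: the multidegree is listed -/
lemma auxA (a i v : Fin (n + 1))
    (hai : (a = s0 ∧ i ≠ t) ∨ (a = s1 ∧ i ≠ s0 ∧ i ≠ r ∧ i ≠ t))
    (hα' : ∀ l, α l = (if s0 = l then 1 else 0) + (if v = l then 1 else 0) -
      (if a = l then 1 else 0) - (if i = l then 1 else 0))
    (hnot : ¬ inI s0 s1 r t (fun l => ((if s0 = l then 1 else 0) + (if v = l then 1 else 0) : ℤ))) :
    False := by
  have e1 := h01.symm
  have e2 := h0r.symm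
  have e3 := h0t.symm
  have e4 := h1r.symm
  have e5 := h1t.symm
  have e6 := hrt.symm
  have hv : v = t := by
    by_contra hvt
    apply hnot
    unfold inI
    by_cases hv0 : v = s0
    · left
      subst v
      simp only [h01, e1, ↓reduceIte]
      norm_num
    by_cases hv1 : v = s1
    · left
      subst v
      simp only [h01, e1, ↓reduceIte]
      norm_num
    by_cases hvr : v = r
    · right; left
      subst v
      simp only [h0r, e2, ↓reduceIte]
      norm_num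
    · right; right
      refine ⟨?_, v, ⟨hv0, hv1, hvr, hvt⟩, ?_⟩
      · simp only [h01, hv0, hv1, ↓reduceIte]
        norm_num
      · simp only [↓reduceIte]
        split_ifs <;> norm_num
  subst v
  rcases hai with ⟨rfl, hit⟩ | ⟨rfl, hi0, hir, hit⟩
  · have hα2 : α = dv t i := by
      funext l
      rw [hα' l]
      unfold dv
      ring
    by_cases hi0 : i = a
    · subst i; exact hP1 hα2
    by_cases hi1 : i = s1
    · subst i; exact hP3 hα2
    by_cases hir : i = r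
    · subst i; exact hP8 hα2
    exact hP6 i ⟨hi0, hi1, hir, hit⟩ hα2
  · have hα2 : α = dq s0 t a i := by
      funext l
      rw [hα' l]
      rfl
    by_cases hi1 : i = a
    · subst i; exact hP10a hα2
    exact hP10b i ⟨hi0, hi1, hir, hit⟩ hα2


include h01 h0r h0t h1r h1t hrt hc hP1 hP2a hP2b hP3 hP4 hP6 hP7 hP9 in
/-- an active generator with standard target `x_{s1} x_v`: the multidegree is listed or the
coefficient is forced to vanish -/
lemma auxBC (a i v : Fin (n + 1))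
    (hai : (a = s0 ∧ i ≠ t) ∨ (a = s1 ∧ i ≠ s0 ∧ i ≠ r ∧ i ≠ t))
    (hα' : ∀ l, α l = (if s1 = l then 1 else 0) + (if v = l then 1 else 0) -
      (if a = l then 1 else 0) - (if i = l then 1 else 0))
    (hnot : ¬ inI s0 s1 r t (fun l => ((if s1 = l then 1 else 0) + (if v = l then 1 else 0) : ℤ)))
    (hval : ∀ l, 0 ≤ (G (⟨(a, i), hai⟩ : Idx s0 s1 r t) l : ℤ) + α l) :
    c ⟨(a, i), hai⟩ = 0 := by
  have e1 := h01.symm
  have e2 := h0r.symm
  have e3 := h0t.symm
  have e4 := h1r.symm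
  have e5 := h1t.symm
  have e6 := hrt.symm
  have hv : v = r ∨ v = t := by
    by_contra hv
    push Not at hv
    apply hnot
    unfold inI
    by_cases hv0 : v = s0
    · left
      subst v
      simp only [h01, e1, ↓reduceIte]
      norm_num
    by_cases hv1 : v = s1
    · left
      subst v
      simp only [h01, e1, ↓reduceIte]
      norm_num
    · right; right
      refine ⟨?_, v, ⟨hv0, hv1, hv.1, hv.2⟩, ?_⟩
      · simp only [e1, hv0, hv1, ↓reduceIte]
        norm_num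
      · simp only [↓reduceIte]
        split_ifs <;> norm_num
  rcases hai with ⟨ha, hit⟩ | ⟨ha, hi0, hir, hit⟩
  · subst a
    by_cases hi1 : i = s1
    · subst i
      exfalso
      have hα2 : α = dv v s0 := by
        funext l
        rw [hα' l]
        unfold dv
        ring
      rcases hv with rfl | rfl
      · exact hP2b hα2
      · exact hP1 hα2
    by_cases hir : i = r
    · subst i
      exfalso
      rcases hv with hv | hv
      · subst v
        apply hP2a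
        funext l
        rw [hα' l]
        unfold dv
        ring
      · subst v
        apply hP9
        funext l
        rw [hα' l]
        rfl
    exact fz_hub h01 h0r h0t h1r h1t hrt α c hc i v hit hi1 hir hv hα' hval
  · subst a
    exfalso
    have hα2 : α = dv v i := by
      funext l
      rw [hα' l]
      unfold dv
      ring
    by_cases hi1 : i = s1
    · subst i
      rcases hv with rfl | rfl
      · exact hP4 hα2
      · exact hP3 hα2
    · rcases hv with rfl | rfl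
      · exact hP7 i ⟨hi0, hi1, hir, hit⟩ hα2
      · exact hP6 i ⟨hi0, hi1, hir, hit⟩ hα2

include h01 h0r h0t h1r h1t hrt hP1 hP2b hP2c hP3 hP4 hP5 in
/-- an active generator `x_a x_i` with standard target `x_i x_v`, `v ∉ {s0, s1}`: the multidegree is
listed -/
lemma aux2 (a i v : Fin (n + 1))
    (hai : (a = s0 ∧ i ≠ t) ∨ (a = s1 ∧ i ≠ s0 ∧ i ≠ r ∧ i ≠ t))
    (hv0 : v ≠ s0) (hv1 : v ≠ s1)
    (hα' : ∀ l, α l = (if i = l then 1 else 0) + (if v = l then 1 else 0) -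
      (if a = l then 1 else 0) - (if i = l then 1 else 0)) : False := by
  have hα2 : α = dv v a := by
    funext l
    rw [hα' l]
    unfold dv
    ring
  rcases hai with ⟨ha, hit⟩ | ⟨ha, hi0, hir, hit⟩
  · subst a
    by_cases hvt : v = t
    · subst v; exact hP1 hα2
    by_cases hvr : v = r
    · subst v; exact hP2b hα2
    exact hP2c v ⟨hv0, hv1, hvr, hvt⟩ hα2
  · subst a
    by_cases hvt : v = t
    · subst v; exact hP3 hα2
    by_cases hvr : v = r
    · subst v; exact hP4 hα2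
    exact hP5 v ⟨hv0, hv1, hvr, hvt⟩ hα2


omit c hc in
include h01 h0r h0t h1r h1t hrt hP1 hP2a hP2b hP2c hP3 hP4 hP5 hP6 hP7 hP8 hP9 hP10a hP10b in
/-- all the pieces of total degree zero whose multidegree is not listed vanish -/
theorem tPiece_eq_bot (hmid : ∃ l, IsMid s0 s1 r t l) (hα : ∑ l, α l = 0) :
    tPiece (J k s0 s1 r t) α = ⊥ := by
  classical
  apply tPiece_eq_bot_of_W (hI k s0 s1 r t) (hG k s0 s1 r t)
  intro c hc
  funext q
  show c q = 0
  by_cases hact : Act G (J k s0 s1 r t) α q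
  swap
  · exact hc.1 q hact
  have hact' := (act_iff' h01 h0r h0t h1r h1t hrt α q).mp hact
  obtain ⟨hval, hnot⟩ := hact'
  have hsum : ∑ l, ((G q l : ℤ) + α l) = 2 := by
    rw [Finset.sum_add_distrib, sum_G, hα, add_zero]
  obtain ⟨u, v, huv⟩ := exists_two_of_sum_eq_two _ hval hsum
  have hfun : (fun l => (G q l : ℤ) + α l) =
      fun l => ((if u = l then 1 else 0) + (if v = l then 1 else 0) : ℤ) := funext huv
  rw [hfun] at hnot
  have hfun' : (fun l => ((if u = l then 1 else 0) + (if v = l then 1 else 0) : ℤ)) =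
      fun l => ((if v = l then 1 else 0) + (if u = l then 1 else 0) : ℤ) := by
    funext l
    ring
  obtain ⟨⟨a, i⟩, hai⟩ := q
  simp only at hai
  have hα' : ∀ l, α l = (if u = l then 1 else 0) + (if v = l then 1 else 0) -
      (if a = l then 1 else 0) - (if i = l then 1 else 0) := by
    intro l
    have := huv l
    rw [GZ] at this
    simp only at this
    linarith
  have hα'' : ∀ l, α l = (if v = l then 1 else 0) + (if u = l then 1 else 0) -
      (if a = l then 1 else 0) - (if i = l then 1 else 0) := by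
    intro l
    rw [hα' l]
    ring
  by_cases hu0 : u = s0
  · subst u
    exact (auxA h01 h0r h0t h1r h1t hrt α hP1 hP3 hP6 hP8 hP10a hP10b a i v hai hα' hnot).elim
  by_cases hv0 : v = s0
  · subst v
    rw [hfun'] at hnot
    exact (auxA h01 h0r h0t h1r h1t hrt α hP1 hP3 hP6 hP8 hP10a hP10b a i u hai hα'' hnot).elim
  by_cases hu1 : u = s1
  · subst u
    exact auxBC h01 h0r h0t h1r h1t hrt α c hc hP1 hP2a hP2b hP3 hP4 hP6 hP7 hP9 a i v hai hα' hnot
      hval
  by_cases hv1 : v = s1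
  · subst v
    rw [hfun'] at hnot
    exact auxBC h01 h0r h0t h1r h1t hrt α c hc hP1 hP2a hP2b hP3 hP4 hP6 hP7 hP9 a i u hai hα'' hnot
      hval
  by_cases hiu : i = u
  · subst u
    exact (aux2 h01 h0r h0t h1r h1t hrt α hP1 hP2b hP2c hP3 hP4 hP5 a i v hai hv0 hv1 hα').elim
  by_cases hiv : i = v
  · subst v
    exact (aux2 h01 h0r h0t h1r h1t hrt α hP1 hP2b hP2c hP3 hP4 hP5 a i u hai hu0 hu1 hα'').elim
  -- forced zero
  have e1 := h01.symm
  have e2 := h0r.symm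
  obtain ⟨w0, hw0⟩ := hmid
  rcases hai with ⟨ha, hit⟩ | ⟨ha, hi0, hir, hit⟩
  · subst a
    by_cases hir : i = r
    · subst i
      exact fz_high h01 h0r h0t h1r h1t hrt α c hc s0 r u v w0 _ (Or.inl ⟨rfl, hw0.2.2.2⟩)
        hu0 hu1 hv0 hv1 hw0.1 hw0.2.1 hw0.2.2.1 hiu hiv hα' hval
    · exact fz_high h01 h0r h0t h1r h1t hrt α c hc s0 i u v r _ (Or.inl ⟨rfl, hrt⟩)
        hu0 hu1 hv0 hv1 e2 (Ne.symm h1r) (Ne.symm hir) hiu hiv hα' hval
  · subst a
    by_cases hw : ∃ w, IsMid s0 s1 r t w ∧ w ≠ i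
    · obtain ⟨w, ⟨hw0', hw1', hwr', hwt'⟩, hwi⟩ := hw
      exact fz_high h01 h0r h0t h1r h1t hrt α c hc s1 i u v w _
        (Or.inr ⟨rfl, hw0', hwr', hwt'⟩) hu0 hu1 hv0 hv1 hw0' hw1' hwi hiu hiv hα' hval
    · push Not at hw
      have hiw : w0 = i := hw w0 hw0
      subst hiw
      have hu : u = r ∨ u = t := by
        by_contra hu
        push Not at hu
        exact hiu (hw u ⟨hu0, hu1, hu.1, hu.2⟩).symm
      have hv : v = r ∨ v = t := by
        by_contra hv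
        push Not at hv
        exact hiv (hw v ⟨hv0, hv1, hv.1, hv.2⟩).symm
      exact fz_s1s1 h01 h0r h0t h1r h1t hrt α c hc w0 u v hw0 hu hv hα' hval

end vanish

end Groth.Agent.S13448
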