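import Groth.Agent.Lib.Seat60S13448d

/-! Seat60: the dimension count of the degree-zero part of `T(I)` for the ideal of
`Seat60S13448a`. -/

set_option autoImplicit false
set_option linter.unusedVariables false
set_option linter.unusedSectionVars false
set_option linter.unusedSimpArgs false
universe u
open W4c1hilbpn MvPolynomial
open Groth.Agent.Lib.Seat60.Hom0
open Groth.Agent.S13449 (dv dq pair_le dv_self_right dv_self_left dv_other dq_apply sum_dv sum_dq
  dv_inj dq_inj)

namespace Groth.Agent.S13448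

variable {k : Type u} [Field k] {n : ℕ} {s0 s1 r t : Fin (n + 1)}
variable (h01 : s0 ≠ s1) (h0r : s0 ≠ r) (h0t : s0 ≠ t) (h1r : s1 ≠ r) (h1t : s1 ≠ t) (hrt : r ≠ t)

section sums

variable {M : Type*} [AddCommMonoid M]

lemma sum_univ_nine (f : Fin 9 → M) :
    ∑ i, f i = f 0 + f 1 + f 2 + f 3 + f 4 + f 5 + f 6 + f 7 + f 8 := by
  rw [Fin.sum_univ_castSucc, Fin.sum_univ_eight]
  rfl

lemma sum_univ_ten (f : Fin 10 → M) :
    ∑ i, f i = f 0 + f 1 + f 2 + f 3 + f 4 + f 5 + f 6 + f 7 + f 8 + f 9 := by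
  rw [Fin.sum_univ_castSucc, sum_univ_nine]
  rfl

lemma sum_univ_eleven (f : Fin 11 → M) :
    ∑ i, f i = f 0 + f 1 + f 2 + f 3 + f 4 + f 5 + f 6 + f 7 + f 8 + f 9 + f 10 := by
  rw [Fin.sum_univ_castSucc, sum_univ_ten]
  rfl

lemma sum_univ_twelve (f : Fin 12 → M) :
    ∑ i, f i = f 0 + f 1 + f 2 + f 3 + f 4 + f 5 + f 6 + f 7 + f 8 + f 9 + f 10 + f 11 := by
  rw [Fin.sum_univ_castSucc, sum_univ_eleven]
  rfl

end sums

/-- the code separating the families of multidegrees -/
def code (s0 s1 r t : Fin (n + 1)) (α : Fin (n + 1) → ℤ) : ℤ × ℤ × ℤ × ℤ :=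
  (α s0, max (α s1) (-1), α r, α t)

/-- the values of the code on the twelve families -/
def codeVal : Fin 12 → ℤ × ℤ × ℤ × ℤ :=
  ![(-1, 0, 0, 1), (-1, 1, 0, 0), (-1, 0, 1, 0), (-1, 0, 0, 0), (0, -1, 0, 1), (0, -1, 1, 0),
    (0, -1, 0, 0), (0, 0, 0, 1), (0, 0, 1, 0), (0, 0, -1, 1), (-1, 1, -1, 1), (1, -1, 0, 1)]

lemma codeVal_inj : Function.Injective codeVal := by
  decide

open Classical in
/-- the middle indices -/
noncomputable def Mid (s0 s1 r t : Fin (n + 1)) : Finset (Fin (n + 1)) :=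
  Finset.univ.filter (fun l => IsMid s0 s1 r t l)

lemma mem_Mid (l : Fin (n + 1)) : l ∈ Mid s0 s1 r t ↔ IsMid s0 s1 r t l := by
  unfold Mid
  simp only [Finset.mem_filter, Finset.mem_univ, true_and]

include h01 h0r h0t h1r h1t hrt in
lemma card_Mid : (Mid s0 s1 r t).card = n - 3 := by
  classical
  have h : Mid s0 s1 r t = Finset.univ \ {s0, s1, r, t} := by
    ext l
    rw [mem_Mid]
    simp only [IsMid, Finset.mem_sdiff, Finset.mem_univ, true_and, Finset.mem_insert,
      Finset.mem_singleton, not_or]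
  rw [h, Finset.card_sdiff_of_subset (Finset.subset_univ _), Finset.card_univ, Fintype.card_fin]
  have : ({s0, s1, r, t} : Finset (Fin (n + 1))).card = 4 := by
    rw [Finset.card_insert_of_notMem, Finset.card_insert_of_notMem, Finset.card_insert_of_notMem,
      Finset.card_singleton]
    · simpa using hrt
    · simp only [Finset.mem_insert, Finset.mem_singleton, not_or]
      exact ⟨h1r, h1t⟩
    · simp only [Finset.mem_insert, Finset.mem_singleton, not_or]
      exact ⟨h01, h0r, h0t⟩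
  rw [this]
  omega

open Classical in
/-- the twelve families of multidegrees -/
noncomputable def fam (s0 s1 r t : Fin (n + 1)) : Fin 12 → Finset (Fin (n + 1) → ℤ) :=
  ![{dv t s0}, {dv s1 s0}, {dv r s0}, (Mid s0 s1 r t).image (fun b => dv b s0),
    {dv t s1}, {dv r s1}, (Mid s0 s1 r t).image (fun b => dv b s1),
    (Mid s0 s1 r t).image (fun a => dv t a), (Mid s0 s1 r t).image (fun a => dv r a),
    {dv t r}, {dq s1 t s0 r}, (insert s1 (Mid s0 s1 r t)).image (fun j => dq s0 t s1 j)]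

lemma fam0 : fam s0 s1 r t 0 = {dv t s0} := rfl
lemma fam1 : fam s0 s1 r t 1 = {dv s1 s0} := rfl
lemma fam2 : fam s0 s1 r t 2 = {dv r s0} := rfl
open Classical in
lemma fam3 : fam s0 s1 r t 3 = (Mid s0 s1 r t).image (fun b => dv b s0) := rfl
lemma fam4 : fam s0 s1 r t 4 = {dv t s1} := rfl
lemma fam5 : fam s0 s1 r t 5 = {dv r s1} := rfl
open Classical in
lemma fam6 : fam s0 s1 r t 6 = (Mid s0 s1 r t).image (fun b => dv b s1) := rfl
open Classical in
lemma fam7 : fam s0 s1 r t 7 = (Mid s0 s1 r t).image (fun a => dv t a) := rfl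
open Classical in
lemma fam8 : fam s0 s1 r t 8 = (Mid s0 s1 r t).image (fun a => dv r a) := rfl
lemma fam9 : fam s0 s1 r t 9 = {dv t r} := rfl
lemma fam10 : fam s0 s1 r t 10 = {dq s1 t s0 r} := rfl
open Classical in
lemma fam11 : fam s0 s1 r t 11 = (insert s1 (Mid s0 s1 r t)).image (fun j => dq s0 t s1 j) := rfl


include h01 h0r h0t h1r h1t hrt in
lemma code_fam (j : Fin 12) (α : Fin (n + 1) → ℤ) (hα : α ∈ fam s0 s1 r t j) :
    code s0 s1 r t α = codeVal j := by
  classical
  have e1 := h01.symm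
  have e2 := h0r.symm
  have e3 := h0t.symm
  have e4 := h1r.symm
  have e5 := h1t.symm
  have e6 := hrt.symm
  fin_cases j
  · change α ∈ fam s0 s1 r t 0 at hα
    rw [fam0, Finset.mem_singleton] at hα
    subst hα
    show code s0 s1 r t _ = ((-1 : ℤ), (0 : ℤ), (0 : ℤ), (1 : ℤ))
    simp only [code, dv_apply, dq_apply, h01, h0r, h0t, h1r, h1t, hrt, e1, e2, e3, e4, e5, e6, ↓reduceIte]
    norm_num
  · change α ∈ fam s0 s1 r t 1 at hα
    rw [fam1, Finset.mem_singleton] at hα
    subst hα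
    show code s0 s1 r t _ = ((-1 : ℤ), (1 : ℤ), (0 : ℤ), (0 : ℤ))
    simp only [code, dv_apply, dq_apply, h01, h0r, h0t, h1r, h1t, hrt, e1, e2, e3, e4, e5, e6, ↓reduceIte]
    norm_num
  · change α ∈ fam s0 s1 r t 2 at hα
    rw [fam2, Finset.mem_singleton] at hα
    subst hα
    show code s0 s1 r t _ = ((-1 : ℤ), (0 : ℤ), (1 : ℤ), (0 : ℤ))
    simp only [code, dv_apply, dq_apply, h01, h0r, h0t, h1r, h1t, hrt, e1, e2, e3, e4, e5, e6, ↓reduceIte]
    norm_num
  · change α ∈ fam s0 s1 r t 3 at hα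
    rw [fam3, Finset.mem_image] at hα
    obtain ⟨b, hb, rfl⟩ := hα
    rw [mem_Mid] at hb
    obtain ⟨hb0, hb1, hbr, hbt⟩ := hb
    show code s0 s1 r t _ = ((-1 : ℤ), (0 : ℤ), (0 : ℤ), (0 : ℤ))
    simp only [code, dv_apply, dq_apply, h01, h0r, h0t, h1r, h1t, hrt, e1, e2, e3, e4, e5, e6, hb0, hb1, hbr, hbt, ↓reduceIte]
    norm_num
  · change α ∈ fam s0 s1 r t 4 at hα
    rw [fam4, Finset.mem_singleton] at hα
    subst hα
    show code s0 s1 r t _ = ((0 : ℤ), (-1 : ℤ), (0 : ℤ), (1 : ℤ))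
    simp only [code, dv_apply, dq_apply, h01, h0r, h0t, h1r, h1t, hrt, e1, e2, e3, e4, e5, e6, ↓reduceIte]
    norm_num
  · change α ∈ fam s0 s1 r t 5 at hα
    rw [fam5, Finset.mem_singleton] at hα
    subst hα
    show code s0 s1 r t _ = ((0 : ℤ), (-1 : ℤ), (1 : ℤ), (0 : ℤ))
    simp only [code, dv_apply, dq_apply, h01, h0r, h0t, h1r, h1t, hrt, e1, e2, e3, e4, e5, e6, ↓reduceIte]
    norm_num
  · change α ∈ fam s0 s1 r t 6 at hα
    rw [fam6, Finset.mem_image] at hα
    obtain ⟨b, hb, rfl⟩ := hα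
    rw [mem_Mid] at hb
    obtain ⟨hb0, hb1, hbr, hbt⟩ := hb
    show code s0 s1 r t _ = ((0 : ℤ), (-1 : ℤ), (0 : ℤ), (0 : ℤ))
    simp only [code, dv_apply, dq_apply, h01, h0r, h0t, h1r, h1t, hrt, e1, e2, e3, e4, e5, e6, hb0, hb1, hbr, hbt, ↓reduceIte]
    norm_num
  · change α ∈ fam s0 s1 r t 7 at hα
    rw [fam7, Finset.mem_image] at hα
    obtain ⟨b, hb, rfl⟩ := hα
    rw [mem_Mid] at hb
    obtain ⟨hb0, hb1, hbr, hbt⟩ := hb
    show code s0 s1 r t _ = ((0 : ℤ), (0 : ℤ), (0 : ℤ), (1 : ℤ))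
    simp only [code, dv_apply, dq_apply, h01, h0r, h0t, h1r, h1t, hrt, e1, e2, e3, e4, e5, e6, hb0, hb1, hbr, hbt, ↓reduceIte]
    norm_num
  · change α ∈ fam s0 s1 r t 8 at hα
    rw [fam8, Finset.mem_image] at hα
    obtain ⟨b, hb, rfl⟩ := hα
    rw [mem_Mid] at hb
    obtain ⟨hb0, hb1, hbr, hbt⟩ := hb
    show code s0 s1 r t _ = ((0 : ℤ), (0 : ℤ), (1 : ℤ), (0 : ℤ))
    simp only [code, dv_apply, dq_apply, h01, h0r, h0t, h1r, h1t, hrt, e1, e2, e3, e4, e5, e6, hb0, hb1, hbr, hbt, ↓reduceIte]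
    norm_num
  · change α ∈ fam s0 s1 r t 9 at hα
    rw [fam9, Finset.mem_singleton] at hα
    subst hα
    show code s0 s1 r t _ = ((0 : ℤ), (0 : ℤ), (-1 : ℤ), (1 : ℤ))
    simp only [code, dv_apply, dq_apply, h01, h0r, h0t, h1r, h1t, hrt, e1, e2, e3, e4, e5, e6, ↓reduceIte]
    norm_num
  · change α ∈ fam s0 s1 r t 10 at hα
    rw [fam10, Finset.mem_singleton] at hα
    subst hα
    show code s0 s1 r t _ = ((-1 : ℤ), (1 : ℤ), (-1 : ℤ), (1 : ℤ))
    simp only [code, dv_apply, dq_apply, h01, h0r, h0t, h1r, h1t, hrt, e1, e2, e3, e4, e5, e6, ↓reduceIte]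
    norm_num
  · change α ∈ fam s0 s1 r t 11 at hα
    rw [fam11, Finset.mem_image] at hα
    obtain ⟨b, hb, rfl⟩ := hα
    rw [Finset.mem_insert, mem_Mid] at hb
    show code s0 s1 r t _ = ((1 : ℤ), (-1 : ℤ), (0 : ℤ), (1 : ℤ))
    rcases hb with rfl | ⟨hb0, hb1, hbr, hbt⟩
    · simp only [code, dv_apply, dq_apply, h01, h0r, h0t, h1r, h1t, hrt, e1, e2, e3, e4, e5, e6, ↓reduceIte]
      norm_num
    · simp only [code, dv_apply, dq_apply, h01, h0r, h0t, h1r, h1t, hrt, e1, e2, e3, e4, e5, e6, hb0, hb1, hbr, hbt, ↓reduceIte]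
      norm_num


include h01 h0r h0t h1r h1t hrt in
theorem main_abs (hmid : ∃ l, IsMid s0 s1 r t l) :
    Module.finrank k ↥(⨆ α : {α : Fin (n + 1) → ℤ // ∑ i, α i = 0},
      tPiece (J k s0 s1 r t) α.1) = 12 + 6 * (Mid s0 s1 r t).card := by
  classical
  set L := (Finset.univ : Finset (Fin 12)).biUnion (fam s0 s1 r t) with hL
  have hmemL : ∀ (j : Fin 12) α, α ∈ fam s0 s1 r t j → α ∈ L := by
    intro j α h
    rw [hL, Finset.mem_biUnion]
    exact ⟨j, Finset.mem_univ _, h⟩
  rw [finrank_hom0' (hI k s0 s1 r t) (hG k s0 s1 r t) L]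
  · rw [hL, Finset.sum_biUnion]
    · rw [sum_univ_twelve]
      have S0 : ∑ α ∈ fam s0 s1 r t 0, Module.finrank k ↥(tPiece (J k s0 s1 r t) α) = 2 := by
        rw [fam0, Finset.sum_singleton]
        exact finrank_P1 h01 h0r h0t h1r h1t hrt
      have S1 : ∑ α ∈ fam s0 s1 r t 1, Module.finrank k ↥(tPiece (J k s0 s1 r t) α) = 1 := by
        rw [fam1, Finset.sum_singleton]
        exact finrank_P2a h01 h0r h0t h1r h1t hrt
      have S2 : ∑ α ∈ fam s0 s1 r t 2, Module.finrank k ↥(tPiece (J k s0 s1 r t) α) = 1 := by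
        rw [fam2, Finset.sum_singleton]
        exact finrank_P2b h01 h0r h0t h1r h1t hrt
      have S3 : ∑ α ∈ fam s0 s1 r t 3, Module.finrank k ↥(tPiece (J k s0 s1 r t) α) = (Mid s0 s1 r t).card := by
        rw [fam3, Finset.sum_image]
        · rw [Finset.card_eq_sum_ones]
          apply Finset.sum_congr rfl
          intro b hb
          rw [mem_Mid] at hb
          exact finrank_P2c h01 h0r h0t h1r h1t hrt hb
        · intro b hb b' hb' h
          rw [Finset.mem_coe, mem_Mid] at hb hb'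
          exact (dv_inj (Ne.symm hb.1) (Ne.symm hb'.1) h).2
      have S4 : ∑ α ∈ fam s0 s1 r t 4, Module.finrank k ↥(tPiece (J k s0 s1 r t) α) = 3 := by
        rw [fam4, Finset.sum_singleton]
        exact finrank_P3 h01 h0r h0t h1r h1t hrt hmid
      have S5 : ∑ α ∈ fam s0 s1 r t 5, Module.finrank k ↥(tPiece (J k s0 s1 r t) α) = 2 := by
        rw [fam5, Finset.sum_singleton]
        exact finrank_P4 h01 h0r h0t h1r h1t hrt hmid
      have S6 : ∑ α ∈ fam s0 s1 r t 6, Module.finrank k ↥(tPiece (J k s0 s1 r t) α) = (Mid s0 s1 r t).card := by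
        rw [fam6, Finset.sum_image]
        · rw [Finset.card_eq_sum_ones]
          apply Finset.sum_congr rfl
          intro b hb
          rw [mem_Mid] at hb
          exact finrank_P5 h01 h0r h0t h1r h1t hrt hb
        · intro b hb b' hb' h
          rw [Finset.mem_coe, mem_Mid] at hb hb'
          exact (dv_inj (Ne.symm hb.2.1) (Ne.symm hb'.2.1) h).2
      have S7 : ∑ α ∈ fam s0 s1 r t 7, Module.finrank k ↥(tPiece (J k s0 s1 r t) α) = 2 * (Mid s0 s1 r t).card := by
        rw [fam7, Finset.sum_image]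
        · rw [Finset.card_eq_sum_ones, Finset.mul_sum]
          apply Finset.sum_congr rfl
          intro b hb
          rw [mem_Mid] at hb
          exact finrank_P6 h01 h0r h0t h1r h1t hrt hb
        · intro b hb b' hb' h
          rw [Finset.mem_coe, mem_Mid] at hb hb'
          exact (dv_inj hb.2.2.2 hb'.2.2.2 h).1
      have S8 : ∑ α ∈ fam s0 s1 r t 8, Module.finrank k ↥(tPiece (J k s0 s1 r t) α) = (Mid s0 s1 r t).card := by
        rw [fam8, Finset.sum_image]
        · rw [Finset.card_eq_sum_ones]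
          apply Finset.sum_congr rfl
          intro b hb
          rw [mem_Mid] at hb
          exact finrank_P7 h01 h0r h0t h1r h1t hrt hb
        · intro b hb b' hb' h
          rw [Finset.mem_coe, mem_Mid] at hb hb'
          exact (dv_inj hb.2.2.1 hb'.2.2.1 h).1
      have S9 : ∑ α ∈ fam s0 s1 r t 9, Module.finrank k ↥(tPiece (J k s0 s1 r t) α) = 1 := by
        rw [fam9, Finset.sum_singleton]
        exact finrank_P8 h01 h0r h0t h1r h1t hrt
      have S10 : ∑ α ∈ fam s0 s1 r t 10, Module.finrank k ↥(tPiece (J k s0 s1 r t) α) = 1 := by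
        rw [fam10, Finset.sum_singleton]
        exact finrank_P9 h01 h0r h0t h1r h1t hrt
      have S11 : ∑ α ∈ fam s0 s1 r t 11, Module.finrank k ↥(tPiece (J k s0 s1 r t) α) = (Mid s0 s1 r t).card + 1 := by
        rw [fam11, Finset.sum_image]
        · have hs1 : s1 ∉ Mid s0 s1 r t := by
            rw [mem_Mid]
            exact fun h => h.2.1 rfl
          rw [← Finset.card_insert_of_notMem hs1, Finset.card_eq_sum_ones]
          apply Finset.sum_congr rfl
          intro b hb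
          rw [Finset.mem_insert, mem_Mid] at hb
          rcases hb with rfl | hb
          · exact finrank_P10a h01 h0r h0t h1r h1t hrt
          · exact finrank_P10b h01 h0r h0t h1r h1t hrt hb
        · intro b hb b' hb' h
          exact dq_inj h
      rw [S0, S1, S2, S3, S4, S5, S6, S7, S8, S9, S10, S11]
      ring
    · intro i _ j _ hij
      rw [Function.onFun, Finset.disjoint_left]
      intro α h1 h2
      apply hij
      apply codeVal_inj
      rw [← code_fam h01 h0r h0t h1r h1t hrt i α h1, ← code_fam h01 h0r h0t h1r h1t hrt j α h2]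
  · intro α hα
    rw [hL, Finset.mem_biUnion] at hα
    obtain ⟨j, -, hj⟩ := hα
    fin_cases j <;> simp [fam] at hj
    · subst hj; exact sum_dv _ _
    · subst hj; exact sum_dv _ _
    · subst hj; exact sum_dv _ _
    · obtain ⟨b, -, rfl⟩ := hj; exact sum_dv _ _
    · subst hj; exact sum_dv _ _
    · subst hj; exact sum_dv _ _
    · obtain ⟨b, -, rfl⟩ := hj; exact sum_dv _ _
    · obtain ⟨b, -, rfl⟩ := hj; exact sum_dv _ _
    · obtain ⟨b, -, rfl⟩ := hj; exact sum_dv _ _
    · subst hj; exact sum_dv _ _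
    · subst hj; exact sum_dq _ _ _ _
    · rcases hj with rfl | ⟨b, -, rfl⟩ <;> exact sum_dq _ _ _ _
  · intro α hα hnotin
    apply tPiece_eq_bot h01 h0r h0t h1r h1t hrt α _ _ _ _ _ _ _ _ _ _ _ _ _ hmid hα
    · intro h
      exact hnotin (hmemL 0 α (by rw [fam0, h]; exact Finset.mem_singleton_self _))
    · intro h
      exact hnotin (hmemL 1 α (by rw [fam1, h]; exact Finset.mem_singleton_self _))
    · intro h
      exact hnotin (hmemL 2 α (by rw [fam2, h]; exact Finset.mem_singleton_self _))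
    · intro b hb h
      refine hnotin (hmemL 3 α ?_)
      rw [fam3, h]
      exact Finset.mem_image_of_mem _ ((mem_Mid b).mpr hb)
    · intro h
      exact hnotin (hmemL 4 α (by rw [fam4, h]; exact Finset.mem_singleton_self _))
    · intro h
      exact hnotin (hmemL 5 α (by rw [fam5, h]; exact Finset.mem_singleton_self _))
    · intro b hb h
      refine hnotin (hmemL 6 α ?_)
      rw [fam6, h]
      exact Finset.mem_image_of_mem _ ((mem_Mid b).mpr hb)
    · intro b hb h
      refine hnotin (hmemL 7 α ?_)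
      rw [fam7, h]
      exact Finset.mem_image_of_mem _ ((mem_Mid b).mpr hb)
    · intro b hb h
      refine hnotin (hmemL 8 α ?_)
      rw [fam8, h]
      exact Finset.mem_image_of_mem _ ((mem_Mid b).mpr hb)
    · intro h
      exact hnotin (hmemL 9 α (by rw [fam9, h]; exact Finset.mem_singleton_self _))
    · intro h
      exact hnotin (hmemL 10 α (by rw [fam10, h]; exact Finset.mem_singleton_self _))
    · intro h
      refine hnotin (hmemL 11 α ?_)
      rw [fam11, h]
      exact Finset.mem_image_of_mem _ (Finset.mem_insert_self _ _)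
    · intro b hb h
      refine hnotin (hmemL 11 α ?_)
      rw [fam11, h]
      exact Finset.mem_image_of_mem _ (Finset.mem_insert_of_mem ((mem_Mid b).mpr hb))

end Groth.Agent.S13448
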