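
import Groth.Agent.Lib.Seat60Hom0

set_option autoImplicit false
set_option linter.unusedVariables false
set_option linter.unusedSectionVars false
universe u
open W4c1hilbpn MvPolynomial
open Groth.Agent.Lib.Seat60.Hom0

namespace Groth.Agent.S13449

section abstract

variable {k : Type u} [Field k] {n : ℕ} (s0 s1 t : Fin (n + 1))

/-- index type of the generators `x_a x_i`, `a ∈ {s0, s1}`, `i ≠ t` -/
abbrev Idx : Type := {p : Fin (n + 1) × Fin (n + 1) // (p.1 = s0 ∨ p.1 = s1) ∧ p.2 ≠ t}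

variable {s0 s1 t}

/-- exponent vector of `x_a x_i` -/
noncomputable def G (p : Idx s0 s1 t) : Fin (n + 1) →₀ ℕ :=
  Finsupp.single p.1.1 1 + Finsupp.single p.1.2 1

lemma G_apply (p : Idx s0 s1 t) (l : Fin (n + 1)) :
    G p l = (if p.1.1 = l then 1 else 0) + (if p.1.2 = l then 1 else 0) := by
  unfold G
  rw [Finsupp.add_apply, Finsupp.single_apply, Finsupp.single_apply]

variable (k s0 s1 t)

/-- the ideal `(x_{s0}, x_{s1}) · (x_l : l ≠ t)` -/
noncomputable def J : Ideal (MvPolynomial (Fin (n + 1)) k) :=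
  Ideal.span {f : MvPolynomial (Fin (n + 1)) k | ∃ a i : Fin (n + 1), (a = s0 ∨ a = s1) ∧ i ≠ t ∧
        f = MvPolynomial.X a * MvPolynomial.X i}

lemma J_eq : J k s0 s1 t = monIdeal (G (s0 := s0) (s1 := s1) (t := t)) k := by
  unfold J monIdeal
  congr 1
  ext f
  constructor
  · rintro ⟨i, j, hi, hj, rfl⟩
    refine ⟨⟨(i, j), hi, hj⟩, ?_⟩
    show monomial (G _) (1 : k) = _
    unfold G
    rw [X, X, monomial_mul, one_mul]
  · rintro ⟨⟨⟨i, j⟩, hi, hj⟩, rfl⟩
    refine ⟨i, j, hi, hj, ?_⟩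
    show monomial (G _) (1 : k) = _
    unfold G
    rw [X, X, monomial_mul, one_mul]

lemma J_comm : J k s0 s1 t = J k s1 s0 t := by
  unfold J
  congr 1
  ext f
  constructor
  · rintro ⟨i, j, hi, hj, rfl⟩
    exact ⟨i, j, hi.symm, hj, rfl⟩
  · rintro ⟨i, j, hi, hj, rfl⟩
    exact ⟨i, j, hi.symm, hj, rfl⟩

lemma hI : IsMonomial (J k s0 s1 t) := by
  rw [J_eq]
  exact isMonomial_monIdeal _

lemma hG (β : Fin (n + 1) →₀ ℕ) : β ∈ exps (J k s0 s1 t) ↔ ∃ p : Idx s0 s1 t, G p ≤ β := by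
  rw [J_eq]
  exact mem_exps_monIdeal _ β

variable {k s0 s1 t}

/-- the multidegree `e_b - e_a` -/
def dv (b a : Fin (n + 1)) : Fin (n + 1) → ℤ :=
  fun l => (if b = l then 1 else 0) - (if a = l then 1 else 0)

/-- the multidegree `e_u + e_v - e_a - e_i` -/
def dq (u v a i : Fin (n + 1)) : Fin (n + 1) → ℤ :=
  fun l => (if u = l then 1 else 0) + (if v = l then 1 else 0) - (if a = l then 1 else 0) -
    (if i = l then 1 else 0)

variable (h01 : s0 ≠ s1) (h0t : s0 ≠ t) (h1t : s1 ≠ t)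

include h0t h1t in
lemma G_t (p : Idx s0 s1 t) : G p t = 0 := by
  obtain ⟨⟨a, i⟩, ha, hi⟩ := p
  simp only at ha hi
  rw [G_apply]
  simp only
  split_ifs <;> omega

include h01 in
lemma G_bounds (p : Idx s0 s1 t) : 1 ≤ G p s0 + G p s1 ∧ G p s0 + G p s1 ≤ 2 := by
  obtain ⟨⟨a, i⟩, ha, hi⟩ := p
  simp only at ha hi
  rw [G_apply, G_apply]
  simp only
  split_ifs <;> omega

/-- `l` is a middle index -/
def IsMid (s0 s1 t l : Fin (n + 1)) : Prop := l ≠ s0 ∧ l ≠ s1 ∧ l ≠ t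

include h01 in
lemma G_mid (p : Idx s0 s1 t) {l : Fin (n + 1)} (hl : IsMid s0 s1 t l) :
    G p l = if p.1.2 = l then 1 else 0 := by
  obtain ⟨⟨a, i⟩, ha, hi⟩ := p
  obtain ⟨hl0, hl1, hlt⟩ := hl
  simp only at ha hi
  rw [G_apply]
  simp only
  split_ifs <;> omega

include h01 in
lemma mid_iff (p : Idx s0 s1 t) :
    (∃ l, IsMid s0 s1 t l ∧ 1 ≤ G p l) ↔ G p s0 + G p s1 = 1 := by
  obtain ⟨⟨a, i⟩, ha, hi⟩ := p
  simp only at ha hi
  constructor
  · rintro ⟨l, ⟨hl0, hl1, hlt⟩, hl⟩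
    rw [G_apply] at hl
    rw [G_apply, G_apply]
    simp only at hl ⊢
    split_ifs at hl ⊢ <;> omega
  · intro h
    refine ⟨i, ⟨?_, ?_, hi⟩, ?_⟩
    · intro hi0
      rw [G_apply, G_apply] at h
      simp only at h
      split_ifs at h <;> omega
    · intro hi1
      rw [G_apply, G_apply] at h
      simp only at h
      split_ifs at h <;> omega
    · rw [G_apply]
      simp only
      split_ifs <;> omega

lemma pair_le (a i : Fin (n+1)) (m : Fin (n+1) → ℤ) (hm : ∀ l, 0 ≤ m l)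
    (h : if a = i then 2 ≤ m a else (1 ≤ m a ∧ 1 ≤ m i)) (l : Fin (n+1)) :
    ((if a = l then 1 else 0) + (if i = l then 1 else 0) : ℤ) ≤ m l := by
  have h4 := hm l
  by_cases e : a = l
  · subst e
    by_cases e' : i = a
    · subst e'
      rw [if_pos rfl] at h
      rw [if_pos rfl]
      omega
    · rw [if_neg (Ne.symm e')] at h
      rw [if_pos rfl, if_neg e']
      omega
  by_cases e' : i = l
  · subst e'
    rw [if_neg e] at h
    rw [if_neg e, if_pos rfl]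
    omega
  rw [if_neg e, if_neg e']
  omega

/-- membership of a nonnegative integer vector in the exponent set, in coordinates -/
def inI (s0 s1 t : Fin (n + 1)) (m : Fin (n + 1) → ℤ) : Prop :=
  2 ≤ m s0 + m s1 ∨ (1 ≤ m s0 + m s1 ∧ ∃ l, IsMid s0 s1 t l ∧ 1 ≤ m l)

include h01 h0t h1t in
lemma exists_le_iff (m : Fin (n + 1) → ℤ) (hm : ∀ l, 0 ≤ m l) :
    (∃ p : Idx s0 s1 t, ∀ l, (G p l : ℤ) ≤ m l) ↔ inI s0 s1 t m := by
  constructor
  · rintro ⟨⟨⟨a, i⟩, ha, hi⟩, h⟩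
    simp only at ha hi
    have e0 := h s0
    have e1 := h s1
    have e2 := h i
    simp only [G_apply] at e0 e1 e2
    push_cast at e0 e1 e2
    by_cases hmid : IsMid s0 s1 t i
    · right
      obtain ⟨hi0, hi1, _⟩ := hmid
      refine ⟨?_, i, ⟨hi0, hi1, hi⟩, ?_⟩
      · split_ifs at e0 e1 <;> omega
      · split_ifs at e2 <;> omega
    · left
      unfold IsMid at hmid
      have : i = s0 ∨ i = s1 := by
        by_contra hcon
        push Not at hcon
        exact hmid ⟨hcon.1, hcon.2, hi⟩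
      split_ifs at e0 e1 <;> omega
  · rintro (h | ⟨h, l, ⟨hl0, hl1, hlt⟩, hl⟩)
    · have := hm s0
      have := hm s1
      by_cases h2 : 2 ≤ m s0
      · refine ⟨⟨(s0, s0), Or.inl rfl, h0t⟩, fun l => ?_⟩
        rw [G_apply]
        push_cast
        exact pair_le s0 s0 m hm (by rw [if_pos rfl]; exact h2) l
      by_cases h3 : 2 ≤ m s1
      · refine ⟨⟨(s1, s1), Or.inr rfl, h1t⟩, fun l => ?_⟩
        rw [G_apply]
        push_cast
        exact pair_le s1 s1 m hm (by rw [if_pos rfl]; exact h3) l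
      · refine ⟨⟨(s0, s1), Or.inl rfl, h1t⟩, fun l => ?_⟩
        rw [G_apply]
        push_cast
        exact pair_le s0 s1 m hm (by rw [if_neg h01]; constructor <;> omega) l
    · have := hm s0
      have := hm s1
      by_cases h2 : 1 ≤ m s0
      · refine ⟨⟨(s0, l), Or.inl rfl, hlt⟩, fun l' => ?_⟩
        rw [G_apply]
        push_cast
        exact pair_le s0 l m hm (by rw [if_neg (Ne.symm hl0)]; exact ⟨h2, hl⟩) l'
      · refine ⟨⟨(s1, l), Or.inr rfl, hlt⟩, fun l' => ?_⟩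
        rw [G_apply]
        push_cast
        exact pair_le s1 l m hm (by rw [if_neg (Ne.symm hl1)]; exact ⟨by omega, hl⟩) l'

include h01 h0t h1t in
lemma act_iff' (α : Fin (n + 1) → ℤ) (p : Idx s0 s1 t) :
    Act G (J k s0 s1 t) α p ↔ (∀ l, 0 ≤ (G p l : ℤ) + α l) ∧
      ¬ inI s0 s1 t (fun l => (G p l : ℤ) + α l) := by
  rw [act_iff (hG k s0 s1 t)]
  constructor
  · rintro ⟨h1, h2⟩
    exact ⟨h1, fun h => h2 ((exists_le_iff h01 h0t h1t _ h1).mpr h)⟩
  · rintro ⟨h1, h2⟩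
    exact ⟨h1, fun h => h2 ((exists_le_iff h01 h0t h1t _ h1).mp h)⟩

include h01 h0t h1t in
lemma conn_iff' (α : Fin (n + 1) → ℤ) (p q : Idx s0 s1 t) :
    Conn G (J k s0 s1 t) α p q ↔ (∀ l, 0 ≤ (max (G p l) (G q l) : ℤ) + α l) ∧
      ¬ inI s0 s1 t (fun l => (max (G p l) (G q l) : ℤ) + α l) := by
  rw [conn_iff (hG k s0 s1 t)]
  constructor
  · rintro ⟨h1, h2⟩
    exact ⟨h1, fun h => h2 ((exists_le_iff h01 h0t h1t _ h1).mpr h)⟩
  · rintro ⟨h1, h2⟩
    exact ⟨h1, fun h => h2 ((exists_le_iff h01 h0t h1t _ h1).mp h)⟩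

end abstract

end Groth.Agent.S13449
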