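import Groth.Agent.Lib.Seat60S13449a
import Groth.Agent.Lib.Seat60Hom0Key

set_option autoImplicit false
set_option linter.unusedVariables false
set_option linter.unusedSectionVars false
set_option linter.unusedSimpArgs false
universe u
open W4c1hilbpn MvPolynomial
open Groth.Agent.Lib.Seat60.Hom0

namespace Groth.Agent.S13449

variable {k : Type u} [Field k] {n : ℕ} {s0 s1 t : Fin (n + 1)}
variable (h01 : s0 ≠ s1) (h0t : s0 ≠ t) (h1t : s1 ≠ t)

lemma GZ (p : Idx s0 s1 t) (l : Fin (n + 1)) :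
    (G p l : ℤ) = (if p.1.1 = l then 1 else 0) + (if p.1.2 = l then 1 else 0) := by
  rw [G_apply]
  push_cast
  rfl

lemma not_inI_iff (m : Fin (n + 1) → ℤ) : ¬ inI s0 s1 t m ↔
    m s0 + m s1 ≤ 1 ∧ (1 ≤ m s0 + m s1 → ∀ l, IsMid s0 s1 t l → m l ≤ 0) := by
  unfold inI
  constructor
  · intro h
    push Not at h
    refine ⟨by omega, fun h1 l hl => ?_⟩
    have := h.2 h1 l hl
    omega
  · rintro ⟨h1, h2⟩
    rintro (h | ⟨h3, l, hl, hl'⟩)
    · omega
    · have := h2 h3 l hl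
      omega

lemma act_iff_conn_self (α : Fin (n + 1) → ℤ) (p : Idx s0 s1 t) :
    Act G (J k s0 s1 t) α p ↔ Conn G (J k s0 s1 t) α p p := by
  unfold Act Conn
  rw [sup_idem]

include h01 h0t h1t in
/-- the profile of a generator: its exponents at `s0`, `s1` and at a further index `c` -/
lemma prof {c : Fin (n + 1)} (hc0 : c ≠ s0) (hc1 : c ≠ s1) (p : Idx s0 s1 t) :
    0 ≤ (G p s0 : ℤ) ∧ 0 ≤ (G p s1 : ℤ) ∧ 0 ≤ (G p c : ℤ) ∧ 1 ≤ (G p s0 : ℤ) + G p s1 ∧
      (G p s0 : ℤ) + G p s1 + G p c ≤ 2 ∧ (c = t → (G p c : ℤ) = 0) := by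
  obtain ⟨⟨a, i⟩, ha, hi⟩ := p
  simp only at ha hi
  have e1 := h01.symm
  have e2 := h0t.symm
  have e3 := h1t.symm
  have e4 := hc0.symm
  have e5 := hc1.symm
  refine ⟨by positivity, by positivity, by positivity, ?_, ?_, ?_⟩
  · rcases ha with rfl | rfl
    · simp only [GZ, h01, h0t, h1t, e1, e2, e3, hc0, hc1, e4, e5, ↓reduceIte]
      split_ifs <;> omega
    · simp only [GZ, h01, h0t, h1t, e1, e2, e3, hc0, hc1, e4, e5, ↓reduceIte]
      split_ifs <;> omega
  · rcases ha with rfl | rfl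
    · simp only [GZ, h01, h0t, h1t, e1, e2, e3, hc0, hc1, e4, e5, ↓reduceIte]
      split_ifs <;> omega
    · simp only [GZ, h01, h0t, h1t, e1, e2, e3, hc0, hc1, e4, e5, ↓reduceIte]
      split_ifs <;> omega
  · rintro rfl
    rcases ha with rfl | rfl
    · simp only [GZ, h01, h0t, h1t, e1, e2, e3, hc0, hc1, e4, e5, hi, ↓reduceIte]
      omega
    · simp only [GZ, h01, h0t, h1t, e1, e2, e3, hc0, hc1, e4, e5, hi, ↓reduceIte]
      omega

/-- some middle index other than `c` carries the generator -/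
def E (c : Fin (n + 1)) (p : Idx s0 s1 t) : Prop :=
  ∃ l, IsMid s0 s1 t l ∧ l ≠ c ∧ 1 ≤ (G p l : ℤ)

include h01 h0t h1t in
lemma E_iff {c : Fin (n + 1)} (hc0 : c ≠ s0) (hc1 : c ≠ s1) (p : Idx s0 s1 t) :
    E c p ↔ (G p s0 : ℤ) + G p s1 = 1 ∧ (G p c : ℤ) = 0 := by
  obtain ⟨⟨a, i⟩, ha, hi⟩ := p
  simp only at ha hi
  have e1 := h01.symm
  have e2 := h0t.symm
  have e3 := h1t.symm
  have e4 := hc0.symm
  have e5 := hc1.symm
  unfold E
  constructor
  · rintro ⟨l, ⟨hl0, hl1, hlt⟩, hlc, hl⟩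
    have hal : a ≠ l := by
      rcases ha with rfl | rfl
      · exact Ne.symm hl0
      · exact Ne.symm hl1
    have hil : i = l := by
      by_contra hil
      simp only [GZ, if_neg hal, if_neg hil] at hl
      omega
    subst hil
    have hci : c ≠ i := Ne.symm hlc
    rcases ha with rfl | rfl
    · simp only [GZ, h01, h0t, h1t, e1, e2, e3, hc0, hc1, e4, e5, hl0, hl1, hlc, ↓reduceIte]
      omega
    · simp only [GZ, h01, h0t, h1t, e1, e2, e3, hc0, hc1, e4, e5, hl0, hl1, hlc, ↓reduceIte]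
      omega
  · rintro ⟨h1, h2⟩
    refine ⟨i, ⟨?_, ?_, hi⟩, ?_, ?_⟩
    · rintro rfl
      rcases ha with rfl | rfl
      · simp only [GZ, h01, h0t, h1t, e1, e2, e3, hc0, hc1, e4, e5, ↓reduceIte] at h1
        omega
      · simp only [GZ, h01, h0t, h1t, e1, e2, e3, hc0, hc1, e4, e5, ↓reduceIte] at h1
        omega
    · rintro rfl
      rcases ha with rfl | rfl
      · simp only [GZ, h01, h0t, h1t, e1, e2, e3, hc0, hc1, e4, e5, ↓reduceIte] at h1
        omega
      · simp only [GZ, h01, h0t, h1t, e1, e2, e3, hc0, hc1, e4, e5, ↓reduceIte] at h1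
        omega
    · rintro rfl
      simp only [GZ, ↓reduceIte] at h2
      split_ifs at h2 <;> omega
    · simp only [GZ, ↓reduceIte]
      split_ifs <;> omega


include h01 h0t h1t in
lemma G_t' (p : Idx s0 s1 t) : (G p t : ℤ) = 0 := by
  rw [G_t h0t h1t]
  rfl

include h01 h0t h1t in
/-- the linking relation in coordinates, for a multidegree which on the middle indices is
`-e_c` (`c` a middle index) or zero (`c = t`) -/
lemma conn_minus (α : Fin (n + 1) → ℤ) {c : Fin (n + 1)} (hc0 : c ≠ s0) (hc1 : c ≠ s1)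
    (hα : ∀ l, IsMid s0 s1 t l → α l = -(if c = l then 1 else 0)) (p q : Idx s0 s1 t) :
    Conn G (J k s0 s1 t) α p q ↔
      0 ≤ max (G p s0 : ℤ) (G q s0) + α s0 ∧ 0 ≤ max (G p s1 : ℤ) (G q s1) + α s1 ∧ 0 ≤ α t ∧
      (c ≠ t → 1 ≤ max (G p c : ℤ) (G q c)) ∧
      (max (G p s0 : ℤ) (G q s0) + α s0) + (max (G p s1 : ℤ) (G q s1) + α s1) ≤ 1 ∧
      (1 ≤ (max (G p s0 : ℤ) (G q s0) + α s0) + (max (G p s1 : ℤ) (G q s1) + α s1) →
        ¬ E c p ∧ ¬ E c q) := by
  rw [conn_iff' h01 h0t h1t, not_inI_iff]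
  have hcmid : c ≠ t → IsMid s0 s1 t c := fun h => ⟨hc0, hc1, h⟩
  have P1 := prof h01 h0t h1t hc0 hc1 p
  have P2 := prof h01 h0t h1t hc0 hc1 q
  constructor
  · rintro ⟨h1, h2, h3⟩
    refine ⟨h1 s0, h1 s1, ?_, ?_, h2, ?_⟩
    · have := h1 t
      rw [G_t' h01 h0t h1t, G_t' h01 h0t h1t] at this
      simpa using this
    · intro hct
      have := h1 c
      rw [hα c (hcmid hct), if_pos rfl] at this
      omega
    · intro hS
      have h4 := h3 hS
      constructor
      · rintro ⟨l, hl, hlc, hl1⟩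
        have := h4 l hl
        rw [hα l hl, if_neg (Ne.symm hlc)] at this
        have : (G p l : ℤ) ≤ max (G p l : ℤ) (G q l) := le_max_left _ _
        omega
      · rintro ⟨l, hl, hlc, hl1⟩
        have := h4 l hl
        rw [hα l hl, if_neg (Ne.symm hlc)] at this
        have : (G q l : ℤ) ≤ max (G p l : ℤ) (G q l) := le_max_right _ _
        omega
  · rintro ⟨h1, h2, h3, h4, h5, h6⟩
    refine ⟨fun l => ?_, h5, fun hS l hl => ?_⟩
    · by_cases hl0 : l = s0
      · rw [hl0]; exact h1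
      by_cases hl1 : l = s1
      · rw [hl1]; exact h2
      by_cases hlt : l = t
      · rw [hlt, G_t' h01 h0t h1t, G_t' h01 h0t h1t]
        simpa using h3
      have hl : IsMid s0 s1 t l := ⟨hl0, hl1, hlt⟩
      rw [hα l hl]
      by_cases hcl : c = l
      · subst hcl
        rw [if_pos rfl]
        have := h4 hlt
        omega
      · rw [if_neg hcl]
        have : (0 : ℤ) ≤ (G p l : ℤ) := by positivity
        have : (G p l : ℤ) ≤ max (G p l : ℤ) (G q l) := le_max_left _ _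
        omega
    · obtain ⟨h7, h8⟩ := h6 hS
      rw [hα l hl]
      by_cases hcl : c = l
      · subst hcl
        rw [if_pos rfl]
        have : max (G p c : ℤ) (G q c) ≤ 1 := max_le (by omega) (by omega)
        omega
      · rw [if_neg hcl]
        have e1 : (G p l : ℤ) ≤ 0 := by
          by_contra hcon
          exact h7 ⟨l, hl, Ne.symm hcl, by omega⟩
        have e2 : (G q l : ℤ) ≤ 0 := by
          by_contra hcon
          exact h8 ⟨l, hl, Ne.symm hcl, by omega⟩
        have : max (G p l : ℤ) (G q l) ≤ 0 := max_le e1 e2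
        omega

include h01 h0t h1t in
/-- the linking relation in coordinates, for a multidegree which is nonnegative on the middle
indices and positive at one of them -/
lemma conn_plus (α : Fin (n + 1) → ℤ) (hα : ∀ l, IsMid s0 s1 t l → 0 ≤ α l)
    (hb : ∃ b, IsMid s0 s1 t b ∧ 1 ≤ α b) (p q : Idx s0 s1 t) :
    Conn G (J k s0 s1 t) α p q ↔
      0 ≤ max (G p s0 : ℤ) (G q s0) + α s0 ∧ 0 ≤ max (G p s1 : ℤ) (G q s1) + α s1 ∧ 0 ≤ α t ∧
      (max (G p s0 : ℤ) (G q s0) + α s0) + (max (G p s1 : ℤ) (G q s1) + α s1) ≤ 0 := by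
  rw [conn_iff' h01 h0t h1t, not_inI_iff]
  obtain ⟨b, hbm, hb1⟩ := hb
  constructor
  · rintro ⟨h1, h2, h3⟩
    refine ⟨h1 s0, h1 s1, ?_, ?_⟩
    · have := h1 t
      rw [G_t' h01 h0t h1t, G_t' h01 h0t h1t] at this
      simpa using this
    · by_contra hcon
      have := h3 (by omega) b hbm
      have : (0 : ℤ) ≤ (G p b : ℤ) := by positivity
      have : (G p b : ℤ) ≤ max (G p b : ℤ) (G q b) := le_max_left _ _
      omega
  · rintro ⟨h1, h2, h3, h4⟩
    refine ⟨fun l => ?_, by omega, fun hS => by omega⟩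
    by_cases hl0 : l = s0
    · rw [hl0]; exact h1
    by_cases hl1 : l = s1
    · rw [hl1]; exact h2
    by_cases hlt : l = t
    · rw [hlt, G_t' h01 h0t h1t, G_t' h01 h0t h1t]
      simpa using h3
    have hl : IsMid s0 s1 t l := ⟨hl0, hl1, hlt⟩
    have := hα l hl
    have : (0 : ℤ) ≤ (G p l : ℤ) := by positivity
    have : (G p l : ℤ) ≤ max (G p l : ℤ) (G q l) := le_max_left _ _
    omega

end Groth.Agent.S13449
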