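import Groth.Agent.Lib.Seat60S13449b

set_option autoImplicit false
set_option linter.unusedVariables false
set_option linter.unusedSectionVars false
set_option linter.unusedSimpArgs false
universe u
open W4c1hilbpn MvPolynomial
open Groth.Agent.Lib.Seat60.Hom0

namespace Groth.Agent.S13449

variable {k : Type u} [Field k] {n : ℕ} {s0 s1 t : Fin (n + 1)}
variable (h01 : s0 ≠ s1) (h0t : s0 ≠ t) (h1t : s1 ≠ t)

/-! ### values of the multidegrees -/

lemma dv_self_right (b a : Fin (n + 1)) (h : b ≠ a) : dv b a a = -1 := by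
  unfold dv
  rw [if_neg h, if_pos rfl]
  norm_num

lemma dv_self_left (b a : Fin (n + 1)) (h : b ≠ a) : dv b a b = 1 := by
  unfold dv
  rw [if_pos rfl, if_neg (Ne.symm h)]
  norm_num

lemma dv_other (b a l : Fin (n + 1)) (h1 : b ≠ l) (h2 : a ≠ l) : dv b a l = 0 := by
  unfold dv
  rw [if_neg h1, if_neg h2]
  norm_num

/-! ### Family A -/

include h01 h0t h1t in
theorem finrank_A (hmid : ∃ l, IsMid s0 s1 t l) :
    Module.finrank k ↥(tPiece (J k s0 s1 t) (dv t s0)) = 3 := by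
  classical
  rw [finrank_tPiece_eq_finrank_W (hI k s0 s1 t) (hG k s0 s1 t)]
  have hα : ∀ l, IsMid s0 s1 t l → dv t s0 l = -(if t = l then 1 else 0) := by
    rintro l ⟨hl0, hl1, hlt⟩
    rw [dv_other t s0 l (Ne.symm hlt) (Ne.symm hl0), if_neg (Ne.symm hlt)]
    rfl
  have a0 : dv t s0 s0 = -1 := dv_self_right t s0 (Ne.symm h0t)
  have a1 : dv t s0 s1 = 0 := dv_other t s0 s1 (Ne.symm h1t) h01
  have a2 : dv t s0 t = 1 := dv_self_left t s0 (Ne.symm h0t)
  have hc0 : t ≠ s0 := Ne.symm h0t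
  have hc1 : t ≠ s1 := Ne.symm h1t
  have key := finrank_W_eq_card_of_key (k := k) (G := G) (I := J k s0 s1 t) (α := dv t s0)
    (fun p : Idx s0 s1 t => ((G p s0 : ℤ), (G p s1 : ℤ)))
    ({((2 : ℤ), (0 : ℤ)), ((1 : ℤ), (1 : ℤ)), ((1 : ℤ), (0 : ℤ))} : Finset (ℤ × ℤ))
  rw [key]
  · rfl
  · intro p
    have P := prof h01 h0t h1t hc0 hc1 p
    rw [act_iff_conn_self, conn_minus h01 h0t h1t _ hc0 hc1 hα, E_iff h01 h0t h1t hc0 hc1, a0, a1, a2]
    simp only [max_self, Finset.mem_insert, Finset.mem_singleton, Prod.mk.injEq]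
    omega
  · intro p q
    have P := prof h01 h0t h1t hc0 hc1 p
    have Q := prof h01 h0t h1t hc0 hc1 q
    rw [conn_minus h01 h0t h1t _ hc0 hc1 hα, E_iff h01 h0t h1t hc0 hc1, E_iff h01 h0t h1t hc0 hc1,
      a0, a1, a2]
    simp only [Prod.mk.injEq]
    omega
  · intro x hx
    simp only [Finset.mem_insert, Finset.mem_singleton] at hx
    have e1 := h01.symm
    rcases hx with rfl | rfl | rfl
    · refine ⟨⟨(s0, s0), Or.inl rfl, h0t⟩, ?_⟩
      simp only [GZ, h01, e1, ↓reduceIte, Prod.mk.injEq]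
      omega
    · refine ⟨⟨(s0, s1), Or.inl rfl, h1t⟩, ?_⟩
      simp only [GZ, h01, e1, ↓reduceIte, Prod.mk.injEq]
      omega
    · obtain ⟨l, hl0, hl1, hlt⟩ := hmid
      refine ⟨⟨(s0, l), Or.inl rfl, hlt⟩, ?_⟩
      simp only [GZ, h01, e1, hl0, hl1, ↓reduceIte, Prod.mk.injEq]
      omega
  · intro p q
    have P := prof h01 h0t h1t hc0 hc1 p
    have Q := prof h01 h0t h1t hc0 hc1 q
    rw [conn_minus h01 h0t h1t _ hc0 hc1 hα, E_iff h01 h0t h1t hc0 hc1, E_iff h01 h0t h1t hc0 hc1,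
      a0, a1, a2]
    simp only [Finset.mem_insert, Finset.mem_singleton, Prod.mk.injEq]
    omega


/-! ### Family B -/

include h01 h0t h1t in
theorem finrank_B {b : Fin (n + 1)} (hb : IsMid s0 s1 t b) :
    Module.finrank k ↥(tPiece (J k s0 s1 t) (dv b s0)) = 1 := by
  classical
  rw [finrank_tPiece_eq_finrank_W (hI k s0 s1 t) (hG k s0 s1 t)]
  obtain ⟨hb0, hb1, hbt⟩ := hb
  have hα : ∀ l, IsMid s0 s1 t l → 0 ≤ dv b s0 l := by
    rintro l ⟨hl0, hl1, hlt⟩
    unfold dv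
    rw [if_neg (Ne.symm hl0)]
    split_ifs <;> norm_num
  have hb' : ∃ b', IsMid s0 s1 t b' ∧ 1 ≤ dv b s0 b' :=
    ⟨b, ⟨hb0, hb1, hbt⟩, by rw [dv_self_left b s0 hb0]⟩
  have a0 : dv b s0 s0 = -1 := dv_self_right b s0 hb0
  have a1 : dv b s0 s1 = 0 := dv_other b s0 s1 hb1 h01
  have a2 : dv b s0 t = 0 := dv_other b s0 t hbt h0t
  have hc0 : t ≠ s0 := Ne.symm h0t
  have hc1 : t ≠ s1 := Ne.symm h1t
  have key := finrank_W_eq_card_of_key (k := k) (G := G) (I := J k s0 s1 t) (α := dv b s0)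
    (fun p : Idx s0 s1 t => ((G p s0 : ℤ), (G p s1 : ℤ)))
    ({((1 : ℤ), (0 : ℤ))} : Finset (ℤ × ℤ))
  rw [key]
  · rfl
  · intro p
    have P := prof h01 h0t h1t hc0 hc1 p
    rw [act_iff_conn_self, conn_plus h01 h0t h1t _ hα hb', a0, a1, a2]
    simp only [max_self, Finset.mem_singleton, Prod.mk.injEq]
    omega
  · intro p q
    have P := prof h01 h0t h1t hc0 hc1 p
    have Q := prof h01 h0t h1t hc0 hc1 q
    rw [conn_plus h01 h0t h1t _ hα hb', a0, a1, a2]
    simp only [Prod.mk.injEq]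
    omega
  · intro x hx
    simp only [Finset.mem_singleton] at hx
    have e1 := h01.symm
    subst hx
    refine ⟨⟨(s0, b), Or.inl rfl, hbt⟩, ?_⟩
    simp only [GZ, h01, e1, hb0, hb1, ↓reduceIte, Prod.mk.injEq]
    omega
  · intro p q
    have P := prof h01 h0t h1t hc0 hc1 p
    have Q := prof h01 h0t h1t hc0 hc1 q
    rw [conn_plus h01 h0t h1t _ hα hb', a0, a1, a2]
    simp only [Finset.mem_singleton, Prod.mk.injEq]
    omega

/-! ### Family C -/

include h01 h0t h1t in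
theorem finrank_C {a : Fin (n + 1)} (ha : IsMid s0 s1 t a) :
    Module.finrank k ↥(tPiece (J k s0 s1 t) (dv t a)) = 2 := by
  classical
  rw [finrank_tPiece_eq_finrank_W (hI k s0 s1 t) (hG k s0 s1 t)]
  obtain ⟨hc0, hc1, hat⟩ := ha
  have hα : ∀ l, IsMid s0 s1 t l → dv t a l = -(if a = l then 1 else 0) := by
    rintro l ⟨hl0, hl1, hlt⟩
    unfold dv
    rw [if_neg (Ne.symm hlt)]
    ring
  have a0 : dv t a s0 = 0 := dv_other t a s0 (Ne.symm h0t) hc0
  have a1 : dv t a s1 = 0 := dv_other t a s1 (Ne.symm h1t) hc1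
  have a2 : dv t a t = 1 := dv_self_left t a (Ne.symm hat)
  have key := finrank_W_eq_card_of_key (k := k) (G := G) (I := J k s0 s1 t) (α := dv t a)
    (fun p : Idx s0 s1 t => ((G p a : ℤ), (G p s0 : ℤ)))
    ({((1 : ℤ), (1 : ℤ)), ((1 : ℤ), (0 : ℤ))} : Finset (ℤ × ℤ))
  rw [key]
  · rfl
  · intro p
    have P := prof h01 h0t h1t hc0 hc1 p
    rw [act_iff_conn_self, conn_minus h01 h0t h1t _ hc0 hc1 hα, E_iff h01 h0t h1t hc0 hc1, a0, a1, a2]
    simp only [max_self, Finset.mem_insert, Finset.mem_singleton, Prod.mk.injEq]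
    omega
  · intro p q
    have P := prof h01 h0t h1t hc0 hc1 p
    have Q := prof h01 h0t h1t hc0 hc1 q
    rw [conn_minus h01 h0t h1t _ hc0 hc1 hα, E_iff h01 h0t h1t hc0 hc1, E_iff h01 h0t h1t hc0 hc1,
      a0, a1, a2]
    simp only [Prod.mk.injEq]
    omega
  · intro x hx
    simp only [Finset.mem_insert, Finset.mem_singleton] at hx
    have e1 := h01.symm
    have e2 := hc0.symm
    have e3 := hc1.symm
    rcases hx with rfl | rfl
    · refine ⟨⟨(s0, a), Or.inl rfl, hat⟩, ?_⟩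
      simp only [GZ, h01, e1, hc0, hc1, e2, e3, ↓reduceIte, Prod.mk.injEq]
      omega
    · refine ⟨⟨(s1, a), Or.inr rfl, hat⟩, ?_⟩
      simp only [GZ, h01, e1, hc0, hc1, e2, e3, ↓reduceIte, Prod.mk.injEq]
      omega
  · intro p q
    have P := prof h01 h0t h1t hc0 hc1 p
    have Q := prof h01 h0t h1t hc0 hc1 q
    rw [conn_minus h01 h0t h1t _ hc0 hc1 hα, E_iff h01 h0t h1t hc0 hc1, E_iff h01 h0t h1t hc0 hc1,
      a0, a1, a2]
    simp only [Finset.mem_insert, Finset.mem_singleton, Prod.mk.injEq]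
    omega

/-! ### Family D -/

lemma dq_apply (u v a i l : Fin (n + 1)) : dq u v a i l =
    (if u = l then 1 else 0) + (if v = l then 1 else 0) - (if a = l then 1 else 0) -
      (if i = l then 1 else 0) := rfl

include h01 h0t h1t in
theorem finrank_D0 :
    Module.finrank k ↥(tPiece (J k s0 s1 t) (dq s1 t s0 s0)) = 1 := by
  classical
  rw [finrank_tPiece_eq_finrank_W (hI k s0 s1 t) (hG k s0 s1 t)]
  have e1 := h01.symm
  have e2 := h0t.symm
  have e3 := h1t.symm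
  have hα : ∀ l, IsMid s0 s1 t l → dq s1 t s0 s0 l = -(if t = l then 1 else 0) := by
    rintro l ⟨hl0, hl1, hlt⟩
    rw [dq_apply, if_neg (Ne.symm hlt), if_neg (Ne.symm hl0), if_neg (Ne.symm hl1)]
    norm_num
  have a0 : dq s1 t s0 s0 s0 = -2 := by
    rw [dq_apply, if_neg e1, if_neg e2, if_pos rfl]
    norm_num
  have a1 : dq s1 t s0 s0 s1 = 1 := by
    rw [dq_apply, if_neg h01, if_neg e3, if_pos rfl]
    norm_num
  have a2 : dq s1 t s0 s0 t = 1 := by
    rw [dq_apply, if_neg h0t, if_neg h1t, if_pos rfl]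
    norm_num
  have hc0 : t ≠ s0 := Ne.symm h0t
  have hc1 : t ≠ s1 := Ne.symm h1t
  have key := finrank_W_eq_card_of_key (k := k) (G := G) (I := J k s0 s1 t) (α := dq s1 t s0 s0)
    (fun p : Idx s0 s1 t => ((G p s0 : ℤ), (G p t : ℤ)))
    ({((2 : ℤ), (0 : ℤ))} : Finset (ℤ × ℤ))
  rw [key]
  · rfl
  · intro p
    have P := prof h01 h0t h1t hc0 hc1 p
    rw [act_iff_conn_self, conn_minus h01 h0t h1t _ hc0 hc1 hα, E_iff h01 h0t h1t hc0 hc1, a0, a1, a2]
    simp only [max_self, Finset.mem_singleton, Prod.mk.injEq]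
    omega
  · intro p q
    have P := prof h01 h0t h1t hc0 hc1 p
    have Q := prof h01 h0t h1t hc0 hc1 q
    rw [conn_minus h01 h0t h1t _ hc0 hc1 hα, E_iff h01 h0t h1t hc0 hc1, E_iff h01 h0t h1t hc0 hc1,
      a0, a1, a2]
    simp only [Prod.mk.injEq]
    omega
  · intro x hx
    simp only [Finset.mem_singleton] at hx
    subst hx
    refine ⟨⟨(s0, s0), Or.inl rfl, h0t⟩, ?_⟩
    simp only [GZ, h01, e1, h0t, ↓reduceIte, Prod.mk.injEq]
    omega
  · intro p q
    have P := prof h01 h0t h1t hc0 hc1 p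
    have Q := prof h01 h0t h1t hc0 hc1 q
    rw [conn_minus h01 h0t h1t _ hc0 hc1 hα, E_iff h01 h0t h1t hc0 hc1, E_iff h01 h0t h1t hc0 hc1,
      a0, a1, a2]
    simp only [Finset.mem_singleton, Prod.mk.injEq]
    omega

include h01 h0t h1t in
theorem finrank_D1 {i : Fin (n + 1)} (hi : IsMid s0 s1 t i) :
    Module.finrank k ↥(tPiece (J k s0 s1 t) (dq s1 t s0 i)) = 1 := by
  classical
  rw [finrank_tPiece_eq_finrank_W (hI k s0 s1 t) (hG k s0 s1 t)]
  obtain ⟨hc0, hc1, hit⟩ := hi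
  have e1 := h01.symm
  have e2 := h0t.symm
  have e3 := h1t.symm
  have hα : ∀ l, IsMid s0 s1 t l → dq s1 t s0 i l = -(if i = l then 1 else 0) := by
    rintro l ⟨hl0, hl1, hlt⟩
    rw [dq_apply, if_neg (Ne.symm hlt), if_neg (Ne.symm hl0), if_neg (Ne.symm hl1)]
    ring
  have a0 : dq s1 t s0 i s0 = -1 := by
    rw [dq_apply, if_neg e1, if_neg e2, if_pos rfl, if_neg hc0]
    norm_num
  have a1 : dq s1 t s0 i s1 = 1 := by
    rw [dq_apply, if_neg h01, if_neg e3, if_pos rfl, if_neg hc1]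
    norm_num
  have a2 : dq s1 t s0 i t = 1 := by
    rw [dq_apply, if_neg h0t, if_neg h1t, if_pos rfl, if_neg hit]
    norm_num
  have key := finrank_W_eq_card_of_key (k := k) (G := G) (I := J k s0 s1 t) (α := dq s1 t s0 i)
    (fun p : Idx s0 s1 t => ((G p s0 : ℤ), (G p i : ℤ)))
    ({((1 : ℤ), (1 : ℤ))} : Finset (ℤ × ℤ))
  rw [key]
  · rfl
  · intro p
    have P := prof h01 h0t h1t hc0 hc1 p
    rw [act_iff_conn_self, conn_minus h01 h0t h1t _ hc0 hc1 hα, E_iff h01 h0t h1t hc0 hc1, a0, a1, a2]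
    simp only [max_self, Finset.mem_singleton, Prod.mk.injEq]
    omega
  · intro p q
    have P := prof h01 h0t h1t hc0 hc1 p
    have Q := prof h01 h0t h1t hc0 hc1 q
    rw [conn_minus h01 h0t h1t _ hc0 hc1 hα, E_iff h01 h0t h1t hc0 hc1, E_iff h01 h0t h1t hc0 hc1,
      a0, a1, a2]
    simp only [Prod.mk.injEq]
    omega
  · intro x hx
    simp only [Finset.mem_singleton] at hx
    subst hx
    have e4 := hc0.symm
    have e5 := hc1.symm
    refine ⟨⟨(s0, i), Or.inl rfl, hit⟩, ?_⟩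
    simp only [GZ, h01, e1, h0t, hc0, hc1, e4, e5, ↓reduceIte, Prod.mk.injEq]
    omega
  · intro p q
    have P := prof h01 h0t h1t hc0 hc1 p
    have Q := prof h01 h0t h1t hc0 hc1 q
    rw [conn_minus h01 h0t h1t _ hc0 hc1 hα, E_iff h01 h0t h1t hc0 hc1, E_iff h01 h0t h1t hc0 hc1,
      a0, a1, a2]
    simp only [Finset.mem_singleton, Prod.mk.injEq]
    omega

end Groth.Agent.S13449
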