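import Groth.Agent.Lib.Seat60S13449c

set_option autoImplicit false
set_option linter.unusedVariables false
set_option linter.unusedSectionVars false
set_option linter.unusedSimpArgs false
universe u
open W4c1hilbpn MvPolynomial
open Groth.Agent.Lib.Seat60.Hom0

namespace Groth.Agent.S13449

variable {k : Type u} [Field k] {n : ℕ} {s0 s1 t : Fin (n + 1)}
variable (h01 : s0 ≠ s1) (h0t : s0 ≠ t) (h1t : s1 ≠ t)

lemma sum_G (p : Idx s0 s1 t) : ∑ l, (G p l : ℤ) = 2 := by
  classical
  simp only [GZ]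
  rw [Finset.sum_add_distrib, Finset.sum_ite_eq Finset.univ p.1.1 (fun _ => (1 : ℤ)),
    Finset.sum_ite_eq Finset.univ p.1.2 (fun _ => (1 : ℤ)), if_pos (Finset.mem_univ _),
    if_pos (Finset.mem_univ _)]
  norm_num

include h01 h0t h1t in
/-- a coefficient is forced to vanish by a link to an inactive generator -/
lemma forced_zero (α : Fin (n + 1) → ℤ) (c : Idx s0 s1 t → k) (hc : c ∈ W G (J k s0 s1 t) α)
    (q q' : Idx s0 s1 t)
    (hq : ∀ l, 0 ≤ (G q l : ℤ) + α l) (hq' : ∃ l, (G q' l : ℤ) + α l < 0)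
    (hS : (max (G q s0 : ℤ) (G q' s0) + α s0) + (max (G q s1 : ℤ) (G q' s1) + α s1) ≤ 1)
    (hM : 1 ≤ (max (G q s0 : ℤ) (G q' s0) + α s0) + (max (G q s1 : ℤ) (G q' s1) + α s1) →
       ∀ l, IsMid s0 s1 t l → max (G q l : ℤ) (G q' l) + α l ≤ 0) : c q = 0 := by
  have hinact : ¬ Act G (J k s0 s1 t) α q' := by
    rw [act_iff' h01 h0t h1t]
    rintro ⟨h1, -⟩
    obtain ⟨l, hl⟩ := hq'
    have := h1 l
    omega
  rw [← hc.1 q' hinact]
  apply hc.2
  rw [conn_iff' h01 h0t h1t, not_inI_iff]
  refine ⟨fun l => ?_, hS, hM⟩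
  have := hq l
  have : (G q l : ℤ) ≤ max (G q l : ℤ) (G q' l) := le_max_left _ _
  omega


section vanish

variable (α : Fin (n + 1) → ℤ)
    (hA0 : α ≠ dv t s0) (hA1 : α ≠ dv t s1)
    (hB0 : ∀ b, IsMid s0 s1 t b → α ≠ dv b s0) (hB1 : ∀ b, IsMid s0 s1 t b → α ≠ dv b s1)
    (hC : ∀ a, IsMid s0 s1 t a → α ≠ dv t a)
    (hD0 : α ≠ dq s1 t s0 s0) (hD0' : ∀ i, IsMid s0 s1 t i → α ≠ dq s1 t s0 i)
    (hD1 : α ≠ dq s0 t s1 s1) (hD1' : ∀ i, IsMid s0 s1 t i → α ≠ dq s0 t s1 i)

include h01 h0t h1t hA0 hA1 hC hD0 hD0' hD1 hD1' in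
/-- an active generator with standard target `x_u x_v`, `u ∈ {s0, s1}`: the multidegree is listed -/
lemma aux1 (a i u v : Fin (n + 1)) (ha : a = s0 ∨ a = s1) (hi : i ≠ t) (hu : u = s0 ∨ u = s1)
    (hα' : ∀ l, α l = (if u = l then 1 else 0) + (if v = l then 1 else 0) -
      (if a = l then 1 else 0) - (if i = l then 1 else 0))
    (hnot : ¬ inI s0 s1 t (fun l => ((if u = l then 1 else 0) + (if v = l then 1 else 0) : ℤ))) :
    False := by
  have e1 := h01.symm
  have e2 := h0t.symm
  have e3 := h1t.symm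
  have hv : v = t := by
    by_contra hvt
    apply hnot
    by_cases hvS : v = s0 ∨ v = s1
    · left
      simp only
      rcases hu with rfl | rfl <;> rcases hvS with rfl | rfl <;>
        simp only [h01, e1, ↓reduceIte] <;> norm_num
    · right
      push Not at hvS
      refine ⟨?_, v, ⟨hvS.1, hvS.2, hvt⟩, ?_⟩
      · simp only
        rcases hu with rfl | rfl <;> simp only [h01, e1, hvS.1, hvS.2, ↓reduceIte] <;> norm_num
      · simp only [↓reduceIte]
        split_ifs <;> norm_num
  subst hv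
  by_cases hua : u = a
  · subst hua
    have hα2 : α = dv v i := by
      funext l
      rw [hα' l]
      unfold dv
      ring
    by_cases hi0 : i = s0
    · subst hi0; exact hA0 hα2
    by_cases hi1 : i = s1
    · subst hi1; exact hA1 hα2
    exact hC i ⟨hi0, hi1, hi⟩ hα2
  · rcases ha with rfl | rfl
    · have hu1 : u = s1 := by
        rcases hu with h | h
        · exact absurd h hua
        · exact h
      subst hu1
      by_cases hi0 : i = a
      · subst hi0
        exact hD0 (by funext l; rw [hα' l]; rfl)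
      by_cases hi1 : i = u
      · subst hi1
        apply hA0
        funext l
        rw [hα' l]
        unfold dv
        ring
      exact hD0' i ⟨hi0, hi1, hi⟩ (by funext l; rw [hα' l]; rfl)
    · have hu0 : u = s0 := by
        rcases hu with h | h
        · exact h
        · exact absurd h hua
      subst hu0
      by_cases hi1 : i = a
      · subst hi1
        exact hD1 (by funext l; rw [hα' l]; rfl)
      by_cases hi0 : i = u
      · subst hi0
        apply hA1
        funext l
        rw [hα' l]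
        unfold dv
        ring
      exact hD1' i ⟨hi0, hi1, hi⟩ (by funext l; rw [hα' l]; rfl)

include h01 h0t h1t hA0 hA1 hB0 hB1 in
/-- an active generator `x_a x_i` with standard target `x_i x_v`, `v ∉ {s0, s1}`: the multidegree is
listed -/
lemma aux2 (a i v : Fin (n + 1)) (ha : a = s0 ∨ a = s1) (hv0 : v ≠ s0) (hv1 : v ≠ s1)
    (hα' : ∀ l, α l = (if i = l then 1 else 0) + (if v = l then 1 else 0) -
      (if a = l then 1 else 0) - (if i = l then 1 else 0)) : False := by
  have hα2 : α = dv v a := by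
    funext l
    rw [hα' l]
    unfold dv
    ring
  rcases ha with rfl | rfl
  · by_cases hvt : v = t
    · subst hvt; exact hA0 hα2
    · exact hB0 v ⟨hv0, hv1, hvt⟩ hα2
  · by_cases hvt : v = t
    · subst hvt; exact hA1 hα2
    · exact hB1 v ⟨hv0, hv1, hvt⟩ hα2


include h01 h0t h1t hA0 hA1 hB0 hB1 hC hD0 hD0' hD1 hD1' in
/-- all the pieces of total degree zero whose multidegree is not listed vanish -/
theorem tPiece_eq_bot (hmid : ∃ l, IsMid s0 s1 t l) (hα : ∑ l, α l = 0) :
    tPiece (J k s0 s1 t) α = ⊥ := by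
  classical
  apply tPiece_eq_bot_of_W (hI k s0 s1 t) (hG k s0 s1 t)
  intro c hc
  funext q
  show c q = 0
  by_cases hact : Act G (J k s0 s1 t) α q
  swap
  · exact hc.1 q hact
  have hact' := (act_iff' h01 h0t h1t α q).mp hact
  obtain ⟨hval, hnot⟩ := hact'
  have hsum : ∑ l, ((G q l : ℤ) + α l) = 2 := by
    rw [Finset.sum_add_distrib, sum_G, hα, add_zero]
  obtain ⟨u, v, huv⟩ := exists_two_of_sum_eq_two _ hval hsum
  have hfun : (fun l => (G q l : ℤ) + α l) =
      fun l => ((if u = l then 1 else 0) + (if v = l then 1 else 0) : ℤ) := funext huv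
  rw [hfun] at hnot
  have hfun' : (fun l => ((if u = l then 1 else 0) + (if v = l then 1 else 0) : ℤ)) =
      fun l => ((if v = l then 1 else 0) + (if u = l then 1 else 0) : ℤ) := by
    funext l
    ring
  obtain ⟨⟨a, i⟩, ha, hi⟩ := q
  simp only at ha hi
  have hα' : ∀ l, α l = (if u = l then 1 else 0) + (if v = l then 1 else 0) -
      (if a = l then 1 else 0) - (if i = l then 1 else 0) := by
    intro l
    have := huv l
    rw [GZ] at this
    simp only at this
    linarith
  have hα'' : ∀ l, α l = (if v = l then 1 else 0) + (if u = l then 1 else 0) -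
      (if a = l then 1 else 0) - (if i = l then 1 else 0) := by
    intro l
    rw [hα' l]
    ring
  by_cases hu : u = s0 ∨ u = s1
  · exact (aux1 h01 h0t h1t α hA0 hA1 hC hD0 hD0' hD1 hD1' a i u v ha hi hu hα' hnot).elim
  by_cases hv : v = s0 ∨ v = s1
  · rw [hfun'] at hnot
    exact (aux1 h01 h0t h1t α hA0 hA1 hC hD0 hD0' hD1 hD1' a i v u ha hi hv hα'' hnot).elim
  push Not at hu hv
  by_cases hiu : i = u
  · subst hiu
    exact (aux2 h01 h0t h1t α hA0 hA1 hB0 hB1 a i v ha hv.1 hv.2 hα').elim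
  by_cases hiv : i = v
  · subst hiv
    exact (aux2 h01 h0t h1t α hA0 hA1 hB0 hB1 a i u ha hu.1 hu.2 hα'').elim
  -- forced zero
  have e1 := h01.symm
  have e2 := h0t.symm
  have e3 := h1t.symm
  have hat : a ≠ t := by
    rcases ha with rfl | rfl
    · exact h0t
    · exact h1t
  by_cases hw : ∃ w, IsMid s0 s1 t w ∧ w ≠ i
  · obtain ⟨w, ⟨hw0, hw1, hwt⟩, hwi⟩ := hw
    apply forced_zero h01 h0t h1t α c hc ⟨(a, i), ha, hi⟩ ⟨(a, w), ha, hwt⟩ hval
    · refine ⟨i, ?_⟩
      rw [GZ, hα' i]
      simp only [Ne.symm hiu, Ne.symm hiv, hwi, ↓reduceIte]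
      split_ifs <;> norm_num
    · rw [GZ, GZ, GZ, GZ, hα' s0, hα' s1]
      simp only [hu.1, hu.2, hv.1, hv.2, hw0, hw1, ↓reduceIte]
      have : ∀ x y : ℤ, 0 ≤ y → max (x + y) (x + 0) + (0 + 0 - x - y) = 0 := by
        intro x y hy
        rw [max_eq_left (by omega)]
        ring
      rw [this _ _ (by split_ifs <;> norm_num), this _ _ (by split_ifs <;> norm_num)]
      norm_num
    · intro h
      exfalso
      rw [GZ, GZ, GZ, GZ, hα' s0, hα' s1] at h
      simp only [hu.1, hu.2, hv.1, hv.2, hw0, hw1, ↓reduceIte] at h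
      have : ∀ x y : ℤ, 0 ≤ y → max (x + y) (x + 0) + (0 + 0 - x - y) = 0 := by
        intro x y hy
        rw [max_eq_left (by omega)]
        ring
      rw [this _ _ (by split_ifs <;> norm_num), this _ _ (by split_ifs <;> norm_num)] at h
      norm_num at h
  · push Not at hw
    obtain ⟨w0, hw0⟩ := hmid
    have hiw : w0 = i := hw w0 hw0
    subst hiw
    obtain ⟨hi0, hi1, _⟩ := hw0
    have hut : u = t := by
      by_contra hut
      exact hiu (hw u ⟨hu.1, hu.2, hut⟩).symm
    have hvt : v = t := by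
      by_contra hvt
      exact hiv (hw v ⟨hv.1, hv.2, hvt⟩).symm
    subst hut
    subst hvt
    have hai : a ≠ w0 := by
      rcases ha with rfl | rfl
      · exact Ne.symm hi0
      · exact Ne.symm hi1
    apply forced_zero h01 h0t h1t α c hc ⟨(a, w0), ha, hi⟩ ⟨(a, a), ha, hat⟩ hval
    · refine ⟨w0, ?_⟩
      rw [GZ, hα' w0]
      simp only [hai, Ne.symm hi, ↓reduceIte]
      norm_num
    · rw [GZ, GZ, GZ, GZ, hα' s0, hα' s1]
      simp only [hi0, hi1, e2, e3, ↓reduceIte]
      rcases ha with rfl | rfl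
      · simp only [h01, e1, ↓reduceIte]
        norm_num
      · simp only [h01, e1, ↓reduceIte]
        norm_num
    · intro _ l hl
      obtain ⟨hl0, hl1, hlt⟩ := hl
      have hal : a ≠ l := by
        rcases ha with rfl | rfl
        · exact Ne.symm hl0
        · exact Ne.symm hl1
      rw [GZ, GZ, hα' l]
      simp only [hal, Ne.symm hlt, ↓reduceIte]
      split_ifs <;> norm_num

end vanish

end Groth.Agent.S13449
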