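import Groth.Agent.Lib.Seat60S13449d

set_option autoImplicit false
set_option linter.unusedVariables false
set_option linter.unusedSectionVars false
set_option linter.unusedSimpArgs false
universe u
open W4c1hilbpn MvPolynomial
open Groth.Agent.Lib.Seat60.Hom0

namespace Groth.Agent.S13449

variable {k : Type u} [Field k] {n : ℕ} {s0 s1 t : Fin (n + 1)}
variable (h01 : s0 ≠ s1) (h0t : s0 ≠ t) (h1t : s1 ≠ t)

lemma sum_dv (b a : Fin (n + 1)) : ∑ l, dv b a l = 0 := by
  classical
  unfold dv
  rw [Finset.sum_sub_distrib, Finset.sum_ite_eq Finset.univ b (fun _ => (1 : ℤ)),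
    Finset.sum_ite_eq Finset.univ a (fun _ => (1 : ℤ)), if_pos (Finset.mem_univ _),
    if_pos (Finset.mem_univ _)]
  norm_num

lemma sum_dq (u v a i : Fin (n + 1)) : ∑ l, dq u v a i l = 0 := by
  classical
  unfold dq
  rw [Finset.sum_sub_distrib, Finset.sum_sub_distrib, Finset.sum_add_distrib,
    Finset.sum_ite_eq Finset.univ u (fun _ => (1 : ℤ)),
    Finset.sum_ite_eq Finset.univ v (fun _ => (1 : ℤ)),
    Finset.sum_ite_eq Finset.univ a (fun _ => (1 : ℤ)),
    Finset.sum_ite_eq Finset.univ i (fun _ => (1 : ℤ)), if_pos (Finset.mem_univ _),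
    if_pos (Finset.mem_univ _), if_pos (Finset.mem_univ _), if_pos (Finset.mem_univ _)]
  norm_num

lemma dv_inj {a b a' b' : Fin (n + 1)} (hab : a ≠ b) (hab' : a' ≠ b')
    (h : dv b a = dv b' a') : a = a' ∧ b = b' := by
  have h1 := congrFun h a
  have h2 := congrFun h b
  unfold dv at h1 h2
  constructor
  · by_contra hne
    split_ifs at h1 <;> omega
  · by_contra hne
    split_ifs at h2 <;> omega

lemma dq_inj {u v a i i' : Fin (n + 1)} (h : dq u v a i = dq u v a i') : i = i' := by
  have h1 := congrFun h i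
  rw [dq_apply, dq_apply, if_pos rfl] at h1
  by_contra hne
  rw [if_neg (Ne.symm hne)] at h1
  omega

lemma isMid_comm (l : Fin (n + 1)) : IsMid s1 s0 t l ↔ IsMid s0 s1 t l := by
  unfold IsMid
  tauto

/-- the code separating the families of multidegrees -/
def code (s0 s1 t : Fin (n + 1)) (α : Fin (n + 1) → ℤ) : ℤ × ℤ × ℤ :=
  (max (α s0) (-1), max (α s1) (-1), α t)

/-- the values of the code on the seven families -/
def codeVal : Fin 7 → ℤ × ℤ × ℤ :=
  ![(-1, 0, 1), (0, -1, 1), (-1, 0, 0), (0, -1, 0), (0, 0, 1), (-1, 1, 1), (1, -1, 1)]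

lemma codeVal_inj : Function.Injective codeVal := by
  decide


section fam

open Classical in
/-- the middle indices -/
noncomputable def Mid (s0 s1 t : Fin (n + 1)) : Finset (Fin (n + 1)) :=
  Finset.univ.filter (fun l => IsMid s0 s1 t l)

lemma mem_Mid (l : Fin (n + 1)) : l ∈ Mid s0 s1 t ↔ IsMid s0 s1 t l := by
  unfold Mid
  simp only [Finset.mem_filter, Finset.mem_univ, true_and]

include h01 h0t h1t in
lemma card_Mid : (Mid s0 s1 t).card = n - 2 := by
  classical
  have h : Mid s0 s1 t = Finset.univ \ {s0, s1, t} := by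
    ext l
    rw [mem_Mid]
    simp only [IsMid, Finset.mem_sdiff, Finset.mem_univ, true_and, Finset.mem_insert,
      Finset.mem_singleton, not_or]
  rw [h, Finset.card_sdiff_of_subset (Finset.subset_univ _), Finset.card_univ, Fintype.card_fin]
  have : ({s0, s1, t} : Finset (Fin (n + 1))).card = 3 := by
    rw [Finset.card_insert_of_notMem, Finset.card_insert_of_notMem, Finset.card_singleton]
    · simpa using h1t
    · simp only [Finset.mem_insert, Finset.mem_singleton, not_or]
      exact ⟨h01, h0t⟩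
  rw [this]
  omega

open Classical in
/-- the seven families of multidegrees -/
noncomputable def fam (s0 s1 t : Fin (n + 1)) : Fin 7 → Finset (Fin (n + 1) → ℤ) :=
  ![{dv t s0}, {dv t s1}, (Mid s0 s1 t).image (fun b => dv b s0),
    (Mid s0 s1 t).image (fun b => dv b s1), (Mid s0 s1 t).image (fun a => dv t a),
    (insert s0 (Mid s0 s1 t)).image (fun i => dq s1 t s0 i),
    (insert s1 (Mid s0 s1 t)).image (fun i => dq s0 t s1 i)]

include h01 h0t h1t in
lemma code_fam (j : Fin 7) (α : Fin (n + 1) → ℤ) (hα : α ∈ fam s0 s1 t j) :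
    code s0 s1 t α = codeVal j := by
  classical
  have e1 := h01.symm
  have e2 := h0t.symm
  have e3 := h1t.symm
  fin_cases j
  · simp only [fam, Fin.zero_eta, Matrix.cons_val_zero, Finset.mem_singleton] at hα
    subst hα
    simp only [code, codeVal, dv, Matrix.cons_val_zero, h01, h0t, h1t, e1, e2, e3, ↓reduceIte]
    norm_num
  · simp only [fam, Fin.mk_one, Matrix.cons_val_one, Matrix.cons_val_zero,
      Finset.mem_singleton] at hα
    subst hα
    simp only [code, codeVal, dv, Matrix.cons_val_one, Matrix.cons_val_zero, h01, h0t, h1t, e1, e2,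
      e3, ↓reduceIte]
    norm_num
  · simp [fam] at hα
    obtain ⟨b, hb, rfl⟩ := hα
    rw [mem_Mid] at hb
    obtain ⟨hb0, hb1, hbt⟩ := hb
    show code s0 s1 t _ = ((-1 : ℤ), (0 : ℤ), (0 : ℤ))
    simp only [code, dv, h01, h0t, h1t, e1, e2, e3, hb0, hb1, hbt, ↓reduceIte]
    norm_num
  · simp [fam] at hα
    obtain ⟨b, hb, rfl⟩ := hα
    rw [mem_Mid] at hb
    obtain ⟨hb0, hb1, hbt⟩ := hb
    show code s0 s1 t _ = ((0 : ℤ), (-1 : ℤ), (0 : ℤ))
    simp only [code, dv, h01, h0t, h1t, e1, e2, e3, hb0, hb1, hbt, ↓reduceIte]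
    norm_num
  · simp [fam] at hα
    obtain ⟨b, hb, rfl⟩ := hα
    rw [mem_Mid] at hb
    obtain ⟨hb0, hb1, hbt⟩ := hb
    show code s0 s1 t _ = ((0 : ℤ), (0 : ℤ), (1 : ℤ))
    simp only [code, dv, h01, h0t, h1t, e1, e2, e3, hb0, hb1, hbt, ↓reduceIte]
    norm_num
  · simp [fam] at hα
    show code s0 s1 t _ = ((-1 : ℤ), (1 : ℤ), (1 : ℤ))
    rcases hα with rfl | ⟨b, hb, rfl⟩
    · simp only [code, dq, h01, h0t, h1t, e1, e2, e3, ↓reduceIte]
      norm_num
    · rw [mem_Mid] at hb
      obtain ⟨hb0, hb1, hbt⟩ := hb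
      simp only [code, dq, h01, h0t, h1t, e1, e2, e3, hb0, hb1, hbt, ↓reduceIte]
      norm_num
  · simp [fam] at hα
    show code s0 s1 t _ = ((1 : ℤ), (-1 : ℤ), (1 : ℤ))
    rcases hα with rfl | ⟨b, hb, rfl⟩
    · simp only [code, dq, h01, h0t, h1t, e1, e2, e3, ↓reduceIte]
      norm_num
    · rw [mem_Mid] at hb
      obtain ⟨hb0, hb1, hbt⟩ := hb
      simp only [code, dq, h01, h0t, h1t, e1, e2, e3, hb0, hb1, hbt, ↓reduceIte]
      norm_num


lemma fam0 : fam s0 s1 t 0 = {dv t s0} := rfl
lemma fam1 : fam s0 s1 t 1 = {dv t s1} := rfl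
open Classical in
lemma fam2 : fam s0 s1 t 2 = (Mid s0 s1 t).image (fun b => dv b s0) := rfl
open Classical in
lemma fam3 : fam s0 s1 t 3 = (Mid s0 s1 t).image (fun b => dv b s1) := rfl
open Classical in
lemma fam4 : fam s0 s1 t 4 = (Mid s0 s1 t).image (fun a => dv t a) := rfl
open Classical in
lemma fam5 : fam s0 s1 t 5 = (insert s0 (Mid s0 s1 t)).image (fun i => dq s1 t s0 i) := rfl
open Classical in
lemma fam6 : fam s0 s1 t 6 = (insert s1 (Mid s0 s1 t)).image (fun i => dq s0 t s1 i) := rfl

lemma Mid_comm : Mid s1 s0 t = Mid s0 s1 t := by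
  ext l
  rw [mem_Mid, mem_Mid, isMid_comm]

include h01 h0t h1t in
theorem main_abs (hmid : ∃ l, IsMid s0 s1 t l) :
    Module.finrank k ↥(⨆ α : {α : Fin (n + 1) → ℤ // ∑ i, α i = 0}, tPiece (J k s0 s1 t) α.1) =
      6 + 4 * (Mid s0 s1 t).card + 2 * ((Mid s0 s1 t).card + 1) := by
  classical
  have hmid' : ∃ l, IsMid s1 s0 t l := by
    obtain ⟨l, hl⟩ := hmid
    exact ⟨l, (isMid_comm l).mpr hl⟩
  have e1 := h01.symm
  set L := (Finset.univ : Finset (Fin 7)).biUnion (fam s0 s1 t) with hL
  have hmemL : ∀ (j : Fin 7) α, α ∈ fam s0 s1 t j → α ∈ L := by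
    intro j α h
    rw [hL, Finset.mem_biUnion]
    exact ⟨j, Finset.mem_univ _, h⟩
  rw [finrank_hom0' (hI k s0 s1 t) (hG k s0 s1 t) L]
  · rw [hL, Finset.sum_biUnion]
    · rw [Fin.sum_univ_seven]
      have S0 : ∑ α ∈ fam s0 s1 t 0, Module.finrank k ↥(tPiece (J k s0 s1 t) α) = 3 := by
        rw [fam0, Finset.sum_singleton]
        exact finrank_A h01 h0t h1t hmid
      have S1 : ∑ α ∈ fam s0 s1 t 1, Module.finrank k ↥(tPiece (J k s0 s1 t) α) = 3 := by
        rw [fam1, Finset.sum_singleton, J_comm]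
        exact finrank_A e1 h1t h0t hmid'
      have S2 : ∑ α ∈ fam s0 s1 t 2, Module.finrank k ↥(tPiece (J k s0 s1 t) α) =
          (Mid s0 s1 t).card := by
        rw [fam2, Finset.sum_image]
        · rw [Finset.card_eq_sum_ones]
          apply Finset.sum_congr rfl
          intro b hb
          rw [mem_Mid] at hb
          exact finrank_B h01 h0t h1t hb
        · intro b hb b' hb' h
          rw [Finset.mem_coe, mem_Mid] at hb hb'
          exact (dv_inj (Ne.symm hb.1) (Ne.symm hb'.1) h).2
      have S3 : ∑ α ∈ fam s0 s1 t 3, Module.finrank k ↥(tPiece (J k s0 s1 t) α) =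
          (Mid s0 s1 t).card := by
        rw [fam3, Finset.sum_image]
        · rw [Finset.card_eq_sum_ones]
          apply Finset.sum_congr rfl
          intro b hb
          rw [mem_Mid] at hb
          rw [J_comm]
          exact finrank_B e1 h1t h0t ((isMid_comm b).mpr hb)
        · intro b hb b' hb' h
          rw [Finset.mem_coe, mem_Mid] at hb hb'
          exact (dv_inj (Ne.symm hb.2.1) (Ne.symm hb'.2.1) h).2
      have S4 : ∑ α ∈ fam s0 s1 t 4, Module.finrank k ↥(tPiece (J k s0 s1 t) α) =
          2 * (Mid s0 s1 t).card := by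
        rw [fam4, Finset.sum_image]
        · rw [Finset.card_eq_sum_ones, Finset.mul_sum]
          apply Finset.sum_congr rfl
          intro b hb
          rw [mem_Mid] at hb
          exact finrank_C h01 h0t h1t hb
        · intro b hb b' hb' h
          rw [Finset.mem_coe, mem_Mid] at hb hb'
          exact (dv_inj hb.2.2 hb'.2.2 h).1
      have S5 : ∑ α ∈ fam s0 s1 t 5, Module.finrank k ↥(tPiece (J k s0 s1 t) α) =
          (Mid s0 s1 t).card + 1 := by
        rw [fam5, Finset.sum_image]
        · have hs0 : s0 ∉ Mid s0 s1 t := by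
            rw [mem_Mid]
            exact fun h => h.1 rfl
          rw [← Finset.card_insert_of_notMem hs0, Finset.card_eq_sum_ones]
          apply Finset.sum_congr rfl
          intro b hb
          rw [Finset.mem_insert, mem_Mid] at hb
          rcases hb with rfl | hb
          · exact finrank_D0 h01 h0t h1t
          · exact finrank_D1 h01 h0t h1t hb
        · intro b hb b' hb' h
          exact dq_inj h
      have S6 : ∑ α ∈ fam s0 s1 t 6, Module.finrank k ↥(tPiece (J k s0 s1 t) α) =
          (Mid s0 s1 t).card + 1 := by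
        rw [fam6, Finset.sum_image]
        · have hs1 : s1 ∉ Mid s0 s1 t := by
            rw [mem_Mid]
            exact fun h => h.2.1 rfl
          rw [← Finset.card_insert_of_notMem hs1, Finset.card_eq_sum_ones]
          apply Finset.sum_congr rfl
          intro b hb
          rw [Finset.mem_insert, mem_Mid] at hb
          rw [J_comm]
          rcases hb with rfl | hb
          · exact finrank_D0 e1 h1t h0t
          · exact finrank_D1 e1 h1t h0t ((isMid_comm b).mpr hb)
        · intro b hb b' hb' h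
          exact dq_inj h
      rw [S0, S1, S2, S3, S4, S5, S6]
      ring
    · intro i _ j _ hij
      rw [Function.onFun, Finset.disjoint_left]
      intro α h1 h2
      apply hij
      apply codeVal_inj
      rw [← code_fam h01 h0t h1t i α h1, ← code_fam h01 h0t h1t j α h2]
  · intro α hα
    rw [hL, Finset.mem_biUnion] at hα
    obtain ⟨j, -, hj⟩ := hα
    fin_cases j <;> simp [fam] at hj
    · subst hj; exact sum_dv _ _
    · subst hj; exact sum_dv _ _
    · obtain ⟨b, -, rfl⟩ := hj; exact sum_dv _ _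
    · obtain ⟨b, -, rfl⟩ := hj; exact sum_dv _ _
    · obtain ⟨b, -, rfl⟩ := hj; exact sum_dv _ _
    · rcases hj with rfl | ⟨b, -, rfl⟩ <;> exact sum_dq _ _ _ _
    · rcases hj with rfl | ⟨b, -, rfl⟩ <;> exact sum_dq _ _ _ _
  · intro α hα hnotin
    apply tPiece_eq_bot h01 h0t h1t α _ _ _ _ _ _ _ _ _ hmid hα
    · intro h
      exact hnotin (hmemL 0 α (by rw [fam0, h]; exact Finset.mem_singleton_self _))
    · intro h
      exact hnotin (hmemL 1 α (by rw [fam1, h]; exact Finset.mem_singleton_self _))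
    · intro b hb h
      refine hnotin (hmemL 2 α ?_)
      rw [fam2, h]
      exact Finset.mem_image_of_mem _ ((mem_Mid b).mpr hb)
    · intro b hb h
      refine hnotin (hmemL 3 α ?_)
      rw [fam3, h]
      exact Finset.mem_image_of_mem _ ((mem_Mid b).mpr hb)
    · intro b hb h
      refine hnotin (hmemL 4 α ?_)
      rw [fam4, h]
      exact Finset.mem_image_of_mem _ ((mem_Mid b).mpr hb)
    · intro h
      refine hnotin (hmemL 5 α ?_)
      rw [fam5, h]
      exact Finset.mem_image_of_mem _ (Finset.mem_insert_self _ _)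
    · intro b hb h
      refine hnotin (hmemL 5 α ?_)
      rw [fam5, h]
      exact Finset.mem_image_of_mem _ (Finset.mem_insert_of_mem ((mem_Mid b).mpr hb))
    · intro h
      refine hnotin (hmemL 6 α ?_)
      rw [fam6, h]
      exact Finset.mem_image_of_mem _ (Finset.mem_insert_self _ _)
    · intro b hb h
      refine hnotin (hmemL 6 α ?_)
      rw [fam6, h]
      exact Finset.mem_image_of_mem _ (Finset.mem_insert_of_mem ((mem_Mid b).mpr hb))

end fam

end Groth.Agent.S13449
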