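import Groth.Agent.Lib.Seat60S13449e
import Groth.Agent.Lib.Seat60Hom0Key2

/-! Seat60: the ideal `x_{s0}·(x_l : l ≠ t) + (x_{s1}^q)` (abstract distinct indices `s0, s1, t`):
generators, membership in coordinates. -/

set_option autoImplicit false
set_option linter.unusedVariables false
set_option linter.unusedSectionVars false
set_option linter.unusedSimpArgs false
universe u
open W4c1hilbpn MvPolynomial
open Groth.Agent.Lib.Seat60.Hom0
open Groth.Agent.S13449 (dv dq pair_le)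

namespace Groth.Agent.S13450

section abstract

variable {k : Type u} [Field k] {n : ℕ} (s0 s1 t : Fin (n + 1)) (q : ℕ)

/-- index type of the generators: `none` for `x_{s1}^q`, `some i` for `x_{s0} x_i` -/
abbrev Idx : Type := Option {i : Fin (n + 1) // i ≠ t}

variable {t}

/-- exponent vectors of the generators -/
noncomputable def G : Idx t → (Fin (n + 1) →₀ ℕ)
  | none => Finsupp.single s1 q
  | some i => Finsupp.single s0 1 + Finsupp.single i.1 1

variable {s0 s1 q}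

lemma GZ_none (l : Fin (n + 1)) :
    (G s0 s1 q (none : Idx t) l : ℤ) = if s1 = l then (q : ℤ) else 0 := by
  unfold G
  rw [Finsupp.single_apply]
  split_ifs <;> simp

lemma GZ_some (i : {i : Fin (n + 1) // i ≠ t}) (l : Fin (n + 1)) :
    (G s0 s1 q (some i : Idx t) l : ℤ) = (if s0 = l then 1 else 0) + (if i.1 = l then 1 else 0) := by
  unfold G
  rw [Finsupp.add_apply, Finsupp.single_apply, Finsupp.single_apply]
  push_cast
  rfl

variable (k s0 s1 t q)

/-- the ideal -/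
noncomputable def J : Ideal (MvPolynomial (Fin (n + 1)) k) :=
  Ideal.span ({f : MvPolynomial (Fin (n + 1)) k | ∃ i : Fin (n + 1), i ≠ t ∧
        f = MvPolynomial.X s0 * MvPolynomial.X i} ∪ {MvPolynomial.X s1 ^ q})

lemma J_eq : J k s0 s1 t q = monIdeal (G s0 s1 q (t := t)) k := by
  unfold J monIdeal
  congr 1
  ext f
  constructor
  · rintro (⟨i, hi, rfl⟩ | hf)
    · refine ⟨some ⟨i, hi⟩, ?_⟩
      show monomial (G s0 s1 q (some ⟨i, hi⟩)) (1 : k) = _
      unfold G
      rw [X, X, monomial_mul, one_mul]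
    · refine ⟨none, ?_⟩
      rw [Set.mem_singleton_iff] at hf
      rw [hf]
      show monomial (G s0 s1 q none) (1 : k) = _
      unfold G
      rw [X_pow_eq_monomial]
  · rintro ⟨p, rfl⟩
    cases p with
    | none =>
      right
      rw [Set.mem_singleton_iff]
      show monomial (G s0 s1 q none) (1 : k) = _
      unfold G
      rw [X_pow_eq_monomial]
    | some i =>
      left
      refine ⟨i.1, i.2, ?_⟩
      show monomial (G s0 s1 q (some i)) (1 : k) = _
      unfold G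
      rw [X, X, monomial_mul, one_mul]

lemma hI : IsMonomial (J k s0 s1 t q) := by
  rw [J_eq]
  exact isMonomial_monIdeal _

lemma hG (β : Fin (n + 1) →₀ ℕ) :
    β ∈ exps (J k s0 s1 t q) ↔ ∃ p : Idx t, G s0 s1 q p ≤ β := by
  rw [J_eq]
  exact mem_exps_monIdeal _ β

variable {k s0 s1 t q}

/-- `l` is a middle index -/
def IsMid (s0 s1 t l : Fin (n + 1)) : Prop := l ≠ s0 ∧ l ≠ s1 ∧ l ≠ t

/-- membership of a nonnegative integer vector in the exponent set, in coordinates -/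
def inI (s0 s1 t : Fin (n + 1)) (q : ℕ) (m : Fin (n + 1) → ℤ) : Prop :=
  (q : ℤ) ≤ m s1 ∨ 2 ≤ m s0 ∨ (1 ≤ m s0 ∧ 1 ≤ m s1) ∨
    (1 ≤ m s0 ∧ ∃ l, IsMid s0 s1 t l ∧ 1 ≤ m l)

lemma not_inI_iff (m : Fin (n + 1) → ℤ) : ¬ inI s0 s1 t q m ↔
    m s1 < q ∧ m s0 ≤ 1 ∧ (1 ≤ m s0 → m s1 ≤ 0 ∧ ∀ l, IsMid s0 s1 t l → m l ≤ 0) := by
  unfold inI
  constructor
  · intro h
    push Not at h
    obtain ⟨h1, h2, h3, h4⟩ := h
    refine ⟨h1, by omega, fun h5 => ⟨?_, fun l hl => ?_⟩⟩
    · have := h3 h5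
      omega
    · have := h4 h5 l hl
      omega
  · rintro ⟨h1, h2, h3⟩
    rintro (h | h | ⟨h4, h5⟩ | ⟨h4, l, hl, hl'⟩)
    · omega
    · omega
    · have := (h3 h4).1
      omega
    · have := (h3 h4).2 l hl
      omega

variable (h01 : s0 ≠ s1) (h0t : s0 ≠ t) (h1t : s1 ≠ t)

include h01 h0t h1t in
lemma exists_le_iff (m : Fin (n + 1) → ℤ) (hm : ∀ l, 0 ≤ m l) :
    (∃ p : Idx t, ∀ l, (G s0 s1 q p l : ℤ) ≤ m l) ↔ inI s0 s1 t q m := by
  have e1 := h01.symm
  constructor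
  · rintro ⟨p, h⟩
    cases p with
    | none =>
      left
      have := h s1
      rw [GZ_none, if_pos rfl] at this
      exact this
    | some i =>
      obtain ⟨i, hit⟩ := i
      have f0 := h s0
      have f1 := h i
      rw [GZ_some] at f0 f1
      simp only [↓reduceIte] at f0 f1
      by_cases hi0 : i = s0
      · right; left
        rw [if_pos hi0] at f0
        omega
      by_cases hi1 : i = s1
      · right; right; left
        subst i
        rw [if_neg e1] at f0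
        rw [if_neg h01] at f1
        constructor <;> omega
      · right; right; right
        rw [if_neg hi0] at f0
        rw [if_neg (Ne.symm hi0)] at f1
        exact ⟨by omega, i, ⟨hi0, hi1, hit⟩, by omega⟩
  · rintro (h | h | ⟨h, h'⟩ | ⟨h, l, ⟨hl0, hl1, hlt⟩, hl⟩)
    · refine ⟨none, fun l => ?_⟩
      rw [GZ_none]
      split_ifs with e
      · subst e; exact h
      · exact hm l
    · refine ⟨some ⟨s0, h0t⟩, fun l => ?_⟩
      rw [GZ_some]
      exact pair_le s0 s0 m hm (by rw [if_pos rfl]; exact h) l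
    · refine ⟨some ⟨s1, h1t⟩, fun l => ?_⟩
      rw [GZ_some]
      exact pair_le s0 s1 m hm (by rw [if_neg h01]; exact ⟨h, h'⟩) l
    · refine ⟨some ⟨l, hlt⟩, fun l' => ?_⟩
      rw [GZ_some]
      exact pair_le s0 l m hm (by rw [if_neg (Ne.symm hl0)]; exact ⟨h, hl⟩) l'

include h01 h0t h1t in
lemma act_iff' (α : Fin (n + 1) → ℤ) (p : Idx t) :
    Act (G s0 s1 q) (J k s0 s1 t q) α p ↔ (∀ l, 0 ≤ (G s0 s1 q p l : ℤ) + α l) ∧
      ¬ inI s0 s1 t q (fun l => (G s0 s1 q p l : ℤ) + α l) := by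
  rw [act_iff (hG k s0 s1 t q)]
  constructor
  · rintro ⟨h1, h2⟩
    exact ⟨h1, fun h => h2 ((exists_le_iff h01 h0t h1t _ h1).mpr h)⟩
  · rintro ⟨h1, h2⟩
    exact ⟨h1, fun h => h2 ((exists_le_iff h01 h0t h1t _ h1).mp h)⟩

include h01 h0t h1t in
lemma conn_iff' (α : Fin (n + 1) → ℤ) (p p' : Idx t) :
    Conn (G s0 s1 q) (J k s0 s1 t q) α p p' ↔
      (∀ l, 0 ≤ (max (G s0 s1 q p l) (G s0 s1 q p' l) : ℤ) + α l) ∧
      ¬ inI s0 s1 t q (fun l => (max (G s0 s1 q p l) (G s0 s1 q p' l) : ℤ) + α l) := by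
  rw [conn_iff (hG k s0 s1 t q)]
  constructor
  · rintro ⟨h1, h2⟩
    exact ⟨h1, fun h => h2 ((exists_le_iff h01 h0t h1t _ h1).mpr h)⟩
  · rintro ⟨h1, h2⟩
    exact ⟨h1, fun h => h2 ((exists_le_iff h01 h0t h1t _ h1).mp h)⟩

lemma act_iff_conn_self (α : Fin (n + 1) → ℤ) (p : Idx t) :
    Act (G s0 s1 q) (J k s0 s1 t q) α p ↔ Conn (G s0 s1 q) (J k s0 s1 t q) α p p := by
  unfold Act Conn
  rw [sup_idem]

end abstract

end Groth.Agent.S13450
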