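import Groth.Agent.Lib.Seat60S13450a

/-! Seat60: integer profiles of the generators of the ideal of `Seat60S13450a` and the linking
relation in integer coordinates. -/

set_option autoImplicit false
set_option linter.unusedVariables false
set_option linter.unusedSectionVars false
set_option linter.unusedSimpArgs false
universe u
open W4c1hilbpn MvPolynomial
open Groth.Agent.Lib.Seat60.Hom0
open Groth.Agent.S13449 (dv dq pair_le)

namespace Groth.Agent.S13450

variable {k : Type u} [Field k] {n : ℕ} {s0 s1 t : Fin (n + 1)} {q : ℕ}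
variable (h01 : s0 ≠ s1) (h0t : s0 ≠ t) (h1t : s1 ≠ t)

include h01 h0t h1t in
lemma G_t' (p : Idx t) : (G s0 s1 q p t : ℤ) = 0 := by
  cases p with
  | none => rw [GZ_none, if_neg h1t]
  | some i =>
    rw [GZ_some, if_neg h0t, if_neg i.2]
    norm_num

include h01 h0t h1t in
/-- the profile of a generator: its exponents at `s0`, `s1` and at a further index `c` -/
lemma prof {c : Fin (n + 1)} (hc0 : c ≠ s0) (hc1 : c ≠ s1) (p : Idx t) :
    0 ≤ (G s0 s1 q p s0 : ℤ) ∧ (G s0 s1 q p s0 : ℤ) ≤ 2 ∧ 0 ≤ (G s0 s1 q p s1 : ℤ) ∧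
      0 ≤ (G s0 s1 q p c : ℤ) ∧
      ((G s0 s1 q p s0 : ℤ) = 0 → (G s0 s1 q p s1 : ℤ) = q ∧ (G s0 s1 q p c : ℤ) = 0) ∧
      (1 ≤ (G s0 s1 q p s0 : ℤ) →
        (G s0 s1 q p s0 : ℤ) + G s0 s1 q p s1 + G s0 s1 q p c ≤ 2) ∧
      (c = t → (G s0 s1 q p c : ℤ) = 0) := by
  have hct := G_t' (q := q) h01 h0t h1t p
  have e1 := h01.symm
  have e4 := hc0.symm
  have e5 := hc1.symm
  cases p with
  | none =>
    rw [GZ_none, GZ_none, GZ_none, if_neg e1, if_pos rfl, if_neg e5]
    refine ⟨le_rfl, by norm_num, by positivity, le_rfl, fun _ => ⟨rfl, rfl⟩, fun h => ?_,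
      fun _ => rfl⟩
    norm_num at h
  | some i =>
    obtain ⟨i, hit⟩ := i
    rw [GZ_some, GZ_some, GZ_some]
    simp only [h01, e4, ↓reduceIte]
    refine ⟨by split_ifs <;> norm_num, by split_ifs <;> norm_num, by split_ifs <;> norm_num,
      by split_ifs <;> norm_num, ?_, ?_, ?_⟩
    · intro h
      split_ifs at h <;> norm_num at h
    · intro _
      split_ifs <;> omega
    · rintro rfl
      rw [if_neg hit]
      norm_num

/-- some middle index other than `c` carries the generator -/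
def E (s0 s1 : Fin (n + 1)) (q : ℕ) (c : Fin (n + 1)) (p : Idx t) : Prop :=
  ∃ l, IsMid s0 s1 t l ∧ l ≠ c ∧ 1 ≤ (G s0 s1 q p l : ℤ)

include h01 h0t h1t in
lemma E_iff {c : Fin (n + 1)} (hc0 : c ≠ s0) (hc1 : c ≠ s1) (p : Idx t) :
    E s0 s1 q c p ↔ (G s0 s1 q p s0 : ℤ) = 1 ∧ (G s0 s1 q p s1 : ℤ) = 0 ∧
      (G s0 s1 q p c : ℤ) = 0 := by
  have e1 := h01.symm
  have e4 := hc0.symm
  have e5 := hc1.symm
  unfold E
  cases p with
  | none =>
    constructor
    · rintro ⟨l, ⟨hl0, hl1, hlt⟩, hlc, hl⟩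
      rw [GZ_none, if_neg (Ne.symm hl1)] at hl
      norm_num at hl
    · rintro ⟨h, -⟩
      rw [GZ_none, if_neg e1] at h
      norm_num at h
  | some i =>
    obtain ⟨i, hit⟩ := i
    simp only [GZ_some]
    constructor
    · rintro ⟨l, ⟨hl0, hl1, hlt⟩, hlc, hl⟩
      rw [if_neg (Ne.symm hl0)] at hl
      have hil : i = l := by
        by_contra hil
        rw [if_neg hil] at hl
        norm_num at hl
      subst hil
      simp only [h01, e4, hl0, hl1, hlc, ↓reduceIte]
      norm_num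
    · rintro ⟨h1, h2, h3⟩
      simp only [h01, e4, ↓reduceIte] at h1 h2 h3
      refine ⟨i, ⟨?_, ?_, hit⟩, ?_, ?_⟩
      · rintro rfl
        norm_num at h1
      · rintro rfl
        norm_num at h2
      · rintro rfl
        norm_num at h3
      · simp only [↓reduceIte]
        split_ifs <;> norm_num


include h01 h0t h1t in
/-- the linking relation in coordinates, for a multidegree which on the middle indices is
`-e_c` (`c` a middle index) or zero (`c = t`) -/
lemma conn_minus (α : Fin (n + 1) → ℤ) {c : Fin (n + 1)} (hc0 : c ≠ s0) (hc1 : c ≠ s1)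
    (hα : ∀ l, IsMid s0 s1 t l → α l = -(if c = l then 1 else 0)) (p p' : Idx t) :
    Conn (G s0 s1 q) (J k s0 s1 t q) α p p' ↔
      0 ≤ max (G s0 s1 q p s0 : ℤ) (G s0 s1 q p' s0) + α s0 ∧
      0 ≤ max (G s0 s1 q p s1 : ℤ) (G s0 s1 q p' s1) + α s1 ∧ 0 ≤ α t ∧
      (c ≠ t → 1 ≤ max (G s0 s1 q p c : ℤ) (G s0 s1 q p' c)) ∧
      max (G s0 s1 q p s1 : ℤ) (G s0 s1 q p' s1) + α s1 < q ∧
      max (G s0 s1 q p s0 : ℤ) (G s0 s1 q p' s0) + α s0 ≤ 1 ∧
      (1 ≤ max (G s0 s1 q p s0 : ℤ) (G s0 s1 q p' s0) + α s0 →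
        max (G s0 s1 q p s1 : ℤ) (G s0 s1 q p' s1) + α s1 ≤ 0 ∧
        ¬ E s0 s1 q c p ∧ ¬ E s0 s1 q c p') := by
  rw [conn_iff' h01 h0t h1t, not_inI_iff]
  have hcmid : c ≠ t → IsMid s0 s1 t c := fun h => ⟨hc0, hc1, h⟩
  have P1 := prof (q := q) h01 h0t h1t hc0 hc1 p
  have P2 := prof (q := q) h01 h0t h1t hc0 hc1 p'
  have Gt1 := G_t' (q := q) h01 h0t h1t p
  have Gt2 := G_t' (q := q) h01 h0t h1t p'
  constructor
  · rintro ⟨h1, h2, h2', h3⟩
    refine ⟨h1 s0, h1 s1, ?_, ?_, h2, h2', ?_⟩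
    · have := h1 t
      rw [Gt1, Gt2] at this
      simpa using this
    · intro hct
      have := h1 c
      rw [hα c (hcmid hct), if_pos rfl] at this
      omega
    · intro hS
      obtain ⟨h4', h4⟩ := h3 hS
      refine ⟨h4', ?_, ?_⟩
      · rintro ⟨l, hl, hlc, hl1⟩
        have := h4 l hl
        rw [hα l hl, if_neg (Ne.symm hlc)] at this
        have : (G s0 s1 q p l : ℤ) ≤ max (G s0 s1 q p l : ℤ) (G s0 s1 q p' l) := le_max_left _ _
        omega
      · rintro ⟨l, hl, hlc, hl1⟩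
        have := h4 l hl
        rw [hα l hl, if_neg (Ne.symm hlc)] at this
        have : (G s0 s1 q p' l : ℤ) ≤ max (G s0 s1 q p l : ℤ) (G s0 s1 q p' l) := le_max_right _ _
        omega
  · rintro ⟨h1, h2, h3, h4, h5, h5', h6⟩
    refine ⟨fun l => ?_, h5, h5', fun hS => ⟨(h6 hS).1, fun l hl => ?_⟩⟩
    · by_cases hl0 : l = s0
      · rw [hl0]; exact h1
      by_cases hl1 : l = s1
      · rw [hl1]; exact h2
      by_cases hlt : l = t
      · rw [hlt, Gt1, Gt2]
        simpa using h3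
      have hl : IsMid s0 s1 t l := ⟨hl0, hl1, hlt⟩
      rw [hα l hl]
      by_cases hcl : c = l
      · subst hcl
        rw [if_pos rfl]
        have := h4 hlt
        omega
      · rw [if_neg hcl]
        have : (0 : ℤ) ≤ (G s0 s1 q p l : ℤ) := by positivity
        have : (G s0 s1 q p l : ℤ) ≤ max (G s0 s1 q p l : ℤ) (G s0 s1 q p' l) := le_max_left _ _
        omega
    · obtain ⟨-, h7, h8⟩ := h6 hS
      rw [hα l hl]
      by_cases hcl : c = l
      · subst hcl
        rw [if_pos rfl]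
        have hz1 : (G s0 s1 q p c : ℤ) ≤ 1 := by
          by_contra hcon
          have : (G s0 s1 q p s0 : ℤ) = 0 := by
            by_contra h0
            have := P1.2.2.2.2.2.1 (by omega)
            omega
          have := (P1.2.2.2.2.1 this).2
          omega
        have hz2 : (G s0 s1 q p' c : ℤ) ≤ 1 := by
          by_contra hcon
          have : (G s0 s1 q p' s0 : ℤ) = 0 := by
            by_contra h0
            have := P2.2.2.2.2.2.1 (by omega)
            omega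
          have := (P2.2.2.2.2.1 this).2
          omega
        have : max (G s0 s1 q p c : ℤ) (G s0 s1 q p' c) ≤ 1 := max_le hz1 hz2
        omega
      · rw [if_neg hcl]
        have e1 : (G s0 s1 q p l : ℤ) ≤ 0 := by
          by_contra hcon
          exact h7 ⟨l, hl, Ne.symm hcl, by omega⟩
        have e2 : (G s0 s1 q p' l : ℤ) ≤ 0 := by
          by_contra hcon
          exact h8 ⟨l, hl, Ne.symm hcl, by omega⟩
        have : max (G s0 s1 q p l : ℤ) (G s0 s1 q p' l) ≤ 0 := max_le e1 e2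
        omega

include h01 h0t h1t in
/-- the linking relation in coordinates, for a multidegree which is nonnegative on the middle
indices and positive at one of them -/
lemma conn_plus (α : Fin (n + 1) → ℤ) (hα : ∀ l, IsMid s0 s1 t l → 0 ≤ α l)
    (hb : ∃ b, IsMid s0 s1 t b ∧ 1 ≤ α b) (p p' : Idx t) :
    Conn (G s0 s1 q) (J k s0 s1 t q) α p p' ↔
      0 ≤ max (G s0 s1 q p s0 : ℤ) (G s0 s1 q p' s0) + α s0 ∧
      0 ≤ max (G s0 s1 q p s1 : ℤ) (G s0 s1 q p' s1) + α s1 ∧ 0 ≤ α t ∧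
      max (G s0 s1 q p s1 : ℤ) (G s0 s1 q p' s1) + α s1 < q ∧
      max (G s0 s1 q p s0 : ℤ) (G s0 s1 q p' s0) + α s0 ≤ 0 := by
  rw [conn_iff' h01 h0t h1t, not_inI_iff]
  obtain ⟨b, hbm, hb1⟩ := hb
  have Gt1 := G_t' (q := q) h01 h0t h1t p
  have Gt2 := G_t' (q := q) h01 h0t h1t p'
  constructor
  · rintro ⟨h1, h2, h2', h3⟩
    refine ⟨h1 s0, h1 s1, ?_, h2, ?_⟩
    · have := h1 t
      rw [Gt1, Gt2] at this
      simpa using this
    · by_contra hcon
      have := (h3 (by omega)).2 b hbm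
      have : (0 : ℤ) ≤ (G s0 s1 q p b : ℤ) := by positivity
      have : (G s0 s1 q p b : ℤ) ≤ max (G s0 s1 q p b : ℤ) (G s0 s1 q p' b) := le_max_left _ _
      omega
  · rintro ⟨h1, h2, h3, h4, h5⟩
    refine ⟨fun l => ?_, h4, by omega, fun hS => by omega⟩
    by_cases hl0 : l = s0
    · rw [hl0]; exact h1
    by_cases hl1 : l = s1
    · rw [hl1]; exact h2
    by_cases hlt : l = t
    · rw [hlt, Gt1, Gt2]
      simpa using h3
    have hl : IsMid s0 s1 t l := ⟨hl0, hl1, hlt⟩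
    have := hα l hl
    have : (0 : ℤ) ≤ (G s0 s1 q p l : ℤ) := by positivity
    have : (G s0 s1 q p l : ℤ) ≤ max (G s0 s1 q p l : ℤ) (G s0 s1 q p' l) := le_max_left _ _
    omega

end Groth.Agent.S13450
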