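import Groth.Agent.Lib.Seat60S13450b

/-! Seat60: the special nonzero graded pieces of total degree zero of `T(I)` for the ideal of
`Seat60S13450a`, with their dimensions. -/

set_option autoImplicit false
set_option linter.unusedVariables false
set_option linter.unusedSectionVars false
set_option linter.unusedSimpArgs false
set_option linter.unusedTactic false
set_option linter.unreachableTactic false
universe u
open W4c1hilbpn MvPolynomial
open Groth.Agent.Lib.Seat60.Hom0
open Groth.Agent.S13449 (dv dq pair_le dv_self_right dv_self_left dv_other dq_apply)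

namespace Groth.Agent.S13450

variable {k : Type u} [Field k] {n : ℕ} {s0 s1 t : Fin (n + 1)} {q : ℕ}
variable (h01 : s0 ≠ s1) (h0t : s0 ≠ t) (h1t : s1 ≠ t) (hq : 2 ≤ q)

lemma dv_apply (b a l : Fin (n + 1)) :
    dv b a l = (if b = l then 1 else 0) - (if a = l then 1 else 0) := rfl

/-- the multidegree `e_{s0} + (q - 1) e_t - q e_{s1}` -/
def a5 (s0 s1 t : Fin (n + 1)) (q : ℕ) : Fin (n + 1) → ℤ :=
  fun l => (if s0 = l then 1 else 0) + (if t = l then ((q : ℤ) - 1) else 0) -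
    (if s1 = l then (q : ℤ) else 0)

lemma a5_apply (l : Fin (n + 1)) : a5 s0 s1 t q l =
    (if s0 = l then 1 else 0) + (if t = l then ((q : ℤ) - 1) else 0) -
      (if s1 = l then (q : ℤ) else 0) := rfl

/-! ### F1: `e_t - e_{s0}` -/

include h01 h0t h1t hq in
theorem finrank_F1 :
    Module.finrank k ↥(tPiece (J k s0 s1 t q) (dv t s0)) = 2 := by
  classical
  rw [finrank_tPiece_eq_finrank_W (hI k s0 s1 t q) (hG k s0 s1 t q)]
  have e1 := h01.symm
  have e2 := h0t.symm
  have e3 := h1t.symm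
  have hqz : (2 : ℤ) ≤ (q : ℤ) := by exact_mod_cast hq
  have hα : ∀ l, IsMid s0 s1 t l → (dv t s0) l = -(if t = l then 1 else 0) := by
    rintro l ⟨hl0, hl1, hlt⟩
    simp only [dv_apply, a5_apply, Ne.symm hl0, Ne.symm hl1, Ne.symm hlt, ↓reduceIte]
    try ring
  have a0 : (dv t s0) s0 = -1 := by
    simp only [dv_apply, a5_apply, h01, h0t, h1t, e1, e2, e3, ↓reduceIte]
    try ring
  have a1 : (dv t s0) s1 = 0 := by
    simp only [dv_apply, a5_apply, h01, h0t, h1t, e1, e2, e3, ↓reduceIte]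
    try ring
  have at' : (dv t s0) t = 1 := by
    simp only [dv_apply, a5_apply, h01, h0t, h1t, e1, e2, e3, ↓reduceIte]
    try ring
  have hc0 : t ≠ s0 := e2
  have hc1 : t ≠ s1 := e3
  have key := finrank_W_eq_card_of_key' (k := k) (G := G s0 s1 q) (I := J k s0 s1 t q) (α := dv t s0)
    (fun p : Idx t => (G s0 s1 q p s0 : ℤ)) ({(2 : ℤ), (1 : ℤ)} : Finset (ℤ))
  rw [key]
  · rfl
  · intro p
    have P := prof (q := q) h01 h0t h1t hc0 hc1 p
    rw [act_iff_conn_self]
    rw [conn_minus h01 h0t h1t _ hc0 hc1 hα, E_iff h01 h0t h1t hc0 hc1, a0, a1, at']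
    simp only [max_self, Finset.mem_insert, Finset.mem_singleton, Prod.mk.injEq]
    omega
  · intro p p'
    have P := prof (q := q) h01 h0t h1t hc0 hc1 p
    have Q := prof (q := q) h01 h0t h1t hc0 hc1 p'
    rw [conn_minus h01 h0t h1t _ hc0 hc1 hα, E_iff h01 h0t h1t hc0 hc1, E_iff h01 h0t h1t hc0 hc1, a0, a1, at']
    try simp only [Finset.mem_insert, Finset.mem_singleton, Prod.mk.injEq]
    omega
  · intro x hx
    simp only [Finset.mem_insert, Finset.mem_singleton] at hx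
    rcases hx with rfl | rfl
    · refine ⟨some ⟨s0, h0t⟩, ?_⟩
      simp only [GZ_none, GZ_some, h01, h0t, h1t, e1, e2, e3, ↓reduceIte, Prod.mk.injEq]
      try norm_num
      try omega
    · refine ⟨some ⟨s1, h1t⟩, ?_⟩
      simp only [GZ_none, GZ_some, h01, h0t, h1t, e1, e2, e3, ↓reduceIte, Prod.mk.injEq]
      try norm_num
      try omega
  · intro c hc p p' hp hpq
    have P := prof (q := q) h01 h0t h1t hc0 hc1 p
    have Q := prof (q := q) h01 h0t h1t hc0 hc1 p'
    simp only [Finset.mem_insert, Finset.mem_singleton, Prod.mk.injEq] at hp hpq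
    apply hc.2
    rw [conn_minus h01 h0t h1t _ hc0 hc1 hα, E_iff h01 h0t h1t hc0 hc1, E_iff h01 h0t h1t hc0 hc1, a0, a1, at']
    omega

/-! ### F2a: `e_{s1} - e_{s0}` -/

include h01 h0t h1t hq in
theorem finrank_F2a (hmid : ∃ w, IsMid s0 s1 t w) :
    Module.finrank k ↥(tPiece (J k s0 s1 t q) (dv s1 s0)) = 1 := by
  classical
  rw [finrank_tPiece_eq_finrank_W (hI k s0 s1 t q) (hG k s0 s1 t q)]
  have e1 := h01.symm
  have e2 := h0t.symm
  have e3 := h1t.symm
  have hqz : (2 : ℤ) ≤ (q : ℤ) := by exact_mod_cast hq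
  have hα : ∀ l, IsMid s0 s1 t l → (dv s1 s0) l = -(if t = l then 1 else 0) := by
    rintro l ⟨hl0, hl1, hlt⟩
    simp only [dv_apply, a5_apply, Ne.symm hl0, Ne.symm hl1, Ne.symm hlt, ↓reduceIte]
    try ring
  have a0 : (dv s1 s0) s0 = -1 := by
    simp only [dv_apply, a5_apply, h01, h0t, h1t, e1, e2, e3, ↓reduceIte]
    try ring
  have a1 : (dv s1 s0) s1 = 1 := by
    simp only [dv_apply, a5_apply, h01, h0t, h1t, e1, e2, e3, ↓reduceIte]
    try ring
  have at' : (dv s1 s0) t = 0 := by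
    simp only [dv_apply, a5_apply, h01, h0t, h1t, e1, e2, e3, ↓reduceIte]
    try ring
  have hc0 : t ≠ s0 := e2
  have hc1 : t ≠ s1 := e3
  have key := finrank_W_eq_card_of_key' (k := k) (G := G s0 s1 q) (I := J k s0 s1 t q) (α := dv s1 s0)
    (fun p : Idx t => (if (G s0 s1 q p s0 : ℤ) = 1 ∧ (G s0 s1 q p s1 : ℤ) + 1 < (q : ℤ) then (1 : ℤ) else 0)) ({(1 : ℤ)} : Finset (ℤ))
  rw [key]
  · rfl
  · intro p
    have P := prof (q := q) h01 h0t h1t hc0 hc1 p
    rw [act_iff_conn_self]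
    rw [conn_minus h01 h0t h1t _ hc0 hc1 hα, E_iff h01 h0t h1t hc0 hc1, a0, a1, at']
    simp only [max_self, Finset.mem_insert, Finset.mem_singleton, Prod.mk.injEq]
    omega
  · intro p p'
    have P := prof (q := q) h01 h0t h1t hc0 hc1 p
    have Q := prof (q := q) h01 h0t h1t hc0 hc1 p'
    rw [conn_minus h01 h0t h1t _ hc0 hc1 hα, E_iff h01 h0t h1t hc0 hc1, E_iff h01 h0t h1t hc0 hc1, a0, a1, at']
    try simp only [Finset.mem_insert, Finset.mem_singleton, Prod.mk.injEq]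
    omega
  · intro x hx
    simp only [Finset.mem_insert, Finset.mem_singleton] at hx
    subst hx
    · obtain ⟨w, hw0, hw1, hwt⟩ := hmid
      refine ⟨some ⟨w, hwt⟩, ?_⟩
      simp only [GZ_none, GZ_some, h01, h0t, h1t, e1, e2, e3, hw0, hw1, hwt, Ne.symm hw0, Ne.symm hw1, Ne.symm hwt, ↓reduceIte, Prod.mk.injEq]
      try norm_num
      try omega
  · intro c hc p p' hp hpq
    have P := prof (q := q) h01 h0t h1t hc0 hc1 p
    have Q := prof (q := q) h01 h0t h1t hc0 hc1 p'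
    simp only [Finset.mem_insert, Finset.mem_singleton, Prod.mk.injEq] at hp hpq
    apply hc.2
    rw [conn_minus h01 h0t h1t _ hc0 hc1 hα, E_iff h01 h0t h1t hc0 hc1, E_iff h01 h0t h1t hc0 hc1, a0, a1, at']
    omega

/-! ### F2b: `e_b - e_{s0}`, `b` a middle index -/

include h01 h0t h1t hq in
theorem finrank_F2b {b : Fin (n + 1)} (hm : IsMid s0 s1 t b) :
    Module.finrank k ↥(tPiece (J k s0 s1 t q) (dv b s0)) = 1 := by
  classical
  rw [finrank_tPiece_eq_finrank_W (hI k s0 s1 t q) (hG k s0 s1 t q)]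
  have e1 := h01.symm
  have e2 := h0t.symm
  have e3 := h1t.symm
  have hqz : (2 : ℤ) ≤ (q : ℤ) := by exact_mod_cast hq
  obtain ⟨hm0, hm1, hmt⟩ := hm
  have e7 := hm0.symm
  have e8 := hm1.symm
  have e9 := hmt.symm
  have hα : ∀ l, IsMid s0 s1 t l → 0 ≤ (dv b s0) l := by
    rintro l ⟨hl0, hl1, hlt⟩
    simp only [dv_apply, a5_apply, Ne.symm hl0, Ne.symm hl1, Ne.symm hlt, ↓reduceIte]
    split_ifs <;> norm_num
  have hb' : ∃ b', IsMid s0 s1 t b' ∧ 1 ≤ (dv b s0) b' := by
    refine ⟨b, ⟨hm0, hm1, hmt⟩, ?_⟩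
    simp only [dv_apply, a5_apply, h01, h0t, h1t, e1, e2, e3, hm0, hm1, hmt, e7, e8, e9, ↓reduceIte]
    norm_num
  have a0 : (dv b s0) s0 = -1 := by
    simp only [dv_apply, a5_apply, h01, h0t, h1t, e1, e2, e3, hm0, hm1, hmt, e7, e8, e9, ↓reduceIte]
    try ring
  have a1 : (dv b s0) s1 = 0 := by
    simp only [dv_apply, a5_apply, h01, h0t, h1t, e1, e2, e3, hm0, hm1, hmt, e7, e8, e9, ↓reduceIte]
    try ring
  have at' : (dv b s0) t = 0 := by
    simp only [dv_apply, a5_apply, h01, h0t, h1t, e1, e2, e3, hm0, hm1, hmt, e7, e8, e9, ↓reduceIte]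
    try ring
  have hc0 : t ≠ s0 := e2
  have hc1 : t ≠ s1 := e3
  have key := finrank_W_eq_card_of_key' (k := k) (G := G s0 s1 q) (I := J k s0 s1 t q) (α := dv b s0)
    (fun p : Idx t => (G s0 s1 q p s0 : ℤ)) ({(1 : ℤ)} : Finset (ℤ))
  rw [key]
  · rfl
  · intro p
    have P := prof (q := q) h01 h0t h1t hc0 hc1 p
    rw [act_iff_conn_self]
    rw [conn_plus h01 h0t h1t _ hα hb', a0, a1, at']
    simp only [max_self, Finset.mem_insert, Finset.mem_singleton, Prod.mk.injEq]
    omega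
  · intro p p'
    have P := prof (q := q) h01 h0t h1t hc0 hc1 p
    have Q := prof (q := q) h01 h0t h1t hc0 hc1 p'
    rw [conn_plus h01 h0t h1t _ hα hb', a0, a1, at']
    try simp only [Finset.mem_insert, Finset.mem_singleton, Prod.mk.injEq]
    omega
  · intro x hx
    simp only [Finset.mem_insert, Finset.mem_singleton] at hx
    subst hx
    · refine ⟨some ⟨s1, h1t⟩, ?_⟩
      simp only [GZ_none, GZ_some, h01, h0t, h1t, e1, e2, e3, hm0, hm1, hmt, e7, e8, e9, ↓reduceIte, Prod.mk.injEq]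
      try norm_num
      try omega
  · intro c hc p p' hp hpq
    have P := prof (q := q) h01 h0t h1t hc0 hc1 p
    have Q := prof (q := q) h01 h0t h1t hc0 hc1 p'
    simp only [Finset.mem_insert, Finset.mem_singleton, Prod.mk.injEq] at hp hpq
    apply hc.2
    rw [conn_plus h01 h0t h1t _ hα hb', a0, a1, at']
    omega

/-! ### F3: `e_t - e_b`, `b` a middle index -/

include h01 h0t h1t hq in
theorem finrank_F3 {b : Fin (n + 1)} (hm : IsMid s0 s1 t b) :
    Module.finrank k ↥(tPiece (J k s0 s1 t q) (dv t b)) = 1 := by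
  classical
  rw [finrank_tPiece_eq_finrank_W (hI k s0 s1 t q) (hG k s0 s1 t q)]
  have e1 := h01.symm
  have e2 := h0t.symm
  have e3 := h1t.symm
  have hqz : (2 : ℤ) ≤ (q : ℤ) := by exact_mod_cast hq
  obtain ⟨hm0, hm1, hmt⟩ := hm
  have e7 := hm0.symm
  have e8 := hm1.symm
  have e9 := hmt.symm
  have hα : ∀ l, IsMid s0 s1 t l → (dv t b) l = -(if b = l then 1 else 0) := by
    rintro l ⟨hl0, hl1, hlt⟩
    simp only [dv_apply, a5_apply, Ne.symm hl0, Ne.symm hl1, Ne.symm hlt, ↓reduceIte]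
    try ring
  have a0 : (dv t b) s0 = 0 := by
    simp only [dv_apply, a5_apply, h01, h0t, h1t, e1, e2, e3, hm0, hm1, hmt, e7, e8, e9, ↓reduceIte]
    try ring
  have a1 : (dv t b) s1 = 0 := by
    simp only [dv_apply, a5_apply, h01, h0t, h1t, e1, e2, e3, hm0, hm1, hmt, e7, e8, e9, ↓reduceIte]
    try ring
  have at' : (dv t b) t = 1 := by
    simp only [dv_apply, a5_apply, h01, h0t, h1t, e1, e2, e3, hm0, hm1, hmt, e7, e8, e9, ↓reduceIte]
    try ring
  have hc0 : b ≠ s0 := hm0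
  have hc1 : b ≠ s1 := hm1
  have key := finrank_W_eq_card_of_key' (k := k) (G := G s0 s1 q) (I := J k s0 s1 t q) (α := dv t b)
    (fun p : Idx t => (G s0 s1 q p b : ℤ)) ({(1 : ℤ)} : Finset (ℤ))
  rw [key]
  · rfl
  · intro p
    have P := prof (q := q) h01 h0t h1t hc0 hc1 p
    rw [act_iff_conn_self]
    rw [conn_minus h01 h0t h1t _ hc0 hc1 hα, E_iff h01 h0t h1t hc0 hc1, a0, a1, at']
    simp only [max_self, Finset.mem_insert, Finset.mem_singleton, Prod.mk.injEq]
    omega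
  · intro p p'
    have P := prof (q := q) h01 h0t h1t hc0 hc1 p
    have Q := prof (q := q) h01 h0t h1t hc0 hc1 p'
    rw [conn_minus h01 h0t h1t _ hc0 hc1 hα, E_iff h01 h0t h1t hc0 hc1, E_iff h01 h0t h1t hc0 hc1, a0, a1, at']
    try simp only [Finset.mem_insert, Finset.mem_singleton, Prod.mk.injEq]
    omega
  · intro x hx
    simp only [Finset.mem_insert, Finset.mem_singleton] at hx
    subst hx
    · refine ⟨some ⟨b, hmt⟩, ?_⟩
      simp only [GZ_none, GZ_some, h01, h0t, h1t, e1, e2, e3, hm0, hm1, hmt, e7, e8, e9, ↓reduceIte, Prod.mk.injEq]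
      try norm_num
      try omega
  · intro c hc p p' hp hpq
    have P := prof (q := q) h01 h0t h1t hc0 hc1 p
    have Q := prof (q := q) h01 h0t h1t hc0 hc1 p'
    simp only [Finset.mem_insert, Finset.mem_singleton, Prod.mk.injEq] at hp hpq
    apply hc.2
    rw [conn_minus h01 h0t h1t _ hc0 hc1 hα, E_iff h01 h0t h1t hc0 hc1, E_iff h01 h0t h1t hc0 hc1, a0, a1, at']
    omega

/-! ### F4a: `e_t - e_{s1}` -/

include h01 h0t h1t hq in
theorem finrank_F4a :
    Module.finrank k ↥(tPiece (J k s0 s1 t q) (dv t s1)) = 2 := by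
  classical
  rw [finrank_tPiece_eq_finrank_W (hI k s0 s1 t q) (hG k s0 s1 t q)]
  have e1 := h01.symm
  have e2 := h0t.symm
  have e3 := h1t.symm
  have hqz : (2 : ℤ) ≤ (q : ℤ) := by exact_mod_cast hq
  have hα : ∀ l, IsMid s0 s1 t l → (dv t s1) l = -(if t = l then 1 else 0) := by
    rintro l ⟨hl0, hl1, hlt⟩
    simp only [dv_apply, a5_apply, Ne.symm hl0, Ne.symm hl1, Ne.symm hlt, ↓reduceIte]
    try ring
  have a0 : (dv t s1) s0 = 0 := by
    simp only [dv_apply, a5_apply, h01, h0t, h1t, e1, e2, e3, ↓reduceIte]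
    try ring
  have a1 : (dv t s1) s1 = -1 := by
    simp only [dv_apply, a5_apply, h01, h0t, h1t, e1, e2, e3, ↓reduceIte]
    try ring
  have at' : (dv t s1) t = 1 := by
    simp only [dv_apply, a5_apply, h01, h0t, h1t, e1, e2, e3, ↓reduceIte]
    try ring
  have hc0 : t ≠ s0 := e2
  have hc1 : t ≠ s1 := e3
  have key := finrank_W_eq_card_of_key' (k := k) (G := G s0 s1 q) (I := J k s0 s1 t q) (α := dv t s1)
    (fun p : Idx t => ((G s0 s1 q p s0 : ℤ), (G s0 s1 q p s1 : ℤ))) ({((0 : ℤ), (q : ℤ)), ((1 : ℤ), (1 : ℤ))} : Finset (ℤ × ℤ))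
  rw [key]
  · rfl
  · intro p
    have P := prof (q := q) h01 h0t h1t hc0 hc1 p
    rw [act_iff_conn_self]
    rw [conn_minus h01 h0t h1t _ hc0 hc1 hα, E_iff h01 h0t h1t hc0 hc1, a0, a1, at']
    simp only [max_self, Finset.mem_insert, Finset.mem_singleton, Prod.mk.injEq]
    omega
  · intro p p'
    have P := prof (q := q) h01 h0t h1t hc0 hc1 p
    have Q := prof (q := q) h01 h0t h1t hc0 hc1 p'
    rw [conn_minus h01 h0t h1t _ hc0 hc1 hα, E_iff h01 h0t h1t hc0 hc1, E_iff h01 h0t h1t hc0 hc1, a0, a1, at']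
    try simp only [Finset.mem_insert, Finset.mem_singleton, Prod.mk.injEq]
    omega
  · intro x hx
    simp only [Finset.mem_insert, Finset.mem_singleton] at hx
    rcases hx with rfl | rfl
    · refine ⟨none, ?_⟩
      simp only [GZ_none, GZ_some, h01, h0t, h1t, e1, e2, e3, ↓reduceIte, Prod.mk.injEq]
      try norm_num
      try omega
    · refine ⟨some ⟨s1, h1t⟩, ?_⟩
      simp only [GZ_none, GZ_some, h01, h0t, h1t, e1, e2, e3, ↓reduceIte, Prod.mk.injEq]
      try norm_num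
      try omega
  · intro c hc p p' hp hpq
    have P := prof (q := q) h01 h0t h1t hc0 hc1 p
    have Q := prof (q := q) h01 h0t h1t hc0 hc1 p'
    simp only [Finset.mem_insert, Finset.mem_singleton, Prod.mk.injEq] at hp hpq
    apply hc.2
    rw [conn_minus h01 h0t h1t _ hc0 hc1 hα, E_iff h01 h0t h1t hc0 hc1, E_iff h01 h0t h1t hc0 hc1, a0, a1, at']
    omega

/-! ### F5: `e_{s0} + (q - 1) e_t - q e_{s1}` -/

include h01 h0t h1t hq in
theorem finrank_F5 :
    Module.finrank k ↥(tPiece (J k s0 s1 t q) (a5 s0 s1 t q)) = 1 := by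
  classical
  rw [finrank_tPiece_eq_finrank_W (hI k s0 s1 t q) (hG k s0 s1 t q)]
  have e1 := h01.symm
  have e2 := h0t.symm
  have e3 := h1t.symm
  have hqz : (2 : ℤ) ≤ (q : ℤ) := by exact_mod_cast hq
  have hα : ∀ l, IsMid s0 s1 t l → (a5 s0 s1 t q) l = -(if t = l then 1 else 0) := by
    rintro l ⟨hl0, hl1, hlt⟩
    simp only [dv_apply, a5_apply, Ne.symm hl0, Ne.symm hl1, Ne.symm hlt, ↓reduceIte]
    try ring
  have a0 : (a5 s0 s1 t q) s0 = 1 := by
    simp only [dv_apply, a5_apply, h01, h0t, h1t, e1, e2, e3, ↓reduceIte]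
    try ring
  have a1 : (a5 s0 s1 t q) s1 = -(q : ℤ) := by
    simp only [dv_apply, a5_apply, h01, h0t, h1t, e1, e2, e3, ↓reduceIte]
    try ring
  have at' : (a5 s0 s1 t q) t = (q : ℤ) - 1 := by
    simp only [dv_apply, a5_apply, h01, h0t, h1t, e1, e2, e3, ↓reduceIte]
    try ring
  have hc0 : t ≠ s0 := e2
  have hc1 : t ≠ s1 := e3
  have key := finrank_W_eq_card_of_key' (k := k) (G := G s0 s1 q) (I := J k s0 s1 t q) (α := a5 s0 s1 t q)
    (fun p : Idx t => (G s0 s1 q p s1 : ℤ)) ({(q : ℤ)} : Finset (ℤ))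
  rw [key]
  · rfl
  · intro p
    have P := prof (q := q) h01 h0t h1t hc0 hc1 p
    rw [act_iff_conn_self]
    rw [conn_minus h01 h0t h1t _ hc0 hc1 hα, E_iff h01 h0t h1t hc0 hc1, a0, a1, at']
    simp only [max_self, Finset.mem_insert, Finset.mem_singleton, Prod.mk.injEq]
    omega
  · intro p p'
    have P := prof (q := q) h01 h0t h1t hc0 hc1 p
    have Q := prof (q := q) h01 h0t h1t hc0 hc1 p'
    rw [conn_minus h01 h0t h1t _ hc0 hc1 hα, E_iff h01 h0t h1t hc0 hc1, E_iff h01 h0t h1t hc0 hc1, a0, a1, at']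
    try simp only [Finset.mem_insert, Finset.mem_singleton, Prod.mk.injEq]
    omega
  · intro x hx
    simp only [Finset.mem_insert, Finset.mem_singleton] at hx
    subst hx
    · refine ⟨none, ?_⟩
      simp only [GZ_none, GZ_some, h01, h0t, h1t, e1, e2, e3, ↓reduceIte, Prod.mk.injEq]
      try norm_num
      try omega
  · intro c hc p p' hp hpq
    have P := prof (q := q) h01 h0t h1t hc0 hc1 p
    have Q := prof (q := q) h01 h0t h1t hc0 hc1 p'
    simp only [Finset.mem_insert, Finset.mem_singleton, Prod.mk.injEq] at hp hpq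
    apply hc.2
    rw [conn_minus h01 h0t h1t _ hc0 hc1 hα, E_iff h01 h0t h1t hc0 hc1, E_iff h01 h0t h1t hc0 hc1, a0, a1, at']
    omega

end Groth.Agent.S13450
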