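import Groth.Agent.Lib.Seat60S13450c

/-! Seat60: the generic graded pieces `ν / x_{s1}^j` and the vanishing of the unlisted graded pieces
of total degree zero, for the ideal of `Seat60S13450a`. -/

set_option autoImplicit false
set_option linter.unusedVariables false
set_option linter.unusedSectionVars false
set_option linter.unusedSimpArgs false
universe u
open W4c1hilbpn MvPolynomial
open Groth.Agent.Lib.Seat60.Hom0
open Groth.Agent.S13449 (dv dq pair_le dv_self_right dv_self_left dv_other dq_apply)

namespace Groth.Agent.S13450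

variable {k : Type u} [Field k] {n : ℕ} {s0 s1 t : Fin (n + 1)} {q : ℕ}
variable (h01 : s0 ≠ s1) (h0t : s0 ≠ t) (h1t : s1 ≠ t) (hq : 2 ≤ q)

/-- the multidegree `q e_t - q e_{s1}` -/
def qv (s1 t : Fin (n + 1)) (q : ℕ) : Fin (n + 1) → ℤ :=
  fun l => (if t = l then (q : ℤ) else 0) - (if s1 = l then (q : ℤ) else 0)

lemma qv_apply (l : Fin (n + 1)) : qv s1 t q l =
    (if t = l then (q : ℤ) else 0) - (if s1 = l then (q : ℤ) else 0) := rfl

/-- the generic family: multidegrees `ν - j e_{s1}`, `1 ≤ j ≤ q`, `ν` a monomial of degree `j` in the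
variables other than `x_{s0}, x_{s1}`, except `q e_t - q e_{s1}` -/
def InF4 (s0 s1 t : Fin (n + 1)) (q : ℕ) (α : Fin (n + 1) → ℤ) : Prop :=
  α s0 = 0 ∧ -(q : ℤ) ≤ α s1 ∧ α s1 ≤ -1 ∧ (∀ l, l ≠ s0 → l ≠ s1 → 0 ≤ α l) ∧ α ≠ qv s1 t q

include h01 h0t h1t in
/-- a multidegree of total degree zero vanishing at the middle indices is determined by its values
at `s0`, `s1` -/
lemma val_t_of_mid_zero (α : Fin (n + 1) → ℤ) (hsum : ∑ l, α l = 0)
    (hmid : ∀ l, IsMid s0 s1 t l → α l = 0) : α t = -α s0 - α s1 := by
  classical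
  have h : ∑ l ∈ ({s0, s1, t} : Finset (Fin (n + 1))), α l = ∑ l, α l := by
    apply Finset.sum_subset (Finset.subset_univ _)
    intro l _ hl
    simp only [Finset.mem_insert, Finset.mem_singleton, not_or] at hl
    exact hmid l ⟨hl.1, hl.2.1, hl.2.2⟩
  rw [Finset.sum_insert, Finset.sum_insert, Finset.sum_singleton, hsum] at h
  · omega
  · simpa using h1t
  · simp only [Finset.mem_insert, Finset.mem_singleton, not_or]
    exact ⟨h01, h0t⟩

include h01 h0t h1t hq in
/-- the generic pieces are one-dimensional -/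
theorem finrank_F4b (α : Fin (n + 1) → ℤ) (hsum : ∑ l, α l = 0) (hF : InF4 s0 s1 t q α)
    (hne : α ≠ dv t s1) :
    Module.finrank k ↥(tPiece (J k s0 s1 t q) α) = 1 := by
  classical
  rw [finrank_tPiece_eq_finrank_W (hI k s0 s1 t q) (hG k s0 s1 t q)]
  obtain ⟨h0, h1, h1', hpos, hne2⟩ := hF
  have e1 := h01.symm
  have e2 := h0t.symm
  have e3 := h1t.symm
  have hqz : (2 : ℤ) ≤ (q : ℤ) := by exact_mod_cast hq
  have key := finrank_W_eq_card_of_key' (k := k) (G := G s0 s1 q) (I := J k s0 s1 t q) (α := α)
    (fun p : Idx t => p.isNone) ({true} : Finset Bool)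
  rw [key]
  · rfl
  · intro p
    simp only [Finset.mem_singleton]
    cases p with
    | none =>
      simp only [Option.isNone_none, iff_true]
      rw [act_iff' h01 h0t h1t, not_inI_iff]
      refine ⟨fun l => ?_, ?_, ?_, ?_⟩
      · rw [GZ_none]
        by_cases hl1 : s1 = l
        · subst hl1
          rw [if_pos rfl]
          omega
        · rw [if_neg hl1]
          by_cases hl0 : l = s0
          · rw [hl0, h0]
            norm_num
          · have := hpos l hl0 (Ne.symm hl1)
            omega
      · simp only [GZ_none, ↓reduceIte]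
        omega
      · simp only [GZ_none, e1, ↓reduceIte]
        omega
      · simp only [GZ_none, e1, ↓reduceIte]
        intro h
        omega
    | some i =>
      simp only [Option.isNone_some, Bool.false_eq_true, iff_false]
      obtain ⟨i, hit⟩ := i
      rw [act_iff' h01 h0t h1t, not_inI_iff]
      rintro ⟨hnn, -, -, h3⟩
      have f1 := hnn s1
      rw [GZ_some] at f1
      simp only [h01, ↓reduceIte] at f1
      have hi1 : i = s1 := by
        by_contra hi1
        rw [if_neg hi1] at f1
        omega
      subst hi1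
      rw [if_pos rfl] at f1
      have hs1 : α i = -1 := by omega
      have h4 := h3 (by
        simp only [GZ_some, e1, ↓reduceIte]
        omega)
      have hmid : ∀ l, IsMid s0 i t l → α l = 0 := by
        intro l hl
        have := h4.2 l hl
        simp only [GZ_some, Ne.symm hl.1, Ne.symm hl.2.1, ↓reduceIte] at this
        have := hpos l hl.1 hl.2.1
        omega
      have ht := val_t_of_mid_zero h01 h0t h1t α hsum hmid
      apply hne
      funext l
      rw [dv_apply]
      by_cases hl0 : l = s0
      · subst hl0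
        rw [if_neg e2, if_neg e1, h0]
        norm_num
      by_cases hl1 : l = i
      · subst hl1
        rw [if_neg e3, if_pos rfl, hs1]
        norm_num
      by_cases hlt : l = t
      · subst hlt
        rw [if_pos rfl, if_neg h1t, ht, h0, hs1]
        norm_num
      · rw [if_neg (Ne.symm hlt), if_neg (Ne.symm hl1), hmid l ⟨hl0, hl1, hlt⟩]
        norm_num
  · intro p p' hpp
    -- a link between `none` and `some i` forces `α = q e_t - q e_{s1}`
    have key2 : ∀ i : {i : Fin (n + 1) // i ≠ t},
        ¬ Conn (G s0 s1 q) (J k s0 s1 t q) α none (some i) := by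
      rintro ⟨i, hit⟩ hc
      rw [conn_iff' h01 h0t h1t, not_inI_iff] at hc
      obtain ⟨hnn, -, h2, h3⟩ := hc
      simp only [GZ_none, GZ_some, e1, h01, ↓reduceIte] at h2 h3
      have hX : (1 : ℤ) ≤ max 0 (1 + if i = s0 then 1 else 0) + α s0 := by
        rw [h0]
        have : (1 : ℤ) + (if i = s0 then 1 else 0) ≤ max 0 (1 + if i = s0 then 1 else 0) :=
          le_max_right _ _
        split_ifs at this ⊢ <;> omega
      obtain ⟨h4, h5⟩ := h3 hX
      have hs1 : α s1 = -(q : ℤ) := by
        have : (q : ℤ) ≤ max (q : ℤ) (0 + if i = s1 then 1 else 0) := le_max_left _ _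
        omega
      have hmid : ∀ l, IsMid s0 s1 t l → α l = 0 := by
        intro l hl
        have h6 := h5 l hl
        simp only [Ne.symm hl.2.1, Ne.symm hl.1, ↓reduceIte] at h6
        have := hpos l hl.1 hl.2.1
        have : (0 : ℤ) ≤ max 0 (0 + if i = l then 1 else 0) := le_max_left _ _
        omega
      have ht := val_t_of_mid_zero h01 h0t h1t α hsum hmid
      apply hne2
      funext l
      rw [qv_apply]
      by_cases hl0 : l = s0
      · subst hl0
        rw [if_neg e2, if_neg e1, h0]
        norm_num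
      by_cases hl1 : l = s1
      · subst hl1
        rw [if_neg e3, if_pos rfl, hs1]
        norm_num
      by_cases hlt : l = t
      · subst hlt
        rw [if_pos rfl, if_neg h1t, ht, h0, hs1]
        norm_num
      · rw [if_neg (Ne.symm hlt), if_neg (Ne.symm hl1), hmid l ⟨hl0, hl1, hlt⟩]
        norm_num
    cases p with
    | none =>
      cases p' with
      | none => rfl
      | some i => exact (key2 i hpp).elim
    | some i =>
      cases p' with
      | none => exact (key2 i (conn_symm hpp)).elim
      | some i' => rfl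
  · intro x hx
    simp only [Finset.mem_singleton] at hx
    subst hx
    exact ⟨none, rfl⟩
  · intro c hc p p' hp hpp
    simp only [Finset.mem_singleton] at hp
    cases p with
    | none =>
      cases p' with
      | none => rfl
      | some i' => simp at hpp
    | some i => simp at hp


lemma sum_G_some (i : {i : Fin (n + 1) // i ≠ t}) :
    ∑ l, (G s0 s1 q (some i : Idx t) l : ℤ) = 2 := by
  classical
  simp only [GZ_some]
  rw [Finset.sum_add_distrib, Finset.sum_ite_eq Finset.univ s0 (fun _ => (1 : ℤ)),
    Finset.sum_ite_eq Finset.univ i.1 (fun _ => (1 : ℤ)), if_pos (Finset.mem_univ _),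
    if_pos (Finset.mem_univ _)]
  norm_num

include h01 h0t h1t in
/-- a coefficient is forced to vanish by a link to an inactive generator -/
lemma forced_zero (α : Fin (n + 1) → ℤ) (c : Idx t → k)
    (hc : c ∈ W (G s0 s1 q) (J k s0 s1 t q) α) (p p' : Idx t)
    (hp : ∀ l, 0 ≤ (G s0 s1 q p l : ℤ) + α l) (hp' : ∃ l, (G s0 s1 q p' l : ℤ) + α l < 0)
    (h1 : max (G s0 s1 q p s1 : ℤ) (G s0 s1 q p' s1) + α s1 < q)
    (h2 : max (G s0 s1 q p s0 : ℤ) (G s0 s1 q p' s0) + α s0 ≤ 1)
    (h3 : 1 ≤ max (G s0 s1 q p s0 : ℤ) (G s0 s1 q p' s0) + α s0 →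
      max (G s0 s1 q p s1 : ℤ) (G s0 s1 q p' s1) + α s1 ≤ 0 ∧
       ∀ l, IsMid s0 s1 t l → max (G s0 s1 q p l : ℤ) (G s0 s1 q p' l) + α l ≤ 0) : c p = 0 := by
  have hinact : ¬ Act (G s0 s1 q) (J k s0 s1 t q) α p' := by
    rw [act_iff' h01 h0t h1t]
    rintro ⟨h1, -⟩
    obtain ⟨l, hl⟩ := hp'
    have := h1 l
    omega
  rw [← hc.1 p' hinact]
  apply hc.2
  rw [conn_iff' h01 h0t h1t, not_inI_iff]
  refine ⟨fun l => ?_, h1, h2, h3⟩
  have := hp l
  have : (G s0 s1 q p l : ℤ) ≤ max (G s0 s1 q p l : ℤ) (G s0 s1 q p' l) := le_max_left _ _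
  omega

section vanish

variable (α : Fin (n + 1) → ℤ)
    (hF1 : α ≠ dv t s0) (hF2a : α ≠ dv s1 s0) (hF2b : ∀ b, IsMid s0 s1 t b → α ≠ dv b s0)
    (hF3 : ∀ b, IsMid s0 s1 t b → α ≠ dv t b) (hF4 : ¬ InF4 s0 s1 t q α)
    (hF5 : α ≠ a5 s0 s1 t q)

include h01 h0t h1t hq in
lemma inF4_dv : InF4 s0 s1 t q (dv t s1) := by
  have e1 := h01.symm
  have e2 := h0t.symm
  have e3 := h1t.symm
  have hqz : (2 : ℤ) ≤ (q : ℤ) := by exact_mod_cast hq
  refine ⟨?_, ?_, ?_, ?_, ?_⟩
  · rw [dv_apply, if_neg e2, if_neg e1]
    norm_num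
  · rw [dv_apply, if_neg e3, if_pos rfl]
    omega
  · rw [dv_apply, if_neg e3, if_pos rfl]
    norm_num
  · intro l hl0 hl1
    rw [dv_apply, if_neg (Ne.symm hl1)]
    split_ifs <;> norm_num
  · intro h
    have := congrFun h t
    rw [dv_apply, qv_apply, if_pos rfl, if_neg h1t] at this
    omega

include h01 h0t h1t hq hF1 hF3 hF4 in
/-- an active generator `x_{s0} x_i` with standard target `x_{s0} x_v`: the multidegree is listed -/
lemma auxA (i v : Fin (n + 1)) (hit : i ≠ t)
    (hα' : ∀ l, α l = (if s0 = l then 1 else 0) + (if v = l then 1 else 0) -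
      (if s0 = l then 1 else 0) - (if i = l then 1 else 0))
    (hnot : ¬ inI s0 s1 t q (fun l => ((if s0 = l then 1 else 0) + (if v = l then 1 else 0) : ℤ))) :
    False := by
  have e1 := h01.symm
  have e2 := h0t.symm
  have e3 := h1t.symm
  have hv : v = t := by
    by_contra hvt
    apply hnot
    unfold inI
    by_cases hv0 : v = s0
    · right; left
      subst v
      simp only [↓reduceIte]
      norm_num
    by_cases hv1 : v = s1
    · right; right; left
      subst v
      simp only [h01, e1, ↓reduceIte]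
      norm_num
    · right; right; right
      refine ⟨?_, v, ⟨hv0, hv1, hvt⟩, ?_⟩
      · simp only [hv0, ↓reduceIte]
        norm_num
      · simp only [↓reduceIte]
        split_ifs <;> norm_num
  subst v
  have hα2 : α = dv t i := by
    funext l
    rw [hα' l]
    unfold dv
    ring
  by_cases hi0 : i = s0
  · subst i; exact hF1 hα2
  by_cases hi1 : i = s1
  · subst i
    apply hF4
    rw [hα2]
    exact inF4_dv h01 h0t h1t hq
  exact hF3 i ⟨hi0, hi1, hit⟩ hα2

include h01 h0t h1t hF1 hF2a hF2b in
/-- an active generator `x_{s0} x_i` with standard target `x_i x_v`, `v ≠ s0`: the multidegree is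
listed -/
lemma aux2 (i v : Fin (n + 1)) (hv0 : v ≠ s0)
    (hα' : ∀ l, α l = (if i = l then 1 else 0) + (if v = l then 1 else 0) -
      (if s0 = l then 1 else 0) - (if i = l then 1 else 0)) : False := by
  have hα2 : α = dv v s0 := by
    funext l
    rw [hα' l]
    unfold dv
    ring
  by_cases hvt : v = t
  · subst v; exact hF1 hα2
  by_cases hv1 : v = s1
  · subst v; exact hF2a hα2
  exact hF2b v ⟨hv0, hv1, hvt⟩ hα2


include h01 h0t h1t hq hF1 hF2a hF2b hF3 hF4 hF5 in
/-- all the pieces of total degree zero whose multidegree is not listed vanish -/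
theorem tPiece_eq_bot (hmid : ∃ l, IsMid s0 s1 t l)
    (hcase : (∀ i, ∃ w, IsMid s0 s1 t w ∧ w ≠ i) ∨ 4 ≤ q) (hα : ∑ l, α l = 0) :
    tPiece (J k s0 s1 t q) α = ⊥ := by
  classical
  have e1 := h01.symm
  have e2 := h0t.symm
  have e3 := h1t.symm
  have hqz : (2 : ℤ) ≤ (q : ℤ) := by exact_mod_cast hq
  apply tPiece_eq_bot_of_W (hI k s0 s1 t q) (hG k s0 s1 t q)
  intro c hc
  funext p
  show c p = 0
  by_cases hact : Act (G s0 s1 q) (J k s0 s1 t q) α p
  swap
  · exact hc.1 p hact
  have hact' := (act_iff' h01 h0t h1t α p).mp hact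
  obtain ⟨hval, hnot⟩ := hact'
  cases p with
  | none =>
    rw [not_inI_iff] at hnot
    obtain ⟨g1, g2, g3⟩ := hnot
    simp only [GZ_none, e1, ↓reduceIte] at g1 g2 g3
    have n0 := hval s0
    have n1 := hval s1
    rw [GZ_none] at n0 n1
    simp only [e1, ↓reduceIte] at n0 n1
    have hpos : ∀ l, l ≠ s0 → l ≠ s1 → 0 ≤ α l := by
      intro l _ hl1
      have := hval l
      rw [GZ_none, if_neg (Ne.symm hl1)] at this
      omega
    by_cases h0 : α s0 = 0
    · have hαq : α = qv s1 t q := by
        by_contra hne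
        exact hF4 ⟨h0, by omega, by omega, hpos, hne⟩
      apply forced_zero h01 h0t h1t α c hc none (some ⟨s1, h1t⟩) hval
      · refine ⟨s1, ?_⟩
        rw [GZ_some, hαq, qv_apply]
        simp only [h01, e3, ↓reduceIte]
        omega
      · rw [GZ_none, GZ_some, hαq, qv_apply]
        simp only [h01, e3, ↓reduceIte]
        rw [max_eq_left (by omega)]
        omega
      · rw [GZ_none, GZ_some, hαq, qv_apply]
        simp only [e1, e2, ↓reduceIte]
        norm_num
      · intro _
        constructor
        · rw [GZ_none, GZ_some, hαq, qv_apply]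
          simp only [h01, e3, ↓reduceIte]
          rw [max_eq_left (by omega)]
          omega
        · intro l hl
          rw [GZ_none, GZ_some, hαq, qv_apply]
          simp only [Ne.symm hl.1, Ne.symm hl.2.1, Ne.symm hl.2.2, ↓reduceIte]
          norm_num
    · exfalso
      have h0' : α s0 = 1 := by omega
      obtain ⟨g4, g5⟩ := g3 (by omega)
      have hs1 : α s1 = -(q : ℤ) := by omega
      have hmid0 : ∀ l, IsMid s0 s1 t l → α l = 0 := by
        intro l hl
        have := g5 l hl
        rw [if_neg (Ne.symm hl.2.1)] at this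
        have := hpos l hl.1 hl.2.1
        omega
      have ht := val_t_of_mid_zero h01 h0t h1t α hα hmid0
      apply hF5
      funext l
      rw [a5_apply]
      by_cases hl0 : l = s0
      · subst hl0
        rw [if_pos rfl, if_neg e2, if_neg e1, h0']
        norm_num
      by_cases hl1 : l = s1
      · subst hl1
        rw [if_neg h01, if_neg e3, if_pos rfl, hs1]
        norm_num
      by_cases hlt : l = t
      · subst hlt
        rw [if_neg h0t, if_pos rfl, if_neg h1t, ht, h0', hs1]
        ring
      · rw [if_neg (Ne.symm hl0), if_neg (Ne.symm hlt), if_neg (Ne.symm hl1),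
          hmid0 l ⟨hl0, hl1, hlt⟩]
        norm_num
  | some i =>
    obtain ⟨i, hit⟩ := i
    have hsum : ∑ l, ((G s0 s1 q (some ⟨i, hit⟩ : Idx t) l : ℤ) + α l) = 2 := by
      rw [Finset.sum_add_distrib, sum_G_some, hα, add_zero]
    obtain ⟨u, v, huv⟩ := exists_two_of_sum_eq_two _ hval hsum
    have hfun : (fun l => (G s0 s1 q (some ⟨i, hit⟩ : Idx t) l : ℤ) + α l) =
        fun l => ((if u = l then 1 else 0) + (if v = l then 1 else 0) : ℤ) := funext huv
    rw [hfun] at hnot
    have hfun' : (fun l => ((if u = l then 1 else 0) + (if v = l then 1 else 0) : ℤ)) =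
        fun l => ((if v = l then 1 else 0) + (if u = l then 1 else 0) : ℤ) := by
      funext l
      ring
    have hα' : ∀ l, α l = (if u = l then 1 else 0) + (if v = l then 1 else 0) -
        (if s0 = l then 1 else 0) - (if i = l then 1 else 0) := by
      intro l
      have := huv l
      rw [GZ_some] at this
      simp only at this
      linarith
    have hα'' : ∀ l, α l = (if v = l then 1 else 0) + (if u = l then 1 else 0) -
        (if s0 = l then 1 else 0) - (if i = l then 1 else 0) := by
      intro l
      rw [hα' l]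
      ring
    by_cases hu0 : u = s0
    · subst u
      exact (auxA h01 h0t h1t hq α hF1 hF3 hF4 i v hit hα' hnot).elim
    by_cases hv0 : v = s0
    · subst v
      rw [hfun'] at hnot
      exact (auxA h01 h0t h1t hq α hF1 hF3 hF4 i u hit hα'' hnot).elim
    by_cases hiu : i = u
    · subst u
      exact (aux2 h01 h0t h1t α hF1 hF2a hF2b i v hv0 hα').elim
    by_cases hiv : i = v
    · subst v
      exact (aux2 h01 h0t h1t α hF1 hF2a hF2b i u hu0 hα'').elim
    -- forced zero
    rw [not_inI_iff] at hnot
    obtain ⟨g1, -, -⟩ := hnot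
    by_cases hw : ∃ w, IsMid s0 s1 t w ∧ w ≠ i
    · obtain ⟨w, ⟨hw0, hw1, hwt⟩, hwi⟩ := hw
      apply forced_zero h01 h0t h1t α c hc (some ⟨i, hit⟩) (some ⟨w, hwt⟩) hval
      · refine ⟨i, ?_⟩
        rw [GZ_some, hα' i]
        simp only [Ne.symm hiu, Ne.symm hiv, hwi, ↓reduceIte]
        omega
      · rw [GZ_some, GZ_some, hα' s1]
        simp only [h01, hw1, ↓reduceIte]
        have : ∀ x : ℤ, 0 ≤ x → max (0 + x) (0 + 0) = x := by
          intro x hx
          rw [max_eq_left (by omega)]
          ring
        rw [this _ (by split_ifs <;> norm_num)]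
        omega
      · rw [GZ_some, GZ_some, hα' s0]
        simp only [hu0, hv0, hw0, ↓reduceIte]
        have : ∀ x : ℤ, 0 ≤ x → max (1 + x) (1 + 0) = 1 + x := by
          intro x hx
          rw [max_eq_left (by omega)]
        rw [this _ (by split_ifs <;> norm_num)]
        omega
      · intro h
        exfalso
        rw [GZ_some, GZ_some, hα' s0] at h
        simp only [hu0, hv0, hw0, ↓reduceIte] at h
        have : ∀ x : ℤ, 0 ≤ x → max (1 + x) (1 + 0) = 1 + x := by
          intro x hx
          rw [max_eq_left (by omega)]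
        rw [this _ (by split_ifs <;> norm_num)] at h
        omega
    · push Not at hw
      have hq4 : 4 ≤ q := by
        rcases hcase with h | h
        · obtain ⟨w, hw1, hw2⟩ := h i
          exact absurd (hw w hw1) hw2
        · exact h
      have hqz4 : (4 : ℤ) ≤ (q : ℤ) := by exact_mod_cast hq4
      obtain ⟨w0, hw0⟩ := hmid
      have hiw : w0 = i := hw w0 hw0
      subst hiw
      obtain ⟨hi0, hi1, _⟩ := hw0
      apply forced_zero h01 h0t h1t α c hc (some ⟨w0, hit⟩) (some ⟨s1, h1t⟩) hval
      · refine ⟨w0, ?_⟩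
        rw [GZ_some, hα' w0]
        simp only [Ne.symm hiu, Ne.symm hiv, Ne.symm hi0, Ne.symm hi1, ↓reduceIte]
        omega
      · rw [GZ_some, GZ_some, hα' s1]
        simp only [h01, hi1, ↓reduceIte]
        norm_num
        split_ifs <;> omega
      · rw [GZ_some, GZ_some, hα' s0]
        simp only [hu0, hv0, e1, hi0, ↓reduceIte]
        norm_num
      · intro h
        exfalso
        rw [GZ_some, GZ_some, hα' s0] at h
        simp only [hu0, hv0, e1, hi0, ↓reduceIte] at h
        norm_num at h

end vanish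

end Groth.Agent.S13450
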