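import Groth.Agent.Lib.Seat60S13450d
import Mathlib.Algebra.Order.Antidiag.FinsuppEquiv

/-! Seat60: the finite set of the generic multidegrees and the dimension count of the degree-zero
part of `T(I)` for the ideal of `Seat60S13450a`. -/

set_option autoImplicit false
set_option linter.unusedVariables false
set_option linter.unusedSectionVars false
set_option linter.unusedSimpArgs false
universe u
open W4c1hilbpn MvPolynomial
open Groth.Agent.Lib.Seat60.Hom0
open Groth.Agent.S13449 (dv dq pair_le dv_self_right dv_self_left dv_other dq_apply sum_dv sum_dq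
  dv_inj dq_inj)

namespace Groth.Agent.S13450

variable {k : Type u} [Field k] {n : ℕ} {s0 s1 t : Fin (n + 1)} {q : ℕ}
variable (h01 : s0 ≠ s1) (h0t : s0 ≠ t) (h1t : s1 ≠ t) (hq : 2 ≤ q)

/-- the monomials of degree `q` in the variables other than `x_{s0}` -/
noncomputable def Aset (s0 : Fin (n + 1)) (q : ℕ) : Finset (Fin (n + 1) →₀ ℕ) :=
  (Finset.univ.erase s0).finsuppAntidiag q

lemma mem_Aset (μ : Fin (n + 1) →₀ ℕ) : μ ∈ Aset s0 q ↔ (∑ l, μ l = q) ∧ μ s0 = 0 := by
  unfold Aset
  rw [Finset.mem_finsuppAntidiag]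
  constructor
  · rintro ⟨h1, h2⟩
    have h0 : μ s0 = 0 := by
      by_contra h
      have := h2 (Finsupp.mem_support_iff.mpr h)
      simp at this
    refine ⟨?_, h0⟩
    rw [← h1]
    exact (Finset.sum_erase _ h0).symm
  · rintro ⟨h1, h0⟩
    refine ⟨?_, ?_⟩
    · rw [← h1]
      exact Finset.sum_erase _ h0
    · intro l hl
      rw [Finset.mem_erase]
      refine ⟨?_, Finset.mem_univ _⟩
      rintro rfl
      exact (Finsupp.mem_support_iff.mp hl) h0

lemma card_Aset : (Aset s0 q).card = Nat.choose (n + q - 1) q := by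
  unfold Aset
  rw [Finset.card_finsuppAntidiag_nat_eq_choose, Finset.card_erase_of_mem (Finset.mem_univ _),
    Finset.card_univ, Fintype.card_fin]
  rfl

/-- the multidegree `μ - q e_{s1}` -/
def toα (s1 : Fin (n + 1)) (q : ℕ) (μ : Fin (n + 1) →₀ ℕ) : Fin (n + 1) → ℤ :=
  fun l => (μ l : ℤ) - (if s1 = l then (q : ℤ) else 0)

lemma toα_apply (μ : Fin (n + 1) →₀ ℕ) (l : Fin (n + 1)) :
    toα s1 q μ l = (μ l : ℤ) - (if s1 = l then (q : ℤ) else 0) := rfl

lemma toα_inj : Function.Injective (toα (n := n) s1 q) := by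
  intro μ μ' h
  ext l
  have := congrFun h l
  rw [toα_apply, toα_apply] at this
  omega

open Classical in
/-- the finite set of the generic multidegrees -/
noncomputable def F4set (s0 s1 t : Fin (n + 1)) (q : ℕ) : Finset (Fin (n + 1) → ℤ) :=
  (((Aset s0 q).erase (Finsupp.single s1 q)).erase (Finsupp.single t q)).image (toα s1 q)

lemma eq_single_of_apply_eq_sum (μ : Fin (n + 1) →₀ ℕ) (a : Fin (n + 1)) (h : ∑ l, μ l ≤ μ a) :
    μ = Finsupp.single a (μ a) := by
  classical
  have h2 : ∑ l ∈ Finset.univ.erase a, μ l = 0 := by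
    have := Finset.add_sum_erase Finset.univ (fun l => μ l) (Finset.mem_univ a)
    omega
  rw [Finset.sum_eq_zero_iff] at h2
  ext l
  rw [Finsupp.single_apply]
  split_ifs with hl
  · rw [hl]
  · exact h2 l (Finset.mem_erase.mpr ⟨Ne.symm hl, Finset.mem_univ _⟩)

include h01 h0t h1t hq in
lemma mem_F4set (α : Fin (n + 1) → ℤ) :
    α ∈ F4set s0 s1 t q ↔ (∑ l, α l = 0) ∧ InF4 s0 s1 t q α := by
  classical
  have e1 := h01.symm
  have e2 := h0t.symm
  have e3 := h1t.symm
  unfold F4set
  rw [Finset.mem_image]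
  constructor
  · rintro ⟨μ, hμ, rfl⟩
    rw [Finset.mem_erase, Finset.mem_erase, mem_Aset] at hμ
    obtain ⟨hμt, hμ1, hsum, hμ0⟩ := hμ
    have hsumZ : ∑ l, (μ l : ℤ) = q := by
      rw [← Nat.cast_sum, hsum]
    refine ⟨?_, ?_, ?_, ?_, ?_, ?_⟩
    · simp only [toα_apply]
      rw [Finset.sum_sub_distrib, hsumZ, Finset.sum_ite_eq Finset.univ s1 (fun _ => (q : ℤ)),
        if_pos (Finset.mem_univ _)]
      ring
    · rw [toα_apply, hμ0, if_neg e1]
      norm_num
    · rw [toα_apply, if_pos rfl]
      have : (0 : ℤ) ≤ (μ s1 : ℤ) := by positivity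
      omega
    · rw [toα_apply, if_pos rfl]
      by_contra hcon
      apply hμ1
      have h1 : ∑ l, μ l ≤ μ s1 := by
        rw [hsum]
        have : (q : ℤ) ≤ (μ s1 : ℤ) := by omega
        exact_mod_cast this
      have h2 := eq_single_of_apply_eq_sum μ s1 h1
      have h3 : μ s1 ≤ ∑ l, μ l := Finset.single_le_sum (fun _ _ => Nat.zero_le _) (Finset.mem_univ s1)
      rw [h2]
      congr 1
      omega
    · intro l _ hl1
      rw [toα_apply, if_neg (Ne.symm hl1)]
      have : (0 : ℤ) ≤ (μ l : ℤ) := by positivity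
      omega
    · intro h
      apply hμt
      ext l
      have := congrFun h l
      rw [toα_apply, qv_apply] at this
      rw [Finsupp.single_apply]
      split_ifs with hl
      · rw [if_pos hl] at this
        have : (μ l : ℤ) = q := by omega
        exact_mod_cast this
      · rw [if_neg hl] at this
        have : (μ l : ℤ) = 0 := by omega
        exact_mod_cast this
  · rintro ⟨hsum, h0, h1, h1', hpos, hne⟩
    set f : Fin (n + 1) → ℕ := fun l => (α l + (if s1 = l then (q : ℤ) else 0)).toNat with hf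
    have hfz : ∀ l, (f l : ℤ) = α l + (if s1 = l then (q : ℤ) else 0) := by
      intro l
      rw [hf]
      simp only
      rw [Int.toNat_of_nonneg]
      by_cases hl1 : s1 = l
      · subst hl1
        rw [if_pos rfl]
        omega
      · rw [if_neg hl1]
        by_cases hl0 : l = s0
        · rw [hl0, h0]
          norm_num
        · have := hpos l hl0 (Ne.symm hl1)
          omega
    set μ : Fin (n + 1) →₀ ℕ := Finsupp.equivFunOnFinite.symm f with hμ
    have hμl : ∀ l, μ l = f l := fun l => rfl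
    have hto : toα s1 q μ = α := by
      funext l
      rw [toα_apply, hμl, hfz]
      ring
    refine ⟨μ, ?_, hto⟩
    rw [Finset.mem_erase, Finset.mem_erase, mem_Aset]
    refine ⟨?_, ?_, ?_, ?_⟩
    · intro h
      apply hne
      rw [← hto, h]
      funext l
      rw [toα_apply, qv_apply, Finsupp.single_apply]
      split_ifs <;> simp
    · intro h
      have : toα s1 q μ s1 = 0 := by
        rw [h, toα_apply, Finsupp.single_apply, if_pos rfl, if_pos rfl]
        ring
      rw [hto] at this
      omega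
    · have : ((∑ l, μ l : ℕ) : ℤ) = q := by
        rw [Nat.cast_sum]
        simp only [hμl, hfz]
        rw [Finset.sum_add_distrib, hsum, Finset.sum_ite_eq Finset.univ s1 (fun _ => (q : ℤ)),
          if_pos (Finset.mem_univ _)]
        ring
      exact_mod_cast this
    · have : (μ s0 : ℤ) = 0 := by
        rw [hμl, hfz, h0, if_neg e1]
        norm_num
      exact_mod_cast this

include h01 h0t h1t hq in
lemma card_F4set : (F4set s0 s1 t q).card = Nat.choose (n + q - 1) q - 2 := by
  classical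
  unfold F4set
  rw [Finset.card_image_of_injective _ toα_inj, Finset.card_erase_of_mem, Finset.card_erase_of_mem,
    card_Aset]
  · rfl
  · rw [mem_Aset]
    refine ⟨?_, ?_⟩
    · rw [Finset.sum_eq_single s1]
      · rw [Finsupp.single_apply, if_pos rfl]
      · intro l _ hl
        rw [Finsupp.single_apply, if_neg (Ne.symm hl)]
      · intro h
        exact absurd (Finset.mem_univ _) h
    · rw [Finsupp.single_apply, if_neg (Ne.symm h01)]
  · rw [Finset.mem_erase, mem_Aset]
    refine ⟨?_, ?_, ?_⟩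
    · intro h
      have := DFunLike.congr_fun h t
      rw [Finsupp.single_apply, Finsupp.single_apply, if_pos rfl, if_neg h1t] at this
      omega
    · rw [Finset.sum_eq_single t]
      · rw [Finsupp.single_apply, if_pos rfl]
      · intro l _ hl
        rw [Finsupp.single_apply, if_neg (Ne.symm hl)]
      · intro h
        exact absurd (Finset.mem_univ _) h
    · rw [Finsupp.single_apply, if_neg (Ne.symm h0t)]


/-! ### the count -/

/-- the code separating the families of multidegrees -/
def code (s0 s1 t : Fin (n + 1)) (α : Fin (n + 1) → ℤ) : ℤ × ℤ × ℤ :=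
  (α s0, max (α s1) (-1), if α s0 = -1 then α t else 0)

/-- the values of the code on the six families -/
def codeVal : Fin 6 → ℤ × ℤ × ℤ :=
  ![(-1, 0, 1), (-1, 1, 0), (-1, 0, 0), (0, 0, 0), (0, -1, 0), (1, -1, 0)]

lemma codeVal_inj : Function.Injective codeVal := by
  decide

open Classical in
/-- the middle indices -/
noncomputable def Mid (s0 s1 t : Fin (n + 1)) : Finset (Fin (n + 1)) :=
  Finset.univ.filter (fun l => IsMid s0 s1 t l)

lemma mem_Mid (l : Fin (n + 1)) : l ∈ Mid s0 s1 t ↔ IsMid s0 s1 t l := by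
  unfold Mid
  simp only [Finset.mem_filter, Finset.mem_univ, true_and]

include h01 h0t h1t in
lemma card_Mid : (Mid s0 s1 t).card = n - 2 := by
  classical
  have h : Mid s0 s1 t = Finset.univ \ {s0, s1, t} := by
    ext l
    rw [mem_Mid]
    simp only [IsMid, Finset.mem_sdiff, Finset.mem_univ, true_and, Finset.mem_insert,
      Finset.mem_singleton, not_or]
  rw [h, Finset.card_sdiff_of_subset (Finset.subset_univ _), Finset.card_univ, Fintype.card_fin]
  have : ({s0, s1, t} : Finset (Fin (n + 1))).card = 3 := by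
    rw [Finset.card_insert_of_notMem, Finset.card_insert_of_notMem, Finset.card_singleton]
    · simpa using h1t
    · simp only [Finset.mem_insert, Finset.mem_singleton, not_or]
      exact ⟨h01, h0t⟩
  rw [this]
  omega

open Classical in
/-- the six families of multidegrees -/
noncomputable def fam (s0 s1 t : Fin (n + 1)) (q : ℕ) : Fin 6 → Finset (Fin (n + 1) → ℤ) :=
  ![{dv t s0}, {dv s1 s0}, (Mid s0 s1 t).image (fun b => dv b s0),
    (Mid s0 s1 t).image (fun b => dv t b), F4set s0 s1 t q, {a5 s0 s1 t q}]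

lemma fam0 : fam s0 s1 t q 0 = {dv t s0} := rfl
lemma fam1 : fam s0 s1 t q 1 = {dv s1 s0} := rfl
open Classical in
lemma fam2 : fam s0 s1 t q 2 = (Mid s0 s1 t).image (fun b => dv b s0) := rfl
open Classical in
lemma fam3 : fam s0 s1 t q 3 = (Mid s0 s1 t).image (fun b => dv t b) := rfl
lemma fam4 : fam s0 s1 t q 4 = F4set s0 s1 t q := rfl
lemma fam5 : fam s0 s1 t q 5 = {a5 s0 s1 t q} := rfl

lemma sum_a5 : ∑ l, a5 s0 s1 t q l = 0 := by
  classical
  simp only [a5_apply]
  rw [Finset.sum_sub_distrib, Finset.sum_add_distrib,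
    Finset.sum_ite_eq Finset.univ s0 (fun _ => (1 : ℤ)),
    Finset.sum_ite_eq Finset.univ t (fun _ => ((q : ℤ) - 1)),
    Finset.sum_ite_eq Finset.univ s1 (fun _ => (q : ℤ)), if_pos (Finset.mem_univ _),
    if_pos (Finset.mem_univ _), if_pos (Finset.mem_univ _)]
  ring

include h01 h0t h1t hq in
lemma code_fam (j : Fin 6) (α : Fin (n + 1) → ℤ) (hα : α ∈ fam s0 s1 t q j) :
    code s0 s1 t α = codeVal j := by
  classical
  have e1 := h01.symm
  have e2 := h0t.symm
  have e3 := h1t.symm
  have hqz : (2 : ℤ) ≤ (q : ℤ) := by exact_mod_cast hq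
  fin_cases j
  · change α ∈ fam s0 s1 t q 0 at hα
    rw [fam0, Finset.mem_singleton] at hα
    subst hα
    show code s0 s1 t _ = ((-1 : ℤ), (0 : ℤ), (1 : ℤ))
    simp only [code, dv_apply, h01, h0t, h1t, e1, e2, e3, ↓reduceIte]
    norm_num
  · change α ∈ fam s0 s1 t q 1 at hα
    rw [fam1, Finset.mem_singleton] at hα
    subst hα
    show code s0 s1 t _ = ((-1 : ℤ), (1 : ℤ), (0 : ℤ))
    simp only [code, dv_apply, h01, h0t, h1t, e1, e2, e3, ↓reduceIte]
    norm_num
  · change α ∈ fam s0 s1 t q 2 at hα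
    rw [fam2, Finset.mem_image] at hα
    obtain ⟨b, hb, rfl⟩ := hα
    rw [mem_Mid] at hb
    obtain ⟨hb0, hb1, hbt⟩ := hb
    show code s0 s1 t _ = ((-1 : ℤ), (0 : ℤ), (0 : ℤ))
    simp only [code, dv_apply, h01, h0t, h1t, e1, e2, e3, hb0, hb1, hbt, ↓reduceIte]
    norm_num
  · change α ∈ fam s0 s1 t q 3 at hα
    rw [fam3, Finset.mem_image] at hα
    obtain ⟨b, hb, rfl⟩ := hα
    rw [mem_Mid] at hb
    obtain ⟨hb0, hb1, hbt⟩ := hb
    show code s0 s1 t _ = ((0 : ℤ), (0 : ℤ), (0 : ℤ))
    simp only [code, dv_apply, h01, h0t, h1t, e1, e2, e3, hb0, hb1, hbt, Ne.symm hb0, Ne.symm hb1,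
      Ne.symm hbt, ↓reduceIte]
    norm_num
  · change α ∈ fam s0 s1 t q 4 at hα
    rw [fam4, mem_F4set h01 h0t h1t hq] at hα
    obtain ⟨-, h0, h1, h1', -, -⟩ := hα
    show code s0 s1 t _ = ((0 : ℤ), (-1 : ℤ), (0 : ℤ))
    simp only [code, h0]
    rw [max_eq_right (by omega)]
    norm_num
  · change α ∈ fam s0 s1 t q 5 at hα
    rw [fam5, Finset.mem_singleton] at hα
    subst hα
    show code s0 s1 t _ = ((1 : ℤ), (-1 : ℤ), (0 : ℤ))
    simp only [code, a5_apply, h01, h0t, h1t, e1, e2, e3, ↓reduceIte]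
    rw [max_eq_right (by omega)]
    norm_num

include h01 h0t h1t hq in
theorem main_abs (hmid : ∃ l, IsMid s0 s1 t l)
    (hcase : (∀ i, ∃ w, IsMid s0 s1 t w ∧ w ≠ i) ∨ 4 ≤ q) :
    Module.finrank k ↥(⨆ α : {α : Fin (n + 1) → ℤ // ∑ i, α i = 0},
      tPiece (J k s0 s1 t q) α.1) = 2 * (Mid s0 s1 t).card + 3 + Nat.choose (n + q - 1) q := by
  classical
  set L := (Finset.univ : Finset (Fin 6)).biUnion (fam s0 s1 t q) with hL
  have hmemL : ∀ (j : Fin 6) α, α ∈ fam s0 s1 t q j → α ∈ L := by
    intro j α h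
    rw [hL, Finset.mem_biUnion]
    exact ⟨j, Finset.mem_univ _, h⟩
  have hdvmem : dv t s1 ∈ F4set s0 s1 t q := by
    rw [mem_F4set h01 h0t h1t hq]
    exact ⟨sum_dv _ _, inF4_dv h01 h0t h1t hq⟩
  rw [finrank_hom0' (hI k s0 s1 t q) (hG k s0 s1 t q) L]
  · rw [hL, Finset.sum_biUnion]
    · rw [Fin.sum_univ_six]
      have S0 : ∑ α ∈ fam s0 s1 t q 0, Module.finrank k ↥(tPiece (J k s0 s1 t q) α) = 2 := by
        rw [fam0, Finset.sum_singleton]
        exact finrank_F1 h01 h0t h1t hq
      have S1 : ∑ α ∈ fam s0 s1 t q 1, Module.finrank k ↥(tPiece (J k s0 s1 t q) α) = 1 := by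
        rw [fam1, Finset.sum_singleton]
        exact finrank_F2a h01 h0t h1t hq hmid
      have S2 : ∑ α ∈ fam s0 s1 t q 2, Module.finrank k ↥(tPiece (J k s0 s1 t q) α) = (Mid s0 s1 t).card := by
        rw [fam2, Finset.sum_image]
        · rw [Finset.card_eq_sum_ones]
          apply Finset.sum_congr rfl
          intro b hb
          rw [mem_Mid] at hb
          exact finrank_F2b h01 h0t h1t hq hb
        · intro b hb b' hb' h
          rw [Finset.mem_coe, mem_Mid] at hb hb'
          exact (dv_inj (Ne.symm hb.1) (Ne.symm hb'.1) h).2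
      have S3 : ∑ α ∈ fam s0 s1 t q 3, Module.finrank k ↥(tPiece (J k s0 s1 t q) α) = (Mid s0 s1 t).card := by
        rw [fam3, Finset.sum_image]
        · rw [Finset.card_eq_sum_ones]
          apply Finset.sum_congr rfl
          intro b hb
          rw [mem_Mid] at hb
          exact finrank_F3 h01 h0t h1t hq hb
        · intro b hb b' hb' h
          rw [Finset.mem_coe, mem_Mid] at hb hb'
          exact (dv_inj hb.2.2 hb'.2.2 h).1
      have S4 : ∑ α ∈ fam s0 s1 t q 4, Module.finrank k ↥(tPiece (J k s0 s1 t q) α) = (F4set s0 s1 t q).card + 1 := by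
        rw [fam4, ← Finset.add_sum_erase _ _ hdvmem, finrank_F4a h01 h0t h1t hq]
        have : ∑ α ∈ (F4set s0 s1 t q).erase (dv t s1), Module.finrank k ↥(tPiece (J k s0 s1 t q) α) =
            ∑ α ∈ (F4set s0 s1 t q).erase (dv t s1), 1 := by
          apply Finset.sum_congr rfl
          intro α hα
          rw [Finset.mem_erase, mem_F4set h01 h0t h1t hq] at hα
          exact finrank_F4b h01 h0t h1t hq α hα.2.1 hα.2.2 hα.1
        rw [this, ← Finset.card_eq_sum_ones, Finset.card_erase_of_mem hdvmem]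
        have : 1 ≤ (F4set s0 s1 t q).card := Finset.card_pos.mpr ⟨_, hdvmem⟩
        omega
      have S5 : ∑ α ∈ fam s0 s1 t q 5, Module.finrank k ↥(tPiece (J k s0 s1 t q) α) = 1 := by
        rw [fam5, Finset.sum_singleton]
        exact finrank_F5 h01 h0t h1t hq
      rw [S0, S1, S2, S3, S4, S5, card_F4set h01 h0t h1t hq]
      have h1 : 1 ≤ (F4set s0 s1 t q).card := Finset.card_pos.mpr ⟨_, hdvmem⟩
      rw [card_F4set h01 h0t h1t hq] at h1
      omega
    · intro i _ j _ hij
      rw [Function.onFun, Finset.disjoint_left]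
      intro α h1 h2
      apply hij
      apply codeVal_inj
      rw [← code_fam h01 h0t h1t hq i α h1, ← code_fam h01 h0t h1t hq j α h2]
  · intro α hα
    rw [hL, Finset.mem_biUnion] at hα
    obtain ⟨j, -, hj⟩ := hα
    fin_cases j
    · change α ∈ fam s0 s1 t q 0 at hj
      rw [fam0, Finset.mem_singleton] at hj
      subst hj; exact sum_dv _ _
    · change α ∈ fam s0 s1 t q 1 at hj
      rw [fam1, Finset.mem_singleton] at hj
      subst hj; exact sum_dv _ _
    · change α ∈ fam s0 s1 t q 2 at hj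
      rw [fam2, Finset.mem_image] at hj
      obtain ⟨b, -, rfl⟩ := hj; exact sum_dv _ _
    · change α ∈ fam s0 s1 t q 3 at hj
      rw [fam3, Finset.mem_image] at hj
      obtain ⟨b, -, rfl⟩ := hj; exact sum_dv _ _
    · change α ∈ fam s0 s1 t q 4 at hj
      rw [fam4, mem_F4set h01 h0t h1t hq] at hj
      exact hj.1
    · change α ∈ fam s0 s1 t q 5 at hj
      rw [fam5, Finset.mem_singleton] at hj
      subst hj; exact sum_a5
  · intro α hα hnotin
    apply tPiece_eq_bot h01 h0t h1t hq α _ _ _ _ _ _ hmid hcase hα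
    · intro h
      exact hnotin (hmemL 0 α (by rw [fam0, h]; exact Finset.mem_singleton_self _))
    · intro h
      exact hnotin (hmemL 1 α (by rw [fam1, h]; exact Finset.mem_singleton_self _))
    · intro b hb h
      refine hnotin (hmemL 2 α ?_)
      rw [fam2, h]
      exact Finset.mem_image_of_mem _ ((mem_Mid b).mpr hb)
    · intro b hb h
      refine hnotin (hmemL 3 α ?_)
      rw [fam3, h]
      exact Finset.mem_image_of_mem _ ((mem_Mid b).mpr hb)
    · intro h
      refine hnotin (hmemL 4 α ?_)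
      rw [fam4, mem_F4set h01 h0t h1t hq]
      exact ⟨hα, h⟩
    · intro h
      exact hnotin (hmemL 5 α (by rw [fam5, h]; exact Finset.mem_singleton_self _))

end Groth.Agent.S13450
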