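import Mathlib
import Groth.Prelude.Def_W4c1hilbpnTgt
import Groth.Agent.Lib.Seat60TgtGraded

/-! Seat60: dimensions of spans of multigraded pieces of `T(I)` as sums; the dimension of `T(I)` as the
sum of the dimensions of the sign-pattern pieces. -/

set_option autoImplicit false
set_option linter.style.haveILetI false
set_option linter.unusedSectionVars false
set_option linter.unusedVariables false
universe u

namespace Groth.Agent.Lib.Seat60.TgtSum

open W4c1hilbpn MvPolynomial
open Groth.Agent.Lib.Helper24TgtPiece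
open Groth.Agent.Lib.Seat60.TgtBasic
open Groth.Agent.Lib.Seat60.TgtIndep
open Groth.Agent.Lib.Seat60.TgtGraded

variable {σ : Type*} {k : Type*} [Field k] [Fintype σ] {I : Ideal (MvPolynomial σ k)}

/-- dimension of the span of the graded pieces with multidegree satisfying a predicate -/
theorem finrank_iSup_subtype_tPiece (hI : IsMonomial I) [Module.Finite k (MvPolynomial σ k ⧸ I)]
    (P : (σ → ℤ) → Prop) (s : Finset (σ → ℤ)) (hsP : ∀ α ∈ s, P α)
    (hs : ∀ α, P α → α ∉ s → tPiece I α = ⊥) :
    Module.finrank k ↥(⨆ α : {α : σ → ℤ // P α}, tPiece I α.1) =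
      ∑ α ∈ s, Module.finrank k ↥(tPiece I α) := by
  haveI := finite_Tgt I
  have he : (⨆ α : {α : σ → ℤ // P α}, tPiece I α.1) = ⨆ α ∈ s, tPiece I α := by
    apply le_antisymm
    · apply iSup_le
      rintro ⟨α, hα⟩
      by_cases hαs : α ∈ s
      · exact le_biSup (fun α => tPiece I α) hαs
      · rw [hs α hα hαs]; exact bot_le
    · apply iSup₂_le
      intro α hα
      exact le_iSup (fun α : {α : σ → ℤ // P α} => tPiece I α.1) ⟨α, hsP α hα⟩
  rw [he, finrank_biSup_of_indep _ (iSupIndep_tPiece hI) s]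

/-- the (finite) set of multidegrees with a nonzero graded piece -/
noncomputable def supp (hI : IsMonomial I) [Module.Finite k (MvPolynomial σ k ⧸ I)] :
    Finset (σ → ℤ) := (finite_ne_bot hI).toFinset

lemma mem_supp (hI : IsMonomial I) [Module.Finite k (MvPolynomial σ k ⧸ I)] (α : σ → ℤ) :
    α ∈ supp hI ↔ tPiece I α ≠ ⊥ := by
  unfold supp
  rw [Set.Finite.mem_toFinset]
  rfl

lemma eq_bot_of_not_mem_supp (hI : IsMonomial I) [Module.Finite k (MvPolynomial σ k ⧸ I)]
    {α : σ → ℤ} (h : α ∉ supp hI) : tPiece I α = ⊥ := by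
  rw [mem_supp, not_not] at h
  exact h

open Classical in
/-- dimension of a sign-pattern piece as a sum over multidegrees -/
theorem finrank_sigPiece_eq_sum (hI : IsMonomial I) [Module.Finite k (MvPolynomial σ k ⧸ I)]
    (N : Set σ) :
    Module.finrank k ↥(sigPiece I N) =
      ∑ α ∈ (supp hI).filter (fun α => ∀ i, α i < 0 ↔ i ∈ N), Module.finrank k ↥(tPiece I α) := by
  unfold sigPiece
  apply finrank_iSup_subtype_tPiece hI
  · intro α hα
    exact (Finset.mem_filter.mp hα).2
  · intro α hP hα
    apply eq_bot_of_not_mem_supp hI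
    intro hmem
    exact hα (Finset.mem_filter.mpr ⟨hmem, hP⟩)

/-- dimension of a sign-pattern piece as a sum over an explicit finite set of multidegrees -/
theorem finrank_sigPiece_eq_sum_of (hI : IsMonomial I) [Module.Finite k (MvPolynomial σ k ⧸ I)]
    (N : Set σ) (s : Finset (σ → ℤ)) (hsP : ∀ α ∈ s, ∀ i, α i < 0 ↔ i ∈ N)
    (hs : ∀ α : σ → ℤ, (∀ i, α i < 0 ↔ i ∈ N) → α ∉ s → tPiece I α = ⊥) :
    Module.finrank k ↥(sigPiece I N) = ∑ α ∈ s, Module.finrank k ↥(tPiece I α) := by
  unfold sigPiece
  exact finrank_iSup_subtype_tPiece hI _ s hsP hs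

/-- the dimension of `T(I)` is the sum of the dimensions of its graded pieces -/
theorem finrank_Tgt_eq_sum (hI : IsMonomial I) [Module.Finite k (MvPolynomial σ k ⧸ I)] :
    Module.finrank k (Tgt I) = ∑ α ∈ supp hI, Module.finrank k ↥(tPiece I α) := by
  rw [← finrank_top k (Tgt I), ← iSup_tPiece_eq_top hI]
  exact finrank_iSup_tPiece hI (fun α => α) Function.injective_id (supp hI)
    (fun α hα => eq_bot_of_not_mem_supp hI hα)

open Classical in
/-- the dimension of `T(I)` is the sum of the dimensions of its sign-pattern pieces -/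
theorem finrank_Tgt_eq_sum_sigPiece (hI : IsMonomial I) [Module.Finite k (MvPolynomial σ k ⧸ I)] :
    Module.finrank k (Tgt I) = ∑ N : Finset σ, Module.finrank k ↥(sigPiece I (N : Set σ)) := by
  rw [finrank_Tgt_eq_sum hI]
  have h := Finset.sum_fiberwise_of_maps_to (s := supp hI) (t := (Finset.univ : Finset (Finset σ)))
    (g := fun α : σ → ℤ => Finset.univ.filter (fun i => α i < 0))
    (fun _ _ => Finset.mem_univ _) (fun α => Module.finrank k ↥(tPiece I α))
  rw [← h]
  apply Finset.sum_congr rfl
  intro N _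
  rw [finrank_sigPiece_eq_sum hI]
  apply Finset.sum_congr
  · ext α
    simp only [Finset.mem_filter, Finset.ext_iff, Finset.mem_univ, true_and, Finset.mem_coe]
  · intro _ _; rfl

end Groth.Agent.Lib.Seat60.TgtSum
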