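import Mathlib
import Groth.Prelude.Def_W4c1hilbpnTgt
import Groth.Agent.Lib.Seat60TgtIndep

/-! Seat60: the multigraded pieces of `T(m^r)` for the powers of the irrelevant ideal
`m = (x_1, …, x_n)`: dimension formula. Also general tools: induction principle for reaching points
with a negative coordinate, and counting bounded components when nonnegative points are isolated. -/

set_option autoImplicit false
set_option linter.style.haveILetI false
set_option linter.unusedSectionVars false
set_option linter.unusedVariables false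
universe u

namespace Groth.Agent.Lib.Seat60.TgtPow

open W4c1hilbpn MvPolynomial
open Groth.Agent.Lib.Helper24TgtPiece
open Groth.Agent.Lib.Seat60.TgtBasic
open Groth.Agent.Lib.Seat60.TgtIndep

variable {σ : Type*} {k : Type*} [Field k]

/-- the `r`-th power of the irrelevant ideal -/
noncomputable abbrev mpow (σ : Type*) (k : Type*) [Field k] (r : ℕ) : Ideal (MvPolynomial σ k) :=
  (Ideal.span (Set.range (MvPolynomial.X : σ → MvPolynomial σ k))) ^ r

lemma mem_exps_mpow (r : ℕ) (β : σ →₀ ℕ) : β ∈ exps (mpow σ k r) ↔ r ≤ β.degree := by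
  classical
  show monomial β (1:k) ∈ (idealOfVars σ k) ^ r ↔ _
  rw [mem_pow_idealOfVars_iff]
  constructor
  · intro h
    exact h β (by rw [mem_support_iff, coeff_monomial, if_pos rfl]; exact one_ne_zero)
  · intro h x hx
    rw [support_monomial, if_neg one_ne_zero, Finset.mem_singleton] at hx
    rw [hx]; exact h

lemma isMonomial_mpow (r : ℕ) : IsMonomial (mpow σ k r) := by
  intro p hp β hβ
  have := (mem_pow_idealOfVars_iff r p).mp hp β hβ
  exact (mem_exps_mpow r β).mpr this

instance finite_quot_mpow [Finite σ] (r : ℕ) : Module.Finite k (MvPolynomial σ k ⧸ mpow σ k r) := by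
  classical
  have hfin := Finsupp.finite_of_degree_lt (σ := σ) r
  refine ⟨⟨hfin.toFinset.image (fun β => Ideal.Quotient.mk (mpow σ k r) (monomial β (1:k))), ?_⟩⟩
  rw [eq_top_iff]
  rintro q -
  obtain ⟨p, rfl⟩ := Ideal.Quotient.mk_surjective q
  rw [← support_sum_monomial_coeff p, map_sum]
  apply Submodule.sum_mem
  intro β hβ
  rw [mk_monomial_smul]
  apply Submodule.smul_mem
  by_cases h : β.degree < r
  · apply Submodule.subset_span
    simp only [Finset.coe_image, Set.Finite.coe_toFinset, Set.mem_image, Set.mem_ofPred_eq]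
    exact ⟨β, h, rfl⟩
  · rw [mk_monomial_eq_zero.mpr ((mem_exps_mpow r β).mpr (not_lt.mp h))]
    exact zero_mem _

variable [Fintype σ]

lemma sum_pt (α : σ → ℤ) (β : σ →₀ ℕ) : ∑ i, pt α β i = (β.degree : ℤ) + ∑ i, α i := by
  simp only [pt, Finset.sum_add_distrib, Finsupp.degree_eq_sum]
  push_cast
  rfl

lemma degree_shift_of_nonneg (α : σ → ℤ) (β : σ →₀ ℕ) (hnn : ∀ i, 0 ≤ pt α β i) :
    ((shift β α).degree : ℤ) = (β.degree : ℤ) + ∑ i, α i := by
  rw [← sum_pt, Finsupp.degree_eq_sum]
  push_cast
  apply Finset.sum_congr rfl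
  intro i _
  rw [shift_apply]
  exact Int.toNat_of_nonneg (hnn i)

/-- membership in the region of a power of the irrelevant ideal -/
lemma mem_region_mpow_iff (r : ℕ) (α : σ → ℤ) {β : σ →₀ ℕ} (hβ : r ≤ β.degree) :
    pt α β ∈ region (mpow σ k r) α ↔
      ((∃ i, pt α β i < 0) ∨ (β.degree : ℤ) + ∑ i, α i < r) := by
  rw [mem_region_pt ((mem_exps_mpow r β).mpr hβ)]
  constructor
  · intro h
    by_cases hnn : ∀ i, 0 ≤ pt α β i
    · right
      by_contra hcon
      apply h
      refine ⟨hnn, (mem_exps_mpow r _).mpr ?_⟩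
      have := degree_shift_of_nonneg α β hnn
      omega
    · left
      push Not at hnn
      exact hnn
  · rintro (⟨i, hi⟩ | h) ⟨hnn, hU⟩
    · exact absurd (hnn i) (not_le.mpr hi)
    · have := degree_shift_of_nonneg α β hnn
      have h2 := (mem_exps_mpow (k := k) r _).mp hU
      omega

/-- if the total degree of `α` is nonnegative, the region consists of points with a negative
coordinate -/
lemma exists_neg_of_tot_nonneg (r : ℕ) (α : σ → ℤ) (hα : 0 ≤ ∑ i, α i)
    (v : ↥(region (mpow σ k r) α)) : ∃ l, v.1 l < 0 := by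
  obtain ⟨⟨β, hβ, hvβ⟩, hn⟩ := v.2
  have hvβ' : v.1 = pt α β := hvβ
  have hr : pt α β ∈ region (mpow σ k r) α := hvβ' ▸ v.2
  have hdeg := (mem_exps_mpow r β).mp hβ
  rcases (mem_region_mpow_iff r α hdeg).mp hr with h | h
  · rw [hvβ']; exact h
  · exfalso
    have : (r : ℤ) ≤ β.degree := by exact_mod_cast hdeg
    omega

section general

variable {I : Ideal (MvPolynomial σ k)} {α : σ → ℤ}

/-- the point below a point of the region (in a coordinate direction) is in the region -/
lemma mem_region_of_add_single {β : σ →₀ ℕ} (hβ : β ∈ exps I) (i : σ)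
    (hr : pt α (β + Finsupp.single i 1) ∈ region I α) : pt α β ∈ region I α := by
  have := region_mid (α := α) hβ 0 (Finsupp.single i 1) (by rw [add_zero]; exact hr)
  rwa [add_zero] at this

lemma reachable_add_single_one {β : σ →₀ ℕ} (i : σ) (hr : pt α β ∈ region I α)
    (hr' : pt α (β + Finsupp.single i 1) ∈ region I α) :
    (RG I α).Reachable ⟨pt α β, hr⟩ ⟨pt α (β + Finsupp.single i 1), hr'⟩ := by
  apply SimpleGraph.Adj.reachable
  rw [SimpleGraph.induce_adj]
  exact adj_step α β i

lemma reachable_of_add_single_eq {β β' : σ →₀ ℕ} (i : σ) (h : β' + Finsupp.single i 1 = β)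
    (hr' : pt α β' ∈ region I α) (hr : pt α β ∈ region I α) :
    (RG I α).Reachable ⟨pt α β', hr'⟩ ⟨pt α β, hr⟩ := by
  subst h
  exact reachable_add_single_one i hr' hr

/-- general induction principle: if from every nonnegative point of the region one can reach a
point of the region whose `j`-th coordinate is one less (other coordinates staying nonnegative),
then every point of the region is connected to a point with a negative coordinate -/
lemma reachable_neg_of_step (j : σ)
    (step : ∀ (β : σ →₀ ℕ) (hβ : β ∈ exps I) (hr : pt α β ∈ region I α), (∀ l, 0 ≤ pt α β l) →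
      ∃ (β2 : σ →₀ ℕ) (hβ2 : β2 ∈ exps I) (hr2 : pt α β2 ∈ region I α),
        (RG I α).Reachable ⟨pt α β, hr⟩ ⟨pt α β2, hr2⟩ ∧ pt α β2 j = pt α β j - 1 ∧
        ∀ l, l ≠ j → 0 ≤ pt α β2 l)
    (v : ↥(region I α)) :
    ∃ w : ↥(region I α), (∃ l, w.1 l < 0) ∧ (RG I α).Reachable v w := by
  classical
  have key : ∀ (m : ℕ) (β : σ →₀ ℕ) (hβ : β ∈ exps I) (hr : pt α β ∈ region I α),
      (∀ l, 0 ≤ pt α β l) → pt α β j = (m : ℤ) →
      ∃ w : ↥(region I α), (∃ l, w.1 l < 0) ∧ (RG I α).Reachable ⟨pt α β, hr⟩ w := by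
    intro m
    induction m with
    | zero =>
      intro β hβ hr hnn hj
      obtain ⟨β2, hβ2, hr2, hreach, hj2, _⟩ := step β hβ hr hnn
      refine ⟨⟨pt α β2, hr2⟩, ⟨j, ?_⟩, hreach⟩
      show pt α β2 j < 0
      rw [hj2, hj]; norm_num
    | succ m ih =>
      intro β hβ hr hnn hj
      obtain ⟨β2, hβ2, hr2, hreach, hj2, hnn2⟩ := step β hβ hr hnn
      have hj2' : pt α β2 j = (m : ℤ) := by rw [hj2, hj]; push_cast; ring
      have hnn2' : ∀ l, 0 ≤ pt α β2 l := by
        intro l
        by_cases hl : l = j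
        · subst hl; rw [hj2']; positivity
        · exact hnn2 l hl
      obtain ⟨w, hw, hreach2⟩ := ih β2 hβ2 hr2 hnn2' hj2'
      exact ⟨w, hw, hreach.trans hreach2⟩
  obtain ⟨⟨β, hβ, hvβ⟩, hn⟩ := v.2
  by_cases hneg : ∃ l, v.1 l < 0
  · exact ⟨v, hneg, SimpleGraph.Reachable.refl _⟩
  · push Not at hneg
    have hvβ' : v.1 = pt α β := hvβ
    have hr : pt α β ∈ region I α := hvβ' ▸ v.2
    have hv : v = ⟨pt α β, hr⟩ := Subtype.ext hvβ'
    have hnn : ∀ l, 0 ≤ pt α β l := fun l => by
      have := hneg l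
      rw [hvβ'] at this
      exact this
    obtain ⟨w, hw, hreach⟩ := key (pt α β j).toNat β hβ hr hnn
      (Int.toNat_of_nonneg (hnn j)).symm
    exact ⟨w, hw, hv ▸ hreach⟩

end general

/-- if the total degree of `α` is at most `-2`, every point of the region of `m^r` is connected to
a point with a negative coordinate -/
lemma reachable_neg_of_tot_le (r : ℕ) (α : σ → ℤ) [Nontrivial σ] (hα : ∑ i, α i ≤ -2)
    (v : ↥(region (mpow σ k r) α)) :
    ∃ w : ↥(region (mpow σ k r) α), (∃ l, w.1 l < 0) ∧ (RG (mpow σ k r) α).Reachable v w := by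
  classical
  have hex : ∃ i0, α i0 < 0 := by
    by_contra hcon
    push Not at hcon
    have : 0 ≤ ∑ i, α i := Finset.sum_nonneg (fun i _ => hcon i)
    omega
  obtain ⟨i0, hi0⟩ := hex
  obtain ⟨j, hj⟩ := exists_ne i0
  apply reachable_neg_of_step i0
  intro β hβ hr hnn
  have hdeg := (mem_exps_mpow r β).mp hβ
  have hβi0 : 1 ≤ β i0 := by
    have := hnn i0
    simp only [pt] at this
    omega
  set β0 := β - Finsupp.single i0 1 with hβ0
  have hβ0' : β0 + Finsupp.single i0 1 = β := by
    ext l
    by_cases hl : l = i0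
    · subst hl
      simp only [hβ0, Finsupp.add_apply, Finsupp.tsub_apply, Finsupp.single_eq_same]
      omega
    · simp [hβ0, Ne.symm hl]
  have hdeg0 : β0.degree + 1 = β.degree := by
    rw [← hβ0', map_add, Finsupp.degree_single]
  by_cases hcase : r + 1 ≤ β.degree
  · have hβ0U : β0 ∈ exps (mpow σ k r) := (mem_exps_mpow r β0).mpr (by omega)
    have hr0 : pt α β0 ∈ region (mpow σ k r) α :=
      mem_region_of_add_single hβ0U i0 (by rw [hβ0']; exact hr)
    refine ⟨β0, hβ0U, hr0, ?_, ?_, ?_⟩
    · exact (reachable_of_add_single_eq i0 hβ0' hr0 hr).symm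
    · have := pt_add_single_same α β0 i0 1
      rw [hβ0'] at this
      push_cast at this
      omega
    · intro l hl
      have := pt_add_single_ne α β0 hl 1
      rw [hβ0'] at this
      rw [← this]
      exact hnn l
  · have hdegr : β.degree = r := by omega
    -- go up in direction `j`
    have hβ1U : β + Finsupp.single j 1 ∈ exps (mpow σ k r) := exps_add hβ _
    have hdeg1 : (β + Finsupp.single j 1).degree = r + 1 := by
      rw [map_add, Finsupp.degree_single, hdegr]
    have hr1 : pt α (β + Finsupp.single j 1) ∈ region (mpow σ k r) α := by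
      rw [mem_region_mpow_iff r α (by omega)]
      right
      rw [hdeg1]
      push_cast
      omega
    -- then down in direction `i0`
    set β2 := β0 + Finsupp.single j 1 with hβ2
    have hβ21 : β2 + Finsupp.single i0 1 = β + Finsupp.single j 1 := by
      rw [hβ2, add_right_comm, hβ0']
    have hβ2U : β2 ∈ exps (mpow σ k r) := by
      rw [mem_exps_mpow, hβ2, map_add, Finsupp.degree_single]
      omega
    have hr2 : pt α β2 ∈ region (mpow σ k r) α :=
      mem_region_of_add_single hβ2U i0 (by rw [hβ21]; exact hr1)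
    refine ⟨β2, hβ2U, hr2, ?_, ?_, ?_⟩
    · refine (reachable_add_single_one j hr hr1).trans ?_
      exact (reachable_of_add_single_eq i0 hβ21 hr2 hr1).symm
    · have h1 := pt_add_single_same α β2 i0 1
      rw [hβ21, pt_add_single_ne α β (Ne.symm hj)] at h1
      push_cast at h1
      omega
    · intro l hl
      have h1 := pt_add_single_ne α β2 hl 1
      rw [hβ21] at h1
      rw [← h1]
      by_cases hlj : l = j
      · subst hlj
        rw [pt_add_single_same]
        have := hnn l
        positivity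
      · rw [pt_add_single_ne α β hlj]
        exact hnn l

section general2

variable {I : Ideal (MvPolynomial σ k)} {α : σ → ℤ}

/-- the nonnegative points of the region -/
abbrev Gset (I : Ideal (MvPolynomial σ k)) (α : σ → ℤ) : Type _ :=
  {v : ↥(region I α) // ∀ l, 0 ≤ v.1 l}

lemma eq_of_reachable_of_isolated {v w : ↥(region I α)}
    (hiso : ∀ w : ↥(region I α), ¬ (RG I α).Adj v w) (h : (RG I α).Reachable v w) : v = w := by
  obtain ⟨p⟩ := h
  cases p with
  | nil => rfl
  | cons hadj _ => exact absurd hadj (hiso _)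

/-- if all nonnegative points of the region are isolated, the bounded components are in bijection
with the nonnegative points -/
lemma card_BC_eq_card_Gset [Nontrivial σ]
    (hiso : ∀ v w : ↥(region I α), (∀ l, 0 ≤ v.1 l) → ¬ (RG I α).Adj v w) :
    Nat.card (BC I α) = Nat.card (Gset I α) := by
  classical
  have hfin : ∀ v : Gset I α, ((RG I α).connectedComponentMk v.1).supp.Finite := by
    intro v
    have : ((RG I α).connectedComponentMk v.1).supp = {v.1} := by
      ext w
      rw [SimpleGraph.ConnectedComponent.mem_supp_iff, SimpleGraph.ConnectedComponent.eq,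
        Set.mem_singleton_iff]
      constructor
      · intro h
        exact (eq_of_reachable_of_isolated (fun w' => hiso v.1 w' v.2) h.symm).symm
      · rintro rfl
        exact SimpleGraph.Reachable.refl _
    rw [this]
    exact Set.finite_singleton _
  symm
  apply Nat.card_congr
  refine Equiv.ofBijective (fun v => (⟨(RG I α).connectedComponentMk v.1, hfin v⟩ : BC I α)) ⟨?_, ?_⟩
  · intro v v' h
    have h1 : (RG I α).connectedComponentMk v.1 = (RG I α).connectedComponentMk v'.1 :=
      congrArg Subtype.val h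
    rw [SimpleGraph.ConnectedComponent.eq] at h1
    exact Subtype.ext (eq_of_reachable_of_isolated (fun w' => hiso v.1 w' v.2) h1)
  · intro C
    obtain ⟨v, hv⟩ := C.1.nonempty_supp
    rw [SimpleGraph.ConnectedComponent.mem_supp_iff] at hv
    have hnn : ∀ l, 0 ≤ v.1 l := by
      by_contra hcon
      push Not at hcon
      have := infinite_supp_of_neg v hcon
      rw [hv] at this
      exact this C.2
    exact ⟨⟨v, hnn⟩, Subtype.ext hv⟩

end general2

/-- the exponent vector of absolute values of the negative entries of `α` -/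
noncomputable def negPart (α : σ → ℤ) : σ →₀ ℕ :=
  Finsupp.equivFunOnFinite.symm fun i => (-α i).toNat

lemma negPart_apply (α : σ → ℤ) (i : σ) : negPart α i = (-α i).toNat := rfl

lemma degree_negPart (α : σ → ℤ) : (negPart α).degree = ∑ i, (-α i).toNat := by
  rw [Finsupp.degree_eq_sum]
  rfl

lemma isolated_of_tot_eq (r : ℕ) (α : σ → ℤ) (hα : ∑ i, α i = -1)
    (v w : ↥(region (mpow σ k r) α)) (hnn : ∀ l, 0 ≤ v.1 l) :
    ¬ (RG (mpow σ k r) α).Adj v w := by
  classical
  intro hadj
  rw [SimpleGraph.induce_adj] at hadj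
  obtain ⟨⟨β, hβ, hvβ⟩, hn⟩ := v.2
  obtain ⟨⟨β', hβ', hwβ⟩, hn'⟩ := w.2
  have hvβ' : v.1 = pt α β := hvβ
  have hwβ' : w.1 = pt α β' := hwβ
  have hdeg := (mem_exps_mpow r β).mp hβ
  have hdeg' := (mem_exps_mpow r β').mp hβ'
  have hr : pt α β ∈ region (mpow σ k r) α := hvβ' ▸ v.2
  have hr' : pt α β' ∈ region (mpow σ k r) α := hwβ' ▸ w.2
  have hdr : β.degree = r := by
    rcases (mem_region_mpow_iff r α hdeg).mp hr with ⟨i, hi⟩ | h
    · have := hnn i; rw [hvβ'] at this; omega
    · omega
  rw [hvβ', hwβ'] at hadj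
  obtain ⟨i, hi | hi⟩ := adj_pt_cases α hadj
  · -- `β' = β + e_i`
    subst hi
    have hd : (β + Finsupp.single i 1).degree = r + 1 := by
      rw [map_add, Finsupp.degree_single, hdr]
    rcases (mem_region_mpow_iff r α hdeg').mp hr' with ⟨l, hl⟩ | h
    · have h1 := hnn l
      rw [hvβ'] at h1
      by_cases hli : l = i
      · subst hli; rw [pt_add_single_same] at hl; omega
      · rw [pt_add_single_ne α β hli] at hl; omega
    · rw [hd] at h; push_cast at h; omega
  · -- `β = β' + e_i`
    subst hi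
    rw [map_add, Finsupp.degree_single] at hdr
    omega

/-- structure of the nonnegative points of the region of `m^r` when `α` has total degree `-1` -/
lemma gset_mpow_exists (r : ℕ) (α : σ → ℤ) (hα : ∑ i, α i = -1) (v : Gset (mpow σ k r) α) :
    ∃ δ : σ →₀ ℕ, δ.degree + (negPart α).degree = r ∧ v.1.1 = pt α (δ + negPart α) := by
  obtain ⟨⟨β, hβ, hvβ⟩, hn⟩ := v.1.2
  have hvβ' : v.1.1 = pt α β := hvβ
  have hdeg := (mem_exps_mpow r β).mp hβ
  have hr : pt α β ∈ region (mpow σ k r) α := hvβ' ▸ v.1.2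
  have hdr : β.degree = r := by
    rcases (mem_region_mpow_iff r α hdeg).mp hr with ⟨i, hi⟩ | h
    · have := v.2 i; rw [hvβ'] at this; omega
    · omega
  have hle : negPart α ≤ β := by
    intro i
    have := v.2 i
    rw [hvβ'] at this
    simp only [pt] at this
    rw [negPart_apply]
    omega
  refine ⟨β - negPart α, ?_, ?_⟩
  · rw [← map_add, tsub_add_cancel_of_le hle, hdr]
  · rw [tsub_add_cancel_of_le hle, hvβ']

lemma pt_add_negPart_nonneg (α : σ → ℤ) (δ : σ →₀ ℕ) (l : σ) : 0 ≤ pt α (δ + negPart α) l := by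
  simp only [pt, Finsupp.add_apply, negPart_apply]
  push_cast
  omega

lemma pt_add_negPart_mem (r : ℕ) (α : σ → ℤ) (hα : ∑ i, α i = -1) (δ : σ →₀ ℕ)
    (hδ : δ.degree + (negPart α).degree = r) :
    pt α (δ + negPart α) ∈ region (mpow σ k r) α := by
  have hd : (δ + negPart α).degree = r := by rw [map_add, hδ]
  rw [mem_region_mpow_iff r α (le_of_eq hd.symm)]
  right
  rw [hd, hα]
  omega

lemma card_gset_mpow (r : ℕ) (α : σ → ℤ) (hα : ∑ i, α i = -1) (m : ℕ)
    (hm : m + ∑ i, (-α i).toNat = r) :
    Nat.card (Gset (mpow σ k r) α) = Nat.card {δ : σ →₀ ℕ // δ.degree = m} := by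
  symm
  apply Nat.card_congr
  have hdn := degree_negPart α
  refine Equiv.ofBijective (fun δ => (⟨⟨pt α (δ.1 + negPart α),
    pt_add_negPart_mem r α hα δ.1 (by rw [δ.2, hdn, hm])⟩, pt_add_negPart_nonneg α δ.1⟩ :
      Gset (mpow σ k r) α)) ⟨?_, ?_⟩
  · intro δ δ' h
    have h1 : pt α (δ.1 + negPart α) = pt α (δ'.1 + negPart α) :=
      congrArg (fun x : Gset (mpow σ k r) α => x.1.1) h
    have h2 := congrArg (bOf α) h1
    rw [bOf_pt, bOf_pt] at h2
    exact Subtype.ext (add_right_cancel h2)
  · intro v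
    obtain ⟨δ, hδ, hv⟩ := gset_mpow_exists r α hα v
    refine ⟨⟨δ, ?_⟩, ?_⟩
    · rw [hdn] at hδ; omega
    · exact Subtype.ext (Subtype.ext hv.symm)

lemma isEmpty_gset_mpow (r : ℕ) (α : σ → ℤ) (hα : ∑ i, α i = -1)
    (hw : r < ∑ i, (-α i).toNat) : IsEmpty (Gset (mpow σ k r) α) := by
  constructor
  intro v
  obtain ⟨δ, hδ, hv⟩ := gset_mpow_exists r α hα v
  rw [degree_negPart] at hδ
  omega

lemma card_degree_eq [DecidableEq σ] (m : ℕ) :
    Nat.card {δ : σ →₀ ℕ // δ.degree = m} = (Fintype.card σ + m - 1).choose m := by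
  have e : Sym σ m ≃ {δ : σ →₀ ℕ // δ.degree = m} := Sym.equivNatSum σ m
  rw [← Nat.card_congr e, Nat.card_eq_fintype_card, Sym.card_sym_eq_choose]


/-- **Dimension of the multigraded pieces of `T(m^r)`.** -/
theorem finrank_tPiece_mpow [Nontrivial σ] [DecidableEq σ] (r : ℕ) (α : σ → ℤ) :
    Module.finrank k ↥(tPiece (mpow σ k r) α) =
      if (∑ i, α i = -1 ∧ ∑ i, (-α i).toNat ≤ r)
        then Nat.choose (Fintype.card σ + r - (∑ i, (-α i).toNat) - 1) (Fintype.card σ - 1)
        else 0 := by
  have hI : IsMonomial (mpow σ k r) := isMonomial_mpow r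
  by_cases h1 : ∑ i, α i = -1
  · rw [finrank_tPiece hI]
    show Nat.card (BC (mpow σ k r) α) = _
    rw [card_BC_eq_card_Gset (isolated_of_tot_eq r α h1)]
    by_cases h2 : ∑ i, (-α i).toNat ≤ r
    · rw [if_pos ⟨h1, h2⟩, card_gset_mpow r α h1 (r - ∑ i, (-α i).toNat) (by omega),
        card_degree_eq]
      have hpos : 0 < Fintype.card σ := Fintype.card_pos
      have e : Fintype.card σ + (r - ∑ i, (-α i).toNat) - 1 =
          Fintype.card σ + r - (∑ i, (-α i).toNat) - 1 := by omega
      rw [e]
      apply Nat.choose_symm_of_eq_add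
      omega
    · rw [if_neg (fun h => h2 h.2)]
      haveI := isEmpty_gset_mpow (k := k) r α h1 (not_le.mp h2)
      exact Nat.card_of_isEmpty
  · rw [if_neg (fun h => h1 h.1)]
    have hbot : tPiece (mpow σ k r) α = ⊥ := by
      apply tPiece_eq_bot_of_forall_reachable_neg hI
      by_cases h0 : 0 ≤ ∑ i, α i
      · intro v
        exact ⟨v, exists_neg_of_tot_nonneg r α h0 v, SimpleGraph.Reachable.refl _⟩
      · exact reachable_neg_of_tot_le r α (by omega)
    rw [hbot, finrank_bot]

end Groth.Agent.Lib.Seat60.TgtPow
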