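import Mathlib
import Groth.Prelude.Def_W4c1hilbpnTgt
import Groth.Agent.Lib.Seat60TgtPow
import Groth.Agent.Lib.Seat60TgtSum

/-! Seat60: three variables. Dimension of `T(I)` as a sum over the six mixed sign patterns; the
sign-pattern pieces and total dimension of `T(m^r)`. -/

set_option autoImplicit false
set_option linter.style.haveILetI false
set_option linter.unusedSectionVars false
set_option linter.unusedVariables false
universe u

namespace Groth.Agent.Lib.Seat60.TgtPow3

open W4c1hilbpn MvPolynomial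
open Groth.Agent.Lib.Seat60.TgtPow
open Groth.Agent.Lib.Seat60.TgtBasic

/-- hockey stick: `∑_{t<r} C(t+2,2) = C(r+2,3)` -/
lemma sum_choose_two (r : ℕ) : ∑ t ∈ Finset.range r, (t + 2).choose 2 = (r + 2).choose 3 := by
  induction r with
  | zero => simp
  | succ r ih =>
    rw [Finset.sum_range_succ, ih]
    rw [show r + 1 + 2 = (r + 2) + 1 by ring, Nat.choose_succ_succ' (r + 2) 2, add_comm]

/-- `∑_{t<r} (r-t) C(t+2,2) = C(r+3,4)` -/
lemma sum_mul_choose_two (r : ℕ) :
    ∑ t ∈ Finset.range r, (r - t) * (t + 2).choose 2 = (r + 3).choose 4 := by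
  induction r with
  | zero => simp
  | succ r ih =>
    rw [Finset.sum_range_succ]
    have h1 : ∑ t ∈ Finset.range r, (r + 1 - t) * (t + 2).choose 2 =
        ∑ t ∈ Finset.range r, (r - t) * (t + 2).choose 2 + ∑ t ∈ Finset.range r, (t + 2).choose 2 := by
      rw [← Finset.sum_add_distrib]
      apply Finset.sum_congr rfl
      intro t ht
      have : t < r := Finset.mem_range.mp ht
      rw [show r + 1 - t = (r - t) + 1 by omega, add_mul, one_mul]
    rw [h1, ih, sum_choose_two]
    rw [show r + 1 + 3 = (r + 3) + 1 by ring, Nat.choose_succ_succ' (r + 3) 3]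
    rw [show r + 1 - r = 1 by omega, one_mul]
    rw [show r + 3 = (r + 2) + 1 by ring, Nat.choose_succ_succ' (r + 2) 2]
    ring

/-- `∑_{c<r} (c+1) C(r-c+1,2) = C(r+3,4)` -/
lemma sum_succ_mul_choose (r : ℕ) :
    ∑ c ∈ Finset.range r, (c + 1) * (r - c + 1).choose 2 = (r + 3).choose 4 := by
  rw [← sum_mul_choose_two r, ← Finset.sum_range_reflect]
  apply Finset.sum_congr rfl
  intro c hc
  have : c < r := Finset.mem_range.mp hc
  rw [show r - 1 - c + 1 = r - c by omega, show r - (r - 1 - c) + 1 = c + 2 by omega]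

lemma choose_identity (r : ℕ) :
    3 * ((r + 3).choose 4 + (r + 2).choose 4) = (r + 2).choose 2 * (r + 1).choose 2 := by
  rcases r with _ | s
  · decide
  · have h1 : 24 * (s + 1 + 3).choose 4 = (s + 4) * (s + 3) * (s + 2) * (s + 1) := by
      have := Nat.descFactorial_eq_factorial_mul_choose (s + 1 + 3) 4
      simp only [Nat.descFactorial, Nat.factorial] at this
      have e1 : s + 1 + 3 - 3 = s + 1 := by omega
      have e2 : s + 1 + 3 - 2 = s + 2 := by omega
      have e3 : s + 1 + 3 - 1 = s + 3 := by omega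
      have e0 : s + 1 + 3 - 0 = s + 4 := by omega
      rw [e1, e2, e3, e0] at this
      linarith
    have h2 : 24 * (s + 1 + 2).choose 4 = (s + 3) * (s + 2) * (s + 1) * s := by
      have := Nat.descFactorial_eq_factorial_mul_choose (s + 1 + 2) 4
      simp only [Nat.descFactorial, Nat.factorial] at this
      have e1 : s + 1 + 2 - 3 = s := by omega
      have e2 : s + 1 + 2 - 2 = s + 1 := by omega
      have e3 : s + 1 + 2 - 1 = s + 2 := by omega
      have e0 : s + 1 + 2 - 0 = s + 3 := by omega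
      rw [e1, e2, e3, e0] at this
      linarith
    have h3 : 2 * (s + 1 + 2).choose 2 = (s + 3) * (s + 2) := by
      have := Nat.descFactorial_eq_factorial_mul_choose (s + 1 + 2) 2
      simp only [Nat.descFactorial, Nat.factorial] at this
      have e3 : s + 1 + 2 - 1 = s + 2 := by omega
      have e0 : s + 1 + 2 - 0 = s + 3 := by omega
      rw [e3, e0] at this
      linarith
    have h4 : 2 * (s + 1 + 1).choose 2 = (s + 2) * (s + 1) := by
      have := Nat.descFactorial_eq_factorial_mul_choose (s + 1 + 1) 2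
      simp only [Nat.descFactorial, Nat.factorial] at this
      have e3 : s + 1 + 1 - 1 = s + 1 := by omega
      have e0 : s + 1 + 1 - 0 = s + 2 := by omega
      rw [e3, e0] at this
      linarith
    have h5 : 4 * ((s + 1 + 2).choose 2 * (s + 1 + 1).choose 2) =
        ((s + 3) * (s + 2)) * ((s + 2) * (s + 1)) := by
      rw [← h3, ← h4]; ring
    apply Nat.eq_of_mul_eq_mul_left (by norm_num : 0 < 24)
    have h6 : 24 * ((s + 1 + 2).choose 2 * (s + 1 + 1).choose 2) =
        6 * (((s + 3) * (s + 2)) * ((s + 2) * (s + 1))) := by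
      rw [← h5]; ring
    rw [h6]
    have h7 : 24 * (3 * ((s + 1 + 3).choose 4 + (s + 1 + 2).choose 4)) =
        3 * (24 * (s + 1 + 3).choose 4) + 3 * (24 * (s + 1 + 2).choose 4) := by ring
    rw [h7, h1, h2]
    ring

/-- the integer vector with entry `x` at `i` and entries `y, z` at the other two indices -/
def vec3 (i : Fin 3) (x y z : ℤ) : Fin 3 → ℤ := Fin.insertNth (α := fun _ => ℤ) i x ![y, z]

lemma vec3_same (i : Fin 3) (x y z : ℤ) : vec3 i x y z i = x := by
  simp [vec3]

lemma vec3_zero (i : Fin 3) (x y z : ℤ) : vec3 i x y z (i.succAbove 0) = y := by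
  simp [vec3]

lemma vec3_one (i : Fin 3) (x y z : ℤ) : vec3 i x y z (i.succAbove 1) = z := by
  simp [vec3]

lemma forall_fin3 (i : Fin 3) (P : Fin 3 → Prop) :
    (∀ l, P l) ↔ P i ∧ P (i.succAbove 0) ∧ P (i.succAbove 1) := by
  rw [Fin.forall_iff_succAbove i, Fin.forall_fin_two]

lemma sum_fin3 (i : Fin 3) (f : Fin 3 → ℤ) :
    ∑ l, f l = f i + f (i.succAbove 0) + f (i.succAbove 1) := by
  rw [Fin.sum_univ_succAbove f i, Fin.sum_univ_two, add_assoc]

lemma sum_fin3_nat (i : Fin 3) (f : Fin 3 → ℕ) :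
    ∑ l, f l = f i + f (i.succAbove 0) + f (i.succAbove 1) := by
  rw [Fin.sum_univ_succAbove f i, Fin.sum_univ_two, add_assoc]

lemma eq_vec3 (i : Fin 3) (α : Fin 3 → ℤ) :
    α = vec3 i (α i) (α (i.succAbove 0)) (α (i.succAbove 1)) := by
  funext l
  revert l
  rw [forall_fin3 i]
  refine ⟨?_, ?_, ?_⟩
  · rw [vec3_same]
  · rw [vec3_zero]
  · rw [vec3_one]

lemma vec3_inj (i : Fin 3) {x y z x' y' z' : ℤ} (h : vec3 i x y z = vec3 i x' y' z') :
    x = x' ∧ y = y' ∧ z = z' := by
  refine ⟨?_, ?_, ?_⟩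
  · have := congrFun h i; rwa [vec3_same, vec3_same] at this
  · have := congrFun h (i.succAbove 0); rwa [vec3_zero, vec3_zero] at this
  · have := congrFun h (i.succAbove 1); rwa [vec3_one, vec3_one] at this

variable {k : Type*} [Field k]

/-- the dimension formula in three variables -/
lemma finrank_tPiece_mpow3 (r : ℕ) (α : Fin 3 → ℤ) :
    Module.finrank k ↥(tPiece (mpow (Fin 3) k r) α) =
      if (∑ i, α i = -1 ∧ ∑ i, (-α i).toNat ≤ r)
        then Nat.choose (r + 2 - (∑ i, (-α i).toNat)) 2 else 0 := by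
  rw [finrank_tPiece_mpow]
  simp only [Fintype.card_fin]
  split_ifs with h
  · congr 1
    omega
  · rfl

lemma tPiece_mpow3_eq_bot (r : ℕ) (α : Fin 3 → ℤ)
    (h : ¬ (∑ i, α i = -1 ∧ ∑ i, (-α i).toNat ≤ r)) : tPiece (mpow (Fin 3) k r) α = ⊥ := by
  haveI := Groth.Agent.Lib.Seat60.TgtIndep.finite_Tgt (mpow (Fin 3) k r)
  have := finrank_tPiece_mpow3 (k := k) r α
  rw [if_neg h] at this
  exact Submodule.finrank_eq_zero.mp this

/-- multidegrees negative exactly at `i`, of total degree `-1` -/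
def degA (i : Fin 3) (p : Σ _ : ℕ, ℕ) : Fin 3 → ℤ :=
  vec3 i (-((p.1 : ℤ) + 1)) (p.2 : ℤ) ((p.1 : ℤ) - (p.2 : ℤ))

/-- the index set of the multidegrees `degA` -/
def idxA (r : ℕ) : Finset (Σ _ : ℕ, ℕ) := (Finset.range r).sigma (fun c => Finset.range (c + 1))

lemma degA_injective (i : Fin 3) : Function.Injective (degA i) := by
  rintro ⟨c, a⟩ ⟨c', a'⟩ h
  obtain ⟨h1, h2, _⟩ := vec3_inj i h
  simp only at h1 h2
  have hc : c = c' := by omega
  have ha : a = a' := by omega
  subst hc; subst ha; rfl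

lemma degA_pattern (i : Fin 3) (p : Σ _ : ℕ, ℕ) (hp : p.2 ≤ p.1) :
    ∀ l, degA i p l < 0 ↔ l ∈ ({i} : Set (Fin 3)) := by
  rw [forall_fin3 i]
  unfold degA
  rw [vec3_same, vec3_zero, vec3_one]
  have hp' : (p.2 : ℤ) ≤ (p.1 : ℤ) := by exact_mod_cast hp
  refine ⟨⟨fun _ => rfl, fun _ => by omega⟩, ?_, ?_⟩
  · constructor
    · intro h; omega
    · intro h; exact absurd h (Fin.succAbove_ne i 0)
  · constructor
    · intro h; omega
    · intro h; exact absurd h (Fin.succAbove_ne i 1)

lemma degA_tot (i : Fin 3) (p : Σ _ : ℕ, ℕ) : ∑ l, degA i p l = -1 := by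
  rw [sum_fin3 i]
  unfold degA
  rw [vec3_same, vec3_zero, vec3_one]
  ring

lemma degA_w (i : Fin 3) (p : Σ _ : ℕ, ℕ) (hp : p.2 ≤ p.1) :
    ∑ l, (-degA i p l).toNat = p.1 + 1 := by
  rw [sum_fin3_nat i]
  unfold degA
  rw [vec3_same, vec3_zero, vec3_one]
  omega

theorem finrank_sigPiece_single (r : ℕ) (i : Fin 3) :
    Module.finrank k ↥(sigPiece (mpow (Fin 3) k r) ({i} : Set (Fin 3))) = Nat.choose (r + 3) 4 := by
  classical
  have hI : IsMonomial (mpow (Fin 3) k r) := isMonomial_mpow r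
  rw [Groth.Agent.Lib.Seat60.TgtSum.finrank_sigPiece_eq_sum_of hI _ ((idxA r).image (degA i))]
  · rw [Finset.sum_image (fun x _ y _ h => degA_injective i h)]
    unfold idxA
    rw [Finset.sum_sigma, ← sum_succ_mul_choose r]
    apply Finset.sum_congr rfl
    intro c hc
    have hcr : c < r := Finset.mem_range.mp hc
    have : ∀ a ∈ Finset.range (c + 1),
        Module.finrank k ↥(tPiece (mpow (Fin 3) k r) (degA i ⟨c, a⟩)) = (r - c + 1).choose 2 := by
      intro a ha
      have hac : a ≤ c := Nat.lt_succ_iff.mp (Finset.mem_range.mp ha)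
      rw [finrank_tPiece_mpow3, degA_tot, degA_w i ⟨c, a⟩ hac, if_pos ⟨rfl, by simp; omega⟩]
      congr 1
      simp only
      omega
    rw [Finset.sum_congr rfl this, Finset.sum_const, Finset.card_range, smul_eq_mul]
  · intro α hα
    obtain ⟨p, hp, rfl⟩ := Finset.mem_image.mp hα
    unfold idxA at hp
    rw [Finset.mem_sigma, Finset.mem_range, Finset.mem_range] at hp
    exact degA_pattern i p (by omega)
  · intro α hpat hα
    apply tPiece_mpow3_eq_bot
    rintro ⟨htot, hw⟩
    apply hα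
    rw [forall_fin3 i] at hpat
    obtain ⟨h1, h2, h3⟩ := hpat
    have h1' : α i < 0 := h1.mpr rfl
    have h2' : 0 ≤ α (i.succAbove 0) := by
      by_contra hcon
      exact Fin.succAbove_ne i 0 (h2.mp (not_le.mp hcon))
    have h3' : 0 ≤ α (i.succAbove 1) := by
      by_contra hcon
      exact Fin.succAbove_ne i 1 (h3.mp (not_le.mp hcon))
    rw [sum_fin3 i] at htot
    rw [sum_fin3_nat i] at hw
    rw [Finset.mem_image]
    refine ⟨⟨(-α i).toNat - 1, (α (i.succAbove 0)).toNat⟩, ?_, ?_⟩
    · unfold idxA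
      rw [Finset.mem_sigma, Finset.mem_range, Finset.mem_range]
      dsimp only
      constructor <;> omega
    · rw [eq_vec3 i α]
      unfold degA
      dsimp only
      simp only [vec3_same, vec3_zero, vec3_one]
      congr 1 <;> omega

/-- multidegrees negative exactly off `i`, of total degree `-1` -/
def degB (i : Fin 3) (p : Σ _ : ℕ, ℕ) : Fin 3 → ℤ :=
  vec3 i ((p.1 : ℤ) + 1) (-((p.2 : ℤ) + 1)) (-((p.1 : ℤ) - (p.2 : ℤ) + 1))

lemma degB_injective (i : Fin 3) : Function.Injective (degB i) := by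
  rintro ⟨c, a⟩ ⟨c', a'⟩ h
  obtain ⟨h1, h2, _⟩ := vec3_inj i h
  simp only at h1 h2
  have hc : c = c' := by omega
  have ha : a = a' := by omega
  subst hc; subst ha; rfl

lemma degB_pattern (i : Fin 3) (p : Σ _ : ℕ, ℕ) (hp : p.2 ≤ p.1) :
    ∀ l, degB i p l < 0 ↔ l ∈ ({i}ᶜ : Set (Fin 3)) := by
  rw [forall_fin3 i]
  unfold degB
  rw [vec3_same, vec3_zero, vec3_one]
  have hp' : (p.2 : ℤ) ≤ (p.1 : ℤ) := by exact_mod_cast hp
  refine ⟨⟨fun h => by omega, fun h => absurd rfl h⟩, ?_, ?_⟩
  · constructor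
    · intro h; exact Fin.succAbove_ne i 0
    · intro h; omega
  · constructor
    · intro h; exact Fin.succAbove_ne i 1
    · intro h; omega

lemma degB_tot (i : Fin 3) (p : Σ _ : ℕ, ℕ) : ∑ l, degB i p l = -1 := by
  rw [sum_fin3 i]
  unfold degB
  rw [vec3_same, vec3_zero, vec3_one]
  ring

lemma degB_w (i : Fin 3) (p : Σ _ : ℕ, ℕ) (hp : p.2 ≤ p.1) :
    ∑ l, (-degB i p l).toNat = p.1 + 2 := by
  rw [sum_fin3_nat i]
  unfold degB
  rw [vec3_same, vec3_zero, vec3_one]
  omega

theorem finrank_sigPiece_compl (r : ℕ) (i : Fin 3) :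
    Module.finrank k ↥(sigPiece (mpow (Fin 3) k r) ({i}ᶜ : Set (Fin 3))) = Nat.choose (r + 2) 4 := by
  classical
  have hI : IsMonomial (mpow (Fin 3) k r) := isMonomial_mpow r
  rw [Groth.Agent.Lib.Seat60.TgtSum.finrank_sigPiece_eq_sum_of hI _
    ((idxA (r - 1)).image (degB i))]
  · rw [Finset.sum_image (fun x _ y _ h => degB_injective i h)]
    unfold idxA
    rw [Finset.sum_sigma]
    have hsum : ∀ c ∈ Finset.range (r - 1), ∑ a ∈ Finset.range (c + 1),
        Module.finrank k ↥(tPiece (mpow (Fin 3) k r) (degB i ⟨c, a⟩)) =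
          (c + 1) * (r - 1 - c + 1).choose 2 := by
      intro c hc
      have hcr : c < r - 1 := Finset.mem_range.mp hc
      have : ∀ a ∈ Finset.range (c + 1),
          Module.finrank k ↥(tPiece (mpow (Fin 3) k r) (degB i ⟨c, a⟩)) =
            (r - 1 - c + 1).choose 2 := by
        intro a ha
        have hac : a ≤ c := Nat.lt_succ_iff.mp (Finset.mem_range.mp ha)
        rw [finrank_tPiece_mpow3, degB_tot, degB_w i ⟨c, a⟩ hac, if_pos ⟨rfl, by simp; omega⟩]
        congr 1
        simp only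
        omega
      rw [Finset.sum_congr rfl this, Finset.sum_const, Finset.card_range, smul_eq_mul]
    rw [Finset.sum_congr rfl hsum, sum_succ_mul_choose (r - 1)]
    rcases r with _ | r
    · rfl
    · rfl
  · intro α hα
    obtain ⟨p, hp, rfl⟩ := Finset.mem_image.mp hα
    unfold idxA at hp
    rw [Finset.mem_sigma, Finset.mem_range, Finset.mem_range] at hp
    exact degB_pattern i p (by omega)
  · intro α hpat hα
    apply tPiece_mpow3_eq_bot
    rintro ⟨htot, hw⟩
    apply hα
    rw [forall_fin3 i] at hpat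
    obtain ⟨h1, h2, h3⟩ := hpat
    have h1' : 0 ≤ α i := by
      by_contra hcon
      exact (h1.mp (not_le.mp hcon)) rfl
    have h2' : α (i.succAbove 0) < 0 := h2.mpr (Fin.succAbove_ne i 0)
    have h3' : α (i.succAbove 1) < 0 := h3.mpr (Fin.succAbove_ne i 1)
    rw [sum_fin3 i] at htot
    rw [sum_fin3_nat i] at hw
    rw [Finset.mem_image]
    refine ⟨⟨(α i).toNat - 1, (-α (i.succAbove 0)).toNat - 1⟩, ?_, ?_⟩
    · unfold idxA
      rw [Finset.mem_sigma, Finset.mem_range, Finset.mem_range]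
      dsimp only
      constructor <;> omega
    · rw [eq_vec3 i α]
      unfold degB
      dsimp only
      simp only [vec3_same, vec3_zero, vec3_one]
      congr 1 <;> omega

section general

variable {σ : Type*} {k : Type*} [Field k] [Fintype σ] {I : Ideal (MvPolynomial σ k)}

lemma sigPiece_empty (hI : IsMonomial I) : sigPiece I (∅ : Set σ) = ⊥ := by
  unfold sigPiece
  rw [iSup_eq_bot]
  rintro ⟨α, hα⟩
  apply tPiece_eq_bot_of_nonneg hI
  intro i
  by_contra hcon
  exact (hα i).mp (not_le.mp hcon)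

lemma sigPiece_univ (hI : IsMonomial I) [Module.Finite k (MvPolynomial σ k ⧸ I)] [Nontrivial σ] :
    sigPiece I (Set.univ : Set σ) = ⊥ := by
  unfold sigPiece
  rw [iSup_eq_bot]
  rintro ⟨α, hα⟩
  apply tPiece_eq_bot_of_neg hI
  intro i
  exact (hα i).mpr (Set.mem_univ i)

end general

lemma univ_finset_fin3 : (Finset.univ : Finset (Finset (Fin 3))) =
    {∅, {0}, {1}, {2}, {1, 2}, {0, 2}, {0, 1}, Finset.univ} := by decide

lemma compl_zero : (({1, 2} : Finset (Fin 3)) : Set (Fin 3)) = ({0}ᶜ : Set (Fin 3)) := by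
  ext l; fin_cases l <;> simp
lemma compl_one : (({0, 2} : Finset (Fin 3)) : Set (Fin 3)) = ({1}ᶜ : Set (Fin 3)) := by
  ext l; fin_cases l <;> simp
lemma compl_two : (({0, 1} : Finset (Fin 3)) : Set (Fin 3)) = ({2}ᶜ : Set (Fin 3)) := by
  ext l; fin_cases l <;> simp

/-- in three variables the dimension of `T(I)` is the sum of the dimensions of the six mixed
sign-pattern pieces -/
theorem finrank_Tgt_fin3 {k : Type*} [Field k] {I : Ideal (MvPolynomial (Fin 3) k)}
    (hI : IsMonomial I) [Module.Finite k (MvPolynomial (Fin 3) k ⧸ I)] :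
    Module.finrank k (Tgt I) =
      ∑ i : Fin 3, (Module.finrank k ↥(sigPiece I ({i} : Set (Fin 3))) +
        Module.finrank k ↥(sigPiece I ({i}ᶜ : Set (Fin 3)))) := by
  classical
  rw [Groth.Agent.Lib.Seat60.TgtSum.finrank_Tgt_eq_sum_sigPiece hI, univ_finset_fin3]
  rw [Finset.sum_insert (by decide), Finset.sum_insert (by decide), Finset.sum_insert (by decide),
    Finset.sum_insert (by decide), Finset.sum_insert (by decide), Finset.sum_insert (by decide),
    Finset.sum_insert (by decide), Finset.sum_singleton]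
  rw [Finset.coe_empty, sigPiece_empty hI, Finset.coe_univ, sigPiece_univ hI, finrank_bot,
    compl_zero, compl_one, compl_two, Finset.coe_singleton, Finset.coe_singleton,
    Finset.coe_singleton, Fin.sum_univ_three]
  ring


/-- the three dimension counts for `T(m^r)` in three variables -/
theorem finrank_mpow3 {k : Type*} [Field k] (r : ℕ) (i : Fin 3) :
    Module.finrank k ↥(sigPiece (mpow (Fin 3) k r) ({i} : Set (Fin 3))) = Nat.choose (r + 3) 4 ∧
    Module.finrank k ↥(sigPiece (mpow (Fin 3) k r) ({i}ᶜ : Set (Fin 3))) = Nat.choose (r + 2) 4 ∧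
    Module.finrank k (Tgt (mpow (Fin 3) k r)) = Nat.choose (r + 2) 2 * Nat.choose (r + 1) 2 := by
  refine ⟨finrank_sigPiece_single r i, finrank_sigPiece_compl r i, ?_⟩
  rw [finrank_Tgt_fin3 (isMonomial_mpow r), ← choose_identity r]
  simp only [finrank_sigPiece_single, finrank_sigPiece_compl, Finset.sum_const, Finset.card_univ,
    Fintype.card_fin, smul_eq_mul]

end Groth.Agent.Lib.Seat60.TgtPow3
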