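import Mathlib
import Groth.Prelude.Def_W4c1hilbpnTgt
import Groth.Agent.Lib.Seat60TgtPow3

/-! Seat60: staircase numbers of a monomial ideal of finite colength in three variables, in any of the
three coordinate directions; the ideal is the set of points on or above the staircase; the colength is
the sum of the staircase numbers. -/

set_option autoImplicit false
set_option linter.style.haveILetI false
set_option linter.unusedSectionVars false
set_option linter.unusedVariables false

namespace Groth.Agent.Lib.Seat60.Stair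

open W4c1hilbpn MvPolynomial
open Groth.Agent.Lib.Helper24TgtPiece
open Groth.Agent.Lib.Seat60.TgtBasic
open Groth.Agent.Lib.Seat60.TgtPow3

/-- a finite down-closed set of naturals is an initial segment -/
lemma mem_iff_lt_card (s : Set ℕ) (hfin : s.Finite) (hdown : ∀ c ∈ s, ∀ c' ≤ c, c' ∈ s) (c : ℕ) :
    c ∈ s ↔ c < Nat.card s := by
  classical
  have hex : ∃ n, n ∉ s := by
    by_contra hcon
    push Not at hcon
    have : s = Set.univ := Set.eq_univ_of_forall hcon
    rw [this] at hfin
    exact Set.infinite_univ hfin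
  have hlt : ∀ m, m < Nat.find hex → m ∈ s := fun m hm => not_not.mp (Nat.find_min hex hm)
  have hge : ∀ m, Nat.find hex ≤ m → m ∉ s := fun m hm hms =>
    Nat.find_spec hex (hdown m hms _ hm)
  have hs : ∀ m, m ∈ s ↔ m < Nat.find hex := by
    intro m
    constructor
    · intro hm
      by_contra hcon
      exact hge m (not_lt.mp hcon) hm
    · exact hlt m
  have hcard : Nat.card s = Nat.find hex := by
    have e : s ≃ Fin (Nat.find hex) :=
      (Equiv.subtypeEquivRight hs).trans (Fin.equivSubtype (n := Nat.find hex)).symm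
    rw [Nat.card_congr e, Nat.card_fin]
  rw [hcard]
  exact hs c

/-- the exponent vector with entry `x` at `i` and entries `y, z` at the other two indices -/
noncomputable def nvec (i : Fin 3) (x y z : ℕ) : Fin 3 →₀ ℕ :=
  Finsupp.equivFunOnFinite.symm (Fin.insertNth (α := fun _ => ℕ) i x ![y, z])

lemma nvec_same (i : Fin 3) (x y z : ℕ) : nvec i x y z i = x := by
  simp [nvec]

lemma nvec_zero (i : Fin 3) (x y z : ℕ) : nvec i x y z (i.succAbove 0) = y := by
  simp [nvec]

lemma nvec_one (i : Fin 3) (x y z : ℕ) : nvec i x y z (i.succAbove 1) = z := by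
  simp [nvec]

lemma nvec_ext (i : Fin 3) {β γ : Fin 3 →₀ ℕ} (h0 : β i = γ i)
    (h1 : β (i.succAbove 0) = γ (i.succAbove 0)) (h2 : β (i.succAbove 1) = γ (i.succAbove 1)) :
    β = γ := by
  ext l
  revert l
  rw [forall_fin3 i]
  exact ⟨h0, h1, h2⟩

lemma eq_nvec (i : Fin 3) (β : Fin 3 →₀ ℕ) :
    β = nvec i (β i) (β (i.succAbove 0)) (β (i.succAbove 1)) := by
  apply nvec_ext i
  · rw [nvec_same]
  · rw [nvec_zero]
  · rw [nvec_one]

lemma succAbove_zero_ne (i : Fin 3) : i.succAbove 0 ≠ i := Fin.succAbove_ne i 0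
lemma succAbove_one_ne (i : Fin 3) : i.succAbove 1 ≠ i := Fin.succAbove_ne i 1
lemma succAbove_zero_ne_one (i : Fin 3) : i.succAbove 0 ≠ i.succAbove 1 := by
  intro h
  have := Fin.succAbove_right_injective h
  exact absurd this (by decide)

lemma nvec_add_single_same (i : Fin 3) (x y z t : ℕ) :
    nvec i x y z + Finsupp.single i t = nvec i (x + t) y z := by
  apply nvec_ext i
  · rw [Finsupp.add_apply, Finsupp.single_eq_same, nvec_same, nvec_same]
  · rw [Finsupp.add_apply, Finsupp.single_apply, if_neg (succAbove_zero_ne i).symm, nvec_zero,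
      nvec_zero, add_zero]
  · rw [Finsupp.add_apply, Finsupp.single_apply, if_neg (succAbove_one_ne i).symm, nvec_one,
      nvec_one, add_zero]

lemma nvec_add_single_zero (i : Fin 3) (x y z t : ℕ) :
    nvec i x y z + Finsupp.single (i.succAbove 0) t = nvec i x (y + t) z := by
  apply nvec_ext i
  · rw [Finsupp.add_apply, Finsupp.single_apply, if_neg (succAbove_zero_ne i), nvec_same,
      nvec_same, add_zero]
  · rw [Finsupp.add_apply, Finsupp.single_eq_same, nvec_zero, nvec_zero]
  · rw [Finsupp.add_apply, Finsupp.single_apply, if_neg (succAbove_zero_ne_one i), nvec_one,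
      nvec_one, add_zero]

lemma nvec_add_single_one (i : Fin 3) (x y z t : ℕ) :
    nvec i x y z + Finsupp.single (i.succAbove 1) t = nvec i x y (z + t) := by
  apply nvec_ext i
  · rw [Finsupp.add_apply, Finsupp.single_apply, if_neg (succAbove_one_ne i), nvec_same,
      nvec_same, add_zero]
  · rw [Finsupp.add_apply, Finsupp.single_apply, if_neg (succAbove_zero_ne_one i).symm, nvec_zero,
      nvec_zero, add_zero]
  · rw [Finsupp.add_apply, Finsupp.single_eq_same, nvec_one, nvec_one]

lemma nvec_inj (i : Fin 3) {x y z x' y' z' : ℕ} (h : nvec i x y z = nvec i x' y' z') :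
    x = x' ∧ y = y' ∧ z = z' := by
  refine ⟨?_, ?_, ?_⟩
  · have := DFunLike.congr_fun h i; rwa [nvec_same, nvec_same] at this
  · have := DFunLike.congr_fun h (i.succAbove 0); rwa [nvec_zero, nvec_zero] at this
  · have := DFunLike.congr_fun h (i.succAbove 1); rwa [nvec_one, nvec_one] at this

variable {k : Type*} [Field k]

/-- staircase number in direction `i` -/
noncomputable def hst (I : Ideal (MvPolynomial (Fin 3) k)) (i : Fin 3) (y z : ℕ) : ℕ :=
  Nat.card {c : ℕ // nvec i c y z ∉ exps I}

lemma nvec_two (c y z : ℕ) : nvec 2 c y z = e3 y z c := by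
  apply Groth.Agent.Lib.Helper20.e3_ext
  · have := nvec_zero 2 c y z
    rw [Groth.Agent.Lib.Helper20.e3_zero]
    exact this
  · have := nvec_one 2 c y z
    rw [Groth.Agent.Lib.Helper20.e3_one]
    exact this
  · rw [Groth.Agent.Lib.Helper20.e3_two]
    exact nvec_same 2 c y z

lemma hst_two (I : Ideal (MvPolynomial (Fin 3) k)) (y z : ℕ) : hst I 2 y z = stairZ I y z := by
  unfold hst stairZ
  simp only [nvec_two]

variable {I : Ideal (MvPolynomial (Fin 3) k)}

lemma mem_exps_nvec_iff (hI : IsMonomial I) [Module.Finite k (MvPolynomial (Fin 3) k ⧸ I)]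
    (i : Fin 3) (c y z : ℕ) : nvec i c y z ∈ exps I ↔ hst I i y z ≤ c := by
  haveI := Groth.Agent.Lib.Helper20.finite_compl_exps I hI
  have hfin : ({c : ℕ | nvec i c y z ∉ exps I}).Finite := by
    apply Set.Finite.of_injOn (f := fun c => nvec i c y z) (t := {β | β ∉ exps I})
    · intro c hc; exact hc
    · intro c _ c' _ hcc
      exact (nvec_inj i hcc).1
    · exact Set.finite_coe_iff.mp this
  have hdown : ∀ c ∈ {c : ℕ | nvec i c y z ∉ exps I}, ∀ c' ≤ c,
      c' ∈ {c : ℕ | nvec i c y z ∉ exps I} := by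
    intro c hc c' hc' hmem
    apply hc
    have := exps_add hmem (Finsupp.single i (c - c'))
    rw [nvec_add_single_same, Nat.add_sub_cancel' hc'] at this
    exact this
  have h1 := mem_iff_lt_card _ hfin hdown c
  have h2 : (nvec i c y z ∉ exps I) ↔ c < hst I i y z := h1
  rw [← not_lt, ← h2, not_not]


lemma hst_anti_y (hI : IsMonomial I) [Module.Finite k (MvPolynomial (Fin 3) k ⧸ I)]
    (i : Fin 3) (y z : ℕ) : hst I i (y + 1) z ≤ hst I i y z := by
  rw [← mem_exps_nvec_iff hI, ← nvec_add_single_zero]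
  exact exps_add ((mem_exps_nvec_iff hI i _ y z).mpr le_rfl) _

lemma hst_anti_z (hI : IsMonomial I) [Module.Finite k (MvPolynomial (Fin 3) k ⧸ I)]
    (i : Fin 3) (y z : ℕ) : hst I i y (z + 1) ≤ hst I i y z := by
  rw [← mem_exps_nvec_iff hI, ← nvec_add_single_one]
  exact exps_add ((mem_exps_nvec_iff hI i _ y z).mpr le_rfl) _

lemma hst_le_add (hI : IsMonomial I) [Module.Finite k (MvPolynomial (Fin 3) k ⧸ I)]
    (i : Fin 3) (y z a b : ℕ) : hst I i (y + a) (z + b) ≤ hst I i y z := by
  rw [← mem_exps_nvec_iff hI, ← nvec_add_single_one, ← nvec_add_single_zero]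
  exact exps_add (exps_add ((mem_exps_nvec_iff hI i _ y z).mpr le_rfl) _) _

lemma hst_bdd (hI : IsMonomial I) [Module.Finite k (MvPolynomial (Fin 3) k ⧸ I)] (i : Fin 3) :
    ∃ M, ∀ y z, M ≤ y ∨ M ≤ z → hst I i y z = 0 := by
  obtain ⟨N0, hN0⟩ := exists_single_mem_exps hI (i.succAbove 0)
  obtain ⟨N1, hN1⟩ := exists_single_mem_exps hI (i.succAbove 1)
  have e0 : Finsupp.single (i.succAbove 0) N0 = nvec i 0 N0 0 := by
    have := nvec_add_single_zero i 0 0 0 N0
    rw [zero_add] at this
    rw [← this]
    have h0 : nvec i 0 0 0 = 0 := by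
      apply nvec_ext i
      · rw [nvec_same]; rfl
      · rw [nvec_zero]; rfl
      · rw [nvec_one]; rfl
    rw [h0, zero_add]
  have e1 : Finsupp.single (i.succAbove 1) N1 = nvec i 0 0 N1 := by
    have := nvec_add_single_one i 0 0 0 N1
    rw [zero_add] at this
    rw [← this]
    have h0 : nvec i 0 0 0 = 0 := by
      apply nvec_ext i
      · rw [nvec_same]; rfl
      · rw [nvec_zero]; rfl
      · rw [nvec_one]; rfl
    rw [h0, zero_add]
  rw [e0] at hN0
  rw [e1] at hN1
  refine ⟨max N0 N1, fun y z hyz => ?_⟩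
  apply Nat.le_zero.mp
  rw [← mem_exps_nvec_iff hI]
  rcases hyz with hy | hz
  · have h1 := exps_add (exps_add hN0 (Finsupp.single (i.succAbove 0) (y - N0)))
      (Finsupp.single (i.succAbove 1) z)
    rw [nvec_add_single_zero, nvec_add_single_one, zero_add] at h1
    have : N0 + (y - N0) = y := by
      have := le_max_left N0 N1
      omega
    rw [this] at h1
    exact h1
  · have h1 := exps_add (exps_add hN1 (Finsupp.single (i.succAbove 1) (z - N1)))
      (Finsupp.single (i.succAbove 0) y)
    rw [nvec_add_single_one, nvec_add_single_zero, zero_add] at h1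
    have : N1 + (z - N1) = z := by
      have := le_max_right N0 N1
      omega
    rw [this] at h1
    exact h1

/-- the colength of a monomial ideal is the number of monomials outside it -/
lemma finrank_quot_eq_card {σ : Type*} {J : Ideal (MvPolynomial σ k)} (hJ : IsMonomial J)
    [Module.Finite k (MvPolynomial σ k ⧸ J)] :
    Module.finrank k (MvPolynomial σ k ⧸ J) = Nat.card {β : σ →₀ ℕ // β ∉ exps J} := by
  have hli := Groth.Agent.Lib.Helper20.linearIndependent_monomial_compl_exps J hJ
  have hspan : ⊤ ≤ Submodule.span k (Set.range (fun β : {β : σ →₀ ℕ // β ∉ exps J} =>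
      Ideal.Quotient.mk J (monomial β.1 (1 : k)))) := by
    intro q _
    obtain ⟨p, rfl⟩ := Ideal.Quotient.mk_surjective q
    rw [← support_sum_monomial_coeff p, map_sum]
    apply Submodule.sum_mem
    intro β _
    by_cases hβ : β ∈ exps J
    · have : Ideal.Quotient.mk J (monomial β (coeff β p)) = 0 := by
        rw [mk_monomial_smul, mk_monomial_eq_zero.mpr hβ, smul_zero]
      rw [this]
      exact Submodule.zero_mem _
    · rw [mk_monomial_smul]
      apply Submodule.smul_mem
      apply Submodule.subset_span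
      exact ⟨⟨β, hβ⟩, rfl⟩
  have b := Module.Basis.mk hli hspan
  exact Module.finrank_eq_nat_card_basis b


lemma card_compl_exps_eq_sum (hI : IsMonomial I) [Module.Finite k (MvPolynomial (Fin 3) k ⧸ I)]
    (i : Fin 3) (M : ℕ) (hM : ∀ y z, M ≤ y ∨ M ≤ z → hst I i y z = 0) :
    Nat.card {β : Fin 3 →₀ ℕ // β ∉ exps I} =
      ∑ p ∈ Finset.range M ×ˢ Finset.range M, hst I i p.1 p.2 := by
  classical
  set T : Finset (Σ _ : ℕ × ℕ, ℕ) :=
    (Finset.range M ×ˢ Finset.range M).sigma (fun p => Finset.range (hst I i p.1 p.2)) with hT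
  have hmemT : ∀ q : Σ _ : ℕ × ℕ, ℕ, q ∈ T ↔ nvec i q.2 q.1.1 q.1.2 ∉ exps I := by
    intro q
    rw [hT, Finset.mem_sigma, Finset.mem_product, Finset.mem_range, Finset.mem_range,
      Finset.mem_range, mem_exps_nvec_iff hI, not_le]
    constructor
    · intro hq; exact hq.2
    · intro hq
      refine ⟨⟨?_, ?_⟩, hq⟩
      · by_contra hcon
        have := hM q.1.1 q.1.2 (Or.inl (not_lt.mp hcon))
        omega
      · by_contra hcon
        have := hM q.1.1 q.1.2 (Or.inr (not_lt.mp hcon))
        omega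
  have e : {β : Fin 3 →₀ ℕ // β ∉ exps I} ≃ {q // q ∈ T} :=
    { toFun := fun β => ⟨⟨(β.1 (i.succAbove 0), β.1 (i.succAbove 1)), β.1 i⟩, by
        rw [hmemT]
        show nvec i (β.1 i) (β.1 (i.succAbove 0)) (β.1 (i.succAbove 1)) ∉ exps I
        rw [← eq_nvec i β.1]
        exact β.2⟩
      invFun := fun q => ⟨nvec i q.1.2 q.1.1.1 q.1.1.2, (hmemT q.1).mp q.2⟩
      left_inv := by
        intro β
        apply Subtype.ext
        exact (eq_nvec i β.1).symm
      right_inv := by
        rintro ⟨⟨⟨y, z⟩, c⟩, hq⟩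
        apply Subtype.ext
        show (⟨(nvec i c y z (i.succAbove 0), nvec i c y z (i.succAbove 1)), nvec i c y z i⟩ :
          Σ _ : ℕ × ℕ, ℕ) = ⟨(y, z), c⟩
        rw [nvec_same, nvec_zero, nvec_one] }
  rw [Nat.card_congr e, Nat.card_eq_fintype_card, Fintype.card_coe, hT, Finset.card_sigma]
  apply Finset.sum_congr rfl
  intro p _
  rw [Finset.card_range]

/-- the colength is the sum of the staircase numbers in any direction -/
theorem finrank_quot_eq_sum (hI : IsMonomial I) [Module.Finite k (MvPolynomial (Fin 3) k ⧸ I)]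
    (i : Fin 3) (M : ℕ) (hM : ∀ y z, M ≤ y ∨ M ≤ z → hst I i y z = 0) :
    Module.finrank k (MvPolynomial (Fin 3) k ⧸ I) =
      ∑ p ∈ Finset.range M ×ˢ Finset.range M, hst I i p.1 p.2 := by
  rw [finrank_quot_eq_card hI, card_compl_exps_eq_sum hI i M hM]

end Groth.Agent.Lib.Seat60.Stair
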