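import Mathlib
import Groth.Prelude.Def_W4c1hilbpnTgt
import Groth.Agent.Lib.Seat60Stair
import Groth.Agent.Lib.Seat60Dual2DSum

/-! Seat60: the graded piece of `T(I)` (monomial ideal of finite colength in three variables) of a
multidegree which is negative exactly in one direction is isomorphic to the planar model `Xa`. -/

set_option autoImplicit false
set_option linter.style.haveILetI false
set_option linter.unusedSectionVars false
set_option linter.unusedVariables false

namespace Groth.Agent.Lib.Seat60.TgtXY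

open W4c1hilbpn MvPolynomial
open Groth.Agent.Lib.Helper24TgtPiece
open Groth.Agent.Lib.Seat60.TgtBasic
open Groth.Agent.Lib.Seat60.TgtPow3
open Groth.Agent.Lib.Seat60.Stair
open Groth.Agent.Lib.Seat60.Dual2D

variable {k : Type*} [Field k] {I : Ideal (MvPolynomial (Fin 3) k)}

/-- the multidegree with entry `-c` at `i` and entries `a, b` at the other two indices -/
def alpha (i : Fin 3) (a b c : ℕ) : Fin 3 → ℤ := vec3 i (-(c : ℤ)) a b

/-- the shifted staircase function -/
noncomputable def gg (I : Ideal (MvPolynomial (Fin 3) k)) (i : Fin 3) (a b : ℕ) : ℕ → ℕ → ℕ :=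
  fun y z => hst I i (y + a) (z + b)

section

variable (i : Fin 3) (a b c : ℕ)

lemma pt_alpha_same (β : Fin 3 →₀ ℕ) : pt (alpha i a b c) β i = (β i : ℤ) - c := by
  simp only [pt, alpha, vec3_same]
  ring

lemma pt_alpha_zero (β : Fin 3 →₀ ℕ) :
    pt (alpha i a b c) β (i.succAbove 0) = (β (i.succAbove 0) : ℤ) + a := by
  simp only [pt, alpha, vec3_zero]

lemma pt_alpha_one (β : Fin 3 →₀ ℕ) :
    pt (alpha i a b c) β (i.succAbove 1) = (β (i.succAbove 1) : ℤ) + b := by
  simp only [pt, alpha, vec3_one]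

lemma nonneg_alpha_iff (s y z : ℕ) :
    (∀ m, 0 ≤ ((nvec i s y z m : ℕ) : ℤ) + alpha i a b c m) ↔ c ≤ s := by
  rw [forall_fin3 i]
  have h1 := pt_alpha_same i a b c (nvec i s y z)
  have h2 := pt_alpha_zero i a b c (nvec i s y z)
  have h3 := pt_alpha_one i a b c (nvec i s y z)
  simp only [pt] at h1 h2 h3
  rw [h1, h2, h3, nvec_same, nvec_zero, nvec_one]
  omega

lemma shift_alpha (s y z : ℕ) (hcs : c ≤ s) :
    shift (nvec i s y z) (alpha i a b c) = nvec i (s - c) (y + a) (z + b) := by
  have h1 := pt_alpha_same i a b c (nvec i s y z)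
  have h2 := pt_alpha_zero i a b c (nvec i s y z)
  have h3 := pt_alpha_one i a b c (nvec i s y z)
  simp only [pt] at h1 h2 h3
  apply nvec_ext i
  · rw [shift_apply, h1, nvec_same, nvec_same]
    omega
  · rw [shift_apply, h2, nvec_zero, nvec_zero]
    omega
  · rw [shift_apply, h3, nvec_one, nvec_one]
    omega

variable {i a b c}

lemma mem_region_alpha (hI : IsMonomial I) [Module.Finite k (MvPolynomial (Fin 3) k ⧸ I)]
    {s y z : ℕ} (hβ : hst I i y z ≤ s) :
    pt (alpha i a b c) (nvec i s y z) ∈ region I (alpha i a b c) ↔ s < c + gg I i a b y z := by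
  rw [mem_region_pt ((mem_exps_nvec_iff hI i s y z).mpr hβ), nonneg_alpha_iff]
  by_cases hcs : c ≤ s
  · rw [shift_alpha i a b c s y z hcs, mem_exps_nvec_iff hI]
    unfold gg
    omega
  · constructor
    · intro _; omega
    · intro _ hcon; exact hcs hcon.1

end


section alphaSide

variable (I) (i : Fin 3) (a b c : ℕ)

open Classical in
/-- the function on the region attached to an element of the planar model -/
noncomputable def Fu (u : Fn k) : (Fin 3 → ℤ) → k := fun γ =>
  if γ ∈ region I (alpha i a b c) then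
    u ((bOf (alpha i a b c) γ) (i.succAbove 0)) ((bOf (alpha i a b c) γ) (i.succAbove 1))
  else 0

variable {I i a b c}

open Classical in
lemma Fu_pt (u : Fn k) (β : Fin 3 →₀ ℕ) :
    Fu I i a b c u (pt (alpha i a b c) β) =
      if pt (alpha i a b c) β ∈ region I (alpha i a b c) then
        u (β (i.succAbove 0)) (β (i.succAbove 1)) else 0 := by
  unfold Fu
  rw [bOf_pt]

lemma Fu_pt_pos (u : Fn k) {β : Fin 3 →₀ ℕ}
    (h : pt (alpha i a b c) β ∈ region I (alpha i a b c)) :
    Fu I i a b c u (pt (alpha i a b c) β) = u (β (i.succAbove 0)) (β (i.succAbove 1)) := by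
  rw [Fu_pt, if_pos h]

lemma Fu_pt_neg (u : Fn k) {β : Fin 3 →₀ ℕ}
    (h : pt (alpha i a b c) β ∉ region I (alpha i a b c)) :
    Fu I i a b c u (pt (alpha i a b c) β) = 0 := by
  rw [Fu_pt, if_neg h]

lemma Fu_step (hI : IsMonomial I) [Module.Finite k (MvPolynomial (Fin 3) k ⧸ I)]
    {u : Fn k} (hu : u ∈ Xa (hst I i) (gg I i a b) c k) {β : Fin 3 →₀ ℕ} (hβ : β ∈ exps I)
    (hr : pt (alpha i a b c) β ∈ region I (alpha i a b c)) (m : Fin 3)
    (hr' : pt (alpha i a b c) (β + Finsupp.single m 1) ∈ region I (alpha i a b c)) :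
    Fu I i a b c u (pt (alpha i a b c) β) =
      Fu I i a b c u (pt (alpha i a b c) (β + Finsupp.single m 1)) := by
  rw [Fu_pt_pos u hr, Fu_pt_pos u hr']
  obtain ⟨s, y, z, rfl⟩ : ∃ s y z, β = nvec i s y z := ⟨_, _, _, eq_nvec i β⟩
  have hs : hst I i y z ≤ s := (mem_exps_nvec_iff hI i s y z).mp hβ
  rw [mem_region_alpha hI hs] at hr
  revert hr'
  revert m
  rw [forall_fin3 i]
  refine ⟨?_, ?_, ?_⟩
  · intro _
    rw [nvec_add_single_same, nvec_zero, nvec_one, nvec_zero, nvec_one]
  · intro hr'
    rw [nvec_add_single_zero] at hr' ⊢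
    have hs' : hst I i (y + 1) z ≤ s := (hst_anti_y hI i y z).trans hs
    rw [mem_region_alpha hI hs'] at hr'
    rw [nvec_zero, nvec_one, nvec_zero, nvec_one]
    refine (hu.2.2.1 y z ?_).symm
    unfold EN1
    omega
  · intro hr'
    rw [nvec_add_single_one] at hr' ⊢
    have hs' : hst I i y (z + 1) ≤ s := (hst_anti_z hI i y z).trans hs
    rw [mem_region_alpha hI hs'] at hr'
    rw [nvec_zero, nvec_one, nvec_zero, nvec_one]
    refine (hu.2.2.2 y z ?_).symm
    unfold EN2
    omega

lemma good_Fu (hI : IsMonomial I) [Module.Finite k (MvPolynomial (Fin 3) k ⧸ I)]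
    {u : Fn k} (hu : u ∈ Xa (hst I i) (gg I i a b) c k) :
    Good I (alpha i a b c) (Fu I i a b c u) := by
  constructor
  · rintro γ γ' ⟨⟨β, hβ, rfl⟩, hn⟩ ⟨⟨β', hβ', rfl⟩, hn'⟩ hadj
    have hr : pt (alpha i a b c) β ∈ region I (alpha i a b c) := ⟨⟨β, hβ, rfl⟩, hn⟩
    have hr' : pt (alpha i a b c) β' ∈ region I (alpha i a b c) := ⟨⟨β', hβ', rfl⟩, hn'⟩
    obtain ⟨m, hm | hm⟩ := adj_pt_cases (alpha i a b c) hadj
    · subst hm
      exact Fu_step hI hu hβ hr m hr'
    · subst hm
      exact (Fu_step hI hu hβ' hr' m hr).symm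
  · rintro γ ⟨⟨β, hβ, rfl⟩, hn⟩ hneg
    have hr : pt (alpha i a b c) β ∈ region I (alpha i a b c) := ⟨⟨β, hβ, rfl⟩, hn⟩
    show Fu I i a b c u (pt (alpha i a b c) β) = 0
    rw [Fu_pt_pos u hr]
    obtain ⟨s, y, z, rfl⟩ : ∃ s y z, β = nvec i s y z := ⟨_, _, _, eq_nvec i β⟩
    have hs : hst I i y z ≤ s := (mem_exps_nvec_iff hI i s y z).mp hβ
    rw [nvec_zero, nvec_one]
    apply hu.1
    obtain ⟨m, hm⟩ := hneg
    have hm' : pt (alpha i a b c) (nvec i s y z) m < 0 := hm
    clear hm
    revert hm'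
    revert m
    rw [forall_fin3 i]
    refine ⟨?_, ?_, ?_⟩
    · intro hm
      rw [pt_alpha_same, nvec_same] at hm
      omega
    · intro hm
      rw [pt_alpha_zero] at hm
      omega
    · intro hm
      rw [pt_alpha_one] at hm
      omega

end alphaSide


section alphaMap

variable {i : Fin 3} {a b c : ℕ}

lemma Fu_add (u v : Fn k) (γ : Fin 3 → ℤ) :
    Fu I i a b c (u + v) γ = Fu I i a b c u γ + Fu I i a b c v γ := by
  unfold Fu
  split_ifs
  · rfl
  · rw [add_zero]

lemma Fu_smul (r : k) (u : Fn k) (γ : Fin 3 → ℤ) :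
    Fu I i a b c (r • u) γ = r * Fu I i a b c u γ := by
  unfold Fu
  split_ifs
  · rfl
  · rw [mul_zero]

variable (i a b c) in
/-- the linear map from the planar model to the tangent space -/
noncomputable def PhiA (hI : IsMonomial I) [Module.Finite k (MvPolynomial (Fin 3) k ⧸ I)] :
    ↥(Xa (hst I i) (gg I i a b) c k) →ₗ[k] Tgt I where
  toFun u := mkTgt hI (Fu I i a b c u.1) (good_Fu hI u.2)
  map_add' u v := by
    apply ext_monomial hI
    intro β hβ
    rw [LinearMap.add_apply, mkTgt_apply, mkTgt_apply, mkTgt_apply]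
    unfold gF
    rw [← add_smul]
    congr 1
    exact Fu_add u.1 v.1 _
  map_smul' r u := by
    apply ext_monomial hI
    intro β hβ
    rw [LinearMap.smul_apply, RingHom.id_apply, mkTgt_apply, mkTgt_apply]
    unfold gF
    rw [smul_smul]
    congr 1
    exact Fu_smul r u.1 _

lemma PhiA_apply (hI : IsMonomial I) [Module.Finite k (MvPolynomial (Fin 3) k ⧸ I)]
    (u : ↥(Xa (hst I i) (gg I i a b) c k)) (β : Fin 3 →₀ ℕ) (hβ : monomial β (1:k) ∈ I) :
    PhiA i a b c hI u ⟨monomial β 1, hβ⟩ =
      Fu I i a b c u.1 (pt (alpha i a b c) β) •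
        Ideal.Quotient.mk I (monomial (shift β (alpha i a b c)) (1 : k)) :=
  mkTgt_apply hI _ (good_Fu hI u.2) β hβ

lemma PhiA_mem (hI : IsMonomial I) [Module.Finite k (MvPolynomial (Fin 3) k ⧸ I)]
    (u : ↥(Xa (hst I i) (gg I i a b) c k)) : PhiA i a b c hI u ∈ tPiece I (alpha i a b c) :=
  mkTgt_mem hI _ (good_Fu hI u.2)

lemma PhiA_injective (hI : IsMonomial I) [Module.Finite k (MvPolynomial (Fin 3) k ⧸ I)] :
    Function.Injective (PhiA (k := k) (I := I) i a b c hI) := by
  rw [injective_iff_map_eq_zero]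
  intro u hu
  apply Subtype.ext
  funext y z
  show u.1 y z = 0
  by_cases hv : VN (hst I i) (gg I i a b) c y z
  · exact u.2.2.1 y z hv
  by_cases hc : hst I i y z < c
  · exact u.2.1 y z hc
  unfold VN at hv
  have hmem : nvec i (hst I i y z) y z ∈ exps I := (mem_exps_nvec_iff hI i _ y z).mpr le_rfl
  have hr : pt (alpha i a b c) (nvec i (hst I i y z) y z) ∈ region I (alpha i a b c) := by
    rw [mem_region_alpha hI le_rfl]
    omega
  have h1 := PhiA_apply hI u (nvec i (hst I i y z) y z) hmem
  rw [hu, LinearMap.zero_apply, Fu_pt_pos _ hr, nvec_zero, nvec_one] at h1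
  have hne : Ideal.Quotient.mk I (monomial (shift (nvec i (hst I i y z) y z) (alpha i a b c)) (1:k)) ≠ 0 := by
    intro h0
    have h2 := (mem_region_pt hmem).mp hr
    apply h2
    refine ⟨(nonneg_alpha_iff i a b c _ y z).mpr (not_lt.mp hc), mk_monomial_eq_zero.mp h0⟩
  rcases smul_eq_zero.mp h1.symm with h3 | h3
  · exact h3
  · exact absurd h3 hne

lemma PhiA_surjective (hI : IsMonomial I) [Module.Finite k (MvPolynomial (Fin 3) k ⧸ I)]
    {φ : Tgt I} (hφ : φ ∈ tPiece I (alpha i a b c)) :
    ∃ u : ↥(Xa (hst I i) (gg I i a b) c k), PhiA i a b c hI u = φ := by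
  classical
  obtain ⟨F, hF, hFe⟩ := exists_good_of_mem hφ
  -- the base points
  have hbase : ∀ y z, nvec i (hst I i y z) y z ∈ exps I :=
    fun y z => (mem_exps_nvec_iff hI i _ y z).mpr le_rfl
  have hcol : ∀ s y z, hst I i y z ≤ s →
      pt (alpha i a b c) (nvec i s y z) ∈ region I (alpha i a b c) →
      F (pt (alpha i a b c) (nvec i (hst I i y z) y z)) = F (pt (alpha i a b c) (nvec i s y z)) := by
    intro s y z hs hr
    have e : nvec i s y z = nvec i (hst I i y z) y z + Finsupp.single i (s - hst I i y z) := by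
      rw [nvec_add_single_same, Nat.add_sub_cancel' hs]
    rw [e] at hr ⊢
    exact path hF _ _ (hbase y z) hr
  set u : Fn k := fun y z =>
    if VN (hst I i) (gg I i a b) c y z then 0
    else F (pt (alpha i a b c) (nvec i (hst I i y z) y z)) with hu
  have hu_neg : ∀ y z, ¬ VN (hst I i) (gg I i a b) c y z →
      u y z = F (pt (alpha i a b c) (nvec i (hst I i y z) y z)) := by
    intro y z hv
    show (if VN (hst I i) (gg I i a b) c y z then 0
      else F (pt (alpha i a b c) (nvec i (hst I i y z) y z))) = _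
    rw [if_neg hv]
  have hu_pos : ∀ y z, VN (hst I i) (gg I i a b) c y z → u y z = 0 := by
    intro y z hv
    show (if VN (hst I i) (gg I i a b) c y z then 0
      else F (pt (alpha i a b c) (nvec i (hst I i y z) y z))) = _
    rw [if_pos hv]
  have hgy : ∀ y z, gg I i a b (y + 1) z ≤ gg I i a b y z := by
    intro y z
    unfold gg
    rw [add_right_comm]
    exact hst_anti_y hI i (y + a) (z + b)
  have hgz : ∀ y z, gg I i a b y (z + 1) ≤ gg I i a b y z := by
    intro y z
    unfold gg
    rw [add_right_comm]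
    exact hst_anti_z hI i (y + a) (z + b)
  have huX : u ∈ Xa (hst I i) (gg I i a b) c k := by
    refine ⟨fun y z hh => ?_, hu_pos, fun y z hh => ?_, fun y z hh => ?_⟩
    · by_cases hv : VN (hst I i) (gg I i a b) c y z
      · exact hu_pos y z hv
      · rw [hu_neg y z hv]
        unfold VN at hv
        have hr : pt (alpha i a b c) (nvec i (hst I i y z) y z) ∈ region I (alpha i a b c) := by
          rw [mem_region_alpha hI le_rfl]
          omega
        apply hF.neg _ hr
        refine ⟨i, ?_⟩
        rw [pt_alpha_same, nvec_same]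
        omega
    · unfold EN1 at hh
      have h1 : ¬ VN (hst I i) (gg I i a b) c y z := by
        unfold VN
        have := hgy y z
        omega
      have h2 : ¬ VN (hst I i) (gg I i a b) c (y + 1) z := by
        unfold VN
        have := hst_anti_y hI i y z
        omega
      rw [hu_neg _ _ h1, hu_neg _ _ h2]
      have hanti := hst_anti_y hI i y z
      have hrP : pt (alpha i a b c) (nvec i (hst I i y z) y z) ∈ region I (alpha i a b c) := by
        rw [mem_region_alpha hI le_rfl]
        have := hgy y z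
        omega
      have hrQ : pt (alpha i a b c) (nvec i (hst I i y z) (y + 1) z) ∈ region I (alpha i a b c) := by
        rw [mem_region_alpha hI hanti]
        omega
      rw [hcol (hst I i y z) (y + 1) z hanti hrQ]
      have hrQ' := hrQ
      rw [← nvec_add_single_zero] at hrQ' ⊢
      exact (hF.adj _ _ hrP hrQ' (adj_step _ _ _)).symm
    · unfold EN2 at hh
      have h1 : ¬ VN (hst I i) (gg I i a b) c y z := by
        unfold VN
        have := hgz y z
        omega
      have h2 : ¬ VN (hst I i) (gg I i a b) c y (z + 1) := by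
        unfold VN
        have := hst_anti_z hI i y z
        omega
      rw [hu_neg _ _ h1, hu_neg _ _ h2]
      have hanti := hst_anti_z hI i y z
      have hrP : pt (alpha i a b c) (nvec i (hst I i y z) y z) ∈ region I (alpha i a b c) := by
        rw [mem_region_alpha hI le_rfl]
        have := hgz y z
        omega
      have hrQ : pt (alpha i a b c) (nvec i (hst I i y z) y (z + 1)) ∈ region I (alpha i a b c) := by
        rw [mem_region_alpha hI hanti]
        omega
      rw [hcol (hst I i y z) y (z + 1) hanti hrQ]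
      have hrQ' := hrQ
      rw [← nvec_add_single_one] at hrQ' ⊢
      exact (hF.adj _ _ hrP hrQ' (adj_step _ _ _)).symm
  refine ⟨⟨u, huX⟩, ?_⟩
  apply ext_monomial hI
  intro β hβ
  rw [PhiA_apply, hFe]
  unfold gF
  by_cases hr : pt (alpha i a b c) β ∈ region I (alpha i a b c)
  · rw [Fu_pt_pos _ hr]
    congr 1
    obtain ⟨s, y, z, rfl⟩ : ∃ s y z, β = nvec i s y z := ⟨_, _, _, eq_nvec i β⟩
    have hs : hst I i y z ≤ s := (mem_exps_nvec_iff hI i s y z).mp hβ
    rw [nvec_zero, nvec_one]
    have hr2 := hr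
    rw [mem_region_alpha hI hs] at hr2
    have hv : ¬ VN (hst I i) (gg I i a b) c y z := by
      unfold VN
      omega
    show u y z = _
    rw [hu_neg y z hv]
    exact hcol s y z hs hr
  · rw [mem_region_pt hβ, not_not] at hr
    rw [mk_monomial_eq_zero.mpr hr.2, smul_zero, smul_zero]

/-- the graded piece of degree `(a, b, -c)` has the dimension of the planar model -/
theorem finrank_tPiece_alpha (hI : IsMonomial I) [Module.Finite k (MvPolynomial (Fin 3) k ⧸ I)] :
    Module.finrank k ↥(tPiece I (alpha i a b c)) =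
      Module.finrank k ↥(Xa (hst I i) (gg I i a b) c k) := by
  have e : ↥(Xa (hst I i) (gg I i a b) c k) ≃ₗ[k] ↥(tPiece I (alpha i a b c)) :=
    LinearEquiv.ofBijective ((PhiA i a b c hI).codRestrict (tPiece I (alpha i a b c)) (PhiA_mem hI))
      ⟨fun u v huv => PhiA_injective hI (congrArg Subtype.val huv),
       fun φ => by
        obtain ⟨u, hu⟩ := PhiA_surjective hI φ.2
        exact ⟨u, Subtype.ext hu⟩⟩
  exact e.finrank_eq.symm

end alphaMap

end Groth.Agent.Lib.Seat60.TgtXY
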