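import Mathlib
import Groth.Prelude.Def_W4c1hilbpnTgt
import Groth.Agent.Lib.Seat60TgtXY

/-! Seat60: the graded piece of `T(I)` (monomial ideal of finite colength in three variables) of a
multidegree which is negative exactly in two directions is isomorphic to the planar model `Xb`. -/

set_option autoImplicit false
set_option linter.style.haveILetI false
set_option linter.unusedSectionVars false
set_option linter.unusedVariables false

namespace Groth.Agent.Lib.Seat60.TgtXY

open W4c1hilbpn MvPolynomial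
open Groth.Agent.Lib.Helper24TgtPiece
open Groth.Agent.Lib.Seat60.TgtBasic
open Groth.Agent.Lib.Seat60.TgtPow3
open Groth.Agent.Lib.Seat60.Stair
open Groth.Agent.Lib.Seat60.Dual2D

variable {k : Type*} [Field k] {I : Ideal (MvPolynomial (Fin 3) k)}

/-- the multidegree with entry `c - 1` at `i` and entries `-a-1, -b-1` at the other two indices -/
def alpha' (i : Fin 3) (a b c : ℕ) : Fin 3 → ℤ := vec3 i ((c : ℤ) - 1) (-(a : ℤ) - 1) (-(b : ℤ) - 1)

lemma gg_eq (i : Fin 3) (a b : ℕ) {y z Y Z : ℕ} (hY : Y = y + a) (hZ : Z = z + b) :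
    gg I i a b y z = hst I i Y Z := by
  subst hY hZ
  rfl

section

variable (i : Fin 3) (a b c : ℕ)

lemma pt_alpha'_same (β : Fin 3 →₀ ℕ) : pt (alpha' i a b c) β i = (β i : ℤ) + c - 1 := by
  simp only [pt, alpha', vec3_same]
  ring

lemma pt_alpha'_zero (β : Fin 3 →₀ ℕ) :
    pt (alpha' i a b c) β (i.succAbove 0) = (β (i.succAbove 0) : ℤ) - a - 1 := by
  simp only [pt, alpha', vec3_zero]
  ring

lemma pt_alpha'_one (β : Fin 3 →₀ ℕ) :
    pt (alpha' i a b c) β (i.succAbove 1) = (β (i.succAbove 1) : ℤ) - b - 1 := by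
  simp only [pt, alpha', vec3_one]
  ring

lemma nonneg_alpha'_iff (hc : 1 ≤ c) (s Y Z : ℕ) :
    (∀ m, 0 ≤ ((nvec i s Y Z m : ℕ) : ℤ) + alpha' i a b c m) ↔ a + 1 ≤ Y ∧ b + 1 ≤ Z := by
  rw [forall_fin3 i]
  have h1 := pt_alpha'_same i a b c (nvec i s Y Z)
  have h2 := pt_alpha'_zero i a b c (nvec i s Y Z)
  have h3 := pt_alpha'_one i a b c (nvec i s Y Z)
  simp only [pt] at h1 h2 h3
  rw [h1, h2, h3, nvec_same, nvec_zero, nvec_one]
  omega

lemma shift_alpha' (hc : 1 ≤ c) (s Y Z y z : ℕ) (hY : Y = y + a + 1) (hZ : Z = z + b + 1) :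
    shift (nvec i s Y Z) (alpha' i a b c) = nvec i (s + c - 1) y z := by
  have h1 := pt_alpha'_same i a b c (nvec i s Y Z)
  have h2 := pt_alpha'_zero i a b c (nvec i s Y Z)
  have h3 := pt_alpha'_one i a b c (nvec i s Y Z)
  simp only [pt] at h1 h2 h3
  apply nvec_ext i
  · rw [shift_apply, h1, nvec_same, nvec_same]
    omega
  · rw [shift_apply, h2, nvec_zero, nvec_zero]
    omega
  · rw [shift_apply, h3, nvec_one, nvec_one]
    omega

variable {i a b c}

lemma mem_region_alpha'_iff (hI : IsMonomial I) [Module.Finite k (MvPolynomial (Fin 3) k ⧸ I)]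
    (hc : 1 ≤ c) {s Y Z y z : ℕ} (hY : Y = y + a + 1) (hZ : Z = z + b + 1)
    (hβ : hst I i Y Z ≤ s) :
    pt (alpha' i a b c) (nvec i s Y Z) ∈ region I (alpha' i a b c) ↔ s + c ≤ hst I i y z := by
  rw [mem_region_pt ((mem_exps_nvec_iff hI i s Y Z).mpr hβ), nonneg_alpha'_iff i a b c hc,
    shift_alpha' i a b c hc s Y Z y z hY hZ, mem_exps_nvec_iff hI]
  omega

lemma mem_region_alpha'_of_lt (hI : IsMonomial I) [Module.Finite k (MvPolynomial (Fin 3) k ⧸ I)]
    (hc : 1 ≤ c) {s Y Z : ℕ} (hYZ : Y < a + 1 ∨ Z < b + 1) (hβ : hst I i Y Z ≤ s) :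
    pt (alpha' i a b c) (nvec i s Y Z) ∈ region I (alpha' i a b c) := by
  rw [mem_region_pt ((mem_exps_nvec_iff hI i s Y Z).mpr hβ), nonneg_alpha'_iff i a b c hc]
  omega

end

section alphaSide'

variable (I) (i : Fin 3) (a b c : ℕ)

open Classical in
/-- the function on the region attached to an element of the second planar model -/
noncomputable def Fw (w : Fn k) : (Fin 3 → ℤ) → k := fun γ =>
  if γ ∈ region I (alpha' i a b c) ∧ 0 ≤ γ (i.succAbove 0) ∧ 0 ≤ γ (i.succAbove 1) then
    w (γ (i.succAbove 0)).toNat (γ (i.succAbove 1)).toNat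
  else 0

variable {I i a b c}

lemma Fw_pt_pos (w : Fn k) {s Y Z y z : ℕ} (hY : Y = y + a + 1) (hZ : Z = z + b + 1)
    (hr : pt (alpha' i a b c) (nvec i s Y Z) ∈ region I (alpha' i a b c)) :
    Fw I i a b c w (pt (alpha' i a b c) (nvec i s Y Z)) = w y z := by
  unfold Fw
  have h2 := pt_alpha'_zero i a b c (nvec i s Y Z)
  have h3 := pt_alpha'_one i a b c (nvec i s Y Z)
  rw [nvec_zero] at h2
  rw [nvec_one] at h3
  rw [if_pos ⟨hr, by rw [h2]; omega, by rw [h3]; omega⟩, h2, h3]
  congr 1 <;> omega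

lemma Fw_pt_left (w : Fn k) {s Y Z : ℕ} (hY : Y < a + 1) :
    Fw I i a b c w (pt (alpha' i a b c) (nvec i s Y Z)) = 0 := by
  unfold Fw
  have h2 := pt_alpha'_zero i a b c (nvec i s Y Z)
  rw [nvec_zero] at h2
  rw [if_neg]
  rintro ⟨_, h, _⟩
  rw [h2] at h
  omega

lemma Fw_pt_down (w : Fn k) {s Y Z : ℕ} (hZ : Z < b + 1) :
    Fw I i a b c w (pt (alpha' i a b c) (nvec i s Y Z)) = 0 := by
  unfold Fw
  have h3 := pt_alpha'_one i a b c (nvec i s Y Z)
  rw [nvec_one] at h3
  rw [if_neg]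
  rintro ⟨_, _, h⟩
  rw [h3] at h
  omega

lemma Fw_not_mem (w : Fn k) {γ : Fin 3 → ℤ} (h : γ ∉ region I (alpha' i a b c)) :
    Fw I i a b c w γ = 0 := by
  unfold Fw
  rw [if_neg]
  rintro ⟨h', _, _⟩
  exact h h'

end alphaSide'


section goodW

variable {i : Fin 3} {a b c : ℕ}

lemma Fw_step (hI : IsMonomial I) [Module.Finite k (MvPolynomial (Fin 3) k ⧸ I)] (hc : 1 ≤ c)
    {w : Fn k} (hw : w ∈ Xb (hst I i) (gg I i a b) c k) {β : Fin 3 →₀ ℕ} (hβ : β ∈ exps I)
    (hr : pt (alpha' i a b c) β ∈ region I (alpha' i a b c)) (m : Fin 3)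
    (hr' : pt (alpha' i a b c) (β + Finsupp.single m 1) ∈ region I (alpha' i a b c)) :
    Fw I i a b c w (pt (alpha' i a b c) β) =
      Fw I i a b c w (pt (alpha' i a b c) (β + Finsupp.single m 1)) := by
  obtain ⟨s, Y, Z, rfl⟩ : ∃ s Y Z, β = nvec i s Y Z := ⟨_, _, _, eq_nvec i β⟩
  have hs : hst I i Y Z ≤ s := (mem_exps_nvec_iff hI i s Y Z).mp hβ
  revert hr'
  revert m
  rw [forall_fin3 i]
  refine ⟨?_, ?_, ?_⟩
  · -- step in the direction `i`
    intro hr'
    rw [nvec_add_single_same] at hr' ⊢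
    by_cases hY : Y < a + 1
    · rw [Fw_pt_left w hY, Fw_pt_left w hY]
    by_cases hZ : Z < b + 1
    · rw [Fw_pt_down w hZ, Fw_pt_down w hZ]
    have eY : Y = (Y - a - 1) + a + 1 := by omega
    have eZ : Z = (Z - b - 1) + b + 1 := by omega
    rw [Fw_pt_pos w eY eZ hr, Fw_pt_pos w eY eZ hr']
  · -- step in the first planar direction
    intro hr'
    rw [nvec_add_single_zero] at hr' ⊢
    by_cases hZ : Z < b + 1
    · rw [Fw_pt_down w hZ, Fw_pt_down w hZ]
    have eZ : Z = (Z - b - 1) + b + 1 := by omega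
    by_cases hY : Y + 1 < a + 1
    · rw [Fw_pt_left w (by omega : Y < a + 1), Fw_pt_left w hY]
    by_cases hY2 : Y < a + 1
    · -- `Y = a`
      have hYa : Y = a := by omega
      rw [Fw_pt_left w hY2]
      have eY : Y + 1 = 0 + a + 1 := by omega
      rw [Fw_pt_pos w eY eZ hr']
      have hs' : hst I i (Y + 1) Z ≤ s := (hst_anti_y hI i Y Z).trans hs
      rw [mem_region_alpha'_iff hI hc eY eZ hs'] at hr'
      symm
      apply hw.2.2.2.1
      unfold EN2
      rw [gg_eq i a b (y := 0) (z := Z - b - 1 + 1) (Y := Y) (Z := Z) (by omega) (by omega)]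
      omega
    · have eY : Y = (Y - a - 1) + a + 1 := by omega
      have eY' : Y + 1 = (Y - a - 1 + 1) + a + 1 := by omega
      rw [Fw_pt_pos w eY eZ hr, Fw_pt_pos w eY' eZ hr']
      have hs' : hst I i (Y + 1) Z ≤ s := (hst_anti_y hI i Y Z).trans hs
      rw [mem_region_alpha'_iff hI hc eY' eZ hs'] at hr'
      symm
      apply hw.2.1
      unfold EN2
      rw [gg_eq i a b (y := Y - a - 1 + 1) (z := Z - b - 1 + 1) (Y := Y) (Z := Z) (by omega)
        (by omega)]
      omega
  · -- step in the second planar direction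
    intro hr'
    rw [nvec_add_single_one] at hr' ⊢
    by_cases hY : Y < a + 1
    · rw [Fw_pt_left w hY, Fw_pt_left w hY]
    have eY : Y = (Y - a - 1) + a + 1 := by omega
    by_cases hZ : Z + 1 < b + 1
    · rw [Fw_pt_down w (by omega : Z < b + 1), Fw_pt_down w hZ]
    by_cases hZ2 : Z < b + 1
    · -- `Z = b`
      have hZb : Z = b := by omega
      rw [Fw_pt_down w hZ2]
      have eZ : Z + 1 = 0 + b + 1 := by omega
      rw [Fw_pt_pos w eY eZ hr']
      have hs' : hst I i Y (Z + 1) ≤ s := (hst_anti_z hI i Y Z).trans hs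
      rw [mem_region_alpha'_iff hI hc eY eZ hs'] at hr'
      symm
      apply hw.2.2.2.2
      unfold EN1
      rw [gg_eq i a b (y := Y - a - 1 + 1) (z := 0) (Y := Y) (Z := Z) (by omega) (by omega)]
      omega
    · have eZ : Z = (Z - b - 1) + b + 1 := by omega
      have eZ' : Z + 1 = (Z - b - 1 + 1) + b + 1 := by omega
      rw [Fw_pt_pos w eY eZ hr, Fw_pt_pos w eY eZ' hr']
      have hs' : hst I i Y (Z + 1) ≤ s := (hst_anti_z hI i Y Z).trans hs
      rw [mem_region_alpha'_iff hI hc eY eZ' hs'] at hr'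
      symm
      apply hw.2.2.1
      unfold EN1
      rw [gg_eq i a b (y := Y - a - 1 + 1) (z := Z - b - 1 + 1) (Y := Y) (Z := Z) (by omega)
        (by omega)]
      omega

lemma good_Fw (hI : IsMonomial I) [Module.Finite k (MvPolynomial (Fin 3) k ⧸ I)] (hc : 1 ≤ c)
    {w : Fn k} (hw : w ∈ Xb (hst I i) (gg I i a b) c k) :
    Good I (alpha' i a b c) (Fw I i a b c w) := by
  constructor
  · rintro γ γ' ⟨⟨β, hβ, rfl⟩, hn⟩ ⟨⟨β', hβ', rfl⟩, hn'⟩ hadj
    have hr : pt (alpha' i a b c) β ∈ region I (alpha' i a b c) := ⟨⟨β, hβ, rfl⟩, hn⟩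
    have hr' : pt (alpha' i a b c) β' ∈ region I (alpha' i a b c) := ⟨⟨β', hβ', rfl⟩, hn'⟩
    obtain ⟨m, hm | hm⟩ := adj_pt_cases (alpha' i a b c) hadj
    · subst hm
      exact Fw_step hI hc hw hβ hr m hr'
    · subst hm
      exact (Fw_step hI hc hw hβ' hr' m hr).symm
  · rintro γ ⟨⟨β, hβ, rfl⟩, hn⟩ hneg
    show Fw I i a b c w (pt (alpha' i a b c) β) = 0
    obtain ⟨s, Y, Z, rfl⟩ : ∃ s Y Z, β = nvec i s Y Z := ⟨_, _, _, eq_nvec i β⟩
    obtain ⟨m, hm⟩ := hneg
    have hm' : pt (alpha' i a b c) (nvec i s Y Z) m < 0 := hm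
    clear hm
    revert hm'
    revert m
    rw [forall_fin3 i]
    refine ⟨?_, ?_, ?_⟩
    · intro hm
      rw [pt_alpha'_same, nvec_same] at hm
      omega
    · intro hm
      rw [pt_alpha'_zero, nvec_zero] at hm
      exact Fw_pt_left w (by omega)
    · intro hm
      rw [pt_alpha'_one, nvec_one] at hm
      exact Fw_pt_down w (by omega)

end goodW


section alphaMap'

variable {i : Fin 3} {a b c : ℕ}

lemma Fw_add (u v : Fn k) (γ : Fin 3 → ℤ) :
    Fw I i a b c (u + v) γ = Fw I i a b c u γ + Fw I i a b c v γ := by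
  unfold Fw
  split_ifs
  · rfl
  · rw [add_zero]

lemma Fw_smul (r : k) (u : Fn k) (γ : Fin 3 → ℤ) :
    Fw I i a b c (r • u) γ = r * Fw I i a b c u γ := by
  unfold Fw
  split_ifs
  · rfl
  · rw [mul_zero]

variable (i a b c) in
/-- the linear map from the second planar model to the tangent space -/
noncomputable def PhiB (hI : IsMonomial I) [Module.Finite k (MvPolynomial (Fin 3) k ⧸ I)]
    (hc : 1 ≤ c) : ↥(Xb (hst I i) (gg I i a b) c k) →ₗ[k] Tgt I where
  toFun u := mkTgt hI (Fw I i a b c u.1) (good_Fw hI hc u.2)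
  map_add' u v := by
    apply ext_monomial hI
    intro β hβ
    rw [LinearMap.add_apply, mkTgt_apply, mkTgt_apply, mkTgt_apply]
    unfold gF
    rw [← add_smul]
    congr 1
    exact Fw_add u.1 v.1 _
  map_smul' r u := by
    apply ext_monomial hI
    intro β hβ
    rw [LinearMap.smul_apply, RingHom.id_apply, mkTgt_apply, mkTgt_apply]
    unfold gF
    rw [smul_smul]
    congr 1
    exact Fw_smul r u.1 _

lemma PhiB_apply (hI : IsMonomial I) [Module.Finite k (MvPolynomial (Fin 3) k ⧸ I)] (hc : 1 ≤ c)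
    (u : ↥(Xb (hst I i) (gg I i a b) c k)) (β : Fin 3 →₀ ℕ) (hβ : monomial β (1:k) ∈ I) :
    PhiB i a b c hI hc u ⟨monomial β 1, hβ⟩ =
      Fw I i a b c u.1 (pt (alpha' i a b c) β) •
        Ideal.Quotient.mk I (monomial (shift β (alpha' i a b c)) (1 : k)) :=
  mkTgt_apply hI _ (good_Fw hI hc u.2) β hβ

lemma PhiB_mem (hI : IsMonomial I) [Module.Finite k (MvPolynomial (Fin 3) k ⧸ I)] (hc : 1 ≤ c)
    (u : ↥(Xb (hst I i) (gg I i a b) c k)) :
    PhiB i a b c hI hc u ∈ tPiece I (alpha' i a b c) :=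
  mkTgt_mem hI _ (good_Fw hI hc u.2)

lemma PhiB_injective (hI : IsMonomial I) [Module.Finite k (MvPolynomial (Fin 3) k ⧸ I)]
    (hc : 1 ≤ c) : Function.Injective (PhiB (k := k) (I := I) i a b c hI hc) := by
  rw [injective_iff_map_eq_zero]
  intro u hu
  apply Subtype.ext
  funext y z
  show u.1 y z = 0
  by_cases hv : SN (hst I i) (gg I i a b) c y z
  swap
  · exact u.2.1 y z hv
  unfold SN at hv
  rw [gg_eq i a b (y := y + 1) (z := z + 1) (Y := y + a + 1) (Z := z + b + 1) (by omega)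
    (by omega)] at hv
  have hmem : nvec i (hst I i (y + a + 1) (z + b + 1)) (y + a + 1) (z + b + 1) ∈ exps I :=
    (mem_exps_nvec_iff hI i _ _ _).mpr le_rfl
  have hr : pt (alpha' i a b c) (nvec i (hst I i (y + a + 1) (z + b + 1)) (y + a + 1) (z + b + 1)) ∈
      region I (alpha' i a b c) := by
    rw [mem_region_alpha'_iff hI hc rfl rfl le_rfl]
    exact hv
  have h1 := PhiB_apply hI hc u _ hmem
  rw [hu, LinearMap.zero_apply, Fw_pt_pos _ rfl rfl hr] at h1
  have hne : Ideal.Quotient.mk I (monomial (shift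
      (nvec i (hst I i (y + a + 1) (z + b + 1)) (y + a + 1) (z + b + 1)) (alpha' i a b c)) (1:k)) ≠ 0 := by
    intro h0
    have h2 := (mem_region_pt hmem).mp hr
    apply h2
    refine ⟨(nonneg_alpha'_iff i a b c hc _ _ _).mpr ⟨by omega, by omega⟩,
      mk_monomial_eq_zero.mp h0⟩
  rcases smul_eq_zero.mp h1.symm with h3 | h3
  · exact h3
  · exact absurd h3 hne

end alphaMap'


section surj'

variable {i : Fin 3} {a b c : ℕ}

lemma PhiB_surjective (hI : IsMonomial I) [Module.Finite k (MvPolynomial (Fin 3) k ⧸ I)]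
    (hc : 1 ≤ c) {φ : Tgt I} (hφ : φ ∈ tPiece I (alpha' i a b c)) :
    ∃ w : ↥(Xb (hst I i) (gg I i a b) c k), PhiB i a b c hI hc w = φ := by
  classical
  obtain ⟨F, hF, hFe⟩ := exists_good_of_mem hφ
  have hcol : ∀ s s' Y Z, hst I i Y Z ≤ s → s ≤ s' →
      pt (alpha' i a b c) (nvec i s' Y Z) ∈ region I (alpha' i a b c) →
      F (pt (alpha' i a b c) (nvec i s Y Z)) = F (pt (alpha' i a b c) (nvec i s' Y Z)) := by
    intro s s' Y Z hs hss hr
    have e : nvec i s' Y Z = nvec i s Y Z + Finsupp.single i (s' - s) := by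
      rw [nvec_add_single_same, Nat.add_sub_cancel' hss]
    rw [e] at hr ⊢
    exact path hF _ _ ((mem_exps_nvec_iff hI i s Y Z).mpr hs) hr
  set w : Fn k := fun y z =>
    if SN (hst I i) (gg I i a b) c y z then
      F (pt (alpha' i a b c) (nvec i (hst I i (y + a + 1) (z + b + 1)) (y + a + 1) (z + b + 1)))
    else 0 with hw
  have hw_pos : ∀ y z, SN (hst I i) (gg I i a b) c y z → w y z =
      F (pt (alpha' i a b c) (nvec i (hst I i (y + a + 1) (z + b + 1)) (y + a + 1) (z + b + 1))) := by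
    intro y z hv
    show (if SN (hst I i) (gg I i a b) c y z then
      F (pt (alpha' i a b c) (nvec i (hst I i (y + a + 1) (z + b + 1)) (y + a + 1) (z + b + 1)))
      else 0) = _
    rw [if_pos hv]
  have hw_neg : ∀ y z, ¬ SN (hst I i) (gg I i a b) c y z → w y z = 0 := by
    intro y z hv
    show (if SN (hst I i) (gg I i a b) c y z then
      F (pt (alpha' i a b c) (nvec i (hst I i (y + a + 1) (z + b + 1)) (y + a + 1) (z + b + 1)))
      else 0) = _
    rw [if_neg hv]
  have hSN : ∀ y z, SN (hst I i) (gg I i a b) c y z ↔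
      hst I i (y + a + 1) (z + b + 1) + c ≤ hst I i y z := by
    intro y z
    unfold SN
    rw [gg_eq i a b (y := y + 1) (z := z + 1) (Y := y + a + 1) (Z := z + b + 1) (by omega)
      (by omega)]
  have hwX : w ∈ Xb (hst I i) (gg I i a b) c k := by
    refine ⟨hw_neg, fun y z hh => ?_, fun y z hh => ?_, fun z hh => ?_, fun y hh => ?_⟩
    · -- EN2 (y+1) z
      unfold EN2 at hh
      rw [gg_eq i a b (y := y + 1) (z := z + 1) (Y := y + a + 1) (Z := z + b + 1) (by omega)
        (by omega)] at hh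
      have hanti := hst_anti_y hI i y z
      have hanti2 := hst_anti_y hI i (y + a + 1) (z + b + 1)
      have h1 : SN (hst I i) (gg I i a b) c y z := by
        rw [hSN]; omega
      have h2 : SN (hst I i) (gg I i a b) c (y + 1) z := by
        rw [hSN]
        have e : y + 1 + a + 1 = y + a + 1 + 1 := by omega
        rw [e]
        omega
      rw [hw_pos _ _ h1, hw_pos _ _ h2]
      have e : y + 1 + a + 1 = y + a + 1 + 1 := by omega
      rw [e]
      have hrQ : pt (alpha' i a b c) (nvec i (hst I i (y + a + 1) (z + b + 1)) (y + a + 1 + 1)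
          (z + b + 1)) ∈ region I (alpha' i a b c) := by
        rw [mem_region_alpha'_iff hI hc (y := y + 1) (z := z) (by omega) rfl hanti2]
        exact hh
      have hrP : pt (alpha' i a b c) (nvec i (hst I i (y + a + 1) (z + b + 1)) (y + a + 1)
          (z + b + 1)) ∈ region I (alpha' i a b c) := by
        rw [mem_region_alpha'_iff hI hc rfl rfl le_rfl]
        exact (hSN y z).mp h1
      rw [hcol _ _ _ _ le_rfl hanti2 hrQ]
      have hrQ' := hrQ
      rw [← nvec_add_single_zero] at hrQ' ⊢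
      exact (hF.adj _ _ hrP hrQ' (adj_step _ _ _)).symm
    · -- EN1 y (z+1)
      unfold EN1 at hh
      rw [gg_eq i a b (y := y + 1) (z := z + 1) (Y := y + a + 1) (Z := z + b + 1) (by omega)
        (by omega)] at hh
      have hanti := hst_anti_z hI i y z
      have hanti2 := hst_anti_z hI i (y + a + 1) (z + b + 1)
      have h1 : SN (hst I i) (gg I i a b) c y z := by
        rw [hSN]; omega
      have h2 : SN (hst I i) (gg I i a b) c y (z + 1) := by
        rw [hSN]
        have e : z + 1 + b + 1 = z + b + 1 + 1 := by omega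
        rw [e]
        omega
      rw [hw_pos _ _ h1, hw_pos _ _ h2]
      have e : z + 1 + b + 1 = z + b + 1 + 1 := by omega
      rw [e]
      have hrQ : pt (alpha' i a b c) (nvec i (hst I i (y + a + 1) (z + b + 1)) (y + a + 1)
          (z + b + 1 + 1)) ∈ region I (alpha' i a b c) := by
        rw [mem_region_alpha'_iff hI hc (y := y) (z := z + 1) rfl (by omega) hanti2]
        exact hh
      have hrP : pt (alpha' i a b c) (nvec i (hst I i (y + a + 1) (z + b + 1)) (y + a + 1)
          (z + b + 1)) ∈ region I (alpha' i a b c) := by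
        rw [mem_region_alpha'_iff hI hc rfl rfl le_rfl]
        exact (hSN y z).mp h1
      rw [hcol _ _ _ _ le_rfl hanti2 hrQ]
      have hrQ' := hrQ
      rw [← nvec_add_single_one] at hrQ' ⊢
      exact (hF.adj _ _ hrP hrQ' (adj_step _ _ _)).symm
    · -- EN2 0 z
      unfold EN2 at hh
      rw [gg_eq i a b (y := 0) (z := z + 1) (Y := a) (Z := z + b + 1) (by omega) (by omega)] at hh
      have hanti2 := hst_anti_y hI i a (z + b + 1)
      have h1 : SN (hst I i) (gg I i a b) c 0 z := by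
        rw [hSN]
        have e : 0 + a + 1 = a + 1 := by omega
        rw [e]
        omega
      rw [hw_pos _ _ h1]
      have e : 0 + a + 1 = a + 1 := by omega
      rw [e]
      have hrR : pt (alpha' i a b c) (nvec i (hst I i a (z + b + 1)) a (z + b + 1)) ∈
          region I (alpha' i a b c) :=
        mem_region_alpha'_of_lt hI hc (Or.inl (by omega)) le_rfl
      have hrR' : pt (alpha' i a b c) (nvec i (hst I i a (z + b + 1)) (a + 1) (z + b + 1)) ∈
          region I (alpha' i a b c) := by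
        rw [mem_region_alpha'_iff hI hc (y := 0) (z := z) (by omega) rfl hanti2]
        exact hh
      rw [hcol _ _ _ _ le_rfl hanti2 hrR']
      have hrR'' := hrR'
      rw [← nvec_add_single_zero] at hrR'' ⊢
      rw [← hF.adj _ _ hrR hrR'' (adj_step _ _ _)]
      apply hF.neg _ hrR
      refine ⟨i.succAbove 0, ?_⟩
      rw [pt_alpha'_zero, nvec_zero]
      omega
    · -- EN1 y 0
      unfold EN1 at hh
      rw [gg_eq i a b (y := y + 1) (z := 0) (Y := y + a + 1) (Z := b) (by omega) (by omega)] at hh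
      have hanti2 := hst_anti_z hI i (y + a + 1) b
      have h1 : SN (hst I i) (gg I i a b) c y 0 := by
        rw [hSN]
        have e : 0 + b + 1 = b + 1 := by omega
        rw [e]
        omega
      rw [hw_pos _ _ h1]
      have e : 0 + b + 1 = b + 1 := by omega
      rw [e]
      have hrR : pt (alpha' i a b c) (nvec i (hst I i (y + a + 1) b) (y + a + 1) b) ∈
          region I (alpha' i a b c) :=
        mem_region_alpha'_of_lt hI hc (Or.inr (by omega)) le_rfl
      have hrR' : pt (alpha' i a b c) (nvec i (hst I i (y + a + 1) b) (y + a + 1) (b + 1)) ∈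
          region I (alpha' i a b c) := by
        rw [mem_region_alpha'_iff hI hc (y := y) (z := 0) rfl (by omega) hanti2]
        exact hh
      rw [hcol _ _ _ _ le_rfl hanti2 hrR']
      have hrR'' := hrR'
      rw [← nvec_add_single_one] at hrR'' ⊢
      rw [← hF.adj _ _ hrR hrR'' (adj_step _ _ _)]
      apply hF.neg _ hrR
      refine ⟨i.succAbove 1, ?_⟩
      rw [pt_alpha'_one, nvec_one]
      omega
  refine ⟨⟨w, hwX⟩, ?_⟩
  apply ext_monomial hI
  intro β hβ
  rw [PhiB_apply, hFe]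
  unfold gF
  by_cases hr : pt (alpha' i a b c) β ∈ region I (alpha' i a b c)
  · congr 1
    obtain ⟨s, Y, Z, rfl⟩ : ∃ s Y Z, β = nvec i s Y Z := ⟨_, _, _, eq_nvec i β⟩
    have hs : hst I i Y Z ≤ s := (mem_exps_nvec_iff hI i s Y Z).mp hβ
    show Fw I i a b c w (pt (alpha' i a b c) (nvec i s Y Z)) = _
    by_cases hY : Y < a + 1
    · rw [Fw_pt_left w hY]
      symm
      apply hF.neg _ hr
      refine ⟨i.succAbove 0, ?_⟩
      rw [pt_alpha'_zero, nvec_zero]
      omega
    by_cases hZ : Z < b + 1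
    · rw [Fw_pt_down w hZ]
      symm
      apply hF.neg _ hr
      refine ⟨i.succAbove 1, ?_⟩
      rw [pt_alpha'_one, nvec_one]
      omega
    obtain ⟨y, rfl⟩ : ∃ y, Y = y + a + 1 := ⟨Y - a - 1, by omega⟩
    obtain ⟨z, rfl⟩ : ∃ z, Z = z + b + 1 := ⟨Z - b - 1, by omega⟩
    rw [Fw_pt_pos w rfl rfl hr]
    have hr2 := hr
    rw [mem_region_alpha'_iff hI hc rfl rfl hs] at hr2
    have hv : SN (hst I i) (gg I i a b) c y z := by
      rw [hSN]; omega
    rw [hw_pos y z hv]
    exact hcol _ _ _ _ le_rfl hs hr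
  · rw [mem_region_pt hβ, not_not] at hr
    rw [mk_monomial_eq_zero.mpr hr.2, smul_zero, smul_zero]

/-- the graded piece of degree `(-a-1, -b-1, c-1)` has the dimension of the second planar model -/
theorem finrank_tPiece_alpha' (hI : IsMonomial I) [Module.Finite k (MvPolynomial (Fin 3) k ⧸ I)]
    (hc : 1 ≤ c) :
    Module.finrank k ↥(tPiece I (alpha' i a b c)) =
      Module.finrank k ↥(Xb (hst I i) (gg I i a b) c k) := by
  have e : ↥(Xb (hst I i) (gg I i a b) c k) ≃ₗ[k] ↥(tPiece I (alpha' i a b c)) :=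
    LinearEquiv.ofBijective
      ((PhiB i a b c hI hc).codRestrict (tPiece I (alpha' i a b c)) (PhiB_mem hI hc))
      ⟨fun u v huv => PhiB_injective hI hc (congrArg Subtype.val huv),
       fun φ => by
        obtain ⟨u, hu⟩ := PhiB_surjective hI hc φ.2
        exact ⟨u, Subtype.ext hu⟩⟩
  exact e.finrank_eq.symm

end surj'

end Groth.Agent.Lib.Seat60.TgtXY
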