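import Mathlib
import Groth.Prelude.Def_W4c1hilbpnTgt
import Groth.Agent.Lib.Seat60TgtXY2
import Groth.Agent.Lib.Seat60TgtSum

/-! Seat60: for a monomial ideal of finite colength in three variables, the span of the graded pieces of
`T(I)` with two fixed nonnegative entries `(a, b)` has dimension the staircase number at `(a, b)` plus
the dimension of the span of the pieces with the two entries `(-a-1, -b-1)`. -/

set_option autoImplicit false
set_option linter.style.haveILetI false
set_option linter.unusedSectionVars false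
set_option linter.unusedVariables false

namespace Groth.Agent.Lib.Seat60.TgtXY

open W4c1hilbpn MvPolynomial
open Groth.Agent.Lib.Helper24TgtPiece
open Groth.Agent.Lib.Seat60.TgtBasic
open Groth.Agent.Lib.Seat60.TgtIndep
open Groth.Agent.Lib.Seat60.TgtSum
open Groth.Agent.Lib.Seat60.TgtPow3
open Groth.Agent.Lib.Seat60.Stair
open Groth.Agent.Lib.Seat60.Dual2D

variable {k : Type*} [Field k] {I : Ideal (MvPolynomial (Fin 3) k)}

lemma hyp_hst (hI : IsMonomial I) [Module.Finite k (MvPolynomial (Fin 3) k ⧸ I)] (i : Fin 3)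
    (a b : ℕ) : Hyp (hst I i) (gg I i a b) where
  hx := hst_anti_y hI i
  hy := hst_anti_z hI i
  gx := by
    intro y z
    unfold gg
    rw [add_right_comm]
    exact hst_anti_y hI i (y + a) (z + b)
  gy := by
    intro y z
    unfold gg
    rw [add_right_comm]
    exact hst_anti_z hI i (y + a) (z + b)
  bdd := hst_bdd hI i

lemma hst_le_zero (hI : IsMonomial I) [Module.Finite k (MvPolynomial (Fin 3) k ⧸ I)] (i : Fin 3)
    (y z : ℕ) : hst I i y z ≤ hst I i 0 0 := by
  have := hst_le_add hI i 0 0 y z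
  rwa [zero_add, zero_add] at this

lemma alpha_injective (i : Fin 3) (a b : ℕ) : Function.Injective (alpha i a b) := by
  intro c c' h
  have := (vec3_inj i h).1
  omega

lemma alpha'_injective (i : Fin 3) (a b : ℕ) : Function.Injective (alpha' i a b) := by
  intro c c' h
  have := (vec3_inj i h).1
  omega

lemma tPiece_alpha_eq_bot (hI : IsMonomial I) [Module.Finite k (MvPolynomial (Fin 3) k ⧸ I)]
    (i : Fin 3) (a b c : ℕ) (hc : hst I i 0 0 < c) : tPiece I (alpha i a b c) = ⊥ := by
  haveI := finite_Tgt I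
  rw [← Submodule.finrank_eq_zero, finrank_tPiece_alpha hI,
    Xa_eq_bot_of_lt (fun y z => lt_of_le_of_lt (hst_le_zero hI i y z) hc), finrank_bot]

lemma tPiece_alpha'_eq_bot (hI : IsMonomial I) [Module.Finite k (MvPolynomial (Fin 3) k ⧸ I)]
    (i : Fin 3) (a b c : ℕ) (hc1 : 1 ≤ c) (hc : hst I i 0 0 < c) :
    tPiece I (alpha' i a b c) = ⊥ := by
  haveI := finite_Tgt I
  rw [← Submodule.finrank_eq_zero, finrank_tPiece_alpha' hI hc1,
    Xb_eq_bot_of_lt (fun y z => lt_of_le_of_lt (hst_le_zero hI i y z) hc), finrank_bot]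

/-- the span of the pieces of multidegree `(a, b, *)` -/
theorem finrank_iSup_alpha (hI : IsMonomial I) [Module.Finite k (MvPolynomial (Fin 3) k ⧸ I)]
    (i : Fin 3) (a b : ℕ) :
    Module.finrank k ↥(⨆ α : {α : Fin 3 → ℤ // α (i.succAbove 0) = (a : ℤ) ∧
        α (i.succAbove 1) = (b : ℤ)}, tPiece I α.1) =
      ∑ c ∈ Finset.Icc 1 (hst I i 0 0), Module.finrank k ↥(tPiece I (alpha i a b c)) := by
  classical
  rw [finrank_iSup_subtype_tPiece hI _ ((Finset.Icc 1 (hst I i 0 0)).image (alpha i a b)),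
    Finset.sum_image (fun c _ c' _ h => alpha_injective i a b h)]
  · intro α hα
    obtain ⟨c, _, rfl⟩ := Finset.mem_image.mp hα
    exact ⟨vec3_zero i _ _ _, vec3_one i _ _ _⟩
  · intro α hα hns
    by_cases hneg : 0 ≤ α i
    · apply tPiece_eq_bot_of_nonneg hI
      rw [forall_fin3 i]
      refine ⟨hneg, ?_, ?_⟩
      · rw [hα.1]; positivity
      · rw [hα.2]; positivity
    · have e : α = alpha i a b (-α i).toNat := by
        rw [eq_vec3 i α, hα.1, hα.2]
        unfold alpha
        rw [vec3_same]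
        congr 1
        omega
      rw [e]
      apply tPiece_alpha_eq_bot hI
      by_contra hcon
      apply hns
      rw [Finset.mem_image]
      refine ⟨(-α i).toNat, ?_, e.symm⟩
      rw [Finset.mem_Icc]
      omega

/-- the span of the pieces of multidegree `(-a-1, -b-1, *)` -/
theorem finrank_iSup_alpha' (hI : IsMonomial I) [Module.Finite k (MvPolynomial (Fin 3) k ⧸ I)]
    (i : Fin 3) (a b : ℕ) :
    Module.finrank k ↥(⨆ α : {α : Fin 3 → ℤ // α (i.succAbove 0) = -(a : ℤ) - 1 ∧
        α (i.succAbove 1) = -(b : ℤ) - 1}, tPiece I α.1) =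
      ∑ c ∈ Finset.Icc 1 (hst I i 0 0), Module.finrank k ↥(tPiece I (alpha' i a b c)) := by
  classical
  rw [finrank_iSup_subtype_tPiece hI _ ((Finset.Icc 1 (hst I i 0 0)).image (alpha' i a b)),
    Finset.sum_image (fun c _ c' _ h => alpha'_injective i a b h)]
  · intro α hα
    obtain ⟨c, _, rfl⟩ := Finset.mem_image.mp hα
    exact ⟨vec3_zero i _ _ _, vec3_one i _ _ _⟩
  · intro α hα hns
    by_cases hneg : α i < 0
    · apply tPiece_eq_bot_of_neg hI
      rw [forall_fin3 i]
      refine ⟨hneg, ?_, ?_⟩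
      · rw [hα.1]; omega
      · rw [hα.2]; omega
    · have e : α = alpha' i a b ((α i).toNat + 1) := by
        rw [eq_vec3 i α, hα.1, hα.2]
        unfold alpha'
        rw [vec3_same]
        congr 1
        push_cast
        omega
      rw [e]
      apply tPiece_alpha'_eq_bot hI _ _ _ _ (by omega)
      by_contra hcon
      apply hns
      rw [Finset.mem_image]
      refine ⟨(α i).toNat + 1, ?_, e.symm⟩
      rw [Finset.mem_Icc]
      omega

/-- **Duality for the pieces with two fixed nonnegative entries.** -/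
theorem finrank_iSup_fix_eq (hI : IsMonomial I) [Module.Finite k (MvPolynomial (Fin 3) k ⧸ I)]
    (i : Fin 3) (a b : ℕ) :
    Module.finrank k ↥(⨆ α : {α : Fin 3 → ℤ // α (i.succAbove 0) = (a : ℤ) ∧
        α (i.succAbove 1) = (b : ℤ)}, tPiece I α.1) =
      hst I i a b +
      Module.finrank k ↥(⨆ α : {α : Fin 3 → ℤ // α (i.succAbove 0) = -(a : ℤ) - 1 ∧
        α (i.succAbove 1) = -(b : ℤ) - 1}, tPiece I α.1) := by
  rw [finrank_iSup_alpha hI, finrank_iSup_alpha' hI]
  have h1 : ∀ c ∈ Finset.Icc 1 (hst I i 0 0), Module.finrank k ↥(tPiece I (alpha i a b c)) =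
      Module.finrank k ↥(Xa (hst I i) (gg I i a b) c k) := fun c _ => finrank_tPiece_alpha hI
  have h2 : ∀ c ∈ Finset.Icc 1 (hst I i 0 0), Module.finrank k ↥(tPiece I (alpha' i a b c)) =
      Module.finrank k ↥(Xb (hst I i) (gg I i a b) c k) :=
    fun c hc => finrank_tPiece_alpha' hI (Finset.mem_Icc.mp hc).1
  rw [Finset.sum_congr rfl h1, Finset.sum_congr rfl h2,
    sum_finrank_Xa (hyp_hst hI i a b) (fun y z => hst_le_add hI i y z a b) _ (hst_le_zero hI i)]
  congr 1
  unfold gg
  rw [zero_add, zero_add]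

end Groth.Agent.Lib.Seat60.TgtXY
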