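import Mathlib
import Groth.Prelude.Def_W4c1hilbpnTgt
import Groth.Agent.Lib.Seat60TgtXY3

/-! Seat60: for a monomial ideal of finite colength in three variables, the sign piece of `T(I)`
negative exactly at one index has dimension the colength plus the dimension of the sign piece negative
exactly at the other two indices. -/

set_option autoImplicit false
set_option linter.style.haveILetI false
set_option linter.unusedSectionVars false
set_option linter.unusedVariables false

namespace Groth.Agent.Lib.Seat60.Dual2D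

variable {k : Type*} [Field k] {h g : ℕ → ℕ → ℕ} {c : ℕ}

lemma Xa_eq_bot_of_g_zero (hg : ∀ x y, g x y = 0) : Xa h g c k = ⊥ := by
  rw [eq_bot_iff]
  intro u hu
  rw [Submodule.mem_bot]
  funext x y
  by_cases hh : h x y < c
  · exact hu.1 x y hh
  · apply hu.2.1 x y
    unfold VN
    rw [hg]
    omega

lemma Xb_eq_bot_of_g_zero (hg : ∀ x y, g x y = 0) : Xb h g c k = ⊥ := by
  rw [eq_bot_iff]
  intro w hw
  rw [Submodule.mem_bot]
  funext x y
  show w x y = 0
  induction x with
  | zero =>
    by_cases hs : SN h g c 0 y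
    · apply hw.2.2.2.1 y
      unfold EN2
      unfold SN at hs
      rw [hg] at hs ⊢
      exact hs
    · exact hw.1 0 y hs
  | succ x ih =>
    by_cases hs : SN h g c (x + 1) y
    · rw [hw.2.1 x y ?_, ih]
      unfold EN2
      unfold SN at hs
      rw [hg] at hs ⊢
      exact hs
    · exact hw.1 _ y hs

end Groth.Agent.Lib.Seat60.Dual2D

namespace Groth.Agent.Lib.Seat60.TgtXY

open W4c1hilbpn MvPolynomial
open Groth.Agent.Lib.Helper24TgtPiece
open Groth.Agent.Lib.Seat60.TgtBasic
open Groth.Agent.Lib.Seat60.TgtIndep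
open Groth.Agent.Lib.Seat60.TgtSum
open Groth.Agent.Lib.Seat60.TgtPow3
open Groth.Agent.Lib.Seat60.Stair
open Groth.Agent.Lib.Seat60.Dual2D

variable {k : Type*} [Field k] {I : Ideal (MvPolynomial (Fin 3) k)}

lemma gg_zero_of_ge {i : Fin 3} {M : ℕ} (hM : ∀ y z, M ≤ y ∨ M ≤ z → hst I i y z = 0)
    {a b : ℕ} (hab : M ≤ a ∨ M ≤ b) (y z : ℕ) : gg I i a b y z = 0 := by
  unfold gg
  apply hM
  omega

lemma tPiece_alpha_eq_bot_of_ge (hI : IsMonomial I) [Module.Finite k (MvPolynomial (Fin 3) k ⧸ I)]
    {i : Fin 3} {M : ℕ} (hM : ∀ y z, M ≤ y ∨ M ≤ z → hst I i y z = 0)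
    {a b : ℕ} (hab : M ≤ a ∨ M ≤ b) (c : ℕ) : tPiece I (alpha i a b c) = ⊥ := by
  haveI := finite_Tgt I
  rw [← Submodule.finrank_eq_zero, finrank_tPiece_alpha hI,
    Xa_eq_bot_of_g_zero (gg_zero_of_ge hM hab), finrank_bot]

lemma tPiece_alpha'_eq_bot_of_ge (hI : IsMonomial I) [Module.Finite k (MvPolynomial (Fin 3) k ⧸ I)]
    {i : Fin 3} {M : ℕ} (hM : ∀ y z, M ≤ y ∨ M ≤ z → hst I i y z = 0)
    {a b : ℕ} (hab : M ≤ a ∨ M ≤ b) (c : ℕ) (hc : 1 ≤ c) : tPiece I (alpha' i a b c) = ⊥ := by
  haveI := finite_Tgt I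
  rw [← Submodule.finrank_eq_zero, finrank_tPiece_alpha' hI hc,
    Xb_eq_bot_of_g_zero (gg_zero_of_ge hM hab), finrank_bot]

/-- the sign piece negative exactly at `i`, as a sum over the two nonnegative entries -/
theorem finrank_sigPiece_single_eq_sum (hI : IsMonomial I)
    [Module.Finite k (MvPolynomial (Fin 3) k ⧸ I)] (i : Fin 3) (M : ℕ)
    (hM : ∀ y z, M ≤ y ∨ M ≤ z → hst I i y z = 0) :
    Module.finrank k ↥(sigPiece I ({i} : Set (Fin 3))) =
      ∑ p ∈ Finset.range M ×ˢ Finset.range M,
        Module.finrank k ↥(⨆ α : {α : Fin 3 → ℤ // α (i.succAbove 0) = (p.1 : ℤ) ∧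
          α (i.succAbove 1) = (p.2 : ℤ)}, tPiece I α.1) := by
  classical
  have hinj : ∀ q ∈ (Finset.range M ×ˢ Finset.range M) ×ˢ Finset.Icc 1 (hst I i 0 0),
      ∀ q' ∈ (Finset.range M ×ˢ Finset.range M) ×ˢ Finset.Icc 1 (hst I i 0 0),
      alpha i q.1.1 q.1.2 q.2 = alpha i q'.1.1 q'.1.2 q'.2 → q = q' := by
    intro q _ q' _ h
    obtain ⟨h1, h2, h3⟩ := vec3_inj i h
    apply Prod.ext
    · apply Prod.ext <;> omega
    · omega
  rw [finrank_sigPiece_eq_sum_of hI {i}
    (((Finset.range M ×ˢ Finset.range M) ×ˢ Finset.Icc 1 (hst I i 0 0)).image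
      (fun q => alpha i q.1.1 q.1.2 q.2)), Finset.sum_image hinj, Finset.sum_product]
  · apply Finset.sum_congr rfl
    intro p _
    rw [finrank_iSup_alpha hI]
  · intro α hα
    obtain ⟨q, hq, rfl⟩ := Finset.mem_image.mp hα
    rw [Finset.mem_product, Finset.mem_Icc] at hq
    rw [forall_fin3 i]
    simp only [Set.mem_singleton_iff]
    refine ⟨?_, ?_, ?_⟩
    · unfold alpha
      rw [vec3_same]
      constructor
      · intro _; trivial
      · intro _; omega
    · unfold alpha
      rw [vec3_zero]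
      constructor
      · intro h; omega
      · intro h; exact absurd h (succAbove_zero_ne i)
    · unfold alpha
      rw [vec3_one]
      constructor
      · intro h; omega
      · intro h; exact absurd h (succAbove_one_ne i)
  · intro α hα hns
    have h0 : α i < 0 := (hα i).mpr rfl
    have h1 : 0 ≤ α (i.succAbove 0) := by
      by_contra hcon
      exact succAbove_zero_ne i ((hα _).mp (not_le.mp hcon))
    have h2 : 0 ≤ α (i.succAbove 1) := by
      by_contra hcon
      exact succAbove_one_ne i ((hα _).mp (not_le.mp hcon))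
    have e : α = alpha i (α (i.succAbove 0)).toNat (α (i.succAbove 1)).toNat (-α i).toNat := by
      conv_lhs => rw [eq_vec3 i α]
      unfold alpha
      congr 1 <;> omega
    rw [e]
    by_cases hc : hst I i 0 0 < (-α i).toNat
    · exact tPiece_alpha_eq_bot hI i _ _ _ hc
    by_cases hab : M ≤ (α (i.succAbove 0)).toNat ∨ M ≤ (α (i.succAbove 1)).toNat
    · exact tPiece_alpha_eq_bot_of_ge hI hM hab _
    exfalso
    apply hns
    rw [Finset.mem_image]
    refine ⟨(((α (i.succAbove 0)).toNat, (α (i.succAbove 1)).toNat), (-α i).toNat), ?_, e.symm⟩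
    rw [Finset.mem_product, Finset.mem_product, Finset.mem_range, Finset.mem_range, Finset.mem_Icc]
    simp only
    omega


/-- the sign piece negative exactly off `i`, as a sum over the two negative entries -/
theorem finrank_sigPiece_compl_eq_sum (hI : IsMonomial I)
    [Module.Finite k (MvPolynomial (Fin 3) k ⧸ I)] (i : Fin 3) (M : ℕ)
    (hM : ∀ y z, M ≤ y ∨ M ≤ z → hst I i y z = 0) :
    Module.finrank k ↥(sigPiece I ({i}ᶜ : Set (Fin 3))) =
      ∑ p ∈ Finset.range M ×ˢ Finset.range M,
        Module.finrank k ↥(⨆ α : {α : Fin 3 → ℤ // α (i.succAbove 0) = -(p.1 : ℤ) - 1 ∧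
          α (i.succAbove 1) = -(p.2 : ℤ) - 1}, tPiece I α.1) := by
  classical
  have hinj : ∀ q ∈ (Finset.range M ×ˢ Finset.range M) ×ˢ Finset.Icc 1 (hst I i 0 0),
      ∀ q' ∈ (Finset.range M ×ˢ Finset.range M) ×ˢ Finset.Icc 1 (hst I i 0 0),
      alpha' i q.1.1 q.1.2 q.2 = alpha' i q'.1.1 q'.1.2 q'.2 → q = q' := by
    intro q _ q' _ h
    obtain ⟨h1, h2, h3⟩ := vec3_inj i h
    apply Prod.ext
    · apply Prod.ext <;> omega
    · omega
  rw [finrank_sigPiece_eq_sum_of hI ({i}ᶜ)
    (((Finset.range M ×ˢ Finset.range M) ×ˢ Finset.Icc 1 (hst I i 0 0)).image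
      (fun q => alpha' i q.1.1 q.1.2 q.2)), Finset.sum_image hinj, Finset.sum_product]
  · apply Finset.sum_congr rfl
    intro p _
    rw [finrank_iSup_alpha' hI]
  · intro α hα
    obtain ⟨q, hq, rfl⟩ := Finset.mem_image.mp hα
    rw [Finset.mem_product, Finset.mem_Icc] at hq
    rw [forall_fin3 i]
    simp only [Set.mem_compl_iff, Set.mem_singleton_iff]
    refine ⟨?_, ?_, ?_⟩
    · unfold alpha'
      rw [vec3_same]
      constructor
      · intro h; omega
      · intro h; exact absurd trivial h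
    · unfold alpha'
      rw [vec3_zero]
      constructor
      · intro _; exact succAbove_zero_ne i
      · intro _; omega
    · unfold alpha'
      rw [vec3_one]
      constructor
      · intro _; exact succAbove_one_ne i
      · intro _; omega
  · intro α hα hns
    have h0 : 0 ≤ α i := by
      by_contra hcon
      exact ((hα i).mp (not_le.mp hcon)) rfl
    have h1 : α (i.succAbove 0) < 0 := (hα _).mpr (succAbove_zero_ne i)
    have h2 : α (i.succAbove 1) < 0 := (hα _).mpr (succAbove_one_ne i)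
    have e : α = alpha' i (-α (i.succAbove 0) - 1).toNat (-α (i.succAbove 1) - 1).toNat
        ((α i).toNat + 1) := by
      conv_lhs => rw [eq_vec3 i α]
      unfold alpha'
      congr 1
      · push_cast; omega
      · omega
      · omega
    rw [e]
    by_cases hc : hst I i 0 0 < (α i).toNat + 1
    · exact tPiece_alpha'_eq_bot hI i _ _ _ (by omega) hc
    by_cases hab : M ≤ (-α (i.succAbove 0) - 1).toNat ∨ M ≤ (-α (i.succAbove 1) - 1).toNat
    · exact tPiece_alpha'_eq_bot_of_ge hI hM hab _ (by omega)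
    exfalso
    apply hns
    rw [Finset.mem_image]
    refine ⟨(((-α (i.succAbove 0) - 1).toNat, (-α (i.succAbove 1) - 1).toNat), (α i).toNat + 1),
      ?_, e.symm⟩
    rw [Finset.mem_product, Finset.mem_product, Finset.mem_range, Finset.mem_range, Finset.mem_Icc]
    simp only
    omega

/-- **The sign piece negative exactly at one index versus at the other two.** -/
theorem finrank_sigPiece_single_eq_add (hI : IsMonomial I)
    [Module.Finite k (MvPolynomial (Fin 3) k ⧸ I)] (i : Fin 3) :
    Module.finrank k ↥(sigPiece I ({i} : Set (Fin 3))) =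
      Module.finrank k ↥(sigPiece I ({i}ᶜ : Set (Fin 3))) +
        Module.finrank k (MvPolynomial (Fin 3) k ⧸ I) := by
  obtain ⟨M, hM⟩ := hst_bdd hI i
  rw [finrank_sigPiece_single_eq_sum hI i M hM, finrank_sigPiece_compl_eq_sum hI i M hM,
    finrank_quot_eq_sum hI i M hM, ← Finset.sum_add_distrib]
  apply Finset.sum_congr rfl
  intro p _
  rw [finrank_iSup_fix_eq hI i p.1 p.2, add_comm]

end Groth.Agent.Lib.Seat60.TgtXY
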