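import Mathlib
import Groth.Prelude.Def_W4c1hilbpnTgt
import Groth.Agent.Lib.Seat60TgtXY4
import Groth.Agent.Lib.Seat60Dual2DSink

/-! Seat60: the span of the graded pieces of `T(I)` of multidegree `(a, b, c)`, `c < 0`, has dimension at
most the number of corners of the shifted staircase. -/

set_option autoImplicit false
set_option linter.style.haveILetI false
set_option linter.unusedSectionVars false
set_option linter.unusedVariables false

namespace Groth.Agent.Lib.Seat60.TgtXY

open W4c1hilbpn MvPolynomial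
open Groth.Agent.Lib.Helper24TgtPiece
open Groth.Agent.Lib.Seat60.TgtBasic
open Groth.Agent.Lib.Seat60.TgtIndep
open Groth.Agent.Lib.Seat60.TgtSum
open Groth.Agent.Lib.Seat60.TgtPow3
open Groth.Agent.Lib.Seat60.Stair
open Groth.Agent.Lib.Seat60.Dual2D

variable {k : Type*} [Field k] {I : Ideal (MvPolynomial (Fin 3) k)}

/-- the span of the pieces of multidegree `(a, b, c)` with `c < 0` -/
theorem finrank_iSup_alpha_neg (hI : IsMonomial I) [Module.Finite k (MvPolynomial (Fin 3) k ⧸ I)]
    (i : Fin 3) (a b : ℕ) :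
    Module.finrank k ↥(⨆ α : {α : Fin 3 → ℤ // α (i.succAbove 0) = (a : ℤ) ∧
        α (i.succAbove 1) = (b : ℤ) ∧ α i < 0}, tPiece I α.1) =
      ∑ c ∈ Finset.Icc 1 (hst I i 0 0), Module.finrank k ↥(tPiece I (alpha i a b c)) := by
  classical
  rw [finrank_iSup_subtype_tPiece hI _ ((Finset.Icc 1 (hst I i 0 0)).image (alpha i a b)),
    Finset.sum_image (fun c _ c' _ h => alpha_injective i a b h)]
  · intro α hα
    obtain ⟨c, hc, rfl⟩ := Finset.mem_image.mp hα
    rw [Finset.mem_Icc] at hc
    refine ⟨vec3_zero i _ _ _, vec3_one i _ _ _, ?_⟩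
    unfold alpha
    rw [vec3_same]
    omega
  · intro α hα hns
    have e : α = alpha i a b (-α i).toNat := by
      rw [eq_vec3 i α, hα.1, hα.2.1]
      unfold alpha
      rw [vec3_same]
      congr 1
      have := hα.2.2
      omega
    rw [e]
    apply tPiece_alpha_eq_bot hI
    by_contra hcon
    apply hns
    rw [Finset.mem_image]
    refine ⟨(-α i).toNat, ?_, e.symm⟩
    rw [Finset.mem_Icc]
    have := hα.2.2
    omega

/-- **Bound by the corners of the shifted staircase.** -/
theorem finrank_iSup_alpha_neg_le (hI : IsMonomial I)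
    [Module.Finite k (MvPolynomial (Fin 3) k ⧸ I)] (i : Fin 3) (a b : ℕ) (M : ℕ)
    (hM : ∀ y z, M ≤ y ∨ M ≤ z → hst I i y z = 0) :
    Module.finrank k ↥(⨆ α : {α : Fin 3 → ℤ // α (i.succAbove 0) = (a : ℤ) ∧
        α (i.succAbove 1) = (b : ℤ) ∧ α i < 0}, tPiece I α.1) ≤
      ∑ p ∈ Finset.range M ×ˢ Finset.range M,
        (gg I i a b p.1 p.2 - max (gg I i a b (p.1 + 1) p.2) (gg I i a b p.1 (p.2 + 1))) := by
  rw [finrank_iSup_alpha_neg hI]
  have H := hyp_hst hI i a b
  rw [← sum_card_sink (hst I i) (gg I i a b) M (hst I i 0 0) hM (hst_le_zero hI i)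
    (fun y z => hst_le_add hI i y z a b) H.gx H.gy]
  apply Finset.sum_le_sum
  intro c hc
  rw [finrank_tPiece_alpha hI]
  exact finrank_Xa_le H (Finset.mem_Icc.mp hc).1

end Groth.Agent.Lib.Seat60.TgtXY
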