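import Mathlib
import Groth.Prelude.Def_W4c1hilbpnTgt
import Groth.Agent.Lib.Seat60TgtXY5

/-! Seat60: nonvanishing of a graded piece of `T(I)` negative at exactly two indices, from a maximal
point of the top plateau of the staircase and a dominating generator. -/

set_option autoImplicit false
set_option linter.style.haveILetI false
set_option linter.unusedSectionVars false
set_option linter.unusedVariables false

namespace Groth.Agent.Lib.Seat60.Dual2D

variable {k : Type*} [Field k] {h g : ℕ → ℕ → ℕ}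

/-- a maximal point of the top plateau gives a nonzero element of the second planar model -/
lemma Xb_ne_bot_of_corner {r x0 y0 : ℕ} (hr : 1 ≤ r) (h0 : h x0 y0 = r)
    (h1 : h (x0 + 1) y0 < r) (h2 : h x0 (y0 + 1) < r)
    (g0 : g (x0 + 1) (y0 + 1) = 0) (g1 : 1 ≤ g x0 (y0 + 1)) (g2 : 1 ≤ g (x0 + 1) y0) :
    Xb h g r k ≠ ⊥ := by
  intro hbot
  have hmem : (fun x y => if x = x0 ∧ y = y0 then (1 : k) else 0) ∈ Xb h g r k := by
    have hEN2 : ¬ EN2 h g r x0 y0 := by unfold EN2; omega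
    have hEN1 : ¬ EN1 h g r x0 y0 := by unfold EN1; omega
    refine ⟨fun x y hh => ?_, fun x y hh => ?_, fun x y hh => ?_, fun y hh => ?_, fun x hh => ?_⟩
    · show (if x = x0 ∧ y = y0 then (1 : k) else 0) = 0
      rw [if_neg]
      rintro ⟨rfl, rfl⟩
      apply hh
      unfold SN
      omega
    · show (if x + 1 = x0 ∧ y = y0 then (1 : k) else 0) = (if x = x0 ∧ y = y0 then (1 : k) else 0)
      rw [if_neg, if_neg]
      · rintro ⟨rfl, rfl⟩
        unfold EN2 at hh
        omega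
      · rintro ⟨hx, rfl⟩
        rw [hx] at hh
        exact hEN2 hh
    · show (if x = x0 ∧ y + 1 = y0 then (1 : k) else 0) = (if x = x0 ∧ y = y0 then (1 : k) else 0)
      rw [if_neg, if_neg]
      · rintro ⟨rfl, rfl⟩
        unfold EN1 at hh
        omega
      · rintro ⟨rfl, hy⟩
        rw [hy] at hh
        exact hEN1 hh
    · show (if 0 = x0 ∧ y = y0 then (1 : k) else 0) = 0
      rw [if_neg]
      rintro ⟨hx, rfl⟩
      rw [hx] at hh
      exact hEN2 hh
    · show (if x = x0 ∧ 0 = y0 then (1 : k) else 0) = 0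
      rw [if_neg]
      rintro ⟨rfl, hy⟩
      rw [hy] at hh
      exact hEN1 hh
  rw [hbot, Submodule.mem_bot] at hmem
  have := congrFun (congrFun hmem x0) y0
  simp at this

/-- a maximal point of the top plateau -/
lemma exists_plateau_corner (hx : ∀ x y, h (x + 1) y ≤ h x y) (hy : ∀ x y, h x (y + 1) ≤ h x y)
    {b1 c2 : ℕ} (hB : h b1 0 < h 0 0) (hC : h 0 c2 < h 0 0) :
    ∃ x0 y0, x0 < b1 ∧ y0 < c2 ∧ h x0 y0 = h 0 0 ∧ h (x0 + 1) y0 < h 0 0 ∧
      h x0 (y0 + 1) < h 0 0 := by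
  classical
  have hxle : ∀ x y t, h (x + t) y ≤ h x y := by
    intro x y t
    induction t with
    | zero => exact le_rfl
    | succ t ih => exact (hx (x + t) y).trans ih
  have hyle : ∀ x y t, h x (y + t) ≤ h x y := by
    intro x y t
    induction t with
    | zero => exact le_rfl
    | succ t ih => exact (hy x (y + t)).trans ih
  have hb1 : b1 ≠ 0 := by
    rintro rfl
    exact lt_irrefl _ hB
  have hc2 : c2 ≠ 0 := by
    rintro rfl
    exact lt_irrefl _ hC
  have hex1 : ∃ x, h (x + 1) 0 < h 0 0 := ⟨b1 - 1, by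
    have : b1 - 1 + 1 = b1 := by omega
    rw [this]; exact hB⟩
  set x0 := Nat.find hex1 with hx0
  have hx0s : h (x0 + 1) 0 < h 0 0 := Nat.find_spec hex1
  have hx0b : x0 < b1 := by
    have : x0 ≤ b1 - 1 := Nat.find_min' hex1 (by
      have : b1 - 1 + 1 = b1 := by omega
      rw [this]; exact hB)
    omega
  have hx0v : h x0 0 = h 0 0 := by
    rcases Nat.eq_zero_or_pos x0 with h0 | hpos
    · rw [h0]
    · have hm := Nat.find_min hex1 (m := x0 - 1) (by omega)
      have e : x0 - 1 + 1 = x0 := by omega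
      rw [e] at hm
      have hle := hxle 0 0 x0
      rw [zero_add] at hle
      omega
  have hex2 : ∃ y, h x0 (y + 1) < h 0 0 := ⟨c2 - 1, by
    have e : c2 - 1 + 1 = c2 := by omega
    rw [e]
    have hle := hxle 0 c2 x0
    rw [zero_add] at hle
    omega⟩
  set y0 := Nat.find hex2 with hy0
  have hy0s : h x0 (y0 + 1) < h 0 0 := Nat.find_spec hex2
  have hy0b : y0 < c2 := by
    have : y0 ≤ c2 - 1 := Nat.find_min' hex2 (by
      have e : c2 - 1 + 1 = c2 := by omega
      rw [e]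
      have hle := hxle 0 c2 x0
      rw [zero_add] at hle
      omega)
    omega
  have hy0v : h x0 y0 = h 0 0 := by
    rcases Nat.eq_zero_or_pos y0 with h0 | hpos
    · rw [h0]; exact hx0v
    · have hm := Nat.find_min hex2 (m := y0 - 1) (by omega)
      have e : y0 - 1 + 1 = y0 := by omega
      rw [e] at hm
      have hle := hyle x0 0 y0
      rw [zero_add] at hle
      omega
  refine ⟨x0, y0, hx0b, hy0b, hy0v, ?_, hy0s⟩
  have hle := hyle (x0 + 1) 0 y0
  rw [zero_add] at hle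
  omega

end Groth.Agent.Lib.Seat60.Dual2D

namespace Groth.Agent.Lib.Seat60.TgtXY

open W4c1hilbpn MvPolynomial
open Groth.Agent.Lib.Helper24TgtPiece
open Groth.Agent.Lib.Seat60.TgtBasic
open Groth.Agent.Lib.Seat60.TgtIndep
open Groth.Agent.Lib.Seat60.TgtSum
open Groth.Agent.Lib.Seat60.TgtPow3
open Groth.Agent.Lib.Seat60.Stair
open Groth.Agent.Lib.Seat60.Dual2D

variable {k : Type*} [Field k] {I : Ideal (MvPolynomial (Fin 3) k)}

lemma alpha'_pattern (i : Fin 3) (a b c : ℕ) (hc : 1 ≤ c) :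
    ∀ l, alpha' i a b c l < 0 ↔ l ∈ ({i}ᶜ : Set (Fin 3)) := by
  rw [forall_fin3 i]
  simp only [Set.mem_compl_iff, Set.mem_singleton_iff]
  refine ⟨?_, ?_, ?_⟩
  · unfold alpha'
    rw [vec3_same]
    constructor
    · intro h; omega
    · intro h; exact absurd trivial h
  · unfold alpha'
    rw [vec3_zero]
    constructor
    · intro _; exact succAbove_zero_ne i
    · intro _; omega
  · unfold alpha'
    rw [vec3_one]
    constructor
    · intro _; exact succAbove_one_ne i
    · intro _; omega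

/-- **Nonvanishing of a piece negative at two indices**, from a generator in the plane of the two
indices dominating the top plateau of the staircase in the third direction. -/
theorem sigPiece_compl_ne_bot (hI : IsMonomial I) [Module.Finite k (MvPolynomial (Fin 3) k ⧸ I)]
    (i : Fin 3) (a1 a2 b1 c2 : ℕ) (ha1 : 1 ≤ a1) (ha2 : 1 ≤ a2)
    (hA : hst I i a1 a2 = 0) (hA1 : 1 ≤ hst I i (a1 - 1) a2) (hA2 : 1 ≤ hst I i a1 (a2 - 1))
    (hB : hst I i b1 0 < hst I i 0 0) (hC : hst I i 0 c2 < hst I i 0 0)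
    (hb : b1 ≤ a1) (hc : c2 ≤ a2) :
    sigPiece I ({i}ᶜ : Set (Fin 3)) ≠ ⊥ := by
  obtain ⟨x0, y0, hx0, hy0, h0, h1, h2⟩ :=
    exists_plateau_corner (hst_anti_y hI i) (hst_anti_z hI i) hB hC
  have hr : 1 ≤ hst I i 0 0 := by omega
  have hne : Xb (hst I i) (gg I i (a1 - x0 - 1) (a2 - y0 - 1)) (hst I i 0 0) k ≠ ⊥ := by
    apply Xb_ne_bot_of_corner hr h0 h1 h2
    · rw [gg_eq i _ _ (Y := a1) (Z := a2) (by omega) (by omega)]
      exact hA
    · rw [gg_eq i _ _ (Y := a1 - 1) (Z := a2) (by omega) (by omega)]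
      exact hA1
    · rw [gg_eq i _ _ (Y := a1) (Z := a2 - 1) (by omega) (by omega)]
      exact hA2
  intro hbot
  apply hne
  haveI := finite_Tgt I
  have hle : tPiece I (alpha' i (a1 - x0 - 1) (a2 - y0 - 1) (hst I i 0 0)) ≤
      sigPiece I ({i}ᶜ : Set (Fin 3)) := by
    unfold sigPiece
    exact le_iSup (fun α : {α : Fin 3 → ℤ // ∀ l, α l < 0 ↔ l ∈ ({i}ᶜ : Set (Fin 3))} =>
      tPiece I α.1) ⟨_, alpha'_pattern i _ _ _ hr⟩
  rw [hbot, le_bot_iff] at hle
  have hfr := finrank_tPiece_alpha' (k := k) (I := I) (i := i) (a := a1 - x0 - 1)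
    (b := a2 - y0 - 1) hI hr
  rw [hle, finrank_bot] at hfr
  haveI : Module.Finite k ↥(Xb (hst I i) (gg I i (a1 - x0 - 1) (a2 - y0 - 1)) (hst I i 0 0) k) := by
    have e : ↥(Xb (hst I i) (gg I i (a1 - x0 - 1) (a2 - y0 - 1)) (hst I i 0 0) k) ≃ₗ[k]
        ↥(tPiece I (alpha' i (a1 - x0 - 1) (a2 - y0 - 1) (hst I i 0 0))) :=
      LinearEquiv.ofBijective
        ((PhiB i _ _ _ hI hr).codRestrict _ (PhiB_mem hI hr))
        ⟨fun u v huv => PhiB_injective hI hr (congrArg Subtype.val huv),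
         fun φ => by
          obtain ⟨u, hu⟩ := PhiB_surjective hI hr φ.2
          exact ⟨u, Subtype.ext hu⟩⟩
    exact Module.Finite.equiv e.symm
  exact Submodule.finrank_eq_zero.mp hfr.symm

end Groth.Agent.Lib.Seat60.TgtXY

namespace Groth.Agent.Lib.Seat60.Stair

open W4c1hilbpn

variable {k : Type*} [Field k] {I : Ideal (MvPolynomial (Fin 3) k)}

lemma nvec_dir_one (c y z : ℕ) : nvec 1 c y z = e3 y c z := by
  apply Groth.Agent.Lib.Helper20.e3_ext
  · have := nvec_zero 1 c y z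
    rw [Groth.Agent.Lib.Helper20.e3_zero]
    exact this
  · rw [Groth.Agent.Lib.Helper20.e3_one]
    exact nvec_same 1 c y z
  · have := nvec_one 1 c y z
    rw [Groth.Agent.Lib.Helper20.e3_two]
    exact this

lemma nvec_dir_zero (c y z : ℕ) : nvec 0 c y z = e3 c y z := by
  apply Groth.Agent.Lib.Helper20.e3_ext
  · rw [Groth.Agent.Lib.Helper20.e3_zero]
    exact nvec_same 0 c y z
  · have := nvec_zero 0 c y z
    rw [Groth.Agent.Lib.Helper20.e3_one]
    exact this
  · have := nvec_one 0 c y z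
    rw [Groth.Agent.Lib.Helper20.e3_two]
    exact this

lemma mem_e3_iff_two (hI : IsMonomial I) [Module.Finite k (MvPolynomial (Fin 3) k ⧸ I)]
    (x y z : ℕ) : e3 x y z ∈ exps I ↔ hst I 2 x y ≤ z := by
  rw [← nvec_two, mem_exps_nvec_iff hI]

lemma mem_e3_iff_one (hI : IsMonomial I) [Module.Finite k (MvPolynomial (Fin 3) k ⧸ I)]
    (x y z : ℕ) : e3 x y z ∈ exps I ↔ hst I 1 x z ≤ y := by
  rw [← nvec_dir_one, mem_exps_nvec_iff hI]

lemma mem_e3_iff_zero (hI : IsMonomial I) [Module.Finite k (MvPolynomial (Fin 3) k ⧸ I)]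
    (x y z : ℕ) : e3 x y z ∈ exps I ↔ hst I 0 y z ≤ x := by
  rw [← nvec_dir_zero, mem_exps_nvec_iff hI]

lemma set_compl_two : ({0, 1} : Set (Fin 3)) = ({2}ᶜ : Set (Fin 3)) := by
  ext l; fin_cases l <;> simp

lemma set_compl_one : ({0, 2} : Set (Fin 3)) = ({1}ᶜ : Set (Fin 3)) := by
  ext l; fin_cases l <;> simp

lemma set_compl_zero : ({1, 2} : Set (Fin 3)) = ({0}ᶜ : Set (Fin 3)) := by
  ext l; fin_cases l <;> simp

end Groth.Agent.Lib.Seat60.Stair
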