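import Mathlib
import Groth.Prelude.Def_W4c1hilbpnTgt
import Groth.Agent.Lib.Seat60TgtXY6

/-! Seat60: the slices `sliceX I a` of a monomial ideal of finite colength in three variables are monomial
ideals of finite colength; their colength is the sum of the staircase numbers of the row `a`. -/

set_option autoImplicit false
set_option linter.style.haveILetI false
set_option linter.unusedSectionVars false
set_option linter.unusedVariables false

namespace Groth.Agent.Lib.Seat60.Slice

open W4c1hilbpn MvPolynomial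
open Groth.Agent.Lib.Helper24TgtPiece
open Groth.Agent.Lib.Helper20
open Groth.Agent.Lib.Seat60.Stair

variable {k : Type*} [Field k]

/-- monomials outside a monomial ideal span the quotient -/
lemma span_monomial_compl {σ : Type*} (J : Ideal (MvPolynomial σ k)) :
    ⊤ ≤ Submodule.span k (Set.range (fun β : {β : σ →₀ ℕ // β ∉ exps J} =>
      Ideal.Quotient.mk J (monomial β.1 (1 : k)))) := by
  intro q _
  obtain ⟨p, rfl⟩ := Ideal.Quotient.mk_surjective q
  rw [← support_sum_monomial_coeff p, map_sum]
  apply Submodule.sum_mem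
  intro β _
  by_cases hβ : β ∈ exps J
  · have : Ideal.Quotient.mk J (monomial β (coeff β p)) = 0 := by
      rw [mk_monomial_smul, mk_monomial_eq_zero.mpr hβ, smul_zero]
    rw [this]
    exact Submodule.zero_mem _
  · rw [mk_monomial_smul]
    apply Submodule.smul_mem
    apply Submodule.subset_span
    exact ⟨⟨β, hβ⟩, rfl⟩

lemma finite_quot_of_finite_compl {σ : Type*} (J : Ideal (MvPolynomial σ k))
    [Finite {β : σ →₀ ℕ // β ∉ exps J}] : Module.Finite k (MvPolynomial σ k ⧸ J) := by
  rw [Module.finite_def, ← top_le_iff.mp (span_monomial_compl J)]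
  exact Submodule.fg_span (Set.finite_range _)

variable (I : Ideal (MvPolynomial (Fin 3) k))

lemma mem_sliceX_iff (a : ℕ) (f : MvPolynomial (Fin 2) k) :
    f ∈ sliceX I a ↔ rename Fin.succ f * X 0 ^ a ∈ I := by
  unfold sliceX
  rw [Ideal.mem_comap, Submodule.mem_colon_singleton]
  rfl

/-- the exponent of `x^a · y^(β 0) z^(β 1)` -/
lemma lift_exp (a : ℕ) (β : Fin 2 →₀ ℕ) :
    Finsupp.mapDomain Fin.succ β + Finsupp.single (0 : Fin 3) a = e3 a (β 0) (β 1) := by
  have hinj : Function.Injective (Fin.succ : Fin 2 → Fin 3) := Fin.succ_injective 2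
  apply e3_ext
  · rw [e3_zero, Finsupp.add_apply, Finsupp.single_eq_same,
      Finsupp.mapDomain_of_notMem_range, zero_add]
    rintro ⟨j, hj⟩
    exact Fin.succ_ne_zero j hj
  · rw [e3_one, Finsupp.add_apply]
    have h1 : (1 : Fin 3) = Fin.succ (0 : Fin 2) := rfl
    rw [h1, Finsupp.mapDomain_apply hinj, Finsupp.single_apply, if_neg]
    · rfl
    · exact (Fin.succ_ne_zero (0 : Fin 2)).symm
  · rw [e3_two, Finsupp.add_apply]
    have h1 : (2 : Fin 3) = Fin.succ (1 : Fin 2) := rfl
    rw [h1, Finsupp.mapDomain_apply hinj, Finsupp.single_apply, if_neg]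
    · rfl
    · exact (Fin.succ_ne_zero (1 : Fin 2)).symm

lemma mem_exps_sliceX (a : ℕ) (β : Fin 2 →₀ ℕ) :
    β ∈ exps (sliceX I a) ↔ e3 a (β 0) (β 1) ∈ exps I := by
  show monomial β (1 : k) ∈ sliceX I a ↔ monomial (e3 a (β 0) (β 1)) (1 : k) ∈ I
  rw [mem_sliceX_iff, rename_monomial, X_pow_eq_monomial, monomial_mul, one_mul, lift_exp]

lemma isMonomial_sliceX (hI : IsMonomial I) (a : ℕ) : IsMonomial (sliceX I a) := by
  intro p hp β hβ
  rw [mem_sliceX_iff] at hp
  have hinj : Function.Injective (Fin.succ : Fin 2 → Fin 3) := Fin.succ_injective 2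
  have hc : coeff (Finsupp.mapDomain Fin.succ β + Finsupp.single (0 : Fin 3) a)
      (rename Fin.succ p * X 0 ^ a) = coeff β p := by
    rw [X_pow_eq_monomial, coeff_mul_monomial, mul_one, coeff_rename_mapDomain _ hinj]
  have hs : Finsupp.mapDomain Fin.succ β + Finsupp.single (0 : Fin 3) a ∈
      (rename Fin.succ p * X 0 ^ a).support := by
    rw [mem_support_iff, hc]
    exact mem_support_iff.mp hβ
  have := hI _ hp _ hs
  show β ∈ exps (sliceX I a)
  rw [mem_exps_sliceX, ← lift_exp]
  exact this

lemma finite_compl_sliceX (hI : IsMonomial I) [Module.Finite k (MvPolynomial (Fin 3) k ⧸ I)]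
    (a : ℕ) : Finite {β : Fin 2 →₀ ℕ // β ∉ exps (sliceX I a)} := by
  haveI := finite_compl_exps I hI
  apply Finite.of_injective (fun β : {β : Fin 2 →₀ ℕ // β ∉ exps (sliceX I a)} =>
    (⟨e3 a (β.1 0) (β.1 1), fun h => β.2 ((mem_exps_sliceX I a β.1).mpr h)⟩ :
      {γ : Fin 3 →₀ ℕ // γ ∉ exps I}))
  intro β β' h
  have h1 := congrArg Subtype.val h
  apply Subtype.ext
  ext j
  fin_cases j
  · have := DFunLike.congr_fun h1 1
    simpa [e3_one] using this
  · have := DFunLike.congr_fun h1 2
    simpa [e3_two] using this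

lemma finite_quot_sliceX (hI : IsMonomial I) [Module.Finite k (MvPolynomial (Fin 3) k ⧸ I)]
    (a : ℕ) : Module.Finite k (MvPolynomial (Fin 2) k ⧸ sliceX I a) := by
  haveI := finite_compl_sliceX I hI a
  exact finite_quot_of_finite_compl _


/-- the colength of the slice is the sum of the staircase numbers of the row -/
theorem finrank_sliceX (hI : IsMonomial I) [Module.Finite k (MvPolynomial (Fin 3) k ⧸ I)]
    (a M : ℕ) (hM : ∀ b, M ≤ b → hst I 2 a b = 0) :
    Module.finrank k (MvPolynomial (Fin 2) k ⧸ sliceX I a) =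
      ∑ b ∈ Finset.range M, hst I 2 a b := by
  classical
  haveI := finite_quot_sliceX I hI a
  rw [finrank_quot_eq_card (isMonomial_sliceX I hI a)]
  set T : Finset (Σ _ : ℕ, ℕ) :=
    (Finset.range M).sigma (fun b => Finset.range (hst I 2 a b)) with hT
  have hmemT : ∀ q : Σ _ : ℕ, ℕ, q ∈ T ↔ e3 a q.1 q.2 ∉ exps I := by
    intro q
    rw [hT, Finset.mem_sigma, Finset.mem_range, Finset.mem_range, mem_e3_iff_two hI, not_le]
    constructor
    · intro hq; exact hq.2
    · intro hq
      refine ⟨?_, hq⟩
      by_contra hcon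
      have := hM q.1 (not_lt.mp hcon)
      omega
  have e : {β : Fin 2 →₀ ℕ // β ∉ exps (sliceX I a)} ≃ {q // q ∈ T} :=
    { toFun := fun β => ⟨⟨β.1 0, β.1 1⟩, by
        rw [hmemT]
        exact fun h => β.2 ((mem_exps_sliceX I a β.1).mpr h)⟩
      invFun := fun q => ⟨Finsupp.equivFunOnFinite.symm ![q.1.1, q.1.2], by
        rw [mem_exps_sliceX]
        have := (hmemT q.1).mp q.2
        simpa using this⟩
      left_inv := by
        intro β
        apply Subtype.ext
        ext j
        fin_cases j <;> simp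
      right_inv := by
        rintro ⟨⟨b, c⟩, hq⟩
        apply Subtype.ext
        simp }
  rw [Nat.card_congr e, Nat.card_eq_fintype_card, Fintype.card_coe, hT, Finset.card_sigma]
  apply Finset.sum_congr rfl
  intro p _
  rw [Finset.card_range]

end Groth.Agent.Lib.Seat60.Slice
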