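import Mathlib
import Groth.Agent.Lib.Seat60TgtPow3

/-! Seat60: combinatorics of the slices of a strongly stable staircase: tail sums of the slice sizes are
bounded by tail sums of triangular numbers, with equality only for the simplex. -/

set_option autoImplicit false
set_option linter.style.haveILetI false
set_option linter.unusedSectionVars false
set_option linter.unusedVariables false

namespace Groth.Agent.Lib.Seat60.Stable

open Groth.Agent.Lib.Seat60.TgtPow3

/-- Pascal's rule for binomial coefficients `C(n+1, 2)` -/
lemma choose_succ_two (n : ℕ) : (n + 1).choose 2 = n.choose 2 + n := by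
  rw [Nat.choose_succ_succ' n 1, Nat.choose_one_right, add_comm]

/-- a sequence dropping by at least one at each step (until it reaches zero) has sum at most a
triangular number -/
lemma sum_le_choose_two (M : ℕ) : ∀ f : ℕ → ℕ, (∀ b, f (b + 1) ≤ f b - 1) →
    ∑ b ∈ Finset.range M, f b ≤ (f 0 + 1).choose 2 := by
  induction M with
  | zero => intro f _; simp
  | succ M ih =>
    intro f hf
    rw [Finset.sum_range_succ']
    have h1 := ih (fun b => f (b + 1)) (fun b => hf (b + 1))
    have h2 := hf 0
    rw [zero_add] at h2 h1
    rcases Nat.eq_zero_or_pos (f 0) with h0 | hpos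
    · have hz : ∀ b, f b = 0 := by
        intro b
        induction b with
        | zero => exact h0
        | succ b ihb =>
          have := hf b
          omega
      rw [Finset.sum_eq_zero (fun b _ => hz (b + 1)), hz 0]
      exact Nat.zero_le _
    · have h3 : (f 1 + 1).choose 2 ≤ (f 0).choose 2 := Nat.choose_le_choose 2 (by omega)
      rw [choose_succ_two (f 0)]
      omega

/-- the tetrahedral number as a sum of triangular numbers -/
lemma sum_choose_reflect (r : ℕ) :
    ∑ i ∈ Finset.range r, (r - i + 1).choose 2 = (r + 2).choose 3 := by
  rw [← sum_choose_two r, ← Finset.sum_range_reflect]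
  apply Finset.sum_congr rfl
  intro i hi
  rw [Finset.mem_range] at hi
  congr 1
  omega

section main

variable (s ζ : ℕ → ℕ) (r : ℕ)

/-- **Slices of a strongly stable staircase** (abstract form): if the total is at most the
tetrahedral number, every tail sum of the slices is at most the corresponding tail sum of triangular
numbers. -/
theorem tail_le (ha : ∀ a, 1 ≤ ζ (a + 1) → s (a + 1) + ζ (a + 1) + 1 ≤ s a)
    (hb : ∀ a, s a ≤ (ζ a + 1).choose 2) (hc : ∀ a, ζ (a + 1) ≤ ζ a - 1)
    (hd : ∑ i ∈ Finset.range r, s i ≤ (r + 2).choose 3) :
    ∀ j, j ≤ r → ∑ i ∈ Finset.Ico j r, s i ≤ ∑ i ∈ Finset.Ico j r, (r - i + 1).choose 2 := by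
  have key : ∀ t, t ≤ r → ∑ i ∈ Finset.Ico (r - t) r, s i ≤
      ∑ i ∈ Finset.Ico (r - t) r, (r - i + 1).choose 2 := by
    intro t
    induction t with
    | zero => intro _; simp
    | succ t ih =>
      intro ht
      have ih' := ih (by omega)
      by_contra hcon
      rw [not_le] at hcon
      set j := r - (t + 1) with hj
      have hj1 : r - t = j + 1 := by omega
      have hjr : j < r := by omega
      rw [hj1] at ih'
      rw [Finset.sum_eq_sum_Ico_succ_bot hjr, Finset.sum_eq_sum_Ico_succ_bot hjr] at hcon
      have hsj : (r - j + 1).choose 2 < s j := by omega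
      -- the height at `j`
      have hζj : r - j + 1 ≤ ζ j := by
        by_contra h
        have : (ζ j + 1).choose 2 ≤ (r - j + 1).choose 2 := Nat.choose_le_choose 2 (by omega)
        have := hb j
        omega
      -- heights below `j`
      have hζ : ∀ u, u ≤ j → r - (j - u) + 1 ≤ ζ (j - u) := by
        intro u
        induction u with
        | zero => intro _; exact hζj
        | succ u ihu =>
          intro hu
          have h1 := ihu (by omega)
          have e : j - u = (j - (u + 1)) + 1 := by omega
          have h2 := hc (j - (u + 1))
          rw [← e] at h2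
          omega
      -- defects below `j`
      have hδ : ∀ u, u ≤ j → (r - (j - u) + 1).choose 2 + 1 ≤ s (j - u) := by
        intro u
        induction u with
        | zero => intro _; exact hsj
        | succ u ihu =>
          intro hu
          have h1 := ihu (by omega)
          have e : j - u = (j - (u + 1)) + 1 := by omega
          have h2 := ha (j - (u + 1))
          have h3 := hζ u (by omega)
          rw [← e] at h2
          have h4 : r - (j - (u + 1)) + 1 = (r - (j - u) + 1) + 1 := by omega
          rw [h4, choose_succ_two]
          have := h2 (by omega)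
          omega
      have hδ' : ∀ i, i ≤ j → (r - i + 1).choose 2 + 1 ≤ s i := by
        intro i hi
        have := hδ (j - i) (by omega)
        have e : j - (j - i) = i := by omega
        rw [e] at this
        exact this
      -- the total
      have htot : ∑ i ∈ Finset.range j, (r - i + 1).choose 2 ≤ ∑ i ∈ Finset.range j, s i := by
        apply Finset.sum_le_sum
        intro i hi
        rw [Finset.mem_range] at hi
        have := hδ' i (by omega)
        omega
      have e1 := Finset.sum_range_add_sum_Ico s (le_of_lt hjr)
      have e2 := Finset.sum_range_add_sum_Ico (fun i => (r - i + 1).choose 2) (le_of_lt hjr)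
      rw [Finset.sum_eq_sum_Ico_succ_bot hjr] at e1 e2
      have e3 := sum_choose_reflect r
      omega
  intro j hj
  have := key (r - j) (by omega)
  have e : r - (r - j) = j := by omega
  rw [e] at this
  exact this

end main


lemma sum_range_tsub (n : ℕ) : ∀ M, n ≤ M → ∑ b ∈ Finset.range M, (n - b) = (n + 1).choose 2 := by
  induction n with
  | zero =>
    intro M _
    simp
  | succ n ih =>
    intro M hM
    obtain ⟨M', rfl⟩ : ∃ M', M = M' + 1 := ⟨M - 1, by omega⟩
    rw [Finset.sum_range_succ', choose_succ_two (n + 1)]
    have h1 := ih M' (by omega)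
    have h2 : ∀ b ∈ Finset.range M', n + 1 - (b + 1) = n - b := fun b _ => by omega
    rw [Finset.sum_congr rfl h2, h1]
    omega

/-- equality in all the tail bounds forces the staircase to be the simplex -/
theorem eq_simplex (h : ℕ → ℕ → ℕ) (M r : ℕ) (hrM : r ≤ M)
    (hM : ∀ a b, M ≤ a ∨ M ≤ b → h a b = 0)
    (hanti : ∀ a b, h a (b + 1) ≤ h a b)
    (h3 : ∀ a b, h (a + 1) b ≤ h a (b + 1)) (h4 : ∀ a b, h (a + 1) b ≤ h a b - 1)
    (htot : ∑ a ∈ Finset.range M, ∑ b ∈ Finset.range M, h a b ≤ (r + 2).choose 3)
    (heq : ∀ i, i < r → ∑ b ∈ Finset.range M, h i b = (r - i + 1).choose 2) :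
    ∀ a b, h a b = r - a - b := by
  have hanti' : ∀ a b, h a b ≤ h a 0 := by
    intro a b
    induction b with
    | zero => exact le_rfl
    | succ b ih => exact (hanti a b).trans ih
  -- rows beyond `r` vanish
  have hrow : ∀ a, r ≤ a → ∀ b, h a b = 0 := by
    intro a har b
    by_cases haM : M ≤ a
    · exact hM a b (Or.inl haM)
    by_cases hbM : M ≤ b
    · exact hM a b (Or.inr hbM)
    have e1 := Finset.sum_range_add_sum_Ico (fun a => ∑ b ∈ Finset.range M, h a b) hrM
    have e2 : ∑ a ∈ Finset.range r, ∑ b ∈ Finset.range M, h a b = (r + 2).choose 3 := by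
      rw [← sum_choose_reflect r]
      apply Finset.sum_congr rfl
      intro i hi
      exact heq i (Finset.mem_range.mp hi)
    have e3 : ∑ a ∈ Finset.Ico r M, ∑ b ∈ Finset.range M, h a b = 0 := by omega
    have e4 := (Finset.sum_eq_zero_iff.mp e3) a (Finset.mem_Ico.mpr ⟨har, not_le.mp haM⟩)
    exact (Finset.sum_eq_zero_iff.mp e4) b (Finset.mem_range.mpr (not_le.mp hbM))
  have key : ∀ t, t ≤ r → ∀ b, h (r - t) b = t - b := by
    intro t
    induction t with
    | zero =>
      intro _ b
      rw [Nat.zero_sub]
      exact hrow _ (by omega) b
    | succ t ih =>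
      intro ht
      have ih' := ih (by omega)
      set i := r - (t + 1) with hi
      have hi1 : r - t = i + 1 := by omega
      rw [hi1] at ih'
      have hsum := heq i (by omega)
      have hrt : r - i + 1 = (t + 1) + 1 := by omega
      rw [hrt] at hsum
      have hlow : ∀ b, t + 1 - b ≤ h i b := by
        intro b
        cases b with
        | zero =>
          rcases Nat.eq_zero_or_pos t with h0 | hpos
          · -- the row sum is positive
            by_contra hcon
            have hz : ∀ b ∈ Finset.range M, h i b = 0 := by
              intro b _
              have := hanti' i b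
              omega
            rw [Finset.sum_eq_zero hz, h0] at hsum
            simp at hsum
          · have h5 := h4 i 0
            rw [ih' 0] at h5
            omega
        | succ b =>
          have h5 := h3 i b
          rw [ih' b] at h5
          omega
      have hsum2 := sum_range_tsub (t + 1) M (by omega)
      have heq2 : ∀ b ∈ Finset.range M, t + 1 - b = h i b := by
        have := (Finset.sum_eq_sum_iff_of_le (fun b _ => hlow b)).mp (hsum2.trans hsum.symm)
        exact this
      intro b
      by_cases hbM : M ≤ b
      · rw [hM i b (Or.inr hbM)]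
        omega
      · exact (heq2 b (Finset.mem_range.mpr (not_le.mp hbM))).symm
  intro a b
  by_cases har : r ≤ a
  · rw [hrow a har b]
    omega
  · have := key (r - a) (by omega) b
    have e : r - (r - a) = a := by omega
    rw [e] at this
    exact this

end Groth.Agent.Lib.Seat60.Stable
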