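import Mathlib
import Groth.Prelude.Def_W4c1hilbpnTgt
import Groth.Agent.Lib.Seat60Stable
import Groth.Agent.Lib.Seat60Slice

/-! Seat60: slices of strongly stable ideals of finite colength in three variables: staircase
inequalities, the tail bound for the colengths of the slices, and the equality case. -/

set_option autoImplicit false
set_option linter.style.haveILetI false
set_option linter.unusedSectionVars false
set_option linter.unusedVariables false

namespace Groth.Agent.Lib.Seat60.Stable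

open W4c1hilbpn MvPolynomial
open Groth.Agent.Lib.Helper24TgtPiece
open Groth.Agent.Lib.Helper20
open Groth.Agent.Lib.Seat60.Stair
open Groth.Agent.Lib.Seat60.Slice
open Groth.Agent.Lib.Seat60.TgtPow

variable {k : Type*} [Field k] {I : Ideal (MvPolynomial (Fin 3) k)}

lemma hst_stab_xy (hI : IsStronglyStable I) [Module.Finite k (MvPolynomial (Fin 3) k ⧸ I)]
    (a b : ℕ) : hst I 2 (a + 1) b ≤ hst I 2 a (b + 1) := by
  have hmem : e3 a (b + 1) (hst I 2 a (b + 1)) ∈ exps I := (mem_e3_iff_two hI.1 _ _ _).mpr le_rfl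
  have h1 := hI.2 _ hmem 0 1 (by decide) (by rw [e3_one]; omega)
  have e : e3 a (b + 1) (hst I 2 a (b + 1)) - Finsupp.single 1 1 + Finsupp.single 0 1 =
      e3 (a + 1) b (hst I 2 a (b + 1)) := by
    apply e3_ext <;> simp [e3_zero, e3_one, e3_two]
  rw [e] at h1
  exact (mem_e3_iff_two hI.1 _ _ _).mp h1

lemma hst_stab_xz (hI : IsStronglyStable I) [Module.Finite k (MvPolynomial (Fin 3) k ⧸ I)]
    (a b : ℕ) : hst I 2 (a + 1) b ≤ hst I 2 a b - 1 := by
  rcases Nat.eq_zero_or_pos (hst I 2 a b) with h0 | hpos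
  · have := hst_anti_y hI.1 2 a b
    omega
  · have hmem : e3 a b (hst I 2 a b) ∈ exps I := (mem_e3_iff_two hI.1 _ _ _).mpr le_rfl
    have h1 := hI.2 _ hmem 0 2 (by decide) (by rw [e3_two]; omega)
    have e : e3 a b (hst I 2 a b) - Finsupp.single 2 1 + Finsupp.single 0 1 =
        e3 (a + 1) b (hst I 2 a b - 1) := by
      apply e3_ext <;> simp [e3_zero, e3_one, e3_two]
    rw [e] at h1
    exact (mem_e3_iff_two hI.1 _ _ _).mp h1

lemma hst_stab_yz (hI : IsStronglyStable I) [Module.Finite k (MvPolynomial (Fin 3) k ⧸ I)]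
    (a b : ℕ) : hst I 2 a (b + 1) ≤ hst I 2 a b - 1 := by
  rcases Nat.eq_zero_or_pos (hst I 2 a b) with h0 | hpos
  · have := hst_anti_z hI.1 2 a b
    omega
  · have hmem : e3 a b (hst I 2 a b) ∈ exps I := (mem_e3_iff_two hI.1 _ _ _).mpr le_rfl
    have h1 := hI.2 _ hmem 1 2 (by decide) (by rw [e3_two]; omega)
    have e : e3 a b (hst I 2 a b) - Finsupp.single 2 1 + Finsupp.single 1 1 =
        e3 a (b + 1) (hst I 2 a b - 1) := by
      apply e3_ext <;> simp [e3_zero, e3_one, e3_two]
    rw [e] at h1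
    exact (mem_e3_iff_two hI.1 _ _ _).mp h1

/-- two monomial ideals with the same monomials are equal -/
lemma eq_of_exps_eq {σ : Type*} {J J' : Ideal (MvPolynomial σ k)} (hJ : IsMonomial J)
    (hJ' : IsMonomial J') (h : exps J = exps J') : J = J' := by
  have key : ∀ {K K' : Ideal (MvPolynomial σ k)}, IsMonomial K → exps K ⊆ exps K' → K ≤ K' := by
    intro K K' hK hsub p hp
    rw [← support_sum_monomial_coeff p]
    apply Ideal.sum_mem
    intro β hβ
    have h1 : monomial β (1 : k) ∈ K' := hsub (hK p hp β hβ)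
    have h2 : monomial β (coeff β p) = C (coeff β p) * monomial β (1 : k) := by
      rw [C_mul_monomial, mul_one]
    rw [h2]
    exact K'.mul_mem_left _ h1
  exact le_antisymm (key hJ h.le) (key hJ' h.ge)

lemma degree_e3 (a b c : ℕ) : (e3 a b c).degree = a + b + c := by
  rw [Finsupp.degree_eq_sum, Fin.sum_univ_three, e3_zero, e3_one, e3_two]

lemma eq_e3 (β : Fin 3 →₀ ℕ) : β = e3 (β 0) (β 1) (β 2) := by
  apply e3_ext
  · rw [e3_zero]
  · rw [e3_one]
  · rw [e3_two]

/-- a monomial ideal of finite colength whose staircase is the simplex is a power of the maximal ideal -/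
lemma eq_mpow_of_hst (hI : IsMonomial I) [Module.Finite k (MvPolynomial (Fin 3) k ⧸ I)] (r : ℕ)
    (h : ∀ a b, hst I 2 a b = r - a - b) : I = mpow (Fin 3) k r := by
  apply eq_of_exps_eq hI (isMonomial_mpow r)
  ext β
  rw [mem_exps_mpow, eq_e3 β, mem_e3_iff_two hI, h, degree_e3]
  omega


/-- **Slices of a strongly stable ideal of colength at most `C(r+2, 3)`.** -/
theorem slices_tail (hI : IsStronglyStable I) [Module.Finite k (MvPolynomial (Fin 3) k ⧸ I)]
    (r : ℕ) (hd : Module.finrank k (MvPolynomial (Fin 3) k ⧸ I) ≤ Nat.choose (r + 2) 3) :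
    (∀ j, j ≤ r → ∑ i ∈ Finset.Ico j r, Module.finrank k (MvPolynomial (Fin 2) k ⧸ sliceX I i) ≤
        ∑ i ∈ Finset.Ico j r, Nat.choose (r - i + 1) 2) ∧
    ((∀ j, j < r → ∑ i ∈ Finset.Ico j r, Module.finrank k (MvPolynomial (Fin 2) k ⧸ sliceX I i) =
        ∑ i ∈ Finset.Ico j r, Nat.choose (r - i + 1) 2) → I = mpow (Fin 3) k r) := by
  obtain ⟨M0, hM0⟩ := hst_bdd hI.1 2
  have hM : ∀ a b, max M0 r ≤ a ∨ max M0 r ≤ b → hst I 2 a b = 0 := by
    intro a b hab
    apply hM0
    have := le_max_left M0 r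
    omega
  have hrM : r ≤ max M0 r := le_max_right _ _
  set M := max M0 r with hMdef
  have hslice : ∀ a, Module.finrank k (MvPolynomial (Fin 2) k ⧸ sliceX I a) =
      ∑ b ∈ Finset.range M, hst I 2 a b :=
    fun a => finrank_sliceX I hI.1 a M (fun b hb => hM a b (Or.inr hb))
  have htotal : ∑ a ∈ Finset.range M, ∑ b ∈ Finset.range M, hst I 2 a b ≤ (r + 2).choose 3 := by
    rw [← Finset.sum_product', ← finrank_quot_eq_sum hI.1 2 M hM]
    exact hd
  simp only [hslice]
  constructor
  · apply tail_le (fun a => ∑ b ∈ Finset.range M, hst I 2 a b) (fun a => hst I 2 a 0) r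
    · intro a ha
      have e1 : ∑ b ∈ Finset.range (M + 1), hst I 2 a b = ∑ b ∈ Finset.range M, hst I 2 a b := by
        rw [Finset.sum_range_succ, hM a M (Or.inr le_rfl), add_zero]
      rw [← e1, Finset.sum_range_succ']
      have h1 : ∑ b ∈ Finset.range M, hst I 2 (a + 1) b ≤
          ∑ b ∈ Finset.range M, hst I 2 a (b + 1) :=
        Finset.sum_le_sum (fun b _ => hst_stab_xy hI a b)
      have h2 := hst_stab_xz hI a 0
      omega
    · intro a
      exact sum_le_choose_two M (fun b => hst I 2 a b) (hst_stab_yz hI a)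
    · intro a
      exact hst_stab_xz hI a 0
    · refine le_trans ?_ htotal
      exact Finset.sum_le_sum_of_subset (Finset.range_subset_range.mpr hrM)
  · intro heq
    apply eq_mpow_of_hst hI.1 r
    apply eq_simplex (hst I 2) M r hrM hM (hst_anti_z hI.1 2) (hst_stab_xy hI) (hst_stab_xz hI) htotal
    intro i hi
    have h1 := heq i hi
    rw [Finset.sum_eq_sum_Ico_succ_bot hi, Finset.sum_eq_sum_Ico_succ_bot hi] at h1
    by_cases hi1 : i + 1 < r
    · have h2 := heq (i + 1) hi1
      omega
    · have e : i + 1 = r := by omega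
      rw [e] at h1
      simpa using h1

end Groth.Agent.Lib.Seat60.Stable
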