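import Mathlib
import Groth.Agent.Lib.Seat60Stable

/-! Seat60: the tail bound over a longer range; double counting lemmas. -/

set_option autoImplicit false
set_option linter.style.haveILetI false
set_option linter.unusedSectionVars false
set_option linter.unusedVariables false

namespace Groth.Agent.Lib.Seat60.Stable

open Groth.Agent.Lib.Seat60.TgtPow3

lemma sum_choose_reflect' (r R : ℕ) (hrR : r ≤ R) :
    ∑ i ∈ Finset.range R, (r - i + 1).choose 2 = (r + 2).choose 3 := by
  rw [← Finset.sum_range_add_sum_Ico _ hrR, sum_choose_reflect r]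
  have : ∑ i ∈ Finset.Ico r R, (r - i + 1).choose 2 = 0 := by
    apply Finset.sum_eq_zero
    intro i hi
    rw [Finset.mem_Ico] at hi
    have e : r - i + 1 = 1 := by omega
    rw [e]
    rfl
  rw [this, add_zero]

/-- the tail bound over a range possibly longer than `r` -/
theorem tail_le' (s ζ : ℕ → ℕ) (r R : ℕ) (hrR : r ≤ R)
    (ha : ∀ a, 1 ≤ ζ (a + 1) → s (a + 1) + ζ (a + 1) + 1 ≤ s a)
    (hb : ∀ a, s a ≤ (ζ a + 1).choose 2) (hc : ∀ a, ζ (a + 1) ≤ ζ a - 1)
    (hd : ∑ i ∈ Finset.range R, s i ≤ (r + 2).choose 3) :
    ∀ j, j ≤ R → ∑ i ∈ Finset.Ico j R, s i ≤ ∑ i ∈ Finset.Ico j R, (r - i + 1).choose 2 := by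
  have key : ∀ t, t ≤ R → ∑ i ∈ Finset.Ico (R - t) R, s i ≤
      ∑ i ∈ Finset.Ico (R - t) R, (r - i + 1).choose 2 := by
    intro t
    induction t with
    | zero => intro _; simp
    | succ t ih =>
      intro ht
      have ih' := ih (by omega)
      by_contra hcon
      rw [not_le] at hcon
      set j := R - (t + 1) with hj
      have hj1 : R - t = j + 1 := by omega
      have hjr : j < R := by omega
      rw [hj1] at ih'
      rw [Finset.sum_eq_sum_Ico_succ_bot hjr, Finset.sum_eq_sum_Ico_succ_bot hjr] at hcon
      have hsj : (r - j + 1).choose 2 < s j := by omega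
      have hζj : r - j + 1 ≤ ζ j := by
        by_contra h
        have : (ζ j + 1).choose 2 ≤ (r - j + 1).choose 2 := Nat.choose_le_choose 2 (by omega)
        have := hb j
        omega
      have hζ : ∀ u, u ≤ j → r - (j - u) + 1 ≤ ζ (j - u) := by
        intro u
        induction u with
        | zero => intro _; exact hζj
        | succ u ihu =>
          intro hu
          have h1 := ihu (by omega)
          have e : j - u = (j - (u + 1)) + 1 := by omega
          have h2 := hc (j - (u + 1))
          rw [← e] at h2
          omega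
      have hδ : ∀ u, u ≤ j → (r - (j - u) + 1).choose 2 + 1 ≤ s (j - u) := by
        intro u
        induction u with
        | zero => intro _; exact hsj
        | succ u ihu =>
          intro hu
          have h1 := ihu (by omega)
          have e : j - u = (j - (u + 1)) + 1 := by omega
          have h2 := ha (j - (u + 1))
          have h3 := hζ u (by omega)
          rw [← e] at h2
          have h5 := h2 (by omega)
          by_cases hlt : j - (u + 1) < r
          · have h4 : r - (j - (u + 1)) + 1 = (r - (j - u) + 1) + 1 := by omega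
            rw [h4, choose_succ_two]
            omega
          · have h4 : r - (j - (u + 1)) + 1 = 1 := by omega
            have h6 : r - (j - u) + 1 = 1 := by omega
            rw [h4]
            rw [h6] at h1
            omega
      have hδ' : ∀ i, i ≤ j → (r - i + 1).choose 2 + 1 ≤ s i := by
        intro i hi
        have := hδ (j - i) (by omega)
        have e : j - (j - i) = i := by omega
        rw [e] at this
        exact this
      have htot : ∑ i ∈ Finset.range j, (r - i + 1).choose 2 ≤ ∑ i ∈ Finset.range j, s i := by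
        apply Finset.sum_le_sum
        intro i hi
        rw [Finset.mem_range] at hi
        have := hδ' i (by omega)
        omega
      have e1 := Finset.sum_range_add_sum_Ico s (le_of_lt hjr)
      have e2 := Finset.sum_range_add_sum_Ico (fun i => (r - i + 1).choose 2) (le_of_lt hjr)
      rw [Finset.sum_eq_sum_Ico_succ_bot hjr] at e1 e2
      have e3 := sum_choose_reflect' r R hrR
      omega
  intro j hj
  have := key (R - j) (by omega)
  have e : R - (R - j) = j := by omega
  rw [e] at this
  exact this

/-- double counting: `∑_a ∑_y f (y + a) = ∑_x (x + 1) f x` for `f` vanishing beyond `M` -/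
lemma sum_shift (f : ℕ → ℕ) (M : ℕ) (hf : ∀ x, M ≤ x → f x = 0) :
    ∑ a ∈ Finset.range M, ∑ y ∈ Finset.range M, f (y + a) =
      ∑ x ∈ Finset.range M, (x + 1) * f x := by
  have h1 : ∀ a ∈ Finset.range M, ∑ y ∈ Finset.range M, f (y + a) = ∑ x ∈ Finset.Ico a M, f x := by
    intro a ha
    rw [Finset.mem_range] at ha
    rw [Finset.range_eq_Ico, Finset.sum_Ico_add' f 0 M a]
    rw [zero_add, ← Finset.sum_Ico_consecutive f (le_of_lt ha) (Nat.le_add_right M a)]
    have : ∑ x ∈ Finset.Ico M (M + a), f x = 0 :=
      Finset.sum_eq_zero (fun x hx => hf x (Finset.mem_Ico.mp hx).1)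
    rw [this, add_zero]
  rw [Finset.sum_congr rfl h1, Finset.range_eq_Ico, Finset.sum_Ico_Ico_comm]
  apply Finset.sum_congr rfl
  intro x _
  rw [Finset.sum_const, Nat.Ico_zero_eq_range, Finset.card_range, smul_eq_mul]

/-- `∑_x (x + 1) s x` as a sum of tails -/
lemma sum_succ_mul_eq_tails (s : ℕ → ℕ) (M : ℕ) :
    ∑ x ∈ Finset.range M, (x + 1) * s x = ∑ j ∈ Finset.range M, ∑ x ∈ Finset.Ico j M, s x := by
  rw [Finset.range_eq_Ico, Finset.sum_Ico_Ico_comm]
  apply Finset.sum_congr rfl
  intro x _
  rw [Finset.sum_const, Nat.Ico_zero_eq_range, Finset.card_range, smul_eq_mul]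

end Groth.Agent.Lib.Seat60.Stable
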