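import Mathlib
import Groth.Prelude.Def_W4c1hilbpnTgt
import Groth.Agent.Lib.Seat60Stable2
import Groth.Agent.Lib.Seat60Stable3
import Groth.Agent.Lib.Seat60TgtXY5

/-
Seat60Stable4: upper bounds for the one-negative sign pieces of the tangent space at a
strongly stable point of colength `C(r+2,3)` in three variables, via the corner bound of the
staircase and the weighted slice inequality.
-/

set_option autoImplicit false
set_option linter.style.haveILetI false
set_option linter.unusedSectionVars false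
set_option linter.unusedVariables false

namespace Groth.Agent.Lib.Seat60.Stable

open W4c1hilbpn MvPolynomial
open Groth.Agent.Lib.Helper24TgtPiece
open Groth.Agent.Lib.Helper20
open Groth.Agent.Lib.Seat60.Stair
open Groth.Agent.Lib.Seat60.Slice
open Groth.Agent.Lib.Seat60.TgtPow
open Groth.Agent.Lib.Seat60.TgtXY
open Groth.Agent.Lib.Seat60.Dual2D

variable {k : Type*} [Field k] {I : Ideal (MvPolynomial (Fin 3) k)}

/-- telescoping a nonincreasing sequence of naturals -/
lemma sum_range_tsub_antitone (f : ℕ → ℕ) (hf : ∀ z, f (z + 1) ≤ f z) (M : ℕ) :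
    ∑ z ∈ Finset.range M, (f z - f (z + 1)) = f 0 - f M := by
  have hle : ∀ M, f M ≤ f 0 := by
    intro M
    induction M with
    | zero => exact le_rfl
    | succ M ih => exact (hf M).trans ih
  induction M with
  | zero => simp
  | succ M ih =>
    rw [Finset.sum_range_succ, ih]
    have := hf M
    have := hle M
    omega

/-- bound by corners, for the span of all pieces with two fixed nonnegative entries -/
theorem finrank_iSup_alpha_le (hI : IsMonomial I)
    [Module.Finite k (MvPolynomial (Fin 3) k ⧸ I)] (i : Fin 3) (a b : ℕ) (M : ℕ)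
    (hM : ∀ y z, M ≤ y ∨ M ≤ z → hst I i y z = 0) :
    Module.finrank k ↥(⨆ α : {α : Fin 3 → ℤ // α (i.succAbove 0) = (a : ℤ) ∧
        α (i.succAbove 1) = (b : ℤ)}, tPiece I α.1) ≤
      ∑ p ∈ Finset.range M ×ˢ Finset.range M,
        (gg I i a b p.1 p.2 - max (gg I i a b (p.1 + 1) p.2) (gg I i a b p.1 (p.2 + 1))) := by
  rw [finrank_iSup_alpha hI]
  have H := hyp_hst hI i a b
  rw [← sum_card_sink (hst I i) (gg I i a b) M (hst I i 0 0) hM (hst_le_zero hI i)
    (fun y z => hst_le_add hI i y z a b) H.gx H.gy]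
  apply Finset.sum_le_sum
  intro c hc
  rw [finrank_tPiece_alpha hI]
  exact finrank_Xa_le H (Finset.mem_Icc.mp hc).1

/-- with the stability inequality the corner bound telescopes -/
theorem finrank_iSup_alpha_le_row (hI : IsMonomial I)
    [Module.Finite k (MvPolynomial (Fin 3) k ⧸ I)] (i : Fin 3)
    (hstab : ∀ x t, hst I i (x + 1) t ≤ hst I i x (t + 1)) (a b : ℕ) (M : ℕ)
    (hM : ∀ y z, M ≤ y ∨ M ≤ z → hst I i y z = 0) :
    Module.finrank k ↥(⨆ α : {α : Fin 3 → ℤ // α (i.succAbove 0) = (a : ℤ) ∧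
        α (i.succAbove 1) = (b : ℤ)}, tPiece I α.1) ≤
      ∑ y ∈ Finset.range M, hst I i (y + a) b := by
  refine le_trans (finrank_iSup_alpha_le hI i a b M hM) (le_of_eq ?_)
  rw [Finset.sum_product]
  apply Finset.sum_congr rfl
  intro y _
  have hmax : ∀ z, max (gg I i a b (y + 1) z) (gg I i a b y (z + 1)) = gg I i a b y (z + 1) := by
    intro z
    apply max_eq_right
    unfold gg
    have := hstab (y + a) (z + b)
    rw [add_right_comm y 1 a, add_right_comm z 1 b]
    exact this
  simp only [hmax]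
  rw [sum_range_tsub_antitone (fun z => gg I i a b y z) ((hyp_hst hI i a b).gy y)]
  have h0 : gg I i a b y M = 0 := by
    unfold gg
    apply hM
    right
    omega
  rw [h0, Nat.sub_zero]
  unfold gg
  rw [zero_add]

/-- the sign piece negative exactly at `i`, bounded by the weighted sum of the slice sizes -/
theorem finrank_sigPiece_single_le (hI : IsMonomial I)
    [Module.Finite k (MvPolynomial (Fin 3) k ⧸ I)] (i : Fin 3)
    (hstab : ∀ x t, hst I i (x + 1) t ≤ hst I i x (t + 1)) (M : ℕ)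
    (hM : ∀ y z, M ≤ y ∨ M ≤ z → hst I i y z = 0) :
    Module.finrank k ↥(sigPiece I ({i} : Set (Fin 3))) ≤
      ∑ x ∈ Finset.range M, (x + 1) * ∑ t ∈ Finset.range M, hst I i x t := by
  rw [finrank_sigPiece_single_eq_sum hI i M hM]
  have h1 : ∀ p ∈ Finset.range M ×ˢ Finset.range M,
      Module.finrank k ↥(⨆ α : {α : Fin 3 → ℤ // α (i.succAbove 0) = (p.1 : ℤ) ∧
        α (i.succAbove 1) = (p.2 : ℤ)}, tPiece I α.1) ≤
      ∑ y ∈ Finset.range M, hst I i (y + p.1) p.2 :=
    fun p _ => finrank_iSup_alpha_le_row hI i hstab p.1 p.2 M hM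
  refine le_trans (Finset.sum_le_sum h1) (le_of_eq ?_)
  rw [Finset.sum_product, Finset.sum_comm]
  have h2 : ∀ b ∈ Finset.range M, ∑ a ∈ Finset.range M, ∑ y ∈ Finset.range M, hst I i (y + a) b =
      ∑ x ∈ Finset.range M, (x + 1) * hst I i x b :=
    fun b _ => sum_shift (fun x => hst I i x b) M (fun x hx => hM x b (Or.inl hx))
  rw [Finset.sum_congr rfl h2, Finset.sum_comm]
  apply Finset.sum_congr rfl
  intro x _
  rw [Finset.mul_sum]


lemma hst_stab_one (hI : IsStronglyStable I) [Module.Finite k (MvPolynomial (Fin 3) k ⧸ I)]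
    (x t : ℕ) : hst I 1 (x + 1) t ≤ hst I 1 x (t + 1) := by
  have hmem : e3 x (hst I 1 x (t + 1)) (t + 1) ∈ exps I := (mem_e3_iff_one hI.1 _ _ _).mpr le_rfl
  have h1 := hI.2 _ hmem 0 2 (by decide) (by rw [e3_two]; omega)
  have e : e3 x (hst I 1 x (t + 1)) (t + 1) - Finsupp.single 2 1 + Finsupp.single 0 1 =
      e3 (x + 1) (hst I 1 x (t + 1)) t := by
    apply e3_ext <;> simp [e3_zero, e3_one, e3_two]
  rw [e] at h1
  exact (mem_e3_iff_one hI.1 _ _ _).mp h1

/-- the colength of the slice is also the sum of the staircase numbers in the `y`-direction -/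
theorem finrank_sliceX_one (hI : IsMonomial I) [Module.Finite k (MvPolynomial (Fin 3) k ⧸ I)]
    (a M : ℕ) (hM : ∀ t, M ≤ t → hst I 1 a t = 0) :
    Module.finrank k (MvPolynomial (Fin 2) k ⧸ sliceX I a) =
      ∑ t ∈ Finset.range M, hst I 1 a t := by
  classical
  haveI := finite_quot_sliceX I hI a
  rw [finrank_quot_eq_card (isMonomial_sliceX I hI a)]
  set T : Finset (Σ _ : ℕ, ℕ) :=
    (Finset.range M).sigma (fun t => Finset.range (hst I 1 a t)) with hT
  have hmemT : ∀ q : Σ _ : ℕ, ℕ, q ∈ T ↔ e3 a q.2 q.1 ∉ exps I := by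
    intro q
    rw [hT, Finset.mem_sigma, Finset.mem_range, Finset.mem_range, mem_e3_iff_one hI, not_le]
    constructor
    · intro hq; exact hq.2
    · intro hq
      refine ⟨?_, hq⟩
      by_contra hcon
      have := hM q.1 (not_lt.mp hcon)
      omega
  have e : {β : Fin 2 →₀ ℕ // β ∉ exps (sliceX I a)} ≃ {q // q ∈ T} :=
    { toFun := fun β => ⟨⟨β.1 1, β.1 0⟩, by
        rw [hmemT]
        exact fun h => β.2 ((mem_exps_sliceX I a β.1).mpr h)⟩
      invFun := fun q => ⟨Finsupp.equivFunOnFinite.symm ![q.1.2, q.1.1], by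
        rw [mem_exps_sliceX]
        have := (hmemT q.1).mp q.2
        simpa using this⟩
      left_inv := by
        intro β
        apply Subtype.ext
        ext j
        fin_cases j <;> simp
      right_inv := by
        rintro ⟨⟨b, c⟩, hq⟩
        apply Subtype.ext
        simp }
  rw [Nat.card_congr e, Nat.card_eq_fintype_card, Fintype.card_coe, hT, Finset.card_sigma]
  apply Finset.sum_congr rfl
  intro p _
  rw [Finset.card_range]

/-- the weighted sum of the slice sizes of a strongly stable ideal of colength `C(r+2,3)` -/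
theorem weighted_slices (hI : IsStronglyStable I) [Module.Finite k (MvPolynomial (Fin 3) k ⧸ I)]
    (r : ℕ) (hd : Module.finrank k (MvPolynomial (Fin 3) k ⧸ I) ≤ Nat.choose (r + 2) 3)
    (M : ℕ) (hrM : r ≤ M) (hM : ∀ a b, M ≤ a ∨ M ≤ b → hst I 2 a b = 0) :
    ∑ x ∈ Finset.range M, (x + 1) * ∑ b ∈ Finset.range M, hst I 2 x b ≤ (r + 3).choose 4 ∧
    (∑ x ∈ Finset.range M, (x + 1) * ∑ b ∈ Finset.range M, hst I 2 x b = (r + 3).choose 4 →
      I = mpow (Fin 3) k r) := by
  have htotal : ∑ a ∈ Finset.range M, ∑ b ∈ Finset.range M, hst I 2 a b ≤ (r + 2).choose 3 := by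
    rw [← Finset.sum_product', ← finrank_quot_eq_sum hI.1 2 M hM]
    exact hd
  have htail := tail_le' (fun a => ∑ b ∈ Finset.range M, hst I 2 a b) (fun a => hst I 2 a 0) r M hrM
    (by
      intro a ha
      have e1 : ∑ b ∈ Finset.range (M + 1), hst I 2 a b = ∑ b ∈ Finset.range M, hst I 2 a b := by
        rw [Finset.sum_range_succ, hM a M (Or.inr le_rfl), add_zero]
      show (∑ b ∈ Finset.range M, hst I 2 (a + 1) b) + hst I 2 (a + 1) 0 + 1 ≤
        ∑ b ∈ Finset.range M, hst I 2 a b
      rw [← e1, Finset.sum_range_succ']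
      have h1 : ∑ b ∈ Finset.range M, hst I 2 (a + 1) b ≤
          ∑ b ∈ Finset.range M, hst I 2 a (b + 1) :=
        Finset.sum_le_sum (fun b _ => hst_stab_xy hI a b)
      have h2 := hst_stab_xz hI a 0
      have h3 : 1 ≤ hst I 2 (a + 1) 0 := ha
      omega)
    (fun a => sum_le_choose_two M (fun b => hst I 2 a b) (hst_stab_yz hI a))
    (fun a => hst_stab_xz hI a 0) htotal
  have hC : ∑ j ∈ Finset.range M, ∑ x ∈ Finset.Ico j M, (r - x + 1).choose 2 = (r + 3).choose 4 := by
    rw [← sum_succ_mul_eq_tails (fun x => (r - x + 1).choose 2) M,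
      ← Finset.sum_range_add_sum_Ico _ hrM, Groth.Agent.Lib.Seat60.TgtPow3.sum_succ_mul_choose r]
    have : ∑ x ∈ Finset.Ico r M, (x + 1) * (r - x + 1).choose 2 = 0 := by
      apply Finset.sum_eq_zero
      intro x hx
      rw [Finset.mem_Ico] at hx
      have e : r - x + 1 = 1 := by omega
      rw [e]
      simp
    rw [this, add_zero]
  rw [sum_succ_mul_eq_tails (fun x => ∑ b ∈ Finset.range M, hst I 2 x b) M, ← hC]
  have hle : ∀ j ∈ Finset.range M,
      ∑ x ∈ Finset.Ico j M, ∑ b ∈ Finset.range M, hst I 2 x b ≤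
        ∑ x ∈ Finset.Ico j M, (r - x + 1).choose 2 :=
    fun j hj => htail j (le_of_lt (Finset.mem_range.mp hj))
  refine ⟨Finset.sum_le_sum hle, fun heq => ?_⟩
  have heq' := (Finset.sum_eq_sum_iff_of_le hle).mp heq
  apply eq_mpow_of_hst hI.1 r
  apply eq_simplex (hst I 2) M r hrM hM (hst_anti_z hI.1 2) (hst_stab_xy hI) (hst_stab_xz hI) htotal
  intro i hi
  have hiM : i < M := by omega
  have h1 := heq' i (Finset.mem_range.mpr hiM)
  rw [Finset.sum_eq_sum_Ico_succ_bot hiM, Finset.sum_eq_sum_Ico_succ_bot hiM] at h1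
  by_cases hi1 : i + 1 < M
  · have h2 := heq' (i + 1) (Finset.mem_range.mpr hi1)
    omega
  · have e : i + 1 = M := by omega
    rw [e] at h1
    simpa using h1

end Groth.Agent.Lib.Seat60.Stable
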