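import Mathlib
import Groth.Prelude.Def_SymTen

/-!
# Symmetric tensors of a graded algebra: integrality and the radical criterion (seat 60)

`Csub 𝒜 d` is the subalgebra of the `d`-fold tensor power generated by pure tensors of homogeneous
elements of one common degree; `Dsub 𝒜 d = Csub 𝒜 d ⊓ TS`. The symmetric group acts on `Csub`, with
invariants `Dsub`, so `Csub` is integral over `Dsub`; hence membership in the radical of an ideal of
`Dsub` can be tested on algebra maps from `Csub` to domains (`radical_criterion`).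
-/

set_option autoImplicit false
universe u
open scoped TensorProduct

namespace Groth.Agent.Lib.Seat60.SymTen

variable {A B : Type u} [CommRing A] [CommRing B] [Algebra A B] (𝒜 : ℕ → Submodule A B) (d : ℕ)

/-- The generating set of `Csub`. -/
def gens : Set (⨂[A] _ : Fin d, B) :=
  {t | ∃ (k : ℕ) (b : Fin d → B), (∀ i, b i ∈ 𝒜 k) ∧ t = PiTensorProduct.tprod A b}

/-- The subalgebra generated by pure tensors of homogeneous elements of a common degree. -/
noncomputable def Csub : Subalgebra A (⨂[A] _ : Fin d, B) := Algebra.adjoin A (gens 𝒜 d)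

/-- Its symmetric part. -/
noncomputable def Dsub : Subalgebra A (⨂[A] _ : Fin d, B) := Csub 𝒜 d ⊓ SymTen.TS A B d

variable {𝒜 d}

theorem tprod_mem_Csub {k : ℕ} {b : Fin d → B} (hb : ∀ i, b i ∈ 𝒜 k) :
    PiTensorProduct.tprod A b ∈ Csub 𝒜 d :=
  Algebra.subset_adjoin ⟨k, b, hb, rfl⟩

theorem perm_mem_Csub (σ : Equiv.Perm (Fin d)) {x : ⨂[A] _ : Fin d, B} (hx : x ∈ Csub 𝒜 d) :
    SymTen.perm A B d σ x ∈ Csub 𝒜 d := by
  have h : (Csub 𝒜 d).map (SymTen.perm A B d σ) ≤ Csub 𝒜 d := by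
    rw [Csub, AlgHom.map_adjoin]
    apply Algebra.adjoin_mono
    rintro _ ⟨_, ⟨k, b, hb, rfl⟩, rfl⟩
    exact ⟨k, fun i => b (σ.symm i), fun i => hb _, SymTen.perm_tprod A B d σ b⟩
  exact h ⟨x, hx, rfl⟩

theorem perm_one (x : ⨂[A] _ : Fin d, B) : SymTen.perm A B d 1 x = x := by
  induction x using PiTensorProduct.induction_on with
  | smul_tprod r f => simp; rfl
  | add x y hx hy => simp [hx, hy]

theorem perm_mul (σ τ : Equiv.Perm (Fin d)) (x : ⨂[A] _ : Fin d, B) :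
    SymTen.perm A B d (σ * τ) x = SymTen.perm A B d σ (SymTen.perm A B d τ x) := by
  induction x using PiTensorProduct.induction_on with
  | smul_tprod r f => simp; rfl
  | add x y hx hy => simp [hx, hy]

noncomputable instance : MulSemiringAction (Equiv.Perm (Fin d)) ↥(Csub 𝒜 d) where
  smul σ x := ⟨SymTen.perm A B d σ x.1, perm_mem_Csub σ x.2⟩
  one_smul x := Subtype.ext (perm_one x.1)
  mul_smul σ τ x := Subtype.ext (perm_mul σ τ x.1)
  smul_zero _ := Subtype.ext (map_zero _)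
  smul_add _ _ _ := Subtype.ext (map_add _ _ _)
  smul_one _ := Subtype.ext (map_one _)
  smul_mul _ _ _ := Subtype.ext (map_mul _ _ _)

theorem smul_val (σ : Equiv.Perm (Fin d)) (x : ↥(Csub 𝒜 d)) :
    (σ • x).1 = SymTen.perm A B d σ x.1 := rfl

/-- The inclusion `Dsub → Csub`. -/
noncomputable def incl : ↥(Dsub 𝒜 d) →ₐ[A] ↥(Csub 𝒜 d) := Subalgebra.inclusion inf_le_left

@[simp] theorem incl_val (x : ↥(Dsub 𝒜 d)) : (incl x).1 = x.1 := rfl

noncomputable instance : Algebra ↥(Dsub 𝒜 d) ↥(Csub 𝒜 d) := (incl (𝒜 := 𝒜) (d := d)).toRingHom.toAlgebra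

theorem algebraMap_eq (x : ↥(Dsub 𝒜 d)) : algebraMap ↥(Dsub 𝒜 d) ↥(Csub 𝒜 d) x = incl x := rfl

instance : Algebra.IsInvariant ↥(Dsub 𝒜 d) ↥(Csub 𝒜 d) (Equiv.Perm (Fin d)) where
  isInvariant b hb := by
    refine ⟨⟨b.1, b.2, ?_⟩, Subtype.ext rfl⟩
    intro σ
    rw [← SymTen.perm_apply]
    exact congrArg Subtype.val (hb σ)

instance : Algebra.IsIntegral ↥(Dsub 𝒜 d) ↥(Csub 𝒜 d) :=
  Algebra.IsInvariant.isIntegral _ _ (Equiv.Perm (Fin d))

/-- **Radical criterion.** An element `t` of `Dsub` has a positive power in `Ideal.span G` as soon as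
every `A`-algebra map from `Csub` to a domain which does not kill `t` does not kill some element of `G`. -/
theorem radical_criterion (G : Set ↥(Dsub 𝒜 d)) (t : ↥(Dsub 𝒜 d))
    (H : ∀ (R : Type u) [CommRing R] [IsDomain R] [Algebra A R] (π : ↥(Csub 𝒜 d) →ₐ[A] R),
      π (incl t) ≠ 0 → ∃ x ∈ G, π (incl x) ≠ 0) :
    ∃ m : ℕ, 0 < m ∧ t ^ m ∈ Ideal.span G := by
  suffices h : t ∈ (Ideal.span G).radical by
    obtain ⟨m, hm⟩ := h
    rcases Nat.eq_zero_or_pos m with rfl | hpos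
    · refine ⟨1, one_pos, ?_⟩
      rw [pow_zero] at hm
      rw [(Ideal.eq_top_iff_one _).2 hm]
      trivial
    · exact ⟨m, hpos, hm⟩
  rw [Ideal.radical_eq_sInf, Ideal.mem_sInf]
  rintro 𝔮 ⟨hG, h𝔮⟩
  by_contra ht
  have := h𝔮
  obtain ⟨𝔔, -, h𝔔, hover⟩ := Ideal.exists_ideal_over_prime_of_isIntegral 𝔮 (⊥ : Ideal ↥(Csub 𝒜 d))
    (by
      intro x hx
      rw [Ideal.mem_comap, Ideal.mem_bot, algebraMap_eq] at hx
      have : x = 0 := Subtype.ext (by simpa using congrArg Subtype.val hx)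
      rw [this]; exact 𝔮.zero_mem)
  have := h𝔔
  have hmem : ∀ x : ↥(Dsub 𝒜 d), incl x ∈ 𝔔 ↔ x ∈ 𝔮 := by
    intro x
    rw [← hover, Ideal.mem_comap, algebraMap_eq]
  obtain ⟨x, hxG, hx⟩ := H (↥(Csub 𝒜 d) ⧸ 𝔔) (Ideal.Quotient.mkₐ A 𝔔) (by
    rw [Ideal.Quotient.mkₐ_eq_mk, Ne, Ideal.Quotient.eq_zero_iff_mem, hmem]
    exact ht)
  rw [Ideal.Quotient.mkₐ_eq_mk, Ne, Ideal.Quotient.eq_zero_iff_mem, hmem] at hx
  exact hx (hG (Ideal.subset_span hxG))

end Groth.Agent.Lib.Seat60.SymTen
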