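import Mathlib
import Groth.Agent.Lib.Seat60SymTenA

/-!
# Symmetric tensors of a graded algebra: reduction to degree one (seat 60)

* `ev π` : extension by zero to the whole tensor power of an algebra map `π : Csub → R`.
* `multilinear_mem_of_span` : a multilinear map sends tuples from spans into a submodule as soon as it
  does so on tuples of generators.
* `le_span_mul` : if `B` is generated in degree one then `𝒜 (k+1)` is spanned by `𝒜 1 * 𝒜 k`.
* `exists_deg_one` : if `π t ≠ 0` for `t` a combination of degree-`k` pure tensors (`k > 0`), then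
  `π` does not kill some pure tensor of degree-one elements.
-/

set_option autoImplicit false
universe u
open scoped TensorProduct

namespace Groth.Agent.Lib.Seat60.SymTen

variable {A B : Type u} [CommRing A] [CommRing B] [Algebra A B] {𝒜 : ℕ → Submodule A B} {d : ℕ}

section ev

variable {R : Type*} [CommRing R] [Algebra A R] (π : ↥(Csub 𝒜 d) →ₐ[A] R)

open Classical in
/-- Extension by zero of `π` to the whole tensor power. -/
noncomputable def ev (z : ⨂[A] _ : Fin d, B) : R :=
  if h : z ∈ Csub 𝒜 d then π ⟨z, h⟩ else 0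

theorem ev_of_mem {z : ⨂[A] _ : Fin d, B} (h : z ∈ Csub 𝒜 d) : ev π z = π ⟨z, h⟩ := dif_pos h

theorem ev_mul {x y : ⨂[A] _ : Fin d, B} (hx : x ∈ Csub 𝒜 d) (hy : y ∈ Csub 𝒜 d) :
    ev π (x * y) = ev π x * ev π y := by
  rw [ev_of_mem π (mul_mem hx hy), ev_of_mem π hx, ev_of_mem π hy, ← map_mul]; rfl

theorem ev_add {x y : ⨂[A] _ : Fin d, B} (hx : x ∈ Csub 𝒜 d) (hy : y ∈ Csub 𝒜 d) :
    ev π (x + y) = ev π x + ev π y := by
  rw [ev_of_mem π (add_mem hx hy), ev_of_mem π hx, ev_of_mem π hy, ← map_add]; rfl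

theorem ev_smul (a : A) {x : ⨂[A] _ : Fin d, B} (hx : x ∈ Csub 𝒜 d) :
    ev π (a • x) = a • ev π x := by
  rw [ev_of_mem π ((Csub 𝒜 d).smul_mem hx a), ev_of_mem π hx, ← map_smul]; rfl

theorem ev_one : ev π (1 : ⨂[A] _ : Fin d, B) = 1 := by
  rw [ev_of_mem π (one_mem _), ← map_one π]; rfl

theorem ev_zero : ev π (0 : ⨂[A] _ : Fin d, B) = 0 := by
  rw [ev_of_mem π (zero_mem _), ← map_zero π]; rfl

theorem ev_sum {ι : Type*} (s : Finset ι) (f : ι → ⨂[A] _ : Fin d, B)
    (h : ∀ i ∈ s, f i ∈ Csub 𝒜 d) : ev π (∑ i ∈ s, f i) = ∑ i ∈ s, ev π (f i) := by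
  classical
  induction s using Finset.induction_on with
  | empty => simp [ev_zero]
  | insert i s hi ih =>
    rw [Finset.sum_insert hi, Finset.sum_insert hi,
      ev_add π (h i (Finset.mem_insert_self i s))
        (sum_mem fun j hj => h j (Finset.mem_insert_of_mem hj)),
      ih fun j hj => h j (Finset.mem_insert_of_mem hj)]

theorem ev_prod {ι : Type*} (s : Finset ι) (f : ι → ⨂[A] _ : Fin d, B)
    (h : ∀ i ∈ s, f i ∈ Csub 𝒜 d) : ev π (∏ i ∈ s, f i) = ∏ i ∈ s, ev π (f i) := by
  classical
  induction s using Finset.induction_on with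
  | empty => simp [ev_one]
  | insert i s hi ih =>
    rw [Finset.prod_insert hi, Finset.prod_insert hi,
      ev_mul π (h i (Finset.mem_insert_self i s))
        (prod_mem fun j hj => h j (Finset.mem_insert_of_mem hj)),
      ih fun j hj => h j (Finset.mem_insert_of_mem hj)]

theorem ev_pow {x : ⨂[A] _ : Fin d, B} (hx : x ∈ Csub 𝒜 d) (n : ℕ) :
    ev π (x ^ n) = ev π x ^ n := by
  rw [ev_of_mem π (pow_mem hx n), ev_of_mem π hx, ← map_pow]; rfl

end ev

/-- A multilinear map sends tuples of elements of the spans of the `S i` into a submodule `P` as soon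
as it sends tuples of elements of the `S i` into `P`. -/
theorem multilinear_mem_of_span {ι : Type*} [Finite ι] {M : ι → Type*} {N : Type*}
    [∀ i, AddCommGroup (M i)] [∀ i, Module A (M i)] [AddCommGroup N] [Module A N]
    (f : MultilinearMap A M N) (S : ∀ i, Set (M i)) (P : Submodule A N)
    (h : ∀ z : ∀ i, M i, (∀ i, z i ∈ S i) → f z ∈ P) (c : ∀ i, M i)
    (hc : ∀ i, c i ∈ Submodule.span A (S i)) : f c ∈ P := by
  classical
  cases nonempty_fintype ι
  have key : ∀ F : Finset ι, ∀ c : ∀ i, M i, (∀ i ∈ F, c i ∈ Submodule.span A (S i)) →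
      (∀ i, i ∉ F → c i ∈ S i) → f c ∈ P := by
    intro F
    induction F using Finset.induction_on with
    | empty => exact fun c _ hS => h c fun i => hS i (Finset.notMem_empty i)
    | insert i₀ F hi₀ ih =>
      intro c hspan hS
      have hle : Submodule.span A (S i₀) ≤ P.comap (f.toLinearMap c i₀) := by
        rw [Submodule.span_le]
        intro b hb
        show f.toLinearMap c i₀ b ∈ P
        rw [MultilinearMap.toLinearMap_apply]
        apply ih
        · intro i hi
          have hne : i ≠ i₀ := fun he => hi₀ (he ▸ hi)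
          rw [Function.update_of_ne hne]
          exact hspan i (Finset.mem_insert_of_mem hi)
        · intro i hi
          by_cases he : i = i₀
          · subst he
            rw [Function.update_self]
            exact hb
          · rw [Function.update_of_ne he]
            exact hS i (by simp [Finset.mem_insert, he, hi])
      have := hle (hspan i₀ (Finset.mem_insert_self i₀ F))
      rw [Submodule.mem_comap, MultilinearMap.toLinearMap_apply, Function.update_eq_self] at this
      exact this
  exact key Finset.univ c (fun i _ => hc i) (fun i hi => absurd (Finset.mem_univ i) hi)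

section gen

variable [GradedAlgebra 𝒜]

theorem mul_mem_span_mul {a b : ℕ} {x y : B}
    (hx : x ∈ Submodule.span A {z | ∃ u ∈ 𝒜 1, ∃ v ∈ 𝒜 a, z = u * v}) (hy : y ∈ 𝒜 b) :
    x * y ∈ Submodule.span A {z | ∃ u ∈ 𝒜 1, ∃ v ∈ 𝒜 (a + b), z = u * v} := by
  induction hx using Submodule.span_induction with
  | mem x hx =>
    obtain ⟨u, hu, v, hv, rfl⟩ := hx
    exact Submodule.subset_span ⟨u, hu, v * y, SetLike.GradedMul.mul_mem hv hy, mul_assoc u v y⟩
  | zero => rw [zero_mul]; exact zero_mem _
  | add x x' _ _ ihx ihx' => rw [add_mul]; exact add_mem ihx ihx'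
  | smul r x _ ih => rw [smul_mul_assoc]; exact Submodule.smul_mem _ r ih

/-- If `B` is generated in degree one then `𝒜 (k+1)` is spanned by the products `𝒜 1 * 𝒜 k`. -/
theorem le_span_mul (hgen : Algebra.adjoin A (𝒜 1 : Set B) = ⊤) (k : ℕ) :
    𝒜 (k + 1) ≤ Submodule.span A {z | ∃ u ∈ 𝒜 1, ∃ v ∈ 𝒜 k, z = u * v} := by
  classical
  have hmon : ∀ m ∈ Submonoid.closure (𝒜 1 : Set B), ∃ e, m ∈ 𝒜 e ∧
      ∀ e', e = e' + 1 → m ∈ Submodule.span A {z | ∃ u ∈ 𝒜 1, ∃ v ∈ 𝒜 e', z = u * v} := by
    intro m hm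
    induction hm using Submonoid.closure_induction with
    | mem x hx =>
      refine ⟨1, hx, fun e' he => ?_⟩
      obtain rfl : e' = 0 := by omega
      exact Submodule.subset_span ⟨x, hx, 1, SetLike.GradedOne.one_mem, (mul_one x).symm⟩
    | one => exact ⟨0, SetLike.GradedOne.one_mem, fun e' he => by omega⟩
    | mul x y _ _ ihx ihy =>
      obtain ⟨e1, hx1, hx2⟩ := ihx
      obtain ⟨e2, hy1, hy2⟩ := ihy
      refine ⟨e1 + e2, SetLike.GradedMul.mul_mem hx1 hy1, ?_⟩
      intro e' he
      rcases Nat.eq_zero_or_pos e1 with rfl | h1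
      · have h2 := hy2 e' (by omega)
        have h3 := mul_mem_span_mul h2 hx1
        rw [add_zero, mul_comm] at h3
        exact h3
      · obtain ⟨e1', rfl⟩ : ∃ e1', e1 = e1' + 1 := ⟨e1 - 1, by omega⟩
        have h2 := hx2 e1' rfl
        have h3 := mul_mem_span_mul h2 hy1
        have he'' : e1' + e2 = e' := by omega
        rw [he''] at h3
        exact h3
  intro b hb
  have hb' : b ∈ Subalgebra.toSubmodule (Algebra.adjoin A (𝒜 1 : Set B)) := by
    rw [hgen]; trivial
  rw [Algebra.adjoin_eq_span] at hb'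
  have hle : Submodule.span A (Submonoid.closure (𝒜 1 : Set B) : Set B) ≤
      (Submodule.span A {z | ∃ u ∈ 𝒜 1, ∃ v ∈ 𝒜 k, z = u * v}).comap (GradedAlgebra.proj 𝒜 (k + 1)) := by
    rw [Submodule.span_le]
    intro m hm
    obtain ⟨e, hme, hm2⟩ := hmon m hm
    rw [SetLike.mem_coe, Submodule.mem_comap, GradedAlgebra.proj_apply]
    by_cases he : e = k + 1
    · subst he
      rw [DirectSum.decompose_of_mem_same 𝒜 hme]
      exact hm2 k rfl
    · rw [DirectSum.decompose_of_mem_ne 𝒜 hme he]
      exact zero_mem _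
  have := hle hb'
  rw [Submodule.mem_comap, GradedAlgebra.proj_apply, DirectSum.decompose_of_mem_same 𝒜 hb] at this
  exact this

end gen

end Groth.Agent.Lib.Seat60.SymTen
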