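import Mathlib
import Groth.Agent.Lib.Seat60SymTenB

/-!
# Symmetric tensors of a graded algebra: degree-one witnesses and the product identity (seat 60)
-/

set_option autoImplicit false
universe u
open scoped TensorProduct

namespace Groth.Agent.Lib.Seat60.SymTen

variable {A B : Type u} [CommRing A] [CommRing B] [Algebra A B] {𝒜 : ℕ → Submodule A B} {d : ℕ}

section

variable {R : Type*} [CommRing R] [Algebra A R] (π : ↥(Csub 𝒜 d) →ₐ[A] R)

/-- The kernel of `π`, as a submodule of the tensor power. -/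
noncomputable def kerT : Submodule A (⨂[A] _ : Fin d, B) :=
  (LinearMap.ker π.toLinearMap).map (Csub 𝒜 d).val.toLinearMap

theorem mem_kerT {z : ⨂[A] _ : Fin d, B} : z ∈ kerT π ↔ ∃ h : z ∈ Csub 𝒜 d, π ⟨z, h⟩ = 0 := by
  constructor
  · rintro ⟨x, hx, rfl⟩
    exact ⟨x.2, hx⟩
  · rintro ⟨h, hz⟩
    exact ⟨⟨z, h⟩, hz, rfl⟩

/-- If `π t ≠ 0` for `t` a combination of degree-`k` pure tensors (`k > 0`) then `π` does not kill
some pure tensor of elements of degree one. -/
theorem exists_deg_one [GradedAlgebra 𝒜] (hgen : Algebra.adjoin A (𝒜 1 : Set B) = ⊤) (k : ℕ) (hk : 0 < k)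
    (t : ⨂[A] _ : Fin d, B) (htC : t ∈ Csub 𝒜 d)
    (htk : t ∈ Submodule.span A
      {s | ∃ b : Fin d → B, (∀ i, b i ∈ 𝒜 k) ∧ s = PiTensorProduct.tprod A b})
    (hne : π ⟨t, htC⟩ ≠ 0) :
    ∃ c : Fin d → B, (∀ i, c i ∈ 𝒜 1) ∧ ev π (PiTensorProduct.tprod A c) ≠ 0 := by
  by_contra hall
  push Not at hall
  obtain ⟨k, rfl⟩ : ∃ k', k = k' + 1 := ⟨k - 1, by omega⟩
  apply hne
  have hle : Submodule.span A
      {s | ∃ b : Fin d → B, (∀ i, b i ∈ 𝒜 (k + 1)) ∧ s = PiTensorProduct.tprod A b} ≤ kerT π := by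
    rw [Submodule.span_le]
    rintro _ ⟨b, hb, rfl⟩
    refine multilinear_mem_of_span (PiTensorProduct.tprod A)
      (fun _ => {z | ∃ u ∈ 𝒜 1, ∃ v ∈ 𝒜 k, z = u * v}) (kerT π) ?_ b
      (fun i => le_span_mul hgen k (hb i))
    intro z hz
    choose u hu v hv hz using hz
    have hz' : z = u * v := funext hz
    have h1 : PiTensorProduct.tprod A z = PiTensorProduct.tprod A u * PiTensorProduct.tprod A v := by
      rw [PiTensorProduct.tprod_mul_tprod, hz']
    have hu0 := hall u hu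
    rw [ev_of_mem π (tprod_mem_Csub hu)] at hu0
    rw [mem_kerT]
    refine ⟨h1 ▸ mul_mem (tprod_mem_Csub hu) (tprod_mem_Csub hv), ?_⟩
    have : (⟨PiTensorProduct.tprod A z, h1 ▸ mul_mem (tprod_mem_Csub hu) (tprod_mem_Csub hv)⟩ :
        ↥(Csub 𝒜 d)) = ⟨_, tprod_mem_Csub hu⟩ * ⟨_, tprod_mem_Csub hv⟩ := Subtype.ext h1
    rw [this, map_mul, hu0, zero_mul]
  obtain ⟨h, h0⟩ := (mem_kerT π).1 (hle htk)
  exact h0

end

/-- The product identity: `c^{⊗} * ∏_j (c with j-th entry b j)^{⊗} = b^{⊗} * (c^{⊗})^d`. -/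
theorem tprod_mul_prod_update (c b : Fin d → B) :
    PiTensorProduct.tprod A c * ∏ j, PiTensorProduct.tprod A (Function.update c j (b j)) =
      PiTensorProduct.tprod A b * PiTensorProduct.tprod A c ^ d := by
  rw [← PiTensorProduct.tprod_prod, PiTensorProduct.tprod_mul_tprod]
  have hpow : PiTensorProduct.tprod A c ^ d = PiTensorProduct.tprod A (c ^ d) :=
    (map_pow (PiTensorProduct.tprodMonoidHom A) c d).symm
  rw [hpow, PiTensorProduct.tprod_mul_tprod]
  congr 1
  funext i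
  simp only [Pi.mul_apply, Finset.prod_apply, Pi.pow_apply]
  have h1 : ∏ j, Function.update c j (b j) i = b i * c i ^ (d - 1) := by
    rw [← Finset.mul_prod_erase Finset.univ _ (Finset.mem_univ i), Function.update_self]
    congr 1
    rw [Finset.prod_congr rfl (g := fun _ => c i)]
    · rw [Finset.prod_const, Finset.card_erase_of_mem (Finset.mem_univ i), Finset.card_univ,
        Fintype.card_fin]
    · intro j hj
      rw [Function.update_of_ne (Finset.ne_of_mem_erase hj).symm]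
  rw [h1]
  have hd : 0 < d := Fin.pos i
  obtain ⟨e, rfl⟩ : ∃ e, d = e + 1 := ⟨d - 1, by omega⟩
  simp only [Nat.add_sub_cancel]
  ring

theorem tprod_pow (c : Fin d → B) (n : ℕ) :
    PiTensorProduct.tprod A (fun i => c i ^ n) = PiTensorProduct.tprod A c ^ n :=
  map_pow (PiTensorProduct.tprodMonoidHom A) c n

theorem pow_mem_graded' [GradedAlgebra 𝒜] {c : Fin d → B} (hc : ∀ i, c i ∈ 𝒜 1) (n : ℕ) (i : Fin d) :
    c i ^ n ∈ 𝒜 n := by
  have := SetLike.pow_mem_graded n (hc i)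
  simpa using this

end Groth.Agent.Lib.Seat60.SymTen
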