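import Mathlib
import Groth.Agent.Lib.Seat60SymTenC

/-!
# Symmetric tensors of a graded algebra: the degree-one part of `Dsub` (seat 60)

Core of S13390: if an algebra map `π` from `Csub` to a domain does not kill a pure tensor of
degree-one elements, then it does not kill some symmetric combination of such pure tensors.
-/

set_option autoImplicit false
universe u
open scoped TensorProduct
open Polynomial

namespace Groth.Agent.Lib.Seat60.SymTen

variable {A B : Type u} [CommRing A] [CommRing B] [Algebra A B] {𝒜 : ℕ → Submodule A B} {d : ℕ}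

/-- The sum of the pure tensors `c ∘ g` over the maps `g` of weight `n`. -/
noncomputable def symSum (c : Fin d → B) (n : ℕ) : ⨂[A] _ : Fin d, B :=
  ∑ g ∈ (Finset.univ : Finset (Fin d → Fin d)).filter (fun g => ∑ j, (g j : ℕ) = n),
    PiTensorProduct.tprod A (fun i => c (g i))

theorem symSum_mem_span (c : Fin d → B) (hc : ∀ i, c i ∈ 𝒜 1) (n : ℕ) :
    symSum (A := A) c n ∈ Submodule.span A
      {s | ∃ b : Fin d → B, (∀ i, b i ∈ 𝒜 1) ∧ s = PiTensorProduct.tprod A b} :=
  sum_mem fun g _ => Submodule.subset_span ⟨fun i => c (g i), fun _ => hc _, rfl⟩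

theorem symSum_mem_Csub (c : Fin d → B) (hc : ∀ i, c i ∈ 𝒜 1) (n : ℕ) :
    symSum (A := A) c n ∈ Csub 𝒜 d :=
  sum_mem fun _ _ => tprod_mem_Csub (k := 1) fun _ => hc _

theorem symSum_mem_TS (c : Fin d → B) (n : ℕ) : symSum (A := A) c n ∈ SymTen.TS A B d := by
  intro σ
  rw [symSum, map_sum]
  simp only [PiTensorProduct.reindex_tprod]
  refine Finset.sum_bij' (fun g _ => fun i => g (σ.symm i)) (fun g _ => fun i => g (σ i)) ?_ ?_ ?_ ?_ ?_
  · intro g hg
    rw [Finset.mem_filter] at hg ⊢
    refine ⟨Finset.mem_univ _, ?_⟩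
    rw [← hg.2]
    exact Equiv.sum_comp σ.symm (fun j => (g j : ℕ))
  · intro g hg
    rw [Finset.mem_filter] at hg ⊢
    refine ⟨Finset.mem_univ _, ?_⟩
    rw [← hg.2]
    exact Equiv.sum_comp σ (fun j => (g j : ℕ))
  · intro g _
    funext i
    simp
  · intro g _
    funext i
    simp
  · intro g _
    rfl

section core

variable {R : Type u} [CommRing R] [IsDomain R] [Algebra A R] (π : ↥(Csub 𝒜 d) →ₐ[A] R)

theorem core_degOne (c : Fin d → B) (hc : ∀ i, c i ∈ 𝒜 1)
    (hne : ev π (PiTensorProduct.tprod A c) ≠ 0) :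
    ∃ n, ev π (symSum (A := A) c n) ≠ 0 := by
  classical
  set γ := ev π (PiTensorProduct.tprod A c) with hγ
  set lam : Fin d → B → R := fun j b => ev π (PiTensorProduct.tprod A (Function.update c j b))
    with hlam
  set P : R[X] := ∏ j : Fin d, ∑ i : Fin d, C (lam j (c i)) * X ^ (i : ℕ) with hP
  have hP0 : P ≠ 0 := by
    rw [hP, Finset.prod_ne_zero_iff]
    intro j _ h0
    have h1 := congrArg (fun p : R[X] => p.coeff (j : ℕ)) h0
    simp only [Polynomial.finsetSum_coeff, coeff_C_mul_X_pow, coeff_zero] at h1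
    rw [Finset.sum_eq_single j] at h1
    · simp only [if_true] at h1
      rw [hlam] at h1
      simp only [Function.update_eq_self] at h1
      exact hne h1
    · intro i _ hij
      rw [if_neg]
      exact fun h => hij (Fin.ext h).symm
    · intro h; exact absurd (Finset.mem_univ j) h
  -- the key product identity
  have hkey : ∀ g : Fin d → Fin d,
      γ * ∏ j, lam j (c (g j)) = ev π (PiTensorProduct.tprod A (fun i => c (g i))) * γ ^ d := by
    intro g
    have h1 := congrArg (ev π) (tprod_mul_prod_update (A := A) c (fun i => c (g i)))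
    rw [ev_mul π (tprod_mem_Csub hc)
        (prod_mem fun j _ => tprod_mem_Csub (k := 1) (fun i => by
          by_cases h : i = j
          · subst h; rw [Function.update_self]; exact hc _
          · rw [Function.update_of_ne h]; exact hc _)),
      ev_prod π _ _ (fun j _ => tprod_mem_Csub (k := 1) (fun i => by
          by_cases h : i = j
          · subst h; rw [Function.update_self]; exact hc _
          · rw [Function.update_of_ne h]; exact hc _)),
      ev_mul π (tprod_mem_Csub (k := 1) fun i => hc _) (pow_mem (tprod_mem_Csub hc) d),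
      ev_pow π (tprod_mem_Csub hc)] at h1
    exact h1
  -- coefficients of P
  have hcoeff : ∀ n, P.coeff n = ∑ g ∈ (Finset.univ : Finset (Fin d → Fin d)).filter
      (fun g => ∑ j, (g j : ℕ) = n), ∏ j, lam j (c (g j)) := by
    intro n
    rw [hP, Finset.prod_univ_sum, Fintype.piFinset_univ, Polynomial.finsetSum_coeff,
      Finset.sum_filter]
    refine Finset.sum_congr rfl fun g _ => ?_
    rw [Finset.prod_mul_distrib, Finset.prod_pow_eq_pow_sum, ← map_prod, coeff_C_mul_X_pow]
    by_cases h : ∑ j, (g j : ℕ) = n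
    · rw [if_pos h, if_pos h.symm]
    · rw [if_neg h, if_neg (fun h' => h h'.symm)]
  obtain ⟨n, hn⟩ : ∃ n, P.coeff n ≠ 0 := ⟨P.natDegree, by
    rw [coeff_natDegree]; exact leadingCoeff_ne_zero.2 hP0⟩
  refine ⟨n, fun h0 => hn ?_⟩
  have h2 : γ * P.coeff n = ev π (symSum (A := A) c n) * γ ^ d := by
    rw [hcoeff, Finset.mul_sum, symSum, ev_sum π _ _ (fun g _ => tprod_mem_Csub (k := 1) fun i => hc _),
      Finset.sum_mul]
    exact Finset.sum_congr rfl fun g _ => hkey g
  rw [h0, zero_mul] at h2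
  exact (mul_eq_zero.1 h2).resolve_left hne

end core

/-- S13390 with `D` spelled out as `Dsub`. -/
theorem main_degOne [GradedAlgebra 𝒜] (hgen : Algebra.adjoin A (𝒜 1 : Set B) = ⊤) (k : ℕ) (hk : 0 < k)
    (t : ⨂[A] _ : Fin d, B) (htD : t ∈ Dsub 𝒜 d)
    (htk : t ∈ Submodule.span A
      {s | ∃ b : Fin d → B, (∀ i, b i ∈ 𝒜 k) ∧ s = PiTensorProduct.tprod A b}) :
    ∃ m : ℕ, 0 < m ∧ (⟨t, htD⟩ : ↥(Dsub 𝒜 d)) ^ m ∈
      Ideal.span {x : ↥(Dsub 𝒜 d) | (x : ⨂[A] _ : Fin d, B) ∈
        Submodule.span A {s | ∃ b : Fin d → B, (∀ i, b i ∈ 𝒜 1) ∧ s = PiTensorProduct.tprod A b}} := by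
  apply radical_criterion
  intro R _ _ _ π hπ
  obtain ⟨c, hc, hne⟩ := exists_deg_one π hgen k hk t htD.1 htk hπ
  obtain ⟨n, hn⟩ := core_degOne π c hc hne
  refine ⟨⟨symSum c n, symSum_mem_Csub c hc n, symSum_mem_TS c n⟩, symSum_mem_span c hc n, ?_⟩
  rw [ev_of_mem π (symSum_mem_Csub c hc n)] at hn
  exact hn

end Groth.Agent.Lib.Seat60.SymTen
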