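import Mathlib
import Groth.Agent.Lib.Seat60SymTenC
import Groth.Agent.Lib.Seat33PoleAlg

/-!
# Symmetric tensors of a graded algebra: diagonal tensors of positive degree (seat 60)

Core of S13391: if an algebra map `π` from `Csub` to a domain does not kill a pure tensor of
degree-one elements, then it does not kill `f ⊗ ⋯ ⊗ f` for some homogeneous `f` of positive degree
(graded prime avoidance applied to the `d` "points" `Psi j`).
-/

set_option autoImplicit false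
universe u
open scoped TensorProduct
open Polynomial

namespace Groth.Agent.Lib.Seat60.SymTen

variable {A B : Type u} [CommRing A] [CommRing B] [Algebra A B] {𝒜 : ℕ → Submodule A B} {d : ℕ}

section Psi

variable [GradedAlgebra 𝒜] {R : Type u} [CommRing R] [Algebra A R] (π : ↥(Csub 𝒜 d) →ₐ[A] R)
  (c : Fin d → B) (j : Fin d)

/-- The value at the `j`-th point: `b ↦ π (c_1^n ⊗ ⋯ ⊗ b ⊗ ⋯ ⊗ c_d^n)`, `b` in the `j`-th slot. -/
noncomputable def lamN (n : ℕ) (b : B) : R :=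
  ev π (PiTensorProduct.tprod A (Function.update (fun i => c i ^ n) j b))

variable {c}

theorem update_pow_mem (hc : ∀ i, c i ∈ 𝒜 1) (n : ℕ) {b : B} (hb : b ∈ 𝒜 n) (i : Fin d) :
    Function.update (fun i => c i ^ n) j b i ∈ 𝒜 n := by
  by_cases h : i = j
  · subst h; rw [Function.update_self]; exact hb
  · rw [Function.update_of_ne h]; exact pow_mem_graded' hc n i

theorem lamN_add (hc : ∀ i, c i ∈ 𝒜 1) (n : ℕ) {b b' : B} (hb : b ∈ 𝒜 n) (hb' : b' ∈ 𝒜 n) :
    lamN π c j n (b + b') = lamN π c j n b + lamN π c j n b' := by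
  unfold lamN
  rw [MultilinearMap.map_update_add, ev_add π (tprod_mem_Csub (update_pow_mem j hc n hb))
    (tprod_mem_Csub (update_pow_mem j hc n hb'))]

omit [GradedAlgebra 𝒜] in
theorem lamN_zero (n : ℕ) : lamN π c j n 0 = 0 := by
  unfold lamN
  rw [MultilinearMap.map_update_zero, ev_zero]

theorem lamN_mul (hc : ∀ i, c i ∈ 𝒜 1) {n m : ℕ} {b b' : B} (hb : b ∈ 𝒜 n) (hb' : b' ∈ 𝒜 m) :
    lamN π c j (n + m) (b * b') = lamN π c j n b * lamN π c j m b' := by
  unfold lamN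
  rw [← ev_mul π (tprod_mem_Csub (update_pow_mem j hc n hb))
    (tprod_mem_Csub (update_pow_mem j hc m hb')), PiTensorProduct.tprod_mul_tprod]
  congr 2
  funext i
  by_cases h : i = j
  · subst h; simp
  · simp [Function.update_of_ne h, pow_add]

omit [GradedAlgebra 𝒜] in
theorem lamN_one : lamN π c j 0 1 = 1 := by
  unfold lamN
  have : Function.update (fun i => c i ^ 0) j (1 : B) = 1 := by
    funext i
    by_cases h : i = j
    · subst h; simp
    · simp [Function.update_of_ne h]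
  rw [this]
  exact ev_one π

variable (c)

/-- The degree-`n` component of `Psi`. -/
noncomputable def PsiComp (hc : ∀ i, c i ∈ 𝒜 1) (n : ℕ) : 𝒜 n →+ R[X] where
  toFun b := monomial n (lamN π c j n b.1)
  map_zero' := by simp [lamN_zero]
  map_add' x y := by rw [Submodule.coe_add, lamN_add π j hc n x.2 y.2, map_add]

theorem PsiComp_apply (hc : ∀ i, c i ∈ 𝒜 1) (n : ℕ) (b : 𝒜 n) :
    PsiComp π c j hc n b = monomial n (lamN π c j n b.1) := rfl

theorem PsiComp_one (hc : ∀ i, c i ∈ 𝒜 1) :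
    PsiComp π c j hc 0 (GradedMonoid.GOne.one (A := fun i : ℕ => ↥(𝒜 i))) = 1 := by
  rw [PsiComp_apply, SetLike.coe_gOne, lamN_one, monomial_zero_one]

theorem PsiComp_mul (hc : ∀ i, c i ∈ 𝒜 1) {n m : ℕ} (a : 𝒜 n) (b : 𝒜 m) :
    PsiComp π c j hc (n + m) (GradedMonoid.GMul.mul (A := fun i : ℕ => ↥(𝒜 i)) a b) =
      PsiComp π c j hc n a * PsiComp π c j hc m b := by
  rw [PsiComp_apply, PsiComp_apply, PsiComp_apply, SetLike.coe_gMul, lamN_mul π j hc a.2 b.2,
    monomial_mul_monomial]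

/-- The `j`-th point as a ring map `B → R[X]`, `b ↦ ∑ₙ lamN n bₙ Xⁿ`. -/
noncomputable def Psi (hc : ∀ i, c i ∈ 𝒜 1) : B →+* R[X] :=
  (DirectSum.toSemiring (PsiComp π c j hc) (PsiComp_one π c j hc)
    (fun a b => PsiComp_mul π c j hc a b)).comp
    (DirectSum.decomposeRingEquiv 𝒜).toRingHom

theorem Psi_of_mem (hc : ∀ i, c i ∈ 𝒜 1) {n : ℕ} {b : B} (hb : b ∈ 𝒜 n) :
    Psi π c j hc b = monomial n (lamN π c j n b) := by
  unfold Psi
  rw [RingHom.comp_apply]
  show DirectSum.toSemiring _ _ _ (DirectSum.decompose 𝒜 b) = _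
  rw [DirectSum.decompose_of_mem 𝒜 hb, DirectSum.toSemiring_of]
  rfl

end Psi

section core

variable [GradedAlgebra 𝒜] {R : Type u} [CommRing R] [IsDomain R] [Algebra A R]
  (π : ↥(Csub 𝒜 d) →ₐ[A] R)

theorem core_tpow (c : Fin d → B) (hc : ∀ i, c i ∈ 𝒜 1)
    (hne : ev π (PiTensorProduct.tprod A c) ≠ 0) :
    ∃ (n : ℕ) (f : B), 0 < n ∧ f ∈ 𝒜 n ∧ ev π (PiTensorProduct.tprod A (fun _ : Fin d => f)) ≠ 0 := by
  classical
  obtain ⟨q, hq, θ, hθ, hav⟩ := Groth.Agent.Lib.Seat33.PoleAlg.graded_prime_avoidance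
    (fun n => (𝒜 n).toAddSubgroup) (SetLike.GradedOne.one_mem (A := 𝒜))
    (fun i j x hx y hy => SetLike.GradedMul.mul_mem (A := 𝒜) hx hy)
    (Finset.univ.image (fun j => RingHom.ker (Psi π c j hc)))
    (by
      intro 𝔮 h𝔮
      obtain ⟨j, -, rfl⟩ := Finset.mem_image.1 h𝔮
      exact RingHom.ker_isPrime _)
    (by
      intro 𝔮 h𝔮
      obtain ⟨j, -, rfl⟩ := Finset.mem_image.1 h𝔮
      refine ⟨1, le_rfl, c j, hc j, ?_⟩
      rw [RingHom.mem_ker, Psi_of_mem π c j hc (hc j), monomial_eq_zero_iff, lamN]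
      simp only [pow_one, Function.update_eq_self]
      exact hne)
  refine ⟨q, θ, hq, hθ, ?_⟩
  have hlam : ∀ j, lamN π c j q θ ≠ 0 := by
    intro j h0
    apply hav _ (Finset.mem_image_of_mem _ (Finset.mem_univ j))
    rw [RingHom.mem_ker, Psi_of_mem π c j hc hθ, h0, map_zero]
  have hcq : ev π (PiTensorProduct.tprod A (fun i => c i ^ q)) ≠ 0 := by
    rw [tprod_pow, ev_pow π (tprod_mem_Csub hc)]
    exact pow_ne_zero _ hne
  have h1 := congrArg (ev π) (tprod_mul_prod_update (A := A) (fun i => c i ^ q) (fun _ => θ))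
  rw [ev_mul π (tprod_mem_Csub (pow_mem_graded' hc q))
      (prod_mem fun j _ => tprod_mem_Csub (update_pow_mem j hc q hθ)),
    ev_prod π _ _ (fun j _ => tprod_mem_Csub (update_pow_mem j hc q hθ)),
    ev_mul π (tprod_mem_Csub (k := q) fun _ => hθ)
      (pow_mem (tprod_mem_Csub (pow_mem_graded' hc q)) d)] at h1
  intro h0
  rw [h0, zero_mul] at h1
  rcases mul_eq_zero.1 h1 with h2 | h2
  · exact hcq h2
  · obtain ⟨j, -, hj⟩ := Finset.prod_eq_zero_iff.1 h2
    exact hlam j hj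

end core

/-- S13391 with `D` spelled out as `Dsub`. -/
theorem main_tpow [GradedAlgebra 𝒜] (hgen : Algebra.adjoin A (𝒜 1 : Set B) = ⊤) (k : ℕ) (hk : 0 < k)
    (t : ⨂[A] _ : Fin d, B) (htD : t ∈ Dsub 𝒜 d)
    (htk : t ∈ Submodule.span A
      {s | ∃ b : Fin d → B, (∀ i, b i ∈ 𝒜 k) ∧ s = PiTensorProduct.tprod A b}) :
    ∃ m : ℕ, 0 < m ∧ (⟨t, htD⟩ : ↥(Dsub 𝒜 d)) ^ m ∈
      Ideal.span {x : ↥(Dsub 𝒜 d) | ∃ (n : ℕ) (f : B), 0 < n ∧ f ∈ 𝒜 n ∧
        (x : ⨂[A] _ : Fin d, B) = PiTensorProduct.tprod A (fun _ : Fin d => f)} := by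
  apply radical_criterion
  intro R _ _ _ π hπ
  obtain ⟨c, hc, hne⟩ := exists_deg_one π hgen k hk t htD.1 htk hπ
  obtain ⟨n, f, hn, hf, hne'⟩ := core_tpow π c hc hne
  have hC : PiTensorProduct.tprod A (fun _ : Fin d => f) ∈ Csub 𝒜 d := tprod_mem_Csub fun _ => hf
  refine ⟨⟨PiTensorProduct.tprod A (fun _ : Fin d => f), hC, ?_⟩, ⟨n, f, hn, hf, rfl⟩, ?_⟩
  · intro σ
    rw [PiTensorProduct.reindex_tprod]
  · rw [ev_of_mem π hC] at hne'
    exact hne'

end Groth.Agent.Lib.Seat60.SymTen
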