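import Mathlib
import Groth.Agent.Lib.Seat60SymTenC

/-!
# Symmetric tensors of a graded algebra: diagonal tensors of degree one (seat 60)

* `exists_forall_ne_zero` : sharp avoidance: `n` nonzero linear forms `M → R` (`R` a domain over `A`,
  `𝔞` the kernel of `A → R`) have a common point of non-vanishing as soon as `n ≤ #κ(𝔞)`.
* `core_tpow_degOne`, `main_tpow_degOne` : core of S13392.
-/

set_option autoImplicit false
universe u
open scoped TensorProduct

namespace Groth.Agent.Lib.Seat60.SymTen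

section avoid

variable {A : Type*} [CommRing A]

theorem exists_rep (𝔞 : Ideal A) [𝔞.IsPrime] (x : 𝔞.ResidueField) :
    ∃ r σ : A, σ ∉ 𝔞 ∧ x * algebraMap A 𝔞.ResidueField σ = algebraMap A 𝔞.ResidueField r := by
  obtain ⟨y, rfl⟩ := IsLocalRing.residue_surjective (R := Localization.AtPrime 𝔞) x
  obtain ⟨⟨r, σ⟩, h⟩ := IsLocalization.surj 𝔞.primeCompl y
  refine ⟨r, σ.1, σ.2, ?_⟩
  have := congrArg (IsLocalRing.residue (Localization.AtPrime 𝔞)) h
  rw [map_mul] at this
  exact this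

variable {M : Type*} [AddCommGroup M] [Module A M] {R : Type*} [CommRing R] [IsDomain R]
  [Algebra A R]

/-- Sharp avoidance for linear forms with values in a domain. -/
theorem exists_forall_ne_zero {ι : Type*} (ℓ : ι → (M →ₗ[A] R)) (𝔞 : Ideal A) [𝔞.IsPrime]
    (h𝔞 : ∀ a : A, algebraMap A R a = 0 ↔ a ∈ 𝔞) (s : Finset ι)
    (hne : ∀ j ∈ s, ∃ m, ℓ j m ≠ 0)
    (hcard : (s.card : Cardinal) ≤ Cardinal.mk 𝔞.ResidueField) :
    ∃ m, ∀ j ∈ s, ℓ j m ≠ 0 := by
  classical
  induction hn : s.card using Nat.strong_induction_on generalizing s with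
  | _ n ih =>
    rcases s.eq_empty_or_nonempty with rfl | ⟨j₀, hj₀⟩
    · exact ⟨0, by simp⟩
    have hlt : (s.erase j₀).card < s.card := Finset.card_erase_lt_of_mem hj₀
    obtain ⟨u, hu⟩ := ih (s.erase j₀).card (hn ▸ hlt) (s.erase j₀)
      (fun j hj => hne j (Finset.mem_of_mem_erase hj))
      (le_trans (by exact_mod_cast hlt.le) hcard) rfl
    by_cases hu0 : ℓ j₀ u = 0
    swap
    · refine ⟨u, fun j hj => ?_⟩
      by_cases h : j = j₀
      · rw [h]; exact hu0
      · exact hu j (Finset.mem_erase.2 ⟨h, hj⟩)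
    obtain ⟨v, hv⟩ := hne j₀ hj₀
    obtain ⟨E, hE⟩ := Cardinal.exists_finset_eq_card hcard
    choose r σ hσ hrσ using exists_rep 𝔞
    have hσR : ∀ x, algebraMap A R (σ x) ≠ 0 := fun x h => hσ x ((h𝔞 _).1 h)
    by_contra hcon
    push Not at hcon
    -- every point of the "line" is killed by some form other than `j₀`
    have hJ : ∀ x ∈ E, ∃ j ∈ s.erase j₀, ℓ j (σ x • v + r x • u) = 0 := by
      intro x _
      obtain ⟨j, hj, hj0⟩ := hcon (σ x • v + r x • u)
      refine ⟨j, Finset.mem_erase.2 ⟨?_, hj⟩, hj0⟩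
      rintro rfl
      rw [map_add, map_smul, map_smul, hu0, smul_zero, add_zero, Algebra.smul_def] at hj0
      exact (mul_ne_zero (hσR x) hv) hj0
    have : Nonempty ι := ⟨j₀⟩
    choose! J hJmem hJ0 using hJ
    have hlt' : (s.erase j₀).card < E.card := hE ▸ hlt
    obtain ⟨x, hx, y, hy, hxy, hJxy⟩ := Finset.exists_ne_map_eq_of_card_lt_of_maps_to hlt' hJmem
    have h1 := hJ0 x hx
    have h2 := hJ0 y hy
    rw [← hJxy] at h2
    rw [map_add, map_smul, map_smul, Algebra.smul_def, Algebra.smul_def] at h1 h2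
    have hb : ℓ (J x) u ≠ 0 := hu _ (hJmem x hx)
    have h3 : algebraMap A R (σ y * r x - σ x * r y) * ℓ (J x) u = 0 := by
      rw [map_sub, map_mul, map_mul]
      linear_combination (algebraMap A R (σ y)) * h1 - (algebraMap A R (σ x)) * h2
    have h4 : σ y * r x - σ x * r y ∈ 𝔞 := (h𝔞 _).1 ((mul_eq_zero.1 h3).resolve_right hb)
    have h5 := Ideal.algebraMap_residueField_eq_zero.2 h4
    rw [map_sub, map_mul, map_mul, ← hrσ x, ← hrσ y, sub_eq_zero] at h5
    have hσκ : ∀ z, algebraMap A 𝔞.ResidueField (σ z) ≠ 0 := fun z h =>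
      hσ z (Ideal.algebraMap_residueField_eq_zero.1 h)
    apply hxy
    have h6 : (algebraMap A 𝔞.ResidueField (σ y) * algebraMap A 𝔞.ResidueField (σ x)) * x =
        (algebraMap A 𝔞.ResidueField (σ y) * algebraMap A 𝔞.ResidueField (σ x)) * y := by
      linear_combination h5
    exact mul_left_cancel₀ (mul_ne_zero (hσκ y) (hσκ x)) h6

end avoid

variable {A B : Type u} [CommRing A] [CommRing B] [Algebra A B] {𝒜 : ℕ → Submodule A B} {d : ℕ}

section core

variable {R : Type u} [CommRing R] [IsDomain R] [Algebra A R]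
  (π : ↥(Csub 𝒜 d) →ₐ[A] R)

theorem update_mem_one {c : Fin d → B} (hc : ∀ i, c i ∈ 𝒜 1) (j : Fin d) {b : B} (hb : b ∈ 𝒜 1)
    (i : Fin d) : Function.update c j b i ∈ 𝒜 1 := by
  by_cases h : i = j
  · subst h; rw [Function.update_self]; exact hb
  · rw [Function.update_of_ne h]; exact hc i

/-- The `j`-th point as a linear form on `𝒜 1`. -/
noncomputable def ell (c : Fin d → B) (hc : ∀ i, c i ∈ 𝒜 1) (j : Fin d) : ↥(𝒜 1) →ₗ[A] R where
  toFun b := ev π (PiTensorProduct.tprod A (Function.update c j b.1))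
  map_add' x y := by
    rw [Submodule.coe_add, MultilinearMap.map_update_add,
      ev_add π (tprod_mem_Csub (update_mem_one hc j x.2)) (tprod_mem_Csub (update_mem_one hc j y.2))]
  map_smul' a x := by
    rw [Submodule.coe_smul, MultilinearMap.map_update_smul,
      ev_smul π a (tprod_mem_Csub (update_mem_one hc j x.2))]
    rfl

omit [IsDomain R] in
theorem ell_apply (c : Fin d → B) (hc : ∀ i, c i ∈ 𝒜 1) (j : Fin d) (b : ↥(𝒜 1)) :
    ell π c hc j b = ev π (PiTensorProduct.tprod A (Function.update c j b.1)) := rfl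

theorem core_tpow_degOne
    (hres : ∀ p : PrimeSpectrum A, (d : Cardinal) ≤ Cardinal.mk p.asIdeal.ResidueField)
    (c : Fin d → B) (hc : ∀ i, c i ∈ 𝒜 1)
    (hne : ev π (PiTensorProduct.tprod A c) ≠ 0) :
    ∃ f : B, f ∈ 𝒜 1 ∧ ev π (PiTensorProduct.tprod A (fun _ : Fin d => f)) ≠ 0 := by
  classical
  have hprime : (RingHom.ker (algebraMap A R)).IsPrime := RingHom.ker_isPrime _
  obtain ⟨θ, hθ⟩ := exists_forall_ne_zero (ell π c hc) (RingHom.ker (algebraMap A R))
    (fun a => (RingHom.mem_ker).symm) Finset.univ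
    (fun j _ => ⟨⟨c j, hc j⟩, by
      rw [ell_apply]
      simp only [Function.update_eq_self]
      exact hne⟩)
    (by
      rw [Finset.card_univ, Fintype.card_fin]
      exact hres ⟨RingHom.ker (algebraMap A R), hprime⟩)
  refine ⟨θ.1, θ.2, ?_⟩
  have h1 := congrArg (ev π) (tprod_mul_prod_update (A := A) c (fun _ => θ.1))
  rw [ev_mul π (tprod_mem_Csub hc)
      (prod_mem fun j _ => tprod_mem_Csub (update_mem_one hc j θ.2)),
    ev_prod π _ _ (fun j _ => tprod_mem_Csub (update_mem_one hc j θ.2)),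
    ev_mul π (tprod_mem_Csub (k := 1) fun _ => θ.2)
      (pow_mem (tprod_mem_Csub hc) d)] at h1
  intro h0
  rw [h0, zero_mul] at h1
  rcases mul_eq_zero.1 h1 with h2 | h2
  · exact hne h2
  · obtain ⟨j, -, hj⟩ := Finset.prod_eq_zero_iff.1 h2
    exact hθ j (Finset.mem_univ j) hj

end core

/-- S13392 with `D` spelled out as `Dsub`. -/
theorem main_tpow_degOne [GradedAlgebra 𝒜] (hgen : Algebra.adjoin A (𝒜 1 : Set B) = ⊤)
    (hres : ∀ p : PrimeSpectrum A, (d : Cardinal) ≤ Cardinal.mk p.asIdeal.ResidueField)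
    (k : ℕ) (hk : 0 < k)
    (t : ⨂[A] _ : Fin d, B) (htD : t ∈ Dsub 𝒜 d)
    (htk : t ∈ Submodule.span A
      {s | ∃ b : Fin d → B, (∀ i, b i ∈ 𝒜 k) ∧ s = PiTensorProduct.tprod A b}) :
    ∃ m : ℕ, 0 < m ∧ (⟨t, htD⟩ : ↥(Dsub 𝒜 d)) ^ m ∈
      Ideal.span {x : ↥(Dsub 𝒜 d) | ∃ f : B, f ∈ 𝒜 1 ∧
        (x : ⨂[A] _ : Fin d, B) = PiTensorProduct.tprod A (fun _ : Fin d => f)} := by
  apply radical_criterion
  intro R _ _ _ π hπ
  obtain ⟨c, hc, hne⟩ := exists_deg_one π hgen k hk t htD.1 htk hπ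
  obtain ⟨f, hf, hne'⟩ := core_tpow_degOne π hres c hc hne
  have hC : PiTensorProduct.tprod A (fun _ : Fin d => f) ∈ Csub 𝒜 d := tprod_mem_Csub fun _ => hf
  refine ⟨⟨PiTensorProduct.tprod A (fun _ : Fin d => f), hC, ?_⟩, ⟨f, hf, rfl⟩, ?_⟩
  · intro σ
    rw [PiTensorProduct.reindex_tprod]
  · rw [ev_of_mem π hC] at hne'
    exact hne'

end Groth.Agent.Lib.Seat60.SymTen
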