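import Mathlib
import Groth.Prelude.Def_W4c1hilbpnTgt
import Groth.Agent.Lib.Seat60Dual2DSrc
import Groth.Agent.Lib.Seat60Stable4

/-! Seat60: upper bounds for the sign pieces of the tangent space at a monomial point in three
variables that hold without any stability hypothesis. -/

set_option autoImplicit false
set_option linter.style.haveILetI false
set_option linter.unusedSectionVars false
set_option linter.unusedVariables false

namespace Groth.Agent.Lib.Seat60.Bound

open W4c1hilbpn MvPolynomial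
open Groth.Agent.Lib.Helper24TgtPiece
open Groth.Agent.Lib.Helper20
open Groth.Agent.Lib.Seat60.Stair
open Groth.Agent.Lib.Seat60.Slice
open Groth.Agent.Lib.Seat60.TgtPow
open Groth.Agent.Lib.Seat60.TgtXY
open Groth.Agent.Lib.Seat60.Dual2D
open Groth.Agent.Lib.Seat60.Stable

variable {k : Type*} [Field k] {I : Ideal (MvPolynomial (Fin 3) k)}

/-- a one-dimensional rearrangement -/
lemma sum_shift_mul (F : ℕ → ℕ) (M : ℕ) (hF : ∀ z, F (z + 1) ≤ F z) (hM : ∀ z, M ≤ z → F z = 0) :
    ∑ b ∈ Finset.range M, ∑ z ∈ Finset.range M, F (z + 1 + b) * (F z - F (z + 1)) =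
      ∑ Z ∈ Finset.range M, F Z * (F 0 - F Z) := by
  have hR : ∀ Z ∈ Finset.range M, F Z * (F 0 - F Z) =
      ∑ z ∈ Finset.Ico 0 Z, F Z * (F z - F (z + 1)) := by
    intro Z _
    rw [← sum_range_tsub_antitone F hF Z, Finset.mul_sum, Finset.range_eq_Ico]
  rw [Finset.sum_congr rfl hR, Finset.range_eq_Ico, ← Finset.sum_Ico_Ico_comm' 0 M
    (fun z Z => F Z * (F z - F (z + 1))), Finset.sum_comm]
  apply Finset.sum_congr rfl
  intro z hz
  rw [Finset.mem_Ico] at hz
  have h1 : ∑ b ∈ Finset.Ico 0 M, F (z + 1 + b) * (F z - F (z + 1)) =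
      ∑ Z ∈ Finset.Ico (z + 1) (z + 1 + M), F Z * (F z - F (z + 1)) := by
    rw [Finset.sum_Ico_eq_sum_range (fun Z => F Z * (F z - F (z + 1))) (z + 1) (z + 1 + M),
      Nat.add_sub_cancel_left, Finset.range_eq_Ico]
  rw [h1, ← Finset.sum_Ico_consecutive _ (show z + 1 ≤ M by omega) (show M ≤ z + 1 + M by omega)]
  have h2 : ∑ Z ∈ Finset.Ico M (z + 1 + M), F Z * (F z - F (z + 1)) = 0 := by
    apply Finset.sum_eq_zero
    intro Z hZ
    rw [Finset.mem_Ico] at hZ
    rw [hM Z hZ.1, zero_mul]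
  rw [h2, add_zero]

/-- source bound for the span of all pieces with two fixed negative entries -/
theorem finrank_iSup_alpha'_le (hI : IsMonomial I)
    [Module.Finite k (MvPolynomial (Fin 3) k ⧸ I)] (i : Fin 3) (a b : ℕ) (M : ℕ)
    (hM : ∀ y z, M ≤ y ∨ M ≤ z → hst I i y z = 0) :
    Module.finrank k ↥(⨆ α : {α : Fin 3 → ℤ // α (i.succAbove 0) = -(a : ℤ) - 1 ∧
        α (i.succAbove 1) = -(b : ℤ) - 1}, tPiece I α.1) ≤
      ∑ p ∈ Finset.range M ×ˢ Finset.range M,
        (hst I i (p.1 + a) (p.2 + 1 + b) - hst I i (p.1 + 1 + a) (p.2 + 1 + b)) *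
          (hst I i p.1 p.2 - hst I i p.1 (p.2 + 1)) := by
  rw [finrank_iSup_alpha' hI]
  have H := hyp_hst hI i a b
  refine le_trans ?_ (sum_card_src (hst I i) (gg I i a b) M (hst I i 0 0) hM)
  apply Finset.sum_le_sum
  intro c hc
  rw [finrank_tPiece_alpha' hI (Finset.mem_Icc.mp hc).1]
  exact finrank_Xb_le H (Finset.mem_Icc.mp hc).1

/-- the sign piece negative exactly off `i`: an upper bound in terms of the staircase heights -/
theorem finrank_sigPiece_compl_le (hI : IsMonomial I)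
    [Module.Finite k (MvPolynomial (Fin 3) k ⧸ I)] (i : Fin 3) (M : ℕ)
    (hM : ∀ y z, M ≤ y ∨ M ≤ z → hst I i y z = 0) :
    Module.finrank k ↥(sigPiece I ({i}ᶜ : Set (Fin 3))) ≤
      ∑ y ∈ Finset.range M, ∑ Z ∈ Finset.range M,
        hst I i y Z * (hst I i y 0 - hst I i y Z) := by
  rw [finrank_sigPiece_compl_eq_sum hI i M hM]
  refine le_trans (Finset.sum_le_sum
    (fun p _ => finrank_iSup_alpha'_le hI i p.1 p.2 M hM)) (le_of_eq ?_)
  rw [Finset.sum_product, Finset.sum_comm]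
  -- now `∑ b, ∑ a, ∑ p`
  have h1 : ∀ b ∈ Finset.range M, ∑ a ∈ Finset.range M,
      ∑ p ∈ Finset.range M ×ˢ Finset.range M,
        (hst I i (p.1 + a) (p.2 + 1 + b) - hst I i (p.1 + 1 + a) (p.2 + 1 + b)) *
          (hst I i p.1 p.2 - hst I i p.1 (p.2 + 1)) =
      ∑ p ∈ Finset.range M ×ˢ Finset.range M,
        hst I i p.1 (p.2 + 1 + b) * (hst I i p.1 p.2 - hst I i p.1 (p.2 + 1)) := by
    intro b _
    rw [Finset.sum_comm]
    apply Finset.sum_congr rfl
    intro p _
    rw [← Finset.sum_mul]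
    congr 1
    have := sum_range_tsub_antitone (fun a => hst I i (p.1 + a) (p.2 + 1 + b))
      (fun a => by
        have := hst_anti_y hI i (p.1 + a) (p.2 + 1 + b)
        rw [← add_assoc]
        exact this) M
    simp only [add_zero] at this
    rw [hM (p.1 + M) (p.2 + 1 + b) (Or.inl (by omega)), Nat.sub_zero] at this
    rw [← this]
    apply Finset.sum_congr rfl
    intro a _
    rw [add_right_comm p.1 1 a, add_assoc p.1 a 1]
  rw [Finset.sum_congr rfl h1]
  have h2 : ∀ b ∈ Finset.range M, ∑ p ∈ Finset.range M ×ˢ Finset.range M,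
        hst I i p.1 (p.2 + 1 + b) * (hst I i p.1 p.2 - hst I i p.1 (p.2 + 1)) =
      ∑ y ∈ Finset.range M, ∑ z ∈ Finset.range M,
        hst I i y (z + 1 + b) * (hst I i y z - hst I i y (z + 1)) :=
    fun b _ => Finset.sum_product _ _ _
  rw [Finset.sum_congr rfl h2, Finset.sum_comm]
  apply Finset.sum_congr rfl
  intro y _
  exact sum_shift_mul (fun z => hst I i y z) M (fun z => hst_anti_z hI i y z)
    (fun z hz => hM y z (Or.inr hz))

/-- corner bound, telescoped along rows, without any stability hypothesis -/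
theorem finrank_iSup_alpha_le_row' (hI : IsMonomial I)
    [Module.Finite k (MvPolynomial (Fin 3) k ⧸ I)] (i : Fin 3) (a b : ℕ) (M : ℕ)
    (hM : ∀ y z, M ≤ y ∨ M ≤ z → hst I i y z = 0) :
    Module.finrank k ↥(⨆ α : {α : Fin 3 → ℤ // α (i.succAbove 0) = (a : ℤ) ∧
        α (i.succAbove 1) = (b : ℤ)}, tPiece I α.1) ≤
      ∑ y ∈ Finset.range M, hst I i (y + a) b := by
  refine le_trans (finrank_iSup_alpha_le hI i a b M hM) ?_
  rw [Finset.sum_product]
  apply Finset.sum_le_sum
  intro y _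
  have h1 : ∀ z ∈ Finset.range M,
      gg I i a b y z - max (gg I i a b (y + 1) z) (gg I i a b y (z + 1)) ≤
        gg I i a b y z - gg I i a b y (z + 1) :=
    fun z _ => Nat.sub_le_sub_left (le_max_right _ _) _
  refine le_trans (Finset.sum_le_sum h1) (le_of_eq ?_)
  rw [sum_range_tsub_antitone (fun z => gg I i a b y z) ((hyp_hst hI i a b).gy y)]
  have h0 : gg I i a b y M = 0 := by
    unfold gg
    apply hM
    right
    omega
  rw [h0, Nat.sub_zero]
  unfold gg
  rw [zero_add]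

/-- the sign piece negative exactly at `i`, bounded by the weighted sum of the slice sizes; no
stability hypothesis -/
theorem finrank_sigPiece_single_le' (hI : IsMonomial I)
    [Module.Finite k (MvPolynomial (Fin 3) k ⧸ I)] (i : Fin 3) (M : ℕ)
    (hM : ∀ y z, M ≤ y ∨ M ≤ z → hst I i y z = 0) :
    Module.finrank k ↥(sigPiece I ({i} : Set (Fin 3))) ≤
      ∑ x ∈ Finset.range M, (x + 1) * ∑ t ∈ Finset.range M, hst I i x t := by
  rw [finrank_sigPiece_single_eq_sum hI i M hM]
  have h1 : ∀ p ∈ Finset.range M ×ˢ Finset.range M,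
      Module.finrank k ↥(⨆ α : {α : Fin 3 → ℤ // α (i.succAbove 0) = (p.1 : ℤ) ∧
        α (i.succAbove 1) = (p.2 : ℤ)}, tPiece I α.1) ≤
      ∑ y ∈ Finset.range M, hst I i (y + p.1) p.2 :=
    fun p _ => finrank_iSup_alpha_le_row' hI i p.1 p.2 M hM
  refine le_trans (Finset.sum_le_sum h1) (le_of_eq ?_)
  rw [Finset.sum_product, Finset.sum_comm]
  have h2 : ∀ b ∈ Finset.range M, ∑ a ∈ Finset.range M, ∑ y ∈ Finset.range M, hst I i (y + a) b =
      ∑ x ∈ Finset.range M, (x + 1) * hst I i x b :=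
    fun b _ => sum_shift (fun x => hst I i x b) M (fun x hx => hM x b (Or.inl hx))
  rw [Finset.sum_congr rfl h2, Finset.sum_comm]
  apply Finset.sum_congr rfl
  intro x _
  rw [Finset.mul_sum]

lemma sum_ite_lt (n M : ℕ) (hn : n ≤ M) :
    ∑ z ∈ Finset.range M, (if z < n then 1 else 0) = n := by
  rw [← Finset.card_filter]
  have : (Finset.range M).filter (fun z => z < n) = Finset.range n := by
    ext z
    rw [Finset.mem_filter, Finset.mem_range, Finset.mem_range]
    omega
  rw [this, Finset.card_range]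

/-- the `z`-heights in terms of the `x`-heights -/
lemma hst_two_eq_count (hI : IsMonomial I) [Module.Finite k (MvPolynomial (Fin 3) k ⧸ I)]
    (M : ℕ) (hM : ∀ y z, M ≤ y ∨ M ≤ z → hst I 0 y z = 0) (x y : ℕ) :
    hst I 2 x y = ∑ z ∈ Finset.range M, (if x < hst I 0 y z then 1 else 0) := by
  have hle : hst I 2 x y ≤ M := by
    rw [← mem_e3_iff_two hI, mem_e3_iff_zero hI, hM y M (Or.inr le_rfl)]
    exact Nat.zero_le _
  rw [← sum_ite_lt (hst I 2 x y) M hle]
  apply Finset.sum_congr rfl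
  intro z _
  have : x < hst I 0 y z ↔ z < hst I 2 x y := by
    rw [← not_le, ← mem_e3_iff_zero hI, mem_e3_iff_two hI, not_le]
  simp only [this]

/-- the `y`-heights in terms of the `x`-heights -/
lemma hst_one_eq_count (hI : IsMonomial I) [Module.Finite k (MvPolynomial (Fin 3) k ⧸ I)]
    (M : ℕ) (hM : ∀ y z, M ≤ y ∨ M ≤ z → hst I 0 y z = 0) (x z : ℕ) :
    hst I 1 x z = ∑ y ∈ Finset.range M, (if x < hst I 0 y z then 1 else 0) := by
  have hle : hst I 1 x z ≤ M := by
    rw [← mem_e3_iff_one hI, mem_e3_iff_zero hI, hM M z (Or.inl le_rfl)]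
    exact Nat.zero_le _
  rw [← sum_ite_lt (hst I 1 x z) M hle]
  apply Finset.sum_congr rfl
  intro y _
  have : x < hst I 0 y z ↔ y < hst I 1 x z := by
    rw [← not_le, ← mem_e3_iff_zero hI, mem_e3_iff_one hI, not_le]
  simp only [this]

lemma two_mul_sum_succ_ite (n M : ℕ) (hn : n ≤ M) :
    2 * ∑ x ∈ Finset.range M, (x + 1) * (if x < n then 1 else 0) = n * (n + 1) := by
  have h1 : ∑ x ∈ Finset.range M, (x + 1) * (if x < n then 1 else 0) =
      ∑ x ∈ Finset.range n, (x + 1) := by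
    rw [← Finset.sum_range_add_sum_Ico _ hn]
    have h2 : ∑ x ∈ Finset.Ico n M, (x + 1) * (if x < n then 1 else 0) = 0 := by
      apply Finset.sum_eq_zero
      intro x hx
      rw [Finset.mem_Ico] at hx
      rw [if_neg (by omega), mul_zero]
    rw [h2, add_zero]
    apply Finset.sum_congr rfl
    intro x hx
    rw [Finset.mem_range] at hx
    rw [if_pos hx, mul_one]
  rw [h1]
  clear h1 hn
  induction n with
  | zero => simp
  | succ n ih =>
    rw [Finset.sum_range_succ, mul_add, ih]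
    ring

/-- the weighted sum of the slice sizes in terms of the `x`-heights, direction `2` -/
lemma two_mul_weighted_two (hI : IsMonomial I) [Module.Finite k (MvPolynomial (Fin 3) k ⧸ I)]
    (M : ℕ) (hM : ∀ y z, M ≤ y ∨ M ≤ z → hst I 0 y z = 0) (hle : ∀ y z, hst I 0 y z ≤ M) :
    2 * ∑ x ∈ Finset.range M, (x + 1) * ∑ t ∈ Finset.range M, hst I 2 x t =
      ∑ y ∈ Finset.range M, ∑ z ∈ Finset.range M, hst I 0 y z * (hst I 0 y z + 1) := by
  have h1 : ∀ x ∈ Finset.range M, (x + 1) * ∑ t ∈ Finset.range M, hst I 2 x t =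
      ∑ y ∈ Finset.range M, ∑ z ∈ Finset.range M,
        (x + 1) * (if x < hst I 0 y z then 1 else 0) := by
    intro x _
    rw [Finset.mul_sum]
    apply Finset.sum_congr rfl
    intro y _
    rw [hst_two_eq_count hI M hM x y, Finset.mul_sum]
  rw [Finset.sum_congr rfl h1, Finset.sum_comm, Finset.mul_sum]
  apply Finset.sum_congr rfl
  intro y _
  rw [Finset.sum_comm, Finset.mul_sum]
  apply Finset.sum_congr rfl
  intro z _
  exact two_mul_sum_succ_ite _ M (hle y z)

/-- the weighted sum of the slice sizes in terms of the `x`-heights, direction `1` -/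
lemma two_mul_weighted_one (hI : IsMonomial I) [Module.Finite k (MvPolynomial (Fin 3) k ⧸ I)]
    (M : ℕ) (hM : ∀ y z, M ≤ y ∨ M ≤ z → hst I 0 y z = 0) (hle : ∀ y z, hst I 0 y z ≤ M) :
    2 * ∑ x ∈ Finset.range M, (x + 1) * ∑ t ∈ Finset.range M, hst I 1 x t =
      ∑ y ∈ Finset.range M, ∑ z ∈ Finset.range M, hst I 0 y z * (hst I 0 y z + 1) := by
  have h1 : ∀ x ∈ Finset.range M, (x + 1) * ∑ t ∈ Finset.range M, hst I 1 x t =
      ∑ z ∈ Finset.range M, ∑ y ∈ Finset.range M,
        (x + 1) * (if x < hst I 0 y z then 1 else 0) := by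
    intro x _
    rw [Finset.mul_sum]
    apply Finset.sum_congr rfl
    intro z _
    rw [hst_one_eq_count hI M hM x z, Finset.mul_sum]
  rw [Finset.sum_congr rfl h1, Finset.sum_comm, Finset.mul_sum]
  conv_rhs => rw [Finset.sum_comm]
  apply Finset.sum_congr rfl
  intro z _
  rw [Finset.sum_comm, Finset.mul_sum]
  apply Finset.sum_congr rfl
  intro y _
  exact two_mul_sum_succ_ite _ M (hle y z)

/-- if `x^p ∈ I` then all `x`-heights are at most `p` -/
lemma hst_zero_le_of_X_pow_mem (hI : IsMonomial I) [Module.Finite k (MvPolynomial (Fin 3) k ⧸ I)]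
    (p : ℕ) (hx : (MvPolynomial.X 0 : MvPolynomial (Fin 3) k) ^ p ∈ I) (y z : ℕ) :
    hst I 0 y z ≤ p := by
  rw [← mem_e3_iff_zero hI]
  have h1 : Finsupp.single (0 : Fin 3) p ∈ exps I := by
    show monomial (Finsupp.single (0 : Fin 3) p) (1 : k) ∈ I
    rw [← MvPolynomial.X_pow_eq_monomial]
    exact hx
  have h2 := exps_add h1 (e3 0 y z)
  have e : Finsupp.single (0 : Fin 3) p + e3 0 y z = e3 p y z := by
    apply e3_ext <;> simp [e3_zero, e3_one, e3_two]
  rw [e] at h2
  exact h2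

/-- **Crude bound for monomial ideals containing a power of `x`.** -/
theorem finrank_Tgt_le_of_X_pow_mem (hI : IsMonomial I)
    [Module.Finite k (MvPolynomial (Fin 3) k ⧸ I)] (p : ℕ)
    (hx : (MvPolynomial.X 0 : MvPolynomial (Fin 3) k) ^ p ∈ I) :
    Module.finrank k (Tgt I) ≤ (2 * p + 1) * Module.finrank k (MvPolynomial (Fin 3) k ⧸ I) := by
  obtain ⟨M0, hM0'⟩ := hst_bdd hI 0
  obtain ⟨M1, hM1'⟩ := hst_bdd hI 1
  obtain ⟨M2, hM2'⟩ := hst_bdd hI 2
  set M := max (max M0 M1) (max M2 p) with hMdef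
  have hM0M : M0 ≤ M := (le_max_left _ _).trans (le_max_left _ _)
  have hM1M : M1 ≤ M := (le_max_right _ _).trans (le_max_left _ _)
  have hM2M : M2 ≤ M := (le_max_left _ _).trans (le_max_right _ _)
  have hpM : p ≤ M := (le_max_right _ _).trans (le_max_right _ _)
  have hM0 : ∀ a b, M ≤ a ∨ M ≤ b → hst I 0 a b = 0 := fun a b h =>
    hM0' a b (h.imp (fun h => hM0M.trans h) (fun h => hM0M.trans h))
  have hM1 : ∀ a b, M ≤ a ∨ M ≤ b → hst I 1 a b = 0 := fun a b h =>
    hM1' a b (h.imp (fun h => hM1M.trans h) (fun h => hM1M.trans h))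
  have hM2 : ∀ a b, M ≤ a ∨ M ≤ b → hst I 2 a b = 0 := fun a b h =>
    hM2' a b (h.imp (fun h => hM2M.trans h) (fun h => hM2M.trans h))
  have hp := hst_zero_le_of_X_pow_mem hI p hx
  have hle : ∀ y z, hst I 0 y z ≤ M := fun y z => (hp y z).trans hpM
  have hd : Module.finrank k (MvPolynomial (Fin 3) k ⧸ I) =
      ∑ y ∈ Finset.range M, ∑ z ∈ Finset.range M, hst I 0 y z := by
    rw [finrank_quot_eq_sum hI 0 M hM0, Finset.sum_product]
  have B0 := finrank_sigPiece_compl_le hI 0 M hM0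
  have B1 := finrank_sigPiece_single_le' hI 1 M hM1
  have B2 := finrank_sigPiece_single_le' hI 2 M hM2
  have W1 := two_mul_weighted_one hI M hM0 hle
  have W2 := two_mul_weighted_two hI M hM0 hle
  have P0 := finrank_sigPiece_single_eq_add hI (0 : Fin 3)
  have P1 := finrank_sigPiece_single_eq_add hI (1 : Fin 3)
  have P2 := finrank_sigPiece_single_eq_add hI (2 : Fin 3)
  have hT := Groth.Agent.Lib.Seat60.TgtPow3.finrank_Tgt_fin3 hI
  rw [Fin.sum_univ_three] at hT
  -- the pointwise identity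
  have hQ : ∑ y ∈ Finset.range M, ∑ Z ∈ Finset.range M,
        hst I 0 y Z * (hst I 0 y 0 - hst I 0 y Z) ≤
      ∑ y ∈ Finset.range M, ∑ Z ∈ Finset.range M, hst I 0 y Z * (p - hst I 0 y Z) := by
    apply Finset.sum_le_sum
    intro y _
    apply Finset.sum_le_sum
    intro Z _
    exact Nat.mul_le_mul_left _ (Nat.sub_le_sub_right (hp y 0) _)
  have hsum : 2 * (∑ y ∈ Finset.range M, ∑ Z ∈ Finset.range M,
        hst I 0 y Z * (p - hst I 0 y Z)) +
      2 * (∑ y ∈ Finset.range M, ∑ z ∈ Finset.range M, hst I 0 y z * (hst I 0 y z + 1)) =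
      2 * (p + 1) * ∑ y ∈ Finset.range M, ∑ z ∈ Finset.range M, hst I 0 y z := by
    rw [Finset.mul_sum, Finset.mul_sum, Finset.mul_sum, ← Finset.sum_add_distrib]
    apply Finset.sum_congr rfl
    intro y _
    rw [Finset.mul_sum, Finset.mul_sum, Finset.mul_sum, ← Finset.sum_add_distrib]
    apply Finset.sum_congr rfl
    intro z _
    obtain ⟨e, he⟩ := Nat.exists_eq_add_of_le (hp y z)
    rw [he, Nat.add_sub_cancel_left]
    ring
  rw [← hd] at hsum
  set d := Module.finrank k (MvPolynomial (Fin 3) k ⧸ I) with hddef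
  set Q := ∑ y ∈ Finset.range M, ∑ Z ∈ Finset.range M, hst I 0 y Z * (p - hst I 0 y Z)
  set W := ∑ y ∈ Finset.range M, ∑ z ∈ Finset.range M, hst I 0 y z * (hst I 0 y z + 1)
  have hfinal : 2 * (p + 1) * d = 2 * (p * d) + 2 * d := by ring
  have hgoal : (2 * p + 1) * d = 2 * (p * d) + d := by ring
  rw [hgoal]
  omega

end Groth.Agent.Lib.Seat60.Bound
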