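import Mathlib
import Groth.Prelude.Def_W4c1hilbpnTgt
import Groth.Agent.Lib.Seat60TgtBasic

/-! Seat60: vanishing of graded pieces of `T(I)` of nonpositive multidegree with two negative entries;
vanishing of pieces when a variable lies in the ideal. -/

set_option autoImplicit false
set_option linter.style.haveILetI false
set_option linter.unusedSectionVars false
set_option linter.unusedVariables false

namespace Groth.Agent.Lib.Seat60.TwoNeg

open W4c1hilbpn MvPolynomial
open Groth.Agent.Lib.Helper24TgtPiece
open Groth.Agent.Lib.Seat60.TgtBasic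

variable {σ : Type*} {k : Type*} [Field k] [Fintype σ]
variable {I : Ideal (MvPolynomial σ k)} {α : σ → ℤ}

/-- one step down in direction `j` (after walking in direction `i`), when all entries of `α`
are nonpositive and the entries at `i` and `j` are negative -/
lemma step_down_of_nonpos (hI : IsMonomial I) [Module.Finite k (MvPolynomial σ k ⧸ I)]
    (hα : ∀ l, α l ≤ 0) {i j : σ} (hij : i ≠ j) (hαi : α i < 0) (hαj : α j < 0)
    {β : σ →₀ ℕ} (hβ : β ∈ exps I) (hr : pt α β ∈ region I α) (hnn : ∀ l, 0 ≤ pt α β l) :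
    ∃ (β2 : σ →₀ ℕ) (hβ2 : β2 ∈ exps I) (hr2 : pt α β2 ∈ region I α),
      (RG I α).Reachable ⟨pt α β, hr⟩ ⟨pt α β2, hr2⟩ ∧ pt α β2 j = pt α β j - 1 ∧
      ∀ l, l ≠ j → 0 ≤ pt α β2 l := by
  classical
  obtain ⟨t, hr1, hreach, hbd⟩ := exists_walk_to_boundary hI hβ hr hnn i
  set β1 := β + Finsupp.single i t with hβ1
  have hβ1U : β1 ∈ exps I := exps_add hβ _
  have hnn1 : ∀ l, 0 ≤ pt α β1 l := by
    intro l
    by_cases hl : l = i
    · subst hl; rw [pt_add_single_same]; have := hnn l; positivity
    · rw [pt_add_single_ne α β hl]; exact hnn l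
  have hj1 : pt α β1 j = pt α β j := pt_add_single_ne α β (Ne.symm hij) t
  set β2 := β1 - Finsupp.single j 1 with hβ2
  have hβ1j : 1 ≤ β1 j := by
    have h1 := hnn1 j
    simp only [pt] at h1
    omega
  have hβ21 : β2 + Finsupp.single j 1 = β1 := by
    ext l
    by_cases hl : l = j
    · subst hl
      simp only [hβ2, Finsupp.add_apply, Finsupp.tsub_apply, Finsupp.single_eq_same]
      omega
    · simp [hβ2, Ne.symm hl]
  have hle : shift β α + Finsupp.single i (t + 1) ≤ β2 := by
    intro l
    have hαl := hα l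
    have hnnl := hnn l
    simp only [pt] at hnnl
    by_cases hl : l = j
    · subst hl
      simp only [hβ2, hβ1, Finsupp.add_apply, Finsupp.tsub_apply, Finsupp.single_eq_same,
        Finsupp.single_apply, if_neg hij, shift_apply, add_zero]
      omega
    · by_cases hli : l = i
      · subst hli
        simp only [hβ2, hβ1, Finsupp.add_apply, Finsupp.tsub_apply, Finsupp.single_eq_same,
          Finsupp.single_apply, if_neg (Ne.symm hl), shift_apply, tsub_zero]
        omega
      · simp only [hβ2, hβ1, Finsupp.add_apply, Finsupp.tsub_apply,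
          Finsupp.single_apply, if_neg (Ne.symm hl), if_neg (Ne.symm hli), shift_apply, tsub_zero,
          add_zero]
        omega
  have hβ2U : β2 ∈ exps I := by
    have : β2 = (shift β α + Finsupp.single i (t + 1)) + (β2 - (shift β α + Finsupp.single i (t + 1))) :=
      (add_tsub_cancel_of_le hle).symm
    rw [this]
    exact exps_add hbd _
  have hr2 : pt α β2 ∈ region I α := by
    rw [mem_region_pt hβ2U]
    rintro ⟨h1, h2⟩
    apply (mem_region_pt hβ1U).mp hr1
    refine ⟨hnn1, ?_⟩
    rw [← hβ21, shift_add_of_nonneg α _ h1]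
    exact exps_add h2 _
  refine ⟨β2, hβ2U, hr2, hreach.trans (SimpleGraph.Adj.reachable ?_).symm, ?_, ?_⟩
  · rw [SimpleGraph.induce_adj]
    show (stepGraph σ).Adj (pt α β2) (pt α β1)
    rw [← hβ21]
    exact adj_step α _ j
  · have := pt_add_single_same α β2 j 1
    rw [hβ21, hj1] at this
    push_cast at this
    omega
  · intro l hl
    have := pt_add_single_ne α β2 hl 1
    rw [hβ21] at this
    rw [← this]
    exact hnn1 l

lemma reachable_neg_of_nonpos (hI : IsMonomial I) [Module.Finite k (MvPolynomial σ k ⧸ I)]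
    (hα : ∀ l, α l ≤ 0) {i j : σ} (hij : i ≠ j) (hαi : α i < 0) (hαj : α j < 0)
    (v : ↥(region I α)) :
    ∃ w : ↥(region I α), (∃ l, w.1 l < 0) ∧ (RG I α).Reachable v w := by
  classical
  have key : ∀ (m : ℕ) (β : σ →₀ ℕ) (hβ : β ∈ exps I) (hr : pt α β ∈ region I α),
      (∀ l, 0 ≤ pt α β l) → pt α β j = (m : ℤ) →
      ∃ w : ↥(region I α), (∃ l, w.1 l < 0) ∧ (RG I α).Reachable ⟨pt α β, hr⟩ w := by
    intro m
    induction m with
    | zero =>
      intro β hβ hr hnn hj
      obtain ⟨β2, hβ2, hr2, hreach, hj2, _⟩ := step_down_of_nonpos hI hα hij hαi hαj hβ hr hnn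
      refine ⟨⟨pt α β2, hr2⟩, ⟨j, ?_⟩, hreach⟩
      show pt α β2 j < 0
      rw [hj2, hj]; norm_num
    | succ m ih =>
      intro β hβ hr hnn hj
      obtain ⟨β2, hβ2, hr2, hreach, hj2, hnn2⟩ := step_down_of_nonpos hI hα hij hαi hαj hβ hr hnn
      have hj2' : pt α β2 j = (m : ℤ) := by rw [hj2, hj]; push_cast; ring
      have hnn2' : ∀ l, 0 ≤ pt α β2 l := by
        intro l
        by_cases hl : l = j
        · subst hl; rw [hj2']; positivity
        · exact hnn2 l hl
      obtain ⟨w, hw, hreach2⟩ := ih β2 hβ2 hr2 hnn2' hj2'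
      exact ⟨w, hw, hreach.trans hreach2⟩
  obtain ⟨⟨β, hβ, hvβ⟩, hn⟩ := v.2
  by_cases hneg : ∃ l, v.1 l < 0
  · exact ⟨v, hneg, SimpleGraph.Reachable.refl _⟩
  · push Not at hneg
    have hvβ' : v.1 = pt α β := hvβ
    have hr : pt α β ∈ region I α := hvβ' ▸ v.2
    have hv : v = ⟨pt α β, hr⟩ := Subtype.ext hvβ'
    have hnn : ∀ l, 0 ≤ pt α β l := fun l => by
      have := hneg l
      rw [hvβ'] at this
      exact this
    obtain ⟨w, hw, hreach⟩ := key (pt α β j).toNat β hβ hr hnn
      (Int.toNat_of_nonneg (hnn j)).symm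
    exact ⟨w, hw, hv ▸ hreach⟩

/-- graded pieces of nonpositive multidegree with at least two negative entries vanish -/
theorem tPiece_eq_bot_of_nonpos (hI : IsMonomial I) [Module.Finite k (MvPolynomial σ k ⧸ I)]
    (hα : ∀ l, α l ≤ 0) {i j : σ} (hij : i ≠ j) (hαi : α i < 0) (hαj : α j < 0) :
    tPiece I α = ⊥ :=
  tPiece_eq_bot_of_forall_reachable_neg hI (reachable_neg_of_nonpos hI hα hij hαi hαj)


/-- if a variable lies in the monomial ideal, the graded pieces whose multidegree is nonzero at that
variable and negative at another one vanish -/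
theorem tPiece_eq_bot_of_single_mem (hI : IsMonomial I) {i0 l : σ}
    (h0 : Finsupp.single i0 1 ∈ exps I) (hl : l ≠ i0) (hαl : α l < 0) (hα0 : α i0 ≠ 0) :
    tPiece I α = ⊥ := by
  classical
  rw [eq_bot_iff]
  intro φ hφ
  rw [Submodule.mem_bot]
  apply ext_monomial hI
  intro β hβ
  rw [LinearMap.zero_apply]
  have hφ0 : φ ⟨monomial (Finsupp.single i0 1) 1, h0⟩ = 0 := by
    apply (hφ _ h0).2
    refine ⟨l, ?_⟩
    rw [Finsupp.single_apply, if_neg (Ne.symm hl)]
    simpa using hαl
  by_cases hb : 1 ≤ β i0
  · have e : β = Finsupp.single i0 1 + (β - Finsupp.single i0 1) := by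
      ext m
      by_cases hm : m = i0
      · subst hm
        simp only [Finsupp.add_apply, Finsupp.tsub_apply, Finsupp.single_eq_same]
        omega
      · simp [Ne.symm hm]
    have hβ' : monomial (Finsupp.single i0 1 + (β - Finsupp.single i0 1)) (1 : k) ∈ I := by
      rw [← e]; exact hβ
    have key := map_monomial_add φ h0 (β - Finsupp.single i0 1) hβ'
    rw [hφ0, mul_zero] at key
    have hcongr : (⟨monomial β 1, hβ⟩ : ↥I) =
        ⟨monomial (Finsupp.single i0 1 + (β - Finsupp.single i0 1)) 1, hβ'⟩ := by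
      apply Subtype.ext
      show monomial β (1:k) = monomial (Finsupp.single i0 1 + (β - Finsupp.single i0 1)) 1
      rw [← e]
    rw [hcongr]
    exact key
  · have hb0 : β i0 = 0 := by omega
    by_cases hneg : ∃ m, (β m : ℤ) + α m < 0
    · exact (hφ β hβ).2 hneg
    · push Not at hneg
      have h1 := (hφ β hβ).1 hneg
      have hpos : 0 < α i0 := by
        have := hneg i0
        rw [hb0] at this
        simp only [Nat.cast_zero, zero_add] at this
        omega
      have hmem : shift β α ∈ exps I := by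
        have e : shift β α = Finsupp.single i0 1 + (shift β α - Finsupp.single i0 1) := by
          ext m
          by_cases hm : m = i0
          · subst hm
            simp only [Finsupp.add_apply, Finsupp.tsub_apply, Finsupp.single_eq_same, shift_apply,
              hb0]
            simp only [Nat.cast_zero, zero_add]
            omega
          · simp [Ne.symm hm]
        rw [e]
        exact exps_add h0 _
      rw [mk_monomial_eq_zero.mpr hmem] at h1
      simpa using h1

end Groth.Agent.Lib.Seat60.TwoNeg
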