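import Groth.Prelude.Def_W4c1limliniiiiRamP1
import Groth.Agent.S19560
import Mathlib

/-!
# Pencils of polynomials with prescribed ramification: the Wronskian criterion (seat 60)

General `n`: a two-dimensional space `span {F, G}` of polynomials of degree `≤ d` with non-zero
Wronskian, containing for each `i` a non-zero member vanishing to order `≥ e i` at `P i`, where
`∑ (e i - 1) = 2d - 2`, belongs to `ramMaps d P e`.
-/

set_option autoImplicit false
universe u
open Polynomial

namespace Groth.Agent.Lib.Seat60.ThreePt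

open W4c1limliniiii
open Groth.Agent.S19560.Aux.WronRam (wron_factor wron_change)

variable {k : Type u} [Field k]

theorem dvd_wron_right (S T : k[X]) (a : k) (n : ℕ) (h : (X - C a) ^ n ∣ S) :
    (X - C a) ^ (n - 1) ∣ wronskian T S := by
  obtain ⟨u, rfl⟩ := h
  cases n with
  | zero => simp
  | succ m =>
    rw [wron_factor]
    simp only [Nat.add_sub_cancel]
    exact Dvd.intro _ rfl

theorem dvd_wron_left (S T : k[X]) (a : k) (n : ℕ) (h : (X - C a) ^ n ∣ S) :
    (X - C a) ^ (n - 1) ∣ wronskian S T := by
  rw [← wronskian_neg_eq]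
  exact (dvd_neg).mpr (dvd_wron_right S T a n h)

theorem dvd_wron_of_root (S T : k[X]) (a : k) (n : ℕ) (h : (X - C a) ^ n ∣ S)
    (hT : T.eval a = 0) : (X - C a) ^ n ∣ wronskian S T := by
  obtain ⟨u, rfl⟩ := h
  obtain ⟨v, rfl⟩ : (X - C a) ∣ T := dvd_iff_isRoot.mpr hT
  cases n with
  | zero => simp
  | succ m =>
    refine ⟨u * v + (X - C a) * u * derivative v - C ((m + 1 : ℕ) : k) * u * v
      - (X - C a) * derivative u * v, ?_⟩
    unfold wronskian
    rw [derivative_mul, derivative_mul, derivative_pow, derivative_sub, derivative_X, derivative_C]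
    simp only [Nat.add_sub_cancel, sub_zero, mul_one, map_natCast]
    ring

theorem exists_wron_eq (F G s : k[X]) (hs : s ∈ Submodule.span k {F, G}) (hs0 : s ≠ 0) :
    ∃ (t : k[X]) (c : k), (t = F ∨ t = G) ∧ c ≠ 0 ∧ wronskian F G = C c * wronskian s t := by
  obtain ⟨α, β, rfl⟩ := Submodule.mem_span_pair.mp hs
  by_cases hβ : β = 0
  · have hα : α ≠ 0 := by
      rintro rfl
      apply hs0
      simp [hβ]
    refine ⟨G, α⁻¹, Or.inr rfl, inv_ne_zero hα, ?_⟩
    have h := wron_change F G α β 0 1
    simp only [zero_smul, one_smul, zero_add, mul_one, mul_zero, sub_zero] at h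
    rw [h, ← mul_assoc, ← C_mul, inv_mul_cancel₀ hα, C_1, one_mul]
  · refine ⟨F, -β⁻¹, Or.inl rfl, neg_ne_zero.mpr (inv_ne_zero hβ), ?_⟩
    have h := wron_change F G α β 1 0
    simp only [zero_smul, one_smul, add_zero, mul_one, mul_zero, zero_sub] at h
    rw [h, ← mul_assoc, ← C_mul]
    have : -β⁻¹ * -β = 1 := by
      rw [neg_mul_neg, inv_mul_cancel₀ hβ]
    rw [this, C_1, one_mul]

theorem natDegree_wronskian_le (d : ℕ) (F G : k[X]) (hF : F.natDegree ≤ d) (hG : G.natDegree ≤ d) :
    (wronskian F G).natDegree ≤ 2 * d - 2 := by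
  cases d with
  | zero =>
    have h1 : F = C (F.coeff 0) := eq_C_of_natDegree_le_zero hF
    have h2 : G = C (G.coeff 0) := eq_C_of_natDegree_le_zero hG
    rw [h1, h2]
    simp [wronskian]
  | succ d' =>
    have e1 : 2 * (d' + 1) - 2 = 2 * d' := by omega
    rw [e1, natDegree_le_iff_coeff_eq_zero]
    intro N hN
    have hF' : (derivative F).natDegree ≤ d' := by
      have := natDegree_derivative_le F
      omega
    have hG' : (derivative G).natDegree ≤ d' := by
      have := natDegree_derivative_le G
      omega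
    have hA : (F * derivative G).natDegree ≤ (d' + 1) + d' := natDegree_mul_le_of_le hF hG'
    have hB : (derivative F * G).natDegree ≤ d' + (d' + 1) := natDegree_mul_le_of_le hF' hG
    unfold wronskian
    rw [coeff_sub]
    by_cases hN' : N = (d' + 1) + d'
    · rw [hN', coeff_mul_add_eq_of_natDegree_le hF hG']
      have : (d' + 1) + d' = d' + (d' + 1) := by omega
      rw [this, coeff_mul_add_eq_of_natDegree_le hF' hG, coeff_derivative, coeff_derivative]
      ring
    · rw [coeff_eq_zero_of_natDegree_lt (by omega), coeff_eq_zero_of_natDegree_lt (by omega)]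
      simp

end Groth.Agent.Lib.Seat60.ThreePt
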