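import Groth.Agent.Lib.Seat60ThreePtA

/-!
# The Wronskian criterion for membership in `ramMaps` (seat 60)
-/

set_option autoImplicit false
universe u
open Polynomial Function

namespace Groth.Agent.Lib.Seat60.ThreePt

open W4c1limliniiii

variable {k : Type u} [Field k]

theorem linearIndependent_of_wronskian_ne_zero (F G : k[X]) (hW : wronskian F G ≠ 0) :
    LinearIndependent k ![F, G] := by
  rw [LinearIndependent.pair_iff]
  intro s t hst
  by_contra hne
  apply hW
  by_cases hs : s = 0
  · have ht : t ≠ 0 := fun ht => hne ⟨hs, ht⟩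
    rw [hs, zero_smul, zero_add] at hst
    have : G = 0 := by
      rcases smul_eq_zero.mp hst with h | h
      · exact absurd h ht
      · exact h
    rw [this, wronskian_zero_right]
  · have hF : F = (-(s⁻¹ * t)) • G := by
      have : s • F = -(t • G) := eq_neg_of_add_eq_zero_left hst
      calc F = s⁻¹ • (s • F) := by rw [smul_smul, inv_mul_cancel₀ hs, one_smul]
        _ = (-(s⁻¹ * t)) • G := by rw [this, smul_neg, smul_smul, neg_smul]
    rw [hF]
    unfold wronskian
    rw [derivative_smul]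
    simp only [smul_eq_C_mul]
    ring

theorem finrank_span_pair (F G : k[X]) (hW : wronskian F G ≠ 0) :
    Module.finrank k (Submodule.span k ({F, G} : Set k[X])) = 2 := by
  have h := finrank_span_eq_card (linearIndependent_of_wronskian_ne_zero F G hW)
  have hr : Set.range ![F, G] = {F, G} := by
    ext x
    simp [Matrix.range_cons, eq_comm, or_comm]
  rw [hr] at h
  simpa using h

theorem mem_ramMaps_of_wronskian_ne_zero {n : ℕ} (d : ℕ) (P : Fin n → k)
    (hP : Function.Injective P) (e : Fin n → ℕ) (he1 : ∀ i, 1 ≤ e i)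
    (hsum : (∑ i, e i) + 2 = 2 * d + n) (hd : 2 ≤ d)
    (F G : k[X]) (hF : F.natDegree ≤ d) (hG : G.natDegree ≤ d) (hW : wronskian F G ≠ 0)
    (hs : ∀ i, ∃ s ∈ Submodule.span k ({F, G} : Set k[X]), s ≠ 0 ∧ (X - C (P i)) ^ (e i) ∣ s) :
    Submodule.span k ({F, G} : Set k[X]) ∈ ramMaps d P e := by
  classical
  -- Step 1: each factor divides W
  have hdiv : ∀ i, (X - C (P i)) ^ (e i - 1) ∣ wronskian F G := by
    intro i
    obtain ⟨s, hsV, hs0, hsd⟩ := hs i
    obtain ⟨t, c, -, hc, hWc⟩ := exists_wron_eq F G s hsV hs0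
    rw [hWc]
    exact Dvd.dvd.mul_left (dvd_wron_left s t (P i) (e i) hsd) _
  have hcop : Pairwise (IsCoprime on fun i => (X - C (P i)) ^ (e i - 1)) := by
    intro i j hij
    exact (isCoprime_X_sub_C_of_isUnit_sub
      (sub_ne_zero.mpr (hP.ne hij)).isUnit).pow
  have hprod : (∏ i, (X - C (P i)) ^ (e i - 1)) ∣ wronskian F G :=
    Fintype.prod_dvd_of_coprime hcop hdiv
  have hmonic : ∀ i, ((X - C (P i)) ^ (e i - 1)).Monic := fun i => (monic_X_sub_C _).pow _
  have hPimonic : (∏ i, (X - C (P i)) ^ (e i - 1)).Monic := monic_prod_of_monic _ _ fun i _ => hmonic i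
  have hPideg : (∏ i, (X - C (P i)) ^ (e i - 1)).natDegree = 2 * d - 2 := by
    rw [natDegree_prod_of_monic _ _ fun i _ => hmonic i]
    have h1 : ∀ i, ((X - C (P i)) ^ (e i - 1)).natDegree = e i - 1 := fun i => by
      rw [(monic_X_sub_C _).natDegree_pow, natDegree_X_sub_C, mul_one]
    simp only [h1]
    have h2 : ∑ i, e i = ∑ i, (e i - 1) + n := by
      have : ∀ i, e i = (e i - 1) + 1 := fun i => by have := he1 i; omega
      calc ∑ i, e i = ∑ i, ((e i - 1) + 1) := Finset.sum_congr rfl fun i _ => this i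
        _ = ∑ i, (e i - 1) + n := by
          rw [Finset.sum_add_distrib]
          simp
    omega
  -- Step 4: W = Π * C c
  obtain ⟨q, hq⟩ := hprod
  have hq0 : q ≠ 0 := by
    rintro rfl
    rw [mul_zero] at hq
    exact hW hq
  have hWdeg : (wronskian F G).natDegree = 2 * d - 2 + q.natDegree := by
    rw [hq, hPimonic.natDegree_mul' hq0, hPideg]
  have hqdeg : q.natDegree = 0 := by
    have := natDegree_wronskian_le d F G hF hG
    omega
  obtain ⟨c, rfl⟩ : ∃ c, q = C c := ⟨_, eq_C_of_natDegree_eq_zero hqdeg⟩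
  have hc : c ≠ 0 := by
    rintro rfl
    exact hq0 C_0
  have hWdeg' : (wronskian F G).natDegree = 2 * d - 2 := by rw [hWdeg, hqdeg, add_zero]
  -- Step 5
  have heval : ∀ a, (∀ i, P i ≠ a) → (wronskian F G).eval a ≠ 0 := by
    intro a ha
    rw [hq, eval_mul, eval_prod, eval_C]
    refine mul_ne_zero (Finset.prod_ne_zero_iff.mpr fun i _ => ?_) hc
    rw [eval_pow, eval_sub, eval_X, eval_C]
    exact pow_ne_zero _ (sub_ne_zero.mpr (ha i).symm)
  have hndvd : ∀ i, ¬ (X - C (P i)) ^ (e i) ∣ wronskian F G := by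
    intro i hdvd
    have hsplit : wronskian F G = (X - C (P i)) ^ (e i - 1) *
        ((∏ x ∈ Finset.univ.erase i, (X - C (P x)) ^ (e x - 1)) * C c) := by
      rw [hq, ← Finset.mul_prod_erase Finset.univ _ (Finset.mem_univ i), mul_assoc]
    have hpow : (X - C (P i)) ^ (e i) = (X - C (P i)) ^ (e i - 1) * (X - C (P i)) := by
      rw [← pow_succ, Nat.sub_add_cancel (he1 i)]
    rw [hsplit, hpow] at hdvd
    have h3 := (mul_dvd_mul_iff_left (pow_ne_zero (e i - 1) (X_sub_C_ne_zero (P i)))).mp hdvd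
    have h4 := dvd_iff_isRoot.mp h3
    rw [IsRoot, eval_mul, eval_prod, eval_C] at h4
    refine mul_ne_zero (Finset.prod_ne_zero_iff.mpr fun j hj => ?_) hc h4
    rw [eval_pow, eval_sub, eval_X, eval_C]
    exact pow_ne_zero _ (sub_ne_zero.mpr (hP.ne (Finset.ne_of_mem_erase hj).symm))
  have hFmem : F ∈ Submodule.span k ({F, G} : Set k[X]) := Submodule.subset_span (by simp)
  have hGmem : G ∈ Submodule.span k ({F, G} : Set k[X]) := Submodule.subset_span (by simp)
  -- base point free
  have hbpf : ∀ a : k, F.eval a ≠ 0 ∨ G.eval a ≠ 0 := by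
    intro a
    by_contra hcon
    push_neg at hcon
    obtain ⟨hFa, hGa⟩ := hcon
    by_cases ha : ∃ i, P i = a
    · obtain ⟨i, rfl⟩ := ha
      obtain ⟨s, hsV, hs0, hsd⟩ := hs i
      obtain ⟨t, c', ht, hc', hWc⟩ := exists_wron_eq F G s hsV hs0
      have hta : t.eval (P i) = 0 := by rcases ht with rfl | rfl <;> assumption
      apply hndvd i
      rw [hWc]
      exact Dvd.dvd.mul_left (dvd_wron_of_root s t (P i) (e i) hsd hta) _
    · push_neg at ha
      apply heval a ha
      simp [wronskian, hFa, hGa]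
  refine ⟨⟨?_, finrank_span_pair F G hW, ?_, ?_⟩, ⟨F, hFmem, G, hGmem, hW⟩, ?_⟩
  · rw [Submodule.span_le]
    intro x hx
    rcases hx with rfl | hx
    · exact mem_degreeLE.mpr (natDegree_le_iff_degree_le.mp hF)
    · rw [Set.mem_singleton_iff] at hx
      subst hx
      exact mem_degreeLE.mpr (natDegree_le_iff_degree_le.mp hG)
  · by_contra hcon
    push_neg at hcon
    have h1 : F.natDegree ≤ d - 1 := by
      have := hcon F hFmem
      omega
    have h2 : G.natDegree ≤ d - 1 := by
      have := hcon G hGmem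
      omega
    have := natDegree_wronskian_le (d - 1) F G h1 h2
    omega
  · intro a
    rcases hbpf a with h | h
    · exact ⟨F, hFmem, h⟩
    · exact ⟨G, hGmem, h⟩
  · intro i
    obtain ⟨s, hsV, hs0, hsd⟩ := hs i
    refine ⟨⟨s, hsV, hs0, (le_rootMultiplicity_iff hs0).mpr hsd⟩, ?_⟩
    intro s' hs'V hs'0
    by_contra hcon
    push_neg at hcon
    have hd' : (X - C (P i)) ^ (e i + 1) ∣ s' := (le_rootMultiplicity_iff hs'0).mp hcon
    obtain ⟨t, c', ht, hc', hWc⟩ := exists_wron_eq F G s' hs'V hs'0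
    apply hndvd i
    rw [hWc]
    have := dvd_wron_left s' t (P i) (e i + 1) hd'
    simpa using Dvd.dvd.mul_left this (C c')

end Groth.Agent.Lib.Seat60.ThreePt
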