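import Groth.Agent.Lib.Seat60ThreePtB

/-!
# Three ramification points: normal form, cross-multiplication, construction (seat 60)
-/

set_option autoImplicit false
universe u
open Polynomial Function

namespace Groth.Agent.Lib.Seat60.ThreePt

open W4c1limliniiii

variable {k : Type u} [Field k]

theorem finrank_span_pair_of_li (F G : k[X]) (h : LinearIndependent k ![F, G]) :
    Module.finrank k (Submodule.span k ({F, G} : Set k[X])) = 2 := by
  have h := finrank_span_eq_card h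
  have hr : Set.range ![F, G] = {F, G} := by
    ext x
    simp [Matrix.range_cons, eq_comm, or_comm]
  rw [hr] at h
  simpa using h

section

variable (d : ℕ) (P : Fin 3 → k) (e : Fin 3 → ℕ)

/-- `(F, G)` is a normalised triple: `F`, `G`, `F - G` vanish to orders `e 0, e 1, e 2` at
`P 0, P 1, P 2` and have degree at most `d`. -/
def IsTriple (F G : k[X]) : Prop :=
  F.natDegree ≤ d ∧ G.natDegree ≤ d ∧ (X - C (P 0)) ^ (e 0) ∣ F ∧ (X - C (P 1)) ^ (e 1) ∣ G ∧
    (X - C (P 2)) ^ (e 2) ∣ F - G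

variable {d P e}

theorem coprime_L (hP : Injective P) {i j : Fin 3} (hij : i ≠ j) :
    IsCoprime ((X - C (P i)) ^ (e i)) ((X - C (P j)) ^ (e j)) :=
  (isCoprime_X_sub_C_of_isUnit_sub (sub_ne_zero.mpr (hP.ne hij)).isUnit).pow

theorem natDegree_L (i : Fin 3) : ((X - C (P i)) ^ (e i)).natDegree = e i := by
  rw [(monic_X_sub_C _).natDegree_pow, natDegree_X_sub_C, mul_one]

theorem add_ge (hle : ∀ i, e i ≤ d) (hsum : e 0 + e 1 + e 2 = 2 * d + 1) {i j : Fin 3}
    (hij : i ≠ j) : d + 1 ≤ e i + e j := by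
  have h0 := hle 0
  have h1 := hle 1
  have h2 := hle 2
  fin_cases i <;> fin_cases j <;> simp at hij ⊢ <;> omega

theorem eq_zero_of_two (hP : Injective P) (hle : ∀ i, e i ≤ d)
    (hsum : e 0 + e 1 + e 2 = 2 * d + 1) {i j : Fin 3} (hij : i ≠ j) (S : k[X])
    (hS : S.natDegree ≤ d) (hi : (X - C (P i)) ^ (e i) ∣ S) (hj : (X - C (P j)) ^ (e j) ∣ S) :
    S = 0 := by
  have hdvd : (X - C (P i)) ^ (e i) * (X - C (P j)) ^ (e j) ∣ S :=
    (coprime_L hP hij).mul_dvd hi hj
  by_contra hS0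
  have h1 := natDegree_le_of_dvd hdvd hS0
  rw [((monic_X_sub_C _).pow _).natDegree_mul ((monic_X_sub_C _).pow _), natDegree_L,
    natDegree_L] at h1
  have := add_ge hle hsum hij
  omega

theorem indep_of_dvd (hP : Injective P) (hle : ∀ i, e i ≤ d)
    (hsum : e 0 + e 1 + e 2 = 2 * d + 1) {i j : Fin 3} (hij : i ≠ j) (S T : k[X])
    (hS : S.natDegree ≤ d) (hS0 : S ≠ 0) (hT0 : T ≠ 0)
    (hi : (X - C (P i)) ^ (e i) ∣ S) (hj : (X - C (P j)) ^ (e j) ∣ T) :
    LinearIndependent k ![S, T] := by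
  rw [LinearIndependent.pair_iff]
  intro a b hab
  by_contra hne
  by_cases ha : a = 0
  · have hb : b ≠ 0 := fun hb => hne ⟨ha, hb⟩
    rw [ha, zero_smul, zero_add] at hab
    rcases smul_eq_zero.mp hab with h | h
    · exact hb h
    · exact hT0 h
  · have hSe : S = (-(a⁻¹ * b)) • T := by
      have : a • S = -(b • T) := eq_neg_of_add_eq_zero_left hab
      calc S = a⁻¹ • (a • S) := by rw [smul_smul, inv_mul_cancel₀ ha, one_smul]
        _ = (-(a⁻¹ * b)) • T := by rw [this, smul_neg, smul_smul, neg_smul]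
    apply hS0
    apply eq_zero_of_two hP hle hsum hij S hS hi
    rw [hSe, smul_eq_C_mul]
    exact Dvd.dvd.mul_left hj _

theorem cross (hP : Injective P) (hsum : e 0 + e 1 + e 2 = 2 * d + 1) {F G F' G' : k[X]}
    (h : IsTriple d P e F G) (h' : IsTriple d P e F' G') : F * G' = F' * G := by
  obtain ⟨hF, hG, h0, h1, h2⟩ := h
  obtain ⟨hF', hG', h0', h1', h2'⟩ := h'
  have hQ0 : (X - C (P 0)) ^ (e 0) ∣ F * G' - F' * G :=
    dvd_sub (Dvd.dvd.mul_right h0 _) (Dvd.dvd.mul_right h0' _)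
  have hQ1 : (X - C (P 1)) ^ (e 1) ∣ F * G' - F' * G :=
    dvd_sub (Dvd.dvd.mul_left h1' _) (Dvd.dvd.mul_left h1 _)
  have hQ2 : (X - C (P 2)) ^ (e 2) ∣ F * G' - F' * G := by
    have : F * G' - F' * G = F' * (F - G) - F * (F' - G') := by ring
    rw [this]
    exact dvd_sub (Dvd.dvd.mul_left h2 _) (Dvd.dvd.mul_left h2' _)
  have hc01 : IsCoprime ((X - C (P 0)) ^ (e 0)) ((X - C (P 1)) ^ (e 1)) :=
    coprime_L hP (by decide)
  have hc02 : IsCoprime ((X - C (P 0)) ^ (e 0)) ((X - C (P 2)) ^ (e 2)) :=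
    coprime_L hP (by decide)
  have hc12 : IsCoprime ((X - C (P 1)) ^ (e 1)) ((X - C (P 2)) ^ (e 2)) :=
    coprime_L hP (by decide)
  have hdvd : (X - C (P 0)) ^ (e 0) * (X - C (P 1)) ^ (e 1) * (X - C (P 2)) ^ (e 2) ∣
      F * G' - F' * G :=
    (IsCoprime.mul_left hc02 hc12).mul_dvd (hc01.mul_dvd hQ0 hQ1) hQ2
  by_contra hne
  have hQne : F * G' - F' * G ≠ 0 := sub_ne_zero.mpr hne
  have h3 := natDegree_le_of_dvd hdvd hQne
  have hm0 : ((X - C (P 0)) ^ (e 0)).Monic := (monic_X_sub_C _).pow _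
  have hm1 : ((X - C (P 1)) ^ (e 1)).Monic := (monic_X_sub_C _).pow _
  have hm2 : ((X - C (P 2)) ^ (e 2)).Monic := (monic_X_sub_C _).pow _
  rw [(hm0.mul hm1).natDegree_mul hm2, hm0.natDegree_mul hm1, natDegree_L, natDegree_L,
    natDegree_L] at h3
  have h4 : (F * G' - F' * G).natDegree ≤ 2 * d := by
    refine (natDegree_sub_le _ _).trans (max_le ?_ ?_)
    · exact (natDegree_mul_le_of_le hF hG').trans (by omega)
    · exact (natDegree_mul_le_of_le hF' hG).trans (by omega)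
  omega

theorem normal_form (hP : Injective P) (hle : ∀ i, e i ≤ d)
    (hsum : e 0 + e 1 + e 2 = 2 * d + 1) (V : Submodule k k[X]) (hV : V ≤ degreeLE k d)
    (hfin : Module.finrank k V = 2)
    (hs : ∀ i, ∃ s ∈ V, s ≠ 0 ∧ (X - C (P i)) ^ (e i) ∣ s) :
    ∃ F G, F ∈ V ∧ G ∈ V ∧ IsTriple d P e F G ∧ F ≠ 0 ∧ G ≠ 0 ∧
      V = Submodule.span k ({F, G} : Set k[X]) := by
  have hdeg : ∀ s ∈ V, s.natDegree ≤ d := fun s hs =>
    natDegree_le_of_degree_le (mem_degreeLE.mp (hV hs))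
  obtain ⟨s0, hs0V, hs00, hs0d⟩ := hs 0
  obtain ⟨s1, hs1V, hs10, hs1d⟩ := hs 1
  obtain ⟨s2, hs2V, hs20, hs2d⟩ := hs 2
  have hli : LinearIndependent k ![s0, s1] :=
    indep_of_dvd hP hle hsum (i := 0) (j := 1) (by decide) s0 s1 (hdeg s0 hs0V) hs00 hs10 hs0d hs1d
  have : FiniteDimensional k V := Module.finite_of_finrank_pos (by omega)
  have hspan : Submodule.span k ({s0, s1} : Set k[X]) = V := by
    apply Submodule.eq_of_le_of_finrank_eq
    · rw [Submodule.span_le]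
      intro x hx
      rcases hx with rfl | hx
      · exact hs0V
      · rw [Set.mem_singleton_iff] at hx
        subst hx
        exact hs1V
    · rw [finrank_span_pair_of_li s0 s1 hli, hfin]
  have hs2mem : s2 ∈ Submodule.span k ({s0, s1} : Set k[X]) := hspan ▸ hs2V
  obtain ⟨α, β, hαβ⟩ := Submodule.mem_span_pair.mp hs2mem
  have hα : α ≠ 0 := by
    rintro rfl
    rw [zero_smul, zero_add] at hαβ
    apply hs20
    apply eq_zero_of_two hP hle hsum (i := 1) (j := 2) (by decide) s2 (hdeg s2 hs2V) _ hs2d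
    rw [← hαβ, smul_eq_C_mul]
    exact Dvd.dvd.mul_left hs1d _
  have hβ : β ≠ 0 := by
    rintro rfl
    rw [zero_smul, add_zero] at hαβ
    apply hs20
    apply eq_zero_of_two hP hle hsum (i := 0) (j := 2) (by decide) s2 (hdeg s2 hs2V) _ hs2d
    rw [← hαβ, smul_eq_C_mul]
    exact Dvd.dvd.mul_left hs0d _
  have hFV : α • s0 ∈ V := V.smul_mem _ hs0V
  have hGV : (-β) • s1 ∈ V := V.smul_mem _ hs1V
  refine ⟨α • s0, (-β) • s1, hFV, hGV, ⟨hdeg _ hFV, hdeg _ hGV, ?_, ?_, ?_⟩, ?_, ?_, ?_⟩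
  · rw [smul_eq_C_mul]
    exact Dvd.dvd.mul_left hs0d _
  · rw [smul_eq_C_mul]
    exact Dvd.dvd.mul_left hs1d _
  · have : α • s0 - (-β) • s1 = s2 := by
      rw [← hαβ, neg_smul, sub_neg_eq_add]
    rw [this]
    exact hs2d
  · exact smul_ne_zero hα hs00
  · exact smul_ne_zero (neg_ne_zero.mpr hβ) hs10
  · rw [← hspan]
    apply le_antisymm
    · rw [Submodule.span_le]
      intro x hx
      rcases hx with rfl | hx
      · have hmem : α • x ∈ Submodule.span k ({α • x, (-β) • s1} : Set k[X]) :=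
          Submodule.subset_span (by simp)
        have := Submodule.smul_mem _ α⁻¹ hmem
        rwa [smul_smul, inv_mul_cancel₀ hα, one_smul] at this
      · rw [Set.mem_singleton_iff] at hx
        subst hx
        have hmem : (-β) • x ∈ Submodule.span k ({α • s0, (-β) • x} : Set k[X]) :=
          Submodule.subset_span (by simp)
        have := Submodule.smul_mem _ (-β)⁻¹ hmem
        rwa [smul_smul, inv_mul_cancel₀ (neg_ne_zero.mpr hβ), one_smul] at this
    · rw [Submodule.span_le]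
      intro x hx
      rcases hx with rfl | hx
      · exact Submodule.smul_mem _ _ (Submodule.subset_span (by simp))
      · rw [Set.mem_singleton_iff] at hx
        subst hx
        exact Submodule.smul_mem _ _ (Submodule.subset_span (by simp))

theorem natDegree_mul_le_of_mem_degreeLT (i : Fin 3) (hle : e i ≤ d) (A : k[X])
    (hA : A ∈ degreeLT k (d - e i + 1)) : ((X - C (P i)) ^ (e i) * A).natDegree ≤ d := by
  by_cases hA0 : A = 0
  · simp [hA0]
  · have h1 : A.natDegree < d - e i + 1 := (natDegree_lt_iff_degree_lt hA0).mpr (mem_degreeLT.mp hA)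
    refine natDegree_mul_le.trans ?_
    rw [natDegree_L]
    omega

theorem exists_triple (hP : Injective P) (hle : ∀ i, e i ≤ d)
    (hsum : e 0 + e 1 + e 2 = 2 * d + 1) :
    ∃ F G : k[X], IsTriple d P e F G ∧ F ≠ 0 ∧ G ≠ 0 ∧ F - G ≠ 0 := by
  have hm2 : ((X - C (P 2)) ^ (e 2)).Monic := (monic_X_sub_C _).pow _
  let D0 := degreeLT k (d - e 0 + 1)
  let D1 := degreeLT k (d - e 1 + 1)
  let f0 : (D0 × D1) →ₗ[k] k[X] :=
    (modByMonicHom ((X - C (P 2)) ^ (e 2))) ∘ₗ
      ((LinearMap.mulLeft k ((X - C (P 0)) ^ (e 0))) ∘ₗ D0.subtype ∘ₗ (LinearMap.fst k D0 D1)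
      - (LinearMap.mulLeft k ((X - C (P 1)) ^ (e 1))) ∘ₗ D1.subtype ∘ₗ (LinearMap.snd k D0 D1))
  have hf0 : ∀ x, f0 x ∈ degreeLT k (e 2) := by
    intro x
    rw [mem_degreeLT]
    calc degree (f0 x) < degree ((X - C (P 2)) ^ (e 2)) := degree_modByMonic_lt _ hm2
      _ = e 2 := by rw [degree_eq_natDegree hm2.ne_zero, natDegree_L]
  let f := f0.codRestrict (degreeLT k (e 2)) hf0
  have hfd0 : FiniteDimensional k D0 := Module.Finite.equiv (degreeLTEquiv k _).symm
  have hfd1 : FiniteDimensional k D1 := Module.Finite.equiv (degreeLTEquiv k _).symm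
  have hfd2 : FiniteDimensional k (degreeLT k (e 2)) := Module.Finite.equiv (degreeLTEquiv k _).symm
  have hker : LinearMap.ker f ≠ ⊥ := by
    apply LinearMap.ker_ne_bot_of_finrank_lt
    rw [Module.finrank_prod, (degreeLTEquiv k _).finrank_eq, (degreeLTEquiv k _).finrank_eq,
      (degreeLTEquiv k _).finrank_eq, Module.finrank_fin_fun, Module.finrank_fin_fun,
      Module.finrank_fin_fun]
    have h0 := hle 0
    have h1 := hle 1
    omega
  obtain ⟨x, hxker, hx0⟩ := (Submodule.ne_bot_iff _).mp hker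
  obtain ⟨⟨A, hA⟩, ⟨B, hB⟩⟩ := x
  have hfx : f0 (⟨A, hA⟩, ⟨B, hB⟩) = 0 := by
    have := LinearMap.mem_ker.mp hxker
    exact congrArg Subtype.val this
  have hdvd2 : (X - C (P 2)) ^ (e 2) ∣
      (X - C (P 0)) ^ (e 0) * A - (X - C (P 1)) ^ (e 1) * B := by
    rw [← modByMonic_eq_zero_iff_dvd hm2]
    exact hfx
  have hAB : A ≠ 0 ∨ B ≠ 0 := by
    by_contra hcon
    push Not at hcon
    apply hx0
    obtain ⟨rfl, rfl⟩ := hcon
    rfl
  have hT : IsTriple d P e ((X - C (P 0)) ^ (e 0) * A) ((X - C (P 1)) ^ (e 1) * B) :=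
    ⟨natDegree_mul_le_of_mem_degreeLT 0 (hle 0) A hA, natDegree_mul_le_of_mem_degreeLT 1 (hle 1) B hB,
      Dvd.intro _ rfl, Dvd.intro _ rfl, hdvd2⟩
  have hL0 : (X - C (P 0)) ^ (e 0) ≠ 0 := pow_ne_zero _ (X_sub_C_ne_zero _)
  have hL1 : (X - C (P 1)) ^ (e 1) ≠ 0 := pow_ne_zero _ (X_sub_C_ne_zero _)
  have hF0 : (X - C (P 0)) ^ (e 0) * A ≠ 0 := by
    intro hF
    have hA0 : A = 0 := by
      rcases mul_eq_zero.mp hF with h | h
      · exact absurd h hL0
      · exact h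
    have hB0 : B ≠ 0 := by
      rcases hAB with h | h
      · exact absurd hA0 h
      · exact h
    apply mul_ne_zero hL1 hB0
    apply eq_zero_of_two hP hle hsum (i := 1) (j := 2) (by decide) _ hT.2.1 (Dvd.intro _ rfl)
    have := hdvd2
    rw [hF, zero_sub] at this
    exact (dvd_neg).mp this
  have hG0 : (X - C (P 1)) ^ (e 1) * B ≠ 0 := by
    intro hG
    apply hF0
    apply eq_zero_of_two hP hle hsum (i := 0) (j := 2) (by decide) _ hT.1 (Dvd.intro _ rfl)
    have := hdvd2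
    rwa [hG, sub_zero] at this
  refine ⟨_, _, hT, hF0, hG0, ?_⟩
  intro hFG
  apply hF0
  apply eq_zero_of_two hP hle hsum (i := 0) (j := 1) (by decide) _ hT.1 (Dvd.intro _ rfl)
  rw [sub_eq_zero.mp hFG]
  exact Dvd.intro _ rfl

end

end Groth.Agent.Lib.Seat60.ThreePt
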