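import Groth.Agent.Lib.Seat60ThreePtC

/-!
# Three ramification points: uniqueness, the emptiness criterion, the characteristic argument (seat 60)
-/

set_option autoImplicit false
universe u
open Polynomial Function

namespace Groth.Agent.Lib.Seat60.ThreePt

open W4c1limliniiii
open Groth.Agent.S19560.Aux.WronRam (wron_change)

variable {k : Type u} [Field k]

theorem wron_mul_mul (u F G : k[X]) : wronskian (u * F) (u * G) = u ^ 2 * wronskian F G := by
  unfold wronskian
  rw [derivative_mul, derivative_mul]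
  ring

/-- A pair in the span of `F, G` with non-zero Wronskian forces `W(F, G) ≠ 0`. -/
theorem wronskian_ne_zero_of_isSeparable (F G : k[X])
    (h : IsSeparable (Submodule.span k ({F, G} : Set k[X]))) : wronskian F G ≠ 0 := by
  obtain ⟨F', hF', G', hG', hW⟩ := h
  obtain ⟨α, β, rfl⟩ := Submodule.mem_span_pair.mp hF'
  obtain ⟨γ, δ, rfl⟩ := Submodule.mem_span_pair.mp hG'
  rw [wron_change] at hW
  exact right_ne_zero_of_mul hW

theorem wronskian_eq_zero_of_not_isSeparable (V : Submodule k k[X]) (h : ¬ IsSeparable V)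
    (F G : k[X]) (hF : F ∈ V) (hG : G ∈ V) : wronskian F G = 0 := by
  by_contra hne
  exact h ⟨F, hF, G, hG, hne⟩

section

variable {d : ℕ} {P : Fin 3 → k} {e : Fin 3 → ℕ}

theorem sum3 {p : ℕ} (he : Admissible p d e) : e 0 + e 1 + e 2 = 2 * d + 1 := by
  have := he.2
  rw [Fin.sum_univ_three] at this
  omega

theorem dvd_of_hasRamIdx {V : Submodule k k[X]} {a : k} {n : ℕ} (h : HasRamIdx V a n) :
    ∃ s ∈ V, s ≠ 0 ∧ (X - C a) ^ n ∣ s := by
  obtain ⟨⟨s, hsV, hs0, hs⟩, -⟩ := h
  exact ⟨s, hsV, hs0, (le_rootMultiplicity_iff hs0).mp hs⟩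

variable [IsAlgClosed k]

theorem triple_of_mem_ramMaps {p : ℕ} (hP : Injective P) (he : Admissible p d e)
    {V : Submodule k k[X]} (hV : V ∈ ramMaps d P e) :
    ∃ F G, F ∈ V ∧ G ∈ V ∧ IsTriple d P e F G ∧ F ≠ 0 ∧ G ≠ 0 ∧
      V = Submodule.span k ({F, G} : Set k[X]) ∧ IsCoprime F G ∧ wronskian F G ≠ 0 := by
  obtain ⟨⟨hle, hfin, -, hbpf⟩, hsep, hram⟩ := hV
  obtain ⟨F, G, hFV, hGV, hT, hF0, hG0, hspan⟩ :=
    normal_form hP (fun i => (he.1 i).2.1) (sum3 he) V hle hfin fun i => dvd_of_hasRamIdx (hram i)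
  refine ⟨F, G, hFV, hGV, hT, hF0, hG0, hspan, ?_, ?_⟩
  · rw [isCoprime_iff_aeval_ne_zero_of_isAlgClosed (k := k) k]
    intro a
    obtain ⟨s, hsV, hsa⟩ := hbpf a
    rw [hspan] at hsV
    obtain ⟨α, β, rfl⟩ := Submodule.mem_span_pair.mp hsV
    by_contra hcon
    push Not at hcon
    apply hsa
    simp only [coe_aeval_eq_eval] at hcon
    simp [eval_add, eval_smul, hcon.1, hcon.2]
  · apply wronskian_ne_zero_of_isSeparable
    rw [← hspan]
    exact hsep

theorem ramMaps_subsingleton {p : ℕ} (hP : Injective P) (he : Admissible p d e) :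
    (ramMaps d P e).Subsingleton := by
  intro V hV V' hV'
  obtain ⟨F, G, -, -, hT, hF0, hG0, hspan, hcop, -⟩ := triple_of_mem_ramMaps hP he hV
  obtain ⟨F', G', -, -, hT', hF0', hG0', hspan', hcop', -⟩ := triple_of_mem_ramMaps hP he hV'
  have hc := cross hP (sum3 he) hT hT'
  -- F * G' = F' * G
  have h1 : F ∣ F' := hcop.dvd_of_dvd_mul_right (Dvd.intro _ hc)
  have h2 : F' ∣ F := hcop'.dvd_of_dvd_mul_right (Dvd.intro _ hc.symm)
  obtain ⟨u, hu⟩ := associated_of_dvd_dvd h1 h2
  obtain ⟨c, hc0, hcu⟩ := Polynomial.isUnit_iff.mp u.isUnit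
  have hF' : F' = C c * F := by rw [← hu, ← hcu, mul_comm]
  have hG' : G' = C c * G := by
    have : F * G' = F * (C c * G) := by rw [hc, hF']; ring
    exact mul_left_cancel₀ hF0 this
  rw [← smul_eq_C_mul] at hF' hG'
  rw [hspan, hspan', hF', hG']
  have hcne : c ≠ 0 := hc0.ne_zero
  apply le_antisymm
  · rw [Submodule.span_le]
    intro x hx
    have hFm : c • F ∈ Submodule.span k ({c • F, c • G} : Set k[X]) :=
      Submodule.subset_span (by simp)
    have hGm : c • G ∈ Submodule.span k ({c • F, c • G} : Set k[X]) :=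
      Submodule.subset_span (by simp)
    rcases hx with hx | hx
    · rw [hx]
      have := Submodule.smul_mem _ c⁻¹ hFm
      rwa [smul_smul, inv_mul_cancel₀ hcne, one_smul] at this
    · rw [Set.mem_singleton_iff] at hx
      rw [hx]
      have := Submodule.smul_mem _ c⁻¹ hGm
      rwa [smul_smul, inv_mul_cancel₀ hcne, one_smul] at this
  · rw [Submodule.span_le]
    intro x hx
    rcases hx with hx | hx
    · rw [hx]
      exact Submodule.smul_mem _ _ (Submodule.subset_span (by simp))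
    · rw [Set.mem_singleton_iff] at hx
      rw [hx]
      exact Submodule.smul_mem _ _ (Submodule.subset_span (by simp))

/-- An inseparable two-dimensional space with the required vanishing excludes any map. -/
theorem ramMaps_eq_empty_of_inseparable {p : ℕ} (hP : Injective P) (he : Admissible p d e)
    (V₀ : Submodule k k[X]) (hle : V₀ ≤ degreeLE k d) (hfin : Module.finrank k V₀ = 2)
    (hins : ¬ IsSeparable V₀)
    (hs : ∀ i, ∃ s ∈ V₀, s ≠ 0 ∧ e i ≤ rootMultiplicity (P i) s) :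
    ramMaps d P e = ∅ := by
  rw [Set.eq_empty_iff_forall_notMem]
  intro V hV
  obtain ⟨F, G, -, -, hT, hF0, hG0, hspan, hcop, hW⟩ := triple_of_mem_ramMaps hP he hV
  obtain ⟨F', G', hF'V, hG'V, hT', hF0', hG0', -⟩ :=
    normal_form hP (fun i => (he.1 i).2.1) (sum3 he) V₀ hle hfin fun i => by
      obtain ⟨s, hsV, hs0, hs⟩ := hs i
      exact ⟨s, hsV, hs0, (le_rootMultiplicity_iff hs0).mp hs⟩
  have hc := cross hP (sum3 he) hT hT'
  obtain ⟨u, hu⟩ : F ∣ F' := hcop.dvd_of_dvd_mul_right (Dvd.intro _ hc)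
  have hG' : G' = u * G := by
    have : F * G' = F * (u * G) := by rw [hc, hu]; ring
    exact mul_left_cancel₀ hF0 this
  have hu0 : u ≠ 0 := by
    rintro rfl
    rw [mul_zero] at hu
    exact hF0' hu
  have hW' := wronskian_eq_zero_of_not_isSeparable V₀ hins F' G' hF'V hG'V
  rw [hu, hG', mul_comm F u, wron_mul_mul] at hW'
  rcases mul_eq_zero.mp hW' with h | h
  · exact hu0 (pow_eq_zero_iff (by norm_num) |>.mp h)
  · exact hW h

omit [IsAlgClosed k] in
theorem exists_inseparable_of_ramMaps_eq_empty {p : ℕ} (hP : Injective P) (he : Admissible p d e)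
    (hempty : ramMaps d P e = ∅) :
    ∃ V : Submodule k k[X], V ≤ degreeLE k d ∧ Module.finrank k V = 2 ∧ ¬ IsSeparable V ∧
      ∀ i, ∃ s ∈ V, s ≠ 0 ∧ e i ≤ rootMultiplicity (P i) s := by
  have hle : ∀ i, e i ≤ d := fun i => (he.1 i).2.1
  obtain ⟨F, G, hT, hF0, hG0, hFG0⟩ := exists_triple (k := k) hP hle (sum3 he)
  have hFm : F ∈ Submodule.span k ({F, G} : Set k[X]) := Submodule.subset_span (by simp)
  have hGm : G ∈ Submodule.span k ({F, G} : Set k[X]) := Submodule.subset_span (by simp)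
  have hs : ∀ i, ∃ s ∈ Submodule.span k ({F, G} : Set k[X]), s ≠ 0 ∧ (X - C (P i)) ^ (e i) ∣ s := by
    intro i
    fin_cases i
    · exact ⟨F, hFm, hF0, hT.2.2.1⟩
    · exact ⟨G, hGm, hG0, hT.2.2.2.1⟩
    · exact ⟨F - G, Submodule.sub_mem _ hFm hGm, hFG0, hT.2.2.2.2⟩
  refine ⟨Submodule.span k ({F, G} : Set k[X]), ?_, ?_, ?_, ?_⟩
  · rw [Submodule.span_le]
    intro x hx
    rcases hx with rfl | hx
    · exact mem_degreeLE.mpr (natDegree_le_iff_degree_le.mp hT.1)
    · rw [Set.mem_singleton_iff] at hx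
      subst hx
      exact mem_degreeLE.mpr (natDegree_le_iff_degree_le.mp hT.2.1)
  · exact finrank_span_pair_of_li F G
      (indep_of_dvd hP hle (sum3 he) (i := 0) (j := 1) (by decide) F G hT.1 hF0 hG0 hT.2.2.1
        hT.2.2.2.1)
  · intro hsep
    have hW := wronskian_ne_zero_of_isSeparable F G hsep
    have hmem := mem_ramMaps_of_wronskian_ne_zero d P hP e (fun i => le_trans (by norm_num) (he.1 i).1)
      he.2 (le_trans (he.1 0).1 (he.1 0).2.1) F G hT.1 hT.2.1 hW hs
    rw [hempty] at hmem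
    exact hmem
  · intro i
    obtain ⟨s, hsV, hs0, hsd⟩ := hs i
    exact ⟨s, hsV, hs0, (le_rootMultiplicity_iff hs0).mpr hsd⟩

end

end Groth.Agent.Lib.Seat60.ThreePt
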