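import Groth.Agent.Lib.Seat60ThreePtE

/-!
# Three ramification points: no map when `e 0, e 1 < p ≤ d` (seat 60)
-/

set_option autoImplicit false
universe u
open Polynomial Function

namespace Groth.Agent.Lib.Seat60.ThreePt

open W4c1limliniiii

variable {k : Type u} [Field k] {d : ℕ} {P : Fin 3 → k} {e : Fin 3 → ℕ} [IsAlgClosed k]

theorem eq_empty_of_char_le {p : ℕ} [CharP k p] (hP : Injective P) (he : Admissible p d e)
    (hp0 : p ≠ 0) (h0 : e 0 < p) (h1 : e 1 < p) (hpd : p ≤ d) : ramMaps d P e = ∅ := by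
  have hprime : p.Prime := (CharP.char_is_prime_or_zero k p).resolve_right hp0
  have : Fact p.Prime := ⟨hprime⟩
  obtain ⟨u, hu⟩ : ∃ u : k[X], u = (X - C (P 2)) ^ (e 2 - p) := ⟨_, rfl⟩
  have hu0 : u ≠ 0 := by
    rw [hu]
    exact pow_ne_zero _ (X_sub_C_ne_zero _)
  have hudeg : u.natDegree = e 2 - p := by
    rw [hu, (monic_X_sub_C _).natDegree_pow, natDegree_X_sub_C, mul_one]
  have hdeg : ∀ a : k, ((X - C a) ^ p * u).natDegree ≤ d := by
    intro a
    refine natDegree_mul_le.trans ?_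
    rw [(monic_X_sub_C _).natDegree_pow, natDegree_X_sub_C, mul_one, hudeg]
    have := (he.1 2).2.1
    omega
  have hne : ∀ a : k, (X - C a) ^ p * u ≠ 0 := fun a =>
    mul_ne_zero (pow_ne_zero _ (X_sub_C_ne_zero _)) hu0
  have hder : ∀ a : k, derivative ((X - C a) ^ p) = 0 := by
    intro a
    rw [derivative_X_sub_C_pow, CharP.cast_eq_zero k p, C_0, zero_mul]
  have h01 : P 0 ≠ P 1 := hP.ne (by decide)
  have hFm : (X - C (P 0)) ^ p * u ∈
      Submodule.span k ({(X - C (P 0)) ^ p * u, (X - C (P 1)) ^ p * u} : Set k[X]) :=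
    Submodule.subset_span (by simp)
  have hGm : (X - C (P 1)) ^ p * u ∈
      Submodule.span k ({(X - C (P 0)) ^ p * u, (X - C (P 1)) ^ p * u} : Set k[X]) :=
    Submodule.subset_span (by simp)
  apply ramMaps_eq_empty_of_inseparable hP he
    (Submodule.span k ({(X - C (P 0)) ^ p * u, (X - C (P 1)) ^ p * u} : Set k[X]))
  · rw [Submodule.span_le]
    intro x hx
    rcases hx with hx | hx
    · rw [hx]
      exact mem_degreeLE.mpr (natDegree_le_iff_degree_le.mp (hdeg _))
    · rw [Set.mem_singleton_iff] at hx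
      rw [hx]
      exact mem_degreeLE.mpr (natDegree_le_iff_degree_le.mp (hdeg _))
  · apply finrank_span_pair_of_li
    rw [LinearIndependent.pair_iff]
    intro a b hab
    have h2 : C a * (X - C (P 0)) ^ p + C b * (X - C (P 1)) ^ p = 0 := by
      have : u * (C a * (X - C (P 0)) ^ p + C b * (X - C (P 1)) ^ p) = 0 := by
        rw [← hab, smul_eq_C_mul, smul_eq_C_mul]
        ring
      rcases mul_eq_zero.mp this with h | h
      · exact absurd h hu0
      · exact h
    have e0 := congrArg (Polynomial.eval (P 0)) h2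
    have e1 := congrArg (Polynomial.eval (P 1)) h2
    simp only [eval_add, eval_mul, eval_C, eval_pow, eval_sub, eval_X, sub_self, eval_zero,
      zero_pow hp0, mul_zero, zero_add, add_zero] at e0 e1
    constructor
    · rcases mul_eq_zero.mp e1 with h | h
      · exact h
      · exact absurd (pow_eq_zero_iff hp0 |>.mp h) (sub_ne_zero.mpr h01.symm)
    · rcases mul_eq_zero.mp e0 with h | h
      · exact h
      · exact absurd (pow_eq_zero_iff hp0 |>.mp h) (sub_ne_zero.mpr h01)
  · intro hsep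
    apply wronskian_ne_zero_of_isSeparable _ _ hsep
    rw [mul_comm _ u, mul_comm _ u, wron_mul_mul]
    unfold wronskian
    rw [hder, hder]
    ring
  · intro i
    fin_cases i
    · refine ⟨_, hFm, hne _, (le_rootMultiplicity_iff (hne _)).mpr ?_⟩
      exact Dvd.dvd.mul_right (pow_dvd_pow _ h0.le) _
    · refine ⟨_, hGm, hne _, (le_rootMultiplicity_iff (hne _)).mpr ?_⟩
      exact Dvd.dvd.mul_right (pow_dvd_pow _ h1.le) _
    · have hkey : (P 2 - P 1) ^ p • ((X - C (P 0)) ^ p * u) - (P 2 - P 0) ^ p • ((X - C (P 1)) ^ p * u)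
          = C ((P 0 - P 1) ^ p) * ((X - C (P 2)) ^ p * u) := by
        have hlin : C (P 2 - P 1) * (X - C (P 0)) - C (P 2 - P 0) * (X - C (P 1))
            = C (P 0 - P 1) * (X - C (P 2)) := by
          simp only [C_sub]
          ring
        calc (P 2 - P 1) ^ p • ((X - C (P 0)) ^ p * u) - (P 2 - P 0) ^ p • ((X - C (P 1)) ^ p * u)
            = ((C (P 2 - P 1) * (X - C (P 0))) ^ p - (C (P 2 - P 0) * (X - C (P 1))) ^ p) * u := by
              rw [smul_eq_C_mul, smul_eq_C_mul, C_pow, C_pow, mul_pow, mul_pow]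
              ring
          _ = (C (P 2 - P 1) * (X - C (P 0)) - C (P 2 - P 0) * (X - C (P 1))) ^ p * u := by
              rw [sub_pow_char]
          _ = C ((P 0 - P 1) ^ p) * ((X - C (P 2)) ^ p * u) := by
              rw [hlin, mul_pow, C_pow]
              ring
      have hs2ne : C ((P 0 - P 1) ^ p) * ((X - C (P 2)) ^ p * u) ≠ 0 :=
        mul_ne_zero (C_ne_zero.mpr (pow_ne_zero _ (sub_ne_zero.mpr h01))) (hne _)
      show ∃ s ∈ Submodule.span k ({(X - C (P 0)) ^ p * u, (X - C (P 1)) ^ p * u} : Set k[X]),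
        s ≠ 0 ∧ e 2 ≤ rootMultiplicity (P 2) s
      refine ⟨(P 2 - P 1) ^ p • ((X - C (P 0)) ^ p * u) - (P 2 - P 0) ^ p • ((X - C (P 1)) ^ p * u),
        Submodule.sub_mem _ (Submodule.smul_mem _ _ hFm) (Submodule.smul_mem _ _ hGm), ?_, ?_⟩
      · rw [hkey]
        exact hs2ne
      · rw [hkey, le_rootMultiplicity_iff hs2ne]
        apply Dvd.dvd.mul_left
        rw [hu, ← pow_add]
        exact pow_dvd_pow _ (by omega)

/-- The three-point count. -/
theorem three_points_count {p : ℕ} [CharP k p] (hP : Injective P) (he : Admissible p d e) :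
    (p ≠ 0 → e 0 < p → e 1 < p → p ≤ d → ramMaps d P e = ∅) ∧
      (p = 0 ∨ d < p → ∃ V : Submodule k k[X], ramMaps d P e = {V}) :=
  ⟨fun hp0 h0 h1 hpd => eq_empty_of_char_le hP he hp0 h0 h1 hpd,
    fun hp => exists_eq_singleton hP he hp⟩

end Groth.Agent.Lib.Seat60.ThreePt
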