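import Mathlib

/-!
# Fibre ranks of submodules (seat 61), towards the Eisenbud–Evans basic element theorem

For a prime `p` of `A` and an `A`-module `M`, `fib p M = κ(p) ⊗ M`, `toFib p : M → fib p M`, and for a submodule
`N ≤ M`, `rk p N` is the `κ(p)`-dimension of the span of the image of `N` in the fibre.
-/

set_option autoImplicit false
universe u
open TensorProduct

namespace Groth.Agent.Lib.Seat61.Basic1

variable {A : Type u} [CommRing A] {M : Type u} [AddCommGroup M] [Module A M]

/-- the fibre of `M` at `p` -/
abbrev fib (p : Ideal A) [p.IsPrime] (M : Type u) [AddCommGroup M] [Module A M] : Type u :=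
  p.ResidueField ⊗[A] M

/-- the canonical map to the fibre -/
noncomputable def toFib (p : Ideal A) [p.IsPrime] : M →ₗ[A] fib p M :=
  TensorProduct.mk A p.ResidueField M 1

theorem toFib_apply (p : Ideal A) [p.IsPrime] (x : M) : toFib p x = (1 : p.ResidueField) ⊗ₜ[A] x := rfl

theorem toFib_smul (p : Ideal A) [p.IsPrime] (a : A) (x : M) :
    toFib p (a • x) = algebraMap A p.ResidueField a • toFib p x := by
  rw [map_smul, algebraMap_smul]

theorem toFib_smul_of_mem (p : Ideal A) [p.IsPrime] {a : A} (ha : a ∈ p) (x : M) :
    toFib p (a • x) = 0 := by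
  rw [toFib_smul, Ideal.algebraMap_residueField_eq_zero.mpr ha, zero_smul]

/-- the span of the image of a submodule in the fibre -/
noncomputable def fibSpan (p : Ideal A) [p.IsPrime] (N : Submodule A M) :
    Submodule p.ResidueField (fib p M) :=
  Submodule.span p.ResidueField (toFib p '' (N : Set M))

theorem fibSpan_mono (p : Ideal A) [p.IsPrime] {N N' : Submodule A M} (h : N ≤ N') :
    fibSpan p N ≤ fibSpan p N' :=
  Submodule.span_mono (Set.image_mono h)

theorem toFib_mem_fibSpan (p : Ideal A) [p.IsPrime] {N : Submodule A M} {x : M} (hx : x ∈ N) :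
    toFib p x ∈ fibSpan p N :=
  Submodule.subset_span ⟨x, hx, rfl⟩

theorem fibSpan_span (p : Ideal A) [p.IsPrime] (S : Set M) :
    fibSpan p (Submodule.span A S) = Submodule.span p.ResidueField (toFib p '' S) := by
  apply le_antisymm
  · unfold fibSpan
    rw [Submodule.span_le]
    rintro _ ⟨x, hx, rfl⟩
    induction hx using Submodule.span_induction with
    | mem y hy => exact Submodule.subset_span ⟨y, hy, rfl⟩
    | zero => rw [map_zero]; exact Submodule.zero_mem _
    | add y z _ _ hy hz => rw [map_add]; exact Submodule.add_mem _ hy hz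
    | smul a y _ hy => rw [toFib_smul]; exact Submodule.smul_mem _ _ hy
  · exact Submodule.span_mono (Set.image_mono Submodule.subset_span)

theorem fibSpan_sup (p : Ideal A) [p.IsPrime] (N N' : Submodule A M) :
    fibSpan p (N ⊔ N') = fibSpan p N ⊔ fibSpan p N' := by
  apply le_antisymm
  · unfold fibSpan
    rw [Submodule.span_le]
    rintro _ ⟨x, hx, rfl⟩
    obtain ⟨y, hy, z, hz, rfl⟩ := Submodule.mem_sup.mp hx
    rw [map_add]
    exact Submodule.add_mem _ (Submodule.mem_sup_left (toFib_mem_fibSpan p hy))
      (Submodule.mem_sup_right (toFib_mem_fibSpan p hz))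
  · exact sup_le (fibSpan_mono p le_sup_left) (fibSpan_mono p le_sup_right)

theorem fibSpan_top (p : Ideal A) [p.IsPrime] : fibSpan p (⊤ : Submodule A M) = ⊤ := by
  rw [eq_top_iff]
  rintro z -
  induction z using TensorProduct.induction_on with
  | zero => exact Submodule.zero_mem _
  | tmul c x =>
    have : c ⊗ₜ[A] x = c • toFib p x := by
      rw [toFib_apply, TensorProduct.smul_tmul', smul_eq_mul, mul_one]
    rw [this]
    exact Submodule.smul_mem _ _ (toFib_mem_fibSpan p Submodule.mem_top)
  | add y z hy hz => exact Submodule.add_mem _ hy hz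

/-- the rank of the image of `N` in the fibre at `p` -/
noncomputable def rk (p : Ideal A) [p.IsPrime] (N : Submodule A M) : ℕ :=
  Module.finrank p.ResidueField (fibSpan p N)

variable [Module.Finite A M]

theorem rk_mono (p : Ideal A) [p.IsPrime] {N N' : Submodule A M} (h : N ≤ N') :
    rk p N ≤ rk p N' :=
  Submodule.finrank_mono (fibSpan_mono p h)

theorem rk_top (p : Ideal A) [p.IsPrime] :
    rk p (⊤ : Submodule A M) = Module.finrank p.ResidueField (fib p M) := by
  unfold rk
  rw [fibSpan_top, finrank_top]

theorem rk_sup_span_singleton_le (p : Ideal A) [p.IsPrime] (N : Submodule A M) (x : M) :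
    rk p (N ⊔ Submodule.span A {x}) ≤ rk p N + 1 := by
  unfold rk
  rw [fibSpan_sup, fibSpan_span, Set.image_singleton]
  refine (Submodule.finrank_add_le_finrank_add_finrank _ _).trans ?_
  gcongr
  exact (finrank_span_le_card ({toFib p x} : Set (fib p M))).trans (by simp)

theorem one_le_rk_span_singleton_iff (p : Ideal A) [p.IsPrime] (x : M) :
    1 ≤ rk p (Submodule.span A {x}) ↔ toFib p x ≠ 0 := by
  unfold rk
  rw [fibSpan_span, Set.image_singleton]
  constructor
  · intro h hx
    rw [hx] at h
    simp at h
  · intro hx
    rw [finrank_span_singleton hx]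

omit [Module.Finite A M] in
theorem ker_baseChange_mkQ (p : Ideal A) [p.IsPrime] (N : Submodule A M) :
    LinearMap.ker (N.mkQ.baseChange p.ResidueField) = fibSpan p N := by
  have hex : Function.Exact (N.subtype.lTensor p.ResidueField) (N.mkQ.lTensor p.ResidueField) :=
    lTensor_exact p.ResidueField (LinearMap.exact_subtype_mkQ N) (Submodule.mkQ_surjective N)
  apply le_antisymm
  · intro z hz
    rw [LinearMap.mem_ker] at hz
    have hz' : N.mkQ.lTensor p.ResidueField z = 0 := hz
    obtain ⟨w, rfl⟩ := (hex z).mp hz'
    clear hz hz'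
    induction w using TensorProduct.induction_on with
    | zero => rw [map_zero]; exact Submodule.zero_mem _
    | tmul c n =>
      have : N.subtype.lTensor p.ResidueField (c ⊗ₜ[A] n) = c • toFib p (n : M) := by
        rw [LinearMap.lTensor_tmul, toFib_apply, TensorProduct.smul_tmul', smul_eq_mul, mul_one]
        rfl
      rw [this]
      exact Submodule.smul_mem _ _ (toFib_mem_fibSpan p n.2)
    | add y z hy hz => rw [map_add]; exact Submodule.add_mem _ hy hz
  · unfold fibSpan
    rw [Submodule.span_le]
    rintro _ ⟨x, hx, rfl⟩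
    change N.mkQ.baseChange p.ResidueField (toFib p x) = 0
    rw [toFib_apply, LinearMap.baseChange_tmul, Submodule.mkQ_apply,
      (Submodule.Quotient.mk_eq_zero N).mpr hx, TensorProduct.tmul_zero]

theorem finrank_fib_quotient_add_rk (p : Ideal A) [p.IsPrime] (N : Submodule A M) :
    Module.finrank p.ResidueField (fib p (M ⧸ N)) + rk p N =
      Module.finrank p.ResidueField (fib p M) := by
  have hsurj : Function.Surjective (N.mkQ.baseChange p.ResidueField) := by
    have := LinearMap.lTensor_surjective p.ResidueField (Submodule.mkQ_surjective N)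
    exact this
  have h := LinearMap.finrank_range_add_finrank_ker (N.mkQ.baseChange p.ResidueField)
  rw [LinearMap.range_eq_top.mpr hsurj, finrank_top, ker_baseChange_mkQ] at h
  exact h

end Groth.Agent.Lib.Seat61.Basic1
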