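import Mathlib
import Groth.Agent.Lib.Seat61Basic1

/-!
# Eisenbud–Evans: modifying generators at finitely many primes (seat 61)
-/

set_option autoImplicit false
universe u
open TensorProduct

namespace Groth.Agent.Lib.Seat61.Basic2

open Groth.Agent.Lib.Seat61.Basic1

section VectorSpace

variable {K V : Type*} [Field K] [AddCommGroup V] [Module K V]

/-- Linear algebra step: if `v₁, …, vₙ, w` span a space of dimension at most `n`, then after adding to the
coefficients `α` either nothing or `c` in one coordinate, the vectors `vᵢ + (αᵢ + bᵢ) w` span the same space. -/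
theorem exists_modify_span_eq [FiniteDimensional K V] {n : ℕ} (v : Fin n → V) (w : V) (α : Fin n → K)
    (c : K) (hc : c ≠ 0)
    (hdim : Module.finrank K (Submodule.span K (insert w (Set.range v))) ≤ n) :
    ∃ b : Fin n → K, (b = 0 ∨ ∃ l, b = Pi.single l c) ∧
      Submodule.span K (Set.range fun i => v i + (α i + b i) • w) =
        Submodule.span K (insert w (Set.range v)) := by
  classical
  set u : Fin n → V := fun i => v i + α i • w with hu
  have hV' : Submodule.span K (insert w (Set.range u)) = Submodule.span K (insert w (Set.range v)) := by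
    apply le_antisymm
    · rw [Submodule.span_le]
      rintro _ (rfl | ⟨i, rfl⟩)
      · exact Submodule.subset_span (Set.mem_insert _ _)
      · exact Submodule.add_mem _ (Submodule.subset_span (Set.mem_insert_of_mem _ ⟨i, rfl⟩))
          (Submodule.smul_mem _ _ (Submodule.subset_span (Set.mem_insert _ _)))
    · rw [Submodule.span_le]
      rintro _ (rfl | ⟨i, rfl⟩)
      · exact Submodule.subset_span (Set.mem_insert _ _)
      · have : v i = u i - α i • w := by simp [hu]
        rw [this]
        exact Submodule.sub_mem _ (Submodule.subset_span (Set.mem_insert_of_mem _ ⟨i, rfl⟩))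
          (Submodule.smul_mem _ _ (Submodule.subset_span (Set.mem_insert _ _)))
  -- a general criterion
  have crit : ∀ b : Fin n → K, w ∈ Submodule.span K (Set.range fun i => v i + (α i + b i) • w) →
      Submodule.span K (Set.range fun i => v i + (α i + b i) • w) =
        Submodule.span K (insert w (Set.range v)) := by
    intro b hw
    apply le_antisymm
    · rw [Submodule.span_le]
      rintro _ ⟨i, rfl⟩
      exact Submodule.add_mem _ (Submodule.subset_span (Set.mem_insert_of_mem _ ⟨i, rfl⟩))
        (Submodule.smul_mem _ _ (Submodule.subset_span (Set.mem_insert _ _)))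
    · rw [Submodule.span_le]
      rintro _ (rfl | ⟨i, rfl⟩)
      · exact hw
      · have : v i = (v i + (α i + b i) • w) - (α i + b i) • w := by simp
        rw [this]
        exact Submodule.sub_mem _ (Submodule.subset_span ⟨i, rfl⟩) (Submodule.smul_mem _ _ hw)
  by_cases hw : w ∈ Submodule.span K (Set.range u)
  · refine ⟨0, Or.inl rfl, crit 0 ?_⟩
    simpa [hu] using hw
  · have hnli : ¬ LinearIndependent K u := by
      intro hli
      have hli' : LinearIndependent K (Fin.snoc u w : Fin (n + 1) → V) :=
        (linearIndependent_finSnoc).mpr ⟨hli, hw⟩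
      have h1 := finrank_span_eq_card hli'
      rw [Fintype.card_fin] at h1
      have h2 : Set.range (Fin.snoc u w : Fin (n + 1) → V) = insert w (Set.range u) := by
        rw [Fin.range_snoc]
      rw [h2, hV'] at h1
      omega
    obtain ⟨g, hg, l, hl⟩ := Fintype.not_linearIndependent_iff.mp hnli
    refine ⟨Pi.single l c, Or.inr ⟨l, rfl⟩, crit _ ?_⟩
    have hsum : ∑ i, g i • (v i + (α i + (Pi.single l c : Fin n → K) i) • w) = (g l * c) • w := by
      have e : ∀ i, g i • (v i + (α i + (Pi.single l c : Fin n → K) i) • w) =
          g i • u i + (g i * (Pi.single l c : Fin n → K) i) • w := by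
        intro i
        simp only [hu, add_smul, smul_add, smul_smul]
        abel
      simp only [e, Finset.sum_add_distrib, hg, zero_add, ← Finset.sum_smul]
      congr 1
      rw [Finset.sum_eq_single l]
      · simp
      · intro j _ hj
        simp [Pi.single_eq_of_ne hj]
      · simp
    have hne : g l * c ≠ 0 := mul_ne_zero hl hc
    have hmem : (g l * c)⁻¹ • ∑ i, g i • (v i + (α i + (Pi.single l c : Fin n → K) i) • w) ∈
        Submodule.span K (Set.range fun i => v i + (α i + (Pi.single l c : Fin n → K) i) • w) := by
      refine Submodule.smul_mem _ _ (Submodule.sum_mem _ fun i _ => Submodule.smul_mem _ _ ?_)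
      exact Submodule.subset_span ⟨i, rfl⟩
    rw [hsum, smul_smul, inv_mul_cancel₀ hne, one_smul] at hmem
    exact hmem

end VectorSpace

section Module

variable {A : Type u} [CommRing A] {M : Type u} [AddCommGroup M] [Module A M]

/-- modified generators `mᵢ + aᵢ z` -/
def modif {n : ℕ} (m : Fin n → M) (z : M) (a : Fin n → A) : Fin n → M := fun i => m i + a i • z

theorem fibSpan_modif (p : Ideal A) [p.IsPrime] {n : ℕ} (m : Fin n → M) (z : M) (a : Fin n → A) :
    fibSpan p (Submodule.span A (Set.range (modif m z a))) =
      Submodule.span p.ResidueField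
        (Set.range fun i => toFib p (m i) + algebraMap A p.ResidueField (a i) • toFib p z) := by
  rw [fibSpan_span, ← Set.range_comp]
  congr 2
  funext i
  simp only [Function.comp, modif, map_add, toFib_smul]

theorem fibSpan_full (p : Ideal A) [p.IsPrime] {n : ℕ} (m : Fin n → M) (z : M) :
    fibSpan p (Submodule.span A (insert z (Set.range m))) =
      Submodule.span p.ResidueField (insert (toFib p z) (Set.range fun i => toFib p (m i))) := by
  rw [fibSpan_span, Set.image_insert_eq, ← Set.range_comp]
  rfl

theorem span_modif_le {n : ℕ} (m : Fin n → M) (z : M) (a : Fin n → A) :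
    Submodule.span A (Set.range (modif m z a)) ≤ Submodule.span A (insert z (Set.range m)) := by
  rw [Submodule.span_le]
  rintro _ ⟨i, rfl⟩
  exact Submodule.add_mem _ (Submodule.subset_span (Set.mem_insert_of_mem _ ⟨i, rfl⟩))
    (Submodule.smul_mem _ _ (Submodule.subset_span (Set.mem_insert _ _)))

theorem span_modif_sup {n : ℕ} (m : Fin n → M) (z : M) (a : Fin n → A) :
    Submodule.span A (Set.range (modif m z a)) ⊔ Submodule.span A {z} =
      Submodule.span A (insert z (Set.range m)) := by
  apply le_antisymm
  · refine sup_le (span_modif_le m z a) (Submodule.span_mono ?_)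
    exact Set.singleton_subset_iff.mpr (Set.mem_insert _ _)
  · rw [Submodule.span_le]
    rintro _ (rfl | ⟨i, rfl⟩)
    · exact Submodule.mem_sup_right (Submodule.mem_span_singleton_self _)
    · have : m i = modif m z a i - a i • z := by simp [modif]
      rw [this]
      exact Submodule.sub_mem _ (Submodule.mem_sup_left (Submodule.subset_span ⟨i, rfl⟩))
        (Submodule.mem_sup_right (Submodule.smul_mem _ _ (Submodule.mem_span_singleton_self _)))

theorem fibSpan_modif_congr (q : Ideal A) [q.IsPrime] {n : ℕ} (m : Fin n → M) (z : M)
    (a a' : Fin n → A) (h : ∀ i, a i - a' i ∈ q) :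
    fibSpan q (Submodule.span A (Set.range (modif m z a))) =
      fibSpan q (Submodule.span A (Set.range (modif m z a'))) := by
  rw [fibSpan_modif, fibSpan_modif]
  congr 2
  funext i
  have : algebraMap A q.ResidueField (a i) = algebraMap A q.ResidueField (a' i) := by
    rw [← sub_eq_zero, ← map_sub]
    exact Ideal.algebraMap_residueField_eq_zero.mpr (h i)
  rw [this]

variable [Module.Finite A M]

theorem exists_modif_at (p : Ideal A) [p.IsPrime] {n : ℕ} (m : Fin n → M) (z : M) (a' : Fin n → A)
    (c : A) (hc : c ∉ p) (hrk : rk p (Submodule.span A (insert z (Set.range m))) ≤ n) :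
    ∃ b : Fin n → A, fibSpan p (Submodule.span A (Set.range (modif m z (a' + c • b)))) =
      fibSpan p (Submodule.span A (insert z (Set.range m))) := by
  classical
  have hc' : algebraMap A p.ResidueField c ≠ 0 := by
    rw [Ne, Ideal.algebraMap_residueField_eq_zero]
    exact hc
  have hdim : Module.finrank p.ResidueField (Submodule.span p.ResidueField
      (insert (toFib p z) (Set.range fun i => toFib p (m i)))) ≤ n := by
    rw [← fibSpan_full]
    exact hrk
  obtain ⟨b', hb', hspan⟩ := exists_modify_span_eq (fun i => toFib p (m i)) (toFib p z)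
    (fun i => algebraMap A p.ResidueField (a' i)) (algebraMap A p.ResidueField c) hc' hdim
  rcases hb' with rfl | ⟨l, rfl⟩
  · refine ⟨0, ?_⟩
    rw [fibSpan_modif, fibSpan_full, ← hspan]
    congr 2
    funext i
    simp
  · refine ⟨Pi.single l 1, ?_⟩
    rw [fibSpan_modif, fibSpan_full, ← hspan]
    congr 2
    funext i
    congr 2
    by_cases hi : i = l
    · subst hi
      simp
    · simp [Pi.single_eq_of_ne hi]

theorem exists_modif_finset (S : Finset (PrimeSpectrum A)) {n : ℕ} (m : Fin n → M) (z : M)
    (hrk : ∀ p ∈ S, rk p.asIdeal (Submodule.span A (insert z (Set.range m))) ≤ n) :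
    ∃ a : Fin n → A, ∀ p ∈ S, fibSpan p.asIdeal (Submodule.span A (Set.range (modif m z a))) =
      fibSpan p.asIdeal (Submodule.span A (insert z (Set.range m))) := by
  classical
  induction hcard : S.card generalizing S with
  | zero =>
    rw [Finset.card_eq_zero] at hcard
    subst hcard
    exact ⟨0, fun p hp => absurd hp (Finset.notMem_empty p)⟩
  | succ k ih =>
    have hne : S.Nonempty := by
      rw [← Finset.card_pos, hcard]
      exact Nat.succ_pos k
    obtain ⟨p, hpS, hpmin⟩ := S.exists_minimal hne
    have hcard' : (S.erase p).card = k := by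
      rw [Finset.card_erase_of_mem hpS, hcard]
      rfl
    obtain ⟨a', ha'⟩ := ih (S.erase p) (fun q hq => hrk q (Finset.mem_of_mem_erase hq)) hcard'
    -- an element of all the other primes outside `p`
    obtain ⟨c, hcS, hcp⟩ : ∃ c : A, (∀ q ∈ S.erase p, c ∈ q.asIdeal) ∧ c ∉ p.asIdeal := by
      by_contra hcon
      push Not at hcon
      have hle : (S.erase p).inf (fun q => q.asIdeal) ≤ p.asIdeal := by
        intro c hc
        apply hcon c
        intro q hq
        exact (Finset.inf_le hq : (S.erase p).inf (fun q => q.asIdeal) ≤ q.asIdeal) hc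
      obtain ⟨q, hq, hqp⟩ := (Ideal.IsPrime.inf_le' p.isPrime).mp hle
      have hqS : q ∈ S := Finset.mem_of_mem_erase hq
      have hqne : q ≠ p := Finset.ne_of_mem_erase hq
      have hqle : q ≤ p := hqp
      exact hpmin hqS hqle |> fun h => hqne (le_antisymm hqle h)
    obtain ⟨b, hb⟩ := exists_modif_at p.asIdeal m z a' c hcp (hrk p hpS)
    refine ⟨a' + c • b, fun q hq => ?_⟩
    by_cases hqp : q = p
    · subst hqp
      exact hb
    · have hq' : q ∈ S.erase p := Finset.mem_erase.mpr ⟨hqp, hq⟩
      rw [← ha' q hq']
      apply fibSpan_modif_congr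
      intro i
      simp only [Pi.add_apply, Pi.smul_apply, smul_eq_mul, add_sub_cancel_left]
      exact Ideal.mul_mem_right _ _ (hcS q hq')

end Module

end Groth.Agent.Lib.Seat61.Basic2
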