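import Mathlib
import Groth.Agent.Lib.Seat61Basic2
import Groth.Agent.Lib.Helper18Fitt13

/-!
# Eisenbud–Evans: existence of a basic element on the primes of height at most `k` (seat 61)
-/

set_option autoImplicit false
universe u
open TensorProduct

namespace Groth.Agent.Lib.Seat61.Basic3

open Groth.Agent.Lib.Seat61.Basic1 Groth.Agent.Lib.Seat61.Basic2

variable {A : Type u} [CommRing A]

/-- the height of a prime as a natural number -/
noncomputable def ht (p : PrimeSpectrum A) : ℕ := p.asIdeal.height.toNat

theorem coe_ht {p : PrimeSpectrum A} {k : ℕ} (hp : p.asIdeal.height ≤ k) :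
    (ht p : ℕ∞) = p.asIdeal.height := by
  unfold ht
  rw [ENat.natCast_toNat]
  intro h
  rw [h] at hp
  exact absurd hp (by simp)

theorem ht_le {p : PrimeSpectrum A} {k : ℕ} (hp : p.asIdeal.height ≤ k) : ht p ≤ k := by
  have := coe_ht hp
  rw [← this] at hp
  exact_mod_cast hp

theorem height_le_of_le {p q : PrimeSpectrum A} {k : ℕ} (hp : p.asIdeal.height ≤ k) (hqp : q ≤ p) :
    q.asIdeal.height ≤ k :=
  (Ideal.height_mono hqp).trans hp

theorem ht_add_one_le_of_lt {p q : PrimeSpectrum A} {k : ℕ} (hp : p.asIdeal.height ≤ k) (hqp : q < p) :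
    ht q + 1 ≤ ht p := by
  have hq : q.asIdeal.height ≤ k := height_le_of_le hp hqp.le
  have h := Ideal.height_add_one_le_of_lt_of_isPrime (I := q.asIdeal) (J := p.asIdeal) hqp
  rw [← coe_ht hp, ← coe_ht hq] at h
  exact_mod_cast h

variable {M : Type u} [AddCommGroup M] [Module A M] [Module.Finite A M]

/-- the ideal cutting out the locus where the fibre of `Q` has dimension at least `j` -/
noncomputable def J (Q : Type u) [AddCommGroup Q] [Module A Q] (j : ℕ) : Ideal A :=
  if j = 0 then ⊥ else Fitt.ideal A Q (j - 1)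

theorem J_le_iff (Q : Type u) [AddCommGroup Q] [Module A Q] [Module.Finite A Q] (j : ℕ)
    (p : Ideal A) [p.IsPrime] :
    J Q j ≤ p ↔ j ≤ Module.finrank p.ResidueField (fib p Q) := by
  unfold J
  split_ifs with h
  · subst h
    simp
  · have := Groth.Agent.Helper18Fitt.not_le_iff_finrank Q (j - 1) p
    rw [← not_iff_not, this]
    unfold fib
    omega

/-- the goodness condition on a submodule -/
def Good (k n : ℕ) (N : Submodule A M) : Prop :=
  ∀ p : PrimeSpectrum A, p.asIdeal.height ≤ k → min n (k + 1 - ht p) ≤ rk p.asIdeal N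

variable [IsNoetherianRing A]

/-- the primes of height at most `k` at which `N` has exactly the critical rank -/
def bad (k n : ℕ) (N : Submodule A M) : Set (PrimeSpectrum A) :=
  {p | p.asIdeal.height ≤ k ∧ rk p.asIdeal N = k + 1 - ht p ∧ k + 1 - ht p ≤ n}

theorem bad_subset (k n r : ℕ) (N : Submodule A M) (hN : Good k (n + 1) N)
    (hμ : ∀ p : PrimeSpectrum A, p.asIdeal.height ≤ k →
      Module.finrank p.asIdeal.ResidueField (fib p.asIdeal M) = r) :
    bad k n N ⊆ ⋃ j ∈ Finset.range (r + 1),
      (PrimeSpectrum.asIdeal ⁻¹' (J (A := A) (M ⧸ N) j).minimalPrimes) := by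
  rintro p ⟨hp, hrk, htn⟩
  set t := k + 1 - ht p with ht_def
  have hquot := finrank_fib_quotient_add_rk p.asIdeal N
  rw [hμ p hp, hrk] at hquot
  -- `hquot : finrank (fib (M ⧸ N)) + t = r`
  simp only [Set.mem_iUnion, Set.mem_preimage, Finset.mem_range]
  refine ⟨r - t, by omega, ⟨p.isPrime, ?_⟩, ?_⟩
  · rw [J_le_iff]
    omega
  · rintro q ⟨hqprime, hJq⟩ hqp
    by_contra hne
    have hlt : (⟨q, hqprime⟩ : PrimeSpectrum A) < p := lt_of_le_not_ge hqp hne
    have hq : (⟨q, hqprime⟩ : PrimeSpectrum A).asIdeal.height ≤ k := height_le_of_le hp hlt.le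
    have h1 := ht_add_one_le_of_lt hp hlt
    have h2 := hN ⟨q, hqprime⟩ hq
    have h3 := finrank_fib_quotient_add_rk q N
    have h4 := hμ ⟨q, hqprime⟩ hq
    rw [J_le_iff] at hJq
    have h5 := ht_le hp
    change min (n + 1) (k + 1 - ht ⟨q, hqprime⟩) ≤ rk q N at h2
    change Module.finrank q.ResidueField (fib q M) = r at h4
    rw [h4] at h3
    have h6 : t + 1 ≤ min (n + 1) (k + 1 - ht ⟨q, hqprime⟩) := by
      rw [le_min_iff]
      constructor <;> omega
    omega

theorem bad_finite (k n r : ℕ) (N : Submodule A M) (hN : Good k (n + 1) N)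
    (hμ : ∀ p : PrimeSpectrum A, p.asIdeal.height ≤ k →
      Module.finrank p.asIdeal.ResidueField (fib p.asIdeal M) = r) :
    (bad k n N).Finite := by
  refine Set.Finite.subset ?_ (bad_subset k n r N hN hμ)
  refine Set.Finite.biUnion (Finset.finite_toSet _) (fun j _ => ?_)
  refine Set.Finite.preimage ?_ (Ideal.finite_minimalPrimes_of_isNoetherianRing A _)
  intro p _ q _ h
  exact PrimeSpectrum.ext h

/-- The inductive step: drop one generator. -/
theorem step (k n r : ℕ) (m : Fin n → M) (z : M)
    (hN : Good k (n + 1) (Submodule.span A (insert z (Set.range m))))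
    (hμ : ∀ p : PrimeSpectrum A, p.asIdeal.height ≤ k →
      Module.finrank p.asIdeal.ResidueField (fib p.asIdeal M) = r) :
    ∃ a : Fin n → A, Good k n (Submodule.span A (Set.range (modif m z a))) := by
  classical
  set N := Submodule.span A (insert z (Set.range m)) with hNdef
  have hfin := bad_finite k n r N hN hμ
  obtain ⟨a, ha⟩ := exists_modif_finset hfin.toFinset m z (fun p hp => by
    rw [Set.Finite.mem_toFinset] at hp
    obtain ⟨-, h1, h2⟩ := hp
    rw [h1]
    exact h2)
  refine ⟨a, fun p hp => ?_⟩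
  by_cases hbad : p ∈ bad k n N
  · have h1 := ha p (hfin.mem_toFinset.mpr hbad)
    have h2 : rk p.asIdeal (Submodule.span A (Set.range (modif m z a))) = rk p.asIdeal N := by
      unfold rk
      rw [h1]
    rw [h2, hbad.2.1]
    exact min_le_right _ _
  · have h1 := hN p hp
    have h2 : rk p.asIdeal N ≤ rk p.asIdeal (Submodule.span A (Set.range (modif m z a))) + 1 := by
      rw [hNdef, ← span_modif_sup m z a]
      exact rk_sup_span_singleton_le _ _ _
    have h3 : ¬ (rk p.asIdeal N = k + 1 - ht p ∧ k + 1 - ht p ≤ n) := fun h => hbad ⟨hp, h⟩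
    rcases le_total (n + 1) (k + 1 - ht p) with hc | hc
    · rw [min_eq_left hc] at h1
      exact (min_le_left _ _).trans (by omega)
    · rw [min_eq_right hc] at h1
      by_cases hc' : k + 1 - ht p ≤ n
      · have : rk p.asIdeal N ≠ k + 1 - ht p := fun h => h3 ⟨h, hc'⟩
        exact (min_le_right _ _).trans (by omega)
      · exact (min_le_left _ _).trans (by omega)

/-- Induction on the number of generators. -/
theorem exists_basic_of_good (k r : ℕ)
    (hμ : ∀ p : PrimeSpectrum A, p.asIdeal.height ≤ k →
      Module.finrank p.asIdeal.ResidueField (fib p.asIdeal M) = r) :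
    ∀ (n : ℕ) (m : Fin (n + 1) → M), Good k (n + 1) (Submodule.span A (Set.range m)) →
      ∃ x : M, ∀ p : PrimeSpectrum A, p.asIdeal.height ≤ k → toFib p.asIdeal x ≠ 0 := by
  intro n
  induction n with
  | zero =>
    intro m hm
    refine ⟨m 0, fun p hp => ?_⟩
    have h1 := hm p hp
    have h2 : Set.range m = {m 0} := by
      ext y
      constructor
      · rintro ⟨i, rfl⟩
        have : i = 0 := Fin.ext (by omega)
        rw [this]
        rfl
      · rintro rfl
        exact ⟨0, rfl⟩
    rw [h2] at h1
    rw [← one_le_rk_span_singleton_iff]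
    have h3 := ht_le hp
    have h4 : min (0 + 1) (k + 1 - ht p) = 1 := by
      rw [min_eq_left]
      omega
    omega
  | succ n ih =>
    intro m hm
    have hrange : Set.range m = insert (m (Fin.last (n + 1))) (Set.range (Fin.init m)) := by
      conv_lhs => rw [← Fin.snoc_init_self m]
      rw [Fin.range_snoc]
    rw [hrange] at hm
    obtain ⟨a, ha⟩ := step k (n + 1) r (Fin.init m) (m (Fin.last (n + 1))) hm hμ
    exact ih _ ha

/-- **Basic element theorem** on the primes of height at most `k`: if all fibres of the finite module `M` at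
primes of height at most `k` have dimension `r ≥ k + 1`, then some element of `M` is nonzero in all of them. -/
theorem exists_basic (k r : ℕ) (hkr : k + 1 ≤ r)
    (hμ : ∀ p : PrimeSpectrum A, p.asIdeal.height ≤ k →
      Module.finrank p.asIdeal.ResidueField (fib p.asIdeal M) = r) :
    ∃ x : M, ∀ p : PrimeSpectrum A, p.asIdeal.height ≤ k → toFib p.asIdeal x ≠ 0 := by
  obtain ⟨n, g, hg⟩ := Module.Finite.exists_fin (R := A) (M := M)
  refine exists_basic_of_good k r hμ n (Fin.snoc g 0) ?_
  have htop : Submodule.span A (Set.range (Fin.snoc g 0 : Fin (n + 1) → M)) = ⊤ := by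
    rw [eq_top_iff, ← hg]
    apply Submodule.span_mono
    rw [Fin.range_snoc]
    exact Set.subset_insert _ _
  rw [htop]
  intro p hp
  rw [rk_top, hμ p hp]
  exact (min_le_right _ _).trans (by omega)

end Groth.Agent.Lib.Seat61.Basic3
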