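import Mathlib
import Groth.Agent.Lib.Seat61Basic1
import Groth.Agent.Lib.Helper18Fitt13

/-!
# Consequences of local freeness at a prime for basic elements (seat 61)
-/

set_option autoImplicit false
universe u
open TensorProduct

namespace Groth.Agent.Lib.Seat61.Basic4

open Groth.Agent.Lib.Seat61.Basic1

variable {A : Type u} [CommRing A] {M : Type u} [AddCommGroup M] [Module A M]

theorem isUnit_algebraMap_end_fib (p : Ideal A) [p.IsPrime] (s : p.primeCompl) :
    IsUnit (algebraMap A (Module.End A (fib p M)) (s : A)) := by
  rw [Module.End.isUnit_iff]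
  have hs : algebraMap A p.ResidueField (s : A) ≠ 0 := by
    rw [Ne, Ideal.algebraMap_residueField_eq_zero]
    exact s.2
  have key : ∀ y : fib p M, algebraMap A (Module.End A (fib p M)) (s : A) y =
      algebraMap A p.ResidueField (s : A) • y := by
    intro y
    rw [Module.algebraMap_end_apply, algebraMap_smul]
  constructor
  · intro y y' h
    rw [key, key] at h
    exact smul_right_injective _ hs h
  · intro y
    refine ⟨(algebraMap A p.ResidueField (s : A))⁻¹ • y, ?_⟩
    rw [key, smul_smul, mul_inv_cancel₀ hs, one_smul]

/-- the canonical map from the localization at `p` to the fibre at `p` -/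
noncomputable def locToFib (p : Ideal A) [p.IsPrime] :
    LocalizedModule p.primeCompl M →ₗ[Localization.AtPrime p] fib p M :=
  (IsLocalizedModule.lift p.primeCompl (LocalizedModule.mkLinearMap p.primeCompl M) (toFib p)
    (isUnit_algebraMap_end_fib p)).extendScalarsOfIsLocalization p.primeCompl (Localization.AtPrime p)

theorem locToFib_mk (p : Ideal A) [p.IsPrime] (x : M) :
    locToFib p (LocalizedModule.mkLinearMap p.primeCompl M x) = toFib p x :=
  IsLocalizedModule.lift_apply p.primeCompl (LocalizedModule.mkLinearMap p.primeCompl M) (toFib p)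
    (isUnit_algebraMap_end_fib p) x

theorem locToFib_smul_of_mem (p : Ideal A) [p.IsPrime] {c : Localization.AtPrime p}
    (hc : c ∈ IsLocalRing.maximalIdeal (Localization.AtPrime p)) (y : LocalizedModule p.primeCompl M) :
    locToFib p (c • y) = 0 := by
  rw [map_smul, ← algebraMap_smul p.ResidueField c (locToFib p y)]
  have : algebraMap (Localization.AtPrime p) p.ResidueField c = 0 :=
    (IsLocalRing.residue_eq_zero_iff c).mpr hc
  rw [this, zero_smul]

/-- A basic element has a unit coordinate in any local trivialisation. -/
theorem exists_isUnit_coord (p : Ideal A) [p.IsPrime] {r : ℕ}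
    (e : LocalizedModule p.primeCompl M ≃ₗ[Localization.AtPrime p] (Fin r → Localization.AtPrime p))
    (x : M) (hx : toFib p x ≠ 0) :
    ∃ i, IsUnit (e (LocalizedModule.mkLinearMap p.primeCompl M x) i) := by
  by_contra hcon
  push Not at hcon
  apply hx
  rw [← locToFib_mk]
  set v := e (LocalizedModule.mkLinearMap p.primeCompl M x) with hv
  have h1 : LocalizedModule.mkLinearMap p.primeCompl M x = e.symm v := by simp [hv]
  have h2 : v = ∑ j, v j • (Pi.single j 1 : Fin r → Localization.AtPrime p) := by
    funext i
    simp [Finset.sum_apply, Pi.single_apply]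
  rw [h1, h2, map_sum, map_sum]
  refine Finset.sum_eq_zero fun j _ => ?_
  rw [map_smul]
  exact locToFib_smul_of_mem p (by
    rw [IsLocalRing.mem_maximalIdeal, mem_nonunits_iff]
    exact hcon j) _

theorem span_image_equiv_eq_top {R N N' : Type*} [Semiring R] [AddCommMonoid N] [AddCommMonoid N']
    [Module R N] [Module R N'] (e : N ≃ₗ[R] N') (s : Set N) (hs : Submodule.span R s = ⊤) :
    Submodule.span R (e '' s) = ⊤ := by
  have h := Submodule.map_span (e : N →ₗ[R] N') s
  rw [hs, Submodule.map_top, LinearEquiv.range] at h
  rw [h]
  rfl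

/-- the fibre of a module which is free of rank `r` at `p` has dimension `r` -/
theorem finrank_fib_of_equiv [Module.Finite A M] (p : Ideal A) [p.IsPrime] {r : ℕ}
    (e : LocalizedModule p.primeCompl M ≃ₗ[Localization.AtPrime p] (Fin r → Localization.AtPrime p)) :
    Module.finrank p.ResidueField (fib p M) = r := by
  have hmain := fun k => Groth.Agent.Helper18Fitt.main_S6894 M k p
  apply le_antisymm
  · unfold fib
    rw [← (hmain r).1, (hmain r).2.1]
    refine ⟨fun j => e.symm (Pi.single j 1), ?_⟩
    have h1 : (Set.range fun j => e.symm (Pi.single j (1 : Localization.AtPrime p))) =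
        e.symm '' Set.range (Pi.basisFun (Localization.AtPrime p) (Fin r)) := by
      rw [← Set.range_comp]
      congr 1
      funext j
      simp [Pi.basisFun_apply]
    rw [h1]
    exact span_image_equiv_eq_top e.symm _ (Pi.basisFun (Localization.AtPrime p) (Fin r)).span_eq
  · by_contra hlt
    push Not at hlt
    have h0 : Module.finrank p.ResidueField (p.ResidueField ⊗[A] M) ≤ r - 1 := by
      unfold fib at hlt
      omega
    rw [← (hmain (r - 1)).1, (hmain (r - 1)).2.1] at h0
    obtain ⟨g, hg⟩ := h0
    have hsurj : Function.Surjective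
        (Fintype.linearCombination (Localization.AtPrime p) (fun j => e (g j))) := by
      rw [← LinearMap.range_eq_top, Fintype.range_linearCombination]
      have h1 : (Set.range fun j => e (g j)) = e '' Set.range g := by
        rw [← Set.range_comp]
        rfl
      rw [h1]
      exact span_image_equiv_eq_top e _ hg
    have := le_of_fin_surjective (Localization.AtPrime p) _ hsurj
    omega

/-- the quotient of a finite free module by a vector with a unit coordinate is free of rank one less -/
theorem nonempty_quotient_span_singleton_equiv {R : Type*} [CommRing R] {n : ℕ} (v : Fin (n + 1) → R)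
    (i : Fin (n + 1)) (hv : IsUnit (v i)) :
    Nonempty (((Fin (n + 1) → R) ⧸ Submodule.span R {v}) ≃ₗ[R] (Fin n → R)) := by
  obtain ⟨u, hu⟩ := hv
  let φ : (Fin (n + 1) → R) →ₗ[R] (Fin n → R) :=
    { toFun := fun w j => w (i.succAbove j) - w i * ↑u⁻¹ * v (i.succAbove j)
      map_add' := by
        intro w w'
        funext j
        simp only [Pi.add_apply]
        ring
      map_smul' := by
        intro c w
        funext j
        simp only [Pi.smul_apply, smul_eq_mul, RingHom.id_apply]
        ring }
  have hφ : ∀ w j, φ w j = w (i.succAbove j) - w i * ↑u⁻¹ * v (i.succAbove j) := fun _ _ => rfl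
  have hsurj : Function.Surjective φ := by
    intro y
    refine ⟨Fin.insertNth i 0 y, ?_⟩
    funext j
    rw [hφ]
    simp
  have hker : LinearMap.ker φ = Submodule.span R {v} := by
    apply le_antisymm
    · intro w hw
      rw [LinearMap.mem_ker] at hw
      rw [Submodule.mem_span_singleton]
      refine ⟨w i * ↑u⁻¹, ?_⟩
      funext l
      rcases Fin.eq_self_or_eq_succAbove i l with rfl | ⟨j, rfl⟩
      · simp only [Pi.smul_apply, smul_eq_mul]
        rw [← hu, mul_assoc, Units.inv_mul, mul_one]
      · have := congrFun hw j
        rw [hφ, Pi.zero_apply, sub_eq_zero] at this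
        simp only [Pi.smul_apply, smul_eq_mul]
        exact this.symm
    · rw [Submodule.span_le, Set.singleton_subset_iff, SetLike.mem_coe, LinearMap.mem_ker]
      funext j
      rw [hφ, Pi.zero_apply, ← hu, Units.mul_inv, one_mul, sub_self]
  exact ⟨(Submodule.quotEquivOfEq _ _ hker.symm).trans (φ.quotKerEquivOfSurjective hsurj)⟩

/-- quotienting by a basic element lowers the local rank by one -/
theorem nonempty_equiv_quotient_of_basic (p : Ideal A) [p.IsPrime] {r : ℕ}
    (e : LocalizedModule p.primeCompl M ≃ₗ[Localization.AtPrime p]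
      (Fin (r + 1) → Localization.AtPrime p))
    (x : M) (hx : toFib p x ≠ 0) :
    Nonempty (LocalizedModule p.primeCompl (M ⧸ Submodule.span A {x}) ≃ₗ[Localization.AtPrime p]
      (Fin r → Localization.AtPrime p)) := by
  obtain ⟨i, hi⟩ := exists_isUnit_coord p e x hx
  obtain ⟨ψ⟩ := nonempty_quotient_span_singleton_equiv
    (e (LocalizedModule.mkLinearMap p.primeCompl M x)) i hi
  have e1 := (localizedQuotientEquiv p.primeCompl (Submodule.span A {x})).symm
  have hloc : (Submodule.span A {x}).localized p.primeCompl =
      Submodule.span (Localization.AtPrime p) {LocalizedModule.mkLinearMap p.primeCompl M x} := by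
    rw [Submodule.localized, Submodule.localized'_span, Set.image_singleton]
  have hmap : ((Submodule.span A {x}).localized p.primeCompl).map
      (e : _ →ₗ[Localization.AtPrime p] _) =
      Submodule.span (Localization.AtPrime p) {e (LocalizedModule.mkLinearMap p.primeCompl M x)} := by
    rw [hloc, Submodule.map_span, Set.image_singleton]
    rfl
  have e2 := Submodule.Quotient.equiv _ _ e hmap
  exact ⟨e1.trans (e2.trans ψ)⟩

/-- a basic element on the primes of height at most `k` has zero annihilator when the associated primes of the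
ring have height at most `k` -/
theorem eq_zero_of_smul_eq_zero [IsNoetherianRing A] (k : ℕ) {r : ℕ}
    (hAss : ∀ p ∈ associatedPrimes A A, p.height ≤ k)
    (hM : ∀ p : PrimeSpectrum A, p.asIdeal.height ≤ k →
      Nonempty (LocalizedModule p.asIdeal.primeCompl M ≃ₗ[Localization.AtPrime p.asIdeal]
        (Fin r → Localization.AtPrime p.asIdeal)))
    (x : M) (hx : ∀ p : PrimeSpectrum A, p.asIdeal.height ≤ k → toFib p.asIdeal x ≠ 0)
    (a : A) (ha : a • x = 0) : a = 0 := by
  by_contra ha0
  obtain ⟨q, hq, hle⟩ := exists_le_isAssociatedPrime_of_isNoetherianRing A a ha0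
  have hqp : q.IsPrime := hq.isPrime
  have hk : q.height ≤ k := hAss q hq
  obtain ⟨e⟩ := hM ⟨q, hqp⟩ hk
  obtain ⟨i, hi⟩ := exists_isUnit_coord q e x (hx ⟨q, hqp⟩ hk)
  have h1 : algebraMap A (Localization.AtPrime q) a •
      e (LocalizedModule.mkLinearMap q.primeCompl M x) = 0 := by
    rw [← map_smul, algebraMap_smul, ← map_smul, ha, map_zero, map_zero]
  have h2 : algebraMap A (Localization.AtPrime q) a *
      e (LocalizedModule.mkLinearMap q.primeCompl M x) i = 0 := congrFun h1 i
  have h3 : algebraMap A (Localization.AtPrime q) a = 0 := (hi.mul_left_eq_zero).mp h2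
  obtain ⟨s, hs⟩ := (IsLocalization.map_eq_zero_iff q.primeCompl _ a).mp h3
  have hmem : (s : A) ∈ (⊥ : Submodule A A).colon {a} := by
    rw [Submodule.mem_colon_singleton]
    simpa using hs
  exact s.2 (hle hmem)

end Groth.Agent.Lib.Seat61.Basic4
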