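import Mathlib
import Groth.Agent.Lib.Seat61Basic3
import Groth.Agent.Lib.Seat61Basic4

/-!
# Free submodules of modules that are locally free in small codimension (seat 61)

`exists_free_submodule`: the statement of Eisenbud–Evans type used by S13533.
-/

set_option autoImplicit false
universe u
open TensorProduct

namespace Groth.Agent.Lib.Seat61.Basic5

open Groth.Agent.Lib.Seat61.Basic1 Groth.Agent.Lib.Seat61.Basic3 Groth.Agent.Lib.Seat61.Basic4

variable {A : Type u} [CommRing A]

/-- local freeness of rank `r` at the primes of height at most `k` -/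
def LocFreeUpTo (k r : ℕ) (M : Type u) [AddCommGroup M] [Module A M] : Prop :=
  ∀ p : PrimeSpectrum A, p.asIdeal.height ≤ k →
    Nonempty (LocalizedModule p.asIdeal.primeCompl M ≃ₗ[Localization.AtPrime p.asIdeal]
      (Fin r → Localization.AtPrime p.asIdeal))

theorem locFreeUpTo_of_equiv {k r : ℕ} {M M' : Type u} [AddCommGroup M] [Module A M]
    [AddCommGroup M'] [Module A M'] (e : M ≃ₗ[A] M') (h : LocFreeUpTo (A := A) k r M) :
    LocFreeUpTo (A := A) k r M' := by
  intro p hp
  obtain ⟨ε⟩ := h p hp
  exact ⟨(IsLocalizedModule.mapEquiv p.asIdeal.primeCompl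
    (LocalizedModule.mkLinearMap p.asIdeal.primeCompl M')
    (LocalizedModule.mkLinearMap p.asIdeal.primeCompl M)
    (Localization.AtPrime p.asIdeal) e.symm).trans ε⟩

/-- assembling a free submodule from a free element and a free submodule of the quotient -/
theorem nonempty_comap_equiv {M : Type u} [AddCommGroup M] [Module A M] (S : Submodule A M) (x : M)
    (hS : S = Submodule.span A {x})
    (hx : ∀ a : A, a • x = 0 → a = 0) {d : ℕ}
    (N' : Submodule A (M ⧸ S)) (e' : N' ≃ₗ[A] (Fin d → A)) :
    Nonempty ((N'.comap S.mkQ) ≃ₗ[A] (Fin (d + 1) → A)) := by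
  classical
  -- lifts of the basis vectors of `N'`
  have hy : ∀ j : Fin d, ∃ y : M, S.mkQ y = (e'.symm (Pi.single j 1) : M ⧸ S) :=
    fun j => Submodule.mkQ_surjective S _
  choose y hy using hy
  let g : (Fin (d + 1) → A) →ₗ[A] M := Fintype.linearCombination A (Fin.cons x y : Fin (d + 1) → M)
  have hg : ∀ c : Fin (d + 1) → A, g c = c 0 • x + ∑ j : Fin d, c j.succ • y j := by
    intro c
    simp only [g, Fintype.linearCombination_apply, Fin.sum_univ_succ, Fin.cons_zero, Fin.cons_succ]
  have hxS : S.mkQ x = 0 := by
    rw [Submodule.mkQ_apply, Submodule.Quotient.mk_eq_zero, hS]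
    exact Submodule.mem_span_singleton_self x
  have hmk : ∀ c : Fin (d + 1) → A, S.mkQ (g c) = (e'.symm (fun j : Fin d => c j.succ) : M ⧸ S) := by
    intro c
    rw [hg, map_add, map_smul, hxS, smul_zero, zero_add, map_sum]
    have h1 : (fun j : Fin d => c j.succ) = ∑ j : Fin d, c j.succ • (Pi.single j (1 : A) : Fin d → A) := by
      funext i
      simp [Finset.sum_apply, Pi.single_apply]
    conv_rhs => rw [h1]
    rw [map_sum, Submodule.coe_sum]
    refine Finset.sum_congr rfl fun j _ => ?_
    rw [map_smul, map_smul, hy j]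
    rfl
  have hinj : Function.Injective g := by
    rw [← LinearMap.ker_eq_bot, LinearMap.ker_eq_bot']
    intro c hc
    have h1 := hmk c
    rw [hc, map_zero] at h1
    have h2 : e'.symm (fun j : Fin d => c j.succ) = 0 := Subtype.ext h1.symm
    have h3 : (fun j : Fin d => c j.succ) = 0 := by
      have := congrArg e' h2
      rwa [LinearEquiv.apply_symm_apply, map_zero] at this
    have h4 : ∀ j : Fin d, c j.succ = 0 := fun j => congrFun h3 j
    have h5 : c 0 • x = 0 := by
      have := hg c
      rw [hc] at this
      simp only [h4, zero_smul, Finset.sum_const_zero, add_zero] at this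
      exact this.symm
    have h6 := hx _ h5
    funext i
    refine Fin.cases h6 (fun j => h4 j) i
  have hrange : LinearMap.range g = N'.comap S.mkQ := by
    apply le_antisymm
    · rintro _ ⟨c, rfl⟩
      rw [Submodule.mem_comap, hmk]
      exact (e'.symm _).2
    · intro z hz
      rw [Submodule.mem_comap] at hz
      set c' := e' ⟨S.mkQ z, hz⟩ with hc'
      have h1 : S.mkQ (g (Fin.cons 0 c')) = S.mkQ z := by
        rw [hmk]
        simp only [Fin.cons_succ]
        rw [hc', LinearEquiv.symm_apply_apply]
      have h2 : z - g (Fin.cons 0 c') ∈ S := by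
        rw [← Submodule.Quotient.mk_eq_zero, ← Submodule.mkQ_apply, map_sub, h1, sub_self]
      rw [hS] at h2
      obtain ⟨c₀, hc₀⟩ := Submodule.mem_span_singleton.mp h2
      refine ⟨Fin.cons c₀ c', ?_⟩
      rw [hg]
      simp only [Fin.cons_zero, Fin.cons_succ]
      have h3 := hg (Fin.cons 0 c')
      simp only [Fin.cons_zero, Fin.cons_succ, zero_smul, zero_add] at h3
      rw [← h3, hc₀]
      abel
  exact ⟨((LinearEquiv.ofInjective g hinj).trans (LinearEquiv.ofEq _ _ hrange)).symm⟩

variable [IsNoetherianRing A]

/-- The main induction: if `M` is free of rank `k + d` at the primes of height at most `k` (and the associated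
primes of `A` have height at most `k`), then `M` has a free submodule of rank `d` with quotient free of rank `k` at
those primes. -/
theorem exists_free_submodule_aux (k : ℕ) (hAss : ∀ p ∈ associatedPrimes A A, p.height ≤ k) :
    ∀ (d : ℕ) (M : Type u) [AddCommGroup M] [Module A M] [Module.Finite A M],
      LocFreeUpTo (A := A) k (k + d) M →
      ∃ N : Submodule A M, Nonempty (N ≃ₗ[A] (Fin d → A)) ∧ LocFreeUpTo (A := A) k k (M ⧸ N) := by
  intro d
  induction d with
  | zero =>
    intro M _ _ _ hM
    refine ⟨⊥, ⟨LinearEquiv.ofSubsingleton _ _⟩, ?_⟩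
    exact locFreeUpTo_of_equiv (Submodule.quotEquivOfEqBot ⊥ rfl).symm hM
  | succ d ih =>
    intro M _ _ _ hM
    have hμ : ∀ p : PrimeSpectrum A, p.asIdeal.height ≤ k →
        Module.finrank p.asIdeal.ResidueField (fib p.asIdeal M) = k + (d + 1) := by
      intro p hp
      obtain ⟨e⟩ := hM p hp
      exact finrank_fib_of_equiv p.asIdeal e
    obtain ⟨x, hx⟩ := exists_basic k (k + (d + 1)) (by omega) hμ
    have hann : ∀ a : A, a • x = 0 → a = 0 := eq_zero_of_smul_eq_zero k hAss hM x hx
    have hM' : LocFreeUpTo (A := A) k (k + d) (M ⧸ Submodule.span A {x}) := by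
      intro p hp
      obtain ⟨e⟩ := hM p hp
      exact nonempty_equiv_quotient_of_basic p.asIdeal e x (hx p hp)
    obtain ⟨N', ⟨e'⟩, hQ'⟩ := ih (M ⧸ Submodule.span A {x}) hM'
    refine ⟨N'.comap (Submodule.span A {x}).mkQ,
      nonempty_comap_equiv (Submodule.span A {x}) x rfl hann N' e', ?_⟩
    have hle : Submodule.span A {x} ≤ N'.comap (Submodule.span A {x}).mkQ := by
      intro z hz
      rw [Submodule.mem_comap, Submodule.mkQ_apply, (Submodule.Quotient.mk_eq_zero _).mpr hz]
      exact N'.zero_mem
    have hmap : (N'.comap (Submodule.span A {x}).mkQ).map (Submodule.span A {x}).mkQ = N' :=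
      Submodule.map_comap_eq_of_surjective (Submodule.mkQ_surjective _) N'
    have e1 := Submodule.quotientQuotientEquivQuotient (Submodule.span A {x})
      (N'.comap (Submodule.span A {x}).mkQ) hle
    exact locFreeUpTo_of_equiv ((Submodule.quotEquivOfEq _ _ hmap).symm.trans e1) hQ'

end Groth.Agent.Lib.Seat61.Basic5
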