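import Mathlib

/-!
# Descent of "locally generated by a nonzerodivisor" along flat local homomorphisms (seat 61)

* `exists_generator_of_flat_local`: for a flat local homomorphism of local rings `R → S`, if the extension of
  `span T` to `S` is generated by a nonzerodivisor, then `span T` is generated by one element of `T`, which is a
  nonzerodivisor of `R`.
* `exists_forall_mul_mem`: spreading out an inclusion of ideals from the localization at a prime.
* `exists_away_span_singleton`: spreading out "generated by the nonzerodivisor `a`" from the localization at a prime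
  to a principal localization.
-/

set_option autoImplicit false
universe u
open nonZeroDivisors

namespace Groth.Agent.Lib.Seat61.CartierDescent

/-- Flat local descent of principal ideals generated by a nonzerodivisor. -/
theorem exists_generator_of_flat_local {R S : Type*} [CommRing R] [CommRing S] [IsLocalRing R]
    [IsLocalRing S] [Algebra R S] [Module.Flat R S] [IsLocalHom (algebraMap R S)]
    (T : Set R) (f : S) (hf : f ∈ S⁰)
    (h : (Ideal.span T).map (algebraMap R S) = Ideal.span {f}) :
    ∃ a ∈ T, Ideal.span T = Ideal.span {a} ∧ a ∈ R⁰ := by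
  have hff : Module.FaithfullyFlat R S := Module.FaithfullyFlat.of_flat_of_isLocalHom
  have hinj : Function.Injective (algebraMap R S) := FaithfulSMul.algebraMap_injective R S
  -- every element of `T` maps to a multiple of `f`
  have hT : ∀ a ∈ T, ∃ s : S, algebraMap R S a = f * s := by
    intro a ha
    have : algebraMap R S a ∈ Ideal.span {f} := by
      rw [← h]
      exact Ideal.mem_map_of_mem _ (Ideal.subset_span ha)
    obtain ⟨s, hs⟩ := Ideal.mem_span_singleton'.mp this
    exact ⟨s, by rw [← hs, mul_comm]⟩
  -- some cofactor is a unit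
  obtain ⟨a, haT, s, hs, has⟩ : ∃ a ∈ T, ∃ s : S, IsUnit s ∧ algebraMap R S a = f * s := by
    by_contra hcon
    push Not at hcon
    have hle : (Ideal.span T).map (algebraMap R S) ≤
        Ideal.span {f} * IsLocalRing.maximalIdeal S := by
      rw [Ideal.map_span, Ideal.span_le]
      rintro _ ⟨a, ha, rfl⟩
      obtain ⟨s, hs⟩ := hT a ha
      rw [hs]
      refine Ideal.mul_mem_mul (Ideal.mem_span_singleton_self f) ?_
      rw [IsLocalRing.mem_maximalIdeal, mem_nonunits_iff]
      intro hu
      exact hcon a ha s hu hs
    have hfm : f ∈ Ideal.span {f} * IsLocalRing.maximalIdeal S := by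
      apply hle
      rw [h]
      exact Ideal.mem_span_singleton_self f
    obtain ⟨m, hm, hfm'⟩ := Ideal.mem_span_singleton_mul.mp hfm
    have h1 : f * (1 - m) = 0 := by rw [mul_sub, mul_one, hfm', sub_self]
    have h2 : (1 : S) - m = 0 := (mem_nonZeroDivisors_iff_left.mp hf) _ h1
    have h3 : (1 : S) = m := sub_eq_zero.mp h2
    rw [← h3] at hm
    exact (IsLocalRing.maximalIdeal S).ne_top_iff_one.mp (Ideal.IsMaximal.ne_top inferInstance) hm
  refine ⟨a, haT, ?_, ?_⟩
  · apply Ideal.map_injective_of_faithfullyFlat (A := R) (B := S)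
    rw [h, Ideal.map_span, Set.image_singleton, has]
    exact (Ideal.span_singleton_mul_right_unit hs f).symm
  · rw [mem_nonZeroDivisors_iff_right]
    intro b hb
    apply hinj
    rw [map_zero]
    have h1 : algebraMap R S b * algebraMap R S a = 0 := by rw [← map_mul, hb, map_zero]
    rw [has] at h1
    have h2 : (algebraMap R S b * s) * f = 0 := by rw [← h1]; ring
    have h3 := (mem_nonZeroDivisors_iff_right.mp hf) _ h2
    exact (hs.mul_left_eq_zero).mp h3

/-- Spreading out an inclusion of ideals from the localization at a prime. -/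
theorem exists_forall_mul_mem {A : Type*} [CommRing A] (p : Ideal A) [p.IsPrime]
    (R : Type*) [CommRing R] [Algebra A R] [IsLocalization.AtPrime R p]
    {I J : Ideal A} (hI : I.FG) (h : I.map (algebraMap A R) ≤ J.map (algebraMap A R)) :
    ∃ r : A, r ∉ p ∧ ∀ x ∈ I, r * x ∈ J := by
  have key : ∀ x ∈ I, ∃ w : A, w ∉ p ∧ w * x ∈ J := by
    intro x hx
    have hx' : algebraMap A R x ∈ J.map (algebraMap A R) := h (Ideal.mem_map_of_mem _ hx)
    rw [IsLocalization.mem_map_algebraMap_iff p.primeCompl] at hx'
    obtain ⟨⟨j, m⟩, hjm⟩ := hx'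
    rw [← map_mul, IsLocalization.eq_iff_exists p.primeCompl] at hjm
    obtain ⟨c, hc⟩ := hjm
    refine ⟨c * m, ?_, ?_⟩
    · exact (c * m).2
    · have e : ((c : A) * (m : A)) * x = c * j := by
        have := hc
        simp only at this
        rw [← this]; ring
      rw [e]
      exact J.mul_mem_left _ j.2
  obtain ⟨s, rfl⟩ := hI
  choose! w hw1 hw2 using key
  classical
  refine ⟨∏ b ∈ s, w b, ?_, ?_⟩
  · intro hmem
    obtain ⟨b, hb, hbp⟩ := (Ideal.IsPrime.prod_mem_iff).mp hmem
    exact hw1 b (Ideal.subset_span hb) hbp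
  · intro x hx
    induction hx using Submodule.span_induction with
    | mem b hb =>
      rw [← Finset.mul_prod_erase s w hb]
      have e : w b * (∏ c ∈ s.erase b, w c) * b = (∏ c ∈ s.erase b, w c) * (w b * b) := by ring
      rw [e]
      exact J.mul_mem_left _ (hw2 b (Ideal.subset_span hb))
    | zero => rw [mul_zero]; exact J.zero_mem
    | add x y _ _ hx hy => rw [mul_add]; exact J.add_mem hx hy
    | smul c x _ hx =>
      rw [smul_eq_mul, mul_left_comm]
      exact J.mul_mem_left _ hx

/-- Spreading out "generated by a nonzerodivisor" from the localization at a prime to a principal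
localization. -/
theorem exists_away_span_singleton {A : Type u} [CommRing A] [IsNoetherianRing A] (p : Ideal A)
    [p.IsPrime] (R : Type*) [CommRing R] [Algebra A R] [IsLocalization.AtPrime R p]
    (I : Ideal A) (a : A) (ha : a ∈ I)
    (hI : I.map (algebraMap A R) = Ideal.span {algebraMap A R a})
    (hnzd : algebraMap A R a ∈ R⁰) :
    ∃ r : A, r ∉ p ∧ ∀ (A' : Type u) [CommRing A'] [Algebra A A'] [IsLocalization.Away r A'],
      I.map (algebraMap A A') = Ideal.span {algebraMap A A' a} ∧ algebraMap A A' a ∈ A'⁰ := by
  -- first element: `r₁ • I ≤ (a)`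
  obtain ⟨r₁, hr₁, h₁⟩ := exists_forall_mul_mem p R (I := I) (J := Ideal.span {a})
    (IsNoetherian.noetherian I) (by rw [hI, Ideal.map_span, Set.image_singleton])
  -- second element: `r₂` kills the annihilator of `a`
  obtain ⟨r₂, hr₂, h₂⟩ := exists_forall_mul_mem p R (I := (Ideal.span {a}).annihilator) (J := ⊥)
    (IsNoetherian.noetherian _) (by
      rw [Ideal.map_bot, Ideal.map_le_iff_le_comap]
      intro x hx
      rw [Submodule.mem_annihilator_span_singleton, smul_eq_mul] at hx
      rw [Ideal.mem_comap, Ideal.mem_bot]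
      have h1 : algebraMap A R x * algebraMap A R a = 0 := by rw [← map_mul, hx, map_zero]
      exact (mem_nonZeroDivisors_iff_right.mp hnzd) _ h1)
  refine ⟨r₁ * r₂, fun hmem => ?_, ?_⟩
  · rcases (Ideal.IsPrime.mem_or_mem inferInstance hmem) with h | h
    · exact hr₁ h
    · exact hr₂ h
  intro A' _ _ _
  have hu : IsUnit (algebraMap A A' (r₁ * r₂)) := IsLocalization.Away.algebraMap_isUnit _
  rw [map_mul] at hu
  have hu₁ : IsUnit (algebraMap A A' r₁) := isUnit_of_mul_isUnit_left hu
  have hu₂ : IsUnit (algebraMap A A' r₂) := isUnit_of_mul_isUnit_right hu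
  constructor
  · apply le_antisymm
    · rw [Ideal.map_le_iff_le_comap]
      intro x hx
      rw [Ideal.mem_comap]
      have h3 : algebraMap A A' (r₁ * x) ∈ Ideal.span {algebraMap A A' a} := by
        have := Ideal.mem_map_of_mem (algebraMap A A') (h₁ x hx)
        rwa [Ideal.map_span, Set.image_singleton] at this
      rw [map_mul] at h3
      obtain ⟨v, hv⟩ := hu₁
      have h4 : algebraMap A A' x = ↑v⁻¹ * (algebraMap A A' r₁ * algebraMap A A' x) := by
        rw [← hv, ← mul_assoc, Units.inv_mul, one_mul]
      rw [h4]
      exact Ideal.mul_mem_left _ _ h3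
    · rw [Ideal.span_le, Set.singleton_subset_iff]
      exact Ideal.mem_map_of_mem _ ha
  · rw [mem_nonZeroDivisors_iff_right]
    intro y hy
    obtain ⟨x, t, rfl⟩ := IsLocalization.exists_mk'_eq (Submonoid.powers (r₁ * r₂)) y
    have h5 : algebraMap A A' (x * a) = 0 := by
      have h6 : IsLocalization.mk' A' x t * algebraMap A A' a * algebraMap A A' t = 0 := by
        rw [hy, zero_mul]
      rw [mul_right_comm, IsLocalization.mk'_spec, ← map_mul] at h6
      exact h6
    obtain ⟨m, hm⟩ := (IsLocalization.map_eq_zero_iff (Submonoid.powers (r₁ * r₂)) A' _).mp h5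
    have h7 : (m : A) * x ∈ (Ideal.span {a}).annihilator := by
      rw [Submodule.mem_annihilator_span_singleton, smul_eq_mul, mul_assoc]
      exact hm
    have h8 : r₂ * ((m : A) * x) = 0 := by
      have := h₂ _ h7
      rwa [Ideal.mem_bot] at this
    have h9 : algebraMap A A' r₂ * (algebraMap A A' (m : A) * algebraMap A A' x) = 0 := by
      rw [← map_mul, ← map_mul, h8, map_zero]
    have hum : IsUnit (algebraMap A A' (m : A)) := IsLocalization.map_units A' m
    have h10 : algebraMap A A' x = 0 :=
      (hum.mul_right_eq_zero).mp ((hu₂.mul_right_eq_zero).mp h9)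
    rw [IsLocalization.mk'_eq_zero_iff]
    exact (IsLocalization.map_eq_zero_iff (Submonoid.powers (r₁ * r₂)) A' _).mp h10

end Groth.Agent.Lib.Seat61.CartierDescent
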