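import Mathlib
import Groth.Prelude.Def_BlowUp2
import Groth.Agent.Lib.Helper20EffCartier
import Groth.Agent.Lib.Seat61CartierDescent

/-!
# Effective Cartier ideals descend along flat surjective morphisms (seat 61)

`isEffCartierIdeal_of_comap`: if `p : X' ⟶ X` is flat and surjective, `X` is locally Noetherian and the inverse image
ideal sheaf `𝓘.comap p` is effective Cartier, then so is `𝓘`.
-/

set_option autoImplicit false
universe u
open CategoryTheory AlgebraicGeometry nonZeroDivisors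

namespace Groth.Agent.Lib.Seat61.CartierDescentGeom

open Groth.Agent.Lib.Seat61.CartierDescent Groth.Agent.Lib.Helper20.EffCartier

/-- ring hom form of the flat local descent lemma -/
theorem exists_generator_of_flat_local' {R S : Type*} [CommRing R] [CommRing S] [IsLocalRing R]
    [IsLocalRing S] (ψ : R →+* S) (hψ : ψ.Flat) [IsLocalHom ψ]
    (T : Set R) (f : S) (hf : f ∈ S⁰) (h : (Ideal.span T).map ψ = Ideal.span {f}) :
    ∃ a ∈ T, Ideal.span T = Ideal.span {a} ∧ a ∈ R⁰ := by
  algebraize [ψ]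
  have : IsLocalHom (algebraMap R S) := inferInstanceAs (IsLocalHom ψ)
  exact exists_generator_of_flat_local T f hf h

set_option backward.isDefEq.respectTransparency.types false in
theorem isEffCartierIdeal_of_comap {X' X : Scheme.{u}} (p : X' ⟶ X) [Flat p] [Surjective p]
    [IsLocallyNoetherian X] (𝓘 : X.IdealSheafData)
    (h : BlowUp.IsEffCartierIdeal (𝓘.comap p)) : BlowUp.IsEffCartierIdeal 𝓘 := by
  intro x
  obtain ⟨x', rfl⟩ := p.surjective x
  obtain ⟨_, ⟨V, hV : IsAffineOpen V, rfl⟩, hxV, -⟩ :=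
    X.isBasis_affineOpens.exists_subset_of_mem_open (Set.mem_univ (p x')) isOpen_univ
  obtain ⟨U, hU, hx'U, hUV, f, hf, hIf⟩ := exists_le_of_isEffCartierIdeal h x' (p ⁻¹ᵁ V) hxV
  have hcomap := ideal_comap_eq_map p 𝓘 hU hV hUV
  -- the commutative square of germs and the stalk map
  have hsq : (p.stalkMap x').hom.comp (X.presheaf.germ V (p x') hxV).hom =
      (X'.presheaf.germ U x' hx'U).hom.comp (p.appLE V U hUV).hom := by
    rw [← CommRingCat.hom_comp, ← CommRingCat.hom_comp]
    congr 1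
    rw [Scheme.Hom.germ_stalkMap, Scheme.Hom.appLE, Category.assoc, X'.presheaf.germ_res]
  have hψ : (p.stalkMap x').hom.Flat := Flat.stalkMap p x'
  -- the germ of `f` is a nonzerodivisor of the stalk
  have hfS : (X'.presheaf.germ U x' hx'U).hom f ∈ (X'.presheaf.stalk x')⁰ := by
    let _ := X'.presheaf.algebra_section_stalk ⟨x', hx'U⟩
    have := hU.isLocalization_stalk ⟨x', hx'U⟩
    exact IsLocalization.map_nonZeroDivisors_le (hU.primeIdealOf ⟨x', hx'U⟩).asIdeal.primeCompl _
      (Submonoid.mem_map_of_mem _ hf)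
  have hT : (Ideal.span ((X.presheaf.germ V (p x') hxV).hom '' (𝓘.ideal ⟨V, hV⟩ : Set Γ(X, V)))).map
      (p.stalkMap x').hom = Ideal.span {(X'.presheaf.germ U x' hx'U).hom f} := by
    change ((𝓘.ideal ⟨V, hV⟩).map (X.presheaf.germ V (p x') hxV).hom).map (p.stalkMap x').hom = _
    rw [Ideal.map_map, hsq, ← Ideal.map_map, ← hcomap, hIf, Ideal.map_span, Set.image_singleton]
  obtain ⟨t, ⟨a, haI, rfl⟩, hspan, hnzd⟩ :=
    exists_generator_of_flat_local' (p.stalkMap x').hom hψ _ _ hfS hT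
  let _ := X.presheaf.algebra_section_stalk ⟨p x', hxV⟩
  have := hV.isLocalization_stalk ⟨p x', hxV⟩
  have : IsNoetherianRing Γ(X, V) := IsLocallyNoetherian.component_noetherian ⟨V, hV⟩
  obtain ⟨r, hr, hA'⟩ := exists_away_span_singleton (hV.primeIdealOf ⟨p x', hxV⟩).asIdeal
    (X.presheaf.stalk (p x')) (𝓘.ideal ⟨V, hV⟩) a haI hspan hnzd
  have := hV.isLocalization_basicOpen r
  refine ⟨X.affineBasicOpen (U := ⟨V, hV⟩) r, ?_,
    (X.presheaf.map (homOfLE (X.basicOpen_le r)).op).hom a, ?_, ?_⟩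
  · change p x' ∈ X.basicOpen r
    rw [Scheme.mem_basicOpen _ _ _ hxV]
    exact IsLocalization.map_units (M := (hV.primeIdealOf ⟨p x', hxV⟩).asIdeal.primeCompl)
      (X.presheaf.stalk (p x')) ⟨r, hr⟩
  · exact (hA' Γ(X, X.basicOpen r)).2
  · exact (𝓘.map_ideal_basicOpen ⟨V, hV⟩ r).symm.trans (hA' Γ(X, X.basicOpen r)).1

end Groth.Agent.Lib.Seat61.CartierDescentGeom
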