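import Mathlib

/-!
# A functor preserving finite coproducts and filtered colimits preserves all coproducts

`preservesColimit_discrete_of_finite_of_filtered`: if `G : C ⥤ D` preserves finite coproducts and colimits
of shape `Finset (Discrete α)` (a filtered shape), then `G` preserves the coproduct of any `f : α → C`.
-/

set_option autoImplicit false
universe w v₁ v₂ u₁ u₂
open CategoryTheory CategoryTheory.Limits

namespace Groth.Agent.Lib.Seat61.CoprodFiltered

open CoproductsFromFiniteFiltered

variable {C : Type u₁} [Category.{v₁} C] {D : Type u₂} [Category.{v₂} D] {α : Type w}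

set_option backward.isDefEq.respectTransparency false in
theorem preservesColimit_discrete_of_finite_of_filtered [HasFiniteCoproducts C]
    [HasColimitsOfShape (Finset (Discrete α)) C] (G : C ⥤ D) [PreservesFiniteCoproducts G]
    [PreservesColimitsOfShape (Finset (Discrete α)) G] (f : α → C) [HasCoproduct f] :
    PreservesColimit (Discrete.functor f) G := by
  apply preservesColimit_of_preserves_colimit_cocone (coproductIsCoproduct f)
  have hbig : IsColimit (G.mapCocone (finiteSubcoproductsCocone f)) :=
    isColimitOfPreserves G (isColimitFiniteSubproductsCocone f)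
  have hfin : ∀ I : Finset (Discrete α),
      IsColimit (G.mapCocone (Cofan.mk (∐ fun x : I => (Discrete.functor f).obj x)
        (Sigma.ι (fun x : I => (Discrete.functor f).obj x)))) := fun I =>
    isColimitOfPreserves G (coproductIsCoproduct (fun x : I => (Discrete.functor f).obj x))
  -- maps out of `G (∐_{x ∈ I} f x)` are determined componentwise
  have hext : ∀ (I : Finset (Discrete α)) {T : D}
      (a b : G.obj (∐ fun x : I => (Discrete.functor f).obj x) ⟶ T),
      (∀ x : I, G.map (Sigma.ι (fun x : I => (Discrete.functor f).obj x) x) ≫ a =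
        G.map (Sigma.ι (fun x : I => (Discrete.functor f).obj x) x) ≫ b) → a = b := by
    intro I T a b h
    refine (hfin I).hom_ext ?_
    rintro ⟨x⟩
    exact h x
  -- and exist
  have hdesc : ∀ (I : Finset (Discrete α)) {T : D}
      (c : ∀ x : I, G.obj ((Discrete.functor f).obj x) ⟶ T),
      ∃ a : G.obj (∐ fun x : I => (Discrete.functor f).obj x) ⟶ T,
        ∀ x : I, G.map (Sigma.ι (fun x : I => (Discrete.functor f).obj x) x) ≫ a = c x := by
    intro I T c
    refine ⟨(hfin I).desc ⟨T, Discrete.natTrans (fun x => c x.as)⟩, fun x => ?_⟩
    exact (hfin I).fac ⟨T, Discrete.natTrans (fun x => c x.as)⟩ ⟨x⟩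
  -- the inclusion of a summand of a finite sub-coproduct
  have hι : ∀ (I : Finset (Discrete α)) (x : I),
      Sigma.ι (fun x : I => (Discrete.functor f).obj x) x ≫ (finiteSubcoproductsCocone f).ι.app I =
        Sigma.ι f x.1.as := by
    intro I x
    simp [finiteSubcoproductsCocone]
  choose a ha using fun (s : Cocone (Discrete.functor f ⋙ G)) (I : Finset (Discrete α)) =>
    hdesc I (fun x : I => s.ι.app x.1)
  let T : Cocone (Discrete.functor f ⋙ G) → Cocone (liftToFinsetObj (Discrete.functor f) ⋙ G) :=
    fun s =>
    { pt := s.pt
      ι :=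
        { app := fun I => a s I
          naturality := by
            intro I I' h
            change G.map ((liftToFinsetObj (Discrete.functor f)).map h) ≫ a s I' = a s I ≫ 𝟙 _
            rw [Category.comp_id]
            refine hext I _ _ (fun x => ?_)
            have e1 : Sigma.ι (fun x : I => (Discrete.functor f).obj x) x ≫
                (liftToFinsetObj (Discrete.functor f)).map h =
                Sigma.ι (fun x : I' => (Discrete.functor f).obj x) ⟨x.1, h.down.down x.2⟩ := by
              simp [liftToFinsetObj]
            rw [ha s I x, ← Category.assoc, ← G.map_comp, e1, ha s I' ⟨x.1, h.down.down x.2⟩] } }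
  refine
    { desc := fun s => hbig.desc (T s)
      fac := ?_
      uniq := ?_ }
  · intro s j
    have e2 := hι {j} ⟨j, Finset.mem_singleton_self j⟩
    have e3 := hbig.fac (T s) {j}
    have e4 := ha s {j} ⟨j, Finset.mem_singleton_self j⟩
    change G.map (Sigma.ι f j.as) ≫ hbig.desc (T s) = s.ι.app j
    rw [← e2, G.map_comp, Category.assoc]
    erw [e3]
    exact e4
  · intro s m hm
    refine hbig.hom_ext (fun I => ?_)
    rw [hbig.fac (T s) I]
    refine hext I _ _ (fun x => ?_)
    change G.map _ ≫ G.map ((finiteSubcoproductsCocone f).ι.app I) ≫ m = _ ≫ a s I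
    rw [ha s I x, ← Category.assoc, ← G.map_comp, hι I x]
    exact hm x.1

end Groth.Agent.Lib.Seat61.CoprodFiltered
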