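import Mathlib
import Groth.Prelude.Def_W4stkflatp2Cpct

/-!
# Compactifications: the open-part functor and right calculus of fractions (seat 61)
-/

set_option autoImplicit false
universe u

open CategoryTheory CategoryTheory.Limits AlgebraicGeometry Opposite

namespace Groth.Agent.Lib.Seat61.Cpct

variable {S : Scheme.{u}}

/-- the proper part functor -/
def barFunctor : Cpct.Pair S ⥤ Over S where
  obj A := A.bar
  map f := Cpct.Pair.Hom.bar f
  map_id _ := rfl
  map_comp _ _ := rfl

/-- the inclusion of the open part -/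
noncomputable def incl (A : Cpct.Pair S) : Cpct.openOver.obj A ⟶ A.bar :=
  Over.homMk A.U.ι rfl

@[simp] lemma incl_left (A : Cpct.Pair S) : (incl A).left = A.U.ι := rfl

lemma incl_naturality {A B : Cpct.Pair S} (f : A ⟶ B) :
    Cpct.openOver.map f ≫ incl B = incl A ≫ Cpct.Pair.Hom.bar f := by
  ext1
  simp only [Over.comp_left, incl_left]
  exact Scheme.Hom.resLE_comp_ι _ _

instance (A : Cpct.Pair S) : Mono (incl A) := by
  have h0 : IsOpenImmersion A.U.ι := inferInstance
  have : Mono ((Over.forget S).map (incl A)) := by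
    change Mono A.U.ι
    infer_instance
  exact (Over.forget S).mono_of_mono_map this

lemma isoOpen_iff {A B : Cpct.Pair S} (f : A ⟶ B) :
    Cpct.isoOpen S f ↔ IsIso (Cpct.openOver.map f) := by
  constructor
  · intro h
    have h1 : IsIso ((Over.forget S).map (Cpct.openOver.map f)) := h
    exact isIso_of_reflects_iso (Cpct.openOver.map f) (Over.forget S)
  · intro h
    have : IsIso ((Over.forget S).map (Cpct.openOver.map f)) :=
      CategoryTheory.Functor.map_isIso (Over.forget S) (Cpct.openOver.map f)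
    exact this

instance : (Cpct.isoOpen S).IsMultiplicative where
  id_mem A := by
    rw [isoOpen_iff, CategoryTheory.Functor.map_id]
    infer_instance
  comp_mem f g hf hg := by
    rw [isoOpen_iff] at hf hg ⊢
    rw [CategoryTheory.Functor.map_comp]
    infer_instance

/-- Key lemma: a morphism `p : P ⟶ X.bar` with an open `U'` mapping to `X.U`, together with a
section `l` of `p` over `X.U` landing in `U'` and inverse to the restriction on `U'`: the
restriction `U' ⟶ X.U` is an isomorphism. -/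
theorem isIso_resLE_of_section (X : Cpct.Pair S) (P : Over S) (p : P ⟶ X.bar)
    (U' : P.left.Opens) (hle : U' ≤ p.left ⁻¹ᵁ X.U)
    (l : Cpct.openOver.obj X ⟶ P) (hlp : l ≫ p = incl X)
    (hl : ∀ x, l.left x ∈ U')
    (huniq : p.left.resLE X.U U' hle ≫ l.left = U'.ι) :
    IsIso (p.left.resLE X.U U' hle) := by
  let l' : (X.U : Scheme.{u}) ⟶ P.left := l.left
  have huniq' : p.left.resLE X.U U' hle ≫ l' = U'.ι := huniq
  have hlp' : l' ≫ p.left = X.U.ι := congrArg (fun k => k.left) hlp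
  have hrange : Set.range l' ⊆ Set.range U'.ι := by
    rw [Scheme.Opens.range_ι]
    rintro _ ⟨x, rfl⟩
    exact hl x
  have hj : IsOpenImmersion.lift U'.ι l' hrange ≫ U'.ι = l' := IsOpenImmersion.lift_fac _ _ _
  refine ⟨IsOpenImmersion.lift U'.ι l' hrange, ?_, ?_⟩
  · rw [← cancel_mono U'.ι, Category.assoc, hj, huniq', Category.id_comp]
  · rw [← cancel_mono X.U.ι, Category.assoc, Scheme.Hom.resLE_comp_ι,
      ← Category.assoc, hj, Category.id_comp, hlp']

theorem isCompact_of_isIso_resLE (X : Cpct.Pair S) (P : Over S) (p : P ⟶ X.bar)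
    (U' : P.left.Opens) (hle : U' ≤ p.left ⁻¹ᵁ X.U)
    (h : IsIso (p.left.resLE X.U U' hle)) : IsCompact (U' : Set P.left) := by
  have hX : CompactSpace (X.U : Set X.bar.left) := isCompact_iff_compactSpace.mp X.isCompact
  have e : (X.U : Set X.bar.left) ≃ₜ (U' : Set P.left) :=
    (Scheme.homeoOfIso (asIso (p.left.resLE X.U U' hle))).symm
  have : CompactSpace (U' : Set P.left) := e.compactSpace
  exact isCompact_iff_compactSpace.mpr this

/-- the open part of `P` cut out by `U'`, as an object over `S` -/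
noncomputable def opOver (P : Over S) (U' : P.left.Opens) : Over S := Over.mk (U'.ι ≫ P.hom)

noncomputable def opIncl (P : Over S) (U' : P.left.Opens) : opOver P U' ⟶ P :=
  Over.homMk U'.ι rfl

@[simp] lemma opIncl_left (P : Over S) (U' : P.left.Opens) : (opIncl P U').left = U'.ι := rfl

/-- restriction of a morphism over `S` to opens, as a morphism over `S` -/
noncomputable def opRes (X : Cpct.Pair S) (P : Over S) (p : P ⟶ X.bar)
    (U' : P.left.Opens) (hle : U' ≤ p.left ⁻¹ᵁ X.U) : opOver P U' ⟶ Cpct.openOver.obj X :=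
  Over.homMk (p.left.resLE X.U U' hle) (by
    change p.left.resLE X.U U' hle ≫ X.U.ι ≫ X.bar.hom = U'.ι ≫ P.hom
    rw [← Category.assoc, Scheme.Hom.resLE_comp_ι, Category.assoc, Over.w])

@[simp] lemma opRes_left (X : Cpct.Pair S) (P : Over S) (p : P ⟶ X.bar)
    (U' : P.left.Opens) (hle : U' ≤ p.left ⁻¹ᵁ X.U) :
    (opRes X P p U' hle).left = p.left.resLE X.U U' hle := rfl

lemma opRes_incl (X : Cpct.Pair S) (P : Over S) (p : P ⟶ X.bar)
    (U' : P.left.Opens) (hle : U' ≤ p.left ⁻¹ᵁ X.U) :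
    opRes X P p U' hle ≫ incl X = opIncl P U' ≫ p := by
  ext1
  simp only [Over.comp_left, opRes_left, incl_left, opIncl_left]
  exact Scheme.Hom.resLE_comp_ι _ _

theorem exists_rightFraction {X Y Y' : Cpct.Pair S} (f : X ⟶ Y') (s : Y ⟶ Y')
    (hs : Cpct.isoOpen S s) :
    ∃ (X' : Cpct.Pair S) (s' : X' ⟶ X) (_ : Cpct.isoOpen S s') (f' : X' ⟶ Y),
      s' ≫ f = f' ≫ s := by
  rw [isoOpen_iff] at hs
  let fb : X.bar ⟶ Y'.bar := Cpct.Pair.Hom.bar f
  let sb : Y.bar ⟶ Y'.bar := Cpct.Pair.Hom.bar s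
  let P : Over S := pullback fb sb
  let p₁ : P ⟶ X.bar := pullback.fst fb sb
  let p₂ : P ⟶ Y.bar := pullback.snd fb sb
  have hcond : p₁ ≫ fb = p₂ ≫ sb := pullback.condition
  -- properness
  have hYp : IsProper Y.bar.hom := Y.isProper
  have hY'p : IsProper Y'.bar.hom := Y'.isProper
  have hXp : IsProper X.bar.hom := X.isProper
  have hsbp : IsProper sb.left := by
    have h1 : IsProper (sb.left ≫ Y'.bar.hom) := by rw [Over.w]; exact hYp
    exact IsProper.of_comp sb.left Y'.bar.hom
  have hsq : IsPullback p₁.left p₂.left fb.left sb.left :=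
    (IsPullback.of_hasPullback fb sb).map (Over.forget S)
  have hp₁ : IsProper p₁.left := MorphismProperty.of_isPullback hsq.flip hsbp
  have hPp : IsProper P.hom := by
    rw [← Over.w p₁]
    infer_instance
  -- the open
  let U' : P.left.Opens := p₁.left ⁻¹ᵁ X.U ⊓ p₂.left ⁻¹ᵁ Y.U
  have hle₁ : U' ≤ p₁.left ⁻¹ᵁ X.U := inf_le_left
  have hle₂ : U' ≤ p₂.left ⁻¹ᵁ Y.U := inf_le_right
  -- the section
  obtain ⟨A, hA⟩ : ∃ A : Cpct.openOver.obj X ⟶ Cpct.openOver.obj Y,
      A ≫ Cpct.openOver.map s = Cpct.openOver.map f :=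
    ⟨Cpct.openOver.map f ≫ inv (Cpct.openOver.map s), by
      simp only [Category.assoc, IsIso.inv_hom_id, Category.comp_id]⟩
  have hlcond : incl X ≫ fb = (A ≫ incl Y) ≫ sb := by
    rw [Category.assoc, ← incl_naturality s, ← Category.assoc, hA, incl_naturality f]
  let l : Cpct.openOver.obj X ⟶ P := pullback.lift (incl X) (A ≫ incl Y) hlcond
  have hl₁ : l ≫ p₁ = incl X := pullback.lift_fst _ _ _
  have hl₂ : l ≫ p₂ = A ≫ incl Y := pullback.lift_snd _ _ _
  have hl : ∀ x, l.left x ∈ U' := by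
    intro x
    constructor
    · change p₁.left (l.left x) ∈ X.U
      rw [← Scheme.Hom.comp_apply, ← Over.comp_left, hl₁]
      exact x.2
    · change p₂.left (l.left x) ∈ Y.U
      rw [← Scheme.Hom.comp_apply, ← Over.comp_left, hl₂, Over.comp_left, Scheme.Hom.comp_apply]
      exact (A.left x).2
  have huniqO : opRes X P p₁ U' hle₁ ≫ l = opIncl P U' := by
    apply pullback.hom_ext
    · rw [Category.assoc]
      change opRes X P p₁ U' hle₁ ≫ l ≫ p₁ = opIncl P U' ≫ p₁
      rw [hl₁, opRes_incl]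
    · rw [Category.assoc]
      change opRes X P p₁ U' hle₁ ≫ l ≫ p₂ = opIncl P U' ≫ p₂
      rw [hl₂, ← opRes_incl Y P p₂ U' hle₂, ← Category.assoc]
      congr 1
      rw [← cancel_mono (Cpct.openOver.map s), Category.assoc, hA, ← cancel_mono (incl Y'),
        Category.assoc, Category.assoc, incl_naturality f, incl_naturality s,
        ← Category.assoc, ← Category.assoc, opRes_incl, opRes_incl, Category.assoc,
        Category.assoc]
      exact congrArg (fun k => opIncl P U' ≫ k) hcond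
  have huniq : p₁.left.resLE X.U U' hle₁ ≫ l.left = U'.ι := congrArg (fun k => k.left) huniqO
  have hiso := isIso_resLE_of_section X P p₁ U' hle₁ l hl₁ hl huniq
  have hcomp := isCompact_of_isIso_resLE X P p₁ U' hle₁ hiso
  let X' : Cpct.Pair S := ⟨P, U', hPp, hcomp⟩
  let s' : X' ⟶ X := ⟨p₁, fun x hx => hle₁ hx⟩
  let f' : X' ⟶ Y := ⟨p₂, fun x hx => hle₂ hx⟩
  refine ⟨X', s', hiso, f', ?_⟩
  apply Cpct.Pair.Hom.ext
  exact hcond

theorem ext_fraction {X Y Y' : Cpct.Pair S} (f₁ f₂ : X ⟶ Y) (s : Y ⟶ Y')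
    (hs : Cpct.isoOpen S s) (h : f₁ ≫ s = f₂ ≫ s) :
    ∃ (X' : Cpct.Pair S) (t : X' ⟶ X) (_ : Cpct.isoOpen S t), t ≫ f₁ = t ≫ f₂ := by
  rw [isoOpen_iff] at hs
  let g₁ : X.bar ⟶ Y.bar := Cpct.Pair.Hom.bar f₁
  let g₂ : X.bar ⟶ Y.bar := Cpct.Pair.Hom.bar f₂
  let E : Over S := equalizer g₁ g₂
  let e : E ⟶ X.bar := equalizer.ι g₁ g₂
  have hcond : e ≫ g₁ = e ≫ g₂ := equalizer.condition g₁ g₂
  have hYp : IsProper Y.bar.hom := Y.isProper
  have hXp : IsProper X.bar.hom := X.isProper
  have hYs : IsSeparated Y.bar.hom := inferInstance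
  have hecl : IsClosedImmersion e.left := isClosedImmersion_equalizer_ι_left g₁ g₂
  have hEp : IsProper E.hom := by
    rw [← Over.w e]
    infer_instance
  let U' : E.left.Opens := e.left ⁻¹ᵁ X.U
  have hle : U' ≤ e.left ⁻¹ᵁ X.U := le_refl _
  have hmaps : Cpct.openOver.map f₁ = Cpct.openOver.map f₂ := by
    rw [← cancel_mono (Cpct.openOver.map s), ← CategoryTheory.Functor.map_comp,
      ← CategoryTheory.Functor.map_comp, h]
  have hlcond : incl X ≫ g₁ = incl X ≫ g₂ := by
    change incl X ≫ Cpct.Pair.Hom.bar f₁ = incl X ≫ Cpct.Pair.Hom.bar f₂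
    rw [← incl_naturality f₁, ← incl_naturality f₂, hmaps]
  let l : Cpct.openOver.obj X ⟶ E := equalizer.lift (incl X) hlcond
  have hl₁ : l ≫ e = incl X := equalizer.lift_ι _ _
  have hl : ∀ x, l.left x ∈ U' := by
    intro x
    change e.left (l.left x) ∈ X.U
    rw [← Scheme.Hom.comp_apply, ← Over.comp_left, hl₁]
    exact x.2
  have huniqO : opRes X E e U' hle ≫ l = opIncl E U' := by
    apply equalizer.hom_ext
    rw [Category.assoc]
    change opRes X E e U' hle ≫ l ≫ e = opIncl E U' ≫ e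
    rw [hl₁, opRes_incl]
  have huniq : e.left.resLE X.U U' hle ≫ l.left = U'.ι := congrArg (fun k => k.left) huniqO
  have hiso := isIso_resLE_of_section X E e U' hle l hl₁ hl huniq
  have hcomp := isCompact_of_isIso_resLE X E e U' hle hiso
  let X' : Cpct.Pair S := ⟨E, U', hEp, hcomp⟩
  let t : X' ⟶ X := ⟨e, fun x hx => hle hx⟩
  refine ⟨X', t, hiso, ?_⟩
  apply Cpct.Pair.Hom.ext
  exact hcond

theorem hasRightCalculusOfFractions (S : Scheme.{u}) :
    (Cpct.isoOpen S).HasRightCalculusOfFractions where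
  exists_rightFraction X Y φ := by
    obtain ⟨X', s', hs', f', hcomm⟩ := exists_rightFraction φ.f φ.s φ.hs
    exact ⟨⟨s', hs', f'⟩, hcomm⟩
  ext X Y Y' f₁ f₂ s hs h := ext_fraction f₁ f₂ s hs h

end Groth.Agent.Lib.Seat61.Cpct
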