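import Mathlib

/-!
# A criterion for a functor to be a localization, via right fractions (seat 61)
-/

set_option autoImplicit false
universe v₁ v₂ u₁ u₂

open CategoryTheory

namespace Groth.Agent.Lib.Seat61.LocFrac

variable {C : Type u₁} {D : Type u₂} [Category.{v₁} C] [Category.{v₂} D]

theorem rightFractionRel_of_map_eq (L : C ⥤ D) (W : MorphismProperty C)
    [W.HasRightCalculusOfFractions] (hL : W.IsInvertedBy L)
    (hfaith : ∀ (X Y : C) (f₁ f₂ : X ⟶ Y), L.map f₁ = L.map f₂ →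
      ∃ (Z : C) (s : Z ⟶ X) (_ : W s), s ≫ f₁ = s ≫ f₂)
    {X Y : C} (φ ψ : W.RightFraction X Y) (h : φ.map L hL = ψ.map L hL) :
    MorphismProperty.RightFractionRel φ ψ := by
  obtain ⟨θ, hθ⟩ := MorphismProperty.HasRightCalculusOfFractions.exists_rightFraction
    (MorphismProperty.LeftFraction.mk φ.s ψ.s ψ.hs)
  dsimp at hθ
  have h1 : L.map (θ.s ≫ φ.f) = L.map (θ.f ≫ ψ.f) := by
    rw [L.map_comp, L.map_comp, ← φ.map_s_comp_map L hL, ← ψ.map_s_comp_map L hL,
      ← Category.assoc, ← Category.assoc, ← L.map_comp, ← L.map_comp, hθ, h]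
  obtain ⟨Z, t, ht, hteq⟩ := hfaith _ _ _ _ h1
  refine ⟨Z, t ≫ θ.s, t ≫ θ.f, ?_, ?_, ?_⟩
  · rw [Category.assoc, Category.assoc, hθ]
  · rw [Category.assoc, Category.assoc, hteq]
  · rw [Category.assoc]
    exact W.comp_mem _ _ ht (W.comp_mem _ _ θ.hs φ.hs)

theorem isLocalization_of_rightFractions (L : C ⥤ D) (W : MorphismProperty C)
    [W.HasRightCalculusOfFractions] (hL : W.IsInvertedBy L) [L.EssSurj]
    (hfull : ∀ (X Y : C) (g : L.obj X ⟶ L.obj Y), ∃ φ : W.RightFraction X Y, g = φ.map L hL)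
    (hfaith : ∀ (X Y : C) (f₁ f₂ : X ⟶ Y), L.map f₁ = L.map f₂ →
      ∃ (Z : C) (s : Z ⟶ X) (_ : W s), s ≫ f₁ = s ≫ f₂) :
    L.IsLocalization W := by
  let G : W.Localization ⥤ D := Localization.lift L hL W.Q
  let e : W.Q ⋙ G ≅ L := Localization.fac L hL W.Q
  have hnat : ∀ {X Y : C} (f : X ⟶ Y),
      G.map (W.Q.map f) = e.hom.app X ≫ L.map f ≫ e.inv.app Y := by
    intro X Y f
    have := e.hom.naturality f
    rw [← Category.assoc, ← this, Category.assoc, Iso.hom_inv_id_app, Category.comp_id]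
    rfl
  have hmap : ∀ {X Y : C} (φ : W.RightFraction X Y),
      G.map (φ.map W.Q (Localization.inverts W.Q W)) =
        e.hom.app X ≫ φ.map L hL ≫ e.inv.app Y := by
    intro X Y φ
    have hiso : IsIso (G.map (W.Q.map φ.s)) := by
      have : IsIso (W.Q.map φ.s) := Localization.inverts W.Q W _ φ.hs
      infer_instance
    rw [← cancel_epi (G.map (W.Q.map φ.s)), ← G.map_comp, φ.map_s_comp_map, hnat, hnat,
      Category.assoc, Category.assoc, Iso.inv_hom_id_app_assoc, φ.map_s_comp_map_assoc]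
  have hsurjobj : ∀ X' : W.Localization, ∃ X : C, W.Q.obj X = X' := fun X' =>
    (Localization.Construction.objEquiv W).surjective X'
  have hfaithful : G.Faithful := by
    refine ⟨?_⟩
    intro X' Y' a b hab
    obtain ⟨X, rfl⟩ := hsurjobj X'
    obtain ⟨Y, rfl⟩ := hsurjobj Y'
    obtain ⟨φ, rfl⟩ := Localization.exists_rightFraction W.Q W a
    obtain ⟨ψ, rfl⟩ := Localization.exists_rightFraction W.Q W b
    rw [hmap, hmap] at hab
    have h2 : φ.map L hL = ψ.map L hL := by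
      have h3 := (cancel_epi (e.hom.app X)).mp hab
      exact (cancel_mono (e.inv.app Y)).mp h3
    exact (MorphismProperty.RightFraction.map_eq_iff W.Q W φ ψ).mpr
      (rightFractionRel_of_map_eq L W hL hfaith φ ψ h2)
  have hfullG : G.Full := by
    refine ⟨?_⟩
    intro X' Y' g
    obtain ⟨X, rfl⟩ := hsurjobj X'
    obtain ⟨Y, rfl⟩ := hsurjobj Y'
    obtain ⟨φ, hφ⟩ := hfull X Y (e.inv.app X ≫ g ≫ e.hom.app Y)
    refine ⟨φ.map W.Q (Localization.inverts W.Q W), ?_⟩
    rw [hmap, ← hφ]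
    simp
  have hess : G.EssSurj := by
    refine ⟨fun d => ?_⟩
    exact ⟨W.Q.obj (L.objPreimage d), ⟨e.app _ ≪≫ L.objObjPreimageIso d⟩⟩
  have hequiv : G.IsEquivalence := {}
  exact Functor.IsLocalization.of_equivalence_target W.Q W L G.asEquivalence e

end Groth.Agent.Lib.Seat61.LocFrac
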