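import Mathlib
import Groth.Prelude.Def_W4stkflatp2Cpct
import Groth.Agent.Lib.Seat61Cpct
import Groth.Agent.Lib.Seat61LocFrac

/-!
# Compactifications: the open-part functor is a localization (seat 61)
-/

set_option autoImplicit false
universe u

open CategoryTheory CategoryTheory.Limits AlgebraicGeometry Opposite

namespace Groth.Agent.Lib.Seat61.Cpct

variable {S : Scheme.{u}}

/-- variant of `ext_fraction` with the equality of open parts as hypothesis -/
theorem ext_of_map_eq {X Y : Cpct.Pair S} (f₁ f₂ : X ⟶ Y)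
    (hmaps : Cpct.openOver.map f₁ = Cpct.openOver.map f₂) :
    ∃ (X' : Cpct.Pair S) (t : X' ⟶ X) (_ : Cpct.isoOpen S t), t ≫ f₁ = t ≫ f₂ := by
  let g₁ : X.bar ⟶ Y.bar := Cpct.Pair.Hom.bar f₁
  let g₂ : X.bar ⟶ Y.bar := Cpct.Pair.Hom.bar f₂
  let E : Over S := equalizer g₁ g₂
  let e : E ⟶ X.bar := equalizer.ι g₁ g₂
  have hcond : e ≫ g₁ = e ≫ g₂ := equalizer.condition g₁ g₂
  have hYp : IsProper Y.bar.hom := Y.isProper
  have hXp : IsProper X.bar.hom := X.isProper
  have hYs : IsSeparated Y.bar.hom := inferInstance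
  have hecl : IsClosedImmersion e.left := isClosedImmersion_equalizer_ι_left g₁ g₂
  have hEp : IsProper E.hom := by
    rw [← Over.w e]
    infer_instance
  let U' : E.left.Opens := e.left ⁻¹ᵁ X.U
  have hle : U' ≤ e.left ⁻¹ᵁ X.U := le_refl _
  have hlcond : incl X ≫ g₁ = incl X ≫ g₂ := by
    change incl X ≫ Cpct.Pair.Hom.bar f₁ = incl X ≫ Cpct.Pair.Hom.bar f₂
    rw [← incl_naturality f₁, ← incl_naturality f₂, hmaps]
  let l : Cpct.openOver.obj X ⟶ E := equalizer.lift (incl X) hlcond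
  have hl₁ : l ≫ e = incl X := equalizer.lift_ι _ _
  have hl : ∀ x, l.left x ∈ U' := by
    intro x
    change e.left (l.left x) ∈ X.U
    rw [← Scheme.Hom.comp_apply, ← Over.comp_left, hl₁]
    exact x.2
  have huniqO : opRes X E e U' hle ≫ l = opIncl E U' := by
    apply equalizer.hom_ext
    rw [Category.assoc]
    change opRes X E e U' hle ≫ l ≫ e = opIncl E U' ≫ e
    rw [hl₁, opRes_incl]
  have huniq : e.left.resLE X.U U' hle ≫ l.left = U'.ι := congrArg (fun k => k.left) huniqO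
  have hiso := isIso_resLE_of_section X E e U' hle l hl₁ hl huniq
  have hcomp := isCompact_of_isIso_resLE X E e U' hle hiso
  let X' : Cpct.Pair S := ⟨E, U', hEp, hcomp⟩
  let t : X' ⟶ X := ⟨e, fun x hx => hle hx⟩
  refine ⟨X', t, hiso, ?_⟩
  apply Cpct.Pair.Hom.ext
  exact hcond

theorem inverts (S : Scheme.{u}) : (Cpct.isoOpen S).IsInvertedBy (Cpct.openFunctor S) := by
  intro A B f hf
  rw [isoOpen_iff] at hf
  exact (ObjectProperty.isIso_hom_iff _).mp hf

instance essSurj_openFunctor (S : Scheme.{u}) : (Cpct.openFunctor S).EssSurj where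
  mem_essImage X := by
    obtain ⟨A, ⟨e⟩⟩ := X.property
    exact ⟨A, ⟨ObjectProperty.isoMk _ e⟩⟩

/-- Every morphism between open parts is a right fraction: closure of the graph. -/
theorem exists_fraction_of_hom [QuasiSeparatedSpace S] {A B : Cpct.Pair S}
    (g : Cpct.openOver.obj A ⟶ Cpct.openOver.obj B) :
    ∃ (A' : Cpct.Pair S) (s : A' ⟶ A) (_ : Cpct.isoOpen S s) (f : A' ⟶ B),
      Cpct.openOver.map s ≫ g = Cpct.openOver.map f := by
  have hAp : IsProper A.bar.hom := A.isProper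
  have hBp : IsProper B.bar.hom := B.isProper
  -- the product over S
  let Z : Over S := Over.mk (pullback.fst A.bar.hom B.bar.hom ≫ A.bar.hom)
  let q₁ : Z ⟶ A.bar := Over.homMk (pullback.fst A.bar.hom B.bar.hom) rfl
  let q₂ : Z ⟶ B.bar := Over.homMk (pullback.snd A.bar.hom B.bar.hom) pullback.condition.symm
  have hZp : IsProper Z.hom := by
    change IsProper (pullback.fst A.bar.hom B.bar.hom ≫ A.bar.hom)
    infer_instance
  have hZqs : QuasiSeparatedSpace Z.left := quasiSeparatedSpace_of_quasiSeparated Z.hom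
  -- the graph
  let g₀ : (A.U : Scheme.{u}) ⟶ (B.U : Scheme.{u}) := g.left
  have hg₀ : g₀ ≫ B.U.ι ≫ B.bar.hom = A.U.ι ≫ A.bar.hom := Over.w g
  let γ : (A.U : Scheme.{u}) ⟶ Z.left :=
    pullback.lift A.U.ι (g₀ ≫ B.U.ι) (by rw [Category.assoc, hg₀])
  have hγ₁ : γ ≫ q₁.left = A.U.ι := pullback.lift_fst _ _ _
  have hγ₂ : γ ≫ q₂.left = g₀ ≫ B.U.ι := pullback.lift_snd _ _ _
  have hAc : CompactSpace (A.U : Scheme.{u}) := isCompact_iff_compactSpace.mp A.isCompact
  have hγimm : IsImmersion γ := by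
    have : IsImmersion (γ ≫ q₁.left) := by rw [hγ₁]; infer_instance
    exact IsImmersion.of_comp γ q₁.left
  have hγqc : QuasiCompact γ := inferInstance
  have hopen : IsOpenImmersion γ.toImage := inferInstance
  -- the new pair
  let P : Over S := Over.mk (γ.imageι ≫ Z.hom)
  have hPp : IsProper P.hom := by
    change IsProper (γ.imageι ≫ Z.hom)
    infer_instance
  let U' : P.left.Opens := γ.toImage.opensRange
  have hU'c : IsCompact (U' : Set P.left) := by
    change IsCompact (Set.range γ.toImage)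
    exact isCompact_range γ.toImage.continuous
  let A' : Cpct.Pair S := ⟨P, U', hPp, hU'c⟩
  let sb : P ⟶ A.bar := Over.homMk (γ.imageι ≫ q₁.left) (by
    change (γ.imageι ≫ q₁.left) ≫ A.bar.hom = γ.imageι ≫ Z.hom
    rw [Category.assoc, Over.w])
  let fb : P ⟶ B.bar := Over.homMk (γ.imageι ≫ q₂.left) (by
    change (γ.imageι ≫ q₂.left) ≫ B.bar.hom = γ.imageι ≫ Z.hom
    rw [Category.assoc, Over.w])
  have hsle : ∀ x, x ∈ U' → sb.left x ∈ A.U := by
    rintro _ ⟨y, rfl⟩
    change (γ.imageι ≫ q₁.left) (γ.toImage y) ∈ A.U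
    rw [← Scheme.Hom.comp_apply, γ.toImage_imageι_assoc, hγ₁]
    exact y.2
  have hfle : ∀ x, x ∈ U' → fb.left x ∈ B.U := by
    rintro _ ⟨y, rfl⟩
    change (γ.imageι ≫ q₂.left) (γ.toImage y) ∈ B.U
    rw [← Scheme.Hom.comp_apply, γ.toImage_imageι_assoc, hγ₂, Scheme.Hom.comp_apply]
    exact (g₀ y).2
  let s : A' ⟶ A := ⟨sb, hsle⟩
  let f : A' ⟶ B := ⟨fb, hfle⟩
  have hle : U' ≤ sb.left ⁻¹ᵁ A.U := fun x hx => hsle x hx
  -- the section
  let l : Cpct.openOver.obj A ⟶ P := Over.homMk γ.toImage (by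
    change γ.toImage ≫ γ.imageι ≫ Z.hom = A.U.ι ≫ A.bar.hom
    rw [γ.toImage_imageι_assoc, ← Over.w q₁, ← Category.assoc, hγ₁])
  have hlp : l ≫ sb = incl A := by
    ext1
    change γ.toImage ≫ γ.imageι ≫ q₁.left = A.U.ι
    rw [γ.toImage_imageι_assoc, hγ₁]
  have hl : ∀ x, l.left x ∈ U' := fun x => ⟨x, rfl⟩
  have hφ : γ.toImage.isoOpensRange.hom ≫ sb.left.resLE A.U U' hle = 𝟙 _ := by
    rw [← cancel_mono A.U.ι, Category.assoc, Scheme.Hom.resLE_comp_ι,
      Scheme.Hom.isoOpensRange_hom_ι_assoc, Category.id_comp]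
    change γ.toImage ≫ γ.imageι ≫ q₁.left = A.U.ι
    rw [γ.toImage_imageι_assoc, hγ₁]
  have huniq' : sb.left.resLE A.U U' hle ≫ γ.toImage = U'.ι := by
    rw [← cancel_epi γ.toImage.isoOpensRange.hom, ← Category.assoc, hφ, Category.id_comp,
      Scheme.Hom.isoOpensRange_hom_ι]
  have huniq : sb.left.resLE A.U U' hle ≫ l.left = U'.ι := huniq'
  have hiso : IsIso (sb.left.resLE A.U U' hle) :=
    isIso_resLE_of_section A P sb U' hle l hlp hl huniq
  refine ⟨A', s, hiso, f, ?_⟩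
  rw [← cancel_mono (incl B), Category.assoc, incl_naturality f]
  ext1
  change sb.left.resLE A.U U' hle ≫ g₀ ≫ B.U.ι = U'.ι ≫ γ.imageι ≫ q₂.left
  rw [← hγ₂, ← huniq', Category.assoc, γ.toImage_imageι_assoc]

theorem isLocalization (S : Scheme.{u}) [QuasiSeparatedSpace S] :
    (Cpct.openFunctor S).IsLocalization (Cpct.isoOpen S) := by
  have := hasRightCalculusOfFractions S
  apply Groth.Agent.Lib.Seat61.LocFrac.isLocalization_of_rightFractions (Cpct.openFunctor S)
    (Cpct.isoOpen S) (inverts S)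
  · intro A B g
    obtain ⟨A', s, hs, f, hsf⟩ := exists_fraction_of_hom g.hom
    refine ⟨⟨s, hs, f⟩, ?_⟩
    have hiso : IsIso ((Cpct.openFunctor S).map s) := inverts S s hs
    change g = inv ((Cpct.openFunctor S).map s) ≫ (Cpct.openFunctor S).map f
    rw [← cancel_epi ((Cpct.openFunctor S).map s), IsIso.hom_inv_id_assoc]
    apply ObjectProperty.hom_ext
    exact hsf
  · intro X Y f₁ f₂ h
    have hmaps : Cpct.openOver.map f₁ = Cpct.openOver.map f₂ :=
      congrArg (fun k => k.hom) h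
    exact ext_of_map_eq f₁ f₂ hmaps

end Groth.Agent.Lib.Seat61.Cpct
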