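import Mathlib
import Groth.Prelude.Def_RelSpec2
import Groth.Agent.S0484
import Groth.Agent.S0487
import Groth.Agent.Lib.Helper9TopColimSch
import Groth.Agent.Lib.Seat61CoprodFiltered

/-!
# Direct image along a quasi-compact quasi-separated morphism commutes with filtered colimits

* `preservesColimitsOfShape_pushAb`: `Coh.pushAb f` (direct image of abelian sheaves) preserves filtered
  colimits, from helper9's `preservesColimitsOfShape_RpushAb` in degree `0`.
* `dirImgCompToSheaf`: `AMod.dirImg f` lies over `Coh.pushAb f`.
* `preservesColimitsOfShape_dirImg`: `AMod.dirImg f` preserves filtered colimits.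
* `preservesColimitsOfShape_pushforward`: the same for `Scheme.Modules.pushforward f`.
* `preservesColimit_discrete_of_finite_of_filtered`: a functor preserving finite coproducts and
  filtered colimits preserves all coproducts.
-/

set_option autoImplicit false
set_option linter.style.haveILetI false
universe u
open CategoryTheory CategoryTheory.Limits AlgebraicGeometry TopologicalSpace Opposite

namespace Groth.Agent.Lib.Seat61.DirImgColim

section Push

variable {X S : Scheme.{u}} (f : X ⟶ S) [QuasiCompact f] [QuasiSeparated f]

/-- direct image of abelian sheaves along a qcqs morphism preserves filtered colimits -/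
theorem preservesColimitsOfShape_pushAb (J : Type u) [SmallCategory J] [IsFiltered J] :
    PreservesColimitsOfShape J (Coh.pushAb f) := by
  haveI := Groth.Agent.Lib.Helper9.TopColim.preservesColimitsOfShape_RpushAb f 0 J
  haveI : PreservesFiniteLimits (Coh.pushAb f) :=
    Groth.Agent.S0487.preservesFiniteLimits_push (Opens.grothendieckTopology X)
      (Opens.grothendieckTopology S) (Opens.map f.base)
  exact preservesColimitsOfShape_of_natIso (Coh.pushAb f).rightDerivedZeroIsoSelf

/-- the direct image of modules (as a module over the direct image algebra) lies over the direct image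
of abelian sheaves -/
noncomputable def dirImgCompToSheaf :
    AMod.dirImg f ⋙ SheafOfModules.toSheaf.{u} (AMod.ringSheaf (RelSpec.QCAlg.directImage f)) ≅
      SheafOfModules.toSheaf.{u} X.ringCatSheaf ⋙ Coh.pushAb f :=
  NatIso.ofComponents (fun M => Iso.refl _) (by intros; rfl)

theorem preservesColimitsOfShape_dirImg (J : Type u) [SmallCategory J] [IsFiltered J] :
    PreservesColimitsOfShape J (AMod.dirImg f) := by
  haveI := preservesColimitsOfShape_pushAb f J
  haveI h1 : PreservesColimitsOfShape J (SheafOfModules.toSheaf.{u} X.ringCatSheaf) :=
    Groth.Agent.S0484.preservesColimitsOfShape_toSheaf _ _ J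
  haveI h2 : PreservesColimitsOfShape J
      (SheafOfModules.toSheaf.{u} (AMod.ringSheaf (RelSpec.QCAlg.directImage f))) :=
    Groth.Agent.S0484.preservesColimitsOfShape_toSheaf _ _ J
  haveI h0 : PreservesColimitsOfShape J (SheafOfModules.toSheaf.{u} X.ringCatSheaf ⋙ Coh.pushAb f) :=
    comp_preservesColimitsOfShape _ _
  haveI h3 : PreservesColimitsOfShape J (AMod.dirImg f ⋙
      SheafOfModules.toSheaf.{u} (AMod.ringSheaf (RelSpec.QCAlg.directImage f))) :=
    (preservesColimitsOfShape_iff_of_natIso (dirImgCompToSheaf f).symm).1 h0
  haveI h4 : ReflectsColimitsOfShape J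
      (SheafOfModules.toSheaf.{u} (AMod.ringSheaf (RelSpec.QCAlg.directImage f))) :=
    reflectsColimitsOfShape_of_reflectsIsomorphisms
  exact preservesColimitsOfShape_of_reflects_of_preserves (AMod.dirImg f)
    (SheafOfModules.toSheaf.{u} (AMod.ringSheaf (RelSpec.QCAlg.directImage f)))

instance additive_dirImg : (AMod.dirImg f).Additive where
  map_add := by intros; rfl

/-- `AMod.dirImg f` preserves arbitrary (small) coproducts -/
theorem preservesColimit_discrete_dirImg {ι : Type u} (F : ι → X.Modules) :
    PreservesColimit (Discrete.functor F) (AMod.dirImg f) := by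
  haveI := preservesColimitsOfShape_dirImg f (Finset (Discrete ι))
  exact CoprodFiltered.preservesColimit_discrete_of_finite_of_filtered (AMod.dirImg f) F

end Push

end Groth.Agent.Lib.Seat61.DirImgColim
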