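import Mathlib

/-!
# Essentially finite type local algebras as localizations of quotients of `R[x]_m`

Helper lemmas for S9655.
-/

set_option autoImplicit false
universe u

namespace Groth.Agent.Lib.Seat61.EssFT

open IsLocalRing

variable {R S : Type u} [CommRing R] [CommRing S] [Algebra R S] [IsLocalRing R] [IsLocalRing S]

/-- Choice of generator: keep `s` if its residue lies in `V`, otherwise invert it. -/
noncomputable def flip (V : ValuationSubring (ResidueField S)) (s : S) : S :=
  open Classical in if residue S s ∈ V then s else Ring.inverse s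

lemma isUnit_of_residue_notMem (V : ValuationSubring (ResidueField S)) (s : S)
    (h : residue S s ∉ V) : IsUnit s := by
  by_contra hs
  have : residue S s = 0 := (residue_eq_zero_iff s).2 ((mem_maximalIdeal s).2 hs)
  rw [this] at h
  exact h V.zero_mem

lemma residue_flip_mem (V : ValuationSubring (ResidueField S)) (s : S) :
    residue S (flip V s) ∈ V := by
  unfold flip
  split_ifs with h
  · exact h
  · have hu := isUnit_of_residue_notMem V s h
    have h1 : residue S (Ring.inverse s) * residue S s = 1 := by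
      rw [← map_mul, Ring.inverse_mul_cancel _ hu, map_one]
    have h2 : residue S (Ring.inverse s) = (residue S s)⁻¹ := eq_inv_of_mul_eq_one_left h1
    rw [h2]
    exact (V.mem_or_inv_mem (residue S s)).resolve_left h

lemma flip_spec (V : ValuationSubring (ResidueField S)) (s : S) :
    flip V s = s ∨ (IsUnit (flip V s) ∧ s * flip V s = 1) := by
  unfold flip
  split_ifs with h
  · exact Or.inl rfl
  · have hu := isUnit_of_residue_notMem V s h
    refine Or.inr ⟨?_, Ring.mul_inverse_cancel _ hu⟩
    exact ⟨⟨Ring.inverse s, s, Ring.inverse_mul_cancel _ hu, Ring.mul_inverse_cancel _ hu⟩, rfl⟩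


theorem main [Algebra.EssFiniteType R S] :
    ∃ (n : ℕ) (m : Ideal (MvPolynomial (Fin n) R)) (_ : m.IsMaximal),
      m.under R = IsLocalRing.maximalIdeal R ∧
      ∃ (φ : Localization.AtPrime m →ₐ[R] S) (T : Submonoid φ.range), IsLocalization T S := by
  classical
  obtain ⟨σ, hσ⟩ := (Algebra.essFiniteType_iff (R := R) (S := S)).1 inferInstance
  let κ := ResidueField S
  let f : R →+* κ := (residue S).comp (algebraMap R S)
  obtain ⟨V, hV, hloc⟩ := IsLocalRing.exists_factor_valuationRing f
  have : IsLocalRing V.toSubring := inferInstanceAs (IsLocalRing V)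
  let n := σ.card
  let e : Fin n ≃ σ := σ.equivFin.symm
  let t : Fin n → S := fun i => flip V (e i : S)
  let φ0 : MvPolynomial (Fin n) R →ₐ[R] S := MvPolynomial.aeval t
  have hψ : ∀ p : MvPolynomial (Fin n) R, residue S (φ0 p) ∈ V.toSubring := by
    intro p
    induction p using MvPolynomial.induction_on with
    | C r =>
      have : φ0 (MvPolynomial.C r) = algebraMap R S r := by
        simp [φ0]
      rw [this]
      exact hV r
    | add p q hp hq =>
      rw [map_add, map_add]
      exact V.toSubring.add_mem hp hq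
    | mul_X p i hp =>
      rw [map_mul, map_mul]
      refine V.toSubring.mul_mem hp ?_
      have : φ0 (MvPolynomial.X i) = t i := by simp [φ0, MvPolynomial.aeval_X]
      rw [this]
      exact residue_flip_mem V _
  let ψV : MvPolynomial (Fin n) R →+* V.toSubring :=
    ((residue S).comp φ0.toRingHom).codRestrict V.toSubring hψ
  have hψV : ∀ p, ((ψV p : V.toSubring) : κ) = residue S (φ0 p) := fun p => rfl
  let m0 : Ideal (MvPolynomial (Fin n) R) := Ideal.comap ψV (IsLocalRing.maximalIdeal V.toSubring)
  have hm0 : m0 ≠ ⊤ := by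
    intro h
    have h1 : (1 : MvPolynomial (Fin n) R) ∈ m0 := by rw [h]; trivial
    have h2 : ψV 1 ∈ IsLocalRing.maximalIdeal V.toSubring := h1
    rw [map_one] at h2
    exact (IsLocalRing.maximalIdeal.isMaximal _).ne_top ((Ideal.eq_top_iff_one _).2 h2)
  obtain ⟨m, hm, hle⟩ := Ideal.exists_le_maximal m0 hm0
  have hunder : m.under R = IsLocalRing.maximalIdeal R := by
    symm
    apply (IsLocalRing.maximalIdeal.isMaximal R).eq_of_le
    · intro h
      have h1 : (1 : R) ∈ m.under R := by rw [h]; trivial
      have h2 : algebraMap R (MvPolynomial (Fin n) R) 1 ∈ m := h1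
      rw [map_one] at h2
      exact hm.ne_top ((Ideal.eq_top_iff_one _).2 h2)
    · intro r hr
      apply hle
      show ψV (algebraMap R _ r) ∈ IsLocalRing.maximalIdeal V.toSubring
      rw [IsLocalRing.mem_maximalIdeal, mem_nonunits_iff]
      intro hu
      have h3 : ψV (algebraMap R _ r) = f.codRestrict V.toSubring hV r := by
        apply Subtype.ext
        rw [hψV]
        simp [f, φ0]
      rw [h3] at hu
      have := hloc.map_nonunit r hu
      exact ((IsLocalRing.mem_maximalIdeal r).1 hr) this
  have hunit : ∀ y : m.primeCompl, IsUnit (φ0 y) := by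
    intro ⟨p, hp⟩
    have hp0 : p ∉ m0 := fun h => hp (hle h)
    have h1 : IsUnit (ψV p) := by
      by_contra h
      exact hp0 ((IsLocalRing.mem_maximalIdeal _).2 h)
    have h2 : residue S (φ0 p) ≠ 0 := by
      rw [← hψV]
      intro h0
      have : ψV p = 0 := Subtype.ext h0
      rw [this] at h1
      exact not_isUnit_zero h1
    by_contra h
    exact h2 ((residue_eq_zero_iff _).2 ((mem_maximalIdeal _).2 h))
  let φ : Localization.AtPrime m →ₐ[R] S := IsLocalization.liftAlgHom (M := m.primeCompl) (f := φ0) hunit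
  have hφ0 : ∀ p, φ0 p ∈ φ.range := by
    intro p
    refine ⟨algebraMap _ _ p, ?_⟩
    simp [φ, IsLocalization.liftAlgHom_apply]
  have hti : ∀ i, t i ∈ φ.range := by
    intro i
    have : φ0 (MvPolynomial.X i) = t i := by simp [φ0, MvPolynomial.aeval_X]
    rw [← this]
    exact hφ0 _
  have key : ∀ y ∈ Algebra.adjoin R (σ : Set S), ∃ u ∈ φ.range, IsUnit u ∧ y * u ∈ φ.range := by
    intro y hy
    induction hy using Algebra.adjoin_induction with
    | mem y hy =>
      have hy' : y = ((e (e.symm ⟨y, hy⟩) : σ) : S) := by simp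
      rcases flip_spec V y with h | ⟨h1, h2⟩
      · refine ⟨1, one_mem _, isUnit_one, ?_⟩
        rw [mul_one]
        have := hti (e.symm ⟨y, hy⟩)
        simp only [t, Equiv.apply_symm_apply] at this
        rw [h] at this
        exact this
      · have := hti (e.symm ⟨y, hy⟩)
        simp only [t, Equiv.apply_symm_apply] at this
        refine ⟨_, this, h1, ?_⟩
        rw [h2]
        exact one_mem _
    | algebraMap r =>
      exact ⟨1, one_mem _, isUnit_one, by rw [mul_one]; exact Subalgebra.algebraMap_mem _ r⟩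
    | add x y _ _ hx hy =>
      obtain ⟨u, hu, hu1, hu2⟩ := hx
      obtain ⟨v, hv, hv1, hv2⟩ := hy
      refine ⟨u * v, mul_mem hu hv, hu1.mul hv1, ?_⟩
      have : (x + y) * (u * v) = (x * u) * v + (y * v) * u := by ring
      rw [this]
      exact add_mem (mul_mem hu2 hv) (mul_mem hv2 hu)
    | mul x y _ _ hx hy =>
      obtain ⟨u, hu, hu1, hu2⟩ := hx
      obtain ⟨v, hv, hv1, hv2⟩ := hy
      refine ⟨u * v, mul_mem hu hv, hu1.mul hv1, ?_⟩
      have : (x * y) * (u * v) = (x * u) * (y * v) := by ring
      rw [this]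
      exact mul_mem hu2 hv2
  refine ⟨n, m, hm, hunder, φ, (IsUnit.submonoid S).comap (algebraMap φ.range S), ?_⟩
  constructor; constructor
  · exact fun y ↦ y.prop
  · intro x
    obtain ⟨t', ht', htu, hxt⟩ := hσ x
    obtain ⟨u1, hu1, hu1u, hu1m⟩ := key t' ht'
    obtain ⟨u2, hu2, hu2u, hu2m⟩ := key (x * t') hxt
    refine ⟨⟨⟨(x * t' * u2) * u1, mul_mem hu2m hu1⟩, ⟨⟨(t' * u1) * u2, mul_mem hu1m hu2⟩, ?_⟩⟩, ?_⟩
    · exact (htu.mul hu1u).mul hu2u
    · show x * (t' * u1 * u2) = x * t' * u2 * u1
      ring
  · intro x y e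
    exact ⟨1, by simpa using Subtype.ext e⟩

end Groth.Agent.Lib.Seat61.EssFT
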