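import Mathlib
import Groth.Prelude.Def_SpSeq

/-!
# Fibre products of filtered objects of an abelian category (S6804)

* `pullback_factors_iff`, `factors_of_epi_comp`: subobject calculus.
* `image_inf_eq`: in a cartesian square of an abelian category, the image under `b` of `a⁻¹S ⊓ b⁻¹T` is
  `im b ⊓ T` as soon as `f(S) = im f ⊓ R` and `T ≤ g⁻¹R`.
* `pbObj`, `pbFst`, `pbSnd`, `pbIsLimit`: the fibre product in `SpSeq.FilObj A`.
* `isStrict_snd_of_isPullback`: the base change of a strict morphism is strict.
-/

set_option autoImplicit false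
universe v u
open CategoryTheory CategoryTheory.Limits

namespace Groth.Agent.Lib.Seat61.FilObj

open SpSeq SpSeq.FilObj

variable {A : Type u} [Category.{v} A] [Abelian A]

section Sub

theorem pullback_factors_iff {X Y Z : A} (f : X ⟶ Y) (P : Subobject Y) (h : Z ⟶ X) :
    ((Subobject.pullback f).obj P).Factors h ↔ P.Factors (h ≫ f) := by
  have sq := Subobject.isPullback f P
  constructor
  · intro hh
    rw [← Subobject.factorThru_arrow _ _ hh, Category.assoc, ← sq.w, ← Category.assoc]
    exact Subobject.factors_comp_arrow _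
  · intro hP
    have e : sq.lift (P.factorThru _ hP) h (Subobject.factorThru_arrow _ _ _) ≫
        ((Subobject.pullback f).obj P).arrow = h := sq.lift_snd _ _ _
    rw [← e]
    exact Subobject.factors_comp_arrow _

theorem factors_of_epi_comp {X Y Z : A} (I : Subobject Y) (e : Z ⟶ X) [Epi e] (x : X ⟶ Y)
    (h : I.Factors (e ≫ x)) : I.Factors x := by
  have h0 : x ≫ cokernel.π I.arrow = 0 := by
    rw [← cancel_epi e, comp_zero, ← Category.assoc, ← Subobject.factorThru_arrow _ _ h,
      Category.assoc, cokernel.condition, comp_zero]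
  rw [← Abelian.monoLift_comp I.arrow x h0]
  exact Subobject.factors_comp_arrow _

theorem pullback_inf_comp {X Y L M : A} (w : X ⟶ Y) (a : Y ⟶ L) (b : Y ⟶ M) (S : Subobject L)
    (T : Subobject M) :
    (Subobject.pullback w).obj ((Subobject.pullback a).obj S ⊓ (Subobject.pullback b).obj T) =
      (Subobject.pullback (w ≫ a)).obj S ⊓ (Subobject.pullback (w ≫ b)).obj T := by
  rw [Subobject.inf_pullback, ← Subobject.pullback_comp, ← Subobject.pullback_comp]

/-- the key lemma on cartesian squares -/
theorem image_inf_eq {P L M K : A} {a : P ⟶ L} {b : P ⟶ M} {f : L ⟶ K} {g : M ⟶ K}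
    (sq : IsPullback a b f g) (S : Subobject L) (T : Subobject M) (R : Subobject K)
    (hT : T ≤ (Subobject.pullback g).obj R)
    (hS : imageSubobject (S.arrow ≫ f) = imageSubobject f ⊓ R)
    (W : Subobject P) (hW : W = (Subobject.pullback a).obj S ⊓ (Subobject.pullback b).obj T) :
    imageSubobject (W.arrow ≫ b) = imageSubobject b ⊓ T := by
  apply le_antisymm
  · refine le_inf (imageSubobject_comp_le _ _) ?_
    have hWT : ((Subobject.pullback b).obj T).Factors W.arrow := by
      rw [hW]; exact Subobject.inf_arrow_factors_right _ _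
    have h2 : T.Factors (W.arrow ≫ b) := (pullback_factors_iff b T W.arrow).1 hWT
    exact imageSubobject_le _ (T.factorThru _ h2) (Subobject.factorThru_arrow _ _ _)
  · apply Subobject.le_of_factors
    -- the generic element of `im b ⊓ T`
    set x : ((imageSubobject b ⊓ T : Subobject M) : A) ⟶ M := (imageSubobject b ⊓ T).arrow with hx
    have hxb : (imageSubobject b).Factors x := Subobject.inf_arrow_factors_left _ _
    have hxT : T.Factors x := Subobject.inf_arrow_factors_right _ _
    obtain ⟨A₁, π₁, hπ₁, y₁, hy₁⟩ := surjective_up_to_refinements_of_epi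
      (factorThruImageSubobject b) ((imageSubobject b).factorThru x hxb)
    have e1 : π₁ ≫ x = y₁ ≫ b := by
      have := congrArg (fun t => t ≫ (imageSubobject b).arrow) hy₁
      simpa using this
    -- `f (a y₁)` lies in `im f ⊓ R = f(S)`
    have h3 : (imageSubobject (S.arrow ≫ f)).Factors (y₁ ≫ a ≫ f) := by
      rw [hS, Subobject.inf_factors]
      constructor
      · have e0 : y₁ ≫ a ≫ f = ((y₁ ≫ a) ≫ factorThruImageSubobject f) ≫
            (imageSubobject f).arrow := by
          rw [Category.assoc, Category.assoc, imageSubobject_arrow_comp]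
        rw [e0]
        exact Subobject.factors_comp_arrow _
      · rw [sq.w, ← Category.assoc, ← e1, Category.assoc]
        have h4 : ((Subobject.pullback g).obj R).Factors x := Subobject.factors_of_le (Y := M) x hT hxT
        have h5 := (pullback_factors_iff g R x).1 h4
        rw [← Subobject.factorThru_arrow _ _ h5, ← Category.assoc]
        exact Subobject.factors_comp_arrow _
    obtain ⟨A₂, π₂, hπ₂, s, hs⟩ := surjective_up_to_refinements_of_epi
      (factorThruImageSubobject (S.arrow ≫ f)) ((imageSubobject (S.arrow ≫ f)).factorThru _ h3)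
    have e2 : π₂ ≫ y₁ ≫ a ≫ f = (s ≫ S.arrow) ≫ f := by
      have := congrArg (fun t => t ≫ (imageSubobject (S.arrow ≫ f)).arrow) hs
      simpa using this
    -- the lift to `P`
    obtain ⟨y₂, hy₂a, hy₂b⟩ : ∃ y₂ : A₂ ⟶ P, y₂ ≫ a = s ≫ S.arrow ∧ y₂ ≫ b = π₂ ≫ y₁ ≫ b := by
      have hc : (s ≫ S.arrow) ≫ f = (π₂ ≫ y₁ ≫ b) ≫ g := by
        rw [← e2, Category.assoc, Category.assoc, sq.w]
      exact ⟨sq.lift _ _ hc, sq.lift_fst _ _ hc, sq.lift_snd _ _ hc⟩
    have hy₂W : W.Factors y₂ := by
      rw [hW, Subobject.inf_factors, pullback_factors_iff, pullback_factors_iff]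
      constructor
      · rw [hy₂a]; exact Subobject.factors_comp_arrow _
      · rw [hy₂b, ← e1, ← Category.assoc, ← Subobject.factorThru_arrow _ _ hxT, ← Category.assoc]
        exact Subobject.factors_comp_arrow _
    have : Epi (π₂ ≫ π₁) := epi_comp _ _
    apply factors_of_epi_comp _ (π₂ ≫ π₁)
    have e3 : (π₂ ≫ π₁) ≫ x = (W.factorThru y₂ hy₂W ≫ factorThruImageSubobject (W.arrow ≫ b)) ≫
        (imageSubobject (W.arrow ≫ b)).arrow := by
      rw [Category.assoc (W.factorThru y₂ hy₂W), imageSubobject_arrow_comp,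
        ← Category.assoc (W.factorThru y₂ hy₂W),
        Subobject.factorThru_arrow, hy₂b, Category.assoc, e1]
    rw [e3]
    exact Subobject.factors_comp_arrow _

end Sub

section Pb

variable {K L M : FilObj A} (f : L ⟶ K) (g : M ⟶ K)

/-- the fibre product of filtered objects -/
noncomputable def pbObj : FilObj A where
  obj := pullback f.hom g.hom
  fil p := (Subobject.pullback (pullback.fst f.hom g.hom)).obj (L.fil p) ⊓
    (Subobject.pullback (pullback.snd f.hom g.hom)).obj (M.fil p)
  anti := fun _ _ h => inf_le_inf ((Subobject.pullback _).monotone (L.anti h))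
    ((Subobject.pullback _).monotone (M.anti h))

/-- first projection -/
noncomputable def pbFst : pbObj f g ⟶ L := ⟨pullback.fst f.hom g.hom, fun _ => inf_le_left⟩

/-- second projection -/
noncomputable def pbSnd : pbObj f g ⟶ M := ⟨pullback.snd f.hom g.hom, fun _ => inf_le_right⟩

theorem pb_condition : pbFst f g ≫ f = pbSnd f g ≫ g := Hom.ext pullback.condition

/-- the lift -/
noncomputable def pbLift {T : FilObj A} (a : T ⟶ L) (b : T ⟶ M) (h : a ≫ f = b ≫ g) :
    T ⟶ pbObj f g :=
  ⟨pullback.lift a.hom b.hom (congrArg Hom.hom h), fun p => by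
    change T.fil p ≤ (Subobject.pullback _).obj
      ((Subobject.pullback (pullback.fst f.hom g.hom)).obj (L.fil p) ⊓
        (Subobject.pullback (pullback.snd f.hom g.hom)).obj (M.fil p))
    rw [Subobject.inf_pullback, ← Subobject.pullback_comp, ← Subobject.pullback_comp,
      pullback.lift_fst, pullback.lift_snd]
    exact le_inf (a.compat p) (b.compat p)⟩

theorem pbLift_fst {T : FilObj A} (a : T ⟶ L) (b : T ⟶ M) (h : a ≫ f = b ≫ g) :
    pbLift f g a b h ≫ pbFst f g = a := Hom.ext (pullback.lift_fst _ _ _)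

theorem pbLift_snd {T : FilObj A} (a : T ⟶ L) (b : T ⟶ M) (h : a ≫ f = b ≫ g) :
    pbLift f g a b h ≫ pbSnd f g = b := Hom.ext (pullback.lift_snd _ _ _)

theorem pb_hom_ext {T : FilObj A} {m m' : T ⟶ pbObj f g} (h₁ : m ≫ pbFst f g = m' ≫ pbFst f g)
    (h₂ : m ≫ pbSnd f g = m' ≫ pbSnd f g) : m = m' :=
  Hom.ext (pullback.hom_ext (congrArg Hom.hom h₁) (congrArg Hom.hom h₂))

/-- the cone is a limit -/
noncomputable def pbIsLimit :
    IsLimit (PullbackCone.mk (pbFst f g) (pbSnd f g) (pb_condition f g)) :=
  PullbackCone.IsLimit.mk _ (fun s => pbLift f g s.fst s.snd s.condition)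
    (fun _ => pbLift_fst f g _ _ _) (fun _ => pbLift_snd f g _ _ _)
    (fun _ _ h₁ h₂ => pb_hom_ext f g (h₁.trans (pbLift_fst f g _ _ _).symm)
      (h₂.trans (pbLift_snd f g _ _ _).symm))

theorem hasPullback : HasPullback f g := HasLimit.mk ⟨_, pbIsLimit f g⟩

theorem isPullback_pb : IsPullback (pbFst f g) (pbSnd f g) f g :=
  ⟨⟨pb_condition f g⟩, ⟨pbIsLimit f g⟩⟩

variable {f g}

theorem isStrict_snd_of_isPullback {P : FilObj A} {g' : P ⟶ L} {f' : P ⟶ M}
    (sq : IsPullback g' f' f g) (hf : IsStrict f) : IsStrict f' := by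
  -- comparison maps
  let u : pbObj f g ⟶ P := sq.lift (pbFst f g) (pbSnd f g) (pb_condition f g)
  let w : P ⟶ pbObj f g := pbLift f g g' f' sq.w
  have hu1 : u ≫ g' = pbFst f g := sq.lift_fst _ _ _
  have hu2 : u ≫ f' = pbSnd f g := sq.lift_snd _ _ _
  have hw1 : w ≫ pbFst f g = g' := pbLift_fst f g _ _ _
  have hw2 : w ≫ pbSnd f g = f' := pbLift_snd f g _ _ _
  have hwu : w ≫ u = 𝟙 P := by
    apply sq.hom_ext
    · rw [Category.assoc, hu1, hw1, Category.id_comp]
    · rw [Category.assoc, hu2, hw2, Category.id_comp]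
  have huw : u ≫ w = 𝟙 (pbObj f g) := by
    apply pb_hom_ext
    · rw [Category.assoc, hw1, hu1, Category.id_comp]
    · rw [Category.assoc, hw2, hu2, Category.id_comp]
  -- the underlying square is cartesian
  have sqA : IsPullback g'.hom f'.hom f.hom g.hom := by
    refine IsPullback.of_iso_pullback ⟨congrArg Hom.hom sq.w⟩
      ⟨w.hom, u.hom, congrArg Hom.hom hwu, congrArg Hom.hom huw⟩ ?_ ?_
    · exact congrArg Hom.hom hw1
    · exact congrArg Hom.hom hw2
  -- the filtration of `P`
  have hfil : ∀ p, P.fil p = (Subobject.pullback g'.hom).obj (L.fil p) ⊓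
      (Subobject.pullback f'.hom).obj (M.fil p) := by
    intro p
    apply le_antisymm (le_inf (g'.compat p) (f'.compat p))
    have h1 := (Subobject.pullback w.hom).monotone (u.compat p)
    have e1 : (Subobject.pullback w.hom).obj ((Subobject.pullback u.hom).obj (P.fil p)) =
        P.fil p := by
      rw [← Subobject.pullback_comp]
      have : w.hom ≫ u.hom = 𝟙 P.obj := congrArg Hom.hom hwu
      rw [this, Subobject.pullback_id]
    have e2 : (Subobject.pullback w.hom).obj ((pbObj f g).fil p) =
        (Subobject.pullback g'.hom).obj (L.fil p) ⊓ (Subobject.pullback f'.hom).obj (M.fil p) := by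
      have a1 : w.hom ≫ (pbFst f g).hom = g'.hom := congrArg Hom.hom hw1
      have a2 : w.hom ≫ (pbSnd f g).hom = f'.hom := congrArg Hom.hom hw2
      have := pullback_inf_comp w.hom (pbFst f g).hom (pbSnd f g).hom (L.fil p) (M.fil p)
      rw [a1, a2] at this
      exact this
    rw [e1, e2] at h1
    exact h1
  intro p
  exact image_inf_eq sqA (L.fil p) (M.fil p) (K.fil p) (g.compat p) (hf p) (P.fil p) (hfil p)

end Pb

end Groth.Agent.Lib.Seat61.FilObj
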