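import Mathlib
import Groth.Prelude.Def_SpSeq
import Groth.Agent.Lib.Seat61FilObj

/-!
# Pushouts of filtered objects of an abelian category (S6803)

* `exists_refinement_of_image_factors`, `image_factors_of_refinement`: images and refinements.
* `image_sup_eq`: in a cocartesian square of an abelian category, `f'(T) = im f' ⊓ W` as soon as
  `f(R) = im f ⊓ S`, `R ≤ g⁻¹T`, `T ≤ f'⁻¹W` and `W ≤ g'(S) + f'(T)`.
* `poObj`, `poInl`, `poInr`, `poDesc`, `poIsColimit`: the pushout in `SpSeq.FilObj A`.
* `isStrict_inr_of_isPushout`: the cobase change of a strict morphism is strict.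
-/

set_option autoImplicit false
universe v u
open CategoryTheory CategoryTheory.Limits

namespace Groth.Agent.Lib.Seat61.FilObj

open SpSeq SpSeq.FilObj

variable {A : Type u} [Category.{v} A] [Abelian A]

section Sub

theorem exists_refinement_of_image_factors {X Y Z : A} (d : X ⟶ Y) (y : Z ⟶ Y)
    (h : (imageSubobject d).Factors y) :
    ∃ (Z' : A) (π : Z' ⟶ Z) (_ : Epi π) (x : Z' ⟶ X), π ≫ y = x ≫ d := by
  obtain ⟨Z', π, hπ, x, hx⟩ := surjective_up_to_refinements_of_epi
    (factorThruImageSubobject d) ((imageSubobject d).factorThru y h)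
  refine ⟨Z', π, hπ, x, ?_⟩
  have := congrArg (fun t => t ≫ (imageSubobject d).arrow) hx
  simpa using this

theorem image_factors_of_refinement {X Y Z Z' : A} (d : X ⟶ Y) (y : Z ⟶ Y) (π : Z' ⟶ Z) [Epi π]
    (x : Z' ⟶ X) (h : π ≫ y = x ≫ d) : (imageSubobject d).Factors y := by
  apply factors_of_epi_comp _ π
  rw [h]
  exact imageSubobject_factors_comp_self _ _

theorem factors_biprod_desc {X Y Z : A} (P : Subobject Z) (u : X ⟶ Z) (v : Y ⟶ Z)
    (hu : P.Factors u) (hv : P.Factors v) : P.Factors (biprod.desc u v) := by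
  have : biprod.desc u v = biprod.desc (P.factorThru u hu) (P.factorThru v hv) ≫ P.arrow := by
    ext <;> simp
  rw [this]
  exact Subobject.factors_comp_arrow _

theorem image_comp_factors {X Y Z : A} (h : X ⟶ Y) (v : Y ⟶ Z) :
    (imageSubobject (h ≫ v)).Factors ((imageSubobject h).arrow ≫ v) := by
  apply factors_of_epi_comp _ (factorThruImageSubobject h)
  rw [← Category.assoc, imageSubobject_arrow_comp]
  exact imageSubobject_factors_comp_self _ (𝟙 _) |> fun h' => by simpa using h'

/-- the key lemma on cocartesian squares -/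
theorem image_sup_eq {K L M P : A} {f : K ⟶ L} {g : K ⟶ M} {g' : L ⟶ P} {f' : M ⟶ P}
    (sq : IsPushout f g g' f') (R : Subobject K) (S : Subobject L) (T : Subobject M)
    (W : Subobject P) (hR : R ≤ (Subobject.pullback g).obj T)
    (hS : imageSubobject (R.arrow ≫ f) = imageSubobject f ⊓ S)
    (hT : T ≤ (Subobject.pullback f').obj W)
    (hW : W ≤ imageSubobject (biprod.desc (S.arrow ≫ g') (T.arrow ≫ f'))) :
    imageSubobject (T.arrow ≫ f') = imageSubobject f' ⊓ W := by
  apply le_antisymm
  · refine le_inf (imageSubobject_comp_le _ _) ?_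
    have h1 : ((Subobject.pullback f').obj W).Factors T.arrow :=
      Subobject.factors_of_le (Y := M) _ hT (Subobject.factors_self _)
    have h2 : W.Factors (T.arrow ≫ f') := (pullback_factors_iff f' W T.arrow).1 h1
    exact imageSubobject_le _ (W.factorThru _ h2) (Subobject.factorThru_arrow _ _ _)
  · apply Subobject.le_of_factors
    set x : ((imageSubobject f' ⊓ W : Subobject P) : A) ⟶ P := (imageSubobject f' ⊓ W).arrow with hx
    have hxf : (imageSubobject f').Factors x := Subobject.inf_arrow_factors_left _ _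
    have hxW : W.Factors x := Subobject.inf_arrow_factors_right _ _
    obtain ⟨A₁, π₁, hπ₁, m, e1⟩ := exists_refinement_of_image_factors f' x hxf
    have hxd : (imageSubobject (biprod.desc (S.arrow ≫ g') (T.arrow ≫ f'))).Factors (π₁ ≫ x) :=
      Subobject.factors_of_factors_right _ (Subobject.factors_of_le (Y := P) _ hW hxW)
    obtain ⟨A₂, π₂, hπ₂, lm, e2⟩ := exists_refinement_of_image_factors _ _ hxd
    have e2' : π₂ ≫ π₁ ≫ x = (lm ≫ biprod.fst) ≫ S.arrow ≫ g' +
        (lm ≫ biprod.snd) ≫ T.arrow ≫ f' := by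
      rw [e2, biprod.desc_eq, Preadditive.comp_add]
      simp only [Category.assoc]
    -- exactness of `K ⟶ L ⊞ M ⟶ P`
    have hz : biprod.lift ((lm ≫ biprod.fst) ≫ S.arrow)
        ((lm ≫ biprod.snd) ≫ T.arrow - π₂ ≫ m) ≫ sq.shortComplex.g = 0 := by
      change biprod.lift _ _ ≫ biprod.desc g' f' = 0
      rw [biprod.lift_desc, Preadditive.sub_comp, Category.assoc π₂, ← e1]
      rw [e2']
      simp only [Category.assoc]
      abel
    obtain ⟨A₃, π₃, hπ₃, k, e3⟩ : ∃ (A₃ : A) (π₃ : A₃ ⟶ A₂) (_ : Epi π₃) (k : A₃ ⟶ K),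
        π₃ ≫ biprod.lift ((lm ≫ biprod.fst) ≫ S.arrow)
          ((lm ≫ biprod.snd) ≫ T.arrow - π₂ ≫ m) = k ≫ biprod.lift f (-g) :=
      sq.exact_shortComplex.exact_up_to_refinements _ hz
    have e3' : π₃ ≫ (lm ≫ biprod.fst) ≫ S.arrow = k ≫ f := by
      have := congrArg (fun t => t ≫ biprod.fst) e3
      simp only [Category.assoc, biprod.lift_fst] at this
      simp only [Category.assoc]
      exact this
    -- strictness of `f`
    have h4 : (imageSubobject (R.arrow ≫ f)).Factors (π₃ ≫ (lm ≫ biprod.fst) ≫ S.arrow) := by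
      rw [hS, Subobject.inf_factors]
      constructor
      · rw [e3']
        exact imageSubobject_factors_comp_self _ _
      · rw [← Category.assoc]
        exact Subobject.factors_comp_arrow _
    obtain ⟨A₄, π₄, hπ₄, k₁, e4⟩ := exists_refinement_of_image_factors _ _ h4
    -- `g` maps `R` into `T`
    have h5 : T.Factors (R.arrow ≫ g) :=
      (pullback_factors_iff g T R.arrow).1
        (Subobject.factors_of_le (Y := K) _ hR (Subobject.factors_self _))
    have e5 : T.factorThru _ h5 ≫ T.arrow = R.arrow ≫ g := Subobject.factorThru_arrow _ _ _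
    have : Epi (π₄ ≫ π₃ ≫ π₂ ≫ π₁) := epi_comp' hπ₄ (epi_comp' hπ₃ (epi_comp' hπ₂ hπ₁))
    apply image_factors_of_refinement (T.arrow ≫ f') x (π₄ ≫ π₃ ≫ π₂ ≫ π₁)
      (k₁ ≫ T.factorThru _ h5 + π₄ ≫ π₃ ≫ lm ≫ biprod.snd)
    have e6 : (π₄ ≫ π₃ ≫ π₂ ≫ π₁) ≫ x = π₄ ≫ π₃ ≫ (π₂ ≫ π₁ ≫ x) := by
      simp only [Category.assoc]
    rw [e6, e2', Preadditive.comp_add, Preadditive.comp_add, Preadditive.add_comp]
    congr 1
    · have : π₄ ≫ π₃ ≫ (lm ≫ biprod.fst) ≫ S.arrow ≫ g' =
          (π₄ ≫ π₃ ≫ (lm ≫ biprod.fst) ≫ S.arrow) ≫ g' := by simp only [Category.assoc]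
      rw [this, e4, Category.assoc, Category.assoc, sq.w, Category.assoc,
        ← Category.assoc (T.factorThru _ h5), e5, Category.assoc]
    · simp only [Category.assoc]

end Sub

section Po

variable {K L M : FilObj A} (f : K ⟶ L) (g : K ⟶ M)

/-- the map `F^p L ⊞ F^p M ⟶ L ⊔_K M` whose image is the `p`-th step of the pushout filtration -/
noncomputable def poMap (p : ℤ) : (L.fil p : A) ⊞ (M.fil p : A) ⟶ pushout f.hom g.hom :=
  biprod.desc ((L.fil p).arrow ≫ pushout.inl f.hom g.hom) ((M.fil p).arrow ≫ pushout.inr f.hom g.hom)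

/-- the pushout of filtered objects -/
noncomputable def poObj : FilObj A where
  obj := pushout f.hom g.hom
  fil p := imageSubobject (poMap f g p)
  anti := fun p q h => FilCx.imageSubobject_le_of_fac (biprod.map (L.stepLE h) (M.stepLE h)) (by
    apply biprod.hom_ext' <;> simp [poMap])

set_option backward.isDefEq.respectTransparency false in
theorem poObj_fil_factors_inl (p : ℤ) :
    ((poObj f g).fil p).Factors ((L.fil p).arrow ≫ pushout.inl f.hom g.hom) := by
  have : (L.fil p).arrow ≫ pushout.inl f.hom g.hom = biprod.inl ≫ poMap f g p := by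
    simp [poMap]
  rw [this]
  exact imageSubobject_factors_comp_self _ _

set_option backward.isDefEq.respectTransparency false in
theorem poObj_fil_factors_inr (p : ℤ) :
    ((poObj f g).fil p).Factors ((M.fil p).arrow ≫ pushout.inr f.hom g.hom) := by
  have : (M.fil p).arrow ≫ pushout.inr f.hom g.hom = biprod.inr ≫ poMap f g p := by
    simp [poMap]
  rw [this]
  exact imageSubobject_factors_comp_self _ _

/-- first injection -/
noncomputable def poInl : L ⟶ poObj f g :=
  ⟨pushout.inl f.hom g.hom, fun p => Subobject.le_of_factors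
    ((pullback_factors_iff _ _ _).2 (poObj_fil_factors_inl f g p))⟩

/-- second injection -/
noncomputable def poInr : M ⟶ poObj f g :=
  ⟨pushout.inr f.hom g.hom, fun p => Subobject.le_of_factors
    ((pullback_factors_iff _ _ _).2 (poObj_fil_factors_inr f g p))⟩

theorem po_condition : f ≫ poInl f g = g ≫ poInr f g := Hom.ext pushout.condition

theorem factors_of_compat {X Y : FilObj A} (a : X ⟶ Y) (p : ℤ) :
    (Y.fil p).Factors ((X.fil p).arrow ≫ a.hom) :=
  (pullback_factors_iff a.hom (Y.fil p) (X.fil p).arrow).1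
    (Subobject.factors_of_le (Y := X.obj) _ (a.compat p) (Subobject.factors_self _))

set_option backward.isDefEq.respectTransparency false in
/-- the descent -/
noncomputable def poDesc {T : FilObj A} (a : L ⟶ T) (b : M ⟶ T) (h : f ≫ a = g ≫ b) :
    poObj f g ⟶ T :=
  ⟨pushout.desc a.hom b.hom (congrArg Hom.hom h), fun p => by
    have hfac : ((Subobject.pullback (pushout.desc a.hom b.hom (congrArg Hom.hom h))).obj
        (T.fil p)).Factors (poMap f g p) := by
      rw [pullback_factors_iff]
      have : poMap f g p ≫ pushout.desc a.hom b.hom (congrArg Hom.hom h) =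
          biprod.desc ((L.fil p).arrow ≫ a.hom) ((M.fil p).arrow ≫ b.hom) := by
        apply biprod.hom_ext' <;> simp [poMap]
      rw [this]
      exact factors_biprod_desc _ _ _ (factors_of_compat a p) (factors_of_compat b p)
    exact imageSubobject_le _ (Subobject.factorThru _ _ hfac) (Subobject.factorThru_arrow _ _ _)⟩

theorem poInl_desc {T : FilObj A} (a : L ⟶ T) (b : M ⟶ T) (h : f ≫ a = g ≫ b) :
    poInl f g ≫ poDesc f g a b h = a := Hom.ext (pushout.inl_desc _ _ _)

theorem poInr_desc {T : FilObj A} (a : L ⟶ T) (b : M ⟶ T) (h : f ≫ a = g ≫ b) :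
    poInr f g ≫ poDesc f g a b h = b := Hom.ext (pushout.inr_desc _ _ _)

theorem po_hom_ext {T : FilObj A} {m m' : poObj f g ⟶ T} (h₁ : poInl f g ≫ m = poInl f g ≫ m')
    (h₂ : poInr f g ≫ m = poInr f g ≫ m') : m = m' :=
  Hom.ext (pushout.hom_ext (congrArg Hom.hom h₁) (congrArg Hom.hom h₂))

/-- the cocone is a colimit -/
noncomputable def poIsColimit :
    IsColimit (PushoutCocone.mk (poInl f g) (poInr f g) (po_condition f g)) :=
  PushoutCocone.IsColimit.mk _ (fun s => poDesc f g s.inl s.inr s.condition)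
    (fun _ => poInl_desc f g _ _ _) (fun _ => poInr_desc f g _ _ _)
    (fun _ _ h₁ h₂ => po_hom_ext f g (h₁.trans (poInl_desc f g _ _ _).symm)
      (h₂.trans (poInr_desc f g _ _ _).symm))

theorem hasPushout : HasPushout f g := HasColimit.mk ⟨_, poIsColimit f g⟩

theorem isPushout_po : IsPushout f g (poInl f g) (poInr f g) :=
  ⟨⟨po_condition f g⟩, ⟨poIsColimit f g⟩⟩

variable {f g}

set_option backward.isDefEq.respectTransparency false in
theorem isStrict_inr_of_isPushout {P : FilObj A} {g' : L ⟶ P} {f' : M ⟶ P}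
    (sq : IsPushout f g g' f') (hf : IsStrict f) : IsStrict f' := by
  -- comparison maps
  let u : poObj f g ⟶ P := poDesc f g g' f' sq.w
  let w : P ⟶ poObj f g := sq.desc (poInl f g) (poInr f g) (po_condition f g)
  have hu1 : poInl f g ≫ u = g' := poInl_desc f g _ _ _
  have hu2 : poInr f g ≫ u = f' := poInr_desc f g _ _ _
  have hw1 : g' ≫ w = poInl f g := sq.inl_desc _ _ _
  have hw2 : f' ≫ w = poInr f g := sq.inr_desc _ _ _
  have hwu : w ≫ u = 𝟙 P := by
    apply sq.hom_ext
    · rw [← Category.assoc, hw1, hu1, Category.comp_id]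
    · rw [← Category.assoc, hw2, hu2, Category.comp_id]
  have huw : u ≫ w = 𝟙 (poObj f g) := by
    apply po_hom_ext
    · rw [← Category.assoc, hu1, hw1, Category.comp_id]
    · rw [← Category.assoc, hu2, hw2, Category.comp_id]
  -- the underlying square is cocartesian
  have sqA : IsPushout f.hom g.hom g'.hom f'.hom := by
    refine IsPushout.of_iso_pushout ⟨congrArg Hom.hom sq.w⟩
      ⟨w.hom, u.hom, congrArg Hom.hom hwu, congrArg Hom.hom huw⟩ ?_ ?_
    · exact congrArg Hom.hom hw1
    · exact congrArg Hom.hom hw2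
  -- the filtration of `P`
  have hfil : ∀ p, P.fil p ≤ imageSubobject
      (biprod.desc ((L.fil p).arrow ≫ g'.hom) ((M.fil p).arrow ≫ f'.hom)) := by
    intro p
    apply Subobject.le_of_factors
    have h1 : ((poObj f g).fil p).Factors ((P.fil p).arrow ≫ w.hom) := factors_of_compat w p
    have e1 : (P.fil p).arrow = (((poObj f g).fil p).factorThru _ h1 ≫
        ((poObj f g).fil p).arrow) ≫ u.hom := by
      rw [Subobject.factorThru_arrow, Category.assoc]
      have : w.hom ≫ u.hom = 𝟙 P.obj := congrArg Hom.hom hwu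
      rw [this, Category.comp_id]
    have e2 : biprod.desc ((L.fil p).arrow ≫ g'.hom) ((M.fil p).arrow ≫ f'.hom) =
        poMap f g p ≫ u.hom := by
      have a1 : pushout.inl f.hom g.hom ≫ u.hom = g'.hom := congrArg Hom.hom hu1
      have a2 : pushout.inr f.hom g.hom ≫ u.hom = f'.hom := congrArg Hom.hom hu2
      apply biprod.hom_ext'
      · simp [poMap, a1]
      · simp [poMap, a2]
    rw [e1, e2, Category.assoc]
    exact Subobject.factors_of_factors_right _ (image_comp_factors _ _)
  intro p
  exact image_sup_eq sqA (K.fil p) (L.fil p) (M.fil p) (P.fil p) (g.compat p) (hf p) (f'.compat p)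
    (hfil p)

end Po

end Groth.Agent.Lib.Seat61.FilObj
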