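import Mathlib
import Groth.Agent.Lib.Helper5Tor1

/-!
# Graded freeness criterion over a polynomial ring

A finitely generated ℕ-graded module `M` over `S = k[x_i]` with `Tor₁(M, S/S₊) = 0`
(in the extension form `Tor1Vanish`) is free on homogeneous elements.
-/

set_option autoImplicit false
universe u

namespace Groth.Agent.Lib.Seat61.GradedFree

open MvPolynomial DirectSum TensorProduct Groth.Agent.Lib.Helper5

variable {k : Type u} [Field k] {σ : Type}
variable {M : Type u} [AddCommGroup M] [Module (MvPolynomial σ k) M]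
variable (ℳ : ℕ → AddSubgroup M)
  [SetLike.GradedSMul (MvPolynomial.homogeneousSubmodule σ k) ℳ] [DirectSum.Decomposition ℳ]

/-- The degree `d` component as an additive map `M →+ M`. -/
noncomputable def comp (d : ℕ) : M →+ M :=
  (ℳ d).subtype.comp ((DFinsupp.evalAddMonoidHom d).comp
    (DirectSum.decomposeAddEquiv ℳ).toAddMonoidHom)

omit [SetLike.GradedSMul (MvPolynomial.homogeneousSubmodule σ k) ℳ] in
theorem comp_apply (d : ℕ) (y : M) : comp ℳ d y = ((DirectSum.decompose ℳ y) d : M) := rfl

omit [SetLike.GradedSMul (MvPolynomial.homogeneousSubmodule σ k) ℳ] in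
theorem comp_of_mem_same {d : ℕ} {y : M} (hy : y ∈ ℳ d) : comp ℳ d y = y := by
  rw [comp_apply, DirectSum.decompose_of_mem_same ℳ hy]

omit [SetLike.GradedSMul (MvPolynomial.homogeneousSubmodule σ k) ℳ] in
theorem comp_of_mem_ne {d e : ℕ} {y : M} (hy : y ∈ ℳ e) (h : e ≠ d) : comp ℳ d y = 0 := by
  rw [comp_apply, DirectSum.decompose_of_mem_ne ℳ hy h]

theorem exists_comp_smul (f : MvPolynomial σ k) {e : ℕ} {t : M} (ht : t ∈ ℳ e) (d : ℕ) :
    ∃ g : MvPolynomial σ k, comp ℳ d (f • t) = g • t ∧ (d = e → g = C (constantCoeff f)) := by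
  classical
  let N := f.totalDegree
  refine ⟨∑ a ∈ (Finset.range (N + 1)).filter (fun a => a + e = d), homogeneousComponent a f, ?_, ?_⟩
  · have hf : f = ∑ a ∈ Finset.range (N + 1), homogeneousComponent a f :=
      (sum_homogeneousComponent f).symm
    conv_lhs => rw [hf, Finset.sum_smul, map_sum]
    rw [Finset.sum_smul, Finset.sum_filter]
    refine Finset.sum_congr rfl fun a _ => ?_
    have hmem : homogeneousComponent a f • t ∈ ℳ (a + e) :=
      SetLike.GradedSMul.smul_mem (homogeneousComponent_mem a f) ht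
    split_ifs with h
    · exact comp_of_mem_same ℳ (h ▸ hmem)
    · exact comp_of_mem_ne ℳ hmem h
  · intro hde
    subst hde
    have : (Finset.range (N + 1)).filter (fun a => a + d = d) = {0} := by
      ext a
      simp only [Finset.mem_filter, Finset.mem_range, Finset.mem_singleton]
      constructor
      · rintro ⟨_, h⟩; omega
      · rintro rfl; exact ⟨by omega, by omega⟩
    rw [this, Finset.sum_singleton, homogeneousComponent_zero]
    rfl


/-- The augmentation ideal. -/
noncomputable abbrev aug (k : Type u) [Field k] (σ : Type) : Ideal (MvPolynomial σ k) :=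
  RingHom.ker (MvPolynomial.constantCoeff : MvPolynomial σ k →+* k)

theorem aug_pow_le (d : ℕ) : aug k σ ^ d ≤ idealOfVars σ k ^ d := by
  apply Ideal.pow_right_mono
  intro p hp
  have h1 : p ∈ idealOfVars σ k ^ 1 := by
    rw [mem_pow_idealOfVars_iff']
    intro x hx
    have hx0 : x = 0 := by
      rw [← Finsupp.degree_eq_zero_iff]
      omega
    subst hx0
    exact hp
  simpa using h1

theorem eq_zero_of_forall_mem_aug_pow (p : MvPolynomial σ k) (h : ∀ d, p ∈ aug k σ ^ d) : p = 0 := by
  ext x
  have := (mem_pow_idealOfVars_iff' (x.degree + 1) p).1 (aug_pow_le _ (h _)) x (by omega)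
  simpa using this

omit [SetLike.GradedSMul (MvPolynomial.homogeneousSubmodule σ k) ℳ] in
/-- `M` is spanned by finitely many homogeneous elements. -/
theorem exists_homogeneous_span [Module.Finite (MvPolynomial σ k) M] :
    ∃ T : Finset M, (∀ t ∈ T, SetLike.IsHomogeneousElem ℳ t) ∧
      Submodule.span (MvPolynomial σ k) (T : Set M) = ⊤ := by
  classical
  obtain ⟨G, hG⟩ := (Module.Finite.fg_top : (⊤ : Submodule (MvPolynomial σ k) M).FG)
  refine ⟨G.biUnion fun g => ((DirectSum.decompose ℳ g).support).image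
    fun i => ((DirectSum.decompose ℳ g i : ℳ i) : M), ?_, ?_⟩
  · intro t ht
    simp only [Finset.mem_biUnion, Finset.mem_image] at ht
    obtain ⟨g, _, i, _, rfl⟩ := ht
    exact ⟨i, SetLike.coe_mem _⟩
  · rw [eq_top_iff, ← hG, Submodule.span_le]
    intro g hg
    rw [← DirectSum.sum_support_decompose ℳ g]
    refine Submodule.sum_mem _ fun i hi => Submodule.subset_span ?_
    simp only [Finset.coe_biUnion, Finset.coe_image, Set.mem_iUnion, Set.mem_image]
    exact ⟨g, hg, i, hi, rfl⟩


/-- Key step: in a spanning finset of homogeneous elements of minimal cardinality, every relation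
has all its coefficients in the augmentation ideal. -/
theorem coeff_mem_aug_of_minimal (T : Finset M) (hThom : ∀ t ∈ T, SetLike.IsHomogeneousElem ℳ t)
    (hTspan : Submodule.span (MvPolynomial σ k) (T : Set M) = ⊤)
    (hmin : ∀ T' : Finset M, (∀ t ∈ T', SetLike.IsHomogeneousElem ℳ t) →
      Submodule.span (MvPolynomial σ k) (T' : Set M) = ⊤ → T.card ≤ T'.card)
    (f : T → MvPolynomial σ k) (hf : ∑ t : T, f t • (t : M) = 0) (t₀ : T) :
    f t₀ ∈ aug k σ := by
  classical
  by_contra hc
  have hc' : constantCoeff (f t₀) ≠ 0 := hc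
  choose e he using fun t : T => hThom t.1 t.2
  choose g hg1 hg2 using fun t : T => exists_comp_smul ℳ (f t) (he t) (e t₀)
  have h0 : ∑ t : T, g t • (t : M) = 0 := by
    have := congrArg (comp ℳ (e t₀)) hf
    rw [map_sum, map_zero] at this
    rw [← this]
    exact Finset.sum_congr rfl fun t _ => (hg1 t).symm
  have hgt0 : g t₀ = C (constantCoeff (f t₀)) := hg2 t₀ rfl
  -- `t₀` lies in the span of the others
  have hmem : (t₀ : M) ∈ Submodule.span (MvPolynomial σ k) ((T.erase t₀.1 : Finset M) : Set M) := by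
    rw [← Finset.add_sum_erase Finset.univ _ (Finset.mem_univ t₀), hgt0] at h0
    have h1 : (C (constantCoeff (f t₀)) : MvPolynomial σ k) • (t₀ : M) ∈
        Submodule.span (MvPolynomial σ k) ((T.erase t₀.1 : Finset M) : Set M) := by
      rw [eq_neg_of_add_eq_zero_left h0]
      refine Submodule.neg_mem _ (Submodule.sum_mem _ fun t ht => Submodule.smul_mem _ _
        (Submodule.subset_span ?_))
      rw [Finset.mem_coe, Finset.mem_erase]
      refine ⟨fun h => ?_, t.2⟩
      exact (Finset.mem_erase.1 ht).1 (Subtype.ext h)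
    have h2 := Submodule.smul_mem _ (C (constantCoeff (f t₀))⁻¹ : MvPolynomial σ k) h1
    rwa [smul_smul, ← C_mul, inv_mul_cancel₀ hc', C_1, one_smul] at h2
  have hspan : Submodule.span (MvPolynomial σ k) ((T.erase t₀.1 : Finset M) : Set M) = ⊤ := by
    rw [eq_top_iff, ← hTspan, Submodule.span_le]
    intro t ht
    by_cases h : t = t₀.1
    · rw [h]; exact hmem
    · exact Submodule.subset_span (Finset.mem_coe.2 (Finset.mem_erase.2 ⟨h, ht⟩))
  have := hmin (T.erase t₀.1) (fun t ht => hThom t (Finset.mem_of_mem_erase ht)) hspan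
  rw [Finset.card_erase_of_mem t₀.2] at this
  have hpos : 0 < T.card := Finset.card_pos.2 ⟨t₀.1, t₀.2⟩
  omega


/-- `1 ⊗ x = 0` in `(S/I) ⊗ F` for `x ∈ I • ⊤`. -/
theorem one_tmul_eq_zero_of_mem_smul {R : Type*} [CommRing R] (I : Ideal R) {F : Type*}
    [AddCommGroup F] [Module R F] (x : F) (hx : x ∈ I • (⊤ : Submodule R F)) :
    (1 : R ⧸ I) ⊗ₜ[R] x = 0 := by
  refine Submodule.smul_induction_on hx ?_ ?_
  · intro r hr y _
    show (1 : R ⧸ I) ⊗ₜ[R] (r • y) = 0
    rw [← TensorProduct.smul_tmul, ← Algebra.algebraMap_eq_smul_one,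
      Ideal.Quotient.algebraMap_eq, Ideal.Quotient.eq_zero_iff_mem.2 hr, TensorProduct.zero_tmul]
  · intro x y hx hy
    rw [TensorProduct.tmul_add, hx, hy, add_zero]

theorem exists_homogeneous_basis [Module.Finite (MvPolynomial σ k) M]
    (htor : Tor1Vanish (MvPolynomial σ k) (MvPolynomial σ k ⧸ aug k σ) M) :
    ∃ (ι : Type u) (b : Module.Basis ι (MvPolynomial σ k) M),
      ∀ i, SetLike.IsHomogeneousElem ℳ (b i) := by
  classical
  let S := MvPolynomial σ k
  -- a spanning finset of homogeneous elements of minimal cardinality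
  let P : ℕ → Prop := fun r => ∃ T : Finset M, T.card = r ∧
    (∀ t ∈ T, SetLike.IsHomogeneousElem ℳ t) ∧ Submodule.span S (T : Set M) = ⊤
  have hP : ∃ r, P r := by
    obtain ⟨T, h1, h2⟩ := exists_homogeneous_span ℳ (σ := σ) (k := k)
    exact ⟨T.card, T, rfl, h1, h2⟩
  obtain ⟨T, hTcard, hThom, hTspan⟩ := Nat.find_spec hP
  have hmin : ∀ T' : Finset M, (∀ t ∈ T', SetLike.IsHomogeneousElem ℳ t) →
      Submodule.span S (T' : Set M) = ⊤ → T.card ≤ T'.card := fun T' h1 h2 =>
    hTcard ▸ Nat.find_min' hP ⟨T', rfl, h1, h2⟩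
  let φ : (T →₀ S) →ₗ[S] M := Finsupp.linearCombination S (fun t : T => (t : M))
  have hφsurj : Function.Surjective φ := by
    rw [← LinearMap.range_eq_top, Finsupp.range_linearCombination]
    convert hTspan
    ext x
    simp
  -- relations have coefficients in the augmentation ideal
  have hK : ∀ f ∈ LinearMap.ker φ, ∀ t : T, f t ∈ aug k σ := by
    intro f hf t
    refine coeff_mem_aug_of_minimal ℳ T hThom hTspan hmin (fun t => f t) ?_ t
    have : φ f = 0 := hf
    rw [Finsupp.linearCombination_apply, Finsupp.sum_fintype] at this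
    · exact this
    · intro i; exact zero_smul _ _
  let K := LinearMap.ker φ
  have hKsmul : ∀ f ∈ K, f ∈ aug k σ • (⊤ : Submodule S (T →₀ S)) := by
    intro f hf
    have : f = ∑ t : T, f t • Finsupp.single t (1 : S) := by
      ext t'
      simp [Finsupp.single_apply]
    rw [this]
    exact Submodule.sum_mem _ fun t _ => Submodule.smul_mem_smul (hK f hf t) trivial
  -- Tor vanishing gives `K = m K`
  have hinj := htor K (T →₀ S) K.subtype φ (Submodule.injective_subtype _) hφsurj
    (LinearMap.exact_subtype_ker_map φ)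
  have hKK : ∀ κ : K, κ ∈ aug k σ • (⊤ : Submodule S K) := by
    intro κ
    have h1 : (1 : S ⧸ aug k σ) ⊗ₜ[S] κ = 0 := by
      apply hinj
      rw [LinearMap.lTensor_tmul, map_zero]
      exact one_tmul_eq_zero_of_mem_smul _ _ (hKsmul _ κ.2)
    have h2 := congrArg (TensorProduct.quotTensorEquivQuotSMul K (aug k σ)) h1
    rw [TensorProduct.quotTensorEquivQuotSMul_mk_one_tmul, map_zero,
      Submodule.Quotient.mk_eq_zero] at h2
    exact h2
  -- hence `K ≤ m^d F` for all `d`
  have hpow : ∀ d : ℕ, ∀ κ : K, (κ : T →₀ S) ∈ aug k σ ^ d • (⊤ : Submodule S (T →₀ S)) := by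
    intro d
    induction d with
    | zero => intro κ; simp
    | succ d ih =>
      intro κ
      refine Submodule.smul_induction_on (p := fun κ : K =>
        (κ : T →₀ S) ∈ aug k σ ^ (d + 1) • (⊤ : Submodule S (T →₀ S))) (hKK κ) ?_ ?_
      · intro r hr y _
        rw [Submodule.coe_smul, pow_succ', Submodule.mul_smul]
        exact Submodule.smul_mem_smul hr (ih y)
      · intro x y hx hy
        rw [Submodule.coe_add]
        exact Submodule.add_mem _ hx hy
  have hcoord : ∀ (I : Ideal S) (f : T →₀ S), f ∈ I • (⊤ : Submodule S (T →₀ S)) →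
      ∀ t, f t ∈ I := by
    intro I f hf t
    refine Submodule.smul_induction_on (p := fun f : T →₀ S => f t ∈ I) hf ?_ ?_
    · intro r hr y _
      exact Ideal.mul_mem_right _ _ hr
    · intro x y hx hy
      exact Ideal.add_mem _ hx hy
  have hKbot : K = ⊥ := by
    rw [eq_bot_iff]
    intro f hf
    rw [Submodule.mem_bot]
    refine Finsupp.ext fun t => ?_
    exact eq_zero_of_forall_mem_aug_pow _ fun d => hcoord _ _ (hpow d ⟨f, hf⟩) t
  have hφinj : Function.Injective φ := LinearMap.ker_eq_bot.1 hKbot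
  let eqv : (T →₀ S) ≃ₗ[S] M := LinearEquiv.ofBijective φ ⟨hφinj, hφsurj⟩
  refine ⟨T, Module.Basis.ofRepr eqv.symm, fun t => ?_⟩
  have : (Module.Basis.ofRepr eqv.symm) t = (t : M) := by
    rw [Module.Basis.coe_ofRepr]
    show φ (Finsupp.single t 1) = _
    simp [φ]
  rw [this]
  exact hThom t.1 t.2

end Groth.Agent.Lib.Seat61.GradedFree
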