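import Mathlib.AlgebraicGeometry.Cover.Open
import Mathlib.AlgebraicGeometry.Gluing
import Mathlib.AlgebraicGeometry.OpenImmersion
import Mathlib.AlgebraicGeometry.AffineScheme
import Mathlib.RingTheory.Localization.Away.Basic
import Mathlib.RingTheory.Spectrum.Prime.Topology

/-!
# An affine quotient is a categorical quotient (abstract gluing part) (helper61)

Abstract setting: ring maps `f : C → B`, `ρ ι : B → E` such that `f` is injective, surjective on
spectra, and `f(C)` is the equaliser of `ρ` and `ι`.  If an invariant morphism `ψ : Spec B ⟶ Z`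
sends the members `D(f c)` of a cover by "invariant" basic opens into affine opens of `Z`, then it
descends uniquely to `Spec C`.
-/

set_option autoImplicit false
universe u

namespace Groth.Agent.Lib.Seat61.HopfQuot

open CategoryTheory CategoryTheory.Limits AlgebraicGeometry

section Away

variable {R P : Type u} [CommRing R] [CommRing P]

/-- The map `R_r → P_s` induced by `g : R → P` when `g r` becomes invertible in `P_s`. -/
noncomputable def awayHom (g : R →+* P) (r : R) (s : P)
    (h : IsUnit (algebraMap P (Localization.Away s) (g r))) :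
    Localization.Away r →+* Localization.Away s :=
  IsLocalization.Away.lift r (g := (algebraMap P (Localization.Away s)).comp g) h

theorem awayHom_comp (g : R →+* P) (r : R) (s : P)
    (h : IsUnit (algebraMap P (Localization.Away s) (g r))) :
    (awayHom g r s h).comp (algebraMap R (Localization.Away r)) =
      (algebraMap P (Localization.Away s)).comp g :=
  IsLocalization.Away.lift_comp r h

theorem awayHom_algebraMap (g : R →+* P) (r : R) (s : P)
    (h : IsUnit (algebraMap P (Localization.Away s) (g r))) (a : R) :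
    awayHom g r s h (algebraMap R (Localization.Away r) a) =
      algebraMap P (Localization.Away s) (g a) :=
  IsLocalization.Away.lift_eq r h a

end Away

section Setup

variable {C B E : Type u} [CommRing C] [CommRing B] [CommRing E]

/-- The abstract quotient data. -/
structure QuotData (f : C →+* B) (ρ ι : B →+* E) : Prop where
  eq : ∀ c, ρ (f c) = ι (f c)
  inv : ∀ b, ρ b = ι b → ∃ c, f c = b
  inj : Function.Injective f
  surj : Function.Surjective (PrimeSpectrum.comap f)

variable (f : C →+* B) (ρ ι : B →+* E)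

/-- `C_c → B_{f c}`. -/
noncomputable def fA (c : C) : Localization.Away c →+* Localization.Away (f c) :=
  awayHom f c (f c) (IsLocalization.Away.algebraMap_isUnit (f c))

/-- `B_{f c} → E_{ι (f c)}` induced by `ι`. -/
noncomputable def ιA (c : C) : Localization.Away (f c) →+* Localization.Away (ι (f c)) :=
  awayHom ι (f c) (ι (f c)) (IsLocalization.Away.algebraMap_isUnit (ι (f c)))

/-- `B_{f c} → E_{ι (f c)}` induced by `ρ`. -/
noncomputable def ρA (c : C) (h : ρ (f c) = ι (f c)) :
    Localization.Away (f c) →+* Localization.Away (ι (f c)) :=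
  awayHom ρ (f c) (ι (f c)) (by rw [h]; exact IsLocalization.Away.algebraMap_isUnit (ι (f c)))

variable {f ρ ι}

theorem fA_injective (H : QuotData f ρ ι) (c : C) : Function.Injective (fA f c) := by
  rw [injective_iff_map_eq_zero]
  intro y hy
  obtain ⟨n, a, ha⟩ := IsLocalization.Away.surj c y
  have h1 := congrArg (fA f c) ha
  rw [map_mul, hy, zero_mul, fA, awayHom_algebraMap] at h1
  have h2 : algebraMap B (Localization.Away (f c)) (f a) =
      algebraMap B (Localization.Away (f c)) 0 := by rw [← h1, map_zero]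
  obtain ⟨m, hm⟩ := IsLocalization.Away.exists_of_eq (f c) h2
  rw [mul_zero, ← map_pow, ← map_mul] at hm
  have h3 : c ^ m * a = 0 := H.inj (hm.trans (map_zero f).symm)
  have h4 : algebraMap C (Localization.Away c) c ^ m * algebraMap C (Localization.Away c) a = 0 := by
    rw [← map_pow, ← map_mul, h3, map_zero]
  have h5 : algebraMap C (Localization.Away c) a = 0 :=
    (IsLocalization.Away.algebraMap_pow_isUnit c m).mul_right_eq_zero.mp h4
  rw [h5] at ha
  exact (IsLocalization.Away.algebraMap_pow_isUnit c n).mul_left_eq_zero.mp ha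

theorem mem_range_fA (H : QuotData f ρ ι) (c : C) (x : Localization.Away (f c))
    (hx : ρA f ρ ι c (H.eq c) x = ιA f ι c x) : ∃ y, fA f c y = x := by
  obtain ⟨n, b, hb⟩ := IsLocalization.Away.surj (f c) x
  have h1 := congrArg (ρA f ρ ι c (H.eq c)) hb
  have h2 := congrArg (ιA f ι c) hb
  rw [map_mul, map_pow, ρA, awayHom_algebraMap, awayHom_algebraMap] at h1
  rw [map_mul, map_pow, ιA, awayHom_algebraMap, awayHom_algebraMap] at h2
  have hx' : awayHom ρ (f c) (ι (f c)) _ x = awayHom ι (f c) (ι (f c)) _ x := hx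
  rw [hx', H.eq c, h2] at h1
  obtain ⟨m, hm⟩ := IsLocalization.Away.exists_of_eq (ι (f c)) h1
  have h3 : ρ (f c ^ m * b) = ι (f c ^ m * b) := by
    rw [map_mul, map_mul, map_pow, map_pow, H.eq c, hm]
  obtain ⟨y₀, hy₀⟩ := H.inv _ h3
  set y := IsLocalization.mk' (Localization.Away c) y₀
    (⟨c ^ (m + n), m + n, rfl⟩ : Submonoid.powers c) with hy
  have hy' : y * algebraMap C (Localization.Away c) (c ^ (m + n)) =
      algebraMap C (Localization.Away c) y₀ := IsLocalization.mk'_spec _ _ _
  have hu : IsUnit (algebraMap B (Localization.Away (f c)) (f c) ^ (m + n)) :=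
    IsLocalization.Away.algebraMap_pow_isUnit (f c) (m + n)
  refine ⟨y, ?_⟩
  apply hu.mul_left_inj.mp
  have h4 := congrArg (fA f c) hy'
  rw [map_mul, fA, awayHom_algebraMap, awayHom_algebraMap, map_pow, map_pow, hy₀] at h4
  rw [fA, h4, pow_add, map_mul, map_pow, ← hb]
  ring

theorem comap_fA_surjective (H : QuotData f ρ ι) (c : C) :
    Function.Surjective (PrimeSpectrum.comap (fA f c)) := by
  intro q
  obtain ⟨p₀, hp₀⟩ := H.surj (PrimeSpectrum.comap (algebraMap C (Localization.Away c)) q)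
  have hc : f c ∉ p₀.asIdeal := by
    intro h
    have h' : c ∈ (PrimeSpectrum.comap f p₀).asIdeal := h
    rw [hp₀] at h'
    have h'' : algebraMap C (Localization.Away c) c ∈ q.asIdeal := h'
    exact q.2.ne_top (Ideal.eq_top_of_isUnit_mem _ h'' (IsLocalization.Away.algebraMap_isUnit c))
  have hr : p₀ ∈ Set.range (PrimeSpectrum.comap (algebraMap B (Localization.Away (f c)))) := by
    rw [PrimeSpectrum.localization_away_comap_range (Localization.Away (f c)) (f c)]
    exact hc
  obtain ⟨p, rfl⟩ := hr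
  refine ⟨p, ?_⟩
  apply PrimeSpectrum.localization_comap_injective (Localization.Away c) (Submonoid.powers c)
  rw [← hp₀, ← PrimeSpectrum.comap_comp_apply, ← PrimeSpectrum.comap_comp_apply, fA, awayHom_comp]

end Setup

section Local

variable {C B E : Type u} [CommRing C] [CommRing B] [CommRing E]
variable (f : C →+* B) {ρ ι : B →+* E}
variable {Z : Scheme.{u}} (ψ : Spec (CommRingCat.of B) ⟶ Z)

/-- The restriction of `ψ` to `D(f c)`. -/
noncomputable def ψA (c : C) : Spec (CommRingCat.of (Localization.Away (f c))) ⟶ Z :=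
  Spec.map (CommRingCat.ofHom (algebraMap B (Localization.Away (f c)))) ≫ ψ

/-- `c` is good if `ψ` sends `D(f c)` into an affine open of `Z`. -/
def IsGood (c : C) : Prop :=
  ∃ (R : CommRingCat.{u}) (j : Spec R ⟶ Z), IsOpenImmersion j ∧
    ∀ p : Spec (CommRingCat.of B), f c ∉ p.asIdeal → ψ p ∈ Set.range j

theorem range_ψA_subset {c : C} {R : CommRingCat.{u}} (j : Spec R ⟶ Z)
    (hcj : ∀ p : Spec (CommRingCat.of B), f c ∉ p.asIdeal → ψ p ∈ Set.range j) :
    Set.range (ψA f ψ c) ⊆ Set.range j := by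
  rintro _ ⟨p, rfl⟩
  have hp : f c ∉ ((Spec.map (CommRingCat.ofHom
      (algebraMap B (Localization.Away (f c))))) p).asIdeal := by
    intro h
    exact p.2.ne_top (Ideal.eq_top_of_isUnit_mem _ h
      (IsLocalization.Away.algebraMap_isUnit (f c)))
  exact hcj _ hp

theorem sq_f (c : C) :
    Spec.map (CommRingCat.ofHom (fA f c)) ≫
      Spec.map (CommRingCat.ofHom (algebraMap C (Localization.Away c))) =
    Spec.map (CommRingCat.ofHom (algebraMap B (Localization.Away (f c)))) ≫
      Spec.map (CommRingCat.ofHom f) := by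
  rw [← Spec.map_comp, ← Spec.map_comp, ← CommRingCat.ofHom_comp, ← CommRingCat.ofHom_comp, fA,
    awayHom_comp]

theorem sq_ι (c : C) :
    Spec.map (CommRingCat.ofHom (ιA f ι c)) ≫
      Spec.map (CommRingCat.ofHom (algebraMap B (Localization.Away (f c)))) =
    Spec.map (CommRingCat.ofHom (algebraMap E (Localization.Away (ι (f c))))) ≫
      Spec.map (CommRingCat.ofHom ι) := by
  rw [← Spec.map_comp, ← Spec.map_comp, ← CommRingCat.ofHom_comp, ← CommRingCat.ofHom_comp, ιA,
    awayHom_comp]

theorem sq_ρ (c : C) (h : ρ (f c) = ι (f c)) :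
    Spec.map (CommRingCat.ofHom (ρA f ρ ι c h)) ≫
      Spec.map (CommRingCat.ofHom (algebraMap B (Localization.Away (f c)))) =
    Spec.map (CommRingCat.ofHom (algebraMap E (Localization.Away (ι (f c))))) ≫
      Spec.map (CommRingCat.ofHom ρ) := by
  rw [← Spec.map_comp, ← Spec.map_comp, ← CommRingCat.ofHom_comp, ← CommRingCat.ofHom_comp, ρA,
    awayHom_comp]

variable {f}

theorem existsUnique_local (H : QuotData f ρ ι)
    (hψ : Spec.map (CommRingCat.ofHom ρ) ≫ ψ = Spec.map (CommRingCat.ofHom ι) ≫ ψ)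
    (c : C) (hc : IsGood f ψ c) :
    ∃! χ : Spec (CommRingCat.of (Localization.Away c)) ⟶ Z,
      Spec.map (CommRingCat.ofHom (fA f c)) ≫ χ = ψA f ψ c := by
  obtain ⟨R, j, hj, hcj⟩ := hc
  have hrange := range_ψA_subset f ψ j hcj
  have hfac : IsOpenImmersion.lift j (ψA f ψ c) hrange ≫ j = ψA f ψ c :=
    IsOpenImmersion.lift_fac _ _ _
  obtain ⟨φ, hφ⟩ : ∃ φ : R ⟶ CommRingCat.of (Localization.Away (f c)),
      Spec.map φ = IsOpenImmersion.lift j (ψA f ψ c) hrange :=
    ⟨Spec.preimage _, Spec.map_preimage _⟩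
  rw [← hφ] at hfac
  have hinv : φ ≫ CommRingCat.ofHom (ρA f ρ ι c (H.eq c)) =
      φ ≫ CommRingCat.ofHom (ιA f ι c) := by
    apply Spec.map_injective
    rw [Spec.map_comp, Spec.map_comp, ← cancel_mono j, Category.assoc, Category.assoc, hfac, ψA,
      ← Category.assoc, ← Category.assoc, sq_ρ, sq_ι, Category.assoc, Category.assoc, hψ]
  have hmem : ∀ r : R, φ.hom r ∈ (fA f c).range := by
    intro r
    have h1 : ρA f ρ ι c (H.eq c) (φ.hom r) = ιA f ι c (φ.hom r) :=
      congrArg (fun g => g.hom r) hinv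
    exact mem_range_fA H c (φ.hom r) h1
  let e : Localization.Away c ≃+* (fA f c).range :=
    RingEquiv.ofBijective (fA f c).rangeRestrict
      ⟨fun a b hab => fA_injective H c (congrArg Subtype.val hab),
        (fA f c).rangeRestrict_surjective⟩
  let φ' : R →+* Localization.Away c :=
    e.symm.toRingHom.comp (φ.hom.codRestrict (fA f c).range hmem)
  have hφ' : ∀ r : R, fA f c (φ' r) = φ.hom r := by
    intro r
    have h1 : e (φ' r) = φ.hom.codRestrict (fA f c).range hmem r := e.apply_symm_apply _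
    exact congrArg Subtype.val h1
  have hφ'' : CommRingCat.ofHom φ' ≫ CommRingCat.ofHom (fA f c) = φ := by
    ext r
    exact hφ' r
  refine ⟨Spec.map (CommRingCat.ofHom φ') ≫ j, ?_, ?_⟩
  · change Spec.map (CommRingCat.ofHom (fA f c)) ≫ Spec.map (CommRingCat.ofHom φ') ≫ j = _
    rw [← Category.assoc, ← Spec.map_comp, hφ'', hfac]
  · intro χ' hχ'
    change Spec.map (CommRingCat.ofHom (fA f c)) ≫ χ' = _ at hχ'
    have hr' : Set.range χ' ⊆ Set.range j := by
      rintro _ ⟨q, rfl⟩
      obtain ⟨p, hp⟩ := comap_fA_surjective H c q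
      have h1 : (Spec.map (CommRingCat.ofHom (fA f c))) p = q := hp
      have h2 : χ' q = ψA f ψ c p := by
        rw [← hχ', ← h1]
        rfl
      rw [h2]
      exact hrange ⟨p, rfl⟩
    have hfac' : IsOpenImmersion.lift j χ' hr' ≫ j = χ' := IsOpenImmersion.lift_fac _ _ _
    obtain ⟨φ₂, hφ₂⟩ : ∃ φ₂ : R ⟶ CommRingCat.of (Localization.Away c),
        Spec.map φ₂ = IsOpenImmersion.lift j χ' hr' :=
      ⟨Spec.preimage _, Spec.map_preimage _⟩
    rw [← hφ₂] at hfac'
    have h3 : φ₂ ≫ CommRingCat.ofHom (fA f c) = φ := by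
      apply Spec.map_injective
      rw [Spec.map_comp, ← cancel_mono j, Category.assoc, hfac', hχ', hfac]
    have h4 : φ₂ = CommRingCat.ofHom φ' := by
      ext r
      apply fA_injective H c
      have h5 : fA f c (φ₂.hom r) = φ.hom r := congrArg (fun g => g.hom r) h3
      rw [h5]
      exact (hφ' r).symm
    rw [← hfac', h4]

end Local

section Glue

variable {C B E : Type u} [CommRing C] [CommRing B] [CommRing E]
variable {f : C →+* B} {ρ ι : B →+* E}
variable {Z : Scheme.{u}} (ψ : Spec (CommRingCat.of B) ⟶ Z)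

theorem range_SpecMap_away {R : Type u} [CommRing R] (r : R) :
    Set.range (Spec.map (CommRingCat.ofHom (algebraMap R (Localization.Away r)))) =
      {p : Spec (CommRingCat.of R) | r ∉ p.asIdeal} := by
  have h := PrimeSpectrum.localization_away_comap_range (Localization.Away r) r
  ext p
  have h' := congrArg (fun S : Set (PrimeSpectrum R) => p ∈ S) h
  exact (eq_iff_iff.mp h')

variable (f) in
theorem isGood_of_dvd {c c' : C} (hcc' : c ∣ c') (hc : IsGood f ψ c) : IsGood f ψ c' := by
  obtain ⟨R, j, hj, hcj⟩ := hc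
  refine ⟨R, j, hj, fun p hp => hcj p fun h => hp ?_⟩
  obtain ⟨d, rfl⟩ := hcc'
  rw [map_mul]
  exact Ideal.mul_mem_right _ _ h

theorem restrict_eq {c c' : C} (hcc' : c ∣ c')
    (t : Spec (CommRingCat.of (Localization.Away c')) ⟶ Spec (CommRingCat.of (Localization.Away c)))
    (ht : t ≫ Spec.map (CommRingCat.ofHom (algebraMap C (Localization.Away c))) =
      Spec.map (CommRingCat.ofHom (algebraMap C (Localization.Away c'))))
    (χ : Spec (CommRingCat.of (Localization.Away c)) ⟶ Z)
    (hχ : Spec.map (CommRingCat.ofHom (fA f c)) ≫ χ = ψA f ψ c) :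
    Spec.map (CommRingCat.ofHom (fA f c')) ≫ t ≫ χ = ψA f ψ c' := by
  have hrange : Set.range (Spec.map (CommRingCat.ofHom (algebraMap B (Localization.Away (f c'))))) ⊆
      Set.range (Spec.map (CommRingCat.ofHom (algebraMap B (Localization.Away (f c))))) := by
    rw [range_SpecMap_away, range_SpecMap_away]
    intro p hp h
    apply hp
    obtain ⟨d, rfl⟩ := hcc'
    rw [map_mul]
    exact Ideal.mul_mem_right _ _ h
  have hfac := IsOpenImmersion.lift_fac
    (Spec.map (CommRingCat.ofHom (algebraMap B (Localization.Away (f c)))))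
    (Spec.map (CommRingCat.ofHom (algebraMap B (Localization.Away (f c'))))) hrange
  set t' := IsOpenImmersion.lift
    (Spec.map (CommRingCat.ofHom (algebraMap B (Localization.Away (f c)))))
    (Spec.map (CommRingCat.ofHom (algebraMap B (Localization.Away (f c'))))) hrange
  have hsq : Spec.map (CommRingCat.ofHom (fA f c')) ≫ t = t' ≫ Spec.map (CommRingCat.ofHom (fA f c)) := by
    rw [← cancel_mono (Spec.map (CommRingCat.ofHom (algebraMap C (Localization.Away c)))),
      Category.assoc, Category.assoc, ht, sq_f, sq_f, ← Category.assoc, hfac]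
  rw [← Category.assoc, hsq, Category.assoc, hχ, ψA, ← Category.assoc, hfac, ψA]

/-- Generic overlap lemma: to check compatibility on the pullback of two open immersions it
suffices to check it on any open immersion onto the intersection of their ranges. -/
theorem pullback_compat {Y Z U₁ U₂ U₃ : Scheme.{u}} (g₁ : U₁ ⟶ Y) (g₂ : U₂ ⟶ Y) (g₃ : U₃ ⟶ Y)
    [IsOpenImmersion g₁] [IsOpenImmersion g₂] [IsOpenImmersion g₃]
    (hrange : Set.range g₃ = Set.range g₁ ∩ Set.range g₂)
    (χ₁ : U₁ ⟶ Z) (χ₂ : U₂ ⟶ Z)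
    (h : ∀ (t₁ : U₃ ⟶ U₁) (t₂ : U₃ ⟶ U₂), t₁ ≫ g₁ = g₃ → t₂ ≫ g₂ = g₃ → t₁ ≫ χ₁ = t₂ ≫ χ₂) :
    pullback.fst g₁ g₂ ≫ χ₁ = pullback.snd g₁ g₂ ≫ χ₂ := by
  have hrange' : Set.range g₃ = Set.range (pullback.fst g₁ g₂ ≫ g₁) := by
    rw [IsOpenImmersion.range_pullback_to_base_of_left, hrange]
  let e := IsOpenImmersion.isoOfRangeEq g₃ (pullback.fst g₁ g₂ ≫ g₁) hrange'
  have he : e.hom ≫ pullback.fst g₁ g₂ ≫ g₁ = g₃ :=
    IsOpenImmersion.isoOfRangeEq_hom_fac _ _ hrange'
  have h3 := h (e.hom ≫ pullback.fst g₁ g₂) (e.hom ≫ pullback.snd g₁ g₂)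
    (by rw [Category.assoc, he]) (by rw [Category.assoc, ← pullback.condition, he])
  rw [Category.assoc, Category.assoc] at h3
  exact (cancel_epi e.hom).mp h3

theorem overlap_eq (H : QuotData f ρ ι)
    (hψ : Spec.map (CommRingCat.ofHom ρ) ≫ ψ = Spec.map (CommRingCat.ofHom ι) ≫ ψ)
    {c₁ c₂ : C} (h₁ : IsGood f ψ c₁)
    (χ₁ : Spec (CommRingCat.of (Localization.Away c₁)) ⟶ Z)
    (hχ₁ : Spec.map (CommRingCat.ofHom (fA f c₁)) ≫ χ₁ = ψA f ψ c₁)
    (χ₂ : Spec (CommRingCat.of (Localization.Away c₂)) ⟶ Z)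
    (hχ₂ : Spec.map (CommRingCat.ofHom (fA f c₂)) ≫ χ₂ = ψA f ψ c₂)
    (t₁ : Spec (CommRingCat.of (Localization.Away (c₁ * c₂))) ⟶
      Spec (CommRingCat.of (Localization.Away c₁)))
    (t₂ : Spec (CommRingCat.of (Localization.Away (c₁ * c₂))) ⟶
      Spec (CommRingCat.of (Localization.Away c₂)))
    (ht₁ : t₁ ≫ Spec.map (CommRingCat.ofHom (algebraMap C (Localization.Away c₁))) =
      Spec.map (CommRingCat.ofHom (algebraMap C (Localization.Away (c₁ * c₂)))))
    (ht₂ : t₂ ≫ Spec.map (CommRingCat.ofHom (algebraMap C (Localization.Away c₂))) =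
      Spec.map (CommRingCat.ofHom (algebraMap C (Localization.Away (c₁ * c₂))))) :
    t₁ ≫ χ₁ = t₂ ≫ χ₂ := by
  have hgood : IsGood f ψ (c₁ * c₂) := isGood_of_dvd f ψ (Dvd.intro _ rfl) h₁
  have h1 := restrict_eq ψ (Dvd.intro _ rfl : c₁ ∣ c₁ * c₂) t₁ ht₁ χ₁ hχ₁
  have h2 := restrict_eq ψ (Dvd.intro_left _ rfl : c₂ ∣ c₁ * c₂) t₂ ht₂ χ₂ hχ₂
  exact (existsUnique_local ψ H hψ (c₁ * c₂) hgood).unique h1 h2

theorem range_away_mul {R : Type u} [CommRing R] (r₁ r₂ : R) :
    Set.range (Spec.map (CommRingCat.ofHom (algebraMap R (Localization.Away (r₁ * r₂))))) =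
      Set.range (Spec.map (CommRingCat.ofHom (algebraMap R (Localization.Away r₁)))) ∩
      Set.range (Spec.map (CommRingCat.ofHom (algebraMap R (Localization.Away r₂)))) := by
  rw [range_SpecMap_away, range_SpecMap_away, range_SpecMap_away]
  ext p
  simp only [Set.mem_ofPred_eq, Set.mem_inter_iff]
  rw [p.2.mul_mem_iff_mem_or_mem, not_or]

theorem existsUnique_desc (H : QuotData f ρ ι)
    (hψ : Spec.map (CommRingCat.ofHom ρ) ≫ ψ = Spec.map (CommRingCat.ofHom ι) ≫ ψ)
    (hspan : Ideal.span {c : C | IsGood f ψ c} = ⊤) :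
    ∃! χ : Spec (CommRingCat.of C) ⟶ Z, Spec.map (CommRingCat.ofHom f) ≫ χ = ψ := by
  classical
  let s : {c : C // IsGood f ψ c} → (CommRingCat.of C) := fun i => i.1
  have hs : Ideal.span (Set.range s) = ⊤ := by
    have : Set.range s = {c : C | IsGood f ψ c} := Subtype.range_coe
    rw [this]
    exact hspan
  let s' : {c : C // IsGood f ψ c} → (CommRingCat.of B) := fun i => f i.1
  have hs' : Ideal.span (Set.range s') = ⊤ := by
    have h1 : Set.range s' = f '' (Set.range s) := by
      rw [← Set.range_comp]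
      rfl
    rw [h1, ← Ideal.map_span, hs, Ideal.map_top]
  have hloc := fun i : {c : C // IsGood f ψ c} => existsUnique_local ψ H hψ i.1 i.2
  have hex : ∀ i : {c : C // IsGood f ψ c},
      ∃ χ : Spec (CommRingCat.of (Localization.Away i.1)) ⟶ Z,
        Spec.map (CommRingCat.ofHom (fA f i.1)) ≫ χ = ψA f ψ i.1 := fun i => (hloc i).exists
  choose χi hχi using hex
  have hcompat : ∀ i l : {c : C // IsGood f ψ c},
      pullback.fst (Spec.map (CommRingCat.ofHom (algebraMap C (Localization.Away i.1))))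
        (Spec.map (CommRingCat.ofHom (algebraMap C (Localization.Away l.1)))) ≫ χi i =
      pullback.snd (Spec.map (CommRingCat.ofHom (algebraMap C (Localization.Away i.1))))
        (Spec.map (CommRingCat.ofHom (algebraMap C (Localization.Away l.1)))) ≫ χi l := by
    intro i l
    exact pullback_compat _ _
      (Spec.map (CommRingCat.ofHom (algebraMap C (Localization.Away (i.1 * l.1)))))
      (range_away_mul i.1 l.1) _ _
      (fun t₁ t₂ ht₁ ht₂ => overlap_eq ψ H hψ i.2 (χi i) (hχi i) (χi l) (hχi l) t₁ t₂ ht₁ ht₂)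
  let 𝒰 := (Scheme.affineOpenCoverOfSpanRangeEqTop s hs).openCover
  let 𝒱 := (Scheme.affineOpenCoverOfSpanRangeEqTop s' hs').openCover
  have hf : ∀ i l : 𝒰.I₀, pullback.fst (𝒰.f i) (𝒰.f l) ≫ χi i =
      pullback.snd (𝒰.f i) (𝒰.f l) ≫ χi l := fun i l => hcompat i l
  have hglue : ∀ i : {c : C // IsGood f ψ c},
      Spec.map (CommRingCat.ofHom (algebraMap C (Localization.Away i.1))) ≫
        𝒰.glueMorphisms χi hf = χi i := fun i => 𝒰.ι_glueMorphisms χi hf i
  refine ⟨𝒰.glueMorphisms χi hf, ?_, ?_⟩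
  · have key : ∀ i : {c : C // IsGood f ψ c},
        Spec.map (CommRingCat.ofHom (algebraMap B (Localization.Away (f i.1)))) ≫
          Spec.map (CommRingCat.ofHom f) ≫ 𝒰.glueMorphisms χi hf =
        Spec.map (CommRingCat.ofHom (algebraMap B (Localization.Away (f i.1)))) ≫ ψ := by
      intro i
      rw [← Category.assoc, ← sq_f, Category.assoc, hglue, hχi, ψA]
    exact 𝒱.hom_ext _ _ fun i => key i
  · intro χ' hχ'
    change Spec.map (CommRingCat.ofHom f) ≫ χ' = ψ at hχ'
    have key : ∀ i : {c : C // IsGood f ψ c},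
        Spec.map (CommRingCat.ofHom (algebraMap C (Localization.Away i.1))) ≫ χ' =
        Spec.map (CommRingCat.ofHom (algebraMap C (Localization.Away i.1))) ≫
          𝒰.glueMorphisms χi hf := by
      intro i
      rw [hglue]
      refine (hloc i).unique ?_ (hχi i)
      rw [← Category.assoc, sq_f, Category.assoc, hχ', ψA]
    exact 𝒰.hom_ext _ _ fun i => key i

end Glue

end Groth.Agent.Lib.Seat61.HopfQuot
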