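import Groth.Agent.Lib.Seat61HopfQuot
import Groth.Agent.Lib.Helper25Tame
import Groth.Agent.S12922
import Mathlib.LinearAlgebra.TensorProduct.RightExactness
import Mathlib.RingTheory.Ideal.Maps

/-!
# Affine quotients by a Hopf algebra with a total integral are categorical quotients (helper61)

The Hopf-specific input for `Seat61HopfQuot.existsUnique_desc`: the invariant elements `c` of `B`
such that an invariant morphism `ψ` sends `D(c)` into an affine open generate the unit ideal of the
ring of invariants.  (Reynolds operator applied to a partition of unity subordinate to the saturated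
ideals `ρ⁻¹(I·(B ⊗ A))`.)
-/

set_option autoImplicit false
universe u

namespace Groth.Agent.Lib.Seat61.HopfQuot

open CategoryTheory AlgebraicGeometry HopfRep
open Groth.Agent.Lib.Helper25

section Comm

variable {B E : Type u} [CommRing B] [CommRing E]

/-- For a closed subset `W = V(I)` of `Spec B` which is invariant (the two pullbacks to `Spec E`
of a point agree on membership in `W`), the zero locus of `ρ⁻¹(I E)` is contained in `W`. -/
theorem zeroLocus_comap_map_subset (ρ ι : B →+* E) (W : Set (PrimeSpectrum B)) (hW : IsClosed W)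
    (hinv : ∀ P : PrimeSpectrum E, PrimeSpectrum.comap ι P ∈ W → PrimeSpectrum.comap ρ P ∈ W) :
    PrimeSpectrum.zeroLocus ((((PrimeSpectrum.vanishingIdeal W).map ι).comap ρ : Ideal B) : Set B)
      ⊆ W := by
  intro p hp
  rw [PrimeSpectrum.mem_zeroLocus, SetLike.coe_subset_coe] at hp
  obtain ⟨Q, hIQ, hQ, hQp⟩ :=
    Ideal.exists_ideal_comap_le_prime p.asIdeal ((PrimeSpectrum.vanishingIdeal W).map ι) hp
  have hW' : ∀ q : PrimeSpectrum B, q ∈ W ↔ PrimeSpectrum.vanishingIdeal W ≤ q.asIdeal := by
    intro q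
    rw [← SetLike.coe_subset_coe, ← PrimeSpectrum.mem_zeroLocus,
      PrimeSpectrum.zeroLocus_vanishingIdeal_eq_closure, hW.closure_eq]
  have h1 : PrimeSpectrum.comap ι ⟨Q, hQ⟩ ∈ W :=
    (hW' _).mpr (Ideal.map_le_iff_le_comap.mp hIQ)
  have h2 := hinv _ h1
  exact (hW' p).mpr (le_trans ((hW' _).mp h2) hQp)

end Comm

section Tame

variable (k : Type u) [CommRing k] (A : Type u) [CommRing A] [HopfAlgebra k A]
variable (B : Type u) [CommRing B] [Algebra k B] [HopfRep.Comod k A B] [GLin.IsCoactAlg k A B]

theorem quotData [Module.Flat k A] (htame : ∃ α : A →ₗ[k] B, Hoch.IsComodHom A α ∧ α 1 = 1) :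
    QuotData (algebraMap (GLin.invariants k A B) B) (GLin.coactAlgHom k A B).toRingHom
      (Algebra.TensorProduct.includeLeftRingHom : B →+* TensorProduct k B A) where
  eq c := c.2
  inv b h := ⟨⟨b, h⟩, rfl⟩
  inj := Subtype.val_injective
  surj := Groth.Agent.S12922.result k A B htame

theorem span_isGood_eq_top
    (htame : ∃ α : A →ₗ[k] B, Hoch.IsComodHom A α ∧ α 1 = 1)
    (Z : Scheme.{u}) (ψ : Spec (CommRingCat.of B) ⟶ Z)
    (hψ : Spec.map (CommRingCat.ofHom (GLin.coactAlgHom k A B).toRingHom) ≫ ψ =
      Spec.map (CommRingCat.ofHom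
        (Algebra.TensorProduct.includeLeftRingHom : B →+* TensorProduct k B A)) ≫ ψ) :
    Ideal.span {c : GLin.invariants k A B |
      IsGood (algebraMap (GLin.invariants k A B) B) ψ c} = ⊤ := by
  obtain ⟨α, hα, hα1⟩ := htame
  let 𝒲 := Z.affineOpenCover
  let W : 𝒲.I₀ → Set (PrimeSpectrum B) := fun x => {p | ψ p ∉ Set.range (𝒲.f x)}
  have hWclosed : ∀ x, IsClosed (W x) := by
    intro x
    rw [← isOpen_compl_iff]
    have h1 : (W x)ᶜ = ψ ⁻¹' (Set.range (𝒲.f x)) := by
      ext p
      exact not_not
    rw [h1]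
    exact (𝒲.f x).isOpenEmbedding.isOpen_range.preimage ψ.continuous
  have hWinv : ∀ x, ∀ P : PrimeSpectrum (TensorProduct k B A),
      PrimeSpectrum.comap (Algebra.TensorProduct.includeLeftRingHom :
        B →+* TensorProduct k B A) P ∈ W x →
      PrimeSpectrum.comap (GLin.coactAlgHom k A B).toRingHom P ∈ W x := by
    intro x P hP
    have h1 : ψ (PrimeSpectrum.comap (GLin.coactAlgHom k A B).toRingHom P) =
        ψ (PrimeSpectrum.comap (Algebra.TensorProduct.includeLeftRingHom :
          B →+* TensorProduct k B A) P) :=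
      congrArg (fun g : Spec (CommRingCat.of (TensorProduct k B A)) ⟶ Z => g P) hψ
    change ψ (PrimeSpectrum.comap (GLin.coactAlgHom k A B).toRingHom P) ∉ _
    rw [h1]
    exact hP
  let b : 𝒲.I₀ → Ideal B := fun x =>
    ((PrimeSpectrum.vanishingIdeal (W x)).map (Algebra.TensorProduct.includeLeftRingHom :
      B →+* TensorProduct k B A)).comap (GLin.coactAlgHom k A B).toRingHom
  have hsup : (⨆ x, b x) = ⊤ := by
    rw [← PrimeSpectrum.zeroLocus_empty_iff_eq_top, PrimeSpectrum.zeroLocus_iSup,
      Set.eq_empty_iff_forall_notMem]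
    intro p hp
    rw [Set.mem_iInter] at hp
    have h1 := zeroLocus_comap_map_subset _ _ (W (𝒲.idx (ψ p))) (hWclosed _) (hWinv _) (hp _)
    exact h1 (𝒲.covers (ψ p))
  rw [Ideal.eq_top_iff_one]
  have h1 : (1 : B) ∈ ⨆ x, b x := by
    rw [hsup]
    trivial
  have key : reynoldsInv α hα (1 : B) ∈ Ideal.span {c : GLin.invariants k A B |
      IsGood (algebraMap (GLin.invariants k A B) B) ψ c} := by
    refine Submodule.iSup_induction b (motive := fun β => reynoldsInv α hα β ∈
      Ideal.span {c : GLin.invariants k A B |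
        IsGood (algebraMap (GLin.invariants k A B) B) ψ c}) h1 ?_ ?_ ?_
    · intro x β hβ
      apply Ideal.subset_span
      have hmem : ((reynoldsInv α hα β : GLin.invariants k A B) : B) ∈
          PrimeSpectrum.vanishingIdeal (W x) := by
        have h2 : HopfRep.Comod.coact (k := k) (A := A) β ∈
            (PrimeSpectrum.vanishingIdeal (W x)).map
              (Algebra.TensorProduct.includeLeft : B →ₐ[k] TensorProduct k B A) := hβ
        have h3 : HopfRep.Comod.coact (k := k) (A := A) β ∈ LinearMap.range (LinearMap.rTensor A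
            (Submodule.subtype ((PrimeSpectrum.vanishingIdeal (W x)).restrictScalars k))) := by
          rw [← Ideal.map_includeLeft_eq]
          exact h2
        exact reyAux_mem_of_mem_range α (PrimeSpectrum.vanishingIdeal (W x)) h3
      refine ⟨𝒲.X x, 𝒲.f x, inferInstance, fun p hp => ?_⟩
      by_contra hn
      exact hp ((PrimeSpectrum.mem_vanishingIdeal _ _).mp hmem p hn)
    · have h2 := reynoldsInv_add α hα 0 0
      rw [add_zero] at h2
      have h0 : reynoldsInv α hα 0 = 0 := by simpa using h2
      rw [h0]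
      exact Ideal.zero_mem _
    · intro x y hx hy
      rw [reynoldsInv_add]
      exact Ideal.add_mem _ hx hy
  have h2 : reynoldsInv α hα (1 : B) = 1 := by
    have h3 := reynoldsInv_algebraMap α hα hα1 (1 : GLin.invariants k A B)
    rwa [map_one] at h3
  rw [← h2]
  exact key

theorem existsUnique_desc_tame [Module.Flat k A]
    (htame : ∃ α : A →ₗ[k] B, Hoch.IsComodHom A α ∧ α 1 = 1)
    (Z : Scheme.{u}) (ψ : Spec (CommRingCat.of B) ⟶ Z)
    (hψ : Spec.map (CommRingCat.ofHom (GLin.coactAlgHom k A B).toRingHom) ≫ ψ =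
      Spec.map (CommRingCat.ofHom
        (Algebra.TensorProduct.includeLeftRingHom : B →+* TensorProduct k B A)) ≫ ψ) :
    ∃! χ : Spec (CommRingCat.of (GLin.invariants k A B)) ⟶ Z,
      Spec.map (CommRingCat.ofHom (algebraMap (GLin.invariants k A B) B)) ≫ χ = ψ :=
  existsUnique_desc ψ (quotData k A B htame) hψ (span_isGood_eq_top k A B htame Z ψ hψ)

end Tame

end Groth.Agent.Lib.Seat61.HopfQuot
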