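import Groth.Agent.Lib.Seat24UnitsTensor
import Groth.Agent.Lib.Helper25FinOrder
import Groth.Agent.Lib.Helper25CoactAlg
import Groth.Prelude.Def_GLin

/-!
# Invariant fractions on a factorial `G`-variety are fractions of invariants (helper61)

`k` algebraically closed, `A` a finitely generated Hopf domain without nontrivial group-like elements
(a connected group without characters), `B` a finitely generated factorial domain with a
multiplicative `A`-coaction.  If `f / g` is invariant under all `k`-points of the group then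
`f / g = f' / g'` with `f'`, `g'` invariant (`main`).

Ingredients: the operators `T φ` of `k`-points are ring automorphisms of `B` (`T_mul`, `T_inv_T`); a
Nullstellensatz for `M ⊗ A` (`eq_zero_of_forall_slice`); pointwise divisibility by `g₁` of the
translates of `b` gives `ρ(b) = (g₁ ⊗ 1) w` (`exists_coact_eq_mul`); Rosenlicht's unit lemma
(`Seat24.UnitsTensor.exists_eq_tmul_one`).
-/

set_option autoImplicit false
set_option linter.unusedSectionVars false
universe u v w

namespace Groth.Agent.Lib.Seat61.InvFrac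

open TensorProduct HopfRep Groth.Agent.Lib.Helper25 Groth.Agent.Lib.Helper25.TensorDomain

section Slice

variable {k : Type u} [CommRing k] {A : Type v} [CommRing A] [Algebra k A]
variable {B : Type w} [CommRing B] [Algebra k B]

/-- The slice by an algebra map is multiplicative. -/
theorem slice_mul (φ : A →ₐ[k] k) (x y : B ⊗[k] A) :
    slice B φ.toLinearMap (x * y) = slice B φ.toLinearMap x * slice B φ.toLinearMap y := by
  induction x using TensorProduct.induction_on with
  | zero => simp
  | add x₁ x₂ h₁ h₂ => rw [add_mul, map_add, h₁, h₂, map_add, add_mul]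
  | tmul b a =>
    induction y using TensorProduct.induction_on with
    | zero => simp
    | add y₁ y₂ h₁ h₂ => rw [mul_add, map_add, h₁, h₂, map_add, mul_add]
    | tmul b' a' =>
      rw [Algebra.TensorProduct.tmul_mul_tmul, slice_tmul, slice_tmul, slice_tmul]
      simp only [AlgHom.toLinearMap_apply, map_mul]
      rw [smul_mul_smul_comm]

theorem slice_tmul_one (φ : A →ₐ[k] k) (b : B) :
    slice B φ.toLinearMap (b ⊗ₜ[k] (1 : A)) = b := by
  rw [slice_tmul]
  simp

/-- Evaluating `z ∈ B ⊗ A` at the pair of points `(x, φ)`. -/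
theorem apply_slice (x : B →ₐ[k] k) (φ : A →ₐ[k] k) (z : B ⊗[k] A) :
    x (slice B φ.toLinearMap z) =
      (Algebra.TensorProduct.lift x φ (fun _ _ => .all ..) : B ⊗[k] A →ₐ[k] k) z := by
  induction z using TensorProduct.induction_on with
  | zero => simp
  | add z₁ z₂ h₁ h₂ => simp only [map_add, h₁, h₂]
  | tmul b a =>
    rw [slice_tmul, Algebra.TensorProduct.lift_tmul, map_smul, smul_eq_mul, mul_comm]
    rfl

end Slice

section Null

variable {k : Type u} [Field k] [IsAlgClosed k] {A : Type v} [CommRing A] [Algebra k A]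
  [Algebra.FiniteType k A] [IsReduced A]

/-- Nullstellensatz with coefficients: an element of `M ⊗ A` all of whose slices by `k`-points of
`A` vanish is zero. -/
theorem eq_zero_of_forall_slice {M : Type w} [AddCommGroup M] [Module k M] (z : M ⊗[k] A)
    (h : ∀ φ : A →ₐ[k] k, slice M φ.toLinearMap z = 0) : z = 0 := by
  classical
  let 𝓂 := Module.Basis.ofVectorSpace k M
  let e := TensorProduct.equivFinsuppOfBasisLeft (N := A) 𝓂
  suffices e z = 0 by simpa using this
  ext i
  rw [Finsupp.zero_apply]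
  apply eq_zero_of_forall_algHom_eq_zero (K := k)
  intro φ
  have key : ∀ z : M ⊗[k] A, 𝓂.repr (slice M φ.toLinearMap z) i = φ (e z i) := by
    intro z
    induction z using TensorProduct.induction_on with
    | zero => simp
    | add z₁ z₂ h₁ h₂ => simp only [map_add, Finsupp.add_apply, h₁, h₂]
    | tmul m a =>
      rw [slice_tmul, map_smul, Finsupp.smul_apply,
        TensorProduct.equivFinsuppOfBasisLeft_apply_tmul_apply, map_smul, smul_eq_mul, smul_eq_mul,
        mul_comm]
      rfl
  rw [← key, h φ]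
  simp

end Null

section Act

variable {k : Type u} [Field k] {A : Type v} [CommRing A] [HopfAlgebra k A]
variable {B : Type w} [CommRing B] [Algebra k B] [Comod k A B] [GLin.IsCoactAlg k A B]

theorem act_eq_T (φ : A →ₐ[k] k) (b : B) : Comod.act k A B φ b = T φ.toLinearMap b := rfl

theorem T_mul (φ : A →ₐ[k] k) (x y : B) :
    T φ.toLinearMap (x * y) = T φ.toLinearMap x * T φ.toLinearMap y := by
  rw [T_apply, coact_mul, slice_mul]
  rfl

/-- The inverse point. -/
noncomputable def invPt (φ : A →ₐ[k] k) : A →ₐ[k] k := φ.comp (HopfAlgebra.antipodeAlgHom k A)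

theorem T_T_invPt (φ : A →ₐ[k] k) (b : B) :
    T φ.toLinearMap (T (invPt φ).toLinearMap b) = b := by
  have h1 := T_convMul (V := B) (WithConv.toConv φ) (WithConv.toConv φ)⁻¹
  rw [mul_inv_cancel, T_convOne] at h1
  have h2 := LinearMap.congr_fun h1 b
  exact h2.symm

theorem T_injective (φ : A →ₐ[k] k) : Function.Injective (T (V := B) φ.toLinearMap) := by
  intro x y hxy
  have h1 := T_T_invPt (invPt φ) x
  have h2 := T_T_invPt (invPt φ) y
  -- use the other composite: `invPt (invPt φ)` need not be syntactically `φ`; argue via the group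
  have h3 := T_convMul (V := B) (WithConv.toConv φ)⁻¹ (WithConv.toConv φ)
  rw [inv_mul_cancel, T_convOne] at h3
  have hx := LinearMap.congr_fun h3 x
  have hy := LinearMap.congr_fun h3 y
  rw [LinearMap.id_apply, LinearMap.comp_apply] at hx hy
  rw [hx, hy]
  exact congrArg _ hxy

end Act

section Factor

variable {k : Type u} [Field k] [IsAlgClosed k] {A : Type v} [CommRing A] [HopfAlgebra k A]
  [Algebra.FiniteType k A] [IsReduced A]
variable {B : Type w} [CommRing B] [Algebra k B] [Comod k A B] [GLin.IsCoactAlg k A B]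

/-- If all translates of `b` are divisible by `g₁`, then `ρ(b) = (g₁ ⊗ 1) w`. -/
theorem exists_coact_eq_mul (b g₁ : B) (h : ∀ φ : A →ₐ[k] k, g₁ ∣ T φ.toLinearMap b) :
    ∃ w : B ⊗[k] A, Comod.coact (k := k) (A := A) b = (g₁ ⊗ₜ[k] (1 : A)) * w := by
  set I : Ideal B := Ideal.span {g₁} with hI
  set π : B →ₗ[k] (B ⧸ I) := (Ideal.Quotient.mkₐ k I).toLinearMap with hπ
  have hz : π.rTensor A (Comod.coact (k := k) (A := A) b) = 0 := by
    apply eq_zero_of_forall_slice
    intro φ
    rw [slice_rTensor]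
    change Ideal.Quotient.mk I (T φ.toLinearMap b) = 0
    rw [Ideal.Quotient.eq_zero_iff_mem, hI, Ideal.mem_span_singleton]
    exact h φ
  have hex : Function.Exact (LinearMap.mulLeft k g₁) π := by
    intro y
    constructor
    · intro hy
      have : y ∈ I := Ideal.Quotient.eq_zero_iff_mem.mp hy
      rw [hI, Ideal.mem_span_singleton] at this
      obtain ⟨c, rfl⟩ := this
      exact ⟨c, rfl⟩
    · rintro ⟨c, rfl⟩
      change Ideal.Quotient.mk I (g₁ * c) = 0
      rw [Ideal.Quotient.eq_zero_iff_mem, hI, Ideal.mem_span_singleton]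
      exact dvd_mul_right _ _
  have hsurj : Function.Surjective π := Ideal.Quotient.mk_surjective
  have hex2 := rTensor_exact A hex hsurj
  obtain ⟨w, hw⟩ := (hex2 _).mp hz
  refine ⟨w, ?_⟩
  rw [tmul_one_mul, hw]

end Factor

section Main

variable {k : Type u} [Field k] [IsAlgClosed k] {A : Type v} [CommRing A] [HopfAlgebra k A]
  [Algebra.FiniteType k A] [IsDomain A]
variable {B : Type w} [CommRing B] [Algebra k B] [Algebra.FiniteType k B] [IsDomain B]
  [Comod k A B] [GLin.IsCoactAlg k A B]

/-- An element of `B ⊗ A` (both finitely generated) all of whose slices by `k`-points of `A` are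
units of `B` is a unit. -/
theorem isUnit_of_forall_isUnit_slice (w : B ⊗[k] A)
    (h : ∀ φ : A →ₐ[k] k, IsUnit (slice B φ.toLinearMap w)) : IsUnit w := by
  have : Algebra.FiniteType k (B ⊗[k] A) :=
    Algebra.FiniteType.trans (inferInstance : Algebra.FiniteType k B)
      (inferInstance : Algebra.FiniteType B (B ⊗[k] A))
  by_contra hw
  obtain ⟨m, hm, hwm⟩ := exists_max_ideal_of_mem_nonunits hw
  obtain ⟨z, hz⟩ := exists_algHom_ker_eq (K := k) m
  have hzw : z w = 0 := by
    have : w ∈ RingHom.ker z := by rw [hz]; exact hwm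
    exact this
  set x : B →ₐ[k] k := z.comp Algebra.TensorProduct.includeLeft with hx
  set φ : A →ₐ[k] k := z.comp Algebra.TensorProduct.includeRight with hφ
  have hlift : (Algebra.TensorProduct.lift x φ (fun _ _ => .all ..) : B ⊗[k] A →ₐ[k] k) = z := by
    apply Algebra.TensorProduct.ext'
    intro b a
    rw [Algebra.TensorProduct.lift_tmul, hx, hφ, AlgHom.comp_apply, AlgHom.comp_apply, ← map_mul]
    simp [Algebra.TensorProduct.tmul_mul_tmul]
  have h1 := apply_slice x φ w
  rw [hlift, hzw] at h1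
  exact ((h φ).map x).ne_zero h1

/-- Rosenlicht: if `ρ(g₁) = (g₁ ⊗ 1) w` with `g₁ ≠ 0` and `A` has no nontrivial group-like element,
then `g₁` is invariant. -/
theorem coact_eq_of_coact_eq_mul (hchar : ∀ a : A, IsGroupLikeElem k a → a = 1)
    (g₁ : B) (hg₁ : g₁ ≠ 0) (w : B ⊗[k] A)
    (hw : Comod.coact (k := k) (A := A) g₁ = (g₁ ⊗ₜ[k] (1 : A)) * w) :
    Comod.coact (k := k) (A := A) g₁ = g₁ ⊗ₜ[k] (1 : A) := by
  -- slices of `w`
  have hT : ∀ φ : A →ₐ[k] k, T φ.toLinearMap g₁ = g₁ * slice B φ.toLinearMap w := by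
    intro φ
    rw [T_apply, hw, slice_mul, slice_tmul_one]
  have hunit : ∀ φ : A →ₐ[k] k, IsUnit (slice B φ.toLinearMap w) := by
    intro φ
    have h1 := T_T_invPt φ g₁
    rw [hT (invPt φ), T_mul, hT φ] at h1
    have h2 : g₁ * (slice B φ.toLinearMap w *
        T φ.toLinearMap (slice B (invPt φ).toLinearMap w)) = g₁ * 1 := by
      rw [mul_one, ← mul_assoc]; exact h1
    have h3 := mul_left_cancel₀ hg₁ h2
    exact IsUnit.of_mul_eq_one _ h3
  have hwu : IsUnit w := isUnit_of_forall_isUnit_slice w hunit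
  -- the counit slice of `w` is `1`
  have hε : slice B (Bialgebra.counitAlgHom k A).toLinearMap w = 1 := by
    have h1 := hT (Bialgebra.counitAlgHom k A)
    have h2 : T (V := B) (Bialgebra.counitAlgHom k A).toLinearMap g₁ = g₁ := T_counit g₁
    rw [h2] at h1
    have h3 : g₁ * 1 = g₁ * slice B (Bialgebra.counitAlgHom k A).toLinearMap w := by
      rw [mul_one]; exact h1
    exact (mul_left_cancel₀ hg₁ h3).symm
  -- swap the factors and apply the units theorem
  set c : B ⊗[k] A ≃ₐ[k] A ⊗[k] B := Algebra.TensorProduct.comm k B A with hc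
  have hcu : IsUnit (c w) := hwu.map c
  have hev : ∀ z : B ⊗[k] A, evalLeft (Bialgebra.counitAlgHom k A) (c z) =
      slice B (Bialgebra.counitAlgHom k A).toLinearMap z := by
    intro z
    induction z using TensorProduct.induction_on with
    | zero => simp
    | add z₁ z₂ h₁ h₂ => simp only [map_add, h₁, h₂]
    | tmul b a =>
      rw [hc, Algebra.TensorProduct.comm_tmul, evalLeft_tmul, slice_tmul]
      rfl
  obtain ⟨χ, hχ⟩ := Groth.Agent.Lib.Seat24.UnitsTensor.exists_eq_tmul_one hcu.unit
    (Bialgebra.counitAlgHom k A) (by rw [IsUnit.unit_spec, hev, hε])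
  rw [IsUnit.unit_spec] at hχ
  have hwχ : w = (1 : B) ⊗ₜ[k] χ := by
    apply c.injective
    rw [hχ, hc, Algebra.TensorProduct.comm_tmul]
  have hρ : Comod.coact (k := k) (A := A) g₁ = g₁ ⊗ₜ[k] χ := by
    rw [hw, hwχ, Algebra.TensorProduct.tmul_mul_tmul, mul_one, one_mul]
  -- `χ` is group-like
  obtain ⟨ℓ, hℓ⟩ : ∃ ℓ : B →ₗ[k] k, ℓ g₁ = 1 := by
    have hinj : Function.Injective (LinearMap.toSpanSingleton k B g₁) := by
      intro a b hab
      simp only [LinearMap.toSpanSingleton_apply] at hab
      exact smul_left_injective k hg₁ hab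
    obtain ⟨ℓ, hℓ⟩ := LinearMap.exists_leftInverse_of_injective _
      (LinearMap.ker_eq_bot.mpr hinj)
    refine ⟨ℓ, ?_⟩
    have := LinearMap.congr_fun hℓ 1
    simpa using this
  have hcomul : CoalgebraStruct.comul (R := k) χ = χ ⊗ₜ[k] χ := by
    have h1 := coassoc_apply (k := k) (A := A) g₁
    rw [hρ, LinearMap.rTensor_tmul, hρ, LinearMap.lTensor_tmul] at h1
    have h2 := congrArg (TensorProduct.assoc k B A A) h1
    rw [LinearEquiv.apply_symm_apply, TensorProduct.assoc_tmul] at h2
    have h3 := congrArg ((TensorProduct.lid k (A ⊗[k] A)).toLinearMap ∘ₗ ℓ.rTensor (A ⊗[k] A)) h2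
    simp only [LinearMap.comp_apply, LinearMap.rTensor_tmul, hℓ, LinearEquiv.coe_coe,
      TensorProduct.lid_tmul, one_smul] at h3
    exact h3.symm
  have hcounit : CoalgebraStruct.counit (R := k) χ = 1 := by
    have h1 := counit_apply (k := k) (A := A) g₁
    rw [hρ, LinearMap.lTensor_tmul] at h1
    have h2 := congrArg ((TensorProduct.lid k k).toLinearMap ∘ₗ ℓ.rTensor k) h1
    simp only [LinearMap.comp_apply, LinearMap.rTensor_tmul, hℓ, LinearEquiv.coe_coe,
      TensorProduct.lid_tmul, one_smul] at h2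
    exact h2
  have hχ1 : χ = 1 := hchar χ ⟨hcounit, hcomul⟩
  rw [hρ, hχ1]

/-- Invariant fractions are fractions of invariants. -/
theorem main [UniqueFactorizationMonoid B] (hchar : ∀ a : A, IsGroupLikeElem k a → a = 1)
    (f g : B) (hg : g ≠ 0)
    (hinv : ∀ φ : A →ₐ[k] k, T φ.toLinearMap f * g = f * T φ.toLinearMap g) :
    ∃ f' g' : B, (∀ φ : A →ₐ[k] k, T φ.toLinearMap f' = f') ∧
      (∀ φ : A →ₐ[k] k, T φ.toLinearMap g' = g') ∧ g' ≠ 0 ∧ f * g' = f' * g := by
  have hT1 : ∀ φ : A →ₐ[k] k, T (V := B) φ.toLinearMap 1 = 1 := by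
    intro φ
    have h1 : T (V := B) φ.toLinearMap 1 * T (V := B) φ.toLinearMap 1 =
        T (V := B) φ.toLinearMap 1 * 1 := by
      rw [← T_mul, mul_one, mul_one]
    have hne : T (V := B) φ.toLinearMap 1 ≠ 0 := by
      intro h0
      have := T_injective (B := B) φ (h0.trans (map_zero _).symm)
      exact one_ne_zero this
    exact mul_left_cancel₀ hne h1
  by_cases hf : f = 0
  · refine ⟨0, 1, fun φ => map_zero _, hT1, one_ne_zero, ?_⟩
    rw [hf, zero_mul, zero_mul]
  obtain ⟨f₁, g₁, d, hrel, hdf, hdg⟩ := UniqueFactorizationMonoid.exists_reduced_factors f hf g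
  have hd : d ≠ 0 := by
    rintro rfl
    exact hf (by rw [← hdf, zero_mul])
  have hg₁ : g₁ ≠ 0 := by
    rintro rfl
    exact hg (by rw [← hdg, mul_zero])
  -- the reduced fraction is still invariant
  have hinv₁ : ∀ φ : A →ₐ[k] k, T φ.toLinearMap f₁ * g₁ = f₁ * T φ.toLinearMap g₁ := by
    intro φ
    have h1 := hinv φ
    rw [← hdf, ← hdg, T_mul, T_mul] at h1
    have hTd : T φ.toLinearMap d ≠ 0 := by
      intro h0
      exact hd (T_injective (B := B) φ (h0.trans (map_zero _).symm))
    have h2 : (d * T φ.toLinearMap d) * (T φ.toLinearMap f₁ * g₁) =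
        (d * T φ.toLinearMap d) * (f₁ * T φ.toLinearMap g₁) := by
      calc (d * T φ.toLinearMap d) * (T φ.toLinearMap f₁ * g₁)
          = T φ.toLinearMap d * T φ.toLinearMap f₁ * (d * g₁) := by ring
        _ = d * f₁ * (T φ.toLinearMap d * T φ.toLinearMap g₁) := h1
        _ = (d * T φ.toLinearMap d) * (f₁ * T φ.toLinearMap g₁) := by ring
    exact mul_left_cancel₀ (mul_ne_zero hd hTd) h2
  -- `g₁` divides all its translates
  have hdvd : ∀ φ : A →ₐ[k] k, g₁ ∣ T φ.toLinearMap g₁ := by
    intro φ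
    have h1 : g₁ ∣ f₁ * T φ.toLinearMap g₁ := ⟨T φ.toLinearMap f₁, by rw [← hinv₁ φ, mul_comm]⟩
    exact hrel.symm.dvd_of_dvd_mul_left h1
  obtain ⟨w, hw⟩ := exists_coact_eq_mul g₁ g₁ hdvd
  have hρ := coact_eq_of_coact_eq_mul hchar g₁ hg₁ w hw
  have hTg : ∀ φ : A →ₐ[k] k, T φ.toLinearMap g₁ = g₁ := by
    intro φ
    rw [T_apply, hρ, slice_tmul_one]
  have hTf : ∀ φ : A →ₐ[k] k, T φ.toLinearMap f₁ = f₁ := by
    intro φ
    have h1 := hinv₁ φ
    rw [hTg φ] at h1
    exact mul_right_cancel₀ hg₁ h1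
  refine ⟨f₁, g₁, hTf, hTg, hg₁, ?_⟩
  rw [← hdf, ← hdg]
  ring

end Main

end Groth.Agent.Lib.Seat61.InvFrac
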