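import Groth.Agent.Lib.Seat67GrCM
import Groth.Agent.Lib.Helper28FGDim
import Groth.Agent.Lib.Helper14GradedNoeth

set_option autoImplicit false

/-!
# Height of the vertex of a Cohen–Macaulay cone (seat 67)

* `height_eq_ringKrullDim_of_minimalPrimes_le`: in a Cohen–Macaulay algebra of finite type over a
  field, a maximal ideal containing all minimal primes has height `dim`.
* `height_irrelevant_map_eq_ringKrullDim`: for a Noetherian graded algebra `A` with `A₀` a field and
  a homogeneous ideal `L` with `A ⧸ L` Cohen–Macaulay, the vertex of `A ⧸ L` has height `dim A ⧸ L`.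
-/

universe u v w

namespace Groth.Agent.Lib.Seat67.GrVertex

open Groth.Agent.Lib.Helper28 Groth.Agent.Lib.Seat67.GrCM

section FT

variable (k : Type w) [Field k]

/-- For a finite type algebra `S` over a field and a prime `p`, every maximal ideal of `S/p` has
height `dim S/p` (universe-polymorphic form). -/
theorem height_eq_ringKrullDim_quotient_of_isMaximal_of_finiteType' (S : Type u) [CommRing S]
    [Algebra k S] [Algebra.FiniteType k S] (p : Ideal S) [hp : p.IsPrime]
    (M : Ideal (S ⧸ p)) [hM : M.IsMaximal] :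
    ((M.height : ℕ∞) : WithBot ℕ∞) = ringKrullDim (S ⧸ p) := by
  obtain ⟨n, φ, hφ⟩ := Algebra.FiniteType.iff_quotient_mvPolynomial''.mp
    (inferInstance : Algebra.FiniteType k S)
  have hk : LocCoh.IsCohenMacaulayRing k := isCohenMacaulayRing_of_field k
  have hS : LocCoh.IsCohenMacaulayRing (MvPolynomial (Fin n) k) :=
    isCohenMacaulayRing_mvPolynomial_fin n
  let ψ : MvPolynomial (Fin n) k →+* S ⧸ p := (Ideal.Quotient.mk p).comp φ.toRingHom
  have hψ : Function.Surjective ψ := Ideal.Quotient.mk_surjective.comp hφ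
  have hker : (RingHom.ker ψ).IsPrime := RingHom.ker_isPrime ψ
  let e : (MvPolynomial (Fin n) k ⧸ RingHom.ker ψ) ≃+* S ⧸ p :=
    RingHom.quotientKerEquivOfSurjective hψ
  have hM' : (M.comap e).IsMaximal :=
    Ideal.comap_isMaximal_of_surjective e e.surjective
  have h1 := height_eq_ringKrullDim_quotient_of_isMaximal n
    (height_eq_of_isMaximal_mvPolynomial_fin k n) (RingHom.ker ψ) (M.comap e)
  rw [ringKrullDim_eq_of_ringEquiv e] at h1
  rw [← h1]
  congr 1
  exact (e.height_comap M).symm

variable (S : Type u) [CommRing S] [Algebra k S] [Algebra.FiniteType k S]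
  [hS : LocCoh.IsCohenMacaulayRing S]

include k in
/-- In a CM algebra of finite type over a field, a maximal ideal `m` has height `dim S/p` for
every minimal prime `p ≤ m`. -/
theorem height_eq_ringKrullDim_quotient_of_mem_minimalPrimes (m : Ideal S) (hm : m.IsMaximal)
    (p : Ideal S) (hpmin : p ∈ minimalPrimes S) (hpm : p ≤ m) :
    ((m.height : ℕ∞) : WithBot ℕ∞) = ringKrullDim (S ⧸ p) := by
  have hmp : m.IsPrime := hm.isPrime
  have hp : p.IsPrime := hpmin.1.1
  have hM : (m.map (Ideal.Quotient.mk p)).IsMaximal :=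
    Ideal.IsMaximal.map_of_surjective_of_ker_le Ideal.Quotient.mk_surjective
      (by rwa [Ideal.mk_ker])
  have hMp : (m.map (Ideal.Quotient.mk p)).IsPrime := hM.isPrime
  have hcm : (m.map (Ideal.Quotient.mk p)).comap (Ideal.Quotient.mk p) = m := by
    rw [Ideal.comap_map_of_surjective _ Ideal.Quotient.mk_surjective, ← RingHom.ker_eq_comap_bot,
      Ideal.mk_ker]
    exact sup_eq_left.mpr hpm
  have h1 := height_eq_ringKrullDim_quotient_of_isMaximal_of_finiteType' k S p
    (m.map (Ideal.Quotient.mk p))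
  have h2 := height_comap_eq_height_add_height_map p (m.map (Ideal.Quotient.mk p))
  have hcp : ((m.map (Ideal.Quotient.mk p)).comap (Ideal.Quotient.mk p)).IsPrime :=
    Ideal.comap_isPrime _ _
  have hN : IsNoetherianRing S := inferInstance
  rw [IsLocalization.height_map_of_disjoint
    ((m.map (Ideal.Quotient.mk p)).comap (Ideal.Quotient.mk p)).primeCompl p
    (by
      rw [Set.disjoint_left]
      intro x hx hxp
      apply hx
      rw [hcm]
      exact hpm hxp), hcm, Ideal.height_eq_zero_iff.mpr hpmin, add_zero] at h2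
  rw [h2, h1]

include k in
/-- In a CM algebra of finite type over a field, a maximal ideal containing all minimal primes has
height `dim S`. -/
theorem height_eq_ringKrullDim_of_minimalPrimes_le (m : Ideal S) (hm : m.IsMaximal)
    (hmin : ∀ p ∈ minimalPrimes S, p ≤ m) :
    ((m.height : ℕ∞) : WithBot ℕ∞) = ringKrullDim S := by
  have hN : IsNoetherianRing S := inferInstance
  have hmp : m.IsPrime := hm.isPrime
  have hnt : Nontrivial S := ⟨⟨0, 1, fun h => hm.ne_top ((Ideal.eq_top_iff_one m).mpr (h ▸ m.zero_mem))⟩⟩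
  have hfin : m.height ≠ ⊤ := Ideal.height_ne_top hm.ne_top
  obtain ⟨d, hd⟩ := ENat.ne_top_iff_exists.mp hfin
  have hall : ∀ n : Ideal S, n.IsMaximal → n.height = d := by
    intro n hn
    have hnp : n.IsPrime := hn.isPrime
    obtain ⟨p, hpmin, hpn⟩ := Ideal.exists_minimalPrimes_le (I := (⊥ : Ideal S)) (J := n) bot_le
    have h1 := height_eq_ringKrullDim_quotient_of_mem_minimalPrimes k S n hn p hpmin hpn
    have h2 := height_eq_ringKrullDim_quotient_of_mem_minimalPrimes k S m hm p hpmin (hmin p hpmin)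
    rw [← h2, ← hd] at h1
    exact_mod_cast h1
  rw [ringKrullDim_eq_of_forall_isMaximal_height_eq d hall, ← hd]
  rfl

end FT

section Graded

variable {K : Type u} [Field K] {A : Type v} [CommRing A] [Algebra K A] [IsNoetherianRing A]
  (𝒜 : ℕ → Submodule K A) [GradedAlgebra 𝒜]

/-- A Noetherian graded algebra with degree-zero part the base field is of finite type. -/
theorem finiteType_of_graded (h0 : ∀ a ∈ 𝒜 0, ∃ c : K, algebraMap K A c = a) :
    Algebra.FiniteType K A := by
  obtain ⟨s, hs⟩ := (Groth.Agent.Lib.Helper14.finiteType_of_isNoetherianRing_graded 𝒜).out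
  refine ⟨⟨s, ?_⟩⟩
  rw [eq_top_iff]
  intro a _
  have ha : a ∈ Algebra.adjoin (𝒜 0) (s : Set A) := by rw [hs]; trivial
  clear ‹a ∈ (⊤ : Subalgebra K A)›
  induction ha using Algebra.adjoin_induction with
  | mem x hx => exact Algebra.subset_adjoin hx
  | algebraMap r =>
    obtain ⟨c, hc⟩ := h0 _ r.2
    have : algebraMap (𝒜 0) A r = algebraMap K A c := hc.symm
    rw [this]
    exact Subalgebra.algebraMap_mem _ c
  | add x y _ _ hx hy => exact add_mem hx hy
  | mul x y _ _ hx hy => exact mul_mem hx hy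

/-- The irrelevant ideal of a graded algebra with degree-zero part a field is maximal. -/
theorem irrelevant_isMaximal [Nontrivial A] (h0 : ∀ a ∈ 𝒜 0, ∃ c : K, algebraMap K A c = a) :
    (HomogeneousIdeal.irrelevant 𝒜).toIdeal.IsMaximal := by
  rw [Ideal.isMaximal_iff]
  constructor
  · rw [HomogeneousIdeal.mem_iff, HomogeneousIdeal.mem_irrelevant_iff, GradedRing.proj_apply,
      DirectSum.decompose_of_mem_same 𝒜 (SetLike.GradedOne.one_mem)]
    exact one_ne_zero
  · intro J x hJ hx hxJ
    rw [HomogeneousIdeal.mem_iff, HomogeneousIdeal.mem_irrelevant_iff, GradedRing.proj_apply] at hx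
    have hmem : x - (DirectSum.decompose 𝒜 x 0 : A) ∈ (HomogeneousIdeal.irrelevant 𝒜).toIdeal := by
      rw [HomogeneousIdeal.mem_iff, HomogeneousIdeal.mem_irrelevant_iff, GradedRing.proj_apply,
        DirectSum.decompose_sub, DirectSum.sub_apply, AddSubgroupClass.coe_sub,
        DirectSum.decompose_of_mem_same 𝒜 (DirectSum.decompose 𝒜 x 0).2, sub_self]
    have h1 : (DirectSum.decompose 𝒜 x 0 : A) ∈ J := by
      have := J.sub_mem hxJ (hJ hmem)
      rwa [sub_sub_cancel] at this
    obtain ⟨c, hc⟩ := h0 _ (DirectSum.decompose 𝒜 x 0).2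
    have hc0 : c ≠ 0 := by
      rintro rfl
      rw [map_zero] at hc
      exact hx hc.symm
    have : (1 : A) = algebraMap K A c⁻¹ * (DirectSum.decompose 𝒜 x 0 : A) := by
      rw [← hc, ← map_mul, inv_mul_cancel₀ hc0, map_one]
    rw [this]
    exact Ideal.mul_mem_left _ _ h1

/-- Minimal primes over a homogeneous ideal are homogeneous. -/
theorem isHomogeneous_of_mem_minimalPrimes {J P : Ideal A} (hJ : J.IsHomogeneous 𝒜)
    (hP : P ∈ J.minimalPrimes) : P.IsHomogeneous 𝒜 := by
  have hprime : P.IsPrime := hP.1.1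
  have h1 : ((P.homogeneousCore 𝒜).toIdeal).IsPrime := Ideal.IsPrime.homogeneousCore hprime
  have h2 : J ≤ (P.homogeneousCore 𝒜).toIdeal := by
    rw [← hJ.toIdeal_homogeneousCore_eq_self]
    exact Ideal.homogeneousCore_mono _ hP.1.2
  have h3 := Ideal.toIdeal_homogeneousCore_le 𝒜 P
  have h4 : P ≤ (P.homogeneousCore 𝒜).toIdeal := hP.2 ⟨h1, h2⟩ h3
  have h5 : (P.homogeneousCore 𝒜).toIdeal = P := le_antisymm h3 h4
  rw [← h5]
  exact (P.homogeneousCore 𝒜).isHomogeneous

/-- **Height of the vertex of a Cohen–Macaulay cone.** -/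
theorem height_irrelevant_map_eq_ringKrullDim [Nontrivial A]
    (h0 : ∀ a ∈ 𝒜 0, ∃ c : K, algebraMap K A c = a)
    (L : Ideal A) (hL : L.IsHomogeneous 𝒜) (hne : L ≠ ⊤)
    (hcm : LocCoh.IsCohenMacaulayRing (A ⧸ L)) :
    ((((HomogeneousIdeal.irrelevant 𝒜).toIdeal.map (Ideal.Quotient.mk L)).height : ℕ∞) :
      WithBot ℕ∞) = ringKrullDim (A ⧸ L) := by
  have hft : Algebra.FiniteType K A := finiteType_of_graded 𝒜 h0
  have hft' : Algebra.FiniteType K (A ⧸ L) :=
    Algebra.FiniteType.of_surjective (Ideal.Quotient.mkₐ K L) (Ideal.Quotient.mkₐ_surjective K L)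
  have hmax := irrelevant_isMaximal 𝒜 h0
  have hLm : L ≤ (HomogeneousIdeal.irrelevant 𝒜).toIdeal :=
    le_irrelevant_of_isHomogeneous 𝒜 h0 hL hne
  have hmax' : ((HomogeneousIdeal.irrelevant 𝒜).toIdeal.map (Ideal.Quotient.mk L)).IsMaximal :=
    Ideal.IsMaximal.map_of_surjective_of_ker_le Ideal.Quotient.mk_surjective
      (by rwa [Ideal.mk_ker])
  apply height_eq_ringKrullDim_of_minimalPrimes_le K (A ⧸ L) _ hmax'
  intro p hp
  have hpp : p.IsPrime := hp.1.1
  have h1 : p.comap (Ideal.Quotient.mk L) ∈ L.minimalPrimes := by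
    have := Ideal.comap_minimalPrimes_eq_of_surjective (f := Ideal.Quotient.mk L)
      Ideal.Quotient.mk_surjective (⊥ : Ideal (A ⧸ L))
    rw [← RingHom.ker_eq_comap_bot, Ideal.mk_ker] at this
    rw [this]
    exact ⟨p, hp, rfl⟩
  have h2 : p.comap (Ideal.Quotient.mk L) ≤ (HomogeneousIdeal.irrelevant 𝒜).toIdeal :=
    le_irrelevant_of_isHomogeneous 𝒜 h0 (isHomogeneous_of_mem_minimalPrimes 𝒜 hL h1)
      (Ideal.comap_isPrime _ p).ne_top
  rw [← Ideal.map_comap_of_surjective _ Ideal.Quotient.mk_surjective p]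
  exact Ideal.map_mono h2

end Graded

end Groth.Agent.Lib.Seat67.GrVertex
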