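import Mathlib
import Groth.Agent.Lib.Helper22AssHeightOne

/-!
# Orders at height-one primes of a Noetherian normal domain (seat 61)

* `isDVR_of_height_one`: the localization at a height-one prime is a discrete valuation ring.
* `ord q a`: the order of `a` at the height-one prime `q` (junk value `0` otherwise).
* `isRadical_span_singleton`: if a nonzero `h` has order one at every minimal prime over `(h)`,
  then `(h)` is a radical ideal.
-/

set_option autoImplicit false
set_option linter.style.haveILetI false

namespace Groth.Agent.Lib.Seat61.NormalOrd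

open IsLocalRing

variable {R : Type*} [CommRing R] [IsDomain R] [IsNoetherianRing R] [IsIntegrallyClosed R]

theorem isDVR_of_height_one (q : Ideal R) [q.IsPrime] (hq : q.height = 1) :
    IsDiscreteValuationRing (Localization.AtPrime q) := by
  let S := Localization.AtPrime q
  have hinj : Function.Injective (algebraMap R S) :=
    IsLocalization.injective S (Ideal.primeCompl_le_nonZeroDivisors q)
  have : IsNoetherianRing S := IsLocalization.isNoetherianRing q.primeCompl S inferInstance
  have : IsIntegrallyClosed S :=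
    isIntegrallyClosed_of_isLocalization S q.primeCompl (Ideal.primeCompl_le_nonZeroDivisors q)
  have hdim : ringKrullDim S ≤ 1 := by
    rw [IsLocalization.AtPrime.ringKrullDim_eq_height q S, hq]
    rfl
  have : Ring.KrullDimLE 1 S := Ring.krullDimLE_iff.mpr hdim
  have hPID : IsPrincipalIdealRing S := by
    have h := (tfae_of_isNoetherianRing_of_isLocalRing_of_isDomain S).out 3 0
    refine h.mp ⟨inferInstance, ?_⟩
    intro P hP hPp
    exact IsLocalRing.eq_maximalIdeal (hPp.isMaximal_of_ne_bot hP)
  refine { hPID with not_a_field' := ?_ }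
  intro hbot
  have hmap : q.map (algebraMap R S) = maximalIdeal S :=
    IsLocalization.AtPrime.map_eq_maximalIdeal q S
  rw [hbot] at hmap
  have hqbot : q = ⊥ := by
    rw [eq_bot_iff]
    intro a ha
    have : algebraMap R S a ∈ q.map (algebraMap R S) := Ideal.mem_map_of_mem _ ha
    rw [hmap, Ideal.mem_bot] at this
    exact (Ideal.mem_bot).mpr (hinj (by rw [this, map_zero]))
  exact Ideal.ne_bot_of_height_eq_one hq hqbot

open Classical in
/-- The order of `a` at the height-one prime `q` (junk value `0` if `q` is not a height-one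
prime). -/
noncomputable def ord (q : Ideal R) (a : R) : ℕ∞ :=
  if h : q.IsPrime ∧ q.height = 1 then
    haveI := h.1
    haveI := isDVR_of_height_one q h.2
    IsDiscreteValuationRing.addVal (Localization.AtPrime q) (algebraMap R _ a)
  else 0

section

variable (q : Ideal R) [hqp : q.IsPrime] (hq : q.height = 1)
include hq

lemma ord_def (a : R) :
    ord q a = (haveI := isDVR_of_height_one q hq
      IsDiscreteValuationRing.addVal (Localization.AtPrime q) (algebraMap R _ a)) := by
  rw [ord, dif_pos ⟨hqp, hq⟩]

lemma ord_mul (a b : R) : ord q (a * b) = ord q a + ord q b := by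
  haveI := isDVR_of_height_one q hq
  rw [ord_def q hq, ord_def q hq, ord_def q hq, map_mul, IsDiscreteValuationRing.addVal_mul]

lemma ord_one : ord q (1 : R) = 0 := by
  haveI := isDVR_of_height_one q hq
  rw [ord_def q hq, map_one, IsDiscreteValuationRing.addVal_one]

lemma ord_pow (a : R) (n : ℕ) : ord q (a ^ n) = n • ord q a := by
  haveI := isDVR_of_height_one q hq
  rw [ord_def q hq, ord_def q hq, map_pow, IsDiscreteValuationRing.addVal_pow]

lemma ord_prod {ι : Type*} (s : Finset ι) (f : ι → R) :
    ord q (∏ i ∈ s, f i) = ∑ i ∈ s, ord q (f i) := by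
  classical
  induction s using Finset.induction_on with
  | empty => simp [ord_one q hq]
  | insert i s hi ih => rw [Finset.prod_insert hi, Finset.sum_insert hi, ord_mul q hq, ih]

lemma ord_add (a b : R) : min (ord q a) (ord q b) ≤ ord q (a + b) := by
  haveI := isDVR_of_height_one q hq
  rw [ord_def q hq, ord_def q hq, ord_def q hq, map_add]
  exact IsDiscreteValuationRing.addVal_add

lemma ord_add_eq_of_lt {a b : R} (h : ord q a < ord q b) : ord q (a + b) = ord q a := by
  haveI := isDVR_of_height_one q hq
  rw [ord_def q hq, ord_def q hq] at h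
  rw [ord_def q hq, ord_def q hq, map_add]
  exact AddValuation.map_add_eq_of_lt_left _ h

lemma ord_eq_top_iff {a : R} : ord q a = ⊤ ↔ a = 0 := by
  haveI := isDVR_of_height_one q hq
  rw [ord_def q hq, IsDiscreteValuationRing.addVal_eq_top_iff]
  have hinj : Function.Injective (algebraMap R (Localization.AtPrime q)) :=
    IsLocalization.injective _ (Ideal.primeCompl_le_nonZeroDivisors q)
  exact map_eq_zero_iff _ hinj

lemma ord_eq_zero_iff {a : R} : ord q a = 0 ↔ a ∉ q := by
  haveI := isDVR_of_height_one q hq
  rw [ord_def q hq, IsDiscreteValuationRing.addVal_eq_zero_iff,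
    IsLocalization.AtPrime.isUnit_to_map_iff (Localization.AtPrime q) q]
  rfl

lemma one_le_ord_iff {a : R} : 1 ≤ ord q a ↔ a ∈ q := by
  rw [Order.one_le_iff_ne_zero, Ne, ord_eq_zero_iff q hq, not_not]

lemma exists_dvd_of_ord_le {h y : R} (hle : ord q h ≤ ord q y) : ∃ s, s ∉ q ∧ h ∣ s * y := by
  haveI := isDVR_of_height_one q hq
  rw [ord_def q hq, ord_def q hq, IsDiscreteValuationRing.addVal_le_iff_dvd] at hle
  obtain ⟨z, hz⟩ := hle
  obtain ⟨r, s, rfl⟩ := IsLocalization.exists_mk'_eq q.primeCompl z
  have hinj : Function.Injective (algebraMap R (Localization.AtPrime q)) :=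
    IsLocalization.injective _ (Ideal.primeCompl_le_nonZeroDivisors q)
  refine ⟨s, s.2, r, ?_⟩
  apply hinj
  rw [map_mul, map_mul, hz, mul_comm (algebraMap R _ (s : R)), mul_assoc,
    IsLocalization.mk'_spec]

/-- The ideal of elements of order at least `n` at `q`. -/
def ordIdeal (n : ℕ∞) : Ideal R where
  carrier := {a | n ≤ ord q a}
  add_mem' := fun {a b} ha hb => le_trans (le_min ha hb) (ord_add q hq a b)
  zero_mem' := by
    change n ≤ ord q 0
    rw [(ord_eq_top_iff q hq).mpr rfl]
    exact le_top
  smul_mem' := fun c a ha => by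
    change n ≤ ord q (c * a)
    rw [ord_mul q hq]
    exact le_trans ha le_add_self

lemma mem_ordIdeal {n : ℕ∞} {a : R} : a ∈ ordIdeal q hq n ↔ n ≤ ord q a := Iff.rfl

/-- There is a uniformizer in `R`. -/
lemma exists_ord_eq_one : ∃ t ∈ q, ord q t = 1 := by
  haveI := isDVR_of_height_one q hq
  obtain ⟨ϖ, hϖ⟩ := IsDiscreteValuationRing.exists_irreducible (Localization.AtPrime q)
  obtain ⟨r, s, rfl⟩ := IsLocalization.exists_mk'_eq q.primeCompl ϖ
  have h1 : ord q r = 1 := by
    rw [ord_def q hq]
    have : algebraMap R (Localization.AtPrime q) r =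
        IsLocalization.mk' (Localization.AtPrime q) r s * algebraMap R _ (s : R) := by
      rw [IsLocalization.mk'_spec]
    rw [this, IsDiscreteValuationRing.addVal_mul, IsDiscreteValuationRing.addVal_uniformizer hϖ]
    have hs : IsDiscreteValuationRing.addVal (Localization.AtPrime q)
        (algebraMap R _ (s : R)) = 0 := by
      rw [IsDiscreteValuationRing.addVal_eq_zero_iff]
      exact IsLocalization.map_units _ s
    rw [hs, add_zero]
  refine ⟨r, ?_, h1⟩
  rw [← one_le_ord_iff q hq, h1]

end

/-- Minimal primes over a nonzero principal ideal have height one. -/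
lemma height_eq_one_of_mem_minimalPrimes {h : R} (h0 : h ≠ 0) {q : Ideal R}
    (hq : q ∈ (Ideal.span {h}).minimalPrimes) : q.height = 1 := by
  haveI := hq.1.1
  refine le_antisymm (Ideal.height_le_one_of_isPrincipal_of_mem_minimalPrimes _ q hq) ?_
  rw [Order.one_le_iff_pos, pos_iff_ne_zero, Ne, Ideal.height_eq_zero_iff_eq_bot]
  intro hbot
  have : h ∈ q := hq.1.2 (Ideal.mem_span_singleton_self h)
  rw [hbot] at this
  exact h0 this

/-- A height-one prime containing a nonzero element is minimal over it. -/
lemma mem_minimalPrimes_of_height_one {h : R} (h0 : h ≠ 0) (q : Ideal R) [q.IsPrime]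
    (hq : q.height = 1) (hmem : h ∈ q) : q ∈ (Ideal.span {h}).minimalPrimes := by
  haveI : q.FiniteHeight := ⟨Or.inr (by rw [hq]; exact ENat.one_ne_top)⟩
  refine Ideal.mem_minimalPrimes_of_height_le ((Ideal.span_singleton_le_iff_mem q).mpr hmem) ?_
  rw [hq]
  exact Ideal.one_le_height_span_singleton_of_mem_nonZeroDivisors
    (mem_nonZeroDivisors_of_ne_zero h0)

/-- If a nonzero `h` has order one at every minimal prime over `(h)`, then `(h)` is radical. -/
theorem isRadical_span_singleton {h : R} (h0 : h ≠ 0)
    (H : ∀ q ∈ (Ideal.span {h}).minimalPrimes, ord q h = 1) : (Ideal.span {h}).IsRadical := by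
  intro y hy
  by_contra hyn
  have hne : (Ideal.Quotient.mk (Ideal.span {h}) y) ≠ 0 := by
    rwa [Ne, Ideal.Quotient.eq_zero_iff_mem]
  obtain ⟨P, hP, hle⟩ := exists_le_isAssociatedPrime_of_isNoetherianRing R
    (Ideal.Quotient.mk (Ideal.span {h}) y) hne
  have hPh : P.height = 1 :=
    Groth.Agent.Lib.Helper22.AssHeightOne.height_eq_one_of_mem_associatedPrimes h h0 P hP
  haveI : P.IsPrime := hP.isPrime
  have hhP : h ∈ P := by
    apply hle
    rw [Submodule.mem_colon_singleton, Submodule.mem_bot]
    change (Ideal.Quotient.mk _ (h * y)) = 0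
    rw [Ideal.Quotient.eq_zero_iff_mem]
    exact Ideal.mul_mem_right _ _ (Ideal.mem_span_singleton_self h)
  have hPmin := mem_minimalPrimes_of_height_one h0 P hPh hhP
  have hyP : y ∈ P := by
    have : y ∈ (Ideal.span {h}).radical := hy
    rw [← Ideal.sInf_minimalPrimes] at this
    exact (Submodule.mem_sInf.mp this) P hPmin
  have hord : ord P h ≤ ord P y := by
    rw [H P hPmin]
    exact (one_le_ord_iff P hPh).mpr hyP
  obtain ⟨s, hs, hdvd⟩ := exists_dvd_of_ord_le P hPh hord
  apply hs
  apply hle
  rw [Submodule.mem_colon_singleton, Submodule.mem_bot]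
  change (Ideal.Quotient.mk _ (s * y)) = 0
  rw [Ideal.Quotient.eq_zero_iff_mem, Ideal.mem_span_singleton]
  exact hdvd

/-- Divisibility can be tested on orders at the minimal primes of the divisor. -/
theorem dvd_of_forall_ord_le {h y : R} (h0 : h ≠ 0)
    (H : ∀ q ∈ (Ideal.span {h}).minimalPrimes, ord q h ≤ ord q y) : h ∣ y := by
  by_contra hyn
  have hne : (Ideal.Quotient.mk (Ideal.span {h}) y) ≠ 0 := by
    rwa [Ne, Ideal.Quotient.eq_zero_iff_mem, Ideal.mem_span_singleton]
  obtain ⟨P, hP, hle⟩ := exists_le_isAssociatedPrime_of_isNoetherianRing R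
    (Ideal.Quotient.mk (Ideal.span {h}) y) hne
  have hPh : P.height = 1 :=
    Groth.Agent.Lib.Helper22.AssHeightOne.height_eq_one_of_mem_associatedPrimes h h0 P hP
  haveI : P.IsPrime := hP.isPrime
  have hhP : h ∈ P := by
    apply hle
    rw [Submodule.mem_colon_singleton, Submodule.mem_bot]
    change (Ideal.Quotient.mk _ (h * y)) = 0
    rw [Ideal.Quotient.eq_zero_iff_mem]
    exact Ideal.mul_mem_right _ _ (Ideal.mem_span_singleton_self h)
  have hPmin := mem_minimalPrimes_of_height_one h0 P hPh hhP
  obtain ⟨s, hs, hdvd⟩ := exists_dvd_of_ord_le P hPh (H P hPmin)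
  apply hs
  apply hle
  rw [Submodule.mem_colon_singleton, Submodule.mem_bot]
  change (Ideal.Quotient.mk _ (s * y)) = 0
  rw [Ideal.Quotient.eq_zero_iff_mem, Ideal.mem_span_singleton]
  exact hdvd

/-- Orders are monotone for divisibility. -/
lemma ord_le_of_dvd (q : Ideal R) [q.IsPrime] (hq : q.height = 1) {x y : R} (h : x ∣ y) :
    ord q x ≤ ord q y := by
  obtain ⟨z, rfl⟩ := h
  rw [ord_mul q hq]
  exact le_self_add

end Groth.Agent.Lib.Seat61.NormalOrd
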