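import Mathlib
import Groth.Agent.Lib.Seat61NormalOrd

/-!
# A Kummer normalization computation (seat 61)

Let `A` be a Noetherian normal domain and `π` a prime element.

* `eq_pow_mul_unit_of_isUnit_away`: if `f` becomes a unit in `A[1/π]` then `f = π ^ k * u`.
* `dvd_exponent_of_root`: if moreover `z ^ m = f` in an extension domain `B` in which `π` stays
  prime, then `m ∣ k`.
-/

set_option autoImplicit false
set_option linter.style.haveILetI false
set_option linter.unusedSectionVars false

namespace Groth.Agent.Lib.Seat61.KummerNorm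

open Groth.Agent.Lib.Seat61.NormalOrd

variable {A : Type*} [CommRing A] [IsDomain A] [IsNoetherianRing A] [IsIntegrallyClosed A]

/-- A height-one prime containing a principal prime ideal equals it. -/
lemma eq_of_span_le (π : A) (hπ0 : π ≠ 0) [hP : (Ideal.span {π}).IsPrime] (p : Ideal A) [p.IsPrime]
    (hp : p.height = 1) (hπp : π ∈ p) : p = Ideal.span {π} := by
  have hP1 : (Ideal.span {π}).height = 1 :=
    height_eq_one_of_mem_minimalPrimes hπ0
      (by rw [Ideal.minimalPrimes_eq_subsingleton_self]; exact Set.mem_singleton _)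
  have hle : Ideal.span {π} ≤ p := (Ideal.span_singleton_le_iff_mem p).mpr hπp
  by_contra hne
  have hlt : Ideal.span {π} < p := lt_of_le_of_ne hle (Ne.symm hne)
  haveI : p.FiniteHeight := ⟨Or.inr (by rw [hp]; exact ENat.one_ne_top)⟩
  have := Ideal.height_strict_mono_of_isPrime_of_isPrime hlt
  rw [hP1, hp] at this
  exact lt_irrefl _ this

theorem eq_pow_mul_unit_of_isUnit_away (π : A) (hπ0 : π ≠ 0) [hP : (Ideal.span {π}).IsPrime]
    (f : A) (hf : IsUnit (algebraMap A (Localization.Away π) f)) :
    ∃ (k : ℕ) (u : Aˣ), f = π ^ k * (u : A) := by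
  have hinj : Function.Injective (algebraMap A (Localization.Away π)) :=
    IsLocalization.injective _ (powers_le_nonZeroDivisors_of_noZeroDivisors hπ0)
  have hP1 : (Ideal.span {π}).height = 1 :=
    height_eq_one_of_mem_minimalPrimes hπ0
      (by rw [Ideal.minimalPrimes_eq_subsingleton_self]; exact Set.mem_singleton _)
  -- `f * g = π ^ N`
  obtain ⟨y, hy⟩ := hf.exists_right_inv
  obtain ⟨g, ⟨_, N, rfl⟩, rfl⟩ := IsLocalization.exists_mk'_eq (Submonoid.powers π) y
  have hfg : f * g = π ^ N := by
    apply hinj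
    have h1 := hy
    rw [IsLocalization.mul_mk'_eq_mk'_of_mul, IsLocalization.mk'_eq_iff_eq_mul, one_mul] at h1
    exact h1
  have hf0 : f ≠ 0 := by
    rintro rfl
    rw [zero_mul] at hfg
    exact pow_ne_zero N hπ0 hfg.symm
  -- every element dividing a power of `π` has its minimal primes inside `{(π)}`
  have hmin : ∀ x : A, x ≠ 0 → x ∣ π ^ N → ∀ p ∈ (Ideal.span {x}).minimalPrimes,
      p = Ideal.span {π} := by
    intro x hx0 hx p hp
    haveI := hp.1.1
    have hp1 := height_eq_one_of_mem_minimalPrimes hx0 hp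
    have hxp : x ∈ p := hp.1.2 (Ideal.mem_span_singleton_self x)
    have : π ^ N ∈ p := by
      obtain ⟨c, hc⟩ := hx
      rw [hc]; exact Ideal.mul_mem_right _ _ hxp
    exact eq_of_span_le π hπ0 p hp1 (Ideal.IsPrime.mem_of_pow_mem inferInstance N this)
  have hordπ : ord (Ideal.span {π}) π = 1 := by
    refine le_antisymm ?_ ((one_le_ord_iff _ hP1).mpr (Ideal.mem_span_singleton_self π))
    obtain ⟨t, htP, ht1⟩ := exists_ord_eq_one (Ideal.span {π}) hP1
    rw [← ht1]
    exact ord_le_of_dvd _ hP1 (Ideal.mem_span_singleton.mp htP)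
  have hfin : ord (Ideal.span {π}) f ≠ ⊤ := fun h => hf0 ((ord_eq_top_iff _ hP1).mp h)
  obtain ⟨k, hk⟩ := ENat.ne_top_iff_exists.mp hfin
  have hpk : π ^ k ∣ f := by
    refine dvd_of_forall_ord_le (pow_ne_zero k hπ0) fun q hq => ?_
    have hq' : q = Ideal.span {π} := by
      haveI := hq.1.1
      have hq1 := height_eq_one_of_mem_minimalPrimes (pow_ne_zero k hπ0) hq
      have : π ^ k ∈ q := hq.1.2 (Ideal.mem_span_singleton_self _)
      exact eq_of_span_le π hπ0 q hq1 (Ideal.IsPrime.mem_of_pow_mem inferInstance k this)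
    rw [hq', ord_pow _ hP1, hordπ, nsmul_one, hk]
  obtain ⟨u, hu⟩ := hpk
  have hu0 : u ≠ 0 := by
    rintro rfl
    rw [mul_zero] at hu
    exact hf0 hu
  have hordu : ord (Ideal.span {π}) u = 0 := by
    have h1 : ord (Ideal.span {π}) f = ord (Ideal.span {π}) (π ^ k) + ord (Ideal.span {π}) u := by
      rw [hu, ord_mul _ hP1]
    rw [ord_pow _ hP1, hordπ, nsmul_one, ← hk] at h1
    have h2 : (k : ℕ∞) + 0 = (k : ℕ∞) + ord (Ideal.span {π}) u := by rw [add_zero]; exact h1
    exact (ENat.add_right_injective_of_ne_top (ENat.natCast_ne_top _) h2).symm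
  have hudvd : u ∣ π ^ N := ⟨π ^ k * g, by rw [← hfg, hu]; ring⟩
  have huunit : IsUnit u := by
    by_contra hnu
    have htop : Ideal.span {u} ≠ ⊤ := by
      rwa [Ne, Ideal.span_singleton_eq_top]
    obtain ⟨⟨p, hp⟩⟩ := Ideal.nonempty_minimalPrimes htop
    have hpe := hmin u hu0 hudvd p hp
    have hup : u ∈ p := hp.1.2 (Ideal.mem_span_singleton_self u)
    rw [hpe, ← one_le_ord_iff _ hP1, hordu] at hup
    exact absurd hup (by decide)
  exact ⟨k, huunit.unit, by rw [hu]; rfl⟩

/-- If `z ^ m = π ^ k * u` in a domain where `π` is prime and `u` is a unit, then `m ∣ k`. -/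
theorem dvd_exponent_of_root {B : Type*} [CommRing B] [IsDomain B] (π z u : B) (hπ : Prime π)
    (hu : IsUnit u) (m k : ℕ) (hm : 0 < m) (h : z ^ m = π ^ k * u) : ∃ q : ℕ, k = m * q := by
  have h1 : emultiplicity π (z ^ m) = (m : ℕ∞) * emultiplicity π z := emultiplicity_pow hπ
  have hu0 : emultiplicity π u = 0 := by
    rw [emultiplicity_eq_zero]
    exact fun hd => hπ.not_isUnit (isUnit_of_dvd_unit hd hu)
  have h2 : emultiplicity π (π ^ k * u) = k := by
    rw [emultiplicity_mul hπ, hu0, add_zero, emultiplicity_pow_self hπ.ne_zero hπ.not_isUnit]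
  rw [h, h2] at h1
  by_cases htop : emultiplicity π z = ⊤
  · rw [htop, ENat.mul_top (by exact_mod_cast hm.ne')] at h1
    exact absurd h1 (ENat.natCast_ne_top k)
  · obtain ⟨q, hq⟩ := ENat.ne_top_iff_exists.mp htop
    refine ⟨q, ?_⟩
    rw [← hq] at h1
    exact_mod_cast h1

/-- The exponent computation inside the integral closure of `A` in an extension domain `S`. -/
theorem dvd_exponent_of_root_integralClosure {A S : Type*} [CommRing A] [CommRing S] [IsDomain S]
    [Algebra A S] (hinjS : Function.Injective (algebraMap A S)) (π f : A) (hπ0 : π ≠ 0) (u : Aˣ)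
    (k m : ℕ) (hm : 0 < m) (hku : f = π ^ k * (u : A)) (z : S) (hz : z ^ m = algebraMap A S f)
    (hsp : (Ideal.span {algebraMap A (integralClosure A S) π}).IsPrime) : ∃ q : ℕ, k = m * q := by
  have hzint : IsIntegral A z := by
    refine ⟨Polynomial.X ^ m - Polynomial.C f, Polynomial.monic_X_pow_sub_C f hm.ne', ?_⟩
    rw [Polynomial.eval₂_sub, Polynomial.eval₂_pow, Polynomial.eval₂_X, Polynomial.eval₂_C, hz,
      sub_self]
  let zB : integralClosure A S := ⟨z, hzint⟩
  have hinjB : Function.Injective (algebraMap A (integralClosure A S)) := by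
    intro x y hxy
    apply hinjS
    exact congrArg Subtype.val hxy
  have hπB0 : algebraMap A (integralClosure A S) π ≠ 0 := fun h =>
    hπ0 (hinjB (by rw [h, map_zero]))
  have hprimeB : Prime (algebraMap A (integralClosure A S) π) :=
    (Ideal.span_singleton_prime hπB0).mp hsp
  have hzB : zB ^ m = algebraMap A (integralClosure A S) π ^ k *
      algebraMap A (integralClosure A S) (u : A) := by
    rw [← map_pow, ← map_mul, ← hku]
    apply Subtype.ext
    exact hz
  exact dvd_exponent_of_root (algebraMap A (integralClosure A S) π) zB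
    (algebraMap A (integralClosure A S) (u : A)) hprimeB
    (u.isUnit.map (algebraMap A (integralClosure A S))) m k hm hzB

end Groth.Agent.Lib.Seat61.KummerNorm
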