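import Groth.Agent.Lib.Seat61MLAdic
import Groth.Agent.Lib.Seat75HilbertUniv
import Groth.Agent.Lib.Helper25Reynolds
import Groth.Prelude.Def_GLin
import Groth.Prelude.Def_W4c1tameactTame

/-!
# Invariants of a coherent equivariant module are adically separated and complete (helper61)

`H` linearly reductive over a field `k`, `A` a Noetherian `H`-comodule algebra whose ring of
invariants is a complete Noetherian local ring, `𝔪` a stable maximal ideal, `M` a finite
equivariant `A`-module.  Then `M^H` is separated and complete for the filtration `(𝔪^n M)^H`.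
-/

set_option autoImplicit false
set_option linter.style.haveILetI false
set_option linter.unusedSectionVars false
universe u v w w'

namespace Groth.Agent.Lib.Seat61.LunaAdic

open TensorProduct HopfRep IsLocalRing
open Groth.Agent.Lib.Helper25 Groth.Agent.Lib.Seat75.HilbertUniv

section Reynolds

variable {k : Type u} [Field k] {H : Type v} [CommRing H] [HopfAlgebra k H]
variable {V : Type w} [AddCommGroup V] [Module k V] [Comod k H V]

/-- A Reynolds operator preserves subcomodules. -/
theorem reynolds_mem_of_isSubcomod (hG : IsLinearlyReductive k H) {E : V →ₗ[k] V}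
    (hE : Hoch.IsComodHom H E) (hEE : E ∘ₗ E = E) (hEx : ∀ x : V, E x = x ↔ x ∈ fixedPts k H V)
    (U : Submodule k V) (hU : IsSubcomod (k := k) (A := H) U) {u : V} (hu : u ∈ U) : E u ∈ U := by
  letI := subComod U hU
  have hssU := isSemisimpleComod_univ hG ↥U
  obtain ⟨EU, hEU, hEUU, hEUx⟩ := exists_reynolds hssU
  have hcomm := reynolds_comm hssU hEU hEUU hEUx hE hEE hEx (isComodHom_subtype U hU)
  have h1 := LinearMap.congr_fun hcomm ⟨u, hu⟩
  change E u = (EU ⟨u, hu⟩ : V) at h1
  rw [h1]
  exact (EU ⟨u, hu⟩).2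

end Reynolds

section Main

variable {k : Type u} [Field k] {H : Type v} [CommRing H] [HopfAlgebra k H]
variable {A : Type w} [CommRing A] [Algebra k A] [Comod k H A] [GLin.IsCoactAlg k H A]
variable {M : Type w'} [AddCommGroup M] [Module k M] [Module A M] [IsScalarTower k A M]
  [Comod k H M] [TameAct.IsHopfMod k H A M]

theorem smul_mem_fixedPts {r : A} (hr : r ∈ GLin.invariants k H A) {x : M}
    (hx : x ∈ fixedPts k H M) : r • x ∈ fixedPts k H M := by
  have hr' : Comod.coact (k := k) (A := H) r = r ⊗ₜ[k] (1 : H) := hr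
  have hx' : Comod.coact (k := k) (A := H) x = x ⊗ₜ[k] (1 : H) := hx
  change Comod.coact (k := k) (A := H) (r • x) = (r • x) ⊗ₜ[k] (1 : H)
  rw [TameAct.IsHopfMod.coact_smul, hr', hx', TameAct.hmSMul_tmul, mul_one]

variable (k H A M) in
/-- The invariants of `M` as a submodule over the ring of invariants. -/
def fixedSub : Submodule ↥(GLin.invariants k H A) M where
  carrier := fixedPts k H M
  add_mem' ha hb := (fixedPts k H M).add_mem ha hb
  zero_mem' := (fixedPts k H M).zero_mem
  smul_mem' r _ hx := smul_mem_fixedPts (k := k) (H := H) r.2 hx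

theorem mem_fixedSub {x : M} : x ∈ fixedSub k H A M ↔ x ∈ fixedPts k H M := Iff.rfl

/-- Reynolds operators on `A` and `M` and the Reynolds identity. -/
theorem exists_reynolds_pair (hG : IsLinearlyReductive k H) :
    ∃ (ER : A →ₗ[k] A) (EM : M →ₗ[k] M),
      (∀ a, ER a ∈ GLin.invariants k H A) ∧ (∀ x, x ∈ fixedPts k H M → EM x = x) ∧
      (∀ (U : Submodule k A), IsSubcomod (k := k) (A := H) U → ∀ a ∈ U, ER a ∈ U) ∧
      ∀ (a : A) (x : M), x ∈ fixedPts k H M → EM (a • x) = ER a • x := by
  have hssR := isSemisimpleComod_univ hG A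
  have hssM := isSemisimpleComod_univ hG M
  obtain ⟨ER, hER, hERR, hERx⟩ := exists_reynolds hssR
  obtain ⟨EM, hEM, hEMM, hEMx⟩ := exists_reynolds hssM
  refine ⟨ER, EM, fun a => (hERx _).mp (LinearMap.congr_fun hERR a),
    fun x hx => (hEMx x).mpr hx,
    fun U hU a ha => reynolds_mem_of_isSubcomod hG hER hERR hERx U hU ha, ?_⟩
  intro a m hm
  have hm' : Comod.coact (k := k) (A := H) m = m ⊗ₜ[k] (1 : H) := hm
  let u : A →ₗ[k] M := (LinearMap.toSpanSingleton A M m).restrictScalars k
  have hu : Hoch.IsComodHom H u := by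
    apply LinearMap.ext
    intro b
    change Comod.coact (k := k) (A := H) (b • m) =
      u.rTensor H (Comod.coact (k := k) (A := H) b)
    rw [TameAct.IsHopfMod.coact_smul, hm']
    generalize Comod.coact (k := k) (A := H) b = y
    induction y using TensorProduct.induction_on with
    | zero => simp
    | add x y hx hy => simp only [map_add, LinearMap.add_apply, hx, hy]
    | tmul b' a' =>
      rw [TameAct.hmSMul_tmul, mul_one, LinearMap.rTensor_tmul]
      rfl
  have hcomm := reynolds_comm hssR hER hERR hERx hEM hEMM hEMx hu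
  exact LinearMap.congr_fun hcomm a

/-- `M^H` is a finite module over `A^H`. -/
theorem finite_fixedSub (hG : IsLinearlyReductive k H) [IsNoetherianRing A] [Module.Finite A M] :
    Module.Finite ↥(GLin.invariants k H A) ↥(fixedSub k H A M) := by
  classical
  obtain ⟨ER, EM, hERinv, hEMfix, -, hkey⟩ := exists_reynolds_pair (k := k) (H := H) (A := A)
    (M := M) hG
  have hfg : (Submodule.span A (fixedPts k H M : Set M)).FG := IsNoetherian.noetherian _
  obtain ⟨s, hs, hspan⟩ := (Submodule.fg_span_iff_fg_span_finset_subset _).mp hfg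
  rw [Module.Finite.iff_fg]
  refine ⟨s, le_antisymm ?_ ?_⟩
  · rw [Submodule.span_le]
    exact hs
  · intro m hm
    have hm' : m ∈ fixedPts k H M := hm
    have hmem : m ∈ Submodule.span A (s : Set M) := by
      rw [← hspan]
      exact Submodule.subset_span hm'
    obtain ⟨c, -, hc⟩ := Submodule.mem_span_finset.mp hmem
    have h2 : m = ∑ y ∈ s, ER (c y) • y := by
      rw [← hEMfix m hm', ← hc, map_sum]
      apply Finset.sum_congr rfl
      intro y hy
      exact hkey (c y) y (hs hy)
    rw [h2]
    apply Submodule.sum_mem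
    intro y hy
    have : ER (c y) • y = (⟨ER (c y), hERinv (c y)⟩ : GLin.invariants k H A) • y := rfl
    rw [this]
    exact Submodule.smul_mem _ _ (Submodule.subset_span hy)

/-- Part (i): separatedness. -/
theorem eq_zero_of_forall_mem (hG : IsLinearlyReductive k H) [IsNoetherianRing A]
    [Module.Finite A M] [IsLocalRing ↥(GLin.invariants k H A)]
    (m : Ideal A) (hm1 : m ≠ ⊤) (hm : IsSubcomod (k := k) (A := H) (m.restrictScalars k))
    {x : M} (hx : x ∈ fixedPts k H M) (hxm : ∀ n : ℕ, x ∈ (m ^ n • ⊤ : Submodule A M)) :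
    x = 0 := by
  obtain ⟨ER, EM, hERinv, hEMfix, hERsub, hkey⟩ := exists_reynolds_pair (k := k) (H := H)
    (A := A) (M := M) hG
  have h1 : x ∈ (⨅ i : ℕ, m ^ i • ⊤ : Submodule A M) := by
    rw [Submodule.mem_iInf]
    exact hxm
  obtain ⟨⟨a, ha⟩, hax⟩ := (Ideal.mem_iInf_smul_pow_eq_bot_iff m x).mp h1
  have hax' : a • x = x := hax
  have h2 : ER a • x = x := by
    rw [← hkey a x hx, hax', hEMfix x hx]
  have hrm : ER a ∈ m := hERsub _ hm a ha
  set r : ↥(GLin.invariants k H A) := ⟨ER a, hERinv a⟩ with hr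
  have hnu : r ∈ nonunits ↥(GLin.invariants k H A) := by
    intro hu
    have hu' : IsUnit (algebraMap ↥(GLin.invariants k H A) A r) := hu.map _
    exact hm1 (Ideal.eq_top_of_isUnit_mem _ hrm hu')
  have hu : IsUnit (1 - r) := IsLocalRing.isUnit_one_sub_self_of_mem_nonunits r hnu
  obtain ⟨s, hs⟩ := hu.exists_left_inv
  have h3 : (1 - r) • x = 0 := by
    rw [sub_smul, one_smul]
    have : r • x = ER a • x := rfl
    rw [this, h2, sub_self]
  calc x = (s * (1 - r)) • x := by rw [hs, one_smul]
    _ = s • ((1 - r) • x) := mul_smul _ _ _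
    _ = 0 := by rw [h3, smul_zero]

/-- Part (ii): completeness. -/
theorem exists_limit (hG : IsLinearlyReductive k H) [IsNoetherianRing A] [Module.Finite A M]
    [IsLocalRing ↥(GLin.invariants k H A)] [IsNoetherianRing ↥(GLin.invariants k H A)]
    [IsAdicComplete (maximalIdeal ↥(GLin.invariants k H A)) ↥(GLin.invariants k H A)]
    (m : Ideal A) (x : ℕ → M) (hx : ∀ n, x n ∈ fixedPts k H M)
    (hxm : ∀ n, x (n + 1) - x n ∈ (m ^ n • ⊤ : Submodule A M)) :
    ∃ y ∈ fixedPts k H M, ∀ n, y - x n ∈ (m ^ n • ⊤ : Submodule A M) := by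
  haveI := finite_fixedSub (k := k) (H := H) (A := A) (M := M) hG
  let F : ℕ → Submodule ↥(GLin.invariants k H A) ↥(fixedSub k H A M) := fun n =>
    Submodule.comap (fixedSub k H A M).subtype
      ((m ^ n • ⊤ : Submodule A M).restrictScalars ↥(GLin.invariants k H A))
  have hF : Antitone F := by
    intro a b hab z hz
    exact Submodule.smul_mono_left (Ideal.pow_le_pow_right hab) hz
  obtain ⟨y, hy⟩ := Groth.Agent.Lib.Seat61.MLAdic.exists_limit_of_antitone F hF
    (fun n => (⟨x n, hx n⟩ : ↥(fixedSub k H A M))) (fun n => hxm n)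
  exact ⟨y.1, y.2, fun n => hy n⟩

end Main

end Groth.Agent.Lib.Seat61.LunaAdic
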