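import Mathlib
import Groth.Agent.Lib.Helper19ComplTwo

/-!
# A Mittag-Leffler / Chevalley type lemma over a complete Noetherian local ring (helper61)

`R` complete Noetherian local, `T` a finite `R`-module, `F` a decreasing sequence of submodules.
Every sequence `x` in `T` with `x (n+1) - x n ∈ F n` has a limit `y` with `y - x n ∈ F n` for all
`n` (`exists_limit_of_antitone`).
-/

set_option autoImplicit false
set_option linter.style.haveILetI false
set_option linter.unusedSectionVars false
universe u v

namespace Groth.Agent.Lib.Seat61.MLAdic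

open IsLocalRing

section Seq

/-- Dependent choice along `ℕ`. -/
theorem exists_seq {α : Type*} (Q : ℕ → α → Prop) (r : ℕ → α → α → Prop) (a0 : α) (h0 : Q 0 a0)
    (hstep : ∀ j a, Q j a → ∃ b, Q (j + 1) b ∧ r j a b) :
    ∃ s : ℕ → α, (∀ j, Q j (s j)) ∧ ∀ j, r j (s j) (s (j + 1)) := by
  let s' : (j : ℕ) → {a // Q j a} := fun j =>
    Nat.rec (motive := fun j => {a // Q j a}) ⟨a0, h0⟩
      (fun j p => ⟨(hstep j p.1 p.2).choose, (hstep j p.1 p.2).choose_spec.1⟩) j
  refine ⟨fun j => (s' j).1, fun j => (s' j).2, fun j => ?_⟩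
  exact (hstep j (s' j).1 (s' j).2).choose_spec.2

end Seq

section Main

variable {R : Type u} [CommRing R] [IsLocalRing R] [IsNoetherianRing R]
variable {T : Type v} [AddCommGroup T] [Module R T] [Module.Finite R T]

theorem isArtinian_quot_pow_smul (j : ℕ) :
    IsArtinian R (T ⧸ (maximalIdeal R ^ j • ⊤ : Submodule R T)) := by
  rcases Nat.eq_zero_or_pos j with rfl | hj
  · have : Subsingleton (T ⧸ (maximalIdeal R ^ 0 • ⊤ : Submodule R T)) := by
      rw [pow_zero, Ideal.one_eq_top, Submodule.top_smul]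
      exact Submodule.Quotient.subsingleton_iff.mpr rfl
    infer_instance
  · haveI : IsArtinianRing (R ⧸ maximalIdeal R ^ j) := by
      apply IsLocalRing.quotient_artinian_of_mem_minimalPrimes_of_isLocalRing
      refine ⟨⟨inferInstance, Ideal.pow_le_self hj.ne'⟩, ?_⟩
      rintro P ⟨hP, hjP⟩ -
      exact hP.le_of_pow_le hjP
    haveI : Module.Finite (R ⧸ maximalIdeal R ^ j)
        (T ⧸ (maximalIdeal R ^ j • ⊤ : Submodule R T)) :=
      Module.Finite.of_restrictScalars_finite R _ _
    haveI : IsArtinian (R ⧸ maximalIdeal R ^ j)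
        (T ⧸ (maximalIdeal R ^ j • ⊤ : Submodule R T)) := inferInstance
    exact isArtinian_of_surjective_algebraMap (S := R) (R := R ⧸ maximalIdeal R ^ j)
      Ideal.Quotient.mk_surjective

/-- The chain `F n + 𝔪^j T` is stationary. -/
theorem exists_stable (F : ℕ → Submodule R T) (hF : Antitone F) (j : ℕ) :
    ∃ N, ∀ n n', N ≤ n → n ≤ n' → F n ≤ F n' ⊔ (maximalIdeal R ^ j • ⊤ : Submodule R T) := by
  haveI := isArtinian_quot_pow_smul (R := R) (T := T) j
  set π := (maximalIdeal R ^ j • ⊤ : Submodule R T).mkQ with hπ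
  let G : ℕ →o (Submodule R (T ⧸ (maximalIdeal R ^ j • ⊤ : Submodule R T)))ᵒᵈ :=
    ⟨fun n => OrderDual.toDual ((F n).map π), fun a b hab => Submodule.map_mono (hF hab)⟩
  obtain ⟨N, hN⟩ := IsArtinian.monotone_stabilizes G
  refine ⟨N, fun n n' hn hnn' => ?_⟩
  have h1 : (F n).map π = (F n').map π := by
    have e1 : G N = G n := hN n hn
    have e2 : G N = G n' := hN n' (hn.trans hnn')
    exact OrderDual.toDual.injective (e1.symm.trans e2)
  have h2 : ((F n).map π).comap π = ((F n').map π).comap π := by rw [h1]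
  rw [Submodule.comap_map_eq, Submodule.comap_map_eq, Submodule.ker_mkQ] at h2
  calc F n ≤ F n ⊔ (maximalIdeal R ^ j • ⊤ : Submodule R T) := le_sup_left
    _ = F n' ⊔ (maximalIdeal R ^ j • ⊤ : Submodule R T) := h2

/-- Submodules of a finite module over a Noetherian local ring are closed. -/
theorem mem_of_forall_mem_sup (F : Submodule R T) (x : T)
    (hx : ∀ j, x ∈ F ⊔ (maximalIdeal R ^ j • ⊤ : Submodule R T)) : x ∈ F := by
  have h0 : F.mkQ x = 0 := by
    apply IsHausdorff.haus (inferInstance : IsHausdorff (maximalIdeal R) (T ⧸ F))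
    intro j
    rw [SModEq.zero]
    obtain ⟨f, hf, t, ht, rfl⟩ := Submodule.mem_sup.mp (hx j)
    have hf0 : F.mkQ f = 0 := by
      rw [Submodule.mkQ_apply]
      exact (Submodule.Quotient.mk_eq_zero F).mpr hf
    rw [map_add, hf0, zero_add]
    exact Groth.Agent.Lib.Helper19.map_mem_smul_top F.mkQ _ ht
  exact (Submodule.Quotient.mk_eq_zero F).mp h0

theorem isPrecomplete_of_finite [IsAdicComplete (maximalIdeal R) R] :
    IsPrecomplete (maximalIdeal R) T := by
  obtain ⟨n, f, hf⟩ := Module.Finite.exists_fin' R T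
  haveI : IsPrecomplete (maximalIdeal R) (Fin n → R) :=
    Groth.Agent.Lib.Helper19.isPrecomplete_pi_module (maximalIdeal R) R
  exact Groth.Agent.Lib.Helper19.isPrecomplete_of_surjective_module (maximalIdeal R) f hf

theorem exists_limit_of_antitone [IsAdicComplete (maximalIdeal R) R]
    (F : ℕ → Submodule R T) (hF : Antitone F) (x : ℕ → T) (hx : ∀ n, x (n + 1) - x n ∈ F n) :
    ∃ y : T, ∀ n, y - x n ∈ F n := by
  have hx' : ∀ n n', n ≤ n' → x n' - x n ∈ F n := by
    intro n n' h
    induction n', h using Nat.le_induction with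
    | base => rw [sub_self]; exact zero_mem _
    | succ k hk ih =>
      have e : x (k + 1) - x n = (x (k + 1) - x k) + (x k - x n) := by abel
      rw [e]
      exact add_mem (hF hk (hx k)) ih
  choose N hN using exists_stable F hF
  -- the recursive construction
  obtain ⟨s, hsQ, hsr⟩ := exists_seq
    (fun j y => ∃ n, N j ≤ n ∧ j ≤ n ∧ y - x n ∈ F n)
    (fun j y y' => y' - y ∈ (maximalIdeal R ^ j • ⊤ : Submodule R T))
    (x (N 0)) ⟨N 0, le_rfl, Nat.zero_le _, by rw [sub_self]; exact zero_mem _⟩
    (by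
      rintro j y ⟨n, hNn, hjn, hy⟩
      set n' := max n (max (N (j + 1)) (j + 1)) with hn'
      have hnn' : n ≤ n' := le_max_left _ _
      have h1 : y - x n' ∈ F n := by
        have e : y - x n' = (y - x n) - (x n' - x n) := by abel
        rw [e]
        exact sub_mem hy (hx' n n' hnn')
      obtain ⟨f, hf, t, ht, hft⟩ := Submodule.mem_sup.mp (hN j n n' hNn hnn' h1)
      refine ⟨y - t, ⟨n', ?_, ?_, ?_⟩, ?_⟩
      · exact (le_max_left _ _).trans (le_max_right _ _)
      · exact (le_max_right _ _).trans (le_max_right _ _)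
      · have e : y - t - x n' = f := by
          rw [sub_right_comm, ← hft, add_sub_cancel_right]
        rw [e]
        exact hf
      · have e : y - t - y = -t := by abel
        rw [e]
        exact neg_mem ht)
  -- the limit
  haveI := isPrecomplete_of_finite (R := R) (T := T)
  have hcauchy : AdicCompletion.IsAdicCauchy (maximalIdeal R) T s := by
    rw [AdicCompletion.isAdicCauchy_iff]
    intro j
    rw [SModEq.sub_mem]
    have e : s j - s (j + 1) = -(s (j + 1) - s j) := by abel
    rw [e]
    exact neg_mem (hsr j)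
  obtain ⟨L, hL⟩ := IsPrecomplete.prec' (I := maximalIdeal R) s hcauchy
  refine ⟨L, fun n => mem_of_forall_mem_sup (F n) _ fun j => ?_⟩
  obtain ⟨n'', -, hj'n, hy⟩ := hsQ (max j n)
  have hnn : n ≤ n'' := (le_max_right j n).trans hj'n
  have h1 : s (max j n) - L ∈ (maximalIdeal R ^ j • ⊤ : Submodule R T) := by
    have h2 := hL (max j n)
    rw [SModEq.sub_mem] at h2
    exact Submodule.smul_mono_left (Ideal.pow_le_pow_right (le_max_left j n)) h2
  have e : L - x n = -(s (max j n) - L) + ((s (max j n) - x n'') + (x n'' - x n)) := by abel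
  have hmem : -(s (max j n) - L) + ((s (max j n) - x n'') + (x n'' - x n)) ∈
      (maximalIdeal R ^ j • ⊤ : Submodule R T) ⊔ F n :=
    Submodule.add_mem_sup (neg_mem h1) (add_mem (hF hnn hy) (hx' n n'' hnn))
  rw [e, sup_comm]
  exact hmem

end Main

end Groth.Agent.Lib.Seat61.MLAdic
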