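import Mathlib
import Groth.Prelude.Def_EtMod2
import Groth.Prelude.Def_ARSys
import Groth.Agent.Lib.Helper16SmallEtale
import Groth.Agent.Lib.Helper16EtStalk
import Groth.Agent.Lib.Helper17ARSys1
import Groth.Agent.Lib.Helper17ARSys10

/-!
# Geometric stalks of etale sheaves of modules (seat 61)

* stalks detect mono / epi / zero objects for `EtModW.Mod Λ X`;
* the stalk functor is additive and commutes with the formation of the stalk system of a
  projective system;
* a strict `ℕ`-indexed system of modules with zero limit is zero;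
* `isARNull_iff`: an AR-adic system of sheaves is AR-null iff all limits of stalk systems vanish.
-/

set_option autoImplicit false
open CategoryTheory CategoryTheory.Limits AlgebraicGeometry Opposite
universe u

namespace Groth.Agent.Lib.Seat61.ModStalk

open Groth.Agent.Lib.Helper16.SmallEtale Groth.Agent.Lib.Helper16.EtStalk

variable (Λ : Type (u + 1)) [CommRing Λ]

instance ab5Mod : AB5OfSize.{u, u} (ModuleCat.{u + 1} Λ) :=
  AB5OfSize_of_univLE.{u, u, u + 1, u + 1} (ModuleCat.{u + 1} Λ)

instance pfcMod : PreservesFilteredColimitsOfSize.{u, u} (forget (ModuleCat.{u + 1} Λ)) :=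
  preservesFilteredColimitsOfSize_shrink.{u, u + 1, u, u + 1} _

instance hasLimMod : HasLimitsOfSize.{u, u} (ModuleCat.{u + 1} Λ) :=
  hasLimitsOfSizeShrink.{u, u, u + 1, u + 1} _

variable {Λ}

set_option backward.isDefEq.respectTransparency.types false in
/-- a map of etale sheaves of modules injective on all geometric stalks is locally injective -/
lemma isLocallyInjective_of_stalks {X : Scheme.{u}} {F G : EtModW.Mod Λ X} (a : F ⟶ G)
    (h : ∀ (Ω : Type u) [Field Ω] [IsSepClosed Ω] (ξ : Spec (CommRingCat.of Ω) ⟶ X),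
      Function.Injective ((EtModW.stalk Λ ξ).map a)) :
    Sheaf.IsLocallyInjective a := by
  constructor
  intro U x y hxy
  induction U using Opposite.rec with | _ U => ?_
  rw [mem_smallEtale_iff]
  intro p
  obtain ⟨Ω, _, _, ξ, x₀, hx₀⟩ := exists_geometric_point U p
  let Φ := Scheme.pointSmallEtale ξ
  have e1 : (EtModW.stalk Λ ξ).map a (Φ.toPresheafFiber U x₀ F.obj x) =
      (EtModW.stalk Λ ξ).map a (Φ.toPresheafFiber U x₀ F.obj y) := by
    have n1 := Φ.toPresheafFiber_naturality_apply a.hom U x₀ x
    have n2 := Φ.toPresheafFiber_naturality_apply a.hom U x₀ y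
    exact n1.trans ((congrArg _ hxy).trans n2.symm)
  have e2 := h Ω ξ e1
  obtain ⟨W, g, w, hw, hg⟩ := (Φ.toPresheafFiber_eq_iff' U x₀ x y).mp e2
  refine ⟨W, g, (w.left : Spec (CommRingCat.of Ω) ⟶ W.left) (default : Spec (CommRingCat.of Ω)),
    hg, ?_⟩
  have e3 : w.left ≫ g.left = x₀.left := congrArg (fun m => m.left) hw
  rw [← hx₀]
  exact congrArg (fun m : Spec (CommRingCat.of Ω) ⟶ U.left => m default) e3

lemma mono_of_stalks {X : Scheme.{u}} {F G : EtModW.Mod Λ X} (a : F ⟶ G)
    (h : ∀ (Ω : Type u) [Field Ω] [IsSepClosed Ω] (ξ : Spec (CommRingCat.of Ω) ⟶ X),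
      Function.Injective ((EtModW.stalk Λ ξ).map a)) : Mono a := by
  have := isLocallyInjective_of_stalks a h
  exact Sheaf.mono_of_isLocallyInjective a

/-- an etale sheaf of modules all of whose geometric stalks vanish is zero -/
lemma isZero_of_stalks {X : Scheme.{u}} (H : EtModW.Mod Λ X)
    (h : ∀ (Ω : Type u) [Field Ω] [IsSepClosed Ω] (ξ : Spec (CommRingCat.of Ω) ⟶ X),
      IsZero ((EtModW.stalk Λ ξ).obj H)) : IsZero H := by
  have hm : Mono (0 : H ⟶ H) := by
    apply mono_of_stalks
    intro Ω _ _ ξ x y _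
    have := ModuleCat.isZero_iff_subsingleton.mp (h Ω ξ)
    exact Subsingleton.elim x y
  rw [IsZero.iff_id_eq_zero]
  exact (cancel_mono (0 : H ⟶ H)).mp (by simp)

instance stalk_additive {X : Scheme.{u}} {Ω : Type u} [Field Ω] [IsSepClosed Ω]
    (ξ : Spec (CommRingCat.of Ω) ⟶ X) : (EtModW.stalk Λ ξ).Additive :=
  Functor.additive_of_preserves_binary_products _

section General

open Groth.Agent.Lib.Helper17.ARSys1

variable {C D : Type*} [Category C] [Abelian C] [Category D] [Abelian D]

set_option backward.isDefEq.respectTransparency false in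
set_option backward.isDefEq.respectTransparency.types false in
/-- Any functor carries isomorphisms up to translation to isomorphisms up to translation
(no exactness needed: use the inverse up to translation). -/
theorem isARIso_whiskerRight (G : C ⥤ D) {P Q : ARSys.PS C} (f : P ⟶ Q)
    (hf : ARSys.IsARIso f) : ARSys.IsARIso (Functor.whiskerRight f G) := by
  obtain ⟨r, w, h1, h2⟩ := exists_inv_of_isARIso f hf
  refine isARIso_of_inv (Functor.whiskerRight f G) r
    ⟨fun n => G.map (w.app n), ?_⟩ ?_ ?_
  · intro a b g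
    have hn := w.naturality g
    change G.map (((ARSys.shift C r).obj Q).map g) ≫ G.map (w.app b) =
      G.map (w.app a) ≫ G.map (P.map g)
    rw [← G.map_comp, ← G.map_comp, hn]
  · intro n
    change G.map (w.app (op n)) ≫ G.map (f.app (op n)) = G.map (ARSys.shiftMap Q r n)
    rw [← G.map_comp, h1 n]
  · intro n
    change G.map (f.app (op (n + r))) ≫ G.map (w.app (op n)) = G.map (ARSys.shiftMap P r n)
    rw [← G.map_comp, h2 n]

end General

/-- translation by `n` on the left. -/
def addL (n : ℕ) : ℕ ⥤ ℕ :=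
  Monotone.functor (f := fun k : ℕ => n + k) (fun _ _ h => Nat.add_le_add_left h n)

instance addL_final (n : ℕ) : (addL n).Final :=
  (Monotone.final_functor_iff (f := fun k : ℕ => n + k)
    (fun _ _ h => Nat.add_le_add_left h n)).2 (fun j => ⟨j, Nat.le_add_left j n⟩)

/-- A strict `ℕ`-indexed projective system of modules with zero limit is zero. -/
theorem isZero_obj_of_isZero_limit (M : ℕᵒᵖ ⥤ ModuleCat.{u + 1} Λ)
    (hM : ∀ (a b : ℕ) (h : a ≤ b), Function.Surjective (M.map (homOfLE h).op))
    (h0 : IsZero (limit M)) (n : ℕ) : IsZero (M.obj (op n)) := by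
  have hl : IsLimit ((limit.cone M).whisker (addL n).op) :=
    (Functor.Initial.isLimitWhiskerEquiv (addL n).op _).symm (limit.isLimit M)
  have hs : Function.Surjective (((limit.cone M).whisker (addL n).op).π.app ⟨0⟩) :=
    Concrete.surjective_π_app_zero_of_surjective_map hl (fun k => hM _ _ _)
  have hsub := ModuleCat.isZero_iff_subsingleton.mp h0
  rw [ModuleCat.isZero_iff_subsingleton]
  refine ⟨fun a b => ?_⟩
  obtain ⟨a', rfl⟩ := hs a
  obtain ⟨b', rfl⟩ := hs b
  have e : a' = b' := @Subsingleton.elim _ hsub a' b'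
  rw [e]

open Groth.Agent.Lib.Helper17.ARSys1 in
set_option backward.isDefEq.respectTransparency false in
set_option backward.isDefEq.respectTransparency.types false in
/-- An inverse system of etale sheaves of modules which receives an isomorphism up to translation
from a strict system is null up to translation iff all limits of its stalk systems vanish. -/
theorem isARNull_iff {X : Scheme.{u}} (F Y : ARSys.PS (EtModW.Mod Λ X)) (v : Y ⟶ F)
    (hY : ARSys.IsStrict Y) (hv : ARSys.IsARIso v) :
    ARSys.IsARNull F ↔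
      ∀ (Ω : Type u) [Field Ω] [IsSepClosed Ω] (x : Spec (CommRingCat.of Ω) ⟶ X),
        IsZero (limit (F ⋙ EtModW.stalk Λ x)) := by
  constructor
  · rintro ⟨r, hr⟩ Ω _ _ x
    rw [IsZero.iff_id_eq_zero]
    apply limit.hom_ext
    rintro ⟨n⟩
    rw [zero_comp, Category.id_comp]
    have hw : limit.π (F ⋙ EtModW.stalk Λ x) (op (n + r)) ≫
        (F ⋙ EtModW.stalk Λ x).map (homOfLE (Nat.le_add_right n r)).op =
        limit.π (F ⋙ EtModW.stalk Λ x) (op n) := limit.w _ _
    rw [← hw]
    have e : (F ⋙ EtModW.stalk Λ x).map (homOfLE (Nat.le_add_right n r)).op =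
        (EtModW.stalk Λ x).map (ARSys.shiftMap F r n) := rfl
    rw [e, hr n, Functor.map_zero, comp_zero]
  · intro h
    have hYz : ∀ n, IsZero (Y.obj (op n)) := by
      intro n
      apply isZero_of_stalks
      intro Ω _ _ ξ
      have hiso : IsIso (limMap (Functor.whiskerRight v (EtModW.stalk Λ ξ))) :=
        isIso_limMap_of_isARIso _ (isARIso_whiskerRight (EtModW.stalk Λ ξ) v hv)
      have hlim : IsZero (limit (Y ⋙ EtModW.stalk Λ ξ)) :=
        (h Ω ξ).of_iso (asIso (limMap (Functor.whiskerRight v (EtModW.stalk Λ ξ))))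
      refine isZero_obj_of_isZero_limit (Y ⋙ EtModW.stalk Λ ξ) (fun a b hab => ?_) hlim n
      have : Epi (ARSys.tr Y hab) := hY a b hab
      have : Epi ((EtModW.stalk Λ ξ).map (ARSys.tr Y hab)) := inferInstance
      exact (ModuleCat.epi_iff_surjective _).mp this
    obtain ⟨r, w, h1, -⟩ := exists_inv_of_isARIso v hv
    refine ⟨r, fun n => ?_⟩
    rw [← h1 n]
    have : w.app (op n) = 0 := (hYz n).eq_of_tgt _ _
    rw [this, zero_comp]

end Groth.Agent.Lib.Seat61.ModStalk
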