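import Mathlib.RingTheory.Polynomial.Cyclotomic.Roots
import Mathlib.RingTheory.AdjoinRoot
import Mathlib.RingTheory.RootsOfUnity.Lemmas
import Mathlib.FieldTheory.KummerExtension
import Mathlib.RingTheory.LocalRing.Basic

/-!
# Seat61: roots of unity in a commutative ring containing a root of a cyclotomic polynomial

Let `R` be a commutative ring, `n ≥ 1`, and `ζ : R` a root of the `n`-th cyclotomic polynomial
(with integer coefficients). Then `ζ ^ n = 1`, `X ^ n - 1 = ∏ i < n, (X - ζ ^ i)` in `R[X]`, and if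
`n` is invertible in `R` the differences `ζ ^ i - ζ ^ j` (`i ≠ j`, `i, j < n`) are units.
-/

set_option autoImplicit false

open Polynomial

namespace Groth.Agent.Lib.Seat61.MuAlg

variable {R : Type*} [CommRing R]

section Universal

variable (n : ℕ)

/-- The universal ring `ℤ[X]/(Φ_n)`. -/
abbrev UnivRing : Type := AdjoinRoot (cyclotomic n ℤ)

instance univRing_isDomain [NeZero n] : IsDomain (UnivRing n) :=
  AdjoinRoot.isDomain_of_prime (cyclotomic.irreducible (Nat.pos_of_ne_zero (NeZero.ne n))).prime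

lemma univRing_of_injective [NeZero n] : Function.Injective (AdjoinRoot.of (cyclotomic n ℤ)) := by
  apply AdjoinRoot.of.injective_of_degree_ne_zero
  rw [degree_cyclotomic]
  have := Nat.totient_pos.2 (Nat.pos_of_ne_zero (NeZero.ne n))
  exact_mod_cast this.ne'

instance univRing_charZero [NeZero n] : CharZero (UnivRing n) := by
  refine ⟨fun a b hab => ?_⟩
  have h : (AdjoinRoot.of (cyclotomic n ℤ)) (a : ℤ) = (AdjoinRoot.of (cyclotomic n ℤ)) (b : ℤ) := by
    simpa using hab
  exact_mod_cast univRing_of_injective n h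

lemma univRing_isPrimitiveRoot [NeZero n] :
    IsPrimitiveRoot (AdjoinRoot.root (cyclotomic n ℤ)) n := by
  have : NeZero ((n : ℕ) : UnivRing n) := ⟨by exact_mod_cast NeZero.ne n⟩
  rw [← isRoot_cyclotomic_iff]
  have := AdjoinRoot.isRoot_root (cyclotomic n ℤ)
  rwa [map_cyclotomic] at this

end Universal

variable {n : ℕ} {ζ : R}

/-- The ring homomorphism from the universal ring sending the root to `ζ`. -/
noncomputable def univHom (hζ : aeval ζ (cyclotomic n ℤ) = 0) : UnivRing n →+* R :=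
  AdjoinRoot.lift (Int.castRingHom R) ζ (by
    rw [← hζ, aeval_def, algebraMap_int_eq])

lemma univHom_root (hζ : aeval ζ (cyclotomic n ℤ) = 0) :
    univHom hζ (AdjoinRoot.root (cyclotomic n ℤ)) = ζ := by
  simp [univHom]

lemma pow_eq_one (hn : 1 ≤ n) (hζ : aeval ζ (cyclotomic n ℤ) = 0) : ζ ^ n = 1 := by
  have : NeZero n := ⟨by omega⟩
  have h := (univRing_isPrimitiveRoot n).pow_eq_one
  have := congrArg (univHom hζ) h
  simpa [univHom_root] using this

lemma X_pow_sub_one_eq_prod (hn : 1 ≤ n) (hζ : aeval ζ (cyclotomic n ℤ) = 0) :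
    (X ^ n - 1 : R[X]) = ∏ i ∈ Finset.range n, (X - C (ζ ^ i)) := by
  have : NeZero n := ⟨by omega⟩
  have h := _root_.X_pow_sub_C_eq_prod (univRing_isPrimitiveRoot n) (by omega : 0 < n) (one_pow n)
  have := congrArg (Polynomial.map (univHom hζ)) h
  simpa [Polynomial.map_prod, univHom_root] using this

lemma isUnit_self (hn : 1 ≤ n) (hζ : aeval ζ (cyclotomic n ℤ) = 0) : IsUnit ζ := by
  have h := pow_eq_one hn hζ
  exact IsUnit.of_pow_eq_one h (by omega)

/-- the product of the differences `ζ ^ k - ζ ^ i`, `i ≠ k`, is `n * ζ ^ (k * (n - 1))`. -/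
lemma prod_sub_eq (hn : 1 ≤ n) (hζ : aeval ζ (cyclotomic n ℤ) = 0) (k : ℕ) (hk : k < n) :
    ∏ i ∈ (Finset.range n).erase k, (ζ ^ k - ζ ^ i) = (n : R) * (ζ ^ k) ^ (n - 1) := by
  have h := X_pow_sub_one_eq_prod hn hζ
  rw [← Finset.mul_prod_erase _ _ (Finset.mem_range.2 hk)] at h
  have hd := congrArg (fun p => eval (ζ ^ k) (derivative p)) h
  simp only [derivative_sub, derivative_X_pow, derivative_one, sub_zero, derivative_mul,
    derivative_X, derivative_C, eval_add, eval_mul, eval_sub, eval_X, eval_C, sub_self,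
    zero_mul, add_zero, one_mul, eval_pow, eval_prod] at hd
  rw [← hd]

lemma isUnit_sub (hn : 1 ≤ n) (hζ : aeval ζ (cyclotomic n ℤ) = 0) (hunit : IsUnit (n : R))
    {i k : ℕ} (hi : i < n) (hk : k < n) (hik : i ≠ k) : IsUnit (ζ ^ k - ζ ^ i) := by
  have h := prod_sub_eq hn hζ k hk
  have hu : IsUnit (∏ i ∈ (Finset.range n).erase k, (ζ ^ k - ζ ^ i)) := by
    rw [h]
    exact hunit.mul (((isUnit_self hn hζ).pow k).pow (n - 1))
  exact (IsUnit.prod_iff.1 hu) i (Finset.mem_erase.2 ⟨hik, Finset.mem_range.2 hi⟩)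

/-- for an `n`-th root of unity `w`, `(w - ζ ^ i) * ∏_{j ≠ i} (w - ζ ^ j) = 0`. -/
lemma sub_mul_prod_erase (hn : 1 ≤ n) (hζ : aeval ζ (cyclotomic n ℤ) = 0) (w : R) (hw : w ^ n = 1)
    (i : ℕ) (hi : i < n) :
    (w - ζ ^ i) * ∏ j ∈ (Finset.range n).erase i, (w - ζ ^ j) = 0 := by
  rw [Finset.mul_prod_erase (Finset.range n) (fun j => w - ζ ^ j) (Finset.mem_range.2 hi)]
  have h := X_pow_sub_one_eq_prod hn hζ
  have h2 := congrArg (Polynomial.eval w) h
  simp only [eval_sub, eval_pow, eval_X, eval_one, eval_prod, eval_C] at h2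
  rw [← h2, hw, sub_self]

/-- for an `n`-th root of unity `w` and a homomorphism `φ` to a local ring, there is `i < n` such
that `φ` maps `∏_{j ≠ i} (w - ζ ^ j)` to a unit. -/
lemma exists_isUnit_map_prod_erase {L : Type*} [CommRing L] [IsLocalRing L] (φ : R →+* L)
    (hn : 1 ≤ n) (hζ : aeval ζ (cyclotomic n ℤ) = 0) (hunit : IsUnit (n : R))
    (w : R) (hw : w ^ n = 1) :
    ∃ i, i < n ∧ IsUnit (φ (∏ j ∈ (Finset.range n).erase i, (w - ζ ^ j))) := by
  have hprod : ∏ j ∈ Finset.range n, φ (w - ζ ^ j) = 0 := by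
    rw [← map_prod]
    have h := X_pow_sub_one_eq_prod hn hζ
    have h2 := congrArg (Polynomial.eval w) h
    simp only [eval_sub, eval_pow, eval_X, eval_one, eval_prod, eval_C] at h2
    rw [← h2, hw, sub_self, map_zero]
  have hex : ∃ i ∈ Finset.range n, ¬ IsUnit (φ (w - ζ ^ i)) := by
    by_contra hcon
    push Not at hcon
    have : IsUnit (∏ j ∈ Finset.range n, φ (w - ζ ^ j)) := IsUnit.prod_iff.2 hcon
    rw [hprod] at this
    exact not_isUnit_zero this
  obtain ⟨i, hi, hnu⟩ := hex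
  rw [Finset.mem_range] at hi
  refine ⟨i, hi, ?_⟩
  rw [map_prod]
  refine IsUnit.prod_iff.2 (fun j hj => ?_)
  obtain ⟨hji, hj⟩ := Finset.mem_erase.1 hj
  rw [Finset.mem_range] at hj
  have hu : IsUnit (φ (ζ ^ i - ζ ^ j)) := (isUnit_sub hn hζ hunit hj hi hji).map φ
  by_contra hcon
  have hmem : φ (w - ζ ^ j) ∈ nonunits L := hcon
  have hmem2 : φ (w - ζ ^ i) ∈ nonunits L := hnu
  have : φ (ζ ^ i - ζ ^ j) ∈ nonunits L := by
    have h3 : φ (ζ ^ i - ζ ^ j) = φ (w - ζ ^ j) + (- φ (w - ζ ^ i)) := by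
      simp only [map_sub]; ring
    rw [h3]
    refine IsLocalRing.nonunits_add hmem ?_
    rw [mem_nonunits_iff, IsUnit.neg_iff]
    exact hmem2
  exact this hu

end Groth.Agent.Lib.Seat61.MuAlg
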