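import Groth.Prelude.Def_EtGm
import Groth.Agent.Lib.Seat61MuAlg
import Mathlib.CategoryTheory.Sites.LocallyBijective
import Mathlib.CategoryTheory.Sites.ConstantSheaf
import Mathlib.Data.ZMod.Basic

/-!
# Seat61: `μ_n ≅ ℤ/n` on the small étale site when a root of the cyclotomic polynomial exists
-/

set_option autoImplicit false

universe u

open CategoryTheory CategoryTheory.Limits AlgebraicGeometry Opposite

namespace Groth.Agent.Lib.Seat61.MuConst

open Groth.Agent.Lib.Seat61.MuAlg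

variable {S : Scheme.{u}} {n : ℕ}

section Data

variable (hn : 1 ≤ n) {ζ : Γ(S, ⊤)} (hζ : Polynomial.aeval ζ (Polynomial.cyclotomic n ℤ) = 0)

/-- `ζ` as a unit. -/
noncomputable def zetaUnit : (Γ(S, ⊤))ˣ := (isUnit_self hn hζ).unit

@[simp] lemma zetaUnit_val : ((zetaUnit hn hζ : (Γ(S, ⊤))ˣ) : Γ(S, ⊤)) = ζ := IsUnit.unit_spec _

lemma zetaUnit_pow : (zetaUnit hn hζ) ^ n = 1 := by
  apply Units.ext
  simp [pow_eq_one hn hζ]

/-- restriction of global functions to an étale `S`-scheme. -/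
noncomputable def resHom (U : S.Etale) : Γ(S, ⊤) →+* Γ(U.left, ⊤) := U.hom.appTop.hom

/-- restriction of functions along a morphism of étale `S`-schemes. -/
noncomputable def mapHom {U V : S.Etale} (g : V ⟶ U) : Γ(U.left, ⊤) →+* Γ(V.left, ⊤) :=
  g.left.appTop.hom

lemma mapHom_resHom {U V : S.Etale} (g : V ⟶ U) (x : Γ(S, ⊤)) :
    mapHom g (resHom U x) = resHom V x := by
  have h : g.left ≫ U.hom = V.hom := Over.w g.hom
  simp only [mapHom, resHom]
  rw [← h, Scheme.Hom.comp_appTop]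
  rfl

/-- `ζ` restricted to an étale `S`-scheme, as a unit. -/
noncomputable def zetaOn (U : S.Etale) : (Γ(U.left, ⊤))ˣ :=
  Units.map (resHom U).toMonoidHom (zetaUnit hn hζ)

@[simp] lemma zetaOn_val (U : S.Etale) :
    ((zetaOn hn hζ U : (Γ(U.left, ⊤))ˣ) : Γ(U.left, ⊤)) = resHom U ζ := by
  simp [zetaOn]

lemma zetaOn_pow (U : S.Etale) : (zetaOn hn hζ U) ^ n = 1 := by
  rw [zetaOn, ← map_pow, zetaUnit_pow, map_one]

lemma zetaOn_map {U V : S.Etale} (g : V ⟶ U) :
    Units.map (mapHom g).toMonoidHom (zetaOn hn hζ U) = zetaOn hn hζ V := by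
  apply Units.ext
  simp [mapHom_resHom]

/-- The homomorphism `ℤ/n → (Γ(U, O_U)ˣ, written additively)`, `a ↦ ζ ^ a`. -/
noncomputable def zmodHom (U : S.Etale) : ZMod n →+ Additive (Γ(U.left, ⊤))ˣ :=
  ZMod.lift n ⟨zmultiplesHom _ (Additive.ofMul (zetaOn hn hζ U)), by
    simp only [zmultiplesHom_apply, natCast_zsmul]
    rw [← ofMul_pow, zetaOn_pow]
    rfl⟩

lemma zmodHom_natCast (U : S.Etale) (a : ℕ) :
    zmodHom hn hζ U (a : ZMod n) = Additive.ofMul ((zetaOn hn hζ U) ^ a) := by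
  have : ((a : ℤ) : ZMod n) = (a : ZMod n) := by push_cast; rfl
  rw [zmodHom, ← this, ZMod.lift_coe]
  simp

/-- the constant presheaf with value `ℤ/n` (lifted to the universe of étale sheaves). -/
noncomputable abbrev constPre (S : Scheme.{u}) (n : ℕ) : S.Etaleᵒᵖ ⥤ AddCommGrpCat.{u + 1} :=
  (Functor.const _).obj (AddCommGrpCat.of (ULift.{u + 1} (ZMod n)))

/-- The morphism of presheaves `ℤ/n → G_m`, `a ↦ ζ ^ a`. -/
noncomputable def toGm : constPre S n ⟶ (EtCoh.Gm S).obj where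
  app U := AddCommGrpCat.ofHom
    ((AddEquiv.ulift.symm.toAddMonoidHom.comp (zmodHom hn hζ U.unop)).comp
      AddEquiv.ulift.toAddMonoidHom)
  naturality U V g := by
    ext ⟨a⟩
    have : NeZero n := ⟨by omega⟩
    obtain ⟨a, rfl⟩ := ZMod.natCast_zmod_surjective a
    have h := zetaOn_map hn hζ g.unop
    simp only [Functor.const_obj_obj, Functor.const_obj_map]
    change ULift.up (zmodHom hn hζ V.unop (a : ZMod n)) =
      ((EtCoh.Gm S).obj.map g).hom (ULift.up (zmodHom hn hζ U.unop (a : ZMod n)))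
    rw [zmodHom_natCast, zmodHom_natCast, ← h, ← map_pow]
    rfl

lemma toGm_app_natCast (U : S.Etale) (a : ℕ) :
    ((toGm hn hζ).app (op U)).hom (ULift.up (a : ZMod n)) =
      ULift.up (Additive.ofMul ((zetaOn hn hζ U) ^ a)) := by
  change ULift.up (zmodHom hn hζ U (a : ZMod n)) = _
  rw [zmodHom_natCast]

lemma toGm_powMap : toGm hn hζ ≫ (EtCoh.powMap S n).hom = 0 := by
  ext U ⟨a⟩
  have : NeZero n := ⟨by omega⟩
  obtain ⟨a, rfl⟩ := ZMod.natCast_zmod_surjective a
  change ((n • 𝟙 (EtCoh.Gm S).obj : (EtCoh.Gm S).obj ⟶ (EtCoh.Gm S).obj).app U).hom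
    (((toGm hn hζ).app U).hom (ULift.up (a : ZMod n))) = 0
  rw [toGm_app_natCast]
  simp only [NatTrans.app_nsmul, NatTrans.id_app, AddCommGrpCat.hom_nsmul, AddCommGrpCat.hom_id,
    AddMonoidHom.coe_smul]
  change ULift.up (n • Additive.ofMul ((zetaOn hn hζ U.unop) ^ a)) = 0
  rw [← ofMul_pow, ← pow_mul, mul_comm, pow_mul, zetaOn_pow, one_pow]
  rfl

end Data

section Kernel

universe w

/-- A limit kernel fork in abelian groups is injective with image the kernel. -/
lemma kernelFork_ab {A B : AddCommGrpCat.{w}} {g : A ⟶ B} (c : KernelFork g) (hc : IsLimit c) :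
    Function.Injective c.ι.hom ∧ ∀ x : A, g.hom x = 0 → ∃ y : c.pt, c.ι.hom y = x := by
  constructor
  · have : Mono c.ι := mono_of_isLimit_fork hc
    exact (AddCommGrpCat.mono_iff_injective _).1 this
  · intro x hx
    let K : AddCommGrpCat.{w} := AddCommGrpCat.of (AddMonoidHom.ker g.hom)
    let i : K ⟶ A := AddCommGrpCat.ofHom (AddMonoidHom.ker g.hom).subtype
    have hi : i ≫ g = 0 := by
      ext ⟨y, hy⟩
      exact hy
    let l : K ⟶ c.pt := hc.lift (KernelFork.ofι i hi)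
    have hl : l ≫ c.ι = i := Fork.IsLimit.lift_ι hc
    refine ⟨l.hom ⟨x, hx⟩, ?_⟩
    have := congrArg (fun t => t.hom ⟨x, hx⟩) hl
    exact this

variable (S n)

/-- the underlying presheaf of `μ_n` with its inclusion into `G_m` is a kernel of the `n`-th power
map of presheaves. -/
noncomputable def muForkIsLimit :
    IsLimit ((KernelFork.ofι (EtCoh.muι S n) (kernel.condition (EtCoh.powMap S n))).map
      (sheafToPresheaf S.smallEtaleTopology AddCommGrpCat.{u + 1})) :=
  KernelFork.mapIsLimit _ (kernelIsKernel (EtCoh.powMap S n)) _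

/-- sections of `μ_n` inject into sections of `G_m`. -/
lemma muι_app_injective (U : S.Etale) :
    Function.Injective ((EtCoh.muι S n).hom.app (op U)).hom :=
  (kernelFork_ab _ (KernelFork.mapIsLimit _ (muForkIsLimit S n)
    ((evaluation _ _).obj (op U)))).1

/-- a section of `G_m` killed by `n` comes from `μ_n`. -/
lemma exists_mu_of_nsmul_eq_zero (U : S.Etale) (x : (EtCoh.Gm S).obj.obj (op U))
    (hx : n • x = 0) : ∃ y : (EtCoh.mu S n).obj.obj (op U),
      ((EtCoh.muι S n).hom.app (op U)).hom y = x := by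
  refine (kernelFork_ab _ (KernelFork.mapIsLimit _ (muForkIsLimit S n)
    ((evaluation _ _).obj (op U)))).2 x ?_
  change ((n • 𝟙 (EtCoh.Gm S).obj : (EtCoh.Gm S).obj ⟶ (EtCoh.Gm S).obj).app (op U)).hom x = 0
  simpa using hx

/-- sections of `μ_n` are killed by `n` in `G_m`. -/
lemma nsmul_muι_app (U : S.Etale) (y : (EtCoh.mu S n).obj.obj (op U)) :
    n • ((EtCoh.muι S n).hom.app (op U)).hom y = 0 := by
  have h : (EtCoh.muι S n).hom ≫ (EtCoh.powMap S n).hom = 0 := by
    have := kernel.condition (EtCoh.powMap S n)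
    exact congrArg (fun t => t.hom) this
  have h2 := congrArg (fun t => (t.app (op U)).hom y) h
  change ((n • 𝟙 (EtCoh.Gm S).obj : (EtCoh.Gm S).obj ⟶ (EtCoh.Gm S).obj).app (op U)).hom
    (((EtCoh.muι S n).hom.app (op U)).hom y) = 0 at h2
  simpa using h2

end Kernel

section Lift

variable (hn : 1 ≤ n) {ζ : Γ(S, ⊤)} (hζ : Polynomial.aeval ζ (Polynomial.cyclotomic n ℤ) = 0)

/-- The morphism of presheaves `ℤ/n → μ_n`, `a ↦ ζ ^ a`. -/
noncomputable def toMu : constPre S n ⟶ (EtCoh.mu S n).obj :=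
  (muForkIsLimit S n).lift (KernelFork.ofι (toGm hn hζ) (toGm_powMap hn hζ))

lemma toMu_ι : toMu hn hζ ≫ (EtCoh.muι S n).hom = toGm hn hζ :=
  Fork.IsLimit.lift_ι (muForkIsLimit S n)

lemma toMu_app_ι (U : S.Etale) (x : ULift.{u + 1} (ZMod n)) :
    ((EtCoh.muι S n).hom.app (op U)).hom (((toMu hn hζ).app (op U)).hom x) =
      ((toGm hn hζ).app (op U)).hom x := by
  have := congrArg (fun t => (t.app (op U)).hom x) (toMu_ι hn hζ)
  exact this

end Lift

section Empty

/-- a scheme on which `0` is invertible is empty. -/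
lemma isEmpty_of_isUnit_zero (X : Scheme.{u}) (h : IsUnit (0 : Γ(X, ⊤))) : IsEmpty X := by
  have h1 := X.basicOpen_of_isUnit h
  rw [Scheme.basicOpen_zero] at h1
  constructor
  intro x
  have : x ∈ (⊤ : X.Opens) := trivial
  rw [← h1] at this
  exact this

/-- over an empty étale scheme every sieve is covering. -/
lemma mem_smallEtaleTopology_of_isEmpty (U : S.Etale) [IsEmpty U.left] (R : Sieve U) :
    R ∈ S.smallEtaleTopology U := by
  have h : Sieve.ofArrows (fun i : PEmpty.{1} => (i.elim : S.Etale)) (fun i => (i.elim : _ ⟶ U)) ∈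
      S.smallEtaleTopology U := by
    rw [Scheme.ofArrows_mem_smallEtaleTopology_iff]
    ext x
    exact isEmptyElim x
  refine S.smallEtaleTopology.superset_covering ?_ h
  rintro V g ⟨_, _, _, ⟨i⟩, _⟩
  exact i.elim

end Empty

section LocInj

variable (hn : 1 ≤ n) {ζ : Γ(S, ⊤)} (hζ : Polynomial.aeval ζ (Polynomial.cyclotomic n ℤ) = 0)
  (hunit : IsUnit (n : Γ(S, ⊤)))

include hunit in
lemma isLocallyInjective_toMu :
    Presheaf.IsLocallyInjective S.smallEtaleTopology (toMu hn hζ) := by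
  have : NeZero n := ⟨by omega⟩
  refine ⟨fun {U} x y h => ?_⟩
  obtain ⟨U⟩ := U
  obtain ⟨a⟩ := x
  obtain ⟨b⟩ := y
  by_cases hab : a = b
  · subst hab
    rw [Presheaf.equalizerSieve_self_eq_top]
    exact S.smallEtaleTopology.top_mem _
  · -- `ζ ^ a = ζ ^ b` on `U` with `a ≠ b`: then `U` is empty
    have h1 := congrArg ((EtCoh.muι S n).hom.app (op U)).hom h
    rw [toMu_app_ι, toMu_app_ι] at h1
    rw [← ZMod.natCast_zmod_val a, ← ZMod.natCast_zmod_val b, toGm_app_natCast,
      toGm_app_natCast] at h1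
    have h2 : (zetaOn hn hζ U) ^ a.val = (zetaOn hn hζ U) ^ b.val :=
      Additive.ofMul.injective (ULift.up_injective h1)
    have h3 : resHom U (ζ ^ b.val - ζ ^ a.val) = 0 := by
      have := congrArg (fun t : (Γ(U.left, ⊤))ˣ => (t : Γ(U.left, ⊤))) h2
      simp only [Units.val_pow_eq_pow_val, zetaOn_val] at this
      rw [map_sub, map_pow, map_pow, this, sub_self]
    have hne : a.val ≠ b.val := fun hv => hab (ZMod.val_injective n hv)
    have h4 : IsUnit (ζ ^ b.val - ζ ^ a.val) :=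
      isUnit_sub hn hζ hunit (ZMod.val_lt a) (ZMod.val_lt b) hne
    have h5 : IsUnit (0 : Γ(U.left, ⊤)) := h3 ▸ h4.map (resHom U)
    have : IsEmpty U.left := isEmpty_of_isUnit_zero _ h5
    exact mem_smallEtaleTopology_of_isEmpty U _

end LocInj

section LocSurj

variable (hn : 1 ≤ n) {ζ : Γ(S, ⊤)} (hζ : Polynomial.aeval ζ (Polynomial.cyclotomic n ℤ) = 0)
  (hunit : IsUnit (n : Γ(S, ⊤)))

include hζ in
lemma aeval_resHom (U : S.Etale) :
    Polynomial.aeval (resHom U ζ) (Polynomial.cyclotomic n ℤ) = 0 := by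
  have := Polynomial.aeval_algHom_apply (resHom U).toIntAlgHom ζ (Polynomial.cyclotomic n ℤ)
  rw [hζ, map_zero] at this
  exact this

/-- the product of the `w - ζ ^ j`, `j ≠ i`. -/
noncomputable def eFun (ζ : Γ(S, ⊤)) (n : ℕ) (U : S.Etale) (w : Γ(U.left, ⊤)) (i : ℕ) :
    Γ(U.left, ⊤) :=
  ∏ j ∈ (Finset.range n).erase i, (w - (resHom U ζ) ^ j)

include hn hζ in
lemma sub_mul_eFun (U : S.Etale) (w : Γ(U.left, ⊤)) (hw : w ^ n = 1) (i : ℕ) (hi : i < n) :
    (w - (resHom U ζ) ^ i) * eFun ζ n U w i = 0 :=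
  sub_mul_prod_erase hn (aeval_resHom hζ U) w hw i hi

include hn hζ hunit in
lemma exists_mem_basicOpen_eFun (U : S.Etale) (w : Γ(U.left, ⊤)) (hw : w ^ n = 1) (p : U.left) :
    ∃ i, i < n ∧ p ∈ U.left.basicOpen (eFun ζ n U w i) := by
  let φ : Γ(U.left, ⊤) →+* U.left.presheaf.stalk p := (U.left.presheaf.germ ⊤ p trivial).hom
  have hunit' : IsUnit (n : Γ(U.left, ⊤)) := by
    have := hunit.map (resHom U)
    rwa [map_natCast] at this
  obtain ⟨i, hi, hu⟩ := exists_isUnit_map_prod_erase φ hn (aeval_resHom hζ U) hunit' w hw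
  refine ⟨i, hi, ?_⟩
  rw [Scheme.mem_basicOpen_top]
  exact hu

/-- a global function whose basic open is everything is a unit. -/
lemma isUnit_of_basicOpen_eq_top (X : Scheme.{u}) (f : Γ(X, ⊤)) (h : X.basicOpen f = ⊤) :
    IsUnit f := by
  apply X.toRingedSpace.isUnit_of_isUnit_germ ⊤ f
  intro x hx
  have hx' : x ∈ X.basicOpen f := by rw [h]; trivial
  exact (X.mem_basicOpen f x hx).1 hx'

/-- the étale `S`-scheme given by a basic open of an étale `S`-scheme. -/
noncomputable def basicEt (U : S.Etale) (e : Γ(U.left, ⊤)) : S.Etale :=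
  Scheme.Etale.mk ((U.left.basicOpen e).ι ≫ U.hom)

/-- the inclusion of a basic open, as a morphism of the small étale site. -/
noncomputable def basicEtHom (U : S.Etale) (e : Γ(U.left, ⊤)) : basicEt U e ⟶ U :=
  MorphismProperty.Over.homMk (U.left.basicOpen e).ι rfl

lemma range_basicEtHom (U : S.Etale) (e : Γ(U.left, ⊤)) :
    Set.range (basicEtHom U e).left = (U.left.basicOpen e : Set U.left) :=
  Scheme.Opens.range_ι _

lemma isUnit_appTop_basicOpen_ι (X : Scheme.{u}) (e : Γ(X, ⊤)) :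
    IsUnit ((X.basicOpen e).ι.appTop.hom e) := by
  apply isUnit_of_basicOpen_eq_top
  have h := Scheme.preimage_basicOpen_top (X.basicOpen e).ι e
  exact h.symm.trans (Scheme.Opens.ι_preimage_self _)

lemma isUnit_mapHom_basicEtHom (U : S.Etale) (e : Γ(U.left, ⊤)) :
    IsUnit (mapHom (basicEtHom U e) e) :=
  isUnit_appTop_basicOpen_ι U.left e

include hunit in
lemma isLocallySurjective_toMu :
    Presheaf.IsLocallySurjective S.smallEtaleTopology (toMu hn hζ) := by
  refine ⟨fun {U} s => ?_⟩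
  obtain ⟨w, hxw⟩ : ∃ w : (Γ(U.left, ⊤))ˣ,
      ((EtCoh.muι S n).hom.app (op U)).hom s = ULift.up (Additive.ofMul w) :=
    ⟨Additive.toMul (((EtCoh.muι S n).hom.app (op U)).hom s).down, rfl⟩
  have hxn := nsmul_muι_app S n U s
  rw [hxw] at hxn
  have hw : w ^ n = 1 := by
    have h1 : Additive.ofMul (w ^ n) = 0 := by
      rw [ofMul_pow]
      exact congrArg ULift.down hxn
    exact Additive.ofMul.injective h1
  have hw' : (w : Γ(U.left, ⊤)) ^ n = 1 := by
    rw [← Units.val_pow_eq_pow_val, hw, Units.val_one]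
  have hcov : Sieve.ofArrows (fun i : Fin n => basicEt U (eFun ζ n U (w : Γ(U.left, ⊤)) i))
      (fun i => basicEtHom U (eFun ζ n U (w : Γ(U.left, ⊤)) i)) ∈ S.smallEtaleTopology U := by
    rw [Scheme.ofArrows_mem_smallEtaleTopology_iff]
    ext p
    simp only [Set.mem_iUnion, Set.mem_univ, iff_true]
    obtain ⟨i, hi, hp⟩ := exists_mem_basicOpen_eFun hn hζ hunit U (w : Γ(U.left, ⊤)) hw' p
    refine ⟨⟨i, hi⟩, ?_⟩
    rw [range_basicEtHom]
    exact hp
  refine S.smallEtaleTopology.superset_covering ?_ hcov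
  rintro V g ⟨W, a, b, ⟨i⟩, rfl⟩
  apply Sieve.downward_closed
  obtain ⟨i, hi⟩ := i
  set e := eFun ζ n U (w : Γ(U.left, ⊤)) i with he
  refine ⟨ULift.up ((i : ℕ) : ZMod n), ?_⟩
  apply muι_app_injective
  rw [toMu_app_ι, toGm_app_natCast]
  have hnat := congrArg (fun t => t.hom s) ((EtCoh.muι S n).hom.naturality (basicEtHom U e).op)
  simp only [AddCommGrpCat.hom_comp, AddMonoidHom.coe_comp, Function.comp_apply] at hnat
  erw [hnat, hxw]
  change _ = ULift.up (Additive.ofMul (Units.map (mapHom (basicEtHom U e)).toMonoidHom w))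
  congr 2
  apply Units.ext
  simp only [Units.val_pow_eq_pow_val, zetaOn_val, Units.coe_map, MonoidHom.coe_coe,
    RingHom.toMonoidHom_eq_coe]
  rw [← mapHom_resHom (basicEtHom U e), ← map_pow]
  have h0 := sub_mul_eFun hn hζ U (w : Γ(U.left, ⊤)) hw' i hi
  have h1 := congrArg (mapHom (basicEtHom U e)) h0
  rw [map_mul, map_zero] at h1
  have h2 := (isUnit_mapHom_basicEtHom U e).mul_left_eq_zero.1 h1
  rw [map_sub, sub_eq_zero] at h2
  exact h2.symm

end LocSurj

/-- **`μ_n` is constant when a root of the cyclotomic polynomial exists**. -/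
theorem nonempty_mu_iso_const (S : Scheme.{u}) (n : ℕ) (hn : 1 ≤ n)
    (hunit : IsUnit (n : Γ(S, ⊤))) (ζ : Γ(S, ⊤))
    (hζ : Polynomial.aeval ζ (Polynomial.cyclotomic n ℤ) = 0) :
    Nonempty (EtCoh.mu S n ≅ EtCoh.const S (ZMod n)) := by
  have h1 := isLocallyInjective_toMu hn hζ hunit
  have h2 := isLocallySurjective_toMu hn hζ hunit
  have hW : S.smallEtaleTopology.W (toMu hn hζ) :=
    GrothendieckTopology.W_of_isLocallyBijective _ _
  have hiso : IsIso ((presheafToSheaf S.smallEtaleTopology AddCommGrpCat.{u + 1}).map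
      (toMu hn hζ)) :=
    (GrothendieckTopology.W_iff_isIso_map_of_adjunction _
      (sheafificationAdjunction S.smallEtaleTopology AddCommGrpCat.{u + 1}) _).1 hW
  let e1 : EtCoh.const S (ZMod n) ≅
      (presheafToSheaf S.smallEtaleTopology AddCommGrpCat.{u + 1}).obj (EtCoh.mu S n).obj :=
    @asIso _ _ _ _ ((presheafToSheaf S.smallEtaleTopology AddCommGrpCat.{u + 1}).map
      (toMu hn hζ)) hiso
  let e2 : (presheafToSheaf S.smallEtaleTopology AddCommGrpCat.{u + 1}).obj (EtCoh.mu S n).obj ≅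
      EtCoh.mu S n :=
    asIso ((sheafificationAdjunction S.smallEtaleTopology AddCommGrpCat.{u + 1}).counit.app
      (EtCoh.mu S n))
  exact ⟨(e1 ≪≫ e2).symm⟩

end Groth.Agent.Lib.Seat61.MuConst
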