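import Mathlib
import Groth.Agent.Lib.Seat61NormalOrd

/-!
# Principal radical ideals in two-dimensional normal local domains (seat 61)

`exists_isRadical_span_singleton`: for finitely many height-one primes of a Noetherian normal
local domain of dimension two there is a nonzero `f` in all of them with `(f)` radical.

The proof is iterative: given `h` and a parameter `x` modulo `h`, replace `h` by `h + x * u`
where `u` is chosen (prime avoidance) so that every minimal prime over `(h)` acquires order one;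
either no new prime appears and `(h + x * u)` is radical, or `rad (h) + (x)` strictly shrinks
inside the Artinian ring `R / (h, x)`.
-/

set_option autoImplicit false
set_option linter.style.haveILetI false
set_option linter.unusedSectionVars false

namespace Groth.Agent.Lib.Seat61.NormalDim2

open IsLocalRing Groth.Agent.Lib.Seat61.NormalOrd

variable {R : Type*} [CommRing R] [IsDomain R] [IsNoetherianRing R] [IsIntegrallyClosed R]

/-- An element of `q` of order one lying in none of the other primes of `Q`. -/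
lemma exists_ord_one_avoid (Q : Finset (Ideal R)) (hQ : ∀ q ∈ Q, q.IsPrime ∧ q.height = 1)
    (q : Ideal R) (hq : q ∈ Q) : ∃ a : R, ord q a = 1 ∧ ∀ q' ∈ Q, q' ≠ q → ord q' a = 0 := by
  classical
  haveI := (hQ q hq).1
  have hq1 := (hQ q hq).2
  set q2 := ordIdeal q hq1 2 with hq2
  have hnot : ¬ ((q : Set R) ⊆ ⋃ i ∈ ((insert q2 (Q.erase q) : Finset (Ideal R)) : Set (Ideal R)),
      ((fun i => i) i : Ideal R)) := by
    rw [Ideal.subset_union_prime (f := fun i => i) q2 q2]
    · rintro ⟨i, hi, hle⟩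
      rcases Finset.mem_insert.mp hi with rfl | hi
      · obtain ⟨t, htq, ht1⟩ := exists_ord_eq_one q hq1
        have := hle htq
        rw [hq2, mem_ordIdeal, ht1] at this
        exact absurd this (by decide)
      · have hiQ := Finset.mem_of_mem_erase hi
        have hne := Finset.ne_of_mem_erase hi
        haveI := (hQ i hiQ).1
        have hi1 := (hQ i hiQ).2
        haveI : i.FiniteHeight := ⟨Or.inr (by rw [hi1]; exact ENat.one_ne_top)⟩
        have hlt : q < i := lt_of_le_of_ne hle (Ne.symm hne)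
        have := Ideal.height_strict_mono_of_isPrime_of_isPrime hlt
        rw [hq1, hi1] at this
        exact lt_irrefl _ this
    · intro i hi h1 _
      rcases Finset.mem_insert.mp hi with rfl | hi
      · exact absurd rfl h1
      · exact (hQ i (Finset.mem_of_mem_erase hi)).1
  rw [Set.not_subset] at hnot
  obtain ⟨a, haq, hau⟩ := hnot
  simp only [Finset.coe_insert, Set.mem_iUnion, not_exists] at hau
  refine ⟨a, ?_, ?_⟩
  · have h1 : 1 ≤ ord q a := (one_le_ord_iff q hq1).mpr haq
    have h2 : ¬ (2 : ℕ∞) ≤ ord q a := fun h => hau q2 (Set.mem_insert _ _) h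
    have h3 : ord q a < 1 + 1 := by rw [one_add_one_eq_two]; exact not_le.mp h2
    exact le_antisymm ((ENat.lt_add_one_iff ENat.one_ne_top).mp h3) h1
  · intro q' hq' hne
    haveI := (hQ q' hq').1
    rw [ord_eq_zero_iff q' (hQ q' hq').2]
    exact fun h => hau q' (Set.mem_insert_of_mem _ (Finset.mem_coe.mpr
      (Finset.mem_erase.mpr ⟨hne, hq'⟩))) h

/-- An element with prescribed (finite) orders at finitely many height-one primes. -/
lemma exists_ord_prescribed (Q : Finset (Ideal R)) (hQ : ∀ q ∈ Q, q.IsPrime ∧ q.height = 1)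
    (e : Ideal R → ℕ) : ∃ u : R, ∀ q ∈ Q, ord q u = e q := by
  classical
  have hex : ∀ q : Ideal R, ∃ a : R, q ∈ Q → (ord q a = 1 ∧ ∀ q' ∈ Q, q' ≠ q → ord q' a = 0) := by
    intro q
    by_cases hq : q ∈ Q
    · obtain ⟨a, ha⟩ := exists_ord_one_avoid Q hQ q hq
      exact ⟨a, fun _ => ha⟩
    · exact ⟨1, fun h => absurd h hq⟩
  choose a ha using hex
  refine ⟨∏ q ∈ Q, a q ^ e q, fun q0 hq0 => ?_⟩
  haveI := (hQ q0 hq0).1
  have h1 := (hQ q0 hq0).2
  rw [ord_prod q0 h1, Finset.sum_eq_single q0]
  · rw [ord_pow q0 h1, (ha q0 hq0).1, nsmul_one]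
  · intro q hq hne
    rw [ord_pow q0 h1, (ha q hq).2 q0 hq0 (Ne.symm hne), smul_zero]
  · exact fun h => absurd hq0 h

/-- The basic step: modify `h` along `x` so that all minimal primes over `(h)` get order one. -/
lemma exists_step {h x : R} (h0 : h ≠ 0)
    (hx : ∀ q ∈ (Ideal.span {h}).minimalPrimes, x ∉ q) :
    ∃ u : R, ∀ q ∈ (Ideal.span {h}).minimalPrimes, ord q (h + x * u) = 1 := by
  classical
  have hfin := Ideal.finite_minimalPrimes_of_isNoetherianRing R (Ideal.span {h})
  set Q := hfin.toFinset with hQdef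
  have hQ : ∀ q ∈ Q, q.IsPrime ∧ q.height = 1 := fun q hq => by
    have hq' := hfin.mem_toFinset.mp hq
    exact ⟨hq'.1.1, height_eq_one_of_mem_minimalPrimes h0 hq'⟩
  obtain ⟨u, hu⟩ := exists_ord_prescribed Q hQ (fun q => if 2 ≤ ord q h then 1 else 2)
  refine ⟨u, fun q hq => ?_⟩
  have hqQ : q ∈ Q := hfin.mem_toFinset.mpr hq
  haveI := (hQ q hqQ).1
  have h1 := (hQ q hqQ).2
  have hhq : h ∈ q := hq.1.2 (Ideal.mem_span_singleton_self h)
  have hordh : 1 ≤ ord q h := (one_le_ord_iff q h1).mpr hhq
  have hxu : ord q (x * u) = ord q u := by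
    rw [ord_mul q h1, (ord_eq_zero_iff q h1).mpr (hx q hq), zero_add]
  have huq := hu q hqQ
  by_cases h2 : 2 ≤ ord q h
  · rw [if_pos h2] at huq
    have hlt : ord q (x * u) < ord q h := by
      rw [hxu, huq]
      exact lt_of_lt_of_le (by decide) h2
    rw [add_comm, ord_add_eq_of_lt q h1 hlt, hxu, huq]
    rfl
  · rw [if_neg h2] at huq
    have hh1 : ord q h = 1 := by
      have h3 : ord q h < 1 + 1 := by rw [one_add_one_eq_two]; exact not_le.mp h2
      exact le_antisymm ((ENat.lt_add_one_iff ENat.one_ne_top).mp h3) hordh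
    have hlt : ord q h < ord q (x * u) := by
      rw [hxu, huq, hh1]
      decide
    rw [ord_add_eq_of_lt q h1 hlt, hh1]

section Local

variable [IsLocalRing R]

omit [IsDomain R] [IsNoetherianRing R] [IsIntegrallyClosed R] in
lemma maximalIdeal_height_eq_two (hdim : ringKrullDim R = 2) : (maximalIdeal R).height = 2 := by
  have h1 := IsLocalRing.maximalIdeal_height_eq_ringKrullDim (R := R)
  rw [hdim] at h1
  have h2 : ((maximalIdeal R).height : WithBot ℕ∞) = ((2 : ℕ∞) : WithBot ℕ∞) := by
    rw [h1]; rfl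
  exact WithBot.coe_injective h2

/-- Primes containing `(h, x)` are maximal when `x` avoids the minimal primes over `(h)`. -/
lemma eq_maximalIdeal_of_span_pair_le (hdim : ringKrullDim R = 2) {h x : R} (h0 : h ≠ 0)
    (hx : ∀ q ∈ (Ideal.span {h}).minimalPrimes, x ∉ q) (𝔭 : Ideal R) [𝔭.IsPrime]
    (hle : Ideal.span {h, x} ≤ 𝔭) : 𝔭 = maximalIdeal R := by
  have hm2 : (maximalIdeal R).height = 2 := maximalIdeal_height_eq_two hdim
  have hh𝔭 : h ∈ 𝔭 := hle (Ideal.subset_span (by simp))
  have hx𝔭 : x ∈ 𝔭 := hle (Ideal.subset_span (by simp))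
  obtain ⟨q, hq, hq𝔭⟩ := Ideal.exists_minimalPrimes_le
    ((Ideal.span_singleton_le_iff_mem 𝔭).mpr hh𝔭)
  haveI := hq.1.1
  have hq1 := height_eq_one_of_mem_minimalPrimes h0 hq
  have hlt : q < 𝔭 := lt_of_le_of_ne hq𝔭 (fun heq => hx q hq (heq ▸ hx𝔭))
  by_contra hne
  have hlt2 : 𝔭 < maximalIdeal R := lt_of_le_of_ne (le_maximalIdeal Ideal.IsPrime.ne_top') hne
  haveI : (maximalIdeal R).FiniteHeight := ⟨Or.inr (by rw [hm2]; exact ENat.natCast_ne_top 2)⟩
  have hfin𝔭 : 𝔭.FiniteHeight := Ideal.finiteHeight_of_le hlt2.le Ideal.IsPrime.ne_top'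
  have e1 := Ideal.height_strict_mono_of_isPrime_of_isPrime hlt
  have e2 := Ideal.height_strict_mono_of_isPrime_of_isPrime hlt2
  rw [hq1] at e1
  rw [hm2] at e2
  have e3 : 𝔭.height < 1 + 1 := by rw [one_add_one_eq_two]; exact e2
  exact absurd ((ENat.lt_add_one_iff ENat.one_ne_top).mp e3) (not_le.mpr e1)

/-- The quotient by an ideal all of whose primes are maximal is Artinian. -/
lemma isArtinianRing_quotient (J : Ideal R)
    (hJ : ∀ 𝔭 : Ideal R, 𝔭.IsPrime → J ≤ 𝔭 → 𝔭 = maximalIdeal R) : IsArtinianRing (R ⧸ J) := by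
  rw [isArtinianRing_iff_krullDimLE_zero, Ring.krullDimLE_zero_iff]
  intro P hP
  have hsurj : Function.Surjective (Ideal.Quotient.mk J) := Ideal.Quotient.mk_surjective
  have hc : (P.comap (Ideal.Quotient.mk J)) = maximalIdeal R := by
    refine hJ _ (Ideal.comap_isPrime _ P) ?_
    intro a ha
    rw [Ideal.mem_comap, Ideal.Quotient.eq_zero_iff_mem.mpr ha]
    exact P.zero_mem
  have : P = (maximalIdeal R).map (Ideal.Quotient.mk J) := by
    rw [← hc, Ideal.map_comap_of_surjective _ hsurj]
  rw [this]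
  refine Or.resolve_left (Ideal.map_eq_top_or_isMaximal_of_surjective _ hsurj
    (maximalIdeal.isMaximal R)) ?_
  intro htop
  rw [← hc, Ideal.map_comap_of_surjective _ hsurj] at htop
  exact hP.ne_top htop

/-- The iteration. -/
theorem loop (hdim : ringKrullDim R = 2) (J : Ideal R) (x : R) (hxm : x ∈ maximalIdeal R)
    (P : Finset (Ideal R)) (hP : ∀ p ∈ P, p.IsPrime ∧ p.height = 1)
    (hJ : ∀ 𝔭 : Ideal R, 𝔭.IsPrime → J ≤ 𝔭 → 𝔭 = maximalIdeal R) :
    ∀ (𝔞 : Ideal (R ⧸ J)) (h : R), h ≠ 0 → Ideal.span {h, x} = J → (∀ p ∈ P, ord p h = 1) →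
      ((Ideal.span {h}).radical ⊔ Ideal.span {x}).map (Ideal.Quotient.mk J) = 𝔞 →
      ∃ f : R, f ≠ 0 ∧ (∀ p ∈ P, f ∈ p) ∧ (Ideal.span {f}).IsRadical := by
  haveI := isArtinianRing_quotient J hJ
  have hm2 : (maximalIdeal R).height = 2 := maximalIdeal_height_eq_two hdim
  have hwf : WellFoundedLT (Ideal (R ⧸ J)) := inferInstanceAs (WellFoundedLT (Submodule _ _))
  intro 𝔞
  induction 𝔞 using hwf.induction with
  | _ 𝔞 ih =>
  intro h h0 hspan hPh h𝔞
  have hPmem : ∀ p ∈ P, h ∈ p := fun p hp => by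
    haveI := (hP p hp).1
    rw [← one_le_ord_iff p (hP p hp).2, hPh p hp]
  -- `x` avoids the minimal primes over `(h)`
  have hx : ∀ q ∈ (Ideal.span {h}).minimalPrimes, x ∉ q := by
    intro q hq hxq
    haveI := hq.1.1
    have hle : J ≤ q := by
      rw [← hspan, Ideal.span_le]
      intro z hz
      rcases hz with rfl | rfl
      · exact hq.1.2 (Ideal.mem_span_singleton_self _)
      · exact hxq
    have := hJ q inferInstance hle
    have h1 := height_eq_one_of_mem_minimalPrimes h0 hq
    rw [this, hm2] at h1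
    exact absurd h1 (by decide)
  by_cases htop : Ideal.span {h} = ⊤
  · exact ⟨h, h0, hPmem, by rw [htop]; exact fun y _ => Submodule.mem_top⟩
  obtain ⟨⟨q0, hq0⟩⟩ := Ideal.nonempty_minimalPrimes htop
  obtain ⟨u, hu⟩ := exists_step h0 hx
  set h' := h + x * u with hh'
  have h0' : h' ≠ 0 := by
    intro hz
    haveI := hq0.1.1
    have h1 := height_eq_one_of_mem_minimalPrimes h0 hq0
    have := hu q0 hq0
    rw [hz, (ord_eq_top_iff q0 h1).mpr rfl] at this
    exact absurd this (by decide)
  have hspan' : Ideal.span {h', x} = J := by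
    rw [← hspan, hh', Ideal.span_pair_add_right_mul]
  have hsub : (Ideal.span {h}).minimalPrimes ⊆ (Ideal.span {h'}).minimalPrimes := by
    intro q hq
    haveI := hq.1.1
    have h1 := height_eq_one_of_mem_minimalPrimes h0 hq
    refine mem_minimalPrimes_of_height_one h0' q h1 ?_
    rw [← one_le_ord_iff q h1, hu q hq]
  have hPmin : ∀ p ∈ P, p ∈ (Ideal.span {h}).minimalPrimes := fun p hp => by
    haveI := (hP p hp).1
    exact mem_minimalPrimes_of_height_one h0 p (hP p hp).2 (hPmem p hp)
  have hPh' : ∀ p ∈ P, ord p h' = 1 := fun p hp => hu p (hPmin p hp)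
  by_cases hcase : (Ideal.span {h'}).minimalPrimes ⊆ (Ideal.span {h}).minimalPrimes
  · refine ⟨h', h0', fun p hp => ?_, ?_⟩
    · haveI := (hP p hp).1
      rw [← one_le_ord_iff p (hP p hp).2, hPh' p hp]
    · exact isRadical_span_singleton h0' fun q hq => hu q (hcase hq)
  · obtain ⟨q', hq', hq'n⟩ := Set.not_subset.mp hcase
    haveI := hq'.1.1
    have hq'1 := height_eq_one_of_mem_minimalPrimes h0' hq'
    set N := (Ideal.span {h}).radical with hN
    set N' := (Ideal.span {h'}).radical with hN'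
    have hNN : N' ≤ N := by
      rw [hN, hN', ← Ideal.sInf_minimalPrimes, ← Ideal.sInf_minimalPrimes]
      exact sInf_le_sInf hsub
    have hne : N' ⊔ Ideal.span {x} ≠ N ⊔ Ideal.span {x} := by
      intro heq
      have hle : N ≤ N' ⊔ Ideal.span {x} • N := by
        intro n hn
        have hn' : n ∈ N' ⊔ Ideal.span {x} := heq ▸ (le_sup_left : N ≤ N ⊔ Ideal.span {x}) hn
        obtain ⟨n', hn'N, z, hz, rfl⟩ := Submodule.mem_sup.mp hn'
        obtain ⟨r, rfl⟩ := Ideal.mem_span_singleton'.mp hz
        have hrx : r * x ∈ N := by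
          have := N.sub_mem hn (hNN hn'N)
          rwa [add_sub_cancel_left] at this
        have hr : r ∈ N := by
          rw [hN, ← Ideal.sInf_minimalPrimes, Submodule.mem_sInf]
          intro q hq
          haveI := hq.1.1
          have : r * x ∈ q := by
            have h2 : N ≤ q := by
              rw [hN, ← Ideal.sInf_minimalPrimes]
              exact sInf_le hq
            exact h2 hrx
          exact (Ideal.IsPrime.mem_or_mem inferInstance this).resolve_right (hx q hq)
        refine Submodule.add_mem_sup hn'N ?_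
        rw [smul_eq_mul, mul_comm r x]
        exact Ideal.mul_mem_mul (Ideal.mem_span_singleton_self x) hr
      have hjac : Ideal.span {x} ≤ Ideal.jacobson (⊥ : Ideal R) := by
        rw [IsLocalRing.jacobson_eq_maximalIdeal ⊥ bot_ne_top, Ideal.span_singleton_le_iff_mem]
        exact hxm
      have hNle : N ≤ N' :=
        Submodule.le_of_le_smul_of_le_jacobson_bot (IsNoetherian.noetherian N) hjac hle
      have hhq' : h ∈ q' := by
        have h2 : N' ≤ q' := by
          rw [hN', ← Ideal.sInf_minimalPrimes]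
          exact sInf_le hq'
        exact h2 (hNle (Ideal.le_radical (Ideal.mem_span_singleton_self h)))
      exact hq'n (mem_minimalPrimes_of_height_one h0 q' hq'1 hhq')
    have hJN : ∀ (g : R), Ideal.span {g, x} = J → J ≤ (Ideal.span {g}).radical ⊔ Ideal.span {x} := by
      intro g hg
      rw [← hg, Ideal.span_insert]
      exact sup_le_sup_right Ideal.le_radical _
    have hlt : (N' ⊔ Ideal.span {x}).map (Ideal.Quotient.mk J) < 𝔞 := by
      rw [← h𝔞]
      refine lt_of_le_of_ne (Ideal.map_mono (sup_le_sup_right hNN _)) ?_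
      intro heq
      apply hne
      have hsurj : Function.Surjective (Ideal.Quotient.mk J) := Ideal.Quotient.mk_surjective
      have e1 := Ideal.comap_map_of_surjective _ hsurj (N' ⊔ Ideal.span {x})
      have e2 := Ideal.comap_map_of_surjective _ hsurj (N ⊔ Ideal.span {x})
      rw [heq] at e1
      rw [e1] at e2
      have hk : Ideal.comap (Ideal.Quotient.mk J) ⊥ = J := by
        rw [← RingHom.ker_eq_comap_bot, Ideal.mk_ker]
      rw [hk, sup_eq_left.mpr (hJN h' hspan'), sup_eq_left.mpr (hJN h hspan)] at e2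
      exact e2
    exact ih _ hlt h' h0' hspan' hPh' rfl

/-- **Principal radical ideals**: in a Noetherian normal local domain of dimension two, finitely
many height-one primes contain a common nonzero element generating a radical ideal. -/
theorem exists_isRadical_span_singleton (hdim : ringKrullDim R = 2) (s : Finset (Ideal R))
    (hs : ∀ p ∈ s, p.IsPrime ∧ p.height = 1) :
    ∃ f : R, f ≠ 0 ∧ (∀ p ∈ s, f ∈ p) ∧ (Ideal.span {f}).IsRadical := by
  classical
  have hm2 : (maximalIdeal R).height = 2 := maximalIdeal_height_eq_two hdim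
  rcases s.eq_empty_or_nonempty with rfl | ⟨p0, hp0⟩
  · refine ⟨1, one_ne_zero, by simp, ?_⟩
    rw [Ideal.span_singleton_one]
    exact fun y _ => Submodule.mem_top
  obtain ⟨h, hh⟩ := exists_ord_prescribed s hs (fun _ => 1)
  have h0 : h ≠ 0 := by
    intro hz
    haveI := (hs p0 hp0).1
    have := hh p0 hp0
    rw [hz, (ord_eq_top_iff p0 (hs p0 hp0).2).mpr rfl] at this
    exact absurd this (by decide)
  -- choose the parameter `x`
  have hfin := Ideal.finite_minimalPrimes_of_isNoetherianRing R (Ideal.span {h})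
  have hnot : ¬ ((maximalIdeal R : Set R) ⊆ ⋃ i ∈ (hfin.toFinset : Set (Ideal R)),
      ((fun i => i) i : Ideal R)) := by
    rw [Ideal.subset_union_prime (f := fun i => i) ⊤ ⊤]
    · rintro ⟨q, hq, hle⟩
      have hq' := hfin.mem_toFinset.mp (Finset.mem_coe.mp hq)
      haveI := hq'.1.1
      have heq : q = maximalIdeal R :=
        le_antisymm (le_maximalIdeal Ideal.IsPrime.ne_top') hle
      have h1 := height_eq_one_of_mem_minimalPrimes h0 hq'
      rw [heq, hm2] at h1
      exact absurd h1 (by decide)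
    · intro q hq _ _
      exact (hfin.mem_toFinset.mp hq).1.1
  rw [Set.not_subset] at hnot
  obtain ⟨x, hxm, hxu⟩ := hnot
  simp only [Set.mem_iUnion, not_exists] at hxu
  have hx : ∀ q ∈ (Ideal.span {h}).minimalPrimes, x ∉ q := fun q hq hxq =>
    hxu q (Finset.mem_coe.mpr (hfin.mem_toFinset.mpr hq)) hxq
  have hJ : ∀ 𝔭 : Ideal R, 𝔭.IsPrime → Ideal.span {h, x} ≤ 𝔭 → 𝔭 = maximalIdeal R :=
    fun 𝔭 h𝔭 hle => by
      haveI := h𝔭
      exact eq_maximalIdeal_of_span_pair_le hdim h0 hx 𝔭 hle
  have hhs : ∀ p ∈ s, ord p h = 1 := fun p hp => by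
    rw [hh p hp]; rfl
  exact loop hdim (Ideal.span {h, x}) x hxm s hs hJ _ h h0 rfl hhs rfl

end Local

end Groth.Agent.Lib.Seat61.NormalDim2
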