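import Mathlib

/-!
# Quotient ringed spaces are categorical quotients (S14885)

`existsUnique_desc`: if `π : X ⟶ Y` exhibits `Y` as the quotient ringed space of `X` by a group `Γ` of
automorphisms (topological quotient with the orbits as fibres, functions on `Y` = invariant functions on `X`),
then every `Γ`-invariant morphism of ringed spaces `X ⟶ Z` factors uniquely through `π`.
-/

set_option autoImplicit false
universe u v
open CategoryTheory TopologicalSpace Opposite AlgebraicGeometry Topology

namespace Groth.Agent.Lib.Seat61.RSQuot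

set_option backward.isDefEq.respectTransparency false in
theorem existsUnique_desc (X Y : SheafedSpace CommRingCat.{u}) (Γ : Type v) [Group Γ]
    (τ : Γ →* Aut X) (π : X ⟶ Y) (hτ : ∀ g : Γ, (τ g).hom ≫ π = π)
    (h1 : IsQuotientMap π.hom.base)
    (h2 : ∀ x x' : X, π.hom.base x = π.hom.base x' ↔ ∃ g : Γ, (τ g).hom.hom.base x = x')
    (h3 : ∀ V : Opens Y, Function.Injective (π.hom.c.app (op V)) ∧
      Set.range (π.hom.c.app (op V)) =
        {s | ∀ g : Γ, (τ g).hom.hom.c.app (op ((Opens.map π.hom.base).obj V)) s =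
          X.presheaf.map (eqToHom (congrArg (fun f : X ⟶ Y => op ((Opens.map f.hom.base).obj V)) (hτ g).symm)) s})
    (Z : SheafedSpace CommRingCat.{u}) (f : X ⟶ Z) (hf : ∀ g : Γ, (τ g).hom ≫ f = f) :
    ∃! fbar : Y ⟶ Z, π ≫ fbar = f := by
  classical
  have key : ∀ (a b : (Opens X)ᵒᵖ) (m m' : a ⟶ b), X.presheaf.map m = X.presheaf.map m' :=
    fun a b m m' => by rw [Subsingleton.elim m m']
  -- the base map
  have hconst : Function.FactorsThrough f.hom.base.hom π.hom.base.hom := by
    intro x x' h
    obtain ⟨g, rfl⟩ := (h2 x x').1 h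
    have := congrArg (fun φ : X ⟶ Z => φ.hom.base x) (hf g)
    exact this.symm
  let bbar : (Y : TopCat) ⟶ (Z : TopCat) := TopCat.ofHom (h1.lift f.hom.base.hom hconst)
  have hb : π.hom.base ≫ bbar = f.hom.base := by
    ext x
    exact congrArg (fun φ : C(X, Z) => φ x) (h1.lift_comp f.hom.base.hom hconst)
  have hopen : ∀ W : Opens Z, (Opens.map π.hom.base).obj ((Opens.map bbar).obj W) =
      (Opens.map f.hom.base).obj W := by
    intro W
    rw [← hb]; rfl
  let θ : ∀ W : Opens Z, Z.presheaf.obj (op W) ⟶
      X.presheaf.obj (op ((Opens.map π.hom.base).obj ((Opens.map bbar).obj W))) :=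
    fun W => f.hom.c.app (op W) ≫ X.presheaf.map (eqToHom (congrArg op (hopen W).symm))
  have hinv : ∀ (W : Opens Z) (g : Γ),
      θ W ≫ (τ g).hom.hom.c.app (op ((Opens.map π.hom.base).obj ((Opens.map bbar).obj W))) =
        θ W ≫ X.presheaf.map (eqToHom (congrArg (fun f : X ⟶ Y =>
          op ((Opens.map f.hom.base).obj ((Opens.map bbar).obj W))) (hτ g).symm)) := by
    intro W g
    have h1' := PresheafedSpace.congr_app (congrArg (fun φ : X ⟶ Z => φ.hom) (hf g)) (op W)
    have h2' : ((τ g).hom ≫ f).hom.c.app (op W) =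
        f.hom.c.app (op W) ≫ (τ g).hom.hom.c.app (op ((Opens.map f.hom.base).obj W)) :=
      PresheafedSpace.comp_c_app _ _ _
    have h3' := (τ g).hom.hom.c.naturality (eqToHom (congrArg op (hopen W).symm))
    calc θ W ≫ (τ g).hom.hom.c.app (op ((Opens.map π.hom.base).obj ((Opens.map bbar).obj W)))
        = f.hom.c.app (op W) ≫ (X.presheaf.map (eqToHom (congrArg op (hopen W).symm)) ≫
            (τ g).hom.hom.c.app (op ((Opens.map π.hom.base).obj ((Opens.map bbar).obj W)))) :=
          Category.assoc _ _ _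
      _ = f.hom.c.app (op W) ≫ ((τ g).hom.hom.c.app (op ((Opens.map f.hom.base).obj W)) ≫
            X.presheaf.map ((Opens.map (τ g).hom.hom.base).op.map
              (eqToHom (congrArg op (hopen W).symm)))) := by
          rw [h3']; rfl
      _ = (f.hom.c.app (op W) ≫ (τ g).hom.hom.c.app (op ((Opens.map f.hom.base).obj W))) ≫
            X.presheaf.map ((Opens.map (τ g).hom.hom.base).op.map
              (eqToHom (congrArg op (hopen W).symm))) := (Category.assoc _ _ _).symm
      _ = θ W ≫ X.presheaf.map (eqToHom (congrArg (fun f : X ⟶ Y =>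
          op ((Opens.map f.hom.base).obj ((Opens.map bbar).obj W))) (hτ g).symm)) := by
          rw [← h2', h1', Category.assoc, Category.assoc, ← X.presheaf.map_comp,
            ← X.presheaf.map_comp]
          congr 1
  -- the lift on sections
  have hmem : ∀ (W : Opens Z) (z : Z.presheaf.obj (op W)),
      (θ W) z ∈ Set.range (π.hom.c.app (op ((Opens.map bbar).obj W))) := by
    intro W z
    rw [(h3 ((Opens.map bbar).obj W)).2]
    intro g
    exact congrArg (fun φ => φ z) (hinv W g)
  have hlift : ∀ W : Opens Z, ∃ l : Z.presheaf.obj (op W) ⟶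
      Y.presheaf.obj (op ((Opens.map bbar).obj W)),
      l ≫ π.hom.c.app (op ((Opens.map bbar).obj W)) = θ W := by
    intro W
    let ψ : Y.presheaf.obj (op ((Opens.map bbar).obj W)) →+*
        X.presheaf.obj (op ((Opens.map π.hom.base).obj ((Opens.map bbar).obj W))) :=
      (π.hom.c.app (op ((Opens.map bbar).obj W))).hom
    have hψ : Function.Injective ψ := (h3 ((Opens.map bbar).obj W)).1
    let e : Y.presheaf.obj (op ((Opens.map bbar).obj W)) ≃+* ψ.range :=
      RingEquiv.ofBijective ψ.rangeRestrict
        ⟨fun a b h => hψ (congrArg Subtype.val h), ψ.rangeRestrict_surjective⟩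
    have hm : ∀ z, (θ W).hom z ∈ ψ.range := by
      intro z
      obtain ⟨y, hy⟩ := hmem W z
      exact ⟨y, hy⟩
    refine ⟨CommRingCat.ofHom (e.symm.toRingHom.comp ((θ W).hom.codRestrict ψ.range hm)), ?_⟩
    ext z
    exact congrArg Subtype.val (e.apply_symm_apply ⟨(θ W).hom z, hm z⟩)
  choose lam hlam using hlift
  have hmono : ∀ (V : Opens Y) {T : CommRingCat.{u}} (a b : T ⟶ Y.presheaf.obj (op V)),
      a ≫ π.hom.c.app (op V) = b ≫ π.hom.c.app (op V) → a = b := by
    intro V T a b h
    ext t
    exact (h3 V).1 (congrArg (fun φ => φ t) h)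
  have hnat : ∀ (W W' : (Opens Z)ᵒᵖ) (i : W ⟶ W'),
      Z.presheaf.map i ≫ lam W'.unop = lam W.unop ≫ (bbar _* Y.presheaf).map i := by
    intro W W' i
    apply hmono
    have n1 := f.hom.c.naturality i
    have n2 := π.hom.c.naturality ((Opens.map bbar).op.map i)
    calc (Z.presheaf.map i ≫ lam W'.unop) ≫ π.hom.c.app (op ((Opens.map bbar).obj W'.unop))
        = Z.presheaf.map i ≫ θ W'.unop := by rw [Category.assoc, hlam]
      _ = (Z.presheaf.map i ≫ f.hom.c.app (op W'.unop)) ≫
            X.presheaf.map (eqToHom (congrArg op (hopen W'.unop).symm)) :=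
          (Category.assoc _ _ _).symm
      _ = (f.hom.c.app W ≫ X.presheaf.map ((Opens.map f.hom.base).op.map i)) ≫
            X.presheaf.map (eqToHom (congrArg op (hopen W'.unop).symm)) := by
          rw [show Z.presheaf.map i ≫ f.hom.c.app (op W'.unop) = _ from n1]; rfl
      _ = (f.hom.c.app W ≫ X.presheaf.map (eqToHom (congrArg op (hopen W.unop).symm))) ≫
            X.presheaf.map ((Opens.map π.hom.base).op.map ((Opens.map bbar).op.map i)) := by
          rw [Category.assoc, Category.assoc, ← X.presheaf.map_comp, ← X.presheaf.map_comp]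
          congr 1
      _ = (lam W.unop ≫ π.hom.c.app (op ((Opens.map bbar).obj W.unop))) ≫
            X.presheaf.map ((Opens.map π.hom.base).op.map ((Opens.map bbar).op.map i)) := by
          rw [hlam]
      _ = lam W.unop ≫ (Y.presheaf.map ((Opens.map bbar).op.map i) ≫
            π.hom.c.app (op ((Opens.map bbar).obj W'.unop))) := by
          rw [Category.assoc]
          congr 1
          exact n2.symm
      _ = (lam W.unop ≫ (bbar _* Y.presheaf).map i) ≫
            π.hom.c.app (op ((Opens.map bbar).obj W'.unop)) := (Category.assoc _ _ _).symm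
  let fbar : Y ⟶ Z :=
    InducedCategory.homMk ⟨bbar, { app := fun W => lam W.unop, naturality := hnat }⟩
  have hfac : π ≫ fbar = f := by
    refine SheafedSpace.ext _ _ hb ?_
    ext W : 2
    have h5 : (π ≫ fbar).hom.c.app (op W) = θ W := by
      rw [← hlam]
      exact PresheafedSpace.comp_c_app _ _ _
    refine congrArg CommRingCat.Hom.hom ?_
    rw [NatTrans.comp_app, h5, Functor.whiskerRight_app]
    change (f.hom.c.app (op W) ≫ X.presheaf.map _) ≫ X.presheaf.map _ = _
    rw [Category.assoc, ← X.presheaf.map_comp, key _ _ _ (𝟙 _), X.presheaf.map_id]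
    exact Category.comp_id _
  refine ⟨fbar, hfac, ?_⟩
  intro fbar' hfac'
  -- the base maps agree
  have hbase : fbar'.hom.base = bbar := by
    have e1 : π.hom.base ≫ fbar'.hom.base = f.hom.base :=
      congrArg (fun φ : X ⟶ Z => φ.hom.base) hfac'
    ext y
    obtain ⟨x, rfl⟩ := h1.surjective y
    have e2 := congrArg (fun φ : (X : TopCat) ⟶ (Z : TopCat) => φ x) (e1.trans hb.symm)
    exact e2
  refine SheafedSpace.ext _ _ hbase ?_
  ext W : 2
  refine congrArg CommRingCat.Hom.hom ?_
  rw [NatTrans.comp_app, Functor.whiskerRight_app]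
  change _ = lam W
  apply hmono ((Opens.map bbar).obj W)
  rw [hlam]
  have c1 := PresheafedSpace.congr_app (congrArg (fun φ : X ⟶ Z => φ.hom) hfac') (op W)
  have c2 : (π ≫ fbar').hom.c.app (op W) =
      fbar'.hom.c.app (op W) ≫ π.hom.c.app ((Opens.map fbar'.hom.base).op.obj (op W)) :=
    PresheafedSpace.comp_c_app _ _ _
  have c3 := π.hom.c.naturality
    ((eqToHom (by rw [hbase]) : (Opens.map fbar'.hom.base).op ⟶ (Opens.map bbar).op).app (op W))
  rw [Category.assoc]
  erw [c3]
  rw [← Category.assoc, ← c2, c1]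
  change (f.hom.c.app (op W) ≫ X.presheaf.map _) ≫ X.presheaf.map _ =
    f.hom.c.app (op W) ≫ X.presheaf.map _
  rw [Category.assoc, ← X.presheaf.map_comp]
  congr 1

end Groth.Agent.Lib.Seat61.RSQuot
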