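import Mathlib.LinearAlgebra.PiTensorProduct.Basis
import Mathlib.LinearAlgebra.Basis.VectorSpace
import Mathlib.Algebra.MvPolynomial.Funext
import Mathlib.Data.Fintype.EquivFin
import Mathlib.Data.Fintype.Pi
import Mathlib.SetTheory.Cardinal.NatCard

/-!
# Symmetric tensors over an infinite field are spanned by pure powers

`mem_span_tprod_const_of_symmetric`: over an infinite field, a tensor of the `m`-fold tensor power
of a vector space fixed by all permutations of the factors lies in the span of `v ⊗ ⋯ ⊗ v`.
-/

set_option autoImplicit false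

namespace Groth.Agent.Lib.Seat61.SymTensor

open scoped TensorProduct
open Module

universe u

section Content

variable {I : Type*} {m : ℕ}

/-- The content (multiset of values, as a finitely supported function) of a tuple. -/
noncomputable def content (p : Fin m → I) : I →₀ ℕ := ∑ j, Finsupp.single (p j) 1

lemma content_apply (p : Fin m → I) (i : I) :
    content p i = Nat.card {j // p j = i} := by
  classical
  rw [content, Finsupp.finsetSum_apply, Nat.card_eq_fintype_card, Fintype.card_subtype]
  simp only [Finsupp.single_apply]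
  rw [Finset.card_filter]

lemma exists_perm_of_content_eq {p q : Fin m → I} (h : content p = content q) :
    ∃ σ : Equiv.Perm (Fin m), q ∘ σ = p := by
  classical
  have hc : ∀ i, Nat.card {j // p j = i} = Nat.card {j // q j = i} := fun i => by
    rw [← content_apply, ← content_apply, h]
  have he : ∀ i, Nonempty ({j // p j = i} ≃ {j // q j = i}) := fun i =>
    Finite.card_eq.mp (hc i)
  refine ⟨Equiv.ofFiberEquiv (f := p) (g := q) (fun i => (he i).some), ?_⟩
  funext j
  exact Equiv.ofFiberEquiv_map _ j

lemma monomial_content {k : Type*} [CommSemiring k] (p : Fin m → I) :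
    (MvPolynomial.monomial (content p) (1 : k)) = ∏ j, MvPolynomial.X (p j) := by
  rw [content, MvPolynomial.monomial_sum_one]
  rfl

end Content

variable {k V : Type u} [Field k] [AddCommGroup V] [Module k V] {m : ℕ}

/-- Expansion of a pure power of a finite linear combination. -/
lemma tprod_sum_smul {I : Type*} (b : I → V) (F : Finset I) (t : I → k) :
    PiTensorProduct.tprod k (fun _ : Fin m => ∑ i ∈ F, t i • b i) =
      ∑ r ∈ Fintype.piFinset (fun _ : Fin m => F),
        (∏ j, t (r j)) • PiTensorProduct.tprod k (fun j => b (r j)) := by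
  classical
  rw [MultilinearMap.map_sum_finset (PiTensorProduct.tprod k) (fun (_ : Fin m) (i : I) => t i • b i)
    (fun _ => F)]
  refine Finset.sum_congr rfl fun r _ => ?_
  exact MultilinearMap.map_smul_univ _ (fun j => t (r j)) (fun j => b (r j))

/-- A linear form vanishing on all pure powers has vanishing "content sums" on basis tensors. -/
lemma sum_content_eq_zero [Infinite k] {I : Type*} [DecidableEq I] (b : I → V)
    (φ : (⨂[k] _ : Fin m, V) →ₗ[k] k)
    (hφ : ∀ v : V, φ (PiTensorProduct.tprod k (fun _ : Fin m => v)) = 0)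
    (F : Finset I) (μ : I →₀ ℕ) :
    ∑ p ∈ Fintype.piFinset (fun _ : Fin m => F),
      (if content p = μ then φ (PiTensorProduct.tprod k (fun j => b (p j))) else 0) = 0 := by
  set S := Fintype.piFinset (fun _ : Fin m => F) with hS
  set P : MvPolynomial I k :=
    ∑ p ∈ S, MvPolynomial.C (φ (PiTensorProduct.tprod k (fun j => b (p j)))) *
      ∏ j, MvPolynomial.X (p j) with hP
  have hP0 : P = 0 := by
    apply MvPolynomial.funext
    intro t
    rw [map_zero, hP, map_sum]
    have := hφ (∑ i ∈ F, t i • b i)
    rw [tprod_sum_smul, map_sum] at this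
    rw [← this]
    refine Finset.sum_congr rfl fun r _ => ?_
    rw [map_mul, MvPolynomial.eval_C, map_prod, map_smul, smul_eq_mul, mul_comm]
    simp only [MvPolynomial.eval_X]
  have hco : MvPolynomial.coeff μ P = 0 := by rw [hP0, MvPolynomial.coeff_zero]
  rw [hP, MvPolynomial.coeff_sum] at hco
  refine Eq.trans ?_ hco
  refine Finset.sum_congr rfl fun p _ => ?_
  rw [← monomial_content, MvPolynomial.coeff_C_mul, MvPolynomial.coeff_monomial]
  split_ifs <;> simp

/-- A linear form vanishing on all pure powers kills every content-invariant combination of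
basis tensors. -/
lemma sum_mul_eq_zero [Infinite k] {I : Type*} (b : I → V)
    (φ : (⨂[k] _ : Fin m, V) →ₗ[k] k)
    (hφ : ∀ v : V, φ (PiTensorProduct.tprod k (fun _ : Fin m => v)) = 0)
    (F : Finset I) (w : (Fin m → I) → k)
    (hw : ∀ p q : Fin m → I, content p = content q → w p = w q) :
    ∑ p ∈ Fintype.piFinset (fun _ : Fin m => F),
      w p * φ (PiTensorProduct.tprod k (fun j => b (p j))) = 0 := by
  classical
  set S := Fintype.piFinset (fun _ : Fin m => F) with hS
  rw [← Finset.sum_fiberwise_of_maps_to (s := S) (t := S.image content) (g := content)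
    (fun p hp => Finset.mem_image_of_mem _ hp)]
  refine Finset.sum_eq_zero fun μ _ => ?_
  rcases (S.filter (fun p => content p = μ)).eq_empty_or_nonempty with he | ⟨p0, hp0⟩
  · rw [he, Finset.sum_empty]
  · have hp0' := (Finset.mem_filter.mp hp0).2
    have : ∀ p ∈ S.filter (fun p => content p = μ),
        w p * φ (PiTensorProduct.tprod k (fun j => b (p j))) =
          w p0 * φ (PiTensorProduct.tprod k (fun j => b (p j))) := by
      intro p hp
      rw [hw p p0 ((Finset.mem_filter.mp hp).2.trans hp0'.symm)]
    rw [Finset.sum_congr rfl this, ← Finset.mul_sum, Finset.sum_filter,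
      sum_content_eq_zero b φ hφ F μ, mul_zero]

/-- Coordinates of a symmetric tensor in a tensor-product basis are invariant under permutations. -/
lemma repr_comp_perm {I : Type*} (b : Basis I k V) (x : ⨂[k] _ : Fin m, V)
    (σ : Equiv.Perm (Fin m))
    (hx : PiTensorProduct.reindex k (fun _ : Fin m => V) σ x = x) (q : Fin m → I) :
    (Basis.piTensorProduct (fun _ : Fin m => b)).repr x (q ∘ σ) =
      (Basis.piTensorProduct (fun _ : Fin m => b)).repr x q := by
  classical
  set B := Basis.piTensorProduct (fun _ : Fin m => b) with hB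
  let e : (Fin m → I) ≃ (Fin m → I) := Equiv.arrowCongr σ (Equiv.refl I)
  have key : (B.repr : (⨂[k] _ : Fin m, V) →ₗ[k] _) ∘ₗ
      (PiTensorProduct.reindex k (fun _ : Fin m => V) σ : (⨂[k] _ : Fin m, V) →ₗ[k] _) =
      (Finsupp.lmapDomain k k e) ∘ₗ (B.repr : (⨂[k] _ : Fin m, V) →ₗ[k] _) := by
    refine B.ext fun p => ?_
    simp only [LinearMap.coe_comp, LinearEquiv.coe_coe, Function.comp_apply, Basis.repr_self,
      Finsupp.lmapDomain_apply, Finsupp.mapDomain_single]
    rw [hB, Basis.piTensorProduct_apply, PiTensorProduct.reindex_tprod]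
    have : (fun i => b (p (σ.symm i))) = fun i => b ((e p) i) := by
      funext i
      simp [e, Equiv.arrowCongr]
    rw [this, ← Basis.piTensorProduct_apply (fun _ : Fin m => b) (e p), Basis.repr_self]
  have h1 := LinearMap.congr_fun key x
  simp only [LinearMap.coe_comp, LinearEquiv.coe_coe, Function.comp_apply,
    Finsupp.lmapDomain_apply] at h1
  rw [hx] at h1
  have h2 := DFunLike.congr_fun h1 q
  have hq : q = e (q ∘ σ) := by
    funext i
    simp [e, Equiv.arrowCongr]
  have h3 : (Finsupp.mapDomain e (B.repr x)) (e (q ∘ σ)) = B.repr x (q ∘ σ) :=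
    Finsupp.mapDomain_apply e.injective _ _
  rw [← hq] at h3
  rw [← h3, ← h2]

/-- Over an infinite field, symmetric tensors are spanned by pure powers. -/
theorem mem_span_tprod_const_of_symmetric [Infinite k] (x : ⨂[k] _ : Fin m, V)
    (hx : ∀ σ : Equiv.Perm (Fin m), PiTensorProduct.reindex k (fun _ : Fin m => V) σ x = x) :
    x ∈ Submodule.span k
      (Set.range fun v : V => PiTensorProduct.tprod k (fun _ : Fin m => v)) := by
  classical
  by_contra hxW
  obtain ⟨φ, hφx, hφW⟩ := Submodule.exists_le_ker_of_notMem hxW
  have hφ : ∀ v : V, φ (PiTensorProduct.tprod k (fun _ : Fin m => v)) = 0 := fun v =>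
    hφW (Submodule.subset_span ⟨v, rfl⟩)
  let b := Basis.ofVectorSpace k V
  set B := Basis.piTensorProduct (fun _ : Fin m => b) with hB
  set c := B.repr x with hc
  let F : Finset (Basis.ofVectorSpaceIndex k V) := c.support.biUnion (fun p => Finset.univ.image p)
  set S := Fintype.piFinset (fun _ : Fin m => F) with hS
  have hsupp : c.support ⊆ S := by
    intro p hp
    rw [hS, Fintype.mem_piFinset]
    intro j
    exact Finset.mem_biUnion.mpr ⟨p, hp, Finset.mem_image_of_mem _ (Finset.mem_univ j)⟩
  have hxsum : x = ∑ p ∈ S, c p • B p := by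
    conv_lhs => rw [← B.linearCombination_repr x]
    rw [Finsupp.linearCombination_apply, Finsupp.sum]
    refine Finset.sum_subset hsupp fun p _ hp => ?_
    rw [Finsupp.notMem_support_iff.mp hp, zero_smul]
  have hsym : ∀ p q : Fin m → _, content p = content q → c p = c q := by
    intro p q hpq
    obtain ⟨σ, rfl⟩ := exists_perm_of_content_eq hpq
    exact repr_comp_perm b x σ (hx σ) q
  apply hφx
  rw [hxsum, map_sum]
  simp only [map_smul, smul_eq_mul]
  have hB' : ∀ p : Fin m → _, B p = PiTensorProduct.tprod k (fun j => b (p j)) := fun p => by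
    rw [hB, Basis.piTensorProduct_apply]
  simp only [hB']
  exact sum_mul_eq_zero (m := m) (fun i => b i) φ hφ F c hsym

end Groth.Agent.Lib.Seat61.SymTensor
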