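import Mathlib
import Groth.Agent.Lib.Seat61NormalDim2

/-!
# `n`-th powers up to units descend along flat, weakly unramified local maps (seat 61)

`exists_unit_mul_pow`: for a flat local homomorphism `A → B` of Noetherian normal local domains
which is weakly unramified in codimension one, `f = w * h ^ n` in `B` (`w` a unit) implies
`f = u * g ^ n` in `A`.
-/

set_option autoImplicit false
set_option linter.style.haveILetI false
set_option linter.unusedSectionVars false

namespace Groth.Agent.Lib.Seat61.WeakUnram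

open IsLocalRing Groth.Agent.Lib.Seat61.NormalOrd Groth.Agent.Lib.Seat61.NormalDim2

variable {A B : Type*} [CommRing A] [IsDomain A] [IsNoetherianRing A] [IsIntegrallyClosed A]
  [CommRing B] [IsDomain B] [IsNoetherianRing B] [IsIntegrallyClosed B] [Algebra A B]

/-- At a weakly unramified height-one prime `q` over `p`, a uniformizer at `p` stays one. -/
lemma ord_map_uniformizer (p : Ideal A) [p.IsPrime] (hp : p.height = 1) (q : Ideal B) [q.IsPrime]
    (hq : q.height = 1) (hqp : q.comap (algebraMap A B) = p)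
    (hram : Ideal.map (algebraMap B (Localization.AtPrime q)) (Ideal.map (algebraMap A B) p) =
      maximalIdeal (Localization.AtPrime q)) {π : A} (hπ : ord p π = 1) :
    ord q (algebraMap A B π) = 1 := by
  haveI := isDVR_of_height_one q hq
  have hπp : π ∈ p := by rw [← one_le_ord_iff p hp, hπ]
  have h1 : 1 ≤ ord q (algebraMap A B π) := by
    rw [one_le_ord_iff q hq]
    have : π ∈ q.comap (algebraMap A B) := hqp ▸ hπp
    exact this
  by_contra hne
  have h2 : 2 ≤ ord q (algebraMap A B π) := by
    have hlt : 1 < ord q (algebraMap A B π) := lt_of_le_of_ne h1 (Ne.symm hne)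
    have := Order.add_one_le_of_lt hlt
    rwa [one_add_one_eq_two] at this
  -- every element of `p` has order at least two at `q`
  have hall : ∀ x ∈ p, 2 ≤ ord q (algebraMap A B x) := by
    intro x hx
    have hle : ord p π ≤ ord p x := by rw [hπ]; exact (one_le_ord_iff p hp).mpr hx
    obtain ⟨s, hs, hdvd⟩ := exists_dvd_of_ord_le p hp hle
    have hsq : algebraMap A B s ∉ q := fun h => hs (hqp ▸ (show s ∈ q.comap (algebraMap A B) from h))
    have hd : algebraMap A B π ∣ algebraMap A B s * algebraMap A B x := by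
      rw [← map_mul]; exact map_dvd _ hdvd
    have := ord_le_of_dvd q hq hd
    rw [ord_mul q hq, (ord_eq_zero_iff q hq).mpr hsq, zero_add] at this
    exact le_trans h2 this
  -- so `p B_q` lies in the ideal of elements of valuation at least two
  let I2 : Ideal (Localization.AtPrime q) :=
    { carrier := {z | 2 ≤ IsDiscreteValuationRing.addVal (Localization.AtPrime q) z}
      add_mem' := fun {a b} ha hb => le_trans (le_min ha hb) IsDiscreteValuationRing.addVal_add
      zero_mem' := by
        change 2 ≤ IsDiscreteValuationRing.addVal (Localization.AtPrime q) 0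
        rw [IsDiscreteValuationRing.addVal_zero]; exact le_top
      smul_mem' := fun c a ha => by
        change 2 ≤ IsDiscreteValuationRing.addVal (Localization.AtPrime q) (c * a)
        rw [IsDiscreteValuationRing.addVal_mul]
        exact le_trans ha le_add_self }
  have hle : maximalIdeal (Localization.AtPrime q) ≤ I2 := by
    rw [← hram, Ideal.map_map, Ideal.map_le_iff_le_comap]
    intro x hx
    change 2 ≤ IsDiscreteValuationRing.addVal (Localization.AtPrime q)
      (algebraMap B (Localization.AtPrime q) (algebraMap A B x))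
    rw [← ord_def q hq]
    exact hall x hx
  obtain ⟨ϖ, hϖ⟩ := IsDiscreteValuationRing.exists_irreducible (Localization.AtPrime q)
  have hϖm : ϖ ∈ maximalIdeal (Localization.AtPrime q) :=
    (IsLocalRing.mem_maximalIdeal _).mpr hϖ.not_isUnit
  have : 2 ≤ IsDiscreteValuationRing.addVal (Localization.AtPrime q) ϖ := hle hϖm
  rw [IsDiscreteValuationRing.addVal_uniformizer hϖ] at this
  exact absurd this (by decide)

/-- Orders are preserved at a weakly unramified height-one prime. -/
lemma ord_map_eq (p : Ideal A) [p.IsPrime] (hp : p.height = 1) (q : Ideal B) [q.IsPrime]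
    (hq : q.height = 1) (hqp : q.comap (algebraMap A B) = p)
    (hram : Ideal.map (algebraMap B (Localization.AtPrime q)) (Ideal.map (algebraMap A B) p) =
      maximalIdeal (Localization.AtPrime q)) (a : A) :
    ord q (algebraMap A B a) = ord p a := by
  by_cases ha : a = 0
  · rw [ha, map_zero, (ord_eq_top_iff q hq).mpr rfl, (ord_eq_top_iff p hp).mpr rfl]
  obtain ⟨π, _, hπ⟩ := exists_ord_eq_one p hp
  have hπq := ord_map_uniformizer p hp q hq hqp hram hπ
  have hfin : ord p a ≠ ⊤ := fun h => ha ((ord_eq_top_iff p hp).mp h)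
  obtain ⟨k, hk⟩ := ENat.ne_top_iff_exists.mp hfin
  have hπk : ord p (π ^ k) = ord p a := by rw [ord_pow p hp, hπ, nsmul_one, hk]
  have hπkq : ord q (algebraMap A B (π ^ k)) = k := by
    rw [map_pow, ord_pow q hq, hπq, nsmul_one]
  have hunit : ∀ s : A, s ∉ p → ord q (algebraMap A B s) = 0 := fun s hs =>
    (ord_eq_zero_iff q hq).mpr fun h => hs (hqp ▸ (show s ∈ q.comap (algebraMap A B) from h))
  obtain ⟨s, hs, hd1⟩ := exists_dvd_of_ord_le p hp hπk.le
  obtain ⟨t, ht, hd2⟩ := exists_dvd_of_ord_le p hp hπk.ge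
  have e1 := ord_le_of_dvd q hq (map_dvd (algebraMap A B) hd1)
  have e2 := ord_le_of_dvd q hq (map_dvd (algebraMap A B) hd2)
  rw [map_mul, ord_mul q hq, hunit s hs, zero_add, hπkq] at e1
  rw [map_mul, ord_mul q hq, hunit t ht, zero_add, hπkq] at e2
  rw [← hk]
  exact le_antisymm e2 e1

section Local

variable [IsLocalRing A] [IsLocalRing B] [IsLocalHom (algebraMap A B)] [Module.Flat A B]

/-- The colon ideal `(a : c)`. -/
def colonIdeal (a c : A) : Ideal A where
  carrier := {x | a ∣ x * c}
  add_mem' := fun {x y} hx hy => by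
    change a ∣ (x + y) * c
    rw [add_mul]; exact dvd_add hx hy
  zero_mem' := by
    change a ∣ 0 * c
    rw [zero_mul]; exact dvd_zero a
  smul_mem' := fun r x hx => by
    change a ∣ (r * x) * c
    rw [mul_assoc]; exact Dvd.dvd.mul_left hx r

theorem exists_unit_mul_pow (f : A) (h : B) (n : ℕ) (hn : 1 < n) (w : Bˣ)
    (hf : algebraMap A B f = (w : B) * h ^ n)
    (hram : ∀ (p : Ideal A) [p.IsPrime], p.height = 1 →
      ∃ (q : Ideal B) (_ : q.IsPrime), q.height = 1 ∧ q.comap (algebraMap A B) = p ∧
        Ideal.map (algebraMap B (Localization.AtPrime q)) (Ideal.map (algebraMap A B) p) =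
          IsLocalRing.maximalIdeal (Localization.AtPrime q)) :
    ∃ (g : A) (u : Aˣ), f = (u : A) * g ^ n := by
  classical
  have hn0 : n ≠ 0 := by omega
  haveI : Module.FaithfullyFlat A B := Module.FaithfullyFlat.of_flat_of_isLocalHom
  have hinj : Function.Injective (algebraMap A B) := FaithfulSMul.algebraMap_injective A B
  by_cases hf0 : f = 0
  · exact ⟨0, 1, by rw [hf0, zero_pow hn0, mul_zero]⟩
  have hh0 : h ≠ 0 := by
    rintro rfl
    rw [zero_pow hn0, mul_zero] at hf
    exact hf0 (hinj (by rw [hf, map_zero]))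
  -- descent of divisibility
  have hdesc : ∀ x y : A, algebraMap A B x ∣ algebraMap A B y → x ∣ y := by
    intro x y hxy
    have : y ∈ (Ideal.map (algebraMap A B) (Ideal.span {x})).comap (algebraMap A B) := by
      rw [Ideal.mem_comap, Ideal.map_span, Set.image_singleton, Ideal.mem_span_singleton]
      exact hxy
    rw [Ideal.comap_map_eq_self_of_faithfullyFlat] at this
    exact Ideal.mem_span_singleton.mp this
  -- the exponents
  have hfin := Ideal.finite_minimalPrimes_of_isNoetherianRing A (Ideal.span {f})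
  set Q := hfin.toFinset with hQdef
  have hQ : ∀ p ∈ Q, p.IsPrime ∧ p.height = 1 := fun p hp => by
    have hp' := hfin.mem_toFinset.mp hp
    exact ⟨hp'.1.1, height_eq_one_of_mem_minimalPrimes hf0 hp'⟩
  let e : Ideal A → ℕ := fun p => (ord p f).toNat / n
  have hord : ∀ p ∈ Q, ord p f = ((n * e p : ℕ) : ℕ∞) := by
    intro p hp
    haveI := (hQ p hp).1
    have hp1 := (hQ p hp).2
    obtain ⟨q, hqprime, hq1, hqp, hr⟩ := hram p hp1
    haveI := hqprime
    have h1 : ord p f = ord q (algebraMap A B f) := (ord_map_eq p hp1 q hq1 hqp hr f).symm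
    have hwq : ord q (w : B) = 0 := by
      rw [ord_eq_zero_iff q hq1]
      exact fun hmem => Ideal.IsPrime.ne_top' (Ideal.eq_top_of_isUnit_mem q hmem w.isUnit)
    rw [hf, ord_mul q hq1, hwq, zero_add, ord_pow q hq1] at h1
    have hfinh : ord q h ≠ ⊤ := fun htop => hh0 ((ord_eq_top_iff q hq1).mp htop)
    obtain ⟨m, hm⟩ := ENat.ne_top_iff_exists.mp hfinh
    rw [← hm] at h1
    have h2 : ord p f = ((n * m : ℕ) : ℕ∞) := by
      rw [h1]; push_cast; rw [nsmul_eq_mul]
    have h3 : e p = m := by
      change (ord p f).toNat / n = m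
      rw [h2, ENat.toNat_natCast, Nat.mul_div_cancel_left m (by omega)]
    rw [h3, h2]
  obtain ⟨a, ha⟩ := exists_ord_prescribed Q hQ e
  -- `f ∣ a ^ n`
  have hfa : f ∣ a ^ n := by
    refine dvd_of_forall_ord_le hf0 fun p hp => ?_
    have hpQ : p ∈ Q := hfin.mem_toFinset.mpr hp
    haveI := (hQ p hpQ).1
    rw [ord_pow p (hQ p hpQ).2, ha p hpQ, hord p hpQ]
    push_cast
    rw [nsmul_eq_mul]
  obtain ⟨c, hc⟩ := hfa
  have hcp : ∀ p ∈ Q, ord p c = 0 := by
    intro p hpQ
    haveI := (hQ p hpQ).1
    have hp1 := (hQ p hpQ).2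
    have h1 : ord p (a ^ n) = ord p f + ord p c := by rw [hc, ord_mul p hp1]
    rw [ord_pow p hp1, ha p hpQ, hord p hpQ] at h1
    have h2 : ((n * e p : ℕ) : ℕ∞) + 0 = ((n * e p : ℕ) : ℕ∞) + ord p c := by
      rw [add_zero, ← h1]; push_cast; rw [nsmul_eq_mul]
    exact (ENat.add_right_injective_of_ne_top (ENat.natCast_ne_top _) h2).symm
  -- `a ∣ h * c` in `B`
  have hahc : algebraMap A B a ∣ h * algebraMap A B c := by
    rw [← IsIntegrallyClosed.pow_dvd_pow_iff hn0]
    refine ⟨(↑w⁻¹ : B) * algebraMap A B c ^ (n - 1), ?_⟩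
    have hhn : h ^ n = (↑w⁻¹ : B) * algebraMap A B f := by
      rw [hf, ← mul_assoc, Units.inv_mul, one_mul]
    have hcn : algebraMap A B c ^ n = algebraMap A B c * algebraMap A B c ^ (n - 1) := by
      rw [← pow_succ', Nat.sub_add_cancel (by omega)]
    have hacn : algebraMap A B a ^ n = algebraMap A B f * algebraMap A B c := by
      rw [← map_pow, hc, map_mul]
    rw [mul_pow, hhn, hcn, hacn]
    ring
  obtain ⟨b', hb'⟩ := hahc
  -- flatness: `h` lies in the extension of `(a : c)`
  have hrel : ∑ i : Fin 2, (![c, -a] i) • (![h, b'] i) = 0 := by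
    rw [Fin.sum_univ_two]
    simp only [Matrix.cons_val_zero, Matrix.cons_val_one, Algebra.smul_def, map_neg]
    rw [mul_comm, hb']
    ring
  obtain ⟨k, α, y, hxy, hα⟩ := Module.Flat.isTrivialRelation_of_sum_smul_eq_zero (R := A) (M := B)
    (f := ![c, -a]) (x := ![h, b']) hrel
  have hαI : ∀ j, α 0 j ∈ colonIdeal a c := by
    intro j
    have := hα j
    rw [Fin.sum_univ_two] at this
    simp only [Matrix.cons_val_zero, Matrix.cons_val_one] at this
    change a ∣ α 0 j * c
    refine ⟨α 1 j, ?_⟩
    linear_combination this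
  have hhsum : h = ∑ j, α 0 j • y j := by
    have := hxy 0
    simpa using this
  -- elements of `(a : c)` become multiples of `h`
  have hIh : ∀ x ∈ colonIdeal a c, f ∣ x ^ n ∧ h ∣ algebraMap A B x := by
    intro x hx
    obtain ⟨z, hz⟩ := (show a ∣ x * c from hx)
    have hfx : f ∣ x ^ n := by
      refine dvd_of_forall_ord_le hf0 fun p hp => ?_
      have hpQ : p ∈ Q := hfin.mem_toFinset.mpr hp
      haveI := (hQ p hpQ).1
      have hp1 := (hQ p hpQ).2
      have h1 : ord p x = ord p a + ord p z := by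
        have := congrArg (ord p) hz
        rwa [ord_mul p hp1, ord_mul p hp1, hcp p hpQ, add_zero] at this
      rw [ord_pow p hp1, hord p hpQ, h1, ha p hpQ]
      push_cast
      rw [nsmul_eq_mul, mul_add]
      exact le_self_add
    refine ⟨hfx, ?_⟩
    rw [← IsIntegrallyClosed.pow_dvd_pow_iff hn0, ← map_pow]
    have : algebraMap A B f ∣ algebraMap A B (x ^ n) := map_dvd _ hfx
    refine dvd_trans ⟨(w : B), ?_⟩ this
    rw [hf, mul_comm]
  -- choose a generator
  have hβ : ∀ j, ∃ β : B, algebraMap A B (α 0 j) = h * β := fun j => (hIh _ (hαI j)).2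
  choose β hβ using hβ
  have hone : ∑ j, β j * y j = 1 := by
    have h1 : h * 1 = h * ∑ j, β j * y j := by
      rw [mul_one, Finset.mul_sum]
      conv_lhs => rw [hhsum]
      refine Finset.sum_congr rfl fun j _ => ?_
      rw [Algebra.smul_def, hβ j, mul_assoc]
    exact (mul_left_cancel₀ hh0 h1).symm
  have hexu : ∃ j, IsUnit (β j * y j) := by
    by_contra hno
    have hno' : ∀ j, ¬ IsUnit (β j * y j) := fun j hj => hno ⟨j, hj⟩
    have : ∑ j, β j * y j ∈ maximalIdeal B :=
      Ideal.sum_mem _ fun j _ => (IsLocalRing.mem_maximalIdeal _).mpr (hno' j)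
    rw [hone] at this
    exact (IsLocalRing.mem_maximalIdeal _).mp this isUnit_one
  obtain ⟨j, hj⟩ := hexu
  have hβu : IsUnit (β j) := isUnit_of_mul_isUnit_left hj
  set g := α 0 j with hg
  have hgI := hαI j
  have hfg : f ∣ g ^ n := (hIh g hgI).1
  have hgf : g ^ n ∣ f := by
    apply hdesc
    rw [map_pow, hβ j, mul_pow, hf]
    obtain ⟨βu, hβu'⟩ := hβu
    refine ⟨(w : B) * (↑(βu⁻¹ ^ n) : B), ?_⟩
    rw [← hβu']
    have : (βu : B) ^ n * (↑(βu⁻¹ ^ n) : B) = 1 := by
      rw [← Units.val_pow_eq_pow_val, ← Units.val_mul, ← mul_pow, mul_inv_cancel, one_pow,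
        Units.val_one]
    calc (w : B) * h ^ n = (w : B) * h ^ n * ((βu : B) ^ n * (↑(βu⁻¹ ^ n) : B)) := by
          rw [this, mul_one]
      _ = h ^ n * (βu : B) ^ n * ((w : B) * (↑(βu⁻¹ ^ n) : B)) := by ring
  obtain ⟨u, hu⟩ := associated_of_dvd_dvd hgf hfg
  exact ⟨g, u, by rw [← hu, mul_comm]⟩

end Local

end Groth.Agent.Lib.Seat61.WeakUnram
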