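import Mathlib
import Groth.Agent.Lib.Seat62CDivFactorial

/-!
# Dictionary between points of an affine open and primes, and orders of vanishing (seat 62)
-/

set_option autoImplicit false
universe u
open CategoryTheory AlgebraicGeometry TopologicalSpace Order IsLocalRing

namespace Groth.Agent.Lib.Seat62.AffDict

section general

variable {Y : Scheme.{u}}

/-- the prime ideal of sections over `W` vanishing at `y`. -/
noncomputable def primeAt (W : Y.Opens) (y : Y) (hy : y ∈ W) : Ideal Γ(Y, W) :=
  (maximalIdeal (Y.presheaf.stalk y)).comap (Y.presheaf.germ W y hy).hom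

instance (W : Y.Opens) (y : Y) (hy : y ∈ W) : (primeAt W y hy).IsPrime := by
  unfold primeAt; infer_instance

theorem mem_primeAt_iff (W : Y.Opens) (y : Y) (hy : y ∈ W) (b : Γ(Y, W)) :
    b ∈ primeAt W y hy ↔ ¬ IsUnit (Y.presheaf.germ W y hy b) := by
  unfold primeAt
  rw [Ideal.mem_comap, mem_maximalIdeal, mem_nonunits_iff]

theorem primeAt_eq {W : Y.Opens} (hW : IsAffineOpen W) (y : Y) (hy : y ∈ W) :
    primeAt W y hy = (hW.primeIdealOf ⟨y, hy⟩).asIdeal := by
  rw [hW.primeIdealOf_eq_map_closedPoint]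
  rfl

theorem primeIdealOf_fromSpec {W : Y.Opens} (hW : IsAffineOpen W) (Q : PrimeSpectrum Γ(Y, W))
    (h : hW.fromSpec Q ∈ W) : hW.primeIdealOf ⟨hW.fromSpec Q, h⟩ = Q := by
  have := hW.fromSpec_primeIdealOf ⟨hW.fromSpec Q, h⟩
  exact hW.fromSpec.isOpenEmbedding.injective this

theorem fromSpec_mem {W : Y.Opens} (hW : IsAffineOpen W) (Q : PrimeSpectrum Γ(Y, W)) :
    hW.fromSpec Q ∈ W := by
  have := hW.range_fromSpec
  rw [← SetLike.mem_coe, ← this]
  exact ⟨Q, rfl⟩

theorem primeAt_fromSpec {W : Y.Opens} (hW : IsAffineOpen W) (Q : PrimeSpectrum Γ(Y, W)) :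
    primeAt W (hW.fromSpec Q) (fromSpec_mem hW Q) = Q.asIdeal := by
  rw [primeAt_eq hW, primeIdealOf_fromSpec]

theorem eq_of_primeAt_eq {W : Y.Opens} (hW : IsAffineOpen W) (y y' : Y) (hy : y ∈ W)
    (hy' : y' ∈ W) (h : primeAt W y hy = primeAt W y' hy') : y = y' := by
  rw [primeAt_eq hW, primeAt_eq hW] at h
  have h' : hW.primeIdealOf ⟨y, hy⟩ = hW.primeIdealOf ⟨y', hy'⟩ := PrimeSpectrum.ext h
  have h1 := hW.fromSpec_primeIdealOf ⟨y, hy⟩
  have h2 := hW.fromSpec_primeIdealOf ⟨y', hy'⟩
  rw [h'] at h1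
  exact h1.symm.trans h2

theorem height_primeAt {W : Y.Opens} (hW : IsAffineOpen W) (y : Y) (hy : y ∈ W) :
    (primeAt W y hy).height = coheight y := by
  have h1 := ringKrullDim_stalk_eq_coheight (X := Y) y
  let := TopCat.Presheaf.algebra_section_stalk Y.presheaf ⟨y, hy⟩
  have hloc : IsLocalization.AtPrime (Y.presheaf.stalk y) (hW.primeIdealOf ⟨y, hy⟩).asIdeal :=
    hW.isLocalization_stalk ⟨y, hy⟩
  have h2 := IsLocalization.AtPrime.ringKrullDim_eq_height (hW.primeIdealOf ⟨y, hy⟩).asIdeal
    (Y.presheaf.stalk y)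
  rw [h1, ← primeAt_eq hW y hy] at h2
  exact_mod_cast h2.symm

end general


section ord

variable {Y : Scheme.{u}} [IsIntegral Y] [IsLocallyNoetherian Y]

open Groth.Agent.Lib.Seat62.CDivNormal

omit [IsLocallyNoetherian Y] in
theorem germToFunctionField_ne_zero (W : Y.Opens) [Nonempty W] (b : Γ(Y, W)) (hb : b ≠ 0) :
    Y.germToFunctionField W b ≠ 0 := by
  rw [Ne, ← map_zero (Y.germToFunctionField W).hom]
  exact fun h => hb (Y.germToFunctionField_injective W h)

/-- sections not vanishing at `y` have order zero at `y`. -/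
theorem ord_of_notMem (W : Y.Opens) [Nonempty W] (y : Y) (hy : y ∈ W) (b : Γ(Y, W))
    (hb : b ∉ primeAt W y hy) : Scheme.ord (Y.germToFunctionField W b) y = 0 := by
  rw [mem_primeAt_iff, not_not] at hb
  have := ord_of_isUnit y _ hb
  rwa [Scheme.algebraMap_germ_eq_germToFunctionField] at this

/-- nonzero elements of the maximal ideal of a one-dimensional noetherian local domain have
positive order. -/
theorem one_le_ord_of_not_isUnit' (y : Y) (hyc : coheight y = 1) (a : Y.presheaf.stalk y)
    (ha0 : a ≠ 0) (ha : ¬ IsUnit a) :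
    1 ≤ Scheme.ord (algebraMap (Y.presheaf.stalk y) Y.functionField a) y := by
  have hne : algebraMap (Y.presheaf.stalk y) Y.functionField a ≠ 0 :=
    (map_ne_zero_iff _ (IsFractionRing.injective _ _)).2 ha0
  rw [Scheme.le_ord_iff hyc hne]
  have : Ring.KrullDimLE 1 (Y.presheaf.stalk y) := krullDimLE_of_coheight_le hyc.le
  change _ ≤ Ring.ordFrac (Y.presheaf.stalk y) _
  have hnzd : a ∈ nonZeroDivisors (Y.presheaf.stalk y) := mem_nonZeroDivisors_of_ne_zero ha0
  obtain ⟨m, hm⟩ := ENat.ne_top_iff_exists.mp (Ring.ord_ne_top hnzd)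
  rw [Ring.ordFrac_eq_ord _ ha0, Ring.ordMonoidWithZeroHom_eq_coe _ hnzd hm.symm]
  have hm1 : 1 ≤ m := by
    rw [Nat.one_le_iff_ne_zero]
    rintro rfl
    have h0 : Ring.ord (Y.presheaf.stalk y) a = 0 := by rw [← hm]; rfl
    rw [Ring.ord, Module.length_eq_zero_iff] at h0
    apply ha
    have h1 : Ideal.span {a} = ⊤ := by
      by_contra hne
      have : Nontrivial (Y.presheaf.stalk y ⧸ Ideal.span {a}) :=
        Ideal.Quotient.nontrivial_iff.2 hne
      exact not_subsingleton _ h0
    exact Ideal.span_singleton_eq_top.1 h1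
  rw [WithZero.coe_le_coe, Multiplicative.ofAdd_le]
  exact_mod_cast hm1

theorem one_le_ord_of_mem (W : Y.Opens) [Nonempty W] (y : Y) (hy : y ∈ W)
    (hyc : coheight y = 1) (b : Γ(Y, W)) (hb0 : b ≠ 0) (hb : b ∈ primeAt W y hy) :
    1 ≤ Scheme.ord (Y.germToFunctionField W b) y := by
  rw [mem_primeAt_iff] at hb
  have h0 : Y.presheaf.germ W y hy b ≠ 0 := by
    rw [Ne, ← map_zero (Y.presheaf.germ W y hy).hom]
    exact fun h => hb0 (germ_injective_of_isIntegral Y y hy h)
  have := one_le_ord_of_not_isUnit' y hyc _ h0 hb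
  rwa [Scheme.algebraMap_germ_eq_germToFunctionField] at this

/-- a generator of the maximal ideal has order one. -/
theorem ord_eq_one_of_span (y : Y) (hyc : coheight y = 1) (a : Y.presheaf.stalk y)
    (ha : maximalIdeal (Y.presheaf.stalk y) = Ideal.span {a}) :
    Scheme.ord (algebraMap (Y.presheaf.stalk y) Y.functionField a) y = 1 := by
  have : Ring.KrullDimLE 1 (Y.presheaf.stalk y) := krullDimLE_of_coheight_le hyc.le
  have hnf : ¬ IsField (Y.presheaf.stalk y) := by
    intro hf
    have h1 := ringKrullDim_stalk_eq_coheight (X := Y) y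
    rw [ringKrullDim_eq_zero_of_isField hf, hyc] at h1
    exact absurd h1 (by norm_num)
  have hdvr : IsDiscreteValuationRing (Y.presheaf.stalk y) := by
    have h := ((IsDiscreteValuationRing.TFAE (Y.presheaf.stalk y) hnf).out 0 4).2
    exact h ⟨⟨a, ha⟩⟩
  have hirr : Irreducible a := (IsDiscreteValuationRing.irreducible_iff_uniformizer a).2 ha
  exact ord_of_irreducible y hyc a hirr

theorem ord_pow (y : Y) (f : Y.functionField) (hf : f ≠ 0) (k : ℕ) :
    Scheme.ord (f ^ k) y = k * Scheme.ord f y := by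
  induction k with
  | zero => simp [ord_one]
  | succ k ih =>
    rw [pow_succ, Scheme.ord_mul (pow_ne_zero k hf) hf, ih]
    push_cast
    ring

end ord


section morphism

variable {P X : Scheme.{u}} (p : P ⟶ X)

theorem comap_primeAt (U : X.Opens) (y : P) (hy : y ∈ p ⁻¹ᵁ U) (hy' : p y ∈ U) :
    (primeAt (p ⁻¹ᵁ U) y hy).comap (p.app U).hom = primeAt U (p y) hy' := by
  ext a
  have h := Scheme.Hom.germ_stalkMap_apply p U y hy' a
  have h1 := mem_primeAt_iff (p ⁻¹ᵁ U) y hy (p.app U a)
  have h2 := mem_primeAt_iff U (p y) hy' a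
  have h3 : IsUnit (P.presheaf.germ (p ⁻¹ᵁ U) y hy (p.app U a)) ↔
      IsUnit (X.presheaf.germ U (p y) hy' a) := by
    have : P.presheaf.germ (p ⁻¹ᵁ U) y hy (p.app U a) =
        p.stalkMap y (X.presheaf.germ U (p y) hy' a) := h.symm
    rw [this]
    exact isUnit_map_iff (p.stalkMap y).hom _
  exact (h1.trans h3.not).trans h2.symm

variable [IsIntegral P] [IsIntegral X]

theorem map_genericPoint_of_surjective [Surjective p] :
    p (genericPoint P) = genericPoint X := by
  apply ((genericPoint_spec X).eq _).symm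
  have h := (genericPoint_spec P).image p.continuous
  convert h
  rw [Set.image_univ, p.surjective.range_eq, closure_univ]

/-- the pullback of rational functions along a dominant morphism. -/
noncomputable def iota (h : p (genericPoint P) = genericPoint X) :
    X.functionField ⟶ P.functionField :=
  X.presheaf.stalkSpecializes (Inseparable.of_eq h).specializes ≫ p.stalkMap (genericPoint P)

theorem iota_germToFunctionField (h : p (genericPoint P) = genericPoint X) (U : X.Opens)
    [Nonempty U] [Nonempty (p ⁻¹ᵁ U : P.Opens)] (a : Γ(X, U)) :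
    iota p h (X.germToFunctionField U a) = P.germToFunctionField (p ⁻¹ᵁ U) (p.app U a) := by
  have hmem : p (genericPoint P) ∈ U := by
    rw [h]
    exact ((genericPoint_spec X).mem_open_set_iff U.isOpen).mpr (by simpa using ‹Nonempty U›)
  have key : X.germToFunctionField U ≫ iota p h =
      p.app U ≫ P.germToFunctionField (p ⁻¹ᵁ U) := by
    unfold iota Scheme.germToFunctionField
    rw [← Category.assoc, X.presheaf.germ_stalkSpecializes]
    exact Scheme.Hom.germ_stalkMap p U (genericPoint P) hmem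
  exact congrArg (fun φ => φ.hom a) key

theorem iota_injective (h : p (genericPoint P) = genericPoint X) :
    Function.Injective (iota p h).hom :=
  (iota p h).hom.injective

end morphism


section unramified

variable {P X : Scheme.{u}} (p : P ⟶ X) [IsIntegral P] [IsIntegral X]
  [IsLocallyNoetherian P] [IsLocallyNoetherian X]

open Groth.Agent.Lib.Seat62.CDivNormal

omit [IsIntegral X] [IsLocallyNoetherian X] in
theorem isLocalization_primeAt {W : X.Opens} (hW : IsAffineOpen W) (x : X) (hx : x ∈ W) :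
    @IsLocalization.AtPrime _ _ (X.presheaf.stalk x) _
      (TopCat.Presheaf.algebra_section_stalk X.presheaf ⟨x, hx⟩) (primeAt W x hx) _ := by
  let := TopCat.Presheaf.algebra_section_stalk X.presheaf ⟨x, hx⟩
  have aux : ∀ (I J : Ideal Γ(X, W)) [I.IsPrime] [J.IsPrime], I = J →
      IsLocalization.AtPrime (X.presheaf.stalk x) I →
        IsLocalization.AtPrime (X.presheaf.stalk x) J := by
    intro I J _ _ h
    subst h
    exact id
  exact aux _ _ (primeAt_eq hW x hx).symm (hW.isLocalization_stalk ⟨x, hx⟩)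

omit [IsIntegral X] [IsLocallyNoetherian X] in
theorem maximalIdeal_eq_map_primeAt {W : X.Opens} (hW : IsAffineOpen W) (x : X) (hx : x ∈ W) :
    maximalIdeal (X.presheaf.stalk x) = (primeAt W x hx).map (X.presheaf.germ W x hx).hom := by
  let := TopCat.Presheaf.algebra_section_stalk X.presheaf ⟨x, hx⟩
  have hloc : IsLocalization.AtPrime (X.presheaf.stalk x) (primeAt W x hx) :=
    isLocalization_primeAt hW x hx
  exact (IsLocalization.AtPrime.map_eq_maximalIdeal (primeAt W x hx) (X.presheaf.stalk x)).symm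

/-- If the prime of `y` is generated by the prime of the codimension one point `p y`, whose local
ring is a discrete valuation ring, then orders of vanishing at `y` of pulled back functions are the
orders at `p y`. -/
theorem ord_iota_eq (hgen : p (genericPoint P) = genericPoint X) (U : X.Opens)
    (hU : IsAffineOpen U) (hW : IsAffineOpen (p ⁻¹ᵁ U)) (y : P) (hy : y ∈ p ⁻¹ᵁ U)
    (hy' : p y ∈ U) (hyc : coheight y = 1) (hxc : coheight (p y) = 1)
    [IsDiscreteValuationRing (X.presheaf.stalk (p y))]
    (hQ : primeAt (p ⁻¹ᵁ U) y hy = (primeAt U (p y) hy').map (p.app U).hom)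
    (f : X.functionField) (hf : f ≠ 0) :
    Scheme.ord (iota p hgen f) y = Scheme.ord f (p y) := by
  have : Nonempty U := ⟨⟨p y, hy'⟩⟩
  have : Nonempty (p ⁻¹ᵁ U : P.Opens) := ⟨⟨y, hy⟩⟩
  set x := p y with hx
  set 𝔭 := primeAt U x hy' with h𝔭
  let := TopCat.Presheaf.algebra_section_stalk X.presheaf ⟨x, hy'⟩
  have hloc : IsLocalization.AtPrime (X.presheaf.stalk x) 𝔭 := isLocalization_primeAt hU x hy'
  have halg : ∀ c : Γ(X, U), algebraMap Γ(X, U) (X.presheaf.stalk x) c =
      X.presheaf.germ U x hy' c := fun c => rfl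
  -- a uniformizer coming from `U`
  obtain ⟨ϖ, hϖ⟩ := IsDiscreteValuationRing.exists_irreducible (X.presheaf.stalk x)
  obtain ⟨⟨a, s⟩, has⟩ := IsLocalization.surj 𝔭.primeCompl ϖ
  simp only [halg] at has
  have hsu : IsUnit (X.presheaf.germ U x hy' s) := by
    have := IsLocalization.map_units (X.presheaf.stalk x) s
    rwa [halg] at this
  have hirr : Irreducible (X.presheaf.germ U x hy' a) := by
    rw [← has]
    exact (irreducible_mul_isUnit hsu).2 hϖ  
  have hspan : maximalIdeal (X.presheaf.stalk x) = Ideal.span {X.presheaf.germ U x hy' a} :=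
    (IsDiscreteValuationRing.irreducible_iff_uniformizer _).1 hirr
  have ha0 : a ≠ 0 := by
    rintro rfl
    rw [map_zero] at hirr
    exact hirr.ne_zero rfl
  -- the uniformizer upstairs
  have hstalk : ∀ c : Γ(X, U), p.stalkMap y (X.presheaf.germ U x hy' c) =
      P.presheaf.germ (p ⁻¹ᵁ U) y hy (p.app U c) :=
    fun c => Scheme.Hom.germ_stalkMap_apply p U y hy' c
  have hspan' : maximalIdeal (P.presheaf.stalk y) =
      Ideal.span {P.presheaf.germ (p ⁻¹ᵁ U) y hy (p.app U a)} := by
    rw [maximalIdeal_eq_map_primeAt hW y hy, hQ, Ideal.map_map]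
    have hcomp : (P.presheaf.germ (p ⁻¹ᵁ U) y hy).hom.comp (p.app U).hom =
        (p.stalkMap y).hom.comp (X.presheaf.germ U x hy').hom := by
      ext c
      exact (hstalk c).symm
    rw [hcomp, ← Ideal.map_map, ← maximalIdeal_eq_map_primeAt hU x hy', hspan, Ideal.map_span,
      Set.image_singleton]
    congr 2
    exact hstalk a
  have hord_a : Scheme.ord (X.germToFunctionField U a) x = 1 := by
    have := ord_of_irreducible x hxc _ hirr
    rwa [Scheme.algebraMap_germ_eq_germToFunctionField] at this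
  have hord_a' : Scheme.ord (P.germToFunctionField (p ⁻¹ᵁ U) (p.app U a)) y = 1 := by
    have := ord_eq_one_of_span y hyc _ hspan'
    rwa [Scheme.algebraMap_germ_eq_germToFunctionField] at this
  have hpa0 : P.germToFunctionField (p ⁻¹ᵁ U) (p.app U a) ≠ 0 := by
    rw [← iota_germToFunctionField p hgen U a]
    rw [Ne, ← map_zero (iota p hgen).hom]
    exact fun h => germToFunctionField_ne_zero U a ha0 (iota_injective p hgen h)
  have hnotmem : ∀ b : Γ(X, U), b ∉ 𝔭 → p.app U b ∉ primeAt (p ⁻¹ᵁ U) y hy := by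
    intro b hb hb'
    apply hb
    rw [h𝔭, ← comap_primeAt p U y hy hy']
    exact hb'
  -- the case of elements of the local ring
  have key : ∀ r : X.presheaf.stalk x, r ≠ 0 →
      Scheme.ord (iota p hgen (algebraMap (X.presheaf.stalk x) X.functionField r)) y =
        Scheme.ord (algebraMap (X.presheaf.stalk x) X.functionField r) x := by
    intro r hr
    obtain ⟨i, v, hv⟩ := IsDiscreteValuationRing.eq_unit_mul_pow_irreducible hr hirr
    obtain ⟨⟨b, s'⟩, hbs⟩ := IsLocalization.surj 𝔭.primeCompl (v : X.presheaf.stalk x)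
    simp only [halg] at hbs
    have hs'u : IsUnit (X.presheaf.germ U x hy' s') := by
      have := IsLocalization.map_units (X.presheaf.stalk x) s'
      rwa [halg] at this
    have hbu : IsUnit (X.presheaf.germ U x hy' b) := by
      rw [← hbs]; exact v.isUnit.mul hs'u
    have hb𝔭 : b ∉ 𝔭 := by
      rw [h𝔭, mem_primeAt_iff, not_not]; exact hbu
    have hs'𝔭 : (s' : Γ(X, U)) ∉ 𝔭 := s'.2
    have hb0 : b ≠ 0 := fun e => hb𝔭 (e ▸ 𝔭.zero_mem)
    have hs'0 : (s' : Γ(X, U)) ≠ 0 := fun e => hs'𝔭 (e ▸ 𝔭.zero_mem)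
    set z := algebraMap (X.presheaf.stalk x) X.functionField r with hz
    have hz0 : z ≠ 0 := (map_ne_zero_iff _ (IsFractionRing.injective _ _)).2 hr
    have hrel : z * X.germToFunctionField U s' =
        X.germToFunctionField U b * X.germToFunctionField U a ^ i := by
      rw [← X.algebraMap_germ_eq_germToFunctionField hy' (s' : Γ(X, U)),
        ← X.algebraMap_germ_eq_germToFunctionField hy' b,
        ← X.algebraMap_germ_eq_germToFunctionField hy' a, hz, ← map_pow, ← map_mul,
        ← map_mul, ← hbs, hv]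
      congr 1
      ring
    have hrel' : iota p hgen z * P.germToFunctionField (p ⁻¹ᵁ U) (p.app U s') =
        P.germToFunctionField (p ⁻¹ᵁ U) (p.app U b) *
          P.germToFunctionField (p ⁻¹ᵁ U) (p.app U a) ^ i := by
      rw [← iota_germToFunctionField p hgen U, ← iota_germToFunctionField p hgen U,
        ← iota_germToFunctionField p hgen U, ← map_pow, ← map_mul, ← map_mul, hrel]
    have hιz0 : iota p hgen z ≠ 0 := by
      rw [Ne, ← map_zero (iota p hgen).hom]
      exact fun h => hz0 (iota_injective p hgen h)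
    have hs'K : X.germToFunctionField U (s' : Γ(X, U)) ≠ 0 :=
      germToFunctionField_ne_zero U _ hs'0
    have hbK : X.germToFunctionField U b ≠ 0 := germToFunctionField_ne_zero U _ hb0
    have haK : X.germToFunctionField U a ≠ 0 := germToFunctionField_ne_zero U _ ha0
    have hιs'0 : P.germToFunctionField (p ⁻¹ᵁ U) (p.app U s') ≠ 0 := by
      rw [← iota_germToFunctionField p hgen U]
      rw [Ne, ← map_zero (iota p hgen).hom]
      exact fun h => hs'K (iota_injective p hgen h)
    have hιb0 : P.germToFunctionField (p ⁻¹ᵁ U) (p.app U b) ≠ 0 := by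
      rw [← iota_germToFunctionField p hgen U]
      rw [Ne, ← map_zero (iota p hgen).hom]
      exact fun h => hbK (iota_injective p hgen h)
    have e1 := congrArg (fun t => Scheme.ord t x) hrel
    have e2 := congrArg (fun t => Scheme.ord t y) hrel'
    simp only at e1 e2
    rw [Scheme.ord_mul hz0 hs'K, Scheme.ord_mul hbK (pow_ne_zero _ haK), ord_pow x _ haK,
      ord_of_notMem U x hy' _ hs'𝔭, ord_of_notMem U x hy' _ hb𝔭, hord_a] at e1
    rw [Scheme.ord_mul hιz0 hιs'0, Scheme.ord_mul hιb0 (pow_ne_zero _ hpa0), ord_pow y _ hpa0,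
      ord_of_notMem _ y hy _ (hnotmem _ hs'𝔭), ord_of_notMem _ y hy _ (hnotmem _ hb𝔭),
      hord_a'] at e2
    omega
  obtain ⟨r, r', hr', rfl⟩ := IsFractionRing.div_surjective (A := X.presheaf.stalk x) f
  have hr'0 : r' ≠ 0 := nonZeroDivisors.ne_zero hr'
  have hr0 : r ≠ 0 := by
    rintro rfl
    rw [map_zero, zero_div] at hf
    exact hf rfl
  have hzr : algebraMap (X.presheaf.stalk x) X.functionField r ≠ 0 :=
    (map_ne_zero_iff _ (IsFractionRing.injective _ _)).2 hr0
  have hzr' : algebraMap (X.presheaf.stalk x) X.functionField r' ≠ 0 :=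
    (map_ne_zero_iff _ (IsFractionRing.injective _ _)).2 hr'0
  have hιr : iota p hgen (algebraMap (X.presheaf.stalk x) X.functionField r) ≠ 0 := by
    rw [Ne, ← map_zero (iota p hgen).hom]
    exact fun h => hzr (iota_injective p hgen h)
  have hιr' : iota p hgen (algebraMap (X.presheaf.stalk x) X.functionField r') ≠ 0 := by
    rw [Ne, ← map_zero (iota p hgen).hom]
    exact fun h => hzr' (iota_injective p hgen h)
  rw [map_div₀, div_eq_mul_inv, div_eq_mul_inv, Scheme.ord_mul hιr (inv_ne_zero hιr'),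
    Scheme.ord_mul hzr (inv_ne_zero hzr'), ord_inv _ _ hιr', ord_inv _ _ hzr', key r hr0,
    key r' hr'0]

end unramified

end Groth.Agent.Lib.Seat62.AffDict
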