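import Mathlib

/-!
# A product of two affine schemes has the coproduct ring as global sections (helper62)

If `(Z, a, b)` is a product of `Spec A₁` and `Spec A₂` in schemes and `(C, i₁, i₂)` is jointly
epimorphic over `A₁, A₂`, then any `Θ : C ⟶ Γ(Z, ⊤)` restricting to the adjoint maps of `a`, `b` is an
isomorphism.
-/

set_option autoImplicit false
set_option linter.style.haveILetI false
universe u

namespace Groth.Agent.Lib.Seat62.AffProd

open CategoryTheory CategoryTheory.Limits AlgebraicGeometry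

/-- A morphism to an affine scheme is recovered from its map on global sections. -/
theorem eq_toSpecΓ_comp {W : Scheme.{u}} {R : CommRingCat.{u}} (g : W ⟶ Spec R) :
    g = W.toSpecΓ ≫ Spec.map ((Scheme.ΓSpecIso R).inv ≫ g.appTop) := by
  rw [Spec.map_comp, ← Category.assoc, ← Scheme.toSpecΓ_naturality, Category.assoc,
    toSpecΓ_SpecMap_ΓSpecIso_inv, Category.comp_id]

variable {A₁ A₂ C : CommRingCat.{u}} (i₁ : A₁ ⟶ C) (i₂ : A₂ ⟶ C)
  (hun : ∀ (R : CommRingCat.{u}) (h h' : C ⟶ R), i₁ ≫ h = i₁ ≫ h' → i₂ ≫ h = i₂ ≫ h' → h = h')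
  {Z : Scheme.{u}} (a : Z ⟶ Spec A₁) (b : Z ⟶ Spec A₂)
  (hlift : ∀ (W : Scheme.{u}) (α : W ⟶ Spec A₁) (β : W ⟶ Spec A₂),
    ∃ l : W ⟶ Z, l ≫ a = α ∧ l ≫ b = β)
  (hext : ∀ (W : Scheme.{u}) (g₁ g₂ : W ⟶ Z), g₁ ≫ a = g₂ ≫ a → g₁ ≫ b = g₂ ≫ b → g₁ = g₂)

include hun hlift hext in
theorem isIso_of_coprod (Θ : C ⟶ Γ(Z, ⊤))
    (h₁ : i₁ ≫ Θ = (Scheme.ΓSpecIso A₁).inv ≫ a.appTop)
    (h₂ : i₂ ≫ Θ = (Scheme.ΓSpecIso A₂).inv ≫ b.appTop) : IsIso Θ := by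
  obtain ⟨φ, hφa, hφb⟩ := hlift (Spec C) (Spec.map i₁) (Spec.map i₂)
  -- (2) Θ ≫ φ.appTop = (ΓSpecIso C).inv
  have hΘφ : Θ ≫ φ.appTop = (Scheme.ΓSpecIso C).inv := by
    apply hun
    · rw [← Category.assoc, h₁, Category.assoc, ← Scheme.Hom.comp_appTop, hφa,
        Scheme.ΓSpecIso_inv_naturality]
    · rw [← Category.assoc, h₂, Category.assoc, ← Scheme.Hom.comp_appTop, hφb,
        Scheme.ΓSpecIso_inv_naturality]
  -- (1) ψ ≫ φ = 𝟙
  have h1 : (Z.toSpecΓ ≫ Spec.map Θ) ≫ φ = 𝟙 Z := by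
    apply hext
    · rw [Category.assoc, Category.assoc, hφa, ← Spec.map_comp, h₁, Category.id_comp]
      exact (eq_toSpecΓ_comp a).symm
    · rw [Category.assoc, Category.assoc, hφb, ← Spec.map_comp, h₂, Category.id_comp]
      exact (eq_toSpecΓ_comp b).symm
  -- (3) φ ≫ ψ = 𝟙
  have h3 : φ ≫ (Z.toSpecΓ ≫ Spec.map Θ) = 𝟙 _ := by
    rw [← Category.assoc, Scheme.toSpecΓ_naturality, Category.assoc, ← Spec.map_comp, hΘφ,
      toSpecΓ_SpecMap_ΓSpecIso_inv]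
  haveI : IsIso φ := ⟨_, h3, h1⟩
  haveI : IsIso φ.appTop := ⟨(inv φ).appTop,
    by rw [← Scheme.Hom.comp_appTop, IsIso.inv_hom_id]; rfl,
    by rw [← Scheme.Hom.comp_appTop, IsIso.hom_inv_id]; rfl⟩
  have : Θ = (Scheme.ΓSpecIso C).inv ≫ inv φ.appTop := by
    rw [← hΘφ, Category.assoc, IsIso.hom_inv_id, Category.comp_id]
  rw [this]
  infer_instance

end Groth.Agent.Lib.Seat62.AffProd
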