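import Mathlib

/-!
# Charts of the affine space over a scheme (seat 62)

For an affine open `U` of `X`, the preimage `W` of `U` in `𝔸(n; X)` is affine with
`Γ(𝔸(n; X), W) = Γ(X, U)[t_i]`.
-/

set_option autoImplicit false
universe u
open CategoryTheory AlgebraicGeometry TopologicalSpace Limits MvPolynomial

namespace Groth.Agent.Lib.Seat62.AffSpaceChart

variable (n : Type u) {X : Scheme.{u}} {U : X.Opens} (hU : IsAffineOpen U)

/-- the open immersion `Spec Γ(X, U)[t] ⟶ 𝔸(n; X)`. -/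
noncomputable def J : Spec (.of (MvPolynomial n Γ(X, U))) ⟶ 𝔸(n; X) :=
  (AffineSpace.SpecIso n Γ(X, U)).inv ≫ AffineSpace.map n hU.fromSpec

instance : IsOpenImmersion (AffineSpace.map n hU.fromSpec) :=
  MorphismProperty.of_isPullback (P := @IsOpenImmersion)
    (AffineSpace.isPullback_map (n := n) hU.fromSpec).flip inferInstance

instance : IsOpenImmersion (J n hU) := by
  unfold J; infer_instance

theorem J_over : J n hU ≫ (𝔸(n; X) ↘ X) = Spec.map (CommRingCat.ofHom C) ≫ hU.fromSpec := by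
  unfold J
  rw [Category.assoc, AffineSpace.map_over, AffineSpace.SpecIso_inv_over_assoc]

theorem range_J : Set.range (J n hU) = (𝔸(n; X) ↘ X) ⁻¹' (U : Set X) := by
  have h := Scheme.image_preimage_eq_of_isPullback
    (AffineSpace.isPullback_map (n := n) hU.fromSpec).flip Set.univ
  rw [Set.preimage_univ, Set.image_univ, Set.image_univ, hU.range_fromSpec] at h
  unfold J
  rw [Scheme.Hom.comp_base, TopCat.coe_comp, Set.range_comp,
    Set.range_eq_univ.2 (AffineSpace.SpecIso n Γ(X, U)).inv.surjective, Set.image_univ]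
  exact h

theorem opensRange_J : (J n hU).opensRange = (𝔸(n; X) ↘ X) ⁻¹ᵁ U := by
  ext1
  exact range_J n hU


/-- the comparison ring hom `Γ(X, U)[t] → Γ(𝔸(n; X), p⁻¹ U)`. -/
noncomputable def psi (U : X.Opens) :
    MvPolynomial n Γ(X, U) →+* Γ(𝔸(n; X), (𝔸(n; X) ↘ X) ⁻¹ᵁ U) :=
  eval₂Hom ((𝔸(n; X) ↘ X).app U).hom
    (fun i => (𝔸(n; X)).presheaf.map (homOfLE le_top).op (AffineSpace.coord X i))

theorem psi_C (U : X.Opens) (a : Γ(X, U)) : psi n U (C a) = (𝔸(n; X) ↘ X).app U a := by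
  unfold psi
  simp

theorem le_preimage_J : (⊤ : (Spec (.of (MvPolynomial n Γ(X, U)))).Opens) ≤
    (J n hU) ⁻¹ᵁ ((𝔸(n; X) ↘ X) ⁻¹ᵁ U) := by
  rw [← opensRange_J n hU]
  intro x _
  exact ⟨x, rfl⟩

theorem appLE_J_bijective : Function.Bijective
    ((J n hU).appLE ((𝔸(n; X) ↘ X) ⁻¹ᵁ U) ⊤ (le_preimage_J n hU)).hom := by
  have aux : ∀ (W : (𝔸(n; X)).Opens) (h : (J n hU) ''ᵁ ⊤ = W) (e : ⊤ ≤ (J n hU) ⁻¹ᵁ W),
      Function.Bijective ((J n hU).appLE W ⊤ e).hom := by
    rintro _ rfl e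
    have := (J n hU).appIso_hom' ⊤
    rw [← this]
    exact ConcreteCategory.bijective_of_isIso ((J n hU).appIso ⊤).hom
  refine aux _ ?_ _
  rw [← opensRange_J n hU]
  exact (J n hU).image_top_eq_opensRange

theorem appLE_congr_hom {A B : Scheme.{u}} {f g : A ⟶ B} (h : f = g) (U : B.Opens) (V : A.Opens)
    (e : V ≤ f ⁻¹ᵁ U) : f.appLE U V e = g.appLE U V (h ▸ e) := by
  subst h; rfl

set_option backward.isDefEq.respectTransparency.types false in
theorem app_appLE_J : (𝔸(n; X) ↘ X).app U ≫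
    (J n hU).appLE ((𝔸(n; X) ↘ X) ⁻¹ᵁ U) ⊤ (le_preimage_J n hU) =
      CommRingCat.ofHom C ≫ (Scheme.ΓSpecIso (.of (MvPolynomial n Γ(X, U)))).inv := by
  have h1 := Scheme.Hom.comp_appLE (J n hU) (𝔸(n; X) ↘ X) U ⊤ (le_preimage_J n hU)
  rw [← h1, appLE_congr_hom (J_over n hU), Scheme.Hom.comp_appLE,
    hU.fromSpec_app_self, Category.assoc, Scheme.Hom.map_appLE,
    Scheme.ΓSpecIso_inv_naturality]
  congr 1

theorem appLE_J_psi : ((J n hU).appLE ((𝔸(n; X) ↘ X) ⁻¹ᵁ U) ⊤ (le_preimage_J n hU)).hom.comp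
    (psi n U) = (Scheme.ΓSpecIso (.of (MvPolynomial n Γ(X, U)))).inv.hom := by
  apply MvPolynomial.ringHom_ext
  · intro a
    rw [RingHom.comp_apply, psi_C]
    exact congrArg (fun φ => φ.hom a) (app_appLE_J n hU)
  · intro i
    rw [RingHom.comp_apply]
    unfold psi
    rw [coe_eval₂Hom, eval₂_X]
    have h1 : (𝔸(n; X)).presheaf.map (homOfLE le_top).op ≫
        (J n hU).appLE ((𝔸(n; X) ↘ X) ⁻¹ᵁ U) ⊤ (le_preimage_J n hU) = (J n hU).appTop := by
      rw [Scheme.Hom.map_appLE]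
      exact (Scheme.Hom.app_eq_appLE _).symm
    have h2 := congrArg (fun φ => φ.hom (AffineSpace.coord X i)) h1
    simp only [CommRingCat.hom_comp, RingHom.comp_apply] at h2
    refine h2.trans ?_
    have h3 : (J n hU).appTop = (AffineSpace.map n hU.fromSpec).appTop ≫
        (AffineSpace.SpecIso n Γ(X, U)).inv.appTop := by
      unfold J
      exact Scheme.Hom.comp_appTop _ _
    have h4 : (AffineSpace.map n hU.fromSpec).appTop (AffineSpace.coord X i) =
        AffineSpace.coord _ i := AffineSpace.map_appTop_coord _ _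
    have h5 : (AffineSpace.SpecIso n Γ(X, U)).inv.appTop (AffineSpace.coord _ i) =
        (Scheme.ΓSpecIso (.of _)).inv (.X i) := AffineSpace.SpecIso_inv_appTop_coord _ _
    rw [h3]
    change (AffineSpace.SpecIso n Γ(X, U)).inv.appTop
      ((AffineSpace.map n hU.fromSpec).appTop (AffineSpace.coord X i)) = _
    rw [h4, h5]


include hU in
theorem psi_bijective : Function.Bijective (psi n U) := by
  have h1 := appLE_J_bijective n hU
  have h2 : Function.Bijective ((Scheme.ΓSpecIso (.of (MvPolynomial n Γ(X, U)))).inv.hom) :=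
    ConcreteCategory.bijective_of_isIso (Scheme.ΓSpecIso (.of (MvPolynomial n Γ(X, U)))).inv
  rw [← appLE_J_psi n hU, RingHom.coe_comp] at h2
  exact (Function.Bijective.of_comp_iff' h1 _).1 h2

include hU in
theorem isAffineOpen_preimage : IsAffineOpen ((𝔸(n; X) ↘ X) ⁻¹ᵁ U) :=
  hU.preimage (𝔸(n; X) ↘ X)

end Groth.Agent.Lib.Seat62.AffSpaceChart
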