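import Mathlib

/-!
# Height-one primes of polynomial rings over a domain (seat 62)

Ring-level input for the homotopy invariance of the divisor class group
(`Cl(X) → Cl(𝔸ⁿ_X)`):

* `isPrime_map_C`, `comap_map_C`, `height_map_C`: for a height-one prime `𝔭` of a noetherian
  domain `A`, the extension `𝔭 A[t]` is a height-one prime contracting to `𝔭`;
* `exists_const_of_forall_height_one`: a nonzero rational function on `A[t]` which is a unit at all
  height-one primes `Q` with `Q ∩ A = 0` is a quotient of two constants.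
-/

set_option autoImplicit false

open MvPolynomial

namespace Groth.Agent.Lib.Seat62.PolyDiv

variable {A : Type*} [CommRing A] {σ : Type*}

theorem isPrime_map_C (𝔭 : Ideal A) [𝔭.IsPrime] :
    (𝔭.map (C : A →+* MvPolynomial σ A)).IsPrime := by
  have h := MvPolynomial.ker_map (σ := σ) (Ideal.Quotient.mk 𝔭)
  rw [Ideal.mk_ker] at h
  rw [← h]
  exact RingHom.ker_isPrime _

theorem comap_map_C (𝔭 : Ideal A) :
    (𝔭.map (C : A →+* MvPolynomial σ A)).comap C = 𝔭 := by
  refine le_antisymm ?_ Ideal.le_comap_map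
  intro a ha
  rw [Ideal.mem_comap, MvPolynomial.mem_map_C_iff] at ha
  simpa using ha 0

/-- a nonzero prime contained in a height-one prime of a domain is equal to it. -/
theorem eq_of_le_of_height_one {S : Type*} [CommRing S] [IsDomain S] {I J : Ideal S} [I.IsPrime]
    [J.IsPrime] (hI : I ≠ ⊥) (hJ : J.height = 1) (h : I ≤ J) : I = J := by
  by_contra hne
  have hlt : I < J := lt_of_le_of_ne h hne
  have : J.FiniteHeight := ⟨Or.inr (by rw [hJ]; exact ENat.one_ne_top)⟩
  have h1 : I.height < J.height := Ideal.height_strict_mono_of_isPrime_of_isPrime hlt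
  rw [hJ] at h1
  exact hI (Ideal.height_eq_zero_iff_eq_bot.1 (Order.lt_one_iff.1 h1))

theorem mem_minimalPrimes_span_of_height_one [IsDomain A] (𝔭 : Ideal A) [𝔭.IsPrime]
    (h : 𝔭.height = 1) (a : A) (ha : a ∈ 𝔭) (ha0 : a ≠ 0) :
    𝔭 ∈ (Ideal.span {a}).minimalPrimes := by
  refine ⟨⟨inferInstance, (Ideal.span_singleton_le_iff_mem _).2 ha⟩, ?_⟩
  rintro q ⟨hq, haq⟩ hqp
  have hq0 : q ≠ ⊥ := by
    rintro rfl
    have : a ∈ (⊥ : Ideal A) := (Ideal.span_singleton_le_iff_mem _).1 haq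
    exact ha0 (by simpa using this)
  exact (eq_of_le_of_height_one hq0 h hqp).ge

theorem finite_height_one_of_mem_map_C [IsDomain A] [IsNoetherianRing A] (u : MvPolynomial σ A)
    (hu : u ≠ 0) : {𝔭 : Ideal A | 𝔭.IsPrime ∧ 𝔭.height = 1 ∧ u ∈ 𝔭.map C}.Finite := by
  obtain ⟨m, hm⟩ := MvPolynomial.ne_zero_iff.1 hu
  refine (Ideal.finite_minimalPrimes_of_isNoetherianRing A (Ideal.span {coeff m u})).subset ?_
  rintro 𝔭 ⟨h𝔭, hh, hmem⟩
  exact mem_minimalPrimes_span_of_height_one 𝔭 hh _ (MvPolynomial.mem_map_C_iff.1 hmem m) hm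

theorem eq_map_C_of_height_one [IsDomain A] (Q : Ideal (MvPolynomial σ A)) [Q.IsPrime]
    (hQ : Q.height = 1) (hne : Q.comap C ≠ ⊥) : (Q.comap C).map C = Q := by
  have : ((Q.comap C).map (C : A →+* MvPolynomial σ A)).IsPrime := isPrime_map_C _
  refine eq_of_le_of_height_one ?_ hQ Ideal.map_comap_le
  intro e
  apply hne
  have := comap_map_C (σ := σ) (Q.comap C)
  rw [e] at this
  rw [← this, eq_bot_iff]
  intro a ha
  rw [Ideal.mem_comap, Ideal.mem_bot] at ha
  rw [Ideal.mem_bot]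
  exact MvPolynomial.C_injective σ A (by rw [ha, map_zero])

theorem height_eq_one_of_height_map_C [IsDomain A] (𝔭 : Ideal A) [𝔭.IsPrime]
    (h : (𝔭.map (C : A →+* MvPolynomial σ A)).height = 1) : 𝔭.height = 1 := by
  have hQ : (𝔭.map (C : A →+* MvPolynomial σ A)).IsPrime := isPrime_map_C 𝔭
  have h𝔭0 : 𝔭 ≠ ⊥ := by
    rintro rfl
    rw [Ideal.map_bot, Ideal.height_bot] at h
    exact zero_ne_one h
  refine le_antisymm ?_ ?_
  · have h1 : 𝔭.height ≤ ((1 : ℕ) : ℕ∞) := by
      rw [Ideal.height_le_iff]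
      intro q hq hq𝔭
      have hqQ : (q.map (C : A →+* MvPolynomial σ A)).IsPrime := isPrime_map_C q
      have hq0 : q = ⊥ := by
        by_contra hq0
        have hne : q.map (C : A →+* MvPolynomial σ A) ≠ ⊥ := by
          intro e
          apply hq0
          have := comap_map_C (σ := σ) q
          rw [e] at this
          rw [← this, eq_bot_iff]
          intro a ha
          rw [Ideal.mem_comap, Ideal.mem_bot] at ha
          rw [Ideal.mem_bot]
          exact MvPolynomial.C_injective σ A (by rw [ha, map_zero])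
        have := eq_of_le_of_height_one hne h (Ideal.map_mono hq𝔭.le)
        have h2 := congrArg (Ideal.comap (C : A →+* MvPolynomial σ A)) this
        rw [comap_map_C, comap_map_C] at h2
        exact hq𝔭.ne h2
      rw [hq0, Ideal.height_bot]
      exact_mod_cast zero_lt_one
    exact_mod_cast h1
  · rw [Order.one_le_iff_ne_zero, Ne, Ideal.height_eq_zero_iff_eq_bot]
    exact h𝔭0

theorem height_map_C [IsDomain A] [Finite σ] [IsNoetherianRing A] (𝔭 : Ideal A) [𝔭.IsPrime]
    (h : 𝔭.height = 1) : (𝔭.map (C : A →+* MvPolynomial σ A)).height = 1 := by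
  have hQ : (𝔭.map (C : A →+* MvPolynomial σ A)).IsPrime := isPrime_map_C 𝔭
  have hne : 𝔭 ≠ ⊥ := by
    rintro rfl
    rw [Ideal.height_bot] at h
    exact zero_ne_one h
  obtain ⟨a, ha, ha0⟩ := Submodule.exists_mem_ne_zero_of_ne_bot hne
  -- `𝔭` is minimal over `(a)`
  have hmin : 𝔭 ∈ (Ideal.span {a}).minimalPrimes := by
    refine ⟨⟨inferInstance, (Ideal.span_singleton_le_iff_mem _).2 ha⟩, ?_⟩
    rintro q ⟨hq, haq⟩ hqp
    by_contra hpq
    have hlt : q < 𝔭 := lt_of_le_of_ne hqp (fun e => hpq (e ▸ le_refl _))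
    have h1 : q.height < 𝔭.height := Ideal.height_strict_mono_of_isPrime_of_isPrime hlt
    rw [h] at h1
    have hq0 : q.height = 0 := Order.lt_one_iff.1 h1
    have hqbot : q = ⊥ := Ideal.height_eq_zero_iff_eq_bot.1 hq0
    apply ha0
    have : a ∈ q := (Ideal.span_singleton_le_iff_mem _).1 haq
    rw [hqbot] at this
    exact this
  have hmin' : 𝔭.map (C : A →+* MvPolynomial σ A) ∈
      (Ideal.span {(C a : MvPolynomial σ A)}).minimalPrimes := by
    refine ⟨⟨hQ, ?_⟩, ?_⟩
    · rw [Ideal.span_singleton_le_iff_mem]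
      exact Ideal.mem_map_of_mem _ ha
    · rintro Q' ⟨hQ', haQ'⟩ hQ'Q
      rw [Ideal.map_le_iff_le_comap]
      have h1 : Q'.comap C ≤ 𝔭 := by
        have := Ideal.comap_mono (f := (C : A →+* MvPolynomial σ A)) hQ'Q
        rwa [comap_map_C] at this
      refine hmin.2 ⟨Ideal.comap_isPrime _ _, ?_⟩ h1
      rw [Ideal.span_singleton_le_iff_mem, Ideal.mem_comap]
      exact (Ideal.span_singleton_le_iff_mem _).1 haQ'
  have hle := Ideal.height_le_one_of_isPrincipal_of_mem_minimalPrimes _ _ hmin'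
  refine le_antisymm hle ?_
  rw [Order.one_le_iff_ne_zero, Ne, Ideal.height_eq_zero_iff_eq_bot]
  intro e
  have : (C a : MvPolynomial σ A) ∈ 𝔭.map (C : A →+* MvPolynomial σ A) :=
    Ideal.mem_map_of_mem _ ha
  rw [e, Ideal.mem_bot] at this
  exact ha0 (by simpa using this)


section const

attribute [local instance] MvPolynomial.algebraMvPolynomial

variable [IsDomain A] [Finite σ]

local notation "R" => MvPolynomial σ A
local notation "K" => FractionRing A
local notation "T" => MvPolynomial σ (FractionRing A)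

omit [IsDomain A] [Finite σ] in
theorem algebraMap_injective_aux : Function.Injective (algebraMap R T) :=
  MvPolynomial.map_injective _ (IsFractionRing.injective A K)

omit [Finite σ] in
theorem isUnit_algebraMap_C (a : A) (ha : a ≠ 0) : IsUnit (algebraMap R T (C a)) := by
  rw [MvPolynomial.algebraMap_def, MvPolynomial.map_C]
  apply IsUnit.map
  rw [isUnit_iff_ne_zero]
  exact (map_ne_zero_iff _ (IsFractionRing.injective A K)).2 ha

/-- key step: the numerator of the reduced fraction is a unit. -/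
theorem isUnit_of_forall_height_one (u₀ w₀ : R) (hu₀ : u₀ ≠ 0) (hw₀ : w₀ ≠ 0)
    (H : ∀ Q : Ideal R, Q.IsPrime → Q.height = 1 → Q.comap C = ⊥ →
      ∀ u w : R, u ≠ 0 → w ≠ 0 → u * w₀ = w * u₀ → u ∈ Q → w ∈ Q)
    (u₁ w₁ d : T) (hrel : IsRelPrime u₁ w₁) (hu : d * u₁ = algebraMap R T u₀)
    (hw : d * w₁ = algebraMap R T w₀) : IsUnit u₁ := by
  have hj := algebraMap_injective_aux (A := A) (σ := σ)
  have hju₀ : algebraMap R T u₀ ≠ 0 := (map_ne_zero_iff _ hj).2 hu₀
  have hjw₀ : algebraMap R T w₀ ≠ 0 := (map_ne_zero_iff _ hj).2 hw₀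
  have hd0 : d ≠ 0 := by rintro rfl; rw [zero_mul] at hu; exact hju₀ hu.symm
  have hu₁0 : u₁ ≠ 0 := by rintro rfl; rw [mul_zero] at hu; exact hju₀ hu.symm
  have hw₁0 : w₁ ≠ 0 := by rintro rfl; rw [mul_zero] at hw; exact hjw₀ hw.symm
  by_contra hnu
  obtain ⟨π, hπ, hπu⟩ := WfDvdMonoid.exists_irreducible_factor hnu hu₁0
  have hπp : Prime π := hπ.prime
  have hP : (Ideal.span {π}).IsPrime := (Ideal.span_singleton_prime hπp.ne_zero).2 hπp
  set Q : Ideal R := (Ideal.span {π}).comap (algebraMap R T) with hQdef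
  have hQ : Q.IsPrime := Ideal.comap_isPrime _ _
  have hloc : IsLocalization ((nonZeroDivisors A).map (C (σ := σ))) T :=
    MvPolynomial.isLocalization _ _
  have hQC : Q.comap C = ⊥ := by
    rw [eq_bot_iff]
    intro a ha
    rw [Ideal.mem_bot]
    by_contra ha0
    have : algebraMap R T (C a) ∈ Ideal.span {π} := ha
    exact hP.ne_top (Ideal.eq_top_of_isUnit_mem _ this (isUnit_algebraMap_C a ha0))
  have hQh : Q.height = 1 := by
    have h1 : Q.height = (Ideal.span {π}).height :=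
      IsLocalization.height_under ((nonZeroDivisors A).map (C (σ := σ))) (Ideal.span {π})
    rw [h1]
    refine le_antisymm ?_ ?_
    · refine Ideal.height_le_one_of_isPrincipal_of_mem_minimalPrimes (Ideal.span {π}) _ ?_
      rw [Ideal.minimalPrimes_eq_subsingleton_self]
      rfl
    · rw [Order.one_le_iff_ne_zero, Ne, Ideal.height_eq_zero_iff_eq_bot]
      intro e
      have : π ∈ Ideal.span {π} := Ideal.mem_span_singleton_self π
      rw [e, Ideal.mem_bot] at this
      exact hπp.ne_zero this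
  -- clear denominators
  obtain ⟨⟨u₂, m⟩, hu₂⟩ := IsLocalization.surj ((nonZeroDivisors A).map (C (σ := σ))) u₁
  obtain ⟨⟨w₂, m'⟩, hw₂⟩ := IsLocalization.surj ((nonZeroDivisors A).map (C (σ := σ))) w₁
  simp only at hu₂ hw₂
  have hm : IsUnit (algebraMap R T m) := IsLocalization.map_units T m
  have hm' : IsUnit (algebraMap R T m') := IsLocalization.map_units T m'
  have hm0 : (m : R) ≠ 0 := fun e => hm.ne_zero (by rw [e, map_zero])
  have hm'0 : (m' : R) ≠ 0 := fun e => hm'.ne_zero (by rw [e, map_zero])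
  have hu₂0 : u₂ ≠ 0 := by
    rintro rfl
    rw [map_zero] at hu₂
    exact mul_ne_zero hu₁0 hm.ne_zero hu₂
  have hw₂0 : w₂ ≠ 0 := by
    rintro rfl
    rw [map_zero] at hw₂
    exact mul_ne_zero hw₁0 hm'.ne_zero hw₂
  have hcross : (u₂ * m') * w₀ = (w₂ * m) * u₀ := by
    apply hj
    simp only [map_mul]
    rw [← hu₂, ← hw₂, ← hu, ← hw]
    ring
  have huQ : u₂ * m' ∈ Q := by
    change algebraMap R T (u₂ * m') ∈ Ideal.span {π}
    rw [map_mul, ← hu₂, Ideal.mem_span_singleton]
    exact Dvd.dvd.mul_right (Dvd.dvd.mul_right hπu _) _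
  have hwQ := H Q hQ hQh hQC (u₂ * m') (w₂ * m) (mul_ne_zero hu₂0 hm'0) (mul_ne_zero hw₂0 hm0)
    hcross huQ
  have hπw : π ∣ w₁ := by
    have h1 : algebraMap R T (w₂ * m) ∈ Ideal.span {π} := hwQ
    rw [map_mul, ← hw₂, Ideal.mem_span_singleton, mul_assoc] at h1
    exact (IsUnit.dvd_mul_right (hm'.mul hm)).1 h1
  exact hπ.not_isUnit (hrel hπu hπw)

/-- A nonzero rational function on `A[t]` which is a unit at every height-one prime `Q` with
`Q ∩ A = 0` is a quotient of two nonzero constants. -/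
theorem exists_const_of_forall_height_one {L : Type*} [Field L] [Algebra R L]
    [IsFractionRing R L] (g : L) (hg : g ≠ 0)
    (H : ∀ Q : Ideal R, Q.IsPrime → Q.height = 1 → Q.comap C = ⊥ →
      ∀ u w : R, u ≠ 0 → w ≠ 0 →
        g * algebraMap R L w = algebraMap R L u → (u ∈ Q ↔ w ∈ Q)) :
    ∃ c d : A, c ≠ 0 ∧ d ≠ 0 ∧ g * algebraMap R L (C d) = algebraMap R L (C c) := by
  have hj := algebraMap_injective_aux (A := A) (σ := σ)
  have hL : Function.Injective (algebraMap R L) := IsFractionRing.injective R L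
  obtain ⟨u₀, w₀, hw₀, rfl⟩ := IsFractionRing.div_surjective (A := R) g
  have hw₀0 : w₀ ≠ 0 := nonZeroDivisors.ne_zero hw₀
  have hLw₀ : algebraMap R L w₀ ≠ 0 := (map_ne_zero_iff _ hL).2 hw₀0
  have hu₀0 : u₀ ≠ 0 := by
    rintro rfl
    rw [map_zero, zero_div] at hg
    exact hg rfl
  have hLu₀ : algebraMap R L u₀ ≠ 0 := (map_ne_zero_iff _ hL).2 hu₀0
  have hju₀ : algebraMap R T u₀ ≠ 0 := (map_ne_zero_iff _ hj).2 hu₀0
  obtain ⟨u₁, w₁, d, hrel, hu, hw⟩ :=
    UniqueFactorizationMonoid.exists_reduced_factors (algebraMap R T u₀) hju₀ (algebraMap R T w₀)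
  have hU₁ : IsUnit u₁ := by
    refine isUnit_of_forall_height_one u₀ w₀ hu₀0 hw₀0 ?_ u₁ w₁ d hrel hu hw
    intro Q hQ hQh hQC u w hu0 hw0 hcross huQ
    refine (H Q hQ hQh hQC u w hu0 hw0 ?_).1 huQ
    have := congrArg (algebraMap R L) hcross
    simp only [map_mul] at this
    field_simp
    linear_combination -this
  have hW₁ : IsUnit w₁ := by
    refine isUnit_of_forall_height_one w₀ u₀ hw₀0 hu₀0 ?_ w₁ u₁ d hrel.symm hw hu
    intro Q hQ hQh hQC w u hw0 hu0 hcross hwQ
    refine (H Q hQ hQh hQC u w hu0 hw0 ?_).2 hwQ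
    have := congrArg (algebraMap R L) hcross
    simp only [map_mul] at this
    field_simp
    linear_combination this
  obtain ⟨k₁, hk₁, rfl⟩ := MvPolynomial.isUnit_iff_eq_C_of_isReduced.1 hU₁
  obtain ⟨k₂, hk₂, rfl⟩ := MvPolynomial.isUnit_iff_eq_C_of_isReduced.1 hW₁
  obtain ⟨c₁, s₁, hs₁, rfl⟩ := IsFractionRing.div_surjective (A := A) k₁
  obtain ⟨c₂, s₂, hs₂, rfl⟩ := IsFractionRing.div_surjective (A := A) k₂
  have hs₁0 : s₁ ≠ 0 := nonZeroDivisors.ne_zero hs₁
  have hs₂0 : s₂ ≠ 0 := nonZeroDivisors.ne_zero hs₂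
  have hKs₁ : algebraMap A K s₁ ≠ 0 := (map_ne_zero_iff _ (IsFractionRing.injective A K)).2 hs₁0
  have hKs₂ : algebraMap A K s₂ ≠ 0 := (map_ne_zero_iff _ (IsFractionRing.injective A K)).2 hs₂0
  have hc₁0 : c₁ ≠ 0 := by
    rintro rfl
    rw [map_zero, zero_div] at hk₁
    exact not_isUnit_zero hk₁
  have hc₂0 : c₂ ≠ 0 := by
    rintro rfl
    rw [map_zero, zero_div] at hk₂
    exact not_isUnit_zero hk₂
  refine ⟨c₁ * s₂, c₂ * s₁, mul_ne_zero hc₁0 hs₂0, mul_ne_zero hc₂0 hs₁0, ?_⟩
  have key : u₀ * C (c₂ * s₁) = w₀ * C (c₁ * s₂) := by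
    apply hj
    simp only [map_mul, MvPolynomial.algebraMap_def, MvPolynomial.map_C]
    simp only [← MvPolynomial.algebraMap_def]
    rw [← hu, ← hw]
    have e1 : (C (algebraMap A K c₁ / algebraMap A K s₁) : T) * C (algebraMap A K s₁) =
        C (algebraMap A K c₁) := by
      rw [← C_mul, div_mul_cancel₀ _ hKs₁]
    have e2 : (C (algebraMap A K c₂ / algebraMap A K s₂) : T) * C (algebraMap A K s₂) =
        C (algebraMap A K c₂) := by
      rw [← C_mul, div_mul_cancel₀ _ hKs₂]
    rw [← e1, ← e2]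
    ring
  have := congrArg (algebraMap R L) key
  simp only [map_mul] at this ⊢
  field_simp
  linear_combination this

omit [Finite σ] in
/-- A horizontal height-one prime `Q` of `A[t]` is generated, after inverting `A ∖ 0`, by one
element `π`, and `Q` is the only horizontal height-one prime containing `π`. -/
theorem exists_generator_horizontal (Q : Ideal R) [Q.IsPrime] (hQh : Q.height = 1)
    (hQC : Q.comap C = ⊥) :
    ∃ π ∈ Q, π ≠ 0 ∧ (∀ q ∈ Q, ∃ a : A, a ≠ 0 ∧ π ∣ C a * q) ∧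
      (∀ Q' : Ideal R, Q'.IsPrime → Q'.height = 1 → Q'.comap C = ⊥ → π ∈ Q' → Q' = Q) := by
  have hj := algebraMap_injective_aux (A := A) (σ := σ)
  have hloc : IsLocalization ((nonZeroDivisors A).map (C (σ := σ))) T :=
    MvPolynomial.isLocalization _ _
  -- horizontal primes are disjoint from the constants
  have hdisj : ∀ Q' : Ideal R, Q'.comap C = ⊥ →
      Disjoint (((nonZeroDivisors A).map (C (σ := σ)) : Submonoid R) : Set R) (Q' : Set R) := by
    intro Q' hQ'
    rw [Set.disjoint_left]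
    rintro _ ⟨a, ha, rfl⟩ hmem
    have : a ∈ Q'.comap C := hmem
    rw [hQ', Ideal.mem_bot] at this
    exact nonZeroDivisors.ne_zero ha this
  have hmapprime : ∀ Q' : Ideal R, Q'.IsPrime → Q'.comap C = ⊥ →
      (Q'.map (algebraMap R T)).IsPrime := fun Q' hQ' hC =>
    IsLocalization.isPrime_of_isPrime_disjoint _ T Q' hQ' (hdisj Q' hC)
  have hmapheight : ∀ Q' : Ideal R, Q'.IsPrime → Q'.comap C = ⊥ →
      (Q'.map (algebraMap R T)).height = Q'.height := fun Q' hQ' hC =>
    IsLocalization.height_map_of_disjoint _ Q' (hdisj Q' hC)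
  have hunder : ∀ Q' : Ideal R, Q'.IsPrime → Q'.comap C = ⊥ →
      (Q'.map (algebraMap R T)).comap (algebraMap R T) = Q' := fun Q' hQ' hC =>
    IsLocalization.under_map_of_isPrime_disjoint _ T hQ' (hdisj Q' hC)
  have hQT : (Q.map (algebraMap R T)).IsPrime := hmapprime Q inferInstance hQC
  have hQTh : (Q.map (algebraMap R T)).height = 1 := (hmapheight Q inferInstance hQC).trans hQh
  have hQT0 : Q.map (algebraMap R T) ≠ ⊥ := by
    intro e
    rw [e, Ideal.height_bot] at hQTh
    exact zero_ne_one hQTh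
  obtain ⟨π', hπ'mem, hπ'⟩ := hQT.exists_mem_prime_of_ne_bot hQT0
  have hspanprime : (Ideal.span {π'}).IsPrime := (Ideal.span_singleton_prime hπ'.ne_zero).2 hπ'
  have hspan0 : Ideal.span {π'} ≠ ⊥ := by
    rw [Ne, Ideal.span_singleton_eq_bot]
    exact hπ'.ne_zero
  have hspan : Ideal.span {π'} = Q.map (algebraMap R T) :=
    eq_of_le_of_height_one hspan0 hQTh ((Ideal.span_singleton_le_iff_mem _).2 hπ'mem)
  obtain ⟨⟨π, m⟩, hπm⟩ := IsLocalization.surj ((nonZeroDivisors A).map (C (σ := σ))) π'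
  simp only at hπm
  have hm : IsUnit (algebraMap R T m) := IsLocalization.map_units T m
  have hspan' : Ideal.span {algebraMap R T π} = Q.map (algebraMap R T) := by
    rw [← hspan, ← hπm]
    exact Ideal.span_singleton_mul_right_unit hm π'
  have hπQ : π ∈ Q := by
    rw [← hunder Q inferInstance hQC, Ideal.mem_comap, ← hspan']
    exact Ideal.mem_span_singleton_self _
  have hπ0 : π ≠ 0 := by
    rintro rfl
    rw [map_zero] at hπm
    exact mul_ne_zero hπ'.ne_zero hm.ne_zero hπm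
  refine ⟨π, hπQ, hπ0, ?_, ?_⟩
  · intro q hq
    have h1 : algebraMap R T q ∈ Ideal.span {algebraMap R T π} := by
      rw [hspan']
      exact Ideal.mem_map_of_mem _ hq
    obtain ⟨t, ht⟩ := Ideal.mem_span_singleton.1 h1
    obtain ⟨⟨r, m'⟩, hrm'⟩ := IsLocalization.surj ((nonZeroDivisors A).map (C (σ := σ))) t
    simp only at hrm'
    obtain ⟨a, ha, ham'⟩ := m'.2
    refine ⟨a, nonZeroDivisors.ne_zero ha, r, ?_⟩
    apply hj
    rw [map_mul, map_mul, ← hrm', ham', ht]
    ring
  · intro Q' hQ' hQ'h hQ'C hπQ'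
    have hQ'T : (Q'.map (algebraMap R T)).IsPrime := hmapprime Q' hQ' hQ'C
    have hQ'Th : (Q'.map (algebraMap R T)).height = 1 := (hmapheight Q' hQ' hQ'C).trans hQ'h
    have hle : Q.map (algebraMap R T) ≤ Q'.map (algebraMap R T) := by
      rw [← hspan', Ideal.span_singleton_le_iff_mem]
      exact Ideal.mem_map_of_mem _ hπQ'
    have heq := eq_of_le_of_height_one hQT0 hQ'Th hle
    rw [← hunder Q' hQ' hQ'C, ← heq, hunder Q inferInstance hQC]

end const

end Groth.Agent.Lib.Seat62.PolyDiv
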