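import Mathlib
import Groth.Agent.Lib.Seat62PolyDiv
import Groth.Agent.Lib.Seat62AffDict
import Groth.Agent.Lib.Seat62AffSpaceChart

/-!
# Injectivity of `Cl(X) → Cl(𝔸ⁿ_X)` (seat 62)
-/

set_option autoImplicit false
universe u
open CategoryTheory AlgebraicGeometry TopologicalSpace Order IsLocalRing MvPolynomial

namespace Groth.Agent.Lib.Seat62.AffSpaceCl

open Groth.Agent.Lib.Seat62.AffDict Groth.Agent.Lib.Seat62.AffSpaceChart
  Groth.Agent.Lib.Seat62.PolyDiv Groth.Agent.Lib.Seat62.CDivNormal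

variable (n : Type u) (X : Scheme.{u})

/-- the chart `Γ(X, U)[t] ≃ Γ(𝔸(n; X), p⁻¹ U)`. -/
noncomputable def chartEquiv {U : X.Opens} (hU : IsAffineOpen U) :
    MvPolynomial n Γ(X, U) ≃+* Γ(𝔸(n; X), (𝔸(n; X) ↘ X) ⁻¹ᵁ U) :=
  RingEquiv.ofBijective (psi n U) (psi_bijective n hU)

theorem chartEquiv_C {U : X.Opens} (hU : IsAffineOpen U) (a : Γ(X, U)) :
    chartEquiv n X hU (C a) = (𝔸(n; X) ↘ X).app U a := psi_C n U a

theorem chartEquiv_symm_app {U : X.Opens} (hU : IsAffineOpen U) (a : Γ(X, U)) :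
    (chartEquiv n X hU).symm ((𝔸(n; X) ↘ X).app U a) = C a := by
  rw [← chartEquiv_C n X hU, RingEquiv.symm_apply_apply]

theorem comap_comap_chartEquiv {U : X.Opens} (hU : IsAffineOpen U)
    (Q : Ideal (MvPolynomial n Γ(X, U))) :
    (Q.comap (chartEquiv n X hU).symm.toRingHom).comap ((𝔸(n; X) ↘ X).app U).hom =
      Q.comap C := by
  ext a
  simp only [Ideal.mem_comap]
  have h : (chartEquiv n X hU).symm.toRingHom (((𝔸(n; X) ↘ X).app U).hom a) = C a :=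
    chartEquiv_symm_app n X hU a
  rw [h]

variable [Finite n] [IsIntegral X] [IsLocallyNoetherian X] [IsLocallyNoetherian 𝔸(n; X)]

omit [IsLocallyNoetherian X] in
theorem exists_const {U : X.Opens} (hU : IsAffineOpen U) [Nonempty U]
    [Nonempty ((𝔸(n; X) ↘ X) ⁻¹ᵁ U : (𝔸(n; X)).Opens)]
    (D : X → ℤ) (hD : ∀ x, coheight x ≠ 1 → D x = 0) (g : (𝔸(n; X)).functionField) (hg : g ≠ 0)
    (h : ∀ y : 𝔸(n; X), coheight y = 1 → Scheme.ord g y = D ((𝔸(n; X) ↘ X) y)) :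
    ∃ c d : Γ(X, U), c ≠ 0 ∧ d ≠ 0 ∧
      g * (𝔸(n; X)).germToFunctionField ((𝔸(n; X) ↘ X) ⁻¹ᵁ U) ((𝔸(n; X) ↘ X).app U d) =
        (𝔸(n; X)).germToFunctionField ((𝔸(n; X) ↘ X) ⁻¹ᵁ U) ((𝔸(n; X) ↘ X).app U c) := by
  have hW : IsAffineOpen ((𝔸(n; X) ↘ X) ⁻¹ᵁ U) := isAffineOpen_preimage n hU
  set e := chartEquiv n X hU with he
  let φ := ((𝔸(n; X)).germToFunctionField ((𝔸(n; X) ↘ X) ⁻¹ᵁ U)).hom
  let _ : Algebra (MvPolynomial n Γ(X, U)) (𝔸(n; X)).functionField :=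
    (φ.comp e.toRingHom).toAlgebra
  have halg : ∀ r, algebraMap (MvPolynomial n Γ(X, U)) (𝔸(n; X)).functionField r = φ (e r) :=
    fun _ => rfl
  have hφinj : Function.Injective φ := (𝔸(n; X)).germToFunctionField_injective _
  have : FaithfulSMul (MvPolynomial n Γ(X, U)) (𝔸(n; X)).functionField :=
    (faithfulSMul_iff_algebraMap_injective _ _).2 (hφinj.comp e.injective)
  have : IsFractionRing Γ(𝔸(n; X), (𝔸(n; X) ↘ X) ⁻¹ᵁ U) (𝔸(n; X)).functionField :=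
    functionField_isFractionRing_of_isAffineOpen 𝔸(n; X) _ hW
  have : IsFractionRing (MvPolynomial n Γ(X, U)) (𝔸(n; X)).functionField := by
    refine IsFractionRing.of_field _ _ (fun z => ?_)
    obtain ⟨x, y, hy, rfl⟩ :=
      IsFractionRing.div_surjective (A := Γ(𝔸(n; X), (𝔸(n; X) ↘ X) ⁻¹ᵁ U)) z
    refine ⟨e.symm x, e.symm y, ?_⟩
    rw [halg, halg, e.apply_symm_apply, e.apply_symm_apply]
    rfl
  have main := exists_const_of_forall_height_one (A := Γ(X, U)) (σ := n) g hg ?_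
  · obtain ⟨c, d, hc, hd, hcd⟩ := main
    refine ⟨c, d, hc, hd, ?_⟩
    rw [halg, halg, he, chartEquiv_C, chartEquiv_C] at hcd
    exact hcd
  · intro Q hQ hQh hQC u w hu0 hw0 hrel
    set Q' : Ideal Γ(𝔸(n; X), (𝔸(n; X) ↘ X) ⁻¹ᵁ U) := Q.comap e.symm.toRingHom with hQ'
    have hQ'p : Q'.IsPrime := Ideal.comap_isPrime _ _
    have hQ'h : Q'.height = 1 := by
      rw [hQ']
      exact (RingEquiv.height_comap e.symm Q).trans hQh
    set y := hW.fromSpec ⟨Q', hQ'p⟩ with hy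
    have hyW : y ∈ (𝔸(n; X) ↘ X) ⁻¹ᵁ U := fromSpec_mem hW _
    have hprime : primeAt _ y hyW = Q' := primeAt_fromSpec hW ⟨Q', hQ'p⟩
    have hyc : coheight y = 1 := by
      have := height_primeAt hW y hyW
      rw [hprime, hQ'h] at this
      exact_mod_cast this.symm
    have hpy : (𝔸(n; X) ↘ X) y ∈ U := hyW
    have hpyc : coheight ((𝔸(n; X) ↘ X) y) ≠ 1 := by
      have h1 := comap_primeAt (𝔸(n; X) ↘ X) U y hyW hpy
      rw [hprime, hQ', he, comap_comap_chartEquiv, hQC] at h1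
      have h3 := height_primeAt hU ((𝔸(n; X) ↘ X) y) hpy
      rw [← h1, Ideal.height_bot] at h3
      intro h4
      rw [h4] at h3
      exact zero_ne_one h3
    have hord : Scheme.ord g y = 0 := by rw [h y hyc, hD _ hpyc]
    have heu0 : e u ≠ 0 := (map_ne_zero_iff _ e.injective).2 hu0
    have hew0 : e w ≠ 0 := (map_ne_zero_iff _ e.injective).2 hw0
    have hu' : φ (e u) ≠ 0 := (map_ne_zero_iff _ hφinj).2 heu0
    have hw' : φ (e w) ≠ 0 := (map_ne_zero_iff _ hφinj).2 hew0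
    rw [halg, halg] at hrel
    have h5 := congrArg (fun t => Scheme.ord t y) hrel
    beta_reduce at h5
    rw [Scheme.ord_mul hg hw', hord, zero_add] at h5
    have mem_iff : ∀ r, r ∈ Q ↔ e r ∈ primeAt _ y hyW := by
      intro r
      rw [hprime, hQ', Ideal.mem_comap]
      simp
    have crit : ∀ b : Γ(𝔸(n; X), (𝔸(n; X) ↘ X) ⁻¹ᵁ U), b ≠ 0 →
        (b ∈ primeAt _ y hyW ↔ 1 ≤ Scheme.ord (φ b) y) := by
      intro b hb0
      constructor
      · exact one_le_ord_of_mem _ y hyW hyc b hb0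
      · intro h1
        by_contra hb
        have := ord_of_notMem _ y hyW b hb
        change Scheme.ord (φ b) y = 0 at this
        omega
    rw [mem_iff, mem_iff, crit _ heu0, crit _ hew0, h5]


/-- **Injectivity of `Cl(X) → Cl(𝔸ⁿ_X)`**, with the extra information that `g` is the pullback
of `f`. -/
theorem principal_of_pullback_principal'
    (hR1 : ∀ x : X, coheight x = 1 → IsDiscreteValuationRing (X.presheaf.stalk x))
    (D : X → ℤ) (hD : ∀ x, coheight x ≠ 1 → D x = 0) (g : (𝔸(n; X)).functionField) (hg : g ≠ 0)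
    (h : ∀ y : 𝔸(n; X), coheight y = 1 → Scheme.ord g y = D ((𝔸(n; X) ↘ X) y))
    (hgen : (𝔸(n; X) ↘ X) (genericPoint 𝔸(n; X)) = genericPoint X) :
    ∃ f : X.functionField, f ≠ 0 ∧ iota (𝔸(n; X) ↘ X) hgen f = g ∧
      ∀ x : X, coheight x = 1 → Scheme.ord f x = D x := by
  have hne : ∀ (U : X.Opens) (x : X), x ∈ U →
      Nonempty ((𝔸(n; X) ↘ X) ⁻¹ᵁ U : (𝔸(n; X)).Opens) := by
    intro U x hx
    obtain ⟨y, hy⟩ := (𝔸(n; X) ↘ X).surjective x
    exact ⟨⟨y, by change (𝔸(n; X) ↘ X) y ∈ U; rw [hy]; exact hx⟩⟩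
  obtain ⟨U₀, hU₀, hη, -⟩ := exists_affine_le (genericPoint X) ⊤ trivial
  have : Nonempty U₀ := ⟨⟨_, hη⟩⟩
  have := hne U₀ _ hη
  obtain ⟨c, d, hc, hd, hcd⟩ := exists_const n X hU₀ D hD g hg h
  set f := X.germToFunctionField U₀ c / X.germToFunctionField U₀ d with hf
  have hcK : X.germToFunctionField U₀ c ≠ 0 := germToFunctionField_ne_zero U₀ c hc
  have hdK : X.germToFunctionField U₀ d ≠ 0 := germToFunctionField_ne_zero U₀ d hd
  have hf0 : f ≠ 0 := div_ne_zero hcK hdK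
  have hιd : iota (𝔸(n; X) ↘ X) hgen (X.germToFunctionField U₀ d) ≠ 0 := by
    rw [Ne, ← map_zero (iota (𝔸(n; X) ↘ X) hgen).hom]
    exact fun h => hdK (iota_injective _ hgen h)
  have hιf : iota (𝔸(n; X) ↘ X) hgen f = g := by
    rw [hf, map_div₀, div_eq_iff hιd, iota_germToFunctionField, iota_germToFunctionField]
    exact hcd.symm
  refine ⟨f, hf0, hιf, fun x hx => ?_⟩
  obtain ⟨U, hU, hxU, -⟩ := exists_affine_le x ⊤ trivial
  have hW : IsAffineOpen ((𝔸(n; X) ↘ X) ⁻¹ᵁ U) := isAffineOpen_preimage n hU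
  have : Nonempty U := ⟨⟨x, hxU⟩⟩
  have := hne U x hxU
  have : IsNoetherianRing Γ(X, U) := IsLocallyNoetherian.component_noetherian ⟨U, hU⟩
  set 𝔭 := primeAt U x hxU with h𝔭
  have h𝔭h : 𝔭.height = 1 := by
    rw [h𝔭, height_primeAt hU, hx]
  set e := chartEquiv n X hU with he
  set Q : Ideal (MvPolynomial n Γ(X, U)) := 𝔭.map C with hQ
  have hQp : Q.IsPrime := isPrime_map_C 𝔭
  have hQh : Q.height = 1 := height_map_C 𝔭 h𝔭h
  have hQC : Q.comap C = 𝔭 := comap_map_C 𝔭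
  set Q' : Ideal Γ(𝔸(n; X), (𝔸(n; X) ↘ X) ⁻¹ᵁ U) := Q.comap e.symm.toRingHom with hQ'
  have hQ'p : Q'.IsPrime := Ideal.comap_isPrime _ _
  have hQ'h : Q'.height = 1 := by
    rw [hQ']
    exact (RingEquiv.height_comap e.symm Q).trans hQh
  set y := hW.fromSpec ⟨Q', hQ'p⟩ with hy
  have hyW : y ∈ (𝔸(n; X) ↘ X) ⁻¹ᵁ U := fromSpec_mem hW _
  have hprime : primeAt _ y hyW = Q' := primeAt_fromSpec hW ⟨Q', hQ'p⟩
  have hyc : coheight y = 1 := by
    have := height_primeAt hW y hyW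
    rw [hprime, hQ'h] at this
    exact_mod_cast this.symm
  have hpy : (𝔸(n; X) ↘ X) y ∈ U := hyW
  have hpy' : primeAt U ((𝔸(n; X) ↘ X) y) hpy = 𝔭 := by
    rw [← comap_primeAt (𝔸(n; X) ↘ X) U y hyW hpy, hprime, hQ', he, comap_comap_chartEquiv, hQC]
  have hpyx : (𝔸(n; X) ↘ X) y = x := eq_of_primeAt_eq hU _ _ hpy hxU hpy'
  have hQeq : primeAt _ y hyW = (primeAt U ((𝔸(n; X) ↘ X) y) hpy).map
      ((𝔸(n; X) ↘ X).app U).hom := by
    rw [hprime, hpy', hQ', hQ]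
    have h1 : (𝔭.map C).comap e.symm.toRingHom = (𝔭.map C).map e.toRingHom :=
      (Ideal.map_comap_of_equiv e).symm
    rw [h1, Ideal.map_map]
    congr 1
    ext a
    exact chartEquiv_C n X hU a
  have hxc' : coheight ((𝔸(n; X) ↘ X) y) = 1 := by rw [hpyx]; exact hx
  have := hR1 _ hxc'
  have key := ord_iota_eq (𝔸(n; X) ↘ X) hgen U hU hW y hyW hpy hyc hxc' hQeq f hf0
  rw [hιf, h y hyc] at key
  rw [← hpyx]
  exact key.symm

/-- **Injectivity of `Cl(X) → Cl(𝔸ⁿ_X)`** for an integral locally noetherian scheme `X` which is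
regular in codimension one. -/
theorem principal_of_pullback_principal
    (hR1 : ∀ x : X, coheight x = 1 → IsDiscreteValuationRing (X.presheaf.stalk x))
    (D : X → ℤ) (hD : ∀ x, coheight x ≠ 1 → D x = 0) (g : (𝔸(n; X)).functionField) (hg : g ≠ 0)
    (h : ∀ y : 𝔸(n; X), coheight y = 1 → Scheme.ord g y = D ((𝔸(n; X) ↘ X) y)) :
    ∃ f : X.functionField, f ≠ 0 ∧ ∀ x : X, coheight x = 1 → Scheme.ord f x = D x := by
  obtain ⟨f, hf, -, hfx⟩ := principal_of_pullback_principal' n X hR1 D hD g hg h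
    (map_genericPoint_of_surjective _)
  exact ⟨f, hf, hfx⟩

end Groth.Agent.Lib.Seat62.AffSpaceCl
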