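import Mathlib
import Groth.Agent.Lib.Seat62AffSpaceCl

/-!
# Surjectivity of `Cl(X) → Cl(𝔸ⁿ_X)` (seat 62)
-/

set_option autoImplicit false
universe u
open CategoryTheory AlgebraicGeometry TopologicalSpace Order IsLocalRing MvPolynomial

namespace Groth.Agent.Lib.Seat62.AffSpaceCl

open Groth.Agent.Lib.Seat62.AffDict Groth.Agent.Lib.Seat62.AffSpaceChart
  Groth.Agent.Lib.Seat62.PolyDiv Groth.Agent.Lib.Seat62.CDivNormal

section ordlemmas

variable {Y : Scheme.{u}} [IsIntegral Y] [IsLocallyNoetherian Y]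

theorem ord_zpow (y : Y) (f : Y.functionField) (hf : f ≠ 0) (k : ℤ) :
    Scheme.ord (f ^ k) y = k * Scheme.ord f y := by
  obtain ⟨m, rfl | rfl⟩ := Int.eq_nat_or_neg k
  · rw [zpow_natCast, ord_pow y f hf]
  · rw [zpow_neg, zpow_natCast, ord_inv _ _ (pow_ne_zero _ hf), ord_pow y f hf]
    ring

theorem ord_prod {ι : Type*} (y : Y) (s : Finset ι) (f : ι → Y.functionField)
    (hf : ∀ i ∈ s, f i ≠ 0) :
    Scheme.ord (∏ i ∈ s, f i) y = ∑ i ∈ s, Scheme.ord (f i) y := by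
  classical
  induction s using Finset.induction_on with
  | empty => simp [ord_one]
  | insert a s ha ih =>
    rw [Finset.prod_insert ha, Finset.sum_insert ha,
      Scheme.ord_mul (hf a (Finset.mem_insert_self a s))
        (Finset.prod_ne_zero_iff.2 fun i hi => hf i (Finset.mem_insert_of_mem hi)),
      ih fun i hi => hf i (Finset.mem_insert_of_mem hi)]

omit [IsLocallyNoetherian Y] in
theorem primeAt_genericPoint (U : Y.Opens) (h : genericPoint Y ∈ U) :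
    primeAt U (genericPoint Y) h = ⊥ := by
  rw [eq_bot_iff]
  intro a ha
  rw [mem_primeAt_iff] at ha
  rw [Ideal.mem_bot]
  by_contra ha0
  apply ha
  have : Y.presheaf.germ U (genericPoint Y) h a ≠ 0 := by
    rw [Ne, ← map_zero (Y.presheaf.germ U (genericPoint Y) h).hom]
    exact fun e => ha0 (germ_injective_of_isIntegral Y _ h e)
  exact (isUnit_iff_ne_zero (G₀ := Y.functionField)).2 this

omit [IsLocallyNoetherian Y] in
theorem coheight_genericPoint : coheight (genericPoint Y) = 0 := by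
  obtain ⟨U, hU, hη, -⟩ := exists_affine_le (genericPoint Y) ⊤ trivial
  have h1 := height_primeAt hU (genericPoint Y) hη
  have : Nonempty U := ⟨⟨_, hη⟩⟩
  rw [primeAt_genericPoint, Ideal.height_bot] at h1
  exact h1.symm

omit [IsLocallyNoetherian Y] in
theorem genericPoint_mem (U : Y.Opens) [h : Nonempty U] : genericPoint Y ∈ U :=
  ((genericPoint_spec Y).mem_open_set_iff U.isOpen).mpr (by simpa using h)

end ordlemmas


section chart

variable (n : Type u) (X : Scheme.{u})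

/-- the prime of `Γ(X, U)[t]` corresponding to a point of `p⁻¹ U`. -/
noncomputable def Qat {U : X.Opens} (hU : IsAffineOpen U) (y : 𝔸(n; X))
    (hy : y ∈ (𝔸(n; X) ↘ X) ⁻¹ᵁ U) : Ideal (MvPolynomial n Γ(X, U)) :=
  (primeAt _ y hy).comap (chartEquiv n X hU).toRingHom

instance {U : X.Opens} (hU : IsAffineOpen U) (y : 𝔸(n; X))
    (hy : y ∈ (𝔸(n; X) ↘ X) ⁻¹ᵁ U) : (Qat n X hU y hy).IsPrime := by
  unfold Qat; infer_instance

theorem mem_Qat_iff {U : X.Opens} (hU : IsAffineOpen U) (y : 𝔸(n; X))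
    (hy : y ∈ (𝔸(n; X) ↘ X) ⁻¹ᵁ U) (r : MvPolynomial n Γ(X, U)) :
    r ∈ Qat n X hU y hy ↔ chartEquiv n X hU r ∈ primeAt _ y hy := Iff.rfl

theorem Qat_comap_C {U : X.Opens} (hU : IsAffineOpen U) (y : 𝔸(n; X))
    (hy : y ∈ (𝔸(n; X) ↘ X) ⁻¹ᵁ U) (hy' : (𝔸(n; X) ↘ X) y ∈ U) :
    (Qat n X hU y hy).comap C = primeAt U ((𝔸(n; X) ↘ X) y) hy' := by
  rw [← comap_primeAt (𝔸(n; X) ↘ X) U y hy hy']
  ext a
  rw [Ideal.mem_comap, mem_Qat_iff, chartEquiv_C, Ideal.mem_comap]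

theorem primeAt_eq_comap_Qat {U : X.Opens} (hU : IsAffineOpen U) (y : 𝔸(n; X))
    (hy : y ∈ (𝔸(n; X) ↘ X) ⁻¹ᵁ U) :
    primeAt _ y hy = (Qat n X hU y hy).comap (chartEquiv n X hU).symm.toRingHom := by
  ext b
  rw [Ideal.mem_comap, mem_Qat_iff]
  simp

theorem eq_of_Qat_eq {U : X.Opens} (hU : IsAffineOpen U) (y y' : 𝔸(n; X))
    (hy : y ∈ (𝔸(n; X) ↘ X) ⁻¹ᵁ U) (hy' : y' ∈ (𝔸(n; X) ↘ X) ⁻¹ᵁ U)
    (h : Qat n X hU y hy = Qat n X hU y' hy') : y = y' := by
  refine eq_of_primeAt_eq (isAffineOpen_preimage n hU) y y' hy hy' ?_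
  rw [primeAt_eq_comap_Qat n X hU y hy, primeAt_eq_comap_Qat n X hU y' hy', h]

theorem Qat_height {U : X.Opens} (hU : IsAffineOpen U) (y : 𝔸(n; X))
    (hy : y ∈ (𝔸(n; X) ↘ X) ⁻¹ᵁ U) : (Qat n X hU y hy).height = coheight y := by
  rw [← height_primeAt (isAffineOpen_preimage n hU) y hy]
  exact RingEquiv.height_comap (chartEquiv n X hU) _

variable [Finite n] [IsIntegral X] [IsLocallyNoetherian X]

omit [Finite n] [IsLocallyNoetherian X] in
theorem horizontal_or_vertical (y : 𝔸(n; X)) (hyc : coheight y = 1) :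
    (𝔸(n; X) ↘ X) y = genericPoint X ∨ coheight ((𝔸(n; X) ↘ X) y) = 1 := by
  obtain ⟨U, hU, hxU, -⟩ := exists_affine_le ((𝔸(n; X) ↘ X) y) ⊤ trivial
  have hyW : y ∈ (𝔸(n; X) ↘ X) ⁻¹ᵁ U := hxU
  have : Nonempty U := ⟨⟨_, hxU⟩⟩
  have hQh : (Qat n X hU y hyW).height = 1 := by rw [Qat_height, hyc]
  have hQC := Qat_comap_C n X hU y hyW hxU
  by_cases h0 : primeAt U ((𝔸(n; X) ↘ X) y) hxU = ⊥
  · left
    refine eq_of_primeAt_eq hU _ _ hxU (genericPoint_mem U) ?_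
    rw [h0, primeAt_genericPoint]
  · right
    have h1 : (Qat n X hU y hyW).comap C ≠ ⊥ := by rw [hQC]; exact h0
    have h2 := eq_map_C_of_height_one _ hQh h1
    rw [hQC] at h2
    have h3 : ((primeAt U ((𝔸(n; X) ↘ X) y) hxU).map
        (C : Γ(X, U) →+* MvPolynomial n Γ(X, U))).height = 1 := by rw [h2]; exact hQh
    have h4 := height_eq_one_of_height_map_C _ h3
    rw [height_primeAt hU] at h4
    exact h4

omit [Finite n] [IsLocallyNoetherian X] in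
theorem vertical_unique (y y' : 𝔸(n; X)) (hyc : coheight y = 1) (hyc' : coheight y' = 1)
    (hpy : (𝔸(n; X) ↘ X) y = (𝔸(n; X) ↘ X) y') (hx : coheight ((𝔸(n; X) ↘ X) y) = 1) :
    y = y' := by
  obtain ⟨U, hU, hxU, -⟩ := exists_affine_le ((𝔸(n; X) ↘ X) y) ⊤ trivial
  have hyW : y ∈ (𝔸(n; X) ↘ X) ⁻¹ᵁ U := hxU
  have hxU' : (𝔸(n; X) ↘ X) y' ∈ U := hpy ▸ hxU
  have hyW' : y' ∈ (𝔸(n; X) ↘ X) ⁻¹ᵁ U := hxU'
  have : Nonempty U := ⟨⟨_, hxU⟩⟩
  have hQh : (Qat n X hU y hyW).height = 1 := by rw [Qat_height, hyc]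
  have hQh' : (Qat n X hU y' hyW').height = 1 := by rw [Qat_height, hyc']
  have hQC := Qat_comap_C n X hU y hyW hxU
  have hQC' := Qat_comap_C n X hU y' hyW' hxU'
  have hpp : primeAt U ((𝔸(n; X) ↘ X) y') hxU' = primeAt U ((𝔸(n; X) ↘ X) y) hxU := by
    congr 1
    exact hpy.symm
  have h0 : primeAt U ((𝔸(n; X) ↘ X) y) hxU ≠ ⊥ := by
    intro e
    have := height_primeAt hU _ hxU
    rw [e, Ideal.height_bot, hx] at this
    exact zero_ne_one this
  have h2 := eq_map_C_of_height_one _ hQh (by rw [hQC]; exact h0)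
  have h2' := eq_map_C_of_height_one _ hQh' (by rw [hQC', hpp]; exact h0)
  rw [hQC] at h2
  rw [hQC', hpp] at h2'
  exact eq_of_Qat_eq n X hU y y' hyW hyW' (h2.symm.trans h2')

theorem exists_vertical_on {U : X.Opens} (hU : IsAffineOpen U) (x : X) (hxU : x ∈ U)
    (hx : coheight x = 1) :
    ∃ (y : 𝔸(n; X)) (hy : y ∈ (𝔸(n; X) ↘ X) ⁻¹ᵁ U), coheight y = 1 ∧ (𝔸(n; X) ↘ X) y = x ∧
      Qat n X hU y hy = (primeAt U x hxU).map C := by
  have hW : IsAffineOpen ((𝔸(n; X) ↘ X) ⁻¹ᵁ U) := isAffineOpen_preimage n hU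
  have : Nonempty U := ⟨⟨x, hxU⟩⟩
  have : IsNoetherianRing Γ(X, U) := IsLocallyNoetherian.component_noetherian ⟨U, hU⟩
  set 𝔭 := primeAt U x hxU with h𝔭
  have h𝔭h : 𝔭.height = 1 := by
    rw [h𝔭, height_primeAt hU, hx]
  set e := chartEquiv n X hU with he
  set Q : Ideal (MvPolynomial n Γ(X, U)) := 𝔭.map C with hQ
  have hQp : Q.IsPrime := isPrime_map_C 𝔭
  have hQh : Q.height = 1 := height_map_C 𝔭 h𝔭h
  have hQC : Q.comap C = 𝔭 := comap_map_C 𝔭
  set Q' : Ideal Γ(𝔸(n; X), (𝔸(n; X) ↘ X) ⁻¹ᵁ U) := Q.comap e.symm.toRingHom with hQ'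
  have hQ'p : Q'.IsPrime := Ideal.comap_isPrime _ _
  set y := hW.fromSpec ⟨Q', hQ'p⟩ with hy
  have hyW : y ∈ (𝔸(n; X) ↘ X) ⁻¹ᵁ U := fromSpec_mem hW _
  have hprime : primeAt _ y hyW = Q' := primeAt_fromSpec hW ⟨Q', hQ'p⟩
  have hQat : Qat n X hU y hyW = Q := by
    unfold Qat
    rw [hprime, hQ']
    ext r
    rw [Ideal.mem_comap, Ideal.mem_comap]
    change e.symm (e r) ∈ Q ↔ r ∈ Q
    rw [RingEquiv.symm_apply_apply]
  have hyc : coheight y = 1 := by
    rw [← Qat_height n X hU y hyW, hQat, hQh]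
  have hpy : (𝔸(n; X) ↘ X) y ∈ U := hyW
  have hpy' : primeAt U ((𝔸(n; X) ↘ X) y) hpy = 𝔭 := by
    rw [← Qat_comap_C n X hU y hyW hpy, hQat, hQC]
  have hpyx : (𝔸(n; X) ↘ X) y = x := eq_of_primeAt_eq hU _ _ hpy hxU hpy'
  exact ⟨y, hyW, hyc, hpyx, hQat⟩

end chart


section surj

variable (n : Type u) (X : Scheme.{u}) [Finite n] [IsIntegral X] [IsLocallyNoetherian X]
  [IsLocallyNoetherian 𝔸(n; X)]

omit [IsLocallyNoetherian X] in
theorem primeAt_eq_bot_of_eq (U : X.Opens) (x : X) (hx : x ∈ U) (h : x = genericPoint X) :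
    primeAt U x hx = ⊥ := by
  subst h
  exact primeAt_genericPoint U hx

omit [Finite n] [IsLocallyNoetherian X] in
theorem exists_horizontal_gen {U : X.Opens} (hU : IsAffineOpen U) [Nonempty U]
    [Nonempty ((𝔸(n; X) ↘ X) ⁻¹ᵁ U : (𝔸(n; X)).Opens)] (y : 𝔸(n; X)) (hyc : coheight y = 1)
    (hpy : (𝔸(n; X) ↘ X) y = genericPoint X) :
    ∃ b : Γ(𝔸(n; X), (𝔸(n; X) ↘ X) ⁻¹ᵁ U), b ≠ 0 ∧
      Scheme.ord ((𝔸(n; X)).germToFunctionField ((𝔸(n; X) ↘ X) ⁻¹ᵁ U) b) y = 1 ∧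
      ∀ y' : 𝔸(n; X), coheight y' = 1 → (𝔸(n; X) ↘ X) y' = genericPoint X → y' ≠ y →
        Scheme.ord ((𝔸(n; X)).germToFunctionField ((𝔸(n; X) ↘ X) ⁻¹ᵁ U) b) y' = 0 := by
  have hW : IsAffineOpen ((𝔸(n; X) ↘ X) ⁻¹ᵁ U) := isAffineOpen_preimage n hU
  have hxU : (𝔸(n; X) ↘ X) y ∈ U := by rw [hpy]; exact genericPoint_mem U
  have hyW : y ∈ (𝔸(n; X) ↘ X) ⁻¹ᵁ U := hxU
  set e := chartEquiv n X hU with he
  have hQh : (Qat n X hU y hyW).height = 1 := by rw [Qat_height, hyc]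
  have hQC : (Qat n X hU y hyW).comap C = ⊥ := by
    rw [Qat_comap_C n X hU y hyW hxU]
    exact primeAt_eq_bot_of_eq X U _ hxU hpy
  obtain ⟨π, hπQ, hπ0, hgen, huniq⟩ := exists_generator_horizontal _ hQh hQC
  have hb0 : e π ≠ 0 := (map_ne_zero_iff _ e.injective).2 hπ0
  have hbmem : e π ∈ primeAt _ y hyW := (mem_Qat_iff n X hU y hyW π).1 hπQ
  refine ⟨e π, hb0, ?_, ?_⟩
  · have hspan : maximalIdeal ((𝔸(n; X)).presheaf.stalk y) =
        Ideal.span {(𝔸(n; X)).presheaf.germ _ y hyW (e π)} := by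
      rw [maximalIdeal_eq_map_primeAt hW y hyW]
      apply le_antisymm
      · rw [Ideal.map_le_iff_le_comap]
        intro q' hq'
        rw [Ideal.mem_comap, Ideal.mem_span_singleton]
        have hq : e.symm q' ∈ Qat n X hU y hyW := by
          rw [mem_Qat_iff, ← he, e.apply_symm_apply]
          exact hq'
        obtain ⟨a, ha0, r, hr⟩ := hgen _ hq
        have h1 := congrArg e hr
        rw [map_mul, map_mul, e.apply_symm_apply, he, chartEquiv_C, ← he] at h1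
        have hunit : IsUnit ((𝔸(n; X)).presheaf.germ _ y hyW ((𝔸(n; X) ↘ X).app U a)) := by
          by_contra hnu
          have h2 : (𝔸(n; X) ↘ X).app U a ∈ primeAt _ y hyW := (mem_primeAt_iff _ y hyW _).2 hnu
          have h3 : C a ∈ Qat n X hU y hyW := by
            rw [mem_Qat_iff, chartEquiv_C]
            exact h2
          have h4 : a ∈ (Qat n X hU y hyW).comap C := h3
          rw [hQC, Ideal.mem_bot] at h4
          exact ha0 h4
        have h5 := congrArg ((𝔸(n; X)).presheaf.germ _ y hyW).hom h1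
        rw [map_mul, map_mul] at h5
        refine (IsUnit.dvd_mul_left hunit).1 ?_
        exact ⟨_, h5⟩
      · rw [Ideal.span_singleton_le_iff_mem]
        exact Ideal.mem_map_of_mem _ hbmem
    have := ord_eq_one_of_span y hyc _ hspan
    rwa [Scheme.algebraMap_germ_eq_germToFunctionField] at this
  · intro y' hyc' hpy' hne
    have hxU' : (𝔸(n; X) ↘ X) y' ∈ U := by rw [hpy']; exact genericPoint_mem U
    have hyW' : y' ∈ (𝔸(n; X) ↘ X) ⁻¹ᵁ U := hxU'
    apply ord_of_notMem _ y' hyW'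
    intro hmem
    apply hne
    have hQh' : (Qat n X hU y' hyW').height = 1 := by rw [Qat_height, hyc']
    have hQC' : (Qat n X hU y' hyW').comap C = ⊥ := by
      rw [Qat_comap_C n X hU y' hyW' hxU']
      exact primeAt_eq_bot_of_eq X U _ hxU' hpy'
    have := huniq _ inferInstance hQh' hQC' ((mem_Qat_iff n X hU y' hyW' π).2 hmem)
    exact eq_of_Qat_eq n X hU y' y hyW' hyW this

theorem finite_vertical_ord_ne_zero {U : X.Opens} (hU : IsAffineOpen U)
    (g : (𝔸(n; X)).functionField) (hg : g ≠ 0) (v : X → 𝔸(n; X))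
    (hv : ∀ x, coheight x = 1 → coheight (v x) = 1 ∧ (𝔸(n; X) ↘ X) (v x) = x) :
    {x : X | x ∈ U ∧ coheight x = 1 ∧ Scheme.ord g (v x) ≠ 0}.Finite := by
  classical
  by_cases hne : Nonempty U
  swap
  · convert Set.finite_empty
    ext x
    simp only [Set.mem_ofPred_eq, Set.mem_empty_iff_false, iff_false, not_and]
    intro hx
    exact absurd ⟨⟨x, hx⟩⟩ hne
  have hW : IsAffineOpen ((𝔸(n; X) ↘ X) ⁻¹ᵁ U) := isAffineOpen_preimage n hU
  have : IsNoetherianRing Γ(X, U) := IsLocallyNoetherian.component_noetherian ⟨U, hU⟩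
  have hneW : Nonempty ((𝔸(n; X) ↘ X) ⁻¹ᵁ U : (𝔸(n; X)).Opens) := by
    obtain ⟨⟨x, hx⟩⟩ := hne
    obtain ⟨y, hy⟩ := (𝔸(n; X) ↘ X).surjective x
    exact ⟨⟨y, by change (𝔸(n; X) ↘ X) y ∈ U; rw [hy]; exact hx⟩⟩
  have : IsFractionRing Γ(𝔸(n; X), (𝔸(n; X) ↘ X) ⁻¹ᵁ U) (𝔸(n; X)).functionField :=
    functionField_isFractionRing_of_isAffineOpen 𝔸(n; X) _ hW
  set e := chartEquiv n X hU with he
  obtain ⟨u', w', hw', rfl⟩ :=
    IsFractionRing.div_surjective (A := Γ(𝔸(n; X), (𝔸(n; X) ↘ X) ⁻¹ᵁ U)) g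
  have hw'0 : w' ≠ 0 := nonZeroDivisors.ne_zero hw'
  have hu'0 : u' ≠ 0 := by
    rintro rfl
    rw [map_zero, zero_div] at hg
    exact hg rfl
  have hu0 : e.symm u' ≠ 0 := (map_ne_zero_iff _ e.symm.injective).2 hu'0
  have hw0 : e.symm w' ≠ 0 := (map_ne_zero_iff _ e.symm.injective).2 hw'0
  have hF := (finite_height_one_of_mem_map_C (e.symm u') hu0).union
    (finite_height_one_of_mem_map_C (e.symm w') hw0)
  set f : X → Ideal Γ(X, U) := fun x => if hx : x ∈ U then primeAt U x hx else ⊤ with hf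
  refine Set.Finite.of_finite_image (f := f) (hF.subset ?_) ?_
  · rintro _ ⟨x, ⟨hxU, hxc, hord⟩, rfl⟩
    obtain ⟨y, hyW, hyc, hpyx, hQat⟩ := exists_vertical_on n X hU x hxU hxc
    have hvy : v x = y := by
      refine vertical_unique n X (v x) y (hv x hxc).1 hyc ?_ ?_
      · rw [(hv x hxc).2, hpyx]
      · rw [(hv x hxc).2]; exact hxc
    rw [hvy] at hord
    have hfx : f x = primeAt U x hxU := by rw [hf]; exact dif_pos hxU
    rw [hfx]
    have hφu : (𝔸(n; X)).germToFunctionField ((𝔸(n; X) ↘ X) ⁻¹ᵁ U) u' ≠ 0 :=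
      germToFunctionField_ne_zero _ _ hu'0
    have hφw : (𝔸(n; X)).germToFunctionField ((𝔸(n; X) ↘ X) ⁻¹ᵁ U) w' ≠ 0 :=
      germToFunctionField_ne_zero _ _ hw'0
    have hmem : u' ∈ primeAt _ y hyW ∨ w' ∈ primeAt _ y hyW := by
      by_contra hcon
      rw [not_or] at hcon
      apply hord
      change Scheme.ord ((𝔸(n; X)).germToFunctionField _ u' /
        (𝔸(n; X)).germToFunctionField _ w') y = 0
      rw [div_eq_mul_inv, Scheme.ord_mul hφu (inv_ne_zero hφw), ord_inv _ _ hφw,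
        ord_of_notMem _ y hyW _ hcon.1, ord_of_notMem _ y hyW _ hcon.2]
      ring
    have hprime : (primeAt U x hxU).IsPrime := inferInstance
    have hheight : (primeAt U x hxU).height = 1 := by rw [height_primeAt hU, hxc]
    rcases hmem with hm | hm
    · left
      refine ⟨hprime, hheight, ?_⟩
      rw [← hQat, mem_Qat_iff, ← he, e.apply_symm_apply]
      exact hm
    · right
      refine ⟨hprime, hheight, ?_⟩
      rw [← hQat, mem_Qat_iff, ← he, e.apply_symm_apply]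
      exact hm
  · rintro x ⟨hxU, -, -⟩ x' ⟨hxU', -, -⟩ hxx'
    have hfx : f x = primeAt U x hxU := by rw [hf]; exact dif_pos hxU
    have hfx' : f x' = primeAt U x' hxU' := by rw [hf]; exact dif_pos hxU'
    rw [hfx, hfx'] at hxx'
    exact eq_of_primeAt_eq hU x x' hxU hxU' hxx'

/-- **Surjectivity of `Cl(X) → Cl(𝔸ⁿ_X)`**: every Weil divisor on `𝔸ⁿ_X` is, up to a principal
divisor, pulled back from `X`. -/
theorem exists_pullback_add_principal [CompactSpace X]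
    (D' : 𝔸(n; X) → ℤ) (hD' : ∀ y, coheight y ≠ 1 → D' y = 0) (hfin : {y | D' y ≠ 0}.Finite) :
    ∃ (D : X → ℤ) (g : (𝔸(n; X)).functionField), (∀ x, coheight x ≠ 1 → D x = 0) ∧
      {x | D x ≠ 0}.Finite ∧ g ≠ 0 ∧
        ∀ y : 𝔸(n; X), coheight y = 1 → D' y = D ((𝔸(n; X) ↘ X) y) + Scheme.ord g y := by
  classical
  have hne : ∀ (U : X.Opens) (x : X), x ∈ U →
      Nonempty ((𝔸(n; X) ↘ X) ⁻¹ᵁ U : (𝔸(n; X)).Opens) := by
    intro U x hx
    obtain ⟨y, hy⟩ := (𝔸(n; X) ↘ X).surjective x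
    exact ⟨⟨y, by change (𝔸(n; X) ↘ X) y ∈ U; rw [hy]; exact hx⟩⟩
  obtain ⟨U₀, hU₀, hη, -⟩ := exists_affine_le (genericPoint X) ⊤ trivial
  have : Nonempty U₀ := ⟨⟨_, hη⟩⟩
  have := hne U₀ _ hη
  -- generators for the horizontal points
  have Hb : ∀ y : 𝔸(n; X), ∃ b : Γ(𝔸(n; X), (𝔸(n; X) ↘ X) ⁻¹ᵁ U₀), coheight y = 1 →
      (𝔸(n; X) ↘ X) y = genericPoint X → (b ≠ 0 ∧
      Scheme.ord ((𝔸(n; X)).germToFunctionField ((𝔸(n; X) ↘ X) ⁻¹ᵁ U₀) b) y = 1 ∧
      ∀ y' : 𝔸(n; X), coheight y' = 1 → (𝔸(n; X) ↘ X) y' = genericPoint X → y' ≠ y →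
        Scheme.ord ((𝔸(n; X)).germToFunctionField ((𝔸(n; X) ↘ X) ⁻¹ᵁ U₀) b) y' = 0) := by
    intro y
    by_cases h : coheight y = 1 ∧ (𝔸(n; X) ↘ X) y = genericPoint X
    · obtain ⟨b, hb⟩ := exists_horizontal_gen n X hU₀ y h.1 h.2
      exact ⟨b, fun _ _ => hb⟩
    · exact ⟨0, fun h1 h2 => absurd ⟨h1, h2⟩ h⟩
  choose b hb using Hb
  set Hor : Finset 𝔸(n; X) :=
    hfin.toFinset.filter (fun y => (𝔸(n; X) ↘ X) y = genericPoint X) with hHor
  have hHor_mem : ∀ y, y ∈ Hor ↔ D' y ≠ 0 ∧ (𝔸(n; X) ↘ X) y = genericPoint X := by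
    intro y
    rw [hHor, Finset.mem_filter, Set.Finite.mem_toFinset]
    rfl
  have hcoh : ∀ y, D' y ≠ 0 → coheight y = 1 := fun y hy => by
    by_contra h
    exact hy (hD' y h)
  set φ₀ := ((𝔸(n; X)).germToFunctionField ((𝔸(n; X) ↘ X) ⁻¹ᵁ U₀)).hom with hφ₀
  have hφb : ∀ y ∈ Hor, φ₀ (b y) ≠ 0 := by
    intro y hy
    rw [hHor_mem] at hy
    exact germToFunctionField_ne_zero _ _ (hb y (hcoh y hy.1) hy.2).1
  set g : (𝔸(n; X)).functionField := ∏ y ∈ Hor, (φ₀ (b y)) ^ (D' y) with hg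
  have hg0 : g ≠ 0 := Finset.prod_ne_zero_iff.2 fun y hy => zpow_ne_zero _ (hφb y hy)
  have hordg : ∀ y' : 𝔸(n; X), Scheme.ord g y' = ∑ y ∈ Hor, D' y * Scheme.ord (φ₀ (b y)) y' := by
    intro y'
    rw [hg, ord_prod y' Hor _ fun y hy => zpow_ne_zero _ (hφb y hy)]
    exact Finset.sum_congr rfl fun y hy => ord_zpow y' _ (hφb y hy) _
  have hhor : ∀ y' : 𝔸(n; X), coheight y' = 1 → (𝔸(n; X) ↘ X) y' = genericPoint X →
      Scheme.ord g y' = D' y' := by
    intro y' hyc' hpy'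
    rw [hordg, Finset.sum_eq_single y']
    · rw [(hb y' hyc' hpy').2.1, mul_one]
    · intro y hy hne
      rw [hHor_mem] at hy
      rw [(hb y (hcoh y hy.1) hy.2).2.2 y' hyc' hpy' hne.symm, mul_zero]
    · intro hy'
      rw [hHor_mem, not_and] at hy'
      have : D' y' = 0 := by
        by_contra h
        exact hy' h hpy'
      rw [this, zero_mul]
  -- the vertical points
  have Hv : ∀ x : X, ∃ y : 𝔸(n; X), coheight x = 1 →
      (coheight y = 1 ∧ (𝔸(n; X) ↘ X) y = x) := by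
    intro x
    by_cases hx : coheight x = 1
    · obtain ⟨U, hU, hxU, -⟩ := exists_affine_le x ⊤ trivial
      obtain ⟨y, -, hyc, hpy, -⟩ := exists_vertical_on n X hU x hxU hx
      exact ⟨y, fun _ => ⟨hyc, hpy⟩⟩
    · exact ⟨genericPoint _, fun h => absurd h hx⟩
  choose v hv using Hv
  refine ⟨fun x => if coheight x = 1 then D' (v x) - Scheme.ord g (v x) else 0, g, ?_, ?_, hg0, ?_⟩
  · intro x hx
    exact if_neg hx
  · -- finiteness
    choose Ux hUx hxUx _ using fun x : X => exists_affine_le x ⊤ trivial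
    obtain ⟨t, ht⟩ := isCompact_univ.elim_finite_subcover (fun x : X => (Ux x : Set X))
      (fun x => (Ux x).isOpen) (fun x _ => Set.mem_iUnion.2 ⟨x, hxUx x⟩)
    have hfin2 : (⋃ j ∈ t, {x : X | x ∈ Ux j ∧ coheight x = 1 ∧ Scheme.ord g (v x) ≠ 0}).Finite :=
      Set.Finite.biUnion t.finite_toSet fun j _ =>
        finite_vertical_ord_ne_zero n X (hUx j) g hg0 v hv
    refine ((hfin.image (𝔸(n; X) ↘ X)).union hfin2).subset ?_
    intro x hx
    have hx' : (if coheight x = 1 then D' (v x) - Scheme.ord g (v x) else 0) ≠ 0 := hx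
    have hxc : coheight x = 1 := by
      by_contra h
      rw [if_neg h] at hx'
      exact hx' rfl
    rw [if_pos hxc] at hx'
    by_cases h1 : D' (v x) = 0
    · right
      have h2 : Scheme.ord g (v x) ≠ 0 := by
        intro h2
        rw [h1, h2] at hx'
        exact hx' rfl
      obtain ⟨j, hj, hxj⟩ := Set.mem_iUnion₂.1 (ht (Set.mem_univ x))
      exact Set.mem_iUnion₂.2 ⟨j, hj, hxj, hxc, h2⟩
    · left
      exact ⟨v x, h1, (hv x hxc).2⟩
  · intro y hyc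
    rcases horizontal_or_vertical n X y hyc with hpy | hpy
    · have hne1 : coheight ((𝔸(n; X) ↘ X) y) ≠ 1 := by
        rw [hpy, coheight_genericPoint]
        exact zero_ne_one
      simp only [if_neg hne1, zero_add]
      exact (hhor y hyc hpy).symm
    · have hvy : v ((𝔸(n; X) ↘ X) y) = y := by
        refine vertical_unique n X _ y (hv _ hpy).1 hyc (hv _ hpy).2 ?_
        rw [(hv _ hpy).2]
        exact hpy
      simp only [if_pos hpy, hvy]
      ring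

end surj

end Groth.Agent.Lib.Seat62.AffSpaceCl
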