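import Mathlib
import Groth.Agent.Lib.Helper10DVRFibre3
import Groth.Agent.Lib.Helper4DVRDom
import Groth.Prelude.Def_SGA1

/-!
# Lifting specializations along universally submersive morphisms (seat 62)

* `exists_dvr_of_lt`: primes `p < q` of a noetherian ring are realized by a map to a DVR.
* `exists_dvr_hom_of_specializes`: a nontrivial specialization on a locally noetherian scheme is
  realized by a morphism from the spectrum of a DVR.
* `exists_specializes_of_isQuotientMap`: a quotient map from a scheme onto `Spec` of a DVR admits a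
  specialization over `generic ⤳ closed`.
* `exists_lift_specializes`: a universally submersive `∐ Yᵢ ⟶ X` lifts every specialization of `X`
  to a specialization in a single `Yᵢ`.
-/

namespace Groth.Agent.Lib.Seat62.HSpec

open IsLocalRing AlgebraicGeometry CategoryTheory CategoryTheory.Limits
open Groth.Agent.Lib.Helper10.DVRFibre

universe u


/-- A noetherian local domain which is not a field is dominated by a DVR (inside its own
fraction field). -/
theorem exists_dvr_of_localDomain (R : Type u) [CommRing R] [IsDomain R] [IsNoetherianRing R]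
    [IsLocalRing R] (hR : ¬ IsField R) :
    ∃ (V : Type u) (_ : CommRing V) (_ : IsDomain V) (_ : IsDiscreteValuationRing V)
      (ψ : R →+* V), Function.Injective ψ ∧ ∀ r, r ∈ maximalIdeal R ↔ ψ r ∈ maximalIdeal V := by
  obtain ⟨V, hV, h1, h2⟩ :=
    Groth.Agent.Lib.Helper4.DVRDom.exists_dvr_dominating' (L := FractionRing R) (R := R) hR
  refine ⟨V, inferInstance, inferInstance, hV, (algebraMap R (FractionRing R)).codRestrict V.toSubring h1, ?_, ?_⟩
  · intro a b hab
    have := congrArg Subtype.val hab
    exact IsFractionRing.injective R (FractionRing R) this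
  · intro r
    constructor
    · intro hr
      have := h2 r hr
      rw [IsLocalRing.mem_maximalIdeal, mem_nonunits_iff]
      intro hu
      rw [ValuationSubring.mem_nonunits_iff_exists_mem_maximalIdeal] at this
      obtain ⟨hx, hm⟩ := this
      exact (IsLocalRing.mem_maximalIdeal _).1 hm hu
    · intro hr
      by_contra hnot
      rw [IsLocalRing.mem_maximalIdeal, mem_nonunits_iff, not_not] at hnot
      exact (IsLocalRing.mem_maximalIdeal _).1 hr (hnot.map _)

/-- Given primes `p < q` in a noetherian ring `A`, there is a DVR `V` and a ring map `A → V` with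
kernel `p` pulling the maximal ideal back to `q`. -/
theorem exists_dvr_of_lt (A : Type u) [CommRing A] [IsNoetherianRing A] (p q : Ideal A)
    [p.IsPrime] [q.IsPrime] (hpq : p < q) :
    ∃ (V : Type u) (_ : CommRing V) (_ : IsDomain V) (_ : IsDiscreteValuationRing V)
      (φ : A →+* V), RingHom.ker φ = p ∧ (maximalIdeal V).comap φ = q := by
  let D := A ⧸ p
  let mk : A →+* D := Ideal.Quotient.mk p
  have hmk : Function.Surjective mk := Ideal.Quotient.mk_surjective
  let P : Ideal D := q.map mk
  have hker : RingHom.ker mk = p := Ideal.mk_ker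
  have hP : P.IsPrime := Ideal.map_isPrime_of_surjective hmk (by rw [hker]; exact hpq.le)
  have hcomapP : P.comap mk = q := by
    rw [Ideal.comap_map_of_surjective mk hmk, ← RingHom.ker_eq_comap_bot, hker]
    exact sup_eq_left.2 hpq.le
  have hPne : P ≠ ⊥ := by
    intro h
    have : q ≤ p := by
      rw [← hcomapP, h, ← RingHom.ker_eq_comap_bot, hker]
    exact absurd this (not_le_of_gt hpq)
  let R₀ := Localization.AtPrime P
  have hinj : Function.Injective (algebraMap D R₀) :=
    IsLocalization.injective R₀ P.primeCompl_le_nonZeroDivisors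
  have hR₀ : ¬ IsField R₀ := by
    intro hF
    have h1 : maximalIdeal R₀ = ⊥ := IsLocalRing.isField_iff_maximalIdeal_eq.1 hF
    apply hPne
    rw [eq_bot_iff]
    intro d hd
    have : algebraMap D R₀ d ∈ maximalIdeal R₀ := by
      rw [← Localization.AtPrime.map_eq_maximalIdeal]
      exact Ideal.mem_map_of_mem _ hd
    rw [h1, Ideal.mem_bot] at this
    rw [Ideal.mem_bot]
    exact hinj (by rw [this, map_zero])
  obtain ⟨V, i1, i2, i3, ψ, hψinj, hψ⟩ := exists_dvr_of_localDomain R₀ hR₀
  refine ⟨V, i1, i2, i3, ψ.comp ((algebraMap D R₀).comp mk), ?_, ?_⟩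
  · ext a
    rw [RingHom.mem_ker]
    simp only [RingHom.comp_apply]
    rw [map_eq_zero_iff ψ hψinj, map_eq_zero_iff _ hinj, ← RingHom.mem_ker, hker]
  · ext a
    rw [Ideal.mem_comap]
    simp only [RingHom.comp_apply]
    rw [← hψ, ← hcomapP, Ideal.mem_comap]
    have h3 : (maximalIdeal R₀).comap (algebraMap D R₀) = P :=
      Localization.AtPrime.under_maximalIdeal (I := P)
    conv_rhs => rw [← h3]
    rfl



variable {V : Type u} [CommRing V] [IsDomain V] [IsDiscreteValuationRing V]

/-- the generic point of `Spec V` as a point of the scheme. -/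
noncomputable abbrev gen (V : Type u) [CommRing V] [IsDomain V] : ↥(Spec (CommRingCat.of V)) :=
  genPt V

/-- the closed point of `Spec V` as a point of the scheme. -/
noncomputable abbrev cl (V : Type u) [CommRing V] [IsLocalRing V] : ↥(Spec (CommRingCat.of V)) :=
  closedPoint V

theorem gen_ne_cl : gen V ≠ cl V := by
  intro h
  have h1 : (genPt V).asIdeal = (closedPoint V).asIdeal := congrArg PrimeSpectrum.asIdeal h
  have h2 : (⊥ : Ideal V) = maximalIdeal V := h1
  exact IsDiscreteValuationRing.not_a_field V h2.symm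

theorem gen_specializes_cl : gen V ⤳ cl V := genPt_specializes (closedPoint V)

theorem not_isClosed_gen : ¬ IsClosed ({gen V} : Set ↥(Spec (CommRingCat.of V))) := by
  intro h
  have h1 : cl V ∈ ({gen V} : Set ↥(Spec (CommRingCat.of V))) :=
    gen_specializes_cl.mem_closed h rfl
  exact gen_ne_cl h1.symm

theorem eq_gen_or_cl (z : ↥(Spec (CommRingCat.of V))) : z = gen V ∨ z = cl V :=
  eq_genPt_or_closedPoint z

/-- A scheme mapping onto the spectrum of a DVR by a quotient map has a specialization lying over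
the specialization of the DVR. -/
theorem exists_specializes_of_isQuotientMap {W : Scheme.{u}} (π : W ⟶ Spec (CommRingCat.of V))
    (hπ : Topology.IsQuotientMap π) :
    ∃ wg ws : W, wg ⤳ ws ∧ π wg = gen V ∧ π ws = cl V := by
  obtain ⟨ϖ, hϖ⟩ := IsDiscreteValuationRing.exists_irreducible V
  let ι : Spec (CommRingCat.of (Localization.Away ϖ)) ⟶ Spec (CommRingCat.of V) :=
    Spec.map (CommRingCat.ofHom (algebraMap V (Localization.Away ϖ)))
  have hι : IsOpenImmersion ι := inferInstance
  have hrange : Set.range ι = ({gen V} : Set ↥(Spec (CommRingCat.of V))) := by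
    have h1 : Set.range ι = (PrimeSpectrum.basicOpen ϖ : Set (PrimeSpectrum V)) :=
      PrimeSpectrum.localization_away_comap_range (Localization.Away ϖ) ϖ
    rw [h1]
    apply Set.ext
    intro z
    exact mem_basicOpen_iff_eq_genPt hϖ z
  let j : pullback π ι ⟶ W := pullback.fst π ι
  have hjr : Set.range j = π ⁻¹' ({gen V} : Set ↥(Spec (CommRingCat.of V))) := by
    rw [← hrange]
    exact Scheme.Pullback.range_fst π ι
  have hnc : ¬ IsClosed (Set.range j) := by
    rw [hjr, hπ.isClosed_preimage]
    exact not_isClosed_gen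
  have hns : ¬ SpecializingMap j := by
    intro hs
    exact hnc ((isClosedMap_iff_specializingMap j).2 hs).isClosed_range
  simp only [SpecializingMap, Relation.Fibration, not_forall] at hns
  obtain ⟨a, y, hay, hno⟩ := hns
  have hy : y ∉ Set.range j := by
    rintro ⟨a', rfl⟩
    exact hno ⟨a', (j.isOpenEmbedding.isInducing.specializes_iff).1 hay, rfl⟩
  refine ⟨j a, y, hay, ?_, ?_⟩
  · have : j a ∈ Set.range j := ⟨a, rfl⟩
    rw [hjr] at this
    exact this
  · rw [hjr] at hy
    rcases eq_gen_or_cl (π y) with h | h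
    · exact absurd h hy
    · exact h


/-- A nontrivial specialization `η ⤳ x` on a locally noetherian scheme is realized by a morphism
from the spectrum of a DVR. -/
theorem exists_dvr_hom_of_specializes {X : Scheme.{u}} [IsLocallyNoetherian X] {η x : X}
    (h : η ⤳ x) (hne : η ≠ x) :
    ∃ (V : Type u) (_ : CommRing V) (_ : IsDomain V) (_ : IsDiscreteValuationRing V)
      (g : Spec (CommRingCat.of V) ⟶ X), g (gen V) = η ∧ g (cl V) = x := by
  obtain ⟨U, hU, hxU⟩ := exists_affineOpen_mem x
  have hηU : η ∈ U := h.mem_open U.isOpen hxU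
  have : IsNoetherianRing Γ(X, U) := IsLocallyNoetherian.component_noetherian ⟨U, hU⟩
  let p := hU.primeIdealOf ⟨η, hηU⟩
  let q := hU.primeIdealOf ⟨x, hxU⟩
  have hp : hU.fromSpec p = η := hU.fromSpec_primeIdealOf ⟨η, hηU⟩
  have hq : hU.fromSpec q = x := hU.fromSpec_primeIdealOf ⟨x, hxU⟩
  have hpq : p ⤳ q := by
    have h0 : hU.fromSpec p ⤳ hU.fromSpec q := by rw [hp, hq]; exact h
    exact (hU.fromSpec.isOpenEmbedding.isInducing.specializes_iff).1 h0
  have hle : p.asIdeal ≤ q.asIdeal := (PrimeSpectrum.le_iff_specializes p q).2 hpq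
  have hne' : p.asIdeal ≠ q.asIdeal := by
    intro h'
    apply hne
    rw [← hp, ← hq, PrimeSpectrum.ext h']
  obtain ⟨V, i1, i2, i3, φ, hker, hcomap⟩ :=
    exists_dvr_of_lt Γ(X, U) p.asIdeal q.asIdeal (lt_of_le_of_ne hle hne')
  refine ⟨V, i1, i2, i3, Spec.map (CommRingCat.ofHom φ) ≫ hU.fromSpec, ?_, ?_⟩
  · rw [Scheme.Hom.comp_apply]
    have : Spec.map (CommRingCat.ofHom φ) (gen V) = p := by
      apply PrimeSpectrum.ext
      show Ideal.comap φ ⊥ = p.asIdeal
      rw [← RingHom.ker_eq_comap_bot, hker]
    rw [this, hp]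
  · rw [Scheme.Hom.comp_apply]
    have : Spec.map (CommRingCat.ofHom φ) (cl V) = q := by
      apply PrimeSpectrum.ext
      show Ideal.comap φ (maximalIdeal V) = q.asIdeal
      rw [hcomap]
    rw [this, hq]


/-- specializations in a coproduct of schemes live in one component. -/
theorem exists_of_specializes_sigma {ι : Type u} (Y : ι → Scheme.{u}) {s t : ↥(∐ Y)} (h : s ⤳ t) :
    ∃ (i : ι) (ξ u : Y i), ξ ⤳ u ∧ Sigma.ι Y i ξ = s ∧ Sigma.ι Y i u = t := by
  obtain ⟨⟨i, u⟩, hu⟩ := (sigmaMk Y).surjective t
  rw [sigmaMk_mk] at hu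
  have hs : s ∈ Set.range (Sigma.ι Y i) :=
    h.mem_open (Sigma.ι Y i).isOpenEmbedding.isOpen_range ⟨u, hu⟩
  obtain ⟨ξ, hξ⟩ := hs
  refine ⟨i, ξ, u, ?_, hξ, hu⟩
  apply ((Sigma.ι Y i).isOpenEmbedding.isInducing.specializes_iff).1
  rw [hξ, hu]
  exact h

/-- Main lemma: over an arbitrary specialization `η ⤳ x`, a universally submersive morphism
from a coproduct admits a lift of the specialization in one of the components. -/
theorem exists_lift_specializes {X : Scheme.{u}} [IsLocallyNoetherian X] {ι : Type u}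
    (Y : ι → Scheme.{u}) (f : ∀ i, Y i ⟶ X) (hE : SGA1.UnivSubmersive (Sigma.desc f))
    {η x : X} (h : η ⤳ x) :
    ∃ (i : ι) (ξ u : Y i), ξ ⤳ u ∧ f i ξ = η ∧ f i u = x := by
  have key : ∃ s t : ↥(∐ Y), s ⤳ t ∧ Sigma.desc f s = η ∧ Sigma.desc f t = x := by
    by_cases hne : η = x
    · subst hne
      have hq : Topology.IsQuotientMap (Sigma.desc f) :=
        MorphismProperty.universally_le _ _ hE
      obtain ⟨s, hs⟩ := hq.surjective η
      exact ⟨s, s, specializes_rfl, hs, hs⟩
    · obtain ⟨V, i1, i2, i3, g, hg1, hg2⟩ := exists_dvr_hom_of_specializes h hne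
      have hq : Topology.IsQuotientMap (pullback.snd (Sigma.desc f) g) :=
        hE _ _ _ (IsPullback.of_hasPullback (Sigma.desc f) g).flip
      obtain ⟨wg, ws, hw, hwg, hws⟩ := exists_specializes_of_isQuotientMap _ hq
      refine ⟨pullback.fst (Sigma.desc f) g wg, pullback.fst (Sigma.desc f) g ws,
        hw.map (pullback.fst (Sigma.desc f) g).continuous, ?_, ?_⟩
      · rw [← Scheme.Hom.comp_apply, pullback.condition, Scheme.Hom.comp_apply, hwg, hg1]
      · rw [← Scheme.Hom.comp_apply, pullback.condition, Scheme.Hom.comp_apply, hws, hg2]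
  obtain ⟨s, t, hst, hs, ht⟩ := key
  obtain ⟨i, ξ, u, hξu, hξ, hu⟩ := exists_of_specializes_sigma Y hst
  refine ⟨i, ξ, u, hξu, ?_, ?_⟩
  · rw [← hs, ← hξ, ← Scheme.Hom.comp_apply, Sigma.ι_desc]
  · rw [← ht, ← hu, ← Scheme.Hom.comp_apply, Sigma.ι_desc]

end Groth.Agent.Lib.Seat62.HSpec
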