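import Mathlib
import Groth.Prelude.Def_BlowUp2
import Groth.Prelude.Def_SGA1
import Groth.Agent.Lib.Seat62HSpec

/-!
# Blow-ups (by universal property) and maps from spectra of PIDs (seat 62)

* `isEffCartierIdeal_spec_pid`: on `Spec` of a PID, an ideal sheaf whose support misses the generic
  point is effective Cartier.
* `eq_of_comp_eq`: two maps `Spec V ⟶ X'` (V a PID) agreeing after the blow-up morphism are equal if
  the generic point goes outside the centre.
* `notMem_support_of_maximal`: maximal points of the blow-up lie over the complement of the centre.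
* `eq_top_of_univSubmersive`: an open of the blow-up with universally submersive composite is `⊤`.
-/

open AlgebraicGeometry CategoryTheory CategoryTheory.Limits

universe u

namespace Groth.Agent.Lib.Seat62.BlowUpDVR

/-- On the spectrum of a principal ideal domain, an ideal sheaf whose support misses the generic
point is effective Cartier. -/
theorem isEffCartierIdeal_spec_pid (V : Type u) [CommRing V] [IsDomain V] [IsPrincipalIdealRing V]
    (J : (Spec (CommRingCat.of V)).IdealSheafData)
    (hJ : Groth.Agent.Lib.Seat62.HSpec.gen V ∉ J.support) :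
    BlowUp.IsEffCartierIdeal J := by
  intro x
  let T := Spec (CommRingCat.of V)
  have hT : (⊤ : T.Opens) ∈ T.affineOpens := isAffineOpen_top T
  refine ⟨⟨⊤, hT⟩, trivial, ?_⟩
  let e : Γ(T, ⊤) ≃+* V := (Scheme.ΓSpecIso (CommRingCat.of V)).commRingCatIsoToRingEquiv
  have : IsDomain Γ(T, ⊤) := e.toMulEquiv.isDomain V
  have : IsPrincipalIdealRing Γ(T, ⊤) :=
    IsPrincipalIdealRing.of_surjective e.symm.toRingHom e.symm.surjective
  obtain ⟨f, hf⟩ := (IsPrincipalIdealRing.principal (J.ideal ⟨⊤, hT⟩)).principal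
  refine ⟨f, ?_, hf⟩
  apply mem_nonZeroDivisors_of_ne_zero
  rintro rfl
  apply hJ
  rw [Scheme.IdealSheafData.mem_support_iff_of_mem (U := ⟨⊤, hT⟩) trivial, hf]
  rw [Scheme.mem_zeroLocus_iff]
  intro s hs
  have : s = 0 := by
    rw [Submodule.span_zero_singleton] at hs
    simpa using hs
  subst this
  simp


open Groth.Agent.Lib.Seat62.HSpec in
/-- Two morphisms from the spectrum of a PID to a blow-up which agree after composing with the
blow-up morphism are equal, provided the generic point is sent outside the centre. -/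
theorem eq_of_comp_eq {X X' : Scheme.{u}} (𝓘 : X.IdealSheafData) (b : X' ⟶ X)
    (hb : BlowUp.IsBlowUp b 𝓘) (V : Type u) [CommRing V] [IsDomain V] [IsPrincipalIdealRing V]
    (α β : Spec (CommRingCat.of V) ⟶ X') (h : α ≫ b = β ≫ b)
    (hgen : (α ≫ b) (gen V) ∉ 𝓘.support) : α = β := by
  have hEC : BlowUp.IsEffCartierIdeal (𝓘.comap (α ≫ b)) := by
    apply isEffCartierIdeal_spec_pid
    rw [Scheme.IdealSheafData.support_comap]
    exact hgen
  obtain ⟨l, _, hl⟩ := hb.2 _ (α ≫ b) hEC
  rw [hl α rfl, hl β h.symm]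

/-- The blow-up morphism sends maximal points outside the centre. -/
theorem notMem_support_of_maximal {X X' : Scheme.{u}} (𝓘 : X.IdealSheafData) (b : X' ⟶ X)
    (hb : BlowUp.IsBlowUp b 𝓘) (ξ : X') (hξ : ∀ y : X', y ⤳ ξ → y = ξ) :
    b ξ ∉ 𝓘.support := by
  intro hmem
  have hmem' : ξ ∈ (𝓘.comap b).support := by
    rw [Scheme.IdealSheafData.support_comap]
    exact hmem
  obtain ⟨U, hξU, f, hf, hfU⟩ := hb.1 ξ
  rw [Scheme.IdealSheafData.mem_support_iff_of_mem hξU, hfU, Scheme.mem_zeroLocus_iff] at hmem'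
  have hfξ : ξ ∉ X'.basicOpen f := hmem' f (Ideal.subset_span rfl)
  -- the prime of ξ is minimal, so consists of zero divisors
  let q := U.2.primeIdealOf ⟨ξ, hξU⟩
  have hq : U.2.fromSpec q = ξ := U.2.fromSpec_primeIdealOf ⟨ξ, hξU⟩
  have hfq : f ∈ q.asIdeal := by
    by_contra hnot
    apply hfξ
    have h1 : q ∈ PrimeSpectrum.basicOpen f := hnot
    have h2 : U.2.fromSpec ⁻¹ᵁ (X'.basicOpen f) = PrimeSpectrum.basicOpen f :=
      U.2.fromSpec_preimage_basicOpen f
    have h3 : q ∈ U.2.fromSpec ⁻¹ᵁ (X'.basicOpen f) := by rw [h2]; exact h1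
    rw [← hq]
    exact h3
  have hmin : q.asIdeal ∈ minimalPrimes Γ(X', U.1) := by
    refine ⟨⟨q.isPrime, bot_le⟩, ?_⟩
    rintro p ⟨hp, -⟩ hpq
    let p' : PrimeSpectrum Γ(X', U.1) := ⟨p, hp⟩
    have hsp : p' ⤳ q := (PrimeSpectrum.le_iff_specializes p' q).1 hpq
    have hsp' : U.2.fromSpec p' ⤳ U.2.fromSpec q := hsp.map U.2.fromSpec.continuous
    rw [hq] at hsp'
    have := hξ _ hsp'
    rw [← hq] at this
    have hU2 : IsAffineOpen U.1 := U.2
    have h4 : p' = q := hU2.fromSpec.isOpenEmbedding.injective this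
    rw [← h4]
  exact (Ideal.disjoint_nonZeroDivisors_of_mem_minimalPrimes hmin).le_bot ⟨hfq, hf⟩


open Groth.Agent.Lib.Seat62.HSpec in
/-- Points of the blow-up over the complement of the centre lie in any open whose composite to the
base is surjective. -/
theorem mem_of_notMem_support {X X' : Scheme.{u}} (𝓘 : X.IdealSheafData) (b : X' ⟶ X)
    (hb : BlowUp.IsBlowUp b 𝓘) (U : X'.Opens) (hsurj : Function.Surjective (U.ι ≫ b))
    (x' : X') (hx' : b x' ∉ 𝓘.support) : x' ∈ U := by
  obtain ⟨u, hu⟩ := hsurj (b x')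
  obtain ⟨z, hz1, hz2⟩ := Scheme.Pullback.exists_preimage_pullback (f := U.ι ≫ b) (g := b) u x' hu
  let P := pullback (U.ι ≫ b) b
  let L := P.residueField z
  let t : Spec (CommRingCat.of L) ⟶ P := P.fromSpecResidueField z
  let α : Spec (CommRingCat.of L) ⟶ X' := t ≫ pullback.fst _ _ ≫ U.ι
  let β : Spec (CommRingCat.of L) ⟶ X' := t ≫ pullback.snd _ _
  have hαβ : α ≫ b = β ≫ b := by
    simp only [α, β, Category.assoc]
    rw [pullback.condition]
  have ht : t (gen L) = z := by
    have : Set.range t = {z} := P.range_fromSpecResidueField z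
    have h1 : t (gen L) ∈ Set.range t := ⟨_, rfl⟩
    rw [this] at h1
    exact h1
  have hβ : β (gen L) = x' := by
    simp only [β]
    rw [Scheme.Hom.comp_apply, ht, hz2]
  have hα : α (gen L) = U.ι u := by
    simp only [α]
    rw [Scheme.Hom.comp_apply, Scheme.Hom.comp_apply, ht, hz1]
  have hgen : (α ≫ b) (gen L) ∉ 𝓘.support := by
    rw [hαβ, Scheme.Hom.comp_apply, hβ]
    exact hx'
  have := eq_of_comp_eq 𝓘 b hb L α β hαβ hgen
  rw [← hβ, ← this, hα]
  exact u.2


open Groth.Agent.Lib.Seat62.HSpec in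
/-- An open of a blow-up of a locally noetherian scheme (finite type blow-up morphism) whose
composite to the base is universally submersive is everything. -/
theorem eq_top_of_univSubmersive {X X' : Scheme.{u}} [IsLocallyNoetherian X]
    (𝓘 : X.IdealSheafData) (b : X' ⟶ X) [LocallyOfFiniteType b]
    (hb : BlowUp.IsBlowUp b 𝓘) (U : X'.Opens) (hU : SGA1.UnivSubmersive (U.ι ≫ b)) : U = ⊤ := by
  have : IsLocallyNoetherian X' := LocallyOfFiniteType.isLocallyNoetherian b
  have hq : Topology.IsQuotientMap (U.ι ≫ b) := MorphismProperty.universally_le _ _ hU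
  have hsurj : Function.Surjective (U.ι ≫ b) := hq.surjective
  rw [eq_top_iff]
  intro x' _
  -- a maximal point above x'
  obtain ⟨ξ, hξ⟩ := QuasiSober.sober (isIrreducible_irreducibleComponent (x := x'))
    isClosed_irreducibleComponent
  have hξx : ξ ⤳ x' := by
    rw [specializes_iff_mem_closure, hξ.def]
    exact mem_irreducibleComponent
  have hξmax : ∀ y : X', y ⤳ ξ → y = ξ := by
    intro y hy
    have h1 : closure {ξ} ⊆ closure {y} := by
      rw [← specializes_iff_closure_subset]; exact hy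
    have h2 : closure {y} ⊆ closure {ξ} := by
      have hmem := irreducibleComponent_mem_irreducibleComponents x'
      rw [← hξ.def] at hmem
      exact hmem.2 (isIrreducible_singleton.closure) h1
    have h3 : ξ ⤳ y := by
      rw [specializes_iff_closure_subset]; exact h2
    exact (h3.antisymm hy).eq.symm
  have hξsupp : b ξ ∉ 𝓘.support := notMem_support_of_maximal 𝓘 b hb ξ hξmax
  by_cases hne : ξ = x'
  · subst hne
    exact mem_of_notMem_support 𝓘 b hb U hsurj ξ hξsupp
  -- the DVR through ξ ⤳ x'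
  obtain ⟨V, i1, i2, i3, γ, hγ1, hγ2⟩ := exists_dvr_hom_of_specializes hξx hne
  let f := U.ι ≫ b
  let g := γ ≫ b
  have hπ : Topology.IsQuotientMap (pullback.snd f g) :=
    hU _ _ _ (IsPullback.of_hasPullback f g).flip
  obtain ⟨wg, ws, hw, hwg, hws⟩ := exists_specializes_of_isQuotientMap _ hπ
  have hwne : wg ≠ ws := by
    intro h
    rw [h, hws] at hwg
    exact gen_ne_cl hwg.symm
  have : IsLocallyNoetherian (Spec (CommRingCat.of V)) := inferInstance
  have : IsLocallyNoetherian (pullback f g) :=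
    LocallyOfFiniteType.isLocallyNoetherian (pullback.snd f g)
  obtain ⟨V', j1, j2, j3, k, hk1, hk2⟩ := exists_dvr_hom_of_specializes hw hwne
  let α : Spec (CommRingCat.of V') ⟶ X' := k ≫ pullback.fst f g ≫ U.ι
  let β : Spec (CommRingCat.of V') ⟶ X' := k ≫ pullback.snd f g ≫ γ
  have hαβ : α ≫ b = β ≫ b := by
    simp only [α, β, Category.assoc]
    exact congrArg (k ≫ ·) (pullback.condition (f := f) (g := g))
  have hβgen : β (gen V') = ξ := by
    simp only [β]
    rw [Scheme.Hom.comp_apply, Scheme.Hom.comp_apply, hk1, hwg, hγ1]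
  have hβcl : β (cl V') = x' := by
    simp only [β]
    rw [Scheme.Hom.comp_apply, Scheme.Hom.comp_apply, hk2, hws, hγ2]
  have hgen : (α ≫ b) (gen V') ∉ 𝓘.support := by
    rw [hαβ, Scheme.Hom.comp_apply, hβgen]
    exact hξsupp
  have hαeq := eq_of_comp_eq 𝓘 b hb V' α β hαβ hgen
  rw [← hβcl, ← hαeq]
  simp only [α]
  rw [Scheme.Hom.comp_apply, Scheme.Hom.comp_apply]
  exact ((pullback.fst f g) (k (cl V'))).2

end Groth.Agent.Lib.Seat62.BlowUpDVR
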