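import Mathlib
import Groth.Agent.Lib.Helper4DVRDom

set_option autoImplicit false
universe u
open Polynomial Algebra

namespace Groth.Agent.Lib.Seat62.DVRIntegral

variable {K : Type u} [Field K]

/-- A non-integral element of the fraction field of a Noetherian domain is excluded by some
discrete valuation ring containing the domain. -/
theorem exists_dvr_notMem_of_not_isIntegral (R : Subring K) [IsNoetherianRing R]
    [IsFractionRing R K] {x : K} (hx : ¬ IsIntegral R x) :
    ∃ V : ValuationSubring K, IsDiscreteValuationRing V ∧ R ≤ V.toSubring ∧ x ∉ V := by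
  have hx0 : x ≠ 0 := by
    rintro rfl
    exact hx isIntegral_zero
  let := invertibleOfNonzero hx0
  let B := R[x⁻¹]
  let xinv : B.toSubring := ⟨x⁻¹, subset_adjoin rfl⟩
  have hspan : Ideal.span {xinv} ≠ ⊤ := fun eq ↦ hx <|
    have ⟨p, hp, hpx⟩ := exists_aeval_invOf_eq_zero_of_idealMap_adjoin_sup_span_eq_top _
      (⊥ : Ideal R) bot_ne_top (top_unique <| eq.ge.trans le_add_self)
    ⟨p, by simpa [Monic, sub_eq_zero] using hp, by
      have h2 : aeval x p = 0 := by simpa using hpx
      rwa [aeval_def] at h2⟩
  have hRB : R ≤ B.toSubring := fun r hr ↦ B.algebraMap_mem ⟨r, hr⟩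
  have hBN : IsNoetherianRing B :=
    isNoetherianRing_of_fg (Subalgebra.fg_def.2 ⟨{x⁻¹}, Set.finite_singleton _, rfl⟩)
  have hBN' : IsNoetherianRing B.toSubring := hBN
  have hBF : IsFractionRing B.toSubring K :=
    Groth.Agent.Lib.Helper4.DVRDom.isFractionRing_of_le R B.toSubring hRB
  have hxinv0 : xinv ≠ 0 := by
    intro h0
    have : (x⁻¹ : K) = 0 := congrArg Subtype.val h0
    exact (inv_ne_zero hx0) this
  obtain ⟨V, hV, hBV, hnon⟩ :=
    Groth.Agent.Lib.Helper4.DVRDom.exists_dvr_of_noetherian_subring B.toSubring xinv hxinv0 hspan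
  refine ⟨V, hV, hRB.trans hBV, ?_⟩
  exact (V.inv_mem_nonunits_iff.mp hnon).resolve_left hx0


/-- version for an abstract Noetherian domain with fraction field `K`. -/
theorem exists_dvr_notMem_of_not_isIntegral' (B : Type u) [CommRing B] [IsDomain B]
    [IsNoetherianRing B] [Algebra B K] [IsFractionRing B K] {x : K} (hx : ¬ IsIntegral B x) :
    ∃ V : ValuationSubring K, IsDiscreteValuationRing V ∧ (∀ b : B, algebraMap B K b ∈ V) ∧
      x ∉ V := by
  let R : Subring K := (algebraMap B K).range
  have hRN : IsNoetherianRing R := isNoetherianRing_range (algebraMap B K)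
  have hRF : IsFractionRing R K := by
    have : FaithfulSMul R K :=
      (faithfulSMul_iff_algebraMap_injective R K).mpr Subtype.val_injective
    refine IsFractionRing.of_field (R := R) (K := K) fun z => ?_
    obtain ⟨a, b, hb, rfl⟩ := IsFractionRing.div_surjective (A := B) z
    exact ⟨⟨algebraMap B K a, a, rfl⟩, ⟨algebraMap B K b, b, rfl⟩, rfl⟩
  have hx' : ¬ IsIntegral R x := by
    intro hi
    apply hx
    -- `R` is integral over `B`
    let f : B →+* R := (algebraMap B K).rangeRestrict
    letI : Algebra B R := f.toAlgebra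
    haveI : IsScalarTower B R K := IsScalarTower.of_algebraMap_eq (fun b => rfl)
    haveI : Algebra.IsIntegral B R :=
      Algebra.isIntegral_of_surjective (algebraMap B K).rangeRestrict_surjective
    exact isIntegral_trans (A := R) x hi
  obtain ⟨V, hV, hRV, hxV⟩ := exists_dvr_notMem_of_not_isIntegral R hx'
  exact ⟨V, hV, fun b => hRV ⟨b, rfl⟩, hxV⟩

end Groth.Agent.Lib.Seat62.DVRIntegral
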