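import Mathlib
import Groth.Agent.Lib.Helper10DVRFibre3

/-!
# Proper morphisms of flat schemes over a DVR which are generically isomorphisms (helper62)

If `π : Y ⟶ X` is proper over `Spec R` (`R` a DVR), `X` and `Y` flat over `R`, `π` is an isomorphism
on generic fibres, and the special fibre of `X` is reduced, then `𝒪_X ⟶ π_* 𝒪_Y` is an isomorphism.
-/

set_option autoImplicit false
set_option linter.style.haveILetI false
set_option linter.unusedSectionVars false
universe u

namespace Groth.Agent.Lib.Seat62.DVRProper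

open CategoryTheory CategoryTheory.Limits AlgebraicGeometry TopologicalSpace
open Groth.Agent.Lib.Helper10.DVRFibre

section Ring

/-- The `t`-adic minimal exponent argument. -/
theorem bijective_of_core {A B : Type*} [CommRing A] [CommRing B] (φ : A →+* B) (t : A)
    (htB : φ t ∈ nonZeroDivisors B)
    (h1 : ∀ b : B, ∃ (n : ℕ) (a : A), φ a = φ t ^ n * b)
    (h2 : ∀ a : A, φ a = 0 → a = 0)
    (h3 : ∀ a : A, (∃ b, φ a = φ t * b) → ∃ a', a = t * a') : Function.Bijective φ := by
  refine ⟨(injective_iff_map_eq_zero φ).mpr h2, ?_⟩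
  intro b
  obtain ⟨n, a, h⟩ := h1 b
  induction n generalizing a with
  | zero => exact ⟨a, by simpa using h⟩
  | succ n ih =>
    obtain ⟨a', rfl⟩ := h3 a ⟨φ t ^ n * b, by rw [h, pow_succ]; ring⟩
    apply ih a'
    have h4 : φ t * φ a' = φ t * (φ t ^ n * b) := by rw [← map_mul, h, pow_succ]; ring
    exact (mul_cancel_left_mem_nonZeroDivisors htB).mp h4

variable (R : Type u) [CommRing R] [IsDomain R] [IsDiscreteValuationRing R]

theorem isLocalization_away_fractionRing {t : R} (ht : Irreducible t) :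
    IsLocalization.Away t (FractionRing R) := by
  have ht0 : algebraMap R (FractionRing R) t ≠ 0 := by
    rw [Ne, map_eq_zero_iff _ (IsFractionRing.injective R (FractionRing R))]
    exact ht.ne_zero
  refine ⟨⟨?_, ?_, ?_⟩⟩
  · rintro ⟨_, n, rfl⟩
    rw [map_pow]
    exact (IsUnit.mk0 _ ht0).pow n
  · intro q
    obtain ⟨a, b, hb, rfl⟩ := IsFractionRing.div_surjective (A := R) q
    have hb0 : b ≠ 0 := nonZeroDivisors.ne_zero hb
    obtain ⟨n, u, rfl⟩ := IsDiscreteValuationRing.eq_unit_mul_pow_irreducible hb0 ht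
    refine ⟨⟨a * ((u⁻¹ : Rˣ) : R), ⟨t ^ n, n, rfl⟩⟩, ?_⟩
    have hu : algebraMap R (FractionRing R) (u : R) ≠ 0 := by
      rw [Ne, map_eq_zero_iff _ (IsFractionRing.injective R (FractionRing R))]
      exact u.ne_zero
    have hu' : algebraMap R (FractionRing R) ((u⁻¹ : Rˣ) : R) =
        (algebraMap R (FractionRing R) (u : R))⁻¹ := by
      apply eq_inv_of_mul_eq_one_left
      rw [← map_mul, Units.inv_mul, map_one]
    simp only [map_mul, map_pow, hu']
    field_simp
  · intro a b hab
    exact ⟨1, by rw [IsFractionRing.injective R (FractionRing R) hab]⟩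

theorem isOpenImmersion_genPt :
    IsOpenImmersion (Spec.map (CommRingCat.ofHom (algebraMap R (FractionRing R)))) := by
  obtain ⟨t, ht⟩ := IsDiscreteValuationRing.exists_irreducible R
  haveI := isLocalization_away_fractionRing R ht
  exact IsOpenImmersion.of_isLocalization t

theorem range_genPt :
    Set.range (Spec.map (CommRingCat.ofHom (algebraMap R (FractionRing R)))) = {genPt R} := by
  ext z
  simp only [Set.mem_range]
  constructor
  · rintro ⟨w, rfl⟩
    change _ = genPt R
    apply PrimeSpectrum.ext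
    change Ideal.comap (algebraMap R (FractionRing R)) w.asIdeal = ⊥
    have hw : w.asIdeal = ⊥ := by
      haveI := PrimeSpectrum.isPrime w
      exact Ideal.eq_bot_of_prime w.asIdeal
    rw [hw, ← RingHom.ker_eq_comap_bot]
    exact (RingHom.injective_iff_ker_eq_bot _).mp (IsFractionRing.injective R (FractionRing R))
  · rintro (rfl : z = genPt R)
    refine ⟨⟨⊥, Ideal.isPrime_bot⟩, ?_⟩
    apply PrimeSpectrum.ext
    change Ideal.comap (algebraMap R (FractionRing R)) ⊥ = ⊥
    rw [← RingHom.ker_eq_comap_bot]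
    exact (RingHom.injective_iff_ker_eq_bot _).mp (IsFractionRing.injective R (FractionRing R))

end Ring

section Sch

variable {R : Type u} [CommRing R] [IsDomain R] [IsDiscreteValuationRing R]

/-- Naturality of `app` with respect to restriction. -/
theorem app_res {X Y : Scheme.{u}} (f : Y ⟶ X) {V' V : X.Opens} (h : V' ≤ V) (a : Γ(X, V)) :
    f.app V' (X.presheaf.map (homOfLE h).op a) =
      Y.presheaf.map (homOfLE (f.preimage_mono h)).op (f.app V a) := by
  have := f.naturality (homOfLE h).op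
  exact ConcreteCategory.congr_hom this a

theorem phi_res {Z : Scheme.{u}} (f : Z ⟶ Spec (CommRingCat.of R)) {W' W : Z.Opens} (h : W' ≤ W)
    (r : R) : Z.presheaf.map (homOfLE h).op (phi f W r) = phi f W' r := by
  rw [phi_apply, phi_apply]
  change (Z.presheaf.map _ ≫ Z.presheaf.map _) _ = _
  rw [← Functor.map_comp]
  rfl

/-- Sections of a flat `R`-scheme over any open are `t`-torsion-free. -/
theorem phi_mul_eq_zero {Z : Scheme.{u}} (f : Z ⟶ Spec (CommRingCat.of R)) [Flat f] {t : R}
    (ht : t ≠ 0) (W : Z.Opens) (b : Γ(Z, W)) (h : phi f W t * b = 0) : b = 0 := by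
  refine Z.sheaf.eq_of_locally_eq' (fun i : {V : Z.Opens // IsAffineOpen V ∧ V ≤ W} => i.1) W
    (fun i => homOfLE i.2.2) ?_ b 0 ?_
  · intro x hx
    obtain ⟨V, hV, hxV, hVW⟩ := Opens.isBasis_iff_nbhd.mp Z.isBasis_affineOpens hx
    exact Opens.mem_iSup.mpr ⟨⟨V, hV, hVW⟩, hxV⟩
  · rintro ⟨V, hV, hVW⟩
    change Z.presheaf.map (homOfLE hVW).op b = Z.presheaf.map (homOfLE hVW).op 0
    rw [map_zero]
    have h1 : phi f V t * Z.presheaf.map (homOfLE hVW).op b = 0 := by
      rw [← phi_res f hVW, ← map_mul, h, map_zero]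
    exact (mul_right_mem_nonZeroDivisors_eq_zero_iff (phi_mem_nonZeroDivisors f hV ht)).mp
      (by rw [mul_comm]; exact h1)

theorem phi_mem_nonZeroDivisors' {Z : Scheme.{u}} (f : Z ⟶ Spec (CommRingCat.of R)) [Flat f]
    {t : R} (ht : t ≠ 0) (W : Z.Opens) : phi f W t ∈ nonZeroDivisors Γ(Z, W) := by
  rw [mem_nonZeroDivisors_iff_left]
  intro b hb
  exact phi_mul_eq_zero f ht W b hb

theorem isIso_app_of_comm {X Y XK YK : Scheme.{u}} (π : Y ⟶ X) (πK : YK ⟶ XK) (jX : XK ⟶ X)
    (jY : YK ⟶ Y) [IsOpenImmersion jX] [IsOpenImmersion jY] [IsIso πK]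
    (hcomm : πK ≫ jX = jY ≫ π) (V : X.Opens) (hVX : V ≤ jX.opensRange)
    (hVY : π ⁻¹ᵁ V ≤ jY.opensRange) : IsIso (π.app V) := by
  haveI i1 : IsIso (jX.app V) := jX.isIso_app V hVX
  haveI i2 : IsIso (jY.app (π ⁻¹ᵁ V)) := jY.isIso_app _ hVY
  haveI i3 : IsIso (πK.app (jX ⁻¹ᵁ V)) := inferInstance
  have h1 : π.app V ≫ jY.app (π ⁻¹ᵁ V) = (jY ≫ π).app V :=
    (Scheme.Hom.comp_app jY π V).symm
  have h2 : (πK ≫ jX).app V = jX.app V ≫ πK.app (jX ⁻¹ᵁ V) := Scheme.Hom.comp_app πK jX V
  have h3 := Scheme.Hom.congr_app hcomm.symm V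
  haveI i4 : IsIso ((πK ≫ jX).app V) := by rw [h2]; exact IsIso.comp_isIso' i1 i3
  haveI i5 : IsIso ((jY ≫ π).app V) := by rw [h3]; exact IsIso.comp_isIso' i4 inferInstance
  haveI i6 : IsIso (π.app V ≫ jY.app (π ⁻¹ᵁ V)) := by rw [h1]; exact i5
  exact IsIso.of_isIso_comp_right (π.app V) (jY.app (π ⁻¹ᵁ V))

variable {X Y : Over (Spec (CommRingCat.of R))} (π : Y ⟶ X)

theorem phi_app (V : X.left.Opens) (r : R) :
    π.left.app V (phi X.hom V r) = phi Y.hom (π.left ⁻¹ᵁ V) r := by
  rw [phi_apply, phi_apply, app_res π.left le_top]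
  congr 1
  have h : π.left ≫ X.hom = Y.hom := Over.w π
  rw [← h, Scheme.Hom.comp_appTop]
  rfl

section Generic

variable (hgen : IsIso ((Over.pullback
  (Spec.map (CommRingCat.ofHom (algebraMap R (FractionRing R))))).map π))

theorem mem_range_fst_iff (Z : Over (Spec (CommRingCat.of R))) {t : R} (ht : Irreducible t)
    (z : Z.left) :
    z ∈ Set.range (pullback.fst Z.hom
      (Spec.map (CommRingCat.ofHom (algebraMap R (FractionRing R))))) ↔
      z ∈ Z.left.basicOpen (gOf Z.hom t) := by
  rw [Scheme.Pullback.range_fst, range_genPt, ← coe_basicOpen_gOf Z.hom ht]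
  rfl

include hgen in
theorem isIso_app_of_le {t : R} (ht : Irreducible t) (V : X.left.Opens)
    (hV : V ≤ X.left.basicOpen (gOf X.hom t)) : IsIso (π.left.app V) := by
  haveI : IsOpenImmersion (Spec.map (CommRingCat.ofHom (algebraMap R (FractionRing R)))) :=
    isOpenImmersion_genPt R
  let j := Spec.map (CommRingCat.ofHom (algebraMap R (FractionRing R)))
  let jX := pullback.fst X.hom j
  let jY := pullback.fst Y.hom j
  let πK := ((Over.pullback j).map π).left
  haveI : IsIso πK := (Over.forget _).map_isIso ((Over.pullback j).map π)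
  have hcomm : πK ≫ jX = jY ≫ π.left := by
    change pullback.lift _ _ _ ≫ pullback.fst X.hom j = _
    exact pullback.lift_fst _ _ _
  have hVX : V ≤ jX.opensRange := fun x hx =>
    (mem_range_fst_iff X ht x).mpr (hV hx)
  have hVY : π.left ⁻¹ᵁ V ≤ jY.opensRange := by
    intro y hy
    refine (mem_range_fst_iff Y ht y).mpr ?_
    have h1 : π.left y ∈ X.left.basicOpen (gOf X.hom t) := hV hy
    have h2 : X.hom (π.left y) = genPt R := by
      have : π.left y ∈ (X.left.basicOpen (gOf X.hom t) : Set X.left) := h1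
      rw [coe_basicOpen_gOf X.hom ht] at this
      exact this
    have h3 : Y.hom y = genPt R := by
      have h : π.left ≫ X.hom = Y.hom := Over.w π
      rw [← h, Scheme.Hom.comp_apply]
      exact h2
    have : y ∈ (Y.left.basicOpen (gOf Y.hom t) : Set Y.left) := by
      rw [coe_basicOpen_gOf Y.hom ht]
      exact h3
    exact this
  exact isIso_app_of_comm π.left πK jX jY hcomm V hVX hVY

theorem dense_basicOpen_gOf [Flat X.hom] {t : R} (ht : t ≠ 0) :
    Dense (X.left.basicOpen (gOf X.hom t) : Set X.left) := by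
  rw [dense_iff_inter_open]
  intro O hO ⟨x, hx⟩
  obtain ⟨V, hV, hxV, hVO⟩ := Opens.isBasis_iff_nbhd.mp X.left.isBasis_affineOpens
    (show x ∈ (⟨O, hO⟩ : X.left.Opens) from hx)
  by_contra hne
  have h1 : X.left.basicOpen (phi X.hom V t) = ⊥ := by
    rw [← map_gOf, Scheme.basicOpen_res]
    ext y
    simp only [Opens.coe_inf, Set.mem_inter_iff, SetLike.mem_coe, Opens.coe_bot,
      Set.mem_empty_iff_false, iff_false, not_and]
    intro hyV hy
    exact hne ⟨y, hVO hyV, hy⟩
  have h2 : IsNilpotent (phi X.hom V t) :=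
    (Scheme.isNilpotent_iff_basicOpen_eq_bot_of_isCompact hV.isCompact _).mpr h1
  obtain ⟨n, hn⟩ := h2
  have h3 : phi X.hom V t ^ n ∈ nonZeroDivisors Γ(X.left, V) :=
    pow_mem (phi_mem_nonZeroDivisors X.hom hV ht) n
  rw [hn] at h3
  have h4 : (1 : Γ(X.left, V)) = 0 := by
    have := (mem_nonZeroDivisors_iff_left.mp h3) 1 (zero_mul 1)
    exact this
  have h5 : V = ⊥ := by
    rw [← X.left.basicOpen_of_isUnit (isUnit_one (M := Γ(X.left, V))), h4, Scheme.basicOpen_zero]
  rw [h5] at hxV
  exact hxV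

include hgen in
theorem surjective_left [Flat X.hom] [IsProper π.left] : Function.Surjective π.left := by
  obtain ⟨t, ht⟩ := IsDiscreteValuationRing.exists_irreducible R
  have hcl : IsClosed (Set.range π.left) := π.left.isClosedMap.isClosed_range
  have hsub : (X.left.basicOpen (gOf X.hom t) : Set X.left) ⊆ Set.range π.left := by
    intro x hx
    have hx' := (mem_range_fst_iff X ht x).mpr hx
    obtain ⟨x', rfl⟩ := hx'
    haveI : IsIso ((Over.pullback (Spec.map (CommRingCat.ofHom
        (algebraMap R (FractionRing R))))).map π).left :=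
      (Over.forget _).map_isIso ((Over.pullback (Spec.map (CommRingCat.ofHom
        (algebraMap R (FractionRing R))))).map π)
    have hcomm : ((Over.pullback (Spec.map (CommRingCat.ofHom
        (algebraMap R (FractionRing R))))).map π).left ≫ pullback.fst X.hom _ =
        pullback.fst Y.hom _ ≫ π.left := by
      change pullback.lift _ _ _ ≫ pullback.fst X.hom _ = _
      exact pullback.lift_fst _ _ _
    obtain ⟨y', rfl⟩ := (ConcreteCategory.bijective_of_isIso ((Over.pullback (Spec.map
      (CommRingCat.ofHom (algebraMap R (FractionRing R))))).map π).left.base).2 x'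
    refine ⟨pullback.fst Y.hom _ y', ?_⟩
    rw [← Scheme.Hom.comp_apply, ← hcomm, Scheme.Hom.comp_apply]
  intro x
  exact (hcl.closure_subset_iff.mpr hsub) (dense_basicOpen_gOf ht.ne_zero x)

include hgen in
theorem bijective_app_of_isAffineOpen [Flat X.hom] [Flat Y.hom] [IsProper π.left]
    [IsReduced (X.hom.fiber (IsLocalRing.closedPoint R))] {V : X.left.Opens}
    (hV : IsAffineOpen V) : Function.Bijective (π.left.app V).hom := by
  obtain ⟨t, ht⟩ := IsDiscreteValuationRing.exists_irreducible R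
  have ht0 := ht.ne_zero
  have htB : (π.left.app V).hom (phi X.hom V t) = phi Y.hom (π.left ⁻¹ᵁ V) t := phi_app π V t
  have hnzB : (π.left.app V).hom (phi X.hom V t) ∈ nonZeroDivisors Γ(Y.left, π.left ⁻¹ᵁ V) := by
    rw [htB]
    exact phi_mem_nonZeroDivisors' Y.hom ht0 _
  have hnzA : phi X.hom V t ∈ nonZeroDivisors Γ(X.left, V) := phi_mem_nonZeroDivisors X.hom hV ht0
  have hcpt : IsCompact (π.left ⁻¹ᵁ V : Set Y.left) :=
    QuasiCompact.isCompact_preimage (f := π.left) _ V.2 hV.isCompact
  have hV' : X.left.basicOpen (phi X.hom V t) ≤ X.left.basicOpen (gOf X.hom t) := by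
    rw [← map_gOf, Scheme.basicOpen_res]
    exact inf_le_right
  haveI := isIso_app_of_le π hgen ht _ hV'
  have hbij' := ConcreteCategory.bijective_of_isIso
    (π.left.app (X.left.basicOpen (phi X.hom V t)))
  have hE : π.left ⁻¹ᵁ X.left.basicOpen (phi X.hom V t) =
      Y.left.basicOpen ((π.left.app V).hom (phi X.hom V t)) :=
    Scheme.preimage_basicOpen π.left (phi X.hom V t)
  have hDV : X.left.basicOpen (phi X.hom V t) ≤ V := X.left.basicOpen_le _
  refine bijective_of_core (π.left.app V).hom (phi X.hom V t) hnzB ?_ ?_ ?_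
  · -- every section of `Y` is `t^{-n}` times a section of `X`
    intro b
    obtain ⟨a', ha'⟩ := hbij'.2 (Y.left.presheaf.map (homOfLE (π.left.preimage_mono hDV)).op b)
    haveI := hV.isLocalization_basicOpen (phi X.hom V t)
    obtain ⟨⟨a, ⟨_, m, rfl⟩⟩, ham⟩ := IsLocalization.surj (Submonoid.powers (phi X.hom V t)) a'
    replace ham : a' * X.left.presheaf.map (homOfLE hDV).op (phi X.hom V t ^ m) =
      X.left.presheaf.map (homOfLE hDV).op a := ham
    refine ⟨m, a, ?_⟩
    set c := (π.left.app V).hom a - (π.left.app V).hom (phi X.hom V t) ^ m * b with hc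
    have hcE : Y.left.presheaf.map (homOfLE (π.left.preimage_mono hDV)).op c = 0 := by
      rw [hc, map_sub, map_mul, ← map_pow, ← app_res π.left hDV, ← app_res π.left hDV, ← ha',
        ← ham, map_mul, mul_comm, sub_self]
    have hcE' : c |_ (Y.left.basicOpen ((π.left.app V).hom (phi X.hom V t))) = 0 := by
      change Y.left.presheaf.map (homOfLE (Y.left.basicOpen_le _)).op c = 0
      have h1 : Y.left.presheaf.map (homOfLE (Y.left.basicOpen_le _)).op c =
          Y.left.presheaf.map (homOfLE hE.ge).op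
            (Y.left.presheaf.map (homOfLE (π.left.preimage_mono hDV)).op c) := by
        change _ = (Y.left.presheaf.map _ ≫ Y.left.presheaf.map _) c
        rw [← Functor.map_comp]
        rfl
      rw [h1, hcE, map_zero]
    obtain ⟨n, hn⟩ := exists_pow_mul_eq_zero_of_res_basicOpen_eq_zero_of_isCompact Y.left hcpt c
      ((π.left.app V).hom (phi X.hom V t)) hcE'
    have hc0 : c = 0 :=
      (mul_right_mem_nonZeroDivisors_eq_zero_iff (pow_mem hnzB n)).mp (by rw [mul_comm]; exact hn)
    exact sub_eq_zero.mp hc0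
  · -- injectivity
    intro a ha
    have h1 : X.left.presheaf.map (homOfLE hDV).op a = 0 := by
      apply hbij'.1
      rw [app_res π.left hDV]
      change Y.left.presheaf.map _ ((π.left.app V).hom a) = _
      rw [ha, map_zero, map_zero]
    obtain ⟨n, hn⟩ := exists_pow_mul_eq_zero_of_res_basicOpen_eq_zero_of_isCompact X.left
      hV.isCompact a (phi X.hom V t) h1
    exact (mul_right_mem_nonZeroDivisors_eq_zero_iff (pow_mem hnzA n)).mp
      (by rw [mul_comm]; exact hn)
  · -- divisibility by `t` descends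
    rintro a ⟨b', hb'⟩
    have hsurj := surjective_left π hgen
    have hle : X.left.basicOpen a ≤ X.left.basicOpen (phi X.hom V t) := by
      intro x hx
      obtain ⟨y, rfl⟩ := hsurj x
      have h1 : y ∈ π.left ⁻¹ᵁ X.left.basicOpen a := hx
      rw [Scheme.preimage_basicOpen] at h1
      have h1' : y ∈ Y.left.basicOpen ((π.left.app V).hom a) := h1
      rw [hb', Scheme.basicOpen_mul] at h1'
      have h2 : y ∈ π.left ⁻¹ᵁ X.left.basicOpen (phi X.hom V t) := by
        rw [hE]
        exact h1'.1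
      exact h2
    have hrad : a ∈ (Ideal.span {phi X.hom V t}).radical := by
      rw [← PrimeSpectrum.basicOpen_le_basicOpen_iff, ← hV.fromSpec_preimage_basicOpen,
        ← hV.fromSpec_preimage_basicOpen]
      exact hV.fromSpec.preimage_mono hle
    obtain ⟨n, hn⟩ := hrad
    haveI : (IsLocalRing.closedPoint R).asIdeal.IsMaximal := IsLocalRing.maximalIdeal.isMaximal R
    haveI : _root_.IsReduced (Γ(X.left, V) ⧸ Ideal.span {phi X.hom V t}) :=
      isReduced_quotient_of_isReduced_fiber X.hom (IsLocalRing.closedPoint R) t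
        ht.maximalIdeal_eq hV
    have h3 : Ideal.Quotient.mk (Ideal.span {phi X.hom V t}) a = 0 := by
      apply IsReduced.eq_zero
      refine ⟨n, ?_⟩
      rw [← map_pow, Ideal.Quotient.eq_zero_iff_mem]
      exact hn
    rw [Ideal.Quotient.eq_zero_iff_mem, Ideal.mem_span_singleton'] at h3
    obtain ⟨a', ha'⟩ := h3
    exact ⟨a', by rw [← ha', mul_comm]⟩

/-- Affine opens contained in `V`. -/
def AffLE {X : Scheme.{u}} (V : X.Opens) : Type u := {W : X.Opens // IsAffineOpen W ∧ W ≤ V}

theorem AffLE_cover {X : Scheme.{u}} (V : X.Opens) : V ≤ ⨆ i : AffLE V, i.1 := by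
  intro x hx
  obtain ⟨W, hW, hxW, hWV⟩ := Opens.isBasis_iff_nbhd.mp X.isBasis_affineOpens hx
  exact Opens.mem_iSup.mpr ⟨⟨W, hW, hWV⟩, hxW⟩

theorem AffLE_cover_preimage {X Y : Scheme.{u}} (f : Y ⟶ X) (V : X.Opens) :
    f ⁻¹ᵁ V ≤ ⨆ i : AffLE V, f ⁻¹ᵁ i.1 := by
  intro y hy
  obtain ⟨W, hW, hxW, hWV⟩ := Opens.isBasis_iff_nbhd.mp X.isBasis_affineOpens
    (show f y ∈ V from hy)
  exact Opens.mem_iSup.mpr ⟨⟨W, hW, hWV⟩, hxW⟩

/-- If `f.app W` is bijective for all affine opens `W`, then `f.app V` is bijective for all `V`. -/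
theorem bijective_app_of_affine {X Y : Scheme.{u}} (f : Y ⟶ X)
    (h : ∀ W : X.Opens, IsAffineOpen W → Function.Bijective (f.app W).hom) (V : X.Opens) :
    Function.Bijective (f.app V).hom := by
  constructor
  · rw [injective_iff_map_eq_zero]
    intro a ha
    refine X.sheaf.eq_of_locally_eq' (fun i : AffLE V => i.1) V (fun i => homOfLE i.2.2)
      (AffLE_cover V) a 0 ?_
    rintro ⟨W, hW, hWV⟩
    change X.presheaf.map (homOfLE hWV).op a = X.presheaf.map (homOfLE hWV).op 0
    rw [map_zero]
    apply (h W hW).1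
    change (f.app W) _ = (f.app W) 0
    rw [app_res f hWV, map_zero]
    change Y.presheaf.map _ ((f.app V).hom a) = 0
    rw [ha, map_zero]
  · intro b
    have hex : ∀ i : AffLE V, ∃ a : Γ(X, i.1), (f.app i.1).hom a =
        Y.presheaf.map (homOfLE (f.preimage_mono i.2.2)).op b := fun i => (h i.1 i.2.1).2 _
    choose aU haU using hex
    have hle : ∀ (i j : AffLE V) (hji : j.1 ≤ i.1),
        X.presheaf.map (homOfLE hji).op (aU i) = aU j := by
      intro i j hji
      apply (h j.1 j.2.1).1
      change (f.app j.1) _ = _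
      rw [app_res f hji]
      change Y.presheaf.map _ ((f.app i.1).hom (aU i)) = _
      rw [haU i, haU j]
      change (Y.presheaf.map _ ≫ Y.presheaf.map _) b = _
      rw [← Functor.map_comp]
      rfl
    have hcompat : TopCat.Presheaf.IsCompatible X.sheaf.1 (fun i : AffLE V => i.1) aU := by
      intro i j
      refine X.sheaf.eq_of_locally_eq' (fun k : AffLE (i.1 ⊓ j.1) => k.1) _
        (fun k => homOfLE k.2.2) (AffLE_cover _) _ _ ?_
      rintro ⟨W, hW, hWij⟩
      change (X.presheaf.map _ ≫ X.presheaf.map _) (aU i) =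
        (X.presheaf.map _ ≫ X.presheaf.map _) (aU j)
      rw [← Functor.map_comp, ← Functor.map_comp]
      have hWV : W ≤ V := hWij.trans (inf_le_left.trans i.2.2)
      exact (hle i ⟨W, hW, hWV⟩ (hWij.trans inf_le_left)).trans
        (hle j ⟨W, hW, hWV⟩ (hWij.trans inf_le_right)).symm
    obtain ⟨a, ha, -⟩ : ∃! s : Γ(X, V), ∀ i : AffLE V,
        X.presheaf.map (homOfLE i.2.2).op s = aU i :=
      X.sheaf.existsUnique_gluing' (fun i : AffLE V => i.1) V
        (fun i => homOfLE i.2.2) (AffLE_cover V) aU hcompat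
    refine ⟨a, ?_⟩
    refine Y.sheaf.eq_of_locally_eq' (fun i : AffLE V => f ⁻¹ᵁ i.1) (f ⁻¹ᵁ V)
      (fun i => homOfLE (f.preimage_mono i.2.2)) (AffLE_cover_preimage f V) _ _ ?_
    intro i
    change Y.presheaf.map (homOfLE (f.preimage_mono i.2.2)).op ((f.app V) a) =
      Y.presheaf.map (homOfLE (f.preimage_mono i.2.2)).op b
    rw [← app_res f i.2.2, ha i]
    exact haU i

include hgen in
theorem isIso_app [Flat X.hom] [Flat Y.hom] [IsProper π.left]
    [IsReduced (X.hom.fiber (IsLocalRing.closedPoint R))] (V : X.left.Opens) :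
    IsIso (π.left.app V) := by
  rw [ConcreteCategory.isIso_iff_bijective]
  exact bijective_app_of_affine π.left
    (fun W hW => bijective_app_of_isAffineOpen π hgen hW) V

end Generic

end Sch

end Groth.Agent.Lib.Seat62.DVRProper
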