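import Mathlib

/-!
# Algebraic independence lifts from the closed fibre of a flat algebra (helper62)

`A` local, `B` flat over `A`, `t : ι → B` whose images in `B / 𝔪_A B` are algebraically
independent over `A / 𝔪_A`.  Then `t` is algebraically independent over `A`.
(`IsLocalRing.linearIndependent_of_flat` applied to the monomials.)
-/

universe u

namespace Groth.Agent.Lib.Seat62.FlatAlgIndep

open IsLocalRing TensorProduct

section monomials

variable {R S : Type*} [CommRing R] [CommRing S] [Algebra R S] {ι : Type*} (t : ι → S)

/-- the monomial `t ^ α`. -/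
noncomputable def mon (α : ι →₀ ℕ) : S := α.prod fun i k => t i ^ k

theorem aeval_monomial_one (α : ι →₀ ℕ) :
    MvPolynomial.aeval t (MvPolynomial.monomial α (1 : R)) = mon t α := by
  rw [MvPolynomial.aeval_monomial, map_one, one_mul]
  rfl

theorem algebraicIndependent_iff_linearIndependent_mon :
    AlgebraicIndependent R t ↔ LinearIndependent R (mon t) := by
  have hcomp : (MvPolynomial.aeval t : MvPolynomial ι R →ₐ[R] S).toLinearMap ∘
      (MvPolynomial.basisMonomials ι R) = mon t := by
    ext α
    simp only [Function.comp_apply, MvPolynomial.coe_basisMonomials, AlgHom.toLinearMap_apply]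
    exact aeval_monomial_one t α
  constructor
  · intro h
    rw [← hcomp]
    exact (MvPolynomial.basisMonomials ι R).linearIndependent.map'
      (MvPolynomial.aeval t : MvPolynomial ι R →ₐ[R] S).toLinearMap
      (LinearMap.ker_eq_bot.mpr h)
  · intro h
    have h2 : (MvPolynomial.aeval t : MvPolynomial ι R →ₐ[R] S).toLinearMap =
        (Finsupp.linearCombination R (mon t)) ∘ₗ
          (MvPolynomial.basisMonomials ι R).repr.toLinearMap := by
      apply (MvPolynomial.basisMonomials ι R).ext
      intro α
      simp only [MvPolynomial.coe_basisMonomials, AlgHom.toLinearMap_apply, LinearMap.coe_comp,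
        LinearEquiv.coe_coe, Function.comp_apply]
      rw [aeval_monomial_one]
      have h5 : MvPolynomial.monomial α (1 : R) = MvPolynomial.basisMonomials ι R α := by
        rw [MvPolynomial.coe_basisMonomials]
      rw [h5, Module.Basis.repr_self, Finsupp.linearCombination_single, one_smul]
    show Function.Injective (MvPolynomial.aeval t : MvPolynomial ι R →ₐ[R] S)
    have h4 : Function.Injective (Finsupp.linearCombination R (mon t)) := h
    have h3 : Function.Injective ((Finsupp.linearCombination R (mon t)) ∘ₗ
          (MvPolynomial.basisMonomials ι R).repr.toLinearMap) := by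
      rw [LinearMap.coe_comp]
      exact h4.comp (MvPolynomial.basisMonomials ι R).repr.injective
    rw [← h2] at h3
    exact h3

end monomials

variable {A B : Type u} [CommRing A] [CommRing B] [IsLocalRing A] [Algebra A B]
  [Module.Flat A B]

theorem algebraicIndependent_of_flat {ι : Type u} (t : ι → B)
    (h : AlgebraicIndependent (A ⧸ maximalIdeal A)
      (fun i => Ideal.Quotient.mk ((maximalIdeal A).map (algebraMap A B)) (t i))) :
    AlgebraicIndependent A t := by
  rw [algebraicIndependent_iff_linearIndependent_mon] at h ⊢
  apply Module.IsLocalRing.linearIndependent_of_flat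
  change LinearIndependent (A ⧸ maximalIdeal A)
    (⇑(TensorProduct.mk A (A ⧸ maximalIdeal A) B 1) ∘ mon t)
  let e := Algebra.TensorProduct.quotIdealMapEquivQuotTensor B (maximalIdeal A)
  have h1 := h.map' e.toLinearMap (LinearMap.ker_eq_bot.mpr e.injective)
  have h3 : (⇑(TensorProduct.mk A (A ⧸ maximalIdeal A) B 1) ∘ mon t) = (⇑e.toLinearMap ∘
      mon fun i => (Ideal.Quotient.mk (Ideal.map (algebraMap A B) (maximalIdeal A))) (t i)) := by
    funext α
    simp only [Function.comp_apply, TensorProduct.mk_apply, AlgEquiv.toLinearMap_apply]
    have h2 : mon (fun i => Ideal.Quotient.mk ((maximalIdeal A).map (algebraMap A B)) (t i)) α =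
        Ideal.Quotient.mk ((maximalIdeal A).map (algebraMap A B)) (mon t α) := by
      unfold mon
      rw [map_finsuppProd]
      simp only [map_pow]
    rw [h2]
    rfl
  rw [h3]
  exact h1

end Groth.Agent.Lib.Seat62.FlatAlgIndep
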