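import Mathlib

/-!
# Going down through the normalisation of a polynomial ring (helper62)

* `isIntegrallyClosed_mvPolynomial`: polynomial rings in finitely many variables over an
  integrally closed domain are integrally closed.
* `ringKrullDim_quotient_sup_span_succ_le`: cutting by an element avoiding the minimal primes
  drops the dimension.
* `injective_of_integral_fractions`: the going-down step of the proof that `A → B/gB` is
  injective for a horizontal element `g`.
-/

universe u

namespace Groth.Agent.Lib.Seat62.HorizGD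

open IsLocalRing

section IC

variable (R : Type*) [CommRing R] [IsDomain R] [IsIntegrallyClosed R]

theorem isIntegrallyClosed_mvPolynomial_fin :
    ∀ n : ℕ, IsIntegrallyClosed (MvPolynomial (Fin n) R)
  | 0 => IsIntegrallyClosed.of_equiv (MvPolynomial.isEmptyAlgEquiv R (Fin 0)).symm.toRingEquiv
  | n + 1 => by
    have := isIntegrallyClosed_mvPolynomial_fin n
    exact IsIntegrallyClosed.of_equiv (MvPolynomial.finSuccEquiv R n).symm.toRingEquiv

theorem isIntegrallyClosed_mvPolynomial (σ : Type*) [Finite σ] :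
    IsIntegrallyClosed (MvPolynomial σ R) := by
  obtain ⟨n, ⟨e⟩⟩ := Finite.exists_equiv_fin σ
  have := isIntegrallyClosed_mvPolynomial_fin R n
  exact IsIntegrallyClosed.of_equiv (MvPolynomial.renameEquiv R e).symm.toRingEquiv

end IC

section dim

variable {R : Type*} [CommRing R]

theorem ringKrullDim_quotient_sup_span_succ_le (I : Ideal R) (r : R)
    (hr : ∀ p ∈ I.minimalPrimes, r ∉ p) :
    ringKrullDim (R ⧸ (I ⊔ Ideal.span {r})) + 1 ≤ ringKrullDim (R ⧸ I) := by
  by_cases hr' : I ⊔ Ideal.span {r} = ⊤
  · have : Subsingleton (R ⧸ (I ⊔ Ideal.span {r})) := by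
      rw [hr']; exact Ideal.Quotient.subsingleton_iff.mpr rfl
    rw [ringKrullDim_eq_bot_of_subsingleton]
    simp
  have hne : Nonempty (PrimeSpectrum.zeroLocus (R := R) (I ⊔ Ideal.span {r} : Ideal R)) := by
    rwa [Set.nonempty_coe_sort, Set.nonempty_iff_ne_empty, ne_eq,
      PrimeSpectrum.zeroLocus_empty_iff_eq_top]
  have hsub : PrimeSpectrum.zeroLocus (R := R) (I ⊔ Ideal.span {r} : Ideal R) ⊆
      PrimeSpectrum.zeroLocus (R := R) (I : Set R) :=
    PrimeSpectrum.zeroLocus_anti_mono_ideal le_sup_left
  have hne' : Nonempty (PrimeSpectrum.zeroLocus (R := R) (I : Set R)) :=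
    ⟨⟨hne.some.1, hsub hne.some.2⟩⟩
  rw [ringKrullDim_quotient, ringKrullDim_quotient, Order.krullDim_eq_iSup_length,
    Order.krullDim_eq_iSup_length, ← WithBot.coe_one, ← WithBot.coe_add,
    ENat.iSup_add, WithBot.coe_le_coe, iSup_le_iff]
  intro l
  have hIle : I ≤ l.head.1.asIdeal := fun x hx => l.head.2 (Ideal.mem_sup_left hx)
  have hrmem : r ∈ l.head.1.asIdeal :=
    l.head.2 (Ideal.mem_sup_right (Ideal.mem_span_singleton_self r))
  obtain ⟨p, hp, hp'⟩ := Ideal.exists_minimalPrimes_le hIle
  let p' : PrimeSpectrum.zeroLocus (R := R) (I : Set R) := ⟨⟨p, hp.1.1⟩, hp.1.2⟩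
  let l' : LTSeries (PrimeSpectrum.zeroLocus (R := R) (I : Set R)) :=
    l.map (fun x => ⟨x.1, hsub x.2⟩) (fun _ _ h => h)
  have hlt : p' < l'.head := by
    refine lt_of_le_of_ne hp' fun h => hr p hp ?_
    have : p = l.head.1.asIdeal := congrArg (fun x => x.1.asIdeal) h
    rw [this]
    exact hrmem
  refine le_trans ?_ (le_iSup _ (l'.cons p' hlt))
  simp only [RelSeries.cons_length, Nat.cast_add, Nat.cast_one]
  exact le_rfl

end dim

section GD

variable {A B W : Type u} [CommRing A] [CommRing B] [CommRing W] [IsDomain W]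
  [IsLocalRing B] [IsLocalRing W] [IsIntegrallyClosed W]
  [Algebra A B] [Algebra B W] [Algebra A W] [IsScalarTower A B W] [IsLocalHom (algebraMap B W)]

theorem gd_core {Rt St W : Type*} [CommRing Rt] [CommRing St] [CommRing W] [IsDomain St]
    [IsIntegrallyClosed Rt] [Algebra Rt St] [FaithfulSMul Rt St] [Algebra.IsIntegral Rt St]
    [IsLocalRing W] [Algebra St W] (ϖ : Rt) (hϖ : (Ideal.span {ϖ}).IsPrime)
    (hϖW : algebraMap St W (algebraMap Rt St ϖ) ∈ maximalIdeal W) :
    ∃ N : Ideal St, N.IsPrime ∧ N ≤ (maximalIdeal W).comap (algebraMap St W) ∧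
      N.under Rt = Ideal.span {ϖ} := by
  let M : Ideal St := (maximalIdeal W).comap (algebraMap St W)
  have : M.IsPrime := Ideal.comap_isPrime _ _
  have hP1le : Ideal.span {ϖ} ≤ M.under Rt := by
    rw [Ideal.span_le, Set.singleton_subset_iff]
    exact hϖW
  obtain ⟨N, hNM, hNp, hNo⟩ :=
    Ideal.exists_ideal_le_liesOver_of_le (p := Ideal.span {ϖ}) (q := M.under Rt) M hP1le
  exact ⟨N, hNp, hNM, hNo.over.symm⟩

theorem injective_of_integral_fractions_aux
    (hAW : Function.Injective (algebraMap A W))
    {ι : Type u} [Finite ι] (t : ι → B)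
    (ht : AlgebraicIndependent A (fun i => algebraMap B W (t i))) (i₀ : ι)
    (hg : t i₀ ∈ maximalIdeal B)
    (hfrac : ∀ b : B, ∃ x y : B,
      (MvPolynomial.aeval t : MvPolynomial ι A →ₐ[A] B).toRingHom.IsIntegralElem x ∧
      (MvPolynomial.aeval t : MvPolynomial ι A →ₐ[A] B).toRingHom.IsIntegralElem y ∧
      IsUnit y ∧ b * y = x) :
    Function.Injective (algebraMap A (B ⧸ Ideal.span {t i₀})) := by
  classical
  -- normalisation of `A` in `W`
  let At : Subalgebra A W := integralClosure A W
  have hAtic : IsIntegrallyClosed At :=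
    IsIntegrallyClosed.of_isIntegrallyClosed_of_isIntegrallyClosedIn At W
  let tt : ι → W := fun i => algebraMap B W (t i)
  have htt : AlgebraicIndependent At tt := ht.integralClosure
  have hRtic : IsIntegrallyClosed (MvPolynomial ι At) := isIntegrallyClosed_mvPolynomial At ι
  let algRt : Algebra (MvPolynomial ι At) W :=
    (MvPolynomial.aeval tt : MvPolynomial ι At →ₐ[At] W).toRingHom.toAlgebra
  have halg : ∀ p : MvPolynomial ι At,
      algebraMap (MvPolynomial ι At) W p = MvPolynomial.aeval tt p := fun _ => rfl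
  have hinj : Function.Injective (algebraMap (MvPolynomial ι At) W) := htt
  have : FaithfulSMul (MvPolynomial ι At) W :=
    (faithfulSMul_iff_algebraMap_injective _ _).mpr hinj
  let St : Subalgebra (MvPolynomial ι At) W := integralClosure (MvPolynomial ι At) W
  have : FaithfulSMul (MvPolynomial ι At) St := by
    rw [faithfulSMul_iff_algebraMap_injective]
    intro a b hab
    exact hinj (congrArg Subtype.val hab)
  -- going down
  have hP1 : (Ideal.span {(MvPolynomial.X i₀ : MvPolynomial ι At)}).IsPrime :=
    (Ideal.span_singleton_prime (MvPolynomial.X_ne_zero i₀)).mpr MvPolynomial.X_prime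
  have hgW : algebraMap B W (t i₀) ∈ maximalIdeal W := by
    rw [mem_maximalIdeal, mem_nonunits_iff] at hg ⊢
    exact fun h => hg (isUnit_of_map_unit (algebraMap B W) _ h)
  have hP1W : algebraMap St W (algebraMap (MvPolynomial ι At) St (MvPolynomial.X i₀)) ∈
      maximalIdeal W := by
    show algebraMap (MvPolynomial ι At) W (MvPolynomial.X i₀) ∈ maximalIdeal W
    rw [halg, MvPolynomial.aeval_X]
    exact hgW
  obtain ⟨N, hNp, hNM, hNo⟩ := gd_core (Rt := MvPolynomial ι At) (St := St) (W := W)
    (MvPolynomial.X i₀) hP1 hP1W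
  -- the computation
  rw [injective_iff_map_eq_zero]
  intro a ha
  have ha' : algebraMap A B a ∈ Ideal.span {t i₀} := by
    rw [IsScalarTower.algebraMap_apply A B (B ⧸ Ideal.span {t i₀})] at ha
    exact Ideal.Quotient.eq_zero_iff_mem.mp ha
  obtain ⟨b, hb⟩ := Ideal.mem_span_singleton'.mp ha'
  obtain ⟨x, y, hx, hy, hyu, hbxy⟩ := hfrac b
  have hcomp : (algebraMap B W).comp (MvPolynomial.aeval t : MvPolynomial ι A →ₐ[A] B).toRingHom =
      (algebraMap (MvPolynomial ι At) W).comp (MvPolynomial.map (algebraMap A At)) := by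
    apply MvPolynomial.ringHom_ext
    · intro r
      simp only [AlgHom.toRingHom_eq_coe, RingHom.coe_comp, RingHom.coe_coe, Function.comp_apply,
        MvPolynomial.aeval_C, MvPolynomial.map_C, halg]
      rw [← IsScalarTower.algebraMap_apply, ← IsScalarTower.algebraMap_apply]
    · intro i
      simp only [AlgHom.toRingHom_eq_coe, RingHom.coe_comp, RingHom.coe_coe, Function.comp_apply,
        MvPolynomial.aeval_X, MvPolynomial.map_X, halg, tt]
  have hint : ∀ z : B, (MvPolynomial.aeval t : MvPolynomial ι A →ₐ[A] B).toRingHom.IsIntegralElem z →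
      IsIntegral (MvPolynomial ι At) (algebraMap B W z) := by
    intro z hz
    have h1 : ((algebraMap B W).comp
        (MvPolynomial.aeval t : MvPolynomial ι A →ₐ[A] B).toRingHom).IsIntegralElem
        (algebraMap B W z) := by
      obtain ⟨p, hp, hpz⟩ := hz
      exact ⟨p, hp, by rw [← Polynomial.hom_eval₂, hpz, map_zero]⟩
    rw [hcomp] at h1
    exact RingHom.IsIntegralElem.of_comp h1
  let xt : St := ⟨algebraMap B W x, hint x hx⟩
  let yt : St := ⟨algebraMap B W y, hint y hy⟩
  have hkey : algebraMap (MvPolynomial ι At) St (MvPolynomial.C (algebraMap A At a)) * yt =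
      algebraMap (MvPolynomial ι At) St (MvPolynomial.X i₀) * xt := by
    apply Subtype.ext
    show algebraMap (MvPolynomial ι At) W (MvPolynomial.C (algebraMap A At a)) * algebraMap B W y =
      algebraMap (MvPolynomial ι At) W (MvPolynomial.X i₀) * algebraMap B W x
    rw [halg, halg, MvPolynomial.aeval_C, MvPolynomial.aeval_X, ← IsScalarTower.algebraMap_apply,
      IsScalarTower.algebraMap_apply A B W, ← hb, ← hbxy]
    simp only [map_mul, tt]
    ring
  have hXN : algebraMap (MvPolynomial ι At) St (MvPolynomial.X i₀) ∈ N := by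
    have : (MvPolynomial.X i₀ : MvPolynomial ι At) ∈ N.under (MvPolynomial ι At) := by
      rw [hNo]
      exact Ideal.mem_span_singleton_self _
    exact this
  have hytN : yt ∉ N := by
    intro h
    have h2 : algebraMap B W y ∈ maximalIdeal W := hNM h
    rw [mem_maximalIdeal, mem_nonunits_iff] at h2
    exact h2 (hyu.map (algebraMap B W))
  have hCN : algebraMap (MvPolynomial ι At) St (MvPolynomial.C (algebraMap A At a)) ∈ N := by
    have : algebraMap (MvPolynomial ι At) St (MvPolynomial.C (algebraMap A At a)) * yt ∈ N := by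
      rw [hkey]
      exact N.mul_mem_right _ hXN
    exact (hNp.mem_or_mem this).resolve_right hytN
  have hCP : (MvPolynomial.C (algebraMap A At a) : MvPolynomial ι At) ∈
      Ideal.span {(MvPolynomial.X i₀ : MvPolynomial ι At)} := by
    rw [← hNo]
    exact hCN
  obtain ⟨c, hc⟩ := Ideal.mem_span_singleton'.mp hCP
  have h0 : algebraMap A At a = 0 := by
    have := congrArg MvPolynomial.constantCoeff hc
    simpa using this.symm
  have hAt : Function.Injective (algebraMap A At) := by
    intro a b hab
    exact hAW (congrArg Subtype.val hab)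
  exact hAt (by rw [h0, map_zero])

end GD

end Groth.Agent.Lib.Seat62.HorizGD
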