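import Mathlib

/-!
# A local form of Zariski's main theorem (helper62)

Let `B` be a local ring essentially of finite type over `R`, with `B / 𝔭B` zero dimensional
(`𝔭` the contraction of the maximal ideal) and residue field algebraic over the image of `R`.
Then every element of `B` is a fraction `x / y` of elements integral over `R` with `y` a unit
of `B`.  This is `Algebra.ZariskisMainProperty.of_finiteType` transported to the local ring.
-/

universe u v

namespace Groth.Agent.Lib.Seat62.LocalZMT

open IsLocalRing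

section spec

variable {A : Type*} [CommRing A]

/-- a point of the spectrum of a noetherian ring which is both closed and generic is isolated. -/
theorem isOpen_singleton_of_isMax_of_isMin [IsNoetherianRing A] (x : PrimeSpectrum A)
    (h₁ : IsMax x) (h₂ : IsMin x) : IsOpen ({x} : Set (PrimeSpectrum A)) := by
  suffices {x} = (⋃ p ∈ { p : PrimeSpectrum A | IsMin p ∧ p ≠ x }, closure {p})ᶜ by
    rw [this, isOpen_compl_iff]
    refine Set.Finite.isClosed_biUnion ?_ (fun _ _ ↦ isClosed_closure)
    exact (PrimeSpectrum.finite_setOfPred_isMin A).subset fun x h ↦ h.1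
  ext p
  simp only [Set.mem_singleton_iff, ne_eq, Set.mem_ofPred_eq, Set.compl_iUnion, Set.mem_iInter,
    Set.mem_compl_iff, and_imp, ← specializes_iff_mem_closure, ← PrimeSpectrum.le_iff_specializes,
    not_imp_not]
  constructor
  · rintro rfl _ h3 h4
    exact h₂.eq_of_le h4
  · intro hp
    apply h₁.eq_of_ge
    obtain ⟨q, hq, hq'⟩ := Ideal.exists_minimalPrimes_le (J := p.asIdeal) bot_le
    exact (hp ⟨q, hq.1.1⟩ (PrimeSpectrum.isMin_iff.mpr hq) hq').ge.trans hq'

end spec

variable {R : Type u} {C : Type v} {B : Type v} [CommRing R] [CommRing C] [CommRing B]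
  [IsLocalRing B] [Algebra R C] [Algebra C B] [Algebra R B] [IsScalarTower R C B]

/-- no proper generization of `Q` inside its fibre. -/
theorem eq_of_le_of_under_eq (Q : Ideal C) [Q.IsPrime] [IsLocalization.AtPrime B Q]
    (hQ : Q = (maximalIdeal B).comap (algebraMap C B))
    (h1 : ∀ 𝔮 : Ideal B, 𝔮.IsPrime →
      ((maximalIdeal B).comap (algebraMap R B)).map (algebraMap R B) ≤ 𝔮 → 𝔮 = maximalIdeal B)
    (q' : Ideal C) [q'.IsPrime] (hle : q' ≤ Q) (hunder : q'.under R = Q.under R) : q' = Q := by
  have hp : (q'.map (algebraMap C B)).IsPrime := Ideal.isPrime_map_of_isLocalizationAtPrime Q hle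
  have hu : (q'.map (algebraMap C B)).under C = q' := Ideal.under_map_of_isLocalizationAtPrime Q hle
  have hm : q'.map (algebraMap C B) = maximalIdeal B := by
    apply h1 _ hp
    rw [Ideal.map_le_iff_le_comap]
    intro r hr
    have hr' : r ∈ Q.under R := by
      rw [hQ]
      simpa [Ideal.under, Ideal.mem_comap, ← IsScalarTower.algebraMap_apply] using hr
    rw [← hunder] at hr'
    rw [Ideal.mem_comap, IsScalarTower.algebraMap_apply R C B]
    exact Ideal.mem_map_of_mem _ hr'
  rw [← hu, hm, hQ]

/-- `Q` is a closed point of its fibre. -/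
theorem eq_of_ge_of_under_eq (Q : Ideal C) [Q.IsPrime]
    (hQ : Q = (maximalIdeal B).comap (algebraMap C B))
    (h2 : ∀ b : B, ∃ f : Polynomial R, (∃ i, algebraMap R B (f.coeff i) ∉ maximalIdeal B) ∧
      Polynomial.aeval b f ∈ maximalIdeal B)
    (q' : Ideal C) [q'.IsPrime] (hle : Q ≤ q') (hunder : q'.under R = Q.under R) : q' = Q := by
  refine le_antisymm ?_ hle
  intro x hx
  have hmemQ : ∀ r : R, algebraMap R C r ∈ Q ↔ algebraMap R B r ∈ maximalIdeal B := by
    intro r
    rw [hQ, Ideal.mem_comap, ← IsScalarTower.algebraMap_apply]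
  have key : ∀ n : ℕ, ∀ f : Polynomial R, f.natDegree ≤ n →
      (∃ i, algebraMap R B (f.coeff i) ∉ maximalIdeal B) → Polynomial.aeval x f ∈ Q → x ∈ Q := by
    intro n
    induction n with
    | zero =>
      intro f hf ⟨i, hi⟩ hfx
      rw [Polynomial.natDegree_le_iff_coeff_eq_zero] at hf
      exfalso
      by_cases hi0 : i = 0
      · subst hi0
        rw [Polynomial.eq_C_of_natDegree_le_zero
          (Polynomial.natDegree_le_iff_coeff_eq_zero.2 hf), Polynomial.aeval_C] at hfx
        exact hi ((hmemQ _).1 hfx)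
      · rw [hf i (by omega)] at hi
        simp at hi
    | succ n ih =>
      intro f hf ⟨i, hi⟩ hfx
      have hdecomp : Polynomial.aeval x f =
          Polynomial.aeval x f.divX * x + algebraMap R C (f.coeff 0) := by
        conv_lhs => rw [← Polynomial.divX_mul_X_add f]
        simp
      by_cases h0 : algebraMap R B (f.coeff 0) ∈ maximalIdeal B
      · have h0' : algebraMap R C (f.coeff 0) ∈ Q := (hmemQ _).2 h0
        have hprod : Polynomial.aeval x f.divX * x ∈ Q := by
          have := Q.sub_mem hfx h0'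
          rwa [hdecomp, add_sub_cancel_right] at this
        rcases (‹Q.IsPrime›).mem_or_mem hprod with h | h
        · have hi0 : i ≠ 0 := by
            rintro rfl
            exact hi h0
          refine ih f.divX ?_ ⟨i - 1, ?_⟩ h
          · rw [Polynomial.natDegree_divX_eq_natDegree_tsub_one]
            omega
          · rw [Polynomial.coeff_divX]
            have : i - 1 + 1 = i := by omega
            rwa [this]
        · exact h
      · exfalso
        have h0' : algebraMap R C (f.coeff 0) ∈ q' := by
          have h1 : Polynomial.aeval x f ∈ q' := hle hfx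
          have h2 : Polynomial.aeval x f.divX * x ∈ q' := q'.mul_mem_left _ hx
          have := q'.sub_mem h1 h2
          rwa [hdecomp, add_sub_cancel_left] at this
        have : f.coeff 0 ∈ q'.under R := h0'
        rw [hunder] at this
        exact h0 ((hmemQ _).1 this)
  obtain ⟨f, hf, hfx⟩ := h2 (algebraMap C B x)
  refine key f.natDegree f le_rfl hf ?_
  rw [hQ, Ideal.mem_comap]
  rwa [Polynomial.aeval_algebraMap_apply] at hfx

section main

variable {R : Type u} {B : Type v} [CommRing R] [CommRing B] [IsLocalRing B] [Algebra R B]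

/-- **Local Zariski main theorem.** -/
theorem exists_integral_fraction [Algebra.EssFiniteType R B]
    (h1 : ∀ 𝔮 : Ideal B, 𝔮.IsPrime →
      ((maximalIdeal B).comap (algebraMap R B)).map (algebraMap R B) ≤ 𝔮 → 𝔮 = maximalIdeal B)
    (h2 : ∀ b : B, ∃ f : Polynomial R, (∃ i, algebraMap R B (f.coeff i) ∉ maximalIdeal B) ∧
      Polynomial.aeval b f ∈ maximalIdeal B) (b : B) :
    ∃ x y : B, IsIntegral R x ∧ IsIntegral R y ∧ IsUnit y ∧ b * y = x := by
  classical
  obtain ⟨σ, hσ⟩ := (Algebra.essFiniteType_iff (R := R) (S := B)).mp ‹Algebra.EssFiniteType R B›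
  let C : Subalgebra R B := Algebra.adjoin R (σ : Set B)
  have hCft : Algebra.FiniteType R C := ⟨by rw [Subalgebra.fg_top]; exact ⟨σ, rfl⟩⟩
  let Q : Ideal C := (maximalIdeal B).comap (algebraMap C B)
  have hQp : Q.IsPrime := Ideal.comap_isPrime _ _
  have hmemQ : ∀ c : C, c ∈ Q ↔ (c : B) ∈ maximalIdeal B := fun c => Iff.rfl
  have hloc : IsLocalization.AtPrime B Q := by
    have h := (Algebra.essFiniteType_cond_iff R B σ).mpr hσ
    have heq : (IsUnit.submonoid B).comap (algebraMap C B) = Q.primeCompl := by
      ext x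
      simp only [Submonoid.mem_comap, IsUnit.mem_submonoid_iff, Ideal.mem_primeCompl_iff, hmemQ,
        mem_maximalIdeal, mem_nonunits_iff, not_not]
      rfl
    rw [heq] at h
    exact h
  -- quasi-finiteness at `Q`
  have hqf : Algebra.QuasiFiniteAt R Q := by
    let q : PrimeSpectrum C := ⟨Q, hQp⟩
    refine Algebra.QuasiFiniteAt.of_isOpen_singleton_fiber q ?_
    let p : PrimeSpectrum R := q.comap (algebraMap R C)
    let e := PrimeSpectrum.preimageHomeomorphFiber R C p
    rw [← e.isOpen_image, Set.image_singleton]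
    have : IsNoetherianRing (p.asIdeal.Fiber C) :=
      Algebra.FiniteType.isNoetherianRing p.asIdeal.ResidueField _
    have hcoe : ∀ y, e y = PrimeSpectrum.preimageOrderIsoFiber R C p y := fun _ => rfl
    apply isOpen_singleton_of_isMax_of_isMin
    · rw [hcoe, OrderIso.isMax_apply]
      intro y hy
      have hy2 : y.1.asIdeal.under R = Q.under R := congrArg PrimeSpectrum.asIdeal y.2
      have := eq_of_ge_of_under_eq (R := R) (B := B) Q rfl h2 y.1.asIdeal hy hy2
      exact this.le
    · rw [hcoe, OrderIso.isMin_apply]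
      intro y hy
      have hy2 : y.1.asIdeal.under R = Q.under R := congrArg PrimeSpectrum.asIdeal y.2
      have := eq_of_le_of_under_eq (R := R) (B := B) Q rfl h1 y.1.asIdeal hy hy2
      exact this.ge
  have hZ := Algebra.ZariskisMainProperty.of_finiteType (R := R) Q
  obtain ⟨r, hrQ, hrint, hr⟩ := Algebra.zariskisMainProperty_iff.mp hZ
  obtain ⟨t, htC, htu, hbt⟩ := hσ b
  obtain ⟨m₁, hm₁⟩ := hr ⟨t, htC⟩
  obtain ⟨m₂, hm₂⟩ := hr ⟨b * t, hbt⟩
  have hru : IsUnit (r : B) := by
    have : (r : B) ∉ maximalIdeal B := fun h => hrQ ((hmemQ r).2 h)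
    simpa [mem_maximalIdeal, mem_nonunits_iff] using this
  refine ⟨((r ^ m₁ * (r ^ m₂ * ⟨b * t, hbt⟩) : C) : B), ((r ^ m₂ * (r ^ m₁ * ⟨t, htC⟩) : C) : B),
    ?_, ?_, ?_, ?_⟩
  · exact ((hrint.pow m₁).mul hm₂).map C.val
  · exact ((hrint.pow m₂).mul hm₁).map C.val
  · simp only [MulMemClass.coe_mul, SubmonoidClass.coe_pow]
    exact (hru.pow _).mul ((hru.pow _).mul htu)
  · simp only [MulMemClass.coe_mul, SubmonoidClass.coe_pow]
    ring

end main

end Groth.Agent.Lib.Seat62.LocalZMT
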