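import Mathlib
import Groth.Agent.Lib.Seat62LocalZMT
import Groth.Agent.Lib.Seat62HorizGD

/-!
# Horizontal elements in essentially finite type local algebras (helper62)

`A → B` an injective local homomorphism of local domains, `B` essentially of finite type,
`g ∈ 𝔪_B` avoiding the minimal primes of `𝔪_A B`, and `dim B/𝔪_A B + trdeg κ(B)/κ(A) = trdeg_A B`.
Then `A → B/gB` is injective.
-/

universe u

namespace Groth.Agent.Lib.Seat62.HorizElt

open IsLocalRing Groth.Agent.Lib.Seat62

variable {A B : Type u} [CommRing A] [CommRing B] [IsDomain A] [IsDomain B] [IsLocalRing A]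
  [IsLocalRing B] [Algebra A B] [IsLocalHom (algebraMap A B)] [FaithfulSMul A B]
  [Algebra.EssFiniteType A B]

omit [IsDomain A] [IsDomain B] [FaithfulSMul A B] in
/-- every element of `B` is a fraction of elements integral over `A[T]`. -/
theorem exists_integral_fraction_of_finset (T : Finset B)
    (hT1 : ∀ 𝔮 : Ideal B, 𝔮.IsPrime → (maximalIdeal A).map (algebraMap A B) ≤ 𝔮 →
        (∀ x ∈ T, x ∈ maximalIdeal B → x ∈ 𝔮) → 𝔮 = maximalIdeal B)
    (hT2 : ∀ z : ResidueField B,
      IsAlgebraic (Algebra.adjoin (ResidueField A) (residue B '' (T : Set B))) z) (b : B) :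
    ∃ x y : B,
      (MvPolynomial.aeval (Subtype.val : ↥T → B) : MvPolynomial ↥T A →ₐ[A] B).toRingHom.IsIntegralElem x ∧
      (MvPolynomial.aeval (Subtype.val : ↥T → B) : MvPolynomial ↥T A →ₐ[A] B).toRingHom.IsIntegralElem y ∧
      IsUnit y ∧ b * y = x := by
  classical
  let t : ↥T → B := Subtype.val
  let φ : MvPolynomial ↥T A →ₐ[A] B := MvPolynomial.aeval t
  let algRB : Algebra (MvPolynomial ↥T A) B := φ.toRingHom.toAlgebra
  have hRB : ∀ r : MvPolynomial ↥T A, algebraMap (MvPolynomial ↥T A) B r = φ r := fun _ => rfl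
  have htower : IsScalarTower A (MvPolynomial ↥T A) B := IsScalarTower.of_algebraMap_eq fun a => by
    rw [hRB, MvPolynomial.algebraMap_eq, MvPolynomial.aeval_C]
  have hess : Algebra.EssFiniteType (MvPolynomial ↥T A) B :=
    Algebra.EssFiniteType.of_comp A (MvPolynomial ↥T A) B
  -- h1
  have h1 : ∀ 𝔮 : Ideal B, 𝔮.IsPrime →
      ((maximalIdeal B).comap (algebraMap (MvPolynomial ↥T A) B)).map
        (algebraMap (MvPolynomial ↥T A) B) ≤ 𝔮 → 𝔮 = maximalIdeal B := by
    intro 𝔮 h𝔮 hle
    apply hT1 𝔮 h𝔮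
    · rw [Ideal.map_le_iff_le_comap]
      intro a ha
      have h3 : (MvPolynomial.C a : MvPolynomial ↥T A) ∈
          (maximalIdeal B).comap (algebraMap (MvPolynomial ↥T A) B) := by
        rw [Ideal.mem_comap, hRB, MvPolynomial.aeval_C]
        exact map_nonunit (algebraMap A B) a ha
      have := hle (Ideal.mem_map_of_mem _ h3)
      rwa [hRB, MvPolynomial.aeval_C] at this
    · intro x hxT hxm
      have h3 : (MvPolynomial.X ⟨x, hxT⟩ : MvPolynomial ↥T A) ∈
          (maximalIdeal B).comap (algebraMap (MvPolynomial ↥T A) B) := by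
        rw [Ideal.mem_comap, hRB, MvPolynomial.aeval_X]
        exact hxm
      have := hle (Ideal.mem_map_of_mem _ h3)
      rwa [hRB, MvPolynomial.aeval_X] at this
  -- h2
  have h2 : ∀ b : B, ∃ f : Polynomial (MvPolynomial ↥T A),
      (∃ i, algebraMap (MvPolynomial ↥T A) B (f.coeff i) ∉ maximalIdeal B) ∧
        Polynomial.aeval b f ∈ maximalIdeal B := by
    intro b
    let D' : Subalgebra (ResidueField A) (ResidueField B) :=
      Algebra.adjoin (ResidueField A) (residue B '' (T : Set B))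
    let Φ : MvPolynomial ↥T A →ₐ[A] ResidueField B :=
      MvPolynomial.aeval (fun i : ↥T => residue B i.1)
    have hΦ : ∀ r : MvPolynomial ↥T A,
        Φ r = residue B (algebraMap (MvPolynomial ↥T A) B r) := by
      intro r
      have : Φ = (IsScalarTower.toAlgHom A B (ResidueField B)).comp φ := by
        apply MvPolynomial.algHom_ext
        intro i
        simp only [Φ, φ, MvPolynomial.aeval_X, AlgHom.coe_comp, Function.comp_apply,
          IsScalarTower.coe_toAlgHom', t]
        rfl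
      rw [this]
      rfl
    have hmem : ∀ r : MvPolynomial ↥T A, Φ r ∈ D' := by
      intro r
      induction r using MvPolynomial.induction_on with
      | C a =>
        rw [MvPolynomial.aeval_C, IsScalarTower.algebraMap_apply A (ResidueField A) (ResidueField B)]
        exact D'.algebraMap_mem _
      | add p q hp hq =>
        rw [map_add]
        exact D'.add_mem hp hq
      | mul_X p i hp =>
        rw [map_mul, MvPolynomial.aeval_X]
        exact D'.mul_mem hp (Algebra.subset_adjoin ⟨i.1, i.2, rfl⟩)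
    let Φ' : MvPolynomial ↥T A →+* D' := RingHom.codRestrict Φ.toRingHom D' hmem
    have hΦ' : ∀ r, (Φ' r : ResidueField B) = Φ r := fun _ => rfl
    have hsurj : Function.Surjective Φ' := by
      rintro ⟨c, hc⟩
      refine Algebra.adjoin_induction (p := fun c hc => ∃ r, Φ' r = ⟨c, hc⟩) ?_ ?_ ?_ ?_ hc
      · rintro x ⟨y, hy, rfl⟩
        exact ⟨MvPolynomial.X ⟨y, hy⟩, Subtype.ext (by rw [hΦ']; simp [Φ])⟩
      · intro c
        obtain ⟨a, rfl⟩ := residue_surjective c
        refine ⟨MvPolynomial.C a, Subtype.ext ?_⟩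
        rw [hΦ']
        simp only [Φ, MvPolynomial.aeval_C]
        rw [IsScalarTower.algebraMap_apply A (ResidueField A) (ResidueField B)]
        rfl
      · rintro x y hx hy ⟨p, hp⟩ ⟨q, hq⟩
        exact ⟨p + q, by rw [map_add, hp, hq]; rfl⟩
      · rintro x y hx hy ⟨p, hp⟩ ⟨q, hq⟩
        exact ⟨p * q, by rw [map_mul, hp, hq]; rfl⟩
    obtain ⟨h, hh0, hhz⟩ := hT2 (residue B b)
    obtain ⟨f, hf⟩ := Polynomial.map_surjective Φ' hsurj h
    refine ⟨f, ?_, ?_⟩
    · obtain ⟨i, hi⟩ : ∃ i, h.coeff i ≠ 0 := by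
        by_contra H
        push Not at H
        exact hh0 (Polynomial.ext (by simpa using H))
      refine ⟨i, fun hmem' => hi ?_⟩
      have h5 : Φ' (f.coeff i) = h.coeff i := by rw [← hf, Polynomial.coeff_map]
      apply Subtype.ext
      rw [← h5, hΦ', hΦ]
      exact (residue_eq_zero_iff _).mpr hmem'
    · rw [← residue_eq_zero_iff]
      have h6 : residue B (Polynomial.aeval b f) = Polynomial.aeval (residue B b) h := by
        rw [← hf, Polynomial.aeval_def, Polynomial.hom_eval₂, Polynomial.aeval_def,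
          Polynomial.eval₂_map]
        congr 1
        refine RingHom.ext fun r => ?_
        simp only [RingHom.coe_comp, Function.comp_apply]
        rw [← hΦ]
        rfl
      rw [h6, hhz]
  exact LocalZMT.exists_integral_fraction (R := MvPolynomial ↥T A) (B := B) h1 h2 b

omit [IsDomain A] [IsLocalRing A] [IsLocalRing B] [IsLocalHom (algebraMap A B)] [FaithfulSMul A B]
  [Algebra.EssFiniteType A B] in
/-- `B` is algebraic over `A[T]`. -/
theorem isAlgebraic_adjoin_of_fraction (T : Finset B)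
    (hfrac : ∀ b : B, ∃ x y : B,
      (MvPolynomial.aeval (Subtype.val : ↥T → B) : MvPolynomial ↥T A →ₐ[A] B).toRingHom.IsIntegralElem x ∧
      (MvPolynomial.aeval (Subtype.val : ↥T → B) : MvPolynomial ↥T A →ₐ[A] B).toRingHom.IsIntegralElem y ∧
      y ≠ 0 ∧ b * y = x) :
    Algebra.IsAlgebraic (Algebra.adjoin A (Set.range (Subtype.val : ↥T → B))) B := by
  classical
  let t : ↥T → B := Subtype.val
  let φ : MvPolynomial ↥T A →ₐ[A] B := MvPolynomial.aeval t
  constructor
  intro b
  obtain ⟨x, y, hx, hy, hyu, hbxy⟩ := hfrac b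
  have hrange : ∀ r : MvPolynomial ↥T A, φ r ∈ Algebra.adjoin A (Set.range t) := by
    intro r
    rw [Algebra.adjoin_range_eq_range_aeval]
    exact ⟨r, rfl⟩
  let φ' : MvPolynomial ↥T A →+* Algebra.adjoin A (Set.range t) :=
    RingHom.codRestrict φ.toRingHom _ hrange
  have hD : ∀ z : B, φ.toRingHom.IsIntegralElem z →
      IsAlgebraic (Algebra.adjoin A (Set.range t)) z := by
    intro z hz
    have hz' : ((algebraMap (Algebra.adjoin A (Set.range t)) B).comp φ').IsIntegralElem z := hz
    have hz'' : IsIntegral (Algebra.adjoin A (Set.range t)) z :=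
      RingHom.IsIntegralElem.of_comp hz'
    exact hz''.isAlgebraic
  have hy0 : y ∈ nonZeroDivisors B := mem_nonZeroDivisors_of_ne_zero hyu
  exact IsAlgebraic.of_mul hy0 (hD y hy) (by rw [mul_comm, hbxy]; exact hD x hx)

omit [IsDomain A] in
theorem injective_of_finset (g : B) (hg : g ∈ maximalIdeal B) (T : Finset B) (hgT : g ∈ T)
    (hT1 : ∀ 𝔮 : Ideal B, 𝔮.IsPrime → (maximalIdeal A).map (algebraMap A B) ≤ 𝔮 →
        (∀ x ∈ T, x ∈ maximalIdeal B → x ∈ 𝔮) → 𝔮 = maximalIdeal B)
    (hT2 : ∀ z : ResidueField B,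
      IsAlgebraic (Algebra.adjoin (ResidueField A) (residue B '' (T : Set B))) z)
    (hcard : (T.card : Cardinal.{u}) ≤ Algebra.trdeg A B) :
    Function.Injective (algebraMap A (B ⧸ Ideal.span {g})) := by
  classical
  let t : ↥T → B := Subtype.val
  have hfrac := fun b : B => exists_integral_fraction_of_finset (A := A) T hT1 hT2 b
  -- algebraic independence
  have halgB : Algebra.IsAlgebraic (Algebra.adjoin A (Set.range t)) B :=
    isAlgebraic_adjoin_of_fraction (A := A) T fun b => by
      obtain ⟨x, y, hx, hy, hyu, hbxy⟩ := hfrac b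
      exact ⟨x, y, hx, hy, hyu.ne_zero, hbxy⟩
  have htb : IsTranscendenceBasis A t :=
    Algebra.IsAlgebraic.isTranscendenceBasis_of_le_trdeg_of_finite A t
      (by rwa [Cardinal.mk_coe_finset])
  have hti : AlgebraicIndependent A t := htb.1
  -- a valuation ring dominating `B`
  obtain ⟨V, hV, hVloc⟩ := IsLocalRing.exists_factor_valuationRing (algebraMap B (FractionRing B))
  let ψ : B →+* V := (algebraMap B (FractionRing B)).codRestrict V.toSubring hV
  have hψinj : Function.Injective ψ := by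
    intro a b hab
    exact IsFractionRing.injective B (FractionRing B) (congrArg Subtype.val hab)
  let algBV : Algebra B V := ψ.toAlgebra
  let algAV : Algebra A V := (ψ.comp (algebraMap A B)).toAlgebra
  have htowerV : IsScalarTower A B V := IsScalarTower.of_algebraMap_eq fun _ => rfl
  have hloc : IsLocalHom (algebraMap B V) := hVloc
  have hAV : Function.Injective (algebraMap A V) :=
    hψinj.comp (FaithfulSMul.algebraMap_injective A B)
  have htV : AlgebraicIndependent A (fun i => algebraMap B V (t i)) :=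
    hti.map' (f := IsScalarTower.toAlgHom A B V) hψinj
  exact HorizGD.injective_of_integral_fractions_aux (W := V) hAV t htV ⟨g, hgT⟩ hg
    (fun b => hfrac b)

omit [IsDomain A] [IsDomain B] [FaithfulSMul A B] in
theorem exists_finset_aux (J : Ideal B) (hIJ : (maximalIdeal A).map (algebraMap A B) ≤ J)
    (hJle : J ≤ maximalIdeal B) (d' e : ℕ) (hdim : ringKrullDim (B ⧸ J) ≤ d')
    (he : Algebra.trdeg (ResidueField A) (ResidueField B) = e) :
    ∃ T : Finset B,
      (∀ 𝔮 : Ideal B, 𝔮.IsPrime → J ≤ 𝔮 →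
        (∀ x ∈ T, x ∈ maximalIdeal B → x ∈ 𝔮) → 𝔮 = maximalIdeal B) ∧
      (∀ z : ResidueField B,
        IsAlgebraic (Algebra.adjoin (ResidueField A) (residue B '' (T : Set B))) z) ∧
      T.card ≤ d' + e := by
  classical
  set I : Ideal B := (maximalIdeal A).map (algebraMap A B) with hI
  have hJtop : J ≠ ⊤ := fun h => (maximalIdeal.isMaximal B).ne_top (top_le_iff.mp (h ▸ hJle))
  have hnt : Nontrivial (B ⧸ J) := Ideal.Quotient.nontrivial_iff.mpr hJtop
  have hlocal : IsLocalRing (B ⧸ J) :=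
    IsLocalRing.of_surjective' (Ideal.Quotient.mk J) Ideal.Quotient.mk_surjective
  -- noetherianity
  let _ : Field (A ⧸ maximalIdeal A) := Ideal.Quotient.field _
  have hnoeth : IsNoetherianRing (B ⧸ I) :=
    Algebra.EssFiniteType.isNoetherianRing (A ⧸ maximalIdeal A) (B ⧸ I)
  have hnoeth' : IsNoetherianRing (B ⧸ J) :=
    isNoetherianRing_of_surjective (B ⧸ I) (B ⧸ J) (Ideal.Quotient.factor hIJ)
      (Ideal.Quotient.factor_surjective hIJ)
  obtain ⟨s', hs'min, hs'card⟩ :=
    Ideal.exists_finset_card_eq_height_of_isNoetherianRing (maximalIdeal (B ⧸ J))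
  have hs'd : s'.card ≤ d' := by
    rw [← IsLocalRing.maximalIdeal_height_eq_ringKrullDim, ← hs'card] at hdim
    exact_mod_cast hdim
  -- sections
  let σ : B ⧸ J → B := Function.surjInv Ideal.Quotient.mk_surjective
  have hσ : ∀ y, Ideal.Quotient.mk J (σ y) = y := Function.surjInv_eq _
  obtain ⟨ι', x, hx⟩ := exists_isTranscendenceBasis' (ResidueField A) (ResidueField B)
  have hcard' : Cardinal.mk ι' = e := by rw [hx.cardinalMk_eq_trdeg, he]
  have hfin : Finite ι' := by
    rw [← Cardinal.lt_aleph0_iff_finite, hcard']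
    exact Cardinal.natCast_lt_aleph0
  let _ : Fintype ι' := Fintype.ofFinite ι'
  have hcard'' : Fintype.card ι' = e := by
    rw [Cardinal.mk_fintype] at hcard'
    exact_mod_cast hcard'
  let σ₂ : ResidueField B → B := Function.surjInv residue_surjective
  have hσ₂ : ∀ y, residue B (σ₂ y) = y := Function.surjInv_eq _
  let T₂ : Finset B := s'.image σ
  let T₃ : Finset B := Finset.univ.image (fun i => σ₂ (x i))
  refine ⟨T₂ ∪ T₃, ?_, ?_, ?_⟩
  · intro 𝔮 h𝔮 hJ𝔮 hT
    have hspan : Ideal.span (s' : Set (B ⧸ J)) ≤ maximalIdeal (B ⧸ J) := hs'min.1.2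
    have hσ𝔮 : ∀ y ∈ s', σ y ∈ 𝔮 := by
      intro y hy
      refine hT (σ y) (Finset.mem_union_left _ (Finset.mem_image_of_mem σ hy)) ?_
      rw [mem_maximalIdeal, mem_nonunits_iff]
      intro hu
      have h1 : Ideal.Quotient.mk J (σ y) ∈ maximalIdeal (B ⧸ J) := by
        rw [hσ]
        exact hspan (Ideal.subset_span hy)
      rw [mem_maximalIdeal, mem_nonunits_iff] at h1
      exact h1 (hu.map _)
    have hker : RingHom.ker (Ideal.Quotient.mk J) ≤ 𝔮 := by rwa [Ideal.mk_ker]
    have hprime : (𝔮.map (Ideal.Quotient.mk J)).IsPrime :=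
      Ideal.map_isPrime_of_surjective Ideal.Quotient.mk_surjective hker
    have hspan' : Ideal.span (s' : Set (B ⧸ J)) ≤ 𝔮.map (Ideal.Quotient.mk J) := by
      rw [Ideal.span_le]
      intro y hy
      rw [← hσ y]
      exact Ideal.mem_map_of_mem _ (hσ𝔮 y hy)
    have hle' : 𝔮.map (Ideal.Quotient.mk J) ≤ maximalIdeal (B ⧸ J) :=
      IsLocalRing.le_maximalIdeal hprime.ne_top
    have hge : maximalIdeal (B ⧸ J) ≤ 𝔮.map (Ideal.Quotient.mk J) :=
      hs'min.2 ⟨hprime, hspan'⟩ hle'
    refine le_antisymm (IsLocalRing.le_maximalIdeal h𝔮.ne_top) ?_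
    intro z hz
    have h1 : Ideal.Quotient.mk J z ∈ maximalIdeal (B ⧸ J) := by
      rw [mem_maximalIdeal, mem_nonunits_iff] at hz ⊢
      intro hu
      apply hz
      have : IsLocalHom (Ideal.Quotient.mk J) :=
        IsLocalHom.of_surjective _ Ideal.Quotient.mk_surjective
      exact isUnit_of_map_unit (Ideal.Quotient.mk J) z hu
    have h2 : z ∈ (𝔮.map (Ideal.Quotient.mk J)).comap (Ideal.Quotient.mk J) := hge h1
    rw [Ideal.comap_map_of_surjective _ Ideal.Quotient.mk_surjective, ← RingHom.ker_eq_comap_bot,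
      sup_eq_left.mpr hker] at h2
    exact h2
  · intro z
    have halg := hx.isAlgebraic
    refine IsAlgebraic.tower_top_of_subalgebra_le (Algebra.adjoin_mono ?_) (halg.1 z)
    rintro _ ⟨i, rfl⟩
    refine ⟨σ₂ (x i), ?_, hσ₂ _⟩
    simp only [Finset.coe_union, Set.mem_union, Finset.mem_coe]
    exact Or.inr (Finset.mem_image_of_mem _ (Finset.mem_univ i))
  · calc (T₂ ∪ T₃).card ≤ T₂.card + T₃.card := Finset.card_union_le _ _
      _ ≤ s'.card + Fintype.card ι' := by
        gcongr
        · exact Finset.card_image_le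
        · exact Finset.card_image_le
      _ ≤ d' + e := by omega

omit [IsDomain A] [IsDomain B] [FaithfulSMul A B] [Algebra.EssFiniteType A B] in
theorem map_maximalIdeal_le : (maximalIdeal A).map (algebraMap A B) ≤ maximalIdeal B := by
  rw [Ideal.map_le_iff_le_comap]
  intro a ha
  exact map_nonunit (algebraMap A B) a ha

omit [IsDomain A] [IsDomain B] [FaithfulSMul A B] in
/-- parameters without a prescribed first element. -/
theorem exists_finset' (d e : ℕ)
    (hd : ringKrullDim (B ⧸ (maximalIdeal A).map (algebraMap A B)) = d)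
    (he : Algebra.trdeg (ResidueField A) (ResidueField B) = e) :
    ∃ T : Finset B,
      (∀ 𝔮 : Ideal B, 𝔮.IsPrime → (maximalIdeal A).map (algebraMap A B) ≤ 𝔮 →
        (∀ x ∈ T, x ∈ maximalIdeal B → x ∈ 𝔮) → 𝔮 = maximalIdeal B) ∧
      (∀ z : ResidueField B,
        IsAlgebraic (Algebra.adjoin (ResidueField A) (residue B '' (T : Set B))) z) ∧
      T.card ≤ d + e :=
  exists_finset_aux (A := A) _ le_rfl map_maximalIdeal_le d e hd.le he

omit [IsDomain A] [IsDomain B] [FaithfulSMul A B] in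
theorem exists_finset (g : B) (hg : g ∈ maximalIdeal B)
    (hmin : ∀ q ∈ ((maximalIdeal A).map (algebraMap A B)).minimalPrimes, g ∉ q)
    (d e : ℕ) (hd : ringKrullDim (B ⧸ (maximalIdeal A).map (algebraMap A B)) = d)
    (he : Algebra.trdeg (ResidueField A) (ResidueField B) = e) :
    ∃ T : Finset B, g ∈ T ∧
      (∀ 𝔮 : Ideal B, 𝔮.IsPrime → (maximalIdeal A).map (algebraMap A B) ≤ 𝔮 →
        (∀ x ∈ T, x ∈ maximalIdeal B → x ∈ 𝔮) → 𝔮 = maximalIdeal B) ∧
      (∀ z : ResidueField B,
        IsAlgebraic (Algebra.adjoin (ResidueField A) (residue B '' (T : Set B))) z) ∧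
      T.card ≤ d + e := by
  classical
  set I : Ideal B := (maximalIdeal A).map (algebraMap A B) with hI
  have hJle : I ⊔ Ideal.span {g} ≤ maximalIdeal B :=
    sup_le map_maximalIdeal_le ((Ideal.span_singleton_le_iff_mem _).2 hg)
  have hdim : ringKrullDim (B ⧸ (I ⊔ Ideal.span {g})) + 1 ≤ d := by
    rw [← hd]
    exact HorizGD.ringKrullDim_quotient_sup_span_succ_le I g hmin
  have hnt : Nontrivial (B ⧸ (I ⊔ Ideal.span {g})) := Ideal.Quotient.nontrivial_iff.mpr
    fun h => (maximalIdeal.isMaximal B).ne_top (top_le_iff.mp (h ▸ hJle))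
  obtain ⟨n, hn⟩ : ∃ n : ℕ∞, ringKrullDim (B ⧸ (I ⊔ Ideal.span {g})) = n := by
    have h0 : (0 : WithBot ℕ∞) ≤ ringKrullDim (B ⧸ (I ⊔ Ideal.span {g})) :=
      ringKrullDim_nonneg_of_nontrivial
    refine ⟨_, (WithBot.coe_unbot _ ?_).symm⟩
    intro h
    rw [h] at h0
    simp at h0
  have hdim2 : n + 1 ≤ (d : ℕ∞) := by
    rw [hn] at hdim
    exact_mod_cast hdim
  have hntop : n ≠ ⊤ := by
    rintro rfl
    simp at hdim2
  lift n to ℕ using hntop
  have hd1 : n + 1 ≤ d := by exact_mod_cast hdim2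
  have hdim' : ringKrullDim (B ⧸ (I ⊔ Ideal.span {g})) ≤ ((d - 1 : ℕ) : WithBot ℕ∞) := by
    rw [hn]
    have h3 : n ≤ d - 1 := by omega
    have h4 : ((n : ℕ) : ℕ∞) ≤ ((d - 1 : ℕ) : ℕ∞) := by exact_mod_cast h3
    exact WithBot.coe_le_coe.mpr h4
  obtain ⟨T, hT1, hT2, hcard⟩ :=
    exists_finset_aux (A := A) (I ⊔ Ideal.span {g}) le_sup_left hJle (d - 1) e hdim' he
  refine ⟨insert g T, Finset.mem_insert_self _ _, ?_, ?_, ?_⟩
  · intro 𝔮 h𝔮 hI𝔮 hT
    have hg𝔮 : g ∈ 𝔮 := hT g (Finset.mem_insert_self _ _) hg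
    refine hT1 𝔮 h𝔮 (sup_le hI𝔮 ((Ideal.span_singleton_le_iff_mem _).2 hg𝔮)) ?_
    intro x hx hxm
    exact hT x (Finset.mem_insert_of_mem hx) hxm
  · intro z
    refine IsAlgebraic.tower_top_of_subalgebra_le (Algebra.adjoin_mono ?_) (hT2 z)
    exact Set.image_mono (by simp)
  · calc (insert g T).card ≤ T.card + 1 := Finset.card_insert_le _ _
      _ ≤ d + e := by omega

end Groth.Agent.Lib.Seat62.HorizElt
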