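import Mathlib
import Groth.Agent.Lib.Seat91TrdegAux

/-!
# Transcendence degree drops along chains of primes (helper62)

Over a field `k`: a surjective, non injective homomorphism of `k`-domains drops the transcendence
degree; hence `trdeg (D/l.last) + l.length ≤ trdeg (D/l.head)` for chains of primes.
-/

universe u

namespace Groth.Agent.Lib.Seat62.TrdegChain

open Cardinal

variable {k : Type u} [Field k]

theorem trdeg_add_one_le_of_surjective {D D' : Type u} [CommRing D] [IsDomain D] [Algebra k D]
    [CommRing D'] [IsDomain D'] [Algebra k D'] (π : D →ₐ[k] D') (hπ : Function.Surjective π)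
    (y : D) (hy0 : y ≠ 0) (hy : π y = 0) :
    Algebra.trdeg k D' + 1 ≤ Algebra.trdeg k D := by
  classical
  obtain ⟨ι, x, hx⟩ := exists_isTranscendenceBasis' k D'
  choose xt hxt using fun i => hπ (x i)
  have hxt' : AlgebraicIndependent k xt := by
    refine AlgebraicIndependent.of_comp π ?_
    convert hx.1 using 1
    ext i
    exact hxt i
  let E : Subalgebra k D := Algebra.adjoin k (Set.range xt)
  have hEinj : ∀ z ∈ E, π z = 0 → z = 0 := by
    intro z hz hπz
    have hz' : z ∈ (MvPolynomial.aeval xt : MvPolynomial ι k →ₐ[k] D).range := by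
      rw [← Algebra.adjoin_range_eq_range_aeval]
      exact hz
    obtain ⟨p, rfl⟩ := hz'
    change π (MvPolynomial.aeval xt p) = 0 at hπz
    change MvPolynomial.aeval xt p = 0
    have h1 : π (MvPolynomial.aeval xt p) = MvPolynomial.aeval x p := by
      rw [← AlgHom.comp_apply, MvPolynomial.comp_aeval]
      congr 2
      ext i
      exact hxt i
    rw [h1] at hπz
    have h2 : p = 0 := hx.1 (by rw [hπz, map_zero])
    rw [h2, map_zero]
  have htrans : Transcendental E y := by
    intro halg
    have h1 := Ideal.comap_ne_bot_of_algebraic_mem (I := RingHom.ker π.toRingHom) hy0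
      (by simpa using hy) halg
    apply h1
    rw [eq_bot_iff]
    intro z hz
    have hz' : π (z : D) = 0 := by simpa using hz
    have := hEinj z z.2 hz'
    exact Subtype.ext this
  have h1 := Groth.Agent.Lib.Seat91.TrdegAux.trdeg_add_one_le E y htrans
  have h2 : Cardinal.mk ι ≤ Algebra.trdeg k E := by
    let xe : ι → E := fun i => ⟨xt i, Algebra.subset_adjoin ⟨i, rfl⟩⟩
    have : AlgebraicIndependent k xe := AlgebraicIndependent.of_comp E.val (by exact hxt')
    exact this.cardinalMk_le_trdeg
  rw [← hx.cardinalMk_eq_trdeg]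
  exact le_trans (by gcongr) h1

theorem trdeg_quotient_add_one_le {D : Type u} [CommRing D] [Algebra k D] (p q : Ideal D)
    [p.IsPrime] [q.IsPrime] (hpq : p < q) :
    Algebra.trdeg k (D ⧸ q) + 1 ≤ Algebra.trdeg k (D ⧸ p) := by
  obtain ⟨y, hyq, hyp⟩ := Set.exists_of_ssubset hpq
  refine trdeg_add_one_le_of_surjective (Ideal.Quotient.factorₐ k hpq.le)
    (Ideal.Quotient.factor_surjective hpq.le) (Ideal.Quotient.mk p y) ?_ ?_
  · rwa [Ne, Ideal.Quotient.eq_zero_iff_mem]
  · simp only [Ideal.Quotient.factorₐ_apply_mk]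
    rwa [Ideal.Quotient.eq_zero_iff_mem]

theorem trdeg_chain_le {D : Type u} [CommRing D] [Algebra k D] :
    ∀ (n : ℕ) (l : LTSeries (PrimeSpectrum D)), l.length = n →
      Algebra.trdeg k (D ⧸ l.last.asIdeal) + n ≤ Algebra.trdeg k (D ⧸ l.head.asIdeal) := by
  intro n
  induction n with
  | zero =>
    intro l hl
    have : l.last = l.head := by
      rw [RelSeries.last, RelSeries.head]
      congr 1
      ext
      simp [hl]
    rw [this]
    simp
  | succ n ih =>
    intro l hl
    have hne : l.length ≠ 0 := by omega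
    have h1 := ih l.eraseLast (by simp [hl])
    have h2 : l.eraseLast.last < l.last := l.eraseLast_last_rel_last hne
    have h3 := trdeg_quotient_add_one_le (k := k) l.eraseLast.last.asIdeal l.last.asIdeal h2
    rw [RelSeries.head_eraseLast] at h1
    calc Algebra.trdeg k (D ⧸ l.last.asIdeal) + (n + 1 : ℕ)
        = (Algebra.trdeg k (D ⧸ l.last.asIdeal) + 1) + n := by push_cast; ring
      _ ≤ Algebra.trdeg k (D ⧸ l.eraseLast.last.asIdeal) + n := by gcongr
      _ ≤ _ := h1

end Groth.Agent.Lib.Seat62.TrdegChain
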