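import Mathlib
import Groth.Agent.Lib.Seat62HorizElt
import Groth.Agent.Lib.Seat62TrdegChain
import Groth.Agent.Lib.Seat62FlatAlgIndep

/-!
# The dimension formula for flat essentially finite type local homomorphisms (helper62)

`A → B` a flat injective local homomorphism of local domains, `B` essentially of finite type:
`dim B/𝔪_A B + trdeg κ(B)/κ(A) = trdeg_A B`.
-/

universe u

namespace Groth.Agent.Lib.Seat62.DimFormula

open IsLocalRing Groth.Agent.Lib.Seat62

section finiteness

variable {A B : Type u} [CommRing A] [CommRing B] [IsLocalRing A] [IsLocalRing B]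
  [Algebra A B] [IsLocalHom (algebraMap A B)] [Algebra.EssFiniteType A B]

theorem exists_trdeg_residueField_eq :
    ∃ e : ℕ, Algebra.trdeg (ResidueField A) (ResidueField B) = e := by
  have h1 : Algebra.EssFiniteType A (ResidueField B) :=
    inferInstanceAs (Algebra.EssFiniteType A (B ⧸ maximalIdeal B))
  have h2 : Algebra.EssFiniteType (ResidueField A) (ResidueField B) :=
    Algebra.EssFiniteType.of_comp A (ResidueField A) (ResidueField B)
  let σ := Algebra.EssFiniteType.finset (ResidueField A) (ResidueField B)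
  have h3 : Algebra.IsAlgebraic (Algebra.adjoin (ResidueField A) (σ : Set (ResidueField B)))
      (ResidueField B) :=
    IsLocalization.isAlgebraic (ResidueField B)
      (Algebra.EssFiniteType.submonoid (ResidueField A) (ResidueField B))
  have h4 := Algebra.IsAlgebraic.trdeg_le_cardinalMk (ResidueField A) (σ : Set (ResidueField B))
  have h5 : Algebra.trdeg (ResidueField A) (ResidueField B) < Cardinal.aleph0 :=
    lt_of_le_of_lt h4 (by simp)
  obtain ⟨e, he⟩ := Cardinal.lt_aleph0.mp h5
  exact ⟨e, he⟩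

theorem exists_ringKrullDim_fibre_eq :
    ∃ d : ℕ, ringKrullDim (B ⧸ (maximalIdeal A).map (algebraMap A B)) = d := by
  set I : Ideal B := (maximalIdeal A).map (algebraMap A B) with hI
  have hIle : I ≤ maximalIdeal B := HorizElt.map_maximalIdeal_le
  have hnt : Nontrivial (B ⧸ I) := Ideal.Quotient.nontrivial_iff.mpr
    fun h => (maximalIdeal.isMaximal B).ne_top (top_le_iff.mp (h ▸ hIle))
  have hlocal : IsLocalRing (B ⧸ I) :=
    IsLocalRing.of_surjective' (Ideal.Quotient.mk I) Ideal.Quotient.mk_surjective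
  let _ : Field (A ⧸ maximalIdeal A) := Ideal.Quotient.field _
  have hnoeth : IsNoetherianRing (B ⧸ I) :=
    Algebra.EssFiniteType.isNoetherianRing (A ⧸ maximalIdeal A) (B ⧸ I)
  obtain ⟨h1, h2⟩ := finiteRingKrullDim_iff_ne_bot_and_top.mp
    (inferInstance : FiniteRingKrullDim (B ⧸ I))
  obtain ⟨n, hn⟩ := WithBot.ne_bot_iff_exists.mp h1
  have hn' : n ≠ ⊤ := by
    rintro rfl
    exact h2 hn.symm
  lift n to ℕ using hn'
  exact ⟨n, hn.symm⟩

end finiteness

section main

variable {A B : Type u} [CommRing A] [CommRing B] [IsDomain A] [IsDomain B] [IsLocalRing A]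
  [IsLocalRing B] [Algebra A B] [IsLocalHom (algebraMap A B)] [FaithfulSMul A B]
  [Algebra.EssFiniteType A B]

omit [IsDomain A] [FaithfulSMul A B] in
theorem trdeg_eq [Module.Flat A B] (d e : ℕ)
    (hd : ringKrullDim (B ⧸ (maximalIdeal A).map (algebraMap A B)) = d)
    (he : Algebra.trdeg (ResidueField A) (ResidueField B) = e) :
    Algebra.trdeg A B = (d + e : ℕ) := by
  classical
  obtain ⟨T, hT1, hT2, hcard⟩ := HorizElt.exists_finset' (A := A) (B := B) d e hd he
  have hfrac := fun b : B => HorizElt.exists_integral_fraction_of_finset (A := A) T hT1 hT2 b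
  let t : ↥T → B := Subtype.val
  let φ : MvPolynomial ↥T A →ₐ[A] B := MvPolynomial.aeval t
  have halgB : Algebra.IsAlgebraic (Algebra.adjoin A (Set.range t)) B :=
    HorizElt.isAlgebraic_adjoin_of_fraction (A := A) T fun b => by
      obtain ⟨x, y, hx, hy, hyu, hbxy⟩ := hfrac b
      exact ⟨x, y, hx, hy, hyu.ne_zero, hbxy⟩
  -- upper bound
  have hupper : Algebra.trdeg A B ≤ (T.card : Cardinal.{u}) := by
    have h1 := Algebra.IsAlgebraic.trdeg_le_cardinalMk A (Set.range t)
    refine h1.trans ?_
    have h2 : Set.range t = (T : Set B) := Subtype.range_coe_subtype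
    rw [h2]
    exact le_of_eq (by simp)
  -- the closed fibre
  set I : Ideal B := (maximalIdeal A).map (algebraMap A B) with hI
  have hIle : I ≤ maximalIdeal B := HorizElt.map_maximalIdeal_le
  have hnt : Nontrivial (B ⧸ I) := Ideal.Quotient.nontrivial_iff.mpr
    fun h => (maximalIdeal.isMaximal B).ne_top (top_le_iff.mp (h ▸ hIle))
  have hlocal : IsLocalRing (B ⧸ I) :=
    IsLocalRing.of_surjective' (Ideal.Quotient.mk I) Ideal.Quotient.mk_surjective
  let _ : Field (A ⧸ maximalIdeal A) := Ideal.Quotient.field _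
  have hnoeth : IsNoetherianRing (B ⧸ I) :=
    Algebra.EssFiniteType.isNoetherianRing (A ⧸ maximalIdeal A) (B ⧸ I)
  have hht : (maximalIdeal (B ⧸ I)).height = d := by
    have h1 := IsLocalRing.maximalIdeal_height_eq_ringKrullDim (R := B ⧸ I)
    rw [hd] at h1
    exact_mod_cast h1
  obtain ⟨l, hlast, hlen⟩ := (maximalIdeal (B ⧸ I)).exists_ltSeries_length_eq_height
  have hlen' : l.length = d := by
    rw [hht] at hlen
    exact_mod_cast hlen
  have hchain := TrdegChain.trdeg_chain_le (k := A ⧸ maximalIdeal A) d l hlen'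
  have hlast' : l.last.asIdeal = maximalIdeal (B ⧸ I) := by rw [hlast]
  -- residue field
  have hres : (e : Cardinal.{u}) ≤
      Algebra.trdeg (A ⧸ maximalIdeal A) ((B ⧸ I) ⧸ l.last.asIdeal) := by
    obtain ⟨ι', x, hx⟩ := exists_isTranscendenceBasis' (ResidueField A) (ResidueField B)
    have hcard' : Cardinal.mk ι' = e := by rw [hx.cardinalMk_eq_trdeg, he]
    choose y hy using fun i => residue_surjective (x i)
    let z : ι' → (B ⧸ I) ⧸ l.last.asIdeal := fun i =>
      Ideal.Quotient.mk _ (Ideal.Quotient.mk I (y i))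
    have hkill : ∀ a ∈ l.last.asIdeal, Ideal.Quotient.factor hIle a = 0 := by
      intro a ha
      obtain ⟨b, rfl⟩ := Ideal.Quotient.mk_surjective a
      rw [Ideal.Quotient.factor_mk, Ideal.Quotient.eq_zero_iff_mem, mem_maximalIdeal,
        mem_nonunits_iff]
      intro hu
      rw [hlast', mem_maximalIdeal, mem_nonunits_iff] at ha
      exact ha (hu.map _)
    let g : (B ⧸ I) ⧸ l.last.asIdeal →+* ResidueField B :=
      Ideal.Quotient.lift l.last.asIdeal (Ideal.Quotient.factor hIle) hkill
    let f : (A ⧸ maximalIdeal A) →+* ResidueField A := RingHom.id _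
    have hz : AlgebraicIndependent (A ⧸ maximalIdeal A) z := by
      refine AlgebraicIndependent.of_ringHom_of_comp_eq (S := ResidueField A)
        (B := ResidueField B) f g ?_ (fun _ _ h => h) ?_
      · convert hx.1 using 1
        ext i
        simp only [Function.comp_apply, z, g]
        exact hy i
      · refine Ideal.Quotient.ringHom_ext (RingHom.ext fun a => ?_)
        simp only [RingHom.coe_comp, Function.comp_apply]
        rfl
    rw [← hcard']
    exact hz.cardinalMk_le_trdeg
  -- the domain `D`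
  have hP₀ : l.head.asIdeal.IsPrime := l.head.2
  have hD : ((d + e : ℕ) : Cardinal.{u}) ≤
      Algebra.trdeg (A ⧸ maximalIdeal A) ((B ⧸ I) ⧸ l.head.asIdeal) := by
    refine le_trans ?_ hchain
    push_cast
    rw [add_comm]
    gcongr
  let ρ : B →+* (B ⧸ I) ⧸ l.head.asIdeal :=
    (Ideal.Quotient.mk l.head.asIdeal).comp (Ideal.Quotient.mk I)
  have hρsurj : Function.Surjective ρ :=
    Ideal.Quotient.mk_surjective.comp Ideal.Quotient.mk_surjective
  let E : Subalgebra (A ⧸ maximalIdeal A) ((B ⧸ I) ⧸ l.head.asIdeal) :=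
    Algebra.adjoin (A ⧸ maximalIdeal A) (Set.range fun i : ↥T => ρ i.1)
  have hmemE : ∀ r : MvPolynomial ↥T A, ρ (φ r) ∈ E := by
    intro r
    induction r using MvPolynomial.induction_on with
    | C a =>
      have h1 : ρ (φ (MvPolynomial.C a)) = algebraMap (A ⧸ maximalIdeal A)
          ((B ⧸ I) ⧸ l.head.asIdeal) (Ideal.Quotient.mk _ a) := by
        simp only [φ, MvPolynomial.aeval_C]
        rfl
      rw [h1]
      exact E.algebraMap_mem _
    | add p q hp hq =>
      rw [map_add, map_add]
      exact E.add_mem hp hq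
    | mul_X p i hp =>
      rw [map_mul, map_mul]
      refine E.mul_mem hp ?_
      simp only [φ, MvPolynomial.aeval_X]
      exact Algebra.subset_adjoin ⟨i, rfl⟩
  let ρ' : MvPolynomial ↥T A →+* E := RingHom.codRestrict (ρ.comp φ.toRingHom) E hmemE
  have halgD : Algebra.IsAlgebraic E ((B ⧸ I) ⧸ l.head.asIdeal) := by
    constructor
    intro bb
    obtain ⟨b, rfl⟩ := hρsurj bb
    obtain ⟨x, y, hx, hy, hyu, hbxy⟩ := hfrac b
    have hint : ∀ z : B, φ.toRingHom.IsIntegralElem z → IsAlgebraic E (ρ z) := by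
      intro z hz
      have h1 : ((algebraMap E ((B ⧸ I) ⧸ l.head.asIdeal)).comp ρ').IsIntegralElem (ρ z) := by
        obtain ⟨p, hp, hpz⟩ := hz
        refine ⟨p, hp, ?_⟩
        have : (algebraMap E ((B ⧸ I) ⧸ l.head.asIdeal)).comp ρ' = ρ.comp φ.toRingHom := rfl
        rw [this, ← Polynomial.hom_eval₂, hpz, map_zero]
      have h2 : IsIntegral E (ρ z) := RingHom.IsIntegralElem.of_comp h1
      exact h2.isAlgebraic
    have hy0 : ρ y ∈ nonZeroDivisors ((B ⧸ I) ⧸ l.head.asIdeal) :=
      mem_nonZeroDivisors_of_ne_zero (hyu.map ρ).ne_zero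
    refine IsAlgebraic.of_mul hy0 (hint y hy) ?_
    rw [mul_comm, ← map_mul, hbxy]
    exact hint x hx
  have hfaith : FaithfulSMul (A ⧸ maximalIdeal A) ((B ⧸ I) ⧸ l.head.asIdeal) :=
    (faithfulSMul_iff_algebraMap_injective _ _).mpr (RingHom.injective _)
  have hcardT : (Cardinal.mk ↥T) ≤
      Algebra.trdeg (A ⧸ maximalIdeal A) ((B ⧸ I) ⧸ l.head.asIdeal) := by
    rw [Cardinal.mk_coe_finset]
    refine le_trans ?_ hD
    exact_mod_cast hcard
  have htb : IsTranscendenceBasis (A ⧸ maximalIdeal A) (fun i : ↥T => ρ i.1) :=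
    Algebra.IsAlgebraic.isTranscendenceBasis_of_le_trdeg_of_finite (A ⧸ maximalIdeal A)
      (fun i : ↥T => ρ i.1) hcardT
  have hTeq : T.card = d + e := by
    have h1 := htb.cardinalMk_eq_trdeg
    rw [Cardinal.mk_coe_finset] at h1
    have h2 : ((d + e : ℕ) : Cardinal.{u}) ≤ (T.card : Cardinal.{u}) := by rw [h1]; exact hD
    have h3 : d + e ≤ T.card := by exact_mod_cast h2
    omega
  have hindep : AlgebraicIndependent (A ⧸ maximalIdeal A)
      (fun i : ↥T => Ideal.Quotient.mk I (t i)) :=
    AlgebraicIndependent.of_comp (Ideal.Quotient.mkₐ (A ⧸ maximalIdeal A) l.head.asIdeal) htb.1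
  have hindepA : AlgebraicIndependent A t := FlatAlgIndep.algebraicIndependent_of_flat t hindep
  have hlower : (T.card : Cardinal.{u}) ≤ Algebra.trdeg A B := by
    have := hindepA.cardinalMk_le_trdeg
    rwa [Cardinal.mk_coe_finset] at this
  rw [← hTeq]
  exact le_antisymm hupper hlower

end main

end Groth.Agent.Lib.Seat62.DimFormula
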