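import Mathlib
import Groth.Agent.Lib.Helper4DVRDom

/-!
# A Noetherian local domain is dominated by a one-dimensional local ring essentially of finite type
(helper62)

Blow-up chart + Krull's principal ideal theorem, following `Helper4DVRDom.exists_dvr_dominating`.
-/

set_option autoImplicit false
set_option linter.style.haveILetI false
universe u

namespace Groth.Agent.Lib.Seat62.DimOneDom

open IsLocalRing Groth.Agent.Lib.Helper4.DVRDom

variable {R : Type u} [CommRing R] [IsDomain R] [IsNoetherianRing R] [IsLocalRing R]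

open Classical in
/-- The blow-up chart: a finitely generated subalgebra `B₀` of `Frac R` in which `𝔪 B₀ = ξ B₀` is
a proper principal ideal. -/
theorem exists_chart (hR : ¬ IsField R) :
    ∃ (B₀ : Subalgebra R (FractionRing R)) (ξ : B₀), B₀.FG ∧ ξ ≠ 0 ∧
      Ideal.span {ξ} ≠ ⊤ ∧
      ∀ r ∈ maximalIdeal R, ∃ b : B₀, algebraMap R (FractionRing R) r = (b : FractionRing R) * ξ := by
  let L := FractionRing R
  have hinj : Function.Injective (algebraMap R L) := IsFractionRing.injective R L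
  obtain ⟨V₀, hV₀⟩ := (LocalSubring.range (algebraMap R L)).exists_le_valuationSubring
  rw [le_toLocalSubring_iff] at hV₀
  have hV₀mem : ∀ r : R, algebraMap R L r ∈ V₀ := fun r => hV₀.1 ⟨r, rfl⟩
  have hV₀m : ∀ r ∈ maximalIdeal R, algebraMap R L r ∈ V₀.nonunits := by
    intro r hr
    apply hV₀.2 ⟨algebraMap R L r, ⟨r, rfl⟩⟩
    rw [mem_maximalIdeal, mem_nonunits_iff]
    intro hu
    obtain ⟨⟨_, r', rfl⟩, hr'⟩ := isUnit_iff_exists_inv.mp hu
    have h1 : algebraMap R L (r * r') = algebraMap R L 1 := by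
      rw [map_mul, map_one]; exact congrArg Subtype.val hr'
    have h2 : r * r' = 1 := hinj h1
    exact (mem_maximalIdeal r).mp hr (IsUnit.of_mul_eq_one _ h2)
  obtain ⟨G, hG⟩ := (isNoetherianRing_iff_ideal_fg R).mp inferInstance (maximalIdeal R)
  have hm : maximalIdeal R ≠ ⊥ := fun h => hR (IsLocalRing.isField_iff_maximalIdeal_eq.mpr h)
  have hG' : (G.filter (· ≠ 0)).Nonempty := by
    by_contra hne
    rw [Finset.not_nonempty_iff_eq_empty, Finset.filter_eq_empty_iff] at hne
    apply hm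
    rw [← hG, Submodule.span_eq_bot]
    intro x hx
    exact not_not.mp (hne hx)
  obtain ⟨x, hxG, hxmax⟩ :=
    Finset.exists_max_image _ (fun g => V₀.valuation (algebraMap R L g)) hG'
  have hx0 : x ≠ 0 := (Finset.mem_filter.mp hxG).2
  have hxm : x ∈ maximalIdeal R := hG ▸ Submodule.subset_span (Finset.mem_filter.mp hxG).1
  set ξ := algebraMap R L x with hξdef
  have hξ0 : ξ ≠ 0 := by
    rw [hξdef, ← map_zero (algebraMap R L)]; exact hinj.ne hx0
  have hdiv : ∀ g ∈ G, algebraMap R L g / ξ ∈ V₀ := by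
    intro g hg
    by_cases hg0 : g = 0
    · simp [hg0, V₀.zero_mem]
    · rw [← V₀.valuation_le_one_iff, map_div₀]
      have hpos : 0 < V₀.valuation ξ := zero_lt_iff.mpr ((map_ne_zero _).mpr hξ0)
      rw [div_le_one₀ hpos]
      exact hxmax g (Finset.mem_filter.mpr ⟨hg, hg0⟩)
  let Γ : Set L := (fun g => algebraMap R L g / ξ) '' (G : Set R)
  have hΓfin : Γ.Finite := G.finite_toSet.image _
  have hΓV : Γ ⊆ V₀ := by
    rintro z ⟨g, hg, rfl⟩
    exact hdiv g hg
  let B₀ : Subalgebra R L := Algebra.adjoin R Γ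
  have hB₀fg : B₀.FG := ⟨hΓfin.toFinset, by simp [B₀]⟩
  let V₀alg : Subalgebra R L :=
    { V₀.toSubring.toSubsemiring with algebraMap_mem' := hV₀mem }
  have hB₀V : B₀ ≤ V₀alg := Algebra.adjoin_le hΓV
  let ξB : B₀ := ⟨ξ, B₀.algebraMap_mem x⟩
  have hξB0 : ξB ≠ 0 := fun h => hξ0 (congrArg Subtype.val h)
  have hξB : Ideal.span {ξB} ≠ ⊤ := by
    intro h
    obtain ⟨b, hb⟩ := Ideal.mem_span_singleton'.mp
      (h ▸ Submodule.mem_top : (1 : B₀) ∈ Ideal.span {ξB})
    have h1 : (b : L) * ξ = 1 := congrArg Subtype.val hb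
    have h2 := mul_mem_nonunits V₀ (hB₀V b.2) (hV₀m x hxm)
    rw [h1, ValuationSubring.mem_nonunits_iff, map_one] at h2
    exact lt_irrefl _ h2
  refine ⟨B₀, ξB, hB₀fg, hξB0, hξB, fun r hr => ?_⟩
  have key : ∃ b ∈ B₀, algebraMap R L r = b * ξ := by
    rw [← hG] at hr
    induction hr using Submodule.span_induction with
    | mem g hg =>
      refine ⟨algebraMap R L g / ξ, Algebra.subset_adjoin ⟨g, hg, rfl⟩, ?_⟩
      exact (div_mul_cancel₀ _ hξ0).symm
    | zero => exact ⟨0, B₀.zero_mem, by simp⟩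
    | add a b _ _ ha hb =>
      obtain ⟨a', ha', h1⟩ := ha
      obtain ⟨b', hb', h2⟩ := hb
      exact ⟨a' + b', B₀.add_mem ha' hb', by rw [map_add, h1, h2, add_mul]⟩
    | smul c a _ ha =>
      obtain ⟨a', ha', h1⟩ := ha
      exact ⟨algebraMap R L c * a', B₀.mul_mem (B₀.algebraMap_mem c) ha', by
        rw [smul_eq_mul, map_mul, h1, mul_assoc]⟩
  obtain ⟨b, hb, hrb⟩ := key
  exact ⟨⟨b, hb⟩, hrb⟩

theorem exists_dimOne (hR : ¬ IsField R) :
    ∃ R' : Subalgebra R (FractionRing R), ∃ _ : IsLocalRing R',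
      IsNoetherianRing R' ∧ ringKrullDim R' = 1 ∧ IsLocalHom (algebraMap R R') ∧
        Algebra.EssFiniteType R R' := by
  obtain ⟨B₀, ξ, hfg, hξ0, hξ, hm⟩ := exists_chart hR
  let L := FractionRing R
  have hft : Algebra.FiniteType R B₀ := (Subalgebra.fg_iff_finiteType B₀).mp hfg
  have hB₀N : IsNoetherianRing B₀ := Algebra.FiniteType.isNoetherianRing R B₀
  let B : Subring L := B₀.toSubring
  have hBN : IsNoetherianRing B := hB₀N
  let ξB : B := ξ
  have hξB : Ideal.span {ξB} ≠ ⊤ := hξ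
  obtain ⟨⟨q, hq⟩⟩ := Ideal.nonempty_minimalPrimes hξB
  have hqp : q.IsPrime := hq.isPrime
  have hξq : ξB ∈ q := hq.1.2 (Ideal.mem_span_singleton_self ξB)
  have hht : q.height ≤ 1 := Ideal.height_le_one_of_isPrincipal_of_mem_minimalPrimes _ q hq
  have hq0 : q ≠ ⊥ := by
    intro h
    rw [h, Ideal.mem_bot] at hξq
    exact hξ0 hξq
  have hht1 : q.height = 1 := by
    refine le_antisymm hht ?_
    rw [Order.one_le_iff_ne_zero, Ne, Ideal.height_eq_zero_iff,
      IsDomain.minimalPrimes_eq_singleton_bot]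
    exact hq0
  let R'L := LocalSubring.ofPrime B q
  have hBR' : B ≤ R'L.toSubring := LocalSubring.le_ofPrime B q
  have hloc : IsLocalization q.primeCompl R'L.toSubring :=
    inferInstanceAs (IsLocalization.AtPrime (LocalSubring.ofPrime B q).toSubring q)
  have hN : IsNoetherianRing R'L.toSubring :=
    IsLocalization.isNoetherianRing q.primeCompl R'L.toSubring inferInstance
  have hdim : ringKrullDim R'L.toSubring = 1 := by
    rw [IsLocalization.AtPrime.ringKrullDim_eq_height q R'L.toSubring, hht1]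
    rfl
  let S : Subalgebra R L :=
    { R'L.toSubring.toSubsemiring with
      algebraMap_mem' := fun r => hBR' (B₀.algebraMap_mem r) }
  let e : R'L.toSubring ≃+* S :=
    { toFun := fun x => ⟨x.1, x.2⟩
      invFun := fun x => ⟨x.1, x.2⟩
      left_inv := fun _ => rfl
      right_inv := fun _ => rfl
      map_mul' := fun _ _ => rfl
      map_add' := fun _ _ => rfl }
  haveI hSloc : IsLocalRing S := e.isLocalRing
  refine ⟨S, hSloc, isNoetherianRing_of_ringEquiv _ e, ?_, ?_, ?_⟩
  · rw [← ringKrullDim_eq_of_ringEquiv e, hdim]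
  · refine ⟨fun r hr => ?_⟩
    by_contra hnu
    have hrm : r ∈ maximalIdeal R := (mem_maximalIdeal r).mpr hnu
    obtain ⟨b, hb⟩ := hm r hrm
    have h1 : (e.symm (algebraMap R S r)) = algebraMap B R'L.toSubring ((b : B) * ξB) := by
      apply Subtype.ext
      exact hb
    have h2 : algebraMap B R'L.toSubring ((b : B) * ξB) ∈ maximalIdeal R'L.toSubring :=
      (IsLocalization.AtPrime.to_map_mem_maximal_iff R'L.toSubring q _).mpr
        (q.mul_mem_left _ hξq)
    rw [← h1] at h2
    exact (mem_maximalIdeal _).mp h2 (hr.map e.symm)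
  · letI : Algebra B₀ S := inferInstanceAs (Algebra B R'L.toSubring)
    haveI : IsScalarTower R B₀ S := IsScalarTower.of_algebraMap_eq fun _ => rfl
    haveI : IsLocalization q.primeCompl S := hloc
    haveI : Algebra.EssFiniteType B₀ S := Algebra.EssFiniteType.of_isLocalization S q.primeCompl
    exact Algebra.EssFiniteType.comp R B₀ S

end Groth.Agent.Lib.Seat62.DimOneDom
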