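import Mathlib

/-!
# Fibres of the closure of a point (seat 62)

* `isIntegral_of_isPreimmersion`: a preimmersion `P ⟶ Z` into an integral scheme whose source has a
  dense point over the generic point of `Z` has integral source (stalk maps are bijective).
* `isIntegral_of_range_eq_closure`: a reduced closed subscheme supported on the closure of a point
  is integral with generic point that point.
-/

open AlgebraicGeometry CategoryTheory CategoryTheory.Limits

universe u

namespace Groth.Agent.Lib.Seat62.FibClosure

/-- a space with a dense point is irreducible -/
theorem irreducibleSpace_of_closure_singleton {T : Type*} [TopologicalSpace T] (p : T)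
    (h : closure {p} = Set.univ) : IrreducibleSpace T := by
  have h1 : IsIrreducible (Set.univ : Set T) := by
    rw [← h]
    exact isIrreducible_singleton.closure
  haveI : PreirreducibleSpace T := ⟨h1.isPreirreducible⟩
  exact ⟨⟨p⟩⟩

/-- stalks at the generic point of an integral scheme. -/
theorem stalk_generic {Z : Scheme.{u}} [IsIntegral Z] (y x : Z) (hy : y = genericPoint Z)
    (h : y ⤳ x) :
    Function.Injective (Z.presheaf.stalkSpecializes h).hom ∧ IsField (Z.presheaf.stalk y) := by
  subst hy
  exact ⟨IsFractionRing.injective (Z.presheaf.stalk x) Z.functionField,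
    Field.toIsField Z.functionField⟩

/-- A preimmersion into an integral scheme whose source has a dense point lying over the
generic point has integral source. -/
theorem isIntegral_of_isPreimmersion {P Z : Scheme.{u}} (j : P ⟶ Z) [IsPreimmersion j]
    [IsIntegral Z] (ζ' : P) (hζ' : closure {ζ'} = Set.univ) (hj : j ζ' = genericPoint Z) :
    IsIntegral P := by
  haveI : IrreducibleSpace P := irreducibleSpace_of_closure_singleton ζ' hζ'
  haveI : ∀ q : P, _root_.IsReduced (P.presheaf.stalk q) := by
    intro q
    have hq : ζ' ⤳ q := by
      rw [specializes_iff_mem_closure, hζ']; trivial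
    have hjq : j ζ' ⤳ j q := j.base.hom.map_specializes hq
    obtain ⟨hinj, hfield⟩ := stalk_generic (j ζ') (j q) hj hjq
    have hsq := j.stalkSpecializes_stalkMap ζ' q hq
    -- injectivity of the stalk map at ζ'
    have hinj' : Function.Injective (j.stalkMap ζ').hom := by
      rw [injective_iff_map_eq_zero]
      intro a ha
      by_contra hne
      obtain ⟨b, hb⟩ := hfield.mul_inv_cancel hne
      have := congrArg (j.stalkMap ζ').hom hb
      rw [map_mul, ha, zero_mul, map_one] at this
      exact zero_ne_one this
    have hinjq : Function.Injective (j.stalkMap q).hom := by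
      rw [injective_iff_map_eq_zero]
      intro a ha
      apply hinj
      apply hinj'
      have h1 := congrArg (fun φ => φ.hom a) hsq
      simp only [CommRingCat.hom_comp, RingHom.comp_apply] at h1
      rw [h1, ha, map_zero, map_zero, map_zero]
    have hbij : Function.Bijective (j.stalkMap q).hom := ⟨hinjq, j.stalkMap_surjective q⟩
    let e := RingEquiv.ofBijective (j.stalkMap q).hom hbij
    exact isReduced_of_injective e.symm.toRingHom e.symm.injective
  haveI : IsReduced P := isReduced_of_isReduced_stalk P
  exact isIntegral_of_irreducibleSpace_of_isReduced P


/-- A reduced scheme mapping by a closed immersion onto the closure of a point is integral, and its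
generic point maps to that point. -/
theorem isIntegral_of_range_eq_closure {X Z : Scheme.{u}} (ι : Z ⟶ X) [IsClosedImmersion ι]
    [IsReduced Z] (z : X) (hZ : Set.range ι = closure {z}) :
    ∃ (_ : IsIntegral Z), ι (genericPoint Z) = z := by
  have hz : z ∈ Set.range ι := by rw [hZ]; exact subset_closure rfl
  obtain ⟨ζ, hζ⟩ := hz
  have hcl : closure {ζ} = Set.univ := by
    rw [ι.isClosedEmbedding.isEmbedding.isInducing.closure_eq_preimage_closure_image,
      Set.image_singleton, hζ, ← hZ]
    exact Set.preimage_range _
  haveI : IrreducibleSpace Z := irreducibleSpace_of_closure_singleton ζ hcl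
  haveI : IsIntegral Z := isIntegral_of_irreducibleSpace_of_isReduced Z
  refine ⟨inferInstance, ?_⟩
  have h1 : IsGenericPoint ζ (⊤ : Set Z) := hcl
  rw [(genericPoint_spec Z).eq h1, hζ]

end Groth.Agent.Lib.Seat62.FibClosure
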