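import Mathlib

/-!
# Semisimple modules over an algebra over a field are determined by Hom-multiplicities (helper62)

For a `k`-algebra `R` and semisimple `R`-modules `X`, `Y`, finite-dimensional over `k`:
if `dim_k Hom_R(T, X) = dim_k Hom_R(T, Y)` for all simple `T`, then `X ≃ Y`.
Consequence: `X^n ≃ Y^n` with `n > 0` implies `X ≃ Y`.
-/

set_option autoImplicit false
set_option linter.style.haveILetI false
set_option linter.unusedSectionVars false
universe u v w

namespace Groth.Agent.Lib.Seat62.SSMult

open Module

variable {k : Type u} {R : Type v} [Field k] [Ring R] [Algebra k R]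

section Hom

variable (T : Type w) [AddCommGroup T] [Module R T] [Module k T] [IsScalarTower k R T]
variable (X : Type w) [AddCommGroup X] [Module R X] [Module k X] [IsScalarTower k R X]
variable (X' : Type w) [AddCommGroup X'] [Module R X'] [Module k X'] [IsScalarTower k R X']

theorem finite_hom [FiniteDimensional k T] [FiniteDimensional k X] :
    Module.Finite k (T →ₗ[R] X) :=
  Module.Finite.of_injective
    (LinearMap.restrictScalarsₗ (R := k) (S := R) (M := T) (N := X) (R₁ := k))
    (LinearMap.restrictScalars_injective k)

omit [IsScalarTower k R T] [Module k T] in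
theorem finite_submodule [FiniteDimensional k X] (S : Submodule R X) : FiniteDimensional k S :=
  Module.Finite.of_injective (S.subtype.restrictScalars k) S.subtype_injective

variable {X X'} in
/-- Postcomposition with an `R`-linear equivalence, as a `k`-linear equivalence of Hom spaces. -/
noncomputable def homCongr (e : X ≃ₗ[R] X') : (T →ₗ[R] X) ≃ₗ[k] (T →ₗ[R] X') where
  toFun f := e.toLinearMap ∘ₗ f
  invFun g := e.symm.toLinearMap ∘ₗ g
  map_add' f g := LinearMap.comp_add _ _ _
  map_smul' c f := by
    ext t
    simp only [LinearMap.comp_apply, LinearMap.smul_apply, LinearEquiv.coe_coe, RingHom.id_apply]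
    exact e.toLinearMap.map_smul_of_tower c (f t)
  left_inv f := by ext t; simp
  right_inv g := by ext t; simp

variable {X X'} in
theorem finrank_hom_congr (e : X ≃ₗ[R] X') :
    finrank k (T →ₗ[R] X) = finrank k (T →ₗ[R] X') :=
  (homCongr T e).finrank_eq

theorem finrank_hom_prod [FiniteDimensional k T] [FiniteDimensional k X] [FiniteDimensional k X'] :
    finrank k (T →ₗ[R] (X × X')) = finrank k (T →ₗ[R] X) + finrank k (T →ₗ[R] X') := by
  haveI := finite_hom (k := k) (R := R) T X
  haveI := finite_hom (k := k) (R := R) T X'
  rw [← (LinearMap.prodEquiv k (R := R) (M := T) (M₂ := X) (M₃ := X')).finrank_eq,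
    Module.finrank_prod]

/-- `Hom(T, X^n) ≃ Hom(T, X)^n`. -/
noncomputable def homPi (n : ℕ) : (T →ₗ[R] (Fin n → X)) ≃ₗ[k] (Fin n → (T →ₗ[R] X)) where
  toFun f i := (LinearMap.proj i) ∘ₗ f
  invFun g := LinearMap.pi g
  map_add' f g := by ext i t; rfl
  map_smul' c f := by ext i t; rfl
  left_inv f := by ext t i; rfl
  right_inv g := by ext i t; rfl

theorem finrank_hom_pi [FiniteDimensional k T] [FiniteDimensional k X] (n : ℕ) :
    finrank k (T →ₗ[R] (Fin n → X)) = n * finrank k (T →ₗ[R] X) := by
  haveI := finite_hom (k := k) (R := R) T X
  rw [(homPi (k := k) T X n).finrank_eq, Module.finrank_pi_fintype, Finset.sum_const,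
    Finset.card_univ, Fintype.card_fin, smul_eq_mul]

end Hom

section Main

/-- Semisimple modules with the same Hom-multiplicities from all simple modules are isomorphic. -/
theorem nonempty_linearEquiv_of_finrank_hom_eq (d : ℕ) :
    ∀ (X Y : Type w) [AddCommGroup X] [Module R X] [Module k X] [IsScalarTower k R X]
      [FiniteDimensional k X] [IsSemisimpleModule R X]
      [AddCommGroup Y] [Module R Y] [Module k Y] [IsScalarTower k R Y]
      [FiniteDimensional k Y] [IsSemisimpleModule R Y],
      finrank k X ≤ d →
      (∀ (T : Type w) [AddCommGroup T] [Module R T] [Module k T] [IsScalarTower k R T]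
        [FiniteDimensional k T] [IsSimpleModule R T],
        finrank k (T →ₗ[R] X) = finrank k (T →ₗ[R] Y)) → Nonempty (X ≃ₗ[R] Y) := by
  induction d with
  | zero =>
    intro X Y _ _ _ _ _ _ _ _ _ _ _ _ hd hXY
    have hX : Subsingleton X := by
      have h0 : finrank k X = 0 := Nat.le_zero.mp hd
      exact Module.finrank_zero_iff.mp h0
    have hY : Subsingleton Y := by
      by_contra hne
      rw [not_subsingleton_iff_nontrivial] at hne
      obtain ⟨T, hT⟩ := IsSemisimpleModule.exists_simple_submodule R Y
      haveI := finite_submodule (k := k) Y T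
      have h1 := hXY T
      haveI := finite_hom (k := k) (R := R) T Y
      have h2 : finrank k (T →ₗ[R] X) = 0 := by
        haveI : Subsingleton (T →ₗ[R] X) := ⟨fun f g => by ext t; exact Subsingleton.elim _ _⟩
        exact Module.finrank_zero_of_subsingleton
      have h3 : 0 < finrank k (T →ₗ[R] Y) := by
        rw [Module.finrank_pos_iff]
        refine ⟨⟨T.subtype, 0, fun h => ?_⟩⟩
        have := IsSimpleModule.nontrivial R T
        obtain ⟨t, ht⟩ := exists_ne (0 : T)
        apply ht
        apply T.subtype_injective
        rw [h, LinearMap.zero_apply, map_zero]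
      omega
    exact ⟨{ toFun := fun _ => 0
             invFun := fun _ => 0
             map_add' := fun _ _ => Subsingleton.elim _ _
             map_smul' := fun _ _ => Subsingleton.elim _ _
             left_inv := fun _ => Subsingleton.elim _ _
             right_inv := fun _ => Subsingleton.elim _ _ }⟩
  | succ d ih =>
    intro X Y _ _ _ _ _ _ _ _ _ _ _ _ hd hXY
    by_cases hXs : Subsingleton X
    · have h0 : finrank k X ≤ 0 := by
        rw [Module.finrank_zero_of_subsingleton]
      -- reduce to the zero case, re-proved inline
      have hY : Subsingleton Y := by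
        by_contra hne
        rw [not_subsingleton_iff_nontrivial] at hne
        obtain ⟨T, hT⟩ := IsSemisimpleModule.exists_simple_submodule R Y
        haveI := finite_submodule (k := k) Y T
        have h1 := hXY T
        haveI := finite_hom (k := k) (R := R) T Y
        have h2 : finrank k (T →ₗ[R] X) = 0 := by
          haveI : Subsingleton (T →ₗ[R] X) := ⟨fun f g => by ext t; exact Subsingleton.elim _ _⟩
          exact Module.finrank_zero_of_subsingleton
        have h3 : 0 < finrank k (T →ₗ[R] Y) := by
          rw [Module.finrank_pos_iff]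
          refine ⟨⟨T.subtype, 0, fun h => ?_⟩⟩
          have := IsSimpleModule.nontrivial R T
          obtain ⟨t, ht⟩ := exists_ne (0 : T)
          apply ht
          apply T.subtype_injective
          rw [h, LinearMap.zero_apply, map_zero]
        omega
      exact ⟨{ toFun := fun _ => 0
               invFun := fun _ => 0
               map_add' := fun _ _ => Subsingleton.elim _ _
               map_smul' := fun _ _ => Subsingleton.elim _ _
               left_inv := fun _ => Subsingleton.elim _ _
               right_inv := fun _ => Subsingleton.elim _ _ }⟩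
    · rw [not_subsingleton_iff_nontrivial] at hXs
      obtain ⟨S, hS⟩ := IsSemisimpleModule.exists_simple_submodule R X
      obtain ⟨S', hSS'⟩ := exists_isCompl S
      haveI := finite_submodule (k := k) X S
      haveI := finite_submodule (k := k) X S'
      let eX : (S × S') ≃ₗ[R] X := Submodule.prodEquivOfIsCompl S S' hSS'
      -- nonzero map S → Y
      haveI := finite_hom (k := k) (R := R) S X
      haveI := finite_hom (k := k) (R := R) S Y
      have h3 : 0 < finrank k (S →ₗ[R] X) := by
        rw [Module.finrank_pos_iff]
        refine ⟨⟨S.subtype, 0, fun h => ?_⟩⟩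
        have := IsSimpleModule.nontrivial R S
        obtain ⟨t, ht⟩ := exists_ne (0 : S)
        apply ht
        apply S.subtype_injective
        rw [h, LinearMap.zero_apply, map_zero]
      have h4 : 0 < finrank k (S →ₗ[R] Y) := by rw [← hXY S]; exact h3
      rw [Module.finrank_pos_iff] at h4
      obtain ⟨f, hf⟩ := exists_ne (0 : S →ₗ[R] Y)
      have hfinj : Function.Injective f := LinearMap.injective_of_ne_zero hf
      let S₂ : Submodule R Y := LinearMap.range f
      let eS : S ≃ₗ[R] S₂ := LinearEquiv.ofInjective f hfinj
      obtain ⟨Y', hSY'⟩ := exists_isCompl S₂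
      haveI := finite_submodule (k := k) Y Y'
      let eY : (S₂ × Y') ≃ₗ[R] Y := Submodule.prodEquivOfIsCompl S₂ Y' hSY'
      let eY2 : (S × Y') ≃ₗ[R] Y := (LinearEquiv.prodCongr eS (LinearEquiv.refl R Y')).trans eY
      -- multiplicities of the complements agree
      have hmult : ∀ (T : Type w) [AddCommGroup T] [Module R T] [Module k T] [IsScalarTower k R T]
          [FiniteDimensional k T] [IsSimpleModule R T],
          finrank k (T →ₗ[R] S') = finrank k (T →ₗ[R] Y') := by
        intro T _ _ _ _ _ _
        have h1 := hXY T
        rw [← finrank_hom_congr T eX, ← finrank_hom_congr T eY2, finrank_hom_prod,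
          finrank_hom_prod] at h1
        omega
      have hlt : finrank k S' ≤ d := by
        have h5 : finrank k (S × S') = finrank k X := LinearEquiv.finrank_eq
          (eX.restrictScalars k)
        rw [Module.finrank_prod] at h5
        have h6 : 0 < finrank k S := by
          have := IsSimpleModule.nontrivial R S
          exact Module.finrank_pos
        omega
      obtain ⟨e'⟩ := ih S' Y' hlt hmult
      exact ⟨eX.symm.trans ((LinearEquiv.prodCongr (LinearEquiv.refl R S) e').trans eY2)⟩

/-- `X^n ≃ Y^n` with `n > 0` implies `X ≃ Y` for semisimple modules finite-dimensional over `k`. -/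
theorem nonempty_linearEquiv_of_pi (n : ℕ) (hn : 0 < n)
    (X Y : Type w) [AddCommGroup X] [Module R X] [Module k X] [IsScalarTower k R X]
    [FiniteDimensional k X] [IsSemisimpleModule R X]
    [AddCommGroup Y] [Module R Y] [Module k Y] [IsScalarTower k R Y]
    [FiniteDimensional k Y] [IsSemisimpleModule R Y]
    (e : (Fin n → X) ≃ₗ[R] (Fin n → Y)) : Nonempty (X ≃ₗ[R] Y) := by
  refine nonempty_linearEquiv_of_finrank_hom_eq (k := k) (finrank k X) X Y le_rfl ?_
  intro T _ _ _ _ _ _
  have h1 := finrank_hom_congr (k := k) T e
  rw [finrank_hom_pi, finrank_hom_pi] at h1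
  exact Nat.eq_of_mul_eq_mul_left hn h1

end Main

end Groth.Agent.Lib.Seat62.SSMult
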