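import Mathlib
import Groth.Prelude.Def_GSzCSA
import Groth.Prelude.Def_GalDesc
import Groth.Agent.Lib.Helper23GalDescent
import Groth.Agent.Lib.Seat62SSMult

/-!
# `H¹(G, (K ⊗ A)ˣ)` is trivial for a semisimple finite-dimensional algebra `A` (helper62)

Galois descent for the twisted action `x ↦ σ(x) a_σ⁻¹`, which commutes with left multiplication by
`1 ⊗ A`; the fixed points `M` satisfy `M^n ≃ K ⊗ A ≃ A^n` as left `A`-modules, hence `M ≃ A` by
semisimplicity, and a generator of `M` is a unit `m` with `a_σ = m⁻¹ σ(m)`.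
-/

set_option autoImplicit false
set_option linter.style.haveILetI false
set_option linter.unusedSectionVars false
universe u v w

namespace Groth.Agent.Lib.Seat62.H1SS

open scoped TensorProduct
open Groth.Agent.Lib.Helper23
attribute [local instance] CSAGal.tensorAction GpH1.unitsAction

variable (k : Type u) (K : Type v) [Field k] [Field K] [Algebra k K]
variable (A : Type w) [Ring A] [Algebra k A]

/-- The left `A`-module structure on `K ⊗ A` through `a ↦ 1 ⊗ a`. -/
@[reducible] noncomputable def modA : Module A (K ⊗[k] A) :=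
  Module.compHom (K ⊗[k] A) (Algebra.TensorProduct.includeRight : A →ₐ[k] K ⊗[k] A).toRingHom

attribute [local instance] modA

theorem smul_def (a : A) (x : K ⊗[k] A) : a • x = ((1 : K) ⊗ₜ[k] a) * x := rfl

instance : IsScalarTower k A (K ⊗[k] A) :=
  ⟨fun c a x => by
    rw [smul_def, smul_def, TensorProduct.tmul_smul, smul_mul_assoc]⟩

instance : SMulCommClass K A (K ⊗[k] A) :=
  ⟨fun t a x => by rw [smul_def, smul_def, mul_smul_comm]⟩

theorem gal_smul_smul (σ : K ≃ₐ[k] K) (a : A) (x : K ⊗[k] A) : σ • (a • x) = a • (σ • x) := by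
  rw [smul_def, smul_def, smul_mul', TensorProduct.smul_tmul', AlgEquiv.smul_def, map_one]

variable {k K A}

/-- The twisted action attached to a cocycle. -/
noncomputable def ρ (a : GpH1.OneCocycle (K ≃ₐ[k] K) (K ⊗[k] A)ˣ) (σ : K ≃ₐ[k] K)
    (x : K ⊗[k] A) : K ⊗[k] A :=
  σ • x * (((a σ)⁻¹ : (K ⊗[k] A)ˣ) : K ⊗[k] A)

theorem cocycle_one (a : GpH1.OneCocycle (K ≃ₐ[k] K) (K ⊗[k] A)ˣ) : a 1 = 1 := by
  have h := a.2 1 1
  rw [one_smul, mul_one] at h
  exact (mul_eq_left.mp h.symm)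

theorem isSemilinearAction_ρ (a : GpH1.OneCocycle (K ≃ₐ[k] K) (K ⊗[k] A)ˣ) :
    IsSemilinearAction (ρ a) := by
  refine ⟨fun σ x y => ?_, fun σ c x => ?_, fun σ τ x => ?_, fun x => ?_⟩
  · simp only [ρ, smul_add, add_mul]
  · simp only [ρ]
    rw [smul_distrib_smul σ c x, smul_mul_assoc, AlgEquiv.smul_def]
  · simp only [ρ]
    rw [a.2 σ τ, mul_inv_rev, Units.val_mul, smul_mul', mul_smul, mul_assoc, ← smul_inv']
    rfl
  · simp only [ρ]
    rw [cocycle_one, one_smul, inv_one, Units.val_one, mul_one]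

theorem ρ_smul (a : GpH1.OneCocycle (K ≃ₐ[k] K) (K ⊗[k] A)ˣ) (σ : K ≃ₐ[k] K) (b : A)
    (x : K ⊗[k] A) : ρ a σ (b • x) = b • ρ a σ x := by
  simp only [ρ]
  rw [gal_smul_smul, smul_def, smul_def, mul_assoc]

/-- The fixed points of the twisted action, as an `A`-submodule. -/
noncomputable def fixedSub (a : GpH1.OneCocycle (K ≃ₐ[k] K) (K ⊗[k] A)ˣ) :
    Submodule A (K ⊗[k] A) where
  carrier := {x | ∀ σ, ρ a σ x = x}
  add_mem' := fun {x y} hx hy σ => by rw [(isSemilinearAction_ρ a).map_add, hx σ, hy σ]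
  zero_mem' := fun σ => (isSemilinearAction_ρ a).map_zero σ
  smul_mem' := fun b x hx σ => by rw [ρ_smul, hx σ]

theorem mem_fixedSub (a : GpH1.OneCocycle (K ≃ₐ[k] K) (K ⊗[k] A)ˣ) (x : K ⊗[k] A) :
    x ∈ fixedSub a ↔ ∀ σ, ρ a σ x = x := Iff.rfl

variable [FiniteDimensional k K] [IsGalois k K]

/-- `M^n → K ⊗ A`, `(m_i) ↦ ∑ b_i • m_i`. -/
noncomputable def ΦM (a : GpH1.OneCocycle (K ≃ₐ[k] K) (K ⊗[k] A)ˣ) :
    (Fin (Module.finrank k K) → fixedSub a) →ₗ[A] K ⊗[k] A where
  toFun g := ∑ i, Module.finBasis k K i • ((g i : fixedSub a) : K ⊗[k] A)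
  map_add' g g' := by
    simp only [Pi.add_apply, Submodule.coe_add, smul_add, Finset.sum_add_distrib]
  map_smul' b g := by
    simp only [Pi.smul_apply, Submodule.coe_smul, RingHom.id_apply, Finset.smul_sum]
    refine Finset.sum_congr rfl fun i _ => ?_
    rw [smul_comm]

theorem ΦM_bijective (a : GpH1.OneCocycle (K ≃ₐ[k] K) (K ⊗[k] A)ˣ) :
    Function.Bijective (ΦM a) := by
  classical
  have hρ := isSemilinearAction_ρ a
  constructor
  · rw [injective_iff_map_eq_zero]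
    intro g hg
    have h0 := hρ.eq_zero_of_sum_basis_smul (Module.finBasis k K)
      (fun i => ((g i : fixedSub a) : K ⊗[k] A)) (fun j σ => (g j).2 σ) hg
    funext i
    exact Subtype.ext (h0 i)
  · intro x
    let ι : fixedSub a →ₗ[k] K ⊗[k] A := (fixedSub a).subtype.restrictScalars k
    have hι : Function.Injective ι := (fixedSub a).subtype_injective
    have hW : ∀ x : K ⊗[k] A, x ∈ LinearMap.range ι ↔ ∀ σ, ρ a σ x = x := by
      intro x
      constructor
      · rintro ⟨y, rfl⟩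
        exact y.2
      · intro hx
        exact ⟨⟨x, hx⟩, rfl⟩
    obtain ⟨z, hz⟩ := (hρ.bijective_liftBaseChange ι hι hW).2 x
    obtain ⟨f, rfl⟩ : ∃ f : Fin (Module.finrank k K) →₀ fixedSub a,
        z = (TensorProduct.equivFinsuppOfBasisLeft (Module.finBasis k K)).symm f :=
      ⟨TensorProduct.equivFinsuppOfBasisLeft (Module.finBasis k K) z,
        (LinearEquiv.symm_apply_apply _ z).symm⟩
    rw [TensorProduct.equivFinsuppOfBasisLeft_symm_apply, map_finsuppSum] at hz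
    simp only [LinearMap.liftBaseChange_tmul] at hz
    rw [Finsupp.sum_fintype _ _ (fun i => by simp)] at hz
    exact ⟨fun i => f i, hz⟩

/-- `A^n → K ⊗ A`, `(a_i) ↦ ∑ b_i ⊗ a_i`. -/
noncomputable def ΦA : (Fin (Module.finrank k K) → A) →ₗ[A] K ⊗[k] A where
  toFun g := ∑ i, Module.finBasis k K i ⊗ₜ[k] g i
  map_add' g g' := by
    simp only [Pi.add_apply, TensorProduct.tmul_add, Finset.sum_add_distrib]
  map_smul' b g := by
    simp only [Pi.smul_apply, RingHom.id_apply, Finset.smul_sum]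
    refine Finset.sum_congr rfl fun i _ => ?_
    rw [smul_def, Algebra.TensorProduct.tmul_mul_tmul, one_mul, smul_eq_mul]

theorem ΦA_bijective : Function.Bijective (ΦA (k := k) (K := K) (A := A)) := by
  classical
  have h : ∀ g : Fin (Module.finrank k K) → A, ΦA (k := k) (K := K) (A := A) g =
      (TensorProduct.equivFinsuppOfBasisLeft (Module.finBasis k K)).symm
        (Finsupp.equivFunOnFinite.symm g) := by
    intro g
    rw [TensorProduct.equivFinsuppOfBasisLeft_symm_apply,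
      Finsupp.sum_fintype _ _ (fun i => by simp)]
    rfl
  have h2 : (ΦA (k := k) (K := K) (A := A) : (Fin (Module.finrank k K) → A) → K ⊗[k] A) =
      (TensorProduct.equivFinsuppOfBasisLeft (Module.finBasis k K)).symm ∘
        (Finsupp.equivFunOnFinite.symm) := funext h
  rw [h2]
  exact (LinearEquiv.bijective _).comp (Equiv.bijective _)

variable [FiniteDimensional k A] [IsSemisimpleRing A]

/-- The semisimple case. -/
theorem exists_unit_of_cocycle (a : GpH1.OneCocycle (K ≃ₐ[k] K) (K ⊗[k] A)ˣ) :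
    ∃ c : (K ⊗[k] A)ˣ, ∀ σ : K ≃ₐ[k] K, a σ = c⁻¹ * σ • c := by
  classical
  have hn : 0 < Module.finrank k K := Module.finrank_pos
  let eM : (Fin (Module.finrank k K) → fixedSub a) ≃ₗ[A] K ⊗[k] A :=
    LinearEquiv.ofBijective (ΦM a) (ΦM_bijective a)
  let eA : (Fin (Module.finrank k K) → A) ≃ₗ[A] K ⊗[k] A :=
    LinearEquiv.ofBijective ΦA ΦA_bijective
  let eU : (Fin (Module.finrank k K) → ULift.{v} A) ≃ₗ[A] (Fin (Module.finrank k K) → A) :=
    LinearEquiv.piCongrRight (fun _ => ULift.moduleEquiv)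
  haveI : FiniteDimensional k (fixedSub a) := SSMult.finite_submodule (k := k) (K ⊗[k] A) (fixedSub a)
  obtain ⟨e⟩ := SSMult.nonempty_linearEquiv_of_pi (k := k) (R := A) (Module.finrank k K) hn
    (fixedSub a) (ULift.{v} A) (eM.trans (eA.symm.trans eU.symm))
  -- the generator
  let m : fixedSub a := e.symm ⟨1⟩
  have hgen : ∀ x : fixedSub a, ∃ b : A, (x : K ⊗[k] A) = b • (m : K ⊗[k] A) := by
    intro x
    refine ⟨(e x).down, ?_⟩
    have h1 : x = (e x).down • m := by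
      apply e.injective
      rw [map_smul, LinearEquiv.apply_symm_apply]
      apply ULift.ext
      rw [ULift.smul_down, smul_eq_mul, mul_one]
    exact congrArg (fun y : fixedSub a => (y : K ⊗[k] A)) h1
  -- `m` has a left inverse
  obtain ⟨g, hg⟩ := (ΦM_bijective a).2 1
  choose b hb using hgen
  have hinv : (∑ i, Module.finBasis k K i • ((1 : K) ⊗ₜ[k] b (g i))) * (m : K ⊗[k] A) = 1 := by
    rw [← hg, Finset.sum_mul]
    refine Finset.sum_congr rfl fun i _ => ?_
    rw [hb (g i), smul_def, smul_mul_assoc]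
  haveI : IsArtinianRing (K ⊗[k] A) := IsArtinianRing.of_finite K (K ⊗[k] A)
  have hunit : IsUnit (m : K ⊗[k] A) := IsUnit.of_mul_eq_one_right _ hinv
  refine ⟨hunit.unit, fun σ => ?_⟩
  have hfix : σ • (m : K ⊗[k] A) * (((a σ)⁻¹ : (K ⊗[k] A)ˣ) : K ⊗[k] A) = (m : K ⊗[k] A) := m.2 σ
  apply Units.ext
  have h2 : ((hunit.unit⁻¹ * σ • hunit.unit : (K ⊗[k] A)ˣ) : K ⊗[k] A) =
      ((hunit.unit⁻¹ : (K ⊗[k] A)ˣ) : K ⊗[k] A) * σ • (m : K ⊗[k] A) := rfl
  rw [h2]
  have h3 : σ • (m : K ⊗[k] A) = (m : K ⊗[k] A) * ((a σ : (K ⊗[k] A)ˣ) : K ⊗[k] A) := by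
    calc σ • (m : K ⊗[k] A) = (σ • (m : K ⊗[k] A) * (((a σ)⁻¹ : (K ⊗[k] A)ˣ) : K ⊗[k] A)) *
          ((a σ : (K ⊗[k] A)ˣ) : K ⊗[k] A) := by rw [mul_assoc, Units.inv_mul, mul_one]
      _ = _ := by rw [hfix]
  rw [h3, ← mul_assoc]
  have h4 : ((hunit.unit⁻¹ : (K ⊗[k] A)ˣ) : K ⊗[k] A) * (m : K ⊗[k] A) = 1 := by
    have := Units.inv_mul hunit.unit
    rwa [IsUnit.unit_spec] at this
  rw [h4, one_mul]

end Groth.Agent.Lib.Seat62.H1SS
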