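import Mathlib
import Groth.Prelude.Def_GSzH1

/-!
# Nonabelian `H¹` of units: reduction modulo a square-zero ideal (helper62)

If `π : B → B'` is a surjective equivariant ring homomorphism whose kernel has square zero and
vanishing additive `H¹`, then triviality of `H¹(G, B'ˣ)` implies triviality of `H¹(G, Bˣ)`.
-/

set_option autoImplicit false
universe u v w

namespace Groth.Agent.Lib.Seat62.H1Sq

attribute [local instance] GpH1.unitsAction

variable {G : Type u} {B : Type v} {B' : Type w} [Group G] [Ring B] [Ring B']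
  [MulSemiringAction G B] [MulSemiringAction G B']

/-- Units lift along a surjective ring homomorphism with square-zero kernel. -/
theorem exists_unit_lift (π : B →+* B') (hπ : Function.Surjective π)
    (hsq : ∀ x y : B, π x = 0 → π y = 0 → x * y = 0) (u : B'ˣ) :
    ∃ c : Bˣ, π (c : B) = (u : B') := by
  obtain ⟨c0, hc0⟩ := hπ (u : B')
  obtain ⟨d0, hd0⟩ := hπ ((u⁻¹ : B'ˣ) : B')
  have hn : π (c0 * d0 - 1) = 0 := by
    rw [map_sub, map_mul, map_one, hc0, hd0, Units.mul_inv, sub_self]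
  have hn' : π (d0 * c0 - 1) = 0 := by
    rw [map_sub, map_mul, map_one, hc0, hd0, Units.inv_mul, sub_self]
  have hr : c0 * (d0 * (1 - (c0 * d0 - 1))) = 1 := by
    have h := hsq _ _ hn hn
    have : c0 * (d0 * (1 - (c0 * d0 - 1))) = 1 - (c0 * d0 - 1) * (c0 * d0 - 1) := by
      noncomm_ring
    rw [this, h, sub_zero]
  have hl : ((1 - (d0 * c0 - 1)) * d0) * c0 = 1 := by
    have h := hsq _ _ hn' hn'
    have : ((1 - (d0 * c0 - 1)) * d0) * c0 = 1 - (d0 * c0 - 1) * (d0 * c0 - 1) := by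
      noncomm_ring
    rw [this, h, sub_zero]
  have hlr : (1 - (d0 * c0 - 1)) * d0 = d0 * (1 - (c0 * d0 - 1)) := by
    calc (1 - (d0 * c0 - 1)) * d0 = ((1 - (d0 * c0 - 1)) * d0) * (c0 * (d0 * (1 - (c0 * d0 - 1)))) := by
          rw [hr, mul_one]
      _ = (((1 - (d0 * c0 - 1)) * d0) * c0) * (d0 * (1 - (c0 * d0 - 1))) := by
          rw [mul_assoc, mul_assoc, mul_assoc]
      _ = d0 * (1 - (c0 * d0 - 1)) := by rw [hl, one_mul]
  exact ⟨⟨c0, d0 * (1 - (c0 * d0 - 1)), hr, by rw [← hlr]; exact hl⟩, hc0⟩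

theorem isTrivial_of_sqZero (π : B →+* B') (hπ : Function.Surjective π)
    (heq : ∀ (σ : G) (x : B), π (σ • x) = σ • π x)
    (hsq : ∀ x y : B, π x = 0 → π y = 0 → x * y = 0)
    (hadd : ∀ n : G → B, (∀ σ, π (n σ) = 0) → (∀ σ τ, n (σ * τ) = n σ + σ • n τ) →
      ∃ m : B, π m = 0 ∧ ∀ σ, n σ = σ • m - m)
    (h' : GpH1.H1.IsTrivial G B'ˣ) : GpH1.H1.IsTrivial G Bˣ := by
  intro x
  obtain ⟨a, rfl⟩ := GpH1.OneCocycle.cl_surjective x
  unfold GpH1.H1.pt
  rw [GpH1.OneCocycle.cl_eq_cl_iff]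
  -- the image cocycle
  have hmapsmul : ∀ (σ : G) (u : Bˣ), Units.map (π : B →* B') (σ • u) = σ • Units.map (π : B →* B') u := by
    intro σ u
    apply Units.ext
    exact heq σ (u : B)
  let abar : GpH1.OneCocycle G B'ˣ := a.map (Units.map (π : B →* B')) hmapsmul
  have habar : ∀ σ, abar σ = Units.map (π : B →* B') (a σ) := fun σ => rfl
  have h1 := h' abar.cl
  unfold GpH1.H1.pt at h1
  rw [GpH1.OneCocycle.cl_eq_cl_iff] at h1
  obtain ⟨cbar, hcbar⟩ := h1
  obtain ⟨c, hc⟩ := exists_unit_lift π hπ hsq cbar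
  have hcmap : Units.map (π : B →* B') c = cbar := Units.ext hc
  -- the modified cocycle
  let a' : G → Bˣ := fun σ => c * a σ * (σ • c)⁻¹
  have ha'coc : ∀ σ τ : G, a' (σ * τ) = a' σ * σ • a' τ := by
    intro σ τ
    simp only [a']
    rw [a.2 σ τ, smul_mul', smul_mul', smul_inv', mul_smul]
    group
  have ha'π : ∀ σ, π ((a' σ : Bˣ) : B) = 1 := by
    intro σ
    have h2 : Units.map (π : B →* B') (a' σ) = 1 := by
      simp only [a']
      rw [map_mul, map_mul, map_inv, hmapsmul, hcmap, ← habar, hcbar σ]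
      have : (GpH1.OneCocycle.trivial : GpH1.OneCocycle G B'ˣ) σ = 1 := rfl
      rw [this]
      group
    have h3 := congrArg (fun u : B'ˣ => (u : B')) h2
    exact h3
  let n : G → B := fun σ => ((a' σ : Bˣ) : B) - 1
  have hnπ : ∀ σ, π (n σ) = 0 := by
    intro σ
    simp only [n]
    rw [map_sub, ha'π, map_one, sub_self]
  have hnsmulπ : ∀ σ τ : G, π (σ • n τ) = 0 := by
    intro σ τ
    rw [heq, hnπ, smul_zero]
  have hval : ∀ σ, ((a' σ : Bˣ) : B) = 1 + n σ := fun σ => by simp only [n]; abel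
  have hncoc : ∀ σ τ : G, n (σ * τ) = n σ + σ • n τ := by
    intro σ τ
    have h2 : ((a' (σ * τ) : Bˣ) : B) = ((a' σ : Bˣ) : B) * σ • ((a' τ : Bˣ) : B) := by
      rw [ha'coc σ τ]
      rfl
    rw [hval, hval, hval, smul_add, smul_one] at h2
    have h3 := hsq _ _ (hnπ σ) (hnsmulπ σ τ)
    have h4 : (1 + n σ) * (1 + σ • n τ) = 1 + (n σ + σ • n τ) + n σ * σ • n τ := by
      noncomm_ring
    rw [h4, h3, add_zero] at h2
    exact add_left_cancel h2
  obtain ⟨m, hmπ, hm⟩ := hadd n hnπ hncoc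
  have hmm : m * m = 0 := hsq _ _ hmπ hmπ
  let e : Bˣ := ⟨1 + m, 1 - m, by
    have : (1 + m) * (1 - m) = 1 - m * m := by noncomm_ring
    rw [this, hmm, sub_zero], by
    have : (1 - m) * (1 + m) = 1 - m * m := by noncomm_ring
    rw [this, hmm, sub_zero]⟩
  have he : ∀ σ : G, a' σ = e⁻¹ * σ • e := by
    intro σ
    apply Units.ext
    have h2 : ((e⁻¹ * σ • e : Bˣ) : B) = (1 - m) * σ • (1 + m) := rfl
    rw [h2, hval, smul_add, smul_one, hm σ]
    have h3 : m * σ • m = 0 := hsq _ _ hmπ (by rw [heq, hmπ, smul_zero])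
    have h4 : (1 - m) * (1 + σ • m) = 1 + (σ • m - m) - m * σ • m := by noncomm_ring
    rw [h4, h3, sub_zero]
  refine ⟨e * c, fun σ => ?_⟩
  have h2 : (GpH1.OneCocycle.trivial : GpH1.OneCocycle G Bˣ) σ = 1 := rfl
  rw [h2, smul_mul']
  have h3 := he σ
  simp only [a'] at h3
  have h4 : a σ = c⁻¹ * (c * a σ * (σ • c)⁻¹) * σ • c := by group
  rw [h4, h3]
  group

end Groth.Agent.Lib.Seat62.H1Sq
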