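import Mathlib
import Groth.Prelude.Def_GSzCSA
import Groth.Prelude.Def_GalDesc
import Groth.Agent.Lib.Seat62H1SqZero

/-!
# `H¹(G, (K ⊗ A)ˣ)`: reduction modulo a square-zero ideal of `A` (helper62)
-/

set_option autoImplicit false
universe u v w w'

namespace Groth.Agent.Lib.Seat62.H1Tensor

open scoped TensorProduct
attribute [local instance] CSAGal.tensorAction GpH1.unitsAction

variable (k : Type u) (K : Type v) [Field k] [Field K] [Algebra k K]
variable {A : Type w} {A' : Type w'} [Ring A] [Algebra k A] [Ring A'] [Algebra k A']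

/-- The base change of `f` as a `K`-algebra map. -/
noncomputable abbrev bc (f : A →ₐ[k] A') : K ⊗[k] A →ₐ[K] K ⊗[k] A' :=
  Algebra.TensorProduct.map (AlgHom.id K K) f

theorem bc_tmul (f : A →ₐ[k] A') (t : K) (a : A) : bc k K f (t ⊗ₜ[k] a) = t ⊗ₜ[k] f a := by
  simp [bc]

theorem bc_surjective (f : A →ₐ[k] A') (hf : Function.Surjective f) :
    Function.Surjective (bc k K f) := by
  intro y
  induction y using TensorProduct.induction_on with
  | zero => exact ⟨0, map_zero _⟩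
  | tmul t a' =>
    obtain ⟨a, rfl⟩ := hf a'
    exact ⟨t ⊗ₜ[k] a, bc_tmul k K f t a⟩
  | add y y' hy hy' =>
    obtain ⟨x, rfl⟩ := hy
    obtain ⟨x', rfl⟩ := hy'
    exact ⟨x + x', map_add _ _ _⟩

theorem bc_smul (f : A →ₐ[k] A') (σ : K ≃ₐ[k] K) (x : K ⊗[k] A) :
    bc k K f (σ • x) = σ • bc k K f x := by
  induction x using TensorProduct.induction_on with
  | zero => rw [smul_zero, map_zero, smul_zero]
  | tmul t a => rw [TensorProduct.smul_tmul', bc_tmul, bc_tmul, TensorProduct.smul_tmul']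
  | add x y hx hy => rw [smul_add, map_add, map_add, smul_add, hx, hy]

/-- The additive subgroup generated by `t ⊗ a` with `f a = 0`. -/
def kerGen (f : A →ₐ[k] A') : AddSubgroup (K ⊗[k] A) :=
  AddSubgroup.closure {x | ∃ (t : K) (a : A), f a = 0 ∧ x = t ⊗ₜ[k] a}

theorem mem_kerGen_of_bc_eq_zero (f : A →ₐ[k] A') (hf : Function.Surjective f)
    (x : K ⊗[k] A) (hx : bc k K f x = 0) : x ∈ kerGen k K f := by
  have hex : Function.Exact (LinearMap.ker f.toLinearMap).subtype f.toLinearMap :=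
    LinearMap.exact_subtype_ker_map _
  have hex2 := lTensor_exact K hex hf
  have hx2 : LinearMap.lTensor K f.toLinearMap x = 0 := by
    rw [← hx]
    clear hx
    induction x using TensorProduct.induction_on with
    | zero => rw [map_zero, map_zero]
    | tmul t a => rw [LinearMap.lTensor_tmul, bc_tmul]; rfl
    | add x y hx hy => rw [map_add, map_add, hx, hy]
  obtain ⟨y, rfl⟩ := (hex2 x).mp hx2
  clear hx hx2
  induction y using TensorProduct.induction_on with
  | zero => rw [map_zero]; exact zero_mem _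
  | tmul t a =>
    rw [LinearMap.lTensor_tmul]
    exact AddSubgroup.subset_closure ⟨t, a.1, LinearMap.mem_ker.mp a.2, rfl⟩
  | add y y' hy hy' => rw [map_add]; exact add_mem hy hy'

theorem mul_eq_zero_of_mem_kerGen (f : A →ₐ[k] A')
    (hsq : ∀ x y : A, f x = 0 → f y = 0 → x * y = 0)
    {x y : K ⊗[k] A} (hx : x ∈ kerGen k K f) (hy : y ∈ kerGen k K f) : x * y = 0 := by
  induction hx using AddSubgroup.closure_induction with
  | mem x hx =>
    obtain ⟨t, a, ha, rfl⟩ := hx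
    induction hy using AddSubgroup.closure_induction with
    | mem y hy =>
      obtain ⟨t', a', ha', rfl⟩ := hy
      rw [Algebra.TensorProduct.tmul_mul_tmul, hsq a a' ha ha', TensorProduct.tmul_zero]
    | zero => rw [mul_zero]
    | add y y' _ _ hy hy' => rw [mul_add, hy, hy', add_zero]
    | neg y _ hy => rw [mul_neg, hy, neg_zero]
  | zero => rw [zero_mul]
  | add x x' _ _ hx hx' => rw [add_mul, hx, hx', add_zero]
  | neg x _ hx => rw [neg_mul, hx, neg_zero]

variable [FiniteDimensional k K] [IsGalois k K]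

/-- Additive Hilbert 90 in the kernel of a `K`-linear equivariant map. -/
theorem exists_add_coboundary (f : A →ₐ[k] A') (n : (K ≃ₐ[k] K) → K ⊗[k] A)
    (hn : ∀ σ, bc k K f (n σ) = 0) (hcoc : ∀ σ τ : K ≃ₐ[k] K, n (σ * τ) = n σ + σ • n τ) :
    ∃ m : K ⊗[k] A, bc k K f m = 0 ∧ ∀ σ : K ≃ₐ[k] K, n σ = σ • m - m := by
  classical
  obtain ⟨t, ht⟩ := Algebra.trace_surjective k K 1
  have htr : ∑ τ : K ≃ₐ[k] K, τ t = 1 := by
    rw [← trace_eq_sum_automorphisms, ht, map_one]
  refine ⟨-∑ τ : K ≃ₐ[k] K, τ t • n τ, ?_, fun σ => ?_⟩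
  · rw [map_neg, map_sum]
    simp only [map_smul, hn, smul_zero, Finset.sum_const_zero, neg_zero]
  · rw [smul_neg, Finset.smul_sum]
    have h1 : ∀ τ : K ≃ₐ[k] K, σ • (τ t • n τ) = (σ * τ) t • n (σ * τ) - (σ * τ) t • n σ := by
      intro τ
      rw [smul_distrib_smul σ (τ t) (n τ), hcoc σ τ, smul_add, add_sub_cancel_left]
      rfl
    rw [Finset.sum_congr rfl fun τ _ => h1 τ, Finset.sum_sub_distrib]
    have h2 : ∑ τ : K ≃ₐ[k] K, (σ * τ) t • n (σ * τ) = ∑ τ : K ≃ₐ[k] K, τ t • n τ :=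
      Fintype.sum_equiv (Equiv.mulLeft σ) _ _ (fun τ => rfl)
    have h3 : ∑ τ : K ≃ₐ[k] K, (σ * τ) t • n σ = n σ := by
      rw [← Finset.sum_smul]
      have : ∑ τ : K ≃ₐ[k] K, (σ * τ) t = ∑ τ : K ≃ₐ[k] K, τ t :=
        Fintype.sum_equiv (Equiv.mulLeft σ) _ _ (fun τ => rfl)
      rw [this, htr, one_smul]
    rw [h2, h3]
    abel

theorem isTrivial_of_surjective_sqZero (f : A →ₐ[k] A') (hf : Function.Surjective f)
    (hsq : ∀ x y : A, f x = 0 → f y = 0 → x * y = 0)
    (h' : GpH1.H1.IsTrivial (K ≃ₐ[k] K) (K ⊗[k] A')ˣ) :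
    GpH1.H1.IsTrivial (K ≃ₐ[k] K) (K ⊗[k] A)ˣ := by
  refine H1Sq.isTrivial_of_sqZero (bc k K f : K ⊗[k] A →+* K ⊗[k] A') (bc_surjective k K f hf)
    (fun σ x => bc_smul k K f σ x) (fun x y hx hy => ?_) (fun n hn hcoc => ?_) h'
  · exact mul_eq_zero_of_mem_kerGen k K f hsq (mem_kerGen_of_bc_eq_zero k K f hf x hx)
      (mem_kerGen_of_bc_eq_zero k K f hf y hy)
  · exact exists_add_coboundary k K f n hn hcoc

end Groth.Agent.Lib.Seat62.H1Tensor
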