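import Mathlib
import Groth.Agent.Lib.Seat62AffDict
import Groth.Agent.Lib.Seat62OrdTransport

/-!
# More on the pullback of rational functions (seat 62)

* `iota_algebraMap`: compatibility of `iota` with the maps from stalks;
* `ord_iota_openImmersion`: open immersions preserve orders of vanishing;
* `iota_comp`: functoriality;
* `ord_iota_of_map_eq_genericPoint`: pulled back functions have order zero at points over the
  generic point.
-/

set_option autoImplicit false
universe u
open CategoryTheory AlgebraicGeometry TopologicalSpace Order IsLocalRing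

namespace Groth.Agent.Lib.Seat62.AffDict

open Groth.Agent.Lib.Seat62.CDivNormal Groth.Agent.Lib.Seat62.OrdTransport

variable {P X : Scheme.{u}} (p : P ⟶ X) [IsIntegral P] [IsIntegral X]

theorem iota_algebraMap (h : p (genericPoint P) = genericPoint X) (y : P)
    (a : X.presheaf.stalk (p y)) :
    iota p h (algebraMap (X.presheaf.stalk (p y)) X.functionField a) =
      algebraMap (P.presheaf.stalk y) P.functionField (p.stalkMap y a) := by
  have hP : genericPoint P ⤳ y := (genericPoint_spec P).specializes trivial
  have hX : genericPoint X ⤳ p y := (genericPoint_spec X).specializes trivial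
  have key : X.presheaf.stalkSpecializes hX ≫ iota p h =
      p.stalkMap y ≫ P.presheaf.stalkSpecializes hP := by
    rw [← Scheme.Hom.stalkSpecializes_stalkMap]
    unfold iota
    rw [← Category.assoc]
    congr 1
    exact TopCat.Presheaf.stalkSpecializes_comp _ _ _
  exact congrArg (fun φ => φ.hom a) key

theorem iota_ne_zero (h : p (genericPoint P) = genericPoint X) (f : X.functionField)
    (hf : f ≠ 0) : iota p h f ≠ 0 := by
  rw [Ne, ← map_zero (iota p h).hom]
  exact fun e => hf (iota_injective p h e)

section openImm

variable [IsLocallyNoetherian P] [IsLocallyNoetherian X] [IsOpenImmersion p]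

/-- open immersions preserve orders of vanishing. -/
theorem ord_iota_openImmersion (h : p (genericPoint P) = genericPoint X) (f : X.functionField)
    (y : P) : Scheme.ord (iota p h f) y = Scheme.ord f (p y) := by
  have hco : coheight (p y) = coheight y := coheight_eq_of_isOpenImmersion p
  by_cases hu : coheight y = 1
  · have hu' : coheight (p y) = 1 := by rw [hco]; exact hu
    rw [Scheme.ord_eq_ordHom_of_coheight_eq_one hu, Scheme.ord_eq_ordHom_of_coheight_eq_one hu']
    congr 2
    have : Ring.KrullDimLE 1 (P.presheaf.stalk y) := krullDimLE_of_coheight_le hu.le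
    have : Ring.KrullDimLE 1 (X.presheaf.stalk (p y)) := krullDimLE_of_coheight_le hu'.le
    exact ordFrac_ringEquiv (asIso (p.stalkMap y)).commRingCatIsoToRingEquiv (iota p h).hom
      (fun r => iota_algebraMap p h y r) f
  · have hu' : coheight (p y) ≠ 1 := by rw [hco]; exact hu
    rw [Scheme.ord_eq_zero_of_coheight_neq_one hu, Scheme.ord_eq_zero_of_coheight_neq_one hu']

omit [IsLocallyNoetherian P] [IsLocallyNoetherian X] in
theorem iota_bijective_of_openImmersion (h : p (genericPoint P) = genericPoint X) :
    Function.Bijective (iota p h).hom := by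
  have h1 : IsIso (X.presheaf.stalkSpecializes (Inseparable.of_eq h).specializes) := by
    have : X.presheaf.stalkSpecializes (Inseparable.of_eq h).specializes =
        (X.presheaf.stalkCongr (Inseparable.of_eq h.symm)).hom := rfl
    rw [this]
    infer_instance
  have : IsIso (iota p h) := by unfold iota; infer_instance
  exact ConcreteCategory.bijective_of_isIso (iota p h)

end openImm

/-- functoriality of `iota`. -/
theorem iota_comp {Y : Scheme.{u}} [IsIntegral Y] (j : Y ⟶ P)
    (hj : j (genericPoint Y) = genericPoint P) (hp : p (genericPoint P) = genericPoint X)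
    (hjp : (j ≫ p) (genericPoint Y) = genericPoint X) :
    iota (j ≫ p) hjp = iota p hp ≫ iota j hj := by
  unfold iota
  rw [Scheme.Hom.stalkMap_comp]
  have h1 := Scheme.Hom.stalkSpecializes_stalkMap p _ _ (Inseparable.of_eq hj).specializes
  rw [Category.assoc, ← Category.assoc (p.stalkMap (genericPoint P)), ← h1, Category.assoc,
    ← Category.assoc (X.presheaf.stalkSpecializes _), TopCat.Presheaf.stalkSpecializes_comp]
  rfl

variable [IsLocallyNoetherian P]

/-- pulled back functions have order zero at points over the generic point. -/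
theorem ord_iota_of_map_eq_genericPoint (h : p (genericPoint P) = genericPoint X)
    (f : X.functionField) (hf : f ≠ 0) (y : P) (hy : p y = genericPoint X) :
    Scheme.ord (iota p h f) y = 0 := by
  obtain ⟨U, hU, hη, -⟩ := exists_affine_le (genericPoint X) ⊤ trivial
  have : Nonempty U := ⟨⟨_, hη⟩⟩
  have hyU : p y ∈ U := by rw [hy]; exact hη
  have hyW : y ∈ p ⁻¹ᵁ U := hyU
  have : Nonempty (p ⁻¹ᵁ U : P.Opens) := ⟨⟨y, hyW⟩⟩
  have : IsFractionRing Γ(X, U) X.functionField :=
    functionField_isFractionRing_of_isAffineOpen X U hU
  have hbot : primeAt U (p y) hyU = ⊥ := by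
    rw [eq_bot_iff]
    intro a ha
    rw [mem_primeAt_iff] at ha
    rw [Ideal.mem_bot]
    by_contra ha0
    apply ha
    have h1 : X.germToFunctionField U a ≠ 0 := germToFunctionField_ne_zero U a ha0
    rw [← X.algebraMap_germ_eq_germToFunctionField hyU a] at h1
    -- the stalk at `p y` is a field
    have hbij : Function.Bijective (algebraMap (X.presheaf.stalk (p y)) X.functionField) := by
      have h2 : IsIso (X.presheaf.stalkSpecializes
          ((genericPoint_spec X).specializes (Set.mem_univ (p y)))) := by
        have : X.presheaf.stalkSpecializes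
            ((genericPoint_spec X).specializes (Set.mem_univ (p y))) =
            (X.presheaf.stalkCongr (Inseparable.of_eq hy)).hom := rfl
        rw [this]
        infer_instance
      exact ConcreteCategory.bijective_of_isIso
        (X.presheaf.stalkSpecializes ((genericPoint_spec X).specializes (Set.mem_univ (p y))))
    obtain ⟨b, hb⟩ := hbij.2 (algebraMap (X.presheaf.stalk (p y)) X.functionField
      (X.presheaf.germ U (p y) hyU a))⁻¹
    refine IsUnit.of_mul_eq_one b ?_
    apply hbij.1
    rw [map_mul, hb, map_one, mul_inv_cancel₀ h1]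
  have hnot : ∀ c : Γ(X, U), c ≠ 0 → p.app U c ∉ primeAt (p ⁻¹ᵁ U) y hyW := by
    intro c hc hmem
    have : c ∈ (primeAt (p ⁻¹ᵁ U) y hyW).comap (p.app U).hom := hmem
    rw [comap_primeAt p U y hyW hyU, hbot, Ideal.mem_bot] at this
    exact hc this
  obtain ⟨c, d, hd, rfl⟩ := IsFractionRing.div_surjective (A := Γ(X, U)) f
  have hd0 : d ≠ 0 := nonZeroDivisors.ne_zero hd
  have hc0 : c ≠ 0 := by
    rintro rfl
    rw [map_zero, zero_div] at hf
    exact hf rfl
  change Scheme.ord (iota p h (X.germToFunctionField U c / X.germToFunctionField U d)) y = 0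
  have hc' : P.germToFunctionField (p ⁻¹ᵁ U) (p.app U c) ≠ 0 := by
    rw [← iota_germToFunctionField p h U c]
    exact iota_ne_zero p h _ (germToFunctionField_ne_zero U c hc0)
  have hd' : P.germToFunctionField (p ⁻¹ᵁ U) (p.app U d) ≠ 0 := by
    rw [← iota_germToFunctionField p h U d]
    exact iota_ne_zero p h _ (germToFunctionField_ne_zero U d hd0)
  rw [map_div₀, iota_germToFunctionField, iota_germToFunctionField, div_eq_mul_inv,
    Scheme.ord_mul hc' (inv_ne_zero hd'), ord_inv _ _ hd', ord_of_notMem _ y hyW _ (hnot c hc0),
    ord_of_notMem _ y hyW _ (hnot d hd0)]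
  ring

end Groth.Agent.Lib.Seat62.AffDict
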