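import Mathlib

/-!
# Laurent polynomial rings as group algebras: cofaces, the additive `H² = 0` (helper62)

`L A p = A[ℤ^p]`; `cof A M` the ring map induced by an integer matrix on exponents.
* `exists_single_of_isUnit`: units of a group algebra over a domain (group with two unique sums)
  are monomials.
* `δ1`, `δ2`: the multiplicative coboundaries on units, `δ2_δ1`.
* `additive_cocycle`: an additive 2-cocycle is the coboundary of its contraction.
-/

set_option autoImplicit false
universe u v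
open AddMonoidAlgebra

namespace Groth.Agent.Lib.Seat62.Laurent

section Units

variable {A : Type u} [CommRing A]

theorem eq_single_of_mul_eq_one {G : Type*} [AddCommGroup G] [TwoUniqueSums G] [IsDomain A]
    (u v : A[G]) (huv : u * v = 1) : ∃ g : G, u = single g (u.coeff g) := by
  classical
  have hu0 : u ≠ 0 := by
    rintro rfl; rw [zero_mul] at huv; exact zero_ne_one huv
  have hv0 : v ≠ 0 := by
    rintro rfl; rw [mul_zero] at huv; exact zero_ne_one huv
  have hsu : u.coeff.support.Nonempty := by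
    rwa [Finsupp.support_nonempty_iff, Ne, coeff_eq_zero]
  have hsv : v.coeff.support.Nonempty := by
    rwa [Finsupp.support_nonempty_iff, Ne, coeff_eq_zero]
  have hcard : ¬ 1 < u.coeff.support.card * v.coeff.support.card := by
    intro h
    obtain ⟨p1, hp1, p2, hp2, hne, h1, h2⟩ := TwoUniqueSums.uniqueAdd_of_one_lt_card h
    rw [Finset.mem_product] at hp1 hp2
    have c1 : (u * v).coeff (p1.1 + p1.2) ≠ 0 := by
      rw [coeff_mul_add_of_uniqueAdd h1]
      exact mul_ne_zero (Finsupp.mem_support_iff.mp hp1.1) (Finsupp.mem_support_iff.mp hp1.2)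
    have c2 : (u * v).coeff (p2.1 + p2.2) ≠ 0 := by
      rw [coeff_mul_add_of_uniqueAdd h2]
      exact mul_ne_zero (Finsupp.mem_support_iff.mp hp2.1) (Finsupp.mem_support_iff.mp hp2.2)
    rw [huv, one_def, coeff_single, Finsupp.single_apply_ne_zero] at c1 c2
    have e : p1.1 + p1.2 = p2.1 + p2.2 := by rw [c1.1, c2.1]
    have := h2 hp1.1 hp1.2 e
    exact hne (Prod.ext this.1 this.2)
  have hcu : u.coeff.support.card = 1 := by
    have h1 := Finset.card_pos.mpr hsu
    have h2 := Finset.card_pos.mpr hsv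
    by_contra hne
    have : 2 ≤ u.coeff.support.card := by omega
    exact hcard (by nlinarith)
  obtain ⟨g, hg⟩ := Finset.card_eq_one.mp hcu
  refine ⟨g, ?_⟩
  apply coeff_injective
  rw [coeff_single]
  exact Finsupp.support_subset_singleton.mp hg.le

/-- In a group algebra over a domain on a group with two unique sums, units are monomials. -/
theorem exists_single_of_isUnit {G : Type*} [AddCommGroup G] [TwoUniqueSums G] [IsDomain A]
    (u : A[G]) (hu : IsUnit u) : ∃ (g : G) (c : A), IsUnit c ∧ u = single g c := by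
  obtain ⟨v, huv⟩ := hu.exists_right_inv
  obtain ⟨g, hg⟩ := eq_single_of_mul_eq_one u v huv
  obtain ⟨g', hg'⟩ := eq_single_of_mul_eq_one v u (by rw [mul_comm]; exact huv)
  refine ⟨g, u.coeff g, ?_, hg⟩
  rw [hg, hg', single_mul_single, one_def] at huv
  have := congrArg (fun x => x.coeff 0) huv
  simp only [coeff_single] at this
  by_cases h : g + g' = 0
  · rw [h, Finsupp.single_eq_same, Finsupp.single_eq_same] at this
    exact IsUnit.of_mul_eq_one _ this
  · rw [Finsupp.single_eq_of_ne (Ne.symm h), Finsupp.single_eq_same] at this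
    exact absurd this zero_ne_one

end Units

/-- Laurent polynomial ring in `p` variables as a group algebra. -/
abbrev L (A : Type u) [CommRing A] (p : ℕ) := AddMonoidAlgebra A (Fin p → ℤ)

/-- The additive map on exponents given by an integer matrix. -/
noncomputable abbrev mv {p q : ℕ} (M : Matrix (Fin q) (Fin p) ℤ) : (Fin p → ℤ) →+ (Fin q → ℤ) :=
  (Matrix.mulVecLin M).toAddMonoidHom

/-- The ring map of Laurent polynomial rings induced by an integer matrix. -/
noncomputable abbrev cof (A : Type u) [CommRing A] {p q : ℕ} (M : Matrix (Fin q) (Fin p) ℤ) :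
    L A p →+* L A q :=
  AddMonoidAlgebra.mapDomainRingHom A (mv M)

/-- coface matrices -/
abbrev D0 : Matrix (Fin 3) (Fin 2) ℤ := !![0, 0; 1, 0; 0, 1]
/-- coface matrices -/
abbrev D1 : Matrix (Fin 3) (Fin 2) ℤ := !![1, 0; 1, 0; 0, 1]
/-- coface matrices -/
abbrev D2 : Matrix (Fin 3) (Fin 2) ℤ := !![1, 0; 0, 1; 0, 1]
/-- coface matrices -/
abbrev D3 : Matrix (Fin 3) (Fin 2) ℤ := !![1, 0; 0, 1; 0, 0]
/-- coface matrices -/
abbrev E0 : Matrix (Fin 2) (Fin 1) ℤ := !![0; 1]
/-- coface matrices -/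
abbrev E1 : Matrix (Fin 2) (Fin 1) ℤ := !![1; 1]
/-- coface matrices -/
abbrev E2 : Matrix (Fin 2) (Fin 1) ℤ := !![1; 0]

variable (A : Type u) [CommRing A]

theorem cof_comp {p q r : ℕ} (M : Matrix (Fin r) (Fin q) ℤ) (N : Matrix (Fin q) (Fin p) ℤ) :
    (cof A M).comp (cof A N) = cof A (M * N) := by
  rw [cof, cof, cof, ← AddMonoidAlgebra.mapDomainRingHom_comp]
  congr 1
  refine AddMonoidHom.ext fun v => ?_
  simp [mv, Matrix.mulVec_mulVec]

/-- the 1-coboundary as a monoid hom -/
noncomputable def δ1 : (L A 1)ˣ →* (L A 2)ˣ :=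
  Units.map (cof A E0).toMonoidHom * (Units.map (cof A E1).toMonoidHom)⁻¹ *
    Units.map (cof A E2).toMonoidHom

/-- the 2-coboundary as a monoid hom -/
noncomputable def δ2 : (L A 2)ˣ →* (L A 3)ˣ :=
  Units.map (cof A D0).toMonoidHom * (Units.map (cof A D1).toMonoidHom)⁻¹ *
    Units.map (cof A D2).toMonoidHom * (Units.map (cof A D3).toMonoidHom)⁻¹

theorem δ1_apply (η : (L A 1)ˣ) : δ1 A η = Units.map (cof A E0).toMonoidHom η *
    (Units.map (cof A E1).toMonoidHom η)⁻¹ * Units.map (cof A E2).toMonoidHom η := rfl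

theorem δ2_apply (ξ : (L A 2)ˣ) : δ2 A ξ = Units.map (cof A D0).toMonoidHom ξ *
    (Units.map (cof A D1).toMonoidHom ξ)⁻¹ * Units.map (cof A D2).toMonoidHom ξ *
    (Units.map (cof A D3).toMonoidHom ξ)⁻¹ := rfl

theorem units_map_cof_comp {p q r : ℕ} (M : Matrix (Fin r) (Fin q) ℤ)
    (N : Matrix (Fin q) (Fin p) ℤ) (x : (L A p)ˣ) :
    Units.map (cof A M).toMonoidHom (Units.map (cof A N).toMonoidHom x) =
      Units.map (cof A (M * N)).toMonoidHom x := by
  ext
  simp only [Units.coe_map, RingHom.toMonoidHom_eq_coe, MonoidHom.coe_coe]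
  rw [← cof_comp]; rfl

theorem δ2_δ1 (η : (L A 1)ˣ) : δ2 A (δ1 A η) = 1 := by
  rw [δ2_apply, δ1_apply]
  simp only [map_mul, map_inv, units_map_cof_comp]
  have h00 : D0 * E0 = D1 * E0 := by decide
  have h01 : D0 * E1 = D2 * E0 := by decide
  have h02 : D0 * E2 = D3 * E0 := by decide
  have h11 : D1 * E1 = D2 * E1 := by decide
  have h12 : D1 * E2 = D3 * E1 := by decide
  have h22 : D2 * E2 = D3 * E2 := by decide
  rw [h00, h01, h02, h11, h12, h22]
  simp only [mul_inv_rev, inv_inv]
  generalize (Units.map (cof A (D1 * E0)).toMonoidHom) η = a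
  generalize (Units.map (cof A (D2 * E0)).toMonoidHom) η = b
  generalize (Units.map (cof A (D3 * E0)).toMonoidHom) η = c
  generalize (Units.map (cof A (D3 * E1)).toMonoidHom) η = d
  generalize (Units.map (cof A (D2 * E1)).toMonoidHom) η = e
  generalize (Units.map (cof A (D3 * E2)).toMonoidHom) η = f
  have : a * b⁻¹ * c * (d⁻¹ * (e * a⁻¹)) * (b * e⁻¹ * f) * (f⁻¹ * (d * c⁻¹)) =
      (a * a⁻¹) * (b⁻¹ * b) * (c * c⁻¹) * (d⁻¹ * d) * (e * e⁻¹) * (f * f⁻¹) := by ac_rfl
  rw [this]; simp

theorem coeff_cof_apply {p q : ℕ} (M : Matrix (Fin q) (Fin p) ℤ) (hM : Function.Injective (mv M))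
    (x : L A p) (v : Fin p → ℤ) : (cof A M x).coeff (M.mulVec v) = x.coeff v := by
  exact Finsupp.mapDomain_apply hM x.coeff v

theorem coeff_cof_of_notin {p q : ℕ} (M : Matrix (Fin q) (Fin p) ℤ)
    (x : L A p) (w : Fin q → ℤ) (hw : ∀ v, M.mulVec v ≠ w) : (cof A M x).coeff w = 0 := by
  exact Finsupp.mapDomain_of_notMem_range x.coeff w (by rintro ⟨v, hv⟩; exact hw v hv)

theorem D0_apply (a b : ℤ) : D0.mulVec ![a, b] = ![0, a, b] := by
  ext i; fin_cases i <;> simp [Matrix.mulVec, dotProduct, Fin.sum_univ_two]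
theorem D1_apply (a b : ℤ) : D1.mulVec ![a, b] = ![a, a, b] := by
  ext i; fin_cases i <;> simp [Matrix.mulVec, dotProduct, Fin.sum_univ_two]
theorem D2_apply (a b : ℤ) : D2.mulVec ![a, b] = ![a, b, b] := by
  ext i; fin_cases i <;> simp [Matrix.mulVec, dotProduct, Fin.sum_univ_two]
theorem D3_apply (a b : ℤ) : D3.mulVec ![a, b] = ![a, b, 0] := by
  ext i; fin_cases i <;> simp [Matrix.mulVec, dotProduct, Fin.sum_univ_two]
theorem E0_apply (a : ℤ) : E0.mulVec ![a] = ![0, a] := by
  ext i; fin_cases i <;> simp [Matrix.mulVec, dotProduct]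
theorem E1_apply (a : ℤ) : E1.mulVec ![a] = ![a, a] := by
  ext i; fin_cases i <;> simp [Matrix.mulVec, dotProduct]
theorem E2_apply (a : ℤ) : E2.mulVec ![a] = ![a, 0] := by
  ext i; fin_cases i <;> simp [Matrix.mulVec, dotProduct]

theorem vec2_eta (w : Fin 2 → ℤ) : w = ![w 0, w 1] := by
  ext i; fin_cases i <;> rfl
theorem vec1_eta (w : Fin 1 → ℤ) : w = ![w 0] := by
  ext i; fin_cases i; rfl

theorem vec3_ext {a b c a' b' c' : ℤ} (h : ![a, b, c] = ![a', b', c']) :
    a = a' ∧ b = b' ∧ c = c' := by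
  refine ⟨?_, ?_, ?_⟩
  · simpa using congrFun h 0
  · simpa using congrFun h 1
  · simpa using congrFun h 2

theorem vec2_ext {a b a' b' : ℤ} (h : ![a, b] = ![a', b']) : a = a' ∧ b = b' := by
  refine ⟨?_, ?_⟩
  · simpa using congrFun h 0
  · simpa using congrFun h 1

theorem D0_inj : Function.Injective (mv D0) := by
  intro v w h
  rw [vec2_eta v, vec2_eta w] at h ⊢
  simp only [mv, LinearMap.toAddMonoidHom_coe, Matrix.mulVecLin_apply, D0_apply] at h
  obtain ⟨-, h1, h2⟩ := vec3_ext h
  rw [h1, h2]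
theorem D1_inj : Function.Injective (mv D1) := by
  intro v w h
  rw [vec2_eta v, vec2_eta w] at h ⊢
  simp only [mv, LinearMap.toAddMonoidHom_coe, Matrix.mulVecLin_apply, D1_apply] at h
  obtain ⟨-, h1, h2⟩ := vec3_ext h
  rw [h1, h2]
theorem D2_inj : Function.Injective (mv D2) := by
  intro v w h
  rw [vec2_eta v, vec2_eta w] at h ⊢
  simp only [mv, LinearMap.toAddMonoidHom_coe, Matrix.mulVecLin_apply, D2_apply] at h
  obtain ⟨h1, h2, -⟩ := vec3_ext h
  rw [h1, h2]
theorem D3_inj : Function.Injective (mv D3) := by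
  intro v w h
  rw [vec2_eta v, vec2_eta w] at h ⊢
  simp only [mv, LinearMap.toAddMonoidHom_coe, Matrix.mulVecLin_apply, D3_apply] at h
  obtain ⟨h1, h2, -⟩ := vec3_ext h
  rw [h1, h2]
theorem E0_inj : Function.Injective (mv E0) := by
  intro v w h
  rw [vec1_eta v, vec1_eta w] at h ⊢
  simp only [mv, LinearMap.toAddMonoidHom_coe, Matrix.mulVecLin_apply, E0_apply] at h
  obtain ⟨-, h1⟩ := vec2_ext h
  rw [h1]
theorem E1_inj : Function.Injective (mv E1) := by
  intro v w h
  rw [vec1_eta v, vec1_eta w] at h ⊢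
  simp only [mv, LinearMap.toAddMonoidHom_coe, Matrix.mulVecLin_apply, E1_apply] at h
  obtain ⟨-, h1⟩ := vec2_ext h
  rw [h1]
theorem E2_inj : Function.Injective (mv E2) := by
  intro v w h
  rw [vec1_eta v, vec1_eta w] at h ⊢
  simp only [mv, LinearMap.toAddMonoidHom_coe, Matrix.mulVecLin_apply, E2_apply] at h
  obtain ⟨h1, -⟩ := vec2_ext h
  rw [h1]

/-- evaluation of cofaces at points -/
theorem coeff_D0 (h : L A 2) (a b : ℤ) : (cof A D0 h).coeff ![0, a, b] = h.coeff ![a, b] := by
  rw [← D0_apply, coeff_cof_apply A D0 D0_inj]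

theorem coeff_D1 (h : L A 2) (a b : ℤ) :
    (cof A D1 h).coeff ![0, a, b] = if a = 0 then h.coeff ![0, b] else 0 := by
  split_ifs with ha
  · subst ha; rw [← D1_apply, coeff_cof_apply A D1 D1_inj]
  · apply coeff_cof_of_notin
    intro v hv
    rw [vec2_eta v, D1_apply] at hv
    obtain ⟨h1, h2, -⟩ := vec3_ext hv
    exact ha (h2 ▸ h1)

theorem coeff_D2 (h : L A 2) (a b : ℤ) :
    (cof A D2 h).coeff ![0, a, b] = if a = b then h.coeff ![0, a] else 0 := by
  split_ifs with ha
  · subst ha; rw [← D2_apply, coeff_cof_apply A D2 D2_inj]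
  · apply coeff_cof_of_notin
    intro v hv
    rw [vec2_eta v, D2_apply] at hv
    obtain ⟨-, h2, h3⟩ := vec3_ext hv
    exact ha (h2 ▸ h3)

theorem coeff_D3 (h : L A 2) (a b : ℤ) :
    (cof A D3 h).coeff ![0, a, b] = if b = 0 then h.coeff ![0, a] else 0 := by
  split_ifs with hb
  · subst hb; rw [← D3_apply, coeff_cof_apply A D3 D3_inj]
  · apply coeff_cof_of_notin
    intro v hv
    rw [vec2_eta v, D3_apply] at hv
    obtain ⟨-, -, h3⟩ := vec3_ext hv
    exact hb h3.symm

theorem coeff_E0 (g : L A 1) (a b : ℤ) :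
    (cof A E0 g).coeff ![a, b] = if a = 0 then g.coeff ![b] else 0 := by
  split_ifs with ha
  · subst ha; rw [← E0_apply, coeff_cof_apply A E0 E0_inj]
  · apply coeff_cof_of_notin
    intro v hv
    rw [vec1_eta v, E0_apply] at hv
    obtain ⟨h1, -⟩ := vec2_ext hv
    exact ha h1.symm

theorem coeff_E1 (g : L A 1) (a b : ℤ) :
    (cof A E1 g).coeff ![a, b] = if a = b then g.coeff ![a] else 0 := by
  split_ifs with ha
  · subst ha; rw [← E1_apply, coeff_cof_apply A E1 E1_inj]
  · apply coeff_cof_of_notin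
    intro v hv
    rw [vec1_eta v, E1_apply] at hv
    obtain ⟨h1, h2⟩ := vec2_ext hv
    exact ha (h1 ▸ h2)

theorem coeff_E2 (g : L A 1) (a b : ℤ) :
    (cof A E2 g).coeff ![a, b] = if b = 0 then g.coeff ![a] else 0 := by
  split_ifs with hb
  · subst hb; rw [← E2_apply, coeff_cof_apply A E2 E2_inj]
  · apply coeff_cof_of_notin
    intro v hv
    rw [vec1_eta v, E2_apply] at hv
    obtain ⟨-, h2⟩ := vec2_ext hv
    exact hb h2.symm

/-- the contraction: restriction to the line `{0} × ℤ` -/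
noncomputable def contr (h : L A 2) : L A 1 := AddMonoidAlgebra.comapDomain (mv E0) E0_inj h

theorem coeff_contr (h : L A 2) (b : ℤ) : (contr A h).coeff ![b] = h.coeff ![0, b] := by
  rw [contr, AddMonoidAlgebra.coeff_comapDomain]
  simp only [Finsupp.comapDomain_apply]
  congr 1
  exact E0_apply b

/-- Additive `H² = 0`: an additive 2-cocycle is the coboundary of its contraction. -/
theorem additive_cocycle (h : L A 2)
    (hc : cof A D0 h + cof A D2 h = cof A D1 h + cof A D3 h) :
    h = cof A E0 (contr A h) + cof A E2 (contr A h) - cof A E1 (contr A h) := by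
  apply AddMonoidAlgebra.coeff_injective
  ext w
  rw [vec2_eta w]
  set a := w 0
  set b := w 1
  have key := congrArg (fun x => x.coeff ![0, a, b]) hc
  simp only [AddMonoidAlgebra.coeff_add, Finsupp.add_apply, coeff_D0, coeff_D1, coeff_D2,
    coeff_D3] at key
  simp only [AddMonoidAlgebra.coeff_add, AddMonoidAlgebra.coeff_sub, Finsupp.add_apply,
    Finsupp.sub_apply, coeff_E0, coeff_E1, coeff_E2, coeff_contr]
  linear_combination key

end Groth.Agent.Lib.Seat62.Laurent
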