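import Groth.Agent.Lib.Seat62Laurent

/-!
# Multiplicative `H² = 0` for the cosimplicial Laurent polynomial rings (helper62)

Main result `exists_coboundary`: every unit `ξ` of `A[ℤ²]` with `δ2 ξ = 1` is `δ1 η`.
Strategy: over a domain units are monomials, and a monomial cocycle is constant; hence in general
`ξ = c (1 + nilpotent)`; kill the nilpotent part by induction on the nilpotency order, the
square-zero step being the additive statement `additive_cocycle`.
-/

set_option autoImplicit false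
universe u v
open AddMonoidAlgebra

namespace Groth.Agent.Lib.Seat62.Laurent

variable {A : Type u} [CommRing A] {B : Type v} [CommRing B]

/-- base change of Laurent polynomial rings along a ring hom of coefficients -/
noncomputable abbrev bc (φ : A →+* B) (p : ℕ) : L A p →+* L B p :=
  AddMonoidAlgebra.mapRingHom (Fin p → ℤ) φ

theorem bc_cof (φ : A →+* B) {p q : ℕ} (M : Matrix (Fin q) (Fin p) ℤ) (x : L A p) :
    bc φ q (cof A M x) = cof B M (bc φ p x) := by
  have := AddMonoidAlgebra.mapRingHom_comp_mapDomainRingHom φ (mv M)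
  exact congrArg (fun f => f x) this

theorem units_bc_cof (φ : A →+* B) {p q : ℕ} (M : Matrix (Fin q) (Fin p) ℤ) (x : (L A p)ˣ) :
    Units.map (bc φ q).toMonoidHom (Units.map (cof A M).toMonoidHom x) =
      Units.map (cof B M).toMonoidHom (Units.map (bc φ p).toMonoidHom x) := by
  refine Units.ext ?_
  simp only [Units.coe_map, RingHom.toMonoidHom_eq_coe, MonoidHom.coe_coe]
  exact bc_cof φ M x

theorem bc_δ1 (φ : A →+* B) (η : (L A 1)ˣ) :
    Units.map (bc φ 2).toMonoidHom (δ1 A η) = δ1 B (Units.map (bc φ 1).toMonoidHom η) := by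
  rw [δ1_apply, δ1_apply]
  simp only [map_mul, map_inv, units_bc_cof]

theorem bc_δ2 (φ : A →+* B) (ξ : (L A 2)ˣ) :
    Units.map (bc φ 3).toMonoidHom (δ2 A ξ) = δ2 B (Units.map (bc φ 2).toMonoidHom ξ) := by
  rw [δ2_apply, δ2_apply]
  simp only [map_mul, map_inv, units_bc_cof]

theorem coeff_bc (φ : A →+* B) {p : ℕ} (x : L A p) (w : Fin p → ℤ) :
    (bc φ p x).coeff w = φ (x.coeff w) := by
  simp [bc]

theorem bc_contr (φ : A →+* B) (h : L A 2) : bc φ 1 (contr A h) = contr B (bc φ 2 h) := by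
  apply AddMonoidAlgebra.coeff_injective
  ext w
  rw [vec1_eta w, coeff_bc, coeff_contr, coeff_contr, coeff_bc]

/-- All coefficients lie in the ideal `I`. -/
def CoeffIn (I : Ideal A) {p : ℕ} (x : L A p) : Prop := ∀ w, x.coeff w ∈ I

theorem coeffIn_iff_bc (I : Ideal A) {p : ℕ} (x : L A p) :
    CoeffIn I x ↔ bc (Ideal.Quotient.mk I) p x = 0 := by
  constructor
  · intro h
    apply AddMonoidAlgebra.coeff_injective
    ext w
    rw [coeff_bc]
    exact Ideal.Quotient.eq_zero_iff_mem.mpr (h w)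
  · intro h w
    have := congrArg (fun y => y.coeff w) h
    simp only [coeff_bc] at this
    exact Ideal.Quotient.eq_zero_iff_mem.mp this

theorem CoeffIn.cof {I : Ideal A} {p q : ℕ} {x : L A p} (h : CoeffIn I x)
    (M : Matrix (Fin q) (Fin p) ℤ) : CoeffIn I (cof A M x) := by
  rw [coeffIn_iff_bc] at h ⊢
  rw [bc_cof, h, map_zero]

theorem CoeffIn.contr {I : Ideal A} {x : L A 2} (h : CoeffIn I x) : CoeffIn I (contr A x) := by
  intro w
  rw [vec1_eta w, coeff_contr]
  exact h _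

theorem CoeffIn.mul {I J : Ideal A} {p : ℕ} {x y : L A p} (hx : CoeffIn I x) (hy : CoeffIn J y) :
    CoeffIn (I * J) (x * y) := by
  classical
  intro w
  rw [AddMonoidAlgebra.coeff_mul]
  refine Ideal.sum_mem _ fun a _ => Ideal.sum_mem _ fun b _ => ?_
  beta_reduce
  split_ifs
  · exact Ideal.mul_mem_mul (hx a) (hy b)
  · exact Ideal.zero_mem _

theorem CoeffIn.pow {I : Ideal A} {p : ℕ} {x : L A p} (hx : CoeffIn I x) (m : ℕ) :
    CoeffIn (I ^ m) (x ^ m) := by
  induction m with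
  | zero =>
    intro w
    rw [pow_zero, Ideal.one_eq_top]
    trivial
  | succ m ih =>
    rw [pow_succ, pow_succ]
    exact ih.mul hx

theorem coeffIn_bot {p : ℕ} {x : L A p} (h : CoeffIn (⊥ : Ideal A) x) : x = 0 := by
  apply AddMonoidAlgebra.coeff_injective
  ext w
  exact (Ideal.mem_bot.mp (h w))

theorem δ2_eq_one_iff (ξ : (L A 2)ˣ) : δ2 A ξ = 1 ↔
    cof A D0 (ξ : L A 2) * cof A D2 (ξ : L A 2) = cof A D1 (ξ : L A 2) * cof A D3 (ξ : L A 2) := by
  rw [δ2_apply]
  set a := Units.map (cof A D0).toMonoidHom ξ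
  set b := Units.map (cof A D1).toMonoidHom ξ
  set c := Units.map (cof A D2).toMonoidHom ξ
  set d := Units.map (cof A D3).toMonoidHom ξ
  have h1 : a * b⁻¹ * c * d⁻¹ = 1 ↔ a * c = b * d := by
    constructor
    · intro h
      have : a * c = (a * b⁻¹ * c * d⁻¹) * (b * d) := by
        have : (a * b⁻¹ * c * d⁻¹) * (b * d) = a * c * (b⁻¹ * b) * (d⁻¹ * d) := by ac_rfl
        rw [this]; simp
      rw [this, h, one_mul]
    · intro h
      have : a * b⁻¹ * c * d⁻¹ = (a * c) * (b * d)⁻¹ := by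
        rw [mul_inv]; ac_rfl
      rw [this, h, mul_inv_cancel]
  rw [h1, ← Units.val_inj]
  rfl

theorem eq_δ1_iff (ξ : (L A 2)ˣ) (η : (L A 1)ˣ) : ξ = δ1 A η ↔
    (ξ : L A 2) * cof A E1 (η : L A 1) = cof A E0 (η : L A 1) * cof A E2 (η : L A 1) := by
  rw [δ1_apply]
  set a := Units.map (cof A E0).toMonoidHom η
  set b := Units.map (cof A E1).toMonoidHom η
  set c := Units.map (cof A E2).toMonoidHom η
  have h1 : ξ = a * b⁻¹ * c ↔ ξ * b = a * c := by
    constructor
    · intro h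
      rw [h]
      have : a * b⁻¹ * c * b = a * c * (b⁻¹ * b) := by ac_rfl
      rw [this]; simp
    · intro h
      have : a * b⁻¹ * c = (a * c) * b⁻¹ := by ac_rfl
      rw [this, ← h]; simp
  rw [h1, ← Units.val_inj]
  rfl

/-- The square-zero step: a cocycle congruent to `1` modulo an ideal of square zero is the
coboundary of `1 + contraction`. -/
theorem sq_zero_step (J : Ideal A) (hJ : J * J = ⊥) (ξ : (L A 2)ˣ) (hc : δ2 A ξ = 1)
    (hξ : CoeffIn J ((ξ : L A 2) - 1)) :
    ∃ η : (L A 1)ˣ, (η : L A 1) = 1 + contr A ((ξ : L A 2) - 1) ∧ ξ = δ1 A η := by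
  set f : L A 2 := (ξ : L A 2) - 1 with hf
  have hξf : (ξ : L A 2) = 1 + f := by rw [hf]; ring
  set g : L A 1 := contr A f with hg
  have hgJ : CoeffIn J g := hξ.contr
  have hmul : ∀ {p : ℕ} {x y : L A p}, CoeffIn J x → CoeffIn J y → x * y = 0 := by
    intro p x y hx hy
    have := hx.mul hy
    rw [hJ] at this
    exact coeffIn_bot this
  have hadd : cof A D0 f + cof A D2 f = cof A D1 f + cof A D3 f := by
    have h := (δ2_eq_one_iff ξ).mp hc
    rw [hξf] at h
    simp only [map_add, map_one] at h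
    have h02 := hmul (hξ.cof D0) (hξ.cof D2)
    have h13 := hmul (hξ.cof D1) (hξ.cof D3)
    have e1 : (1 + cof A D0 f) * (1 + cof A D2 f) = 1 + (cof A D0 f + cof A D2 f) +
        cof A D0 f * cof A D2 f := by ring
    have e2 : (1 + cof A D1 f) * (1 + cof A D3 f) = 1 + (cof A D1 f + cof A D3 f) +
        cof A D1 f * cof A D3 f := by ring
    rw [e1, e2, h02, h13, add_zero, add_zero] at h
    exact add_left_cancel h
  have hfg := additive_cocycle A f hadd
  rw [← hg] at hfg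
  have hgg : g * g = 0 := hmul hgJ hgJ
  let η : (L A 1)ˣ := ⟨1 + g, 1 - g, by ring_nf; rw [pow_two, hgg]; ring,
    by ring_nf; rw [pow_two, hgg]; ring⟩
  refine ⟨η, rfl, ?_⟩
  rw [eq_δ1_iff]
  change (ξ : L A 2) * cof A E1 (1 + g) = cof A E0 (1 + g) * cof A E2 (1 + g)
  simp only [map_add, map_one]
  rw [hξf]
  have h1 : f * cof A E1 g = 0 := hmul hξ (hgJ.cof E1)
  have h2 : cof A E0 g * cof A E2 g = 0 := hmul (hgJ.cof E0) (hgJ.cof E2)
  have e1 : (1 + f) * (1 + cof A E1 g) = 1 + f + cof A E1 g + f * cof A E1 g := by ring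
  have e2 : (1 + cof A E0 g) * (1 + cof A E2 g) = 1 + cof A E0 g + cof A E2 g +
      cof A E0 g * cof A E2 g := by ring
  rw [e1, e2, h1, h2, add_zero, add_zero]
  rw [hfg]; ring

/-- Induction on the nilpotency order. -/
theorem nil_induction : ∀ (n : ℕ) (A : Type u) [CommRing A] (I : Ideal A), I ^ (2 ^ n) = ⊥ →
    ∀ ξ : (L A 2)ˣ, δ2 A ξ = 1 → CoeffIn I ((ξ : L A 2) - 1) → ∃ η : (L A 1)ˣ, ξ = δ1 A η := by
  intro n
  induction n with
  | zero =>
    intro A _ I hI ξ _ hξ
    rw [pow_zero, pow_one] at hI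
    rw [hI] at hξ
    have h1 : (ξ : L A 2) = 1 := sub_eq_zero.mp (coeffIn_bot hξ)
    refine ⟨1, ?_⟩
    rw [map_one]
    exact Units.ext h1
  | succ n ih =>
    intro A _ I hI ξ hc hξ
    let π : A →+* A ⧸ (I * I) := Ideal.Quotient.mk (I * I)
    set J : Ideal (A ⧸ (I * I)) := I.map π with hJdef
    have hJ : J * J = ⊥ := by
      rw [hJdef, ← Ideal.map_mul]
      exact Ideal.map_quotient_self _
    set ξb : (L (A ⧸ (I * I)) 2)ˣ := Units.map (bc π 2).toMonoidHom ξ with hξb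
    have hcb : δ2 (A ⧸ (I * I)) ξb = 1 := by
      rw [hξb, ← bc_δ2, hc, map_one]
    have hξbval : ((ξb : L (A ⧸ (I * I)) 2) - 1) = bc π 2 ((ξ : L A 2) - 1) := by
      rw [map_sub, map_one]; rfl
    have hξbJ : CoeffIn J ((ξb : L (A ⧸ (I * I)) 2) - 1) := by
      intro w
      rw [hξbval, coeff_bc]
      exact Ideal.mem_map_of_mem π (hξ w)
    obtain ⟨ηb, hηb, hξηb⟩ := sq_zero_step J hJ ξb hcb hξbJ
    set g : L A 1 := contr A ((ξ : L A 2) - 1) with hg
    have hgI : CoeffIn I g := hξ.contr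
    have hgnil : IsNilpotent g := by
      refine ⟨2 ^ (n + 1), ?_⟩
      have := hgI.pow (2 ^ (n + 1))
      rw [hI] at this
      exact coeffIn_bot this
    let η1 : (L A 1)ˣ := hgnil.isUnit_one_add.unit
    have hη1val : (η1 : L A 1) = 1 + g := IsUnit.unit_spec _
    have hη1b : Units.map (bc π 1).toMonoidHom η1 = ηb := by
      refine Units.ext ?_
      rw [hηb, hξbval, ← bc_contr]
      change bc π 1 (η1 : L A 1) = _
      rw [hη1val, map_add, map_one]
    set ξ' : (L A 2)ˣ := ξ * (δ1 A η1)⁻¹ with hξ'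
    have hc' : δ2 A ξ' = 1 := by
      rw [hξ', map_mul, map_inv, δ2_δ1, hc, inv_one, mul_one]
    have hξ'b : Units.map (bc π 2).toMonoidHom ξ' = 1 := by
      rw [hξ', map_mul, map_inv, bc_δ1, hη1b, ← hξηb]
      exact mul_inv_cancel ξb
    have hξ'II : CoeffIn (I * I) ((ξ' : L A 2) - 1) := by
      rw [coeffIn_iff_bc, map_sub, map_one, sub_eq_zero]
      exact congrArg Units.val hξ'b
    have hII : (I * I) ^ (2 ^ n) = ⊥ := by
      rw [← pow_two, ← pow_mul, ← pow_succ']
      exact hI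
    obtain ⟨η2, hη2⟩ := ih A (I * I) hII ξ' hc' hξ'II
    refine ⟨η2 * η1, ?_⟩
    rw [map_mul, ← hη2, hξ']
    simp

theorem cof_single {p q : ℕ} (M : Matrix (Fin q) (Fin p) ℤ) (g : Fin p → ℤ) (c : A) :
    cof A M (single g c) = single (M.mulVec g) c := by
  simp [cof, mv]

/-- Over a domain a unit 2-cocycle is a constant. -/
theorem cocycle_domain [IsDomain A] (ξ : (L A 2)ˣ) (hc : δ2 A ξ = 1) :
    ∃ c : A, IsUnit c ∧ (ξ : L A 2) = single 0 c := by
  obtain ⟨g, c, hcu, hξ⟩ := exists_single_of_isUnit (ξ : L A 2) ξ.isUnit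
  refine ⟨c, hcu, ?_⟩
  have h := (δ2_eq_one_iff ξ).mp hc
  rw [hξ, cof_single, cof_single, cof_single, cof_single, single_mul_single,
    single_mul_single] at h
  have hcc : c * c ≠ 0 := mul_ne_zero hcu.ne_zero hcu.ne_zero
  have h2 := congrArg AddMonoidAlgebra.coeff h
  rw [coeff_single, coeff_single] at h2
  have h3 := (Finsupp.single_left_inj hcc).mp h2
  rw [vec2_eta g, D0_apply, D1_apply, D2_apply, D3_apply] at h3
  have e0 := congrFun h3 0
  have e2 := congrFun h3 2
  simp at e0 e2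
  have hg : g = 0 := by
    rw [vec2_eta g]
    ext i; fin_cases i
    · simpa using e0
    · simpa using e2
  rw [hξ, hg]

/-- For a prime `P`, the cocycle reduces modulo `P` to a constant. -/
theorem coeff_mod_prime (ξ : (L A 2)ˣ) (hc : δ2 A ξ = 1) (P : Ideal A) [P.IsPrime] :
    (ξ : L A 2).coeff 0 ∉ P ∧ ∀ w : Fin 2 → ℤ, w ≠ 0 → (ξ : L A 2).coeff w ∈ P := by
  let π : A →+* A ⧸ P := Ideal.Quotient.mk P
  set ξb : (L (A ⧸ P) 2)ˣ := Units.map (bc π 2).toMonoidHom ξ with hξb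
  have hcb : δ2 (A ⧸ P) ξb = 1 := by rw [hξb, ← bc_δ2, hc, map_one]
  obtain ⟨c, hcu, hξc⟩ := cocycle_domain ξb hcb
  have hcoef : ∀ w, π ((ξ : L A 2).coeff w) = (single (0 : Fin 2 → ℤ) c : L (A ⧸ P) 2).coeff w := by
    intro w
    rw [← hξc, ← coeff_bc]; rfl
  constructor
  · intro hmem
    have := hcoef 0
    rw [Ideal.Quotient.eq_zero_iff_mem.mpr hmem, coeff_single, Finsupp.single_eq_same] at this
    exact hcu.ne_zero this.symm
  · intro w hw
    have := hcoef w
    rw [coeff_single, Finsupp.single_eq_of_ne hw] at this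
    exact Ideal.Quotient.eq_zero_iff_mem.mp this

/-- constants as units of the Laurent ring -/
noncomputable def κ (p : ℕ) : Aˣ →* (L A p)ˣ :=
  Units.map (AddMonoidAlgebra.singleZeroRingHom (R := A) (M := Fin p → ℤ)).toMonoidHom

theorem κ_val (p : ℕ) (u : Aˣ) : ((κ p u : (L A p)ˣ) : L A p) = single 0 (u : A) := rfl

theorem cof_κ {p q : ℕ} (M : Matrix (Fin q) (Fin p) ℤ) (u : Aˣ) :
    Units.map (cof A M).toMonoidHom (κ p u) = κ q u := by
  refine Units.ext ?_
  change cof A M (single 0 (u : A)) = single 0 (u : A)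
  rw [cof_single, Matrix.mulVec_zero]

theorem δ2_κ (u : Aˣ) : δ2 A (κ 2 u) = 1 := by
  rw [δ2_apply, cof_κ, cof_κ, cof_κ, cof_κ]; simp

theorem δ1_κ (u : Aˣ) : δ1 A (κ 1 u) = κ 2 u := by
  rw [δ1_apply, cof_κ, cof_κ, cof_κ]; simp

/-- Main theorem: a multiplicative 2-cocycle is a coboundary. -/
theorem exists_coboundary (ξ : (L A 2)ˣ) (hc : δ2 A ξ = 1) : ∃ η : (L A 1)ˣ, ξ = δ1 A η := by
  classical
  -- the constant coefficient is a unit
  have hunit : IsUnit ((ξ : L A 2).coeff 0) := by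
    by_contra hnu
    obtain ⟨m, hm, hmem⟩ := exists_max_ideal_of_mem_nonunits hnu
    have := hm.isPrime
    exact (coeff_mod_prime ξ hc m).1 hmem
  -- the other coefficients are nilpotent
  have hnil : ∀ w : Fin 2 → ℤ, w ≠ 0 → (ξ : L A 2).coeff w ∈ nilradical A := by
    intro w hw
    rw [mem_nilradical, nilpotent_iff_mem_prime]
    intro P hP
    have := hP
    exact (coeff_mod_prime ξ hc P).2 w hw
  set u : Aˣ := hunit.unit with hu
  have huval : (u : A) = (ξ : L A 2).coeff 0 := IsUnit.unit_spec _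
  set ξ1 : (L A 2)ˣ := ξ * (κ 2 u)⁻¹ with hξ1
  have hc1 : δ2 A ξ1 = 1 := by
    rw [hξ1, map_mul, map_inv, δ2_κ, hc, inv_one, mul_one]
  have hξ1val : (ξ1 : L A 2) = (ξ : L A 2) * single 0 ((u⁻¹ : Aˣ) : A) := by
    rw [hξ1, Units.val_mul, ← map_inv, κ_val]
  have hcoef : ∀ w, (ξ1 : L A 2).coeff w = (ξ : L A 2).coeff w * ((u⁻¹ : Aˣ) : A) := by
    intro w
    rw [hξ1val, coeff_mul_single_zero]
  -- the ideal generated by the coefficients of ξ1 - 1
  let S : Finset A := ((ξ1 : L A 2) - 1).coeff.support.image ((ξ1 : L A 2) - 1).coeff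
  let I : Ideal A := Ideal.span (S : Set A)
  have hIcoef : CoeffIn I ((ξ1 : L A 2) - 1) := by
    intro w
    by_cases hw : w ∈ ((ξ1 : L A 2) - 1).coeff.support
    · exact Ideal.subset_span (Finset.mem_image_of_mem _ hw)
    · rw [Finsupp.notMem_support_iff.mp hw]; exact Ideal.zero_mem _
  have hInil : I ≤ nilradical A := by
    rw [Ideal.span_le]
    rintro _ hx
    obtain ⟨w, -, rfl⟩ := Finset.mem_image.mp hx
    rw [AddMonoidAlgebra.coeff_sub, Finsupp.sub_apply, hcoef, one_def, coeff_single]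
    by_cases hw : w = 0
    · subst hw
      rw [Finsupp.single_eq_same, ← huval, Units.mul_inv]
      simp
    · rw [Finsupp.single_eq_of_ne hw, sub_zero]
      exact Ideal.mul_mem_right _ _ (hnil w hw)
  have hIfg : I.FG := ⟨S, rfl⟩
  obtain ⟨N, hN⟩ : ∃ N : ℕ, I ^ N = ⊥ := by
    have := (Ideal.FG.isNilpotent_iff_le_nilradical hIfg).mpr hInil
    obtain ⟨N, hN⟩ := this
    exact ⟨N, by simpa using hN⟩
  have hN2 : I ^ (2 ^ N) = ⊥ := by
    rw [eq_bot_iff, ← hN]
    exact Ideal.pow_le_pow_right (Nat.lt_two_pow_self).le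
  obtain ⟨η1, hη1⟩ := nil_induction N A I hN2 ξ1 hc1 hIcoef
  refine ⟨η1 * κ 1 u, ?_⟩
  rw [map_mul, δ1_κ, ← hη1, hξ1]
  simp

end Groth.Agent.Lib.Seat62.Laurent
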