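import Mathlib
import Groth.Agent.Lib.Seat62StalkSpec
import Groth.Agent.Lib.Seat62AffDict
import Groth.Agent.Lib.Seat62PolyDiv

/-!
# Locally factorial schemes and regularly immersed codimension-one subschemes (seat 62)
-/

set_option autoImplicit false
universe u
open CategoryTheory AlgebraicGeometry TopologicalSpace Order IsLocalRing

namespace Groth.Agent.Lib.Seat62.LocFactorial

section ring

variable {R : Type*} [CommRing R]

theorem isDomain_of_bot_isPrime (h : (⊥ : Ideal R).IsPrime) : IsDomain R := by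
  have : Nontrivial R := by
    by_contra hn
    rw [not_nontrivial_iff_subsingleton] at hn
    exact h.ne_top (Subsingleton.elim _ _)
  have : NoZeroDivisors R := ⟨fun {a b} hab => by
    have : a * b ∈ (⊥ : Ideal R) := by rw [hab]; exact Ideal.zero_mem _
    simpa using h.mem_or_mem this⟩
  exact NoZeroDivisors.to_isDomain R

/-- A noetherian local ring of positive dimension in which all height-one primes are generated by
a non-zero-divisor is a domain. -/
theorem isDomain_of_heightOne_principal [IsNoetherianRing R] [IsLocalRing R]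
    (hdim : maximalIdeal R ∉ minimalPrimes R)
    (H : ∀ 𝔭 : Ideal R, 𝔭.IsPrime → 𝔭.height = 1 →
      ∃ t ∈ nonZeroDivisors R, 𝔭 = Ideal.span {t}) : IsDomain R := by
  classical
  have hfin : (minimalPrimes R).Finite := minimalPrimes.finite_of_isNoetherianRing R
  -- prime avoidance
  obtain ⟨a, ham, ha⟩ : ∃ a ∈ maximalIdeal R, ∀ 𝔮 ∈ minimalPrimes R, a ∉ 𝔮 := by
    by_contra hcon
    push Not at hcon
    have hsub : (maximalIdeal R : Set R) ⊆ ⋃ 𝔮 ∈ hfin.toFinset, (𝔮 : Set R) := by
      intro a ha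
      obtain ⟨𝔮, h𝔮, ha𝔮⟩ := hcon a ha
      exact Set.mem_iUnion₂.2 ⟨𝔮, hfin.mem_toFinset.2 h𝔮, ha𝔮⟩
    obtain ⟨𝔮, h𝔮, hle⟩ := (Ideal.subset_union_prime (s := hfin.toFinset) (f := fun 𝔮 => 𝔮)
      ⊥ ⊥ (fun 𝔮 h𝔮 _ _ => (hfin.mem_toFinset.1 h𝔮).1.1)).1 hsub
    have h𝔮' := hfin.mem_toFinset.1 h𝔮
    have : maximalIdeal R = 𝔮 :=
      ((maximalIdeal.isMaximal R).eq_of_le h𝔮'.1.1.ne_top hle)
    exact hdim (this ▸ h𝔮')
  obtain ⟨𝔭, h𝔭min, h𝔭m⟩ := Ideal.exists_minimalPrimes_le
    (show Ideal.span {a} ≤ maximalIdeal R from (Ideal.span_singleton_le_iff_mem _).2 ham)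
  have h𝔭p : 𝔭.IsPrime := h𝔭min.1.1
  have ha𝔭 : a ∈ 𝔭 := (Ideal.span_singleton_le_iff_mem _).1 h𝔭min.1.2
  have hle1 : 𝔭.height ≤ 1 := Ideal.height_le_one_of_isPrincipal_of_mem_minimalPrimes _ _ h𝔭min
  have hne0 : 𝔭.height ≠ 0 := by
    rw [Ne, Ideal.height_eq_zero_iff]
    exact fun h => ha 𝔭 h ha𝔭
  have h1 : 𝔭.height = 1 := le_antisymm hle1 (Order.one_le_iff_ne_zero.2 hne0)
  obtain ⟨t, ht, rfl⟩ := H 𝔭 h𝔭p h1
  obtain ⟨𝔮, h𝔮min, h𝔮le⟩ := Ideal.exists_minimalPrimes_le (show (⊥ : Ideal R) ≤ Ideal.span {t}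
    from bot_le)
  have h𝔮p : 𝔮.IsPrime := h𝔮min.1.1
  have ht𝔮 : t ∉ 𝔮 := by
    intro h
    have hle : Ideal.span {t} ≤ 𝔮 := (Ideal.span_singleton_le_iff_mem _).2 h
    have : Ideal.span {t} = 𝔮 := le_antisymm hle h𝔮le
    exact ha _ (this ▸ h𝔮min) ha𝔭
  have htm : t ∈ maximalIdeal R := h𝔭m (Ideal.mem_span_singleton_self t)
  have hsm : 𝔮 ≤ maximalIdeal R • 𝔮 := by
    intro b hb
    obtain ⟨c, rfl⟩ := Ideal.mem_span_singleton.1 (h𝔮le hb)
    have hc : c ∈ 𝔮 := (h𝔮p.mem_or_mem hb).resolve_left ht𝔮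
    exact Submodule.smul_mem_smul htm hc
  have h𝔮bot : 𝔮 = ⊥ := by
    refine Submodule.eq_bot_of_le_smul_of_le_jacobson_bot (maximalIdeal R) 𝔮
      (IsNoetherian.noetherian 𝔮) hsm ?_
    rw [IsLocalRing.jacobson_eq_maximalIdeal ⊥ bot_ne_top]
  exact isDomain_of_bot_isPrime (h𝔮bot ▸ h𝔮p)

/-- a reduced local ring whose maximal ideal is a minimal prime is a domain (a field). -/
theorem isDomain_of_isReduced_of_minimal [IsLocalRing R] [IsReduced R]
    (hdim : maximalIdeal R ∈ minimalPrimes R) : IsDomain R := by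
  have h1 : nilradical R = maximalIdeal R := by
    rw [nilradical_eq_sInf]
    apply le_antisymm
    · exact sInf_le (inferInstance : (maximalIdeal R).IsPrime)
    · refine le_sInf fun 𝔭 (h𝔭 : 𝔭.IsPrime) => ?_
      have hle : 𝔭 ≤ maximalIdeal R := IsLocalRing.le_maximalIdeal h𝔭.ne_top
      exact hdim.2 ⟨h𝔭, bot_le⟩ hle
  rw [nilradical_eq_zero R] at h1
  have : (⊥ : Ideal R).IsPrime := by
    have h2 : (⊥ : Ideal R) = maximalIdeal R := h1
    rw [h2]; infer_instance
  exact isDomain_of_bot_isPrime this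

end ring


section spec

variable {A : Type*} [CommRing A]

/-- a point of the spectrum of a noetherian ring which is both closed and generic is isolated. -/
theorem isOpen_singleton_of_isMax_of_isMin [IsNoetherianRing A] (x : PrimeSpectrum A)
    (h₁ : IsMax x) (h₂ : IsMin x) : IsOpen ({x} : Set (PrimeSpectrum A)) := by
  suffices {x} = (⋃ p ∈ { p : PrimeSpectrum A | IsMin p ∧ p ≠ x }, closure {p})ᶜ by
    rw [this, isOpen_compl_iff]
    refine Set.Finite.isClosed_biUnion ?_ (fun _ _ ↦ isClosed_closure)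
    exact (PrimeSpectrum.finite_setOfPred_isMin A).subset fun x h ↦ h.1
  ext p
  simp only [Set.mem_singleton_iff, ne_eq, Set.mem_ofPred_eq, Set.compl_iUnion, Set.mem_iInter,
    Set.mem_compl_iff, and_imp, ← specializes_iff_mem_closure, ← PrimeSpectrum.le_iff_specializes,
    not_imp_not]
  constructor
  · rintro rfl _ h3 h4
    exact h₂.eq_of_le h4
  · intro hp
    apply h₁.eq_of_ge
    obtain ⟨q, hq, hq'⟩ := Ideal.exists_minimalPrimes_le (J := p.asIdeal) bot_le
    exact (hp ⟨q, hq.1.1⟩ (PrimeSpectrum.isMin_iff.mpr hq) hq').ge.trans hq'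

end spec

section scheme

open Groth.Agent.Lib.Seat62.StalkSpec Groth.Agent.Lib.Seat62.AffDict
  Groth.Agent.Lib.Seat62.CDivNormal

variable {X : Scheme.{u}}

/-- generizations of points with integral local ring have integral local rings. -/
theorem isDomain_stalk_of_specializes {ζ x : X} (h : ζ ⤳ x) [IsDomain (X.presheaf.stalk x)] :
    IsDomain (X.presheaf.stalk ζ) := by
  obtain ⟨U, hU, hxU, -⟩ := exists_affine_le x ⊤ trivial
  have hζU : ζ ∈ U := h.mem_open U.2 hxU
  let algx := TopCat.Presheaf.algebra_section_stalk X.presheaf ⟨x, hxU⟩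
  let algζ := TopCat.Presheaf.algebra_section_stalk X.presheaf ⟨ζ, hζU⟩
  let algxζ : Algebra (X.presheaf.stalk x) (X.presheaf.stalk ζ) :=
    (X.presheaf.stalkSpecializes h).hom.toAlgebra
  have hgerm : ∀ a : Γ(X, U), (X.presheaf.stalkSpecializes h).hom (X.presheaf.germ U x hxU a) =
      X.presheaf.germ U ζ hζU a := fun a =>
    congrArg (fun φ => φ.hom a) (X.presheaf.germ_stalkSpecializes hxU h)
  have htower : IsScalarTower Γ(X, U) (X.presheaf.stalk x) (X.presheaf.stalk ζ) :=
    IsScalarTower.of_algebraMap_eq fun a => (hgerm a).symm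
  have hlocx : IsLocalization.AtPrime (X.presheaf.stalk x) (primeAt U x hxU) :=
    isLocalization_primeAt hU x hxU
  have hlocζ : IsLocalization.AtPrime (X.presheaf.stalk ζ) (primeAt U ζ hζU) :=
    isLocalization_primeAt hU ζ hζU
  have hle : (primeAt U x hxU).primeCompl ≤ (primeAt U ζ hζU).primeCompl := by
    intro a ha
    change a ∉ primeAt U ζ hζU
    have ha' : a ∉ primeAt U x hxU := ha
    rw [mem_primeAt_iff, not_not] at ha' ⊢
    rw [← hgerm a]
    exact ha'.map _
  have hloc := IsLocalization.isLocalization_of_submonoid_le (X.presheaf.stalk x)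
    (X.presheaf.stalk ζ) _ _ hle
  refine IsLocalization.isDomain_of_le_nonZeroDivisors (X.presheaf.stalk ζ)
    (M := (primeAt U ζ hζU).primeCompl.map (algebraMap Γ(X, U) (X.presheaf.stalk x))) ?_
  rintro _ ⟨a, ha, rfl⟩
  apply mem_nonZeroDivisors_of_ne_zero
  intro h0
  have ha' : a ∉ primeAt U ζ hζU := ha
  rw [mem_primeAt_iff, not_not] at ha'
  have h1 : X.presheaf.germ U ζ hζU a = 0 := by
    rw [← hgerm a]
    change (X.presheaf.stalkSpecializes h).hom (algebraMap Γ(X, U) (X.presheaf.stalk x) a) = 0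
    rw [h0, map_zero]
  rw [h1] at ha'
  exact not_isUnit_zero ha'

variable [IsLocallyNoetherian X]

omit [IsLocallyNoetherian X] in
/-- the hypothesis (a'') of EGA IV 21.7.2 at the level of one local ring. -/
theorem heightOne_principal_of_hyp
    (H : ∀ ζ : X, ringKrullDim (X.presheaf.stalk ζ) = 1 → ∀ (x : X) (h : ζ ⤳ x),
      ∃ t : X.presheaf.stalk x, t ∈ nonZeroDivisors (X.presheaf.stalk x) ∧
        (maximalIdeal (X.presheaf.stalk ζ)).comap (X.presheaf.stalkSpecializes h).hom =
          Ideal.span {t}) (x : X) (𝔭 : Ideal (X.presheaf.stalk x)) (h𝔭 : 𝔭.IsPrime)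
    (hh : 𝔭.height = 1) : ∃ t ∈ nonZeroDivisors (X.presheaf.stalk x), 𝔭 = Ideal.span {t} := by
  let p : Spec (X.presheaf.stalk x) := (⟨𝔭, h𝔭⟩ : PrimeSpectrum (X.presheaf.stalk x))
  have hsp := specializes_fromSpecStalk x p
  have hdim : ringKrullDim (X.presheaf.stalk ((X.fromSpecStalk x) p)) = 1 := by
    rw [ringKrullDim_stalk_eq_coheight, coheight_fromSpecStalk_eq_height]
    change ((𝔭.height : ℕ∞) : WithBot ℕ∞) = 1
    rw [hh]
    rfl
  obtain ⟨t, ht, htp⟩ := H _ hdim x hsp
  refine ⟨t, ht, ?_⟩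
  rw [← htp, ← primeOf_asIdeal, primeOf_fromSpecStalk]

theorem isDomain_stalk_of_hyp
    (hred : ∀ x : X, IsOpen ({x} : Set X) → IsReduced (X.presheaf.stalk x))
    (H : ∀ ζ : X, ringKrullDim (X.presheaf.stalk ζ) = 1 → ∀ (x : X) (h : ζ ⤳ x),
      ∃ t : X.presheaf.stalk x, t ∈ nonZeroDivisors (X.presheaf.stalk x) ∧
        (maximalIdeal (X.presheaf.stalk ζ)).comap (X.presheaf.stalkSpecializes h).hom =
          Ideal.span {t}) (x : X) : IsDomain (X.presheaf.stalk x) := by
  by_cases hmin : maximalIdeal (X.presheaf.stalk x) ∈ minimalPrimes (X.presheaf.stalk x)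
  swap
  · exact isDomain_of_heightOne_principal hmin (heightOne_principal_of_hyp H x)
  by_cases hx' : ∃ x' : X, x ⤳ x' ∧ x' ≠ x
  · obtain ⟨x', hsp, hne⟩ := hx'
    have hmin' : maximalIdeal (X.presheaf.stalk x') ∉ minimalPrimes (X.presheaf.stalk x') := by
      intro hm
      have hle : (primeOf hsp).asIdeal ≤ maximalIdeal (X.presheaf.stalk x') :=
        IsLocalRing.le_maximalIdeal (primeOf hsp).2.ne_top
      have hge := hm.2 ⟨(primeOf hsp).2, bot_le⟩ hle
      have heq : primeOf hsp = IsLocalRing.closedPoint (X.presheaf.stalk x') :=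
        PrimeSpectrum.ext (le_antisymm hle hge)
      have h1 := fromSpecStalk_primeOf hsp
      rw [heq, Scheme.fromSpecStalk_closedPoint] at h1
      exact hne h1
    have := isDomain_of_heightOne_principal hmin' (heightOne_principal_of_hyp H x')
    exact isDomain_stalk_of_specializes hsp
  · -- `x` is closed and generic, hence isolated
    have hclosed : IsClosed ({x} : Set X) := by
      rw [← closure_eq_iff_isClosed]
      apply Set.Subset.antisymm _ subset_closure
      intro x' hx''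
      rw [← specializes_iff_mem_closure] at hx''
      by_contra hne
      exact hx' ⟨x', hx'', hne⟩
    obtain ⟨U, hU, hxU, -⟩ := exists_affine_le x ⊤ trivial
    have : IsNoetherianRing Γ(X, U) := IsLocallyNoetherian.component_noetherian ⟨U, hU⟩
    set q := hU.primeIdealOf ⟨x, hxU⟩ with hq
    have hqmax : IsMax q :=
      PrimeSpectrum.isMax_iff.2 (hU.primeIdealOf_isMaximal_of_isClosed ⟨x, hxU⟩ hclosed)
    have hqmin : IsMin q := by
      rw [PrimeSpectrum.isMin_iff, ← Ideal.height_eq_zero_iff, hq, ← primeAt_eq hU x hxU,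
        height_primeAt hU x hxU]
      have h1 : (maximalIdeal (X.presheaf.stalk x)).height = 0 := Ideal.height_eq_zero_iff.2 hmin
      have h2 := IsLocalRing.maximalIdeal_height_eq_ringKrullDim (R := X.presheaf.stalk x)
      rw [h1, ringKrullDim_stalk_eq_coheight] at h2
      exact_mod_cast h2.symm
    have hopenq := isOpen_singleton_of_isMax_of_isMin q hqmax hqmin
    have hopen : IsOpen ({x} : Set X) := by
      have h1 := hU.fromSpec.isOpenEmbedding.isOpenMap _ hopenq
      have h2 : ({x} : Set X) = hU.fromSpec '' {q} := by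
        ext z
        simp only [Set.mem_singleton_iff, Set.mem_image]
        constructor
        · rintro rfl
          exact ⟨q, rfl, hU.fromSpec_primeIdealOf ⟨z, hxU⟩⟩
        · rintro ⟨q', rfl, rfl⟩
          exact (hU.fromSpec_primeIdealOf ⟨x, hxU⟩)
      rw [h2]
      exact h1
    have := hred x hopen
    exact isDomain_of_isReduced_of_minimal hmin

/-- **EGA IV 21.7.2, (a'') ⟺ (c)**. -/
theorem regularlyImmersed_iff_locallyFactorial
    (hred : ∀ x : X, IsOpen ({x} : Set X) → IsReduced (X.presheaf.stalk x)) :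
    (∀ ζ : X, ringKrullDim (X.presheaf.stalk ζ) = 1 → ∀ (x : X) (h : ζ ⤳ x),
        ∃ t : X.presheaf.stalk x, t ∈ nonZeroDivisors (X.presheaf.stalk x) ∧
          (maximalIdeal (X.presheaf.stalk ζ)).comap (X.presheaf.stalkSpecializes h).hom =
            Ideal.span {t}) ↔
      ∀ x : X, ∃ _ : IsDomain (X.presheaf.stalk x),
        UniqueFactorizationMonoid (X.presheaf.stalk x) := by
  constructor
  · intro H x
    have hdom := isDomain_stalk_of_hyp hred H x
    refine ⟨hdom, ?_⟩
    rw [UniqueFactorizationMonoid.iff_exists_prime_mem_of_isPrime]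
    intro I hI hIp
    obtain ⟨a, haI, ha0⟩ := Submodule.exists_mem_ne_zero_of_ne_bot hI
    obtain ⟨q, hqmin, hqI⟩ := Ideal.exists_minimalPrimes_le
      (show Ideal.span {a} ≤ I from (Ideal.span_singleton_le_iff_mem I).2 haI)
    have hqp : q.IsPrime := hqmin.1.1
    have hqh : q.height = 1 := by
      refine le_antisymm (Ideal.height_le_one_of_isPrincipal_of_mem_minimalPrimes _ q hqmin) ?_
      rw [Order.one_le_iff_pos, pos_iff_ne_zero, Ne, Ideal.height_eq_zero_iff_eq_bot]
      intro hbot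
      have : a ∈ q := hqmin.1.2 (Ideal.mem_span_singleton_self a)
      rw [hbot] at this
      exact ha0 this
    obtain ⟨t, ht, rfl⟩ := heightOne_principal_of_hyp H x q hqp hqh
    have ht0 : t ≠ 0 := nonZeroDivisors.ne_zero ht
    exact ⟨t, hqI (Ideal.mem_span_singleton_self t), (Ideal.span_singleton_prime ht0).1 hqp⟩
  · intro H ζ hζ x h
    obtain ⟨hdom, hufd⟩ := H x
    have hh : (primeOf h).asIdeal.height = 1 := by
      rw [height_primeOf]
      have := ringKrullDim_stalk_eq_coheight (X := X) ζ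
      rw [hζ] at this
      exact_mod_cast this.symm
    have hne : (primeOf h).asIdeal ≠ ⊥ := by
      intro e
      rw [e, Ideal.height_bot] at hh
      exact zero_ne_one hh
    obtain ⟨t, htmem, htp⟩ := (primeOf h).2.exists_mem_prime_of_ne_bot hne
    have hsp : (Ideal.span {t}).IsPrime := (Ideal.span_singleton_prime htp.ne_zero).2 htp
    have hs0 : Ideal.span {t} ≠ ⊥ := by
      rw [Ne, Ideal.span_singleton_eq_bot]; exact htp.ne_zero
    have := (primeOf h).2
    have heq := Groth.Agent.Lib.Seat62.PolyDiv.eq_of_le_of_height_one hs0 hh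
      ((Ideal.span_singleton_le_iff_mem _).2 htmem)
    exact ⟨t, mem_nonZeroDivisors_of_ne_zero htp.ne_zero, by rw [heq]; rfl⟩

end scheme

end Groth.Agent.Lib.Seat62.LocFactorial
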