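import Mathlib
import Groth.Prelude.Def_CohB1
import Groth.Agent.Lib.Seat63PnConn
import Groth.Agent.Lib.Helper27ConeRetr
import Groth.Agent.Lib.Seat62IotaMore
import Groth.Agent.Lib.Seat62AffSpaceClSurj

/-!
# The divisor class group of `ℙⁿ_A` (seat 62)
-/

set_option autoImplicit false
set_option linter.unusedSectionVars false
universe u
open CategoryTheory AlgebraicGeometry TopologicalSpace Order IsLocalRing MvPolynomial
  HomogeneousLocalization

namespace Groth.Agent.Lib.Seat62.PnCl

open Groth.Agent.Lib.Seat63.PnConn Groth.Agent.Lib.Helper27PnChart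
  Groth.Agent.Lib.Seat62.AffDict Groth.Agent.Lib.Seat62.AffSpaceCl
  Groth.Agent.Lib.Seat62.CDivNormal

variable (n : ℕ) (A : Type u) [CommRing A]

/-- the chart `X₀ ≠ 0` as an open immersion from affine space. -/
noncomputable def jj : AffineSpace (Idx n 0) (Spec (CommRingCat.of A)) ⟶
    Proj (CohB1.polyGrading n A) :=
  (chartIso n A 0).inv ≫ chartι n A 0

instance : IsOpenImmersion (jj n A) := by
  unfold jj; infer_instance

theorem jj_str : jj n A ≫ str n A =
    (AffineSpace (Idx n 0) (Spec (CommRingCat.of A)) ↘ Spec (CommRingCat.of A)) := by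
  unfold jj
  rw [Category.assoc, Iso.inv_comp_eq, chartIso_hom_over]

theorem mem_range_jj_iff (z : Proj (CohB1.polyGrading n A)) :
    z ∈ Set.range (jj n A) ↔
      (X 0 : MvPolynomial (Fin (n + 1)) A) ∉ z.asHomogeneousIdeal := by
  have h1 : Set.range (jj n A) = Set.range (chartι n A 0) := by
    unfold jj
    rw [Scheme.Hom.comp_base, TopCat.coe_comp, Set.range_comp,
      Set.range_eq_univ.2 (chartIso n A 0).inv.surjective, Set.image_univ]
  rw [h1]
  have h2 := Proj.opensRange_awayι (CohB1.polyGrading n A) (X 0) (X_mem_one n A 0) Nat.one_pos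
  have h3 : z ∈ (Proj.awayι (CohB1.polyGrading n A) (X 0) (X_mem_one n A 0)
      Nat.one_pos).opensRange ↔ z ∈ Set.range (chartι n A 0) := Iff.rfl
  rw [← h3, h2]
  exact Proj.mem_basicOpen _ _ _


section hyperplane

variable {n A} [IsDomain A]
variable (H : Proj (CohB1.polyGrading n A))
  (hH : H.asHomogeneousIdeal.toIdeal = Ideal.span {(X 0 : MvPolynomial (Fin (n + 1)) A)})

include hH

theorem X0_mem : (X 0 : MvPolynomial (Fin (n + 1)) A) ∈ H.asHomogeneousIdeal := by
  change _ ∈ H.asHomogeneousIdeal.toIdeal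
  rw [hH]
  exact Ideal.mem_span_singleton_self _

theorem notMem_range_jj : H ∉ Set.range (jj n A) := by
  rw [mem_range_jj_iff, not_not]
  exact X0_mem H hH

/-- evaluation at `(0, 1, …, 1)`. -/
noncomputable def ev : MvPolynomial (Fin (n + 1)) A →+* A :=
  MvPolynomial.eval₂Hom (RingHom.id A) (fun i => if i = 0 then 0 else 1)

omit hH in
theorem eq_zero_of_mul_mem (hn : 1 ≤ n) (a : A)
    (h : C a * X (1 : Fin (n + 1)) ∈ Ideal.span {(X 0 : MvPolynomial (Fin (n + 1)) A)}) :
    a = 0 := by
  obtain ⟨c, hc⟩ := Ideal.mem_span_singleton.1 h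
  have h10 : (1 : Fin (n + 1)) ≠ 0 := by
    intro e
    have := congrArg Fin.val e
    rw [Fin.val_one', Fin.val_zero] at this
    have h2 : 1 % (n + 1) = 1 := Nat.mod_eq_of_lt (by omega)
    omega
  have := congrArg (ev (n := n) (A := A)) hc
  simp only [ev, map_mul, MvPolynomial.eval₂Hom_C, MvPolynomial.eval₂Hom_X', RingHom.id_apply,
    if_neg h10, if_true, mul_one, zero_mul] at this
  exact this

theorem X1_notMem (hn : 1 ≤ n) :
    (X (1 : Fin (n + 1)) : MvPolynomial (Fin (n + 1)) A) ∉ H.asHomogeneousIdeal := by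
  intro h
  have h' : (X (1 : Fin (n + 1)) : MvPolynomial (Fin (n + 1)) A) ∈
      H.asHomogeneousIdeal.toIdeal := h
  rw [hH] at h'
  have := eq_zero_of_mul_mem hn (1 : A) (by rwa [map_one, one_mul])
  exact one_ne_zero this

omit hH in
theorem strMap_eq_isLocalizationElem (a : A) :
    strMap n A 1 a = Away.isLocalizationElem (𝒜 := CohB1.polyGrading n A) (X_mem_one n A 1)
      (show C a * X (1 : Fin (n + 1)) ∈ CohB1.polyGrading n A 1 from by
        have := (MvPolynomial.isHomogeneous_C (Fin (n + 1)) a).mul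
          (MvPolynomial.isHomogeneous_X A (1 : Fin (n + 1)))
        simpa using this) := by
  apply HomogeneousLocalization.val_injective
  unfold strMap
  simp only [RingHom.comp_apply, fromZeroRingHom]
  rw [Away.val_mk]
  change Localization.mk (C a) 1 = _
  rw [Localization.mk_eq_mk_iff, Localization.r_iff_exists]
  refine ⟨1, ?_⟩
  simp only [OneMemClass.coe_one, one_mul, pow_one]
  ring

theorem str_eq_genericPoint (hn : 1 ≤ n) [IsIntegral (Spec (CommRingCat.of A))] :
    str n A H = genericPoint (Spec (CommRingCat.of A)) := by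
  have hmem : H ∈ Set.range (chartι n A 1) := by
    have h2 := Proj.opensRange_awayι (CohB1.polyGrading n A) (X 1) (X_mem_one n A 1) Nat.one_pos
    have h3 : H ∈ (Proj.awayι (CohB1.polyGrading n A) (X 1) (X_mem_one n A 1)
        Nat.one_pos).opensRange ↔ H ∈ Set.range (chartι n A 1) := Iff.rfl
    rw [← h3, h2]
    exact (Proj.mem_basicOpen _ _ _).2 (X1_notMem H hH hn)
  obtain ⟨𝔯, h𝔯⟩ := hmem
  have h1 : str n A H = Spec.map (CommRingCat.ofHom (strMap n A 1)) 𝔯 := by
    rw [← h𝔯, ← chartι_str, Scheme.Hom.comp_apply]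
  rw [h1, genericPoint_eq_bot_of_affine]
  apply PrimeSpectrum.ext
  change Ideal.comap (strMap n A 1) 𝔯.asIdeal = ⊥
  rw [eq_bot_iff]
  intro a ha
  rw [Ideal.mem_comap, strMap_eq_isLocalizationElem] at ha
  rw [Ideal.mem_bot]
  have h2 := (Groth.Agent.Lib.Helper27ConeRetr.mem_awayι_iff (CohB1.polyGrading n A) Nat.one_pos
    Nat.one_pos (X_mem_one n A 1) _ 𝔯).2 ha
  have h3 : C a * X (1 : Fin (n + 1)) ∈ H.asHomogeneousIdeal := by
    rw [← h𝔯]
    exact h2
  have h4 : C a * X (1 : Fin (n + 1)) ∈ H.asHomogeneousIdeal.toIdeal := h3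
  rw [hH] at h4
  exact eq_zero_of_mul_mem hn a h4

end hyperplane


section main

variable {n A} [IsDomain A] [IsNoetherianRing A]
  [IsIntegral (Proj (CohB1.polyGrading n A))] [IsLocallyNoetherian (Proj (CohB1.polyGrading n A))]
  [IsIntegral (Spec (CommRingCat.of A))]

theorem iota_congr {P X : Scheme.{u}} [IsIntegral P] [IsIntegral X] {p p' : P ⟶ X} (e : p = p')
    (h : p (genericPoint P) = genericPoint X) (h' : p' (genericPoint P) = genericPoint X) :
    iota p h = iota p' h' := by
  subst e; rfl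

instance : IsLocallyNoetherian (AffineSpace (Idx n 0) (Spec (CommRingCat.of A))) :=
  isLocallyNoetherian_of_isOpenImmersion (jj n A)

theorem jj_genericPoint :
    jj n A (genericPoint (AffineSpace (Idx n 0) (Spec (CommRingCat.of A)))) =
      genericPoint (Proj (CohB1.polyGrading n A)) :=
  genericPoint_eq_of_isOpenImmersion (jj n A)

theorem over_genericPoint :
    (AffineSpace (Idx n 0) (Spec (CommRingCat.of A)) ↘ Spec (CommRingCat.of A))
      (genericPoint (AffineSpace (Idx n 0) (Spec (CommRingCat.of A)))) =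
      genericPoint (Spec (CommRingCat.of A)) :=
  map_genericPoint_of_surjective _

theorem str_genericPoint :
    str n A (genericPoint (Proj (CohB1.polyGrading n A))) =
      genericPoint (Spec (CommRingCat.of A)) := by
  rw [← jj_genericPoint, ← Scheme.Hom.comp_apply, jj_str]
  exact over_genericPoint

theorem genericPoint_mem_range_jj :
    genericPoint (Proj (CohB1.polyGrading n A)) ∈ Set.range (jj n A) :=
  ⟨_, jj_genericPoint⟩

variable (H : Proj (CohB1.polyGrading n A))
  (hH : H.asHomogeneousIdeal.toIdeal = Ideal.span {(X 0 : MvPolynomial (Fin (n + 1)) A)})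

include hH in
/-- every codimension-one point other than `H` lies in the chart `X₀ ≠ 0`. -/
theorem mem_range_jj_of_ne (z : Proj (CohB1.polyGrading n A)) (hz : coheight z = 1)
    (hne : z ≠ H) : z ∈ Set.range (jj n A) := by
  by_contra hnot
  rw [mem_range_jj_iff, not_not] at hnot
  have hle : H.asHomogeneousIdeal ≤ z.asHomogeneousIdeal := by
    intro a ha
    have ha' : a ∈ H.asHomogeneousIdeal.toIdeal := ha
    rw [hH] at ha'
    obtain ⟨c, rfl⟩ := Ideal.mem_span_singleton.1 ha'
    exact Ideal.mul_mem_right _ _ hnot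
  have hHz : H ⤳ z := by
    rw [specializes_iff_mem_closure]
    exact (ProjectiveSpectrum.le_iff_mem_closure (𝒜 := CohB1.polyGrading n A) H z).1 hle
  set η := genericPoint (Proj (CohB1.polyGrading n A)) with hη
  have hηH : η ≠ H := by
    intro e
    have h1 := (mem_range_jj_iff n A η).1 genericPoint_mem_range_jj
    rw [e] at h1
    exact h1 (X0_mem H hH)
  have hηspec : ∀ w : Proj (CohB1.polyGrading n A), η ⤳ w := fun w =>
    (genericPoint_spec _).specializes trivial
  have h1 : z < H := by
    refine lt_of_le_not_ge hHz ?_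
    intro (hzH : z ⤳ H)
    exact hne (hzH.antisymm hHz).eq
  have h2 : H < η := by
    refine lt_of_le_not_ge (hηspec H) ?_
    intro (hHη : H ⤳ η)
    exact hηH ((hηspec H).antisymm hHη).eq
  have h3 := Order.coheight_add_one_le h1
  have h4 := Order.coheight_add_one_le h2
  rw [hz] at h3
  have h5 : (1 : ℕ∞) ≤ coheight H := le_trans le_add_self h4
  have h6 : (1 : ℕ∞) + 1 ≤ 1 := le_trans (add_le_add_left h5 1) h3
  exact absurd h6 (by decide)

include hH in
/-- **`d·H + q^*D` principal implies `d = 0` and `D` principal.** -/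
theorem hyperplane_add_pullback_principal (hn : 1 ≤ n)
    (hR1 : ∀ x : Spec (CommRingCat.of A), coheight x = 1 →
      IsDiscreteValuationRing ((Spec (CommRingCat.of A)).presheaf.stalk x))
    (d : ℤ) (D : Spec (CommRingCat.of A) → ℤ) (hD : ∀ x, coheight x ≠ 1 → D x = 0)
    (g : (Proj (CohB1.polyGrading n A)).functionField) (hg : g ≠ 0)
    (hH' : Scheme.ord g H = d + D (str n A H))
    (h : ∀ y, y ≠ H → coheight y = 1 → Scheme.ord g y = D (str n A y)) :
    d = 0 ∧ ∃ f : (Spec (CommRingCat.of A)).functionField, f ≠ 0 ∧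
      ∀ x : Spec (CommRingCat.of A), coheight x = 1 → Scheme.ord f x = D x := by
  set gY := iota (jj n A) jj_genericPoint g with hgY
  have hgY0 : gY ≠ 0 := iota_ne_zero _ _ g hg
  have hY : ∀ y : AffineSpace (Idx n 0) (Spec (CommRingCat.of A)), coheight y = 1 →
      Scheme.ord gY y = D ((AffineSpace (Idx n 0) (Spec (CommRingCat.of A)) ↘
        Spec (CommRingCat.of A)) y) := by
    intro y hy
    rw [hgY, ord_iota_openImmersion, h (jj n A y) ?_ ?_, ← Scheme.Hom.comp_apply, jj_str]
    · rintro e
      exact notMem_range_jj H hH ⟨y, e⟩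
    · rw [coheight_eq_of_isOpenImmersion]; exact hy
  obtain ⟨f, hf0, hιf, hfx⟩ := principal_of_pullback_principal' (Idx n 0)
    (Spec (CommRingCat.of A)) hR1 D hD gY hgY0 hY over_genericPoint
  have hcomp : (jj n A ≫ str n A) (genericPoint _) = genericPoint (Spec (CommRingCat.of A)) := by
    rw [jj_str]; exact over_genericPoint
  have h1 : iota (AffineSpace (Idx n 0) (Spec (CommRingCat.of A)) ↘ Spec (CommRingCat.of A))
      over_genericPoint = iota (jj n A ≫ str n A) hcomp := iota_congr (jj_str n A).symm _ _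
  rw [h1, iota_comp (str n A) (jj n A) jj_genericPoint str_genericPoint hcomp] at hιf
  have h2 : iota (str n A) str_genericPoint f = g := by
    apply iota_injective (jj n A) jj_genericPoint
    exact hιf
  refine ⟨?_, f, hf0, hfx⟩
  have h3 : Scheme.ord g H = 0 := by
    rw [← h2]
    exact ord_iota_of_map_eq_genericPoint (str n A) str_genericPoint f hf0 H
      (str_eq_genericPoint H hH hn)
  have h4 : D (str n A H) = 0 := by
    apply hD
    rw [str_eq_genericPoint H hH hn, coheight_genericPoint]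
    exact zero_ne_one
  rw [h3, h4] at hH'
  omega

include hH in
/-- **`Cl(ℙⁿ_A) = ℤ·H ⊕ Cl(A)`**. -/
theorem existsUnique_hyperplane_add_pullback (hn : 1 ≤ n)
    (hR1 : ∀ x : Spec (CommRingCat.of A), coheight x = 1 →
      IsDiscreteValuationRing ((Spec (CommRingCat.of A)).presheaf.stalk x))
    (D' : Proj (CohB1.polyGrading n A) → ℤ) (hD' : ∀ y, coheight y ≠ 1 → D' y = 0)
    (hfin : {y | D' y ≠ 0}.Finite) :
    ∃! d : ℤ, ∃ (D : Spec (CommRingCat.of A) → ℤ)
      (g : (Proj (CohB1.polyGrading n A)).functionField),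
      (∀ x, coheight x ≠ 1 → D x = 0) ∧ {x | D x ≠ 0}.Finite ∧ g ≠ 0 ∧
      D' H = d + D (str n A H) + Scheme.ord g H ∧
      ∀ y, y ≠ H → coheight y = 1 → D' y = D (str n A y) + Scheme.ord g y := by
  -- existence
  have hDY : ∀ y : AffineSpace (Idx n 0) (Spec (CommRingCat.of A)), coheight y ≠ 1 →
      D' (jj n A y) = 0 := by
    intro y hy
    apply hD'
    rw [coheight_eq_of_isOpenImmersion]
    exact hy
  have hfinY : {y : AffineSpace (Idx n 0) (Spec (CommRingCat.of A)) |
      D' (jj n A y) ≠ 0}.Finite :=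
    hfin.preimage ((jj n A).isOpenEmbedding.injective.injOn)
  obtain ⟨D, gY, hD, hDfin, hgY0, hDg⟩ := exists_pullback_add_principal (Idx n 0)
    (Spec (CommRingCat.of A)) (fun y => D' (jj n A y)) hDY hfinY
  obtain ⟨g, hg⟩ := (iota_bijective_of_openImmersion (jj n A) jj_genericPoint).2 gY
  have hg0 : g ≠ 0 := by
    rintro rfl
    rw [map_zero] at hg
    exact hgY0 hg.symm
  have hex : ∀ y, y ≠ H → coheight y = 1 → D' y = D (str n A y) + Scheme.ord g y := by
    intro y hyH hyc
    obtain ⟨y', rfl⟩ := mem_range_jj_of_ne H hH y hyc hyH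
    have hyc' : coheight y' = 1 := by
      rw [← coheight_eq_of_isOpenImmersion (jj n A)]; exact hyc
    have := hDg y' hyc'
    rw [← hg, ord_iota_openImmersion, ← jj_str, Scheme.Hom.comp_apply] at this
    exact this
  refine ⟨D' H - D (str n A H) - Scheme.ord g H, ⟨D, g, hD, hDfin, hg0, by ring, hex⟩, ?_⟩
  -- uniqueness
  rintro d₂ ⟨D₂, g₂, hD₂, -, hg₂0, hH₂, hy₂⟩
  have key := hyperplane_add_pullback_principal H hH hn hR1
    ((D' H - D (str n A H) - Scheme.ord g H) - d₂) (fun x => D x - D₂ x)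
    (fun x hx => by simp only [hD x hx, hD₂ x hx, sub_self]) (g₂ / g) (div_ne_zero hg₂0 hg0)
    (by
      rw [div_eq_mul_inv, Scheme.ord_mul hg₂0 (inv_ne_zero hg0), ord_inv _ _ hg0]
      linarith)
    (by
      intro y hyH hyc
      rw [div_eq_mul_inv, Scheme.ord_mul hg₂0 (inv_ne_zero hg0), ord_inv _ _ hg0]
      have h1 := hex y hyH hyc
      have h2 := hy₂ y hyH hyc
      linarith)
  linarith [key.1]

end main

end Groth.Agent.Lib.Seat62.PnCl
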