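import Mathlib
import Groth.Prelude.Def_CohB1
import Groth.Agent.Lib.Seat63PnConn

/-!
# Projective space is geometrically irreducible over its base (seat 62)

Adapts `Seat63PnConn` (geometric connectedness): the standard charts are geometrically irreducible,
open, cover, and all contain the section `(1 : … : 1)`; a space covered by irreducible opens with a
common point is irreducible.
-/

set_option autoImplicit false
set_option linter.style.haveILetI false
universe u

open CategoryTheory CategoryTheory.Limits AlgebraicGeometry HomogeneousLocalization MvPolynomial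

namespace Groth.Agent.Lib.Seat62.PnIrred

open Groth.Agent.Lib.Helper27PnChart Groth.Agent.Lib.Seat63.PnConn

/-- A space covered by preirreducible open subsets with a common point is preirreducible. -/
theorem isPreirreducible_univ_of_open_cover {T : Type*} [TopologicalSpace T] {ι : Type*}
    (V : ι → Set T) (hopen : ∀ i, IsOpen (V i)) (hirr : ∀ i, IsPreirreducible (V i))
    (p : T) (hp : ∀ i, p ∈ V i) (hcover : (⋃ i, V i) = Set.univ) :
    IsPreirreducible (Set.univ : Set T) := by
  intro u v hu hv ⟨x, _, hxu⟩ ⟨y, _, hyv⟩
  have hx : x ∈ ⋃ i, V i := by rw [hcover]; trivial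
  have hy : y ∈ ⋃ i, V i := by rw [hcover]; trivial
  obtain ⟨i, hi⟩ := Set.mem_iUnion.1 hx
  obtain ⟨j, hj⟩ := Set.mem_iUnion.1 hy
  obtain ⟨x', hx'i, hx'u, hx'j⟩ := hirr i u (V j) hu (hopen j) ⟨x, hi, hxu⟩ ⟨p, hp i, hp j⟩
  obtain ⟨w, _, hwu, hwv⟩ := hirr j u v hu hv ⟨x', hx'j, hx'u⟩ ⟨y, hj, hyv⟩
  exact ⟨w, trivial, hwu, hwv⟩

variable (n : ℕ) (R : Type u) [CommRing R]

theorem irreducibleSpace_pullback (K : Type u) [Field K]
    (x : Spec (CommRingCat.of K) ⟶ Spec (CommRingCat.of R)) :
    IrreducibleSpace ↥(pullback (str n R) x) := by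
  set fst := pullback.fst (str n R) x with hfst
  -- the pieces
  have hirr : ∀ i : Fin (n + 1), IrreducibleSpace ↥(pullback (chartι n R i ≫ str n R) x) :=
    fun i => GeometricallyIrreducible.geometrically_irreducibleSpace _ _ _
      (IsPullback.of_hasPullback _ _)
  have hV : ∀ i : Fin (n + 1),
      _root_.IsPreirreducible (Set.range (pullback.snd (chartι n R i) fst)) := by
    intro i
    haveI := hirr i
    have h1 : _root_.IsPreirreducible (Set.range
        ((pullbackRightPullbackFstIso (str n R) x (chartι n R i)).inv ≫
          pullback.snd (chartι n R i) fst)) := by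
      rw [← Set.image_univ]
      exact (PreirreducibleSpace.isPreirreducible_univ).image _
        (Scheme.Hom.continuous _).continuousOn
    have h2 : Set.range ((pullbackRightPullbackFstIso (str n R) x (chartι n R i)).inv ≫
          pullback.snd (chartι n R i) fst) = Set.range (pullback.snd (chartι n R i) fst) := by
      rw [Scheme.Hom.comp_base, TopCat.coe_comp, Set.range_comp,
        Set.range_eq_univ.mpr (pullbackRightPullbackFstIso (str n R) x (chartι n R i)).inv.surjective,
        Set.image_univ]
    rwa [h2] at h1
  have hVeq : ∀ i : Fin (n + 1), Set.range (pullback.snd (chartι n R i) fst) =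
      fst ⁻¹' (Proj.basicOpen (CohB1.polyGrading n R) (X i) : Set _) := by
    intro i
    rw [IsOpenImmersion.range_pullbackSnd (chartι n R i) fst]
    have : (chartι n R i).opensRange = Proj.basicOpen (CohB1.polyGrading n R) (X i) :=
      Proj.opensRange_awayι _ _ _ _
    rw [this]
    rfl
  have hVopen : ∀ i : Fin (n + 1), IsOpen (Set.range (pullback.snd (chartι n R i) fst)) :=
    fun i => (pullback.snd (chartι n R i) fst).isOpenEmbedding.isOpen_range
  -- the common point
  let s : Spec (CommRingCat.of K) ⟶ pullback (str n R) x :=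
    pullback.lift (x ≫ onePt n R) (𝟙 _) (by rw [Category.assoc, onePt_str]; simp)
  have hs : s ≫ fst = x ≫ onePt n R := pullback.lift_fst _ _ _
  let pt : Spec (CommRingCat.of K) := Nonempty.some inferInstance
  have hz : ∀ i : Fin (n + 1), s pt ∈ Set.range (pullback.snd (chartι n R i) fst) := by
    intro i
    rw [hVeq i, Set.mem_preimage]
    have : fst (s pt) = onePt n R (x pt) := by
      rw [← Scheme.Hom.comp_apply, hs, Scheme.Hom.comp_apply]
    rw [this]
    exact onePt_mem n R _ i
  have hcover : (⋃ i : Fin (n + 1), Set.range (pullback.snd (chartι n R i) fst)) = Set.univ := by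
    rw [Set.eq_univ_iff_forall]
    intro z
    have hz' : fst z ∈ (⊤ : (Proj (CohB1.polyGrading n R)).Opens) := trivial
    rw [← iSup_basicOpen_X n R, TopologicalSpace.Opens.mem_iSup] at hz'
    obtain ⟨i, hi⟩ := hz'
    rw [Set.mem_iUnion]
    exact ⟨i, by rw [hVeq i]; exact hi⟩
  have huniv : _root_.IsPreirreducible (Set.univ : Set ↥(pullback (str n R) x)) :=
    isPreirreducible_univ_of_open_cover _ hVopen hV (s pt) hz hcover
  haveI : PreirreducibleSpace ↥(pullback (str n R) x) := ⟨huniv⟩
  exact ⟨⟨s pt⟩⟩

instance geomIrred_str : GeometricallyIrreducible (str n R) :=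
  ⟨geometrically_iff_of_isClosedUnderIsomorphisms.mpr fun K _ x => irreducibleSpace_pullback n R K x⟩

instance geomIrred_toSpec : GeometricallyIrreducible (CohB1.ProjSpace.toSpec n R) :=
  geomIrred_str n R

set_option backward.isDefEq.respectTransparency.types false in
instance geomIrred_toBase (S : Scheme.{u}) :
    GeometricallyIrreducible (CohB1.ProjSpaceOver.toBase n S) := by
  have h1 := geomIrred_toSpec n (ULift.{u} ℤ)
  exact MorphismProperty.pullback_snd (P := @GeometricallyIrreducible) _ _ h1

/-- Projective space over a field is irreducible. -/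
theorem irreducibleSpace_projSpaceOver_field (K : Type u) [Field K] :
    IrreducibleSpace ↥(CohB1.ProjSpaceOver n (Spec (CommRingCat.of K))) :=
  GeometricallyIrreducible.geometrically_irreducibleSpace
    (f := CohB1.ProjSpaceOver.toBase n (Spec (CommRingCat.of K))) (𝟙 _) (𝟙 _)
    (CohB1.ProjSpaceOver.toBase n (Spec (CommRingCat.of K))) (IsPullback.of_id_fst)

end Groth.Agent.Lib.Seat62.PnIrred
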