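import Mathlib

/-!
# Modules over a simple Artinian ring: counting orthogonal idempotents (helper62)

Over a simple Artinian ring `R`, a finite module `X` is `S₀^n` for a fixed simple module `S₀`, and `n`
is detected by families of nonzero orthogonal idempotents of `End_R(X)`.
-/

set_option autoImplicit false
set_option linter.style.haveILetI false
set_option linter.unusedSectionVars false
universe u v v'

namespace Groth.Agent.Lib.Seat62.SimpleArt

/-- A family of nonzero, pairwise orthogonal idempotents. -/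
def IsOrthIdem {E : Type*} [Ring E] {n : ℕ} (ε : Fin n → E) : Prop :=
  (∀ i, ε i ≠ 0) ∧ (∀ i, ε i * ε i = ε i) ∧ (∀ i j, i ≠ j → ε i * ε j = 0)

section General

variable {R : Type u} [Ring R] (X : Type v) [AddCommGroup X] [Module R X]

theorem le_length_of_isOrthIdem {n : ℕ} (ε : Fin n → Module.End R X) (h : IsOrthIdem ε) :
    (n : ℕ∞) ≤ Module.length R X := by
  classical
  obtain ⟨h0, h1, h2⟩ := h
  let Φ : X →ₗ[R] (∀ i, LinearMap.range (ε i)) := LinearMap.pi fun i => (ε i).rangeRestrict
  have hΦ : Function.Surjective Φ := by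
    intro q
    choose y hy using fun i => (q i).2
    refine ⟨∑ i, ε i (y i), ?_⟩
    funext j
    apply Subtype.ext
    change ε j (∑ i, ε i (y i)) = (q j : X)
    rw [map_sum, Finset.sum_eq_single j]
    · have : ε j (ε j (y j)) = (ε j * ε j) (y j) := rfl
      rw [this, h1 j, hy j]
    · intro i _ hij
      have : ε j (ε i (y i)) = (ε j * ε i) (y i) := rfl
      rw [this, h2 j i (Ne.symm hij), LinearMap.zero_apply]
    · intro hj; exact absurd (Finset.mem_univ j) hj
  have hle := Module.length_le_of_surjective Φ hΦ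
  refine le_trans ?_ hle
  rw [Module.length_pi_of_fintype]
  have h3 : ∀ i, (1 : ℕ∞) ≤ Module.length R (LinearMap.range (ε i)) := by
    intro i
    have : Nontrivial (LinearMap.range (ε i)) := by
      rw [Submodule.nontrivial_iff_ne_bot]
      intro hbot
      apply h0 i
      exact LinearMap.range_eq_bot.mp hbot
    exact Order.one_le_iff_pos.mpr Module.length_pos
  calc (n : ℕ∞) = ∑ _i : Fin n, (1 : ℕ∞) := by simp
    _ ≤ _ := Finset.sum_le_sum fun i _ => h3 i

variable {X}

theorem exists_isOrthIdem_of_equiv {S : Type v'} [AddCommGroup S] [Module R S] [Nontrivial S]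
    {n : ℕ} (e : X ≃ₗ[R] (Fin n → S)) : ∃ ε : Fin n → Module.End R X, IsOrthIdem ε := by
  classical
  let π : Fin n → Module.End R (Fin n → S) := fun i => LinearMap.single R (fun _ => S) i ∘ₗ LinearMap.proj i
  have hπ : ∀ i j (f : Fin n → S), π i (π j f) = if i = j then π i f else 0 := by
    intro i j f
    simp only [π, LinearMap.comp_apply, LinearMap.proj_apply, LinearMap.single_apply]
    split_ifs with hij
    · subst hij
      rw [Pi.single_eq_same]
    · rw [Pi.single_eq_of_ne hij, Pi.single_zero]
  refine ⟨fun i => e.symm.toLinearMap ∘ₗ π i ∘ₗ e.toLinearMap, fun i => ?_, fun i => ?_, fun i j hij => ?_⟩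
  · obtain ⟨s, hs⟩ := exists_ne (0 : S)
    intro h
    have h1 := LinearMap.congr_fun h (e.symm (Pi.single i s))
    simp only [LinearMap.comp_apply, LinearEquiv.coe_coe, LinearEquiv.apply_symm_apply,
      LinearMap.zero_apply, EmbeddingLike.map_eq_zero_iff] at h1
    have h2 := congrFun h1 i
    simp only [π, LinearMap.comp_apply, LinearMap.proj_apply, LinearMap.single_apply,
      Pi.single_eq_same, Pi.zero_apply] at h2
    exact hs h2
  · ext x
    simp only [Module.End.mul_apply, LinearMap.comp_apply, LinearEquiv.coe_coe,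
      LinearEquiv.apply_symm_apply]
    rw [hπ, if_pos rfl]
  · ext x
    simp only [Module.End.mul_apply, LinearMap.comp_apply, LinearEquiv.coe_coe,
      LinearEquiv.apply_symm_apply, LinearMap.zero_apply]
    rw [hπ, if_neg hij, map_zero]

theorem length_eq_of_equiv {S : Type v'} [AddCommGroup S] [Module R S] [IsSimpleModule R S]
    {n : ℕ} (e : X ≃ₗ[R] (Fin n → S)) : Module.length R X = n := by
  rw [e.length_eq, Module.length_pi_of_fintype]
  simp [Module.length_eq_one]

end General

section SimpleArtinian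

variable {R : Type u} [Ring R] [IsSimpleRing R] [IsArtinianRing R]

theorem exists_simple_ideal : ∃ S₀ : Ideal R, IsSimpleModule R S₀ :=
  IsSemisimpleModule.exists_simple_submodule R R

theorem isIsotypicOfType (S₀ : Ideal R) [IsSimpleModule R S₀] (X : Type v) [AddCommGroup X]
    [Module R X] : IsIsotypicOfType R X S₀ := by
  intro m _
  obtain ⟨I, ⟨eI⟩⟩ := IsSemisimpleRing.exists_linearEquiv_ideal_of_isSimpleModule R m
  haveI : IsSimpleModule R I := IsSimpleModule.congr eI.symm
  obtain ⟨e2⟩ := IsSimpleRing.isIsotypic R R S₀ I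
  exact ⟨eI.trans e2⟩

/-- If idempotent families transfer in both directions, the modules are isomorphic. -/
theorem nonempty_linearEquiv_of_transfer (X Y : Type v) [AddCommGroup X] [Module R X]
    [Module.Finite R X] [AddCommGroup Y] [Module R Y] [Module.Finite R Y]
    (hXY : ∀ (n : ℕ) (ε : Fin n → Module.End R X), IsOrthIdem ε →
      ∃ ε' : Fin n → Module.End R Y, IsOrthIdem ε')
    (hYX : ∀ (n : ℕ) (ε : Fin n → Module.End R Y), IsOrthIdem ε →
      ∃ ε' : Fin n → Module.End R X, IsOrthIdem ε') : Nonempty (X ≃ₗ[R] Y) := by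
  obtain ⟨S₀, hS₀⟩ := exists_simple_ideal (R := R)
  haveI := IsSimpleModule.nontrivial R S₀
  obtain ⟨n, ⟨eX⟩⟩ := (isIsotypicOfType S₀ X).linearEquiv_fun
  obtain ⟨m, ⟨eY⟩⟩ := (isIsotypicOfType S₀ Y).linearEquiv_fun
  have hn := length_eq_of_equiv eX
  have hm := length_eq_of_equiv eY
  obtain ⟨ε, hε⟩ := exists_isOrthIdem_of_equiv eX
  obtain ⟨ε', hε'⟩ := hXY n ε hε
  have h1 := le_length_of_isOrthIdem Y ε' hε'
  obtain ⟨δ, hδ⟩ := exists_isOrthIdem_of_equiv eY
  obtain ⟨δ', hδ'⟩ := hYX m δ hδ
  have h2 := le_length_of_isOrthIdem X δ' hδ'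
  rw [hm] at h1
  rw [hn] at h2
  have hnm : n = m := by
    have h1' : n ≤ m := by exact_mod_cast h1
    have h2' : m ≤ n := by exact_mod_cast h2
    omega
  subst hnm
  exact ⟨eX.trans eY.symm⟩

end SimpleArtinian

end Groth.Agent.Lib.Seat62.SimpleArt
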