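import Mathlib
import Groth.Agent.Lib.Seat62SimpleArt

/-!
# Reduction of finitely generated projective modules modulo the Jacobson radical (helper62)

For a ring `A` with Jacobson radical `J` and a f.g. projective `A`-module `P`:
* `red : End_A(P) →+* End_{A/J}(P/JP)` is surjective;
* `1 - κ` is a unit when `red κ = 0`;
* an isomorphism `P/JP ≃ Q/JQ` lifts to `P ≃ Q`;
* if `A/J` is semisimple, `ker red = J(End_A P)`.
-/

set_option autoImplicit false
set_option linter.style.haveILetI false
set_option linter.unusedSectionVars false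
universe u v

namespace Groth.Agent.Lib.Seat62.ProjRed

open Submodule

variable {A : Type u} [Ring A]

section Red

/-- `J • P`. -/
abbrev JP (A : Type u) [Ring A] (P : Type v) [AddCommGroup P] [Module A P] : Submodule A P :=
  Ring.jacobson A • (⊤ : Submodule A P)

variable {P : Type v} [AddCommGroup P] [Module A P]

theorem le_comap_JP (f : Module.End A P) : JP A P ≤ (JP A P).comap f := by
  rw [← Submodule.map_le_iff_le_comap, Submodule.map_smul'']
  exact smul_mono_right _ le_top

/-- The induced `A`-linear endomorphism of `P/JP`. -/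
noncomputable def redA (f : Module.End A P) : Module.End A (P ⧸ JP A P) :=
  Submodule.mapQ _ _ f (le_comap_JP f)

theorem redA_mk (f : Module.End A P) (p : P) :
    redA f (Submodule.Quotient.mk p) = Submodule.Quotient.mk (f p) := rfl

theorem smul_eq (a : A) (x : P ⧸ JP A P) :
    (Ideal.Quotient.mk (Ring.jacobson A) a) • x = a • x := rfl

/-- An `A`-linear map between reductions is `A/J`-linear. -/
noncomputable def toR {Q : Type v} [AddCommGroup Q] [Module A Q]
    (g : (P ⧸ JP A P) →ₗ[A] (Q ⧸ JP A Q)) :
    (P ⧸ JP A P) →ₗ[A ⧸ Ring.jacobson A] (Q ⧸ JP A Q) where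
  toFun := g
  map_add' := map_add g
  map_smul' r x := by
    obtain ⟨a, rfl⟩ := Ideal.Quotient.mk_surjective r
    rw [smul_eq, map_smul]
    rfl

/-- An `A/J`-linear map between reductions is `A`-linear. -/
noncomputable def toA {Q : Type v} [AddCommGroup Q] [Module A Q]
    (g : (P ⧸ JP A P) →ₗ[A ⧸ Ring.jacobson A] (Q ⧸ JP A Q)) :
    (P ⧸ JP A P) →ₗ[A] (Q ⧸ JP A Q) where
  toFun := g
  map_add' := map_add g
  map_smul' a x := by
    rw [← smul_eq, map_smul]
    rfl

theorem toR_apply {Q : Type v} [AddCommGroup Q] [Module A Q]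
    (g : (P ⧸ JP A P) →ₗ[A] (Q ⧸ JP A Q)) (x : P ⧸ JP A P) : toR g x = g x := rfl

/-- The reduction ring homomorphism, `A`-linear version. -/
noncomputable def redAHom : Module.End A P →+* Module.End A (P ⧸ JP A P) where
  toFun f := redA f
  map_one' := Submodule.mapQ_id _ (le_comap_JP 1)
  map_mul' f g := by
    apply LinearMap.ext
    intro x
    obtain ⟨p, rfl⟩ := Submodule.Quotient.mk_surjective _ x
    rfl
  map_zero' := by
    apply LinearMap.ext
    intro x
    obtain ⟨p, rfl⟩ := Submodule.Quotient.mk_surjective _ x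
    rfl
  map_add' f g := by
    apply LinearMap.ext
    intro x
    obtain ⟨p, rfl⟩ := Submodule.Quotient.mk_surjective _ x
    rfl

/-- `toR` as a ring homomorphism. -/
noncomputable def toRHom :
    Module.End A (P ⧸ JP A P) →+* Module.End (A ⧸ Ring.jacobson A) (P ⧸ JP A P) where
  toFun g := toR g
  map_one' := LinearMap.ext fun _ => rfl
  map_mul' _ _ := LinearMap.ext fun _ => rfl
  map_zero' := LinearMap.ext fun _ => rfl
  map_add' _ _ := LinearMap.ext fun _ => rfl

/-- The reduction ring homomorphism. -/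
noncomputable def red : Module.End A P →+* Module.End (A ⧸ Ring.jacobson A) (P ⧸ JP A P) :=
  toRHom.comp redAHom

theorem red_mk (f : Module.End A P) (p : P) :
    red f (Submodule.Quotient.mk p) = Submodule.Quotient.mk (f p) := rfl

theorem red_eq_zero_iff (f : Module.End A P) : red f = 0 ↔ ∀ p, f p ∈ JP A P := by
  constructor
  · intro h p
    have := LinearMap.congr_fun h (Submodule.Quotient.mk p)
    rw [red_mk, LinearMap.zero_apply] at this
    exact (Submodule.Quotient.mk_eq_zero _).mp this
  · intro h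
    apply LinearMap.ext
    intro x
    obtain ⟨p, rfl⟩ := Submodule.Quotient.mk_surjective _ x
    rw [red_mk, LinearMap.zero_apply]
    exact (Submodule.Quotient.mk_eq_zero _).mpr (h p)

theorem red_surjective [Module.Projective A P] : Function.Surjective (red (A := A) (P := P)) := by
  intro g
  obtain ⟨h, hh⟩ := Module.projective_lifting_property (JP A P).mkQ ((toA g).comp (JP A P).mkQ)
    (Submodule.mkQ_surjective _)
  refine ⟨h, ?_⟩
  apply LinearMap.ext
  intro x
  obtain ⟨p, rfl⟩ := Submodule.Quotient.mk_surjective _ x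
  rw [red_mk]
  exact LinearMap.congr_fun hh p

variable [Module.Finite A P]

/-- `1 - κ` is surjective when `κ` maps into `JP`. -/
theorem one_sub_surjective (κ : Module.End A P) (hκ : red κ = 0) :
    Function.Surjective (1 - κ : Module.End A P) := by
  rw [red_eq_zero_iff] at hκ
  rw [← LinearMap.range_eq_top]
  set N := LinearMap.range (1 - κ : Module.End A P) with hN
  have hfg : (⊤ : Submodule A (P ⧸ N)).FG := Module.Finite.fg_top
  have hle : (⊤ : Submodule A (P ⧸ N)) ≤ Ring.jacobson A • (⊤ : Submodule A (P ⧸ N)) := by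
    intro x _
    obtain ⟨p, rfl⟩ := Submodule.Quotient.mk_surjective _ x
    have h1 : (Submodule.Quotient.mk p : P ⧸ N) = Submodule.Quotient.mk (κ p) := by
      rw [Submodule.Quotient.eq]
      exact ⟨p, by simp⟩
    rw [h1]
    have h2 : (Submodule.Quotient.mk (κ p) : P ⧸ N) ∈ (JP A P).map N.mkQ :=
      Submodule.mem_map_of_mem (hκ p)
    rw [Submodule.map_smul''] at h2
    exact (smul_mono_right (Ring.jacobson A) le_top : _ ≤ Ring.jacobson A • (⊤ : Submodule A (P ⧸ N))) h2
  have hbot := Submodule.FG.eq_bot_of_le_jacobson_smul hfg hle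
  have hsub : Subsingleton (P ⧸ N) := by
    refine ⟨fun a b => ?_⟩
    have ha : a ∈ (⊤ : Submodule A (P ⧸ N)) := Submodule.mem_top
    have hb : b ∈ (⊤ : Submodule A (P ⧸ N)) := Submodule.mem_top
    rw [hbot, Submodule.mem_bot] at ha hb
    rw [ha, hb]
  exact Submodule.Quotient.subsingleton_iff.mp hsub

variable [Module.Projective A P]

/-- `1 - κ` is a unit when `κ` maps into `JP`. -/
theorem isUnit_one_sub (κ : Module.End A P) (hκ : red κ = 0) :
    IsUnit (1 - κ : Module.End A P) := by
  obtain ⟨g, hg⟩ := Module.projective_lifting_property (1 - κ : Module.End A P) LinearMap.id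
    (one_sub_surjective κ hκ)
  have hg' : (1 - κ) * g = 1 := hg
  -- g = 1 - (-(κ g))
  have hg2 : g = 1 - (-(κ * g)) := by
    have : g - κ * g = 1 := by rw [← hg', sub_mul, one_mul]
    rw [sub_neg_eq_add, ← this]; abel
  have hκ2 : red (-(κ * g)) = 0 := by rw [map_neg, map_mul, hκ, zero_mul, neg_zero]
  obtain ⟨h, hh⟩ := Module.projective_lifting_property (1 - (-(κ * g)) : Module.End A P)
    LinearMap.id (one_sub_surjective _ hκ2)
  have hh' : g * h = 1 := by rw [hg2]; exact hh
  have huh : (1 - κ) = h := by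
    calc (1 - κ) = (1 - κ) * (g * h) := by rw [hh', mul_one]
      _ = ((1 - κ) * g) * h := by rw [mul_assoc]
      _ = h := by rw [hg', one_mul]
  exact ⟨⟨1 - κ, g, hg', by rw [huh]; exact hh'⟩, rfl⟩

end Red

section Lift

variable {P Q : Type v} [AddCommGroup P] [Module A P] [Module.Finite A P] [Module.Projective A P]
  [AddCommGroup Q] [Module A Q] [Module.Finite A Q] [Module.Projective A Q]

/-- An isomorphism of reductions lifts to an isomorphism. -/
theorem nonempty_linearEquiv_of_reduction (φ : (P ⧸ JP A P) ≃ₗ[A] (Q ⧸ JP A Q)) :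
    Nonempty (P ≃ₗ[A] Q) := by
  obtain ⟨f, hf⟩ := Module.projective_lifting_property (JP A Q).mkQ (φ.toLinearMap.comp (JP A P).mkQ)
    (Submodule.mkQ_surjective _)
  obtain ⟨g, hg⟩ := Module.projective_lifting_property (JP A P).mkQ
    (φ.symm.toLinearMap.comp (JP A Q).mkQ) (Submodule.mkQ_surjective _)
  have hf' : ∀ p : P, (Submodule.Quotient.mk (f p) : Q ⧸ JP A Q) = φ (Submodule.Quotient.mk p) :=
    fun p => LinearMap.congr_fun hf p
  have hg' : ∀ q : Q, (Submodule.Quotient.mk (g q) : P ⧸ JP A P) =
      φ.symm (Submodule.Quotient.mk q) := fun q => LinearMap.congr_fun hg q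
  have h1 : red (1 - g ∘ₗ f : Module.End A P) = 0 := by
    rw [red_eq_zero_iff]
    intro p
    rw [← Submodule.Quotient.mk_eq_zero]
    simp only [LinearMap.sub_apply, Module.End.one_apply, LinearMap.comp_apply,
      Submodule.Quotient.mk_sub]
    rw [hg', hf', φ.symm_apply_apply, sub_self]
  have h2 : red (1 - f ∘ₗ g : Module.End A Q) = 0 := by
    rw [red_eq_zero_iff]
    intro q
    rw [← Submodule.Quotient.mk_eq_zero]
    simp only [LinearMap.sub_apply, Module.End.one_apply, LinearMap.comp_apply,
      Submodule.Quotient.mk_sub]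
    rw [hf', hg', φ.apply_symm_apply, sub_self]
  have u1 := isUnit_one_sub _ h1
  have u2 := isUnit_one_sub _ h2
  rw [sub_sub_cancel] at u1 u2
  have hinj : Function.Injective f := by
    have : Function.Injective (g ∘ₗ f) := ((Module.End.isUnit_iff _).mp u1).1
    exact Function.Injective.of_comp this
  have hsurj : Function.Surjective f := by
    have : Function.Surjective (f ∘ₗ g) := ((Module.End.isUnit_iff _).mp u2).2
    exact Function.Surjective.of_comp this
  exact ⟨LinearEquiv.ofBijective f ⟨hinj, hsurj⟩⟩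

end Lift

section Jac

variable {P : Type v} [AddCommGroup P] [Module A P] [Module.Finite A P] [Module.Projective A P]

theorem finite_reduction : Module.Finite (A ⧸ Ring.jacobson A) (P ⧸ JP A P) := by
  let f : P →ₛₗ[Ideal.Quotient.mk (Ring.jacobson A)] (P ⧸ JP A P) :=
    { toFun := Submodule.Quotient.mk
      map_add' := fun _ _ => rfl
      map_smul' := fun _ _ => rfl }
  exact Module.Finite.of_surjective f (Submodule.Quotient.mk_surjective _)

theorem ker_red_le_jacobson (κ : Module.End A P) (hκ : red κ = 0) :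
    κ ∈ Ring.jacobson (Module.End A P) := by
  rw [Ring.jacobson_eq_sInf_isMaximal, Submodule.mem_sInf]
  intro 𝔪 h𝔪
  by_contra hnot
  obtain ⟨y, i, hi, hyi⟩ := Ideal.IsMaximal.exists_inv h𝔪 hnot
  have h1 : i = 1 - y * κ := by rw [← hyi]; abel
  have h2 : red (y * κ) = 0 := by rw [map_mul, hκ, mul_zero]
  have h3 : IsUnit i := h1 ▸ isUnit_one_sub _ h2
  exact h𝔪.ne_top (Ideal.eq_top_of_isUnit_mem _ hi h3)

variable [IsSemisimpleRing (A ⧸ Ring.jacobson A)]

theorem jacobson_le_ker_red (κ : Module.End A P) (hκ : κ ∈ Ring.jacobson (Module.End A P)) :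
    red κ = 0 := by
  haveI := finite_reduction (A := A) (P := P)
  haveI : IsSemisimpleRing (Module.End (A ⧸ Ring.jacobson A) (P ⧸ JP A P)) :=
    IsSemisimpleRing.moduleEnd _ _
  haveI : RingHomSurjective (red (A := A) (P := P)) := ⟨red_surjective⟩
  have h1 := Ring.le_comap_jacobson (red (A := A) (P := P)) hκ
  have h2 : Ring.jacobson (Module.End (A ⧸ Ring.jacobson A) (P ⧸ JP A P)) = ⊥ :=
    IsSemisimpleRing.jacobson_eq_bot _
  rw [Ideal.mem_comap, h2] at h1
  exact (Submodule.mem_bot _).mp h1

theorem mem_jacobson_iff (κ : Module.End A P) :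
    κ ∈ Ring.jacobson (Module.End A P) ↔ red κ = 0 :=
  ⟨jacobson_le_ker_red κ, ker_red_le_jacobson κ⟩

end Jac

end Groth.Agent.Lib.Seat62.ProjRed
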