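import Mathlib
import Groth.Agent.Lib.Seat62DVRIntegral

set_option autoImplicit false
universe u
open Polynomial

namespace Groth.Agent.Lib.Seat62.PtFunAlg

variable (A : Type u) [CommRing A]

/-- the map `A → Frac (A/q)`. -/
noncomputable def gq (q : Ideal A) : A →+* FractionRing (A ⧸ q) :=
  (algebraMap (A ⧸ q) (FractionRing (A ⧸ q))).comp (Ideal.Quotient.mk q)

variable {A}

theorem gq_eq_zero_iff (q : Ideal A) [q.IsPrime] (a : A) : gq A q a = 0 ↔ a ∈ q := by
  unfold gq
  rw [RingHom.comp_apply, map_eq_zero_iff _ (IsFractionRing.injective _ _),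
    Ideal.Quotient.eq_zero_iff_mem]

theorem isUnit_gq_of_mem_nonZeroDivisors (q : Ideal A) (hq : q ∈ minimalPrimes A)
    (d : nonZeroDivisors A) : IsUnit (gq A q d) := by
  have : q.IsPrime := hq.1.1
  rw [isUnit_iff_ne_zero, Ne, gq_eq_zero_iff]
  intro hd
  exact (Set.disjoint_left.1 (Ideal.disjoint_nonZeroDivisors_of_mem_minimalPrimes hq)) hd d.2

/-- the map `Q(A) → Frac (A/q)` for a minimal prime `q`. -/
noncomputable def psi (q : Ideal A) (hq : q ∈ minimalPrimes A) :
    FractionRing A →+* FractionRing (A ⧸ q) :=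
  IsLocalization.lift (M := nonZeroDivisors A) (g := gq A q)
    (isUnit_gq_of_mem_nonZeroDivisors q hq)

theorem psi_algebraMap (q : Ideal A) (hq : q ∈ minimalPrimes A) (a : A) :
    psi q hq (algebraMap A (FractionRing A) a) = gq A q a :=
  IsLocalization.lift_eq _ a

theorem sInf_minimalPrimes_eq_bot [IsReduced A] : sInf (minimalPrimes A) = ⊥ := by
  have h1 : sInf (minimalPrimes A) = (⊥ : Ideal A).radical := Ideal.sInf_minimalPrimes
  rw [h1]
  exact nilradical_eq_zero A

/-- the maps `psi q` are jointly injective when `A` is reduced. -/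
theorem eq_zero_of_forall_psi [IsReduced A] (z : FractionRing A)
    (hz : ∀ (q : Ideal A) (hq : q ∈ minimalPrimes A), psi q hq z = 0) : z = 0 := by
  obtain ⟨n, d, rfl⟩ := IsLocalization.exists_mk'_eq (nonZeroDivisors A) z
  have hn : n = 0 := by
    have : n ∈ sInf (minimalPrimes A) := by
      rw [Ideal.mem_sInf]
      intro q hq
      have : q.IsPrime := hq.1.1
      have h1 := hz q hq
      have h2 : IsLocalization.mk' (FractionRing A) n d * algebraMap A (FractionRing A) d =
          algebraMap A (FractionRing A) n := IsLocalization.mk'_spec _ _ _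
      have h3 := congrArg (psi q hq) h2
      rw [map_mul, h1, zero_mul, psi_algebraMap] at h3
      exact (gq_eq_zero_iff q n).1 h3.symm
    rw [sInf_minimalPrimes_eq_bot] at this
    exact this
  rw [hn, IsLocalization.mk'_zero]


/-- an element `y = u/v` of `Frac (A/q)` lying in every DVR receiving `A` with kernel `q` is
integral over `A`. -/
theorem isIntegralElem_gq [IsNoetherianRing A] (q : Ideal A) [q.IsPrime] (u v : A) (hv : v ∉ q)
    (y : FractionRing (A ⧸ q)) (hy : y * gq A q v = gq A q u)
    (H : ∀ (R : Type u) [CommRing R] [IsDomain R] [IsDiscreteValuationRing R]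
      (φ : A →+* R), RingHom.ker φ = q → ∃ r : R, r * φ v = φ u) :
    (gq A q).IsIntegralElem y := by
  by_contra hni
  have hni' : ¬ IsIntegral (A ⧸ q) y := by
    intro hi
    apply hni
    haveI : Algebra.IsIntegral A (A ⧸ q) :=
      Algebra.isIntegral_of_surjective Ideal.Quotient.mk_surjective
    have h1 : IsIntegral A y := isIntegral_trans (R := A) (A := A ⧸ q) y hi
    have h2 : algebraMap A (FractionRing (A ⧸ q)) = gq A q :=
      IsScalarTower.algebraMap_eq A (A ⧸ q) (FractionRing (A ⧸ q))
    unfold IsIntegral at h1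
    rwa [h2] at h1
  obtain ⟨V, hV, hBV, hyV⟩ :=
    Groth.Agent.Lib.Seat62.DVRIntegral.exists_dvr_notMem_of_not_isIntegral' (A ⧸ q) hni'
  let φ : A →+* V := (gq A q).codRestrict V.toSubring (fun a => hBV (Ideal.Quotient.mk q a))
  have hφ : ∀ a, ((φ a : V) : FractionRing (A ⧸ q)) = gq A q a := fun a => rfl
  have hker : RingHom.ker φ = q := by
    ext a
    rw [RingHom.mem_ker, ← gq_eq_zero_iff q a, ← hφ]
    constructor
    · intro h; rw [h]; rfl
    · intro h; exact Subtype.ext h
  obtain ⟨r, hr⟩ := H V φ hker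
  apply hyV
  have h1 : (r : FractionRing (A ⧸ q)) * gq A q v = gq A q u := by
    have := congrArg (fun w : V => (w : FractionRing (A ⧸ q))) hr
    simpa only [MulMemClass.coe_mul, hφ] using this
  have hv0 : gq A q v ≠ 0 := fun h => hv ((gq_eq_zero_iff q v).1 h)
  have : y = r := mul_right_cancel₀ hv0 (hy.trans h1.symm)
  rw [this]
  exact r.2

/-- **Core algebra**: gluing values at the minimal primes. -/
theorem exists_of_forall_dvr [IsReduced A] [IsNoetherianRing A] [IsIntegrallyClosed A]
    (u v : Ideal A → A) (hv : ∀ p ∈ minimalPrimes A, v p ∉ p)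
    (H : ∀ p ∈ minimalPrimes A, ∀ (R : Type u) [CommRing R] [IsDomain R]
      [IsDiscreteValuationRing R] (φ : A →+* R), RingHom.ker φ = p →
        ∃ r : R, r * φ (v p) = φ (u p)) :
    ∃ a : A, ∀ p ∈ minimalPrimes A, a * v p - u p ∈ p := by
  classical
  have hfin : (minimalPrimes A).Finite := minimalPrimes.finite_of_isNoetherianRing A
  have hmemP : ∀ p, p ∈ hfin.toFinset ↔ p ∈ minimalPrimes A := fun p => hfin.mem_toFinset
  have hprime : ∀ p ∈ hfin.toFinset, p.IsPrime := fun p hp => ((hmemP p).1 hp).1.1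
  have hx : ∀ p ∈ hfin.toFinset, ∃ x : A, x ∉ p ∧ ∀ q ∈ hfin.toFinset, q ≠ p → x ∈ q := by
    intro p hp
    have hpp := hprime p hp
    by_contra hcon
    push Not at hcon
    have hle : (hfin.toFinset.erase p).inf id ≤ p := by
      intro x hx
      by_contra hxp
      obtain ⟨q, hqP, hqp, hxq⟩ := hcon x hxp
      have h1 : (hfin.toFinset.erase p).inf id ≤ id q :=
        Finset.inf_le (Finset.mem_erase.2 ⟨hqp, hqP⟩)
      exact hxq (h1 hx)
    obtain ⟨q, hq, hqle⟩ := (Ideal.IsPrime.inf_le' hpp).1 hle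
    have hqP := Finset.mem_erase.1 hq
    have hpmin := (hmemP p).1 hp
    have hqprime := hprime q hqP.2
    have hpq : p ≤ q := hpmin.2 ⟨hqprime, bot_le⟩ hqle
    exact hqP.1 (le_antisymm hqle hpq)
  choose! x hxp hxq using hx
  set N := ∑ p ∈ hfin.toFinset, x p * u p with hN
  set D := ∑ p ∈ hfin.toFinset, x p * v p with hD
  have hNq : ∀ q ∈ hfin.toFinset, N - x q * u q ∈ q := by
    intro q hq
    have h1 : N = x q * u q + ∑ p ∈ hfin.toFinset.erase q, x p * u p :=
      (Finset.add_sum_erase _ _ hq).symm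
    rw [h1, add_sub_cancel_left]
    refine Ideal.sum_mem _ fun p hp => ?_
    have hp' := Finset.mem_erase.1 hp
    exact Ideal.mul_mem_right _ _ (hxq p hp'.2 q hq (Ne.symm hp'.1))
  have hDq : ∀ q ∈ hfin.toFinset, D - x q * v q ∈ q := by
    intro q hq
    have h1 : D = x q * v q + ∑ p ∈ hfin.toFinset.erase q, x p * v p :=
      (Finset.add_sum_erase _ _ hq).symm
    rw [h1, add_sub_cancel_left]
    refine Ideal.sum_mem _ fun p hp => ?_
    have hp' := Finset.mem_erase.1 hp
    exact Ideal.mul_mem_right _ _ (hxq p hp'.2 q hq (Ne.symm hp'.1))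
  have hDnq : ∀ q ∈ hfin.toFinset, D ∉ q := by
    intro q hq hDmem
    have hqp := hprime q hq
    have h1 : x q * v q ∈ q := by
      have := q.sub_mem hDmem (hDq q hq)
      rwa [sub_sub_cancel] at this
    rcases hqp.mem_or_mem h1 with h | h
    · exact hxp q hq h
    · exact hv q ((hmemP q).1 hq) h
  have hDnzd : D ∈ nonZeroDivisors A := by
    rw [mem_nonZeroDivisors_iff_right]
    intro z hz
    have : z ∈ sInf (minimalPrimes A) := by
      rw [Ideal.mem_sInf]
      intro q hq
      have hq' := (hmemP q).2 hq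
      have hqp := hprime q hq'
      have : z * D ∈ q := by rw [hz]; exact zero_mem _
      exact (hqp.mem_or_mem this).resolve_right (hDnq q hq')
    rwa [sInf_minimalPrimes_eq_bot] at this
  set t : FractionRing A := IsLocalization.mk' (FractionRing A) N ⟨D, hDnzd⟩ with ht
  have htD : t * algebraMap A (FractionRing A) D = algebraMap A (FractionRing A) N :=
    IsLocalization.mk'_spec _ _ _
  -- integrality of each component
  have hint : ∀ q ∈ hfin.toFinset, ∃ pq : A[X], pq.Monic ∧
      ∀ hq : q ∈ minimalPrimes A, eval₂ (gq A q) (psi q hq t) pq = 0 := by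
    intro q hq
    have hqm := (hmemP q).1 hq
    have hqp := hprime q hq
    have hy : psi q hqm t * gq A q (v q) = gq A q (u q) := by
      have h1 := congrArg (psi q hqm) htD
      rw [map_mul, psi_algebraMap, psi_algebraMap] at h1
      have h2 : gq A q D = gq A q (x q * v q) := by
        rw [← sub_eq_zero, ← map_sub, gq_eq_zero_iff]; exact hDq q hq
      have h3 : gq A q N = gq A q (x q * u q) := by
        rw [← sub_eq_zero, ← map_sub, gq_eq_zero_iff]; exact hNq q hq
      rw [h2, h3, map_mul, map_mul] at h1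
      have hx0 : gq A q (x q) ≠ 0 := fun h => hxp q hq ((gq_eq_zero_iff q _).1 h)
      apply mul_left_cancel₀ hx0
      rw [← h1]; ring
    obtain ⟨pq, hpq, hpq0⟩ := isIntegralElem_gq q (u q) (v q) (hv q hqm) _ hy (H q hqm)
    exact ⟨pq, hpq, fun _ => hpq0⟩
  choose! pq hpqm hpq0 using hint
  have hti : IsIntegral A t := by
    refine ⟨∏ q ∈ hfin.toFinset, pq q, monic_prod_of_monic _ _ hpqm, ?_⟩
    apply eq_zero_of_forall_psi
    intro q hq
    have hq' := (hmemP q).2 hq
    rw [Polynomial.hom_eval₂]
    have hcomp : (psi q hq).comp (algebraMap A (FractionRing A)) = gq A q := by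
      ext a; exact psi_algebraMap q hq a
    rw [hcomp, Polynomial.eval₂_finsetProd]
    exact Finset.prod_eq_zero hq' (hpq0 q hq' hq)
  obtain ⟨a, ha⟩ := IsIntegrallyClosed.algebraMap_eq_of_integral hti
  refine ⟨a, fun q hq => ?_⟩
  have hq' := (hmemP q).2 hq
  have hqp := hprime q hq'
  have h1 : a * D = N := by
    apply IsLocalization.injective (FractionRing A) (le_refl (nonZeroDivisors A))
    rw [map_mul, ha, htD]
  have h2 : x q * (a * v q - u q) ∈ q := by
    have e : x q * (a * v q - u q) = (N - x q * u q) - a * (D - x q * v q) := by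
      rw [← h1]; ring
    rw [e]
    exact q.sub_mem (hNq q hq') (Ideal.mul_mem_left _ _ (hDq q hq'))
  exact (hqp.mem_or_mem h2).resolve_left (hxp q hq')

end Groth.Agent.Lib.Seat62.PtFunAlg
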