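import Mathlib
import Groth.Prelude.Def_RegImm

/-!
# Seat62RelGCIAway: `S_g ≅ R[x_1..x_{n+1}]/(F_1..F_c, h x_{n+1} - 1)`

For `S = R[x_1..x_n]/(F_1..F_c)` and `g` the class of `h`, the localization `S_g` is isomorphic (over
`R`, and over `S`) to the presentation with one more variable and the relation `h x_{n+1} - 1`.
-/

set_option autoImplicit false
universe u

open MvPolynomial

namespace Groth.Agent.Lib.Seat62.RelGCIAway

variable (R : Type u) [CommRing R] (n c : ℕ) (F : Fin c → MvPolynomial (Fin n) R)
  (h : MvPolynomial (Fin n) R)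

/-- The extended list of relations `(F_1, …, F_c, h x_{n+1} - 1)`. -/
noncomputable abbrev extRel : Fin (c + 1) → MvPolynomial (Fin (n + 1)) R :=
  Fin.snoc (fun i => rename Fin.castSucc (F i)) (rename Fin.castSucc h * X (Fin.last n) - 1)

/-- The class of `h` in `S`. -/
noncomputable abbrev gOf : Synt.RelGCIRing R n c F := Ideal.Quotient.mk (Ideal.span (Set.range F)) h

theorem extRel_castSucc (i : Fin c) :
    extRel R n c F h i.castSucc = rename Fin.castSucc (F i) := by
  simp [extRel]

theorem extRel_last :
    extRel R n c F h (Fin.last c) = rename Fin.castSucc h * X (Fin.last n) - 1 := by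
  simp [extRel]

/-- The canonical map `S → T`. -/
noncomputable def toExt : Synt.RelGCIRing R n c F →ₐ[R] Synt.RelGCIRing R (n + 1) (c + 1) (extRel R n c F h) :=
  Ideal.Quotient.liftₐ (Ideal.span (Set.range F))
    ((Ideal.Quotient.mkₐ R (Ideal.span (Set.range (extRel R n c F h)))).comp
      (rename Fin.castSucc : MvPolynomial (Fin n) R →ₐ[R] MvPolynomial (Fin (n + 1)) R))
    (by
      have hle : Ideal.span (Set.range F) ≤ RingHom.ker
          ((Ideal.Quotient.mkₐ R (Ideal.span (Set.range (extRel R n c F h)))).comp
            (rename Fin.castSucc : MvPolynomial (Fin n) R →ₐ[R]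
              MvPolynomial (Fin (n + 1)) R)).toRingHom := by
        rw [Ideal.span_le]
        rintro _ ⟨i, rfl⟩
        rw [SetLike.mem_coe, RingHom.mem_ker]
        change Ideal.Quotient.mk _ (rename Fin.castSucc (F i)) = 0
        rw [Ideal.Quotient.eq_zero_iff_mem, ← extRel_castSucc R n c F h i]
        exact Ideal.subset_span ⟨_, rfl⟩
      intro a ha
      exact hle ha)

theorem toExt_mk (p : MvPolynomial (Fin n) R) :
    toExt R n c F h (Ideal.Quotient.mk _ p) = Ideal.Quotient.mk _ (rename Fin.castSucc p) := rfl

theorem toExt_g_mul :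
    toExt R n c F h (gOf R n c F h) *
      Ideal.Quotient.mk (Ideal.span (Set.range (extRel R n c F h))) (X (Fin.last n)) = 1 := by
  rw [gOf, toExt_mk, ← map_mul, ← map_one (Ideal.Quotient.mk _), Ideal.Quotient.eq,
    ← extRel_last R n c F h]
  exact Ideal.subset_span ⟨_, rfl⟩

theorem isUnit_toExt_g : IsUnit (toExt R n c F h (gOf R n c F h)) :=
  IsUnit.of_mul_eq_one _ (toExt_g_mul R n c F h)

/-- `S_g → T`. -/
noncomputable def fromAway :
    Localization.Away (gOf R n c F h) →ₐ[R] Synt.RelGCIRing R (n + 1) (c + 1) (extRel R n c F h) :=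
  IsLocalization.liftAlgHom (M := Submonoid.powers (gOf R n c F h)) (f := toExt R n c F h) (by
    rintro ⟨_, k, rfl⟩
    rw [map_pow]
    exact (isUnit_toExt_g R n c F h).pow k)

theorem fromAway_algebraMap (s : Synt.RelGCIRing R n c F) :
    fromAway R n c F h (algebraMap _ _ s) = toExt R n c F h s := by
  unfold fromAway
  rw [IsLocalization.liftAlgHom_apply, IsLocalization.lift_eq]
  rfl

/-- The values of the variables in `S_g`. -/
noncomputable def vals : Fin (n + 1) → Localization.Away (gOf R n c F h) :=
  Fin.snoc (fun i => algebraMap (Synt.RelGCIRing R n c F) _ (Ideal.Quotient.mk _ (X i)))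
    (IsLocalization.Away.invSelf (gOf R n c F h))

theorem aeval_vals_rename (p : MvPolynomial (Fin n) R) :
    aeval (vals R n c F h) (rename Fin.castSucc p) =
      algebraMap (Synt.RelGCIRing R n c F) (Localization.Away (gOf R n c F h))
        (Ideal.Quotient.mk _ p) := by
  rw [aeval_rename]
  have h1 : (aeval (vals R n c F h ∘ Fin.castSucc) :
      MvPolynomial (Fin n) R →ₐ[R] Localization.Away (gOf R n c F h)) =
      (IsScalarTower.toAlgHom R (Synt.RelGCIRing R n c F)
        (Localization.Away (gOf R n c F h))).comp
        (Ideal.Quotient.mkₐ R (Ideal.span (Set.range F))) := by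
    apply MvPolynomial.algHom_ext
    intro i
    simp [vals]
  exact DFunLike.congr_fun h1 p

theorem aeval_vals_extRel (j : Fin (c + 1)) :
    aeval (vals R n c F h) (extRel R n c F h j) = 0 := by
  cases j using Fin.lastCases with
  | last =>
    rw [extRel_last, map_sub, map_mul, map_one, aeval_vals_rename, aeval_X]
    have : vals R n c F h (Fin.last n) = IsLocalization.Away.invSelf (gOf R n c F h) := by
      simp [vals]
    rw [this, IsLocalization.Away.mul_invSelf, sub_self]
  | cast i =>
    rw [extRel_castSucc, aeval_vals_rename]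
    have : Ideal.Quotient.mk (Ideal.span (Set.range F)) (F i) = 0 :=
      Ideal.Quotient.eq_zero_iff_mem.mpr (Ideal.subset_span ⟨_, rfl⟩)
    rw [this, map_zero]

/-- `T → S_g`. -/
noncomputable def toAway :
    Synt.RelGCIRing R (n + 1) (c + 1) (extRel R n c F h) →ₐ[R] Localization.Away (gOf R n c F h) :=
  Ideal.Quotient.liftₐ (Ideal.span (Set.range (extRel R n c F h))) (aeval (vals R n c F h)) (by
    have hle : Ideal.span (Set.range (extRel R n c F h)) ≤
        RingHom.ker (aeval (R := R) (vals R n c F h)).toRingHom := by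
      rw [Ideal.span_le]
      rintro _ ⟨j, rfl⟩
      rw [SetLike.mem_coe, RingHom.mem_ker]
      exact aeval_vals_extRel R n c F h j
    intro a ha
    exact hle ha)

theorem toAway_mk (p : MvPolynomial (Fin (n + 1)) R) :
    toAway R n c F h (Ideal.Quotient.mk _ p) = aeval (vals R n c F h) p := rfl

theorem toAway_comp_fromAway :
    (toAway R n c F h).comp (fromAway R n c F h) = AlgHom.id R _ := by
  apply IsLocalization.algHom_ext (Submonoid.powers (gOf R n c F h))
  apply Ideal.Quotient.algHom_ext
  apply MvPolynomial.algHom_ext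
  intro i
  change toAway R n c F h (fromAway R n c F h (algebraMap (Synt.RelGCIRing R n c F)
      (Localization.Away (gOf R n c F h)) (Ideal.Quotient.mk _ (X i)))) =
    algebraMap (Synt.RelGCIRing R n c F) (Localization.Away (gOf R n c F h))
      (Ideal.Quotient.mk _ (X i))
  rw [fromAway_algebraMap, toExt_mk, toAway_mk, aeval_vals_rename]

theorem fromAway_invSelf :
    fromAway R n c F h (IsLocalization.Away.invSelf (gOf R n c F h)) =
      Ideal.Quotient.mk _ (X (Fin.last n)) := by
  have h1 : fromAway R n c F h (algebraMap _ _ (gOf R n c F h)) *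
      fromAway R n c F h (IsLocalization.Away.invSelf (gOf R n c F h)) = 1 := by
    rw [← map_mul, IsLocalization.Away.mul_invSelf, map_one]
  rw [fromAway_algebraMap] at h1
  have h2 := toExt_g_mul R n c F h
  calc fromAway R n c F h (IsLocalization.Away.invSelf (gOf R n c F h))
      = (toExt R n c F h (gOf R n c F h) * Ideal.Quotient.mk _ (X (Fin.last n))) *
          fromAway R n c F h (IsLocalization.Away.invSelf (gOf R n c F h)) := by
        rw [h2, one_mul]
    _ = Ideal.Quotient.mk _ (X (Fin.last n)) *
          (toExt R n c F h (gOf R n c F h) *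
            fromAway R n c F h (IsLocalization.Away.invSelf (gOf R n c F h))) := by ring
    _ = _ := by rw [h1, mul_one]

theorem fromAway_comp_toAway :
    (fromAway R n c F h).comp (toAway R n c F h) = AlgHom.id R _ := by
  apply Ideal.Quotient.algHom_ext
  apply MvPolynomial.algHom_ext
  intro j
  change fromAway R n c F h (toAway R n c F h (Ideal.Quotient.mk _ (X j))) =
    Ideal.Quotient.mk _ (X j)
  rw [toAway_mk, aeval_X]
  cases j using Fin.lastCases with
  | last =>
    have : vals R n c F h (Fin.last n) = IsLocalization.Away.invSelf (gOf R n c F h) := by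
      simp [vals]
    rw [this, fromAway_invSelf]
  | cast i =>
    have : vals R n c F h i.castSucc =
        algebraMap (Synt.RelGCIRing R n c F) _ (Ideal.Quotient.mk _ (X i)) := by
      simp [vals]
    rw [this, fromAway_algebraMap, toExt_mk, rename_X]

/-- `S_g ≃ₐ[R] R[x_1..x_{n+1}]/(F, h x_{n+1} - 1)`. -/
noncomputable def awayEquiv :
    Localization.Away (gOf R n c F h) ≃ₐ[R]
      Synt.RelGCIRing R (n + 1) (c + 1) (extRel R n c F h) :=
  AlgEquiv.ofAlgHom (fromAway R n c F h) (toAway R n c F h)
    (fromAway_comp_toAway R n c F h) (toAway_comp_fromAway R n c F h)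

theorem awayEquiv_algebraMap (s : Synt.RelGCIRing R n c F) :
    awayEquiv R n c F h (algebraMap _ _ s) = toExt R n c F h s :=
  fromAway_algebraMap R n c F h s

/-- With the `S`-algebra structure on `T` given by `toExt`, `T` is the localization of `S` away
from `g`. -/
theorem isLocalization_away :
    letI : Algebra (Synt.RelGCIRing R n c F)
        (Synt.RelGCIRing R (n + 1) (c + 1) (extRel R n c F h)) := (toExt R n c F h).toRingHom.toAlgebra
    IsLocalization.Away (gOf R n c F h) (Synt.RelGCIRing R (n + 1) (c + 1) (extRel R n c F h)) := by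
  let _ : Algebra (Synt.RelGCIRing R n c F)
      (Synt.RelGCIRing R (n + 1) (c + 1) (extRel R n c F h)) := (toExt R n c F h).toRingHom.toAlgebra
  let e : Localization.Away (gOf R n c F h) ≃ₐ[Synt.RelGCIRing R n c F]
      Synt.RelGCIRing R (n + 1) (c + 1) (extRel R n c F h) :=
    AlgEquiv.ofRingEquiv (f := (awayEquiv R n c F h).toRingEquiv) (fun s =>
      awayEquiv_algebraMap R n c F h s)
  exact IsLocalization.isLocalization_of_algEquiv (Submonoid.powers (gOf R n c F h)) e

end Groth.Agent.Lib.Seat62.RelGCIAway
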