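import Mathlib
import Groth.Agent.Lib.Helper4FibDimE
import Groth.Agent.Lib.Helper3LocDimBC
import Groth.Prelude.Def_RegImm

/-!
# Seat62RelGCIBC: base change of presentations `R[x]/(F)` and invariance of the fibre dimension
-/

set_option autoImplicit false
set_option linter.style.haveILetI false
universe u

open TensorProduct MvPolynomial Groth.Agent.Lib.Helper4.FibDim

namespace Groth.Agent.Lib.Seat62.RelGCIBC

section General

open AlgebraicGeometry CategoryTheory

/-- **Base change invariance of the fibre dimension**, for a pushout square of rings. -/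
theorem fibLD_eq_of_isPushout (R₁ A S₁ S₂ : Type u) [CommRing R₁] [CommRing A] [CommRing S₁]
    [CommRing S₂] [Algebra R₁ A] [Algebra R₁ S₁] [Algebra S₁ S₂] [Algebra A S₂] [Algebra R₁ S₂]
    [IsScalarTower R₁ A S₂] [IsScalarTower R₁ S₁ S₂] [Algebra.IsPushout R₁ S₁ A S₂]
    [Algebra.FiniteType R₁ S₁] (q : PrimeSpectrum S₂) :
    fibLD (PrimeSpectrum.comap (algebraMap A S₂)) q =
      fibLD (PrimeSpectrum.comap (algebraMap R₁ S₁)) (PrimeSpectrum.comap (algebraMap S₁ S₂) q) := by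
  have hsq := CommRingCat.isPushout_of_isPushout R₁ S₁ A S₂
  have hpb := isPullback_SpecMap_of_isPushout _ _ _ _ hsq
  haveI : LocallyOfFiniteType (Spec.map (CommRingCat.ofHom (algebraMap R₁ S₁))) := by
    rw [HasRingHomProperty.Spec_iff (P := @LocallyOfFiniteType)]
    exact (RingHom.finiteType_algebraMap).mpr inferInstance
  let q' : ↥(Spec (CommRingCat.of S₂)) := q
  have h := Groth.Agent.Lib.Helper3.LocDimBC.fibreDimAt_eq_of_isPullback _ _ _ _ hpb q'
  have h1 := fibreDimAt_eq_fibLD (Spec.map (CommRingCat.ofHom (algebraMap A S₂))) q'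
  have h2 := fibreDimAt_eq_fibLD (Spec.map (CommRingCat.ofHom (algebraMap R₁ S₁)))
    ((Spec.map (CommRingCat.ofHom (algebraMap S₁ S₂))) q')
  exact (h1.symm.trans h).trans h2

end General

section BC

variable (R₁ : Type u) [CommRing R₁] (A : Type u) [CommRing A] [Algebra R₁ A] (n c : ℕ)
  (F₁ : Fin c → MvPolynomial (Fin n) R₁)

/-- The relations over `A`. -/
noncomputable abbrev mapRel : Fin c → MvPolynomial (Fin n) A :=
  fun i => MvPolynomial.map (algebraMap R₁ A) (F₁ i)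

/-- `R₁[x] → A[x] → A[x]/(F)`. -/
noncomputable def polyMap : MvPolynomial (Fin n) R₁ →ₐ[R₁]
    Synt.RelGCIRing A n c (mapRel R₁ A n c F₁) :=
  (Ideal.Quotient.mkₐ R₁ (Ideal.span (Set.range (mapRel R₁ A n c F₁)))).comp
    (MvPolynomial.mapAlgHom (Algebra.ofId R₁ A))

theorem polyMap_apply (P : MvPolynomial (Fin n) R₁) :
    polyMap R₁ A n c F₁ P = Ideal.Quotient.mk _ (MvPolynomial.map (algebraMap R₁ A) P) := rfl

/-- `S₁ = R₁[x]/(F₁) → S_A = A[x]/(F)`. -/
noncomputable def relMap : Synt.RelGCIRing R₁ n c F₁ →ₐ[R₁]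
    Synt.RelGCIRing A n c (mapRel R₁ A n c F₁) :=
  Ideal.Quotient.liftₐ (Ideal.span (Set.range F₁)) (polyMap R₁ A n c F₁) (by
    have hle : Ideal.span (Set.range F₁) ≤ RingHom.ker (polyMap R₁ A n c F₁).toRingHom := by
      rw [Ideal.span_le]
      rintro _ ⟨i, rfl⟩
      rw [SetLike.mem_coe, RingHom.mem_ker]
      show polyMap R₁ A n c F₁ (F₁ i) = 0
      rw [polyMap_apply, Ideal.Quotient.eq_zero_iff_mem]
      exact Ideal.subset_span ⟨i, rfl⟩
    intro a ha
    exact hle ha)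

theorem relMap_mk (P : MvPolynomial (Fin n) R₁) :
    relMap R₁ A n c F₁ (Ideal.Quotient.mk _ P) =
      Ideal.Quotient.mk _ (MvPolynomial.map (algebraMap R₁ A) P) := rfl

theorem map_span_eq : Ideal.span (Set.range (mapRel R₁ A n c F₁)) =
    ((Ideal.span (Set.range F₁)).map
      (Algebra.TensorProduct.includeRight (R := R₁) (A := A) (B := MvPolynomial (Fin n) R₁))).map
      ((MvPolynomial.algebraTensorAlgEquiv (σ := Fin n) R₁ A :
        A ⊗[R₁] MvPolynomial (Fin n) R₁ ≃ₐ[A] MvPolynomial (Fin n) A) :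
        A ⊗[R₁] MvPolynomial (Fin n) R₁ →+* MvPolynomial (Fin n) A) := by
  rw [Ideal.map_span, Ideal.map_span, ← Set.range_comp, ← Set.range_comp]
  congr 2
  funext i
  simp only [Function.comp_apply]
  show _ = MvPolynomial.algebraTensorAlgEquiv R₁ A (1 ⊗ₜ[R₁] F₁ i)
  rw [MvPolynomial.algebraTensorAlgEquiv_tmul, one_smul]

/-- `A ⊗[R₁] (R₁[x]/(F₁)) ≃ₐ[A] A[x]/(F)`. -/
noncomputable def tensorEquiv : A ⊗[R₁] Synt.RelGCIRing R₁ n c F₁ ≃ₐ[A]
    Synt.RelGCIRing A n c (mapRel R₁ A n c F₁) :=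
  (Algebra.TensorProduct.tensorQuotientEquiv (R := R₁) A (MvPolynomial (Fin n) R₁) A
    (Ideal.span (Set.range F₁))).trans
    (Ideal.quotientEquivAlg _ _ (MvPolynomial.algebraTensorAlgEquiv (σ := Fin n) R₁ A)
      (map_span_eq R₁ A n c F₁))

theorem tensorEquiv_one_tmul (s : Synt.RelGCIRing R₁ n c F₁) :
    tensorEquiv R₁ A n c F₁ (1 ⊗ₜ[R₁] s) = relMap R₁ A n c F₁ s := by
  obtain ⟨P, rfl⟩ := Ideal.Quotient.mk_surjective s
  rw [relMap_mk]
  show Ideal.quotientEquivAlg _ _ (MvPolynomial.algebraTensorAlgEquiv (σ := Fin n) R₁ A)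
    (map_span_eq R₁ A n c F₁) (Ideal.Quotient.mk _ ((1 : A) ⊗ₜ[R₁] P)) = _
  rw [Ideal.quotientEquivAlg_mk, MvPolynomial.algebraTensorAlgEquiv_tmul, one_smul]

section Pushout

open AlgebraicGeometry CategoryTheory

attribute [local instance] Algebra.TensorProduct.rightAlgebra

/-- **Base change invariance of the fibre dimension** for `A[x]/(F) = A ⊗[R₁] R₁[x]/(F₁)`. -/
theorem fibLD_relMap [Algebra.FiniteType R₁ (Synt.RelGCIRing R₁ n c F₁)]
    (q : PrimeSpectrum (Synt.RelGCIRing A n c (mapRel R₁ A n c F₁))) :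
    fibLD (PrimeSpectrum.comap (algebraMap A (Synt.RelGCIRing A n c (mapRel R₁ A n c F₁)))) q =
      fibLD (PrimeSpectrum.comap (algebraMap R₁ (Synt.RelGCIRing R₁ n c F₁)))
        (PrimeSpectrum.comap (relMap R₁ A n c F₁).toRingHom q) := by
  letI : Algebra (Synt.RelGCIRing R₁ n c F₁) (Synt.RelGCIRing A n c (mapRel R₁ A n c F₁)) :=
    (relMap R₁ A n c F₁).toRingHom.toAlgebra
  haveI : IsScalarTower R₁ (Synt.RelGCIRing R₁ n c F₁)
      (Synt.RelGCIRing A n c (mapRel R₁ A n c F₁)) :=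
    IsScalarTower.of_algebraMap_eq (fun r => ((relMap R₁ A n c F₁).commutes r).symm)
  have hpo : Algebra.IsPushout R₁ A (Synt.RelGCIRing R₁ n c F₁)
      (Synt.RelGCIRing A n c (mapRel R₁ A n c F₁)) :=
    Algebra.IsPushout.of_equiv (R := R₁) (R' := A) (S := Synt.RelGCIRing R₁ n c F₁)
      (S' := A ⊗[R₁] Synt.RelGCIRing R₁ n c F₁) (tensorEquiv R₁ A n c F₁)
      (RingHom.ext fun s => tensorEquiv_one_tmul R₁ A n c F₁ s)
  haveI hpo' : Algebra.IsPushout R₁ (Synt.RelGCIRing R₁ n c F₁) A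
      (Synt.RelGCIRing A n c (mapRel R₁ A n c F₁)) := hpo.symm
  exact fibLD_eq_of_isPushout R₁ A (Synt.RelGCIRing R₁ n c F₁)
    (Synt.RelGCIRing A n c (mapRel R₁ A n c F₁)) q

end Pushout

end BC

end Groth.Agent.Lib.Seat62.RelGCIBC
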