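import Mathlib
import Groth.Agent.Lib.Helper14LocalDim
import Groth.Agent.Lib.Helper4FibDimE
import Groth.Agent.Lib.Helper28FGDim

/-!
# Seat62RelGCIFib: local dimension of the fibres of a relative global complete intersection

For a field `κ` and `B = κ[x_1..x_n]/(G_1..G_c)` with `dim B = n - c`, the local dimension of
`Spec B` at every point is `n - c` (every irreducible component has dimension `≥ n - c` by Krull's
height theorem and the dimension formula in the polynomial ring).
-/

set_option autoImplicit false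
universe u

open TensorProduct Groth.Agent.Lib.Helper28

namespace Groth.Agent.Lib.Seat62.RelGCIFib

section field

variable (κ : Type u) [Field κ] (n c : ℕ) (G : Fin c → MvPolynomial (Fin n) κ)

/-- Every minimal prime over `(G_1..G_c)` in `κ[x_1..x_n]` has coheight at least `n - c`. -/
theorem le_dim_quotient_of_mem_minimalPrimes (P' : Ideal (MvPolynomial (Fin n) κ))
    (hP' : P' ∈ (Ideal.span (Set.range G)).minimalPrimes) :
    ((n - c : ℕ) : WithBot ℕ∞) ≤ ringKrullDim (MvPolynomial (Fin n) κ ⧸ P') := by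
  have : P'.IsPrime := hP'.1.1
  have hk : LocCoh.IsCohenMacaulayRing κ := isCohenMacaulayRing_of_field κ
  have hS : LocCoh.IsCohenMacaulayRing (MvPolynomial (Fin n) κ) :=
    isCohenMacaulayRing_mvPolynomial_fin n
  have h1 := height_add_ringKrullDim_quotient_eq_of_forall_isMaximal_height_eq n
    (height_eq_of_isMaximal_mvPolynomial_fin κ n) P'
  have h2 : P'.height ≤ (c : ℕ∞) := by
    have h3 := Ideal.height_le_card_of_mem_minimalPrimes_span (Set.finite_range G) hP'
    refine h3.trans ?_
    have h4 : (Set.range G).ncard ≤ c := by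
      have := Set.ncard_image_le (f := G) (Set.finite_univ (α := Fin c))
      rw [Set.image_univ, Set.ncard_univ, Nat.card_eq_fintype_card, Fintype.card_fin] at this
      exact this
    exact_mod_cast h4
  obtain ⟨a, ha⟩ := ENat.ne_top_iff_exists.mp (Ideal.height_ne_top_of_isPrime (I := P'))
  rw [← ha] at h1 h2
  have hac : a ≤ c := by exact_mod_cast h2
  -- dim (S/P') = n - a
  cases hd : ringKrullDim (MvPolynomial (Fin n) κ ⧸ P') using WithBot.recBotCoe with
  | bot => rw [hd] at h1; simp at h1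
  | coe d =>
    rw [hd] at h1
    cases d using ENat.recTopCoe with
    | top =>
      exfalso
      have : ((a : ℕ∞) : WithBot ℕ∞) + ((⊤ : ℕ∞) : WithBot ℕ∞) = (((a : ℕ∞) + ⊤ : ℕ∞) : WithBot ℕ∞) := by
        rw [WithBot.coe_add]
      rw [this, add_top] at h1
      have h5 : ((⊤ : ℕ∞) : WithBot ℕ∞) = ((n : ℕ∞) : WithBot ℕ∞) := h1
      exact ENat.top_ne_natCast n (WithBot.coe_injective h5)
    | coe d =>
      have h6 : a + d = n := by exact_mod_cast h1
      have h7 : n - c ≤ d := by omega
      obtain ⟨m, hm⟩ : ∃ m, m = n - c := ⟨_, rfl⟩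
      rw [← hm] at h7 ⊢
      exact_mod_cast h7

/-- If all minimal primes over `K` have coheight `≥ d`, then `d ≤ ht Q + dim (S'/K)/Q` for every
prime `Q` of `S'/K`. -/
theorem le_height_add_dim' {S' : Type u} [CommRing S'] [Algebra κ S'] [Algebra.FiniteType κ S']
    (K : Ideal S') (d : ℕ)
    (hmin : ∀ P' ∈ K.minimalPrimes, (d : WithBot ℕ∞) ≤ ringKrullDim (S' ⧸ P'))
    (Q : Ideal (S' ⧸ K)) [Q.IsPrime]
    (nQ eQ : ℕ) (hn : Q.height = nQ) (he : ringKrullDim ((S' ⧸ K) ⧸ Q) = eQ) :
    d ≤ nQ + eQ := by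
  obtain ⟨P, hP, hPQ⟩ := Ideal.exists_minimalPrimes_le
    (I := (⊥ : Ideal (S' ⧸ K))) (J := Q) bot_le
  have hPp : P.IsPrime := hP.1.1
  have h1 := Groth.Agent.Lib.Helper14.LocalDim.dim_quotient_minimalPrimes_le (k := κ) Q nQ eQ hn he
    P hP hPQ
  have hP' : P.comap (Ideal.Quotient.mk K) ∈ K.minimalPrimes := by
    have := Ideal.comap_minimalPrimes_eq_of_surjective (f := Ideal.Quotient.mk K)
      Ideal.Quotient.mk_surjective ⊥
    rw [← RingHom.ker_eq_comap_bot, Ideal.mk_ker] at this
    rw [this]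
    exact ⟨P, hP, rfl⟩
  have h2 := hmin _ hP'
  have hsurj : Function.Surjective ((Ideal.Quotient.mk P).comp (Ideal.Quotient.mk K)) :=
    Ideal.Quotient.mk_surjective.comp Ideal.Quotient.mk_surjective
  have hker : RingHom.ker ((Ideal.Quotient.mk P).comp (Ideal.Quotient.mk K)) =
      P.comap (Ideal.Quotient.mk K) := by
    rw [← RingHom.comap_ker, Ideal.mk_ker]
  have h3 : ringKrullDim (S' ⧸ P.comap (Ideal.Quotient.mk K)) =
      ringKrullDim ((S' ⧸ K) ⧸ P) :=
    ringKrullDim_eq_of_ringEquiv ((Ideal.quotEquivOfEq hker.symm).trans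
      (RingHom.quotientKerEquivOfSurjective hsurj))
  rw [h3] at h2
  have h4 := h2.trans h1
  exact_mod_cast h4

/-- For every prime `Q` of `B = κ[x]/(G_1..G_c)`: `n - c ≤ ht Q + dim B/Q`. -/
theorem le_height_add_dim
    (Q : Ideal (MvPolynomial (Fin n) κ ⧸ Ideal.span (Set.range G))) [Q.IsPrime]
    (nQ eQ : ℕ) (hn : Q.height = nQ)
    (he : ringKrullDim ((MvPolynomial (Fin n) κ ⧸ Ideal.span (Set.range G)) ⧸ Q) = eQ) :
    n - c ≤ nQ + eQ :=
  le_height_add_dim' κ (Ideal.span (Set.range G)) (n - c)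
    (fun P' hP' => le_dim_quotient_of_mem_minimalPrimes κ n c G P' hP') Q nQ eQ hn he

/-- The local dimension of `Spec (κ[x_1..x_n]/(G_1..G_c))` is `n - c` at every point, provided the
total dimension is `n - c`. -/
theorem localDim_eq
    (hdim : ringKrullDim (MvPolynomial (Fin n) κ ⧸ Ideal.span (Set.range G)) =
      ((n - c : ℕ) : WithBot ℕ∞))
    (Q : PrimeSpectrum (MvPolynomial (Fin n) κ ⧸ Ideal.span (Set.range G))) :
    FlatMor.localDim (PrimeSpectrum (MvPolynomial (Fin n) κ ⧸ Ideal.span (Set.range G))) Q =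
      ((n - c : ℕ) : WithBot ℕ∞) := by
  apply le_antisymm
  · refine (Groth.Agent.Lib.Helper7.TopDim.localDim_le_dim Q).trans ?_
    rw [PrimeSpectrum.topologicalKrullDim_eq_ringKrullDim, hdim]
  · have hQ := Q.2
    obtain ⟨nQ, eQ, hn, he, -, he'⟩ :=
      Groth.Agent.Lib.Helper14.LocalDim.exists_dims (k := κ) Q.asIdeal
    have h1 := Groth.Agent.Lib.Helper14.LocalDim.localDim_eq (k := κ) Q.asIdeal nQ eQ hn he he'
    have h2 : (⟨Q.asIdeal, inferInstance⟩ : PrimeSpectrum _) = Q := rfl
    rw [h2] at h1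
    rw [h1]
    have h3 := le_height_add_dim κ n c G Q.asIdeal nQ eQ hn he
    obtain ⟨m, hm⟩ : ∃ m, m = n - c := ⟨_, rfl⟩
    rw [← hm] at h3 ⊢
    exact_mod_cast h3

/-- Transported along a ring isomorphism. -/
theorem localDim_eq_of_ringEquiv {B : Type u} [CommRing B]
    (e : B ≃+* MvPolynomial (Fin n) κ ⧸ Ideal.span (Set.range G))
    (hdim : ringKrullDim B = ((n - c : ℕ) : WithBot ℕ∞)) (Q : PrimeSpectrum B) :
    FlatMor.localDim (PrimeSpectrum B) Q = ((n - c : ℕ) : WithBot ℕ∞) := by
  rw [ringKrullDim_eq_of_ringEquiv e] at hdim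
  have h1 := localDim_eq κ n c G hdim (PrimeSpectrum.homeomorphOfRingEquiv e Q)
  exact (Groth.Agent.Lib.Helper4.FibDim.localDim_eq_of_homeomorph
    (PrimeSpectrum.homeomorphOfRingEquiv e) Q).trans h1

end field

section fibre

variable (R : Type u) [CommRing R] (n c : ℕ) (F : Fin c → MvPolynomial (Fin n) R)

/-- The fibre of `R[x]/(F)` over `p` is `κ(p)[x]/(F̄)`. -/
theorem exists_fibre_ringEquiv (p : Ideal R) [p.IsPrime] :
    Nonempty (p.Fiber (Synt.RelGCIRing R n c F) ≃+*
      MvPolynomial (Fin n) p.ResidueField ⧸ Ideal.span (Set.range fun i =>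
        MvPolynomial.map (σ := Fin n) (algebraMap R p.ResidueField) (F i))) := by
  have hmap : (Ideal.span (Set.range F)).map
      (MvPolynomial.map (σ := Fin n) (algebraMap R p.ResidueField)) =
      ((Ideal.span (Set.range F)).map
        (Algebra.TensorProduct.includeRight :
          MvPolynomial (Fin n) R →ₐ[R] p.ResidueField ⊗[R] MvPolynomial (Fin n) R).toRingHom).map
        ((MvPolynomial.algebraTensorAlgEquiv (σ := Fin n) R p.ResidueField).toRingEquiv :
          p.ResidueField ⊗[R] MvPolynomial (Fin n) R →+* MvPolynomial (Fin n) p.ResidueField) := by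
    rw [Ideal.map_map]
    congr 1
    apply RingHom.ext
    intro x
    change _ = MvPolynomial.algebraTensorAlgEquiv R p.ResidueField (1 ⊗ₜ[R] x)
    rw [MvPolynomial.algebraTensorAlgEquiv_tmul, one_smul]
  have hspan : (Ideal.span (Set.range F)).map
      (MvPolynomial.map (σ := Fin n) (algebraMap R p.ResidueField)) =
      Ideal.span (Set.range fun i =>
        MvPolynomial.map (σ := Fin n) (algebraMap R p.ResidueField) (F i)) := by
    rw [Ideal.map_span, ← Set.range_comp]
    rfl
  exact ⟨((Algebra.TensorProduct.tensorQuotientEquiv (R := R) p.ResidueField (MvPolynomial (Fin n) R)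
      p.ResidueField (Ideal.span (Set.range F))).toRingEquiv.trans
      (Ideal.quotientEquiv _ _ (MvPolynomial.algebraTensorAlgEquiv R p.ResidueField).toRingEquiv
        hmap)).trans (Ideal.quotEquivOfEq hspan)⟩

/-- Local dimension of the fibres of a relative global complete intersection. -/
theorem localDim_fibre_eq (h : Synt.IsRelGCI R n c F) (p : PrimeSpectrum R)
    (Q : PrimeSpectrum (p.asIdeal.Fiber (Synt.RelGCIRing R n c F))) :
    FlatMor.localDim (PrimeSpectrum (p.asIdeal.Fiber (Synt.RelGCIRing R n c F))) Q =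
      ((n - c : ℕ) : WithBot ℕ∞) := by
  have hnt : Nontrivial (p.asIdeal.Fiber (Synt.RelGCIRing R n c F)) := by
    by_contra hnt
    rw [not_nontrivial_iff_subsingleton] at hnt
    exact Q.2.ne_top (Subsingleton.elim _ _)
  obtain ⟨-, hdim⟩ := h p hnt
  obtain ⟨e⟩ := exists_fibre_ringEquiv R n c F p.asIdeal
  exact localDim_eq_of_ringEquiv (B := p.asIdeal.Fiber (Synt.RelGCIRing R n c F))
    p.asIdeal.ResidueField n c
    (fun i => MvPolynomial.map (σ := Fin n) (algebraMap R p.asIdeal.ResidueField) (F i)) e hdim Q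

end fibre

end Groth.Agent.Lib.Seat62.RelGCIFib
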