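import Mathlib
import Groth.Agent.Lib.Seat62RelGCIAway
import Groth.Agent.Lib.Seat62RelGCIFib

/-!
# Seat62RelGCINhd: localizations `S_g` that are relative global complete intersections

If the fibre dimension of `S = R[x]/(F_1..F_c)` over `R` is `≤ n - c` at all points of `D(g)`, then
`S_g = R[x, x_{n+1}]/(F, h x_{n+1} - 1)` is a relative global complete intersection over `R`.
-/

set_option autoImplicit false
universe u

open MvPolynomial TensorProduct
open Groth.Agent.Lib.Helper4.FibDim Groth.Agent.Lib.Seat62.RelGCIAway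
  Groth.Agent.Lib.Seat62.RelGCIFib

namespace Groth.Agent.Lib.Seat62.RelGCINhd

section field

variable (κ : Type u) [Field κ] (n c : ℕ) (G : Fin c → MvPolynomial (Fin n) κ)

/-- A nontrivial `κ[x_1..x_n]/(G_1..G_c)` has dimension at least `n - c`. -/
theorem le_dim_of_ringEquiv {B : Type u} [CommRing B] [Nontrivial B]
    (e : B ≃+* MvPolynomial (Fin n) κ ⧸ Ideal.span (Set.range G)) :
    ((n - c : ℕ) : WithBot ℕ∞) ≤ ringKrullDim B := by
  rw [ringKrullDim_eq_of_ringEquiv e]
  have hnt : Nontrivial (MvPolynomial (Fin n) κ ⧸ Ideal.span (Set.range G)) :=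
    e.symm.toEquiv.nontrivial
  have hK : Ideal.span (Set.range G) ≠ ⊤ := Ideal.Quotient.nontrivial_iff.mp hnt
  obtain ⟨P', hP'⟩ := Ideal.nonempty_minimalPrimes hK
  refine (le_dim_quotient_of_mem_minimalPrimes κ n c G P' hP').trans ?_
  exact ringKrullDim_le_of_surjective (Ideal.Quotient.factor hP'.1.2)
    (Ideal.Quotient.factor_surjective hP'.1.2)

end field

section general

variable (R : Type u) [CommRing R]

/-- If the fibre local dimension is `≤ d` at all points of `Spec T`, all fibre rings have dimension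
`≤ d`. -/
theorem dim_fibre_le (T : Type u) [CommRing T] [Algebra R T] (d : WithBot ℕ∞)
    (hT : ∀ q : PrimeSpectrum T, fibLD (PrimeSpectrum.comap (algebraMap R T)) q ≤ d)
    (p : PrimeSpectrum R) : ringKrullDim (p.asIdeal.Fiber T) ≤ d := by
  rw [← PrimeSpectrum.topologicalKrullDim_eq_ringKrullDim,
    Groth.Agent.Lib.Helper7.TopDim.topologicalKrullDim_eq_iSup_localDim]
  refine iSup_le fun Q => ?_
  obtain ⟨⟨q, hq⟩, rfl⟩ := (PrimeSpectrum.preimageHomeomorphFiber R T p).surjective Q
  obtain rfl : PrimeSpectrum.comap (algebraMap R T) q = p := hq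
  have h1 := fibLD_comap_eq R T q
  exact h1.symm.le.trans (hT q)

variable (n c : ℕ) (F : Fin c → MvPolynomial (Fin n) R)

/-- Lower bound for the dimension of nontrivial fibres. -/
theorem le_dim_fibre (p : Ideal R) [p.IsPrime]
    (hnt : Nontrivial (p.Fiber (Synt.RelGCIRing R n c F))) :
    ((n - c : ℕ) : WithBot ℕ∞) ≤ ringKrullDim (p.Fiber (Synt.RelGCIRing R n c F)) := by
  obtain ⟨e⟩ := exists_fibre_ringEquiv R n c F p
  exact le_dim_of_ringEquiv (B := p.Fiber (Synt.RelGCIRing R n c F)) p.ResidueField n c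
    (fun i => MvPolynomial.map (σ := Fin n) (algebraMap R p.ResidueField) (F i)) e

/-- **Key lemma**: if the fibre dimension of `S/R` is `≤ n - c` on `D(g)`, then the presentation
`R[x, x_{n+1}]/(F, h x_{n+1} - 1)` of `S_g` is a relative global complete intersection. -/
theorem isRelGCI_extRel (h : MvPolynomial (Fin n) R)
    (hU : ∀ q : PrimeSpectrum (Synt.RelGCIRing R n c F), gOf R n c F h ∉ q.asIdeal →
      c ≤ n ∧ fibLD (PrimeSpectrum.comap (algebraMap R (Synt.RelGCIRing R n c F))) q ≤
        ((n - c : ℕ) : WithBot ℕ∞)) :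
    Synt.IsRelGCI R (n + 1) (c + 1) (extRel R n c F h) := by
  have key : ∀ q' : PrimeSpectrum (Synt.RelGCIRing R (n + 1) (c + 1) (extRel R n c F h)),
      c ≤ n ∧ fibLD (PrimeSpectrum.comap
        (algebraMap R (Synt.RelGCIRing R (n + 1) (c + 1) (extRel R n c F h)))) q' ≤
          ((n - c : ℕ) : WithBot ℕ∞) := by
    intro q'
    let _ : Algebra (Synt.RelGCIRing R n c F)
        (Synt.RelGCIRing R (n + 1) (c + 1) (extRel R n c F h)) :=
      (toExt R n c F h).toRingHom.toAlgebra
    have hloc := isLocalization_away R n c F h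
    have hemb := PrimeSpectrum.localization_away_isOpenEmbedding
      (Synt.RelGCIRing R (n + 1) (c + 1) (extRel R n c F h)) (gOf R n c F h)
    have hg : gOf R n c F h ∉ (PrimeSpectrum.comap (algebraMap (Synt.RelGCIRing R n c F)
        (Synt.RelGCIRing R (n + 1) (c + 1) (extRel R n c F h))) q').asIdeal := by
      intro hmem
      exact q'.2.ne_top (Ideal.eq_top_of_isUnit_mem _ hmem (isUnit_toExt_g R n c F h))
    obtain ⟨h1, h2⟩ := hU _ hg
    refine ⟨h1, ?_⟩
    have hcomp : (PrimeSpectrum.comap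
        (algebraMap R (Synt.RelGCIRing R (n + 1) (c + 1) (extRel R n c F h))) :
          PrimeSpectrum (Synt.RelGCIRing R (n + 1) (c + 1) (extRel R n c F h)) → PrimeSpectrum R) =
        PrimeSpectrum.comap (algebraMap R (Synt.RelGCIRing R n c F)) ∘
          PrimeSpectrum.comap (algebraMap (Synt.RelGCIRing R n c F)
            (Synt.RelGCIRing R (n + 1) (c + 1) (extRel R n c F h))) := by
      have : algebraMap R (Synt.RelGCIRing R (n + 1) (c + 1) (extRel R n c F h)) =
          (algebraMap (Synt.RelGCIRing R n c F)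
            (Synt.RelGCIRing R (n + 1) (c + 1) (extRel R n c F h))).comp
            (algebraMap R (Synt.RelGCIRing R n c F)) := by
        ext r
        exact ((toExt R n c F h).commutes r).symm
      rw [this]
      rfl
    rw [hcomp, fibLD_comp_isOpenEmbedding _ _ hemb]
    exact h2
  intro p' hnt
  have hcn : c ≤ n := by
    obtain ⟨Q⟩ : Nonempty (PrimeSpectrum (p'.asIdeal.Fiber
        (Synt.RelGCIRing R (n + 1) (c + 1) (extRel R n c F h)))) := inferInstance
    exact (key ((PrimeSpectrum.preimageHomeomorphFiber R _ p').symm Q).1).1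
  refine ⟨by omega, ?_⟩
  rw [Nat.add_sub_add_right]
  apply le_antisymm
  · exact dim_fibre_le R _ _ (fun q' => (key q').2) p'
  · have := le_dim_fibre R (n + 1) (c + 1) (extRel R n c F h) p'.asIdeal hnt
    rwa [Nat.add_sub_add_right] at this

end general

section unit

variable (R S : Type u) [CommRing R] [CommRing S] [Algebra R S] (p : Ideal R) [p.IsPrime]

/-- The ideal of the fibre ring of elements `x` with `r • x = 1 ⊗ g` for some `r ∉ p`, `g ∈ J`. -/
def fibreIdeal (J : Ideal S) : Ideal (p.Fiber S) where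
  carrier := {x | ∃ r : R, r ∉ p ∧ ∃ g ∈ J, r • x = (1 : p.ResidueField) ⊗ₜ[R] g}
  add_mem' := by
    rintro x y ⟨r1, hr1, g1, hg1, e1⟩ ⟨r2, hr2, g2, hg2, e2⟩
    refine ⟨r1 * r2, fun hmem => (Ideal.IsPrime.mem_or_mem inferInstance hmem).elim hr1 hr2,
      r2 • g1 + r1 • g2, J.add_mem (J.smul_of_tower_mem r2 hg1) (J.smul_of_tower_mem r1 hg2), ?_⟩
    rw [smul_add, mul_comm r1 r2, mul_smul, e1, mul_comm r2 r1, mul_smul, e2,
      TensorProduct.tmul_add, TensorProduct.tmul_smul, TensorProduct.tmul_smul]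
  zero_mem' := ⟨1, fun hmem => (Ideal.IsPrime.ne_top inferInstance)
    ((Ideal.eq_top_iff_one p).mpr hmem), 0, J.zero_mem, by simp⟩
  smul_mem' := by
    rintro y x ⟨r, hr, g, hg, e⟩
    obtain ⟨r', hr', s, e'⟩ := Ideal.Fiber.exists_smul_eq_one_tmul p y
    refine ⟨r' * r, fun hmem => (Ideal.IsPrime.mem_or_mem inferInstance hmem).elim hr' hr,
      s * g, J.mul_mem_left s hg, ?_⟩
    rw [smul_eq_mul, mul_smul, ← mul_smul_comm, e, ← smul_mul_assoc, e',
      Algebra.TensorProduct.tmul_mul_tmul, mul_one]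

theorem isUnit_algebraMap_fiber (r : R) (hr : r ∉ p) :
    IsUnit (algebraMap R (p.Fiber S) r) := by
  have h1 : IsUnit (algebraMap R p.ResidueField r) := by
    rw [isUnit_iff_ne_zero, Ne, Ideal.algebraMap_residueField_eq_zero]
    exact hr
  have h2 : algebraMap R (p.Fiber S) r =
      (Algebra.TensorProduct.includeLeft : p.ResidueField →ₐ[R] p.Fiber S)
        (algebraMap R p.ResidueField r) := by
    rw [AlgHom.commutes]
  rw [h2]
  exact h1.map _

/-- If no point of the fibre over `p` lies in `V(J)`, some `g ∈ J` is a unit on the fibre. -/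
theorem exists_mem_isUnit_tmul (J : Ideal S)
    (hJ : ∀ Q : PrimeSpectrum (p.Fiber S),
      ¬ J ≤ Q.asIdeal.comap (Algebra.TensorProduct.includeRight :
        S →ₐ[R] p.Fiber S).toRingHom) :
    ∃ g ∈ J, IsUnit ((1 : p.ResidueField) ⊗ₜ[R] g : p.Fiber S) := by
  have htop : fibreIdeal R S p J = ⊤ := by
    by_contra hne
    obtain ⟨m, hm, hle⟩ := Ideal.exists_le_maximal _ hne
    refine hJ ⟨m, hm.isPrime⟩ fun g hg => ?_
    rw [Ideal.mem_comap]
    apply hle
    exact ⟨1, fun hmem => (Ideal.IsPrime.ne_top inferInstance)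
      ((Ideal.eq_top_iff_one p).mpr hmem), g, hg, by rw [one_smul]; rfl⟩
  have h1 : (1 : p.Fiber S) ∈ fibreIdeal R S p J := by rw [htop]; trivial
  obtain ⟨r, hr, g, hg, e⟩ := h1
  refine ⟨g, hg, ?_⟩
  rw [← e, Algebra.smul_def, mul_one]
  exact isUnit_algebraMap_fiber R S p r hr

end unit

end Groth.Agent.Lib.Seat62.RelGCINhd
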