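import Mathlib
import Groth.Agent.Lib.Seat62RelGCIBC
import Groth.Agent.Lib.Seat62RelGCINhd

/-!
# Seat62RelGCIDescend: descending a relative global complete intersection to a finite type
`ℤ`-subalgebra
-/

set_option autoImplicit false
set_option linter.style.haveILetI false
universe u

open MvPolynomial Groth.Agent.Lib.Helper4.FibDim Groth.Agent.Lib.Seat62.RelGCIBC

namespace Groth.Agent.Lib.Seat62.RelGCIDescend

section Lift

variable {R : Type u} [CommRing R] {n : ℕ}

/-- A finitely generated subalgebra containing a given one and the coefficients of a finite family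
of polynomials. -/
theorem exists_subalgebra_lift {m : ℕ} (a : Fin m → MvPolynomial (Fin n) R)
    (R₁ : Subalgebra ℤ R) (h₁ : R₁.FG) :
    ∃ R₂ : Subalgebra ℤ R, R₁ ≤ R₂ ∧ R₂.FG ∧ ∃ a₂ : Fin m → MvPolynomial (Fin n) R₂,
      ∀ k, MvPolynomial.map (algebraMap R₂ R) (a₂ k) = a k := by
  classical
  set T : Finset R := Finset.univ.biUnion (fun k => (a k).coeffs) with hT
  refine ⟨R₁ ⊔ Algebra.adjoin ℤ (T : Set R), le_sup_left,
    h₁.sup (Subalgebra.fg_adjoin_finset T), ?_⟩
  have key : ∀ k, a k ∈ Set.range (MvPolynomial.map (σ := Fin n)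
      (algebraMap ↥(R₁ ⊔ Algebra.adjoin ℤ (T : Set R)) R)) := by
    intro k
    rw [MvPolynomial.mem_range_map_iff_coeffs_subset]
    intro r hr
    have hrT : r ∈ (T : Set R) := by
      rw [hT, Finset.mem_coe, Finset.mem_biUnion]
      exact ⟨k, Finset.mem_univ k, hr⟩
    have hmem : r ∈ R₁ ⊔ Algebra.adjoin ℤ (T : Set R) :=
      (le_sup_right : Algebra.adjoin ℤ (T : Set R) ≤ _) (Algebra.subset_adjoin hrT)
    exact ⟨⟨r, hmem⟩, rfl⟩
  choose a₂ ha₂ using key
  exact ⟨a₂, ha₂⟩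

end Lift

section Criterion

variable (R₁ : Type u) [CommRing R₁] (n c : ℕ) (F₁ : Fin c → MvPolynomial (Fin n) R₁) (d : ℕ)

theorem finiteType_relGCIRing : Algebra.FiniteType R₁ (Synt.RelGCIRing R₁ n c F₁) :=
  Algebra.FiniteType.of_surjective (Ideal.Quotient.mkₐ R₁ (Ideal.span (Set.range F₁)))
    (Ideal.Quotient.mkₐ_surjective R₁ _)

/-- The ideal of `R₁[x]` cutting out the locus of `Spec R₁[x]/(F₁)` where the fibre dimension is
`> d`. -/
noncomputable def badIdeal : Ideal (MvPolynomial (Fin n) R₁) :=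
  (PrimeSpectrum.vanishingIdeal
    {q : PrimeSpectrum (Synt.RelGCIRing R₁ n c F₁) |
      fibLD (PrimeSpectrum.comap (algebraMap R₁ (Synt.RelGCIRing R₁ n c F₁))) q ≤
        (d : WithBot ℕ∞)}ᶜ).comap (Ideal.Quotient.mk (Ideal.span (Set.range F₁)))

theorem badIdeal_le_iff (q₁ : PrimeSpectrum (Synt.RelGCIRing R₁ n c F₁)) :
    badIdeal R₁ n c F₁ d ≤ q₁.asIdeal.comap (Ideal.Quotient.mk (Ideal.span (Set.range F₁))) ↔
      ¬ fibLD (PrimeSpectrum.comap (algebraMap R₁ (Synt.RelGCIRing R₁ n c F₁))) q₁ ≤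
        (d : WithBot ℕ∞) := by
  haveI := finiteType_relGCIRing R₁ n c F₁
  have hopen := isOpen_setOf_fibLD_comap_le R₁ (Synt.RelGCIRing R₁ n c F₁) d
  have hzero : PrimeSpectrum.zeroLocus ((PrimeSpectrum.vanishingIdeal
      {q : PrimeSpectrum (Synt.RelGCIRing R₁ n c F₁) |
        fibLD (PrimeSpectrum.comap (algebraMap R₁ (Synt.RelGCIRing R₁ n c F₁))) q ≤
          (d : WithBot ℕ∞)}ᶜ : Ideal _) : Set (Synt.RelGCIRing R₁ n c F₁)) =
      {q : PrimeSpectrum (Synt.RelGCIRing R₁ n c F₁) |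
        fibLD (PrimeSpectrum.comap (algebraMap R₁ (Synt.RelGCIRing R₁ n c F₁))) q ≤
          (d : WithBot ℕ∞)}ᶜ := by
    rw [PrimeSpectrum.zeroLocus_vanishingIdeal_eq_closure]
    exact hopen.isClosed_compl.closure_eq
  have h1 : badIdeal R₁ n c F₁ d ≤
      q₁.asIdeal.comap (Ideal.Quotient.mk (Ideal.span (Set.range F₁))) ↔
      q₁ ∈ PrimeSpectrum.zeroLocus ((PrimeSpectrum.vanishingIdeal
      {q : PrimeSpectrum (Synt.RelGCIRing R₁ n c F₁) |
        fibLD (PrimeSpectrum.comap (algebraMap R₁ (Synt.RelGCIRing R₁ n c F₁))) q ≤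
          (d : WithBot ℕ∞)}ᶜ : Ideal _) : Set (Synt.RelGCIRing R₁ n c F₁)) := by
    rw [PrimeSpectrum.mem_zeroLocus, badIdeal]
    constructor
    · intro h x hx
      obtain ⟨P, rfl⟩ := Ideal.Quotient.mk_surjective x
      exact h (show P ∈ Ideal.comap _ _ from hx)
    · intro h P hP
      exact h hP
  rw [h1, hzero]
  rfl

variable (B : Type u) [CommRing B] [Algebra R₁ B]

/-- The criterion holds over `B`: `1 ∈ badIdeal · B[x]`. -/
def Good : Prop :=
  (1 : MvPolynomial (Fin n) B) ∈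
    (badIdeal R₁ n c F₁ d).map (MvPolynomial.map (σ := Fin n) (algebraMap R₁ B))

theorem span_le_badIdeal : Ideal.span (Set.range F₁) ≤ badIdeal R₁ n c F₁ d := by
  intro P hP
  rw [badIdeal, Ideal.mem_comap, Ideal.Quotient.eq_zero_iff_mem.mpr hP]
  exact Ideal.zero_mem _

/-- If the criterion holds over `B`, all fibre dimensions of `B[x]/(F)` over `B` are `≤ d`. -/
theorem fibLD_le_of_good (hgood : Good R₁ n c F₁ d B)
    (q : PrimeSpectrum (Synt.RelGCIRing B n c (mapRel R₁ B n c F₁))) :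
    fibLD (PrimeSpectrum.comap (algebraMap B (Synt.RelGCIRing B n c (mapRel R₁ B n c F₁)))) q ≤
      (d : WithBot ℕ∞) := by
  haveI := finiteType_relGCIRing R₁ n c F₁
  rw [fibLD_relMap R₁ B n c F₁ q]
  by_contra hnot
  rw [← badIdeal_le_iff] at hnot
  have hle : (badIdeal R₁ n c F₁ d).map (MvPolynomial.map (σ := Fin n) (algebraMap R₁ B)) ≤
      q.asIdeal.comap (Ideal.Quotient.mk (Ideal.span (Set.range (mapRel R₁ B n c F₁)))) := by
    rw [Ideal.map_le_iff_le_comap]
    intro P hP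
    have h2 : relMap R₁ B n c F₁ (Ideal.Quotient.mk _ P) ∈ q.asIdeal := hnot hP
    rw [relMap_mk] at h2
    exact h2
  have h1 := hle hgood
  rw [Ideal.mem_comap, map_one] at h1
  exact q.isPrime.ne_top ((Ideal.eq_top_iff_one _).mpr h1)

/-- Conversely. -/
theorem good_of_fibLD_le
    (hle : ∀ q : PrimeSpectrum (Synt.RelGCIRing B n c (mapRel R₁ B n c F₁)),
      fibLD (PrimeSpectrum.comap (algebraMap B (Synt.RelGCIRing B n c (mapRel R₁ B n c F₁)))) q ≤
        (d : WithBot ℕ∞)) : Good R₁ n c F₁ d B := by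
  haveI := finiteType_relGCIRing R₁ n c F₁
  by_contra hnot
  have hne : (badIdeal R₁ n c F₁ d).map (MvPolynomial.map (σ := Fin n) (algebraMap R₁ B)) ≠ ⊤ :=
    fun h => hnot ((Ideal.eq_top_iff_one _).mp h)
  obtain ⟨M, hM, hKM⟩ := Ideal.exists_le_maximal _ hne
  have hMp : M.IsPrime := hM.isPrime
  have hker : RingHom.ker (Ideal.Quotient.mk (Ideal.span (Set.range (mapRel R₁ B n c F₁)))) ≤ M := by
    rw [Ideal.mk_ker, Ideal.span_le]
    rintro _ ⟨i, rfl⟩
    apply hKM
    exact Ideal.mem_map_of_mem _ (span_le_badIdeal R₁ n c F₁ d (Ideal.subset_span ⟨i, rfl⟩))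
  have hqp : (M.map (Ideal.Quotient.mk (Ideal.span (Set.range (mapRel R₁ B n c F₁))))).IsPrime :=
    Ideal.map_isPrime_of_surjective Ideal.Quotient.mk_surjective hker
  have hcomap : (M.map (Ideal.Quotient.mk (Ideal.span (Set.range (mapRel R₁ B n c F₁))))).comap
      (Ideal.Quotient.mk (Ideal.span (Set.range (mapRel R₁ B n c F₁)))) = M := by
    rw [Ideal.comap_map_of_surjective _ Ideal.Quotient.mk_surjective, ← RingHom.ker_eq_comap_bot]
    exact sup_of_le_left hker
  have h1 := hle ⟨_, hqp⟩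
  rw [fibLD_relMap R₁ B n c F₁] at h1
  apply (badIdeal_le_iff R₁ n c F₁ d _).mp _ h1
  intro P hP
  rw [Ideal.mem_comap]
  show relMap R₁ B n c F₁ (Ideal.Quotient.mk _ P) ∈
    M.map (Ideal.Quotient.mk (Ideal.span (Set.range (mapRel R₁ B n c F₁))))
  rw [relMap_mk, ← Ideal.mem_comap, hcomap]
  exact hKM (Ideal.mem_map_of_mem _ hP)

end Criterion

section Descend

variable {R : Type u} [CommRing R] {n : ℕ}

/-- If an ideal of `R₁[x]` (with `R₁ ⊆ R` a finitely generated subring) generates the unit ideal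
of `R[x]`, it already does so over a finitely generated subring `R₂ ⊇ R₁`. -/
theorem exists_subalgebra_one_mem (R₁ : Subalgebra ℤ R) (h₁ : R₁.FG)
    (I : Ideal (MvPolynomial (Fin n) R₁))
    (h : (1 : MvPolynomial (Fin n) R) ∈
      I.map (MvPolynomial.map (σ := Fin n) (algebraMap R₁ R))) :
    ∃ (R₂ : Subalgebra ℤ R) (h12 : R₁ ≤ R₂), R₂.FG ∧
      (1 : MvPolynomial (Fin n) R₂) ∈
        I.map (MvPolynomial.map (σ := Fin n) (Subalgebra.inclusion h12).toRingHom) := by
  haveI : Algebra.FiniteType ℤ R₁ := (Subalgebra.fg_iff_finiteType R₁).mp h₁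
  haveI : IsNoetherianRing R₁ := Algebra.FiniteType.isNoetherianRing ℤ R₁
  haveI : IsNoetherianRing (MvPolynomial (Fin n) R₁) := inferInstance
  obtain ⟨m, j, hj⟩ :=
    Submodule.fg_iff_exists_fin_generating_family.mp (IsNoetherian.noetherian I)
  have hj' : I = Ideal.span (Set.range j) := hj.symm
  rw [hj', Ideal.map_span, ← Set.range_comp, Ideal.mem_span_range_iff_exists_fun] at h
  obtain ⟨a, ha⟩ := h
  obtain ⟨R₂, h12, h₂, a₂, ha₂⟩ := exists_subalgebra_lift a R₁ h₁
  refine ⟨R₂, h12, h₂, ?_⟩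
  rw [hj', Ideal.map_span, ← Set.range_comp, Ideal.mem_span_range_iff_exists_fun]
  refine ⟨a₂, ?_⟩
  have hinj : Function.Injective (MvPolynomial.map (σ := Fin n) (algebraMap R₂ R)) :=
    MvPolynomial.map_injective _ Subtype.val_injective
  apply hinj
  rw [map_sum, map_one, ← ha]
  refine Finset.sum_congr rfl fun k _ => ?_
  rw [map_mul, ha₂]
  congr 1
  simp only [Function.comp_apply]
  rw [MvPolynomial.map_map]
  rfl

end Descend

end Groth.Agent.Lib.Seat62.RelGCIDescend
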