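import Mathlib
import Groth.Agent.Lib.Seat62RelGCIDescend
import Groth.Agent.Lib.Seat62RelGCIAway

/-!
# Seat62RelGCIBC2: base change of relative global complete intersections, descent to finitely
generated subrings (strengthened forms)
-/

set_option autoImplicit false
set_option linter.style.haveILetI false
universe u

open MvPolynomial Groth.Agent.Lib.Helper4.FibDim Groth.Agent.Lib.Seat62.RelGCIBC
  Groth.Agent.Lib.Seat62.RelGCIDescend Groth.Agent.Lib.Seat62.RelGCIAway

namespace Groth.Agent.Lib.Seat62.RelGCIBC2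

section Fiber

variable (R T : Type u) [CommRing R] [CommRing T] [Algebra R T]

/-- The fibre through a prime is nontrivial. -/
theorem nontrivial_fiber_of_prime (q : PrimeSpectrum T) :
    Nontrivial ((PrimeSpectrum.comap (algebraMap R T) q).asIdeal.Fiber T) := by
  have hne : Nonempty (PrimeSpectrum ((PrimeSpectrum.comap (algebraMap R T) q).asIdeal.Fiber T)) :=
    ⟨PrimeSpectrum.preimageHomeomorphFiber R T _ ⟨q, rfl⟩⟩
  by_contra hnn
  rw [not_nontrivial_iff_subsingleton] at hnn
  obtain ⟨Q⟩ := hne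
  exact Q.2.ne_top (Subsingleton.elim _ _)

/-- A nontrivial fibre contains a prime. -/
theorem exists_prime_of_nontrivial_fiber (p : PrimeSpectrum R)
    (hnt : Nontrivial (p.asIdeal.Fiber T)) :
    ∃ q : PrimeSpectrum T, PrimeSpectrum.comap (algebraMap R T) q = p := by
  obtain ⟨Q⟩ : Nonempty (PrimeSpectrum (p.asIdeal.Fiber T)) := inferInstance
  obtain ⟨⟨q, hq⟩, -⟩ := (PrimeSpectrum.preimageHomeomorphFiber R T p).surjective Q
  exact ⟨q, hq⟩

end Fiber

section BC

variable (R₁ : Type u) [CommRing R₁] (A : Type u) [CommRing A] [Algebra R₁ A] (n c : ℕ)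
  (F₁ : Fin c → MvPolynomial (Fin n) R₁)

/-- **Base change** of a relative global complete intersection. -/
theorem isRelGCI_baseChange (h : Synt.IsRelGCI R₁ n c F₁) :
    Synt.IsRelGCI A n c (mapRel R₁ A n c F₁) := by
  haveI := finiteType_relGCIRing R₁ n c F₁
  have hle : ∀ q : PrimeSpectrum (Synt.RelGCIRing A n c (mapRel R₁ A n c F₁)),
      fibLD (PrimeSpectrum.comap (algebraMap A (Synt.RelGCIRing A n c (mapRel R₁ A n c F₁)))) q ≤
        ((n - c : ℕ) : WithBot ℕ∞) := by
    intro q
    rw [fibLD_relMap R₁ A n c F₁ q, fibLD_comap_eq]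
    exact (Groth.Agent.Lib.Seat62.RelGCIFib.localDim_fibre_eq R₁ n c _ h _ _).le
  intro p hnt
  obtain ⟨q, hq⟩ := exists_prime_of_nontrivial_fiber A _ p hnt
  have hnt₁ := nontrivial_fiber_of_prime R₁ (Synt.RelGCIRing R₁ n c F₁)
    (PrimeSpectrum.comap (relMap R₁ A n c F₁).toRingHom q)
  refine ⟨(h _ hnt₁).1, le_antisymm ?_ ?_⟩
  · exact Groth.Agent.Lib.Seat62.RelGCINhd.dim_fibre_le A _ _ hle p
  · exact Groth.Agent.Lib.Seat62.RelGCINhd.le_dim_fibre A n c _ p.asIdeal hnt

/-- The extended relations commute with base change. -/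
theorem mapRel_extRel (g : MvPolynomial (Fin n) R₁) :
    mapRel R₁ A (n + 1) (c + 1) (extRel R₁ n c F₁ g) =
      extRel A n c (mapRel R₁ A n c F₁) (MvPolynomial.map (algebraMap R₁ A) g) := by
  funext j
  refine Fin.lastCases ?_ (fun i => ?_) j
  · show MvPolynomial.map (algebraMap R₁ A) (extRel R₁ n c F₁ g (Fin.last c)) = _
    rw [extRel_last, extRel_last, map_sub, map_mul, MvPolynomial.map_rename, MvPolynomial.map_X,
      map_one]
  · show MvPolynomial.map (algebraMap R₁ A) (extRel R₁ n c F₁ g i.castSucc) = _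
    rw [extRel_castSucc, extRel_castSucc, MvPolynomial.map_rename]

end BC

section Sub

variable {R : Type u} [CommRing R] {n : ℕ}

/-- Polynomials over a subring, viewed over the ring. -/
noncomputable abbrev valP (A : Subalgebra ℤ R) :
    MvPolynomial (Fin n) A →+* MvPolynomial (Fin n) R :=
  MvPolynomial.map (algebraMap A R)

/-- Polynomials over a subring, viewed over a bigger subring. -/
noncomputable abbrev incP {A B : Subalgebra ℤ R} (h : A ≤ B) :
    MvPolynomial (Fin n) A →+* MvPolynomial (Fin n) B :=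
  MvPolynomial.map (Subalgebra.inclusion h).toRingHom

theorem valP_injective (A : Subalgebra ℤ R) : Function.Injective (valP (n := n) A) :=
  MvPolynomial.map_injective _ Subtype.val_injective

theorem valP_incP {A B : Subalgebra ℤ R} (h : A ≤ B) (x : MvPolynomial (Fin n) A) :
    valP B (incP h x) = valP A x := by
  rw [valP, incP, MvPolynomial.map_map]
  rfl

theorem incP_incP {A B C : Subalgebra ℤ R} (h12 : A ≤ B) (h23 : B ≤ C)
    (x : MvPolynomial (Fin n) A) : incP h23 (incP h12 x) = incP (h12.trans h23) x := by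
  rw [incP, incP, MvPolynomial.map_map]
  rfl

theorem valP_comp_incP {A B : Subalgebra ℤ R} (h : A ≤ B) :
    (valP (n := n) B).comp (incP h) = valP A :=
  RingHom.ext fun x => valP_incP h x

theorem incP_comp_incP {A B C : Subalgebra ℤ R} (h12 : A ≤ B) (h23 : B ≤ C) :
    (incP (n := n) h23).comp (incP h12) = incP (h12.trans h23) :=
  RingHom.ext fun x => incP_incP h12 h23 x

theorem map_valP_map_incP {A B : Subalgebra ℤ R} (h : A ≤ B)
    (I : Ideal (MvPolynomial (Fin n) A)) : (I.map (incP h)).map (valP B) = I.map (valP A) := by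
  rw [Ideal.map_map, valP_comp_incP]

theorem map_incP_map_incP {A B C : Subalgebra ℤ R} (h12 : A ≤ B) (h23 : B ≤ C)
    (I : Ideal (MvPolynomial (Fin n) A)) :
    (I.map (incP h12)).map (incP h23) = I.map (incP (h12.trans h23)) := by
  rw [Ideal.map_map, incP_comp_incP]

/-- Monotonicity of membership. -/
theorem incP_mem_mono {A B C : Subalgebra ℤ R} (h12 : A ≤ B) (h23 : B ≤ C)
    (I : Ideal (MvPolynomial (Fin n) A)) (y : MvPolynomial (Fin n) A)
    (h : incP h12 y ∈ I.map (incP h12)) :
    incP (h12.trans h23) y ∈ I.map (incP (h12.trans h23)) := by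
  have := Ideal.mem_map_of_mem (incP h23) h
  rwa [map_incP_map_incP, incP_incP] at this

/-- A finitely generated subalgebra over which finitely many polynomials are defined. -/
theorem exists_subalgebra_range (T : Set (MvPolynomial (Fin n) R)) (hT : T.Finite)
    (R₁ : Subalgebra ℤ R) (h₁ : R₁.FG) :
    ∃ R₂ : Subalgebra ℤ R, R₁ ≤ R₂ ∧ R₂.FG ∧ T ⊆ Set.range (valP (n := n) R₂) := by
  classical
  set C : Finset R := hT.toFinset.biUnion (fun p => p.coeffs) with hC
  refine ⟨R₁ ⊔ Algebra.adjoin ℤ (C : Set R), le_sup_left,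
    h₁.sup (Subalgebra.fg_adjoin_finset C), ?_⟩
  intro p hp
  show p ∈ Set.range (MvPolynomial.map (σ := Fin n)
    (algebraMap ↥(R₁ ⊔ Algebra.adjoin ℤ (C : Set R)) R))
  rw [MvPolynomial.mem_range_map_iff_coeffs_subset]
  intro r hr
  have hrT : r ∈ (C : Set R) := by
    rw [hC, Finset.mem_coe, Finset.mem_biUnion]
    exact ⟨p, hT.mem_toFinset.mpr hp, hr⟩
  have hmem : r ∈ R₁ ⊔ Algebra.adjoin ℤ (C : Set R) :=
    (le_sup_right : Algebra.adjoin ℤ (C : Set R) ≤ _) (Algebra.subset_adjoin hrT)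
  exact ⟨⟨r, hmem⟩, rfl⟩

/-- **Descent of membership**: finitely many membership statements `y_s ∈ I · R[x]` (with `I` an
ideal of `R₁[x]`, `R₁ ⊆ R` a finitely generated subring) hold over a finitely generated subring. -/
theorem exists_subalgebra_mem {κ : Type*} [Finite κ] (R₁ : Subalgebra ℤ R) (h₁ : R₁.FG)
    (I : Ideal (MvPolynomial (Fin n) R₁)) (y : κ → MvPolynomial (Fin n) R₁)
    (h : ∀ s, valP R₁ (y s) ∈ I.map (valP R₁)) :
    ∃ (R₂ : Subalgebra ℤ R) (h12 : R₁ ≤ R₂), R₂.FG ∧ ∀ s, incP h12 (y s) ∈ I.map (incP h12) := by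
  classical
  haveI : Algebra.FiniteType ℤ R₁ := (Subalgebra.fg_iff_finiteType R₁).mp h₁
  haveI : IsNoetherianRing R₁ := Algebra.FiniteType.isNoetherianRing ℤ R₁
  haveI : IsNoetherianRing (MvPolynomial (Fin n) R₁) := inferInstance
  obtain ⟨m, j, hj⟩ :=
    Submodule.fg_iff_exists_fin_generating_family.mp (IsNoetherian.noetherian I)
  have hj' : I = Ideal.span (Set.range j) := hj.symm
  have h' : ∀ s, ∃ a : Fin m → MvPolynomial (Fin n) R,
      ∑ k, a k * valP R₁ (j k) = valP R₁ (y s) := by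
    intro s
    have := h s
    rw [hj', Ideal.map_span, ← Set.range_comp, Ideal.mem_span_range_iff_exists_fun] at this
    exact this
  choose a ha using h'
  obtain ⟨R₂, h12, h₂, hsub⟩ := exists_subalgebra_range (n := n)
    (Set.range (fun sk : κ × Fin m => a sk.1 sk.2)) (Set.finite_range _) R₁ h₁
  have hlift : ∀ s k, ∃ b : MvPolynomial (Fin n) R₂, valP R₂ b = a s k :=
    fun s k => hsub ⟨(s, k), rfl⟩
  choose b hb using hlift
  refine ⟨R₂, h12, h₂, fun s => ?_⟩
  rw [hj', Ideal.map_span, ← Set.range_comp, Ideal.mem_span_range_iff_exists_fun]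
  refine ⟨b s, ?_⟩
  apply valP_injective R₂
  rw [map_sum, valP_incP, ← ha s]
  refine Finset.sum_congr rfl fun k _ => ?_
  rw [map_mul, hb]
  congr 1
  exact valP_incP h12 (j k)

/-- Monotonicity of `IsRelGCI` along inclusions of subrings. -/
theorem isRelGCI_incP_mono {A B C : Subalgebra ℤ R} (h12 : A ≤ B) (h23 : B ≤ C) (c : ℕ)
    (F : Fin c → MvPolynomial (Fin n) A)
    (h : Synt.IsRelGCI B n c (fun i => incP h12 (F i))) :
    Synt.IsRelGCI C n c (fun i => incP (h12.trans h23) (F i)) := by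
  letI : Algebra B C := (Subalgebra.inclusion h23).toRingHom.toAlgebra
  have h1 := isRelGCI_baseChange B C n c _ h
  have h2 : mapRel B C n c (fun i => incP h12 (F i)) = fun i => incP (h12.trans h23) (F i) := by
    funext i
    exact incP_incP h12 h23 (F i)
  rwa [h2] at h1

/-- `IsRelGCI` ascends from a subring to the ring. -/
theorem isRelGCI_valP {A : Subalgebra ℤ R} (c : ℕ) (F : Fin c → MvPolynomial (Fin n) A)
    (h : Synt.IsRelGCI A n c F) : Synt.IsRelGCI R n c (fun i => valP A (F i)) :=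
  isRelGCI_baseChange A R n c F h

/-- **Descent of `IsRelGCI`** to a finitely generated subring containing a given one. -/
theorem exists_subalgebra_isRelGCI (R₁ : Subalgebra ℤ R) (h₁ : R₁.FG) (c : ℕ)
    (F₁ : Fin c → MvPolynomial (Fin n) R₁)
    (h : Synt.IsRelGCI R n c (fun i => valP R₁ (F₁ i))) :
    ∃ (R₂ : Subalgebra ℤ R) (h12 : R₁ ≤ R₂), R₂.FG ∧
      Synt.IsRelGCI R₂ n c (fun i => incP h12 (F₁ i)) := by
  classical
  change Synt.IsRelGCI R n c (mapRel R₁ R n c F₁) at h
  by_cases hcn : c ≤ n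
  · have hgood : Good R₁ n c F₁ (n - c) R := by
      apply good_of_fibLD_le
      intro q
      rw [fibLD_comap_eq]
      exact (Groth.Agent.Lib.Seat62.RelGCIFib.localDim_fibre_eq R n c _ h _ _).le
    obtain ⟨R₂, h12, h₂, hone⟩ :=
      exists_subalgebra_one_mem R₁ h₁ (badIdeal R₁ n c F₁ (n - c)) hgood
    refine ⟨R₂, h12, h₂, ?_⟩
    let _ : Algebra R₁ R₂ := (Subalgebra.inclusion h12).toRingHom.toAlgebra
    have hgood₂ : Good R₁ n c F₁ (n - c) R₂ := hone
    have hle := fibLD_le_of_good R₁ n c F₁ (n - c) R₂ hgood₂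
    intro p hnt
    refine ⟨hcn, le_antisymm ?_ ?_⟩
    · exact Groth.Agent.Lib.Seat62.RelGCINhd.dim_fibre_le R₂ _ _ hle p
    · exact Groth.Agent.Lib.Seat62.RelGCINhd.le_dim_fibre R₂ n c _ p.asIdeal hnt
  · have hsub : Subsingleton (Synt.RelGCIRing R n c (mapRel R₁ R n c F₁)) := by
      by_contra hns
      rw [not_subsingleton_iff_nontrivial] at hns
      obtain ⟨q⟩ : Nonempty (PrimeSpectrum (Synt.RelGCIRing R n c (mapRel R₁ R n c F₁))) :=
        inferInstance
      exact hcn (h _ (nontrivial_fiber_of_prime R _ q)).1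
    have hone : (1 : MvPolynomial (Fin n) R) ∈
        (Ideal.span (Set.range F₁)).map (MvPolynomial.map (σ := Fin n) (algebraMap R₁ R)) := by
      rw [Ideal.map_span, ← Set.range_comp]
      rw [Ideal.Quotient.subsingleton_iff] at hsub
      have : Ideal.span (Set.range (mapRel R₁ R n c F₁)) = ⊤ := hsub
      rw [Ideal.eq_top_iff_one] at this
      exact this
    obtain ⟨R₂, h12, h₂, hone₂⟩ :=
      exists_subalgebra_one_mem R₁ h₁ (Ideal.span (Set.range F₁)) hone
    refine ⟨R₂, h12, h₂, ?_⟩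
    rw [Ideal.map_span, ← Set.range_comp] at hone₂
    have htop : Ideal.span (Set.range (fun i => incP h12 (F₁ i))) = ⊤ :=
      (Ideal.eq_top_iff_one _).mpr hone₂
    have hsub₂ : Subsingleton (Synt.RelGCIRing R₂ n c (fun i => incP h12 (F₁ i))) :=
      Ideal.Quotient.subsingleton_iff.mpr htop
    intro p hnt
    exfalso
    have : Subsingleton (p.asIdeal.Fiber (Synt.RelGCIRing R₂ n c (fun i => incP h12 (F₁ i)))) := by
      unfold Ideal.Fiber
      infer_instance
    exact (not_subsingleton_iff_nontrivial.mpr hnt) this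

end Sub

end Groth.Agent.Lib.Seat62.RelGCIBC2
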