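import Mathlib
import Groth.Agent.Lib.Seat62RelGCIFib

/-!
# Seat62RelGCIQuot: fibres of `R[x]/(F)` over primes containing `I` vs fibres of `(R/I)[x]/(F̄)`
-/

set_option autoImplicit false
universe u

open MvPolynomial TensorProduct Groth.Agent.Lib.Seat62.RelGCIFib

namespace Groth.Agent.Lib.Seat62.RelGCIQuot

variable (R : Type u) [CommRing R] (n c : ℕ) (F : Fin c → MvPolynomial (Fin n) R)

/-- For a prime `p ⊇ I`, the fibre of `R[x]/(F)` over `p` is isomorphic to the fibre of
`(R/I)[x]/(F̄)` over `p/I`. -/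
theorem exists_fibre_ringEquiv_quotient (I : Ideal R) (p : Ideal R) [hp : p.IsPrime] (hIp : I ≤ p) :
    ∃ (pb : Ideal (R ⧸ I)) (_ : pb.IsPrime),
      Nonempty (p.Fiber (Synt.RelGCIRing R n c F) ≃+*
        pb.Fiber (Synt.RelGCIRing (R ⧸ I) n c
          (fun i => MvPolynomial.map (Ideal.Quotient.mk I) (F i)))) := by
  have hker : RingHom.ker (Ideal.Quotient.mk I) ≤ p := by rwa [Ideal.mk_ker]
  have hpb : (p.map (Ideal.Quotient.mk I)).IsPrime :=
    Ideal.map_isPrime_of_surjective Ideal.Quotient.mk_surjective hker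
  have hcomap : p = (p.map (Ideal.Quotient.mk I)).comap (Ideal.Quotient.mk I) := by
    rw [Ideal.comap_map_of_surjective _ Ideal.Quotient.mk_surjective, ← RingHom.ker_eq_comap_bot]
    exact (sup_of_le_left hker).symm
  refine ⟨p.map (Ideal.Quotient.mk I), hpb, ?_⟩
  have hbij := RingHom.SurjectiveOnStalks.residueFieldMap_bijective
    (RingHom.surjectiveOnStalks_of_surjective (Ideal.Quotient.mk_surjective (I := I)))
    p (p.map (Ideal.Quotient.mk I)) hcomap
  let σe : p.ResidueField ≃+* (p.map (Ideal.Quotient.mk I)).ResidueField :=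
    RingEquiv.ofBijective _ hbij
  obtain ⟨e1⟩ := exists_fibre_ringEquiv R n c F p
  obtain ⟨e2⟩ := exists_fibre_ringEquiv (R ⧸ I) n c
    (fun i => MvPolynomial.map (Ideal.Quotient.mk I) (F i)) (p.map (Ideal.Quotient.mk I))
  have hσ : (σe : p.ResidueField →+* (p.map (Ideal.Quotient.mk I)).ResidueField).comp
      (algebraMap R p.ResidueField) =
      (algebraMap (R ⧸ I) (p.map (Ideal.Quotient.mk I)).ResidueField).comp
        (Ideal.Quotient.mk I) := by
    ext r
    exact Ideal.ResidueField.map_algebraMap p (p.map (Ideal.Quotient.mk I))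
      (Ideal.Quotient.mk I) hcomap r
  have hmap : Ideal.span (Set.range fun i => MvPolynomial.map (σ := Fin n)
        (algebraMap (R ⧸ I) (p.map (Ideal.Quotient.mk I)).ResidueField)
        (MvPolynomial.map (Ideal.Quotient.mk I) (F i))) =
      (Ideal.span (Set.range fun i => MvPolynomial.map (σ := Fin n)
        (algebraMap R p.ResidueField) (F i))).map
        ((MvPolynomial.mapEquiv (Fin n) σe : MvPolynomial (Fin n) p.ResidueField ≃+*
          MvPolynomial (Fin n) (p.map (Ideal.Quotient.mk I)).ResidueField) :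
          MvPolynomial (Fin n) p.ResidueField →+*
            MvPolynomial (Fin n) (p.map (Ideal.Quotient.mk I)).ResidueField) := by
    rw [Ideal.map_span, ← Set.range_comp]
    congr 2
    funext i
    simp only [Function.comp_apply, RingEquiv.coe_toRingHom, MvPolynomial.mapEquiv_apply,
      MvPolynomial.map_map]
    rw [hσ]
  exact ⟨e1.trans ((Ideal.quotientEquiv _ _ (MvPolynomial.mapEquiv (Fin n) σe) hmap).trans
    e2.symm)⟩

end Groth.Agent.Lib.Seat62.RelGCIQuot
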