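import Groth.Prelude.Def_Flat
import Mathlib

/-!
# Residue degrees of finite morphisms (helper62)

* `universallyInjective_of_isUnivHomeo`: a universal homeomorphism is universally injective.
* `finrank_residueField_le`: for an affine morphism `p` and an affine open `U` of the target such
  that `Γ(p⁻¹U)` is generated as a `Γ(U)`-module by a finset `s`, every residue field extension at
  a point over `U` is finite of degree at most `s.card`.
* `exists_bound_finrank_residueField`: uniform bound for a finite morphism to a quasi-compact scheme.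
-/

set_option autoImplicit false
universe u
open AlgebraicGeometry CategoryTheory

namespace Groth.Agent.Lib.Seat62.ResDeg

/-- IsUnivHomeo implies universally injective. -/
theorem universallyInjective_of_isUnivHomeo {X Y : Scheme.{u}} (f : X ⟶ Y)
    (hf : FlatMor.IsUnivHomeo f) : UniversallyInjective f := by
  rw [universallyInjective_eq]
  refine MorphismProperty.universally_mono ?_ _ hf
  intro X Y f h
  exact h.injective

/-- Field-theoretic core: if `L/k` is a field extension, `B → L` a ring hom whose image generates
`L` as a field of fractions, and the image of `B` lies in the `k`-span of the images of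
finitely many elements, then `L/k` is finite and `finrank k L ≤ card`. -/
theorem finrank_le_card_of_span {k L B : Type*} [Field k] [Field L] [Algebra k L] [CommRing B]
    (ev : B →+* L) (hfrac : ∀ z : L, ∃ b s : B, ev s ≠ 0 ∧ z = ev b / ev s)
    (s : Finset B) (hs : ∀ b : B, ev b ∈ Submodule.span k (ev '' (s : Set B))) :
    Module.Finite k L ∧ Module.finrank k L ≤ s.card := by
  classical
  set W : Submodule k L := Submodule.span k (ev '' (s : Set B)) with hW
  have hrange : Submodule.span k (Set.range ev) = W := by
    apply le_antisymm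
    · rw [Submodule.span_le]; rintro _ ⟨b, rfl⟩; exact hs b
    · apply Submodule.span_mono; rintro _ ⟨b, _, rfl⟩; exact ⟨b, rfl⟩
  have hone : (1 : L) ∈ W := by
    rw [← hrange]; exact Submodule.subset_span ⟨1, map_one ev⟩
  have hmul : ∀ x y : L, x ∈ W → y ∈ W → x * y ∈ W := by
    intro x y hx hy
    rw [← hrange] at hx hy ⊢
    have : x * y ∈ Submodule.span k (Set.range ev) * Submodule.span k (Set.range ev) :=
      Submodule.mul_mem_mul hx hy
    rw [Submodule.span_mul_span] at this
    refine Submodule.span_mono ?_ this
    rintro _ ⟨_, ⟨a, rfl⟩, _, ⟨b, rfl⟩, rfl⟩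
    exact ⟨a * b, map_mul ev a b⟩
  let W' : Subalgebra k L := W.toSubalgebra hone hmul
  have hWfg : W.FG := Submodule.fg_span ((s.finite_toSet).image ev)
  have hfg : W'.toSubmodule.FG := by
    have : W'.toSubmodule = W := Submodule.toSubalgebra_toSubmodule W hone hmul
    rw [this]
    exact hWfg
  have htop : W' = ⊤ := by
    rw [eq_top_iff]
    rintro z -
    obtain ⟨b, t, ht, rfl⟩ := hfrac z
    have hb : ev b ∈ W' := hs b
    have ht' : ev t ∈ W' := hs t
    have halg : IsAlgebraic k (ev t) := (IsIntegral.of_mem_of_fg W' hfg _ ht').isAlgebraic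
    have hinv : (ev t)⁻¹ ∈ W' := W'.inv_mem_of_algebraic (x := ⟨ev t, ht'⟩) halg
    rw [div_eq_mul_inv]
    exact W'.mul_mem hb hinv
  have hWtop : W = ⊤ := by
    have h2 : W'.toSubmodule = W := Submodule.toSubalgebra_toSubmodule W hone hmul
    rw [← h2, htop]; rfl
  have h1 : Module.finrank k L = Module.finrank k W := by
    rw [hWtop, finrank_top]
  refine ⟨?_, ?_⟩
  · rw [Module.finite_def, ← hWtop]; exact hWfg
  rw [h1]
  calc Module.finrank k W ≤ (s.image ev).card := by
        have := finrank_span_finset_le_card (R := k) (s.image ev)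
        rw [Set.finrank, Finset.coe_image] at this
        exact this
    _ ≤ s.card := Finset.card_image_le

/-- Every element of the residue field at a point of an affine open is a fraction of evaluations. -/
theorem exists_evaluation_div {X : Scheme.{u}} {V : X.Opens} (hV : IsAffineOpen V) (x : X)
    (hx : x ∈ V) (z : X.residueField x) :
    ∃ b s : Γ(X, V), (X.evaluation V x hx).hom s ≠ 0 ∧
      z = (X.evaluation V x hx).hom b / (X.evaluation V x hx).hom s := by
  obtain ⟨w, rfl⟩ := X.residue_surjective x z
  let _ := X.presheaf.algebra_section_stalk ⟨x, hx⟩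
  have := hV.isLocalization_stalk ⟨x, hx⟩
  obtain ⟨b, ⟨s, hs⟩, rfl⟩ :=
    IsLocalization.exists_mk'_eq (hV.primeIdealOf ⟨x, hx⟩).asIdeal.primeCompl w
  have hunit : IsUnit (X.presheaf.germ V x hx s) :=
    IsLocalization.map_units (X.presheaf.stalk x)
      (⟨s, hs⟩ : (hV.primeIdealOf ⟨x, hx⟩).asIdeal.primeCompl)
  have hne : (X.evaluation V x hx).hom s ≠ 0 := by
    have := hunit.map (X.residue x).hom
    exact this.ne_zero
  refine ⟨b, s, hne, ?_⟩
  rw [eq_div_iff hne]
  have hspec := IsLocalization.mk'_spec (X.presheaf.stalk x) b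
    (⟨s, hs⟩ : (hV.primeIdealOf ⟨x, hx⟩).asIdeal.primeCompl)
  have := congrArg (X.residue x).hom hspec
  rw [map_mul] at this
  exact this

/-- Residue field degree bound over an affine open where the morphism is module-finite with
`s.card` generators. -/
theorem finrank_residueField_le {T' T : Scheme.{u}} (p : T' ⟶ T) [IsAffineHom p]
    (U : T.Opens) (hU : IsAffineOpen U)
    (s : Finset Γ(T', p ⁻¹ᵁ U))
    (hs : letI := (p.app U).hom.toAlgebra
      Submodule.span Γ(T, U) (s : Set Γ(T', p ⁻¹ᵁ U)) = ⊤)
    (x : T') (hx : p x ∈ U) :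
    @Module.Finite (T.residueField (p x)) (T'.residueField x) _ _
          (p.residueFieldMap x).hom.toAlgebra.toModule ∧
    @Module.finrank (T.residueField (p x)) (T'.residueField x) _ _
          (p.residueFieldMap x).hom.toAlgebra.toModule ≤ s.card := by
  letI : Algebra (T.residueField (p x)) (T'.residueField x) := (p.residueFieldMap x).hom.toAlgebra
  letI : Algebra Γ(T, U) Γ(T', p ⁻¹ᵁ U) := (p.app U).hom.toAlgebra
  have hx' : x ∈ p ⁻¹ᵁ U := hx
  refine finrank_le_card_of_span (k := T.residueField (p x)) (L := T'.residueField x)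
    (T'.evaluation (p ⁻¹ᵁ U) x hx').hom
    (exists_evaluation_div (hU.preimage p) x hx') s ?_
  intro b
  have hb : b ∈ Submodule.span Γ(T, U) (s : Set Γ(T', p ⁻¹ᵁ U)) := by rw [hs]; trivial
  induction hb using Submodule.span_induction with
  | mem y hy => exact Submodule.subset_span ⟨y, hy, rfl⟩
  | zero => simp
  | add y z _ _ hy hz => rw [map_add]; exact Submodule.add_mem _ hy hz
  | smul a y _ hy =>
    have h1 : a • y = (p.app U).hom a * y := rfl
    rw [h1, map_mul]
    have h2 : (T'.evaluation (p ⁻¹ᵁ U) x hx').hom ((p.app U).hom a) =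
        algebraMap (T.residueField (p x)) (T'.residueField x) ((T.evaluation U (p x) hx).hom a) :=
      (Scheme.evaluation_naturality_apply p x hx a).symm
    rw [h2, ← Algebra.smul_def]
    exact Submodule.smul_mem _ _ hy

/-- Uniform bound on residue field degrees of a finite morphism to a quasi-compact scheme. -/
theorem exists_bound_finrank_residueField {T' T : Scheme.{u}} (p : T' ⟶ T) [IsFinite p]
    [CompactSpace T] :
    ∃ N : ℕ, ∀ x : T',
      @Module.Finite (T.residueField (p x)) (T'.residueField x) _ _
          (p.residueFieldMap x).hom.toAlgebra.toModule ∧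
      @Module.finrank (T.residueField (p x)) (T'.residueField x) _ _
          (p.residueFieldMap x).hom.toAlgebra.toModule ≤ N := by
  classical
  -- for every point choose an affine open neighbourhood and a generating finset
  have key : ∀ y : T, ∃ (U : T.Opens) (n : ℕ), y ∈ U ∧ ∀ x : T', p x ∈ U →
      @Module.Finite (T.residueField (p x)) (T'.residueField x) _ _
          (p.residueFieldMap x).hom.toAlgebra.toModule ∧
      @Module.finrank (T.residueField (p x)) (T'.residueField x) _ _
          (p.residueFieldMap x).hom.toAlgebra.toModule ≤ n := by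
    intro y
    obtain ⟨_, ⟨U, hU : IsAffineOpen U, rfl⟩, hyU, -⟩ :=
      T.isBasis_affineOpens.exists_subset_of_mem_open (Set.mem_univ y) isOpen_univ
    have hfin : (p.app U).hom.Finite := IsFinite.finite_app p U hU
    letI := (p.app U).hom.toAlgebra
    obtain ⟨s, hs⟩ := (hfin : Module.Finite Γ(T, U) Γ(T', p ⁻¹ᵁ U)).fg_top
    exact ⟨U, s.card, hyU, fun x hx => finrank_residueField_le p U hU s hs x hx⟩
  choose U n hyU hU using key
  obtain ⟨F, hF⟩ := isCompact_univ.elim_finite_subcover (fun y => (U y : Set T))
    (fun y => (U y).isOpen) (fun y _ => Set.mem_iUnion.mpr ⟨y, hyU y⟩)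
  refine ⟨F.sup n, fun x => ?_⟩
  obtain ⟨y, hyF, hxy⟩ : ∃ y ∈ F, p x ∈ U y := by
    have := hF (Set.mem_univ (p x))
    simpa using this
  exact ⟨(hU y x hxy).1, (hU y x hxy).2.trans (Finset.le_sup hyF)⟩

end Groth.Agent.Lib.Seat62.ResDeg
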