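import Mathlib

/-!
# Flat local extensions with prescribed residue field, part A (helper62)

Generic flatness lemmas (equational criterion) and a polynomial lemma.
-/

set_option autoImplicit false

universe u v

namespace Groth.Agent.Lib.Seat62.ResExt

open Polynomial

section Flat

variable {A : Type u} {P : Type v} [CommRing A] [CommRing P] [Algebra A P]

theorem mk_sum_smul (J : Ideal P) {l : ℕ} (f : Fin l → A) (xt : Fin l → P) :
    Ideal.Quotient.mk J (∑ i, f i • xt i) = ∑ i, f i • Ideal.Quotient.mk J (xt i) := by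
  have : ∀ p, Ideal.Quotient.mk J p = Ideal.Quotient.mkₐ A J p := fun _ => rfl
  simp_rw [this, map_sum, map_smul]

/-- The quotient by a directed union of ideals with flat quotients is flat. -/
theorem flat_quotient_sSup (c : Set (Ideal P)) (hne : c.Nonempty) (hdir : DirectedOn (· ≤ ·) c)
    (hflat : ∀ J ∈ c, Module.Flat A (P ⧸ J)) : Module.Flat A (P ⧸ sSup c) := by
  apply Module.Flat.of_forall_isTrivialRelation
  intro l f x hx
  have hsurj : ∀ i, ∃ p : P, Ideal.Quotient.mk (sSup c) p = x i :=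
    fun i => Ideal.Quotient.mk_surjective (x i)
  choose xt hxt using hsurj
  have hmem : ∑ i, f i • xt i ∈ sSup c := by
    rw [← Ideal.Quotient.eq_zero_iff_mem, mk_sum_smul, ← hx]
    simp_rw [hxt]
  obtain ⟨J, hJc, hJ⟩ := (Submodule.mem_sSup_of_directed hne hdir).mp hmem
  have hJflat : Module.Flat A (P ⧸ J) := hflat J hJc
  have hrel : ∑ i, f i • (Ideal.Quotient.mk J (xt i)) = 0 := by
    rw [← mk_sum_smul]
    exact Ideal.Quotient.eq_zero_iff_mem.mpr hJ
  obtain ⟨k, a, y, hy1, hy2⟩ := (Module.Flat.iff_forall_isTrivialRelation (R := A)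
    (M := P ⧸ J)).mp hJflat (l := l) (f := f) (x := fun i => Ideal.Quotient.mk J (xt i)) hrel
  let π : P ⧸ J →ₐ[A] P ⧸ sSup c := Ideal.Quotient.factorₐ A (le_sSup hJc)
  refine ⟨k, a, fun j => π (y j), fun i => ?_, hy2⟩
  have h1 : π (Ideal.Quotient.mk J (xt i)) = x i := by
    rw [← hxt i]; rfl
  have hy1' := hy1 i
  simp only at hy1'
  rw [← h1, hy1', map_sum]
  simp_rw [map_smul]

/-- If `P ⧸ J` is flat over `A` and `F` is a non-zero-divisor modulo `J + 𝔞 P` for every ideal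
`𝔞` of `A`, then `P ⧸ (J + (F))` is flat over `A`. -/
theorem flat_quotient_sup_span (J : Ideal P) (F : P) [Module.Flat A (P ⧸ J)]
    (hF : ∀ 𝔞 : Ideal A, ∀ q : P, F * q ∈ J ⊔ 𝔞.map (algebraMap A P) →
      q ∈ J ⊔ 𝔞.map (algebraMap A P)) :
    Module.Flat A (P ⧸ (J ⊔ Ideal.span {F})) := by
  apply Module.Flat.of_forall_isTrivialRelation
  intro l f x hx
  have hsurj : ∀ i, ∃ p : P, Ideal.Quotient.mk (J ⊔ Ideal.span {F}) p = x i :=
    fun i => Ideal.Quotient.mk_surjective (x i)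
  choose xt hxt using hsurj
  have hmem : ∑ i, f i • xt i ∈ J ⊔ Ideal.span {F} := by
    rw [← Ideal.Quotient.eq_zero_iff_mem, mk_sum_smul, ← hx]
    simp_rw [hxt]
  obtain ⟨j, hj, w, hw, hjw⟩ := Submodule.mem_sup.mp hmem
  obtain ⟨y, rfl⟩ := Ideal.mem_span_singleton'.mp hw
  set 𝔞 : Ideal A := Ideal.span (Set.range f) with h𝔞
  have hfi : ∀ i, algebraMap A P (f i) ∈ 𝔞.map (algebraMap A P) := fun i =>
    Ideal.mem_map_of_mem _ (Ideal.subset_span ⟨i, rfl⟩)
  have hFy : F * y ∈ J ⊔ 𝔞.map (algebraMap A P) := by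
    have : F * y = ∑ i, f i • xt i - j := by rw [← hjw, mul_comm]; ring
    rw [this]
    refine Ideal.sub_mem _ (Ideal.sum_mem _ fun i _ => ?_) (Ideal.mem_sup_left hj)
    rw [Algebra.smul_def]
    exact Ideal.mem_sup_right (Ideal.mul_mem_right _ _ (hfi i))
  obtain ⟨j', hj', z, hz, hyz⟩ := Submodule.mem_sup.mp (hF 𝔞 y hFy)
  have hz' : ∃ zc : Fin l → P, ∑ i, zc i * algebraMap A P (f i) = z := by
    rw [h𝔞, Ideal.map_span, ← Set.range_comp] at hz
    exact (Ideal.mem_span_range_iff_exists_fun).mp hz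
  obtain ⟨zc, hzc⟩ := hz'
  have hrel : ∑ i, f i • (Ideal.Quotient.mk J (xt i - F * zc i)) = 0 := by
    rw [← mk_sum_smul]
    apply Ideal.Quotient.eq_zero_iff_mem.mpr
    have : ∑ i, f i • (xt i - F * zc i) = j + F * j' := by
      have e1 : ∑ i, f i • (xt i - F * zc i) = ∑ i, f i • xt i - F * z := by
        rw [← hzc, Finset.mul_sum, ← Finset.sum_sub_distrib]
        refine Finset.sum_congr rfl fun i _ => ?_
        rw [Algebra.smul_def, Algebra.smul_def]; ring
      rw [e1, ← hjw, ← hyz]; ring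
    rw [this]
    exact Ideal.add_mem _ hj (Ideal.mul_mem_left _ _ hj')
  have hJflat : Module.Flat A (P ⧸ J) := inferInstance
  obtain ⟨k, a, yy, hy1, hy2⟩ := (Module.Flat.iff_forall_isTrivialRelation (R := A)
    (M := P ⧸ J)).mp hJflat (l := l) (f := f)
    (x := fun i => Ideal.Quotient.mk J (xt i - F * zc i)) hrel
  let π : P ⧸ J →ₐ[A] P ⧸ (J ⊔ Ideal.span {F}) := Ideal.Quotient.factorₐ A le_sup_left
  refine ⟨k, a, fun j => π (yy j), fun i => ?_, hy2⟩
  have h1 : π (Ideal.Quotient.mk J (xt i - F * zc i)) = x i := by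
    rw [← hxt i]
    change Ideal.Quotient.mk (J ⊔ Ideal.span {F}) (xt i - F * zc i) = _
    rw [map_sub, sub_eq_self]
    exact Ideal.Quotient.eq_zero_iff_mem.mpr
      (Ideal.mem_sup_right (Ideal.mul_mem_right _ _ (Ideal.subset_span rfl)))
  have hy1' := hy1 i
  simp only at hy1'
  rw [← h1, hy1', map_sum]
  simp_rw [map_smul]

end Flat

section Poly

variable {C₀ : Type u} [CommRing C₀]

/-- A monic polynomial is a non-zero-divisor modulo `I₀[X]`. -/
theorem mem_map_C_of_monic_mul (I₀ : Ideal C₀) (f q : C₀[X]) (hf : f.Monic)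
    (h : f * q ∈ I₀.map (C : C₀ →+* C₀[X])) : q ∈ I₀.map (C : C₀ →+* C₀[X]) := by
  have hker : RingHom.ker (Polynomial.mapRingHom (Ideal.Quotient.mk I₀)) =
      I₀.map (C : C₀ →+* C₀[X]) := by
    rw [Polynomial.ker_mapRingHom, Ideal.mk_ker]
  rw [← hker, RingHom.mem_ker] at h ⊢
  rw [map_mul] at h
  have hm : (Polynomial.mapRingHom (Ideal.Quotient.mk I₀) f).Monic := hf.map _
  exact (hm.mul_right_eq_zero_iff).mp h

end Poly

end Groth.Agent.Lib.Seat62.ResExt
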