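import Groth.Agent.Lib.Seat62ResExtA

/-!
# Flat local extensions with prescribed residue field, part B (helper62)

`MvPolynomial` plumbing: splitting off one variable; monic-in-one-variable elements are
non-zero-divisors modulo ideals generated by polynomials not involving that variable.
-/

set_option autoImplicit false

universe u v

namespace Groth.Agent.Lib.Seat62.ResExt

open MvPolynomial

variable {A : Type u} [CommRing A] {K : Type v}

open Classical in
/-- Split off the variable `b`. -/
noncomputable def eIso (A : Type u) [CommRing A] {K : Type v} (b : K) :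
    MvPolynomial K A ≃ₐ[A] Polynomial (MvPolynomial {c // c ≠ b} A) :=
  (MvPolynomial.renameEquiv A (Equiv.optionSubtypeNe b).symm).trans
    (MvPolynomial.optionEquivLeft A {c // c ≠ b})

theorem eIso_X_self (b : K) : eIso A b (X b) = Polynomial.X := by
  classical
  simp [eIso, Equiv.optionSubtypeNe_symm_self]

theorem eIso_X_ne (b c : K) (hc : c ≠ b) : eIso A b (X c) = Polynomial.C (X ⟨c, hc⟩) := by
  classical
  simp [eIso, Equiv.optionSubtypeNe_symm_of_ne hc]

theorem eIso_C (b : K) (a : A) : eIso A b (C a) = Polynomial.C (C a) := by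
  classical
  simp [eIso]

/-- Polynomials not involving `x_b` become constants. -/
theorem eIso_of_mem_supported (b : K) (S : Set K) (hb : b ∉ S) (g : MvPolynomial K A)
    (hg : g ∈ supported A S) : ∃ g₀, eIso A b g = Polynomial.C g₀ := by
  rw [supported_eq_adjoin_X] at hg
  induction hg using Algebra.adjoin_induction with
  | mem x hx =>
    obtain ⟨c, hc, rfl⟩ := hx
    have hcb : c ≠ b := fun h => hb (h ▸ hc)
    exact ⟨_, eIso_X_ne b c hcb⟩
  | algebraMap r => exact ⟨_, eIso_C b r⟩
  | add x y _ _ hx hy =>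
    obtain ⟨x₀, hx₀⟩ := hx
    obtain ⟨y₀, hy₀⟩ := hy
    exact ⟨x₀ + y₀, by rw [map_add, hx₀, hy₀, map_add]⟩
  | mul x y _ _ hx hy =>
    obtain ⟨x₀, hx₀⟩ := hx
    obtain ⟨y₀, hy₀⟩ := hy
    exact ⟨x₀ * y₀, by rw [map_mul, hx₀, hy₀, map_mul]⟩

/-- Elements which are monic in `x_b` are non-zero-divisors modulo ideals generated by
polynomials not involving `x_b`. -/
theorem nzd_of_monic (b : K) (G : Set (MvPolynomial K A))
    (hG : ∀ g ∈ G, ∃ g₀, eIso A b g = Polynomial.C g₀)
    (F q : MvPolynomial K A) (hF : (eIso A b F).Monic) (h : F * q ∈ Ideal.span G) :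
    q ∈ Ideal.span G := by
  set e := eIso A b with he
  let I₀ : Ideal (MvPolynomial {c // c ≠ b} A) :=
    Ideal.span {g₀ | ∃ g ∈ G, e g = Polynomial.C g₀}
  have h1 : ∀ p ∈ Ideal.span G, e p ∈ I₀.map (Polynomial.C : _ →+* Polynomial _) := by
    intro p hp
    induction hp using Submodule.span_induction with
    | mem x hx =>
      obtain ⟨g₀, hg₀⟩ := hG x hx
      rw [hg₀]
      exact Ideal.mem_map_of_mem _ (Ideal.subset_span ⟨x, hx, hg₀⟩)
    | zero => rw [map_zero]; exact Ideal.zero_mem _
    | add x y _ _ hx hy => rw [map_add]; exact Ideal.add_mem _ hx hy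
    | smul a x _ hx => rw [smul_eq_mul, map_mul]; exact Ideal.mul_mem_left _ _ hx
  have h2 : ∀ p, p ∈ I₀.map (Polynomial.C : _ →+* Polynomial _) → e.symm p ∈ Ideal.span G := by
    intro p hp
    rw [Ideal.map_span] at hp
    induction hp using Submodule.span_induction with
    | mem x hx =>
      obtain ⟨g₀, ⟨g, hg, hgg⟩, rfl⟩ := hx
      rw [← hgg, AlgEquiv.symm_apply_apply]
      exact Ideal.subset_span hg
    | zero => rw [map_zero]; exact Ideal.zero_mem _
    | add x y _ _ hx hy => rw [map_add]; exact Ideal.add_mem _ hx hy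
    | smul a x _ hx => rw [smul_eq_mul, map_mul]; exact Ideal.mul_mem_left _ _ hx
  have h3 := h1 _ h
  rw [map_mul] at h3
  have h4 := mem_map_C_of_monic_mul I₀ _ _ hF h3
  have h5 := h2 _ h4
  rwa [AlgEquiv.symm_apply_apply] at h5

end Groth.Agent.Lib.Seat62.ResExt
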