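import Groth.Agent.Lib.Seat62ResExtB

/-!
# Flat local extensions with prescribed residue field, part C (helper62)

Stages and the successor step for algebraic residue field extensions.
-/

set_option autoImplicit false
set_option linter.unusedSectionVars false

universe u

namespace Groth.Agent.Lib.Seat62.ResExt

open MvPolynomial IsLocalRing

variable (A : Type u) [CommRing A] [IsLocalRing A] (K : Type u) [Field K]
  [Algebra (ResidueField A) K]

/-- The map `A → κ → K`. -/
noncomputable def psi : A →+* K := (algebraMap (ResidueField A) K).comp (residue A)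

/-- The evaluation `A[x_a : a ∈ K] → K`. -/
noncomputable def phi : MvPolynomial K A →+* K := MvPolynomial.eval₂Hom (psi A K) id

variable {A K}

theorem psi_eq_zero_iff (a : A) : psi A K a = 0 ↔ a ∈ maximalIdeal A := by
  rw [psi, RingHom.comp_apply, map_eq_zero_iff _ (algebraMap (ResidueField A) K).injective,
    residue_eq_zero_iff]

@[simp] theorem phi_C (a : A) : phi A K (C a) = psi A K a := by
  simp [phi]

@[simp] theorem phi_X (b : K) : phi A K (X b) = b := by
  simp [phi]

theorem map_C_le_ker : (maximalIdeal A).map (C : A →+* MvPolynomial K A) ≤ RingHom.ker (phi A K) := by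
  rw [Ideal.map_le_iff_le_comap]
  intro a ha
  rw [Ideal.mem_comap, RingHom.mem_ker, phi_C, psi_eq_zero_iff]
  exact ha

variable (A K) in
/-- A stage of the construction. -/
structure IsStage (S : Set K) (J : Ideal (MvPolynomial K A)) : Prop where
  gen : J = Ideal.span ((J : Set (MvPolynomial K A)) ∩ (supported A S : Set (MvPolynomial K A)))
  flat : Module.Flat A (MvPolynomial K A ⧸ J)
  ker : ∀ h ∈ supported A S, phi A K h = 0 →
    h ∈ J ⊔ (maximalIdeal A).map (C : A →+* MvPolynomial K A)
  le : J ≤ RingHom.ker (phi A K)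

/-- `φ` maps polynomials in the variables `S` into `κ(S)`. -/
theorem phi_mem_adjoin (S : Set K) (h : MvPolynomial K A) (hh : h ∈ supported A S) :
    phi A K h ∈ IntermediateField.adjoin (ResidueField A) S := by
  rw [supported_eq_adjoin_X] at hh
  induction hh using Algebra.adjoin_induction with
  | mem x hx =>
    obtain ⟨c, hc, rfl⟩ := hx
    rw [phi_X]
    exact IntermediateField.subset_adjoin _ _ hc
  | algebraMap r =>
    rw [MvPolynomial.algebraMap_eq, phi_C]
    exact IntermediateField.algebraMap_mem _ _
  | add x y _ _ hx hy => rw [map_add]; exact add_mem hx hy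
  | mul x y _ _ hx hy => rw [map_mul]; exact mul_mem hx hy

/-- Every element of `κ(S)` is a value of `φ` on polynomials in the variables `S`
(algebraic case). -/
theorem exists_phi_eq [Algebra.IsAlgebraic (ResidueField A) K] (S : Set K) (y : K)
    (hy : y ∈ IntermediateField.adjoin (ResidueField A) S) :
    ∃ h ∈ supported A S, phi A K h = y := by
  have hy' : y ∈ (IntermediateField.adjoin (ResidueField A) S).toSubalgebra := hy
  rw [IntermediateField.adjoin_toSubalgebra_of_isAlgebraic
    (fun x _ => Algebra.IsAlgebraic.isAlgebraic x)] at hy'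
  clear hy
  induction hy' using Algebra.adjoin_induction with
  | mem x hx => exact ⟨X x, (X_mem_supported (R := A)).mpr hx, phi_X x⟩
  | algebraMap r =>
    obtain ⟨a, rfl⟩ := residue_surjective r
    exact ⟨C a, (supported A S).algebraMap_mem a, by rw [phi_C]; rfl⟩
  | add x y _ _ hx hy =>
    obtain ⟨hx₀, hx₁, hx₂⟩ := hx
    obtain ⟨hy₀, hy₁, hy₂⟩ := hy
    exact ⟨hx₀ + hy₀, add_mem hx₁ hy₁, by rw [map_add, hx₂, hy₂]⟩
  | mul x y _ _ hx hy =>
    obtain ⟨hx₀, hx₁, hx₂⟩ := hx
    obtain ⟨hy₀, hy₁, hy₂⟩ := hy
    exact ⟨hx₀ * hy₀, mul_mem hx₁ hy₁, by rw [map_mul, hx₂, hy₂]⟩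


section Succ

variable (S : Set K) (b : K)

/-- `θ : (A[x_S])[X] → A[x_K]`, `X ↦ x_b`. -/
noncomputable def theta : Polynomial (supported A S) →+* MvPolynomial K A :=
  Polynomial.eval₂RingHom (supported A S).val.toRingHom (X b)

@[simp] theorem theta_C (s : supported A S) : theta S b (Polynomial.C s) = s.val := by
  simp [theta]

@[simp] theorem theta_X : theta (A := A) S b Polynomial.X = X b := by
  simp [theta]

theorem theta_mem_supported (g : Polynomial (supported A S)) :
    theta S b g ∈ supported A (insert b S) := by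
  induction g using Polynomial.induction_on with
  | C a =>
    rw [theta_C]
    exact supported_mono (Set.subset_insert _ _) a.2
  | add p q hp hq => rw [map_add]; exact add_mem hp hq
  | monomial n a h =>
    rw [pow_succ, ← mul_assoc, map_mul, theta_X]
    exact mul_mem h ((X_mem_supported (R := A)).mpr (Set.mem_insert _ _))

theorem exists_theta_eq (h : MvPolynomial K A) (hh : h ∈ supported A (insert b S)) :
    ∃ g, theta S b g = h := by
  rw [supported_eq_adjoin_X] at hh
  induction hh using Algebra.adjoin_induction with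
  | mem x hx =>
    obtain ⟨c, hc, rfl⟩ := hx
    rcases hc with rfl | hc
    · exact ⟨Polynomial.X, theta_X S c⟩
    · exact ⟨Polynomial.C ⟨X c, (X_mem_supported (R := A)).mpr hc⟩, theta_C S b _⟩
  | algebraMap r =>
    exact ⟨Polynomial.C ⟨algebraMap A _ r, (supported A S).algebraMap_mem r⟩, theta_C S b _⟩
  | add x y _ _ hx hy =>
    obtain ⟨x₀, rfl⟩ := hx
    obtain ⟨y₀, rfl⟩ := hy
    exact ⟨x₀ + y₀, map_add _ _ _⟩
  | mul x y _ _ hx hy =>
    obtain ⟨x₀, rfl⟩ := hx
    obtain ⟨y₀, rfl⟩ := hy
    exact ⟨x₀ * y₀, map_mul _ _ _⟩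

/-- `φ` restricted to polynomials in the variables `S`, with values in `κ(S)`. -/
noncomputable def phiS : supported A S →+* IntermediateField.adjoin (ResidueField A) S :=
  ((phi A K).comp (supported A S).val.toRingHom).codRestrict _
    (fun s => phi_mem_adjoin S s.1 s.2)

theorem phiS_val (s : supported A S) : ((phiS S s : IntermediateField.adjoin (ResidueField A) S) : K)
    = phi A K s.val := rfl

theorem phi_theta (g : Polynomial (supported A S)) :
    phi A K (theta S b g) = Polynomial.aeval b (g.map (phiS S)) := by
  have : (phi A K).comp (theta S b) =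
      (Polynomial.aeval (R := IntermediateField.adjoin (ResidueField A) S) b).toRingHom.comp
        (Polynomial.mapRingHom (phiS S)) := by
    apply Polynomial.ringHom_ext
    · intro s
      simp only [RingHom.comp_apply, theta_C, Polynomial.coe_mapRingHom, Polynomial.map_C]
      change _ = Polynomial.aeval b (Polynomial.C (phiS S s))
      rw [Polynomial.aeval_C]
      rfl
    · simp only [RingHom.comp_apply, theta_X, phi_X, Polynomial.coe_mapRingHom, Polynomial.map_X]
      change _ = Polynomial.aeval b Polynomial.X
      rw [Polynomial.aeval_X]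
  exact RingHom.congr_fun this g

/-- Constant coefficient of `eIso` on polynomials in the variables `S`. -/
noncomputable def sigma : supported A S →+* MvPolynomial {c // c ≠ b} A :=
  Polynomial.constantCoeff.comp
    ((eIso A b).toAlgHom.toRingHom.comp (supported A S).val.toRingHom)

theorem eIso_val (hb : b ∉ S) (s : supported A S) :
    eIso A b s.val = Polynomial.C (sigma S b s) := by
  obtain ⟨g₀, hg₀⟩ := eIso_of_mem_supported b S hb s.1 s.2
  have : sigma S b s = g₀ := by
    change Polynomial.constantCoeff (eIso A b s.val) = g₀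
    rw [hg₀]; simp
  rw [this, hg₀]

theorem eIso_theta (hb : b ∉ S) (g : Polynomial (supported A S)) :
    eIso A b (theta S b g) = g.map (sigma S b) := by
  have : (eIso A b).toAlgHom.toRingHom.comp (theta S b) = Polynomial.mapRingHom (sigma S b) := by
    apply Polynomial.ringHom_ext
    · intro s
      simp only [RingHom.comp_apply, theta_C, Polynomial.coe_mapRingHom, Polynomial.map_C]
      exact eIso_val S b hb s
    · simp only [RingHom.comp_apply, theta_X, Polynomial.coe_mapRingHom, Polynomial.map_X]
      exact eIso_X_self b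
  exact RingHom.congr_fun this g


/-- The successor step: adjoin one more (algebraic) element of `K`. -/
theorem IsStage.succ [Algebra.IsAlgebraic (ResidueField A) K] {S : Set K}
    {J : Ideal (MvPolynomial K A)} (hst : IsStage A K S J) (b : K) (hb : b ∉ S) :
    ∃ J', IsStage A K (insert b S) J' ∧ J ≤ J' := by
  have hsurj : Function.Surjective (phiS (A := A) S) := by
    intro y
    obtain ⟨h, hh, hy⟩ := exists_phi_eq S y.1 y.2
    exact ⟨⟨h, hh⟩, Subtype.ext hy⟩
  have hbint : IsIntegral (IntermediateField.adjoin (ResidueField A) S) b :=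
    (Algebra.IsAlgebraic.isAlgebraic b).isIntegral
  set f := minpoly (IntermediateField.adjoin (ResidueField A) S) b with hf
  have hfm : f.Monic := minpoly.monic hbint
  have hlift : f ∈ Polynomial.lifts (phiS (A := A) S) := by
    obtain ⟨q, hq⟩ := Polynomial.map_surjective (phiS (A := A) S) hsurj f
    exact (Polynomial.mem_lifts f).mpr ⟨q, hq⟩
  obtain ⟨F₀, hF₀map, hF₀deg, hF₀monic⟩ := Polynomial.lifts_and_degree_eq_and_monic hlift hfm
  set F := theta S b F₀ with hF
  have hφF : phi A K F = 0 := by
    rw [hF, phi_theta, hF₀map, hf, minpoly.aeval]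
  refine ⟨J ⊔ Ideal.span {F}, ⟨?_, ?_, ?_, ?_⟩, le_sup_left⟩
  · -- gen
    apply le_antisymm
    · rw [sup_le_iff]
      constructor
      · calc J = Ideal.span ((J : Set (MvPolynomial K A)) ∩ (supported A S : Set _)) := hst.gen
          _ ≤ _ := Ideal.span_mono (Set.inter_subset_inter
              (fun x hx => Ideal.mem_sup_left hx) (supported_mono (Set.subset_insert _ _)))
      · rw [Ideal.span_le, Set.singleton_subset_iff]
        exact Ideal.subset_span ⟨Ideal.mem_sup_right (Ideal.subset_span rfl),
          theta_mem_supported S b F₀⟩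
    · rw [Ideal.span_le]
      exact Set.inter_subset_left
  · -- flat
    have := hst.flat
    apply flat_quotient_sup_span
    intro 𝔞 q hq
    rw [MvPolynomial.algebraMap_eq] at hq ⊢
    have hI : J ⊔ 𝔞.map (C : A →+* MvPolynomial K A) =
        Ideal.span (((J : Set (MvPolynomial K A)) ∩ (supported A S : Set _)) ∪
          ((C : A →+* MvPolynomial K A) '' 𝔞)) := by
      rw [Ideal.span_union, ← hst.gen]; rfl
    rw [hI] at hq ⊢
    refine nzd_of_monic b _ ?_ F q ?_ hq
    · rintro g (⟨-, hg⟩ | ⟨a, -, rfl⟩)
      · exact eIso_of_mem_supported b S hb g hg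
      · exact ⟨_, eIso_C b a⟩
    · rw [hF, eIso_theta S b hb]
      exact hF₀monic.map _
  · -- ker
    intro h hh hφ
    obtain ⟨h₀, rfl⟩ := exists_theta_eq S b h hh
    have hdiv := Polynomial.modByMonic_add_div h₀ F₀
    set r₀ := h₀ %ₘ F₀ with hr₀
    set q₀ := h₀ /ₘ F₀ with hq₀
    have hsplit : theta S b h₀ = theta S b r₀ + F * theta S b q₀ := by
      rw [hF, ← map_mul, ← map_add, hdiv]
    have hr : phi A K (theta S b r₀) = 0 := by
      have := hφ
      rw [hsplit, map_add, map_mul, hφF, zero_mul, add_zero] at this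
      exact this
    have hr' : Polynomial.aeval b (r₀.map (phiS S)) = 0 := by
      rw [← phi_theta]; exact hr
    have hdeg : (r₀.map (phiS (A := A) S)).degree < f.degree :=
      calc (r₀.map (phiS (A := A) S)).degree ≤ r₀.degree := Polynomial.degree_map_le
        _ < F₀.degree := Polynomial.degree_modByMonic_lt _ hF₀monic
        _ = f.degree := hF₀deg
    have hzero : r₀.map (phiS (A := A) S) = 0 := by
      by_contra hne
      exact absurd (minpoly.degree_le_of_ne_zero _ b hne hr') (not_le.mpr hdeg)
    have hcoeff : ∀ i, (r₀.coeff i).val ∈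
        J ⊔ (maximalIdeal A).map (C : A →+* MvPolynomial K A) := by
      intro i
      apply hst.ker _ (r₀.coeff i).2
      have h1 := congr_arg (fun p => Polynomial.coeff p i) hzero
      simp only [Polynomial.coeff_map, Polynomial.coeff_zero] at h1
      rw [← phiS_val, h1]; rfl
    have hθr : theta S b r₀ ∈ J ⊔ (maximalIdeal A).map (C : A →+* MvPolynomial K A) := by
      rw [theta, Polynomial.coe_eval₂RingHom, Polynomial.eval₂_eq_sum_range]
      exact Ideal.sum_mem _ fun i _ => Ideal.mul_mem_right _ _ (hcoeff i)
    rw [hsplit]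
    refine Ideal.add_mem _ ?_ ?_
    · exact (sup_le_sup_right (le_sup_left : J ≤ J ⊔ Ideal.span {F}) _ :
        J ⊔ (maximalIdeal A).map (C : A →+* MvPolynomial K A) ≤ _) hθr
    · exact Ideal.mem_sup_left (Ideal.mem_sup_right
        (Ideal.mul_mem_right _ _ (Ideal.subset_span rfl)))
  · -- le
    refine sup_le hst.le ?_
    rw [Ideal.span_le, Set.singleton_subset_iff]
    exact hφF

end Succ

end Groth.Agent.Lib.Seat62.ResExt
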