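import Groth.Agent.Lib.Seat62ResExtC

/-!
# Flat local extensions with prescribed residue field, part D (helper62)

Zorn's lemma over stages, and the algebraic case of the theorem.
-/

set_option autoImplicit false
set_option linter.unusedSectionVars false

universe u

namespace Groth.Agent.Lib.Seat62.ResExt

open MvPolynomial IsLocalRing

variable {A : Type u} [CommRing A] [IsLocalRing A] {K : Type u} [Field K]
  [Algebra (ResidueField A) K]

/-- The initial stage. -/
theorem isStage_empty : IsStage A K ∅ ⊥ := by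
  refine ⟨?_, ?_, ?_, bot_le⟩
  · refine le_antisymm bot_le ?_
    rw [Ideal.span_le]
    exact Set.inter_subset_left
  · exact Module.Flat.of_linearEquiv (AlgEquiv.quotientBot A (MvPolynomial K A)).toLinearEquiv
  · intro h hh hφ
    rw [supported_empty, Algebra.mem_bot] at hh
    obtain ⟨a, rfl⟩ := hh
    rw [MvPolynomial.algebraMap_eq, phi_C, psi_eq_zero_iff] at hφ
    rw [MvPolynomial.algebraMap_eq]
    exact Ideal.mem_sup_right (Ideal.mem_map_of_mem _ hφ)

/-- Upper bounds of nonempty chains of stages. -/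
theorem isStage_sSup (c : Set (Set K × Ideal (MvPolynomial K A))) (hne : c.Nonempty)
    (hc : IsChain (· ≤ ·) c) (hst : ∀ p ∈ c, IsStage A K p.1 p.2) :
    IsStage A K (⋃ p ∈ c, p.1) (sSup (Prod.snd '' c)) := by
  have hchain2 : IsChain (· ≤ ·) (Prod.snd '' c) :=
    IsChain.image_of_map_rel (α := Set K × Ideal (MvPolynomial K A)) (· ≤ ·) (· ≤ ·) Prod.snd
      (fun a b (h : a ≤ b) => h.2) hc
  refine ⟨?_, ?_, ?_, ?_⟩
  · apply le_antisymm
    · apply sSup_le
      rintro J ⟨p, hp, rfl⟩
      calc p.2 = Ideal.span ((p.2 : Set (MvPolynomial K A)) ∩ (supported A p.1 : Set _)) :=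
            (hst p hp).gen
        _ ≤ _ := Ideal.span_mono (Set.inter_subset_inter
            (fun x hx => (le_sSup (Set.mem_image_of_mem _ hp) : p.2 ≤ _) hx)
            (supported_mono (Set.subset_biUnion_of_mem (u := fun p => p.1) hp)))
    · rw [Ideal.span_le]
      exact Set.inter_subset_left
  · apply flat_quotient_sSup _ (hne.image _) hchain2.directedOn
    rintro J ⟨p, hp, rfl⟩
    exact (hst p hp).flat
  · intro h hh hφ
    rw [mem_supported] at hh
    have hdir : DirectedOn (fun i j : Set K × Ideal (MvPolynomial K A) => i.1 ⊆ j.1) c := by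
      intro x hx y hy
      rcases hc.total hx hy with hxy | hyx
      · exact ⟨y, hy, hxy.1, subset_rfl⟩
      · exact ⟨x, hx, subset_rfl, hyx.1⟩
    obtain ⟨p, hp, hsub⟩ := DirectedOn.exists_mem_subset_of_finset_subset_biUnion hne hdir hh
    have := (hst p hp).ker h (mem_supported.mpr hsub) hφ
    exact (sup_le_sup_right (le_sSup (Set.mem_image_of_mem _ hp) : p.2 ≤ _) _) this
  · apply sSup_le
    rintro J ⟨p, hp, rfl⟩
    exact (hst p hp).le

/-- There is a stage involving all the variables. -/
theorem exists_isStage_univ [Algebra.IsAlgebraic (ResidueField A) K] :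
    ∃ J, IsStage A K Set.univ J := by
  obtain ⟨m, hm⟩ := zorn_le₀ {p : Set K × Ideal (MvPolynomial K A) | IsStage A K p.1 p.2} (by
    intro c hcs hc
    rcases c.eq_empty_or_nonempty with rfl | hne
    · exact ⟨(∅, ⊥), isStage_empty, by simp⟩
    · refine ⟨(⋃ p ∈ c, p.1, sSup (Prod.snd '' c)), isStage_sSup c hne hc (fun p hp => hcs hp), ?_⟩
      intro z hz
      exact ⟨Set.subset_biUnion_of_mem (u := fun p => p.1) hz,
        le_sSup (Set.mem_image_of_mem _ hz)⟩)
  have hm1 : IsStage A K m.1 m.2 := hm.1
  suffices h : m.1 = Set.univ by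
    rw [h] at hm1
    exact ⟨m.2, hm1⟩
  by_contra hne
  obtain ⟨b, hb⟩ := (Set.ne_univ_iff_exists_notMem _).mp hne
  obtain ⟨J', hJ', hle⟩ := hm1.succ b hb
  have h2 := hm.2 (y := (insert b m.1, J')) hJ' ⟨Set.subset_insert _ _, hle⟩
  exact hb (h2.1 (Set.mem_insert _ _))


/-- The algebraic case: a flat local extension `A → R'` with `𝔪_A R' = 𝔪_{R'}` and a surjection
`R' → K` extending `A → κ → K`. -/
theorem exists_alg_ext [Algebra.IsAlgebraic (ResidueField A) K] :
    ∃ (R' : Type u) (_ : CommRing R') (_ : IsLocalRing R') (_ : Algebra A R') (ψ' : R' →+* K),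
      IsLocalHom (algebraMap A R') ∧ Module.Flat A R' ∧
      (maximalIdeal A).map (algebraMap A R') = maximalIdeal R' ∧ Function.Surjective ψ' ∧
      ψ'.comp (algebraMap A R') = psi A K := by
  obtain ⟨J, hst⟩ := exists_isStage_univ (A := A) (K := K)
  have hker : RingHom.ker (phi A K) = J ⊔ (maximalIdeal A).map (C : A →+* MvPolynomial K A) := by
    apply le_antisymm
    · intro h hh
      exact hst.ker h (mem_supported.mpr (Set.subset_univ _)) hh
    · exact sup_le hst.le map_C_le_ker
  have hflat : Module.Flat A (MvPolynomial K A ⧸ J) := hst.flat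
  let φb : MvPolynomial K A ⧸ J →+* K := Ideal.Quotient.lift J (phi A K) hst.le
  have hφb_surj : Function.Surjective φb := by
    intro b
    exact ⟨Ideal.Quotient.mk J (X b), (Ideal.Quotient.lift_mk J (phi A K) hst.le).trans (phi_X b)⟩
  have hmax : (RingHom.ker φb).IsMaximal := RingHom.ker_isMaximal_of_surjective φb hφb_surj
  have hM : RingHom.ker φb = (maximalIdeal A).map (algebraMap A (MvPolynomial K A ⧸ J)) := by
    rw [Ideal.ker_quotient_lift, hker, Ideal.map_sup, Ideal.map_quotient_self, bot_sup_eq,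
      Ideal.map_map]
    rfl
  have hprime : (RingHom.ker φb).IsPrime := hmax.isPrime
  let R' := Localization.AtPrime (RingHom.ker φb)
  have hunit : ∀ y : (RingHom.ker φb).primeCompl, IsUnit (φb y) := by
    intro y
    rw [isUnit_iff_ne_zero]
    exact y.2
  let ψ' : R' →+* K := IsLocalization.lift hunit
  have hflat' : Module.Flat A R' := Module.Flat.trans A (MvPolynomial K A ⧸ J) R'
  have hmaxeq : (maximalIdeal A).map (algebraMap A R') = maximalIdeal R' := by
    rw [IsScalarTower.algebraMap_eq A (MvPolynomial K A ⧸ J) R', ← Ideal.map_map, ← hM]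
    exact IsLocalization.AtPrime.map_eq_maximalIdeal (RingHom.ker φb) R'
  refine ⟨R', inferInstance, inferInstance, inferInstance, ψ', ?_, hflat', hmaxeq, ?_, ?_⟩
  · constructor
    intro a ha
    by_contra hna
    have ham : a ∈ maximalIdeal A := hna
    have : algebraMap A R' a ∈ maximalIdeal R' := by
      rw [← hmaxeq]; exact Ideal.mem_map_of_mem _ ham
    exact this ha
  · intro b
    refine ⟨algebraMap _ R' (Ideal.Quotient.mk J (X b)), ?_⟩
    simp only [ψ', IsLocalization.lift_eq]
    exact (Ideal.Quotient.lift_mk J (phi A K) hst.le).trans (phi_X b)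
  · ext a
    rw [RingHom.comp_apply, IsScalarTower.algebraMap_apply A (MvPolynomial K A ⧸ J) R']
    simp only [ψ', IsLocalization.lift_eq]
    change φb (Ideal.Quotient.mk J (C a)) = _
    exact (Ideal.Quotient.lift_mk J (phi A K) hst.le).trans (phi_C a)

end Groth.Agent.Lib.Seat62.ResExt
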