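import Groth.Agent.Lib.Seat62ResExtD

/-!
# Flat local extensions with prescribed residue field, part E (helper62)

The purely transcendental step, and the general theorem.
-/

set_option autoImplicit false
set_option linter.unusedSectionVars false

universe u

namespace Groth.Agent.Lib.Seat62.ResExt

open MvPolynomial IsLocalRing

variable {R : Type u} [CommRing R] [IsLocalRing R] {K : Type u} [Field K]
  [Algebra (ResidueField R) K]

/-- The purely transcendental step: `R₁ = R[x_T]_{𝔪 R[x_T]}` for a transcendence basis `T`. -/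
theorem exists_trans_ext :
    ∃ (R₁ : Type u) (_ : CommRing R₁) (_ : IsLocalRing R₁) (_ : Algebra R R₁) (ψ₁ : R₁ →+* K),
      IsLocalHom (algebraMap R R₁) ∧ Module.Flat R R₁ ∧
      (maximalIdeal R).map (algebraMap R R₁) = maximalIdeal R₁ ∧ IsLocalHom ψ₁ ∧
      ψ₁.comp (algebraMap R R₁) = psi R K ∧
      ∀ b : K, ∃ p : Polynomial R₁, p.map ψ₁ ≠ 0 ∧ Polynomial.eval₂ ψ₁ b p = 0 := by
  obtain ⟨T, hT⟩ := exists_isTranscendenceBasis (ResidueField R) K
  let Q := MvPolynomial T R
  let φT : Q →+* K := MvPolynomial.eval₂Hom (psi R K) (fun t => (t : K))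
  have hfac : φT = (MvPolynomial.aeval (R := ResidueField R) (fun t : T => (t : K))).toRingHom.comp
      (MvPolynomial.map (residue R)) := by
    apply MvPolynomial.ringHom_ext
    · intro r
      simp [φT, psi]
    · intro t
      simp [φT]
  have hkerφ : RingHom.ker φT = (maximalIdeal R).map (C : R →+* Q) := by
    rw [hfac, ← RingHom.comap_ker]
    have h1 : RingHom.ker (MvPolynomial.aeval (R := ResidueField R)
        (fun t : T => (t : K))).toRingHom = ⊥ := by
      rw [← RingHom.injective_iff_ker_eq_bot]
      exact hT.1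
    rw [h1]
    change RingHom.ker _ = _
    rw [MvPolynomial.ker_map, IsLocalRing.ker_residue]
  have hprime : (RingHom.ker φT).IsPrime := RingHom.ker_isPrime φT
  let R₁ := Localization.AtPrime (RingHom.ker φT)
  have hunit : ∀ y : (RingHom.ker φT).primeCompl, IsUnit (φT y) := by
    intro y
    rw [isUnit_iff_ne_zero]
    exact y.2
  let ψ₁ : R₁ →+* K := IsLocalization.lift hunit
  have hflat : Module.Flat R R₁ := Module.Flat.trans R Q R₁
  have hmaxeq : (maximalIdeal R).map (algebraMap R R₁) = maximalIdeal R₁ := by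
    rw [IsScalarTower.algebraMap_eq R Q R₁, ← Ideal.map_map, MvPolynomial.algebraMap_eq, ← hkerφ]
    exact IsLocalization.AtPrime.map_eq_maximalIdeal (RingHom.ker φT) R₁
  have hψ₁max : ∀ x ∈ maximalIdeal R₁, ψ₁ x = 0 := by
    intro x hx
    rw [← IsLocalization.AtPrime.map_eq_maximalIdeal (RingHom.ker φT) R₁] at hx
    have hle : (RingHom.ker φT).map (algebraMap Q R₁) ≤ RingHom.ker ψ₁ := by
      rw [Ideal.map_le_iff_le_comap]
      intro q hq
      rw [Ideal.mem_comap, RingHom.mem_ker]
      simp only [ψ₁, IsLocalization.lift_eq]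
      exact hq
    exact hle hx
  have hcomp : ψ₁.comp (algebraMap R R₁) = psi R K := by
    ext a
    rw [RingHom.comp_apply, IsScalarTower.algebraMap_apply R Q R₁]
    simp only [ψ₁, IsLocalization.lift_eq]
    change (eval₂Hom (psi R K) fun t : T => (t : K)) (C a) = _
    simp
  refine ⟨R₁, inferInstance, inferInstance, inferInstance, ψ₁, ?_, hflat, hmaxeq, ?_, hcomp, ?_⟩
  · constructor
    intro a ha
    by_contra hna
    have ham : a ∈ maximalIdeal R := hna
    have : algebraMap R R₁ a ∈ maximalIdeal R₁ := by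
      rw [← hmaxeq]; exact Ideal.mem_map_of_mem _ ham
    exact this ha
  · constructor
    intro x hx
    by_contra hnx
    have hxm : x ∈ maximalIdeal R₁ := hnx
    rw [hψ₁max x hxm] at hx
    exact not_isUnit_zero hx
  · intro b
    have halg : IsAlgebraic (Algebra.adjoin (ResidueField R) (Set.range fun t : T => (t : K))) b :=
      hT.isAlgebraic.isAlgebraic b
    obtain ⟨p₀, hp₀, hp₀b⟩ := halg
    have hrange : ∀ c ∈ Algebra.adjoin (ResidueField R) (Set.range fun t : T => (t : K)),
        c ∈ Set.range ψ₁ := by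
      intro c hc
      rw [Algebra.adjoin_range_eq_range_aeval] at hc
      obtain ⟨q, rfl⟩ := hc
      obtain ⟨q', rfl⟩ := MvPolynomial.map_surjective (residue R) residue_surjective q
      refine ⟨algebraMap Q R₁ q', ?_⟩
      simp only [ψ₁, IsLocalization.lift_eq]
      rw [hfac]
      rfl
    have hlifts : p₀.map (Subalgebra.val _).toRingHom ∈ Polynomial.lifts ψ₁ := by
      rw [Polynomial.lifts_iff_coeff_lifts]
      intro n
      rw [Polynomial.coeff_map]
      exact hrange _ (p₀.coeff n).2
    obtain ⟨p, hp⟩ := (Polynomial.mem_lifts _).mp hlifts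
    refine ⟨p, ?_, ?_⟩
    · rw [hp]
      exact (Polynomial.map_ne_zero_iff Subtype.val_injective).mpr hp₀
    · rw [← Polynomial.eval_map, hp, Polynomial.eval_map]
      exact hp₀b


/-- **Flat local extensions with prescribed residue field** (EGA 0_III 10.3.1). -/
theorem main :
    ∃ (R' : Type u) (_ : CommRing R') (_ : IsLocalRing R') (_ : Algebra R R')
      (_ : IsLocalHom (algebraMap R R')),
      Module.Flat R R' ∧ (maximalIdeal R).map (algebraMap R R') = maximalIdeal R' ∧
      Nonempty (ResidueField R' ≃ₐ[ResidueField R] K) := by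
  obtain ⟨R₁, _, _, _, ψ₁, hloc₁, hflat₁, hmax₁, hψ₁loc, hcomp₁, halg₁⟩ :=
    exists_trans_ext (R := R) (K := K)
  letI : Algebra (ResidueField R₁) K := (ResidueField.lift ψ₁).toAlgebra
  have hpsi₁ : psi R₁ K = ψ₁ := ResidueField.lift_comp_residue ψ₁
  have hpsi₁' : (algebraMap (ResidueField R₁) K).comp (residue R₁) = ψ₁ := hpsi₁
  haveI : Algebra.IsAlgebraic (ResidueField R₁) K := ⟨fun b => by
    obtain ⟨p, hp, hpb⟩ := halg₁ b
    refine ⟨p.map (residue R₁), ?_, ?_⟩
    · intro h0
      apply hp
      have := congr_arg (Polynomial.map (algebraMap (ResidueField R₁) K)) h0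
      rw [Polynomial.map_map, Polynomial.map_zero, hpsi₁'] at this
      exact this
    · rw [Polynomial.aeval_def, Polynomial.eval₂_map, hpsi₁']
      exact hpb⟩
  obtain ⟨R', _, _, _, ψ', hloc', hflat', hmax', hsurj', hcomp'⟩ :=
    exists_alg_ext (A := R₁) (K := K)
  rw [hpsi₁] at hcomp'
  letI : Algebra R R' := ((algebraMap R₁ R').comp (algebraMap R R₁)).toAlgebra
  haveI : IsScalarTower R R₁ R' := IsScalarTower.of_algebraMap_eq (fun _ => rfl)
  have hlocRR' : IsLocalHom (algebraMap R R') :=
    ⟨fun a ha => hloc₁.map_nonunit a (hloc'.map_nonunit _ ha)⟩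
  have hψ'loc : IsLocalHom ψ' := by
    constructor
    intro x hx
    by_contra hnx
    have hxm : x ∈ maximalIdeal R' := hnx
    have hker : RingHom.ker ψ' = maximalIdeal R' :=
      IsLocalRing.eq_maximalIdeal (RingHom.ker_isMaximal_of_surjective ψ' hsurj')
    rw [← hker, RingHom.mem_ker] at hxm
    rw [hxm] at hx
    exact not_isUnit_zero hx
  have hψ'R : ∀ r : R, ψ' (algebraMap R R' r) = algebraMap (ResidueField R) K (residue R r) := by
    intro r
    have h1 : ψ' (algebraMap R R' r) = ψ₁ (algebraMap R R₁ r) :=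
      RingHom.congr_fun hcomp' (algebraMap R R₁ r)
    rw [h1]
    exact RingHom.congr_fun hcomp₁ r
  refine ⟨R', inferInstance, inferInstance, inferInstance, hlocRR', ?_, ?_, ?_⟩
  · exact Module.Flat.trans R R₁ R'
  · rw [IsScalarTower.algebraMap_eq R R₁ R', ← Ideal.map_map, hmax₁, hmax']
  · let g : ResidueField R' →+* K := ResidueField.lift ψ'
    have hg : ∀ c : ResidueField R, g (algebraMap (ResidueField R) (ResidueField R') c) =
        algebraMap (ResidueField R) K c := by
      intro c
      obtain ⟨r, rfl⟩ := residue_surjective c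
      have : algebraMap (ResidueField R) (ResidueField R') (residue R r) =
          residue R' (algebraMap R R' r) := rfl
      rw [this]
      exact hψ'R r
    let gA : ResidueField R' →ₐ[ResidueField R] K := { g with commutes' := hg }
    have hbij : Function.Bijective gA := by
      refine ⟨g.injective, fun b => ?_⟩
      obtain ⟨x, rfl⟩ := hsurj' b
      exact ⟨residue R' x, rfl⟩
    exact ⟨AlgEquiv.ofBijective gA hbij⟩

end Groth.Agent.Lib.Seat62.ResExt
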