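import Mathlib.RingTheory.Smooth.AdicCompletion
import Mathlib.RingTheory.Smooth.Locus
import Mathlib.RingTheory.AdicCompletion.LocalRing
import Mathlib.RingTheory.AdicCompletion.Noetherian
import Mathlib.RingTheory.DiscreteValuationRing.TFAE
import Mathlib.RingTheory.LocalRing.ResidueField.Ideal
import Mathlib.Tactic

/-!
# Completion of a discrete valuation ring and quasi-sections through smooth points

* `isDomain_and_isDVR_of_principal_maximalIdeal`: a local ring with principal maximal ideal
  `(ϖ)`, `ϖ` not nilpotent, and `⋂ (ϖ ^ n) = 0`, is a discrete valuation ring.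
* `adicCompletion_isDVR`: the adic completion of a DVR is a DVR.
* `exists_dvr_quasiSection`: for `A` of finite type over a DVR `B`, smooth at a prime `p` over the
  closed point with `B → κ(p)` onto, there is `A → B̂` pulling the maximal ideal back to `p`.
-/

set_option autoImplicit false
universe u

namespace Groth.Agent.Lib.Seat94.DVRCompletion

/-- a local ring whose maximal ideal is generated by a non-nilpotent element `ϖ` and which is
`ϖ`-adically separated is a discrete valuation ring. -/
theorem isDomain_and_isDVR_of_principal_maximalIdeal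
    {C : Type*} [CommRing C] [IsLocalRing C] (ϖ : C)
    (hmax : IsLocalRing.maximalIdeal C = Ideal.span {ϖ})
    (hsep : ∀ x : C, (∀ n : ℕ, x ∈ Ideal.span {ϖ ^ n}) → x = 0)
    (hnil : ∀ n : ℕ, ϖ ^ n ≠ 0) :
    ∃ _ : IsDomain C, IsDiscreteValuationRing C := by
  classical
  have hϖmem : ϖ ∈ IsLocalRing.maximalIdeal C := by
    rw [hmax]; exact Ideal.mem_span_singleton_self ϖ
  -- factorisation
  have hfac : ∀ x : C, x ≠ 0 → ∃ (n : ℕ) (u : Cˣ), x = u * ϖ ^ n := by
    intro x hx
    have hex : ∃ n : ℕ, x ∉ Ideal.span {ϖ ^ (n + 1)} := by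
      by_contra h
      simp only [not_exists, not_not] at h
      apply hx
      apply hsep
      intro n
      cases n with
      | zero => simp
      | succ n => exact h n
    let n := Nat.find hex
    have hn : x ∉ Ideal.span {ϖ ^ (n + 1)} := Nat.find_spec hex
    have hn' : x ∈ Ideal.span {ϖ ^ n} := by
      rcases Nat.eq_zero_or_pos n with h0 | hpos
      · rw [h0]; simp
      · have := Nat.find_min hex (m := n - 1) (by omega)
        rw [not_not] at this
        have e : n - 1 + 1 = n := by omega
        rwa [e] at this
    rw [Ideal.mem_span_singleton'] at hn'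
    obtain ⟨y, hy⟩ := hn'
    have hyu : IsUnit y := by
      by_contra hyn
      have : y ∈ IsLocalRing.maximalIdeal C := (IsLocalRing.mem_maximalIdeal y).2 hyn
      rw [hmax, Ideal.mem_span_singleton'] at this
      obtain ⟨z, hz⟩ := this
      apply hn
      rw [Ideal.mem_span_singleton']
      exact ⟨z, by rw [← hy, ← hz, pow_succ]; ring⟩
    obtain ⟨u, hu⟩ := hyu
    exact ⟨n, u, by rw [hu, hy]⟩
  have hnzd : NoZeroDivisors C := by
    constructor
    intro x y hxy
    by_contra h
    simp only [not_or] at h
    obtain ⟨n, u, hx⟩ := hfac x h.1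
    obtain ⟨m, v, hy⟩ := hfac y h.2
    have : (↑(u * v) : C) * ϖ ^ (n + m) = 0 := by
      rw [← hxy, hx, hy, Units.val_mul, pow_add]; ring
    rw [Units.mul_right_eq_zero] at this
    exact hnil _ this
  have hdom : IsDomain C := NoZeroDivisors.to_isDomain C
  refine ⟨hdom, ?_⟩
  apply IsDiscreteValuationRing.ofHasUnitMulPowIrreducibleFactorization
  have hϖ0 : ϖ ≠ 0 := by simpa using hnil 1
  have hprime : Prime ϖ := by
    rw [← Ideal.span_singleton_prime hϖ0, ← hmax]
    infer_instance
  refine ⟨ϖ, hprime.irreducible, ?_⟩
  intro x hx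
  obtain ⟨n, u, hxu⟩ := hfac x hx
  exact ⟨n, u, by rw [hxu, mul_comm]⟩

/-- the completion of a discrete valuation ring is a discrete valuation ring. -/
theorem adicCompletion_isDVR (B : Type*) [CommRing B] [IsDomain B] [IsDiscreteValuationRing B] :
    ∃ _ : IsDomain (AdicCompletion (IsLocalRing.maximalIdeal B) B),
      IsDiscreteValuationRing (AdicCompletion (IsLocalRing.maximalIdeal B) B) := by
  obtain ⟨π, hπ⟩ := IsDiscreteValuationRing.exists_irreducible B
  have hmB : IsLocalRing.maximalIdeal B = Ideal.span {π} := hπ.maximalIdeal_eq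
  have hinj : Function.Injective (algebraMap B (AdicCompletion (IsLocalRing.maximalIdeal B) B)) :=
    AdicCompletion.of_injective (IsLocalRing.maximalIdeal B) B
  set ϖ := algebraMap B (AdicCompletion (IsLocalRing.maximalIdeal B) B) π with hϖ
  have hmax : IsLocalRing.maximalIdeal (AdicCompletion (IsLocalRing.maximalIdeal B) B) =
      Ideal.span {ϖ} := by
    rw [AdicCompletion.maximalIdeal_eq_map]
    have h1 := congrArg
      (Ideal.map (algebraMap B (AdicCompletion (IsLocalRing.maximalIdeal B) B))) hmB
    rw [h1, Ideal.map_span, Set.image_singleton]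
  apply isDomain_and_isDVR_of_principal_maximalIdeal ϖ hmax
  · intro x hx
    apply IsHausdorff.haus (inferInstance : IsHausdorff
      (IsLocalRing.maximalIdeal (AdicCompletion (IsLocalRing.maximalIdeal B) B))
      (AdicCompletion (IsLocalRing.maximalIdeal B) B)) x
    intro n
    rw [SModEq.zero, hmax, Ideal.span_singleton_pow, smul_eq_mul, Ideal.mul_top]
    exact hx n
  · intro n h0
    rw [hϖ, ← map_pow, map_eq_zero_iff _ hinj] at h0
    exact pow_ne_zero n hπ.ne_zero h0

/-- an unramified quasi-section with trivial residue extension through a smooth point of the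
special fibre of a finite type algebra over a discrete valuation ring: the completion of the
base, mapped to by formal smoothness. -/
theorem exists_dvr_quasiSection
    (B : Type u) [CommRing B] [IsDomain B] [IsDiscreteValuationRing B]
    (A : Type u) [CommRing A] [Algebra B A] [Algebra.FiniteType B A]
    (p : Ideal A) [p.IsPrime] (hp : p.comap (algebraMap B A) = IsLocalRing.maximalIdeal B)
    [Algebra.IsSmoothAt B p]
    (hres : Function.Surjective ((algebraMap A p.ResidueField).comp (algebraMap B A))) :
    ∃ (B' : Type u) (_ : CommRing B') (_ : IsDomain B') (_ : IsDiscreteValuationRing B') (ψ : A →+* B'),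
      Ideal.comap ψ (IsLocalRing.maximalIdeal B') = p ∧
      Function.Injective (ψ.comp (algebraMap B A)) ∧
      Ideal.map (ψ.comp (algebraMap B A)) (IsLocalRing.maximalIdeal B) = IsLocalRing.maximalIdeal B' ∧
      Function.Surjective ((IsLocalRing.residue B').comp (ψ.comp (algebraMap B A))) := by
  obtain ⟨hdom, hdvr⟩ := adicCompletion_isDVR B
  set m := IsLocalRing.maximalIdeal B with hm
  -- the residue field of `p` as a quotient of `B`
  let φ : B →ₐ[B] p.ResidueField := Algebra.ofId B p.ResidueField
  have hφ : ∀ b, φ b = algebraMap A p.ResidueField (algebraMap B A b) := fun b =>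
    (IsScalarTower.algebraMap_apply B A p.ResidueField b)
  have hφsurj : Function.Surjective φ := by
    intro y
    obtain ⟨b, hb⟩ := hres y
    exact ⟨b, (hφ b).trans hb⟩
  have hkerφ : RingHom.ker φ = m := by
    ext b
    rw [RingHom.mem_ker, hφ, ← hp, Ideal.mem_comap]
    exact Ideal.algebraMap_residueField_eq_zero
  let e : (B ⧸ m) ≃ₐ[B] p.ResidueField :=
    (Ideal.quotientEquivAlgOfEq B hkerφ.symm).trans (Ideal.quotientKerAlgEquivOfSurjective hφsurj)
  let f : Localization.AtPrime p →ₐ[B] B ⧸ m :=
    e.symm.toAlgHom.comp (IsScalarTower.toAlgHom B (Localization.AtPrime p) p.ResidueField)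
  obtain ⟨g, hg⟩ := Algebra.FormallySmooth.exists_adicCompletionEvalOneₐ_comp_eq (R := B) f
  have hg' : ∀ x, AdicCompletion.evalOneₐ m (g x) = f x := fun x => DFunLike.congr_fun hg x
  let ψ : A →+* AdicCompletion m B := g.toRingHom.comp (algebraMap A (Localization.AtPrime p))
  have hker1 : RingHom.ker (AdicCompletion.evalOneₐ m).toRingHom =
      IsLocalRing.maximalIdeal (AdicCompletion m B) := by
    apply IsLocalRing.eq_maximalIdeal
    have : m.IsMaximal := IsLocalRing.maximalIdeal.isMaximal B
    let _ := Ideal.Quotient.field m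
    exact RingHom.ker_isMaximal_of_surjective _ (AdicCompletion.evalOneₐ_surjective m)
  have hψB : ψ.comp (algebraMap B A) = algebraMap B (AdicCompletion m B) := by
    refine RingHom.ext fun b => ?_
    change g (algebraMap A (Localization.AtPrime p) (algebraMap B A b)) = _
    rw [← IsScalarTower.algebraMap_apply B A (Localization.AtPrime p), AlgHom.commutes]
  refine ⟨AdicCompletion m B, inferInstance, hdom, hdvr, ψ, ?_, ?_, ?_, ?_⟩
  · ext x
    rw [Ideal.mem_comap, ← hker1, RingHom.mem_ker]
    change AdicCompletion.evalOneₐ m (g (algebraMap A (Localization.AtPrime p) x)) = 0 ↔ _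
    rw [hg']
    change e.symm (algebraMap (Localization.AtPrime p) p.ResidueField
      (algebraMap A (Localization.AtPrime p) x)) = 0 ↔ _
    rw [map_eq_zero_iff _ e.symm.injective,
      ← IsScalarTower.algebraMap_apply A (Localization.AtPrime p) p.ResidueField]
    exact Ideal.algebraMap_residueField_eq_zero
  · rw [hψB]
    exact AdicCompletion.of_injective m B
  · rw [hψB]
    exact AdicCompletion.maximalIdeal_eq_map.symm
  · rw [hψB]
    intro y
    obtain ⟨x, rfl⟩ := IsLocalRing.residue_surjective y
    obtain ⟨z, hz⟩ := Ideal.Quotient.mk_surjective (AdicCompletion.evalOneₐ m x)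
    refine ⟨z, ?_⟩
    change IsLocalRing.residue _ (algebraMap B (AdicCompletion m B) z) = IsLocalRing.residue _ x
    rw [← sub_eq_zero, ← map_sub, IsLocalRing.residue_eq_zero_iff, ← hker1, RingHom.mem_ker, map_sub,
      sub_eq_zero]
    change AdicCompletion.evalOneₐ m (algebraMap B (AdicCompletion m B) z) =
      AdicCompletion.evalOneₐ m x
    rw [← hz]
    rfl

end Groth.Agent.Lib.Seat94.DVRCompletion
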