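import Mathlib
import Groth.Agent.Lib.Seat62PtFunAlg
import Groth.Agent.Lib.Seat62HSpec
import Groth.Agent.Lib.Seat94DVRCompletion

/-!
# Seminormal rings: the conductor argument and pointwise functions along complete DVRs
-/

universe u

namespace Groth.Agent.Lib.Seat62.Seminormal

section conductor

variable (A C : Type*) [CommRing A] [CommRing C] [Algebra A C]

/-- the conductor of `A` in `C`, as an ideal of `C`. -/
def cond : Ideal C where
  carrier := {c | ∀ d : C, c * d ∈ (algebraMap A C).range}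
  add_mem' := by
    intro a b ha hb d
    rw [add_mul]
    exact add_mem (ha d) (hb d)
  zero_mem' := by
    intro d
    rw [zero_mul]
    exact zero_mem _
  smul_mem' := by
    intro e c hc d
    rw [smul_eq_mul, mul_comm e c, mul_assoc]
    exact hc (e * d)

variable {A C}

theorem mem_cond {c : C} : c ∈ cond A C ↔ ∀ d : C, c * d ∈ (algebraMap A C).range := Iff.rfl

theorem mem_range_of_mem_cond {c : C} (hc : c ∈ cond A C) : c ∈ (algebraMap A C).range := by
  have := hc 1
  rwa [mul_one] at this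

theorem cond_isRadical
    (SN : ∀ b : C, b ^ 2 ∈ (algebraMap A C).range → b ^ 3 ∈ (algebraMap A C).range →
      b ∈ (algebraMap A C).range) : (cond A C).IsRadical := by
  rw [Ideal.isRadical_iff_pow_one_lt 2 one_lt_two]
  intro c hc d
  apply SN
  · rw [mul_pow]
    exact hc (d ^ 2)
  · have : (c * d) ^ 3 = c ^ 2 * (c * d ^ 3) := by ring
    rw [this]
    exact hc _

/-- **The conductor argument.** If `C` is a finite `A`-algebra, Noetherian, such that `b², b³ ∈ A`
implies `b ∈ A`, and every element of `C` is, over each prime `p` of `A`, congruent to a fraction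
`u/v` of `A` modulo all primes of `C` over `p`, then `A → C` is surjective. -/
theorem mem_range_of_seminormal [IsNoetherianRing C] [Module.Finite A C]
    (SN : ∀ b : C, b ^ 2 ∈ (algebraMap A C).range → b ^ 3 ∈ (algebraMap A C).range →
      b ∈ (algebraMap A C).range)
    (PW : ∀ (c : C) (p : Ideal A), p.IsPrime → ∃ u v : A, v ∉ p ∧ ∀ P : Ideal C, P.IsPrime →
      P.comap (algebraMap A C) = p → c * algebraMap A C v - algebraMap A C u ∈ P) :
    ∀ c : C, c ∈ (algebraMap A C).range := by
  classical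
  suffices h1 : (1 : C) ∈ cond A C by
    intro c
    have := h1 c
    rwa [one_mul] at this
  by_contra h1
  have hne : cond A C ≠ ⊤ := fun h => h1 (h ▸ Submodule.mem_top)
  have hrad := cond_isRadical SN
  have hfinS : (cond A C).minimalPrimes.Finite :=
    Ideal.finite_minimalPrimes_of_isNoetherianRing C _
  have hsInf : sInf (cond A C).minimalPrimes = cond A C := by
    rw [Ideal.sInf_minimalPrimes]
    exact hrad.radical
  obtain ⟨⟨P₁, hP₁⟩⟩ := Ideal.nonempty_minimalPrimes hne
  obtain ⟨P₀, hP₀, hmin⟩ := hfinS.exists_minimalFor (fun P : Ideal C => P.comap (algebraMap A C))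
    _ ⟨P₁, hP₁⟩
  have hP₀prime : P₀.IsPrime := hP₀.1.1
  set p : Ideal A := P₀.comap (algebraMap A C) with hp
  have hpprime : p.IsPrime := Ideal.comap_isPrime _ _
  -- an element outside `p` lying in all other contractions
  have hw : ∃ w : A, w ∉ p ∧ ∀ P ∈ (cond A C).minimalPrimes,
      P.comap (algebraMap A C) ≠ p → algebraMap A C w ∈ P := by
    have h : ∀ P ∈ hfinS.toFinset, ∃ w : A, w ∉ p ∧
        (P.comap (algebraMap A C) ≠ p → algebraMap A C w ∈ P) := by
      intro P hP
      have hPS : P ∈ (cond A C).minimalPrimes := hfinS.mem_toFinset.1 hP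
      by_cases hPp : P.comap (algebraMap A C) = p
      · exact ⟨1, fun h => hpprime.ne_top ((Ideal.eq_top_iff_one _).2 h), fun h => (h hPp).elim⟩
      · have hnle : ¬ P.comap (algebraMap A C) ≤ p := by
          intro hle
          exact hPp (le_antisymm hle (hmin hPS hle))
        obtain ⟨w, hwP, hwp⟩ := Set.not_subset.1 hnle
        exact ⟨w, hwp, fun _ => hwP⟩
    choose! w hwp hwP using h
    refine ⟨∏ P ∈ hfinS.toFinset, w P, ?_, ?_⟩
    · intro hmem
      obtain ⟨P, hP, hwPp⟩ := Ideal.IsPrime.prod_mem_iff.1 hmem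
      exact hwp P hP hwPp
    · intro P hPS hPp
      have hP : P ∈ hfinS.toFinset := hfinS.mem_toFinset.2 hPS
      rw [← Finset.mul_prod_erase _ _ hP, map_mul]
      exact Ideal.mul_mem_right _ _ (hwP P hP hPp)
  obtain ⟨w, hwp, hwP⟩ := hw
  -- every element of `C` is in `A` up to a multiplier outside `p`
  have hx : ∀ c : C, ∃ x : A, x ∉ p ∧ algebraMap A C x * c ∈ (algebraMap A C).range := by
    intro c
    obtain ⟨u, v, hv, huv⟩ := PW c p hpprime
    refine ⟨w * v, fun h => (hpprime.mem_or_mem h).elim hwp hv, ?_⟩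
    have hmem : algebraMap A C w * (c * algebraMap A C v - algebraMap A C u) ∈ cond A C := by
      rw [← hsInf, Ideal.mem_sInf]
      intro P hPS
      have hPprime : P.IsPrime := hPS.1.1
      by_cases hPp : P.comap (algebraMap A C) = p
      · exact Ideal.mul_mem_left _ _ (huv P hPprime hPp)
      · exact Ideal.mul_mem_right _ _ (hwP P hPS hPp)
    have e : algebraMap A C (w * v) * c =
        algebraMap A C w * (c * algebraMap A C v - algebraMap A C u) + algebraMap A C (w * u) := by
      rw [map_mul, map_mul]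
      ring
    rw [e]
    exact add_mem (mem_range_of_mem_cond hmem) ⟨_, rfl⟩
  choose x hxp hxc using hx
  obtain ⟨G, hG⟩ := (Module.Finite.fg_top : (⊤ : Submodule A C).FG)
  have hx₀ : ∏ g ∈ G, x g ∉ p := by
    intro hmem
    obtain ⟨g, _, hg⟩ := Ideal.IsPrime.prod_mem_iff.1 hmem
    exact hxp g hg
  have hx₀c : ∀ c : C, algebraMap A C (∏ g ∈ G, x g) * c ∈ (algebraMap A C).range := by
    intro c
    have hc : c ∈ Submodule.span A (G : Set C) := by
      rw [hG]
      exact Submodule.mem_top
    induction hc using Submodule.span_induction with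
    | mem g hg =>
      rw [← Finset.mul_prod_erase _ _ hg, map_mul, mul_right_comm]
      exact mul_mem (hxc g) ⟨_, rfl⟩
    | zero =>
      rw [mul_zero]
      exact zero_mem _
    | add c d _ _ hc hd =>
      rw [mul_add]
      exact add_mem hc hd
    | smul a c _ hc =>
      rw [Algebra.smul_def, mul_left_comm]
      exact mul_mem ⟨_, rfl⟩ hc
  have : algebraMap A C (∏ g ∈ G, x g) ∈ P₀ := hP₀.1.2 hx₀c
  exact hx₀ this

/-- the pointwise condition of `mem_range_of_seminormal` needs to be checked on algebra generators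
only. -/
theorem pw_of_generators (G : Set C) (hG : Algebra.adjoin A G = ⊤)
    (PWG : ∀ c ∈ G, ∀ p : Ideal A, p.IsPrime → ∃ u v : A, v ∉ p ∧ ∀ P : Ideal C, P.IsPrime →
      P.comap (algebraMap A C) = p → c * algebraMap A C v - algebraMap A C u ∈ P) :
    ∀ (c : C) (p : Ideal A), p.IsPrime → ∃ u v : A, v ∉ p ∧ ∀ P : Ideal C, P.IsPrime →
      P.comap (algebraMap A C) = p → c * algebraMap A C v - algebraMap A C u ∈ P := by
  intro c p hp
  have hc : c ∈ Algebra.adjoin A G := hG ▸ Algebra.mem_top
  induction hc using Algebra.adjoin_induction with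
  | mem c hc => exact PWG c hc p hp
  | algebraMap a =>
    refine ⟨a, 1, fun h => hp.ne_top ((Ideal.eq_top_iff_one _).2 h), fun P _ _ => ?_⟩
    rw [map_one, mul_one, sub_self]
    exact zero_mem _
  | add c d _ _ hc hd =>
    obtain ⟨u₁, v₁, hv₁, h₁⟩ := hc
    obtain ⟨u₂, v₂, hv₂, h₂⟩ := hd
    refine ⟨u₁ * v₂ + u₂ * v₁, v₁ * v₂, fun h => (hp.mem_or_mem h).elim hv₁ hv₂,
      fun P hP hPp => ?_⟩
    have e : (c + d) * algebraMap A C (v₁ * v₂) - algebraMap A C (u₁ * v₂ + u₂ * v₁) =
        (c * algebraMap A C v₁ - algebraMap A C u₁) * algebraMap A C v₂ +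
          (d * algebraMap A C v₂ - algebraMap A C u₂) * algebraMap A C v₁ := by
      simp only [map_mul, map_add]
      ring
    rw [e]
    exact add_mem (Ideal.mul_mem_right _ _ (h₁ P hP hPp)) (Ideal.mul_mem_right _ _ (h₂ P hP hPp))
  | mul c d _ _ hc hd =>
    obtain ⟨u₁, v₁, hv₁, h₁⟩ := hc
    obtain ⟨u₂, v₂, hv₂, h₂⟩ := hd
    refine ⟨u₁ * u₂, v₁ * v₂, fun h => (hp.mem_or_mem h).elim hv₁ hv₂, fun P hP hPp => ?_⟩
    have e : (c * d) * algebraMap A C (v₁ * v₂) - algebraMap A C (u₁ * u₂) =
        (c * algebraMap A C v₁ - algebraMap A C u₁) * (d * algebraMap A C v₂) +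
          algebraMap A C u₁ * (d * algebraMap A C v₂ - algebraMap A C u₂) := by
      simp only [map_mul]
      ring
    rw [e]
    exact add_mem (Ideal.mul_mem_right _ _ (h₁ P hP hPp)) (Ideal.mul_mem_left _ _ (h₂ P hP hPp))

/-- uniqueness of cube-square roots in reduced rings. -/
theorem root_unique_of_isReduced (B : Type*) [CommRing B] [IsReduced B] (a b : B)
    (h2 : a ^ 2 = b ^ 2) (h3 : a ^ 3 = b ^ 3) : a = b := by
  have k1 : a ^ 2 * (a - b) = 0 := by
    have : a ^ 2 * (a - b) = a ^ 3 - a ^ 2 * b := by ring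
    rw [this, h3, h2]; ring
  have k2 : b ^ 2 * (a - b) = 0 := by
    have : b ^ 2 * (a - b) = a * b ^ 2 - b ^ 3 := by ring
    rw [this, ← h3, ← h2]; ring
  have k3 : a * b * (a - b) = 0 := by
    have : a * b * (a - b) = a ^ 2 * b - a * b ^ 2 := by ring
    have e2 : a ^ 2 * b - a * b ^ 2 = b * a ^ 2 - a * b ^ 2 := by ring
    rw [this, e2, h2]
    have : b * b ^ 2 - a * b ^ 2 = b ^ 3 - a * b ^ 2 := by ring
    rw [this, ← h3, ← h2]; ring
  have hnil : (a - b) ^ 3 = 0 := by
    have e : (a - b) ^ 3 = a ^ 2 * (a - b) - 2 * (a * b * (a - b)) + b ^ 2 * (a - b) := by ring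
    rw [e, k1, k2, k3]; ring
  exact sub_eq_zero.1 (IsNilpotent.eq_zero ⟨3, hnil⟩)

end conductor

section dvr

/-- a fraction of a discrete valuation ring which lies in a dominating domain lies in the ring. -/
theorem exists_mul_eq_of_local {R S : Type*} [CommRing R] [IsDomain R] [IsDiscreteValuationRing R]
    [CommRing S] [IsDomain S] (ι : R →+* S) (hinj : Function.Injective ι) [IsLocalHom ι]
    (b c : R) (hb : b ≠ 0) (s : S) (hs : s * ι b = ι c) : ∃ r : R, r * b = c := by
  rcases ValuationRing.dvd_total b c with ⟨r, hr⟩ | ⟨w, hw⟩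
  · exact ⟨r, by rw [hr, mul_comm]⟩
  · by_cases hwu : IsUnit w
    · obtain ⟨w', rfl⟩ := hwu
      refine ⟨↑w'⁻¹, ?_⟩
      rw [hw, mul_comm, mul_assoc, Units.mul_inv, mul_one]
    · exfalso
      have hc : c ≠ 0 := by
        rintro rfl
        exact hb (by rw [hw, zero_mul])
      have hιc : ι c ≠ 0 := fun h => hc (hinj (by rw [h, map_zero]))
      have h0 : ι c * (s * ι w - 1) = 0 := by
        rw [hw, map_mul] at hs
        linear_combination hs
      have h1 : s * ι w = 1 := by
        rcases mul_eq_zero.1 h0 with h | h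
        · exact (hιc h).elim
        · exact sub_eq_zero.1 h
      have h2 : IsUnit (ι w) := IsUnit.of_mul_eq_one _ (by rw [mul_comm]; exact h1)
      exact hwu (isUnit_of_map_unit ι w h2)

/-- **Step A**: a condition tested on complete discrete valuation rings holds for all discrete
valuation rings. -/
theorem forall_dvr_of_forall_completeDVR {A : Type u} [CommRing A] (u v : Ideal A → A)
    (hv : ∀ p : Ideal A, p.IsPrime → v p ∉ p)
    (H : ∀ (R : Type u) [CommRing R] [IsDomain R] [IsDiscreteValuationRing R]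
      [IsAdicComplete (IsLocalRing.maximalIdeal R) R] (φ : A →+* R),
        ∃ r : R, ∀ P : Ideal R, P.IsPrime → r * φ (v (P.comap φ)) - φ (u (P.comap φ)) ∈ P)
    (R : Type u) [CommRing R] [IsDomain R] [IsDiscreteValuationRing R] (φ : A →+* R) :
    ∃ r : R, ∀ P : Ideal R, P.IsPrime → r * φ (v (P.comap φ)) - φ (u (P.comap φ)) ∈ P := by
  obtain ⟨hdom, hdvr⟩ := Groth.Agent.Lib.Seat94.DVRCompletion.adicCompletion_isDVR R
  have hinj : Function.Injective
      (algebraMap R (AdicCompletion (IsLocalRing.maximalIdeal R) R)) :=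
    AdicCompletion.of_injective (IsLocalRing.maximalIdeal R) R
  obtain ⟨s, hs⟩ := H (AdicCompletion (IsLocalRing.maximalIdeal R) R)
    ((algebraMap R (AdicCompletion (IsLocalRing.maximalIdeal R) R)).comp φ)
  have hker : (⊥ : Ideal (AdicCompletion (IsLocalRing.maximalIdeal R) R)).comap
      ((algebraMap R (AdicCompletion (IsLocalRing.maximalIdeal R) R)).comp φ) = RingHom.ker φ := by
    ext a
    rw [Ideal.mem_comap, Ideal.mem_bot, RingHom.mem_ker, RingHom.comp_apply,
      map_eq_zero_iff _ hinj]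
  have hkerprime : (RingHom.ker φ).IsPrime := RingHom.ker_isPrime φ
  have h0 := hs ⊥ Ideal.isPrime_bot
  rw [hker, Ideal.mem_bot, sub_eq_zero, RingHom.comp_apply, RingHom.comp_apply] at h0
  have hvb : φ (v (RingHom.ker φ)) ≠ 0 :=
    fun h => hv _ hkerprime ((RingHom.mem_ker).2 h)
  obtain ⟨r, hr⟩ := exists_mul_eq_of_local _ hinj (φ (v (RingHom.ker φ))) (φ (u (RingHom.ker φ)))
    hvb s h0
  have hrs : algebraMap R (AdicCompletion (IsLocalRing.maximalIdeal R) R) r = s := by
    apply mul_right_cancel₀ (b := algebraMap R (AdicCompletion (IsLocalRing.maximalIdeal R) R)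
      (φ (v (RingHom.ker φ)))) ((map_ne_zero_iff _ hinj).2 hvb)
    rw [← map_mul, hr, h0]
  refine ⟨r, fun P hP => ?_⟩
  have hex : ∃ P' : Ideal (AdicCompletion (IsLocalRing.maximalIdeal R) R), P'.IsPrime ∧
      P'.comap (algebraMap R (AdicCompletion (IsLocalRing.maximalIdeal R) R)) = P := by
    by_cases hP0 : P = ⊥
    · refine ⟨⊥, Ideal.isPrime_bot, ?_⟩
      rw [hP0, ← RingHom.ker_eq_comap_bot]
      exact (RingHom.injective_iff_ker_eq_bot _).1 hinj
    · have hPm : P = IsLocalRing.maximalIdeal R := IsLocalRing.eq_maximalIdeal (hP.isMaximal hP0)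
      refine ⟨IsLocalRing.maximalIdeal _, (IsLocalRing.maximalIdeal.isMaximal _).isPrime, ?_⟩
      rw [hPm]
      exact IsLocalRing.maximalIdeal_comap _
  obtain ⟨P', hP', rfl⟩ := hex
  have h1 := hs P' hP'
  rw [← Ideal.comap_comap, ← hrs, RingHom.comp_apply, RingHom.comp_apply, ← map_mul, ← map_sub] at h1
  exact h1

end dvr

section glue

open Polynomial Groth.Agent.Lib.Seat62.PtFunAlg

variable {A : Type u} [CommRing A]

/-- **Step B**: gluing the values at the minimal primes to an integral element of the total ring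
of fractions. -/
theorem exists_isIntegral_of_forall_dvr [IsReduced A] [IsNoetherianRing A]
    (u v : Ideal A → A) (hv : ∀ p ∈ minimalPrimes A, v p ∉ p)
    (H : ∀ p ∈ minimalPrimes A, ∀ (R : Type u) [CommRing R] [IsDomain R]
      [IsDiscreteValuationRing R] (φ : A →+* R), RingHom.ker φ = p →
        ∃ r : R, r * φ (v p) = φ (u p)) :
    ∃ t : FractionRing A, IsIntegral A t ∧ ∀ (q : Ideal A) (hq : q ∈ minimalPrimes A),
      psi q hq t * gq A q (v q) = gq A q (u q) := by
  classical
  have hfin : (minimalPrimes A).Finite := minimalPrimes.finite_of_isNoetherianRing A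
  have hmemP : ∀ p, p ∈ hfin.toFinset ↔ p ∈ minimalPrimes A := fun p => hfin.mem_toFinset
  have hprime : ∀ p ∈ hfin.toFinset, p.IsPrime := fun p hp => ((hmemP p).1 hp).1.1
  have hx : ∀ p ∈ hfin.toFinset, ∃ x : A, x ∉ p ∧ ∀ q ∈ hfin.toFinset, q ≠ p → x ∈ q := by
    intro p hp
    have hpp := hprime p hp
    by_contra hcon
    push Not at hcon
    have hle : (hfin.toFinset.erase p).inf id ≤ p := by
      intro x hx
      by_contra hxp
      obtain ⟨q, hqP, hqp, hxq⟩ := hcon x hxp
      have h1 : (hfin.toFinset.erase p).inf id ≤ id q :=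
        Finset.inf_le (Finset.mem_erase.2 ⟨hqp, hqP⟩)
      exact hxq (h1 hx)
    obtain ⟨q, hq, hqle⟩ := (Ideal.IsPrime.inf_le' hpp).1 hle
    have hqP := Finset.mem_erase.1 hq
    have hpmin := (hmemP p).1 hp
    have hqprime := hprime q hqP.2
    have hpq : p ≤ q := hpmin.2 ⟨hqprime, bot_le⟩ hqle
    exact hqP.1 (le_antisymm hqle hpq)
  choose! x hxp hxq using hx
  set N := ∑ p ∈ hfin.toFinset, x p * u p with hN
  set D := ∑ p ∈ hfin.toFinset, x p * v p with hD
  have hNq : ∀ q ∈ hfin.toFinset, N - x q * u q ∈ q := by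
    intro q hq
    have h1 : N = x q * u q + ∑ p ∈ hfin.toFinset.erase q, x p * u p :=
      (Finset.add_sum_erase _ _ hq).symm
    rw [h1, add_sub_cancel_left]
    refine Ideal.sum_mem _ fun p hp => ?_
    have hp' := Finset.mem_erase.1 hp
    exact Ideal.mul_mem_right _ _ (hxq p hp'.2 q hq (Ne.symm hp'.1))
  have hDq : ∀ q ∈ hfin.toFinset, D - x q * v q ∈ q := by
    intro q hq
    have h1 : D = x q * v q + ∑ p ∈ hfin.toFinset.erase q, x p * v p :=
      (Finset.add_sum_erase _ _ hq).symm
    rw [h1, add_sub_cancel_left]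
    refine Ideal.sum_mem _ fun p hp => ?_
    have hp' := Finset.mem_erase.1 hp
    exact Ideal.mul_mem_right _ _ (hxq p hp'.2 q hq (Ne.symm hp'.1))
  have hDnq : ∀ q ∈ hfin.toFinset, D ∉ q := by
    intro q hq hDmem
    have hqp := hprime q hq
    have h1 : x q * v q ∈ q := by
      have := q.sub_mem hDmem (hDq q hq)
      rwa [sub_sub_cancel] at this
    rcases hqp.mem_or_mem h1 with h | h
    · exact hxp q hq h
    · exact hv q ((hmemP q).1 hq) h
  have hDnzd : D ∈ nonZeroDivisors A := by
    rw [mem_nonZeroDivisors_iff_right]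
    intro z hz
    have : z ∈ sInf (minimalPrimes A) := by
      rw [Ideal.mem_sInf]
      intro q hq
      have hq' := (hmemP q).2 hq
      have hqp := hprime q hq'
      have : z * D ∈ q := by rw [hz]; exact zero_mem _
      exact (hqp.mem_or_mem this).resolve_right (hDnq q hq')
    rwa [sInf_minimalPrimes_eq_bot] at this
  set t : FractionRing A := IsLocalization.mk' (FractionRing A) N ⟨D, hDnzd⟩ with ht
  have htD : t * algebraMap A (FractionRing A) D = algebraMap A (FractionRing A) N :=
    IsLocalization.mk'_spec _ _ _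
  -- integrality of each component
  have hint : ∀ q ∈ hfin.toFinset, ∃ pq : A[X], pq.Monic ∧
      ∀ hq : q ∈ minimalPrimes A, eval₂ (gq A q) (psi q hq t) pq = 0 := by
    intro q hq
    have hqm := (hmemP q).1 hq
    have hqp := hprime q hq
    have hy : psi q hqm t * gq A q (v q) = gq A q (u q) := by
      have h1 := congrArg (psi q hqm) htD
      rw [map_mul, psi_algebraMap, psi_algebraMap] at h1
      have h2 : gq A q D = gq A q (x q * v q) := by
        rw [← sub_eq_zero, ← map_sub, gq_eq_zero_iff]; exact hDq q hq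
      have h3 : gq A q N = gq A q (x q * u q) := by
        rw [← sub_eq_zero, ← map_sub, gq_eq_zero_iff]; exact hNq q hq
      rw [h2, h3, map_mul, map_mul] at h1
      have hx0 : gq A q (x q) ≠ 0 := fun h => hxp q hq ((gq_eq_zero_iff q _).1 h)
      apply mul_left_cancel₀ hx0
      rw [← h1]; ring
    obtain ⟨pq, hpq, hpq0⟩ := isIntegralElem_gq q (u q) (v q) (hv q hqm) _ hy (H q hqm)
    exact ⟨pq, hpq, fun _ => hpq0⟩
  choose! pq hpqm hpq0 using hint
  have hti : IsIntegral A t := by
    refine ⟨∏ q ∈ hfin.toFinset, pq q, monic_prod_of_monic _ _ hpqm, ?_⟩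
    apply eq_zero_of_forall_psi
    intro q hq
    have hq' := (hmemP q).2 hq
    rw [Polynomial.hom_eval₂]
    have hcomp : (psi q hq).comp (algebraMap A (FractionRing A)) = gq A q := by
      ext a; exact psi_algebraMap q hq a
    rw [hcomp, Polynomial.eval₂_finsetProd]
    exact Finset.prod_eq_zero hq' (hpq0 q hq' hq)
  refine ⟨t, hti, fun q hq => ?_⟩
  have hq' := (hmemP q).2 hq
  have hqp := hprime q hq'
  have h1 := congrArg (psi q hq) htD
  rw [map_mul, psi_algebraMap, psi_algebraMap] at h1
  have h2 : gq A q D = gq A q (x q * v q) := by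
    rw [← sub_eq_zero, ← map_sub, gq_eq_zero_iff]; exact hDq q hq'
  have h3 : gq A q N = gq A q (x q * u q) := by
    rw [← sub_eq_zero, ← map_sub, gq_eq_zero_iff]; exact hNq q hq'
  rw [h2, h3, map_mul, map_mul] at h1
  have hx0 : gq A q (x q) ≠ 0 := fun h => hxp q hq' ((gq_eq_zero_iff q _).1 h)
  apply mul_left_cancel₀ hx0
  rw [← h1]; ring

end glue

section main

open Groth.Agent.Lib.Seat62.PtFunAlg

/-- **Core algebra, seminormal case.** Values `u p / v p` at the primes of a Noetherian seminormal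
ring which are compatible along complete discrete valuation rings come from one element. -/
theorem exists_of_forall_completeDVR (A : Type u) [CommRing A] [IsNoetherianRing A]
    (hA : ∀ x y : A, x ^ 3 = y ^ 2 → ∃! a : A, x = a ^ 2 ∧ y = a ^ 3)
    (u v : Ideal A → A) (hv : ∀ p : Ideal A, p.IsPrime → v p ∉ p)
    (H : ∀ (R : Type u) [CommRing R] [IsDomain R] [IsDiscreteValuationRing R]
      [IsAdicComplete (IsLocalRing.maximalIdeal R) R] (φ : A →+* R),
        ∃ r : R, ∀ P : Ideal R, P.IsPrime → r * φ (v (P.comap φ)) - φ (u (P.comap φ)) ∈ P) :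
    ∃ a : A, ∀ p : Ideal A, p.IsPrime → a * v p - u p ∈ p := by
  classical
  have hred : IsReduced A := by
    rw [isReduced_iff_pow_one_lt 2 one_lt_two]
    intro n hn
    have h3 : n ^ 3 = 0 := by rw [pow_succ, hn, zero_mul]
    exact (hA 0 0 (by ring)).unique ⟨by rw [hn], by rw [h3]⟩ ⟨by ring, by ring⟩
  have H' := forall_dvr_of_forall_completeDVR u v hv H
  obtain ⟨t, hti, ht⟩ := exists_isIntegral_of_forall_dvr u v (fun p hp => hv p hp.1.1)
    (fun p hp R _ _ _ φ hker => by
      obtain ⟨r, hr⟩ := H' R φ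
      refine ⟨r, ?_⟩
      have h0 := hr ⊥ Ideal.isPrime_bot
      rw [← RingHom.ker_eq_comap_bot, hker, Ideal.mem_bot, sub_eq_zero] at h0
      exact h0)
  -- the ring `C = A[t]`
  have hinjK : Function.Injective (algebraMap A (FractionRing A)) :=
    IsLocalization.injective (FractionRing A) (le_refl (nonZeroDivisors A))
  let C : Subalgebra A (FractionRing A) := Algebra.adjoin A {t}
  let t' : C := ⟨t, Algebra.subset_adjoin rfl⟩
  have hCfin : Module.Finite A C := Module.Finite.iff_fg.2 hti.fg_adjoin_singleton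
  have hCnoeth : IsNoetherianRing C := IsNoetherianRing.of_finite A C
  have hCred : IsReduced C := isReduced_of_injective C.val Subtype.val_injective
  have hinjC : Function.Injective (algebraMap A C) := by
    intro a b hab
    apply hinjK
    exact congrArg Subtype.val hab
  -- the primes `Q_q`
  have hfinmin : (minimalPrimes A).Finite := minimalPrimes.finite_of_isNoetherianRing A
  let Ψ : ∀ q : Ideal A, q ∈ minimalPrimes A → C →+* FractionRing (A ⧸ q) :=
    fun q hq => (psi q hq).comp C.val.toRingHom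
  have hΨalg : ∀ (q : Ideal A) (hq : q ∈ minimalPrimes A) (a : A),
      Ψ q hq (algebraMap A C a) = gq A q a := fun q hq a => psi_algebraMap q hq a
  have hΨt : ∀ (q : Ideal A) (hq : q ∈ minimalPrimes A),
      Ψ q hq (t' * algebraMap A C (v q) - algebraMap A C (u q)) = 0 := by
    intro q hq
    rw [map_sub, map_mul, hΨalg, hΨalg, sub_eq_zero]
    exact ht q hq
  have hΨzero : ∀ c : C, (∀ (q : Ideal A) (hq : q ∈ minimalPrimes A), Ψ q hq c = 0) → c = 0 := by
    intro c hc
    apply Subtype.ext
    exact eq_zero_of_forall_psi c.1 hc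
  have hcomapQ : ∀ (q : Ideal A) (hq : q ∈ minimalPrimes A),
      (RingHom.ker (Ψ q hq)).comap (algebraMap A C) = q := by
    intro q hq
    have : q.IsPrime := hq.1.1
    ext a
    rw [Ideal.mem_comap, RingHom.mem_ker, hΨalg, gq_eq_zero_iff]
  have hexQ : ∀ P : Ideal C, P.IsPrime →
      ∃ (q : Ideal A) (hq : q ∈ minimalPrimes A), RingHom.ker (Ψ q hq) ≤ P := by
    intro P hP
    by_contra hcon
    push Not at hcon
    have hx : ∀ q ∈ hfinmin.toFinset, ∃ x : C,
        (∀ hq : q ∈ minimalPrimes A, Ψ q hq x = 0) ∧ x ∉ P := by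
      intro q hq
      have hq' := hfinmin.mem_toFinset.1 hq
      obtain ⟨x, hxQ, hxP⟩ := Set.not_subset.1 (hcon q hq')
      exact ⟨x, fun _ => hxQ, hxP⟩
    choose! x hxQ hxP using hx
    have h0 : ∏ q ∈ hfinmin.toFinset, x q = 0 := by
      apply hΨzero
      intro q hq
      rw [map_prod]
      exact Finset.prod_eq_zero (hfinmin.mem_toFinset.2 hq)
        (hxQ q (hfinmin.mem_toFinset.2 hq) hq)
    have hmem : ∏ q ∈ hfinmin.toFinset, x q ∈ P := by
      rw [h0]
      exact zero_mem _
    obtain ⟨q, hq, hxq⟩ := Ideal.IsPrime.prod_mem_iff.1 hmem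
    exact hxP q hq hxq
  -- the pointwise condition for the generator
  have hPWt : ∀ p : Ideal A, p.IsPrime → ∀ P : Ideal C, P.IsPrime →
      P.comap (algebraMap A C) = p →
      t' * algebraMap A C (v p) - algebraMap A C (u p) ∈ P := by
    intro p hp P hP hPp
    obtain ⟨q, hq, hQP⟩ := hexQ P hP
    have hqprime : q.IsPrime := hq.1.1
    have hQprime : (RingHom.ker (Ψ q hq)).IsPrime := RingHom.ker_isPrime _
    by_cases hQeq : RingHom.ker (Ψ q hq) = P
    · have hpq : p = q := by rw [← hPp, ← hQeq, hcomapQ]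
      rw [hpq, ← hQeq, RingHom.mem_ker]
      exact hΨt q hq
    · obtain ⟨V, i1, i2, i3, ψ, hker, hcomap⟩ :=
        Groth.Agent.Lib.Seat62.HSpec.exists_dvr_of_lt C (RingHom.ker (Ψ q hq)) P
          (lt_of_le_of_ne hQP hQeq)
      obtain ⟨r, hr⟩ := H' V (ψ.comp (algebraMap A C))
      have hc0 : (⊥ : Ideal V).comap (ψ.comp (algebraMap A C)) = q := by
        rw [← Ideal.comap_comap, ← RingHom.ker_eq_comap_bot, hker, hcomapQ]
      have hc1 : (IsLocalRing.maximalIdeal V).comap (ψ.comp (algebraMap A C)) = p := by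
        rw [← Ideal.comap_comap, hcomap, hPp]
      have h0 := hr ⊥ Ideal.isPrime_bot
      rw [hc0, Ideal.mem_bot, sub_eq_zero] at h0
      have h0' : ψ t' * (ψ.comp (algebraMap A C)) (v q) = (ψ.comp (algebraMap A C)) (u q) := by
        have hmem : t' * algebraMap A C (v q) - algebraMap A C (u q) ∈ RingHom.ker ψ := by
          rw [hker, RingHom.mem_ker]
          exact hΨt q hq
        rw [RingHom.mem_ker, map_sub, map_mul, sub_eq_zero] at hmem
        exact hmem
      have hvq : (ψ.comp (algebraMap A C)) (v q) ≠ 0 := by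
        intro h
        have hmem : v q ∈ (⊥ : Ideal V).comap (ψ.comp (algebraMap A C)) := by
          rw [Ideal.mem_comap, h]
          exact zero_mem _
        rw [hc0] at hmem
        exact hv q hqprime hmem
      have hrt : r = ψ t' := mul_right_cancel₀ hvq (h0.trans h0'.symm)
      have h1 := hr (IsLocalRing.maximalIdeal V) (IsLocalRing.maximalIdeal.isMaximal V).isPrime
      rw [hc1, hrt] at h1
      rw [← hcomap, Ideal.mem_comap, map_sub, map_mul]
      exact h1
  have hSN : ∀ b : C, b ^ 2 ∈ (algebraMap A C).range → b ^ 3 ∈ (algebraMap A C).range →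
      b ∈ (algebraMap A C).range := by
    rintro b ⟨x, hx⟩ ⟨y, hy⟩
    have hxy : x ^ 3 = y ^ 2 := by
      apply hinjC
      rw [map_pow, map_pow, hx, hy]
      ring
    obtain ⟨a, ⟨ha2, ha3⟩, -⟩ := hA x y hxy
    refine ⟨a, ?_⟩
    apply root_unique_of_isReduced
    · rw [← map_pow, ← ha2, hx]
    · rw [← map_pow, ← ha3, hy]
  have hG : Algebra.adjoin A ((Subtype.val : C → FractionRing A) ⁻¹' {t}) = ⊤ :=
    Algebra.adjoin_adjoin_coe_preimage
  have hPWG : ∀ c ∈ ((Subtype.val : C → FractionRing A) ⁻¹' {t}), ∀ p : Ideal A, p.IsPrime →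
      ∃ u v : A, v ∉ p ∧ ∀ P : Ideal C, P.IsPrime →
      P.comap (algebraMap A C) = p → c * algebraMap A C v - algebraMap A C u ∈ P := by
    intro c hc p hp
    have hct : c = t' := Subtype.ext hc
    rw [hct]
    exact ⟨u p, v p, hv p hp, fun P hP hPp => hPWt p hp P hP hPp⟩
  have hPW := pw_of_generators (A := A) (C := C) _ hG hPWG
  obtain ⟨a, ha⟩ := mem_range_of_seminormal hSN hPW t'
  refine ⟨a, fun p hp => ?_⟩
  have := hp
  have : Algebra.IsIntegral A C := Algebra.IsIntegral.of_finite A C
  obtain ⟨P, -, hP, hPp⟩ := Ideal.exists_ideal_over_prime_of_isIntegral p (⊥ : Ideal C)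
    (by
      rw [← RingHom.ker_eq_comap_bot, (RingHom.injective_iff_ker_eq_bot _).1 hinjC]
      exact bot_le)
  have hfin := hPWt p hp P hP hPp
  rw [← ha, ← map_mul, ← map_sub] at hfin
  have hfin' : a * v p - u p ∈ P.comap (algebraMap A C) := hfin
  rwa [hPp] at hfin'

end main

end Groth.Agent.Lib.Seat62.Seminormal
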