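import Mathlib

set_option autoImplicit false
universe u
open CategoryTheory AlgebraicGeometry

namespace Groth.Agent.Lib.Seat62.SpecEval

variable (A : Type u) [CommRing A]

/-- evaluation of elements of `A` at the points of `Spec A`. -/
noncomputable def evA (x : Spec (CommRingCat.of A)) :
    A →+* (Spec (CommRingCat.of A)).residueField x :=
  ((Spec (CommRingCat.of A)).Γevaluation x).hom.comp (Scheme.ΓSpecIso (CommRingCat.of A)).inv.hom

variable {A}

theorem evA_apply (x : Spec (CommRingCat.of A)) (a : A) :
    evA A x a = (Spec (CommRingCat.of A)).Γevaluation x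
      ((Scheme.ΓSpecIso (CommRingCat.of A)).inv a) := rfl

set_option backward.isDefEq.respectTransparency false in
theorem evA_eq_zero_iff (x : Spec (CommRingCat.of A)) (a : A) :
    evA A x a = 0 ↔ a ∈ x.asIdeal := by
  rw [evA_apply, Scheme.evaluation_eq_zero_iff_notMem_basicOpen, basicOpen_eq_of_affine]
  change ¬ (a ∉ x.asIdeal) ↔ _
  rw [not_not]

theorem Γevaluation_eq_evA (x : Spec (CommRingCat.of A)) (s : Γ(Spec (CommRingCat.of A), ⊤)) :
    (Spec (CommRingCat.of A)).Γevaluation x s =
      evA A x ((Scheme.ΓSpecIso (CommRingCat.of A)).hom s) := by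
  rw [evA_apply]
  congr 1
  exact (Iso.hom_inv_id_apply (Scheme.ΓSpecIso (CommRingCat.of A)) s).symm

set_option backward.isDefEq.respectTransparency false in
/-- every element of the residue field is a fraction of values of elements of `A`. -/
theorem exists_evA_rep (x : Spec (CommRingCat.of A))
    (ξ : (Spec (CommRingCat.of A)).residueField x) :
    ∃ u v : A, v ∉ x.asIdeal ∧ ξ * evA A x v = evA A x u := by
  let e := Scheme.Spec.residueFieldIso (CommRingCat.of A) x
  have hev : ∀ a : A, evA A x a = e.inv (algebraMap A x.asIdeal.ResidueField a) := by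
    intro a
    have := Scheme.Spec.algebraMap_residueFieldIso_inv (CommRingCat.of A) x
    exact (congrArg (fun φ => φ.hom a) this).symm
  obtain ⟨ub, vb, hvb, hζ⟩ := IsFractionRing.div_surjective (A := A ⧸ x.asIdeal) (e.hom ξ)
  obtain ⟨u, rfl⟩ := Ideal.Quotient.mk_surjective ub
  obtain ⟨v, rfl⟩ := Ideal.Quotient.mk_surjective vb
  have hv0 : Ideal.Quotient.mk x.asIdeal v ≠ 0 := nonZeroDivisors.ne_zero hvb
  refine ⟨u, v, fun hv => hv0 (Ideal.Quotient.eq_zero_iff_mem.2 hv), ?_⟩
  have hv0' : algebraMap (A ⧸ x.asIdeal) x.asIdeal.ResidueField (Ideal.Quotient.mk x.asIdeal v) ≠ 0 := by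
    rwa [Ne, map_eq_zero_iff _ (IsFractionRing.injective _ _)]
  have h1 : e.hom ξ * algebraMap A x.asIdeal.ResidueField v =
      algebraMap A x.asIdeal.ResidueField u := by
    rw [IsScalarTower.algebraMap_apply A (A ⧸ x.asIdeal) x.asIdeal.ResidueField,
      IsScalarTower.algebraMap_apply A (A ⧸ x.asIdeal) x.asIdeal.ResidueField u,
      ← hζ, Ideal.Quotient.algebraMap_eq]
    field_simp
  have h2 := congrArg (fun z => e.inv z) h1
  simp only [map_mul] at h2
  rw [hev, hev, ← h2]
  congr 1
  exact (Iso.hom_inv_id_apply e ξ).symm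

set_option backward.isDefEq.respectTransparency false in
/-- naturality of evaluation for `Spec.map`. -/
theorem residueFieldMap_evA {R : Type u} [CommRing R] (φ : A →+* R)
    (y : Spec (CommRingCat.of R)) (a : A) :
    (Spec.map (CommRingCat.ofHom φ)).residueFieldMap y
      (evA A (Spec.map (CommRingCat.ofHom φ) y) a) = evA R y (φ a) := by
  rw [evA_apply, Scheme.Γevaluation_naturality_apply, evA_apply]
  congr 1
  have := Scheme.ΓSpecIso_inv_naturality (CommRingCat.ofHom φ)
  exact (congrArg (fun ψ => ψ.hom a) this).symm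

end Groth.Agent.Lib.Seat62.SpecEval
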