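import Mathlib

open AlgebraicGeometry CategoryTheory CategoryTheory.Limits IsLocalRing

universe u

namespace Groth.Agent.Lib.Seat62.SpecialFibre

variable {R : Type u} [CommRing R] (I : Ideal R)
  {X Xs : Scheme.{u}} (f : X ⟶ Spec (CommRingCat.of R)) (gs : Xs ⟶ X)
  (fs : Xs ⟶ Spec (CommRingCat.of (R ⧸ I)))

/-- the ring map `R → O_{X,x}` induced by `f`. -/
noncomputable def rho (x : X) : R →+* X.presheaf.stalk x :=
  (X.presheaf.germ ⊤ x trivial).hom.comp
    ((f.appTop).hom.comp (Scheme.ΓSpecIso (CommRingCat.of R)).inv.hom)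

theorem fromSpecStalk_comp_eq (x : X) {Q : CommRingCat.{u}} (q : X.presheaf.stalk x ⟶ Q)
    {S : Type u} [CommRing S] (m : R →+* S) (θ : S →+* Q)
    (hθ : θ.comp m = q.hom.comp (rho f x)) :
    (Spec.map q ≫ X.fromSpecStalk x) ≫ f =
      Spec.map (CommRingCat.ofHom θ) ≫ Spec.map (CommRingCat.ofHom m) := by
  apply ext_of_isAffine
  rw [← cancel_epi (Scheme.ΓSpecIso (CommRingCat.of R)).inv]
  simp only [Scheme.Hom.comp_appTop, Scheme.fromSpecStalk_appTop, Category.assoc]
  rw [← Scheme.ΓSpecIso_inv_naturality_assoc, ← Scheme.ΓSpecIso_inv_naturality]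
  have h1 : (Spec (X.presheaf.stalk x)).presheaf.map (homOfLE le_top).op = 𝟙 _ := by
    exact (Spec (X.presheaf.stalk x)).presheaf.map_id _
  rw [h1, Category.id_comp, ← Scheme.ΓSpecIso_inv_naturality]
  simp only [← Category.assoc]
  congr 1
  ext r
  have := congrArg (fun φ => φ r) hθ
  simp only [RingHom.comp_apply] at this
  simp only [CommRingCat.hom_comp, RingHom.comp_apply, CommRingCat.hom_ofHom]
  rw [this]
  rfl

set_option backward.isDefEq.respectTransparency false in
theorem comp_fromSpecStalk_closedPoint {X : Scheme.{u}} (x : X) (Q : CommRingCat.{u})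
    [IsLocalRing Q] (q : X.presheaf.stalk x ⟶ Q) [IsLocalHom q.hom] :
    (Spec.map q ≫ X.fromSpecStalk x) (closedPoint Q) = x := by
  rw [Scheme.Hom.comp_apply, Spec_closedPoint, Scheme.fromSpecStalk_closedPoint]

variable {I f gs fs}

/-- `I` dies in the stalks of the fibre. -/
theorem stalkMap_rho_eq_zero
    (hs : IsPullback gs fs f (Spec.map (CommRingCat.ofHom (Ideal.Quotient.mk I))))
    (ξ : Xs) (r : R) (hr : r ∈ I) : (gs.stalkMap ξ).hom (rho f (gs ξ) r) = 0 := by
  have h1 : (gs.stalkMap ξ).hom (rho f (gs ξ) r) =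
      (Xs.presheaf.germ ⊤ ξ trivial).hom ((gs ≫ f).appTop.hom
        ((Scheme.ΓSpecIso (CommRingCat.of R)).inv.hom r)) := by
    unfold rho
    simp only [RingHom.comp_apply]
    have := Scheme.Hom.germ_stalkMap_apply gs ⊤ ξ trivial
      (f.appTop.hom ((Scheme.ΓSpecIso (CommRingCat.of R)).inv.hom r))
    rw [this]
    rfl
  rw [h1, hs.w]
  have h2 : (Spec.map (CommRingCat.ofHom (Ideal.Quotient.mk I))).appTop.hom
      ((Scheme.ΓSpecIso (CommRingCat.of R)).inv.hom r) = 0 := by
    have := Scheme.ΓSpecIso_inv_naturality (CommRingCat.ofHom (Ideal.Quotient.mk I))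
    have h3 := congrArg (fun φ => φ.hom r) this
    simp only [CommRingCat.hom_comp, RingHom.comp_apply, CommRingCat.hom_ofHom] at h3
    rw [← h3, (Ideal.Quotient.eq_zero_iff_mem).2 hr, map_zero]
  rw [Scheme.Hom.comp_appTop, CommRingCat.hom_comp, RingHom.comp_apply, h2, map_zero, map_zero]


theorem isClosedImmersion_of_isPullback
    (hs : IsPullback gs fs f (Spec.map (CommRingCat.ofHom (Ideal.Quotient.mk I)))) :
    IsClosedImmersion gs := by
  have : IsClosedImmersion (Spec.map (CommRingCat.ofHom (Ideal.Quotient.mk I))) :=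
    IsClosedImmersion.spec_of_surjective _ Ideal.Quotient.mk_surjective
  exact MorphismProperty.of_isPullback hs.flip this

/-- germs composed with `stalkClosedPointTo` only depend on the morphism. -/
theorem germ_stalkClosedPointTo_congr {Q : CommRingCat.{u}} [IsLocalRing Q] {Y : Scheme.{u}}
    (t₁ t₂ : Spec Q ⟶ Y) (e : t₁ = t₂) (U : Y.Opens) (h₁ : t₁ (closedPoint Q) ∈ U)
    (h₂ : t₂ (closedPoint Q) ∈ U) (s : Γ(Y, U)) :
    (Scheme.stalkClosedPointTo t₁).hom ((Y.presheaf.germ U _ h₁).hom s) =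
      (Scheme.stalkClosedPointTo t₂).hom ((Y.presheaf.germ U _ h₂).hom s) := by
  subst e
  rfl

theorem germ_eq_zero_congr {Y : Scheme.{u}} (U : Y.Opens) (s : Γ(Y, U)) (p p' : Y) (e : p = p')
    (hp : p ∈ U) (hp' : p' ∈ U) (h : (Y.presheaf.germ U p hp).hom s = 0) :
    (Y.presheaf.germ U p' hp').hom s = 0 := by
  subst e
  exact h

set_option backward.isDefEq.respectTransparency false in
/-- The kernel of the stalk map of the fibre over `V(I)` is contained in `I · O_{X,x}`. -/
theorem ker_stalkMap_le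
    (hs : IsPullback gs fs f (Spec.map (CommRingCat.ofHom (Ideal.Quotient.mk I))))
    (ξ : Xs) :
    RingHom.ker (gs.stalkMap ξ).hom ≤ I.map (rho f (gs ξ)) := by
  set x := gs ξ with hx
  set J := I.map (rho f x) with hJ
  by_cases hJtop : J = ⊤
  · rw [hJtop]; exact le_top
  have hcl := isClosedImmersion_of_isPullback hs
  have : Nontrivial (X.presheaf.stalk x ⧸ J) := Ideal.Quotient.nontrivial_iff.2 hJtop
  have : IsLocalRing (X.presheaf.stalk x ⧸ J) :=
    .of_surjective' _ Ideal.Quotient.mk_surjective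
  let Q : CommRingCat.{u} := CommRingCat.of (X.presheaf.stalk x ⧸ J)
  have : IsLocalRing Q := inferInstanceAs (IsLocalRing (X.presheaf.stalk x ⧸ J))
  let q : X.presheaf.stalk x ⟶ Q := CommRingCat.ofHom (Ideal.Quotient.mk J)
  have : IsLocalHom q.hom :=
    IsLocalHom.of_surjective (Ideal.Quotient.mk J) Ideal.Quotient.mk_surjective
  let τ : Spec Q ⟶ X := Spec.map q ≫ X.fromSpecStalk x
  -- the map to `Spec (R ⧸ I)`
  let θ : R ⧸ I →+* (X.presheaf.stalk x ⧸ J) :=
    Ideal.Quotient.lift I ((Ideal.Quotient.mk J).comp (rho f x)) (by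
      intro r hr
      rw [RingHom.comp_apply, Ideal.Quotient.eq_zero_iff_mem]
      exact Ideal.mem_map_of_mem _ hr)
  have hcomm : τ ≫ f = Spec.map (CommRingCat.ofHom θ) ≫
      Spec.map (CommRingCat.ofHom (Ideal.Quotient.mk I)) :=
    fromSpecStalk_comp_eq f x q (Ideal.Quotient.mk I) θ (by
      ext r
      simp only [θ, RingHom.comp_apply]
      rfl)
  obtain ⟨h, hh1, hh2⟩ : ∃ h : Spec Q ⟶ Xs, h ≫ gs = τ ∧ h ≫ fs = Spec.map (CommRingCat.ofHom θ) :=
    ⟨hs.lift τ _ hcomm, hs.lift_fst _ _ _, hs.lift_snd _ _ _⟩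
  have hτcp : τ (closedPoint Q) = x := comp_fromSpecStalk_closedPoint x Q q
  have hhcp : h (closedPoint Q) = ξ := by
    apply gs.isClosedEmbedding.injective
    rw [← Scheme.Hom.comp_apply, hh1, hτcp]
  intro a ha
  rw [RingHom.mem_ker] at ha
  obtain ⟨U, hxU, s, rfl⟩ := X.presheaf.exists_germ_eq (x := x) a
  -- compute `q a` through `h`
  have hxU' : τ (closedPoint Q) ∈ U := by rw [hτcp]; exact hxU
  have h1 : q.hom ((X.presheaf.germ U x hxU).hom s) =
      (Scheme.stalkClosedPointTo τ).hom ((X.presheaf.germ U _ hxU').hom s) := by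
    have := Scheme.germ_stalkClosedPointTo_Spec_fromSpecStalk q U hxU'
    exact (congrArg (fun φ => φ.hom s) this).symm
  have hxU'' : (h ≫ gs) (closedPoint Q) ∈ U := by rw [hh1]; exact hxU'
  have h2 := germ_stalkClosedPointTo_congr τ (h ≫ gs) hh1.symm U hxU' hxU'' s
  have h3 : (Scheme.stalkClosedPointTo (h ≫ gs)).hom ((X.presheaf.germ U _ hxU'').hom s) =
      (Scheme.stalkClosedPointTo h).hom
        ((gs.stalkMap (h (closedPoint Q))).hom ((X.presheaf.germ U _ hxU'').hom s)) := by
    rw [Scheme.stalkClosedPointTo_comp]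
    rfl
  have h4 : (gs.stalkMap (h (closedPoint Q))).hom ((X.presheaf.germ U _ hxU'').hom s) = 0 := by
    have e1 := Scheme.Hom.germ_stalkMap_apply gs U (h (closedPoint Q)) hxU'' s
    have e2 := Scheme.Hom.germ_stalkMap_apply gs U ξ hxU s
    refine e1.trans ?_
    have ha' := e2.symm.trans ha
    exact germ_eq_zero_congr (gs ⁻¹ᵁ U) _ ξ _ hhcp.symm hxU hxU'' ha'
  have h5 : q.hom ((X.presheaf.germ U x hxU).hom s) = 0 := by
    rw [h1, h2, h3, h4, map_zero]
  exact Ideal.Quotient.eq_zero_iff_mem.1 h5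


/-- a generic point of an irreducible component has coheight zero. -/
theorem coheight_eq_zero_of_mem_irreducibleComponents {Z : Scheme.{u}} (ξ : Z)
    (hξ : closure ({ξ} : Set Z) ∈ irreducibleComponents Z) : Order.coheight ξ = 0 := by
  rw [Order.coheight_eq_zero]
  intro y hy
  -- `ξ ≤ y` means `y ⤳ ξ`
  have h1 : y ⤳ ξ := hy
  have h2 : closure ({ξ} : Set Z) ≤ closure ({y} : Set Z) :=
    (specializes_iff_closure_subset.1 h1)
  have h3 : closure ({y} : Set Z) ≤ closure ({ξ} : Set Z) :=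
    hξ.2 (isIrreducible_singleton.closure) h2
  have h4 : ξ ⤳ y := specializes_iff_closure_subset.2 h3
  exact h4

/-- the stalk at a generic point of an irreducible component of a reduced scheme is a field. -/
theorem isField_stalk_of_mem_irreducibleComponents {Z : Scheme.{u}} [IsReduced Z] (ξ : Z)
    (hξ : closure ({ξ} : Set Z) ∈ irreducibleComponents Z) : IsField (Z.presheaf.stalk ξ) := by
  have : Ring.KrullDimLE 0 (Z.presheaf.stalk ξ) :=
    krullDimLE_of_coheight_le (by rw [coheight_eq_zero_of_mem_irreducibleComponents ξ hξ]; rfl)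
  exact Ring.KrullDimLE.isField_of_isReduced

/-- **The maximal ideal of `O_{X,x}` at a generic point of a component of a reduced fibre.** -/
theorem maximalIdeal_stalk_eq_map
    (hs : IsPullback gs fs f (Spec.map (CommRingCat.ofHom (Ideal.Quotient.mk I))))
    [IsReduced Xs] (ξ : Xs) (hξ : closure ({ξ} : Set Xs) ∈ irreducibleComponents Xs) :
    IsLocalRing.maximalIdeal (X.presheaf.stalk (gs ξ)) = I.map (rho f (gs ξ)) := by
  have hcl := isClosedImmersion_of_isPullback hs
  have hsurj : Function.Surjective (gs.stalkMap ξ).hom := gs.stalkMap_surjective ξ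
  have hF := isField_stalk_of_mem_irreducibleComponents ξ hξ
  let := hF.toField
  have hmax : (RingHom.ker (gs.stalkMap ξ).hom).IsMaximal :=
    RingHom.ker_isMaximal_of_surjective _ hsurj
  have hker : RingHom.ker (gs.stalkMap ξ).hom = IsLocalRing.maximalIdeal _ :=
    IsLocalRing.eq_maximalIdeal hmax
  rw [← hker]
  apply le_antisymm (ker_stalkMap_le hs ξ)
  rw [Ideal.map_le_iff_le_comap]
  intro r hr
  rw [Ideal.mem_comap, RingHom.mem_ker]
  exact stalkMap_rho_eq_zero hs ξ r hr

end Groth.Agent.Lib.Seat62.SpecialFibre
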