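import Mathlib

/-!
# Splitting algebras with square presentations (helper62)

Every monic polynomial splits in an iterated `AdjoinRoot` tower, which is finite free and has a
presentation with as many relations as variables.
-/

set_option autoImplicit false

universe u

namespace Groth.Agent.Lib.Seat62.SplitAlg

open Polynomial

/-- The standard presentation of `AdjoinRoot P` with one variable and one relation. -/
noncomputable def presAdjoinRoot {A : Type u} [CommRing A] (P : A[X]) :
    Algebra.Presentation A (AdjoinRoot P) Unit Unit := by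
  let v : Unit → MvPolynomial Unit A := fun _ => (MvPolynomial.uniqueAlgEquiv A Unit).symm P
  let N : Algebra.Presentation A (MvPolynomial Unit A ⧸ Ideal.span (Set.range v)) Unit Unit :=
    Algebra.Presentation.naive (v := v)
  have hI : Ideal.span {P} = (Ideal.span (Set.range v)).map
      ((MvPolynomial.uniqueAlgEquiv A Unit : MvPolynomial Unit A ≃ₐ[A] A[X]) :
        MvPolynomial Unit A →+* A[X]) := by
    rw [Ideal.map_span]
    congr 1
    rw [← Set.range_comp]
    ext x
    simp only [Set.mem_singleton_iff, Set.mem_range, Function.comp_apply, v]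
    constructor
    · rintro rfl
      exact ⟨(), AlgEquiv.apply_symm_apply (MvPolynomial.uniqueAlgEquiv A Unit) x⟩
    · rintro ⟨_, rfl⟩
      exact (AlgEquiv.apply_symm_apply (MvPolynomial.uniqueAlgEquiv A Unit) P)
  let e : (MvPolynomial Unit A ⧸ Ideal.span (Set.range v)) ≃ₐ[A] AdjoinRoot P :=
    Ideal.quotientEquivAlg (Ideal.span (Set.range v)) (Ideal.span {P})
      (MvPolynomial.uniqueAlgEquiv A Unit) hI
  exact N.ofAlgEquiv e


/-- Iterated `AdjoinRoot` tower in which a monic polynomial splits: finite free with a square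
presentation. -/
theorem exists_tower (n : ℕ) : ∀ (A : Type u) [CommRing A] (P : A[X]), P.Monic → P.natDegree ≤ n →
    ∃ (B : Type u) (_ : CommRing B) (_ : Algebra A B) (m : ℕ)
      (_ : Algebra.Presentation A B (Fin m) (Fin m)),
      Module.Finite A B ∧ Module.Free A B ∧ (Nontrivial A → Nontrivial B) ∧
      ∃ s : Multiset B, P.map (algebraMap A B) = (s.map fun b => X - C b).prod := by
  induction n with
  | zero =>
    intro A _ P hP hdeg
    have h1 : P = 1 := hP.natDegree_eq_zero.mp (Nat.le_zero.mp hdeg)
    refine ⟨A, inferInstance, inferInstance, 0,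
      (Algebra.Presentation.id.{0, 0} A).reindex (Equiv.equivPEmpty _) (Equiv.equivPEmpty _),
      inferInstance, inferInstance, id, ∅, ?_⟩
    simp [h1]
  | succ n ih =>
    intro A _ P hP hdeg
    by_cases hle : P.natDegree ≤ n
    · exact ih A P hP hle
    have hdeg' : P.natDegree = n + 1 := by omega
    let B₁ := AdjoinRoot P
    have hroot : (P.map (algebraMap A B₁)).IsRoot (AdjoinRoot.root P) := by
      rw [IsRoot, eval_map]
      exact AdjoinRoot.eval₂_root P
    have hfac : (X - C (AdjoinRoot.root P)) *
        ((P.map (algebraMap A B₁)) /ₘ (X - C (AdjoinRoot.root P)))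
        = P.map (algebraMap A B₁) := mul_divByMonic_eq_iff_isRoot.mpr hroot
    set P₁ := (P.map (algebraMap A B₁)) /ₘ (X - C (AdjoinRoot.root P)) with hP₁
    have hfinB₁ : Module.Finite A B₁ := hP.finite_adjoinRoot
    have hfreeB₁ : Module.Free A B₁ := hP.free_adjoinRoot
    have hP₁monic : P₁.Monic := by
      refine Monic.of_mul_monic_left (monic_X_sub_C (AdjoinRoot.root P)) ?_
      rw [hfac]
      exact hP.map _
    have hP₁deg : P₁.natDegree ≤ n := by
      rcases subsingleton_or_nontrivial B₁ with hs | hn
      · have : P₁ = 0 := Subsingleton.elim _ _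
        rw [this, natDegree_zero]
        exact Nat.zero_le _
      · rw [hP₁, natDegree_divByMonic _ (monic_X_sub_C _), natDegree_X_sub_C]
        have := natDegree_map_le (f := algebraMap A B₁) (p := P)
        omega
    obtain ⟨B₂, _, _, m, Pres₂, hfin, hfree, hnt, s, hs⟩ := ih B₁ P₁ hP₁monic hP₁deg
    let _ : Algebra A B₂ := ((algebraMap B₁ B₂).comp (algebraMap A B₁)).toAlgebra
    have : IsScalarTower A B₁ B₂ := IsScalarTower.of_algebraMap_eq (fun _ => rfl)
    refine ⟨B₂, inferInstance, inferInstance, m + 1,
      (Pres₂.comp (presAdjoinRoot P)).reindex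
        ((finSumFinEquiv (m := m) (n := 1)).symm.trans
          (Equiv.sumCongr (Equiv.refl _) finOneEquiv))
        ((finSumFinEquiv (m := m) (n := 1)).symm.trans
          (Equiv.sumCongr (Equiv.refl _) finOneEquiv)),
      Module.Finite.trans B₁ B₂, Module.Free.trans (R := A) (S := B₁) (M := B₂), ?_,
      (algebraMap B₁ B₂ (AdjoinRoot.root P)) ::ₘ s, ?_⟩
    · intro hA
      have : Nontrivial B₁ := by
        let pb := AdjoinRoot.powerBasis' hP
        have hdim : pb.dim = n + 1 := by
          rw [AdjoinRoot.powerBasis'_dim, hdeg']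
        have h0 : pb.basis ⟨0, by omega⟩ ≠ 0 := pb.basis.ne_zero _
        exact ⟨⟨_, _, h0⟩⟩
      exact hnt this
    · rw [IsScalarTower.algebraMap_eq A B₁ B₂, ← Polynomial.map_map, ← hfac, Polynomial.map_mul,
        hs, Multiset.map_cons, Multiset.prod_cons]
      simp


/-- A monic polynomial splits in a finite free algebra of the form `A[x_1..x_N]/(F_1..F_N)`. -/
theorem main (A : Type u) [CommRing A] (P : A[X]) (hP : P.Monic) :
    ∃ (N : ℕ) (F : Fin N → MvPolynomial (Fin N) A),
      Module.Finite A (MvPolynomial (Fin N) A ⧸ Ideal.span (Set.range F)) ∧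
      Module.Free A (MvPolynomial (Fin N) A ⧸ Ideal.span (Set.range F)) ∧
      (Nontrivial A → Nontrivial (MvPolynomial (Fin N) A ⧸ Ideal.span (Set.range F))) ∧
      ∃ s : Multiset (MvPolynomial (Fin N) A ⧸ Ideal.span (Set.range F)),
        P.map (algebraMap A (MvPolynomial (Fin N) A ⧸ Ideal.span (Set.range F))) =
          (s.map fun b => X - C b).prod := by
  obtain ⟨B, _, _, m, Pres, hfin, hfree, hnt, s, hs⟩ := exists_tower P.natDegree A P hP le_rfl
  let e : (MvPolynomial (Fin m) A ⧸ Ideal.span (Set.range Pres.relation)) ≃ₐ[A] B :=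
    (Ideal.quotientEquivAlgOfEq A Pres.span_range_relation_eq_ker).trans
      (Pres.quotientEquiv.restrictScalars A)
  refine ⟨m, Pres.relation, Module.Finite.equiv e.symm.toLinearEquiv,
    Module.Free.of_equiv e.symm.toLinearEquiv, fun h => ?_, s.map e.symm, ?_⟩
  · have := hnt h
    exact e.toEquiv.nontrivial
  · have h1 : algebraMap A (MvPolynomial (Fin m) A ⧸ Ideal.span (Set.range Pres.relation)) =
        (e.symm : B →+* _).comp (algebraMap A B) := by
      ext a
      simp
    rw [h1, ← Polynomial.map_map, hs, Polynomial.map_multiset_prod, Multiset.map_map,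
      Multiset.map_map]
    congr 1
    apply Multiset.map_congr rfl
    intro b _
    simp


/-- A nontrivial algebra finite over a field has Krull dimension zero. -/
theorem ringKrullDim_eq_zero_of_finite (κ : Type*) (T : Type*) [Field κ] [CommRing T] [Algebra κ T]
    [Module.Finite κ T] [Nontrivial T] : ringKrullDim T = 0 := by
  have hart : IsArtinianRing T := IsArtinianRing.of_finite κ T
  have hk : Ring.KrullDimLE 0 T := (isArtinianRing_iff_isNoetherianRing_krullDimLE_zero.mp hart).2
  exact ringKrullDimZero_iff_ringKrullDim_eq_zero.mp hk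

end Groth.Agent.Lib.Seat62.SplitAlg
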