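import Mathlib
import Groth.Agent.Lib.Seat42CISpread

/-!
# Seat62SyntNhdA: a flat quotient that is an isomorphism on the fibre is locally an isomorphism

* `mem_smul_ker_of_flat`: `0 → K → M → N → 0`, `N` flat: `K ∩ IM = IK`.
* `exists_mul_eq_zero_of_flat`: `θ : S'' ↠ S'` with f.g. kernel, `S'_{q'}` flat over `R`, and
  `ker θ ⊆ p S''` locally at `q''` (`p = q'' ∩ R`): then some `s₀ ∉ q''` kills `ker θ`.
-/

set_option autoImplicit false
universe u

open TensorProduct

namespace Groth.Agent.Lib.Seat62.SyntNhdA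

section Module

variable {R M N : Type*} [CommRing R] [AddCommGroup M] [Module R M] [AddCommGroup N] [Module R N]

/-- If `N = M/K` is flat then `K ∩ IM ⊆ IK`. -/
theorem mem_smul_ker_of_flat [Module.Flat R N] (f : M →ₗ[R] N) (hf : Function.Surjective f)
    (I : Ideal R) (x : M) (hx : f x = 0) (hxI : x ∈ I • (⊤ : Submodule R M)) :
    x ∈ I • LinearMap.ker f := by
  have hinj := LinearMap.lTensor_injective_of_exact_of_flat f hf (LinearMap.ker f).subtype
    (LinearMap.ker f).subtype_injective (LinearMap.exact_subtype_ker_map f) (R ⧸ I)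
  let xK : LinearMap.ker f := ⟨x, hx⟩
  have h1 : ((LinearMap.ker f).subtype.lTensor (R ⧸ I)) ((1 : R ⧸ I) ⊗ₜ[R] xK) = 0 := by
    rw [LinearMap.lTensor_tmul]
    apply (TensorProduct.quotTensorEquivQuotSMul M I).injective
    rw [TensorProduct.quotTensorEquivQuotSMul_mk_one_tmul, map_zero,
      Submodule.Quotient.mk_eq_zero]
    exact hxI
  have h2 : ((1 : R ⧸ I) ⊗ₜ[R] xK) = 0 := hinj (by rw [h1, map_zero])
  have h3 := congrArg (TensorProduct.quotTensorEquivQuotSMul (LinearMap.ker f) I) h2
  rw [TensorProduct.quotTensorEquivQuotSMul_mk_one_tmul, map_zero,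
    Submodule.Quotient.mk_eq_zero] at h3
  have h4 : (LinearMap.ker f).subtype xK ∈
      (I • (⊤ : Submodule R (LinearMap.ker f))).map (LinearMap.ker f).subtype :=
    Submodule.mem_map_of_mem h3
  rw [Submodule.map_smul'', Submodule.map_top, Submodule.range_subtype] at h4
  exact h4

end Module

section Ring

variable {R S'' S' : Type u} [CommRing R] [CommRing S''] [CommRing S'] [Algebra R S'']
  [Algebra R S']

/-- A surjection with f.g. kernel onto an algebra which is flat at `q'` and which is an isomorphism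
on the fibre at `q'` is an isomorphism near `q'`. -/
theorem exists_mul_eq_zero_of_flat (θ : S'' →ₐ[R] S') (hθ : Function.Surjective θ)
    (q' : Ideal S') [q'.IsPrime] (q'' : Ideal S'') [q''.IsPrime]
    (hq : q'' = q'.comap θ.toRingHom)
    (hfg : (RingHom.ker θ.toRingHom).FG)
    (hflat : Module.Flat R (Localization.AtPrime q'))
    (hker : ∀ k ∈ RingHom.ker θ.toRingHom, ∃ s ∉ q'',
      s * k ∈ (q''.comap (algebraMap R S'')).map (algebraMap R S'')) :
    ∃ s₀ ∉ q'', ∀ k ∈ RingHom.ker θ.toRingHom, s₀ * k = 0 := by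
  obtain ⟨ρ, hρsurj, hρalg, hρker⟩ :=
    Groth.Agent.Lib.Seat42.CISpread.exists_atPrime_cover θ hθ q' q'' hq
  set p : Ideal R := q''.comap (algebraMap R S'') with hp
  set K' : Ideal (Localization.AtPrime q'') :=
    (RingHom.ker θ.toRingHom).map (algebraMap S'' (Localization.AtPrime q'')) with hK'
  -- (i) `K' ⊆ p M`
  have h1 : K' ≤ p.map (algebraMap R (Localization.AtPrime q'')) := by
    rw [hK', Ideal.map_le_iff_le_comap]
    intro k hk
    obtain ⟨s, hs, hsk⟩ := hker k hk
    rw [Ideal.mem_comap]
    have h2 := Ideal.mem_map_of_mem (algebraMap S'' (Localization.AtPrime q'')) hsk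
    rw [Ideal.map_map, ← IsScalarTower.algebraMap_eq, map_mul] at h2
    exact (Ideal.unit_mul_mem_iff_mem _
      (IsLocalization.map_units (Localization.AtPrime q'') (⟨s, hs⟩ : q''.primeCompl))).mp h2
  -- (ii) `K' ⊆ m K'`
  have hpm : p.map (algebraMap R (Localization.AtPrime q'')) ≤
      IsLocalRing.maximalIdeal (Localization.AtPrime q'') := by
    rw [Ideal.map_le_iff_le_comap]
    intro a ha
    rw [Ideal.mem_comap, IsScalarTower.algebraMap_apply R S'' (Localization.AtPrime q''),
      ← Ideal.mem_comap]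
    have h0 : (IsLocalRing.maximalIdeal (Localization.AtPrime q'')).comap
        (algebraMap S'' (Localization.AtPrime q'')) = q'' :=
      IsLocalization.AtPrime.under_maximalIdeal (Localization.AtPrime q'') q''
    rw [h0]
    exact ha
  have h2 : K' ≤ IsLocalRing.maximalIdeal (Localization.AtPrime q'') • K' := by
    intro x hx
    have hx0 : ρ.toLinearMap x = 0 := by
      have : x ∈ RingHom.ker ρ.toRingHom := by rw [hρker]; exact hx
      exact this
    have hxI : x ∈ p • (⊤ : Submodule R (Localization.AtPrime q'')) := by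
      rw [Ideal.smul_top_eq_map]
      exact h1 hx
    have h3 := mem_smul_ker_of_flat ρ.toLinearMap hρsurj p x hx0 hxI
    refine Submodule.smul_induction_on h3 ?_ ?_
    · intro a ha k hk
      rw [Algebra.smul_def]
      apply Submodule.smul_mem_smul (hpm (Ideal.mem_map_of_mem _ ha))
      have : k ∈ RingHom.ker ρ.toRingHom := hk
      rw [hρker] at this
      exact this
    · intro y z hy hz
      exact Submodule.add_mem _ hy hz
  -- Nakayama
  have hK'fg : K'.FG := Ideal.FG.map hfg _
  have hbot : K' = ⊥ :=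
    Submodule.eq_bot_of_le_smul_of_le_jacobson_bot _ _ hK'fg h2
      (IsLocalRing.maximalIdeal_le_jacobson ⊥)
  obtain ⟨s, hs, hsk⟩ := Groth.Agent.Lib.Seat42.CISpread.exists_forall_mul_mem_of_map_le
    q''.primeCompl (Localization.AtPrime q'') (RingHom.ker θ.toRingHom) ⊥ hfg (by
      rw [← hK', hbot]; exact bot_le)
  exact ⟨s, hs, fun k hk => by simpa using hsk k hk⟩

end Ring

end Groth.Agent.Lib.Seat62.SyntNhdA
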