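import Mathlib

/-!
# Seat62SyntNhdB: clearing denominators in `κ(p)[x]` and presentations of fibre rings

`μ = MvPolynomial.map (algebraMap R κ(p)) : R[x] → κ(p)[x]`.
* `exists_C_mul_eq_map`: every `b ∈ κ(p)[x]` has `C r̄ * b ∈ range μ` for some `r ∉ p`.
* `exists_C_mul_eq_map_of_mem_map`: the same inside `I.map μ`.
* `le_of_comap_le`: ideals of `κ(p)[x]` are determined by their contraction to `R[x]`.
* `exists_fibre_pres`: a presentation `π : R[x] ↠ S'` induces `ψ : κ(p)[x] ↠ κ(p) ⊗ S'` with kernel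
  `(ker π).map μ` and `ψ (μ y) = 1 ⊗ π y`.
-/

set_option autoImplicit false
universe u

open TensorProduct MvPolynomial

namespace Groth.Agent.Lib.Seat62.SyntNhdB

variable (R : Type u) [CommRing R] (p : Ideal R) [p.IsPrime] {σ : Type}

/-- `μ : R[x] → κ(p)[x]`. -/
noncomputable abbrev mu : MvPolynomial σ R →+* MvPolynomial σ p.ResidueField :=
  MvPolynomial.map (algebraMap R p.ResidueField)

theorem exists_mul_eq_algebraMap (a : p.ResidueField) :
    ∃ r ∉ p, ∃ u : R, algebraMap R p.ResidueField r * a = algebraMap R p.ResidueField u := by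
  obtain ⟨x, s, rfl⟩ := IsLocalization.exists_mk'_eq (nonZeroDivisors (R ⧸ p)) a
  obtain ⟨u, rfl⟩ := Ideal.Quotient.mk_surjective x
  obtain ⟨r, hr⟩ := Ideal.Quotient.mk_surjective (s : R ⧸ p)
  refine ⟨r, ?_, u, ?_⟩
  · intro hmem
    have h0 : (s : R ⧸ p) = 0 := by rw [← hr]; exact Ideal.Quotient.eq_zero_iff_mem.mpr hmem
    exact nonZeroDivisors.ne_zero s.2 h0
  · rw [IsScalarTower.algebraMap_apply R (R ⧸ p) p.ResidueField,
      IsScalarTower.algebraMap_apply R (R ⧸ p) p.ResidueField u]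
    have : algebraMap R (R ⧸ p) r = (s : R ⧸ p) := hr
    rw [this]
    exact IsLocalization.mk'_spec' _ _ _

theorem isUnit_C_algebraMap {r : R} (hr : r ∉ p) :
    IsUnit (C (algebraMap R p.ResidueField r) : MvPolynomial σ p.ResidueField) := by
  apply IsUnit.map
  rw [isUnit_iff_ne_zero, Ne, Ideal.algebraMap_residueField_eq_zero]
  exact hr

theorem exists_C_mul_eq_map (b : MvPolynomial σ p.ResidueField) :
    ∃ r ∉ p, ∃ b' : MvPolynomial σ R, C (algebraMap R p.ResidueField r) * b = mu R p b' := by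
  induction b using MvPolynomial.induction_on with
  | C a =>
    obtain ⟨r, hr, u, hu⟩ := exists_mul_eq_algebraMap R p a
    refine ⟨r, hr, C u, ?_⟩
    rw [← C_mul, hu, mu, MvPolynomial.map_C]
  | add b c hb hc =>
    obtain ⟨r1, hr1, b1, hb1⟩ := hb
    obtain ⟨r2, hr2, b2, hb2⟩ := hc
    refine ⟨r1 * r2, fun hmem => (Ideal.IsPrime.mem_or_mem inferInstance hmem).elim hr1 hr2,
      C r2 * b1 + C r1 * b2, ?_⟩
    have e : mu R p (C r2 * b1 + C r1 * b2) =
        C (algebraMap R p.ResidueField r2) * mu R p b1 +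
          C (algebraMap R p.ResidueField r1) * mu R p b2 := by
      simp only [mu, map_add, map_mul, MvPolynomial.map_C]
    rw [e, ← hb1, ← hb2, map_mul, C_mul]
    ring
  | mul_X b i hb =>
    obtain ⟨r, hr, b', hb'⟩ := hb
    refine ⟨r, hr, b' * X i, ?_⟩
    have e' : mu R p (b' * X i) = mu R p b' * X i := by
      simp only [mu, map_mul, MvPolynomial.map_X]
    rw [e', ← hb', mul_assoc]

theorem exists_C_mul_eq_map_of_mem_map (I : Ideal (MvPolynomial σ R))
    (z : MvPolynomial σ p.ResidueField) (hz : z ∈ I.map (mu R p)) :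
    ∃ r ∉ p, ∃ y ∈ I, C (algebraMap R p.ResidueField r) * z = mu R p y := by
  unfold Ideal.map at hz
  induction hz using Submodule.span_induction with
  | mem z hz =>
    obtain ⟨y, hy, rfl⟩ := hz
    exact ⟨1, fun h => (Ideal.IsPrime.ne_top inferInstance) ((Ideal.eq_top_iff_one p).mpr h), y, hy,
      by rw [map_one, map_one, one_mul]⟩
  | zero =>
    exact ⟨1, fun h => (Ideal.IsPrime.ne_top inferInstance) ((Ideal.eq_top_iff_one p).mpr h), 0,
      I.zero_mem, by rw [mul_zero, map_zero]⟩
  | add z₁ z₂ _ _ h₁ h₂ =>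
    obtain ⟨r1, hr1, y1, hy1, e1⟩ := h₁
    obtain ⟨r2, hr2, y2, hy2, e2⟩ := h₂
    refine ⟨r1 * r2, fun hmem => (Ideal.IsPrime.mem_or_mem inferInstance hmem).elim hr1 hr2,
      C r2 * y1 + C r1 * y2, I.add_mem (I.mul_mem_left _ hy1) (I.mul_mem_left _ hy2), ?_⟩
    have e : mu R p (C r2 * y1 + C r1 * y2) =
        C (algebraMap R p.ResidueField r2) * mu R p y1 +
          C (algebraMap R p.ResidueField r1) * mu R p y2 := by
      simp only [mu, map_add, map_mul, MvPolynomial.map_C]
    rw [e, ← e1, ← e2, map_mul, C_mul]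
    ring
  | smul b z _ h =>
    obtain ⟨r, hr, y, hy, e⟩ := h
    obtain ⟨r', hr', b', hb'⟩ := exists_C_mul_eq_map R p b
    refine ⟨r' * r, fun hmem => (Ideal.IsPrime.mem_or_mem inferInstance hmem).elim hr' hr,
      b' * y, I.mul_mem_left _ hy, ?_⟩
    have e' : mu R p (b' * y) = mu R p b' * mu R p y := map_mul _ _ _
    rw [e', ← e, ← hb', smul_eq_mul, map_mul, C_mul]
    ring

theorem mem_map_C_of_map_eq_zero (y : MvPolynomial σ R) (hy : mu R p y = 0) :
    y ∈ p.map (C : R →+* MvPolynomial σ R) := by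
  have h1 : y ∈ RingHom.ker (mu R p (σ := σ)) := hy
  rw [mu, MvPolynomial.ker_map, Ideal.ker_algebraMap_residueField] at h1
  exact h1

theorem le_of_comap_le (Q₁ Q₂ : Ideal (MvPolynomial σ p.ResidueField))
    (h : Q₁.comap (mu R p) ≤ Q₂.comap (mu R p)) : Q₁ ≤ Q₂ := by
  intro b hb
  obtain ⟨r, hr, b', hb'⟩ := exists_C_mul_eq_map R p b
  have h1 : b' ∈ Q₁.comap (mu R p) := by
    rw [Ideal.mem_comap, ← hb']
    exact Q₁.mul_mem_left _ hb
  have h2 := h h1
  rw [Ideal.mem_comap, ← hb'] at h2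
  exact (Ideal.unit_mul_mem_iff_mem _ (isUnit_C_algebraMap R p hr)).mp h2

theorem eq_of_comap_eq (Q₁ Q₂ : Ideal (MvPolynomial σ p.ResidueField))
    (h : Q₁.comap (mu R p) = Q₂.comap (mu R p)) : Q₁ = Q₂ :=
  le_antisymm (le_of_comap_le R p Q₁ Q₂ h.le) (le_of_comap_le R p Q₂ Q₁ h.ge)

section FibrePres

variable {S' : Type u} [CommRing S'] [Algebra R S']

/-- A presentation of `S'` induces a presentation of the fibre ring. -/
theorem exists_fibre_pres (π : MvPolynomial σ R →ₐ[R] S') (hπ : Function.Surjective π) :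
    ∃ ψ : MvPolynomial σ p.ResidueField →ₐ[p.ResidueField] p.Fiber S',
      Function.Surjective ψ ∧
      RingHom.ker ψ.toRingHom = (RingHom.ker π.toRingHom).map (mu R p) ∧
      ∀ y, ψ (mu R p y) = (1 : p.ResidueField) ⊗ₜ[R] π y := by
  let e := MvPolynomial.algebraTensorAlgEquiv (σ := σ) R p.ResidueField
  let f : p.ResidueField ⊗[R] MvPolynomial σ R →ₐ[p.ResidueField] p.Fiber S' :=
    Algebra.TensorProduct.map (AlgHom.id p.ResidueField p.ResidueField) π
  have hf : Function.Surjective f :=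
    Algebra.TensorProduct.map_surjective _ _ (fun x => ⟨x, rfl⟩) hπ
  have he : ∀ y : MvPolynomial σ R, e ((1 : p.ResidueField) ⊗ₜ[R] y) = mu R p y := by
    intro y
    rw [MvPolynomial.algebraTensorAlgEquiv_tmul, one_smul]
  have hesymm : ∀ y : MvPolynomial σ R, e.symm (mu R p y) = (1 : p.ResidueField) ⊗ₜ[R] y := by
    intro y
    rw [← he, AlgEquiv.symm_apply_apply]
  refine ⟨f.comp e.symm.toAlgHom, hf.comp e.symm.surjective, ?_, ?_⟩
  · have hkerf : RingHom.ker f.toRingHom =
        (RingHom.ker π.toRingHom).map (Algebra.TensorProduct.includeRight :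
          MvPolynomial σ R →ₐ[R] p.ResidueField ⊗[R] MvPolynomial σ R).toRingHom := by
      have := Algebra.TensorProduct.lTensor_ker (A := p.ResidueField) (g := π) hπ
      exact this
    ext x
    constructor
    · intro hx
      have hx' : e.symm x ∈ RingHom.ker f.toRingHom := hx
      rw [hkerf] at hx'
      have h2 := Ideal.mem_map_of_mem (e : p.ResidueField ⊗[R] MvPolynomial σ R →+*
        MvPolynomial σ p.ResidueField) hx'
      rw [Ideal.map_map] at h2
      have h3 : (e : p.ResidueField ⊗[R] MvPolynomial σ R →+* MvPolynomial σ p.ResidueField)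
          (e.symm x) = x := e.apply_symm_apply x
      rw [h3] at h2
      convert h2 using 2
      apply RingHom.ext
      intro y
      exact (he y).symm
    · intro hx
      have hle : (RingHom.ker π.toRingHom).map (mu R p) ≤
          RingHom.ker (f.comp e.symm.toAlgHom).toRingHom := by
        rw [Ideal.map_le_iff_le_comap]
        intro y hy
        rw [Ideal.mem_comap, RingHom.mem_ker]
        show f (e.symm (mu R p y)) = 0
        rw [hesymm]
        show (1 : p.ResidueField) ⊗ₜ[R] π y = 0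
        have : π y = 0 := hy
        rw [this, TensorProduct.tmul_zero]
      exact hle hx
  · intro y
    show f (e.symm (mu R p y)) = _
    rw [hesymm]
    rfl

end FibrePres

end Groth.Agent.Lib.Seat62.SyntNhdB
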