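import Mathlib
import Groth.Agent.Lib.Seat42CISpread
import Groth.Agent.Lib.Helper14LocalDim
import Groth.Agent.Lib.Helper28FGDim

/-!
# Seat62SyntNhdC: local dimension bound from a height bound

For `ψ : κ[x_1..x_n] ↠ Φ` and a prime `Q` of `Φ` with preimage `Q̄`: if
`c ≤ ht ((ker ψ) κ[x]_{Q̄})` then the local dimension of `Spec Φ` at `Q` is `≤ n - c`, and `c ≤ n`.
-/

set_option autoImplicit false
universe u

open Groth.Agent.Lib.Helper28

namespace Groth.Agent.Lib.Seat62.SyntNhdC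

variable (κ : Type u) [Field κ] (n c : ℕ) {Φ : Type u} [CommRing Φ] [Algebra κ Φ]

theorem localDim_le_of_le_height (ψ : MvPolynomial (Fin n) κ →ₐ[κ] Φ)
    (hψ : Function.Surjective ψ) (Q : Ideal Φ) [Q.IsPrime]
    (Qb : Ideal (MvPolynomial (Fin n) κ)) [Qb.IsPrime] (hQb : Qb = Q.comap ψ.toRingHom)
    (hc : (c : ℕ∞) ≤ ((RingHom.ker ψ.toRingHom).map
      (algebraMap (MvPolynomial (Fin n) κ) (Localization.AtPrime Qb))).height) :
    FlatMor.localDim (PrimeSpectrum Φ) ⟨Q, inferInstance⟩ ≤ ((n - c : ℕ) : WithBot ℕ∞) ∧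
      c ≤ n := by
  have hft : Algebra.FiniteType κ Φ := Algebra.FiniteType.of_surjective ψ hψ
  obtain ⟨nQ, eQ, hn, he, -, he'⟩ := Groth.Agent.Lib.Helper14.LocalDim.exists_dims (k := κ) Q
  rw [Groth.Agent.Lib.Helper14.LocalDim.localDim_eq (k := κ) Q nQ eQ hn he he']
  have hk : LocCoh.IsCohenMacaulayRing κ := isCohenMacaulayRing_of_field κ
  have hS : LocCoh.IsCohenMacaulayRing (MvPolynomial (Fin n) κ) :=
    isCohenMacaulayRing_mvPolynomial_fin n
  -- (1) `dim B/Q̄ = eQ`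
  have hsurj1 : Function.Surjective ((Ideal.Quotient.mk Q).comp ψ.toRingHom) :=
    Ideal.Quotient.mk_surjective.comp hψ
  have hker1 : RingHom.ker ((Ideal.Quotient.mk Q).comp ψ.toRingHom) = Qb := by
    rw [← RingHom.comap_ker, Ideal.mk_ker, hQb]
  have h1 : ringKrullDim (MvPolynomial (Fin n) κ ⧸ Qb) = eQ := by
    rw [← he]
    exact ringKrullDim_eq_of_ringEquiv ((Ideal.quotEquivOfEq hker1.symm).trans
      (RingHom.quotientKerEquivOfSurjective hsurj1))
  -- (2) `ht Q̄ + dim B/Q̄ = n`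
  have h2 := height_add_ringKrullDim_quotient_eq_of_forall_isMaximal_height_eq n
    (height_eq_of_isMaximal_mvPolynomial_fin κ n) Qb
  rw [h1] at h2
  -- (3) `dim A/JA = ht Q`
  obtain ⟨ρ, hρ, -, hkerρ⟩ := Groth.Agent.Lib.Seat42.CISpread.exists_atPrime_cover ψ hψ Q Qb hQb
  have h3 : ringKrullDim (Localization.AtPrime Qb ⧸ (RingHom.ker ψ.toRingHom).map
      (algebraMap (MvPolynomial (Fin n) κ) (Localization.AtPrime Qb))) = nQ := by
    rw [← hkerρ, ringKrullDim_eq_of_ringEquiv (RingHom.quotientKerEquivOfSurjective hρ),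
      IsLocalization.AtPrime.ringKrullDim_eq_height Q (Localization.AtPrime Q), hn]
    rfl
  -- (4)
  have hne : (RingHom.ker ψ.toRingHom).map
      (algebraMap (MvPolynomial (Fin n) κ) (Localization.AtPrime Qb)) ≠ ⊤ := by
    rw [← hkerρ]
    exact RingHom.ker_ne_top _
  have h4 := height_add_ringKrullDim_quotient_le _ hne
  rw [h3, IsLocalization.AtPrime.ringKrullDim_eq_height Qb (Localization.AtPrime Qb)] at h4
  obtain ⟨hb, hhb⟩ := ENat.ne_top_iff_exists.mp (Ideal.height_ne_top_of_isPrime (I := Qb))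
  rw [← hhb] at h2 h4
  obtain ⟨hJ, hhJ⟩ := ENat.ne_top_iff_exists.mp (Ideal.height_ne_top hne)
  rw [← hhJ] at h4 hc
  have e2 : hb + eQ = n := by exact_mod_cast h2
  have e4 : hJ + nQ ≤ hb := by exact_mod_cast h4
  have ec : c ≤ hJ := by exact_mod_cast hc
  refine ⟨?_, by omega⟩
  have : nQ + eQ ≤ n - c := by omega
  obtain ⟨m, hm⟩ : ∃ m, m = n - c := ⟨_, rfl⟩
  rw [← hm] at this ⊢
  exact_mod_cast this

end Groth.Agent.Lib.Seat62.SyntNhdC
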