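import Mathlib
import Groth.Agent.Lib.Seat62SyntNhdA
import Groth.Agent.Lib.Seat62SyntNhdB
import Groth.Agent.Lib.Seat62SyntNhdC
import Groth.Agent.Lib.Seat62RelGCINhd

/-!
# Seat62SyntNhdD: the spreading-out step of the local structure of syntomic maps

`exists_away_relGCI`: `S'` of finite presentation over `R`, `q'` a prime with `S'_{q'}` flat over `R`
and fibre local ring a complete intersection: then some `S'_g`, `g ∉ q'`, is isomorphic to a relative
global complete intersection over `R`.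
-/

set_option autoImplicit false
universe u

open TensorProduct MvPolynomial
open Groth.Agent.Lib.Helper4.FibDim Groth.Agent.Lib.Seat62.RelGCIAway
  Groth.Agent.Lib.Seat62.SyntNhdB Groth.Agent.Lib.Seat42.CISpread Groth.Agent.Lib.Seat42.CICover
  Groth.Agent.Lib.Seat42.CIIdeal

namespace Groth.Agent.Lib.Seat62.SyntNhdD

section FibLD

variable (R S : Type u) [CommRing R] [CommRing S] [Algebra R S]

/-- `fibLD` at `q` as the local dimension of the fibre ring over any `P = q ∩ R` at any prime `Q`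
over `q`. -/
theorem fibLD_eq_localDim (P : PrimeSpectrum R) (q : PrimeSpectrum S)
    (h : PrimeSpectrum.comap (algebraMap R S) q = P) (Q : PrimeSpectrum (P.asIdeal.Fiber S))
    (hQ : Q.asIdeal.comap (Algebra.TensorProduct.includeRight : S →ₐ[R] P.asIdeal.Fiber S).toRingHom
      = q.asIdeal) :
    fibLD (PrimeSpectrum.comap (algebraMap R S)) q =
      FlatMor.localDim (PrimeSpectrum (P.asIdeal.Fiber S)) Q := by
  subst h
  rw [fibLD_comap_eq]
  congr 1
  apply (PrimeSpectrum.preimageHomeomorphFiber R S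
    (PrimeSpectrum.comap (algebraMap R S) q)).symm.injective
  rw [Homeomorph.symm_apply_apply]
  apply Subtype.ext
  apply PrimeSpectrum.ext
  exact hQ.symm

end FibLD

section Gens

variable (R S' : Type u) [CommRing R] [CommRing S'] [Algebra R S'] (n : ℕ)

/-- Step 1: generators of the kernel of the fibre presentation near the point, lifted to the
kernel of the presentation. -/
theorem exists_lifted_generators (p : Ideal R) [p.IsPrime]
    (π : MvPolynomial (Fin n) R →ₐ[R] S')
    (ψ : MvPolynomial (Fin n) p.ResidueField →ₐ[p.ResidueField] p.Fiber S')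
    (hψ : Function.Surjective ψ)
    (hkerψ : RingHom.ker ψ.toRingHom = (RingHom.ker π.toRingHom).map (mu R p))
    (Q' : Ideal (p.Fiber S')) [Q'.IsPrime]
    (Qb : Ideal (MvPolynomial (Fin n) p.ResidueField)) [Qb.IsPrime] (hQb : Qb = Q'.comap ψ.toRingHom)
    (hCI : Synt.IsCIOver p.ResidueField (Localization.AtPrime Q')) :
    ∃ (c : ℕ) (F : Fin c → MvPolynomial (Fin n) R), (∀ j, F j ∈ RingHom.ker π.toRingHom) ∧
      (((Ideal.span (Set.range F)).map (mu R p)).map
        (algebraMap (MvPolynomial (Fin n) p.ResidueField) (Localization.AtPrime Qb)) =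
        (RingHom.ker ψ.toRingHom).map
          (algebraMap (MvPolynomial (Fin n) p.ResidueField) (Localization.AtPrime Qb))) ∧
      (c : ℕ∞) ≤ ((RingHom.ker ψ.toRingHom).map
        (algebraMap (MvPolynomial (Fin n) p.ResidueField) (Localization.AtPrime Qb))).height := by
  classical
  obtain ⟨ρ, hρ, -, hkerρ⟩ := exists_atPrime_cover ψ hψ Q' Qb hQb
  have hess : Algebra.EssFiniteType p.ResidueField (Localization.AtPrime Qb) := by
    have : Algebra.EssFiniteType (MvPolynomial (Fin n) p.ResidueField)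
        (Localization.AtPrime Qb) :=
      Algebra.EssFiniteType.of_isLocalization _ Qb.primeCompl
    exact Algebra.EssFiniteType.comp p.ResidueField (MvPolynomial (Fin n) p.ResidueField) _
  have hci := isCI_ker_of_isCIOver p.ResidueField _ hCI (Localization.AtPrime Qb) ρ hρ
  rw [hkerρ] at hci
  obtain ⟨c, a, haI, hspan, hht⟩ := exists_generators_of_isCI Qb (RingHom.ker ψ.toRingHom) hci
  have hlift : ∀ j, ∃ r ∉ p, ∃ y ∈ RingHom.ker π.toRingHom,
      C (algebraMap R p.ResidueField r) * a j = mu R p y := fun j =>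
    exists_C_mul_eq_map_of_mem_map R p (RingHom.ker π.toRingHom) (a j) (hkerψ ▸ haI j)
  choose r hr F hF hFa using hlift
  have hspanF : Ideal.span (Set.range fun j => mu R p (F j)) = Ideal.span (Set.range a) := by
    apply le_antisymm
    · rw [Ideal.span_le]
      rintro _ ⟨j, rfl⟩
      show mu R p (F j) ∈ _
      rw [← hFa j]
      exact Ideal.mul_mem_left _ _ (Ideal.subset_span ⟨j, rfl⟩)
    · rw [Ideal.span_le]
      rintro _ ⟨j, rfl⟩
      have h1 : C (algebraMap R p.ResidueField (r j)) * a j ∈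
          Ideal.span (Set.range fun j => mu R p (F j)) := by
        rw [hFa j]
        exact Ideal.subset_span ⟨j, rfl⟩
      exact (Ideal.unit_mul_mem_iff_mem _ (isUnit_C_algebraMap R p (hr j))).mp h1
  have hmapF : (Ideal.span (Set.range F)).map (mu R p) = Ideal.span (Set.range a) := by
    rw [Ideal.map_span, ← Set.range_comp]
    exact hspanF
  refine ⟨c, F, hF, ?_, hht⟩
  rw [hmapF, hspan]

end Gens

section Fib

variable (R S' : Type u) [CommRing R] [CommRing S'] [Algebra R S'] (n c : ℕ)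
  (F : Fin c → MvPolynomial (Fin n) R)

/-- Step 2: the fibre dimension of `S'' = R[x]/(F)` at the point is `≤ n - c`. -/
theorem fibLD_le (p : Ideal R) [p.IsPrime] (π : MvPolynomial (Fin n) R →ₐ[R] S')
    (ψ : MvPolynomial (Fin n) p.ResidueField →ₐ[p.ResidueField] p.Fiber S')
    (hkerψ : RingHom.ker ψ.toRingHom = (RingHom.ker π.toRingHom).map (mu R p))
    (hψμ : ∀ y, ψ (mu R p y) = (1 : p.ResidueField) ⊗ₜ[R] π y)
    (q' : Ideal S') [q'.IsPrime] (hp : p = q'.comap (algebraMap R S'))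
    (Q' : Ideal (p.Fiber S')) [Q'.IsPrime]
    (hQ' : Q'.comap (Algebra.TensorProduct.includeRight : S' →ₐ[R] p.Fiber S').toRingHom = q')
    (Qb : Ideal (MvPolynomial (Fin n) p.ResidueField)) [Qb.IsPrime] (hQb : Qb = Q'.comap ψ.toRingHom)
    (hF : ∀ j, F j ∈ RingHom.ker π.toRingHom)
    (hc : (c : ℕ∞) ≤ (((Ideal.span (Set.range F)).map (mu R p)).map
        (algebraMap (MvPolynomial (Fin n) p.ResidueField) (Localization.AtPrime Qb))).height)
    (θ : Synt.RelGCIRing R n c F →ₐ[R] S') (hθmk : ∀ y, θ (Ideal.Quotient.mk _ y) = π y)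
    (q'' : Ideal (Synt.RelGCIRing R n c F)) [hq''p : q''.IsPrime]
    (hq'' : q'' = q'.comap θ.toRingHom) :
    fibLD (PrimeSpectrum.comap (algebraMap R (Synt.RelGCIRing R n c F))) ⟨q'', hq''p⟩ ≤
      ((n - c : ℕ) : WithBot ℕ∞) ∧ c ≤ n := by
  obtain ⟨ψ'', hψ'', hkerψ'', hψ''μ⟩ := exists_fibre_pres R p
    (Ideal.Quotient.mkₐ R (Ideal.span (Set.range F))) (Ideal.Quotient.mkₐ_surjective R _)
  have hk0 : RingHom.ker (Ideal.Quotient.mkₐ R (Ideal.span (Set.range F))).toRingHom =
      Ideal.span (Set.range F) := Ideal.Quotient.mkₐ_ker R _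
  rw [hk0] at hkerψ''
  have hFle : Ideal.span (Set.range F) ≤ RingHom.ker π.toRingHom := by
    rw [Ideal.span_le]
    rintro _ ⟨j, rfl⟩
    exact hF j
  have hkerQb : RingHom.ker ψ.toRingHom ≤ Qb := by
    intro b hb
    rw [hQb, Ideal.mem_comap]
    have : ψ.toRingHom b = 0 := hb
    rw [this]
    exact Q'.zero_mem
  have hker''Qb : RingHom.ker ψ''.toRingHom ≤ Qb := by
    rw [hkerψ'']
    exact (Ideal.map_mono hFle).trans (hkerψ ▸ hkerQb)
  have hQ''p : (Qb.map ψ''.toRingHom).IsPrime :=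
    Ideal.map_isPrime_of_surjective hψ'' hker''Qb
  have hcomap'' : Qb = (Qb.map ψ''.toRingHom).comap ψ''.toRingHom := by
    rw [Ideal.comap_map_of_surjective ψ''.toRingHom hψ'', ← RingHom.ker_eq_comap_bot]
    exact (sup_of_le_left hker''Qb).symm
  have hc'' : (c : ℕ∞) ≤ ((RingHom.ker ψ''.toRingHom).map
      (algebraMap (MvPolynomial (Fin n) p.ResidueField) (Localization.AtPrime Qb))).height := by
    rw [hkerψ'']
    exact hc
  have key := @Groth.Agent.Lib.Seat62.SyntNhdC.localDim_le_of_le_height p.ResidueField _ n c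
    (p.Fiber (Synt.RelGCIRing R n c F)) _ _ ψ'' hψ'' (Qb.map ψ''.toRingHom) hQ''p Qb _ hcomap''
  obtain ⟨hLD, hcn⟩ := key (by convert hc'' using 4)
  refine ⟨?_, hcn⟩
  have hcontr : (Qb.map ψ''.toRingHom).comap
      (Algebra.TensorProduct.includeRight : Synt.RelGCIRing R n c F →ₐ[R]
        p.Fiber (Synt.RelGCIRing R n c F)).toRingHom = q'' := by
    ext s
    obtain ⟨y, rfl⟩ := Ideal.Quotient.mk_surjective s
    rw [Ideal.mem_comap, hq'', Ideal.mem_comap]
    have e1 : (Algebra.TensorProduct.includeRight : Synt.RelGCIRing R n c F →ₐ[R]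
        p.Fiber (Synt.RelGCIRing R n c F)).toRingHom (Ideal.Quotient.mk _ y) =
        ψ''.toRingHom (mu R p y) := (hψ''μ y).symm
    rw [e1, ← Ideal.mem_comap, ← hcomap'', hQb, Ideal.mem_comap]
    show ψ (mu R p y) ∈ Q' ↔ θ (Ideal.Quotient.mk _ y) ∈ q'
    rw [hψμ, hθmk, ← hQ']
    rfl
  have hcomapq'' : q''.comap (algebraMap R (Synt.RelGCIRing R n c F)) = p := by
    rw [hp, hq'', Ideal.comap_comap]
    congr 1
    ext x
    exact θ.commutes x
  rw [fibLD_eq_localDim R (Synt.RelGCIRing R n c F) ⟨p, inferInstance⟩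
    ⟨q'', hq''p⟩ (PrimeSpectrum.ext hcomapq'') ⟨Qb.map ψ''.toRingHom, hQ''p⟩ hcontr]
  exact hLD

end Fib

section Ker

variable (R S' : Type u) [CommRing R] [CommRing S'] [Algebra R S'] (n c : ℕ)
  (F : Fin c → MvPolynomial (Fin n) R)

/-- Step 3: near the point, the kernel of the presentation lies in `(F) + p R[x]`. -/
theorem exists_mul_mem_sup (p : Ideal R) [p.IsPrime] (π : MvPolynomial (Fin n) R →ₐ[R] S')
    (hfgπ : (RingHom.ker π.toRingHom).FG)
    (ψ : MvPolynomial (Fin n) p.ResidueField →ₐ[p.ResidueField] p.Fiber S')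
    (hkerψ : RingHom.ker ψ.toRingHom = (RingHom.ker π.toRingHom).map (mu R p))
    (hψμ : ∀ y, ψ (mu R p y) = (1 : p.ResidueField) ⊗ₜ[R] π y)
    (q' : Ideal S') [q'.IsPrime]
    (Q' : Ideal (p.Fiber S')) [Q'.IsPrime]
    (hQ' : Q'.comap (Algebra.TensorProduct.includeRight : S' →ₐ[R] p.Fiber S').toRingHom = q')
    (Qb : Ideal (MvPolynomial (Fin n) p.ResidueField)) [Qb.IsPrime] (hQb : Qb = Q'.comap ψ.toRingHom)
    (hloc : (((Ideal.span (Set.range F)).map (mu R p)).map
        (algebraMap (MvPolynomial (Fin n) p.ResidueField) (Localization.AtPrime Qb)) =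
        (RingHom.ker ψ.toRingHom).map
          (algebraMap (MvPolynomial (Fin n) p.ResidueField) (Localization.AtPrime Qb))))
    (y : MvPolynomial (Fin n) R) (hy : y ∈ RingHom.ker π.toRingHom) :
    ∃ h₀ : MvPolynomial (Fin n) R, π h₀ ∉ q' ∧
      h₀ * y ∈ Ideal.span (Set.range F) ⊔ p.map (C : R →+* MvPolynomial (Fin n) R) := by
  have hfgψ : (RingHom.ker ψ.toRingHom).FG := by
    rw [hkerψ]
    exact Ideal.FG.map hfgπ _
  obtain ⟨t, ht, htmul⟩ := exists_forall_mul_mem_of_map_le Qb.primeCompl (Localization.AtPrime Qb)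
    (RingHom.ker ψ.toRingHom) ((Ideal.span (Set.range F)).map (mu R p)) hfgψ hloc.ge
  have hμy : mu R p y ∈ RingHom.ker ψ.toRingHom := by
    rw [hkerψ]
    exact Ideal.mem_map_of_mem _ hy
  obtain ⟨r₁, hr₁, t', ht'⟩ := exists_C_mul_eq_map R p t
  obtain ⟨r₂, hr₂, f, hf, hfe⟩ := exists_C_mul_eq_map_of_mem_map R p (Ideal.span (Set.range F))
    (t * mu R p y) (htmul _ hμy)
  have hμh : mu R p (C r₂ * t') =
      C (algebraMap R p.ResidueField r₂) * (C (algebraMap R p.ResidueField r₁) * t) := by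
    rw [ht', map_mul]
    congr 1
    simp only [mu, MvPolynomial.map_C]
  refine ⟨C r₂ * t', ?_, ?_⟩
  · intro hmem
    rw [← hQ', Ideal.mem_comap] at hmem
    have h1 : ψ (mu R p (C r₂ * t')) ∈ Q' := by
      rw [hψμ]
      exact hmem
    have h2 : mu R p (C r₂ * t') ∈ Qb := by
      rw [hQb, Ideal.mem_comap]
      exact h1
    rw [hμh] at h2
    have h3 := (Ideal.unit_mul_mem_iff_mem _ (isUnit_C_algebraMap R p hr₁)).mp
      ((Ideal.unit_mul_mem_iff_mem _ (isUnit_C_algebraMap R p hr₂)).mp h2)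
    exact ht h3
  · have hz : mu R p (C r₂ * t' * y - C r₁ * f) = 0 := by
      have e1 : mu R p (C r₁ * f) = C (algebraMap R p.ResidueField r₁) * mu R p f := by
        rw [map_mul]
        congr 1
        simp only [mu, MvPolynomial.map_C]
      rw [map_sub, map_mul, hμh, e1, ← hfe]
      ring
    have hmem := mem_map_C_of_map_eq_zero R p _ hz
    have e : C r₂ * t' * y = C r₁ * f + (C r₂ * t' * y - C r₁ * f) := by ring
    rw [e]
    exact Submodule.add_mem_sup (Ideal.mul_mem_left _ _ hf) hmem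

end Ker

section Main

variable (R S' : Type u) [CommRing R] [CommRing S'] [Algebra R S']
  [Algebra.FinitePresentation R S']

/-- **Spreading out**: `S'` of finite presentation over `R`, `q'` a prime over `p` such that
`S'_{q'}` is flat over `R` and the local ring of the fibre at (a prime over) `q'` is a complete
intersection over `κ(p)`.  Then some `S'_g`, `g ∉ q'`, is a relative global complete
intersection over `R`. -/
theorem exists_away_relGCI (p : Ideal R) [p.IsPrime] (q' : Ideal S') [q'.IsPrime]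
    (hp : p = q'.comap (algebraMap R S')) (Q' : Ideal (p.Fiber S')) [Q'.IsPrime]
    (hQ' : Q'.comap (Algebra.TensorProduct.includeRight : S' →ₐ[R] p.Fiber S').toRingHom = q')
    (hflat : Module.Flat R (Localization.AtPrime q'))
    (hCI : Synt.IsCIOver p.ResidueField (Localization.AtPrime Q')) :
    ∃ g ∉ q', ∃ (n c : ℕ) (F : Fin c → MvPolynomial (Fin n) R), Synt.IsRelGCI R n c F ∧
      Nonempty (Localization.Away g ≃ₐ[R] Synt.RelGCIRing R n c F) := by
  classical
  obtain ⟨n, π, hπ, hfgπ⟩ := Algebra.FinitePresentation.out (R := R) (A := S')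
  obtain ⟨ψ, hψ, hkerψ, hψμ⟩ := exists_fibre_pres R p π hπ
  have hQbp : (Q'.comap ψ.toRingHom).IsPrime := inferInstance
  obtain ⟨c, F, hF, hloc, hht⟩ :=
    exists_lifted_generators R S' n p π ψ hψ hkerψ Q' (Q'.comap ψ.toRingHom) rfl hCI
  have hFle : Ideal.span (Set.range F) ≤ RingHom.ker π.toRingHom := by
    rw [Ideal.span_le]
    rintro _ ⟨j, rfl⟩
    exact hF j
  let θ : Synt.RelGCIRing R n c F →ₐ[R] S' :=
    Ideal.Quotient.liftₐ (Ideal.span (Set.range F)) π (fun a ha => hFle ha)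
  have hθmk : ∀ y, θ (Ideal.Quotient.mk _ y) = π y := fun y => rfl
  have hθ : Function.Surjective θ := by
    intro s
    obtain ⟨y, rfl⟩ := hπ s
    exact ⟨Ideal.Quotient.mk _ y, rfl⟩
  have hq''p : (q'.comap θ.toRingHom).IsPrime := inferInstance
  have hht' : (c : ℕ∞) ≤ (((Ideal.span (Set.range F)).map (mu R p)).map
        (algebraMap (MvPolynomial (Fin n) p.ResidueField)
          (Localization.AtPrime (Q'.comap ψ.toRingHom)))).height := by
    rw [hloc]
    exact hht
  obtain ⟨hfib, hcn⟩ := fibLD_le R S' n c F p π ψ hkerψ hψμ q' hp Q' hQ'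
    (Q'.comap ψ.toRingHom) rfl hF hht' θ hθmk (q'.comap θ.toRingHom) rfl
  have hcomapq'' : (q'.comap θ.toRingHom).comap (algebraMap R (Synt.RelGCIRing R n c F)) = p := by
    rw [hp, Ideal.comap_comap]
    congr 1
    ext x
    exact θ.commutes x
  -- the kernel of `θ` is finitely generated
  have hkerθ : RingHom.ker θ.toRingHom =
      (RingHom.ker π.toRingHom).map (Ideal.Quotient.mk (Ideal.span (Set.range F))) := by
    apply le_antisymm
    · intro k hk
      obtain ⟨y, rfl⟩ := Ideal.Quotient.mk_surjective k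
      exact Ideal.mem_map_of_mem _ (show y ∈ RingHom.ker π.toRingHom from hk)
    · rw [Ideal.map_le_iff_le_comap]
      intro y hy
      exact hy
  have hfgθ : (RingHom.ker θ.toRingHom).FG := by
    rw [hkerθ]
    exact Ideal.FG.map hfgπ _
  -- near the point the kernel lies in `p S''`
  have hker : ∀ k ∈ RingHom.ker θ.toRingHom, ∃ s ∉ q'.comap θ.toRingHom,
      s * k ∈ ((q'.comap θ.toRingHom).comap (algebraMap R (Synt.RelGCIRing R n c F))).map
        (algebraMap R (Synt.RelGCIRing R n c F)) := by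
    intro k hk
    obtain ⟨y, rfl⟩ := Ideal.Quotient.mk_surjective k
    have hy : y ∈ RingHom.ker π.toRingHom := hk
    obtain ⟨h₀, hh₀, hmem⟩ := exists_mul_mem_sup R S' n c F p π hfgπ ψ hkerψ hψμ q' Q' hQ'
      (Q'.comap ψ.toRingHom) rfl hloc y hy
    refine ⟨Ideal.Quotient.mk _ h₀, hh₀, ?_⟩
    rw [hcomapq'', ← map_mul]
    obtain ⟨f, hf, g, hg, hfg⟩ := Submodule.mem_sup.mp hmem
    rw [← hfg, map_add, Ideal.Quotient.eq_zero_iff_mem.mpr hf, zero_add]
    have h1 := Ideal.mem_map_of_mem (Ideal.Quotient.mk (Ideal.span (Set.range F))) hg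
    rw [Ideal.map_map] at h1
    exact h1
  obtain ⟨s₀, hs₀, hs₀k⟩ := Groth.Agent.Lib.Seat62.SyntNhdA.exists_mul_eq_zero_of_flat θ hθ q'
    (q'.comap θ.toRingHom) rfl hfgθ hflat hker
  -- an open neighbourhood where the fibre dimension is `≤ n - c`
  have hft : Algebra.FiniteType R (Synt.RelGCIRing R n c F) :=
    Algebra.FiniteType.of_surjective (Ideal.Quotient.mkₐ R (Ideal.span (Set.range F)))
      (Ideal.Quotient.mkₐ_surjective R _)
  have hopen := isOpen_setOf_fibLD_comap_le R (Synt.RelGCIRing R n c F) (n - c)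
  obtain ⟨_, ⟨g₁, rfl⟩, hg₁mem, hg₁sub⟩ :=
    PrimeSpectrum.isTopologicalBasis_basic_opens.exists_subset_of_mem_open
      (a := (⟨q'.comap θ.toRingHom, hq''p⟩ : PrimeSpectrum (Synt.RelGCIRing R n c F)))
      hfib hopen
  obtain ⟨h₁, rfl⟩ := Ideal.Quotient.mk_surjective g₁
  obtain ⟨h₂, rfl⟩ := Ideal.Quotient.mk_surjective s₀
  have hg₁ : Ideal.Quotient.mk (Ideal.span (Set.range F)) h₁ ∉ q'.comap θ.toRingHom := hg₁mem
  have hU : ∀ q : PrimeSpectrum (Synt.RelGCIRing R n c F), gOf R n c F (h₁ * h₂) ∉ q.asIdeal →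
      c ≤ n ∧ fibLD (PrimeSpectrum.comap (algebraMap R (Synt.RelGCIRing R n c F))) q ≤
        ((n - c : ℕ) : WithBot ℕ∞) := by
    intro q hq
    refine ⟨hcn, hg₁sub ?_⟩
    show Ideal.Quotient.mk (Ideal.span (Set.range F)) h₁ ∉ q.asIdeal
    intro hmem
    apply hq
    show Ideal.Quotient.mk (Ideal.span (Set.range F)) (h₁ * h₂) ∈ q.asIdeal
    rw [map_mul]
    exact Ideal.mul_mem_right _ _ hmem
  have hrel := Groth.Agent.Lib.Seat62.RelGCINhd.isRelGCI_extRel R n c F (h₁ * h₂) hU
  have hg₀ : ∀ b ∈ RingHom.ker π.toRingHom, h₁ * h₂ * b ∈ Ideal.span (Set.range F) := by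
    intro b hb
    rw [← Ideal.Quotient.eq_zero_iff_mem, mul_assoc, map_mul, map_mul,
      hs₀k (Ideal.Quotient.mk _ b) hb, mul_zero]
  obtain ⟨e⟩ := nonempty_away_quotient_equiv π hπ (Ideal.span (Set.range F)) hFle (h₁ * h₂) hg₀
  refine ⟨π (h₁ * h₂), ?_, n + 1, c + 1, extRel R n c F (h₁ * h₂), hrel,
    ⟨e.symm.trans (awayEquiv R n c F (h₁ * h₂))⟩⟩
  rw [map_mul]
  intro hmem
  rcases Ideal.IsPrime.mem_or_mem inferInstance hmem with h | h
  · exact hg₁ h
  · exact hs₀ h

end Main

end Groth.Agent.Lib.Seat62.SyntNhdD
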