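import Mathlib
import Groth.Agent.Lib.Seat41SyntLocal
import Groth.Agent.Lib.Seat42CISpread

/-!
# Seat62SyntNhdE: transfers along `S ↦ S_g` for the local structure of syntomic maps

* `isSyntomic_of_algEquiv`
* `exists_away_equiv`: `(S_g)_{g'} ≃ₐ[R] S_{g''}` for a suitable `g''` outside a given prime.
* `exists_fibre_prime`: the prime of the fibre of `S_g` over a prime `Q` of the fibre of `S`, with
  isomorphic local ring.
-/

set_option autoImplicit false
universe u

open TensorProduct Groth.Agent.Lib.Seat42.CISpread

namespace Groth.Agent.Lib.Seat62.SyntNhdE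

/-- Being syntomic is invariant under algebra isomorphisms. -/
theorem isSyntomic_of_algEquiv {R S S' : Type u} [CommRing R] [CommRing S] [CommRing S']
    [Algebra R S] [Algebra R S'] (e : S ≃ₐ[R] S') (h : Synt.IsSyntomic R S) :
    Synt.IsSyntomic R S' := by
  obtain ⟨hflat, hfp, hfib⟩ := h
  refine ⟨Module.Flat.of_linearEquiv e.toLinearEquiv.symm, Algebra.FinitePresentation.equiv e,
    fun p => ?_⟩
  exact Groth.Agent.Lib.Seat41.SyntLocal.isLCIOver_of_algEquiv p.asIdeal.ResidueField _ _
    (Algebra.TensorProduct.congr AlgEquiv.refl e) (hfib p)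

section AwayAway

variable (R S : Type u) [CommRing R] [CommRing S] [Algebra R S]

/-- `(S_g)_{g'}` is `S_{g''}` for some `g''` outside `q`, if `g ∉ q` and `g' ∉ q S_g`. -/
theorem exists_away_equiv (g : S) (q : Ideal S) [hq : q.IsPrime] (hg : g ∉ q)
    (g' : Localization.Away g) (hg' : g' ∉ q.map (algebraMap S (Localization.Away g))) :
    ∃ g'' : S, g'' ∉ q ∧ Nonempty (Localization.Away g'' ≃ₐ[R] Localization.Away g') := by
  obtain ⟨m, s, hm⟩ := IsLocalization.Away.surj g g'
  have hunit : IsUnit (algebraMap S (Localization.Away g) g ^ m) :=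
    IsLocalization.Away.algebraMap_pow_isUnit g m
  have hs : s ∉ q := by
    intro hmem
    apply hg'
    have h1 : algebraMap S (Localization.Away g) s ∈ q.map (algebraMap S (Localization.Away g)) :=
      Ideal.mem_map_of_mem _ hmem
    rw [← hm] at h1
    exact (Ideal.unit_mul_mem_iff_mem _ hunit).mp (by rwa [mul_comm] at h1)
  have hassoc : Associated (algebraMap S (Localization.Away g) s) g' := by
    rw [← hm]
    exact (associated_mul_unit_right g' _ hunit).symm
  have : IsLocalization.Away (g * s) (Localization.Away g') :=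
    IsLocalization.Away.mul_of_associated g s g' hassoc
  let e : Localization.Away (g * s) ≃ₐ[S] Localization.Away g' :=
    IsLocalization.algEquiv (Submonoid.powers (g * s)) _ _
  exact ⟨g * s, fun hmem => (hq.mem_or_mem hmem).elim hg hs, ⟨e.restrictScalars R⟩⟩

end AwayAway

section LocEquiv

variable {k A B : Type u} [CommRing k] [CommRing A] [CommRing B] [Algebra k A] [Algebra k B]

/-- An algebra isomorphism induces an isomorphism of the localizations at corresponding primes. -/
theorem nonempty_atPrime_equiv_of_algEquiv (e : A ≃ₐ[k] B) (QB : Ideal B) [QB.IsPrime]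
    (QA : Ideal A) [QA.IsPrime] (h : QA = QB.comap e.toRingHom) :
    Nonempty (Localization.AtPrime QA ≃ₐ[k] Localization.AtPrime QB) := by
  refine ⟨IsLocalization.algEquivOfAlgEquiv (M := QA.primeCompl) (T := QB.primeCompl)
    (Localization.AtPrime QA) (Localization.AtPrime QB) e ?_⟩
  ext x
  constructor
  · rintro ⟨y, hy, rfl⟩
    intro hmem
    apply hy
    rw [h]
    exact hmem
  · intro hx
    refine ⟨e.symm x, ?_, e.apply_symm_apply x⟩
    intro hmem
    apply hx
    have hmem' : e.symm x ∈ QA := hmem
    rw [h, Ideal.mem_comap] at hmem'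
    have : e.toRingHom (e.symm x) = x := e.apply_symm_apply x
    rwa [this] at hmem'

end LocEquiv

section Fibre

variable (R S : Type u) [CommRing R] [CommRing S] [Algebra R S] (p : Ideal R) [p.IsPrime]

/-- The prime of the fibre of `S_g` over a prime `Q` of the fibre of `S` (not containing `g`), with
isomorphic local ring. -/
theorem exists_fibre_prime (g : S) (q : Ideal S) [hq : q.IsPrime] (hg : g ∉ q)
    (Q : Ideal (p.Fiber S)) [hQp : Q.IsPrime]
    (hQ : Q.comap (Algebra.TensorProduct.includeRight : S →ₐ[R] p.Fiber S).toRingHom = q) :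
    ∃ (Q' : Ideal (p.Fiber (Localization.Away g))) (_ : Q'.IsPrime),
      Q'.comap (Algebra.TensorProduct.includeRight :
        Localization.Away g →ₐ[R] p.Fiber (Localization.Away g)).toRingHom =
        q.map (algebraMap S (Localization.Away g)) ∧
      Nonempty (Localization.AtPrime Q' ≃ₐ[p.ResidueField] Localization.AtPrime Q) := by
  have h1g : (1 : p.ResidueField) ⊗ₜ[R] g ∉ Q := by
    intro hmem
    apply hg
    rw [← hQ]
    exact hmem
  let e := IsLocalization.Away.tensorProductEquivTMulRight R p.ResidueField g (Localization.Away g)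
  have hQ''p := isPrime_map_away ((1 : p.ResidueField) ⊗ₜ[R] g) Q h1g
  have hQ'p : ((Q.map (algebraMap (p.Fiber S)
      (Localization.Away ((1 : p.ResidueField) ⊗ₜ[R] g)))).comap e.toRingHom).IsPrime :=
    inferInstance
  refine ⟨_, hQ'p, ?_, ?_⟩
  · have hqp := isPrime_map_away g q hg
    rw [← IsLocalization.map_under (Submonoid.powers g) (Localization.Away g)
      (Ideal.comap (Algebra.TensorProduct.includeRight :
        Localization.Away g →ₐ[R] p.Fiber (Localization.Away g)).toRingHom _)]
    congr 1
    ext s
    rw [Ideal.mem_comap, Ideal.mem_comap, Ideal.mem_comap, ← hQ, Ideal.mem_comap]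
    have h1 : e.toRingHom ((Algebra.TensorProduct.includeRight :
        Localization.Away g →ₐ[R] p.Fiber (Localization.Away g)).toRingHom
          (algebraMap S (Localization.Away g) s)) =
        algebraMap (p.Fiber S) (Localization.Away ((1 : p.ResidueField) ⊗ₜ[R] g))
          ((1 : p.ResidueField) ⊗ₜ[R] s) :=
      IsLocalization.Away.tensorProductEquivTMulRight_tmul (R := R) (S := p.ResidueField) S g
        (Localization.Away g) 1 s
    rw [h1, ← Ideal.mem_comap, comap_map_away _ Q h1g]
    rfl
  · obtain ⟨e₁⟩ := nonempty_atPrime_equiv_of_algEquiv e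
      (Q.map (algebraMap (p.Fiber S) (Localization.Away ((1 : p.ResidueField) ⊗ₜ[R] g)))) _ rfl
    obtain ⟨e₂⟩ := nonempty_atPrime_away_equiv p.ResidueField ((1 : p.ResidueField) ⊗ₜ[R] g) Q h1g
      (Q.map (algebraMap (p.Fiber S) (Localization.Away ((1 : p.ResidueField) ⊗ₜ[R] g)))) rfl
    exact ⟨e₁.trans e₂⟩

end Fibre

end Groth.Agent.Lib.Seat62.SyntNhdE
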