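import Mathlib
import Groth.Agent.Lib.Seat62SyntNhdD
import Groth.Agent.Lib.Seat62SyntNhdE
import Groth.Agent.Lib.Seat62RelGCIBC2
import Groth.Agent.S9146
import Groth.Agent.S9147

/-!
# Seat62SyntCert: finitary certificates for syntomic presentations

For a presentation `S = T[x_1..x_m]/(h_1..h_r)`, a *certificate* consists of finitely many
polynomials `g` generating the unit ideal of `S`, and for each of them relations
`F_1..F_c ∈ (h)` with `g (h) ⊆ (F)` such that `T[x, y]/(F, g y - 1)` is a relative global complete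
intersection.  `S` is syntomic over `T` iff a certificate exists; certificates are stable under base
change and descend to finitely generated subrings.
-/

set_option autoImplicit false
set_option linter.style.haveILetI false
universe u

open TensorProduct MvPolynomial
open Groth.Agent.Lib.Helper4.FibDim Groth.Agent.Lib.Seat62.RelGCIAway
  Groth.Agent.Lib.Seat62.SyntNhdB Groth.Agent.Lib.Seat42.CISpread Groth.Agent.Lib.Seat42.CICover
  Groth.Agent.Lib.Seat42.CIIdeal Groth.Agent.Lib.Seat62.SyntNhdD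
  Groth.Agent.Lib.Seat62.RelGCIBC Groth.Agent.Lib.Seat62.RelGCIBC2

namespace Groth.Agent.Lib.Seat62.SyntCert

section Defs

variable (T : Type u) [CommRing T] (m r : ℕ) (h : Fin r → MvPolynomial (Fin m) T)

/-- A local certificate at `g`. -/
def LocalCert (g : MvPolynomial (Fin m) T) : Prop :=
  ∃ (c : ℕ) (F : Fin c → MvPolynomial (Fin m) T), (∀ j, F j ∈ Ideal.span (Set.range h)) ∧
    (∀ l, g * h l ∈ Ideal.span (Set.range F)) ∧
    Synt.IsRelGCI T (m + 1) (c + 1) (extRel T m c F g)

/-- A (global) certificate. -/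
def Cert : Prop :=
  ∃ s : Finset (MvPolynomial (Fin m) T), (∀ g ∈ s, LocalCert T m r h g) ∧
    (1 : MvPolynomial (Fin m) T) ∈
      Ideal.span (Set.range h) ⊔ Ideal.span (s : Set (MvPolynomial (Fin m) T))

end Defs

section Exists

/-- Abstract form of the existence of local certificates. -/
theorem exists_localCert_aux (R S' : Type u) [CommRing R] [CommRing S'] [Algebra R S'] (n : ℕ)
    (π : MvPolynomial (Fin n) R →ₐ[R] S') (hπ : Function.Surjective π)
    (hfgπ : (RingHom.ker π.toRingHom).FG)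
    (hs : Synt.IsSyntomic R S') (q' : Ideal S') [hq' : q'.IsPrime] :
    ∃ (g : MvPolynomial (Fin n) R) (c : ℕ) (F : Fin c → MvPolynomial (Fin n) R), π g ∉ q' ∧
      (∀ j, F j ∈ RingHom.ker π.toRingHom) ∧
      (∀ b ∈ RingHom.ker π.toRingHom, g * b ∈ Ideal.span (Set.range F)) ∧
      Synt.IsRelGCI R (n + 1) (c + 1) (extRel R n c F g) := by
  classical
  obtain ⟨hflat0, hfp, hfib⟩ := hs
  -- the fibre data
  let P : PrimeSpectrum R := PrimeSpectrum.comap (algebraMap R S') ⟨q', hq'⟩
  let Q := PrimeSpectrum.preimageHomeomorphFiber R S' P ⟨⟨q', hq'⟩, rfl⟩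
  have hQ'0 : Q.asIdeal.comap (Algebra.TensorProduct.includeRight :
      S' →ₐ[R] P.asIdeal.Fiber S').toRingHom = q' := by
    have := (PrimeSpectrum.preimageHomeomorphFiber R S' P).symm_apply_apply ⟨⟨q', hq'⟩, rfl⟩
    exact congrArg (fun z => z.1.asIdeal) this
  have hflat : Module.Flat R (Localization.AtPrime q') := Module.Flat.trans R S' _
  obtain ⟨g0, hg0, hG⟩ := (hfib P).2 Q
  have hCI0 := Groth.Agent.Lib.Seat42.CISpread.isCIOver_atPrime_of_isGlobalCI_away
    P.asIdeal.ResidueField (P.asIdeal.Fiber S') Q.asIdeal g0 hg0 hG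
  -- rename
  obtain ⟨p, hpp, hp, Q', hQ'p, hQ', hCI⟩ : ∃ (p : Ideal R) (_ : p.IsPrime)
      (_ : p = q'.comap (algebraMap R S'))
      (Q' : Ideal (p.Fiber S')) (_ : Q'.IsPrime),
      Q'.comap (Algebra.TensorProduct.includeRight : S' →ₐ[R] p.Fiber S').toRingHom = q' ∧
      Synt.IsCIOver p.ResidueField (Localization.AtPrime Q') :=
    ⟨P.asIdeal, P.2, rfl, Q.asIdeal, Q.2, hQ'0, hCI0⟩
  obtain ⟨ψ, hψ, hkerψ, hψμ⟩ := exists_fibre_pres R p π hπ
  have hQbp : (Q'.comap ψ.toRingHom).IsPrime := inferInstance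
  obtain ⟨c, F, hF, hloc, hht⟩ :=
    exists_lifted_generators R S' n p π ψ hψ hkerψ Q' (Q'.comap ψ.toRingHom) rfl hCI
  have hFle : Ideal.span (Set.range F) ≤ RingHom.ker π.toRingHom := by
    rw [Ideal.span_le]
    rintro _ ⟨j, rfl⟩
    exact hF j
  let θ : Synt.RelGCIRing R n c F →ₐ[R] S' :=
    Ideal.Quotient.liftₐ (Ideal.span (Set.range F)) π (fun a ha => hFle ha)
  have hθmk : ∀ y, θ (Ideal.Quotient.mk _ y) = π y := fun y => rfl
  have hθ : Function.Surjective θ := by
    intro s
    obtain ⟨y, rfl⟩ := hπ s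
    exact ⟨Ideal.Quotient.mk _ y, rfl⟩
  have hq''p : (q'.comap θ.toRingHom).IsPrime := inferInstance
  have hht' : (c : ℕ∞) ≤ (((Ideal.span (Set.range F)).map (mu R p)).map
        (algebraMap (MvPolynomial (Fin n) p.ResidueField)
          (Localization.AtPrime (Q'.comap ψ.toRingHom)))).height := by
    rw [hloc]
    exact hht
  obtain ⟨hfibd, hcn⟩ := fibLD_le R S' n c F p π ψ hkerψ hψμ q' hp Q' hQ'
    (Q'.comap ψ.toRingHom) rfl hF hht' θ hθmk (q'.comap θ.toRingHom) rfl
  have hcomapq'' : (q'.comap θ.toRingHom).comap (algebraMap R (Synt.RelGCIRing R n c F)) = p := by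
    rw [hp, Ideal.comap_comap]
    congr 1
    ext x
    exact θ.commutes x
  have hkerθ : RingHom.ker θ.toRingHom =
      (RingHom.ker π.toRingHom).map (Ideal.Quotient.mk (Ideal.span (Set.range F))) := by
    apply le_antisymm
    · intro k hk
      obtain ⟨y, rfl⟩ := Ideal.Quotient.mk_surjective k
      exact Ideal.mem_map_of_mem _ (show y ∈ RingHom.ker π.toRingHom from hk)
    · rw [Ideal.map_le_iff_le_comap]
      intro y hy
      exact hy
  have hfgθ : (RingHom.ker θ.toRingHom).FG := by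
    rw [hkerθ]
    exact Ideal.FG.map hfgπ _
  have hker : ∀ k ∈ RingHom.ker θ.toRingHom, ∃ s ∉ q'.comap θ.toRingHom,
      s * k ∈ ((q'.comap θ.toRingHom).comap (algebraMap R (Synt.RelGCIRing R n c F))).map
        (algebraMap R (Synt.RelGCIRing R n c F)) := by
    intro k hk
    obtain ⟨y, rfl⟩ := Ideal.Quotient.mk_surjective k
    have hy : y ∈ RingHom.ker π.toRingHom := hk
    obtain ⟨h₀, hh₀, hmem⟩ := exists_mul_mem_sup R S' n c F p π hfgπ ψ
      hkerψ hψμ q' Q' hQ' (Q'.comap ψ.toRingHom) rfl hloc y hy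
    refine ⟨Ideal.Quotient.mk _ h₀, hh₀, ?_⟩
    rw [hcomapq'', ← map_mul]
    obtain ⟨f, hf, g, hg, hfg⟩ := Submodule.mem_sup.mp hmem
    rw [← hfg, map_add, Ideal.Quotient.eq_zero_iff_mem.mpr hf, zero_add]
    have h1 := Ideal.mem_map_of_mem (Ideal.Quotient.mk (Ideal.span (Set.range F))) hg
    rw [Ideal.map_map] at h1
    exact h1
  obtain ⟨s₀, hs₀, hs₀k⟩ := Groth.Agent.Lib.Seat62.SyntNhdA.exists_mul_eq_zero_of_flat θ hθ q'
    (q'.comap θ.toRingHom) rfl hfgθ hflat hker
  have hft : Algebra.FiniteType R (Synt.RelGCIRing R n c F) :=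
    Algebra.FiniteType.of_surjective (Ideal.Quotient.mkₐ R (Ideal.span (Set.range F)))
      (Ideal.Quotient.mkₐ_surjective R _)
  have hopen := isOpen_setOf_fibLD_comap_le R (Synt.RelGCIRing R n c F) (n - c)
  obtain ⟨_, ⟨g₁, rfl⟩, hg₁mem, hg₁sub⟩ :=
    PrimeSpectrum.isTopologicalBasis_basic_opens.exists_subset_of_mem_open
      (a := (⟨q'.comap θ.toRingHom, hq''p⟩ : PrimeSpectrum (Synt.RelGCIRing R n c F)))
      hfibd hopen
  obtain ⟨h₁, rfl⟩ := Ideal.Quotient.mk_surjective g₁
  obtain ⟨h₂, rfl⟩ := Ideal.Quotient.mk_surjective s₀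
  have hg₁ : Ideal.Quotient.mk (Ideal.span (Set.range F)) h₁ ∉ q'.comap θ.toRingHom := hg₁mem
  have hU : ∀ q : PrimeSpectrum (Synt.RelGCIRing R n c F), gOf R n c F (h₁ * h₂) ∉ q.asIdeal →
      c ≤ n ∧ fibLD (PrimeSpectrum.comap (algebraMap R (Synt.RelGCIRing R n c F))) q ≤
        ((n - c : ℕ) : WithBot ℕ∞) := by
    intro q hq
    refine ⟨hcn, hg₁sub ?_⟩
    show Ideal.Quotient.mk (Ideal.span (Set.range F)) h₁ ∉ q.asIdeal
    intro hmem
    apply hq
    show Ideal.Quotient.mk (Ideal.span (Set.range F)) (h₁ * h₂) ∈ q.asIdeal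
    rw [map_mul]
    exact Ideal.mul_mem_right _ _ hmem
  have hrelG := Groth.Agent.Lib.Seat62.RelGCINhd.isRelGCI_extRel R n c F (h₁ * h₂) hU
  have hg₀ : ∀ b ∈ RingHom.ker π.toRingHom, h₁ * h₂ * b ∈ Ideal.span (Set.range F) := by
    intro b hb
    rw [← Ideal.Quotient.eq_zero_iff_mem, mul_assoc, map_mul, map_mul,
      hs₀k (Ideal.Quotient.mk _ b) hb, mul_zero]
  refine ⟨h₁ * h₂, c, F, ?_, hF, hg₀, hrelG⟩
  rw [map_mul]
  intro hmem
  rcases Ideal.IsPrime.mem_or_mem inferInstance hmem with h | h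
  · exact hg₁ h
  · exact hs₀ h

variable (R : Type u) [CommRing R] (n r : ℕ) (hrel : Fin r → MvPolynomial (Fin n) R)

/-- **Local certificates exist** at every prime of a syntomic presentation. -/
theorem exists_localCert (hs : Synt.IsSyntomic R (Synt.RelGCIRing R n r hrel))
    (q' : Ideal (Synt.RelGCIRing R n r hrel)) [hq' : q'.IsPrime] :
    ∃ g : MvPolynomial (Fin n) R, Ideal.Quotient.mk (Ideal.span (Set.range hrel)) g ∉ q' ∧
      LocalCert R n r hrel g := by
  have hkerπ : RingHom.ker (Ideal.Quotient.mkₐ R (Ideal.span (Set.range hrel))).toRingHom =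
      Ideal.span (Set.range hrel) := Ideal.Quotient.mkₐ_ker R _
  have hfgπ : (RingHom.ker (Ideal.Quotient.mkₐ R (Ideal.span (Set.range hrel))).toRingHom).FG := by
    rw [hkerπ]
    exact Submodule.fg_span (Set.finite_range hrel)
  obtain ⟨g, c, F, hg, hF, hg₀, hrelG⟩ := exists_localCert_aux R (Synt.RelGCIRing R n r hrel) n
    (Ideal.Quotient.mkₐ R (Ideal.span (Set.range hrel))) (Ideal.Quotient.mkₐ_surjective R _)
    hfgπ hs q'
  refine ⟨g, hg, c, F, fun j => ?_, fun l => ?_, hrelG⟩
  · rw [← hkerπ]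
    exact hF j
  · apply hg₀
    rw [hkerπ]
    exact Ideal.subset_span ⟨l, rfl⟩

/-- **A syntomic presentation has a certificate.** -/
theorem cert_of_isSyntomic (hs : Synt.IsSyntomic R (Synt.RelGCIRing R n r hrel)) :
    Cert R n r hrel := by
  classical
  set G : Set (MvPolynomial (Fin n) R) := {g | LocalCert R n r hrel g} with hGdef
  have htop : Ideal.span (Set.range hrel) ⊔ Ideal.span G = ⊤ := by
    by_contra hne
    obtain ⟨M, hM, hle⟩ := Ideal.exists_le_maximal _ hne
    have hMp : M.IsPrime := hM.isPrime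
    have hker : RingHom.ker (Ideal.Quotient.mk (Ideal.span (Set.range hrel))) ≤ M := by
      rw [Ideal.mk_ker]
      exact le_sup_left.trans hle
    have hqp : (M.map (Ideal.Quotient.mk (Ideal.span (Set.range hrel)))).IsPrime :=
      Ideal.map_isPrime_of_surjective Ideal.Quotient.mk_surjective hker
    have hcomap : (M.map (Ideal.Quotient.mk (Ideal.span (Set.range hrel)))).comap
        (Ideal.Quotient.mk (Ideal.span (Set.range hrel))) = M := by
      rw [Ideal.comap_map_of_surjective _ Ideal.Quotient.mk_surjective, ← RingHom.ker_eq_comap_bot]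
      exact sup_of_le_left hker
    obtain ⟨g, hg, hloc⟩ := exists_localCert R n r hrel hs
      (M.map (Ideal.Quotient.mk (Ideal.span (Set.range hrel))))
    apply hg
    apply Ideal.mem_map_of_mem
    exact hle (le_sup_right (a := Ideal.span (Set.range hrel)) (Ideal.subset_span hloc))
  have hone : (1 : MvPolynomial (Fin n) R) ∈ Ideal.span (Set.range hrel) ⊔ Ideal.span G := by
    rw [htop]
    trivial
  obtain ⟨x, hx, y, hy, hxy⟩ := Submodule.mem_sup.mp hone
  obtain ⟨s, hsG, hys⟩ := Submodule.mem_span_finite_of_mem_span hy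
  refine ⟨s, fun g hg => hsG hg, ?_⟩
  rw [← hxy]
  exact Submodule.add_mem_sup hx hys

/-- **A presentation with a certificate is syntomic.** -/
theorem isSyntomic_of_cert (hc : Cert R n r hrel) :
    Synt.IsSyntomic R (Synt.RelGCIRing R n r hrel) := by
  classical
  obtain ⟨s, hloc, hone⟩ := hc
  refine Groth.Agent.S9146.result R (Synt.RelGCIRing R n r hrel)
    (s.image (Ideal.Quotient.mk (Ideal.span (Set.range hrel)))) ?_ ?_
  · rw [Ideal.eq_top_iff_one]
    obtain ⟨x, hx, y, hy, hxy⟩ := Submodule.mem_sup.mp hone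
    have h1 : (1 : Synt.RelGCIRing R n r hrel) =
        Ideal.Quotient.mk (Ideal.span (Set.range hrel)) y := by
      rw [← map_one (Ideal.Quotient.mk (Ideal.span (Set.range hrel))), ← hxy, map_add,
        Ideal.Quotient.eq_zero_iff_mem.mpr hx, zero_add]
    rw [h1, Finset.coe_image, ← Ideal.map_span]
    exact Ideal.mem_map_of_mem _ hy
  · intro g' hg'
    obtain ⟨g, hg, rfl⟩ := Finset.mem_image.mp hg'
    obtain ⟨c, F, hF, hmul, hrelG⟩ := hloc g hg
    have hkerπ : RingHom.ker (Ideal.Quotient.mkₐ R (Ideal.span (Set.range hrel))).toRingHom =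
        Ideal.span (Set.range hrel) := Ideal.Quotient.mkₐ_ker R _
    have hJ : Ideal.span (Set.range F) ≤
        RingHom.ker (Ideal.Quotient.mkₐ R (Ideal.span (Set.range hrel))).toRingHom := by
      rw [hkerπ, Ideal.span_le]
      rintro _ ⟨j, rfl⟩
      exact hF j
    have hg₀ : ∀ b ∈ RingHom.ker (Ideal.Quotient.mkₐ R (Ideal.span (Set.range hrel))).toRingHom,
        g * b ∈ Ideal.span (Set.range F) := by
      intro b hb
      rw [hkerπ] at hb
      induction hb using Submodule.span_induction with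
      | mem x hx =>
        obtain ⟨l, rfl⟩ := hx
        exact hmul l
      | zero => rw [mul_zero]; exact Ideal.zero_mem _
      | add x y _ _ hx hy => rw [mul_add]; exact Ideal.add_mem _ hx hy
      | smul a x _ hx =>
        rw [smul_eq_mul, mul_left_comm]
        exact Ideal.mul_mem_left _ _ hx
    obtain ⟨e⟩ := nonempty_away_quotient_equiv
      (Ideal.Quotient.mkₐ R (Ideal.span (Set.range hrel))) (Ideal.Quotient.mkₐ_surjective R _)
      (Ideal.span (Set.range F)) hJ g hg₀
    have h2 := Groth.Agent.S9147.result R (n + 1) (c + 1) (extRel R n c F g) hrelG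
    exact Groth.Agent.Lib.Seat62.SyntNhdE.isSyntomic_of_algEquiv
      ((awayEquiv R n c F g).symm.trans e) h2

end Exists

section Map

variable (T T' : Type u) [CommRing T] [CommRing T'] [Algebra T T'] (m r : ℕ)
  (h : Fin r → MvPolynomial (Fin m) T)

/-- Local certificates are stable under base change. -/
theorem LocalCert.map {g : MvPolynomial (Fin m) T} (hg : LocalCert T m r h g) :
    LocalCert T' m r (mapRel T T' m r h) (MvPolynomial.map (algebraMap T T') g) := by
  obtain ⟨c, F, hF, hmul, hrel⟩ := hg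
  refine ⟨c, mapRel T T' m c F, fun j => ?_, fun l => ?_, ?_⟩
  · have := Ideal.mem_map_of_mem (MvPolynomial.map (algebraMap T T')) (hF j)
    rwa [Ideal.map_span, ← Set.range_comp] at this
  · have := Ideal.mem_map_of_mem (MvPolynomial.map (algebraMap T T')) (hmul l)
    rwa [Ideal.map_span, ← Set.range_comp, map_mul] at this
  · rw [← mapRel_extRel]
    exact isRelGCI_baseChange T T' (m + 1) (c + 1) _ hrel

/-- Certificates are stable under base change. -/
theorem Cert.map (hc : Cert T m r h) : Cert T' m r (mapRel T T' m r h) := by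
  classical
  obtain ⟨s, hloc, hone⟩ := hc
  refine ⟨s.image (MvPolynomial.map (algebraMap T T')), ?_, ?_⟩
  · intro g' hg'
    obtain ⟨g, hg, rfl⟩ := Finset.mem_image.mp hg'
    exact LocalCert.map T T' m r h (hloc g hg)
  · have := Ideal.mem_map_of_mem (MvPolynomial.map (algebraMap T T')) hone
    rw [Ideal.map_sup, Ideal.map_span, Ideal.map_span, ← Set.range_comp, map_one] at this
    rw [Finset.coe_image]
    exact this

end Map

end Groth.Agent.Lib.Seat62.SyntCert
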