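import Mathlib
import Groth.Agent.Lib.Seat62SyntCert

/-!
# Seat62SyntCertDescend: syntomic certificates descend to finitely generated subrings
-/

set_option autoImplicit false
set_option linter.style.haveILetI false
universe u

open MvPolynomial
open Groth.Agent.Lib.Seat62.RelGCIAway Groth.Agent.Lib.Seat62.RelGCIBC
  Groth.Agent.Lib.Seat62.RelGCIBC2 Groth.Agent.Lib.Seat62.SyntCert

namespace Groth.Agent.Lib.Seat62.SyntCertDescend

variable {A : Type u} [CommRing A] (m r : ℕ)

theorem fg_finset_sup {α : Type*} (t : Finset α) (f : α → Subalgebra ℤ A) (h : ∀ a, (f a).FG) :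
    (t.sup f).FG := by
  classical
  induction t using Finset.induction_on with
  | empty => simpa using Subalgebra.fg_bot
  | insert a t _ ih => rw [Finset.sup_insert]; exact (h a).sup ih

/-- Transfer of local certificates along inclusions of subrings. -/
theorem localCert_incP_mono {A₁ B C : Subalgebra ℤ A} (h12 : A₁ ≤ B) (h23 : B ≤ C)
    (h : Fin r → MvPolynomial (Fin m) A₁) (g : MvPolynomial (Fin m) B)
    (hg : LocalCert B m r (fun l => incP h12 (h l)) g) :
    LocalCert C m r (fun l => incP (h12.trans h23) (h l)) (incP h23 g) := by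
  letI : Algebra B C := (Subalgebra.inclusion h23).toRingHom.toAlgebra
  have h1 := LocalCert.map B C m r _ hg
  have h2 : mapRel B C m r (fun l => incP h12 (h l)) = fun l => incP (h12.trans h23) (h l) := by
    funext l
    exact incP_incP h12 h23 (h l)
  rw [h2] at h1
  exact h1

/-- **Descent of a local certificate** to a finitely generated subring. -/
theorem LocalCert.descend (A₁ : Subalgebra ℤ A) (h₁ : A₁.FG)
    (h : Fin r → MvPolynomial (Fin m) A₁) (g : MvPolynomial (Fin m) A)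
    (hg : LocalCert A m r (fun l => valP A₁ (h l)) g) :
    ∃ (A₂ : Subalgebra ℤ A) (h12 : A₁ ≤ A₂), A₂.FG ∧ ∃ g₂ : MvPolynomial (Fin m) A₂,
      valP A₂ g₂ = g ∧ LocalCert A₂ m r (fun l => incP h12 (h l)) g₂ := by
  classical
  obtain ⟨c, F, hF, hmul, hrel⟩ := hg
  -- Step 1: lift `g` and `F`
  obtain ⟨A₁', h11', hfg', hsub⟩ := exists_subalgebra_range (n := m)
    (insert g (Set.range F)) ((Set.finite_range F).insert g) A₁ h₁
  obtain ⟨g', hg'⟩ : ∃ g' : MvPolynomial (Fin m) A₁', valP A₁' g' = g :=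
    hsub (Set.mem_insert _ _)
  have hFl : ∀ j, ∃ F' : MvPolynomial (Fin m) A₁', valP A₁' F' = F j :=
    fun j => hsub (Set.mem_insert_of_mem _ ⟨j, rfl⟩)
  choose F' hF' using hFl
  -- Step 2: condition (a)
  have ha : ∀ j, valP A₁' (F' j) ∈
      (Ideal.span (Set.range (fun l => incP h11' (h l)))).map (valP A₁') := by
    intro j
    rw [Ideal.map_span, ← Set.range_comp, hF']
    have h3 : (⇑(valP (n := m) A₁') ∘ fun l => incP h11' (h l)) = fun l => valP A₁ (h l) := by
      funext l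
      exact valP_incP h11' (h l)
    rw [h3]
    exact hF j
  obtain ⟨Aa, h1a, hfga, haa⟩ := exists_subalgebra_mem A₁' hfg' _ F' ha
  -- Step 3: condition (b)
  have hb : ∀ l, valP A₁' (g' * incP h11' (h l)) ∈
      (Ideal.span (Set.range F')).map (valP A₁') := by
    intro l
    rw [Ideal.map_span, ← Set.range_comp, map_mul, hg', valP_incP]
    have h3 : (⇑(valP (n := m) A₁') ∘ F') = F := funext hF'
    rw [h3]
    exact hmul l
  obtain ⟨Ab, h1b, hfgb, hbb⟩ := exists_subalgebra_mem A₁' hfg' _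
    (fun l => g' * incP h11' (h l)) hb
  -- Step 4: condition (c)
  have hc : Synt.IsRelGCI A (m + 1) (c + 1)
      (fun i => valP A₁' (extRel A₁' m c F' g' i)) := by
    have h3 := mapRel_extRel A₁' A m c F' g'
    have h4 : (fun i => valP A₁' (extRel A₁' m c F' g' i)) =
        mapRel A₁' A (m + 1) (c + 1) (extRel A₁' m c F' g') := rfl
    rw [h4, h3]
    have h5 : mapRel A₁' A m c F' = F := funext hF'
    rw [h5]
    have h6 : MvPolynomial.map (algebraMap A₁' A) g' = g := hg'
    rw [h6]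
    exact hrel
  obtain ⟨Ac, h1c, hfgc, hcc⟩ := exists_subalgebra_isRelGCI A₁' hfg' (c + 1) _ hc
  -- Step 5: assemble
  have hle_a : Aa ≤ Aa ⊔ Ab ⊔ Ac := le_sup_left.trans le_sup_left
  have hle_b : Ab ≤ Aa ⊔ Ab ⊔ Ac := le_sup_right.trans le_sup_left
  have hle_c : Ac ≤ Aa ⊔ Ab ⊔ Ac := le_sup_right
  refine ⟨Aa ⊔ Ab ⊔ Ac, h11'.trans (h1a.trans hle_a), (hfga.sup hfgb).sup hfgc,
    incP (h1a.trans hle_a) g', ?_, c, fun j => incP (h1a.trans hle_a) (F' j), ?_, ?_, ?_⟩
  · rw [valP_incP, hg']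
  · intro j
    have h3 := incP_mem_mono h1a hle_a _ (F' j) (haa j)
    rw [Ideal.map_span, ← Set.range_comp] at h3
    have h4 : (⇑(incP (n := m) (h1a.trans hle_a)) ∘ fun l => incP h11' (h l)) =
        fun l => incP (h11'.trans (h1a.trans hle_a)) (h l) := by
      funext l
      exact incP_incP h11' _ (h l)
    rw [h4] at h3
    exact h3
  · intro l
    have h3 := incP_mem_mono h1b hle_b _ _ (hbb l)
    rw [Ideal.map_span, ← Set.range_comp, map_mul, incP_incP] at h3
    exact h3
  · have h3 := isRelGCI_incP_mono h1c hle_c (c + 1) _ hcc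
    letI : Algebra A₁' ↥(Aa ⊔ Ab ⊔ Ac) :=
      (Subalgebra.inclusion (h1a.trans hle_a)).toRingHom.toAlgebra
    have h4 := mapRel_extRel A₁' ↥(Aa ⊔ Ab ⊔ Ac) m c F' g'
    have h5 : (fun i => incP (h1c.trans hle_c) (extRel A₁' m c F' g' i)) =
        mapRel A₁' ↥(Aa ⊔ Ab ⊔ Ac) (m + 1) (c + 1) (extRel A₁' m c F' g') := rfl
    rw [h5, h4] at h3
    exact h3

/-- **Descent of a certificate** to a finitely generated subring. -/
theorem Cert.descend (A₁ : Subalgebra ℤ A) (h₁ : A₁.FG)
    (h : Fin r → MvPolynomial (Fin m) A₁)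
    (hc : Cert A m r (fun l => valP A₁ (h l))) :
    ∃ (A₂ : Subalgebra ℤ A) (h12 : A₁ ≤ A₂), A₂.FG ∧ Cert A₂ m r (fun l => incP h12 (h l)) := by
  classical
  obtain ⟨s, hloc, hone⟩ := hc
  have hex : ∀ g : s, ∃ (A₂ : Subalgebra ℤ A) (h12 : A₁ ≤ A₂), A₂.FG ∧
      ∃ g₂ : MvPolynomial (Fin m) A₂, valP A₂ g₂ = (g : MvPolynomial (Fin m) A) ∧
        LocalCert A₂ m r (fun l => incP h12 (h l)) g₂ :=
    fun g => LocalCert.descend m r A₁ h₁ h g (hloc g g.2)
  choose Ag h1g hfg g₂ hg₂ hcert using hex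
  -- the common subring
  have hA'fg : (A₁ ⊔ Finset.univ.sup Ag).FG := h₁.sup (fg_finset_sup _ _ hfg)
  have h1A' : A₁ ≤ A₁ ⊔ Finset.univ.sup Ag := le_sup_left
  have hgA' : ∀ g : s, Ag g ≤ A₁ ⊔ Finset.univ.sup Ag :=
    fun g => (Finset.le_sup (f := Ag) (Finset.mem_univ g)).trans le_sup_right
  have hcertA' : ∀ g : s, LocalCert ↥(A₁ ⊔ Finset.univ.sup Ag) m r (fun l => incP h1A' (h l))
      (incP (hgA' g) (g₂ g)) :=
    fun g => localCert_incP_mono m r (h1g g) (hgA' g) h (g₂ g) (hcert g)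
  -- the cover condition
  have hcov : ∀ _ : Unit, valP (A₁ ⊔ Finset.univ.sup Ag) (1 : MvPolynomial (Fin m) _) ∈
      (Ideal.span (Set.range (fun l => incP h1A' (h l))) ⊔
        Ideal.span (Set.range (fun g : s => incP (hgA' g) (g₂ g)))).map
          (valP (A₁ ⊔ Finset.univ.sup Ag)) := by
    intro _
    rw [Ideal.map_sup, Ideal.map_span, Ideal.map_span, ← Set.range_comp, ← Set.range_comp, map_one]
    have h3 : (⇑(valP (n := m) (A₁ ⊔ Finset.univ.sup Ag)) ∘ fun l => incP h1A' (h l)) =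
        fun l => valP A₁ (h l) := by
      funext l
      exact valP_incP h1A' (h l)
    have h4 : Set.range (⇑(valP (n := m) (A₁ ⊔ Finset.univ.sup Ag)) ∘
        fun g : s => incP (hgA' g) (g₂ g)) = (s : Set (MvPolynomial (Fin m) A)) := by
      ext x
      constructor
      · rintro ⟨g, rfl⟩
        simp only [Function.comp_apply]
        rw [valP_incP, hg₂]
        exact g.2
      · intro hx
        refine ⟨⟨x, hx⟩, ?_⟩
        simp only [Function.comp_apply]
        rw [valP_incP, hg₂]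
    rw [h3, h4]
    exact hone
  obtain ⟨A₂, hA'2, hfg₂, hcov₂⟩ := exists_subalgebra_mem _ hA'fg _
    (fun _ : Unit => (1 : MvPolynomial (Fin m) ↥(A₁ ⊔ Finset.univ.sup Ag))) hcov
  refine ⟨A₂, h1A'.trans hA'2, hfg₂,
    Finset.univ.image (fun g : s => incP hA'2 (incP (hgA' g) (g₂ g))), ?_, ?_⟩
  · intro x hx
    obtain ⟨g, -, rfl⟩ := Finset.mem_image.mp hx
    exact localCert_incP_mono m r h1A' hA'2 h _ (hcertA' g)
  · have h3 := hcov₂ ()
    rw [Ideal.map_sup, Ideal.map_span, Ideal.map_span, ← Set.range_comp, ← Set.range_comp,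
      map_one] at h3
    have h4 : (⇑(incP (n := m) hA'2) ∘ fun l => incP h1A' (h l)) =
        fun l => incP (h1A'.trans hA'2) (h l) := by
      funext l
      exact incP_incP h1A' hA'2 (h l)
    rw [h4] at h3
    rw [Finset.coe_image, Finset.coe_univ, Set.image_univ]
    exact h3

end Groth.Agent.Lib.Seat62.SyntCertDescend
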