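import Mathlib
import Groth.Agent.Lib.Seat62SyntCertDescend
import Groth.Agent.Lib.Helper18ColimSys

/-!
# Seat62SyntColim: syntomic presentations descend to a finite stage of a directed system
-/

set_option autoImplicit false
set_option linter.style.haveILetI false
universe u

open MvPolynomial TensorProduct
open Groth.Agent.Lib.Seat62.RelGCIAway Groth.Agent.Lib.Seat62.RelGCIBC
  Groth.Agent.Lib.Seat62.RelGCIBC2 Groth.Agent.Lib.Seat62.SyntCert
  Groth.Agent.Lib.Seat62.SyntCertDescend Groth.Agent.Lib.Helper18ColimSys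

namespace Groth.Agent.Lib.Seat62.SyntColim

section Descend

variable {A : Type u} [CommRing A] (m r : ℕ)

/-- A certificate over `A` is defined over a finitely generated subring. -/
theorem exists_fg_subalgebra_cert (h : Fin r → MvPolynomial (Fin m) A) (hc : Cert A m r h) :
    ∃ A₂ : Subalgebra ℤ A, A₂.FG ∧ ∃ h₂ : Fin r → MvPolynomial (Fin m) A₂,
      (∀ l, valP A₂ (h₂ l) = h l) ∧ Cert A₂ m r h₂ := by
  obtain ⟨A₁, -, hfg₁, hsub⟩ := exists_subalgebra_range (n := m) (Set.range h)
    (Set.finite_range h) (⊥ : Subalgebra ℤ A) Subalgebra.fg_bot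
  have hl : ∀ l, ∃ x : MvPolynomial (Fin m) A₁, valP A₁ x = h l := fun l => hsub ⟨l, rfl⟩
  choose h₁ hh₁ using hl
  obtain rfl : h = fun l => valP A₁ (h₁ l) := funext fun l => (hh₁ l).symm
  obtain ⟨A₂, h12, hfg₂, hcert⟩ := Cert.descend m r A₁ hfg₁ h₁ hc
  exact ⟨A₂, hfg₂, fun l => incP h12 (h₁ l), fun l => valP_incP h12 (h₁ l), hcert⟩

end Descend

section Lift

variable {R : Type u} [CommRing R] {ι : Type u} {G : ι → Type u} [∀ i, CommRing (G i)]
    [∀ i, Algebra R (G i)] {A : Type u} [CommRing A] [Algebra R A] {g : ∀ i, G i →ₐ[R] A}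

/-- Ring maps from finitely presented `ℤ`-algebras to the colimit lift to a stage. -/
theorem lift_ringHom (hS : Sys R G A g) (C : Type u) [CommRing C]
    [Algebra.FinitePresentation ℤ C] (ρ : C →+* A) :
    ∃ j, ∃ ρ' : C →+* G j, (g j : G j →+* A).comp ρ' = ρ := by
  classical
  obtain ⟨n, π, hπ, t, ht⟩ := Algebra.FinitePresentation.out (R := ℤ) (A := C)
  obtain ⟨i₀⟩ := hS.nonempty
  obtain ⟨i, -, -, x, hx⟩ := hS.lift_fun i₀ (fun k : Fin n => ρ (π (MvPolynomial.X k)))
  let ev : MvPolynomial (Fin n) ℤ →ₐ[ℤ] G i := MvPolynomial.aeval x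
  have hev : (g i : G i →+* A).comp (ev : MvPolynomial (Fin n) ℤ →+* G i) =
      ρ.comp (π : MvPolynomial (Fin n) ℤ →+* C) := by
    apply MvPolynomial.ringHom_ext
    · intro z
      simp
    · intro k
      simp [ev, hx]
  obtain ⟨j, φ, hφ, hk⟩ := hS.kill i (t.image ev) (by
    intro y hy
    obtain ⟨p, hp, rfl⟩ := Finset.mem_image.mp hy
    have h1 : g i (ev p) = ρ (π p) := congr($hev p)
    rw [h1]
    have : p ∈ RingHom.ker π.toRingHom := ht ▸ Ideal.subset_span hp
    have : π p = 0 := this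
    rw [this, map_zero])
  let ev' : MvPolynomial (Fin n) ℤ →ₐ[ℤ] G j :=
    ((φ : G i →+* G j).comp (ev : MvPolynomial (Fin n) ℤ →+* G i)).toIntAlgHom
  have hker : ∀ p, π p = 0 → ev' p = 0 := by
    have : RingHom.ker π.toRingHom ≤ RingHom.ker ev'.toRingHom := by
      rw [← ht, Ideal.span_le]
      intro p hp
      exact hk _ (Finset.mem_image_of_mem _ hp)
    intro p hp
    exact this hp
  obtain ⟨ρ', hρ'⟩ := exists_desc π hπ ev' hker
  refine ⟨j, (ρ' : C →+* G j), ?_⟩
  ext c
  obtain ⟨p, rfl⟩ := hπ c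
  have h1 : ρ' (π p) = ev' p := congr($hρ' p)
  simp only [RingHom.coe_comp, RingHom.coe_coe, Function.comp_apply]
  rw [h1]
  show g j (φ (ev p)) = ρ (π p)
  have h2 : g j (φ (ev p)) = g i (ev p) := congr($hφ (ev p))
  rw [h2]
  exact congr($hev p)

/-- A polynomial whose coefficients are killed by `φ` is killed by `map φ`. -/
theorem map_eq_zero_of_coeffs {S S' : Type*} [CommRing S] [CommRing S'] (φ : S →+* S') {n : ℕ}
    (d : MvPolynomial (Fin n) S) (hd : ∀ x ∈ d.coeffs, φ x = 0) :
    MvPolynomial.map φ d = 0 := by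
  classical
  ext mon
  rw [MvPolynomial.coeff_map, MvPolynomial.coeff_zero]
  by_cases hc : MvPolynomial.coeff mon d = 0
  · rw [hc, map_zero]
  · exact hd _ (MvPolynomial.coeff_mem_coeffs mon hc)

/-- **Certificates descend to a finite stage.** -/
theorem core_cert (hS : Sys R G A g) (m r : ℕ) (h : Fin r → MvPolynomial (Fin m) R)
    (hc : Cert A m r (mapRel R A m r h)) : ∃ i, Cert (G i) m r (mapRel R (G i) m r h) := by
  classical
  obtain ⟨A₂, hfg, h₂, hh₂, hcert⟩ := exists_fg_subalgebra_cert m r _ hc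
  haveI : Algebra.FiniteType ℤ A₂ := (Subalgebra.fg_iff_finiteType A₂).mp hfg
  haveI : Algebra.FinitePresentation ℤ A₂ := Algebra.FinitePresentation.of_finiteType.mp inferInstance
  obtain ⟨j, ρ', hρ'⟩ := lift_ringHom hS A₂ (algebraMap A₂ A)
  -- the discrepancy
  let d : Fin r → MvPolynomial (Fin m) (G j) :=
    fun l => MvPolynomial.map ρ' (h₂ l) - mapRel R (G j) m r h l
  have hgj : (g j : G j →+* A).comp (algebraMap R (G j)) = algebraMap R A :=
    RingHom.ext fun x => (g j).commutes x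
  have hd : ∀ l, MvPolynomial.map (g j : G j →+* A) (d l) = 0 := by
    intro l
    have h1 : MvPolynomial.map (g j : G j →+* A) (MvPolynomial.map ρ' (h₂ l)) =
        MvPolynomial.map (algebraMap R A) (h l) := by
      rw [MvPolynomial.map_map, hρ']
      exact hh₂ l
    have h2 : MvPolynomial.map (g j : G j →+* A) (mapRel R (G j) m r h l) =
        MvPolynomial.map (algebraMap R A) (h l) := by
      show MvPolynomial.map (g j : G j →+* A) (MvPolynomial.map (algebraMap R (G j)) (h l)) = _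
      rw [MvPolynomial.map_map, hgj]
    show MvPolynomial.map (g j : G j →+* A)
      (MvPolynomial.map ρ' (h₂ l) - mapRel R (G j) m r h l) = 0
    rw [map_sub, h1, h2, sub_self]
  obtain ⟨j', φ, hφ, hk⟩ := hS.kill j (Finset.univ.biUnion fun l => (d l).coeffs) (by
    intro x hx
    obtain ⟨l, -, hxl⟩ := Finset.mem_biUnion.mp hx
    obtain ⟨mon, hmon⟩ := MvPolynomial.mem_coeffs_iff.mp hxl
    have h1 := congrArg (MvPolynomial.coeff mon) (hd l)
    rw [MvPolynomial.coeff_map, MvPolynomial.coeff_zero] at h1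
    rw [hmon.2]
    exact h1)
  have hd' : ∀ l, MvPolynomial.map (φ : G j →+* G j') (d l) = 0 := by
    intro l
    apply map_eq_zero_of_coeffs
    intro x hx
    exact hk x (Finset.mem_biUnion.mpr ⟨l, Finset.mem_univ l, hx⟩)
  refine ⟨j', ?_⟩
  letI : Algebra A₂ (G j') := ((φ : G j →+* G j').comp ρ').toAlgebra
  have h3 := Cert.map A₂ (G j') m r h₂ hcert
  have hφR : (φ : G j →+* G j').comp (algebraMap R (G j)) = algebraMap R (G j') :=
    RingHom.ext fun x => φ.commutes x
  have h4 : mapRel A₂ (G j') m r h₂ = mapRel R (G j') m r h := by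
    funext l
    have h5 : MvPolynomial.map (φ : G j →+* G j')
        (MvPolynomial.map ρ' (h₂ l) - mapRel R (G j) m r h l) = 0 := hd' l
    rw [map_sub, sub_eq_zero, MvPolynomial.map_map] at h5
    show MvPolynomial.map ((φ : G j →+* G j').comp ρ') (h₂ l) = _
    rw [h5]
    show MvPolynomial.map (φ : G j →+* G j') (MvPolynomial.map (algebraMap R (G j)) (h l)) = _
    rw [MvPolynomial.map_map, hφR]
  rw [h4] at h3
  exact h3

/-- **Syntomic presentations descend to a finite stage.** -/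
theorem core_syntomic_pres (hS : Sys R G A g) (m r : ℕ) (h : Fin r → MvPolynomial (Fin m) R)
    (hsyn : Synt.IsSyntomic A (Synt.RelGCIRing A m r (mapRel R A m r h))) :
    ∃ i, Synt.IsSyntomic (G i) (Synt.RelGCIRing (G i) m r (mapRel R (G i) m r h)) := by
  obtain ⟨i, hi⟩ := core_cert hS m r h (cert_of_isSyntomic A m r _ hsyn)
  exact ⟨i, isSyntomic_of_cert (G i) m r _ hi⟩

/-- A finitely presented algebra is a quotient of a polynomial ring by finitely many relations. -/
theorem exists_algEquiv_relGCIRing (R C : Type u) [CommRing R] [CommRing C] [Algebra R C]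
    [Algebra.FinitePresentation R C] :
    ∃ (m r : ℕ) (h : Fin r → MvPolynomial (Fin m) R),
      Nonempty (C ≃ₐ[R] Synt.RelGCIRing R m r h) := by
  obtain ⟨m, f, hf, hfg⟩ := Algebra.FinitePresentation.out (R := R) (A := C)
  obtain ⟨r, h, hh⟩ := Submodule.fg_iff_exists_fin_generating_family.mp hfg
  have hh' : Ideal.span (Set.range h) = RingHom.ker f.toRingHom := hh
  exact ⟨m, r, h, ⟨((Ideal.quotientEquivAlgOfEq R hh').trans
    (Ideal.quotientKerAlgEquivOfSurjective hf)).symm⟩⟩

/-- Tensor form of a presentation. -/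
theorem isSyntomic_tensor_iff (R C : Type u) [CommRing R] [CommRing C] [Algebra R C]
    (m r : ℕ) (h : Fin r → MvPolynomial (Fin m) R) (e : C ≃ₐ[R] Synt.RelGCIRing R m r h)
    (T : Type u) [CommRing T] [Algebra R T] :
    Synt.IsSyntomic T (T ⊗[R] C) ↔
      Synt.IsSyntomic T (Synt.RelGCIRing T m r (mapRel R T m r h)) := by
  have E : (T ⊗[R] C) ≃ₐ[T] Synt.RelGCIRing T m r (mapRel R T m r h) :=
    (Algebra.TensorProduct.congr (AlgEquiv.refl : T ≃ₐ[T] T) e).trans (tensorEquiv R T m r h)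
  exact ⟨Groth.Agent.Lib.Seat62.SyntNhdE.isSyntomic_of_algEquiv E,
    Groth.Agent.Lib.Seat62.SyntNhdE.isSyntomic_of_algEquiv E.symm⟩

/-- **Syntomic base changes descend to a finite stage** (tensor form). -/
theorem core_syntomic (hS : Sys R G A g) (C : Type u) [CommRing C] [Algebra R C]
    [Algebra.FinitePresentation R C] (h : Synt.IsSyntomic A (A ⊗[R] C)) :
    ∃ i, Synt.IsSyntomic (G i) (G i ⊗[R] C) := by
  obtain ⟨m, r, hrel, ⟨e⟩⟩ := exists_algEquiv_relGCIRing R C
  obtain ⟨i, hi⟩ := core_syntomic_pres hS m r hrel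
    ((isSyntomic_tensor_iff R C m r hrel e A).mp h)
  exact ⟨i, (isSyntomic_tensor_iff R C m r hrel e (G i)).mpr hi⟩

end Lift

end Groth.Agent.Lib.Seat62.SyntColim
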