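import Mathlib
import Groth.Agent.Lib.Seat62RelGCIFib
import Groth.Agent.Lib.Helper4FibDimE

/-!
# Seat62SyntFibDim: the fibre dimension on a basic open which is a relative global complete
intersection
-/

set_option autoImplicit false
universe u

open Groth.Agent.Lib.Helper4.FibDim

namespace Groth.Agent.Lib.Seat62.SyntFibDim

/-- If `B_g` is (isomorphic to) a relative global complete intersection `A[x_1..x_n]/(F_1..F_c)`,
the fibre dimension of `Spec B → Spec A` is `n - c` at every point of `D(g)`. -/
theorem fibLD_eq_of_away_equiv (A B : Type u) [CommRing A] [CommRing B] [Algebra A B] (n c : ℕ)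
    (F : Fin c → MvPolynomial (Fin n) A) (hrel : Synt.IsRelGCI A n c F) (g : B)
    (e : Localization.Away g ≃ₐ[A] Synt.RelGCIRing A n c F) (z : PrimeSpectrum B)
    (hz : g ∉ z.asIdeal) :
    fibLD (PrimeSpectrum.comap (algebraMap A B)) z = ((n - c : ℕ) : WithBot ℕ∞) := by
  have hj1 : Topology.IsOpenEmbedding
      (PrimeSpectrum.comap (algebraMap B (Localization.Away g))) :=
    PrimeSpectrum.localization_away_isOpenEmbedding (Localization.Away g) g
  have hj2 : Topology.IsOpenEmbedding
      (PrimeSpectrum.comap (e : Localization.Away g →+* Synt.RelGCIRing A n c F)) :=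
    (PrimeSpectrum.homeomorphOfRingEquiv e.toRingEquiv).symm.isOpenEmbedding
  have hj := hj1.comp hj2
  -- `z` is in the image
  have hzr : z ∈ Set.range (PrimeSpectrum.comap (algebraMap B (Localization.Away g))) := by
    rw [PrimeSpectrum.localization_away_comap_range (Localization.Away g) g]
    exact hz
  obtain ⟨z₁, rfl⟩ := hzr
  obtain ⟨z₂, rfl⟩ : ∃ z₂, PrimeSpectrum.comap
      (e : Localization.Away g →+* Synt.RelGCIRing A n c F) z₂ = z₁ :=
    (PrimeSpectrum.homeomorphOfRingEquiv e.toRingEquiv).symm.surjective z₁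
  have h1 := fibLD_comp_isOpenEmbedding (PrimeSpectrum.comap (algebraMap A B)) _ hj z₂
  have h2 : (PrimeSpectrum.comap (algebraMap A B) : PrimeSpectrum B → PrimeSpectrum A) ∘
      ((PrimeSpectrum.comap (algebraMap B (Localization.Away g))) ∘
        (PrimeSpectrum.comap (e : Localization.Away g →+* Synt.RelGCIRing A n c F))) =
      PrimeSpectrum.comap (algebraMap A (Synt.RelGCIRing A n c F)) := by
    funext w
    apply PrimeSpectrum.ext
    ext a
    simp only [Function.comp_apply, PrimeSpectrum.comap_asIdeal, Ideal.mem_comap]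
    have : (e : Localization.Away g →+* Synt.RelGCIRing A n c F)
        (algebraMap B (Localization.Away g) (algebraMap A B a)) =
        algebraMap A (Synt.RelGCIRing A n c F) a := by
      rw [← IsScalarTower.algebraMap_apply A B (Localization.Away g) a]
      exact e.commutes a
    rw [this]
  rw [h2] at h1
  have h3 : fibLD (PrimeSpectrum.comap (algebraMap A (Synt.RelGCIRing A n c F))) z₂ =
      ((n - c : ℕ) : WithBot ℕ∞) :=
    (fibLD_comap_eq A (Synt.RelGCIRing A n c F) z₂).trans
      (Groth.Agent.Lib.Seat62.RelGCIFib.localDim_fibre_eq A n c F hrel _ _)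
  rw [← h3, h1]
  rfl

end Groth.Agent.Lib.Seat62.SyntFibDim
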