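import Mathlib
import Groth.Agent.Lib.Seat62SyntNhdD
import Groth.Agent.Lib.Seat62RelGCIAway

/-!
# Seat62SyntLift: relative global complete intersections near a point of a syntomic algebra, and
lifting a relative global complete intersection over `R ⧸ I` to one over `R`
-/

set_option autoImplicit false
universe u

open TensorProduct MvPolynomial Groth.Agent.Lib.Seat62.RelGCIAway

namespace Groth.Agent.Lib.Seat62.SyntLift

section Nhd

/-- Every point of a syntomic algebra has a basic open neighbourhood which is a relative global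
complete intersection. -/
theorem exists_relGCI_nhd_of_isSyntomic (R S : Type u) [CommRing R] [CommRing S] [Algebra R S]
    (h : Synt.IsSyntomic R S) (q : Ideal S) [hq : q.IsPrime] :
    ∃ g ∉ q, ∃ (n c : ℕ) (F : Fin c → MvPolynomial (Fin n) R), Synt.IsRelGCI R n c F ∧
      Nonempty (Localization.Away g ≃ₐ[R] Synt.RelGCIRing R n c F) := by
  obtain ⟨hflat, hfp, hfib⟩ := h
  let P : PrimeSpectrum R := PrimeSpectrum.comap (algebraMap R S) ⟨q, hq⟩
  let Q := PrimeSpectrum.preimageHomeomorphFiber R S P ⟨⟨q, hq⟩, rfl⟩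
  have hQ : Q.asIdeal.comap (Algebra.TensorProduct.includeRight :
      S →ₐ[R] P.asIdeal.Fiber S).toRingHom = q := by
    have := (PrimeSpectrum.preimageHomeomorphFiber R S P).symm_apply_apply ⟨⟨q, hq⟩, rfl⟩
    exact congrArg (fun z => z.1.asIdeal) this
  have hflat' : Module.Flat R (Localization.AtPrime q) := Module.Flat.trans R S _
  obtain ⟨g, hg, hG⟩ := (hfib P).2 Q
  have hCI := Groth.Agent.Lib.Seat42.CISpread.isCIOver_atPrime_of_isGlobalCI_away
    P.asIdeal.ResidueField (P.asIdeal.Fiber S) Q.asIdeal g hg hG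
  exact Groth.Agent.Lib.Seat62.SyntNhdD.exists_away_relGCI R S P.asIdeal q rfl Q.asIdeal hQ
    hflat' hCI

end Nhd

section Lift

variable (R : Type u) [CommRing R] (I : Ideal R) (n c : ℕ) (F : Fin c → MvPolynomial (Fin n) R)
  (h : MvPolynomial (Fin n) R)

/-- The reduction of the relations modulo `I`. -/
noncomputable abbrev redRel : Fin c → MvPolynomial (Fin n) (R ⧸ I) :=
  fun i => MvPolynomial.map (Ideal.Quotient.mk I) (F i)

/-- An algebra map to an algebra killed by `I` kills `I B`. -/
theorem map_eq_zero_of_mem_map {B A : Type u} [CommRing B] [CommRing A] [Algebra R B] [Algebra R A]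
    (hA : ∀ r ∈ I, algebraMap R A r = 0) (f : B →ₐ[R] A) (b : B)
    (hb : b ∈ I.map (algebraMap R B)) : f b = 0 := by
  have hle : I.map (algebraMap R B) ≤ RingHom.ker f.toRingHom := by
    rw [Ideal.map_le_iff_le_comap]
    intro r hr
    rw [Ideal.mem_comap, RingHom.mem_ker]
    show f (algebraMap R B r) = 0
    rw [f.commutes, hA r hr]
  exact hle hb

theorem algebraMap_redRing_eq_zero (r : R) (hr : r ∈ I) :
    algebraMap R (Synt.RelGCIRing (R ⧸ I) n c (redRel R I n c F)) r = 0 := by
  rw [IsScalarTower.algebraMap_apply R (R ⧸ I) (Synt.RelGCIRing (R ⧸ I) n c (redRel R I n c F))]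
  have : algebraMap R (R ⧸ I) r = 0 := Ideal.Quotient.eq_zero_iff_mem.mpr hr
  rw [this, map_zero]

/-- `R[x] → (R/I)[x] → (R/I)[x]/(F̄)` as an `R`-algebra map. -/
noncomputable def polyToRed :
    MvPolynomial (Fin n) R →ₐ[R] Synt.RelGCIRing (R ⧸ I) n c (redRel R I n c F) :=
  (Ideal.Quotient.mkₐ R (Ideal.span (Set.range (redRel R I n c F)))).comp
    (MvPolynomial.mapAlgHom (Ideal.Quotient.mkₐ R I))

theorem polyToRed_apply (P : MvPolynomial (Fin n) R) :
    polyToRed R I n c F P = Ideal.Quotient.mk _ (MvPolynomial.map (Ideal.Quotient.mk I) P) := rfl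

theorem polyToRed_rel (i : Fin c) : polyToRed R I n c F (F i) = 0 := by
  rw [polyToRed_apply, Ideal.Quotient.eq_zero_iff_mem]
  exact Ideal.subset_span ⟨i, rfl⟩

/-- `S = R[x]/(F) → (R/I)[x]/(F̄)`. -/
noncomputable def toRed :
    Synt.RelGCIRing R n c F →ₐ[R] Synt.RelGCIRing (R ⧸ I) n c (redRel R I n c F) :=
  Ideal.Quotient.liftₐ (Ideal.span (Set.range F)) (polyToRed R I n c F) (by
    have hle : Ideal.span (Set.range F) ≤ RingHom.ker (polyToRed R I n c F).toRingHom := by
      rw [Ideal.span_le]
      rintro _ ⟨i, rfl⟩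
      exact polyToRed_rel R I n c F i
    intro a ha
    exact hle ha)

theorem toRed_mk (P : MvPolynomial (Fin n) R) :
    toRed R I n c F (Ideal.Quotient.mk _ P) = polyToRed R I n c F P := rfl

/-- The values of the variables `x_1, …, x_n, x_{n+1}` in `(R/I)[x]/(F̄)`: the last one goes to `1`. -/
noncomputable def redVals : Fin (n + 1) → Synt.RelGCIRing (R ⧸ I) n c (redRel R I n c F) :=
  Fin.snoc (fun i => Ideal.Quotient.mk _ (X i)) 1

theorem aeval_redVals_rename (P : MvPolynomial (Fin n) R) :
    aeval (redVals R I n c F) (rename Fin.castSucc P) = polyToRed R I n c F P := by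
  rw [aeval_rename]
  have : (aeval (redVals R I n c F ∘ Fin.castSucc) : MvPolynomial (Fin n) R →ₐ[R] _) =
      polyToRed R I n c F := by
    apply MvPolynomial.algHom_ext
    intro i
    rw [aeval_X, polyToRed_apply, MvPolynomial.map_X]
    simp [redVals]
  rw [this]

variable (hh : Ideal.Quotient.mk (I.map (algebraMap R (Synt.RelGCIRing R n c F)))
        (Ideal.Quotient.mk (Ideal.span (Set.range F)) h) = 1)

include hh in
theorem polyToRed_h : polyToRed R I n c F h = 1 := by
  rw [← map_one (Ideal.Quotient.mk (I.map (algebraMap R (Synt.RelGCIRing R n c F)))),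
    Ideal.Quotient.eq] at hh
  have h0 := map_eq_zero_of_mem_map R I (algebraMap_redRing_eq_zero R I n c F)
    (toRed R I n c F) _ hh
  rw [map_sub, map_one, toRed_mk, sub_eq_zero] at h0
  exact h0

include hh in
theorem aeval_redVals_extRel (j : Fin (c + 1)) :
    aeval (redVals R I n c F) (extRel R n c F h j) = 0 := by
  induction j using Fin.lastCases with
  | last =>
    rw [extRel_last, map_sub, map_mul, map_one, aeval_redVals_rename, aeval_X,
      polyToRed_h R I n c F h hh]
    simp [redVals]
  | cast i =>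
    rw [extRel_castSucc, aeval_redVals_rename, polyToRed_rel]

/-- `T = R[x, x_{n+1}]/(F, h x_{n+1} - 1) → (R/I)[x]/(F̄)`. -/
noncomputable def extToRed :
    Synt.RelGCIRing R (n + 1) (c + 1) (extRel R n c F h) →ₐ[R]
      Synt.RelGCIRing (R ⧸ I) n c (redRel R I n c F) :=
  Ideal.Quotient.liftₐ (Ideal.span (Set.range (extRel R n c F h))) (aeval (redVals R I n c F)) (by
    have hle : Ideal.span (Set.range (extRel R n c F h)) ≤
        RingHom.ker (aeval (redVals R I n c F) : MvPolynomial (Fin (n + 1)) R →ₐ[R] _).toRingHom := by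
      rw [Ideal.span_le]
      rintro _ ⟨j, rfl⟩
      exact aeval_redVals_extRel R I n c F h hh j
    intro a ha
    exact hle ha)

theorem extToRed_mk (P : MvPolynomial (Fin (n + 1)) R) :
    extToRed R I n c F h hh (Ideal.Quotient.mk _ P) = aeval (redVals R I n c F) P := rfl

/-- `T/IT → (R/I)[x]/(F̄)`. -/
noncomputable def quotToRed :
    (Synt.RelGCIRing R (n + 1) (c + 1) (extRel R n c F h) ⧸
      I.map (algebraMap R (Synt.RelGCIRing R (n + 1) (c + 1) (extRel R n c F h)))) →ₐ[R]
      Synt.RelGCIRing (R ⧸ I) n c (redRel R I n c F) :=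
  Ideal.Quotient.liftₐ _ (extToRed R I n c F h hh) (fun a ha =>
    map_eq_zero_of_mem_map R I (algebraMap_redRing_eq_zero R I n c F) (extToRed R I n c F h hh) a ha)

theorem quotToRed_mk (t : Synt.RelGCIRing R (n + 1) (c + 1) (extRel R n c F h)) :
    quotToRed R I n c F h hh (Ideal.Quotient.mk _ t) = extToRed R I n c F h hh t := rfl

/-- `T = R[x, x_{n+1}]/(F, h x_{n+1} - 1)`. -/
abbrev ExtRing : Type u := Synt.RelGCIRing R (n + 1) (c + 1) (extRel R n c F h)

/-- `T/IT`. -/
abbrev QuotRing : Type u := ExtRing R n c F h ⧸ I.map (algebraMap R (ExtRing R n c F h))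

/-- `T/IT` is killed by `I`. -/
theorem algebraMap_quot_eq_zero (r : R) (hr : r ∈ I) :
    (algebraMap R (QuotRing R I n c F h) : R →+* QuotRing R I n c F h) r = 0 := by
  show Ideal.Quotient.mk (I.map (algebraMap R (ExtRing R n c F h)))
    (algebraMap R (ExtRing R n c F h) r) = 0
  exact Ideal.Quotient.eq_zero_iff_mem.mpr (Ideal.mem_map_of_mem _ hr)

/-- `R/I → T/IT`. -/
noncomputable def coeffMap : R ⧸ I →+* QuotRing R I n c F h :=
  Ideal.Quotient.lift I (algebraMap R (QuotRing R I n c F h) : R →+* QuotRing R I n c F h)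
    (algebraMap_quot_eq_zero R I n c F h)

theorem coeffMap_mk (r : R) : coeffMap R I n c F h (Ideal.Quotient.mk I r) =
    (algebraMap R (QuotRing R I n c F h) : R →+* QuotRing R I n c F h) r := rfl

/-- The class of `x_i` (`i ≤ n`) in `T/IT`. -/
noncomputable def quotVals : Fin n → QuotRing R I n c F h :=
  fun i => Ideal.Quotient.mk _ (Ideal.Quotient.mk _ (X i.castSucc))

/-- `(R/I)[x] → T/IT` as an `R`-algebra map. -/
noncomputable def redPolyToQuot : MvPolynomial (Fin n) (R ⧸ I) →ₐ[R] QuotRing R I n c F h :=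
  { eval₂Hom (coeffMap R I n c F h) (quotVals R I n c F h) with
    commutes' := fun r => by
      show eval₂Hom (coeffMap R I n c F h) (quotVals R I n c F h) (C (Ideal.Quotient.mk I r)) = _
      rw [eval₂Hom_C, coeffMap_mk] }

theorem redPolyToQuot_X (i : Fin n) :
    redPolyToQuot R I n c F h (X i) = quotVals R I n c F h i :=
  eval₂Hom_X' _ _ i

theorem redPolyToQuot_map (P : MvPolynomial (Fin n) R) :
    redPolyToQuot R I n c F h (MvPolynomial.map (Ideal.Quotient.mk I) P) =
      Ideal.Quotient.mk _ (Ideal.Quotient.mk _ (rename Fin.castSucc P)) := by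
  have : (redPolyToQuot R I n c F h).comp (MvPolynomial.mapAlgHom (Ideal.Quotient.mkₐ R I)) =
      ((Ideal.Quotient.mkₐ R (I.map (algebraMap R (ExtRing R n c F h)))).comp
        (Ideal.Quotient.mkₐ R (Ideal.span (Set.range (extRel R n c F h))))).comp
        (rename Fin.castSucc : MvPolynomial (Fin n) R →ₐ[R] MvPolynomial (Fin (n + 1)) R) := by
    apply MvPolynomial.algHom_ext
    intro i
    simp only [AlgHom.comp_apply, rename_X]
    show redPolyToQuot R I n c F h (MvPolynomial.map (Ideal.Quotient.mk I) (X i)) = _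
    rw [MvPolynomial.map_X, redPolyToQuot_X]
    rfl
  exact congrArg (fun f => f P) this

/-- `(R/I)[x]/(F̄) → T/IT`. -/
noncomputable def redToQuot : Synt.RelGCIRing (R ⧸ I) n c (redRel R I n c F) →ₐ[R]
    QuotRing R I n c F h :=
  Ideal.Quotient.liftₐ (Ideal.span (Set.range (redRel R I n c F))) (redPolyToQuot R I n c F h) (by
    have hle : Ideal.span (Set.range (redRel R I n c F)) ≤
        RingHom.ker (redPolyToQuot R I n c F h).toRingHom := by
      rw [Ideal.span_le]
      rintro _ ⟨i, rfl⟩
      rw [SetLike.mem_coe, RingHom.mem_ker]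
      show redPolyToQuot R I n c F h (MvPolynomial.map (Ideal.Quotient.mk I) (F i)) = 0
      rw [redPolyToQuot_map, ← extRel_castSucc R n c F h i]
      have : Ideal.Quotient.mk (Ideal.span (Set.range (extRel R n c F h)))
          (extRel R n c F h i.castSucc) = 0 :=
        Ideal.Quotient.eq_zero_iff_mem.mpr (Ideal.subset_span ⟨_, rfl⟩)
      rw [this, map_zero]
    intro a ha
    exact hle ha)

theorem redToQuot_mk (P : MvPolynomial (Fin n) (R ⧸ I)) :
    redToQuot R I n c F h (Ideal.Quotient.mk _ P) = redPolyToQuot R I n c F h P := rfl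

include hh in
/-- The class of `x_{n+1}` in `T/IT` is `1`. -/
theorem mk_X_last : (Ideal.Quotient.mk (I.map (algebraMap R (ExtRing R n c F h)))
    (Ideal.Quotient.mk (Ideal.span (Set.range (extRel R n c F h))) (X (Fin.last n))) :
      QuotRing R I n c F h) = 1 := by
  rw [← map_one (Ideal.Quotient.mk (I.map (algebraMap R (Synt.RelGCIRing R n c F)))),
    Ideal.Quotient.eq] at hh
  have h0 := map_eq_zero_of_mem_map R I (A := QuotRing R I n c F h)
    (algebraMap_quot_eq_zero R I n c F h)
    ((Ideal.Quotient.mkₐ R (I.map (algebraMap R (ExtRing R n c F h)))).comp (toExt R n c F h)) _ hh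
  rw [map_sub, map_one, sub_eq_zero] at h0
  have h1 : (Ideal.Quotient.mk (I.map (algebraMap R (ExtRing R n c F h)))
      (toExt R n c F h (gOf R n c F h)) : QuotRing R I n c F h) = 1 := h0
  have h2 := congrArg (Ideal.Quotient.mk (I.map (algebraMap R (ExtRing R n c F h))))
    (toExt_g_mul R n c F h)
  rw [map_mul, h1] at h2
  exact ((one_mul _).symm.trans h2).trans (map_one _)

include hh in
theorem quotToRed_comp_redToQuot :
    (quotToRed R I n c F h hh).comp (redToQuot R I n c F h) = AlgHom.id R _ := by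
  apply Ideal.Quotient.algHom_ext R
  apply AlgHom.coe_ringHom_injective
  apply MvPolynomial.ringHom_ext
  · intro r
    obtain ⟨r, rfl⟩ := Ideal.Quotient.mk_surjective r
    have e : (C (Ideal.Quotient.mk I r) : MvPolynomial (Fin n) (R ⧸ I)) =
      algebraMap R (MvPolynomial (Fin n) (R ⧸ I)) r := rfl
    show (((quotToRed R I n c F h hh).comp (redToQuot R I n c F h)).comp
      (Ideal.Quotient.mkₐ R _)) (C (Ideal.Quotient.mk I r)) =
      ((AlgHom.id R _).comp (Ideal.Quotient.mkₐ R _)) (C (Ideal.Quotient.mk I r))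
    rw [e, AlgHom.commutes, AlgHom.commutes]
  · intro i
    show quotToRed R I n c F h hh (redToQuot R I n c F h (Ideal.Quotient.mk _ (X i))) =
      Ideal.Quotient.mk _ (X i)
    rw [redToQuot_mk, redPolyToQuot_X]
    show aeval (redVals R I n c F) (X i.castSucc) = _
    rw [aeval_X]
    simp [redVals]

include hh in
theorem redToQuot_comp_quotToRed :
    (redToQuot R I n c F h).comp (quotToRed R I n c F h hh) = AlgHom.id R _ := by
  apply Ideal.Quotient.algHom_ext R
  apply Ideal.Quotient.algHom_ext R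
  apply MvPolynomial.algHom_ext
  intro j
  show redToQuot R I n c F h (aeval (redVals R I n c F) (X j)) =
    Ideal.Quotient.mk _ (Ideal.Quotient.mk _ (X j))
  rw [aeval_X]
  induction j using Fin.lastCases with
  | last =>
    have : redVals R I n c F (Fin.last n) = 1 := by simp [redVals]
    rw [this, map_one]
    exact (mk_X_last R I n c F h hh).symm
  | cast i =>
    have : redVals R I n c F i.castSucc = Ideal.Quotient.mk _ (X i) := by simp [redVals]
    rw [this, redToQuot_mk, redPolyToQuot_X]
    rfl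

/-- `(R/I)[x]/(F̄) ≃ₐ[R] T/IT`. -/
noncomputable def redEquivQuot : Synt.RelGCIRing (R ⧸ I) n c (redRel R I n c F) ≃ₐ[R]
    QuotRing R I n c F h :=
  AlgEquiv.ofAlgHom (redToQuot R I n c F h) (quotToRed R I n c F h hh)
    (redToQuot_comp_quotToRed R I n c F h hh) (quotToRed_comp_redToQuot R I n c F h hh)

end Lift

end Groth.Agent.Lib.Seat62.SyntLift
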