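import Mathlib
import Groth.Agent.Lib.Seat62RelGCIAway
import Groth.Agent.Lib.Seat42CISpread

/-!
# Seat62SyntRegSeq: `(h y - 1, F_1, …, F_c)` is a regular sequence in `A[x, y]` when `F` is weakly
regular on `A[x]_h`
-/

set_option autoImplicit false
universe u

open MvPolynomial

namespace Groth.Agent.Lib.Seat62.SyntRegSeq

section General

variable (A : Type u) [CommRing A] (n : ℕ) (h : MvPolynomial (Fin n) A)

/-- `G ↦ G(x_1, …, x_n)` in `A[x_1, …, x_{n+1}]`. -/
noncomputable abbrev tl : MvPolynomial (Fin n) A →ₐ[A] MvPolynomial (Fin (n + 1)) A :=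
  rename Fin.castSucc

/-- `h x_{n+1} - 1`. -/
noncomputable abbrev a0 : MvPolynomial (Fin (n + 1)) A := tl A n h * X (Fin.last n) - 1

theorem tl_h_mul_X_sub_one_mem : tl A n h * X (Fin.last n) - 1 ∈ Ideal.span {a0 A n h} :=
  Ideal.subset_span rfl

/-- modulo `h y - 1`, `(h y)^k x ≡ x`. -/
theorem pow_mul_sub_mem (x : MvPolynomial (Fin (n + 1)) A) (k : ℕ) :
    (tl A n h * X (Fin.last n)) ^ k * x - x ∈ Ideal.span {a0 A n h} := by
  have h1 : (tl A n h * X (Fin.last n)) ^ k - 1 ∈ Ideal.span {a0 A n h} := by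
    obtain ⟨z, hz⟩ := sub_dvd_pow_sub_pow (tl A n h * X (Fin.last n)) 1 k
    rw [one_pow] at hz
    rw [hz]
    exact Ideal.mul_mem_right _ _ (Ideal.subset_span rfl)
  have : (tl A n h * X (Fin.last n)) ^ k * x - x = ((tl A n h * X (Fin.last n)) ^ k - 1) * x := by
    ring
  rw [this]
  exact Ideal.mul_mem_right _ _ h1

/-- every element of `A[x, y]` is, up to a power of `h` and modulo `h y - 1`, a polynomial in `x`. -/
theorem exists_pow_mul_sub_mem (x : MvPolynomial (Fin (n + 1)) A) :
    ∃ (k : ℕ) (G : MvPolynomial (Fin n) A),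
      tl A n h ^ k * x - tl A n G ∈ Ideal.span {a0 A n h} := by
  induction x using MvPolynomial.induction_on with
  | C a =>
    refine ⟨0, C a, ?_⟩
    have : tl A n (C a) = C a := rename_C _ _
    rw [this, pow_zero, one_mul, sub_self]
    exact Ideal.zero_mem _
  | add p q hp hq =>
    obtain ⟨k₁, G₁, h₁⟩ := hp
    obtain ⟨k₂, G₂, h₂⟩ := hq
    refine ⟨k₁ + k₂, h ^ k₂ * G₁ + h ^ k₁ * G₂, ?_⟩
    have : tl A n h ^ (k₁ + k₂) * (p + q) - tl A n (h ^ k₂ * G₁ + h ^ k₁ * G₂) =
        tl A n h ^ k₂ * (tl A n h ^ k₁ * p - tl A n G₁) +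
          tl A n h ^ k₁ * (tl A n h ^ k₂ * q - tl A n G₂) := by
      simp only [map_add, map_mul, map_pow]
      ring
    rw [this]
    exact Ideal.add_mem _ (Ideal.mul_mem_left _ _ h₁) (Ideal.mul_mem_left _ _ h₂)
  | mul_X p j hp =>
    obtain ⟨k, G, hG⟩ := hp
    induction j using Fin.lastCases with
    | last =>
      refine ⟨k + 1, G, ?_⟩
      have : tl A n h ^ (k + 1) * (p * X (Fin.last n)) - tl A n G =
          (tl A n h ^ k * p) * (tl A n h * X (Fin.last n) - 1) +
            (tl A n h ^ k * p - tl A n G) := by ring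
      rw [this]
      exact Ideal.add_mem _ (Ideal.mul_mem_left _ _ (Ideal.subset_span rfl)) hG
    | cast i =>
      refine ⟨k, G * X i, ?_⟩
      have : tl A n h ^ k * (p * X i.castSucc) - tl A n (G * X i) =
          (tl A n h ^ k * p - tl A n G) * X i.castSucc := by
        simp only [map_mul, rename_X]
        ring
      rw [this]
      exact Ideal.mul_mem_right _ _ hG

section Contract

variable (I : Ideal (MvPolynomial (Fin n) A))

/-- The values of the variables in `(A[x]/I)_h`. -/
noncomputable def locVals : Fin (n + 1) → Localization.Away (Ideal.Quotient.mk I h) :=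
  Fin.snoc (fun i => algebraMap (MvPolynomial (Fin n) A ⧸ I) _ (Ideal.Quotient.mk I (X i)))
    (IsLocalization.Away.invSelf (Ideal.Quotient.mk I h))

theorem aeval_locVals_tl (G : MvPolynomial (Fin n) A) :
    aeval (locVals A n h I) (tl A n G) =
      algebraMap (MvPolynomial (Fin n) A ⧸ I) (Localization.Away (Ideal.Quotient.mk I h))
        (Ideal.Quotient.mk I G) := by
  rw [aeval_rename]
  have : (aeval (locVals A n h I ∘ Fin.castSucc) : MvPolynomial (Fin n) A →ₐ[A] _) =
      (IsScalarTower.toAlgHom A (MvPolynomial (Fin n) A ⧸ I)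
        (Localization.Away (Ideal.Quotient.mk I h))).comp (Ideal.Quotient.mkₐ A I) := by
    apply MvPolynomial.algHom_ext
    intro i
    rw [aeval_X]
    simp [locVals]
  rw [this]
  rfl

theorem aeval_locVals_a0 : aeval (locVals A n h I) (a0 A n h) = 0 := by
  rw [map_sub, map_mul, map_one, aeval_locVals_tl, aeval_X]
  have : locVals A n h I (Fin.last n) = IsLocalization.Away.invSelf (Ideal.Quotient.mk I h) := by
    simp [locVals]
  rw [this, IsLocalization.Away.mul_invSelf, sub_self]

/-- the contraction of `I A[x,y] + (h y - 1)` to `A[x]` is the `h`-saturation of `I`. -/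
theorem exists_pow_mul_mem_of_mem (G : MvPolynomial (Fin n) A)
    (hG : tl A n G ∈ I.map (tl A n) ⊔ Ideal.span {a0 A n h}) : ∃ m : ℕ, h ^ m * G ∈ I := by
  have hle : I.map (tl A n) ⊔ Ideal.span {a0 A n h} ≤
      RingHom.ker (aeval (locVals A n h I) : MvPolynomial (Fin (n + 1)) A →ₐ[A] _).toRingHom := by
    rw [sup_le_iff]
    constructor
    · rw [Ideal.map_le_iff_le_comap]
      intro G' hG'
      rw [Ideal.mem_comap, RingHom.mem_ker]
      show aeval (locVals A n h I) (tl A n G') = 0
      rw [aeval_locVals_tl, Ideal.Quotient.eq_zero_iff_mem.mpr hG', map_zero]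
    · rw [Ideal.span_le, Set.singleton_subset_iff]
      exact aeval_locVals_a0 A n h I
  have h0 : aeval (locVals A n h I) (tl A n G) = 0 := hle hG
  rw [aeval_locVals_tl, IsLocalization.map_eq_zero_iff (Submonoid.powers (Ideal.Quotient.mk I h))] at h0
  obtain ⟨⟨_, m, rfl⟩, hm⟩ := h0
  refine ⟨m, ?_⟩
  rw [← Ideal.Quotient.eq_zero_iff_mem, map_mul, map_pow]
  exact hm

end Contract

section Regular

/-- `h y - 1` is a non-zero-divisor of `A[x, y]`. -/
theorem eq_zero_of_a0_mul_eq_zero (x : MvPolynomial (Fin (n + 1)) A) (hx : a0 A n h * x = 0) :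
    x = 0 := by
  have e1 : x = tl A n h * x * X (Fin.last n) := by
    have : a0 A n h * x = tl A n h * x * X (Fin.last n) - x := by ring
    rw [this, sub_eq_zero] at hx
    exact hx.symm
  have eN : ∀ N : ℕ, x = tl A n h ^ N * x * X (Fin.last n) ^ N := by
    intro N
    induction N with
    | zero => simp
    | succ N ih =>
      have : tl A n h ^ (N + 1) * x * X (Fin.last n) ^ (N + 1) =
          tl A n h ^ N * (tl A n h * x * X (Fin.last n)) * X (Fin.last n) ^ N := by ring
      rw [this, ← e1]
      exact ih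
  by_contra hne
  have hN := eN (x.degreeOf (Fin.last n) + 1)
  have hz : tl A n h ^ (x.degreeOf (Fin.last n) + 1) * x ≠ 0 := by
    intro h0
    rw [h0, zero_mul] at hN
    exact hne hN
  have hdeg := degreeOf_mul_X_self_pow_eq_add_of_ne_zero (Fin.last n)
    (x.degreeOf (Fin.last n) + 1) hz
  rw [← hN] at hdeg
  omega

variable (I : Ideal (MvPolynomial (Fin n) A)) (f : MvPolynomial (Fin n) A)

/-- One step of the regular sequence: if `h` kills the colon ideal `(I : f)` modulo `I`, then `f` is
a non-zero-divisor modulo `I A[x,y] + (h y - 1)`. -/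
theorem mem_of_tl_mul_mem (hcolon : ∀ b : MvPolynomial (Fin n) A, f * b ∈ I → h * b ∈ I)
    (x : MvPolynomial (Fin (n + 1)) A)
    (hx : tl A n f * x ∈ I.map (tl A n) ⊔ Ideal.span {a0 A n h}) :
    x ∈ I.map (tl A n) ⊔ Ideal.span {a0 A n h} := by
  set J := I.map (tl A n) ⊔ Ideal.span {a0 A n h} with hJ
  have hspan : Ideal.span {a0 A n h} ≤ J := le_sup_right
  obtain ⟨k, G, hG⟩ := exists_pow_mul_sub_mem A n h x
  -- `f G` lies in the contraction
  have h1 : tl A n (f * G) ∈ J := by
    have : tl A n (f * G) = tl A n h ^ k * (tl A n f * x) -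
        tl A n f * (tl A n h ^ k * x - tl A n G) := by
      rw [map_mul]
      ring
    rw [this]
    exact Ideal.sub_mem _ (Ideal.mul_mem_left _ _ hx) (Ideal.mul_mem_left _ _ (hspan hG))
  obtain ⟨m, hm⟩ := exists_pow_mul_mem_of_mem A n h I (f * G) h1
  have h2 : h * (h ^ m * G) ∈ I := by
    apply hcolon
    have : f * (h ^ m * G) = h ^ m * (f * G) := by ring
    rw [this]
    exact hm
  -- so `h^(m+1+k) x ∈ J`
  have h3 : tl A n h ^ (m + 1 + k) * x ∈ J := by
    have : tl A n h ^ (m + 1 + k) * x = tl A n (h * (h ^ m * G)) +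
        tl A n h ^ (m + 1) * (tl A n h ^ k * x - tl A n G) := by
      simp only [map_mul, map_pow]
      ring
    rw [this]
    exact Ideal.add_mem _ (le_sup_left (a := I.map (tl A n)) (Ideal.mem_map_of_mem _ h2))
      (Ideal.mul_mem_left _ _ (hspan hG))
  have h4 := pow_mul_sub_mem A n h x (m + 1 + k)
  have h5 : x = X (Fin.last n) ^ (m + 1 + k) * (tl A n h ^ (m + 1 + k) * x) -
      ((tl A n h * X (Fin.last n)) ^ (m + 1 + k) * x - x) := by ring
  rw [h5]
  exact Ideal.sub_mem _ (Ideal.mul_mem_left _ _ h3) (hspan h4)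

end Regular

end General

section Spread

variable (A : Type u) [CommRing A] [IsNoetherianRing A] (n c : ℕ)
  (F : Fin c → MvPolynomial (Fin n) A)

/-- If `F` is weakly regular in the local ring at `q'`, some `h ∉ q'` kills all the colon ideals
`((F_1, …, F_{i-1}) : F_i)` modulo `(F_1, …, F_{i-1})`. -/
theorem exists_colon_killer (q' : Ideal (MvPolynomial (Fin n) A)) [q'.IsPrime]
    (hreg : RingTheory.Sequence.IsWeaklyRegular (Localization.AtPrime q')
      ((List.ofFn F).map (algebraMap (MvPolynomial (Fin n) A) (Localization.AtPrime q')))) :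
    ∃ h : MvPolynomial (Fin n) A, h ∉ q' ∧ ∀ (i : Fin c) (b : MvPolynomial (Fin n) A),
      F i * b ∈ Ideal.ofList ((List.ofFn F).take i) → h * b ∈ Ideal.ofList ((List.ofFn F).take i) := by
  classical
  have key : ∀ i : Fin c, ∃ s ∈ q'.primeCompl, ∀ b ∈ Submodule.comap
      (LinearMap.mulLeft (MvPolynomial (Fin n) A) (F i)) (Ideal.ofList ((List.ofFn F).take i)),
      s * b ∈ Ideal.ofList ((List.ofFn F).take i) := by
    intro i
    apply Groth.Agent.Lib.Seat42.CISpread.exists_forall_mul_mem_of_map_le q'.primeCompl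
      (Localization.AtPrime q')
    · exact IsNoetherian.noetherian _
    · rw [Ideal.map_le_iff_le_comap]
      intro b hb
      rw [Submodule.mem_comap, LinearMap.mulLeft_apply] at hb
      rw [Ideal.mem_comap]
      have hi : (i : ℕ) < ((List.ofFn F).map
          (algebraMap (MvPolynomial (Fin n) A) (Localization.AtPrime q'))).length := by
        rw [List.length_map, List.length_ofFn]
        exact i.2
      have hr := hreg.regular_mod_prev i hi
      rw [isSMulRegular_quotient_iff_mem_of_smul_mem] at hr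
      have hN : (Ideal.ofList (((List.ofFn F).map
          (algebraMap (MvPolynomial (Fin n) A) (Localization.AtPrime q'))).take i) •
          (⊤ : Submodule (Localization.AtPrime q') (Localization.AtPrime q'))) =
          (Ideal.ofList ((List.ofFn F).take i)).map
            (algebraMap (MvPolynomial (Fin n) A) (Localization.AtPrime q')) := by
        rw [smul_eq_mul, Ideal.mul_top, Ideal.map_ofList, List.map_take]
      rw [hN] at hr
      apply hr
      have hel : ((List.ofFn F).map
          (algebraMap (MvPolynomial (Fin n) A) (Localization.AtPrime q')))[(i : ℕ)] =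
          algebraMap (MvPolynomial (Fin n) A) (Localization.AtPrime q') (F i) := by
        rw [List.getElem_map, List.getElem_ofFn]
      rw [hel, smul_eq_mul, ← map_mul]
      exact Ideal.mem_map_of_mem _ hb
  choose s hs hsb using key
  refine ⟨∏ i, s i, ?_, ?_⟩
  · exact Submonoid.prod_mem q'.primeCompl (fun i _ => hs i)
  · intro i b hb
    have h1 := hsb i b (by rw [Submodule.mem_comap, LinearMap.mulLeft_apply]; exact hb)
    rw [← Finset.mul_prod_erase Finset.univ s (Finset.mem_univ i), mul_right_comm]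
    exact Ideal.mul_mem_right _ _ h1

end Spread

section Assemble

variable (A : Type u) [CommRing A] (n c : ℕ) (F : Fin c → MvPolynomial (Fin n) A)
  (h : MvPolynomial (Fin n) A)

/-- The sequence `(h y - 1, F_1, …, F_c)` of `A[x, y]`. -/
noncomputable def seqP : Fin (c + 1) → MvPolynomial (Fin (n + 1)) A :=
  Fin.cons (a0 A n h) (fun i => tl A n (F i))

theorem ofFn_seqP : List.ofFn (seqP A n c F h) = a0 A n h :: (List.ofFn F).map (tl A n) := by
  rw [List.ofFn_succ, List.map_ofFn]
  simp only [seqP, Fin.cons_zero, Fin.cons_succ]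
  rfl

theorem isWeaklyRegular_seqP
    (hcolon : ∀ (i : Fin c) (b : MvPolynomial (Fin n) A),
      F i * b ∈ Ideal.ofList ((List.ofFn F).take i) → h * b ∈ Ideal.ofList ((List.ofFn F).take i)) :
    RingTheory.Sequence.IsWeaklyRegular (MvPolynomial (Fin (n + 1)) A)
      (List.ofFn (seqP A n c F h)) := by
  rw [ofFn_seqP]
  constructor
  intro i hi
  rw [isSMulRegular_quotient_iff_mem_of_smul_mem]
  intro x hx
  rw [smul_eq_mul, Ideal.mul_top] at hx ⊢
  cases i with
  | zero =>
    simp only [List.take_zero, Ideal.ofList_nil, List.getElem_cons_zero, smul_eq_mul] at hx ⊢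
    rw [Ideal.mem_bot] at hx ⊢
    exact eq_zero_of_a0_mul_eq_zero A n h x hx
  | succ i =>
    have hic : i < c := by
      simp only [List.length_cons, List.length_map, List.length_ofFn] at hi
      omega
    have hI : Ideal.ofList ((a0 A n h :: (List.ofFn F).map (tl A n)).take (i + 1)) =
        (Ideal.ofList ((List.ofFn F).take i)).map (tl A n) ⊔ Ideal.span {a0 A n h} := by
      rw [List.take_succ_cons, Ideal.ofList_cons, sup_comm, ← List.map_take]
      congr 1
      exact (Ideal.map_ofList (tl A n).toRingHom _).symm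
    have hel : (a0 A n h :: (List.ofFn F).map (tl A n))[i + 1] = tl A n (F ⟨i, hic⟩) := by
      rw [List.getElem_cons_succ, List.getElem_map, List.getElem_ofFn]
    rw [hI] at hx ⊢
    rw [hel, smul_eq_mul] at hx
    exact mem_of_tl_mul_mem A n h _ (F ⟨i, hic⟩) (hcolon ⟨i, hic⟩) x hx

theorem ofList_seqP : Ideal.ofList (List.ofFn (seqP A n c F h)) =
    Ideal.span (Set.range (Groth.Agent.Lib.Seat62.RelGCIAway.extRel A n c F h)) := by
  unfold Ideal.ofList
  congr 1
  ext z
  simp only [Set.mem_ofPred_eq, List.mem_ofFn, Set.mem_range]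
  constructor
  · rintro ⟨j, rfl⟩
    induction j using Fin.cases with
    | zero =>
      exact ⟨Fin.last c, by
        rw [Groth.Agent.Lib.Seat62.RelGCIAway.extRel_last]; simp [seqP]⟩
    | succ i =>
      exact ⟨i.castSucc, by
        rw [Groth.Agent.Lib.Seat62.RelGCIAway.extRel_castSucc]; simp [seqP]⟩
  · rintro ⟨j, rfl⟩
    induction j using Fin.lastCases with
    | last =>
      exact ⟨0, by rw [Groth.Agent.Lib.Seat62.RelGCIAway.extRel_last]; simp [seqP]⟩
    | cast i =>
      exact ⟨i.succ, by rw [Groth.Agent.Lib.Seat62.RelGCIAway.extRel_castSucc]; simp [seqP]⟩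

end Assemble

end Groth.Agent.Lib.Seat62.SyntRegSeq
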