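import Mathlib

/-!
# Kollár's local tetrachotomy (helper62)

A Noetherian local ring of depth ≤ 1 which is not Artinian and not regular of dimension one admits a
finite modification `R → R'`.
-/

set_option autoImplicit false

universe u

namespace Groth.Agent.Lib.Seat62.Tetra

open IsLocalRing

variable {R : Type u} [CommRing R] [IsLocalRing R] [IsNoetherianRing R]

/-- If every element of the maximal ideal is a zero-divisor on the finite nonzero module `M`,
then the maximal ideal is an associated prime of `M`. -/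
theorem maximalIdeal_mem_associatedPrimes {M : Type*} [AddCommGroup M] [Module R M]
    [Module.Finite R M] [Nontrivial M]
    (h : ∀ r ∈ maximalIdeal R, ¬ IsSMulRegular M r) :
    maximalIdeal R ∈ associatedPrimes R M := by
  have hexist : ∃ p ∈ associatedPrimes R M, maximalIdeal R ≤ p := by
    rcases associatedPrimes.nonempty R M with ⟨Ia, hIa⟩
    apply (Ideal.subset_union_prime_finite (associatedPrimes.finite R M) Ia Ia _).mp
    · rw [biUnion_associatedPrimes_eq_compl_regular R M]
      exact fun r hr ↦ h r hr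
    · exact fun I hin _ _ ↦ IsAssociatedPrime.isPrime hin
  obtain ⟨p, hp, hle⟩ := hexist
  have hpr : p.IsPrime := IsAssociatedPrime.isPrime hp
  have : maximalIdeal R = p := (maximalIdeal.isMaximal R).eq_of_le hpr.ne_top hle
  rw [this]; exact hp

/-- The ideal of elements killed by `𝔪 ^ n`. -/
def J (R : Type u) [CommRing R] [IsLocalRing R] (n : ℕ) : Ideal R where
  carrier := {x | ∀ a ∈ maximalIdeal R ^ n, a * x = 0}
  zero_mem' := by intro a _; simp
  add_mem' := by
    intro x y hx hy a ha
    rw [mul_add, hx a ha, hy a ha, add_zero]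
  smul_mem' := by
    intro c x hx a ha
    rw [smul_eq_mul, mul_left_comm, hx a ha, mul_zero]

theorem mem_J {n : ℕ} {x : R} : x ∈ J R n ↔ ∀ a ∈ maximalIdeal R ^ n, a * x = 0 := Iff.rfl

theorem J_mono : Monotone (J R) := by
  intro n k hnk x hx a ha
  exact hx a (Ideal.pow_le_pow_right hnk ha)

theorem exists_J_stable : ∃ N : ℕ, 1 ≤ N ∧ ∀ k, N ≤ k → J R k = J R N := by
  obtain ⟨N, hN⟩ := (monotone_stabilizes_iff_noetherian (R := R) (M := R)).mpr inferInstance
    ⟨J R, J_mono⟩
  refine ⟨N + 1, by omega, fun k hk => ?_⟩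
  have h1 := hN k (by omega)
  have h2 := hN (N + 1) (by omega)
  simp only [OrderHom.coe_mk] at h1 h2
  rw [← h1, ← h2]

/-- If `𝔪 • y ⊆ J n` then `y ∈ J (n+1)`. -/
theorem mem_J_succ {n : ℕ} {y : R} (h : ∀ a ∈ maximalIdeal R, a * y ∈ J R n) : y ∈ J R (n + 1) := by
  intro b hb
  rw [pow_succ] at hb
  refine Submodule.mul_induction_on hb ?_ ?_
  · intro c hc a ha
    have := h a ha c hc
    rw [mul_assoc]; exact this
  · intro u v hu hv
    rw [add_mul, hu, hv, add_zero]

/-- Depth zero case. -/
theorem caseA (h1 : ¬ IsArtinianRing R) (hA : ∀ r ∈ maximalIdeal R, ¬ IsSMulRegular R r) :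
    ∃ (R' : Type u) (_ : CommRing R') (_ : Algebra R R'), Nontrivial R' ∧ Module.Finite R R' ∧
      ¬ Function.Bijective (algebraMap R R') ∧
      (∃ n : ℕ, (∀ x : R, algebraMap R R' x = 0 → ∀ a ∈ IsLocalRing.maximalIdeal R ^ n, a * x = 0) ∧
        (∀ y : R', ∀ a ∈ IsLocalRing.maximalIdeal R ^ n, a • y ∈ Set.range (algebraMap R R'))) ∧
      IsLocalRing.maximalIdeal R ∉ associatedPrimes R R' := by
  obtain ⟨N, hN1, hN⟩ := exists_J_stable (R := R)
  have hne : J R N ≠ ⊤ := by
    intro htop
    apply h1
    rw [isArtinianRing_iff_isNilpotent_maximalIdeal]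
    refine ⟨N, ?_⟩
    rw [Ideal.zero_eq_bot, eq_bot_iff]
    intro a ha
    have h1' : (1 : R) ∈ J R N := by rw [htop]; trivial
    have := h1' a ha
    simpa using this
  have hass := maximalIdeal_mem_associatedPrimes (M := R) hA
  obtain ⟨_, x, hx⟩ := isAssociatedPrime_iff.mp hass
  have hx0 : x ≠ 0 := by
    rintro rfl
    have : (1 : R) ∈ maximalIdeal R := by
      rw [hx, Submodule.mem_colon_singleton]; simp
    exact (Ideal.ne_top_iff_one _).mp (maximalIdeal.isMaximal R).ne_top this
  have hxJ : x ∈ J R N := by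
    apply J_mono hN1
    intro a ha
    rw [pow_one, hx, Submodule.mem_colon_singleton] at ha
    simpa using ha
  refine ⟨R ⧸ J R N, inferInstance, inferInstance, Ideal.Quotient.nontrivial_iff.mpr hne,
    inferInstance, ?_, ⟨N, ?_, ?_⟩, ?_⟩
  · intro hb
    apply hx0
    apply hb.1
    rw [map_zero]
    exact Ideal.Quotient.eq_zero_iff_mem.mpr hxJ
  · intro y hy
    exact Ideal.Quotient.eq_zero_iff_mem.mp hy
  · intro y a _
    obtain ⟨r, rfl⟩ := Ideal.Quotient.mk_surjective y
    exact ⟨a * r, by rw [Algebra.smul_def]; rfl⟩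
  · intro hass'
    obtain ⟨_, y, hy⟩ := isAssociatedPrime_iff.mp hass'
    obtain ⟨r, rfl⟩ := Ideal.Quotient.mk_surjective y
    have hr : r ∈ J R (N + 1) := by
      apply mem_J_succ
      intro a ha
      rw [hy, Submodule.mem_colon_singleton] at ha
      have : (Ideal.Quotient.mk (J R N)) (a * r) = 0 := by
        simpa [Algebra.smul_def] using ha
      exact Ideal.Quotient.eq_zero_iff_mem.mp this
    rw [hN (N + 1) (by omega)] at hr
    have h0 : (Ideal.Quotient.mk (J R N)) r = 0 := Ideal.Quotient.eq_zero_iff_mem.mpr hr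
    have : (1 : R) ∈ maximalIdeal R := by
      rw [hy, Submodule.mem_colon_singleton, h0]; simp
    exact (Ideal.ne_top_iff_one _).mp (maximalIdeal.isMaximal R).ne_top this


/-- Sub-case: the maximal ideal is principal generated by a regular element: excluded. -/
theorem regular_of_principal (h1 : ¬ IsArtinianRing R) (z : R)
    (hz : maximalIdeal R = Ideal.span {z}) :
    IsRegularLocalRing R ∧ ringKrullDim R = 1 := by
  have hsp : ((maximalIdeal R).spanFinrank : WithBot ℕ∞) ≤ 1 := by
    have := Submodule.spanFinrank_span_le_ncard_of_finite (R := R) (Set.finite_singleton z)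
    rw [Set.ncard_singleton] at this
    rw [hz]
    exact_mod_cast this
  have hdim1 : ringKrullDim R ≤ 1 := (ringKrullDim_le_spanFinrank_maximalIdeal R).trans hsp
  have hdim2 : (1 : WithBot ℕ∞) ≤ ringKrullDim R := by
    by_contra hlt
    apply h1
    rw [isArtinianRing_iff_krullDimLE_zero, Ring.krullDimLE_iff]
    rw [not_le] at hlt
    have key : ∀ x : WithBot ℕ∞, x < 1 → x ≤ 0 := by
      intro x hx
      induction x using WithBot.recBotCoe with
      | bot => exact bot_le
      | coe y =>
        have h' : y < 1 := by exact_mod_cast hx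
        have : y = 0 := Order.lt_one_iff.mp h'
        simp [this]
    exact key _ hlt
  exact ⟨IsRegularLocalRing.of_spanFinrank_maximalIdeal_le R (hsp.trans hdim2),
    le_antisymm hdim1 hdim2⟩


/-- Depth one case. -/
theorem caseB (h1 : ¬ IsArtinianRing R) (h2 : ¬ (IsRegularLocalRing R ∧ ringKrullDim R = 1))
    (f : R) (hf : f ∈ maximalIdeal R) (hreg : IsSMulRegular R f)
    (hB : ∀ g ∈ maximalIdeal R, ¬ IsSMulRegular (QuotSMulTop f R) g) :
    ∃ (R' : Type u) (_ : CommRing R') (_ : Algebra R R'), Nontrivial R' ∧ Module.Finite R R' ∧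
      ¬ Function.Bijective (algebraMap R R') ∧
      (∃ n : ℕ, (∀ x : R, algebraMap R R' x = 0 → ∀ a ∈ IsLocalRing.maximalIdeal R ^ n, a * x = 0) ∧
        (∀ y : R', ∀ a ∈ IsLocalRing.maximalIdeal R ^ n, a • y ∈ Set.range (algebraMap R R'))) ∧
      IsLocalRing.maximalIdeal R ∉ associatedPrimes R R' := by
  have hnt : Nontrivial (QuotSMulTop f R) := nontrivial_quotSMulTop_of_mem_maximalIdeal R hf
  have hass := maximalIdeal_mem_associatedPrimes (M := QuotSMulTop f R) hB
  obtain ⟨_, gbar, hg⟩ := isAssociatedPrime_iff.mp hass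
  obtain ⟨g, rfl⟩ := Submodule.Quotient.mk_surjective _ gbar
  have hone : (1 : R) ∉ maximalIdeal R :=
    (Ideal.ne_top_iff_one _).mp (maximalIdeal.isMaximal R).ne_top
  have hdiv : ∀ a ∈ maximalIdeal R, ∃ w, a * g = f * w := by
    intro a ha
    rw [hg, Submodule.mem_colon_singleton] at ha
    have h0 : (Submodule.Quotient.mk (a • g) : QuotSMulTop f R) = 0 := by
      rw [Submodule.Quotient.mk_smul]; exact (Submodule.mem_bot _).mp ha
    rw [Submodule.Quotient.mk_eq_zero, Submodule.mem_smul_pointwise_iff_exists] at h0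
    obtain ⟨w, -, hw⟩ := h0
    exact ⟨w, by simpa [smul_eq_mul] using hw.symm⟩
  have hndiv : ¬ ∃ w, g = f * w := by
    rintro ⟨w, hw⟩
    have h0 : (Submodule.Quotient.mk g : QuotSMulTop f R) = 0 := by
      rw [Submodule.Quotient.mk_eq_zero, Submodule.mem_smul_pointwise_iff_exists]
      exact ⟨w, trivial, by simpa [smul_eq_mul] using hw.symm⟩
    apply hone
    rw [hg, Submodule.mem_colon_singleton, h0]; simp
  have hfreg : ∀ x y : R, f * x = f * y → x = y := fun x y h => hreg h
  by_cases hB2 : ∃ z ∈ maximalIdeal R, ∃ w, z * g = f * w ∧ w ∉ maximalIdeal R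
  · exfalso
    apply h2
    obtain ⟨z, hz, w, hzw, hw⟩ := hB2
    obtain ⟨u, rfl⟩ := IsLocalRing.notMem_maximalIdeal.mp hw
    have hgreg : ∀ x y : R, g * x = g * y → x = y := by
      intro x y hxy
      have h3 : f * (↑u * x) = f * (↑u * y) := by
        calc f * (↑u * x) = (f * ↑u) * x := by ring
          _ = z * (g * x) := by rw [← hzw]; ring
          _ = z * (g * y) := by rw [hxy]
          _ = (f * ↑u) * y := by rw [← hzw]; ring
          _ = f * (↑u * y) := by ring
      exact u.isUnit.mul_left_cancel (hfreg _ _ h3)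
    apply regular_of_principal h1 z
    apply le_antisymm
    · intro v hv
      obtain ⟨t, ht⟩ := hdiv v hv
      have h3 : g * (v * ↑u) = g * (z * t) := by
        calc g * (v * ↑u) = (v * g) * ↑u := by ring
          _ = (f * ↑u) * t := by rw [ht]; ring
          _ = g * (z * t) := by rw [← hzw]; ring
      have h4 := hgreg _ _ h3
      have : v = z * (t * ↑u⁻¹) := by
        calc v = (v * ↑u) * ↑u⁻¹ := by rw [mul_assoc, Units.mul_inv, mul_one]
          _ = z * (t * ↑u⁻¹) := by rw [h4]; ring
      rw [this]
      exact Ideal.mul_mem_right _ _ (Ideal.subset_span rfl)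
    · rw [Ideal.span_le]
      rintro _ rfl
      exact hz
  · push Not at hB2
    let S := Localization.Away f
    have hfu : IsUnit (algebraMap R S f) := IsLocalization.Away.algebraMap_isUnit f
    have hinj : Function.Injective (algebraMap R S) := by
      rw [injective_iff_map_eq_zero]
      intro a ha
      obtain ⟨⟨_, n, rfl⟩, hc⟩ := (IsLocalization.map_eq_zero_iff (Submonoid.powers f) S a).mp ha
      have : ∀ n : ℕ, f ^ n * a = 0 → a = 0 := by
        intro n
        induction n with
        | zero => intro h; simpa using h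
        | succ k ih =>
          intro h
          apply ih
          apply hfreg
          rw [mul_zero, ← mul_assoc, ← pow_succ']
          exact h
      exact this n hc
    have : Nontrivial S := hinj.nontrivial
    let x : S := IsLocalization.mk' S g (⟨f, Submonoid.mem_powers f⟩ : Submonoid.powers f)
    have hx : algebraMap R S f * x = algebraMap R S g := by
      have := IsLocalization.mk'_spec' S g (⟨f, Submonoid.mem_powers f⟩ : Submonoid.powers f)
      exact this
    let N : Submodule R S := Submodule.map (Algebra.linearMap R S) (maximalIdeal R)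
    have hNmem : ∀ n ∈ N, ∃ a ∈ maximalIdeal R, algebraMap R S a = n := by
      intro n hn
      obtain ⟨a, ha, rfl⟩ := hn
      exact ⟨a, ha, rfl⟩
    have hmemN : ∀ a ∈ maximalIdeal R, algebraMap R S a ∈ N := fun a ha => ⟨a, ha, rfl⟩
    obtain ⟨A', hA'⟩ : ∃ A' : Subalgebra R S, ∀ y, y ∈ A' ↔ ∀ n ∈ N, y * n ∈ N := ⟨
      { carrier := { y | ∀ n ∈ N, y * n ∈ N }
        mul_mem' := fun {a b} ha hb n hn => by rw [mul_assoc]; exact ha _ (hb _ hn)
        one_mem' := fun n hn => by rw [one_mul]; exact hn
        add_mem' := fun {a b} ha hb n hn => by rw [add_mul]; exact N.add_mem (ha _ hn) (hb _ hn)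
        zero_mem' := fun n _ => by rw [zero_mul]; exact N.zero_mem
        algebraMap_mem' := fun r n hn => by
          rw [← Algebra.smul_def]; exact N.smul_mem r hn }, fun y => Iff.rfl⟩
    have hxA : x ∈ A' := by
      rw [hA']
      intro n hn
      obtain ⟨a, ha, rfl⟩ := hNmem n hn
      obtain ⟨w, hw⟩ := hdiv a ha
      have hwm := hB2 a ha w hw
      have : x * algebraMap R S a = algebraMap R S w := by
        apply hfu.mul_left_cancel
        rw [← mul_assoc, hx, ← map_mul, ← map_mul, mul_comm g a, hw]
      rw [this]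
      exact hmemN w hwm
    have : Module.Finite R N :=
      Module.Finite.iff_fg.mpr (Submodule.FG.map _ (IsNoetherian.noetherian _))
    let ff : A' →ₗ[R] (N →ₗ[R] N) :=
      { toFun := fun y => (LinearMap.mulLeft R (y : S)).restrict (p := N) (q := N)
          (fun n hn => (hA' _).mp y.2 n hn)
        map_add' := by
          intro y z; ext n
          change ((y : S) + z) * n = y * n + z * n
          exact add_mul _ _ _
        map_smul' := by
          intro r y; ext n
          change (r • (y : S)) * n = r • ((y : S) * n)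
          exact smul_mul_assoc _ _ _ }
    have hffinj : Function.Injective ff := by
      refine (injective_iff_map_eq_zero ff).mpr ?_
      intro y hy
      have h3 : (y : S) * algebraMap R S f = 0 :=
        congr_arg Subtype.val (LinearMap.congr_fun hy ⟨algebraMap R S f, hmemN f hf⟩)
      have h4 : (y : S) = 0 := by
        rw [mul_comm] at h3
        exact hfu.mul_left_cancel (by rw [h3, mul_zero])
      exact Subtype.ext h4
    have : IsNoetherian R (N →ₗ[R] N) := inferInstance
    have hfin : Module.Finite R A' := Module.Finite.of_injective ff hffinj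
    refine ⟨A', inferInstance, inferInstance, inferInstance, hfin, ?_, ⟨1, ?_, ?_⟩, ?_⟩
    · intro hb
      obtain ⟨r, hr⟩ := hb.2 ⟨x, hxA⟩
      have hr' : algebraMap R S r = x := congr_arg Subtype.val hr
      apply hndiv
      refine ⟨r, ?_⟩
      apply hinj
      rw [map_mul, hr', hx]
    · intro y hy a _
      have hy' : algebraMap R S y = 0 := congr_arg Subtype.val hy
      have : y = 0 := hinj (by rw [hy', map_zero])
      rw [this, mul_zero]
    · intro y a ha
      rw [pow_one] at ha
      have h3 := (hA' _).mp y.2 _ (hmemN a ha)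
      obtain ⟨b, -, hb⟩ := hNmem _ h3
      refine ⟨b, Subtype.ext ?_⟩
      change algebraMap R S b = ((a • y : A') : S)
      rw [hb, Subalgebra.coe_smul, Algebra.smul_def, mul_comm]
    · intro hass'
      obtain ⟨_, y, hy⟩ := isAssociatedPrime_iff.mp hass'
      have hfy : f • y = 0 := by
        have := hf
        rw [hy, Submodule.mem_colon_singleton] at this
        simpa using this
      have h3 : algebraMap R S f * (y : S) = 0 := by
        have := congr_arg Subtype.val hfy
        simpa [Algebra.smul_def] using this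
      have h4 : (y : S) = 0 := hfu.mul_left_cancel (by rw [h3, mul_zero])
      have h5 : y = 0 := Subtype.ext h4
      apply hone
      rw [hy, Submodule.mem_colon_singleton, h5, smul_zero]
      exact Submodule.zero_mem _

/-- Kollár's tetrachotomy: the abstract form. -/
theorem main (h1 : ¬ IsArtinianRing R) (h2 : ¬ (IsRegularLocalRing R ∧ ringKrullDim R = 1))
    (h3 : ∀ f ∈ maximalIdeal R, IsSMulRegular R f →
      ∀ g ∈ maximalIdeal R, ¬ IsSMulRegular (QuotSMulTop f R) g) :
    ∃ (R' : Type u) (_ : CommRing R') (_ : Algebra R R'), Nontrivial R' ∧ Module.Finite R R' ∧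
      ¬ Function.Bijective (algebraMap R R') ∧
      (∃ n : ℕ, (∀ x : R, algebraMap R R' x = 0 → ∀ a ∈ IsLocalRing.maximalIdeal R ^ n, a * x = 0) ∧
        (∀ y : R', ∀ a ∈ IsLocalRing.maximalIdeal R ^ n, a • y ∈ Set.range (algebraMap R R'))) ∧
      IsLocalRing.maximalIdeal R ∉ associatedPrimes R R' := by
  by_cases hA : ∀ r ∈ maximalIdeal R, ¬ IsSMulRegular R r
  · exact caseA h1 hA
  · push Not at hA
    obtain ⟨f, hf, hreg⟩ := hA
    exact caseB h1 h2 f hf hreg (h3 f hf hreg)

end Groth.Agent.Lib.Seat62.Tetra
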