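import Mathlib
import Groth.Agent.Lib.Seat62AffProd

/-!
# Sections of `X × Spec ℤ[G]` over the preimage of an affine open (helper62)

For an affine open `U` of `X` with `A = Γ(X, U)`, the global sections of
`Z = pr₁⁻¹(U) ⊆ X × Spec ℤ[G]` are `A[G]`.
-/

set_option autoImplicit false
set_option linter.style.haveILetI false
set_option linter.unusedSectionVars false
universe u

namespace Groth.Agent.Lib.Seat62.TorusLocal

open CategoryTheory CategoryTheory.Limits AlgebraicGeometry AddMonoidAlgebra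

section Ring

variable (A : Type u) [CommRing A] (G : Type) [AddCommGroup G]

/-- `ℤ[G] → A[G]` (on the `ULift`). -/
noncomputable def i₂ : ULift.{u} (AddMonoidAlgebra ℤ G) →+* AddMonoidAlgebra A G :=
  (liftNCRingHom (Int.castRingHom (AddMonoidAlgebra A G)) (of A G)
    (fun _ _ => Commute.all _ _)).comp (ULift.ringEquiv : ULift.{u} (AddMonoidAlgebra ℤ G) ≃+* _).toRingHom

theorem i₂_single (e : G) : i₂ A G (ULift.up (single e 1)) = single e 1 := by
  have h1 : (ULift.ringEquiv : ULift.{u} (AddMonoidAlgebra ℤ G) ≃+* _) (ULift.up (single e 1)) =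
      single e 1 := rfl
  simp only [i₂, RingHom.comp_apply, RingEquiv.toRingHom_eq_coe, RingHom.coe_coe, h1]
  change liftNC _ _ (single e 1) = _
  rw [liftNC_single]
  simp [of]

theorem ringHom_ext_i {R : Type u} [CommRing R] {h h' : AddMonoidAlgebra A G →+* R}
    (h1 : h.comp singleZeroRingHom = h'.comp singleZeroRingHom)
    (h2 : h.comp (i₂ A G) = h'.comp (i₂ A G)) : h = h' := by
  apply AddMonoidAlgebra.ringHom_ext
  · intro r
    exact RingHom.congr_fun h1 r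
  · intro m
    have := RingHom.congr_fun h2 (ULift.up (single m 1))
    simpa only [RingHom.comp_apply, i₂_single] using this

/-- Ring homs out of `ULift ℤ[G]` are determined by the monomials `t^e`. -/
theorem ulift_ringHom_ext {R : Type u} [CommRing R]
    {φ₁ φ₂ : ULift.{u} (AddMonoidAlgebra ℤ G) →+* R}
    (h : ∀ e : G, φ₁ (ULift.up (single e 1)) = φ₂ (ULift.up (single e 1))) : φ₁ = φ₂ := by
  have key : φ₁.comp (ULift.ringEquiv : ULift.{u} (AddMonoidAlgebra ℤ G) ≃+* _).symm.toRingHom =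
      φ₂.comp (ULift.ringEquiv : ULift.{u} (AddMonoidAlgebra ℤ G) ≃+* _).symm.toRingHom := by
    apply AddMonoidAlgebra.ringHom_ext
    · intro r
      have h1 : (single (0 : G) r : AddMonoidAlgebra ℤ G) = ((r : ℤ) : AddMonoidAlgebra ℤ G) := by
        rw [AddMonoidAlgebra.intCast_def, Int.cast_id]
      rw [h1, map_intCast, map_intCast]
    · intro m
      exact h m
  ext x
  have := RingHom.congr_fun key x.down
  exact this

end Ring

section Sch

variable {X : Scheme.{u}} (G : Type) [AddCommGroup G]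

/-- The split torus `Spec ℤ[G]` (in universe `u`). -/
noncomputable abbrev Tor : Scheme.{u} := Spec (CommRingCat.of (ULift.{u} (AddMonoidAlgebra ℤ G)))

variable (U : X.Opens)

/-- `pr₁⁻¹(U)`. -/
noncomputable abbrev ZU : (X ⨯ Tor G).Opens := (prod.fst : X ⨯ Tor G ⟶ X) ⁻¹ᵁ U

/-- The first projection `Z_U → Spec Γ(X, U)`. -/
noncomputable def aU : (ZU G U).toScheme ⟶ Spec Γ(X, U) :=
  ((prod.fst : X ⨯ Tor G ⟶ X) ∣_ U) ≫ U.toSpecΓ

/-- The second projection `Z_U → T`. -/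
noncomputable def bU : (ZU G U).toScheme ⟶ Tor G := (ZU G U).ι ≫ prod.snd

variable {U} (hU : IsAffineOpen U)

include hU in
theorem exists_lift (W : Scheme.{u}) (α : W ⟶ Spec Γ(X, U)) (β : W ⟶ Tor G) :
    ∃ l : W ⟶ (ZU G U).toScheme, l ≫ aU G U = α ∧ l ≫ bU G U = β := by
  let α₀ : W ⟶ U.toScheme := α ≫ hU.isoSpec.inv
  have hr : Set.range (prod.lift (α₀ ≫ U.ι) β : W ⟶ X ⨯ Tor G) ⊆ Set.range (ZU G U).ι := by
    rw [Scheme.Opens.range_ι]
    rintro _ ⟨w, rfl⟩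
    change (prod.fst : X ⨯ Tor G ⟶ X) ((prod.lift (α₀ ≫ U.ι) β : W ⟶ X ⨯ Tor G) w) ∈ U
    rw [← Scheme.Hom.comp_apply, prod.lift_fst, Scheme.Hom.comp_apply]
    exact (α₀ w).2
  refine ⟨IsOpenImmersion.lift (ZU G U).ι (prod.lift (α₀ ≫ U.ι) β) hr, ?_, ?_⟩
  · have h1 : IsOpenImmersion.lift (ZU G U).ι (prod.lift (α₀ ≫ U.ι) β) hr ≫
        ((prod.fst : X ⨯ Tor G ⟶ X) ∣_ U) = α₀ := by
      rw [← cancel_mono U.ι, Category.assoc, morphismRestrict_ι, ← Category.assoc,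
        IsOpenImmersion.lift_fac, prod.lift_fst]
    rw [aU, ← Category.assoc, h1]
    simp only [α₀, Category.assoc]
    rw [← IsAffineOpen.isoSpec_hom hU, Iso.inv_hom_id, Category.comp_id]
  · rw [bU, ← Category.assoc, IsOpenImmersion.lift_fac, prod.lift_snd]

include hU in
theorem hom_ext (W : Scheme.{u}) (g₁ g₂ : W ⟶ (ZU G U).toScheme)
    (h1 : g₁ ≫ aU G U = g₂ ≫ aU G U) (h2 : g₁ ≫ bU G U = g₂ ≫ bU G U) : g₁ = g₂ := by
  rw [← cancel_mono (ZU G U).ι]
  apply Limits.prod.hom_ext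
  · have h3 : g₁ ≫ ((prod.fst : X ⨯ Tor G ⟶ X) ∣_ U) = g₂ ≫ ((prod.fst : X ⨯ Tor G ⟶ X) ∣_ U) := by
      haveI : Mono U.toSpecΓ := by rw [← IsAffineOpen.isoSpec_hom hU]; infer_instance
      rw [← cancel_mono U.toSpecΓ, Category.assoc, Category.assoc]
      exact h1
    rw [Category.assoc, Category.assoc, ← morphismRestrict_ι, ← Category.assoc, h3, Category.assoc]
  · rw [Category.assoc, Category.assoc]
    exact h2

/-- The ring map `A → Γ(Z_U)`. -/
noncomputable def fU (U : X.Opens) : Γ(X, U) →+* Γ((ZU G U).toScheme, ⊤) :=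
  ((Scheme.ΓSpecIso Γ(X, U)).inv ≫ (aU G U).appTop).hom

/-- The ring map `ℤ[G] → Γ(Z_U)`. -/
noncomputable def gU (U : X.Opens) :
    ULift.{u} (AddMonoidAlgebra ℤ G) →+* Γ((ZU G U).toScheme, ⊤) :=
  ((Scheme.ΓSpecIso (CommRingCat.of (ULift.{u} (AddMonoidAlgebra ℤ G)))).inv ≫
      (bU G U).appTop).hom

/-- The monomials `t^e` in `Γ(Z_U)`. -/
noncomputable def tU (U : X.Opens) : Multiplicative G →* Γ((ZU G U).toScheme, ⊤) :=
  ((gU G U).comp
    (ULift.ringEquiv : ULift.{u} (AddMonoidAlgebra ℤ G) ≃+* _).symm.toRingHom).toMonoidHom.comp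
      (of ℤ G)

theorem tU_apply (U : X.Opens) (e : G) :
    tU G U (Multiplicative.ofAdd e) = gU G U (ULift.up (single e 1)) := rfl

/-- The ring map `A[G] → Γ(Z_U)`, unbundled. -/
noncomputable def θU (U : X.Opens) : AddMonoidAlgebra Γ(X, U) G →+* Γ((ZU G U).toScheme, ⊤) :=
  liftNCRingHom (fU G U) (tU G U) (fun _ _ => Commute.all _ _)

theorem θU_single (U : X.Opens) (e : G) (r : Γ(X, U)) :
    θU G U (single e r) = fU G U r * gU G U (ULift.up (single e 1)) := by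
  change liftNC _ _ (single e r) = _
  rw [liftNC_single]
  rfl

/-- The ring map `A[G] → Γ(Z_U)`. -/
noncomputable def ΘU (U : X.Opens) :
    CommRingCat.of (AddMonoidAlgebra Γ(X, U) G) ⟶ Γ((ZU G U).toScheme, ⊤) :=
  CommRingCat.ofHom (θU G U)

theorem ΘU_h₁ (U : X.Opens) :
    CommRingCat.ofHom (singleZeroRingHom : Γ(X, U) →+* AddMonoidAlgebra Γ(X, U) G) ≫ ΘU G U =
      (Scheme.ΓSpecIso Γ(X, U)).inv ≫ (aU G U).appTop := by
  ext r
  change θU G U (single 0 r) = fU G U r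
  rw [θU_single]
  have : (ULift.up (single (0 : G) (1 : ℤ)) : ULift.{u} (AddMonoidAlgebra ℤ G)) = 1 := rfl
  rw [this, map_one, mul_one]

theorem ΘU_h₂ (U : X.Opens) :
    CommRingCat.ofHom (i₂ Γ(X, U) G) ≫ ΘU G U =
      (Scheme.ΓSpecIso (CommRingCat.of (ULift.{u} (AddMonoidAlgebra ℤ G)))).inv ≫
        (bU G U).appTop := by
  apply CommRingCat.hom_ext
  apply ulift_ringHom_ext
  intro e
  change θU G U (i₂ Γ(X, U) G (ULift.up (single e 1))) = gU G U (ULift.up (single e 1))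
  rw [i₂_single, θU_single, map_one, one_mul]

include hU in
theorem isIso_ΘU : IsIso (ΘU G U) := by
  refine AffProd.isIso_of_coprod
    (CommRingCat.ofHom (singleZeroRingHom : Γ(X, U) →+* AddMonoidAlgebra Γ(X, U) G))
    (CommRingCat.ofHom (i₂ Γ(X, U) G)) ?_ (aU G U) (bU G U) (exists_lift G hU) (hom_ext G hU)
    (ΘU G U) (ΘU_h₁ G U) (ΘU_h₂ G U)
  intro R h h' e1 e2
  apply CommRingCat.hom_ext
  apply ringHom_ext_i
  · exact congrArg CommRingCat.Hom.hom e1
  · exact congrArg CommRingCat.Hom.hom e2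

/-! ### Restriction compatibilities -/

theorem ι_appTop_eq (U : X.Opens) (s : Γ(X, ⊤)) :
    U.ι.appTop s = U.topIso.inv (X.presheaf.map (homOfLE le_top).op s) := by
  rw [Scheme.Opens.ι_appTop]
  change _ = (X.presheaf.map _ ≫ X.presheaf.map _) s
  rw [← Functor.map_comp]
  rfl

theorem toSpecΓ_appTop_inv (U : X.Opens) (r : Γ(X, U)) :
    U.toSpecΓ.appTop ((Scheme.ΓSpecIso Γ(X, U)).inv r) = U.topIso.inv r := by
  rw [Scheme.Opens.toSpecΓ_appTop, CommRingCat.comp_apply, Iso.inv_hom_id_apply]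

theorem fU_eq (U : X.Opens) (r : Γ(X, U)) :
    fU G U r = ((prod.fst : X ⨯ Tor G ⟶ X) ∣_ U).appTop (U.topIso.inv r) := by
  rw [← toSpecΓ_appTop_inv]
  simp only [fU, aU, Scheme.Hom.comp_appTop, CommRingCat.hom_comp, RingHom.comp_apply]

theorem res_fst (U : X.Opens) (s : Γ(X, ⊤)) :
    (ZU G U).ι.appTop ((prod.fst : X ⨯ Tor G ⟶ X).appTop s) =
      fU G U (X.presheaf.map (homOfLE le_top).op s) := by
  have h1 : (ZU G U).ι.appTop ((prod.fst : X ⨯ Tor G ⟶ X).appTop s) =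
      ((ZU G U).ι ≫ (prod.fst : X ⨯ Tor G ⟶ X)).appTop s := by
    rw [Scheme.Hom.comp_appTop]; rfl
  rw [h1, ← morphismRestrict_ι, Scheme.Hom.comp_appTop]
  change ((prod.fst : X ⨯ Tor G ⟶ X) ∣_ U).appTop (U.ι.appTop s) = _
  rw [ι_appTop_eq, fU_eq]

theorem res_snd (U : X.Opens) (y : ULift.{u} (AddMonoidAlgebra ℤ G)) :
    (ZU G U).ι.appTop ((prod.snd : X ⨯ Tor G ⟶ Tor G).appTop
      ((Scheme.ΓSpecIso (CommRingCat.of (ULift.{u} (AddMonoidAlgebra ℤ G)))).inv y)) =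
      gU G U y := by
  simp only [gU, bU, Scheme.Hom.comp_appTop, CommRingCat.hom_comp, RingHom.comp_apply]

section Trans

variable {U U' : X.Opens}

theorem ZU_mono (h : U' ≤ U) : ZU G U' ≤ ZU G U := fun _ hx => h hx

/-- The transition map `Z_{U'} → Z_U`. -/
noncomputable def ρU (h : U' ≤ U) : (ZU G U').toScheme ⟶ (ZU G U).toScheme :=
  (X ⨯ Tor G).homOfLE (ZU_mono G h)

theorem ρU_ι (h : U' ≤ U) : ρU G h ≫ (ZU G U).ι = (ZU G U').ι := Scheme.homOfLE_ι _ _

theorem ρU_res (h : U' ≤ U) (w : Γ(X ⨯ Tor G, ⊤)) :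
    (ρU G h).appTop ((ZU G U).ι.appTop w) = (ZU G U').ι.appTop w := by
  rw [← ρU_ι G h, Scheme.Hom.comp_appTop]
  rfl

theorem ρU_aU (h : U' ≤ U) : ρU G h ≫ aU G U = aU G U' ≫ Spec.map (X.presheaf.map (homOfLE h).op) := by
  have h1 : ρU G h ≫ ((prod.fst : X ⨯ Tor G ⟶ X) ∣_ U) =
      ((prod.fst : X ⨯ Tor G ⟶ X) ∣_ U') ≫ X.homOfLE h := by
    rw [← cancel_mono U.ι, Category.assoc, Category.assoc, morphismRestrict_ι, Scheme.homOfLE_ι,
      morphismRestrict_ι, ← Category.assoc, ρU_ι]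
  rw [aU, aU, ← Category.assoc, h1, Category.assoc, Category.assoc,
    Scheme.Opens.toSpecΓ_SpecMap_presheaf_map]

theorem ρU_bU (h : U' ≤ U) : ρU G h ≫ bU G U = bU G U' := by
  rw [bU, bU, ← Category.assoc, ρU_ι]

theorem ρU_fU (h : U' ≤ U) (r : Γ(X, U)) :
    (ρU G h).appTop (fU G U r) = fU G U' (X.presheaf.map (homOfLE h).op r) := by
  have h1 : (ρU G h).appTop (fU G U r) =
      (ρU G h ≫ aU G U).appTop ((Scheme.ΓSpecIso Γ(X, U)).inv r) := by
    rw [Scheme.Hom.comp_appTop]; rfl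
  rw [h1, ρU_aU, Scheme.Hom.comp_appTop]
  change (aU G U').appTop ((Spec.map (X.presheaf.map (homOfLE h).op)).appTop
    ((Scheme.ΓSpecIso Γ(X, U)).inv r)) = _
  have h2 : (Spec.map (X.presheaf.map (homOfLE h).op)).appTop ((Scheme.ΓSpecIso Γ(X, U)).inv r) =
      (Scheme.ΓSpecIso Γ(X, U')).inv (X.presheaf.map (homOfLE h).op r) := by
    have := Scheme.ΓSpecIso_inv_naturality (X.presheaf.map (homOfLE h).op)
    exact (congrArg (fun φ => φ.hom r) this).symm
  rw [h2]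
  rfl

theorem ρU_gU (h : U' ≤ U) (y : ULift.{u} (AddMonoidAlgebra ℤ G)) :
    (ρU G h).appTop (gU G U y) = gU G U' y := by
  have h1 : (ρU G h).appTop (gU G U y) = (ρU G h ≫ bU G U).appTop
      ((Scheme.ΓSpecIso (CommRingCat.of (ULift.{u} (AddMonoidAlgebra ℤ G)))).inv y) := by
    rw [Scheme.Hom.comp_appTop]; rfl
  rw [h1, ρU_bU]
  rfl

theorem ρU_θU (h : U' ≤ U) (e : G) (r : Γ(X, U)) :
    (ρU G h).appTop (θU G U (single e r)) =
      θU G U' (single e (X.presheaf.map (homOfLE h).op r)) := by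
  rw [θU_single, θU_single, map_mul, ρU_fU, ρU_gU]

end Trans

end Sch

end Groth.Agent.Lib.Seat62.TorusLocal
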