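import Mathlib
import Groth.Agent.Lib.Seat62TorusLocal
import Groth.Agent.Lib.Seat62Laurent

/-!
# Units on `X × Spec ℤ[G]` for integral `X` (helper62)
-/

set_option autoImplicit false
set_option linter.style.haveILetI false
set_option linter.unusedSectionVars false
universe u

namespace Groth.Agent.Lib.Seat62.TorusUnits

open CategoryTheory CategoryTheory.Limits AlgebraicGeometry AddMonoidAlgebra TopologicalSpace
open Groth.Agent.Lib.Seat62.TorusLocal

variable {X : Scheme.{u}} (G : Type) [AddCommGroup G]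

/-- The monomial `t^e` as a global section of `X × T`. -/
noncomputable def τ (X : Scheme.{u}) (e : G) : Γ(X ⨯ Tor G, ⊤) :=
  (prod.snd : X ⨯ Tor G ⟶ Tor G).appTop
    ((Scheme.ΓSpecIso (CommRingCat.of (ULift.{u} (AddMonoidAlgebra ℤ G)))).inv
      (ULift.up (single e 1)))

theorem τ_add (e e' : G) : τ G X (e + e') = τ G X e * τ G X e' := by
  simp only [τ]
  rw [← map_mul, ← map_mul]
  congr 2
  apply ULift.ext
  change single (e + e') (1 : ℤ) = single e 1 * single e' 1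
  rw [single_mul_single, mul_one]

theorem τ_zero : τ G X 0 = 1 := by
  simp only [τ]
  have : (ULift.up (single (0 : G) (1 : ℤ)) : ULift.{u} (AddMonoidAlgebra ℤ G)) = 1 := rfl
  rw [this, map_one, map_one]

/-- Restriction of `pr₁^*(u) · t^e` to `Z_U`. -/
theorem res_mul (U : X.Opens) (u : Γ(X, ⊤)) (e : G) :
    (ZU G U).ι.appTop ((prod.fst : X ⨯ Tor G ⟶ X).appTop u * τ G X e) =
      θU G U (single e (X.presheaf.map (homOfLE le_top).op u)) := by
  rw [map_mul, res_fst, θU_single]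
  congr 1

section Local

variable {U : X.Opens} (hU : IsAffineOpen U)

include hU in
theorem θU_bijective : Function.Bijective (θU G U) := by
  haveI := isIso_ΘU G hU
  exact (ConcreteCategory.isIso_iff_bijective (ΘU G U)).mp inferInstance

variable [IsIntegral X] [TwoUniqueSums G]

include hU in
theorem exists_local [Nonempty U] (w : Γ((ZU G U).toScheme, ⊤)) (hw : IsUnit w) :
    ∃ (e : G) (c : Γ(X, U)), IsUnit c ∧ w = θU G U (single e c) := by
  let E : AddMonoidAlgebra Γ(X, U) G ≃+* Γ((ZU G U).toScheme, ⊤) :=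
    RingEquiv.ofBijective (θU G U) (θU_bijective G hU)
  have h1 : IsUnit (E.symm w) := hw.map E.symm
  obtain ⟨e, c, hc, h2⟩ := Laurent.exists_single_of_isUnit (E.symm w) h1
  refine ⟨e, c, hc, ?_⟩
  have : w = E (E.symm w) := (E.apply_symm_apply w).symm
  rw [this, h2]
  rfl

include hU in
theorem θU_single_inj (e e' : G) (c c' : Γ(X, U)) (hc : c ≠ 0)
    (h : θU G U (single e c) = θU G U (single e' c')) : e = e' ∧ c = c' := by
  classical
  have h1 := (θU_bijective G hU).1 h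
  have h2 := congrArg (fun x : AddMonoidAlgebra Γ(X, U) G => x.coeff e) h1
  simp only [coeff_single, Finsupp.single_eq_same] at h2
  by_cases hee : e' = e
  · subst hee
    rw [Finsupp.single_eq_same] at h2
    exact ⟨rfl, h2⟩
  · rw [Finsupp.single_eq_of_ne' hee] at h2
    exact absurd h2 hc

end Local

section Global

/-- Nonempty affine opens of `X`. -/
def NA (X : Scheme.{u}) : Type u := {U : X.Opens // IsAffineOpen U ∧ Nonempty U}

theorem exists_NA_mem (x : X) (V : X.Opens) (hx : x ∈ V) : ∃ U : NA X, x ∈ U.1 ∧ U.1 ≤ V := by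
  obtain ⟨U, hU, hxU, hUV⟩ := Opens.isBasis_iff_nbhd.mp X.isBasis_affineOpens hx
  exact ⟨⟨U, hU, ⟨⟨x, hxU⟩⟩⟩, hxU, hUV⟩

theorem NA_cover (X : Scheme.{u}) : (⊤ : X.Opens) ≤ ⨆ i : NA X, i.1 := by
  intro x _
  obtain ⟨U, hxU, -⟩ := exists_NA_mem x ⊤ trivial
  exact Opens.mem_iSup.mpr ⟨U, hxU⟩

theorem ZU_cover : (⊤ : (X ⨯ Tor G).Opens) ≤ ⨆ i : NA X, ZU G i.1 := by
  intro p _
  obtain ⟨U, hxU, -⟩ := exists_NA_mem ((prod.fst : X ⨯ Tor G ⟶ X) p) ⊤ trivial
  exact Opens.mem_iSup.mpr ⟨U, hxU⟩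

variable [IsIntegral X] [TwoUniqueSums G]

theorem exists_NA_le (U₁ U₂ : NA X) : ∃ U' : NA X, U'.1 ≤ U₁.1 ⊓ U₂.1 := by
  obtain ⟨⟨x₁, hx₁⟩⟩ := U₁.2.2
  obtain ⟨⟨x₂, hx₂⟩⟩ := U₂.2.2
  obtain ⟨x, hx1, hx2⟩ := nonempty_preirreducible_inter U₁.1.2 U₂.1.2 ⟨x₁, hx₁⟩ ⟨x₂, hx₂⟩
  obtain ⟨U', -, h⟩ := exists_NA_mem x (U₁.1 ⊓ U₂.1) ⟨hx1, hx2⟩
  exact ⟨U', h⟩


theorem local_data (v : Γ(X ⨯ Tor G, ⊤)) (hv : IsUnit v) (U : NA X) :
    ∃ (e : G) (c : Γ(X, U.1)), IsUnit c ∧ (ZU G U.1).ι.appTop v = θU G U.1 (single e c) := by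
  haveI := U.2.2
  exact exists_local G U.2.1 _ (hv.map _)

theorem local_compat (v : Γ(X ⨯ Tor G, ⊤)) {U U' : X.Opens} (hU' : IsAffineOpen U') [Nonempty U']
    (h : U' ≤ U) (e e' : G) (c : Γ(X, U)) (c' : Γ(X, U')) (hc' : c' ≠ 0)
    (h1 : (ZU G U).ι.appTop v = θU G U (single e c))
    (h2 : (ZU G U').ι.appTop v = θU G U' (single e' c')) :
    e' = e ∧ c' = X.presheaf.map (homOfLE h).op c := by
  have h3 : (ρU G h).appTop ((ZU G U).ι.appTop v) = (ρU G h).appTop (θU G U (single e c)) := by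
    rw [h1]
  rw [ρU_res, ρU_θU, h2] at h3
  exact θU_single_inj G hU' e' e c' _ hc' h3

/-- Two global sections of `X` agreeing on all nonempty affine opens are equal. -/
theorem eq_of_NA (s t : Γ(X, ⊤))
    (h : ∀ U : NA X, X.presheaf.map (homOfLE le_top).op s =
      (X.presheaf.map (homOfLE le_top).op t : Γ(X, U.1))) : s = t :=
  X.sheaf.eq_of_locally_eq' (fun i : NA X => i.1) ⊤ (fun _ => homOfLE le_top) (NA_cover X) s t h

/-- Two global sections of `X × T` agreeing on all `Z_U` are equal. -/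
theorem eq_of_ZU (s t : Γ(X ⨯ Tor G, ⊤))
    (h : ∀ U : NA X, (ZU G U.1).ι.appTop s = (ZU G U.1).ι.appTop t) : s = t := by
  refine (X ⨯ Tor G).sheaf.eq_of_locally_eq' (fun i : NA X => ZU G i.1) ⊤
    (fun i => homOfLE le_top) (ZU_cover G) s t ?_
  intro U
  have := h U
  rw [ι_appTop_eq, ι_appTop_eq] at this
  exact (ConcreteCategory.bijective_of_isIso (ZU G U.1).topIso.inv).1 this

theorem unique_global (u₁ u₂ : Γ(X, ⊤)) (e₁ e₂ : G) (hu₁ : IsUnit u₁)
    (h : (prod.fst : X ⨯ Tor G ⟶ X).appTop u₁ * τ G X e₁ =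
      (prod.fst : X ⨯ Tor G ⟶ X).appTop u₂ * τ G X e₂) : e₁ = e₂ ∧ u₁ = u₂ := by
  have key : ∀ U : NA X, e₁ = e₂ ∧ X.presheaf.map (homOfLE le_top).op u₁ =
      (X.presheaf.map (homOfLE le_top).op u₂ : Γ(X, U.1)) := by
    intro U
    haveI := U.2.2
    have h1 : (ZU G U.1).ι.appTop ((prod.fst : X ⨯ Tor G ⟶ X).appTop u₁ * τ G X e₁) =
        (ZU G U.1).ι.appTop ((prod.fst : X ⨯ Tor G ⟶ X).appTop u₂ * τ G X e₂) := by rw [h]
    rw [res_mul, res_mul] at h1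
    exact θU_single_inj G U.2.1 e₁ e₂ _ _ (hu₁.map _).ne_zero h1
  obtain ⟨U₀⟩ : Nonempty (NA X) := by
    obtain ⟨x⟩ : Nonempty X := inferInstance
    obtain ⟨U, -, -⟩ := exists_NA_mem x ⊤ trivial
    exact ⟨U⟩
  exact ⟨(key U₀).1, eq_of_NA _ _ fun U => (key U).2⟩

theorem exists_global (v : Γ(X ⨯ Tor G, ⊤)) (hv : IsUnit v) :
    ∃ (e : G) (u : Γ(X, ⊤)), v = (prod.fst : X ⨯ Tor G ⟶ X).appTop u * τ G X e := by
  classical
  choose eU cU hcU hvU using local_data G v hv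
  obtain ⟨U₀⟩ : Nonempty (NA X) := by
    obtain ⟨x⟩ : Nonempty X := inferInstance
    obtain ⟨U, -, -⟩ := exists_NA_mem x ⊤ trivial
    exact ⟨U⟩
  have hne : ∀ U : NA X, cU U ≠ 0 := fun U => by
    haveI := U.2.2
    exact (hcU U).ne_zero
  have hle : ∀ (U U' : NA X) (h : U'.1 ≤ U.1),
      eU U' = eU U ∧ cU U' = X.presheaf.map (homOfLE h).op (cU U) := by
    intro U U' h
    haveI := U'.2.2
    exact local_compat G v U'.2.1 h (eU U) (eU U') (cU U) (cU U') (hne U') (hvU U) (hvU U')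
  have he : ∀ U : NA X, eU U = eU U₀ := by
    intro U
    obtain ⟨U', hU'⟩ := exists_NA_le U U₀
    rw [← (hle U U' (le_trans hU' inf_le_left)).1, (hle U₀ U' (le_trans hU' inf_le_right)).1]
  have hcompat : TopCat.Presheaf.IsCompatible X.sheaf.1 (fun i : NA X => i.1) cU := by
    intro U₁ U₂
    refine X.sheaf.eq_of_locally_eq' (fun i : {W : NA X // W.1 ≤ U₁.1 ⊓ U₂.1} => i.1.1) _
      (fun i => homOfLE i.2) ?_ _ _ ?_
    · intro x hx
      obtain ⟨W, hxW, hW⟩ := exists_NA_mem x (U₁.1 ⊓ U₂.1) hx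
      exact Opens.mem_iSup.mpr ⟨⟨W, hW⟩, hxW⟩
    · rintro ⟨W, hW⟩
      change (X.presheaf.map _ ≫ X.presheaf.map _) (cU U₁) =
        (X.presheaf.map _ ≫ X.presheaf.map _) (cU U₂)
      rw [← Functor.map_comp, ← Functor.map_comp]
      exact ((hle U₁ W (le_trans hW inf_le_left)).2.symm.trans
        (hle U₂ W (le_trans hW inf_le_right)).2)
  obtain ⟨u, hu, -⟩ : ∃! s : Γ(X, ⊤), ∀ i : NA X,
      X.presheaf.map (homOfLE le_top).op s = cU i :=
    X.sheaf.existsUnique_gluing' (fun i : NA X => i.1) ⊤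
      (fun _ => homOfLE le_top) (NA_cover X) cU hcompat
  refine ⟨eU U₀, u, eq_of_ZU G _ _ fun U => ?_⟩
  rw [res_mul, hvU U, he U]
  congr 2
  exact (hu U).symm

theorem main (v : Γ(X ⨯ Tor G, ⊤)) (hv : IsUnit v) :
    ∃! p : (Γ(X, ⊤))ˣ × G,
      v = (prod.fst : X ⨯ Tor G ⟶ X).appTop (p.1 : Γ(X, ⊤)) * τ G X p.2 := by
  obtain ⟨e, u, h⟩ := exists_global G v hv
  obtain ⟨v', hv'⟩ := hv.exists_right_inv
  have hv'u : IsUnit v' := IsUnit.of_mul_eq_one v (by rw [mul_comm]; exact hv')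
  obtain ⟨e', u', h'⟩ := exists_global G v' hv'u
  have h1 : (prod.fst : X ⨯ Tor G ⟶ X).appTop 1 * τ G X 0 =
      (prod.fst : X ⨯ Tor G ⟶ X).appTop (u * u') * τ G X (e + e') := by
    rw [map_one, τ_zero, one_mul, ← hv', h, h', map_mul, τ_add]
    ring
  have h2 := (unique_global G 1 (u * u') 0 (e + e') isUnit_one h1).2
  have hu : IsUnit u := IsUnit.of_mul_eq_one u' h2.symm
  refine ⟨(hu.unit, e), h, ?_⟩
  rintro ⟨w, f⟩ hw
  have h3 := unique_global G (w : Γ(X, ⊤)) u f e w.isUnit (hw.symm.trans h)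
  ext
  · exact h3.2
  · exact h3.1

end Global

end Groth.Agent.Lib.Seat62.TorusUnits
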