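import Mathlib

/-!
# Weil divisors on the spectrum of a noetherian UFD are principal (seat 62)

Order of vanishing (`Scheme.ord`) on `Spec A` computed through the stalks `A_p`:
`ordHom_of_notMem`, `ordHom_of_span`, `eq_of_pr_le`, `exists_prime_gen`, `exists_principal`.
-/

open AlgebraicGeometry CategoryTheory Order IsLocalRing

universe u

namespace Groth.Agent.Lib.Seat62.UFDCl

variable (A : Type u) [CommRing A] [IsDomain A]

local notation "X" => Spec (CommRingCat.of A)

instance domOf : IsDomain (CommRingCat.of A) := ‹IsDomain A›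

noncomputable instance ffAlg : Algebra A (X).functionField :=
  instAlgebraCarrierFunctionFieldSpec (CommRingCat.of A)

instance ffFrac : IsFractionRing A (X).functionField :=
  functionField_isFractionRing_of_affine (CommRingCat.of A)

variable {A}

/-- the prime ideal of a point of `Spec A`. -/
def pr (z : X) : Ideal A := PrimeSpectrum.asIdeal z

instance (z : X) : (pr z).IsPrime := PrimeSpectrum.isPrime z

noncomputable instance stalkAlg (z : X) : Algebra A ((X).presheaf.stalk z) :=
  StructureSheaf.stalkAlgebra (R := A) z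

instance stalkLoc (z : X) : IsLocalization.AtPrime ((X).presheaf.stalk z) (pr z) :=
  StructureSheaf.IsLocalization.to_stalk A z

example (z : X) : IsDomain ((X).presheaf.stalk z) := inferInstance
noncomputable example (z : X) : Algebra ((X).presheaf.stalk z) (X).functionField := inferInstance

theorem algebraMap_stalk_functionField (z : X) (a : A) :
    algebraMap ((X).presheaf.stalk z) (X).functionField (algebraMap A ((X).presheaf.stalk z) a) =
      algebraMap A (X).functionField a := by
  have h := StructureSheaf.toStalk_stalkSpecializes_apply (R := A)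
    (x := genericPoint (X)) (y := z) ((genericPoint_spec (X)).specializes trivial) a
  exact h


variable [IsNoetherianRing A]

theorem ordHom_of_notMem (z : X) (hz : coheight z = 1) (a : A) (ha : a ∉ pr z) :
    Scheme.ordHom z hz (algebraMap A (X).functionField a) = 1 := by
  rw [← algebraMap_stalk_functionField z a]
  have : Ring.KrullDimLE 1 ((X).presheaf.stalk z) := krullDimLE_of_coheight_le hz.le
  have hu : IsUnit (algebraMap A ((X).presheaf.stalk z) a) :=
    IsLocalization.map_units ((X).presheaf.stalk z) (⟨a, ha⟩ : (pr z).primeCompl)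
  exact Ring.ordFrac_of_isUnit hu

theorem algebraMap_stalk_injective (z : X) :
    Function.Injective (algebraMap A ((X).presheaf.stalk z)) :=
  IsLocalization.injective ((X).presheaf.stalk z) (pr z).primeCompl_le_nonZeroDivisors

theorem maximalIdeal_stalk (z : X) (π : A) (hπ : pr z = Ideal.span {π}) :
    maximalIdeal ((X).presheaf.stalk z) = Ideal.span {algebraMap A ((X).presheaf.stalk z) π} := by
  rw [← IsLocalization.AtPrime.map_eq_maximalIdeal (pr z) ((X).presheaf.stalk z), hπ,
    Ideal.map_span, Set.image_singleton]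

theorem isDVR_stalk (z : X) (π : A) (hπ0 : π ≠ 0) (hπ : pr z = Ideal.span {π}) :
    IsDiscreteValuationRing ((X).presheaf.stalk z) := by
  have hne : algebraMap A ((X).presheaf.stalk z) π ≠ 0 := by
    intro h
    exact hπ0 (algebraMap_stalk_injective z (by rw [h, map_zero]))
  have hnf : ¬ IsField ((X).presheaf.stalk z) := by
    rw [IsLocalRing.isField_iff_maximalIdeal_eq, maximalIdeal_stalk z π hπ]
    intro h
    rw [Ideal.span_singleton_eq_bot] at h
    exact hne h
  refine ((IsDiscreteValuationRing.TFAE ((X).presheaf.stalk z) hnf).out 0 4).2 ?_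
  rw [maximalIdeal_stalk z π hπ]
  exact ⟨⟨_, rfl⟩⟩

theorem ordHom_of_span (z : X) (hz : coheight z = 1) (π : A) (hπ0 : π ≠ 0)
    (hπ : pr z = Ideal.span {π}) :
    Scheme.ordHom z hz (algebraMap A (X).functionField π) = WithZero.exp 1 := by
  rw [← algebraMap_stalk_functionField z π]
  have : Ring.KrullDimLE 1 ((X).presheaf.stalk z) := krullDimLE_of_coheight_le hz.le
  have := isDVR_stalk z π hπ0 hπ
  have hirr : Irreducible (algebraMap A ((X).presheaf.stalk z) π) :=
    (IsDiscreteValuationRing.irreducible_iff_uniformizer _).2 (maximalIdeal_stalk z π hπ)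
  exact Ring.ordFrac_irreducible hirr


omit [IsNoetherianRing A] in
theorem le_iff_pr_le (x z : X) : z ≤ x ↔ pr x ≤ pr z := by
  change x ⤳ z ↔ _
  exact (PrimeSpectrum.le_iff_specializes (x : PrimeSpectrum A) z).symm

omit [IsNoetherianRing A] in
theorem pr_ne_bot_of_coheight (z : X) (hz : coheight z = 1) : pr z ≠ ⊥ := by
  intro h
  have hmax : IsMax z := by
    intro b _
    rw [le_iff_pr_le, h]
    exact bot_le
  rw [← Order.coheight_eq_zero] at hmax
  rw [hmax] at hz
  exact zero_ne_one hz

omit [IsNoetherianRing A] in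
theorem eq_of_pr_le (x z : X) (hx : pr x ≠ ⊥) (hz : coheight z = 1) (hle : pr x ≤ pr z) :
    x = z := by
  by_contra hne
  have hlt : z < x := by
    refine lt_of_le_not_ge ((le_iff_pr_le x z).2 hle) ?_
    intro h
    rw [le_iff_pr_le] at h
    exact hne (PrimeSpectrum.ext (le_antisymm hle h))
  have h1 := Order.coheight_add_one_le hlt
  rw [hz] at h1
  have h0 : coheight x = 0 := by
    have : coheight x + 1 ≤ 0 + 1 := by simpa using h1
    exact le_antisymm ((ENat.add_le_add_iff_right (by simp)).1 this) bot_le
  rw [Order.coheight_eq_zero] at h0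
  let g : X := (⟨⊥, Ideal.isPrime_bot⟩ : PrimeSpectrum A)
  have hxg : x ≤ g := by
    rw [le_iff_pr_le]
    exact bot_le (a := pr x)
  have hgx := h0 hxg
  rw [le_iff_pr_le] at hgx
  exact hx (le_bot_iff.1 hgx)


omit [IsNoetherianRing A] in
theorem exists_prime_gen [UniqueFactorizationMonoid A] (z : X) (hz : coheight z = 1) :
    ∃ π : A, π ≠ 0 ∧ pr z = Ideal.span {π} := by
  obtain ⟨π, hπz, hπ⟩ := Ideal.IsPrime.exists_mem_prime_of_ne_bot
    (inferInstance : (pr z).IsPrime) (pr_ne_bot_of_coheight z hz)
  refine ⟨π, hπ.ne_zero, ?_⟩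
  have hP : (Ideal.span {π}).IsPrime := (Ideal.span_singleton_prime hπ.ne_zero).2 hπ
  let x : X := (⟨Ideal.span {π}, hP⟩ : PrimeSpectrum A)
  have hx : pr x ≠ ⊥ := by
    change Ideal.span {π} ≠ ⊥
    rw [Ne, Ideal.span_singleton_eq_bot]
    exact hπ.ne_zero
  have hle : pr x ≤ pr z := by
    change Ideal.span {π} ≤ pr z
    rw [Ideal.span_singleton_le_iff_mem]
    exact hπz
  have := eq_of_pr_le x z hx hz hle
  rw [← this]
  rfl

/-- Weil divisors on the spectrum of a noetherian UFD are principal. -/
theorem exists_principal [UniqueFactorizationMonoid A]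
    (D : X → ℤ) (hD : ∀ x, Order.coheight x ≠ 1 → D x = 0) (hfin : {x | D x ≠ 0}.Finite) :
    ∃ f : (X).functionField, f ≠ 0 ∧
      ∀ x : X, Order.coheight x = 1 → Scheme.ord f x = D x := by
  classical
  have hS : ∀ x ∈ hfin.toFinset, coheight x = 1 := by
    intro x hx
    rw [Set.Finite.mem_toFinset] at hx
    by_contra h
    exact hx (hD x h)
  let π : X → A := fun x => if h : coheight x = 1 then (exists_prime_gen x h).choose else 1
  have hπ0 : ∀ x, π x ≠ 0 := by
    intro x
    by_cases h : coheight x = 1
    · simp only [π, dif_pos h]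
      exact (exists_prime_gen x h).choose_spec.1
    · simp only [π, dif_neg h]
      exact one_ne_zero
  have hπ : ∀ x, coheight x = 1 → pr x = Ideal.span {π x} := by
    intro x h
    simp only [π, dif_pos h]
    exact (exists_prime_gen x h).choose_spec.2
  have hK0 : ∀ x, algebraMap A (X).functionField (π x) ≠ 0 := by
    intro x h
    exact hπ0 x (IsFractionRing.injective A (X).functionField (by rw [h, map_zero]))
  let f : (X).functionField :=
    ∏ x ∈ hfin.toFinset, (algebraMap A (X).functionField (π x)) ^ (D x)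
  have hf : f ≠ 0 := by
    rw [Finset.prod_ne_zero_iff]
    intro x _
    exact zpow_ne_zero _ (hK0 x)
  refine ⟨f, hf, ?_⟩
  intro z hz
  rw [Scheme.ord_eq_iff hz hf]
  have hfac : ∀ x ∈ hfin.toFinset, x ≠ z →
      Scheme.ordHom z hz ((algebraMap A (X).functionField (π x)) ^ (D x)) = 1 := by
    intro x hx hne
    rw [map_zpow₀, ordHom_of_notMem z hz (π x), one_zpow]
    intro hmem
    apply hne
    have hx1 := hS x hx
    apply eq_of_pr_le x z (pr_ne_bot_of_coheight x hx1) hz
    rw [hπ x hx1, Ideal.span_singleton_le_iff_mem]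
    exact hmem
  have hz' : Scheme.ordHom z hz ((algebraMap A (X).functionField (π z)) ^ (D z)) =
      ((Multiplicative.ofAdd (D z) : Multiplicative ℤ) : WithZero (Multiplicative ℤ)) := by
    rw [map_zpow₀, ordHom_of_span z hz (π z) (hπ0 z) (hπ z hz)]
    rw [← WithZero.exp_zsmul]
    simp [WithZero.exp]
  show Scheme.ordHom z hz (∏ x ∈ hfin.toFinset, _) = _
  rw [map_prod]
  by_cases hzS : z ∈ hfin.toFinset
  · rw [Finset.prod_eq_single_of_mem z hzS (fun x hx hne => hfac x hx hne), hz']
  · rw [Finset.prod_eq_one (fun x hx => hfac x hx (fun h => hzS (h ▸ hx)))]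
    have : D z = 0 := by
      by_contra h
      exact hzS ((Set.Finite.mem_toFinset hfin).2 h)
    rw [this]
    rfl

end Groth.Agent.Lib.Seat62.UFDCl
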