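/-
Seat63CohPerf: on a Noetherian scheme, perfect complexes with cohomology supported in `Y` are
exactly the bounded complexes with coherent cohomology supported in `Y` when every such coherent
module is perfect (`perfIn_eq_dbP`); hence `K₀(Coh_Y) ≃ K₀(Perf_Y)` (`exists_equiv_perfIn`, S14007).
Also: `isCoh_of_open_cover`, `isCoh_homology`, `restrictHDIso`, `isZero_of_open_cover`,
`dbP_of_perfIn` (perfect ⇒ bounded with coherent cohomology; no hypothesis on `Y`).
-/
import Mathlib
import Groth.Agent.Lib.Seat63CohThick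
import Groth.Agent.Lib.Seat0PerfTri
import Groth.Agent.Lib.Seat28Supp
import Groth.Agent.Lib.Helper17K0e
import Groth.Agent.Lib.Helper1Devissage
import Groth.Agent.Lib.Helper17AdjWay1

set_option autoImplicit false
universe u
open CategoryTheory CategoryTheory.Limits AlgebraicGeometry TopologicalSpace
attribute [local instance] HasDerivedCategory.standard

namespace Groth.Agent.Lib.Seat63.CohPerf

open ZeroObject DerivedCategory KZero Pretriangulated Groth.Agent.Lib.Seat63.CohThick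
  Groth.Agent.Lib.Helper17.K0c Groth.Agent.Lib.Helper17.K0e
  Groth.Agent.Lib.Seat0.PerfLocal Groth.Agent.Lib.Seat0.PerfTri

variable {X : Scheme.{u}}

/-- coherence is local for open covers -/
lemma isCoh_of_open_cover (M : X.Modules) {ι : Type*} (V : ι → X.Opens) (hV : IsOpenCover V)
    (h : ∀ i, Coh.IsCoh (M.restrict (V i).ι)) : Coh.IsCoh M := by
  have hq : M.IsQuasicoherent :=
    Groth.Agent.Lib.Helper23.FinType.isQuasicoherent_of_open_cover M V hV (fun i => (h i).1)
  exact ⟨hq, Groth.Agent.Lib.Helper23.FinType.isFiniteType_of_open_cover M V hV (fun i => (h i).2)⟩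

/-- homology of a short complex of coherent modules is coherent -/
lemma isCoh_homology [IsLocallyNoetherian X] (S : ShortComplex X.Modules)
    (h₁ : Coh.IsCoh S.X₁) (h₂ : Coh.IsCoh S.X₂) (h₃ : Coh.IsCoh S.X₃) : Coh.IsCoh S.homology := by
  have hk : Coh.IsCoh (kernel S.g) := isCoh_kernel S.g h₂ h₃
  have hc : Coh.IsCoh (cokernel (kernel.lift S.g S.f S.zero)) := isCoh_cokernel _ h₁ hk
  exact isCoh_of_iso S.homologyIsoCokernelLift.symm hc

/-- cohomology of a strictly perfect complex is coherent -/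
lemma isCoh_homology_of_isStrictlyPerfect [IsLocallyNoetherian X] (E : CochainComplex X.Modules ℤ)
    (hE : DCoh.IsStrictlyPerfect E) (i : ℤ) : Coh.IsCoh (E.homology i) :=
  isCoh_homology (E.sc i) (isCoh_of_isFinLocFree _ (hE.2 _)) (isCoh_of_isFinLocFree _ (hE.2 _))
    (isCoh_of_isFinLocFree _ (hE.2 _))

/-- the local cohomology iso: if `K|_V ≅ Q E` then `(H^i K)|_V ≅ H^i E` -/
noncomputable def restrictHDIso (V : X.Opens) (K : DCoh.D X) (E : CochainComplex (V : Scheme.{u}).Modules ℤ)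
    (e : (DCoh.restrictD V.ι).obj K ≅ Q.obj E) (i : ℤ) :
    (DCoh.HD K i).restrict V.ι ≅ E.homology i :=
  (Groth.Agent.Lib.Helper17.AdjWay.homologyIso (Scheme.Modules.restrictFunctor V.ι) K i).symm ≪≫
    (homologyFunctor _ i).mapIso e ≪≫ (homologyFunctorFactors _ i).app E

/-- a module whose restrictions to an open cover vanish is zero -/
lemma isZero_of_open_cover (M : X.Modules) {ι : Type*} (V : ι → X.Opens) (hV : IsOpenCover V)
    (h : ∀ i, IsZero (M.restrict (V i).ι)) : IsZero M := by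
  refine Groth.Agent.Lib.Seat28.Supp.isZero_of_subsingleton_stalk M (fun x => ?_)
  have hx : x ∈ (⨆ i, V i : X.Opens) := by rw [hV.iSup_eq_top]; trivial
  obtain ⟨i, hxi⟩ := TopologicalSpace.Opens.mem_iSup.1 hx
  let y : (V i : Scheme.{u}) := ⟨x, hxi⟩
  have h1 : Subsingleton ((M.restrict (V i).ι).presheaf.stalk y) :=
    Groth.Agent.Helper18Epi.subsingleton_stalk_of_isZero (h i) y
  let e := (Scheme.Modules.restrictStalkNatIso (V i).ι y).app M
  exact e.addCommGroupIsoToAddEquiv.toEquiv.subsingleton_congr.1 h1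

/-- perfect complexes with cohomology supported in `Y'` -/
def PerfIn (Y' : Set X) : ObjectProperty (DCoh.D X) :=
  fun K => DCoh.IsPerfect K ∧ ∀ i : ℤ, CohB1.support (DCoh.HD K i) ⊆ Y'

theorem dbP_of_perfIn [IsNoetherian X] (Y' : Set X) (K : DCoh.D X) (h : PerfIn Y' K) :
    DbP (CohIn Y') K := by
  obtain ⟨hp, hs⟩ := h
  rw [isPerfect_iff_sprep] at hp
  choose V hxV E hE e using hp
  have hcov : IsOpenCover V := by
    rw [IsOpenCover, eq_top_iff]
    intro x _
    exact Opens.mem_iSup.2 ⟨x, hxV x⟩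
  refine ⟨fun i => ⟨isCoh_of_open_cover _ V hcov (fun x =>
    isCoh_of_iso (restrictHDIso (V x) K (E x) (e x).some i).symm
      (isCoh_homology_of_isStrictlyPerfect (E x) (hE x) i)), hs i⟩, ?_⟩
  choose a b hab using fun x => (hE x).1
  obtain ⟨t, ht⟩ := isCompact_univ.elim_finite_subcover (fun x => (V x : Set X))
    (fun x => (V x).2) (by intro y _; exact Set.mem_iUnion.2 ⟨y, hxV y⟩)
  have hcov' : IsOpenCover (fun x : t => V x.1) := by
    rw [IsOpenCover, eq_top_iff]
    intro y _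
    obtain ⟨x, hx⟩ := Set.mem_iUnion.1 (ht (Set.mem_univ y))
    obtain ⟨hxt, hyx⟩ := Set.mem_iUnion.1 hx
    exact Opens.mem_iSup.2 ⟨⟨x, hxt⟩, hyx⟩
  obtain ⟨A, hA⟩ := (t.image (fun x => - a x)).exists_le
  obtain ⟨b0, hb0⟩ := (t.image b).exists_le
  obtain ⟨a0, rfl⟩ : ∃ a0 : ℤ, A = -a0 := ⟨-A, (neg_neg A).symm⟩
  have hz : ∀ i : ℤ, (i < a0 ∨ b0 < i) → IsZero (DCoh.HD K i) := by
    intro i hi
    refine isZero_of_open_cover _ _ hcov' (fun x => ?_)
    refine IsZero.of_iso ?_ (restrictHDIso (V x.1) K (E x.1) (e x.1).some i)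
    refine ShortComplex.isZero_homology_of_isZero_X₂ _ (hab x.1 i ?_)
    have h1 := hA (- a x.1) (Finset.mem_image_of_mem (fun x => - a x) x.2)
    have h2 := hb0 (b x.1) (Finset.mem_image_of_mem b x.2)
    omega
  refine ⟨a0, b0, ?_, ?_⟩
  · change K.IsGE a0
    rw [isGE_iff]
    exact fun i hi => hz i (Or.inl hi)
  · change K.IsLE b0
    rw [isLE_iff]
    exact fun i hi => hz i (Or.inr hi)

/-- perfect objects as an `ObjectProperty` -/
def Perf (X : Scheme.{u}) : ObjectProperty (DCoh.D X) := fun K => DCoh.IsPerfect K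

instance : (Perf X).IsClosedUnderIsomorphisms :=
  ⟨fun e h => isPerfect_of_iso e h⟩

theorem perfIn_of_dbP [IsLocallyNoetherian X] (Y' : Set X)
    (hperf : ∀ G : X.Modules, Coh.IsCoh G → CohB1.support G ⊆ Y' → DCoh.IsPerfect (DCoh.inD X G))
    (K : DCoh.D X) (h : DbP (CohIn Y') K) : PerfIn Y' K := by
  obtain ⟨hc, a, b, ha, hb⟩ := h
  refine ⟨?_, fun i => (hc i).2⟩
  have : K.IsGE a := ha
  have : K.IsLE b := hb
  have hzero : ∀ K : DCoh.D X, IsZero K → DCoh.IsPerfect K := by
    intro K hK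
    have h0 : DCoh.IsPerfect (DCoh.inD X (0 : X.Modules)) :=
      hperf _ (isCoh_of_isZero (isZero_zero _)) (by
        rw [support_eq_empty_of_isZero (isZero_zero _)]
        exact Set.empty_subset _)
    exact isPerfect_of_iso
      (((singleFunctor X.Modules 0).map_isZero (isZero_zero _)).iso hK) h0
  apply Groth.Agent.Lib.Helper1.Devissage.induction_homology'
    (Perf X) hzero
    (fun T hT h1 h3 => (two_out_of_three T hT).2.1 h1 h3) K a b
  · rintro i (hi | hi)
    · exact isZero_of_isGE K a i hi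
    · exact isZero_of_isLE K b i hi
  · intro j _ _
    have h1 : DCoh.IsPerfect (DCoh.inD X (DCoh.HD K j)) := hperf _ (hc j).1 (hc j).2
    have h2 := isPerfect_shift _ h1 (-j)
    exact isPerfect_of_iso
      (((singleFunctors X.Modules).shiftIso (-j) j 0 (by omega)).app (DCoh.HD K j)) h2

theorem perfIn_eq_dbP [IsNoetherian X] (Y' : Set X)
    (hperf : ∀ G : X.Modules, Coh.IsCoh G → CohB1.support G ⊆ Y' → DCoh.IsPerfect (DCoh.inD X G)) :
    PerfIn Y' = DbP (CohIn Y') := by
  funext K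
  exact propext ⟨dbP_of_perfIn Y' K, perfIn_of_dbP Y' hperf K⟩

/-- S14007 -/
theorem exists_equiv_perfIn [IsNoetherian X] (Y' : Set X)
    (hperf : ∀ G : X.Modules, Coh.IsCoh G → CohB1.support G ⊆ Y' → DCoh.IsPerfect (DCoh.inD X G)) :
    ∃ φ : K0sub (CohIn Y') ≃+ K0tr (PerfIn Y'), ∀ G : X.Modules, Coh.IsCoh G →
      CohB1.support G ⊆ Y' → φ (clSub (CohIn Y') G) = clTr (PerfIn Y') (DCoh.inD X G) := by
  rw [perfIn_eq_dbP Y' hperf]
  obtain ⟨φ, hφ⟩ := exists_equiv (CohIn Y')
  exact ⟨φ, fun G h1 h2 => hφ G ⟨h1, h2⟩⟩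

end Groth.Agent.Lib.Seat63.CohPerf
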