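/-
Seat63RegPerf: on a locally Noetherian scheme with regular local rings every coherent module is a
perfect object of D(O_X) (`isPerfect_inD_of_regular`), hence D^b_Coh ⊆ perfect
(`isPerfect_of_bounded_coherent`, S1005) and perfect = D^b_Coh on regular Noetherian schemes
(`perfect_eq_dbCoh`, S1111).  Tools: stalk short exact sequences in `ModuleCat O_y` (`stalkSC`,
`stalkSC_shortExact`), projectivity of stalks of finite locally free modules, freeness near a point
with projective stalk, `SPRepAt` (strictly perfect representative near a point) with pointwise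
two-out-of-three `sprepAt_obj₃`, `restrictInDIso`, `exists_epi_freeMod` on `Spec R`,
`sprepAt_inD_of_pdLT` (finite projective dimension of the stalk ⇒ perfect near the point).
-/
import Mathlib
import Groth.Agent.Lib.Seat63CohPerf
import Groth.Agent.Lib.Helper4NormDelta
import Groth.Agent.Lib.Helper2FibreCrit2
import Groth.Agent.S0563
import Groth.Agent.Lib.Seat28FLF
import Groth.Agent.Lib.Helper18FittSh4
import Groth.Agent.Lib.Helper5RLR

set_option autoImplicit false
set_option linter.style.haveILetI false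
universe u
open CategoryTheory CategoryTheory.Limits AlgebraicGeometry TopologicalSpace
attribute [local instance] HasDerivedCategory.standard

namespace Groth.Agent.Lib.Seat63.RegPerf

open ZeroObject DerivedCategory Pretriangulated Groth.Agent.Lib.Seat63.CohThick
  Groth.Agent.Lib.Seat63.CohPerf Groth.Agent.Lib.Helper4.NormDelta
  Groth.Agent.Lib.Helper2.ModExact
  Groth.Agent.Lib.Seat0.PerfLocal Groth.Agent.Lib.Seat0.PerfTri

variable {Y : Scheme.{u}}

/-- stalk of a module as an object of `ModuleCat` over the local ring -/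
noncomputable abbrev stalkMod (G : Y.Modules) (y : Y) : ModuleCat.{u} (Y.presheaf.stalk y) :=
  ModuleCat.of (Y.presheaf.stalk y) (G.presheaf.stalk y)

lemma stalkLin_comp_apply {F G H : Y.Modules} (φ : F ⟶ G) (ψ : G ⟶ H) (y : Y)
    (z : F.presheaf.stalk y) : stalkLin ψ y (stalkLin φ y z) = stalkLin (φ ≫ ψ) y z := by
  obtain ⟨V, hyV, t, rfl⟩ := F.presheaf.exists_germ_eq z
  rw [stalkLin_germ, stalkLin_germ, stalkLin_germ]
  rfl

lemma stalkLin_zero_apply {F G : Y.Modules} (y : Y) (z : F.presheaf.stalk y) :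
    stalkLin (0 : F ⟶ G) y z = 0 := by
  obtain ⟨V, hyV, t, rfl⟩ := F.presheaf.exists_germ_eq z
  rw [stalkLin_germ]
  have : Scheme.Modules.Hom.app (0 : F ⟶ G) V t = 0 := rfl
  rw [this, map_zero]

lemma stalkLin_injective {F G : Y.Modules} (φ : F ⟶ G) [Mono φ] (y : Y) :
    Function.Injective (stalkLin φ y) := by
  rw [injective_iff_map_eq_zero]
  intro z hz
  obtain ⟨V, hyV, t, rfl⟩ := F.presheaf.exists_germ_eq z
  rw [stalkLin_germ] at hz
  exact germ_eq_zero_of_app φ (fun W => app_injective_of_mono φ W) V y hyV t hz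

/-- the short complex of stalks -/
noncomputable def stalkSC (S : ShortComplex Y.Modules) (y : Y) :
    ShortComplex (ModuleCat.{u} (Y.presheaf.stalk y)) :=
  ShortComplex.mk (X₁ := stalkMod S.X₁ y) (X₂ := stalkMod S.X₂ y) (X₃ := stalkMod S.X₃ y)
    (ModuleCat.ofHom (stalkLin S.f y)) (ModuleCat.ofHom (stalkLin S.g y)) (by
      ext z
      change stalkLin S.g y (stalkLin S.f y z) = 0
      rw [stalkLin_comp_apply, S.zero, stalkLin_zero_apply])

lemma stalkSC_shortExact (S : ShortComplex Y.Modules) (hS : S.ShortExact) (y : Y) :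
    (stalkSC S y).ShortExact := by
  have := hS.mono_f
  have := hS.epi_g
  refine ShortComplex.ShortExact.mk' ?_ ?_ ?_
  · rw [ShortComplex.moduleCat_exact_iff]
    intro z hz
    obtain ⟨W, hyW, s, rfl⟩ := exists_germ_of_stalkLin_eq_zero S hS y z hz
    exact ⟨S.X₁.presheaf.germ W y hyW s, stalkLin_germ S.f y W hyW s⟩
  · rw [ModuleCat.mono_iff_injective]
    exact stalkLin_injective S.f y
  · rw [ModuleCat.epi_iff_surjective]
    exact stalkLin_surjective S.g y

/-- stalks of finite locally free modules are projective (locally Noetherian case) -/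
lemma projective_stalk_of_isFinLocFree [IsLocallyNoetherian Y] (F : Y.Modules)
    (hF : FlatMod.IsFinLocFree F) (y : Y) : Projective (stalkMod F y) := by
  have hc := isCoh_of_isFinLocFree F hF
  have := hc.1
  have := hc.2
  haveI : Module.Finite (Y.presheaf.stalk y) (F.presheaf.stalk y) :=
    Groth.Agent.Lib.Helper2.FibreCrit.finite_stalk F y
  haveI : Module.Flat (Y.presheaf.stalk y) (F.presheaf.stalk y) :=
    Groth.Agent.Lib.Helper2.LocFree.isFlat_of_isFinLocFree F hF y
  haveI : Module.FinitePresentation (Y.presheaf.stalk y) (F.presheaf.stalk y) :=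
    Module.finitePresentation_of_finite _ _
  haveI : Module.Free (Y.presheaf.stalk y) (F.presheaf.stalk y) :=
    Module.free_of_flat_of_isLocalRing
  exact (IsProjective.iff_projective (R := Y.presheaf.stalk y) (F.presheaf.stalk y)).1 inferInstance

/-- a coherent module with projective stalk at `y` is free near `y` -/
lemma exists_restrict_iso_freeMod_of_projective_stalk [IsLocallyNoetherian Y] (G : Y.Modules)
    (hG : Coh.IsCoh G) (y : Y) (h : Projective (stalkMod G y)) :
    ∃ (D : Y.Opens) (m : ℕ), y ∈ D ∧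
      Nonempty (G.restrict D.ι ≅ FlatMod.freeMod (D : Scheme.{u}) m) := by
  have := hG.1
  have := hG.2
  haveI : Module.Projective (Y.presheaf.stalk y) (G.presheaf.stalk y) :=
    (IsProjective.iff_projective (R := Y.presheaf.stalk y) (G.presheaf.stalk y)).2 h
  have hflat : FlatMod.IsFlatAt G y :=
    (inferInstance : Module.Flat (Y.presheaf.stalk y) (G.presheaf.stalk y))
  obtain ⟨U, hU, hyU⟩ : ∃ U : Y.Opens, IsAffineOpen U ∧ y ∈ U := by
    obtain ⟨_, ⟨U, hU, rfl⟩, hxU, -⟩ :=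
      Y.isBasis_affineOpens.exists_subset_of_mem_open (Set.mem_univ y) isOpen_univ
    exact ⟨U, hU, hxU⟩
  haveI : IsNoetherianRing Γ(Y, U) := IsLocallyNoetherian.component_noetherian ⟨U, hU⟩
  haveI : Module.Finite Γ(Y, U) Γ(G, U) :=
    Groth.Agent.Lib.Helper23.FinType.finite_of_isFiniteType G hU
  haveI : Module.Finite Γ(Y, U) ((Groth.Agent.Lib.Helper20.Thickening.ΓUF hU).obj G) :=
    Module.Finite.equiv (Groth.Agent.Lib.Helper20.PullbackAff.ΓUEquiv hU G)
  haveI : Module.FinitePresentation Γ(Y, U) ((Groth.Agent.Lib.Helper20.Thickening.ΓUF hU).obj G) :=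
    Module.finitePresentation_of_finite _ _
  obtain ⟨f, hf, hfree⟩ := Groth.Agent.Lib.Helper2.LocFree.exists_free_away_of_flat_atPrime
    ((Groth.Agent.Lib.Helper20.Thickening.ΓUF hU).obj G)
    (hU.primeIdealOf ⟨y, hyU⟩)
    (Groth.Agent.Lib.Helper2.LocFree.flat_localizedModule_of_isFlatAt G hU y hyU hflat)
  obtain ⟨D, m, hxD, -, h⟩ :=
    Groth.Agent.Lib.Helper2.LocFree.exists_restrict_iso_freeMod_of_free_away G hU y hyU f hf hfree
  exact ⟨D, m, hxD, h⟩

/-! ### strictly perfect representatives near a point -/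

/-- `K` is represented by a strictly perfect complex near `y` -/
def SPRepAt (K : DCoh.D Y) (y : Y) : Prop := ∃ V : Y.Opens, y ∈ V ∧ SPRep V.ι K

lemma isPerfect_iff_sprepAt (K : DCoh.D Y) : DCoh.IsPerfect K ↔ ∀ y, SPRepAt K y :=
  isPerfect_iff_sprep K

lemma sprepAt_of_sprep {W : Scheme.{u}} (j : W ⟶ Y) [IsOpenImmersion j] (K : DCoh.D Y) (w : W)
    (h : SPRep j K) : SPRepAt K (j w) := by
  let V : Y.Opens := j.opensRange
  let e : W ≅ (V : Scheme.{u}) := IsOpenImmersion.isoOfRangeEq j V.ι (by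
    simp only [V, Scheme.Opens.range_ι, Scheme.Hom.coe_opensRange])
  have hfac : e.inv ≫ j = V.ι := IsOpenImmersion.isoOfRangeEq_inv_fac _ _ _
  exact ⟨V, ⟨w, rfl⟩, (h.comp e.inv).ofEq hfac⟩

lemma SPRepAt.of_iso {K K' : DCoh.D Y} {y : Y} (h : SPRepAt K y) (e : K ≅ K') : SPRepAt K' y := by
  obtain ⟨V, hyV, hV⟩ := h
  exact ⟨V, hyV, hV.of_iso e⟩

/-- two out of three near a point -/
theorem sprepAt_obj₃ (T : Triangle (DCoh.D Y)) (hT : T ∈ distTriang (DCoh.D Y)) (y : Y)
    (h₁ : SPRepAt T.obj₁ y) (h₂ : SPRepAt T.obj₂ y) : SPRepAt T.obj₃ y := by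
  obtain ⟨V₁, hx₁, hV₁⟩ := h₁
  obtain ⟨V₂, hx₂, hV₂⟩ := h₂
  let V : Y.Opens := V₁ ⊓ V₂
  have hK : SPRep V.ι T.obj₁ :=
    (hV₁.comp (Y.homOfLE (inf_le_left : V ≤ V₁))).ofEq (Y.homOfLE_ι _)
  have hL : SPRep V.ι T.obj₂ :=
    (hV₂.comp (Y.homOfLE (inf_le_right : V ≤ V₂))).ofEq (Y.homOfLE_ι _)
  obtain ⟨E₁, hE₁, ⟨e₁⟩⟩ := hK
  obtain ⟨E₂, hE₂, ⟨e₂⟩⟩ := hL
  have hTV : (DCoh.restrictD V.ι).mapTriangle.obj T ∈ distTriang _ :=
    (DCoh.restrictD V.ι).map_distinguished T hT
  obtain ⟨V', hxV', E, hE, ⟨e⟩⟩ :=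
    sprep_obj₃ ((DCoh.restrictD V.ι).mapTriangle.obj T) hTV hE₁ hE₂ e₁ e₂ ⟨y, ⟨hx₁, hx₂⟩⟩
  have h3 : SPRep (V'.ι ≫ V.ι) T.obj₃ := ⟨E, hE, ⟨rdCompObjIso V'.ι V.ι T.obj₃ ≪≫ e⟩⟩
  exact sprepAt_of_sprep (V'.ι ≫ V.ι) T.obj₃ ⟨⟨y, ⟨hx₁, hx₂⟩⟩, hxV'⟩ h3

/-- restriction of a module placed in degree `0` -/
noncomputable def restrictInDIso {W : Scheme.{u}} (j : W ⟶ Y) [IsOpenImmersion j] (G : Y.Modules) :
    (DCoh.restrictD j).obj (DCoh.inD Y G) ≅ DCoh.inD W (G.restrict j) :=
  ((Scheme.Modules.restrictFunctor j).mapDerivedCategorySingleFunctor 0).app G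

lemma isStrictlyPerfect_single (F : Y.Modules) (hF : FlatMod.IsFinLocFree F) :
    DCoh.IsStrictlyPerfect ((CochainComplex.singleFunctor Y.Modules 0).obj F) := by
  refine ⟨⟨0, 0, fun i hi => ?_⟩, fun i => ?_⟩
  · exact HomologicalComplex.isZero_single_obj_X _ _ _ _ (by omega)
  · by_cases hi : i = 0
    · subst hi
      exact Groth.Agent.Lib.Seat28.FLF.isFinLocFree_of_iso
        (HomologicalComplex.singleObjXSelf (ComplexShape.up ℤ) 0 F).symm hF
    · exact Groth.Agent.Lib.Seat28.FLF.isFinLocFree_of_isZero _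
        (HomologicalComplex.isZero_single_obj_X _ _ _ _ hi)

lemma sprepAt_inD_of_isFinLocFree (F : Y.Modules) (hF : FlatMod.IsFinLocFree F) (y : Y) :
    SPRepAt (DCoh.inD Y F) y := by
  refine ⟨⊤, trivial, (CochainComplex.singleFunctor _ 0).obj (F.restrict (⊤ : Y.Opens).ι),
    isStrictlyPerfect_single _ (Groth.Agent.Lib.Seat0.LocLift.isFinLocFree_restrict _ F hF), ⟨?_⟩⟩
  exact restrictInDIso (⊤ : Y.Opens).ι F ≪≫
    (DerivedCategory.singleFunctorIsoCompQ _ 0).app _

lemma sprepAt_inD_of_restrict_iso_freeMod (G : Y.Modules) (D : Y.Opens) (m : ℕ) (y : Y)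
    (hy : y ∈ D) (e : G.restrict D.ι ≅ FlatMod.freeMod (D : Scheme.{u}) m) :
    SPRepAt (DCoh.inD Y G) y := by
  refine ⟨D, hy, (CochainComplex.singleFunctor _ 0).obj (FlatMod.freeMod (D : Scheme.{u}) m),
    isStrictlyPerfect_single _
      (Groth.Agent.Lib.Helper2.LocFree.isFinLocFree_of_iso_freeMod _ (Iso.refl _)), ⟨?_⟩⟩
  exact restrictInDIso D.ι G ≪≫ (DerivedCategory.singleFunctor _ 0).mapIso e ≪≫
    (DerivedCategory.singleFunctorIsoCompQ _ 0).app _

/-! ### coherent modules of finite projective dimension at a point of `Spec R` -/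

lemma exists_epi_freeMod {R : CommRingCat.{u}} (G : (Spec R).Modules) (hG : Coh.IsCoh G) :
    ∃ (r : ℕ) (π : FlatMod.freeMod (Spec R) r ⟶ G), Epi π := by
  have := hG.1
  have := hG.2
  let P : ModuleCat.{u} R := (Groth.Agent.Lib.Helper23.QCohLocal.ΓF R).obj G
  let i1 : G ≅ tilde P := Groth.Agent.Lib.Helper20.OmegaAff.isoTildeOfΓIso G P (Iso.refl _)
  have h1 : SheafOfModules.IsFiniteType (R := (Spec R).ringCatSheaf) (tilde P) :=
    Groth.Agent.Lib.Helper23.FinType.isFiniteType_of_iso i1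
  have hfin : Module.Finite R P := (Groth.Agent.Lib.Helper23.FinType.isFiniteType_tilde_iff R P).1 h1
  obtain ⟨n, g, hg⟩ := Module.Finite.exists_fin (R := R) (M := P)
  obtain ⟨π₀, hπ₀⟩ := Groth.Agent.Helper18FittSh.exists_epi_freeMod_tilde R P g hg
  haveI : IsIso i1.inv := ⟨⟨i1.hom, i1.inv_hom_id, i1.hom_inv_id⟩⟩
  have h2 : Epi i1.inv := IsIso.epi_of_iso _
  exact ⟨n, π₀ ≫ i1.inv, @epi_comp _ _ _ _ _ π₀ hπ₀ i1.inv h2⟩

theorem sprepAt_inD_of_pdLT {R : CommRingCat.{u}} [IsNoetherianRing R] (y : Spec R) (k : ℕ) :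
    ∀ (G : (Spec R).Modules), Coh.IsCoh G →
      HasProjectiveDimensionLT (stalkMod G y) (k + 1) → SPRepAt (DCoh.inD _ G) y := by
  induction k with
  | zero =>
    intro G hG h
    have hp : Projective (stalkMod G y) := inferInstance
    obtain ⟨D, m, hyD, ⟨e⟩⟩ := exists_restrict_iso_freeMod_of_projective_stalk G hG y hp
    exact sprepAt_inD_of_restrict_iso_freeMod G D m y hyD e
  | succ k ih =>
    intro G hG h
    obtain ⟨r, π, hπ⟩ := exists_epi_freeMod G hG
    let S : ShortComplex (Spec R).Modules := ShortComplex.mk (kernel.ι π) π (kernel.condition π)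
    have hS : S.ShortExact :=
      { exact := ShortComplex.exact_kernel π
        mono_f := inferInstanceAs (Mono (kernel.ι π))
        epi_g := inferInstanceAs (Epi π) }
    have hfree : FlatMod.IsFinLocFree (FlatMod.freeMod (Spec R) r) :=
      Groth.Agent.Lib.Helper2.LocFree.isFinLocFree_of_iso_freeMod _ (Iso.refl _)
    have hK : Coh.IsCoh (kernel π) := isCoh_kernel π (isCoh_freeMod r) hG
    have hproj : Projective (stalkSC S y).X₂ := projective_stalk_of_isFinLocFree _ hfree y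
    have hpd : HasProjectiveDimensionLT (stalkMod (kernel π) y) (k + 1) :=
      ((stalkSC_shortExact S hS y).hasProjectiveDimensionLT_X₃_iff k hproj).1 h
    have h1 := ih (kernel π) hK hpd
    have h2 := sprepAt_inD_of_isFinLocFree (FlatMod.freeMod (Spec R) r) hfree y
    exact sprepAt_obj₃ hS.singleTriangle hS.singleTriangle_distinguished y h1 h2

/-! ### regular schemes -/

/-- on a locally Noetherian scheme with regular local rings every coherent module is perfect -/
theorem isPerfect_inD_of_regular (X : Scheme.{u}) [IsLocallyNoetherian X]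
    (hreg : ∀ x : X, IsRegularLocalRing (X.presheaf.stalk x)) (G : X.Modules) (hG : Coh.IsCoh G) :
    DCoh.IsPerfect (DCoh.inD X G) := by
  have := hG.1
  have := hG.2
  refine isPerfect_of_sprep _ (fun x => ?_)
  obtain ⟨U, hU, hxU⟩ : ∃ U : X.Opens, IsAffineOpen U ∧ x ∈ U := by
    obtain ⟨_, ⟨U, hU, rfl⟩, hxU, -⟩ :=
      X.isBasis_affineOpens.exists_subset_of_mem_open (Set.mem_univ x) isOpen_univ
    exact ⟨U, hU, hxU⟩
  haveI : IsNoetherianRing Γ(X, U) := IsLocallyNoetherian.component_noetherian ⟨U, hU⟩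
  obtain ⟨y, rfl⟩ : ∃ y, hU.fromSpec y = x := by
    have : x ∈ Set.range hU.fromSpec := by
      rw [hU.range_fromSpec]
      exact hxU
    exact this
  have hG' : Coh.IsCoh (G.restrict hU.fromSpec) :=
    ⟨Scheme.Modules.isQuasicoherent_restrictFunctor hU.fromSpec G,
      Groth.Agent.Lib.Helper23.FinType.isFiniteType_restrict hU.fromSpec G⟩
  haveI := hreg (hU.fromSpec y)
  haveI : IsRegularLocalRing ((Spec Γ(X, U)).presheaf.stalk y) :=
    IsRegularLocalRing.of_ringEquiv (asIso (hU.fromSpec.stalkMap y)).commRingCatIsoToRingEquiv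
  obtain ⟨d, hd⟩ := Groth.Agent.Lib.Helper5.exists_nat_ringKrullDim_eq
    ((Spec Γ(X, U)).presheaf.stalk y)
  have hpd : HasProjectiveDimensionLT (stalkMod (G.restrict hU.fromSpec) y) (d + 1) :=
    Groth.Agent.S0563.result _ d hd ((G.restrict hU.fromSpec).presheaf.stalk y)
  obtain ⟨V, hyV, E, hE, ⟨e'⟩⟩ := sprepAt_inD_of_pdLT y d (G.restrict hU.fromSpec) hG' hpd
  refine ⟨V, V.ι ≫ hU.fromSpec, inferInstance, ⟨⟨y, hyV⟩, rfl⟩, E, hE, ⟨?_⟩⟩
  exact rdCompObjIso V.ι hU.fromSpec _ ≪≫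
    (DCoh.restrictD V.ι).mapIso (restrictInDIso hU.fromSpec G) ≪≫ e'

/-- S1005 -/
theorem isPerfect_of_bounded_coherent (X : Scheme.{u}) [IsLocallyNoetherian X]
    (hreg : ∀ x : X, IsRegularLocalRing (X.presheaf.stalk x))
    (K : DCoh.D X) (a b : ℤ) [K.IsGE a] [K.IsLE b] (hK : DCoh.IsCohD K) : DCoh.IsPerfect K :=
  (perfIn_of_dbP Set.univ (fun G hG _ => isPerfect_inD_of_regular X hreg G hG) K
    ⟨fun i => ⟨hK i, Set.subset_univ _⟩, a, b, inferInstance, inferInstance⟩).1

/-- on a regular Noetherian scheme: perfect = bounded with coherent cohomology -/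
theorem perfect_eq_dbCoh (X : Scheme.{u}) [IsNoetherian X]
    (hreg : ∀ x : X, IsRegularLocalRing (X.presheaf.stalk x)) :
    (fun K : DCoh.D X => DCoh.IsPerfect K) =
      (fun K : DCoh.D X => DCoh.IsCohD K ∧ ∃ a b : ℤ, K.IsGE a ∧ K.IsLE b) := by
  funext K
  apply propext
  constructor
  · intro h
    obtain ⟨h1, a, b, ha, hb⟩ := dbP_of_perfIn Set.univ K ⟨h, fun _ => Set.subset_univ _⟩
    exact ⟨fun i => (h1 i).1, a, b, ha, hb⟩
  · rintro ⟨h, a, b, ha, hb⟩
    exact isPerfect_of_bounded_coherent X hreg K a b h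

lemma exists_equiv_of_eq {C : Type*} [Category C] [Preadditive C] [HasZeroObject C] [HasShift C ℤ]
    [∀ n : ℤ, (shiftFunctor C n).Additive] [Pretriangulated C]
    (P Q : C → Prop) (h : P = Q) :
    ∃ φ : KZero.K0tr P ≃+ KZero.K0tr Q, ∀ K : C, P K → φ (KZero.clTr P K) = KZero.clTr Q K := by
  subst h
  exact ⟨AddEquiv.refl _, fun _ _ => rfl⟩

end Groth.Agent.Lib.Seat63.RegPerf
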