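/-
Seat63AffPerf: from perfectness of the module of sections over an affine open to a strictly perfect
representative over that open.
* `sprep_fromSpec_of_isPerfect`: `G` quasi-coherent on `X`, `U` affine open; if `Γ(G, U)[0]` is a
  perfect object of `D(Γ(X, U))` then `G[0]` restricted along `Spec Γ(X, U) ⟶ X` is represented by a
  strictly perfect complex (the tilde of a bounded complex of finite projective modules).
* `sprep_of_isZero_restrict`: a module vanishing on an open is (trivially) strictly perfect there.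
* `isPerfect_push_structure_of_koszul`: Koszul-regular closed immersions have perfect `i_* O_Z`.
-/
import Mathlib
import Groth.Agent.Lib.Seat63RegPerf
import Groth.Agent.Lib.Seat31KoszulRes
import Groth.Agent.S9498
import Groth.Agent.Lib.Helper18FinFlat1
import Groth.Agent.Lib.Helper2FPAff
import Groth.Agent.Lib.Helper20PullbackAff
import Groth.Prelude.Def_RegImm

set_option autoImplicit false
set_option linter.style.haveILetI false
universe u
open CategoryTheory CategoryTheory.Limits AlgebraicGeometry TopologicalSpace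
attribute [local instance] HasDerivedCategory.standard

namespace Groth.Agent.Lib.Seat63.AffPerf

open DerivedCategory Groth.Agent.Lib.Seat63.RegPerf Groth.Agent.Lib.Seat0.PerfLocal
  Groth.Agent.Lib.Helper20.Thickening

variable {X : Scheme.{u}}

/-- perfect sections over an affine open give a strictly perfect representative there -/
theorem sprep_fromSpec_of_isPerfect (G : X.Modules) [G.IsQuasicoherent] {U : X.Opens}
    (hU : IsAffineOpen U)
    (h : DRing.IsPerfect Γ(X, U)
      ((singleFunctor (ModuleCat.{u} Γ(X, U)) 0).obj ((ΓUF hU).obj G))) :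
    SPRep hU.fromSpec (DCoh.inD X G) := by
  obtain ⟨P, a, b, hv, hfp, ⟨e⟩⟩ := h
  haveI : PreservesFiniteLimits (tilde.functor Γ(X, U)) := (Groth.Agent.S9498.aux Γ(X, U)).1
  haveI : (G.restrict hU.fromSpec).IsQuasicoherent :=
    Scheme.Modules.isQuasicoherent_restrictFunctor hU.fromSpec G
  refine ⟨((tilde.functor Γ(X, U)).mapHomologicalComplex (ComplexShape.up ℤ)).obj P,
    ⟨⟨a, b, fun i hi => (tilde.functor Γ(X, U)).map_isZero (hv i hi)⟩, fun i =>
      (Groth.Agent.Lib.Helper2.FPAff.isFinLocFree_tilde_iff _ (P.X i)).2 (hfp i)⟩, ⟨?_⟩⟩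
  exact restrictInDIso hU.fromSpec G ≪≫
    (singleFunctor _ 0).mapIso
      (Groth.Agent.Lib.Helper20.OmegaAff.isoTildeOfΓIso (G.restrict hU.fromSpec)
        ((ΓUF hU).obj G) (Iso.refl _)) ≪≫
    (((tilde.functor Γ(X, U)).mapDerivedCategorySingleFunctor 0).app ((ΓUF hU).obj G)).symm ≪≫
    (DCoh.tildeD Γ(X, U)).mapIso e.symm ≪≫
    (tilde.functor Γ(X, U)).mapDerivedCategoryFactors.app P

end Groth.Agent.Lib.Seat63.AffPerf

namespace Groth.Agent.Lib.Seat63.AffPerf

open DerivedCategory Groth.Agent.Lib.Seat63.RegPerf Groth.Agent.Lib.Seat0.PerfLocal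
  Groth.Agent.Lib.Helper20.Thickening

variable {X : Scheme.{u}}

/-- a module vanishing on an open is strictly perfect there -/
theorem sprep_of_isZero_restrict (G : X.Modules) (W : X.Opens) (h : IsZero (G.restrict W.ι)) :
    SPRep W.ι (DCoh.inD X G) := by
  refine ⟨(CochainComplex.singleFunctor _ 0).obj (G.restrict W.ι),
    isStrictlyPerfect_single _ (Groth.Agent.Lib.Seat28.FLF.isFinLocFree_of_isZero _ h), ⟨?_⟩⟩
  exact restrictInDIso W.ι G ≪≫ (DerivedCategory.singleFunctorIsoCompQ _ 0).app _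

/-- `i_* O_Z` vanishes on the complement of the image of a closed immersion -/
lemma isZero_restrict_push_compl {Z : Scheme.{u}} (i : Z ⟶ X) (W : X.Opens)
    (hW : ∀ z : Z, i z ∉ W) :
    IsZero (((Scheme.Modules.pushforward i).obj (Coh.structureModule Z)).restrict W.ι) := by
  apply Groth.Agent.Lib.Helper23.ModLocal.isZero_of_forall_eq_zero
  intro V s
  have hbot : i ⁻¹ᵁ (W.ι ''ᵁ V) = ⊥ := by
    ext z
    simp only [Scheme.Hom.mem_preimage, Opens.coe_bot, Set.mem_empty_iff_false, iff_false,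
      SetLike.mem_coe]
    intro hz
    exact hW z ((Scheme.Hom.image_le_opensRange W.ι V).trans (by simp) hz)
  have hs : Subsingleton Γ(Z, i ⁻¹ᵁ (W.ι ''ᵁ V)) := by
    rw [hbot]
    infer_instance
  exact @Subsingleton.elim _ hs s 0

/-- S6237: a Koszul-regular closed immersion has perfect `i_* O_Z` -/
theorem isPerfect_push_structure_of_koszul {Z : Scheme.{u}} (i : Z ⟶ X) [IsClosedImmersion i]
    (hi : RegImm.IsRegularImmersion RegImm.Kind.koszul i) :
    DCoh.IsPerfect (DCoh.inD X ((Scheme.Modules.pushforward i).obj (Coh.structureModule Z))) := by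
  haveI : ((Scheme.Modules.pushforward i).obj (Coh.structureModule Z)).IsQuasicoherent :=
    Groth.Agent.Lib.Helper23.QCohLocal.isQuasicoherent_pushforward i _
  refine isPerfect_of_sprep _ (fun x => ?_)
  by_cases hx : x ∈ Set.range i
  · obtain ⟨z, rfl⟩ := hx
    obtain ⟨U, hzU, -, rs, hrs, hker⟩ := hi.2 z
    refine ⟨Spec Γ(X, U.1), U.2.fromSpec, U.2.isOpenImmersion_fromSpec, ?_,
      sprep_fromSpec_of_isPerfect _ U.2 ?_⟩
    · rw [U.2.range_fromSpec]
      exact hzU
    · letI : Algebra Γ(X, U.1) Γ(Z, i ⁻¹ᵁ U.1) := (i.app U.1).hom.toAlgebra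
      have hsurj : Function.Surjective (algebraMap Γ(X, U.1) Γ(Z, i ⁻¹ᵁ U.1)) :=
        i.app_surjective U.1 U.2
      obtain ⟨e⟩ := Groth.Agent.Lib.Seat31.KoszulRes.nonempty_koszul_iso_of_surjective
        (A := Γ(X, U.1)) (C := Γ(Z, i ⁻¹ᵁ U.1)) hsurj rs hker hrs
      let e2 : (ΓUF U.2).obj ((Scheme.Modules.pushforward i).obj (Coh.structureModule Z)) ≅
          ModuleCat.of Γ(X, U.1) Γ(Z, i ⁻¹ᵁ U.1) :=
        ((Groth.Agent.Lib.Helper20.PullbackAff.ΓUEquiv U.2 _).symm ≪≫ₗ
          Groth.Agent.Helper18FinFlat.pushEquiv i U.1).toModuleIso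
      refine ⟨Koszul.koszul _ rs, -(rs.length : ℤ), 0, ?_, ?_,
        ⟨e ≪≫ (singleFunctor _ 0).mapIso e2.symm⟩⟩
      · rintro j (hj | hj)
        · exact Groth.Agent.Lib.Seat31.KoszulRes.isZero_X_neg rs j hj
        · exact Groth.Agent.Lib.Seat31.KoszulRes.isZero_X_pos rs j hj
      · intro j
        have h := Groth.Agent.Lib.Seat31.KoszulRes.ff_X rs j
        exact ⟨h.1, Groth.Agent.S7017.FF_proj _ h⟩
  · let W : X.Opens := ⟨(Set.range i)ᶜ, i.isClosedEmbedding.isClosed_range.isOpen_compl⟩
    refine ⟨W, W.ι, inferInstance, ?_, sprep_of_isZero_restrict _ W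
      (isZero_restrict_push_compl i W (fun z hz => hz ⟨z, rfl⟩))⟩
    rw [Scheme.Opens.range_ι]
    exact hx

end Groth.Agent.Lib.Seat63.AffPerf
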