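/-
Seat63CohK0: `CohP X` (coherent modules as an ObjectProperty, closed under iso/zero/kernels on a
locally Noetherian scheme), `DbCoh X`, and `K₀(Coh X) ≃ K₀(D^b_Coh X)` (`exists_equiv_dbCoh`, S1052).
-/
import Mathlib
import Groth.Agent.Lib.Seat63CohPerf

set_option autoImplicit false
universe u
open CategoryTheory CategoryTheory.Limits AlgebraicGeometry TopologicalSpace
attribute [local instance] HasDerivedCategory.standard

namespace Groth.Agent.Lib.Seat63.CohK0

open ZeroObject DerivedCategory KZero Pretriangulated Groth.Agent.Lib.Seat63.CohThick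
  Groth.Agent.Lib.Helper17.K0c Groth.Agent.Lib.Helper17.K0e Groth.Agent.Lib.Seat63.CohPerf

variable {X : Scheme.{u}}

/-- coherent modules as an `ObjectProperty` -/
def CohP (X : Scheme.{u}) : ObjectProperty X.Modules := fun M => Coh.IsCoh M

instance : (CohP X).IsClosedUnderIsomorphisms := ⟨fun e h => isCoh_of_iso e h⟩

instance [IsLocallyNoetherian X] : (CohP X).ContainsZero :=
  ⟨⟨0, isZero_zero _, isCoh_of_isZero (isZero_zero _)⟩⟩

instance [IsLocallyNoetherian X] : (CohP X).IsClosedUnderKernels where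
  kernels_le := by
    rintro _ ⟨f, k, hk, ⟨h1, h2⟩⟩
    have e : kernel f ≅ k.pt := (kernelIsKernel f).conePointUniqueUpToIso hk
    exact (CohP X).prop_of_iso e (isCoh_kernel f h1 h2)

/-- bounded objects with coherent cohomology -/
def DbCoh (X : Scheme.{u}) : ObjectProperty (DCoh.D X) :=
  fun K => DCoh.IsCohD K ∧ ∃ a b : ℤ, K.IsGE a ∧ K.IsLE b

lemma dbCoh_eq : DbCoh X = DbP (CohP X) := rfl

/-- S1052 -/
theorem exists_equiv_dbCoh [IsLocallyNoetherian X] :
    ∃ φ : K0sub (CohP X) ≃+ K0tr (DbCoh X), ∀ F : X.Modules, Coh.IsCoh F →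
      φ (clSub (CohP X) F) = clTr (DbCoh X) (DCoh.inD X F) :=
  exists_equiv (CohP X)

end Groth.Agent.Lib.Seat63.CohK0
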