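import Mathlib
import Groth.Prelude.Def_DTen3

/-!
# Basic calculus for the derived tensor product and internal hom of `Def_DTen3` (helper63)

* `tmap f g` : `(LTen₂ A).map (f, g)` with its functoriality lemmas;
* naturality of `DTen.associator` in the three variables;
* the inverse hom bijection `rhomHomEquiv.symm` in terms of `ev`;
* naturality of `evalTen K L M` in `K`, packaged as a natural transformation `evalTenNat L M`.
-/

set_option autoImplicit false
universe u
open CategoryTheory CategoryTheory.Limits MonoidalCategory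
attribute [local instance] HasDerivedCategory.standard

namespace Groth.Agent.Lib.Seat63.DTenBasic

open DTen

variable {A : Type u} [CommRing A]

section tmap

variable [HasLTen A]

/-- `f ⊗^L g` -/
noncomputable abbrev tmap {X X' Y Y' : Dual.D A} (f : X ⟶ X') (g : Y ⟶ Y') :
    (LTen₂ A).obj (X, Y) ⟶ (LTen₂ A).obj (X', Y') :=
  (LTen₂ A).map (Prod.mkHom f g)

lemma tmap_id (X Y : Dual.D A) : tmap (𝟙 X) (𝟙 Y) = 𝟙 ((LTen₂ A).obj (X, Y)) := by
  dsimp [tmap]
  rw [← prod_id, CategoryTheory.Functor.map_id]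

@[reassoc]
lemma tmap_comp {X X' X'' Y Y' Y'' : Dual.D A} (f : X ⟶ X') (f' : X' ⟶ X'') (g : Y ⟶ Y')
    (g' : Y' ⟶ Y'') : tmap (f ≫ f') (g ≫ g') = tmap f g ≫ tmap f' g' := by
  dsimp [tmap]
  rw [← Functor.map_comp]
  rfl

@[reassoc]
lemma tmap_comp_left {X X' X'' : Dual.D A} (f : X ⟶ X') (f' : X' ⟶ X'') (Y : Dual.D A) :
    tmap (f ≫ f') (𝟙 Y) = tmap f (𝟙 Y) ≫ tmap f' (𝟙 Y) := by
  rw [← tmap_comp, Category.comp_id]

@[reassoc]
lemma tmap_comp_right (X : Dual.D A) {Y Y' Y'' : Dual.D A} (g : Y ⟶ Y') (g' : Y' ⟶ Y'') :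
    tmap (𝟙 X) (g ≫ g') = tmap (𝟙 X) g ≫ tmap (𝟙 X) g' := by
  rw [← tmap_comp, Category.comp_id]

@[reassoc]
lemma tmap_exchange {X X' Y Y' : Dual.D A} (f : X ⟶ X') (g : Y ⟶ Y') :
    tmap f (𝟙 Y) ≫ tmap (𝟙 X') g = tmap (𝟙 X) g ≫ tmap f (𝟙 Y') := by
  rw [← tmap_comp, ← tmap_comp, Category.comp_id, Category.id_comp, Category.comp_id,
    Category.id_comp]

lemma flip_obj_map (X : Dual.D A) {K K' : Dual.D A} (f : K ⟶ K') :
    ((LTen A).flip.obj X).map f = tmap f (𝟙 X) := rfl

lemma obj_map (U : Dual.D A) {X X' : Dual.D A} (g : X ⟶ X') :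
    ((LTen A).obj U).map g = tmap (𝟙 U) g := rfl

end tmap

section assoc

variable [HasLTen A] [HasLTen₃ A] [IsSymMonoidal A]

/-- naturality of the associator in the three variables -/
@[reassoc]
lemma associator_naturality {a a' b b' c c' : Dual.D A} (f : a ⟶ a') (g : b ⟶ b') (h : c ⟶ c') :
    tmap (tmap f g) h ≫ (DTen.associator a' b' c').hom =
      (DTen.associator a b c).hom ≫ tmap f (tmap g h) := by
  have hn := (assocL A ≫ (asIso (assocR A)).inv).naturality
    (X := (a, (b, c))) (Y := (a', (b', c'))) (Prod.mkHom f (Prod.mkHom g h))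
  simp only [NatTrans.comp_app, Category.assoc] at hn
  simp only [asIso_inv] at hn
  dsimp [LTenL, LTenR] at hn
  exact hn.trans (Category.assoc _ _ _).symm

end assoc

section rhom

variable [HasLTen A] [HasRHom A]

lemma rhomHomEquiv_symm_apply (T L M : Dual.D A) (h : T ⟶ (RHomR A L).obj M) :
    (rhomHomEquiv T L M).symm h = tmap h (𝟙 L) ≫ ev L M := by
  rw [Adjunction.homEquiv_counit]
  rfl

lemma rhomHomEquiv_symm_comp {T T' : Dual.D A} (L M : Dual.D A) (x : T' ⟶ T)
    (h : T ⟶ (RHomR A L).obj M) :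
    (rhomHomEquiv T' L M).symm (x ≫ h) = tmap x (𝟙 L) ≫ (rhomHomEquiv T L M).symm h := by
  rw [rhomHomEquiv_symm_apply, rhomHomEquiv_symm_apply, tmap_comp_left, Category.assoc]

end rhom

section evalTen

variable [HasLTen A] [HasLTen₃ A] [IsSymMonoidal A] [HasRHom A]

lemma rhomHomEquiv_symm_evalTen (K L M : Dual.D A) :
    (rhomHomEquiv _ M _).symm (evalTen K L M) = evalTenAux K L M := by
  rw [rhomHomEquiv_symm_apply]
  exact evalTen_fac K L M

/-- `x ≫ evalTen` under the adjunction -/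
lemma rhomHomEquiv_symm_comp_evalTen (K L M : Dual.D A) {Z : Dual.D A}
    (x : Z ⟶ (LTen₂ A).obj (K, (RHomR A M).obj L)) :
    (rhomHomEquiv _ M _).symm (x ≫ evalTen K L M) = tmap x (𝟙 M) ≫ evalTenAux K L M := by
  rw [rhomHomEquiv_symm_comp, rhomHomEquiv_symm_evalTen]

/-- naturality of `evalTenAux` in `K` -/
lemma evalTenAux_naturality {K K' : Dual.D A} (f : K ⟶ K') (L M : Dual.D A) :
    tmap (tmap f (𝟙 ((RHomR A M).obj L))) (𝟙 M) ≫ evalTenAux K' L M =
      evalTenAux K L M ≫ tmap f (𝟙 L) := by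
  dsimp only [evalTenAux]
  change tmap (tmap f (𝟙 ((RHomR A M).obj L))) (𝟙 M) ≫
    (DTen.associator K' ((RHomR A M).obj L) M).hom ≫ tmap (𝟙 K') (ev M L) =
    ((DTen.associator K ((RHomR A M).obj L) M).hom ≫ tmap (𝟙 K) (ev M L)) ≫ tmap f (𝟙 L)
  rw [← Category.assoc, associator_naturality, Category.assoc, Category.assoc, tmap_id,
    tmap_exchange]

/-- `evalTen K L M` as a natural transformation in `K` -/
noncomputable def evalTenNat (L M : Dual.D A) :
    (LTen A).flip.obj ((RHomR A M).obj L) ⟶ (LTen A).flip.obj L ⋙ RHomR A M where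
  app K := evalTen K L M
  naturality K K' f := by
    apply (rhomHomEquiv _ M _).symm.injective
    change (rhomHomEquiv _ M _).symm (tmap f (𝟙 _) ≫ evalTen K' L M) =
      (rhomHomEquiv _ M _).symm (evalTen K L M ≫ (RHomR A M).map (tmap f (𝟙 L)))
    rw [rhomHomEquiv_symm_comp_evalTen, evalTenAux_naturality]
    erw [Adjunction.homEquiv_naturality_right_symm]
    erw [rhomHomEquiv_symm_evalTen]

@[simp] lemma evalTenNat_app (K L M : Dual.D A) : (evalTenNat L M).app K = evalTen K L M := rfl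

end evalTen

end Groth.Agent.Lib.Seat63.DTenBasic
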