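import Mathlib
import Groth.Agent.Lib.Seat63DTenBasic

/-!
# `evalTen U L M` is an isomorphism when `U ⊗^L -` is an equivalence (helper63)
-/

set_option autoImplicit false
universe u
open CategoryTheory CategoryTheory.Limits MonoidalCategory
attribute [local instance] HasDerivedCategory.standard

namespace Groth.Agent.Lib.Seat63.DTenBase

open DTen Groth.Agent.Lib.Seat63.DTenBasic

variable {A : Type u} [CommRing A] [HasLTen A] [HasLTen₃ A] [IsSymMonoidal A] [HasRHom A]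

/-- if `U ⊗^L -` is an equivalence of categories then `U ⊗^L RHom(M, L) ⟶ RHom(M, U ⊗^L L)` is an
isomorphism -/
theorem isIso_evalTen_of_isEquivalence (U L M : Dual.D A) [((LTen A).obj U).IsEquivalence] :
    IsIso (evalTen U L M) := by
  apply isIso_of_yoneda_map_bijective
  intro Z
  let V : Dual.D A ⥤ Dual.D A := (LTen A).obj U
  let Z' : Dual.D A := V.objPreimage Z
  let ζ : V.obj Z' ≅ Z := V.objObjPreimageIso Z
  let ff : V.FullyFaithful := Functor.FullyFaithful.ofFullyFaithful V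
  let e1 : (Z ⟶ V.obj ((RHomR A M).obj L)) ≃ (V.obj Z' ⟶ V.obj ((RHomR A M).obj L)) :=
    ζ.symm.homFromEquiv
  let e2 : (V.obj Z' ⟶ V.obj ((RHomR A M).obj L)) ≃ (Z' ⟶ (RHomR A M).obj L) := ff.homEquiv.symm
  let e3 : (Z' ⟶ (RHomR A M).obj L) ≃ ((LTen₂ A).obj (Z', M) ⟶ L) := (rhomHomEquiv Z' M L).symm
  let e4 : ((LTen₂ A).obj (Z', M) ⟶ L) ≃ (V.obj ((LTen₂ A).obj (Z', M)) ⟶ V.obj L) := ff.homEquiv
  let κ : (LTen₂ A).obj (Z, M) ≅ V.obj ((LTen₂ A).obj (Z', M)) :=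
    ((LTen A).flip.obj M).mapIso ζ.symm ≪≫ DTen.associator U Z' M
  let e5 : (V.obj ((LTen₂ A).obj (Z', M)) ⟶ V.obj L) ≃ ((LTen₂ A).obj (Z, M) ⟶ V.obj L) :=
    κ.symm.homFromEquiv
  let e6 : ((LTen₂ A).obj (Z, M) ⟶ V.obj L) ≃ (Z ⟶ (RHomR A M).obj (V.obj L)) :=
    rhomHomEquiv Z M (V.obj L)
  have key : ∀ x : Z ⟶ V.obj ((RHomR A M).obj L),
      x ≫ evalTen U L M = e6 (e5 (e4 (e3 (e2 (e1 x))))) := by
    intro x
    apply e6.symm.injective
    rw [Equiv.symm_apply_apply]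
    change (rhomHomEquiv Z M _).symm (x ≫ evalTen U L M) = _
    rw [rhomHomEquiv_symm_comp_evalTen]
    set x₂ : Z' ⟶ (RHomR A M).obj L := e2 (e1 x) with hx₂
    have hx₂' : V.map x₂ = ζ.hom ≫ x := by
      rw [hx₂]
      change V.map (ff.preimage (ζ.hom ≫ x)) = _
      exact ff.map_preimage _
    have hx : x = ζ.inv ≫ V.map x₂ := by rw [hx₂', Iso.inv_hom_id_assoc]
    change _ = κ.hom ≫ V.map ((rhomHomEquiv Z' M L).symm x₂)
    rw [rhomHomEquiv_symm_apply]
    change _ = (tmap ζ.inv (𝟙 M) ≫ (DTen.associator U Z' M).hom) ≫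
      tmap (𝟙 U) (tmap x₂ (𝟙 M) ≫ ev M L)
    rw [hx, tmap_comp_left, tmap_comp_right, Category.assoc, Category.assoc]
    congr 1
    dsimp only [evalTenAux]
    change tmap (tmap (𝟙 U) x₂) (𝟙 M) ≫ (DTen.associator U ((RHomR A M).obj L) M).hom ≫
      tmap (𝟙 U) (ev M L) = _
    rw [← Category.assoc, DTenBasic.associator_naturality, Category.assoc]
  have : (fun x : Z ⟶ V.obj ((RHomR A M).obj L) => x ≫ evalTen U L M) =
      e6 ∘ e5 ∘ e4 ∘ e3 ∘ e2 ∘ e1 := by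
    funext x
    exact key x
  refine this ▸ ?_
  exact e6.bijective.comp (e5.bijective.comp (e4.bijective.comp (e3.bijective.comp
    (e2.bijective.comp e1.bijective))))

end Groth.Agent.Lib.Seat63.DTenBase
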