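import Mathlib
import Groth.Agent.Lib.Seat63DTenBasic
import Groth.Agent.Lib.Helper1DT3
set_option backward.isDefEq.respectTransparency.types false

/-!
# Coherence for the derived tensor product on `D(A)` (helper63)

The pentagon and triangle identities for `DTen.associator`, `DTen.leftUnitor`, `DTen.rightUnitor`,
deduced from those of complexes through the counit `ε`, and the resulting `MonoidalCategory`
structure on `D(A)` (a `def`, to be used as a local instance).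
-/

set_option autoImplicit false
set_option maxHeartbeats 400000
universe u
open CategoryTheory CategoryTheory.Limits MonoidalCategory HomologicalComplex
attribute [local instance] HasDerivedCategory.standard

namespace Groth.Agent.Lib.Seat63.DTenMonoidal

open DerivedCategory Groth.Agent.Lib.Helper1.KF Groth.Agent.Lib.Helper1.DT DTen
  Groth.Agent.Lib.Seat63.DTenBasic

variable {A : Type u} [CommRing A]

section eps

variable [HasLTen A]

/-- the counit `QK ⊗^L QL ⟶ Q(K ⊗ L)` -/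
noncomputable abbrev εε (K L : Cx A) : (LTen₂ A).obj (Q.obj K, Q.obj L) ⟶ Q.obj (K ⊗ L) :=
  (ε A).app (K, L)

lemma εε_naturality {K K' L L' : Cx A} (f : K ⟶ K') (g : L ⟶ L') :
    tmap (Q.map f) (Q.map g) ≫ εε K' L' = εε K L ≫ Q.map (f ⊗ₘ g) := by
  have h := (ε A).naturality (Prod.mkHom f g : (K, L) ⟶ (K', L'))
  dsimp at h
  rw [MonoidalCategory.tensorHom_def]
  exact h

lemma εε_naturality_left {K K' : Cx A} (f : K ⟶ K') (L : Cx A) :
    tmap (Q.map f) (𝟙 (Q.obj L)) ≫ εε K' L = εε K L ≫ Q.map (f ▷ L) := by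
  have h := εε_naturality f (𝟙 L)
  rw [CategoryTheory.Functor.map_id, MonoidalCategory.tensorHom_id] at h
  exact h

lemma εε_naturality_right (K : Cx A) {L L' : Cx A} (g : L ⟶ L') :
    tmap (𝟙 (Q.obj K)) (Q.map g) ≫ εε K L' = εε K L ≫ Q.map (K ◁ g) := by
  have h := εε_naturality (𝟙 K) g
  rw [CategoryTheory.Functor.map_id, MonoidalCategory.id_tensorHom] at h
  exact h

lemma isIso_εε (K L : Cx A) (h : KFlat K ∨ KFlat L) : IsIso (εε K L) := isIso_ε_of_kflat K L h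

end eps

variable [HasLTen A] [HasLTen₃ A] [IsSymMonoidal A]

/-- the associator is compatible with the complex-level associator through the counits -/
lemma assoc_εε (K L M : Cx A) :
    (DTen.associator (Q.obj K) (Q.obj L) (Q.obj M)).hom ≫ tmap (𝟙 (Q.obj K)) (εε L M) ≫
        εε K (L ⊗ M) =
      tmap (εε K L) (𝟙 (Q.obj M)) ≫ εε (K ⊗ L) M ≫ Q.map (α_ K L M).hom := by
  have h1 := assocR_fac A (K, (L, M))
  have h2 := assocL_fac A (K, (L, M))
  have h3 := associator_hom_assocR (Q.obj K) (Q.obj L) (Q.obj M)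
  have e1 : tmap (𝟙 (Q.obj K)) (εε L M) ≫ εε K (L ⊗ M) = (βR A).app (K, (L, M)) := rfl
  have e2 : tmap (εε K L) (𝟙 (Q.obj M)) ≫ εε (K ⊗ L) M ≫ Q.map (α_ K L M).hom =
      (βL A).app (K, (L, M)) := rfl
  rw [e1, e2, ← h1, ← h2]
  exact (reassoc_of% h3) _

/-- `a ⊗^L b` -/
noncomputable abbrev tobj (a b : Dual.D A) : Dual.D A := (LTen₂ A).obj (a, b)

/-- the pentagon identity on images of K-flat complexes -/
theorem pentagon_Q (W X Y Z : Cx A) (hX : KFlat X) (hY : KFlat Y) (hZ : KFlat Z) :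
    tmap (DTen.associator (Q.obj W) (Q.obj X) (Q.obj Y)).hom (𝟙 (Q.obj Z)) ≫
      (DTen.associator (Q.obj W) (tobj (Q.obj X) (Q.obj Y)) (Q.obj Z)).hom ≫
        tmap (𝟙 (Q.obj W)) (DTen.associator (Q.obj X) (Q.obj Y) (Q.obj Z)).hom =
    (DTen.associator (tobj (Q.obj W) (Q.obj X)) (Q.obj Y) (Q.obj Z)).hom ≫
      (DTen.associator (Q.obj W) (Q.obj X) (tobj (Q.obj Y) (Q.obj Z))).hom := by
  have i1 : IsIso (εε Y Z) := isIso_εε Y Z (Or.inr hZ)
  have i2 : IsIso (εε X (Y ⊗ Z)) := isIso_εε X (Y ⊗ Z) (Or.inl hX)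
  have i3 : IsIso (εε W (X ⊗ (Y ⊗ Z))) :=
    isIso_εε W (X ⊗ (Y ⊗ Z)) (Or.inr (kflat_tensor hX (kflat_tensor hY hZ)))
  have i4 : IsIso (tmap (𝟙 (Q.obj X)) (εε Y Z)) :=
    inferInstanceAs (IsIso (((LTen A).obj (Q.obj X)).map (εε Y Z)))
  have i5 : IsIso (tmap (𝟙 (Q.obj W)) (tmap (𝟙 (Q.obj X)) (εε Y Z))) :=
    inferInstanceAs (IsIso (((LTen A).obj (Q.obj W)).map (tmap (𝟙 (Q.obj X)) (εε Y Z))))
  have i6 : IsIso (tmap (𝟙 (Q.obj W)) (εε X (Y ⊗ Z))) :=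
    inferInstanceAs (IsIso (((LTen A).obj (Q.obj W)).map (εε X (Y ⊗ Z))))
  have hΩ : IsIso (tmap (𝟙 (Q.obj W)) (tmap (𝟙 (Q.obj X)) (εε Y Z)) ≫
      tmap (𝟙 (Q.obj W)) (εε X (Y ⊗ Z)) ≫ εε W (X ⊗ (Y ⊗ Z))) := inferInstance
  rw [← cancel_mono (tmap (𝟙 (Q.obj W)) (tmap (𝟙 (Q.obj X)) (εε Y Z)) ≫
      tmap (𝟙 (Q.obj W)) (εε X (Y ⊗ Z)) ≫ εε W (X ⊗ (Y ⊗ Z)))]
  -- right hand side
  have R1 : (DTen.associator (Q.obj W) (Q.obj X) (tobj (Q.obj Y) (Q.obj Z))).hom ≫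
      tmap (𝟙 (Q.obj W)) (tmap (𝟙 (Q.obj X)) (εε Y Z)) =
      tmap (𝟙 (tobj (Q.obj W) (Q.obj X))) (εε Y Z) ≫
        (DTen.associator (Q.obj W) (Q.obj X) (Q.obj (Y ⊗ Z))).hom := by
    rw [← DTenBasic.associator_naturality, tmap_id]
  have R2 := assoc_εε W X (Y ⊗ Z)
  have R3 : tmap (𝟙 (tobj (Q.obj W) (Q.obj X))) (εε Y Z) ≫ tmap (εε W X) (𝟙 (Q.obj (Y ⊗ Z))) =
      tmap (εε W X) (𝟙 (tobj (Q.obj Y) (Q.obj Z))) ≫ tmap (𝟙 (Q.obj (W ⊗ X))) (εε Y Z) :=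
    (tmap_exchange _ _).symm
  have R4 : (DTen.associator (tobj (Q.obj W) (Q.obj X)) (Q.obj Y) (Q.obj Z)).hom ≫
      tmap (εε W X) (𝟙 (tobj (Q.obj Y) (Q.obj Z))) =
      tmap (tmap (εε W X) (𝟙 (Q.obj Y))) (𝟙 (Q.obj Z)) ≫
        (DTen.associator (Q.obj (W ⊗ X)) (Q.obj Y) (Q.obj Z)).hom := by
    rw [DTenBasic.associator_naturality, tmap_id]
  have R5 := assoc_εε (W ⊗ X) Y Z
  have hR : ((DTen.associator (tobj (Q.obj W) (Q.obj X)) (Q.obj Y) (Q.obj Z)).hom ≫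
      (DTen.associator (Q.obj W) (Q.obj X) (tobj (Q.obj Y) (Q.obj Z))).hom) ≫
      tmap (𝟙 (Q.obj W)) (tmap (𝟙 (Q.obj X)) (εε Y Z)) ≫
      tmap (𝟙 (Q.obj W)) (εε X (Y ⊗ Z)) ≫ εε W (X ⊗ (Y ⊗ Z)) =
      tmap (tmap (εε W X) (𝟙 (Q.obj Y))) (𝟙 (Q.obj Z)) ≫ tmap (εε (W ⊗ X) Y) (𝟙 (Q.obj Z)) ≫
        εε ((W ⊗ X) ⊗ Y) Z ≫ Q.map ((α_ (W ⊗ X) Y Z).hom ≫ (α_ W X (Y ⊗ Z)).hom) := by
    simp only [Category.assoc]
    rw [reassoc_of% R1, R2, reassoc_of% R3, reassoc_of% R4, reassoc_of% R5, Functor.map_comp]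
  -- left hand side
  have L1 : tmap (𝟙 (Q.obj W)) (DTen.associator (Q.obj X) (Q.obj Y) (Q.obj Z)).hom ≫
      tmap (𝟙 (Q.obj W)) (tmap (𝟙 (Q.obj X)) (εε Y Z)) ≫ tmap (𝟙 (Q.obj W)) (εε X (Y ⊗ Z)) =
      tmap (𝟙 (Q.obj W)) (tmap (εε X Y) (𝟙 (Q.obj Z))) ≫ tmap (𝟙 (Q.obj W)) (εε (X ⊗ Y) Z) ≫
        tmap (𝟙 (Q.obj W)) (Q.map (α_ X Y Z).hom) := by
    rw [← tmap_comp_right, ← tmap_comp_right, ← tmap_comp_right, ← tmap_comp_right,
      assoc_εε X Y Z]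
  have L2 : (DTen.associator (Q.obj W) (tobj (Q.obj X) (Q.obj Y)) (Q.obj Z)).hom ≫
      tmap (𝟙 (Q.obj W)) (tmap (εε X Y) (𝟙 (Q.obj Z))) =
      tmap (tmap (𝟙 (Q.obj W)) (εε X Y)) (𝟙 (Q.obj Z)) ≫
        (DTen.associator (Q.obj W) (Q.obj (X ⊗ Y)) (Q.obj Z)).hom := by
    rw [DTenBasic.associator_naturality]
  have L3 : tmap (𝟙 (Q.obj W)) (Q.map (α_ X Y Z).hom) ≫ εε W (X ⊗ (Y ⊗ Z)) =
      εε W ((X ⊗ Y) ⊗ Z) ≫ Q.map (W ◁ (α_ X Y Z).hom) := εε_naturality_right W _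
  have L4 := assoc_εε W (X ⊗ Y) Z
  have L5 : tmap (DTen.associator (Q.obj W) (Q.obj X) (Q.obj Y)).hom (𝟙 (Q.obj Z)) ≫
      tmap (tmap (𝟙 (Q.obj W)) (εε X Y)) (𝟙 (Q.obj Z)) ≫ tmap (εε W (X ⊗ Y)) (𝟙 (Q.obj Z)) =
      tmap (tmap (εε W X) (𝟙 (Q.obj Y))) (𝟙 (Q.obj Z)) ≫ tmap (εε (W ⊗ X) Y) (𝟙 (Q.obj Z)) ≫
        tmap (Q.map (α_ W X Y).hom) (𝟙 (Q.obj Z)) := by
    rw [← tmap_comp_left, ← tmap_comp_left, ← tmap_comp_left, ← tmap_comp_left, assoc_εε W X Y]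
  have L6 : tmap (Q.map (α_ W X Y).hom) (𝟙 (Q.obj Z)) ≫ εε (W ⊗ (X ⊗ Y)) Z =
      εε ((W ⊗ X) ⊗ Y) Z ≫ Q.map ((α_ W X Y).hom ▷ Z) := εε_naturality_left _ Z
  have hL : (tmap (DTen.associator (Q.obj W) (Q.obj X) (Q.obj Y)).hom (𝟙 (Q.obj Z)) ≫
      (DTen.associator (Q.obj W) (tobj (Q.obj X) (Q.obj Y)) (Q.obj Z)).hom ≫
        tmap (𝟙 (Q.obj W)) (DTen.associator (Q.obj X) (Q.obj Y) (Q.obj Z)).hom) ≫
      tmap (𝟙 (Q.obj W)) (tmap (𝟙 (Q.obj X)) (εε Y Z)) ≫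
      tmap (𝟙 (Q.obj W)) (εε X (Y ⊗ Z)) ≫ εε W (X ⊗ (Y ⊗ Z)) =
      tmap (tmap (εε W X) (𝟙 (Q.obj Y))) (𝟙 (Q.obj Z)) ≫ tmap (εε (W ⊗ X) Y) (𝟙 (Q.obj Z)) ≫
        εε ((W ⊗ X) ⊗ Y) Z ≫ Q.map ((α_ W X Y).hom ▷ Z ≫ (α_ W (X ⊗ Y) Z).hom ≫
          W ◁ (α_ X Y Z).hom) := by
    simp only [Category.assoc]
    rw [reassoc_of% L1, reassoc_of% L2, L3, reassoc_of% L4, reassoc_of% L5, reassoc_of% L6,
      Functor.map_comp, Functor.map_comp]
  rw [hL, hR, MonoidalCategory.pentagon]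

/-- the triangle identity on images of complexes one of which is K-flat -/
theorem triangle_Q (K M : Cx A) (h : KFlat K ∨ KFlat M) :
    (DTen.associator (Q.obj K) (DTen.unit A) (Q.obj M)).hom ≫
        tmap (𝟙 (Q.obj K)) (DTen.leftUnitor (Q.obj M)).hom =
      tmap (DTen.rightUnitor (Q.obj K)).hom (𝟙 (Q.obj M)) := by
  have i1 : IsIso (εε K M) := isIso_εε K M h
  rw [← cancel_mono (εε K M)]
  have hl : (DTen.leftUnitor (Q.obj M)).hom = εε (𝟙_ (Cx A)) M ≫ Q.map (λ_ M).hom := unitL_app A M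
  have hr : (DTen.rightUnitor (Q.obj K)).hom = εε K (𝟙_ (Cx A)) ≫ Q.map (ρ_ K).hom := unitR_app A K
  have T1 : tmap (𝟙 (Q.obj K)) (Q.map (λ_ M).hom) ≫ εε K M =
      εε K (𝟙_ (Cx A) ⊗ M) ≫ Q.map (K ◁ (λ_ M).hom) := εε_naturality_right K _
  have T2 := assoc_εε K (𝟙_ (Cx A)) M
  have T3 : tmap (Q.map (ρ_ K).hom) (𝟙 (Q.obj M)) ≫ εε K M =
      εε (K ⊗ 𝟙_ (Cx A)) M ≫ Q.map ((ρ_ K).hom ▷ M) := εε_naturality_left _ M
  rw [hl, hr, tmap_comp_right, tmap_comp_left]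
  simp only [Category.assoc]
  rw [T1, reassoc_of% T2, T3, ← Functor.map_comp, MonoidalCategory.triangle]

omit [HasLTen₃ A] [IsSymMonoidal A] in
instance isIso_tmap {X X' Y Y' : Dual.D A} (f : X ⟶ X') (g : Y ⟶ Y') [IsIso f] [IsIso g] :
    IsIso (tmap f g) := by
  have : IsIso (Prod.mkHom f g : (X, Y) ⟶ (X', Y')) := by
    rw [isIso_prod_iff]
    exact ⟨inferInstanceAs (IsIso f), inferInstanceAs (IsIso g)⟩
  exact Functor.map_isIso (LTen₂ A) _

/-- transport of the pentagon identity along isomorphisms -/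
lemma pentagon_of_iso {a a' b b' c c' d d' : Dual.D A} (ea : a ≅ a') (eb : b ≅ b') (ec : c ≅ c')
    (ed : d ≅ d')
    (h : tmap (DTen.associator a' b' c').hom (𝟙 d') ≫ (DTen.associator a' (tobj b' c') d').hom ≫
        tmap (𝟙 a') (DTen.associator b' c' d').hom =
      (DTen.associator (tobj a' b') c' d').hom ≫ (DTen.associator a' b' (tobj c' d')).hom) :
    tmap (DTen.associator a b c).hom (𝟙 d) ≫ (DTen.associator a (tobj b c) d).hom ≫
        tmap (𝟙 a) (DTen.associator b c d).hom =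
      (DTen.associator (tobj a b) c d).hom ≫ (DTen.associator a b (tobj c d)).hom := by
  rw [← cancel_mono (tmap ea.hom (tmap eb.hom (tmap ec.hom ed.hom)))]
  have hL : (tmap (DTen.associator a b c).hom (𝟙 d) ≫ (DTen.associator a (tobj b c) d).hom ≫
      tmap (𝟙 a) (DTen.associator b c d).hom) ≫ tmap ea.hom (tmap eb.hom (tmap ec.hom ed.hom)) =
      tmap (tmap (tmap ea.hom eb.hom) ec.hom) ed.hom ≫
        (tmap (DTen.associator a' b' c').hom (𝟙 d') ≫ (DTen.associator a' (tobj b' c') d').hom ≫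
          tmap (𝟙 a') (DTen.associator b' c' d').hom) := by
    simp only [Category.assoc]
    rw [← tmap_comp, Category.id_comp, ← DTenBasic.associator_naturality,
      show tmap ea.hom (tmap (tmap eb.hom ec.hom) ed.hom ≫ (DTen.associator b' c' d').hom) =
        tmap ea.hom (tmap (tmap eb.hom ec.hom) ed.hom) ≫
          tmap (𝟙 a') (DTen.associator b' c' d').hom by rw [← tmap_comp, Category.comp_id],
      ← DTenBasic.associator_naturality_assoc, ← tmap_comp_assoc, Category.id_comp,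
      ← DTenBasic.associator_naturality,
      show tmap (tmap (tmap ea.hom eb.hom) ec.hom ≫ (DTen.associator a' b' c').hom) ed.hom =
        tmap (tmap (tmap ea.hom eb.hom) ec.hom) ed.hom ≫
          tmap (DTen.associator a' b' c').hom (𝟙 d') by rw [← tmap_comp, Category.comp_id],
      Category.assoc]
  have hR : ((DTen.associator (tobj a b) c d).hom ≫ (DTen.associator a b (tobj c d)).hom) ≫
      tmap ea.hom (tmap eb.hom (tmap ec.hom ed.hom)) =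
      tmap (tmap (tmap ea.hom eb.hom) ec.hom) ed.hom ≫
        ((DTen.associator (tobj a' b') c' d').hom ≫ (DTen.associator a' b' (tobj c' d')).hom) := by
    simp only [Category.assoc]
    rw [← DTenBasic.associator_naturality, ← DTenBasic.associator_naturality_assoc]
  rw [hL, hR, h]

lemma leftUnitor_naturality {X Y : Dual.D A} (f : X ⟶ Y) :
    tmap (𝟙 (DTen.unit A)) f ≫ (DTen.leftUnitor Y).hom = (DTen.leftUnitor X).hom ≫ f :=
  (unitL A).naturality f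

lemma rightUnitor_naturality {X Y : Dual.D A} (f : X ⟶ Y) :
    tmap f (𝟙 (DTen.unit A)) ≫ (DTen.rightUnitor Y).hom = (DTen.rightUnitor X).hom ≫ f :=
  (unitR A).naturality f

/-- transport of the triangle identity along isomorphisms -/
lemma triangle_of_iso {X X' Y Y' : Dual.D A} (ex : X ≅ X') (ey : Y ≅ Y')
    (h : (DTen.associator X' (DTen.unit A) Y').hom ≫ tmap (𝟙 X') (DTen.leftUnitor Y').hom =
      tmap (DTen.rightUnitor X').hom (𝟙 Y')) :
    (DTen.associator X (DTen.unit A) Y).hom ≫ tmap (𝟙 X) (DTen.leftUnitor Y).hom =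
      tmap (DTen.rightUnitor X).hom (𝟙 Y) := by
  rw [← cancel_mono (tmap ex.hom ey.hom)]
  have hL : ((DTen.associator X (DTen.unit A) Y).hom ≫ tmap (𝟙 X) (DTen.leftUnitor Y).hom) ≫
      tmap ex.hom ey.hom = tmap (tmap ex.hom (𝟙 (DTen.unit A))) ey.hom ≫
        ((DTen.associator X' (DTen.unit A) Y').hom ≫ tmap (𝟙 X') (DTen.leftUnitor Y').hom) := by
    simp only [Category.assoc]
    rw [← tmap_comp, Category.id_comp, ← leftUnitor_naturality,
      show tmap ex.hom (tmap (𝟙 (DTen.unit A)) ey.hom ≫ (DTen.leftUnitor Y').hom) =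
        tmap ex.hom (tmap (𝟙 (DTen.unit A)) ey.hom) ≫ tmap (𝟙 X') (DTen.leftUnitor Y').hom by
        rw [← tmap_comp, Category.comp_id],
      ← DTenBasic.associator_naturality_assoc]
  have hR : tmap (DTen.rightUnitor X).hom (𝟙 Y) ≫ tmap ex.hom ey.hom =
      tmap (tmap ex.hom (𝟙 (DTen.unit A))) ey.hom ≫ tmap (DTen.rightUnitor X').hom (𝟙 Y') := by
    rw [← tmap_comp, ← tmap_comp, Category.id_comp, Category.comp_id, rightUnitor_naturality]
  rw [hL, hR, h]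

omit [HasLTen A] [HasLTen₃ A] [IsSymMonoidal A] in
lemma exists_kflat_iso (X : Dual.D A) : ∃ X₀ : Cx A, KFlat X₀ ∧ Nonempty (X ≅ Q.obj X₀) := by
  obtain ⟨P, hP, -, ⟨e⟩⟩ := exists_kproj_iso X
  exact ⟨P, kflat_of_isKProjective P, ⟨e.symm⟩⟩

/-- the pentagon identity in `D(A)` -/
theorem pentagon (a b c d : Dual.D A) :
    tmap (DTen.associator a b c).hom (𝟙 d) ≫ (DTen.associator a (tobj b c) d).hom ≫
        tmap (𝟙 a) (DTen.associator b c d).hom =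
      (DTen.associator (tobj a b) c d).hom ≫ (DTen.associator a b (tobj c d)).hom := by
  obtain ⟨W, -, ⟨ea⟩⟩ := exists_kflat_iso a
  obtain ⟨X, hX, ⟨eb⟩⟩ := exists_kflat_iso b
  obtain ⟨Y, hY, ⟨ec⟩⟩ := exists_kflat_iso c
  obtain ⟨Z, hZ, ⟨ed⟩⟩ := exists_kflat_iso d
  exact pentagon_of_iso ea eb ec ed (pentagon_Q W X Y Z hX hY hZ)

/-- the triangle identity in `D(A)` -/
theorem triangle (X Y : Dual.D A) :
    (DTen.associator X (DTen.unit A) Y).hom ≫ tmap (𝟙 X) (DTen.leftUnitor Y).hom =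
      tmap (DTen.rightUnitor X).hom (𝟙 Y) := by
  obtain ⟨K, hK, ⟨ex⟩⟩ := exists_kflat_iso X
  obtain ⟨M, -, ⟨ey⟩⟩ := exists_kflat_iso Y
  exact triangle_of_iso ex ey (triangle_Q K M (Or.inl hK))

/-- the monoidal structure on `D(A)` given by the derived tensor product -/
@[instance_reducible]
noncomputable def monoidalD : MonoidalCategory (Dual.D A) where
  tensorObj X Y := tobj X Y
  whiskerLeft X _ _ f := tmap (𝟙 X) f
  whiskerRight f Y := tmap f (𝟙 Y)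
  tensorHom f g := tmap f g
  tensorUnit := DTen.unit A
  associator := DTen.associator
  leftUnitor := DTen.leftUnitor
  rightUnitor := DTen.rightUnitor
  tensorHom_def f g := by rw [← tmap_comp, Category.comp_id, Category.id_comp]
  id_tensorHom_id := tmap_id
  tensorHom_comp_tensorHom f₁ f₂ g₁ g₂ := (tmap_comp f₁ g₁ f₂ g₂).symm
  whiskerLeft_id := tmap_id
  id_whiskerRight := tmap_id
  associator_naturality := DTenBasic.associator_naturality
  leftUnitor_naturality f := leftUnitor_naturality f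
  rightUnitor_naturality f := rightUnitor_naturality f
  pentagon := pentagon
  triangle := triangle

end Groth.Agent.Lib.Seat63.DTenMonoidal
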