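import Mathlib
import Groth.Agent.Lib.Seat63DTenMonoidal
set_option backward.isDefEq.respectTransparency.types false

/-!
# Dualizable objects of `D(A)` and the map `K ⊗^L RHom(M, L) ⟶ RHom(M, K ⊗^L L)` (helper63)

If `evalTen M 𝟙 M : M ⊗ RHom(M, 𝟙) ⟶ RHom(M, M ⊗ 𝟙)` is an isomorphism, then `RHom(M, 𝟙)` is a
(right) dual of `M` for the monoidal structure `monoidalD`, and `evalTen K L M` is an isomorphism
for all `K`, `L`.
-/

set_option autoImplicit false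
set_option maxHeartbeats 400000
universe u
open CategoryTheory CategoryTheory.Limits MonoidalCategory
attribute [local instance] HasDerivedCategory.standard

namespace Groth.Agent.Lib.Seat63.DTenDual

open DTen Groth.Agent.Lib.Seat63.DTenBasic Groth.Agent.Lib.Seat63.DTenMonoidal

variable {A : Type u} [CommRing A] [HasLTen A] [HasLTen₃ A] [IsSymMonoidal A] [HasRHom A]

attribute [local instance] monoidalD

/-- evaluation in monoidal notation -/
noncomputable def evM (M L : Dual.D A) : (RHomR A M).obj L ⊗ M ⟶ L := ev M L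

/-- the hom bijection in monoidal notation -/
noncomputable def homEquivM (Z M L : Dual.D A) : (Z ⊗ M ⟶ L) ≃ (Z ⟶ (RHomR A M).obj L) :=
  rhomHomEquiv Z M L

lemma homEquivM_symm_apply (Z M L : Dual.D A) (h : Z ⟶ (RHomR A M).obj L) :
    (homEquivM Z M L).symm h = h ▷ M ≫ evM M L :=
  rhomHomEquiv_symm_apply Z M L h

lemma homEquivM_symm_comp {Z Z' : Dual.D A} (M L : Dual.D A) (x : Z' ⟶ Z)
    (h : Z ⟶ (RHomR A M).obj L) :
    (homEquivM Z' M L).symm (x ≫ h) = x ▷ M ≫ (homEquivM Z M L).symm h :=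
  rhomHomEquiv_symm_comp M L x h

lemma evalTen_fac' (K L M : Dual.D A) :
    evalTen K L M ▷ M ≫ evM M (K ⊗ L) = (α_ K ((RHomR A M).obj L) M).hom ≫ K ◁ evM M L :=
  evalTen_fac K L M

lemma homEquivM_symm_comp_evalTen (K L M : Dual.D A) {Z : Dual.D A}
    (x : Z ⟶ K ⊗ (RHomR A M).obj L) :
    (homEquivM Z M (K ⊗ L)).symm (x ≫ evalTen K L M) =
      x ▷ M ≫ (α_ K ((RHomR A M).obj L) M).hom ≫ K ◁ evM M L :=
  rhomHomEquiv_symm_comp_evalTen K L M x

section dual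

variable (M : Dual.D A) [hτ : IsIso (evalTen M (𝟙_ (Dual.D A)) M)]

/-- the dual object `RHom(M, 𝟙)` -/
noncomputable abbrev DD : Dual.D A := (RHomR A M).obj (𝟙_ (Dual.D A))

/-- the coevaluation `𝟙 ⟶ M ⊗ DM` -/
noncomputable def coevM : 𝟙_ (Dual.D A) ⟶ M ⊗ DD M :=
  homEquivM (𝟙_ (Dual.D A)) M (M ⊗ 𝟙_ (Dual.D A)) ((λ_ M).hom ≫ (ρ_ M).inv) ≫
    inv (evalTen M (𝟙_ (Dual.D A)) M)

/-- the first triangle identity -/
lemma coevM_evM :
    coevM M ▷ M ≫ (α_ M (DD M) M).hom ≫ M ◁ evM M (𝟙_ (Dual.D A)) = (λ_ M).hom ≫ (ρ_ M).inv := by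
  rw [← homEquivM_symm_comp_evalTen]
  dsimp only [coevM]
  rw [Category.assoc, IsIso.inv_hom_id, Category.comp_id, Equiv.symm_apply_apply]

/-- the second triangle identity -/
lemma evM_coevM :
    DD M ◁ coevM M ≫ (α_ (DD M) M (DD M)).inv ≫ evM M (𝟙_ (Dual.D A)) ▷ DD M =
      (ρ_ (DD M)).hom ≫ (λ_ (DD M)).inv := by
  have key : ((ρ_ (DD M)).inv ≫ DD M ◁ coevM M ≫ (α_ (DD M) M (DD M)).inv ≫
      evM M (𝟙_ (Dual.D A)) ▷ DD M ≫ (λ_ (DD M)).hom) ▷ M ≫ evM M (𝟙_ (Dual.D A)) =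
      evM M (𝟙_ (Dual.D A)) := by
    calc _ = 𝟙 _ ⊗≫ DD M ◁ coevM M ▷ M ⊗≫ (evM M (𝟙_ (Dual.D A)) ▷ (DD M ⊗ M) ≫
          𝟙_ (Dual.D A) ◁ evM M (𝟙_ (Dual.D A))) ⊗≫ 𝟙 _ := by monoidal
      _ = 𝟙 _ ⊗≫ DD M ◁ coevM M ▷ M ⊗≫ ((DD M ⊗ M) ◁ evM M (𝟙_ (Dual.D A)) ≫
          evM M (𝟙_ (Dual.D A)) ▷ 𝟙_ (Dual.D A)) ⊗≫ 𝟙 _ := by rw [← whisker_exchange]
      _ = 𝟙 _ ⊗≫ DD M ◁ (coevM M ▷ M ≫ (α_ M (DD M) M).hom ≫ M ◁ evM M (𝟙_ (Dual.D A))) ⊗≫
          evM M (𝟙_ (Dual.D A)) := by monoidal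
      _ = evM M (𝟙_ (Dual.D A)) := by rw [coevM_evM]; monoidal
  have h1 : (ρ_ (DD M)).inv ≫ DD M ◁ coevM M ≫ (α_ (DD M) M (DD M)).inv ≫
      evM M (𝟙_ (Dual.D A)) ▷ DD M ≫ (λ_ (DD M)).hom = 𝟙 (DD M) := by
    apply (homEquivM (DD M) M (𝟙_ (Dual.D A))).symm.injective
    rw [homEquivM_symm_apply, homEquivM_symm_apply, key, id_whiskerRight, Category.id_comp]
  calc _ = (ρ_ (DD M)).hom ≫ ((ρ_ (DD M)).inv ≫ DD M ◁ coevM M ≫ (α_ (DD M) M (DD M)).inv ≫
        evM M (𝟙_ (Dual.D A)) ▷ DD M ≫ (λ_ (DD M)).hom) ≫ (λ_ (DD M)).inv := by simp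
    _ = _ := by rw [h1, Category.id_comp]

/-- `RHom(M, 𝟙)` is a right dual of `M` -/
@[instance_reducible]
noncomputable def exactPairing : ExactPairing M (DD M) where
  coevaluation' := coevM M
  evaluation' := evM M (𝟙_ (Dual.D A))
  coevaluation_evaluation' := evM_coevM M
  evaluation_coevaluation' := coevM_evM M

attribute [local instance] exactPairing

/-- the comparison `L ⊗ DM ⟶ RHom(M, L)` -/
noncomputable def nu (L : Dual.D A) : L ⊗ DD M ⟶ (RHomR A M).obj L :=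
  homEquivM (L ⊗ DD M) M L ((tensorRightHomEquiv (L ⊗ DD M) M (DD M) L).symm (𝟙 _))

lemma nu_whiskerRight_evM (L : Dual.D A) :
    nu M L ▷ M ≫ evM M L =
      (α_ L (DD M) M).hom ≫ L ◁ evM M (𝟙_ (Dual.D A)) ≫ (ρ_ L).hom := by
  rw [← homEquivM_symm_apply]
  dsimp only [nu]
  rw [Equiv.symm_apply_apply]
  dsimp [tensorRightHomEquiv]
  rw [id_whiskerRight, Category.id_comp]
  rfl

instance isIso_nu (L : Dual.D A) : IsIso (nu M L) := by
  apply isIso_of_yoneda_map_bijective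
  intro Z
  have : (fun y : Z ⟶ L ⊗ DD M => y ≫ nu M L) =
      homEquivM Z M L ∘ (tensorRightHomEquiv Z M (DD M) L).symm := by
    funext y
    apply (homEquivM Z M L).symm.injective
    rw [Function.comp_apply, Equiv.symm_apply_apply, homEquivM_symm_comp]
    dsimp only [nu]
    rw [Equiv.symm_apply_apply, ← tensorRightHomEquiv_symm_naturality, Category.comp_id]
  refine this ▸ ?_
  exact (homEquivM Z M L).bijective.comp (tensorRightHomEquiv Z M (DD M) L).symm.bijective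

/-- `evalTen` is the inverse associator under the identifications `nu` -/
lemma whiskerLeft_nu_comp_evalTen (K L : Dual.D A) :
    K ◁ nu M L ≫ evalTen K L M = (α_ K L (DD M)).inv ≫ nu M (K ⊗ L) := by
  apply (homEquivM _ M (K ⊗ L)).symm.injective
  rw [homEquivM_symm_comp_evalTen, homEquivM_symm_comp, homEquivM_symm_apply,
    nu_whiskerRight_evM, associator_naturality_middle_assoc, ← whiskerLeft_comp,
    nu_whiskerRight_evM]
  monoidal

theorem isIso_evalTen (K L : Dual.D A) : IsIso (evalTen K L M) := by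
  have h := whiskerLeft_nu_comp_evalTen M K L
  have : evalTen K L M = inv (K ◁ nu M L) ≫ (α_ K L (DD M)).inv ≫ nu M (K ⊗ L) := by
    rw [IsIso.eq_inv_comp, h]
  rw [this]
  infer_instance

end dual

end Groth.Agent.Lib.Seat63.DTenDual
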