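import Mathlib
import Groth.Agent.Lib.Seat63DTenBase
import Groth.Agent.Lib.Helper1DT3
set_option backward.isDefEq.respectTransparency.types false

/-!
# Tensoring with a shift of the unit object is the shift functor (helper63)

`(A[0]⟦n⟧) ⊗^L - ≅ shiftFunctor n` on `D(A)`; hence `evalTen (A[0]⟦n⟧) L M` is an isomorphism.
-/

set_option autoImplicit false
set_option maxHeartbeats 400000
universe u
open CategoryTheory CategoryTheory.Limits MonoidalCategory HomologicalComplex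
attribute [local instance] HasDerivedCategory.standard

namespace Groth.Agent.Lib.Seat63.DTenUnitShift

open DerivedCategory Groth.Agent.Lib.Helper1.KF Groth.Agent.Lib.Helper1.DT DTen
  Groth.Agent.Lib.Seat63.DTenBasic Groth.Agent.Lib.Seat63.DTenBase

variable {A : Type u} [CommRing A]

set_option backward.defeqAttrib.useBackward true in
set_option backward.isDefEq.respectTransparency false in
/-- naturality of `tensorShiftLeftIso` in the second variable -/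
lemma tensorShiftLeftIso_hom_naturality (L : Cx A) {K K' : Cx A} (g : K ⟶ K') (n : ℤ) :
    ((L⟦n⟧) ◁ g) ≫ (tensorShiftLeftIso L K' n).hom =
      (tensorShiftLeftIso L K n).hom ≫ (L ◁ g)⟦n⟧' := by
  rw [whiskerLeft_eq, whiskerLeft_eq]
  dsimp only [tensorShiftLeftIso]
  refine HomologicalComplex.hom_ext _ _ (fun d => ?_)
  refine mapBifunctor.hom_ext (K₁ := L⟦n⟧) (K₂ := K) (F := curriedTensor (ModuleCat.{u} A))
    (c := ComplexShape.up ℤ) (fun p q h => ?_)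
  simp [CochainComplex.ι_mapBifunctorShift₁Iso_hom_f _ _ _ _ _ _ _ _ (p + n) (d + n) rfl rfl,
    CochainComplex.ι_mapBifunctorShift₁Iso_hom_f_assoc _ _ _ _ _ _ _ _ (p + n) (d + n) rfl rfl]

/-- `(𝟙⟦n⟧ ⊗ -) ≅ shift n` on complexes -/
noncomputable def unitShiftTensorIso (n : ℤ) :
    tensorLeft ((𝟙_ (Cx A))⟦n⟧) ≅ shiftFunctor (Cx A) n :=
  NatIso.ofComponents
    (fun K => tensorShiftLeftIso (𝟙_ (Cx A)) K n ≪≫ (shiftFunctor (Cx A) n).mapIso (λ_ K))
    (fun {K K'} g => by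
      dsimp
      rw [← Category.assoc, tensorShiftLeftIso_hom_naturality, Category.assoc, Category.assoc,
        ← Functor.map_comp, ← Functor.map_comp, MonoidalCategory.leftUnitor_naturality])

lemma kflat_unit : KFlat (𝟙_ (Cx A)) := fun L hL => hL.of_iso (ρ_ L).symm

lemma kflat_unit_shift (n : ℤ) : KFlat ((𝟙_ (Cx A))⟦n⟧) := kflat_unit.shift n

variable [HasLTen A]

instance isIso_εLeft (n : ℤ) : IsIso (εLeft A ((𝟙_ (Cx A))⟦n⟧)) := by
  have : ∀ K, IsIso ((εLeft A ((𝟙_ (Cx A))⟦n⟧)).app K) := fun K =>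
    isIso_ε_of_kflat _ K (Or.inl (kflat_unit_shift n))
  exact NatIso.isIso_of_isIso_app _

/-- the comparison on complexes -/
noncomputable def unitShiftIso₀ (n : ℤ) :
    Q ⋙ (LTen A).obj (Q.obj ((𝟙_ (Cx A))⟦n⟧)) ≅ Q ⋙ shiftFunctor (Dual.D A) n :=
  asIso (εLeft A ((𝟙_ (Cx A))⟦n⟧)) ≪≫ Functor.isoWhiskerRight (unitShiftTensorIso n) Q ≪≫
    Q.commShiftIso n

/-- `(A[0]⟦n⟧) ⊗^L - ≅ shiftFunctor n` -/
noncomputable def unitShiftIso (n : ℤ) :
    (LTen A).obj (Q.obj ((𝟙_ (Cx A))⟦n⟧)) ≅ shiftFunctor (Dual.D A) n :=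
  Localization.liftNatIso Q (DTen.qis A) (Q ⋙ (LTen A).obj (Q.obj ((𝟙_ (Cx A))⟦n⟧)))
    (Q ⋙ shiftFunctor (Dual.D A) n) _ _ (unitShiftIso₀ n)

instance (n : ℤ) : ((LTen A).obj (Q.obj ((𝟙_ (Cx A))⟦n⟧))).IsEquivalence :=
  Functor.isEquivalence_of_iso (unitShiftIso n).symm

variable [HasLTen₃ A] [IsSymMonoidal A] [HasRHom A]

theorem isIso_evalTen_unit_shift (n : ℤ) (L M : Dual.D A) :
    IsIso (evalTen ((DTen.unit A)⟦n⟧) L M) := by
  have h : IsIso (evalTen (Q.obj ((𝟙_ (Cx A))⟦n⟧)) L M) := isIso_evalTen_of_isEquivalence _ L M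
  have e : Q.obj ((𝟙_ (Cx A))⟦n⟧) ≅ (DTen.unit A)⟦n⟧ := (Q.commShiftIso n).app (𝟙_ (Cx A))
  exact (NatTrans.isIso_app_iff_of_iso (evalTenNat L M) e).1 h

end Groth.Agent.Lib.Seat63.DTenUnitShift
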