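import Mathlib
import Groth.Agent.S6965
import Groth.Agent.S6990
import Groth.Agent.Lib.Helper1TorD

/-!
# Test objects `A[k]` in `D(A)` (helper63)

`tst k = Q(𝟙⟦k⟧)` is the ring placed in degree `-k`.
* `hom_tst_eq_zero`: `Hom(A[k], X) = 0` for `X ∈ D^{≤ c}`, `c < -k` (projectivity of `A`);
* `isZero_homology_of_hom_tst`, `isGE_of_hom_tst`, `isLE_of_hom_tst`: vanishing of `Hom(A[k], X)`
  detects vanishing of `H^{-k}(X)`;
* `hom_eq_zero_of_isGE_of_injective`, `hom_eq_zero_of_isGE_of_injAmp`: `Hom(X, M) = 0` for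
  `X ∈ D^{≥ p}` and `M` of injective amplitude in `[a, b]`, `b < p`;
* `isIso_of_hom_tst_bijective`: a morphism inducing bijections on all `Hom(A[k], -)` is an
  isomorphism.
-/

set_option autoImplicit false
universe u
open CategoryTheory CategoryTheory.Limits MonoidalCategory HomologicalComplex
attribute [local instance] HasDerivedCategory.standard

namespace Groth.Agent.Lib.Seat63.DTest

open DerivedCategory DRing Pretriangulated

variable {A : Type u} [CommRing A]

/-- the test complex `A[k]` (the unit complex shifted by `k`, concentrated in degree `-k`) -/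
noncomputable abbrev tcx (k : ℤ) : Cx A := (𝟙_ (Cx A))⟦k⟧

/-- the test object `A[k]` of `D(A)` -/
noncomputable abbrev tst (k : ℤ) : Dual.D A := Q.obj (tcx (A := A) k)

lemma isZero_tcx_X (k i : ℤ) (h : i ≠ -k) : IsZero ((tcx (A := A) k).X i) :=
  isZero_single_obj_X (ComplexShape.up ℤ) 0 (𝟙_ (ModuleCat.{u} A)) (i + k) (by lia)

instance projective_tcx_X (k i : ℤ) : Projective ((tcx (A := A) k).X i) := by
  by_cases h : i = -k
  · subst h
    have e : (tcx (A := A) k).X (-k) ≅ ModuleCat.of A A :=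
      singleObjXIsoOfEq (ComplexShape.up ℤ) 0 (𝟙_ (ModuleCat.{u} A)) (-k + k) (by lia)
    exact Projective.of_iso e.symm (ModuleCat.projective_of_categoryTheory_projective _)
  · exact (isZero_tcx_X k i h).projective

/-- maps from `A[k]` to an object of `D^{≤ c}` with `c < -k` vanish -/
lemma hom_tst_eq_zero (k c : ℤ) (hc : c < -k) (X : Dual.D A) [X.IsLE c] (f : tst k ⟶ X) : f = 0 := by
  have : X.IsLE (-k - 1) := TStructure.t.isLE_of_le X c (-k - 1) (by lia)
  exact Groth.Agent.S6990.hom_eq_zero (tcx (A := A) k) (-k) (-k)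
    (fun i hi => isZero_tcx_X k i (by lia)) X f

/-- the unit complex shifted is the single complex -/
noncomputable def tcxIso (k : ℤ) :
    tcx (A := A) k ≅ (single (ModuleCat.{u} A) (ComplexShape.up ℤ) (-k)).obj
      (ModuleCat.of A (A ⧸ (⊥ : Ideal A))) :=
  ((CochainComplex.singleFunctors (ModuleCat.{u} A)).shiftIso k (-k) 0 (by lia)).app
      (ModuleCat.of A A) ≪≫
    (single (ModuleCat.{u} A) (ComplexShape.up ℤ) (-k)).mapIso
      (Submodule.quotEquivOfEqBot (⊥ : Ideal A) rfl).symm.toModuleIso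

/-- if every map `A[k] ⟶ X` vanishes then `H^{-k}(X) = 0` -/
lemma isZero_homology_of_hom_tst (k : ℤ) (X : Dual.D A) (h : ∀ f : tst k ⟶ X, f = 0) :
    IsZero ((homologyFunctor (ModuleCat.{u} A) (-k)).obj X) := by
  obtain ⟨E, ⟨e⟩⟩ : ∃ E : Cx A, Nonempty (Q.obj E ≅ X) := ⟨_, ⟨Q.objObjPreimageIso X⟩⟩
  refine IsZero.of_iso ?_ ((homologyFunctor _ (-k)).mapIso e.symm)
  rw [← Groth.Agent.Lib.Helper1.Tor.exactAt_iff_isZero_H]
  apply Groth.Agent.S6965.exactAt_of_Q_map_eq_zero
  intro c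
  have h1 : Q.map ((tcxIso k).hom ≫ c) ≫ e.hom = 0 := h _
  have h2 : Q.map ((tcxIso k).hom ≫ c) = 0 := by
    rw [← cancel_mono e.hom, h1, zero_comp]
  rw [Functor.map_comp] at h2
  rw [← cancel_epi (Q.map (tcxIso (A := A) k).hom), h2, comp_zero]

lemma isGE_of_hom_tst (X : Dual.D A) (N : ℤ)
    (h : ∀ k : ℤ, -k < N → ∀ f : tst k ⟶ X, f = 0) : X.IsGE N := by
  rw [DerivedCategory.isGE_iff]
  intro i hi
  have := isZero_homology_of_hom_tst (-i) X (h (-i) (by lia))
  rwa [neg_neg] at this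

lemma isLE_of_hom_tst (X : Dual.D A) (c : ℤ)
    (h : ∀ k : ℤ, c < -k → ∀ f : tst k ⟶ X, f = 0) : X.IsLE c := by
  rw [DerivedCategory.isLE_iff]
  intro i hi
  have := isZero_homology_of_hom_tst (-i) X (h (-i) (by lia))
  rwa [neg_neg] at this

/-- maps from an object of `D^{≥ p}` to a bounded complex of injectives living in degrees `< p`
vanish -/
lemma hom_eq_zero_of_isGE_of_injective (X : Dual.D A) (p : ℤ) [X.IsGE p] (I : Cx A) (a b : ℤ)
    (hI : VanishesOutside I a b) (hinj : TermwiseInjective I) (hb : b < p) (f : X ⟶ Q.obj I) :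
    f = 0 := by
  have hinj' : ∀ n : ℤ, Injective (I.X n) := fun n =>
    Module.injective_object_of_injective_module A (I.X n) (inj := hinj n)
  have hge : I.IsStrictlyGE a := by
    rw [CochainComplex.isStrictlyGE_iff]
    intro n hn
    exact hI n (Or.inl hn)
  have : I.IsKInjective := CochainComplex.isKInjective_of_injective _ a
  obtain ⟨X', hX', ⟨e⟩⟩ := X.exists_iso_Q_obj_of_isGE p
  obtain ⟨c, hc⟩ := Groth.Agent.S6965.exists_chain_map_inj X' I (e.inv ≫ f)
  have hc0 : c = 0 := by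
    ext i : 1
    by_cases hi : i < p
    · exact (X'.isZero_of_isStrictlyGE p i hi).eq_of_src _ _
    · exact (hI i (Or.inr (by lia))).eq_of_tgt _ _
  rw [← cancel_epi e.inv, comp_zero, ← hc, hc0, Functor.map_zero]

/-- maps from an object of `D^{≥ p}` to an object of injective amplitude in `[a, b]`, `b < p`,
vanish -/
lemma hom_eq_zero_of_isGE_of_injAmp (X : Dual.D A) (p : ℤ) [X.IsGE p] (M : Dual.D A) (a b : ℤ)
    (hM : HasInjAmplitudeIn A a b M) (hb : b < p) (f : X ⟶ M) : f = 0 := by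
  obtain ⟨I, hI, hinj, ⟨e⟩⟩ := hM
  have h := hom_eq_zero_of_isGE_of_injective X p I a b hI hinj hb (f ≫ e.inv)
  rw [← cancel_mono e.inv, h, zero_comp]

/-- `A[k] ≅ A[k'][1]` for `k' + 1 = k` -/
noncomputable def tstShiftIso (k k' : ℤ) (h : k' + 1 = k) :
    tst (A := A) k ≅ (tst (A := A) k')⟦(1 : ℤ)⟧ :=
  Q.mapIso ((shiftFunctorAdd' (Cx A) k' 1 k h).app (𝟙_ (Cx A))) ≪≫
    (Q.commShiftIso (1 : ℤ)).app (tcx k')

/-- a morphism of `D(A)` inducing bijections on `Hom(A[k], -)` for all `k` is an isomorphism -/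
theorem isIso_of_hom_tst_bijective {X Y : Dual.D A} (f : X ⟶ Y)
    (h : ∀ k : ℤ, Function.Bijective (fun g : tst k ⟶ X => g ≫ f)) : IsIso f := by
  obtain ⟨C, g, δ, hT⟩ := Pretriangulated.distinguished_cocone_triangle f
  have hC : ∀ (k : ℤ) (x : tst k ⟶ C), x = 0 := by
    intro k x
    have h1 : (x ≫ δ) ≫ f⟦(1 : ℤ)⟧' = 0 := by
      rw [Category.assoc]
      have h0 : δ ≫ f⟦(1 : ℤ)⟧' = 0 := comp_distTriang_mor_zero₃₁ _ hT
      rw [h0, comp_zero]
    have h2 : x ≫ δ = 0 := by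
      obtain ⟨y', hy'⟩ := (shiftFunctor (Dual.D A) (1 : ℤ)).map_surjective
        ((tstShiftIso k (k - 1) (by lia)).inv ≫ x ≫ δ)
      have h3 : y' ≫ f = 0 := by
        apply (shiftFunctor (Dual.D A) (1 : ℤ)).map_injective
        rw [Functor.map_comp, hy', Functor.map_zero, Category.assoc, h1, comp_zero]
      have hy0 : y' = 0 := (h (k - 1)).1 (by simpa using h3)
      rw [hy0, Functor.map_zero] at hy'
      rw [← cancel_epi (tstShiftIso k (k - 1) (by lia)).inv, ← hy', comp_zero]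
    obtain ⟨x', hx'⟩ := Triangle.coyoneda_exact₃ _ hT x h2
    obtain ⟨x'', hx''⟩ := (h k).2 x'
    have h5 : x = (x'' ≫ f) ≫ g := by
      have h7 : x'' ≫ f = x' := hx''
      rw [h7]
      exact hx'
    have h6 : f ≫ g = 0 := comp_distTriang_mor_zero₁₂ _ hT
    rw [h5, Category.assoc, h6, comp_zero]
  have hz : IsZero C := by
    have h1 : C.IsLE 0 := isLE_of_hom_tst C 0 (fun k _ x => hC k x)
    have h2 : C.IsGE 1 := isGE_of_hom_tst C 1 (fun k _ x => hC k x)
    exact DerivedCategory.TStructure.t.isZero C 0 1 (by simp)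
  exact (Triangle.isZero₃_iff_isIso₁ _ hT).1 hz

end Groth.Agent.Lib.Seat63.DTest
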