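import Mathlib
import Groth.Agent.Lib.Seat63DTest
import Groth.Agent.Lib.Seat63DTenUnitShift
import Groth.Agent.Lib.Seat63DTenDual
set_option backward.isDefEq.respectTransparency.types false

/-!
# t-structure bounds for the derived tensor product and `RHom` on `D(A)` (helper63)

* `homTstEquiv k X Y : Hom(A[k], RHom(X, Y)) ≃ Hom(X[k], Y)`, natural in `X`;
* `isGE_rhom`: `RHom(D^{≤ q}, D^{≥ r}) ⊆ D^{≥ r - q}`;
* `isLE_tensor`: `D^{≤ p} ⊗^L D^{≤ q} ⊆ D^{≤ p + q}`;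
* `isLE_rhom_of_injAmp`: `RHom(D^{≥ n}, M) ⊆ D^{≤ b - n}` for `M` of injective amplitude `[a, b]`.
-/

set_option autoImplicit false
set_option maxHeartbeats 400000
universe u
open CategoryTheory CategoryTheory.Limits MonoidalCategory
attribute [local instance] HasDerivedCategory.standard

namespace Groth.Agent.Lib.Seat63.DTenBounds

open DerivedCategory DTen Groth.Agent.Lib.Seat63.DTenBasic Groth.Agent.Lib.Seat63.DTenMonoidal
  Groth.Agent.Lib.Seat63.DTenDual Groth.Agent.Lib.Seat63.DTenUnitShift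
  Groth.Agent.Lib.Seat63.DTest

variable {A : Type u} [CommRing A] [HasLTen A] [HasLTen₃ A] [IsSymMonoidal A] [HasRHom A]

attribute [local instance] monoidalD

/-- dinaturality of the evaluation -/
lemma RHomMap_evM {L L' : Dual.D A} (g : L' ⟶ L) (M : Dual.D A) :
    RHomMap g M ▷ L' ≫ evM L' M = (RHomR A L).obj M ◁ g ≫ evM L M :=
  RHom_map_ev g M

/-- `Hom(A[k], RHom(X, Y)) ≃ Hom(X[k], Y)` -/
noncomputable def homTstEquiv (k : ℤ) (X Y : Dual.D A) :
    (tst k ⟶ (RHomR A X).obj Y) ≃ (X⟦k⟧ ⟶ Y) :=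
  (homEquivM (tst k) X Y).symm.trans ((unitShiftIso k).app X).homFromEquiv

lemma homTstEquiv_apply (k : ℤ) (X Y : Dual.D A) (g : tst k ⟶ (RHomR A X).obj Y) :
    homTstEquiv k X Y g = (unitShiftIso k).inv.app X ≫ g ▷ X ≫ evM X Y := by
  change (unitShiftIso k).inv.app X ≫ (homEquivM (tst k) X Y).symm g = _
  rw [homEquivM_symm_apply]

lemma homTstEquiv_naturality (k : ℤ) {P K : Dual.D A} (α : P ⟶ K) (Y : Dual.D A)
    (g : tst k ⟶ (RHomR A K).obj Y) :
    homTstEquiv k P Y (g ≫ RHomMap α Y) = α⟦k⟧' ≫ homTstEquiv k K Y g := by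
  rw [homTstEquiv_apply, homTstEquiv_apply, comp_whiskerRight, Category.assoc, RHomMap_evM,
    ← whisker_exchange_assoc]
  have h := (unitShiftIso (A := A) k).inv.naturality α
  rw [obj_map] at h
  rw [← Category.assoc, ← Category.assoc]
  erw [← h]
  simp only [Category.assoc]

lemma zero_whiskerRight' (Z Z' X : Dual.D A) : (0 : Z ⟶ Z') ▷ X = 0 := by
  change ((LTen A).flip.obj X).map 0 = 0
  exact Functor.map_zero _ _ _

lemma homTstEquiv_zero (k : ℤ) (X Y : Dual.D A) : homTstEquiv k X Y 0 = 0 := by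
  rw [homTstEquiv_apply, zero_whiskerRight', zero_comp, comp_zero]

lemma hom_tst_rhom_eq_zero (k : ℤ) (X Y : Dual.D A) (h : ∀ f : X⟦k⟧ ⟶ Y, f = 0)
    (g : tst k ⟶ (RHomR A X).obj Y) : g = 0 := by
  apply (homTstEquiv k X Y).injective
  rw [h (homTstEquiv k X Y g), h (homTstEquiv k X Y 0)]

/-- `RHom(Y, Z) ∈ D^{≥ r - q}` for `Y ∈ D^{≤ q}`, `Z ∈ D^{≥ r}` -/
lemma isGE_rhom (Y Z : Dual.D A) (q r : ℤ) [Y.IsLE q] [Z.IsGE r] :
    ((RHomR A Y).obj Z).IsGE (r - q) := by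
  apply isGE_of_hom_tst
  intro k hk g
  apply hom_tst_rhom_eq_zero
  intro f
  have : (Y⟦k⟧).IsLE (q - k) := TStructure.t.isLE_shift Y q k (q - k) (by lia)
  exact TStructure.t.zero f (q - k) r (by lia)

/-- `X ⊗^L Y ∈ D^{≤ p + q}` for `X ∈ D^{≤ p}`, `Y ∈ D^{≤ q}` -/
lemma isLE_tensor (X Y : Dual.D A) (p q : ℤ) [X.IsLE p] [Y.IsLE q] : (X ⊗ Y).IsLE (p + q) := by
  refine (TStructure.t.isLE_iff_orthogonal (p + q) (p + q + 1) rfl (X ⊗ Y)).2 ?_
  intro Z f hZ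
  have h1 : ((RHomR A Y).obj Z).IsGE (p + q + 1 - q) := isGE_rhom Y Z q (p + q + 1)
  have h2 : ((RHomR A Y).obj Z).IsGE (p + 1) := TStructure.t.isGE_of_ge _ (p + 1) (p + q + 1 - q)
  apply (homEquivM X Y Z).injective
  rw [TStructure.t.zero (homEquivM X Y Z f) p (p + 1), TStructure.t.zero (homEquivM X Y Z 0) p (p + 1)]

/-- `RHom(L, M) ∈ D^{≤ b - n}` for `L ∈ D^{≥ n}` and `M` of injective amplitude in `[a, b]` -/
lemma isLE_rhom_of_injAmp (L M : Dual.D A) (n a b : ℤ) [L.IsGE n]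
    (hM : DRing.HasInjAmplitudeIn A a b M) : ((RHomR A L).obj M).IsLE (b - n) := by
  apply isLE_of_hom_tst
  intro k hk g
  apply hom_tst_rhom_eq_zero
  intro f
  have : (L⟦k⟧).IsGE (n - k) := TStructure.t.isGE_shift L n k (n - k) (by lia)
  exact hom_eq_zero_of_isGE_of_injAmp (L⟦k⟧) (n - k) M a b hM (by lia) f

end Groth.Agent.Lib.Seat63.DTenBounds
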