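import Mathlib
import Groth.Agent.Lib.Seat63DTenDual
set_option backward.isDefEq.respectTransparency.types false

/-!
# The left-handed closed structure on `D(A)` (helper63)

Using the symmetry `symm` (only its naturality and invertibility), `RHom(M, -)` is also right
adjoint to `M ⊗^L -`, with counit `evL M L = symm ≫ ev : M ⊗ RHom(M, L) ⟶ L`.  The mirrored map
`evalTenL X L M : RHom(M, L) ⊗ X ⟶ RHom(M, L ⊗ X)` is natural in `X` and is an isomorphism when
`- ⊗ X` is an equivalence.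
-/

set_option autoImplicit false
set_option maxHeartbeats 400000
universe u
open CategoryTheory CategoryTheory.Limits MonoidalCategory
attribute [local instance] HasDerivedCategory.standard

namespace Groth.Agent.Lib.Seat63.DTenLeft

open DTen Groth.Agent.Lib.Seat63.DTenBasic Groth.Agent.Lib.Seat63.DTenMonoidal
  Groth.Agent.Lib.Seat63.DTenDual

variable {A : Type u} [CommRing A] [HasLTen A] [HasLTen₃ A] [IsSymMonoidal A]

attribute [local instance] monoidalD

/-- the symmetry `M ⊗ Z ≅ Z ⊗ M` -/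
noncomputable def br (Z M : Dual.D A) : M ⊗ Z ≅ Z ⊗ M := DTen.braiding Z M

lemma br_naturality {Z Z' M M' : Dual.D A} (f : Z ⟶ Z') (g : M ⟶ M') :
    (g ⊗ₘ f) ≫ (br Z' M').hom = (br Z M).hom ≫ (f ⊗ₘ g) :=
  (symm A).naturality (Prod.mkHom f g : (Z, M) ⟶ (Z', M'))

lemma br_naturality_left {Z Z' : Dual.D A} (f : Z ⟶ Z') (M : Dual.D A) :
    M ◁ f ≫ (br Z' M).hom = (br Z M).hom ≫ f ▷ M := by
  have h := br_naturality f (𝟙 M)
  rw [MonoidalCategory.id_tensorHom, MonoidalCategory.tensorHom_id] at h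
  exact h

variable [HasRHom A]

/-- left evaluation `M ⊗ RHom(M, L) ⟶ L` -/
noncomputable def evL (M L : Dual.D A) : M ⊗ (RHomR A M).obj L ⟶ L :=
  (br ((RHomR A M).obj L) M).hom ≫ evM M L

/-- the left hom bijection `Hom(M ⊗ Z, L) ≃ Hom(Z, RHom(M, L))` -/
noncomputable def homEquivL (Z M L : Dual.D A) : (M ⊗ Z ⟶ L) ≃ (Z ⟶ (RHomR A M).obj L) :=
  (br Z M).homFromEquiv.trans (homEquivM Z M L)

lemma homEquivL_symm_apply (Z M L : Dual.D A) (g : Z ⟶ (RHomR A M).obj L) :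
    (homEquivL Z M L).symm g = M ◁ g ≫ evL M L := by
  change (br Z M).hom ≫ (homEquivM Z M L).symm g = _
  rw [homEquivM_symm_apply, evL, ← Category.assoc, ← Category.assoc, br_naturality_left]

lemma homEquivL_symm_comp {Z Z' : Dual.D A} (M L : Dual.D A) (x : Z' ⟶ Z)
    (g : Z ⟶ (RHomR A M).obj L) :
    (homEquivL Z' M L).symm (x ≫ g) = M ◁ x ≫ (homEquivL Z M L).symm g := by
  rw [homEquivL_symm_apply, homEquivL_symm_apply, whiskerLeft_comp, Category.assoc]

lemma homEquivL_symm_comp_map {Z : Dual.D A} (M : Dual.D A) {L L' : Dual.D A}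
    (g : Z ⟶ (RHomR A M).obj L) (h : L ⟶ L') :
    (homEquivL Z M L').symm (g ≫ (RHomR A M).map h) = (homEquivL Z M L).symm g ≫ h := by
  change (br Z M).hom ≫ (rhomHomEquiv Z M L').symm (g ≫ (RHomR A M).map h) =
    ((br Z M).hom ≫ (rhomHomEquiv Z M L).symm g) ≫ h
  rw [Category.assoc]
  congr 1
  exact Adjunction.homEquiv_naturality_right_symm _ _ _

/-- the mirrored map `RHom(M, L) ⊗ X ⟶ RHom(M, L ⊗ X)` -/
noncomputable def evalTenL (X L M : Dual.D A) :
    (RHomR A M).obj L ⊗ X ⟶ (RHomR A M).obj (L ⊗ X) :=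
  homEquivL _ M _ ((α_ M ((RHomR A M).obj L) X).inv ≫ evL M L ▷ X)

lemma homEquivL_symm_comp_evalTenL (X L M : Dual.D A) {Z : Dual.D A}
    (x : Z ⟶ (RHomR A M).obj L ⊗ X) :
    (homEquivL Z M (L ⊗ X)).symm (x ≫ evalTenL X L M) =
      M ◁ x ≫ (α_ M ((RHomR A M).obj L) X).inv ≫ evL M L ▷ X := by
  rw [homEquivL_symm_comp]
  dsimp only [evalTenL]
  rw [Equiv.symm_apply_apply]

/-- `evalTenL X L M` as a natural transformation in `X` -/
noncomputable def evalTenLNat (L M : Dual.D A) :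
    (LTen A).obj ((RHomR A M).obj L) ⟶ (LTen A).obj L ⋙ RHomR A M where
  app X := evalTenL X L M
  naturality X X' f := by
    apply (homEquivL _ M _).symm.injective
    change (homEquivL _ M _).symm (((RHomR A M).obj L ◁ f) ≫ evalTenL X' L M) =
      (homEquivL _ M _).symm (evalTenL X L M ≫ (RHomR A M).map (L ◁ f))
    rw [homEquivL_symm_comp_evalTenL, homEquivL_symm_comp_map]
    have h := homEquivL_symm_comp_evalTenL X L M (𝟙 _)
    rw [Category.id_comp, whiskerLeft_id, Category.id_comp] at h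
    rw [h, associator_inv_naturality_right_assoc, Category.assoc, whisker_exchange]

@[simp] lemma evalTenLNat_app (X L M : Dual.D A) : (evalTenLNat L M).app X = evalTenL X L M := rfl

/-- if `- ⊗^L U` is an equivalence of categories then `RHom(M, L) ⊗^L U ⟶ RHom(M, L ⊗^L U)` is an
isomorphism -/
theorem isIso_evalTenL_of_isEquivalence (U L M : Dual.D A)
    [((LTen A).flip.obj U).IsEquivalence] : IsIso (evalTenL U L M) := by
  apply isIso_of_yoneda_map_bijective
  intro Z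
  let V : Dual.D A ⥤ Dual.D A := (LTen A).flip.obj U
  let Z' : Dual.D A := V.objPreimage Z
  let ζ : V.obj Z' ≅ Z := V.objObjPreimageIso Z
  let ff : V.FullyFaithful := Functor.FullyFaithful.ofFullyFaithful V
  let e1 : (Z ⟶ V.obj ((RHomR A M).obj L)) ≃ (V.obj Z' ⟶ V.obj ((RHomR A M).obj L)) :=
    ζ.symm.homFromEquiv
  let e2 : (V.obj Z' ⟶ V.obj ((RHomR A M).obj L)) ≃ (Z' ⟶ (RHomR A M).obj L) := ff.homEquiv.symm
  let e3 : (Z' ⟶ (RHomR A M).obj L) ≃ (M ⊗ Z' ⟶ L) := (homEquivL Z' M L).symm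
  let e4 : (M ⊗ Z' ⟶ L) ≃ (V.obj (M ⊗ Z') ⟶ V.obj L) := ff.homEquiv
  let κ : M ⊗ Z ≅ V.obj (M ⊗ Z') := whiskerLeftIso M ζ.symm ≪≫ (α_ M Z' U).symm
  let e5 : (V.obj (M ⊗ Z') ⟶ V.obj L) ≃ (M ⊗ Z ⟶ V.obj L) := κ.symm.homFromEquiv
  let e6 : (M ⊗ Z ⟶ V.obj L) ≃ (Z ⟶ (RHomR A M).obj (V.obj L)) := homEquivL Z M (V.obj L)
  have key : ∀ x : Z ⟶ V.obj ((RHomR A M).obj L),
      x ≫ evalTenL U L M = e6 (e5 (e4 (e3 (e2 (e1 x))))) := by
    intro x
    apply e6.symm.injective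
    rw [Equiv.symm_apply_apply]
    change (homEquivL Z M _).symm (x ≫ evalTenL U L M) = _
    rw [homEquivL_symm_comp_evalTenL]
    set x₂ : Z' ⟶ (RHomR A M).obj L := e2 (e1 x) with hx₂
    have hx₂' : V.map x₂ = ζ.hom ≫ x := by
      rw [hx₂]
      change V.map (ff.preimage (ζ.hom ≫ x)) = _
      exact ff.map_preimage _
    have hx : x = ζ.inv ≫ x₂ ▷ U := by
      change x = ζ.inv ≫ V.map x₂
      rw [hx₂', Iso.inv_hom_id_assoc]
    change _ = κ.hom ≫ V.map ((homEquivL Z' M L).symm x₂)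
    rw [homEquivL_symm_apply]
    change _ = (M ◁ ζ.inv ≫ (α_ M Z' U).inv) ≫ (M ◁ x₂ ≫ evL M L) ▷ U
    rw [hx, whiskerLeft_comp, comp_whiskerRight, Category.assoc, Category.assoc,
      associator_inv_naturality_middle_assoc]
  have : (fun x : Z ⟶ V.obj ((RHomR A M).obj L) => x ≫ evalTenL U L M) =
      e6 ∘ e5 ∘ e4 ∘ e3 ∘ e2 ∘ e1 := by
    funext x
    exact key x
  refine this ▸ ?_
  exact e6.bijective.comp (e5.bijective.comp (e4.bijective.comp (e3.bijective.comp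
    (e2.bijective.comp e1.bijective))))

end Groth.Agent.Lib.Seat63.DTenLeft
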