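import Mathlib
import Groth.Agent.Lib.Seat63DTenLeft
set_option backward.isDefEq.respectTransparency.types false

/-!
# Left duals in `D(A)` and the map `RHom(L, M) ⊗^L K ⟶ RHom(RHom(K, L), M)` (helper63)

If `evalTenL K 𝟙 K : RHom(K, 𝟙) ⊗ K ⟶ RHom(K, 𝟙 ⊗ K)` is an isomorphism, then `RHom(K, 𝟙)` is a
left dual of `K` (with evaluation `evL K 𝟙 : K ⊗ RHom(K, 𝟙) ⟶ 𝟙`), `RHom(K, 𝟙) ⊗ L ≅ RHom(K, L)`,
and `evalHom K L M` is an isomorphism for all `L`, `M`.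
-/

set_option autoImplicit false
set_option maxHeartbeats 400000
universe u
open CategoryTheory CategoryTheory.Limits MonoidalCategory
attribute [local instance] HasDerivedCategory.standard

namespace Groth.Agent.Lib.Seat63.DTenDualL

open DTen Groth.Agent.Lib.Seat63.DTenBasic Groth.Agent.Lib.Seat63.DTenMonoidal
  Groth.Agent.Lib.Seat63.DTenDual Groth.Agent.Lib.Seat63.DTenLeft

variable {A : Type u} [CommRing A] [HasLTen A] [HasLTen₃ A] [IsSymMonoidal A] [HasRHom A]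

attribute [local instance] monoidalD

variable (M : Dual.D A) [hτ : IsIso (evalTenL M (𝟙_ (Dual.D A)) M)]

/-- the coevaluation `𝟙 ⟶ DM ⊗ M` -/
noncomputable def coevL : 𝟙_ (Dual.D A) ⟶ DD M ⊗ M :=
  homEquivL (𝟙_ (Dual.D A)) M (𝟙_ (Dual.D A) ⊗ M) ((ρ_ M).hom ≫ (λ_ M).inv) ≫
    inv (evalTenL M (𝟙_ (Dual.D A)) M)

/-- the first triangle identity -/
lemma coevL_evL :
    M ◁ coevL M ≫ (α_ M (DD M) M).inv ≫ evL M (𝟙_ (Dual.D A)) ▷ M = (ρ_ M).hom ≫ (λ_ M).inv := by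
  rw [← homEquivL_symm_comp_evalTenL]
  dsimp only [coevL]
  rw [Category.assoc, IsIso.inv_hom_id, Category.comp_id, Equiv.symm_apply_apply]

/-- the second triangle identity -/
lemma evL_coevL :
    coevL M ▷ DD M ≫ (α_ (DD M) M (DD M)).hom ≫ DD M ◁ evL M (𝟙_ (Dual.D A)) =
      (λ_ (DD M)).hom ≫ (ρ_ (DD M)).inv := by
  have key : M ◁ ((λ_ (DD M)).inv ≫ coevL M ▷ DD M ≫ (α_ (DD M) M (DD M)).hom ≫
      DD M ◁ evL M (𝟙_ (Dual.D A)) ≫ (ρ_ (DD M)).hom) ≫ evL M (𝟙_ (Dual.D A)) =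
      evL M (𝟙_ (Dual.D A)) := by
    calc _ = 𝟙 _ ⊗≫ M ◁ coevL M ▷ DD M ⊗≫ ((M ⊗ DD M) ◁ evL M (𝟙_ (Dual.D A)) ≫
          evL M (𝟙_ (Dual.D A)) ▷ 𝟙_ (Dual.D A)) ⊗≫ 𝟙 _ := by monoidal
      _ = 𝟙 _ ⊗≫ M ◁ coevL M ▷ DD M ⊗≫ (evL M (𝟙_ (Dual.D A)) ▷ (M ⊗ DD M) ≫
          𝟙_ (Dual.D A) ◁ evL M (𝟙_ (Dual.D A))) ⊗≫ 𝟙 _ := by rw [whisker_exchange]
      _ = 𝟙 _ ⊗≫ (M ◁ coevL M ≫ (α_ M (DD M) M).inv ≫ evL M (𝟙_ (Dual.D A)) ▷ M) ▷ DD M ⊗≫
          evL M (𝟙_ (Dual.D A)) := by monoidal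
      _ = evL M (𝟙_ (Dual.D A)) := by rw [coevL_evL]; monoidal
  have h1 : (λ_ (DD M)).inv ≫ coevL M ▷ DD M ≫ (α_ (DD M) M (DD M)).hom ≫
      DD M ◁ evL M (𝟙_ (Dual.D A)) ≫ (ρ_ (DD M)).hom = 𝟙 (DD M) := by
    apply (homEquivL (DD M) M (𝟙_ (Dual.D A))).symm.injective
    rw [homEquivL_symm_apply, homEquivL_symm_apply, key, whiskerLeft_id, Category.id_comp]
  calc _ = (λ_ (DD M)).hom ≫ ((λ_ (DD M)).inv ≫ coevL M ▷ DD M ≫ (α_ (DD M) M (DD M)).hom ≫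
        DD M ◁ evL M (𝟙_ (Dual.D A)) ≫ (ρ_ (DD M)).hom) ≫ (ρ_ (DD M)).inv := by simp
    _ = _ := by rw [h1, Category.id_comp]

/-- `RHom(M, 𝟙)` is a left dual of `M` -/
@[instance_reducible]
noncomputable def exactPairingL : ExactPairing (DD M) M where
  coevaluation' := coevL M
  evaluation' := evL M (𝟙_ (Dual.D A))
  coevaluation_evaluation' := coevL_evL M
  evaluation_coevaluation' := evL_coevL M

attribute [local instance] exactPairingL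

/-- the comparison `DM ⊗ L ⟶ RHom(M, L)` -/
noncomputable def nuL (L : Dual.D A) : DD M ⊗ L ⟶ (RHomR A M).obj L :=
  homEquivL (DD M ⊗ L) M L ((tensorLeftHomEquiv (DD M ⊗ L) (DD M) M L).symm (𝟙 _))

lemma whiskerLeft_nuL_evL (L : Dual.D A) :
    M ◁ nuL M L ≫ evL M L =
      (α_ M (DD M) L).inv ≫ evL M (𝟙_ (Dual.D A)) ▷ L ≫ (λ_ L).hom := by
  rw [← homEquivL_symm_apply]
  dsimp only [nuL]
  rw [Equiv.symm_apply_apply]
  dsimp [tensorLeftHomEquiv]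
  rw [whiskerLeft_id, Category.id_comp]
  rfl

instance isIso_nuL (L : Dual.D A) : IsIso (nuL M L) := by
  apply isIso_of_yoneda_map_bijective
  intro Z
  have : (fun y : Z ⟶ DD M ⊗ L => y ≫ nuL M L) =
      homEquivL Z M L ∘ (tensorLeftHomEquiv Z (DD M) M L).symm := by
    funext y
    apply (homEquivL Z M L).symm.injective
    rw [Function.comp_apply, Equiv.symm_apply_apply, homEquivL_symm_comp]
    dsimp only [nuL]
    rw [Equiv.symm_apply_apply, ← tensorLeftHomEquiv_symm_naturality, Category.comp_id]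
  refine this ▸ ?_
  exact (homEquivL Z M L).bijective.comp (tensorLeftHomEquiv Z (DD M) M L).symm.bijective

end Groth.Agent.Lib.Seat63.DTenDualL
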