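import Mathlib

/-!
# Weakly exact functors on a pretriangulated category and a five lemma (helper63)

A functor `F : C ⥤ E` from a pretriangulated category to a preadditive category is *weakly exact*
(`WE F`) when for every distinguished triangle `T` and every test object `Z`, the sequence
`Hom(Z, F T₁) → Hom(Z, F T₂) → Hom(Z, F T₃)` is exact in the middle.  No compatibility with the
shift is asked.  A natural transformation between two such functors which is an isomorphism at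
`T₁`, `T₃`, `T₁⟦1⟧`, `T₃⟦-1⟧` is an isomorphism at `T₂` (`isIso_app_obj₂`).
-/

set_option autoImplicit false
universe v₁ v₂ u₁ u₂
open CategoryTheory CategoryTheory.Limits Pretriangulated

namespace Groth.Agent.Lib.Seat63.WeakExact

variable {C : Type u₁} [Category.{v₁} C] [HasZeroObject C] [HasShift C ℤ] [Preadditive C]
  [∀ n : ℤ, (shiftFunctor C n).Additive] [Pretriangulated C]
variable {E : Type u₂} [Category.{v₂} E] [Preadditive E]

/-- covariant weak exactness: `Hom(Z, F -)` is exact at the middle term of every distinguished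
triangle -/
def WE (F : C ⥤ E) : Prop :=
  ∀ T ∈ distTriang C, ∀ (Z : E) (φ : Z ⟶ F.obj T.obj₂), φ ≫ F.map T.mor₂ = 0 →
    ∃ ψ : Z ⟶ F.obj T.obj₁, ψ ≫ F.map T.mor₁ = φ

/-- it suffices to check exactness at the third vertex of every distinguished triangle -/
lemma WE.of_obj₃ (F : C ⥤ E)
    (h : ∀ T ∈ distTriang C, ∀ (Z : E) (φ : Z ⟶ F.obj T.obj₃), φ ≫ F.map T.mor₃ = 0 →
      ∃ ψ : Z ⟶ F.obj T.obj₂, ψ ≫ F.map T.mor₂ = φ) : WE F := by
  intro T hT Z φ hφ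
  have hT' := inv_rot_of_distTriang T hT
  obtain ⟨ψ, hψ⟩ := h T.invRotate hT' Z φ (by
    change φ ≫ F.map (T.mor₂ ≫ (shiftEquiv C (1 : ℤ)).counitIso.inv.app T.obj₃) = 0
    rw [Functor.map_comp, ← Category.assoc, hφ, zero_comp])
  exact ⟨ψ, hψ⟩

/-- exactness at the third vertex is invariant under isomorphisms of triangles -/
lemma exact₃_of_iso {T T' : Triangle C} (e : T ≅ T') (F : C ⥤ E)
    (h : ∀ (Z : E) (φ : Z ⟶ F.obj T'.obj₃), φ ≫ F.map T'.mor₃ = 0 →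
      ∃ ψ : Z ⟶ F.obj T'.obj₂, ψ ≫ F.map T'.mor₂ = φ)
    (Z : E) (φ : Z ⟶ F.obj T.obj₃) (hφ : φ ≫ F.map T.mor₃ = 0) :
    ∃ ψ : Z ⟶ F.obj T.obj₂, ψ ≫ F.map T.mor₂ = φ := by
  obtain ⟨ψ', hψ'⟩ := h Z (φ ≫ F.map e.hom.hom₃) (by
    rw [Category.assoc, ← Functor.map_comp, ← e.hom.comm₃, Functor.map_comp, ← Category.assoc, hφ,
      zero_comp])
  refine ⟨ψ' ≫ F.map e.inv.hom₂, ?_⟩
  rw [Category.assoc, ← Functor.map_comp, ← e.inv.comm₂, Functor.map_comp, ← Category.assoc, hψ',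
    Category.assoc, ← Functor.map_comp]
  have : e.hom.hom₃ ≫ e.inv.hom₃ = 𝟙 _ := by
    rw [← TriangleMorphism.comp_hom₃]
    change (e.hom ≫ e.inv).hom₃ = _
    rw [e.hom_inv_id]
    rfl
  rw [this, CategoryTheory.Functor.map_id, Category.comp_id]

lemma WE.of_iso {F F' : C ⥤ E} (e : F ≅ F') (h : WE F) : WE F' := by
  intro T hT Z φ hφ
  obtain ⟨ψ, hψ⟩ := h T hT Z (φ ≫ e.inv.app _) (by
    rw [Category.assoc, ← e.inv.naturality, ← Category.assoc, hφ, zero_comp])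
  refine ⟨ψ ≫ e.hom.app _, ?_⟩
  rw [Category.assoc, ← e.hom.naturality, ← Category.assoc, hψ, Category.assoc,
    Iso.inv_hom_id_app, Category.comp_id]

/-- weak exactness is preserved by post-composition with a right adjoint -/
lemma WE.comp_rightAdjoint {E' : Type*} [Category E'] [Preadditive E'] {F : C ⥤ E} (h : WE F)
    {L : E' ⥤ E} {R : E ⥤ E'} (adj : L ⊣ R) [L.PreservesZeroMorphisms] : WE (F ⋙ R) := by
  intro T hT Z φ hφ
  obtain ⟨ψ, hψ⟩ := h T hT (L.obj Z) ((adj.homEquiv _ _).symm φ) (by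
    rw [← Adjunction.homEquiv_naturality_right_symm]
    dsimp at hφ
    rw [hφ]
    rw [Adjunction.homEquiv_counit]
    simp)
  refine ⟨adj.homEquiv _ _ ψ, ?_⟩
  dsimp
  rw [← Adjunction.homEquiv_naturality_right, hψ, Equiv.apply_symm_apply]

variable {F G : C ⥤ E} [F.PreservesZeroMorphisms] [G.PreservesZeroMorphisms]

/-- the five lemma for a natural transformation between weakly exact functors -/
theorem isIso_app_obj₂ (hF : WE F) (hG : WE G) (τ : F ⟶ G) (T : Triangle C)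
    (hT : T ∈ distTriang C) (h₁ : IsIso (τ.app T.obj₁)) (h₃ : IsIso (τ.app T.obj₃))
    (h₁' : IsIso (τ.app (T.obj₁⟦(1 : ℤ)⟧))) (h₃' : IsIso (τ.app (T.obj₃⟦(-1 : ℤ)⟧))) :
    IsIso (τ.app T.obj₂) := by
  have hTr := rot_of_distTriang T hT
  have hTi := inv_rot_of_distTriang T hT
  -- kernel is trivial
  have hker : ∀ (Z : E) (x : Z ⟶ F.obj T.obj₂), x ≫ τ.app T.obj₂ = 0 → x = 0 := by
    intro Z x hx
    have hx2 : x ≫ F.map T.mor₂ = 0 := by
      rw [← cancel_mono (τ.app T.obj₃), Category.assoc, τ.naturality, ← Category.assoc, hx,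
        zero_comp, zero_comp]
    obtain ⟨y, hy⟩ := hF T hT Z x hx2
    have hy2 : (y ≫ τ.app T.obj₁) ≫ G.map T.mor₁ = 0 := by
      rw [Category.assoc, ← τ.naturality, ← Category.assoc, hy, hx]
    let i₃ : G.obj (T.obj₃⟦(-1 : ℤ)⟧) ⟶ F.obj (T.obj₃⟦(-1 : ℤ)⟧) := inv (τ.app (T.obj₃⟦(-1 : ℤ)⟧))
    have hi₃ : i₃ ≫ τ.app (T.obj₃⟦(-1 : ℤ)⟧) = 𝟙 _ := IsIso.inv_hom_id _
    let m₁ : T.obj₃⟦(-1 : ℤ)⟧ ⟶ T.obj₁ := T.invRotate.mor₁
    have hm₁ : m₁ ≫ T.mor₁ = 0 := comp_distTriang_mor_zero₁₂ _ hTi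
    obtain ⟨z, hz'⟩ : ∃ z : Z ⟶ G.obj (T.obj₃⟦(-1 : ℤ)⟧), z ≫ G.map m₁ = y ≫ τ.app T.obj₁ :=
      hG T.invRotate hTi Z (y ≫ τ.app T.obj₁) hy2
    have hz2 : (z ≫ i₃) ≫ F.map m₁ = y := by
      rw [← cancel_mono (τ.app T.obj₁), Category.assoc, Category.assoc, τ.naturality,
        reassoc_of% hi₃]
      exact hz'
    rw [← hy, ← hz2, Category.assoc, ← Functor.map_comp, hm₁, Functor.map_zero, comp_zero]
  apply isIso_of_yoneda_map_bijective
  intro Z
  constructor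
  · intro x y hxy
    dsimp at hxy
    have := hker Z (x - y) (by rw [Preadditive.sub_comp, hxy, sub_self])
    exact sub_eq_zero.1 this
  · intro y
    dsimp
    let x₄ : Z ⟶ F.obj T.obj₃ := y ≫ G.map T.mor₂ ≫ inv (τ.app T.obj₃)
    have hx₄ : x₄ ≫ τ.app T.obj₃ = y ≫ G.map T.mor₂ := by
      simp [x₄]
    have hx₄' : x₄ ≫ F.map T.mor₃ = 0 := by
      rw [← cancel_mono (τ.app (T.obj₁⟦(1 : ℤ)⟧)), Category.assoc, τ.naturality,
        ← Category.assoc, hx₄, Category.assoc, ← Functor.map_comp,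
        comp_distTriang_mor_zero₂₃ _ hT, Functor.map_zero, comp_zero, zero_comp]
    obtain ⟨x₃, hx₃⟩ : ∃ x₃ : Z ⟶ F.obj T.obj₂, x₃ ≫ F.map T.mor₂ = x₄ :=
      hF T.rotate hTr Z x₄ hx₄'
    have h2 : (y - x₃ ≫ τ.app T.obj₂) ≫ G.map T.mor₂ = 0 := by
      rw [Preadditive.sub_comp, Category.assoc, ← τ.naturality, ← Category.assoc, hx₃, hx₄,
        sub_self]
    obtain ⟨y₂, hy₂⟩ := hG T hT Z _ h2
    refine ⟨x₃ + (y₂ ≫ inv (τ.app T.obj₁)) ≫ F.map T.mor₁, ?_⟩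
    rw [Preadditive.add_comp, Category.assoc, τ.naturality, Category.assoc,
      IsIso.inv_hom_id_assoc, hy₂]
    abel

end Groth.Agent.Lib.Seat63.WeakExact
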