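import Mathlib
import Groth.Agent.Lib.Seat63WeakExact
import Groth.Agent.Lib.Helper1DT3
import Groth.Prelude.Def_DTen3
set_option backward.isDefEq.respectTransparency.types false

/-!
# The derived tensor product `- ⊗^L X` is weakly exact (helper63)

For every `X ∈ D(A)` the functor `K ↦ K ⊗^L X` sends distinguished triangles to sequences which are
exact after applying `Hom(Z, -)` (`WE`), proved from the degreewise split short exact sequence of a
mapping cone tensored with a K-flat representative of `X`.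
-/

set_option autoImplicit false
set_option maxHeartbeats 400000
universe u
open CategoryTheory CategoryTheory.Limits MonoidalCategory HomologicalComplex Pretriangulated
attribute [local instance] HasDerivedCategory.standard

namespace Groth.Agent.Lib.Seat63.DTenExact

open DerivedCategory Groth.Agent.Lib.Helper1.KF Groth.Agent.Lib.Helper1.DT DTen
  Groth.Agent.Lib.Seat63.WeakExact

variable {A : Type u} [CommRing A] [HasLTen A]

lemma isIso_εRight_app (X₀ : Cx A) (hX₀ : KFlat X₀) (Y : Cx A) :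
    IsIso ((εRight A X₀).app Y) :=
  isIso_ε_of_kflat Y X₀ (Or.inr hX₀)

/-- exactness of `- ⊗^L Q(X₀)` on a short complex of complexes which stays short exact after
tensoring with `X₀` -/
lemma exact_of_ses (X₀ : Cx A) (hX₀ : KFlat X₀) (S : ShortComplex (Cx A))
    (hS : (S.map (tensorRight X₀)).ShortExact) (Z : Dual.D A)
    (φ : Z ⟶ ((LTen A).flip.obj (Q.obj X₀)).obj (Q.obj S.X₂))
    (hφ : φ ≫ ((LTen A).flip.obj (Q.obj X₀)).map (Q.map S.g) = 0) :
    ∃ ψ : Z ⟶ ((LTen A).flip.obj (Q.obj X₀)).obj (Q.obj S.X₁),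
      ψ ≫ ((LTen A).flip.obj (Q.obj X₀)).map (Q.map S.f) = φ := by
  have hiso : ∀ Y : Cx A, IsIso ((εRight A X₀).app Y) := isIso_εRight_app X₀ hX₀
  have hTri := DerivedCategory.triangleOfSES_distinguished hS
  have hnat₃ : ((LTen A).flip.obj (Q.obj X₀)).map (Q.map S.g) ≫ (εRight A X₀).app S.X₃ =
      (εRight A X₀).app S.X₂ ≫ Q.map (S.g ▷ X₀) := (εRight A X₀).naturality S.g
  have hnat₂ : ((LTen A).flip.obj (Q.obj X₀)).map (Q.map S.f) ≫ (εRight A X₀).app S.X₂ =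
      (εRight A X₀).app S.X₁ ≫ Q.map (S.f ▷ X₀) := (εRight A X₀).naturality S.f
  obtain ⟨g, hg⟩ : ∃ g : Z ⟶ Q.obj (S.X₁ ⊗ X₀), φ ≫ (εRight A X₀).app S.X₂ = g ≫ Q.map (S.f ▷ X₀) :=
    Triangle.coyoneda_exact₂ _ hTri (φ ≫ (εRight A X₀).app S.X₂) (by
      change (φ ≫ (εRight A X₀).app S.X₂) ≫ Q.map (S.g ▷ X₀) = 0
      rw [Category.assoc, ← hnat₃, ← Category.assoc, hφ, zero_comp])
  have h1 := hiso S.X₁
  have h2 := hiso S.X₂
  refine ⟨g ≫ inv ((εRight A X₀).app S.X₁), ?_⟩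
  rw [← cancel_mono ((εRight A X₀).app S.X₂), Category.assoc, Category.assoc, hnat₂,
    IsIso.inv_hom_id_assoc, hg]

/-- `- ⊗^L Q(X₀)` is weakly exact for K-flat `X₀` -/
theorem we_flip_obj_Q (X₀ : Cx A) (hX₀ : KFlat X₀) : WE ((LTen A).flip.obj (Q.obj X₀)) := by
  apply WE.of_obj₃
  intro T hT
  rw [DerivedCategory.mem_distTriang_iff] at hT
  obtain ⟨K, L, f, ⟨e⟩⟩ := hT
  apply exact₃_of_iso e
  intro Z φ hφ
  obtain ⟨m₃, hm₃⟩ : ∃ m₃ : CochainComplex.mappingCone f ⟶ K⟦(1 : ℤ)⟧,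
    m₃ = (CochainComplex.mappingCone.triangle f).mor₃ := ⟨_, rfl⟩
  suffices H : ∀ (φ : Z ⟶ ((LTen A).flip.obj (Q.obj X₀)).obj (Q.obj (CochainComplex.mappingCone f))),
      φ ≫ ((LTen A).flip.obj (Q.obj X₀)).map
        (Q.map m₃ ≫ (Q.commShiftIso (1 : ℤ)).hom.app K) = 0 →
      ∃ ψ : Z ⟶ ((LTen A).flip.obj (Q.obj X₀)).obj (Q.obj L),
        ψ ≫ ((LTen A).flip.obj (Q.obj X₀)).map (Q.map (CochainComplex.mappingCone.inr f)) = φ from
    H φ (by rw [hm₃]; exact hφ)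
  intro φ hφ
  have hiso : IsIso (((LTen A).flip.obj (Q.obj X₀)).map ((Q.commShiftIso (1 : ℤ)).hom.app K)) :=
    Functor.map_isIso _ _
  have hφ' : φ ≫ ((LTen A).flip.obj (Q.obj X₀)).map (Q.map m₃) = 0 := by
    rw [← cancel_mono (((LTen A).flip.obj (Q.obj X₀)).map ((Q.commShiftIso (1 : ℤ)).hom.app K)),
      Category.assoc, ← Functor.map_comp, zero_comp]
    exact hφ
  subst hm₃
  exact exact_of_ses X₀ hX₀ (CochainComplex.mappingCone.triangleRotateShortComplex f)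
    (cone_tensorRight_shortExact f X₀) Z φ hφ'

omit [HasLTen A] in
lemma exists_kflat_iso (X : Dual.D A) : ∃ X₀ : Cx A, KFlat X₀ ∧ Nonempty (Q.obj X₀ ≅ X) := by
  obtain ⟨P, hP, -, ⟨e⟩⟩ := exists_kproj_iso X
  exact ⟨P, kflat_of_isKProjective P, ⟨e⟩⟩

/-- `- ⊗^L X` is weakly exact -/
theorem we_flip_obj (X : Dual.D A) : WE ((LTen A).flip.obj X) := by
  obtain ⟨X₀, hX₀, ⟨e⟩⟩ := exists_kflat_iso X
  exact WE.of_iso ((LTen A).flip.mapIso e) (we_flip_obj_Q X₀ hX₀)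

end Groth.Agent.Lib.Seat63.DTenExact
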