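import Mathlib
import Groth.Agent.Lib.Seat63WeakExact
import Groth.Agent.Lib.Helper1Devissage
import Groth.Prelude.Def_DRing2

/-!
# Dévissage of perfect complexes for natural transformations between weakly exact functors (helper63)

Let `F G : D(A) ⥤ E` be weakly exact functors (`WE`, see `Seat63WeakExact`) preserving zero
morphisms and `τ : F ⟶ G` a natural transformation.  If `τ` is an isomorphism at every shift
`A[0]⟦n⟧` of the unit object, then it is an isomorphism at every perfect object of `D(A)`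
(`isIso_app_of_isPerfect`).  No compatibility of `F`, `G`, `τ` with the shift is needed.
-/

set_option autoImplicit false
universe u
open CategoryTheory CategoryTheory.Limits Pretriangulated
attribute [local instance] HasDerivedCategory.standard

namespace Groth.Agent.Lib.Seat63.PerfDevissage

open DerivedCategory Groth.Agent.Lib.Seat63.WeakExact

variable {A : Type u} [CommRing A]
variable {E : Type*} [Category E] [Preadditive E]
variable {F G : DerivedCategory (ModuleCat.{u} A) ⥤ E}

/-- `τ` is an isomorphism at all shifts of `K` -/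
def PP (τ : F ⟶ G) : ObjectProperty (DerivedCategory (ModuleCat.{u} A)) :=
  fun K => ∀ n : ℤ, IsIso (τ.app (K⟦n⟧))

variable {τ : F ⟶ G}

lemma PP.of_iso {K K' : DerivedCategory (ModuleCat.{u} A)} (e : K ≅ K') (h : PP τ K) :
    PP τ K' := fun n =>
  (NatTrans.isIso_app_iff_of_iso τ ((shiftFunctor _ n).mapIso e)).1 (h n)

instance : (PP τ).IsClosedUnderIsomorphisms := ⟨fun e h => PP.of_iso e h⟩

lemma PP.shift {K : DerivedCategory (ModuleCat.{u} A)} (h : PP τ K) (m : ℤ) : PP τ (K⟦m⟧) :=
  fun n => (NatTrans.isIso_app_iff_of_iso τ ((shiftFunctorAdd' _ m n (m + n) rfl).app K)).1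
    (h (m + n))

lemma PP.of_retract {K K' : DerivedCategory (ModuleCat.{u} A)} (i : K ⟶ K') (p : K' ⟶ K)
    (hip : i ≫ p = 𝟙 K) (h : PP τ K') : PP τ K := fun n => by
  have := h n
  have hip' : i⟦n⟧' ≫ p⟦n⟧' = 𝟙 _ := by
    rw [← Functor.map_comp, hip, CategoryTheory.Functor.map_id]
  refine ⟨⟨G.map (i⟦n⟧') ≫ inv (τ.app (K'⟦n⟧)) ≫ F.map (p⟦n⟧'), ?_, ?_⟩⟩
  · rw [← Category.assoc, ← τ.naturality, Category.assoc, IsIso.hom_inv_id_assoc,
      ← Functor.map_comp, hip', CategoryTheory.Functor.map_id]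
  · rw [Category.assoc, Category.assoc, τ.naturality, IsIso.inv_hom_id_assoc, ← Functor.map_comp,
      hip', CategoryTheory.Functor.map_id]

variable [F.PreservesZeroMorphisms] [G.PreservesZeroMorphisms]

lemma PP.of_isZero {K : DerivedCategory (ModuleCat.{u} A)} (hK : IsZero K) : PP τ K := fun n => by
  have h0 : IsZero (K⟦n⟧) := (shiftFunctor _ n).map_isZero hK
  have h1 : IsZero (F.obj (K⟦n⟧)) := F.map_isZero h0
  have h2 : IsZero (G.obj (K⟦n⟧)) := G.map_isZero h0
  exact ⟨⟨0, h1.eq_of_src _ _, h2.eq_of_src _ _⟩⟩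

lemma PP.ext (hF : WE F) (hG : WE G) (T : Triangle (DerivedCategory (ModuleCat.{u} A)))
    (hT : T ∈ distTriang _) (h₁ : PP τ T.obj₁) (h₃ : PP τ T.obj₃) : PP τ T.obj₂ := fun n => by
  have hTn := Triangle.shift_distinguished T hT n
  refine isIso_app_obj₂ hF hG τ _ hTn (h₁ n) (h₃ n) ?_ ?_
  · exact (NatTrans.isIso_app_iff_of_iso τ ((shiftFunctorAdd' _ n 1 (n + 1) rfl).app T.obj₁)).1
      (h₁ (n + 1))
  · exact (NatTrans.isIso_app_iff_of_iso τ
      ((shiftFunctorAdd' _ n (-1) (n + -1) rfl).app T.obj₃)).1 (h₃ (n + -1))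

lemma PP.biprod (hF : WE F) (hG : WE G) {X Y : DerivedCategory (ModuleCat.{u} A)} (hX : PP τ X)
    (hY : PP τ Y) : PP τ (X ⊞ Y) :=
  PP.ext hF hG _ (binaryBiproductTriangle_distinguished X Y) hX hY

section singles

variable (hF : WE F) (hG : WE G)
  (h : ∀ n : ℤ, IsIso (τ.app (((singleFunctor (ModuleCat.{u} A) 0).obj (ModuleCat.of A A))⟦n⟧)))

include h in
lemma PP.single_unit (j : ℤ) :
    PP τ ((singleFunctor (ModuleCat.{u} A) j).obj (ModuleCat.of A A)) := by
  have h0 : PP τ ((singleFunctor (ModuleCat.{u} A) 0).obj (ModuleCat.of A A)) := h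
  exact PP.of_iso (((singleFunctors (ModuleCat.{u} A)).shiftIso (-j) j 0 (by omega)).app _)
    (h0.shift (-j))

include hF hG h in
lemma PP.single_free (j : ℤ) (m : ℕ) :
    PP τ ((singleFunctor (ModuleCat.{u} A) j).obj (ModuleCat.of A (Fin m → A))) := by
  induction m with
  | zero =>
    apply PP.of_isZero
    apply Functor.map_isZero
    exact ModuleCat.isZero_of_subsingleton _
  | succ m ih =>
    let e₁ : ModuleCat.of A (Fin (m + 1) → A) ≅ ModuleCat.of A (A × (Fin m → A)) :=
      (Fin.consLinearEquiv A (fun _ : Fin (m + 1) => A)).symm.toModuleIso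
    let e₂ : ModuleCat.of A (Fin (m + 1) → A) ≅
        (ModuleCat.of A A ⊞ ModuleCat.of A (Fin m → A) : ModuleCat.{u} A) :=
      e₁ ≪≫ (ModuleCat.biprodIsoProd (ModuleCat.of A A) (ModuleCat.of A (Fin m → A))).symm
    have hb := PP.biprod hF hG (PP.single_unit h j) ih
    have : PreservesBinaryBiproducts (singleFunctor (ModuleCat.{u} A) j) :=
      preservesBinaryBiproducts_of_preservesBiproducts _
    exact PP.of_iso (((singleFunctor (ModuleCat.{u} A) j).mapIso e₂ ≪≫
      (singleFunctor (ModuleCat.{u} A) j).mapBiprod _ _).symm) hb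

include hF hG h in
lemma PP.single_proj (j : ℤ) (N : ModuleCat.{u} A) [Module.Finite A N] [Module.Projective A N] :
    PP τ ((singleFunctor (ModuleCat.{u} A) j).obj N) := by
  obtain ⟨m, f, hf⟩ := Module.Finite.exists_fin' A N
  obtain ⟨s, hs⟩ := Module.projective_lifting_property f LinearMap.id hf
  refine PP.of_retract ((singleFunctor (ModuleCat.{u} A) j).map (ModuleCat.ofHom s))
    ((singleFunctor (ModuleCat.{u} A) j).map (ModuleCat.ofHom f)) ?_ (PP.single_free hF hG h j m)
  rw [← Functor.map_comp, ← ModuleCat.ofHom_comp, hs]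
  exact (singleFunctor (ModuleCat.{u} A) j).map_id N

end singles

/-- dévissage: a natural transformation between weakly exact functors which is an isomorphism at
all shifts of the unit is an isomorphism at every perfect complex -/
theorem isIso_app_of_isPerfect (hF : WE F) (hG : WE G) (τ : F ⟶ G)
    (h : ∀ n : ℤ, IsIso (τ.app (((singleFunctor (ModuleCat.{u} A) 0).obj (ModuleCat.of A A))⟦n⟧)))
    (K : Dual.D A) (hK : DRing.IsPerfect A K) : IsIso (τ.app K) := by
  obtain ⟨C, a, b, hv, htfp, ⟨e⟩⟩ := hK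
  have hQ : PP τ (Q.obj C) := by
    refine Groth.Agent.Lib.Helper1.Devissage.induction_terms' (PP τ)
      (fun K hK => PP.of_isZero hK) (fun T hT h₁ h₃ => PP.ext hF hG T hT h₁ h₃)
      (fun j X Y ⟨e⟩ hX => PP.of_iso ((singleFunctor (ModuleCat.{u} A) j).mapIso e) hX)
      C a b (fun i hi => hv i hi) (fun j _ _ => ?_)
    have := (htfp j).1
    have := (htfp j).2
    exact PP.single_proj hF hG h j (C.X j)
  have hK' : PP τ K := PP.of_iso e hQ
  exact (NatTrans.isIso_app_iff_of_iso τ ((shiftFunctorZero _ ℤ).app K)).1 (hK' 0)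

end Groth.Agent.Lib.Seat63.PerfDevissage
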