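import Mathlib
import Groth.Agent.Lib.Seat63DTenExact
import Groth.Agent.Lib.Seat63DTenUnitShift
import Groth.Agent.Lib.Seat63PerfDevissage
set_option backward.isDefEq.respectTransparency.types false

/-!
# `K ⊗^L RHom(M, L) ⟶ RHom(M, K ⊗^L L)` is an isomorphism for perfect `K` (helper63)
-/

set_option autoImplicit false
set_option maxHeartbeats 400000
universe u
open CategoryTheory CategoryTheory.Limits MonoidalCategory
attribute [local instance] HasDerivedCategory.standard

namespace Groth.Agent.Lib.Seat63.DTenPerf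

open DerivedCategory DTen Groth.Agent.Lib.Seat63.DTenBasic Groth.Agent.Lib.Seat63.WeakExact
  Groth.Agent.Lib.Seat63.DTenExact Groth.Agent.Lib.Seat63.DTenUnitShift
  Groth.Agent.Lib.Seat63.PerfDevissage

variable {A : Type u} [CommRing A] [HasLTen A] [HasLTen₃ A] [IsSymMonoidal A] [HasRHom A]

/-- the unit object as a single functor value -/
noncomputable def unitIsoSingle :
    DTen.unit A ≅ (singleFunctor (ModuleCat.{u} A) 0).obj (ModuleCat.of A A) := Iso.refl _

/-- `RHom(M, - ⊗^L L)` is weakly exact -/
lemma we_flip_obj_comp_RHomR (L M : Dual.D A) : WE ((LTen A).flip.obj L ⋙ RHomR A M) :=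
  (we_flip_obj L).comp_rightAdjoint (rhomAdj A M)

theorem isIso_evalTen_of_isPerfect_left (K L M : Dual.D A) (hK : DRing.IsPerfect A K) :
    IsIso (evalTen K L M) := by
  have := isIso_app_of_isPerfect (we_flip_obj ((RHomR A M).obj L)) (we_flip_obj_comp_RHomR L M)
    (evalTenNat L M) (fun n =>
      (NatTrans.isIso_app_iff_of_iso (evalTenNat L M)
        ((shiftFunctor (Dual.D A) n).mapIso unitIsoSingle)).1
        (isIso_evalTen_unit_shift n L M)) K hK
  exact this

end Groth.Agent.Lib.Seat63.DTenPerf
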