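import Mathlib
import Groth.Agent.Lib.Seat63DTenLeft
import Groth.Agent.Lib.Seat63DTenPerf
set_option backward.isDefEq.respectTransparency.types false

/-!
# `RHom(M, L) ⊗^L K ⟶ RHom(M, L ⊗^L K)` is an isomorphism for perfect `K` (helper63)
-/

set_option autoImplicit false
set_option maxHeartbeats 400000
universe u
open CategoryTheory CategoryTheory.Limits MonoidalCategory
attribute [local instance] HasDerivedCategory.standard

namespace Groth.Agent.Lib.Seat63.DTenLeftPerf

open DerivedCategory DTen Groth.Agent.Lib.Seat63.DTenBasic Groth.Agent.Lib.Seat63.WeakExact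
  Groth.Agent.Lib.Seat63.DTenExact Groth.Agent.Lib.Seat63.DTenUnitShift
  Groth.Agent.Lib.Seat63.PerfDevissage Groth.Agent.Lib.Seat63.DTenMonoidal
  Groth.Agent.Lib.Seat63.DTenLeft Groth.Agent.Lib.Seat63.DTenPerf
  Groth.Agent.Lib.Helper1.KF

variable {A : Type u} [CommRing A] [HasLTen A] [HasLTen₃ A] [IsSymMonoidal A]

attribute [local instance] monoidalD

/-- `- ⊗^L U ≅ U ⊗^L -` -/
noncomputable def flipIso (U : Dual.D A) : (LTen A).flip.obj U ≅ (LTen A).obj U :=
  NatIso.ofComponents (fun Z => (br Z U).symm) (fun {Z Z'} f => by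
    change f ▷ U ≫ (br Z' U).inv = (br Z U).inv ≫ U ◁ f
    rw [Iso.comp_inv_eq, Category.assoc, br_naturality_left, Iso.inv_hom_id_assoc])

/-- `X ⊗^L -` is weakly exact -/
theorem we_obj (X : Dual.D A) : WE ((LTen A).obj X) :=
  WE.of_iso (flipIso X) (we_flip_obj X)

instance (n : ℤ) : ((LTen A).flip.obj (Q.obj ((𝟙_ (Cx A))⟦n⟧))).IsEquivalence :=
  Functor.isEquivalence_of_iso (flipIso _).symm

variable [HasRHom A]

instance preservesZero_obj (X : Dual.D A) : ((LTen A).obj X).PreservesZeroMorphisms :=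
  Functor.preservesZeroMorphisms_of_iso (flipIso X)

theorem isIso_evalTenL_unit_shift (n : ℤ) (L M : Dual.D A) :
    IsIso (evalTenL ((DTen.unit A)⟦n⟧) L M) := by
  have h : IsIso (evalTenL (Q.obj ((𝟙_ (Cx A))⟦n⟧)) L M) := isIso_evalTenL_of_isEquivalence _ L M
  have e : Q.obj ((𝟙_ (Cx A))⟦n⟧) ≅ (DTen.unit A)⟦n⟧ := (Q.commShiftIso n).app (𝟙_ (Cx A))
  exact (NatTrans.isIso_app_iff_of_iso (evalTenLNat L M) e).1 h

lemma we_obj_comp_RHomR (L M : Dual.D A) : WE ((LTen A).obj L ⋙ RHomR A M) :=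
  (we_obj L).comp_rightAdjoint (rhomAdj A M)

theorem isIso_evalTenL_of_isPerfect (K L M : Dual.D A) (hK : DRing.IsPerfect A K) :
    IsIso (evalTenL K L M) := by
  have := isIso_app_of_isPerfect (we_obj ((RHomR A M).obj L)) (we_obj_comp_RHomR L M)
    (evalTenLNat L M) (fun n =>
      (NatTrans.isIso_app_iff_of_iso (evalTenLNat L M)
        ((shiftFunctor (Dual.D A) n).mapIso unitIsoSingle)).1
        (isIso_evalTenL_unit_shift n L M)) K hK
  exact this

end Groth.Agent.Lib.Seat63.DTenLeftPerf
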