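import Mathlib
import Groth.Agent.Lib.Seat63DTenDualL
import Groth.Agent.Lib.Seat63DTenLeftPerf
set_option backward.isDefEq.respectTransparency.types false

/-!
# `RHom(L, M) ⊗^L K ⟶ RHom(RHom(K, L), M)` is an isomorphism for perfect `K` (helper63)
-/

set_option autoImplicit false
set_option maxHeartbeats 400000
universe u
open CategoryTheory CategoryTheory.Limits MonoidalCategory
attribute [local instance] HasDerivedCategory.standard

namespace Groth.Agent.Lib.Seat63.DTenEvalHom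

open DTen Groth.Agent.Lib.Seat63.DTenBasic Groth.Agent.Lib.Seat63.DTenMonoidal
  Groth.Agent.Lib.Seat63.DTenDual Groth.Agent.Lib.Seat63.DTenLeft
  Groth.Agent.Lib.Seat63.DTenDualL

section coh

variable {C : Type*} [Category C] [MonoidalCategory C]

/-- a coherence identity -/
lemma key_coh {Z Y K D L M : C} (x : Z ⟶ Y ⊗ K) (e : K ⊗ D ⟶ 𝟙_ C) (v : Y ⊗ L ⟶ M) :
    x ▷ (D ⊗ L) ≫ (α_ Y K (D ⊗ L)).hom ≫ Y ◁ ((α_ K D L).inv ≫ e ▷ L ≫ (λ_ L).hom) ≫ v =
      (α_ Z D L).inv ≫ (x ▷ D ≫ (α_ Y K D).hom ≫ Y ◁ e ≫ (ρ_ Y).hom) ▷ L ≫ v := by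
  monoidal

end coh

variable {A : Type u} [CommRing A] [HasLTen A] [HasLTen₃ A] [IsSymMonoidal A] [HasRHom A]

attribute [local instance] monoidalD

lemma evalHomAux_eq (K L M : Dual.D A) :
    evalHomAux K L M = (α_ ((RHomR A L).obj M) K ((RHomR A K).obj L)).hom ≫
      (RHomR A L).obj M ◁ evL K L ≫ evM L M := rfl

lemma homEquivM_symm_evalHom (K L M : Dual.D A) :
    (homEquivM ((RHomR A L).obj M ⊗ K) ((RHomR A K).obj L) M).symm (evalHom K L M) =
      evalHomAux K L M := by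
  rw [homEquivM_symm_apply]
  exact evalHom_fac K L M

variable (K : Dual.D A) [hτ : IsIso (evalTenL K (𝟙_ (Dual.D A)) K)]

attribute [local instance] exactPairingL

theorem isIso_evalHom (L M : Dual.D A) : IsIso (evalHom K L M) := by
  apply isIso_of_yoneda_map_bijective
  intro Z
  let b1 : (Z ⟶ (RHomR A L).obj M ⊗ K) ≃ (Z ⊗ DD K ⟶ (RHomR A L).obj M) :=
    (tensorRightHomEquiv Z (DD K) K ((RHomR A L).obj M)).symm
  let b2 : (Z ⊗ DD K ⟶ (RHomR A L).obj M) ≃ ((Z ⊗ DD K) ⊗ L ⟶ M) :=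
    (homEquivM (Z ⊗ DD K) L M).symm
  let κ : Z ⊗ (RHomR A K).obj L ≅ (Z ⊗ DD K) ⊗ L :=
    whiskerLeftIso Z (asIso (nuL K L)).symm ≪≫ (α_ Z (DD K) L).symm
  let b3 : ((Z ⊗ DD K) ⊗ L ⟶ M) ≃ (Z ⊗ (RHomR A K).obj L ⟶ M) := κ.symm.homFromEquiv
  let b4 : (Z ⊗ (RHomR A K).obj L ⟶ M) ≃ (Z ⟶ (RHomR A ((RHomR A K).obj L)).obj M) :=
    homEquivM Z _ M
  have key : ∀ x : Z ⟶ (RHomR A L).obj M ⊗ K, x ≫ evalHom K L M = b4 (b3 (b2 (b1 x))) := by
    intro x
    apply b4.symm.injective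
    rw [Equiv.symm_apply_apply]
    change (homEquivM Z _ M).symm (x ≫ evalHom K L M) = κ.hom ≫ (homEquivM (Z ⊗ DD K) L M).symm (b1 x)
    rw [homEquivM_symm_comp, homEquivM_symm_evalHom, evalHomAux_eq, homEquivM_symm_apply]
    rw [← cancel_epi (Z ◁ nuL K L)]
    have hR : Z ◁ nuL K L ≫ κ.hom = (α_ Z (DD K) L).inv := by
      change Z ◁ nuL K L ≫ (Z ◁ inv (nuL K L) ≫ (α_ Z (DD K) L).inv) = _
      rw [← Category.assoc, ← whiskerLeft_comp, IsIso.hom_inv_id, whiskerLeft_id, Category.id_comp]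
    have hb1 : b1 x = x ▷ DD K ≫ (α_ ((RHomR A L).obj M) K (DD K)).hom ≫
        (RHomR A L).obj M ◁ evL K (𝟙_ (Dual.D A)) ≫ (ρ_ ((RHomR A L).obj M)).hom := rfl
    rw [reassoc_of% hR, hb1, ← key_coh, whisker_exchange_assoc,
      associator_naturality_right_assoc, ← whiskerLeft_comp_assoc, whiskerLeft_nuL_evL]
  have : (fun x : Z ⟶ (RHomR A L).obj M ⊗ K => x ≫ evalHom K L M) = b4 ∘ b3 ∘ b2 ∘ b1 := by
    funext x
    exact key x
  refine this ▸ ?_
  exact b4.bijective.comp (b3.bijective.comp (b2.bijective.comp b1.bijective))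

omit hτ in
/-- `RHom(L, M) ⊗^L K ⟶ RHom(RHom(K, L), M)` is an isomorphism for perfect `K` -/
theorem isIso_evalHom_of_isPerfect (L M : Dual.D A) (hK : DRing.IsPerfect A K) :
    IsIso (evalHom K L M) := by
  have h : IsIso (evalTenL K (DTen.unit A) K) :=
    Groth.Agent.Lib.Seat63.DTenLeftPerf.isIso_evalTenL_of_isPerfect K (DTen.unit A) K hK
  exact @isIso_evalHom A _ _ _ _ _ K h L M

end Groth.Agent.Lib.Seat63.DTenEvalHom
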