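import Mathlib
import Groth.Agent.Lib.Seat63DTenPerf
import Groth.Agent.Lib.Seat63DTenDual
set_option backward.isDefEq.respectTransparency.types false

/-!
# `K ⊗^L RHom(M, L) ⟶ RHom(M, K ⊗^L L)` is an isomorphism for perfect `M` (helper63)
-/

set_option autoImplicit false
universe u
open CategoryTheory CategoryTheory.Limits MonoidalCategory
attribute [local instance] HasDerivedCategory.standard

namespace Groth.Agent.Lib.Seat63.DTenPerf2

open DTen

variable {A : Type u} [CommRing A] [HasLTen A] [HasLTen₃ A] [IsSymMonoidal A] [HasRHom A]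

/-- a perfect object `M` is dualizable: `evalTen K L M` is an isomorphism for all `K`, `L` -/
theorem isIso_evalTen_of_isPerfect_hom_source (K L M : Dual.D A) (hM : DRing.IsPerfect A M) :
    IsIso (evalTen K L M) := by
  have h : IsIso (evalTen M (DTen.unit A) M) :=
    Groth.Agent.Lib.Seat63.DTenPerf.isIso_evalTen_of_isPerfect_left M (DTen.unit A) M hM
  exact @Groth.Agent.Lib.Seat63.DTenDual.isIso_evalTen A _ _ _ _ _ M h K L

end Groth.Agent.Lib.Seat63.DTenPerf2
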