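import Mathlib
import Groth.Agent.Lib.Seat63DTenBounds
import Groth.Agent.Lib.Seat63DTenEvalHom
import Groth.Agent.Lib.Helper1PC
set_option backward.isDefEq.respectTransparency.types false

/-!
# `RHom(L, M) ⊗^L K ⟶ RHom(RHom(K, L), M)` for pseudo-coherent `K` (helper63)

Way-out argument: a pseudo-coherent `K` is approximated by perfect objects `P ⟶ K` with cone in
`D^{≤ m}`, `m → -∞`; both sides of `evalHom` are tested against `Hom(A[k], -)`, where the
approximation induces bijections as soon as `m` is small enough (`L` bounded below, `M` of finite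
injective dimension); the perfect case is `Seat63DTenEvalHom`.
-/

set_option autoImplicit false
set_option maxHeartbeats 400000
universe u
open CategoryTheory CategoryTheory.Limits MonoidalCategory
attribute [local instance] HasDerivedCategory.standard

namespace Groth.Agent.Lib.Seat63.DTenWayOut

open DerivedCategory DTen Pretriangulated Groth.Agent.Lib.Seat63.DTenBasic
  Groth.Agent.Lib.Seat63.DTenMonoidal Groth.Agent.Lib.Seat63.DTenDual
  Groth.Agent.Lib.Seat63.DTenLeft Groth.Agent.Lib.Seat63.DTenUnitShift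
  Groth.Agent.Lib.Seat63.DTest Groth.Agent.Lib.Seat63.DTenBounds
  Groth.Agent.Lib.Seat63.DTenEvalHom

section ShiftYoneda

variable {C : Type*} [Category C] [HasZeroObject C] [HasShift C ℤ] [Preadditive C]
  [∀ n : ℤ, (shiftFunctor C n).Additive] [Pretriangulated C]

/-- `Hom(Y[j], L) → Hom(X[j], L)` is injective when `Hom(Z[j], L) = 0` -/
lemma precomp_shift_injective {X Y Z : C} (f : X ⟶ Y) (g : Y ⟶ Z) (h : Z ⟶ X⟦(1 : ℤ)⟧)
    (hT : Triangle.mk f g h ∈ distTriang C) (j : ℤ) (L : C)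
    (hC : ∀ w : Z⟦j⟧ ⟶ L, w = 0) (z : Y⟦j⟧ ⟶ L) (hz : f⟦j⟧' ≫ z = 0) :
    z = 0 := by
  have hT' := Triangle.shift_distinguished _ hT j
  obtain ⟨g', hg⟩ : ∃ g' : Z⟦j⟧ ⟶ L, z = (j.negOnePow • g⟦j⟧') ≫ g' :=
    Triangle.yoneda_exact₂ _ hT' z (by
      change (j.negOnePow • f⟦j⟧') ≫ z = 0
      rw [Linear.units_smul_comp, hz, smul_zero])
  rw [hg, hC g', comp_zero]

/-- `Hom(Y[j], L) → Hom(X[j], L)` is surjective when `Hom(Z[-1][j], L) = 0` -/
lemma precomp_shift_surjective {X Y Z : C} (f : X ⟶ Y) (g : Y ⟶ Z) (h : Z ⟶ X⟦(1 : ℤ)⟧)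
    (hT : Triangle.mk f g h ∈ distTriang C) (j : ℤ) (L : C)
    (hC : ∀ w : (Z⟦(-1 : ℤ)⟧)⟦j⟧ ⟶ L, w = 0) (z : X⟦j⟧ ⟶ L) :
    ∃ z' : Y⟦j⟧ ⟶ L, z = f⟦j⟧' ≫ z' := by
  have hT' := Triangle.shift_distinguished _ (inv_rot_of_distTriang _ hT) j
  obtain ⟨g', hg⟩ : ∃ g' : Y⟦j⟧ ⟶ L, z = (j.negOnePow • f⟦j⟧') ≫ g' :=
    Triangle.yoneda_exact₂ _ hT' z (hC _)
  refine ⟨j.negOnePow • g', ?_⟩
  rw [hg, Linear.units_smul_comp, Linear.comp_units_smul]

end ShiftYoneda

variable {A : Type u} [CommRing A]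

section approx

open Groth.Agent.Lib.Helper1.PC Groth.Agent.S7017

/-- a pseudo-coherent object is approximated by perfect objects up to a cone in `D^{≤ m - 1}` -/
lemma exists_approx (K : Dual.D A) (hK : DRing.IsPseudoCoherent' A K) (m : ℤ) :
    ∃ (P C : Dual.D A) (α : P ⟶ K) (β : K ⟶ C) (γ : C ⟶ P⟦(1 : ℤ)⟧),
      Triangle.mk α β γ ∈ distTriang (Dual.D A) ∧ DRing.IsPerfect A P ∧ C.IsLE (m - 1) := by
  obtain ⟨E, b, hE, hff, ⟨e⟩⟩ := hK
  have hconn : Conn m (Q.map (sigmaGEι E m) ≫ e.hom) :=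
    (conn_sigmaGEι E m).comp (Conn.of_isIso m e.hom)
  obtain ⟨C, β, γ, hT⟩ := distinguished_cocone_triangle (Q.map (sigmaGEι E m) ≫ e.hom)
  refine ⟨Q.obj (sigmaGE E m), C, _, β, γ, hT, ?_, (conn_iff_of_distTriang _ hT m).1 hconn⟩
  refine ⟨sigmaGE E m, m, b, ?_, ?_, ⟨Iso.refl _⟩⟩
  · rintro i (hi | hi)
    · exact isZero_sigmaGE_X E m i hi
    · exact isZero_sigmaGE_X' E m i (hE i hi)
  · intro i
    have h := FF_sigmaGE E m i (hff i)
    exact ⟨h.1, FF_proj _ h⟩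

end approx

variable [HasLTen A] [HasLTen₃ A] [IsSymMonoidal A] [HasRHom A]

attribute [local instance] monoidalD

omit [HasRHom A] in
lemma br_naturality_right {M M' : Dual.D A} (g : M ⟶ M') (Z : Dual.D A) :
    g ▷ Z ≫ (br Z M').hom = (br Z M).hom ≫ Z ◁ g := by
  have h := br_naturality (𝟙 Z) g
  rw [MonoidalCategory.id_tensorHom, MonoidalCategory.tensorHom_id] at h
  exact h

/-- dinaturality of the left evaluation -/
lemma RHomMap_evL {P K : Dual.D A} (α : P ⟶ K) (L : Dual.D A) :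
    α ▷ (RHomR A K).obj L ≫ evL K L = P ◁ RHomMap α L ≫ evL P L := by
  dsimp only [evL]
  rw [← Category.assoc, br_naturality_right, Category.assoc, ← RHomMap_evM, ← Category.assoc,
    ← br_naturality_left, Category.assoc]

/-- naturality of `evalHom K L M` in `K` -/
lemma evalHom_naturality {P K : Dual.D A} (α : P ⟶ K) (L M : Dual.D A) :
    (RHomR A L).obj M ◁ α ≫ evalHom K L M =
      evalHom P L M ≫ RHomMap (RHomMap α L) M := by
  apply (homEquivM _ ((RHomR A K).obj L) M).symm.injective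
  rw [homEquivM_symm_comp, homEquivM_symm_evalHom, evalHomAux_eq, homEquivM_symm_apply,
    comp_whiskerRight, Category.assoc, RHomMap_evM, ← whisker_exchange_assoc]
  have h := homEquivM_symm_evalHom P L M
  rw [homEquivM_symm_apply] at h
  rw [h, evalHomAux_eq, associator_naturality_middle_assoc, associator_naturality_right_assoc,
    ← whiskerLeft_comp_assoc, ← whiskerLeft_comp_assoc, RHomMap_evL]


section main

open Groth.Agent.Lib.Seat63.WeakExact Groth.Agent.Lib.Seat63.DTenLeftPerf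

variable {P K C : Dual.D A} (α : P ⟶ K) (β : K ⟶ C) (γ : C ⟶ P⟦(1 : ℤ)⟧)
  (hT : Triangle.mk α β γ ∈ distTriang (Dual.D A)) (L M : Dual.D A)

include hT in
/-- `Hom(A[j], RHom(K, L)) → Hom(A[j], RHom(P, L))` is injective -/
lemma comp_RHomMap_injective (m' n j : ℤ) [C.IsLE m'] [L.IsGE n] (hj : m' - j < n)
    (y : tst j ⟶ (RHomR A K).obj L) (hy : y ≫ RHomMap α L = 0) : y = 0 := by
  apply (homTstEquiv j K L).injective
  rw [homTstEquiv_zero]
  have h4 := homTstEquiv_naturality j α L y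
  rw [hy, homTstEquiv_zero] at h4
  refine precomp_shift_injective α β γ hT j L (fun w => ?_) _ h4.symm
  have : (C⟦j⟧).IsLE (m' - j) := TStructure.t.isLE_shift C m' j (m' - j) (by lia)
  exact TStructure.t.zero w (m' - j) n (by lia)

include hT in
/-- `Hom(A[j], RHom(K, L)) → Hom(A[j], RHom(P, L))` is surjective -/
lemma comp_RHomMap_surjective (m' n j : ℤ) [C.IsLE m'] [L.IsGE n] (hj : m' + 1 - j < n)
    (x : tst j ⟶ (RHomR A P).obj L) : ∃ y : tst j ⟶ (RHomR A K).obj L, y ≫ RHomMap α L = x := by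
  obtain ⟨z', hz'⟩ := precomp_shift_surjective α β γ hT j L (fun w => by
    have h1 : (C⟦(-1 : ℤ)⟧).IsLE (m' + 1) := TStructure.t.isLE_shift C m' (-1) (m' + 1) (by lia)
    have h2 : ((C⟦(-1 : ℤ)⟧)⟦j⟧).IsLE (m' + 1 - j) :=
      TStructure.t.isLE_shift (C⟦(-1 : ℤ)⟧) (m' + 1) j (m' + 1 - j) (by lia)
    exact TStructure.t.zero w (m' + 1 - j) n (by lia)) (homTstEquiv j P L x)
  refine ⟨(homTstEquiv j K L).symm z', ?_⟩
  apply (homTstEquiv j P L).injective
  rw [homTstEquiv_naturality, Equiv.apply_symm_apply, hz']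

include hT in
/-- the cone of `RHom(K, L) ⟶ RHom(P, L)` is bounded below when the cone of `P ⟶ K` is bounded
above and `L` is bounded below -/
lemma isGE_cone_RHomMap (m' n : ℤ) [C.IsLE m'] [L.IsGE n] (C' : Dual.D A)
    (u : (RHomR A P).obj L ⟶ C') (v : C' ⟶ ((RHomR A K).obj L)⟦(1 : ℤ)⟧)
    (hT' : Triangle.mk (RHomMap α L) u v ∈ distTriang (Dual.D A)) :
    C'.IsGE (n - m' - 1) := by
  apply isGE_of_hom_tst
  intro k hk x
  -- step A: `x ≫ v = 0`
  have hA : x ≫ v = 0 := by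
    have h1 : (x ≫ v) ≫ (RHomMap α L)⟦(1 : ℤ)⟧' = 0 := by
      rw [Category.assoc]
      have h0 : v ≫ (RHomMap α L)⟦(1 : ℤ)⟧' = 0 := comp_distTriang_mor_zero₃₁ _ hT'
      rw [h0, comp_zero]
    obtain ⟨y', hy'⟩ := (shiftFunctor (Dual.D A) (1 : ℤ)).map_surjective
      ((tstShiftIso k (k - 1) (by lia)).inv ≫ x ≫ v)
    have h3 : y' ≫ RHomMap α L = 0 := by
      apply (shiftFunctor (Dual.D A) (1 : ℤ)).map_injective
      rw [Functor.map_comp, hy', Functor.map_zero, Category.assoc, h1, comp_zero]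
    have hy0 : y' = 0 := comp_RHomMap_injective α β γ hT L m' n (k - 1) (by lia) y' h3
    rw [hy0, Functor.map_zero] at hy'
    rw [← cancel_epi (tstShiftIso k (k - 1) (by lia)).inv, ← hy', comp_zero]
  obtain ⟨x', hx'⟩ : ∃ x' : tst k ⟶ (RHomR A P).obj L, x = x' ≫ u :=
    Triangle.coyoneda_exact₃ _ hT' x hA
  obtain ⟨x'', hx''⟩ := comp_RHomMap_surjective α β γ hT L m' n k (by lia) x'
  have h6 : RHomMap α L ≫ u = 0 := comp_distTriang_mor_zero₁₂ _ hT'
  rw [hx', ← hx'', Category.assoc, h6, comp_zero]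

include hT in
/-- `Hom(A[k], RHom(RHom(P, L), M)) → Hom(A[k], RHom(RHom(K, L), M))` is bijective -/
lemma comp_G_bijective (m' n a b k : ℤ) [C.IsLE m'] [L.IsGE n]
    (hM : DRing.HasInjAmplitudeIn A a b M) (hk : b < n - m' - 1 - k) :
    Function.Bijective (fun g : tst k ⟶ (RHomR A ((RHomR A P).obj L)).obj M =>
      g ≫ RHomMap (RHomMap α L) M) := by
  obtain ⟨C', u, v, hT'⟩ := distinguished_cocone_triangle (RHomMap α L)
  have hC' : C'.IsGE (n - m' - 1) := isGE_cone_RHomMap α β γ hT L m' n C' u v hT'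
  constructor
  · intro g₁ g₂ h
    dsimp only at h
    apply (homTstEquiv k _ M).injective
    have h1 := homTstEquiv_naturality k (RHomMap α L) M g₁
    have h2 := homTstEquiv_naturality k (RHomMap α L) M g₂
    rw [h] at h1
    have h3 : (RHomMap α L)⟦k⟧' ≫ (homTstEquiv k _ M g₁ - homTstEquiv k _ M g₂) = 0 := by
      rw [Preadditive.comp_sub, ← h1, ← h2, sub_self]
    have h4 := precomp_shift_injective (RHomMap α L) u v hT' k M (fun w => by
      have : (C'⟦k⟧).IsGE (n - m' - 1 - k) :=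
        TStructure.t.isGE_shift C' (n - m' - 1) k (n - m' - 1 - k) (by lia)
      exact hom_eq_zero_of_isGE_of_injAmp (C'⟦k⟧) (n - m' - 1 - k) M a b hM hk w) _ h3
    exact sub_eq_zero.1 h4
  · intro g'
    obtain ⟨z', hz'⟩ := precomp_shift_surjective (RHomMap α L) u v hT' k M (fun w => by
      have h1 : (C'⟦(-1 : ℤ)⟧).IsGE (n - m' - 1 + 1) :=
        TStructure.t.isGE_shift C' (n - m' - 1) (-1) (n - m' - 1 + 1) (by lia)
      have h2 : ((C'⟦(-1 : ℤ)⟧)⟦k⟧).IsGE (n - m' - 1 + 1 - k) :=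
        TStructure.t.isGE_shift (C'⟦(-1 : ℤ)⟧) (n - m' - 1 + 1) k (n - m' - 1 + 1 - k) (by lia)
      exact hom_eq_zero_of_isGE_of_injAmp _ (n - m' - 1 + 1 - k) M a b hM (by lia) w)
      (homTstEquiv k _ M g')
    refine ⟨(homTstEquiv k _ M).symm z', ?_⟩
    apply (homTstEquiv k _ M).injective
    dsimp only
    rw [homTstEquiv_naturality, Equiv.apply_symm_apply, hz']

include hT in
/-- `Hom(A[k], R ⊗ P) → Hom(A[k], R ⊗ K)` is bijective -/
lemma comp_F_bijective (R : Dual.D A) (m' c k : ℤ) [C.IsLE m'] [R.IsLE c]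
    (hk : c + m' + 1 < -k) :
    Function.Bijective (fun g : tst k ⟶ R ⊗ P => g ≫ R ◁ α) := by
  have hW := we_obj R
  constructor
  · intro g₁ g₂ h
    dsimp only at h
    have h0 : (g₁ - g₂) ≫ R ◁ α = 0 := by rw [Preadditive.sub_comp, h, sub_self]
    obtain ⟨ψ, hψ⟩ : ∃ ψ : tst k ⟶ R ⊗ C⟦(-1 : ℤ)⟧,
        ψ ≫ ((LTen A).obj R).map (Triangle.mk α β γ).invRotate.mor₁ = g₁ - g₂ :=
      hW _ (inv_rot_of_distTriang _ hT) (tst k) (g₁ - g₂) h0
    have h1 : (C⟦(-1 : ℤ)⟧).IsLE (m' + 1) := TStructure.t.isLE_shift C m' (-1) (m' + 1) (by lia)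
    have h2 : (R ⊗ C⟦(-1 : ℤ)⟧).IsLE (c + (m' + 1)) := isLE_tensor R _ c (m' + 1)
    have hψ0 : ψ = 0 := hom_tst_eq_zero k (c + (m' + 1)) (by lia) _ ψ
    rw [hψ0, zero_comp] at hψ
    exact sub_eq_zero.1 hψ.symm
  · intro φ
    have h2 : (R ⊗ C).IsLE (c + m') := isLE_tensor R C c m'
    have h0 : φ ≫ R ◁ β = 0 := hom_tst_eq_zero k (c + m') (by lia) _ _
    obtain ⟨ψ, hψ⟩ := hW _ hT (tst k) φ h0
    exact ⟨ψ, hψ⟩

end main

/-- `RHom(L, M) ⊗^L K ⟶ RHom(RHom(K, L), M)` is an isomorphism for `K` pseudo-coherent, `L`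
bounded below and `M` of finite injective dimension -/
theorem isIso_evalHom_of_isPseudoCoherent (K L M : Dual.D A) (hK : DRing.IsPseudoCoherent' A K)
    (n : ℤ) [L.IsGE n] (hM : DRing.HasFiniteInjDim A M) : IsIso (evalHom K L M) := by
  obtain ⟨a, b, hM⟩ := hM
  apply isIso_of_hom_tst_bijective
  intro k
  obtain ⟨P, C, α, β, γ, hT, hP, hC⟩ := exists_approx K hK (n - b - k - 1)
  have hR : ((RHomR A L).obj M).IsLE (b - n) := isLE_rhom_of_injAmp L M n a b hM
  have hF := comp_F_bijective α β γ hT ((RHomR A L).obj M) (n - b - k - 1 - 1) (b - n) k (by lia)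
  have hG := comp_G_bijective α β γ hT L M (n - b - k - 1 - 1) n a b k hM (by lia)
  have hτ : IsIso (evalHom P L M) := isIso_evalHom_of_isPerfect P L M hP
  have hτb : Function.Bijective (fun g : tst k ⟶ (RHomR A L).obj M ⊗ P => g ≫ evalHom P L M) :=
    ⟨fun g₁ g₂ h => (cancel_mono _).1 h, fun g => ⟨g ≫ inv (evalHom P L M), by simp⟩⟩
  have hcomp : (fun g : tst k ⟶ (RHomR A L).obj M ⊗ K => g ≫ evalHom K L M) ∘
      (fun g : tst k ⟶ (RHomR A L).obj M ⊗ P => g ≫ (RHomR A L).obj M ◁ α) =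
      (fun g => g ≫ RHomMap (RHomMap α L) M) ∘ (fun g => g ≫ evalHom P L M) := by
    funext g
    dsimp only [Function.comp]
    rw [Category.assoc, Category.assoc, evalHom_naturality]
  exact (Function.Bijective.of_comp_iff _ hF).1 (hcomp ▸ hG.comp hτb)

end Groth.Agent.Lib.Seat63.DTenWayOut
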