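import Mathlib

/-!
# Finite length modules over a local ring (helper63)

* `isFiniteLength_of_support`: over a Noetherian local ring, a finite module supported at the closed
  point has finite length;
* `support_subset_of_isFiniteLength`: the converse inclusion of supports;
* `fl_induction`: dévissage of finite length modules by short exact sequences with residue field
  cokernel.
-/

set_option autoImplicit false
universe u
open CategoryTheory CategoryTheory.Limits

namespace Groth.Agent.Lib.Seat63.FLLocal

variable {R : Type u} [CommRing R] [IsLocalRing R]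

open IsLocalRing

/-- over a Noetherian local ring a finite module supported at the closed point has finite length -/
theorem isFiniteLength_of_support [IsNoetherianRing R] (M : Type u) [AddCommGroup M] [Module R M]
    [Module.Finite R M] (h : Module.support R M ⊆ {closedPoint R}) : IsFiniteLength R M := by
  -- a power of the maximal ideal kills `M`
  have h1 : maximalIdeal R ≤ (Module.annihilator R M).radical := by
    rw [Module.support_eq_zeroLocus] at h
    rw [← PrimeSpectrum.vanishingIdeal_zeroLocus_eq_radical]
    have h2 := PrimeSpectrum.vanishingIdeal_anti_mono h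
    rwa [PrimeSpectrum.vanishingIdeal_singleton] at h2
  obtain ⟨n, hn⟩ := Ideal.exists_pow_le_of_le_radical_of_fg h1 (IsNoetherian.noetherian _)
  obtain ⟨I, hI⟩ : ∃ I : Ideal R, I = maximalIdeal R ^ (n + 1) := ⟨_, rfl⟩
  have hIann : I ≤ Module.annihilator R M := by
    rw [hI]
    exact (Ideal.pow_le_pow_right (Nat.le_succ n)).trans hn
  have htors : Module.IsTorsionBySet R M I := fun x a => Module.mem_annihilator.1 (hIann a.2) x
  let _ : Module (R ⧸ I) M := htors.module
  have : IsScalarTower R (R ⧸ I) M := htors.isScalarTower
  have hIle : I ≤ maximalIdeal R := by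
    rw [hI]
    exact Ideal.pow_le_self (Nat.succ_ne_zero n)
  have hIne : I ≠ ⊤ := fun h => (maximalIdeal.isMaximal R).ne_top (top_le_iff.1 (h ▸ hIle))
  have : Nontrivial (R ⧸ I) := Ideal.Quotient.nontrivial_iff.2 hIne
  have : IsLocalRing (R ⧸ I) :=
    IsLocalRing.of_surjective' (Ideal.Quotient.mk I) Ideal.Quotient.mk_surjective
  have : IsArtinianRing (R ⧸ I) := by
    rw [isArtinianRing_iff_isNilpotent_maximalIdeal]
    refine ⟨n + 1, ?_⟩
    have hle : maximalIdeal (R ⧸ I) ≤ (maximalIdeal R).map (Ideal.Quotient.mk I) := by
      intro x hx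
      obtain ⟨r, rfl⟩ := Ideal.Quotient.mk_surjective x
      refine Ideal.mem_map_of_mem _ ?_
      rw [mem_maximalIdeal, mem_nonunits_iff] at hx ⊢
      exact fun hr => hx (hr.map _)
    rw [Ideal.zero_eq_bot, eq_bot_iff]
    refine (Ideal.pow_right_mono hle (n + 1)).trans ?_
    rw [← Ideal.map_pow, ← hI, Ideal.map_quotient_self]
  have : Module.Finite (R ⧸ I) M := Module.Finite.of_restrictScalars_finite R (R ⧸ I) M
  rw [isFiniteLength_iff_isNoetherian_isArtinian]
  exact ⟨inferInstance,
    isArtinian_of_surjective_algebraMap (R := R ⧸ I) (M := M) Ideal.Quotient.mk_surjective⟩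

/-- dévissage of finite length modules over a local ring: a property of modules which holds for
trivial modules and passes to the middle term of a short exact sequence `0 → N → M → Q → 0` with
`Q ≃ R ⧸ 𝔪` holds for all finite length modules. -/
theorem fl_induction (𝒬 : ModuleCat.{u} R → Prop)
    (h0 : ∀ M : ModuleCat.{u} R, Subsingleton M → 𝒬 M)
    (hext : ∀ S : ShortComplex (ModuleCat.{u} R), S.ShortExact → IsFiniteLength R S.X₁ →
      IsFiniteLength R S.X₂ → 𝒬 S.X₁ → Nonempty (S.X₃ ≅ ModuleCat.of R (R ⧸ maximalIdeal R)) →
      𝒬 S.X₂)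
    (M : Type u) [AddCommGroup M] [Module R M] (hM : IsFiniteLength R M) :
    𝒬 (ModuleCat.of R M) := by
  induction hM with
  | of_subsingleton => exact h0 _ ‹_›
  | @of_simple_quotient M _ _ N hs hN ih =>
    let S : ShortComplex (ModuleCat.{u} R) :=
      ShortComplex.mk (ModuleCat.ofHom N.subtype) (ModuleCat.ofHom N.mkQ) (by
        ext x
        simp)
    have hS : S.ShortExact := by
      refine ShortComplex.ShortExact.mk' ?_ ?_ ?_
      · rw [ShortComplex.moduleCat_exact_iff_range_eq_ker]
        exact (LinearMap.exact_iff.1 (LinearMap.exact_subtype_mkQ N)).symm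
      · rw [ModuleCat.mono_iff_injective]
        exact N.injective_subtype
      · rw [ModuleCat.epi_iff_surjective]
        exact N.mkQ_surjective
    obtain ⟨m, hm, ⟨e⟩⟩ := isSimpleModule_iff_quot_maximal.mp hs
    rw [eq_maximalIdeal hm] at e
    exact hext S hS hN (IsFiniteLength.of_simple_quotient hN) ih ⟨e.toModuleIso⟩

/-- a finite length module over a local ring is supported at the closed point -/
theorem support_subset_of_isFiniteLength (M : Type u) [AddCommGroup M] [Module R M]
    (hM : IsFiniteLength R M) : Module.support R M ⊆ {closedPoint R} := by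
  induction hM with
  | of_subsingleton => simp [Module.support_eq_empty]
  | @of_simple_quotient M _ _ N hs hN ih =>
    rw [Module.support_of_exact (LinearMap.exact_subtype_mkQ N) N.injective_subtype
      N.mkQ_surjective]
    refine Set.union_subset ih ?_
    obtain ⟨m, hm, ⟨e⟩⟩ := isSimpleModule_iff_quot_maximal.mp hs
    rw [eq_maximalIdeal hm] at e
    rw [e.support_eq, Module.support_of_algebra, Ideal.Quotient.algebraMap_eq, Ideal.mk_ker]
    intro p hp
    rw [Set.mem_singleton_iff]
    have h1 : maximalIdeal R ≤ p.asIdeal := (PrimeSpectrum.mem_zeroLocus _ _).1 hp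
    exact PrimeSpectrum.ext ((maximalIdeal.isMaximal R).eq_of_le p.2.ne_top h1).symm

end Groth.Agent.Lib.Seat63.FLLocal
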