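import Mathlib
import Groth.Prelude.Def_FSch2
import Groth.Agent.S14008
import Groth.Agent.Lib.Helper2Thick

/-!
# Levelwise smoothness of adic morphisms of systems of thickenings (seat 63)

For an adic morphism `f : 𝔛 ⟶ 𝔜` of locally Noetherian formal systems with all levels flat,
every level is smooth as soon as the bottom level is.
-/

set_option autoImplicit false
set_option linter.style.haveILetI false
universe u

open CategoryTheory CategoryTheory.Limits AlgebraicGeometry

namespace Groth.Agent.Lib.Seat63.FSchSmooth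

/-- The composite `X 0 ⟶ X n` of a formal system is a thickening. -/
theorem toX_thick (𝔛 : FSch.Sys.{u}) (h : 𝔛.IsFormal) (n : ℕ) :
    MoreMor.IsThickening (𝔛.toX n) := by
  induction n with
  | zero =>
    refine ⟨?_, ?_⟩
    · change IsClosedImmersion (𝟙 _)
      infer_instance
    · change Surjective (𝟙 _)
      infer_instance
  | succ n ih =>
    obtain ⟨h1, h2⟩ := ih
    obtain ⟨h3, h4⟩ := h n
    have h4' : Surjective (𝔛.ι n) := ⟨h4⟩
    refine ⟨?_, ?_⟩
    · change IsClosedImmersion (𝔛.toX n ≫ 𝔛.ι n)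
      infer_instance
    · change Surjective (𝔛.toX n ≫ 𝔛.ι n)
      infer_instance

/-- The composite squares of an adic morphism are cartesian. -/
theorem isPullback_toX {𝔛 𝔜 : FSch.Sys.{u}} (f : 𝔛 ⟶ 𝔜) (hf : FSch.IsAdicHom f) (n : ℕ) :
    IsPullback (𝔛.toX n) ((f : FSch.Hom 𝔛 𝔜).app 0) ((f : FSch.Hom 𝔛 𝔜).app n) (𝔜.toX n) := by
  induction n with
  | zero =>
    change IsPullback (𝟙 _) ((f : FSch.Hom 𝔛 𝔜).app 0) ((f : FSch.Hom 𝔛 𝔜).app 0) (𝟙 _)
    exact IsPullback.of_horiz_isIso ⟨by simp⟩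
  | succ n ih =>
    change IsPullback (𝔛.toX n ≫ 𝔛.ι n) _ _ (𝔜.toX n ≫ 𝔜.ι n)
    exact ih.paste_horiz (hf n)

/-- The kernel of a thickening into a locally Noetherian scheme is nilpotent on affine opens. -/
theorem ker_nilpotent {Y Y' : Scheme.{u}} [IsLocallyNoetherian Y'] (i : Y ⟶ Y')
    (hi : MoreMor.IsThickening i) (U : Y'.affineOpens) : IsNilpotent (i.ker.ideal U) := by
  haveI : IsClosedImmersion i := hi.1
  haveI : Surjective i := hi.2
  haveI : IsNoetherianRing Γ(Y', U.1) := IsLocallyNoetherian.component_noetherian U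
  have hfg : (i.ker.ideal U).FG := IsNoetherian.noetherian _
  rw [hfg.isNilpotent_iff_le_nilradical]
  intro x hx
  rw [Scheme.Hom.ker_apply, RingHom.mem_ker] at hx
  exact Groth.Agent.Lib.Helper2.Thick.nil_ker i U.1 U.2 x hx

theorem ker_fg {Y' : Scheme.{u}} [IsLocallyNoetherian Y'] (I : Y'.IdealSheafData)
    (U : Y'.affineOpens) : (I.ideal U).FG := by
  haveI : IsNoetherianRing Γ(Y', U.1) := IsLocallyNoetherian.component_noetherian U
  exact IsNoetherian.noetherian _

/-- Base change of `f'` along a morphism factoring through the thickening is a base change of `f`. -/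
theorem smooth_snd_of_factor {X X' Y Y' T : Scheme.{u}} {iX : X ⟶ X'} {iY : Y ⟶ Y'} {f : X ⟶ Y}
    {f' : X' ⟶ Y'} (hc : IsPullback iX f f' iY) [Smooth f] (g : T ⟶ Y) :
    Smooth (pullback.snd f' (g ≫ iY)) := by
  let l : pullback f' (g ≫ iY) ⟶ X :=
    hc.lift (pullback.fst _ _) (pullback.snd _ _ ≫ g) (by rw [pullback.condition, Category.assoc])
  have hl1 : l ≫ iX = pullback.fst _ _ := hc.lift_fst _ _ _
  have hl2 : l ≫ f = pullback.snd _ _ ≫ g := hc.lift_snd _ _ _
  have hbig : IsPullback (l ≫ iX) (pullback.snd f' (g ≫ iY)) f' (g ≫ iY) := by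
    rw [hl1]
    exact IsPullback.of_hasPullback _ _
  have hleft : IsPullback l (pullback.snd f' (g ≫ iY)) f g := IsPullback.of_right hbig hl2 hc
  exact MorphismProperty.of_isPullback (P := @Smooth) hleft inferInstance

theorem smooth_snd_of_factor' {X X' Y Y' T : Scheme.{u}} {iX : X ⟶ X'} {iY : Y ⟶ Y'} {f : X ⟶ Y}
    {f' : X' ⟶ Y'} (hc : IsPullback iX f f' iY) [Smooth f] (g' : T ⟶ Y')
    (h : ∃ g : T ⟶ Y, g ≫ iY = g') : Smooth (pullback.snd f' g') := by
  obtain ⟨g, rfl⟩ := h
  exact smooth_snd_of_factor hc g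

/-- The residue field map of a closed immersion is an isomorphism. -/
theorem isIso_residueFieldMap {Y Y' : Scheme.{u}} (i : Y ⟶ Y') [IsClosedImmersion i] (y : Y) :
    IsIso (i.residueFieldMap y) := by
  have hsurj : Function.Surjective (i.residueFieldMap y).hom := by
    have h1 : Function.Surjective ((Y'.residue (i y)) ≫ i.residueFieldMap y).hom := by
      rw [Scheme.residue_residueFieldMap, CommRingCat.hom_comp]
      exact (Y.residue_surjective y).comp (i.stalkMap_surjective y)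
    rw [CommRingCat.hom_comp, RingHom.coe_comp] at h1
    exact Function.Surjective.of_comp h1
  have hinj : Function.Injective (i.residueFieldMap y).hom := (i.residueFieldMap y).hom.injective
  exact (ConcreteCategory.isIso_iff_bijective _).mpr ⟨hinj, hsurj⟩

/-- The fibres of `f'` are smooth if `f` is, when the base thickening is surjective. -/
theorem smooth_fiber_of_thick {X X' Y Y' : Scheme.{u}} {iX : X ⟶ X'} {iY : Y ⟶ Y'} {f : X ⟶ Y}
    {f' : X' ⟶ Y'} (hc : IsPullback iX f f' iY) (hY : MoreMor.IsThickening iY) [Smooth f]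
    (y' : Y') : Smooth (f'.fiberToSpecResidueField y') := by
  haveI : IsClosedImmersion iY := hY.1
  haveI : Surjective iY := hY.2
  obtain ⟨y, rfl⟩ := iY.surjective y'
  haveI := isIso_residueFieldMap iY y
  refine smooth_snd_of_factor' hc _ ⟨inv (Spec.map (iY.residueFieldMap y)) ≫ Y.fromSpecResidueField y, ?_⟩
  rw [Category.assoc, ← Scheme.Hom.SpecMap_residueFieldMap_fromSpecResidueField, IsIso.inv_hom_id_assoc]

/-- Main theorem: all levels are smooth if the bottom one is. -/
theorem smooth_levels (𝔛 𝔜 : FSch.Sys.{u})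
    (h𝔛 : 𝔛.IsLocNoethFormal) (h𝔜 : 𝔜.IsLocNoethFormal) (f : 𝔛 ⟶ 𝔜) (hf : FSch.IsAdicHom f)
    (hflat : ∀ n : ℕ, Flat ((f : FSch.Hom 𝔛 𝔜).app n))
    (h0 : Smooth ((f : FSch.Hom 𝔛 𝔜).app 0)) (n : ℕ) : Smooth ((f : FSch.Hom 𝔛 𝔜).app n) := by
  haveI := h0
  haveI := hflat n
  haveI : IsLocallyNoetherian (𝔜.X n) := h𝔜.2.2 n
  haveI : IsLocallyNoetherian (𝔛.X n) := h𝔛.2.2 n
  have hc := isPullback_toX f hf n
  have hiX := toX_thick 𝔛 h𝔛.1 n
  have hiY := toX_thick 𝔜 h𝔜.1 n
  haveI : LocallyOfFinitePresentation ((f : FSch.Hom 𝔛 𝔜).app n) := by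
    refine (Groth.Agent.S14008.result ((f : FSch.Hom 𝔛 𝔜).app n) ((f : FSch.Hom 𝔛 𝔜).app 0)
      (𝔛.toX n) (𝔜.toX n) hiX hiY (ker_nilpotent _ hiX) (ker_nilpotent _ hiY)
      (ker_fg _) hc.w.symm).mpr inferInstance
  exact Smooth.of_smooth_fiberToSpecResidueField _ (fun y => smooth_fiber_of_thick hc hiY y)

end Groth.Agent.Lib.Seat63.FSchSmooth
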