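/-
Seat63K0Koszul: K₀ of perfect complexes with cohomology supported at the closed point of a
regular local ring is generated by the class of the Koszul complex (S14001).
Main results: `FL R` (finite length modules as an ObjectProperty), `PS R`, `PS_eq`,
`closure_clSub_kk`, `closure_clTr_koszul`.
-/
import Mathlib
import Groth.Agent.Lib.Seat63FLLocal
import Groth.Agent.Lib.Helper17K0e
import Groth.Agent.Lib.Seat31KoszulRes
import Groth.Agent.S15821
import Groth.Agent.S7030
import Groth.Agent.Lib.Helper1PC

set_option autoImplicit false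
universe u
open CategoryTheory CategoryTheory.Limits
attribute [local instance] HasDerivedCategory.standard

namespace Groth.Agent.Lib.Seat63.K0Koszul

open DerivedCategory KZero IsLocalRing Pretriangulated Groth.Agent.Lib.Seat63.FLLocal
  Groth.Agent.Lib.Helper17.K0a Groth.Agent.Lib.Helper17.K0b Groth.Agent.Lib.Helper17.K0c
  Groth.Agent.Lib.Helper17.K0e Groth.Agent.S7030 Groth.Agent.Lib.Helper1.Devissage

variable {R : Type u} [CommRing R]

/-- finite length modules -/
def FL (R : Type u) [CommRing R] : ObjectProperty (ModuleCat.{u} R) := fun M => IsFiniteLength R M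

instance : (FL R).IsClosedUnderIsomorphisms :=
  ⟨fun e h => e.toLinearEquiv.isFiniteLength h⟩

open ZeroObject in
instance : (FL R).ContainsZero :=
  ⟨⟨0, isZero_zero _, by
    have : Subsingleton ((0 : ModuleCat.{u} R) : Type u) :=
      ModuleCat.subsingleton_of_isZero (isZero_zero _)
    exact IsFiniteLength.of_subsingleton⟩⟩

instance : (FL R).IsClosedUnderSubobjects :=
  ⟨fun f _ hY => IsFiniteLength.of_injective (f := f.hom) hY ((ModuleCat.mono_iff_injective f).1 ‹_›)⟩

variable [IsLocalRing R]

/-- the residue field -/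
abbrev kk (R : Type u) [CommRing R] [IsLocalRing R] : ModuleCat.{u} R :=
  ModuleCat.of R (R ⧸ maximalIdeal R)

section

variable (fs : List R) (hreg : RingTheory.Sequence.IsRegular R fs)
  (hgen : Ideal.ofList fs = maximalIdeal R)

include hreg hgen in
lemma nonempty_koszul_iso_kk :
    Nonempty (DRing.toD (Koszul.koszul R fs) ≅ (singleFunctor (ModuleCat.{u} R) 0).obj (kk R)) := by
  obtain ⟨e⟩ := Groth.Agent.Lib.Seat31.KoszulRes.nonempty_koszul_iso fs
    (Groth.Agent.S15821.result R fs hreg.toIsWeaklyRegular).1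
  have e2 : (R ⧸ Ideal.ofList fs) ≃ₗ[R] (R ⧸ maximalIdeal R) :=
    Submodule.quotEquivOfEq _ _ hgen
  exact ⟨e ≪≫ (singleFunctor (ModuleCat.{u} R) 0).mapIso e2.toModuleIso⟩

include hreg hgen in
lemma isPerfect_kk : DRing.IsPerfect R ((singleFunctor (ModuleCat.{u} R) 0).obj (kk R)) := by
  obtain ⟨e⟩ := nonempty_koszul_iso_kk fs hreg hgen
  refine isPerfect_of_iso e ⟨Koszul.koszul R fs, -(fs.length : ℤ), 0, ?_, ?_, ⟨Iso.refl _⟩⟩
  · rintro i (hi | hi)
    · exact Groth.Agent.Lib.Seat31.KoszulRes.isZero_X_neg fs i hi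
    · exact Groth.Agent.Lib.Seat31.KoszulRes.isZero_X_pos fs i hi
  · intro i
    have h := Groth.Agent.Lib.Seat31.KoszulRes.ff_X fs i
    exact ⟨h.1, Groth.Agent.S7017.FF_proj _ h⟩

include hreg hgen in
lemma isPerfect_single_of_fl (M : ModuleCat.{u} R) (hM : IsFiniteLength R M) :
    DRing.IsPerfect R ((singleFunctor (ModuleCat.{u} R) 0).obj M) := by
  refine fl_induction (fun M => DRing.IsPerfect R ((singleFunctor (ModuleCat.{u} R) 0).obj M))
    ?_ ?_ M hM
  · intro M hM
    exact isPerfect_of_isZero (Functor.map_isZero _ (ModuleCat.isZero_of_subsingleton M))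
  · rintro S hS _ _ h1 ⟨e3⟩
    exact isPerfect_ext _ hS.singleTriangle_distinguished h1
      (isPerfect_of_iso ((singleFunctor (ModuleCat.{u} R) 0).mapIso e3.symm)
        (isPerfect_kk fs hreg hgen))

/-- the object property of `S14001` -/
def PS (R : Type u) [CommRing R] [IsLocalRing R] : ObjectProperty (Dual.D R) :=
  fun K => DRing.IsPerfect R K ∧
    ∀ i : ℤ, Module.support R (Dual.HD R K i) ⊆ {IsLocalRing.closedPoint R}

lemma finite_HD_of_isPerfect [IsNoetherianRing R] (K : Dual.D R) (hK : DRing.IsPerfect R K)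
    (i : ℤ) : Module.Finite R (Dual.HD R K i) := by
  obtain ⟨E, a, b, hE, hfp, ⟨e⟩⟩ := hK
  have h1 : Module.Finite R (E.X i) := (hfp i).1
  have h2 : Module.Finite R (E.homology i) :=
    Groth.Agent.Lib.Helper1.PC.finite_homology_of_ker E i inferInstance
  let e' : (homologyFunctor (ModuleCat.{u} R) i).obj K ≅ E.homology i :=
    (homologyFunctor (ModuleCat.{u} R) i).mapIso e.symm ≪≫
      (homologyFunctorFactors (ModuleCat.{u} R) i).app E
  exact Module.Finite.equiv e'.toLinearEquiv.symm

include hreg hgen in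
theorem PS_eq [IsNoetherianRing R] : PS R = DbP (FL R) := by
  funext K
  apply propext
  constructor
  · rintro ⟨hperf, hsupp⟩
    have hfin := finite_HD_of_isPerfect K hperf
    obtain ⟨E, a, b, hE, hfp, ⟨e⟩⟩ := hperf
    refine ⟨fun i => ?_, a, b, ?_, ?_⟩
    · have := hfin i
      exact isFiniteLength_of_support (Dual.HD R K i) (hsupp i)
    · have : E.IsStrictlyGE a := by
        rw [CochainComplex.isStrictlyGE_iff]
        exact fun i hi => hE i (Or.inl hi)
      exact TStructure.t.isGE_of_iso e a
    · have : E.IsStrictlyLE b := by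
        rw [CochainComplex.isStrictlyLE_iff]
        exact fun i hi => hE i (Or.inr hi)
      exact TStructure.t.isLE_of_iso e b
  · rintro ⟨hfl, a, b, ha, hb⟩
    refine ⟨?_, fun i => support_subset_of_isFiniteLength _ (hfl i)⟩
    have : K.IsGE a := ha
    have : K.IsLE b := hb
    apply induction_homology' (perf R) (fun K hK => isPerfect_of_isZero hK)
      (fun T hT h1 h3 => isPerfect_ext T hT h1 h3) K a b
    · rintro i (hi | hi)
      · exact isZero_of_isGE K a i hi
      · exact isZero_of_isLE K b i hi
    · intro j _ _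
      exact isPerfect_single _ (isPerfect_single_of_fl fs hreg hgen _ (hfl j)) j

/-- `K₀` of finite length modules is generated by the class of the residue field -/
theorem closure_clSub_kk : AddSubgroup.closure {clSub (FL R) (kk R)} = ⊤ := by
  have key : ∀ M : ModuleCat.{u} R, IsFiniteLength R M →
      clSub (FL R) M ∈ AddSubgroup.closure {clSub (FL R) (kk R)} := by
    intro M hM
    refine fl_induction (fun M => clSub (FL R) M ∈ AddSubgroup.closure {clSub (FL R) (kk R)})
      ?_ ?_ M hM
    · intro M hM
      rw [clSub_of_isZero (FL R) (ModuleCat.isZero_of_subsingleton M)]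
      exact zero_mem _
    · rintro S hS h1 h2 ih ⟨e3⟩
      have h3 : FL R S.X₃ :=
        IsFiniteLength.of_surjective (f := S.g.hom) h2 hS.moduleCat_surjective_g
      have h4 := clSub_shortExact (FL R) S hS h1 h2 h3
      have h5 : clSub (FL R) S.X₂ = clSub (FL R) S.X₁ + clSub (FL R) S.X₃ := h4
      rw [h5, clSub_of_iso (FL R) e3 h3]
      exact add_mem ih (AddSubgroup.subset_closure rfl)
  rw [eq_top_iff]
  rintro x -
  induction x using QuotientAddGroup.induction_on with
  | H z =>
    induction z using FreeAbelianGroup.induction_on with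
    | zero => exact zero_mem _
    | of X =>
      have h1 : ((FreeAbelianGroup.of X : FreeAbelianGroup (Subtype (FL R))) : K0sub (FL R)) =
          clSub (FL R) X.1 := (clSub_of_prop (FL R) X.2).symm
      rw [h1]
      exact key X.1 X.2
    | neg X ih =>
      rw [QuotientAddGroup.mk_neg]
      exact neg_mem ih
    | add x y hx hy =>
      rw [QuotientAddGroup.mk_add]
      exact add_mem hx hy

include hreg hgen in
/-- `S14001` -/
theorem closure_clTr_koszul [IsNoetherianRing R] :
    AddSubgroup.closure {clTr (PS R) (DRing.toD (Koszul.koszul R fs))} = ⊤ := by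
  rw [PS_eq fs hreg hgen, eq_top_iff]
  rintro y -
  obtain ⟨x, rfl⟩ := phi_surjective (FL R) y
  have hx : x ∈ AddSubgroup.closure {clSub (FL R) (kk R)} := by
    rw [closure_clSub_kk]
    trivial
  have hk : FL R (kk R) := by
    have : IsSimpleModule R (R ⧸ maximalIdeal R) :=
      isSimpleModule_iff_quot_maximal.2 ⟨_, maximalIdeal.isMaximal R, ⟨LinearEquiv.refl _ _⟩⟩
    exact (isFiniteLength_iff_isNoetherian_isArtinian).2 ⟨inferInstance, inferInstance⟩
  have h2 : phi (FL R) x ∈ (AddSubgroup.closure {clSub (FL R) (kk R)}).map (phi (FL R)) :=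
    ⟨x, hx, rfl⟩
  rw [AddMonoidHom.map_closure, Set.image_singleton, phi_clSub (FL R) (kk R) hk] at h2
  obtain ⟨e⟩ := nonempty_koszul_iso_kk fs hreg hgen
  rwa [clTr_of_iso (DbP (FL R)) e ((DbP (FL R)).prop_of_iso e.symm (dbP_single (FL R) _ hk 0))]

end

end Groth.Agent.Lib.Seat63.K0Koszul
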