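import Mathlib
import Groth.Prelude.Def_P1
import Groth.Agent.Lib.Seat63PnConn
import Groth.Agent.S9705

/-!
# Finite flat covers of the projective line over a base (seat 63)

Clopen subsets of `P¹_S` are unions of fibres; consequences for finite locally free morphisms
`X ⟶ P¹_S`.
-/

set_option autoImplicit false
set_option linter.style.haveILetI false
universe u

open CategoryTheory CategoryTheory.Limits AlgebraicGeometry

namespace Groth.Agent.Lib.Seat63.P1Fin

open Groth.Agent.Lib.Seat63.PnConn

theorem sect_toBase (S : Scheme.{u}) (i : Fin (1 + 1)) :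
    P1.sect S i ≫ CohB1.ProjSpaceOver.toBase 1 S = 𝟙 S :=
  pullback.lift_snd _ _ _

/-- A clopen subset of `P¹_S` containing a point contains the point of the zero section in the
same fibre. -/
theorem sect_mem_of_isClopen (S : Scheme.{u}) (V : Set ↥(CohB1.ProjSpaceOver 1 S)) (hV : IsClopen V)
    (v : ↥(CohB1.ProjSpaceOver 1 S)) (hv : v ∈ V) :
    P1.sect S 0 (CohB1.ProjSpaceOver.toBase 1 S v) ∈ V := by
  set π := CohB1.ProjSpaceOver.toBase 1 S with hπ
  have hF : _root_.IsConnected (π ⁻¹' {π v}) := π.isConnected_preimage_singleton (π v)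
  have hsub : π ⁻¹' {π v} ⊆ V :=
    hF.isPreconnected.subset_isClopen hV ⟨v, rfl, hv⟩
  apply hsub
  change π (P1.sect S 0 (π v)) = π v
  rw [← Scheme.Hom.comp_apply, sect_toBase]
  rfl

/-- A clopen subset of `P¹_S` missing the zero section is empty. -/
theorem eq_empty_of_isClopen (S : Scheme.{u}) (V : Set ↥(CohB1.ProjSpaceOver 1 S)) (hV : IsClopen V)
    (h0 : ∀ v ∈ V, v ∉ Set.range (P1.sect S 0)) : V = ∅ := by
  by_contra hne
  obtain ⟨v, hv⟩ := Set.nonempty_iff_ne_empty.mpr hne
  exact h0 _ (sect_mem_of_isClopen S V hV v hv) ⟨_, rfl⟩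

section Cover

variable {S X : Scheme.{u}} (g : X ⟶ CohB1.ProjSpaceOver 1 S) [IsFinite g] [Flat g]
  [LocallyOfFinitePresentation g]

/-- the image of a clopen set under a finite locally free morphism is clopen. -/
theorem isClopen_image (W : Set X) (hW : IsClopen W) : IsClopen (g '' W) :=
  ⟨g.isClosedMap _ hW.1, g.isOpenMap _ hW.2⟩

/-- S13906. -/
theorem eq_univ_of_isClopen (W : Set X) (hW : IsClopen W)
    (h0 : ∀ x : X, g x ∈ Set.range (P1.sect S 0) → x ∈ W) : W = Set.univ := by
  have h1 : g '' Wᶜ = ∅ := by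
    apply eq_empty_of_isClopen S _ (isClopen_image g _ hW.compl)
    rintro _ ⟨x, hx, rfl⟩ hr
    exact hx (h0 x hr)
  rw [Set.image_eq_empty] at h1
  exact Set.compl_empty_iff.mp h1

end Cover

/-- S13902. -/
theorem finrank_eq (S X T : Scheme.{u})
    (g : X ⟶ CohB1.ProjSpaceOver 1 S) (f : T ⟶ X)
    [IsFinite g] [Flat g] [LocallyOfFinitePresentation g]
    [IsFinite f] [Flat f] [LocallyOfFinitePresentation f] (r : ℕ)
    (h : ∀ x : X, g x ∈ Set.range (P1.sect S 0) → f.finrank x = r) (x : X) :
    f.finrank x = r := by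
  have hlc : IsLocallyConstant f.finrank := f.isLocallyConstant_finrank
  have hW : IsClopen (f.finrank ⁻¹' {r}) := hlc.isClopen_fiber r
  have := eq_univ_of_isClopen g _ hW h
  have hx : x ∈ f.finrank ⁻¹' {r} := by rw [this]; trivial
  exact hx

/-- A finite set meeting every nonempty clopen set meets every connected component. -/
theorem connectedComponent_inter_nonempty {Y : Type*} [TopologicalSpace Y] (F : Set Y)
    (hF : F.Finite) (hmeet : ∀ U : Set Y, IsClopen U → U.Nonempty → (U ∩ F).Nonempty) (x : Y) :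
    (connectedComponent x ∩ F).Nonempty := by
  classical
  -- choose a clopen neighbourhood of `x` with the fewest points of `F`
  let P : ℕ → Prop := fun k => ∃ U : Set Y, IsClopen U ∧ x ∈ U ∧ (U ∩ F).ncard = k
  have hP : ∃ k, P k := ⟨_, Set.univ, isClopen_univ, trivial, rfl⟩
  obtain ⟨U, hU, hxU, hk⟩ := Nat.find_spec hP
  have hmin : ∀ U' : Set Y, IsClopen U' → x ∈ U' → (U ∩ F).ncard ≤ (U' ∩ F).ncard := by
    intro U' hU' hx'
    rw [hk]
    exact Nat.find_min' hP ⟨U', hU', hx', rfl⟩
  -- `U` is preconnected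
  have hUpre : IsPreconnected U := by
    rw [isPreconnected_iff_subset_of_fully_disjoint_closed hU.1]
    intro A B hA hB hAB hdisj
    -- `U ∩ A` and `U ∩ B` are clopen
    have hUA : IsClopen (U ∩ A) := by
      refine ⟨hU.1.inter hA, ?_⟩
      have : U ∩ A = U ∩ Bᶜ := by
        ext y
        constructor
        · rintro ⟨hy, hyA⟩
          exact ⟨hy, fun hyB => Set.disjoint_left.mp hdisj hyA hyB⟩
        · rintro ⟨hy, hyB⟩
          rcases hAB hy with h | h
          · exact ⟨hy, h⟩
          · exact absurd h hyB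
      rw [this]
      exact hU.2.inter hB.isOpen_compl
    have hUB : IsClopen (U ∩ B) := by
      refine ⟨hU.1.inter hB, ?_⟩
      have : U ∩ B = U ∩ Aᶜ := by
        ext y
        constructor
        · rintro ⟨hy, hyB⟩
          exact ⟨hy, fun hyA => Set.disjoint_left.mp hdisj hyA hyB⟩
        · rintro ⟨hy, hyA⟩
          rcases hAB hy with h | h
          · exact absurd h hyA
          · exact ⟨hy, h⟩
      rw [this]
      exact hU.2.inter hA.isOpen_compl
    -- the piece containing `x` has as many points of `F` as `U`, so the other piece is empty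
    have key : ∀ (C D : Set Y), IsClopen (U ∩ C) → IsClopen (U ∩ D) → U ⊆ C ∪ D → Disjoint C D →
        x ∈ C → U ⊆ C := by
      intro C D hC hD hCD hdis hxC
      have h1 : (U ∩ F).ncard ≤ (U ∩ C ∩ F).ncard := hmin _ hC ⟨hxU, hxC⟩
      have hfin : (U ∩ F).Finite := hF.subset Set.inter_subset_right
      have hsub : U ∩ C ∩ F ⊆ U ∩ F := fun y hy => ⟨hy.1.1, hy.2⟩
      have heq : U ∩ C ∩ F = U ∩ F := Set.eq_of_subset_of_ncard_le hsub h1 hfin
      by_contra hnot
      obtain ⟨y, hyU, hyC⟩ := Set.not_subset.mp hnot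
      have hyD : y ∈ D := (hCD hyU).resolve_left hyC
      obtain ⟨z, ⟨hzU, hzD⟩, hzF⟩ := hmeet _ hD ⟨y, hyU, hyD⟩
      have : z ∈ U ∩ C ∩ F := by rw [heq]; exact ⟨hzU, hzF⟩
      exact Set.disjoint_left.mp hdis this.1.2 hzD
    rcases hAB hxU with hxA | hxB
    · exact Or.inl (key A B hUA hUB hAB hdisj hxA)
    · exact Or.inr (key B A hUB hUA (by rwa [Set.union_comm]) hdisj.symm hxB)
  have hsub : U ⊆ connectedComponent x := hUpre.subset_connectedComponent hxU
  obtain ⟨z, hzU, hzF⟩ := hmeet U hU ⟨x, hxU⟩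
  exact ⟨z, hsub hzU, hzF⟩

/-- S13901. -/
theorem exists_mem_connectedComponent (S X : Scheme.{u}) [PreconnectedSpace S]
    (f : X ⟶ CohB1.ProjSpaceOver 1 S) [IsFinite f] [Flat f] [LocallyOfFinitePresentation f]
    (x : X) (p : CohB1.ProjSpaceOver 1 S) : ∃ y ∈ connectedComponent x, f y = p := by
  set π := CohB1.ProjSpaceOver.toBase 1 S with hπ
  haveI : IsProper π := Groth.Agent.S9705.isProper_toBase 1 S
  -- `P¹_S` is preconnected
  haveI : ConnectedSpace S := ⟨⟨π p⟩⟩
  have hq : Topology.IsQuotientMap π :=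
    π.isClosedMap.isQuotientMap π.continuous π.surjective
  haveI : PreconnectedSpace ↥(CohB1.ProjSpaceOver 1 S) := by
    refine ⟨?_⟩
    have h1 := hq.preimage_connectedComponent π.isConnected_preimage_singleton p
    rw [PreconnectedSpace.connectedComponent_eq_univ, Set.preimage_univ] at h1
    rw [h1]
    exact isPreconnected_connectedComponent
  -- the fibre over `p` is finite and meets every nonempty clopen subset of `X`
  have hfin : (f ⁻¹' {p}).Finite := f.finite_preimage_singleton p
  have hmeet : ∀ U : Set X, IsClopen U → U.Nonempty → (U ∩ f ⁻¹' {p}).Nonempty := by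
    intro U hU hne
    have h1 : IsClopen (f '' U) := isClopen_image f U hU
    have h2 : f '' U = Set.univ := h1.eq_univ (hne.image _)
    obtain ⟨y, hy, hyp⟩ : p ∈ f '' U := by rw [h2]; trivial
    exact ⟨y, hy, hyp⟩
  obtain ⟨y, hyC, hyp⟩ := connectedComponent_inter_nonempty _ hfin hmeet x
  exact ⟨y, hyC, hyp⟩

end Groth.Agent.Lib.Seat63.P1Fin
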