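/-
Seat63PCCoh: pseudo-coherence versus coherent cohomology on Noetherian schemes (S1039).
`isPC_inD_of_isCoh` (a coherent module on a locally Noetherian scheme is pseudo-coherent in all
degrees), `isPC_of_coh_cohomology` (bounded above + coherent cohomology in degrees ≥ m ⇒ m-pc),
`coh_cohomology_of_isPC` (converse on Noetherian schemes for D_QCoh), `isPC_iff_coh_cohomology`,
`PCAll`, `isCoh_restrict`, `isPerfect_inD_of_isFinLocFree`.
-/
import Mathlib
import Groth.Agent.Lib.Seat63RegPerf
import Groth.Agent.Lib.Seat0PCSummand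
import Groth.Agent.Lib.Seat0FlatPerf
import Groth.Agent.Lib.Seat0TopCoh

set_option autoImplicit false
set_option linter.style.haveILetI false
universe u
open CategoryTheory CategoryTheory.Limits AlgebraicGeometry TopologicalSpace
attribute [local instance] HasDerivedCategory.standard

namespace Groth.Agent.Lib.Seat63.PCCoh

open ZeroObject DerivedCategory Pretriangulated Groth.Agent.Lib.Seat63.CohThick
  Groth.Agent.Lib.Seat63.CohPerf Groth.Agent.Lib.Seat63.RegPerf
  Groth.Agent.Lib.Seat0.PerfLocal Groth.Agent.Lib.Seat0.PerfTri Groth.Agent.Lib.Seat0.PCLocal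
  Groth.Agent.Lib.Seat0.PCTri Groth.Agent.Lib.Seat0.PCSummand Groth.Agent.Lib.Seat0.Cn
  Groth.Agent.S14388

variable {X : Scheme.{u}}

/-- a finite locally free module in degree `0` is perfect -/
lemma isPerfect_inD_of_isFinLocFree (F : X.Modules) (hF : FlatMod.IsFinLocFree F) :
    DCoh.IsPerfect (DCoh.inD X F) :=
  (isPerfect_iff_sprepAt _).2 (fun y => sprepAt_inD_of_isFinLocFree F hF y)

/-- restriction of coherent modules -/
lemma isCoh_restrict {W : Scheme.{u}} (j : W ⟶ X) [IsOpenImmersion j] (F : X.Modules)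
    (hF : Coh.IsCoh F) : Coh.IsCoh (F.restrict j) := by
  have := hF.1
  have := hF.2
  exact ⟨Scheme.Modules.isQuasicoherent_restrictFunctor j F,
    Groth.Agent.Lib.Helper23.FinType.isFiniteType_restrict j F⟩

/-- a coherent module on a locally Noetherian scheme is `(1-k)`-pseudo-coherent for all `k` -/
theorem isPC_inD_of_isCoh_aux (k : ℕ) : ∀ (Y : Scheme.{u}) [IsLocallyNoetherian Y] (F : Y.Modules),
    Coh.IsCoh F → DCoh.IsPseudoCoherentD (1 - k) (DCoh.inD Y F) := by
  induction k with
  | zero =>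
    intro Y _ F _
    refine isPC_of_isLE _ ?_
    have : (DCoh.inD Y F).IsLE 0 := inferInstance
    simpa using this
  | succ k ih =>
    intro Y _ F hF
    have := hF.1
    have := hF.2
    refine isPC_of_local (fun y => ?_)
    obtain ⟨V, hV, hyV⟩ : ∃ V : Y.Opens, IsAffineOpen V ∧ y ∈ V := by
      obtain ⟨_, ⟨U, hU, rfl⟩, hxU, -⟩ :=
        Y.isBasis_affineOpens.exists_subset_of_mem_open (Set.mem_univ y) isOpen_univ
      exact ⟨U, hU, hxU⟩
    refine ⟨V, hyV, ?_⟩
    haveI : Module.Finite Γ(Y, V) Γ(F, V) :=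
      Groth.Agent.Lib.Helper23.FinType.finite_of_isFiniteType F hV
    obtain ⟨r, g, hg⟩ := Module.Finite.exists_fin (R := Γ(Y, V)) (M := Γ(F, V))
    obtain ⟨π, hπ⟩ := Groth.Agent.Helper18FittSh.exists_epi_freeMod_restrict F hV g hg
    let S : ShortComplex (V : Scheme.{u}).Modules :=
      ShortComplex.mk (kernel.ι π) π (kernel.condition π)
    have hS : S.ShortExact :=
      { exact := ShortComplex.exact_kernel π
        mono_f := inferInstanceAs (Mono (kernel.ι π))
        epi_g := inferInstanceAs (Epi π) }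
    have hfree : FlatMod.IsFinLocFree (FlatMod.freeMod (V : Scheme.{u}) r) :=
      Groth.Agent.Lib.Helper2.LocFree.isFinLocFree_of_iso_freeMod _ (Iso.refl _)
    have hK : Coh.IsCoh (kernel π) := isCoh_kernel π (isCoh_freeMod r) (isCoh_restrict V.ι F hF)
    have h1 : DCoh.IsPseudoCoherentD (1 - k) (DCoh.inD _ (kernel π)) := ih _ _ hK
    have h2 : DCoh.IsPseudoCoherentD (-(k : ℤ)) (DCoh.inD _ (FlatMod.freeMod (V : Scheme.{u}) r)) :=
      Groth.Agent.Lib.Seat0.FlatPerf.isPC_of_isPerfect _ (isPerfect_inD_of_isFinLocFree _ hfree) _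
    have h3 := isPC_obj₃ hS.singleTriangle hS.singleTriangle_distinguished (-(k : ℤ))
      (by rw [show -(k : ℤ) + 1 = 1 - k by ring]; exact h1) h2
    refine isPC_of_iso (Groth.Agent.Lib.Seat63.RegPerf.restrictInDIso V.ι F).symm ?_
    rw [show (1 : ℤ) - ((k + 1 : ℕ) : ℤ) = -(k : ℤ) by push_cast; ring]
    exact h3

theorem isPC_inD_of_isCoh [IsLocallyNoetherian X] (F : X.Modules) (hF : Coh.IsCoh F) (n : ℤ) :
    DCoh.IsPseudoCoherentD n (DCoh.inD X F) := by
  obtain ⟨k, hk⟩ : ∃ k : ℕ, (1 : ℤ) - k ≤ n := ⟨(1 - n).toNat, by omega⟩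
  exact isPC_mono hk (isPC_inD_of_isCoh_aux k X F hF)

/-- pseudo-coherent in every degree -/
def PCAll (X : Scheme.{u}) : ObjectProperty (DCoh.D X) :=
  fun K => ∀ n : ℤ, DCoh.IsPseudoCoherentD n K

instance : (PCAll X).IsClosedUnderIsomorphisms := ⟨fun e h n => isPC_of_iso e (h n)⟩

lemma pcAll_of_isZero (K : DCoh.D X) (hK : IsZero K) : PCAll X K := by
  intro n
  refine isPC_of_isLE n ?_
  rw [isLE_iff]
  intro i _
  exact (homologyFunctor _ i).map_isZero hK

/-- bounded above with coherent cohomology in degrees `≥ m` implies `m`-pseudo-coherent -/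
theorem isPC_of_coh_cohomology [IsLocallyNoetherian X] (E : DCoh.D X) (m b : ℤ) [E.IsLE b]
    (h : ∀ i : ℤ, m ≤ i → Coh.IsCoh (DCoh.HD E i)) : DCoh.IsPseudoCoherentD m E := by
  have hT := tt.triangleLTGE_distinguished m E
  have h1 : DCoh.IsPseudoCoherentD m ((tt.truncLT m).obj E) :=
    isPC_of_isLE m (inferInstance : ((tt.truncLT m).obj E).IsLE (m - 1))
  have h3 : PCAll X ((tt.truncGE m).obj E) := by
    apply Groth.Agent.Lib.Helper1.Devissage.induction_homology' (PCAll X) pcAll_of_isZero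
      (fun T hT h1 h3 n => (isPC_triangle n T hT).2.1 (h1 n) (h3 n)) _ m b
    · rintro i (hi | hi)
      · exact isZero_of_isGE _ m i hi
      · by_cases hmi : m ≤ i
        · have := isIso_homology_truncGEπ m i hmi E
          exact IsZero.of_iso (isZero_of_isLE E b i hi)
            (asIso ((homologyFunctor _ i).map ((tt.truncGEπ m).app E))).symm
        · exact isZero_of_isGE _ m i (by omega)
    · intro j hj1 _ n
      have := isIso_homology_truncGEπ m j hj1 E
      have hc : Coh.IsCoh ((homologyFunctor _ j).obj ((tt.truncGE m).obj E)) :=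
        isCoh_of_iso (asIso ((homologyFunctor _ j).map ((tt.truncGEπ m).app E))) (h j hj1)
      exact isPC_of_iso (((singleFunctors X.Modules).shiftIso (-j) j 0 (by omega)).app _)
        (isPC_shift _ (-j + n) (-j) n rfl (isPC_inD_of_isCoh _ hc _))
  exact (isPC_triangle m _ hT).2.1 h1 (h3 m)

/-- on a Noetherian scheme an `m`-pseudo-coherent object with quasi-coherent cohomology has
coherent cohomology in degrees `≥ m` and is bounded above -/
theorem coh_cohomology_of_isPC [IsNoetherian X] (E : DCoh.D X) (hE : DCoh.IsQCohD E) (m : ℤ)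
    (hpc : DCoh.IsPseudoCoherentD m E) :
    (∀ i : ℤ, m ≤ i → Coh.IsCoh (DCoh.HD E i)) ∧ ∃ b : ℤ, E.IsLE b := by
  constructor
  · intro i hi
    have hp := (isPC_iff_pcrep m E).1 hpc
    choose V hxV P α hP hα using hp
    have hcov : IsOpenCover V := by
      rw [IsOpenCover, eq_top_iff]
      intro x _
      exact Opens.mem_iSup.2 ⟨x, hxV x⟩
    refine isCoh_of_open_cover _ V hcov (fun x => ?_)
    have hA : Coh.IsCoh (DCoh.HD (Q.obj (P x)) i) :=
      isCoh_of_iso ((homologyFunctorFactors _ i).app (P x)).symm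
        (isCoh_homology_of_isStrictlyPerfect (P x) (hP x) i)
    have hq : ((DCoh.HD E i).restrict (V x).ι).IsQuasicoherent := by
      have := hE i
      exact Scheme.Modules.isQuasicoherent_restrictFunctor (V x).ι (DCoh.HD E i)
    let e := Groth.Agent.Lib.Seat0.TopCoh.restrictHDIso (V x).ι E i
    have hepi : Epi ((homologyFunctor _ i).map (α x)) := by
      rcases hi.eq_or_lt with rfl | hlt
      · exact (hα x).2
      · have := (hα x).1 i hlt
        infer_instance
    have := hA.1
    have := hA.2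
    have hepi' : Epi ((homologyFunctor _ i).map (α x) ≫ e.hom) := epi_comp _ _
    exact ⟨hq, Groth.Agent.Lib.Helper23.FinType.isFiniteType_of_epi
      ((homologyFunctor _ i).map (α x) ≫ e.hom)⟩
  · choose V hxV N hN using fun x => exists_isLE_of_isPC hpc x
    obtain ⟨t, ht⟩ := isCompact_univ.elim_finite_subcover (fun x => (V x : Set X))
      (fun x => (V x).2) (by intro y _; exact Set.mem_iUnion.2 ⟨y, hxV y⟩)
    have hcov' : IsOpenCover (fun x : t => V x.1) := by
      rw [IsOpenCover, eq_top_iff]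
      intro y _
      obtain ⟨x, hx⟩ := Set.mem_iUnion.1 (ht (Set.mem_univ y))
      obtain ⟨hxt, hyx⟩ := Set.mem_iUnion.1 hx
      exact Opens.mem_iSup.2 ⟨⟨x, hxt⟩, hyx⟩
    obtain ⟨b0, hb0⟩ := (t.image N).exists_le
    refine ⟨b0, ?_⟩
    rw [isLE_iff]
    intro i hi
    refine isZero_of_open_cover _ _ hcov' (fun x => ?_)
    refine IsZero.of_iso ?_ (Groth.Agent.Lib.Seat0.TopCoh.restrictHDIso (V x.1).ι E i).symm
    have := hN x.1
    have h2 := hb0 (N x.1) (Finset.mem_image_of_mem N x.2)
    exact isZero_of_isLE _ (N x.1) i (by omega)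

/-- S1039 -/
theorem isPC_iff_coh_cohomology [IsNoetherian X] (E : DCoh.D X) (hE : DCoh.IsQCohD E) (m : ℤ) :
    DCoh.IsPseudoCoherentD m E ↔
      (∀ i : ℤ, m ≤ i → Coh.IsCoh (DCoh.HD E i)) ∧ ∃ b : ℤ, E.IsLE b := by
  constructor
  · exact coh_cohomology_of_isPC E hE m
  · rintro ⟨h, b, hb⟩
    exact isPC_of_coh_cohomology E m b h

end Groth.Agent.Lib.Seat63.PCCoh
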