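import Mathlib

/-!
# A primitive element for finite étale algebras, with an explicit count (seat 63)
-/

set_option autoImplicit false
set_option linter.style.haveILetI false
universe u

open Module Polynomial

namespace Groth.Agent.Lib.Seat63.PrimElt

variable {K L : Type u} [Field K] [CommRing L] [Algebra K L]

/-- If `ι`-many algebra maps to a field take pairwise distinct values at `w` and `ι` has at least
`finrank K L` elements then `w` generates `L`. -/
theorem adjoin_eq_top_of_injective [Module.Finite K L] {Ω : Type u} [Field Ω] [Algebra K Ω]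
    {ι : Type u} [Fintype ι] (Φ : ι → (L →ₐ[K] Ω)) (hcard : finrank K L ≤ Fintype.card ι)
    (w : L) (hw : Function.Injective fun i => Φ i w) :
    Algebra.adjoin K ({w} : Set L) = ⊤ := by
  classical
  have hint : IsIntegral K w := Algebra.IsIntegral.isIntegral w
  have hm0 : minpoly K w ≠ 0 := minpoly.ne_zero hint
  have hm0' : (minpoly K w).map (algebraMap K Ω) ≠ 0 :=
    (Polynomial.map_ne_zero_iff (algebraMap K Ω).injective).mpr hm0
  -- the values are roots of the minimal polynomial
  have hroot : ∀ i, Φ i w ∈ ((minpoly K w).map (algebraMap K Ω)).roots := by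
    intro i
    rw [mem_roots hm0', IsRoot.def, eval_map, ← aeval_def, aeval_algHom_apply, minpoly.aeval,
      map_zero]
  have hZ : (Finset.univ.image fun i => Φ i w).val ⊆ ((minpoly K w).map (algebraMap K Ω)).roots := by
    intro x hx
    rw [Finset.mem_val, Finset.mem_image] at hx
    obtain ⟨i, -, rfl⟩ := hx
    exact hroot i
  have h1 := card_le_degree_of_subset_roots hZ
  rw [Finset.card_image_of_injective _ hw, Finset.card_univ, natDegree_map] at h1
  -- dimension count
  have h2 : finrank K (Algebra.adjoin K ({w} : Set L)) = (minpoly K w).natDegree := by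
    rw [(Algebra.adjoin.powerBasis hint).finrank]
    rfl
  have h3 : finrank K (Algebra.adjoin K ({w} : Set L)) = finrank K L := by
    apply le_antisymm
    · exact Submodule.finrank_le (Subalgebra.toSubmodule (Algebra.adjoin K ({w} : Set L)))
    · rw [h2]; exact hcard.trans h1
  exact Algebra.toSubmodule_eq_top.1 (Submodule.eq_top_of_finrank_eq <|
    (Subalgebra.finrank_toSubmodule _).trans h3)


section Homs

variable [Module.Finite K L] [IsReduced L] [Algebra.IsSeparable K L]

omit [Module.Finite K L] [IsReduced L] in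
theorem isSeparable_quot (m : MaximalSpectrum L) :
    letI : Field (L ⧸ m.asIdeal) := Ideal.Quotient.field m.asIdeal
    Algebra.IsSeparable K (L ⧸ m.asIdeal) := by
  letI : Field (L ⧸ m.asIdeal) := Ideal.Quotient.field m.asIdeal
  refine ⟨fun y => ?_⟩
  obtain ⟨x, rfl⟩ := Ideal.Quotient.mk_surjective y
  have hx : (minpoly K x).Separable := Algebra.IsSeparable.isSeparable K x
  have h0 : aeval (Ideal.Quotient.mk m.asIdeal x) (minpoly K x) = 0 := by
    have := aeval_algHom_apply (Ideal.Quotient.mkₐ K m.asIdeal) x (minpoly K x)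
    rw [Ideal.Quotient.mkₐ_eq_mk] at this
    rw [this, minpoly.aeval, map_zero]
  exact hx.of_dvd (minpoly.dvd K _ h0)

/-- There are `finrank K L` distinct `K`-algebra maps from a finite reduced separable `K`-algebra to
the algebraic closure of `K`. -/
theorem exists_homs : ∃ (ι : Type u) (_ : Fintype ι) (Φ : ι → (L →ₐ[K] AlgebraicClosure K)),
    Fintype.card ι = finrank K L ∧ Function.Injective Φ := by
  classical
  haveI : IsArtinianRing L := isArtinian_of_tower K inferInstance
  letI : Fintype (MaximalSpectrum L) := Fintype.ofFinite _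
  letI hF : ∀ m : MaximalSpectrum L, Field (L ⧸ m.asIdeal) := fun m => Ideal.Quotient.field m.asIdeal
  haveI hsep : ∀ m : MaximalSpectrum L, Algebra.IsSeparable K (L ⧸ m.asIdeal) := isSeparable_quot
  haveI hfin : ∀ m : MaximalSpectrum L, FiniteDimensional K (L ⧸ m.asIdeal) := fun m =>
    Module.Finite.of_surjective (Ideal.Quotient.mkₐ K m.asIdeal).toLinearMap
      (Ideal.Quotient.mkₐ_surjective K m.asIdeal)
  refine ⟨Σ m : MaximalSpectrum L, ((L ⧸ m.asIdeal) →ₐ[K] AlgebraicClosure K), inferInstance,
    fun p => p.2.comp (Ideal.Quotient.mkₐ K p.1.asIdeal), ?_, ?_⟩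
  · rw [Fintype.card_sigma]
    have e : L ≃ₗ[K] (∀ m : MaximalSpectrum L, L ⧸ m.asIdeal) :=
      ((IsArtinianRing.equivPi L).restrictScalars K).toLinearEquiv
    rw [e.finrank_eq, Module.finrank_pi_fintype]
    refine Finset.sum_congr rfl fun m _ => ?_
    rw [← AlgHom.card K (L ⧸ m.asIdeal) (AlgebraicClosure K)]
  · rintro ⟨m, σ⟩ ⟨m', σ'⟩ h
    have hker : ∀ (n : MaximalSpectrum L) (τ : (L ⧸ n.asIdeal) →ₐ[K] AlgebraicClosure K) (x : L),
        (τ.comp (Ideal.Quotient.mkₐ K n.asIdeal)) x = 0 ↔ x ∈ n.asIdeal := by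
      intro n τ x
      rw [AlgHom.comp_apply, Ideal.Quotient.mkₐ_eq_mk, map_eq_zero_iff τ τ.toRingHom.injective,
        Ideal.Quotient.eq_zero_iff_mem]
    have hm : m = m' := by
      apply MaximalSpectrum.ext
      ext x
      rw [← hker m σ x, ← hker m' σ' x]
      change (fun p : Σ m : MaximalSpectrum L, ((L ⧸ m.asIdeal) →ₐ[K] AlgebraicClosure K) =>
        p.2.comp (Ideal.Quotient.mkₐ K p.1.asIdeal)) ⟨m, σ⟩ x = 0 ↔ _
      rw [h]
    subst hm
    congr 1
    ext y
    obtain ⟨x, rfl⟩ := Ideal.Quotient.mk_surjective y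
    exact DFunLike.congr_fun h x

end Homs

theorem arith (d : ℕ) : d * d - d < d ^ (4 * d) := by
  rcases Nat.lt_or_ge d 2 with h | h
  · interval_cases d <;> simp
  · have h1 : d * d - d < d * d := Nat.sub_lt (by positivity) (by omega)
    have h2 : d * d = d ^ 2 := (sq d).symm
    have h3 : d ^ 2 ≤ d ^ (4 * d) := Nat.pow_le_pow_right (by omega) (by omega)
    omega

/-- The main statement. -/
theorem exists_adjoin_eq_top [Module.Finite K L] [IsReduced L] [Algebra.IsSeparable K L] (z t : L)
    (hgen : Algebra.adjoin K ({z, t} : Set L) = ⊤) (S : Finset K)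
    (hS : finrank K L ^ (4 * finrank K L) ≤ S.card) :
    ∃ c ∈ S, Algebra.adjoin K ({c • z + t} : Set L) = ⊤ := by
  classical
  obtain ⟨ι, _, Φ, hcard, hΦ⟩ := exists_homs (K := K) (L := L)
  set bad : ι × ι → Finset K := fun p =>
    S.filter (fun c => Φ p.1 (c • z + t) = Φ p.2 (c • z + t)) with hbad
  have hbad1 : ∀ p ∈ (Finset.univ : Finset ι).offDiag, (bad p).card ≤ 1 := by
    rintro ⟨i, j⟩ hp
    rw [Finset.mem_offDiag] at hp
    have hij : i ≠ j := hp.2.2
    rw [Finset.card_le_one]
    intro c hc c' hc'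
    rw [hbad, Finset.mem_filter] at hc hc'
    by_contra hne
    have e1 := hc.2
    have e2 := hc'.2
    simp only [map_add, map_smul] at e1 e2
    have e3 : (c - c') • (Φ i z - Φ j z) = 0 := by
      have : c • Φ i z - c • Φ j z = c' • Φ i z - c' • Φ j z := by
        linear_combination (exp := 1) e1 - e2
      rw [sub_smul, smul_sub, smul_sub]
      linear_combination (exp := 1) this
    have hz : Φ i z = Φ j z := by
      rcases smul_eq_zero.mp e3 with h | h
      · exact absurd (sub_eq_zero.mp h) hne
      · exact sub_eq_zero.mp h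
    have ht : Φ i t = Φ j t := by
      rw [hz] at e1
      exact add_left_cancel e1
    have : Φ i = Φ j := by
      apply AlgHom.ext_of_adjoin_eq_top hgen
      intro x hx
      rcases hx with rfl | rfl
      · exact hz
      · exact ht
    exact hij (hΦ this)
  set B : Finset K := (Finset.univ : Finset ι).offDiag.biUnion bad with hB
  have hBcard : B.card ≤ finrank K L * finrank K L - finrank K L := by
    calc B.card ≤ ∑ p ∈ (Finset.univ : Finset ι).offDiag, (bad p).card := Finset.card_biUnion_le
      _ ≤ ∑ _p ∈ (Finset.univ : Finset ι).offDiag, 1 := Finset.sum_le_sum hbad1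
      _ = finrank K L * finrank K L - finrank K L := by
        rw [Finset.sum_const, smul_eq_mul, mul_one, Finset.offDiag_card, Finset.card_univ, hcard]
  have hlt : B.card < S.card := lt_of_le_of_lt hBcard (lt_of_lt_of_le (arith _) hS)
  obtain ⟨c, hcS, hcB⟩ := Finset.exists_mem_notMem_of_card_lt_card hlt
  refine ⟨c, hcS, adjoin_eq_top_of_injective Φ hcard.ge _ ?_⟩
  intro i j hij
  by_contra hne
  apply hcB
  rw [hB, Finset.mem_biUnion]
  refine ⟨(i, j), ?_, ?_⟩
  · rw [Finset.mem_offDiag]
    exact ⟨Finset.mem_univ _, Finset.mem_univ _, hne⟩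
  · rw [hbad, Finset.mem_filter]
    exact ⟨hcS, hij⟩

end Groth.Agent.Lib.Seat63.PrimElt
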