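/-
Seat63RHomCx: computing `DRing.RHomCx` (total right derived functor of `Hom•(K, -)`).
* `quasiIso_of_elementwise`: elementwise criterion for quasi-isomorphisms of complexes of modules.
* `postcomp_bijective_of_isKProjective`.
* `quasiIso_homCxMap_of_isKProjective`: `Hom•(E, -)` preserves quasi-isomorphisms for K-projective `E`.
* `isKProjective_of_vanishesAbove`, `isInvertedBy_homCxQ`, `isIso_unit_of_isKProjective`,
  `RHomCxIsoOfIsKProjective : (RHomCx P).obj (Q L) ≅ Q (homCx P L)` for K-projective `P`.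
-/
import Mathlib
import Groth.Prelude.Def_DRing4

set_option autoImplicit false
universe u v
open CategoryTheory CategoryTheory.Limits CochainComplex CochainComplex.HomComplex
attribute [local instance] HasDerivedCategory.standard

namespace Groth.Agent.Lib.Seat63.RHomCx

section QIso

variable {R : Type u} [Ring R]

/-- elementwise criterion for a morphism of short complexes of modules to be a quasi-isomorphism -/
lemma shortComplex_quasiIso_of_elementwise {S T : ShortComplex (ModuleCat.{v} R)} (φ : S ⟶ T)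
    (hinj : ∀ x : S.X₂, S.g x = 0 → (∃ z : T.X₁, T.f z = φ.τ₂ x) → ∃ w : S.X₁, S.f w = x)
    (hsurj : ∀ y : T.X₂, T.g y = 0 → ∃ x : S.X₂, S.g x = 0 ∧ ∃ z : T.X₁, T.f z = φ.τ₂ x - y) :
    ShortComplex.QuasiIso φ := by
  let h₁ := S.moduleCatLeftHomologyData
  let h₂ := T.moduleCatLeftHomologyData
  let γ := ShortComplex.leftHomologyMapData φ h₁ h₂
  rw [γ.quasiIso_iff]
  have hπ₁ : Function.Surjective h₁.π := Submodule.mkQ_surjective _
  have hπ₂ : Function.Surjective h₂.π := Submodule.mkQ_surjective _
  have commπ : ∀ x, γ.φH (h₁.π x) = h₂.π (γ.φK x) := fun x => by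
    have := γ.commπ
    exact congr($this x)
  have commi : ∀ x, h₂.i (γ.φK x) = φ.τ₂ (h₁.i x) := fun x => by
    have := γ.commi
    exact congr($this x)
  have hbij : Function.Bijective γ.φH := by
    constructor
    · rw [injective_iff_map_eq_zero]
      intro a ha
      obtain ⟨x, rfl⟩ := hπ₁ a
      rw [commπ] at ha
      have h2 : γ.φK x ∈ LinearMap.range T.moduleCatToCycles :=
        (Submodule.Quotient.mk_eq_zero _).1 ha
      obtain ⟨z, hz⟩ := h2
      have hx : S.g (h₁.i x) = 0 := x.2
      obtain ⟨w, hw⟩ := hinj (h₁.i x) hx ⟨z, by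
        rw [← commi]
        exact congrArg Subtype.val hz⟩
      refine (Submodule.Quotient.mk_eq_zero _).2 ⟨w, ?_⟩
      exact Subtype.ext hw
    · intro b
      obtain ⟨y, rfl⟩ := hπ₂ b
      obtain ⟨x, hx, z, hz⟩ := hsurj (h₂.i y) y.2
      have hx' : x ∈ LinearMap.ker S.g.hom := hx
      obtain ⟨xK, hxK⟩ : ∃ xK : h₁.K, h₁.i xK = x := ⟨⟨x, hx'⟩, rfl⟩
      refine ⟨h₁.π xK, ?_⟩
      rw [commπ]
      refine (Submodule.Quotient.eq _).2 ⟨z, ?_⟩
      apply Subtype.ext
      have := commi xK
      rw [hxK] at this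
      change T.f z = h₂.i (γ.φK xK) - h₂.i y
      rw [this]
      exact hz
  exact (ConcreteCategory.isIso_iff_bijective _).2 hbij

/-- elementwise criterion for a morphism of cochain complexes of modules to be a quasi-isomorphism -/
lemma quasiIso_of_elementwise {X Y : CochainComplex (ModuleCat.{v} R) ℤ} (φ : X ⟶ Y)
    (hinj : ∀ (n : ℤ) (x : X.X n), X.d n (n + 1) x = 0 →
      (∃ z : Y.X (n - 1), Y.d (n - 1) n z = φ.f n x) → ∃ w : X.X (n - 1), X.d (n - 1) n w = x)
    (hsurj : ∀ (n : ℤ) (y : Y.X n), Y.d n (n + 1) y = 0 →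
      ∃ x : X.X n, X.d n (n + 1) x = 0 ∧ ∃ z : Y.X (n - 1), Y.d (n - 1) n z = φ.f n x - y) :
    QuasiIso φ := by
  rw [quasiIso_iff]
  intro n
  rw [quasiIsoAt_iff' φ (n - 1) n (n + 1) (by simp) (by simp)]
  exact shortComplex_quasiIso_of_elementwise _ (hinj n) (hsurj n)

end QIso

section Bij

variable {C : Type u} [Category.{v} C] [Abelian C]

/-- postcomposition with a quasi-isomorphism is bijective on homotopy classes out of a
K-projective complex -/
lemma postcomp_bijective_of_isKProjective [HasDerivedCategory C] (E : CochainComplex C ℤ) [E.IsKProjective]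
    {L L' : CochainComplex C ℤ} (f : L ⟶ L') [QuasiIso f] :
    Function.Bijective (fun g : ((HomotopyCategory.quotient C (ComplexShape.up ℤ)).obj E ⟶
      (HomotopyCategory.quotient C (ComplexShape.up ℤ)).obj L) =>
        g ≫ (HomotopyCategory.quotient C (ComplexShape.up ℤ)).map f) := by
  have h1 := CochainComplex.IsKProjective.Qh_map_bijective E
    ((HomotopyCategory.quotient C (ComplexShape.up ℤ)).obj L)
  have h2 := CochainComplex.IsKProjective.Qh_map_bijective E
    ((HomotopyCategory.quotient C (ComplexShape.up ℤ)).obj L')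
  have : IsIso (DerivedCategory.Qh.map ((HomotopyCategory.quotient C (ComplexShape.up ℤ)).map f)) := by
    have : IsIso (DerivedCategory.Q.map f) := inferInstance
    exact ((MorphismProperty.isomorphisms _).arrow_mk_iso_iff
      (Arrow.isoOfNatIso (DerivedCategory.quotientCompQhIso C) (Arrow.mk f))).2 this
  have h3 : Function.Bijective (fun g : (DerivedCategory.Qh.obj ((HomotopyCategory.quotient C (ComplexShape.up ℤ)).obj E) ⟶
      DerivedCategory.Qh.obj ((HomotopyCategory.quotient C (ComplexShape.up ℤ)).obj L)) =>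
        g ≫ DerivedCategory.Qh.map ((HomotopyCategory.quotient C (ComplexShape.up ℤ)).map f)) :=
    ⟨fun a b h => (cancel_mono _).1 h, fun b => ⟨b ≫ inv (DerivedCategory.Qh.map
      ((HomotopyCategory.quotient C (ComplexShape.up ℤ)).map f)), by simp⟩⟩
  have : (DerivedCategory.Qh.map ∘ fun g : ((HomotopyCategory.quotient C (ComplexShape.up ℤ)).obj E ⟶
      (HomotopyCategory.quotient C (ComplexShape.up ℤ)).obj L) =>
        g ≫ (HomotopyCategory.quotient C (ComplexShape.up ℤ)).map f) =
      (fun g => g ≫ DerivedCategory.Qh.map ((HomotopyCategory.quotient C (ComplexShape.up ℤ)).map f)) ∘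
        DerivedCategory.Qh.map := by
    ext g
    simp
  refine (Function.Bijective.of_comp_iff' h2 _).1 ?_
  rw [this]
  exact h3.comp h1

end Bij


section HomCx

variable {A : Type u} [CommRing A]

lemma homCx_d_apply (E L : DRing.Cx A) (n m : ℤ) (z : Cochain E L n) :
    ((DRing.homCx E L).d n m).hom z = δ n m z := rfl

lemma homCxMap_f_apply (E : DRing.Cx A) {L L' : DRing.Cx A} (f : L ⟶ L') (n : ℤ) (z : Cochain E L n) :
    ((DRing.homCxMap E f).f n).hom z = z.comp (Cochain.ofHom f) (add_zero n) := rfl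

/-- `Hom•(E, f)` is a quasi-isomorphism as soon as postcomposition with the shifts of `f` is
bijective on homotopy classes of maps out of `E` -/
theorem quasiIso_homCxMap_of_bijective (E : DRing.Cx A)
    {L L' : DRing.Cx A} (f : L ⟶ L')
    (hb : ∀ n : ℤ, Function.Bijective (fun g : ((HomotopyCategory.quotient _ (ComplexShape.up ℤ)).obj E ⟶
      (HomotopyCategory.quotient _ (ComplexShape.up ℤ)).obj (L⟦n⟧)) =>
        g ≫ (HomotopyCategory.quotient _ (ComplexShape.up ℤ)).map (f⟦n⟧'))) :
    QuasiIso (DRing.homCxMap E f) := by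
  have key : ∀ (n : ℤ) (x : Cocycle E L n), CohomologyClass.toHom (CohomologyClass.mk (x.postcomp f)) =
      CohomologyClass.toHom (CohomologyClass.mk x) ≫
        (HomotopyCategory.quotient _ (ComplexShape.up ℤ)).map (f⟦n⟧') := fun n x => by
    rw [CohomologyClass.toHom_mk, CohomologyClass.toHom_mk, Cocycle.equivHomShift_symm_postcomp,
      Functor.map_comp]
  apply quasiIso_of_elementwise
  · intro n x hx hz
    obtain ⟨x, rfl⟩ : ∃ x' : Cochain E L n, x' = x := ⟨x, rfl⟩
    change δ n (n + 1) x = 0 at hx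
    obtain ⟨z, hz⟩ := hz
    obtain ⟨z, rfl⟩ : ∃ z' : Cochain E L' (n - 1), z' = z := ⟨z, rfl⟩
    change δ (n - 1) n z = x.comp (Cochain.ofHom f) (add_zero n) at hz
    let X : Cocycle E L n := Cocycle.mk x (n + 1) rfl hx
    have h1 : CohomologyClass.mk (X.postcomp f) = 0 := by
      rw [CohomologyClass.mk_eq_zero_iff, mem_coboundaries_iff _ (n - 1) (by simp)]
      exact ⟨z, hz⟩
    have h2 : CohomologyClass.toHom (CohomologyClass.mk X) = 0 := by
      apply (hb n).1
      simp only [zero_comp]
      rw [← key, h1, map_zero]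
    rw [CohomologyClass.toHom_mk_eq_zero_iff, mem_coboundaries_iff _ (n - 1) (by simp)] at h2
    obtain ⟨w, hw⟩ := h2
    exact ⟨w, hw⟩
  · intro n y hy
    obtain ⟨y, rfl⟩ : ∃ y' : Cochain E L' n, y' = y := ⟨y, rfl⟩
    change δ n (n + 1) y = 0 at hy
    let Y : Cocycle E L' n := Cocycle.mk y (n + 1) rfl hy
    obtain ⟨g, hg⟩ := (hb n).2 (CohomologyClass.toHom (CohomologyClass.mk Y))
    obtain ⟨c, rfl⟩ := (CohomologyClass.toHom_bijective E L n).2 g
    obtain ⟨X, rfl⟩ := c.mk_surjective
    dsimp only at hg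
    rw [← key, ← sub_eq_zero, ← map_sub, ← CohomologyClass.mk_sub,
      CohomologyClass.toHom_mk_eq_zero_iff, mem_coboundaries_iff _ (n - 1) (by simp)] at hg
    obtain ⟨z, hz⟩ := hg
    refine ⟨X.1, X.δ_eq_zero _, z, ?_⟩
    change δ (n - 1) n z = X.1.comp (Cochain.ofHom f) (add_zero n) - y
    rw [hz]
    rfl

/-- `Hom•(E, -)` preserves quasi-isomorphisms when `E` is K-projective -/
theorem quasiIso_homCxMap_of_isKProjective (E : DRing.Cx A) [E.IsKProjective]
    {L L' : DRing.Cx A} (f : L ⟶ L') [QuasiIso f] : QuasiIso (DRing.homCxMap E f) :=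
  quasiIso_homCxMap_of_bijective E f (fun n => postcomp_bijective_of_isKProjective E (f⟦n⟧'))

end HomCx


section KProj

variable {A : Type u} [CommRing A]

lemma isKProjective_of_vanishesAbove (E : DRing.Cx A) (b : ℤ) (hb : DRing.VanishesAbove E b)
    (hp : ∀ i : ℤ, Module.Projective A (E.X i)) : E.IsKProjective := by
  have hEle : E.IsStrictlyLE b := by
    rw [CochainComplex.isStrictlyLE_iff]
    exact hb
  have : ∀ i : ℤ, Projective (E.X i) := fun i =>
    have := hp i
    ModuleCat.projective_of_categoryTheory_projective _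
  exact CochainComplex.isKProjective_of_projective E b

/-- for K-projective `P`, `Hom•(P, -) ⋙ Q` inverts quasi-isomorphisms -/
lemma isInvertedBy_homCxQ (P : DRing.Cx A) [P.IsKProjective] :
    (HomologicalComplex.quasiIso (ModuleCat.{u} A) (ComplexShape.up ℤ)).IsInvertedBy (DRing.homCxQ P) := by
  intro L L' f hf
  have : QuasiIso f := hf
  have := quasiIso_homCxMap_of_isKProjective P f
  change IsIso (DerivedCategory.Q.map (DRing.homCxMap P f))
  infer_instance

/-- for K-projective `P`, the unit of the derived functor `RHom(P, -)` is an isomorphism -/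
lemma isIso_unit_of_isKProjective (P : DRing.Cx A) [P.IsKProjective] [DRing.HasRHomCx P] :
    IsIso ((DRing.homCxQ P).totalRightDerivedUnit DerivedCategory.Q
      (HomologicalComplex.quasiIso (ModuleCat.{u} A) (ComplexShape.up ℤ))) :=
  Functor.isIso_of_isRightDerivedFunctor_of_inverts _ _ (isInvertedBy_homCxQ P)

/-- for K-projective `P`, `RHom(P, L)` is computed by `Hom•(P, L)` -/
noncomputable def RHomCxIsoOfIsKProjective (P : DRing.Cx A) [P.IsKProjective] [DRing.HasRHomCx P]
    (L : DRing.Cx A) : (DRing.RHomCx P).obj (DRing.toD L) ≅ DRing.toD (DRing.homCx P L) :=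
  have := isIso_unit_of_isKProjective P
  (asIso (((DRing.homCxQ P).totalRightDerivedUnit DerivedCategory.Q
      (HomologicalComplex.quasiIso (ModuleCat.{u} A) (ComplexShape.up ℤ))).app L)).symm

end KProj

end Groth.Agent.Lib.Seat63.RHomCx
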