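import Groth.Agent.Lib.Seat63RHomCxInj

/-
Seat63RHomCxDual: the dual `Hom•(P, A)` of a complex and biduality.
* `S0 A`, `dualD P = Hom•(P, A[0])`, `dualEquiv : Cochain P A[0] n ≃ₗ Dual (P^p)` (`p + n = 0`),
  `dualD_vanishesOutside`, `dualD_termwiseFiniteProjective`.
* `bidual P : P ⟶ dualD (dualD P)` (chain map, sign `(-1)^n` in degree `n`), `isIso_bidual`.
* `isPerfect_dual_and_double_dual` (= S6963).
-/

set_option autoImplicit false
universe u v
open CategoryTheory CategoryTheory.Limits CochainComplex CochainComplex.HomComplex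
attribute [local instance] HasDerivedCategory.standard

namespace Groth.Agent.Lib.Seat63.RHomCx

section DualCx

variable {A : Type u} [CommRing A]

variable (A) in
/-- the ring as a complex in degree `0` -/
noncomputable abbrev S0 : DRing.Cx A :=
  (CochainComplex.singleFunctor (ModuleCat.{u} A) 0).obj (ModuleCat.of A A)

/-- the dual complex `Hom•(P, A)` -/
noncomputable abbrev dualD (P : DRing.Cx A) : DRing.Cx A := DRing.homCx P (S0 A)

set_option backward.isDefEq.respectTransparency false in
/-- cochains to `A[0]` of degree `n` are linear forms on `P^p`, `p + n = 0` -/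
noncomputable def dualEquiv (P : DRing.Cx A) {n p : ℤ} (h : p + n = 0) :
    Cochain P (S0 A) n ≃ₗ[A] Module.Dual A (P.X p) where
  toFun z := (Cochain.toSingleEquiv h z).hom
  invFun f := (Cochain.toSingleEquiv h).symm (ModuleCat.ofHom f)
  map_add' z z' := by
    rw [map_add]
    rfl
  map_smul' a z := by
    dsimp [Cochain.toSingleEquiv]
    exact LinearMap.comp_smul _ _ _
  left_inv z := by
    simp
  right_inv f := by
    simp

lemma dualEquiv_symm_apply (P : DRing.Cx A) {n p : ℤ} (h : p + n = 0) (f : Module.Dual A (P.X p)) :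
    (dualEquiv P h).symm f = Cochain.toSingleMk (ModuleCat.ofHom f) h := rfl

lemma dualEquiv_toSingleMk (P : DRing.Cx A) {n p : ℤ} (h : p + n = 0) (f : P.X p ⟶ ModuleCat.of A A) :
    dualEquiv P h (Cochain.toSingleMk f h) = f.hom := by
  change (Cochain.toSingleEquiv h (Cochain.toSingleMk f h)).hom = f.hom
  rw [Cochain.toSingleEquiv_toSingleMk]

lemma dualD_d_toSingleMk (P : DRing.Cx A) {n p : ℤ} (h : p + n = 0) (n' p' : ℤ) (h' : p' + n' = 0)
    (f : P.X p ⟶ ModuleCat.of A A) :
    ((dualD P).d n n').hom (Cochain.toSingleMk f h) =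
      n'.negOnePow • Cochain.toSingleMk (P.d p' p ≫ f) h' :=
  Cochain.δ_toSingleMk f h n' p' h'

lemma dualD_vanishesOutside (P : DRing.Cx A) (a b : ℤ) (hP : DRing.VanishesOutside P a b) :
    DRing.VanishesOutside (dualD P) (-b) (-a) := by
  intro n hn
  have hz : IsZero (P.X (-n)) := hP (-n) (by omega)
  have : Subsingleton (P.X (-n)) := ModuleCat.subsingleton_of_isZero hz
  have : Subsingleton (Module.Dual A (P.X (-n))) := ⟨fun f g => LinearMap.ext fun x => by
    rw [Subsingleton.elim x 0, map_zero, map_zero]⟩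
  have : Subsingleton ((dualD P).X n) :=
    (dualEquiv P (show -n + n = 0 by omega)).toEquiv.subsingleton
  exact ModuleCat.isZero_of_subsingleton _

lemma dualD_termwiseFiniteProjective (P : DRing.Cx A) (hP : DRing.TermwiseFiniteProjective P) :
    DRing.TermwiseFiniteProjective (dualD P) := by
  intro n
  have := (hP (-n)).1
  have := (hP (-n)).2
  let e := dualEquiv P (show -n + n = 0 by omega)
  exact ⟨Module.Finite.equiv e.symm, Module.Projective.of_equiv e.symm⟩

/-- the component of the biduality map, valued in linear forms on `(dualD P)^{-n}` -/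
noncomputable def bidualLin (P : DRing.Cx A) (n : ℤ) :
    P.X n →ₗ[A] Module.Dual A ((dualD P).X (-n)) :=
  n.negOnePow • ((dualEquiv P (show n + -n = 0 by omega)).toLinearMap.dualMap ∘ₗ
    Module.Dual.eval A (P.X n))

lemma bidualLin_apply (P : DRing.Cx A) (n : ℤ) (x : P.X n) (z : Cochain P (S0 A) (-n)) :
    bidualLin P n x z = n.negOnePow • (dualEquiv P (show n + -n = 0 by omega) z) x := rfl

lemma bidualLin_bijective (P : DRing.Cx A) (n : ℤ) [Module.Finite A (P.X n)]
    [Module.Projective A (P.X n)] : Function.Bijective (bidualLin P n) := by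
  have h1 : Function.Bijective (Module.Dual.eval A (P.X n)) := Module.bijective_dual_eval A (P.X n)
  have h2 : Function.Bijective
      ((dualEquiv P (show n + -n = 0 by omega)).toLinearMap.dualMap) :=
    (LinearEquiv.dualMap (dualEquiv P (show n + -n = 0 by omega))).bijective
  have h3 : Function.Bijective (fun f : Module.Dual A ((dualD P).X (-n)) => n.negOnePow • f) :=
    ⟨fun a b h => by simpa using h, fun b => ⟨n.negOnePow • b, by simp [smul_smul]⟩⟩
  exact h3.comp (h2.comp h1)

/-- the component of the biduality map -/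
noncomputable def bidualF (P : DRing.Cx A) (n : ℤ) : P.X n ⟶ (dualD (dualD P)).X n :=
  ModuleCat.ofHom ((dualEquiv (dualD P) (show -n + n = 0 by omega)).symm.toLinearMap ∘ₗ bidualLin P n)

lemma bidualF_apply (P : DRing.Cx A) (n : ℤ) (x : P.X n) :
    (bidualF P n).hom x =
      Cochain.toSingleMk (ModuleCat.ofHom (bidualLin P n x)) (show -n + n = 0 by omega) := rfl

lemma dualEquiv_units_smul (P : DRing.Cx A) {n p : ℤ} (h : p + n = 0) (u : ℤˣ) (z : Cochain P (S0 A) n) :
    dualEquiv P h (u • z) = u • dualEquiv P h z := by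
  rcases Int.units_eq_one_or u with rfl | rfl
  · simp
  · simp

/-- the biduality map `P ⟶ Hom•(Hom•(P, A), A)` -/
noncomputable def bidual (P : DRing.Cx A) : P ⟶ dualD (dualD P) where
  f n := bidualF P n
  comm' i j hij := by
    obtain rfl : i + 1 = j := hij
    ext x
    change ((dualD (dualD P)).d i (i + 1)).hom ((bidualF P i).hom x) =
      (bidualF P (i + 1)).hom ((P.d i (i + 1)).hom x)
    rw [bidualF_apply, bidualF_apply,
      dualD_d_toSingleMk (dualD P) _ (i + 1) (-(i + 1)) (show -(i + 1) + (i + 1) = 0 by omega)]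
    apply (dualEquiv (dualD P) (show -(i + 1) + (i + 1) = 0 by omega)).injective
    rw [dualEquiv_units_smul, dualEquiv_toSingleMk, dualEquiv_toSingleMk]
    apply LinearMap.ext
    intro z
    obtain ⟨z, rfl⟩ : ∃ z' : Cochain P (S0 A) (-(i + 1)), z' = z := ⟨z, rfl⟩
    obtain ⟨f, rfl⟩ := Cochain.toSingleMk_surjective z (i + 1) (show (i + 1) + -(i + 1) = 0 by omega)
    change (i + 1).negOnePow • bidualLin P i x (((dualD P).d (-(i + 1)) (-i)).hom
      (Cochain.toSingleMk f (show (i + 1) + -(i + 1) = 0 by omega))) =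
      bidualLin P (i + 1) ((P.d i (i + 1)).hom x) (Cochain.toSingleMk f _)
    rw [dualD_d_toSingleMk P _ (-i) i (show i + -i = 0 by omega), bidualLin_apply, bidualLin_apply,
      dualEquiv_units_smul, dualEquiv_toSingleMk, dualEquiv_toSingleMk]
    simp only [LinearMap.smul_apply, smul_smul]
    rw [← Int.negOnePow_add, add_neg_cancel, Int.negOnePow_zero, mul_one]
    rfl

lemma isIso_bidual (P : DRing.Cx A) (hP : DRing.TermwiseFiniteProjective P) : IsIso (bidual P) := by
  have : ∀ n, IsIso ((bidual P).f n) := fun n => by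
    have := (hP n).1
    have := (hP n).2
    apply (ConcreteCategory.isIso_iff_bijective _).2
    exact ((dualEquiv (dualD P) (show -n + n = 0 by omega)).symm.bijective).comp
      (bidualLin_bijective P n)
  exact HomologicalComplex.Hom.isIso_of_components _

/-- `S6963`: the dual of a perfect complex is perfect, and the double dual is the original -/
theorem isPerfect_dual_and_double_dual (K : Dual.D A) (hK : DRing.IsPerfect A K)
    (E : DRing.Cx A) (eK : DRing.toD E ≅ K) [DRing.HasRHomCx E] :
    DRing.IsPerfect A ((DRing.RHomCx E).obj (Dual.inD A A)) ∧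
      ∀ (E' : DRing.Cx A) (_ : DRing.toD E' ≅ (DRing.RHomCx E).obj (Dual.inD A A)) [DRing.HasRHomCx E'],
        Nonempty ((DRing.RHomCx E').obj (Dual.inD A A) ≅ K) := by
  obtain ⟨P, a, b, hPv, hPp, ⟨eP⟩⟩ := hK
  have : P.IsKProjective :=
    isKProjective_of_vanishesAbove P b (fun i hi => hPv i (Or.inr hi)) (fun i => (hPp i).2)
  obtain ⟨e1⟩ := nonempty_RHomCx_iso E P (eP ≪≫ eK.symm) (S0 A)
  have hv := dualD_vanishesOutside P a b hPv
  have hp := dualD_termwiseFiniteProjective P hPp
  refine ⟨⟨dualD P, -b, -a, hv, hp, ⟨e1.symm⟩⟩, ?_⟩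
  intro E' eK' _
  have : (dualD P).IsKProjective :=
    isKProjective_of_vanishesAbove (dualD P) (-a) (fun i hi => hv i (Or.inr hi)) (fun i => (hp i).2)
  obtain ⟨e2⟩ := nonempty_RHomCx_iso E' (dualD P) (e1.symm ≪≫ eK'.symm) (S0 A)
  have := isIso_bidual P hPp
  exact ⟨e2 ≪≫ (asIso (DerivedCategory.Q.map (bidual P))).symm ≪≫ eP⟩

end DualCx

end Groth.Agent.Lib.Seat63.RHomCx
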