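import Groth.Agent.Lib.Seat63RHomCx
import Groth.Agent.Lib.Helper17KInjD5

/-
Seat63RHomCxInj: `DRing.RHomCx E` computed through K-injective resolutions.
* `precomp_bijective_of_isKInjective`, `homCxPre` (contravariant functoriality of `Hom•(-, L)`),
  `quasiIso_homCxPre_of_isKInjective`.
* `homotopyEquivalences_isInvertedBy_homCxQ`, `isIso_unit_app_of_fibrant`
  (`Q (Hom•(E, I)) ≅ RHom(E, I)` for fibrant `I`), `exists_resolution`.
* `nonempty_RHomCx_iso`: if `Q P ≅ Q E` with `P` K-projective then
  `RHom(E, L) ≅ Q (Hom•(P, L))` for every complex `L`.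
-/

set_option autoImplicit false
universe u v
open CategoryTheory CategoryTheory.Limits CochainComplex CochainComplex.HomComplex
attribute [local instance] HasDerivedCategory.standard

namespace Groth.Agent.Lib.Seat63.RHomCx

section Bij2

variable {C : Type u} [Category.{v} C] [Abelian C]

/-- precomposition with a quasi-isomorphism is bijective on homotopy classes into a
K-injective complex -/
lemma precomp_bijective_of_isKInjective [HasDerivedCategory C] {E E' : CochainComplex C ℤ}
    (s : E ⟶ E') [QuasiIso s] (L : CochainComplex C ℤ) [L.IsKInjective] :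
    Function.Bijective (fun g : ((HomotopyCategory.quotient C (ComplexShape.up ℤ)).obj E' ⟶
      (HomotopyCategory.quotient C (ComplexShape.up ℤ)).obj L) =>
        (HomotopyCategory.quotient C (ComplexShape.up ℤ)).map s ≫ g) := by
  have h1 := CochainComplex.IsKInjective.Qh_map_bijective
    ((HomotopyCategory.quotient C (ComplexShape.up ℤ)).obj E') L
  have h2 := CochainComplex.IsKInjective.Qh_map_bijective
    ((HomotopyCategory.quotient C (ComplexShape.up ℤ)).obj E) L
  have : IsIso (DerivedCategory.Qh.map ((HomotopyCategory.quotient C (ComplexShape.up ℤ)).map s)) := by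
    have : IsIso (DerivedCategory.Q.map s) := inferInstance
    exact ((MorphismProperty.isomorphisms _).arrow_mk_iso_iff
      (Arrow.isoOfNatIso (DerivedCategory.quotientCompQhIso C) (Arrow.mk s))).2 this
  have h3 : Function.Bijective (fun g : (DerivedCategory.Qh.obj ((HomotopyCategory.quotient C (ComplexShape.up ℤ)).obj E') ⟶
      DerivedCategory.Qh.obj ((HomotopyCategory.quotient C (ComplexShape.up ℤ)).obj L)) =>
        DerivedCategory.Qh.map ((HomotopyCategory.quotient C (ComplexShape.up ℤ)).map s) ≫ g) :=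
    ⟨fun a b h => (cancel_epi _).1 h, fun b => ⟨inv (DerivedCategory.Qh.map
      ((HomotopyCategory.quotient C (ComplexShape.up ℤ)).map s)) ≫ b, by simp⟩⟩
  have : (DerivedCategory.Qh.map ∘ fun g : ((HomotopyCategory.quotient C (ComplexShape.up ℤ)).obj E' ⟶
      (HomotopyCategory.quotient C (ComplexShape.up ℤ)).obj L) =>
        (HomotopyCategory.quotient C (ComplexShape.up ℤ)).map s ≫ g) =
      (fun g => DerivedCategory.Qh.map ((HomotopyCategory.quotient C (ComplexShape.up ℤ)).map s) ≫ g) ∘
        DerivedCategory.Qh.map := by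
    ext g
    simp
  refine (Function.Bijective.of_comp_iff' h2 _).1 ?_
  rw [this]
  exact h3.comp h1

end Bij2

section Pre

variable {A : Type u} [CommRing A]

/-- precomposition with `s` as a linear map on cochains -/
noncomputable def precompLin {E E' : DRing.Cx A} (s : E ⟶ E') (L : DRing.Cx A) (i : ℤ) :
    Cochain E' L i →ₗ[A] Cochain E L i where
  toFun z := (Cochain.ofHom s).comp z (zero_add i)
  map_add' z z' := by simp
  map_smul' a z := by simp

/-- contravariant functoriality of `Hom•(-, L)` -/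
noncomputable def homCxPre {E E' : DRing.Cx A} (s : E ⟶ E') (L : DRing.Cx A) :
    DRing.homCx E' L ⟶ DRing.homCx E L where
  f i := ModuleCat.ofHom (precompLin s L i)
  comm' i j _ := by
    ext z
    change δ i j ((Cochain.ofHom s).comp z (zero_add i)) = (Cochain.ofHom s).comp (δ i j z) (zero_add j)
    exact δ_ofHom_comp s z j

lemma homCxPre_f_apply {E E' : DRing.Cx A} (s : E ⟶ E') (L : DRing.Cx A) (n : ℤ) (z : Cochain E' L n) :
    ((homCxPre s L).f n).hom z = (Cochain.ofHom s).comp z (zero_add n) := rfl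

/-- `Hom•(s, L)` is a quasi-isomorphism as soon as precomposition with `s` is bijective on
homotopy classes of maps into the shifts of `L` -/
theorem quasiIso_homCxPre_of_bijective {E E' : DRing.Cx A} (s : E ⟶ E') (L : DRing.Cx A)
    (hb : ∀ n : ℤ, Function.Bijective (fun g : ((HomotopyCategory.quotient _ (ComplexShape.up ℤ)).obj E' ⟶
      (HomotopyCategory.quotient _ (ComplexShape.up ℤ)).obj (L⟦n⟧)) =>
        (HomotopyCategory.quotient _ (ComplexShape.up ℤ)).map s ≫ g)) :
    QuasiIso (homCxPre s L) := by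
  have key : ∀ (n : ℤ) (x : Cocycle E' L n), CohomologyClass.toHom (CohomologyClass.mk (x.precomp s)) =
      (HomotopyCategory.quotient _ (ComplexShape.up ℤ)).map s ≫
        CohomologyClass.toHom (CohomologyClass.mk x) := fun n x => by
    rw [CohomologyClass.toHom_mk, CohomologyClass.toHom_mk, Cocycle.equivHomShift_symm_precomp,
      Functor.map_comp]
  apply quasiIso_of_elementwise
  · intro n x hx hz
    obtain ⟨x, rfl⟩ : ∃ x' : Cochain E' L n, x' = x := ⟨x, rfl⟩
    change δ n (n + 1) x = 0 at hx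
    obtain ⟨z, hz⟩ := hz
    obtain ⟨z, rfl⟩ : ∃ z' : Cochain E L (n - 1), z' = z := ⟨z, rfl⟩
    change δ (n - 1) n z = (Cochain.ofHom s).comp x (zero_add n) at hz
    let X : Cocycle E' L n := Cocycle.mk x (n + 1) rfl hx
    have h1 : CohomologyClass.mk (X.precomp s) = 0 := by
      rw [CohomologyClass.mk_eq_zero_iff, mem_coboundaries_iff _ (n - 1) (by simp)]
      exact ⟨z, hz⟩
    have h2 : CohomologyClass.toHom (CohomologyClass.mk X) = 0 := by
      apply (hb n).1
      simp only [comp_zero]
      rw [← key, h1, map_zero]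
    rw [CohomologyClass.toHom_mk_eq_zero_iff, mem_coboundaries_iff _ (n - 1) (by simp)] at h2
    obtain ⟨w, hw⟩ := h2
    exact ⟨w, hw⟩
  · intro n y hy
    obtain ⟨y, rfl⟩ : ∃ y' : Cochain E L n, y' = y := ⟨y, rfl⟩
    change δ n (n + 1) y = 0 at hy
    let Y : Cocycle E L n := Cocycle.mk y (n + 1) rfl hy
    obtain ⟨g, hg⟩ := (hb n).2 (CohomologyClass.toHom (CohomologyClass.mk Y))
    obtain ⟨c, rfl⟩ := (CohomologyClass.toHom_bijective E' L n).2 g
    obtain ⟨X, rfl⟩ := c.mk_surjective
    dsimp only at hg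
    rw [← key, ← sub_eq_zero, ← map_sub, ← CohomologyClass.mk_sub,
      CohomologyClass.toHom_mk_eq_zero_iff, mem_coboundaries_iff _ (n - 1) (by simp)] at hg
    obtain ⟨z, hz⟩ := hg
    refine ⟨X.1, X.δ_eq_zero _, z, ?_⟩
    change δ (n - 1) n z = (Cochain.ofHom s).comp X.1 (zero_add n) - y
    rw [hz]
    rfl

/-- `Hom•(-, L)` turns quasi-isomorphisms into quasi-isomorphisms when `L` is K-injective -/
theorem quasiIso_homCxPre_of_isKInjective {E E' : DRing.Cx A} (s : E ⟶ E') [QuasiIso s]
    (L : DRing.Cx A) [L.IsKInjective] : QuasiIso (homCxPre s L) :=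
  quasiIso_homCxPre_of_bijective s L (fun n => precomp_bijective_of_isKInjective s (L⟦n⟧))

end Pre

section Htpy

variable {A : Type u} [CommRing A]

/-- `Hom•(E, -) ⋙ Q` inverts homotopy equivalences -/
lemma homotopyEquivalences_isInvertedBy_homCxQ (E : DRing.Cx A) :
    (HomologicalComplex.homotopyEquivalences (ModuleCat.{u} A) (ComplexShape.up ℤ)).IsInvertedBy
      (DRing.homCxQ E) := by
  intro L L' f hf
  have h0 : IsIso ((HomotopyCategory.quotient _ (ComplexShape.up ℤ)).map f) :=
    HomotopyCategory.quotient_inverts_homotopyEquivalences _ _ f hf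
  have h1 : ∀ n : ℤ, IsIso ((HomotopyCategory.quotient _ (ComplexShape.up ℤ)).map (f⟦n⟧')) := fun n => by
    have : IsIso ((HomotopyCategory.quotient (ModuleCat.{u} A) (ComplexShape.up ℤ) ⋙ shiftFunctor _ n).map f) := by
      dsimp
      infer_instance
    exact (NatIso.isIso_map_iff ((HomotopyCategory.quotient (ModuleCat.{u} A)
      (ComplexShape.up ℤ)).commShiftIso n) f).2 this
  have : QuasiIso (DRing.homCxMap E f) :=
    quasiIso_homCxMap_of_bijective E f (fun n =>
      ⟨fun a b h => (cancel_mono _).1 h, fun b => ⟨b ≫ inv ((HomotopyCategory.quotient _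
        (ComplexShape.up ℤ)).map (f⟦n⟧')), by simp⟩⟩)
  change IsIso (DerivedCategory.Q.map (DRing.homCxMap E f))
  infer_instance

end Htpy

section KInj

open Groth.Agent.Lib.Helper17.KInj

variable {A : Type u} [CommRing A]

/-- the unit of `RHom(E, -)` is an isomorphism at fibrant complexes -/
lemma isIso_unit_app_of_fibrant (E : DRing.Cx A) [DRing.HasRHomCx E] (I : DRing.Cx A)
    (hI : fibrant (ModuleCat.{u} A) I) :
    IsIso (((DRing.homCxQ E).totalRightDerivedUnit DerivedCategory.Q
      (HomologicalComplex.quasiIso (ModuleCat.{u} A) (ComplexShape.up ℤ))).app I) :=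
  (fibLocalizerMorphism_derives _
    (homotopyEquivalences_isInvertedBy_homCxQ E)).isIso_of_isRightDerivedFunctor _ ⟨I, hI⟩

/-- fibrant (in particular K-injective) resolutions -/
lemma exists_resolution (L : DRing.Cx A) :
    ∃ (I : DRing.Cx A) (ι : L ⟶ I), fibrant (ModuleCat.{u} A) I ∧ I.IsKInjective ∧ QuasiIso ι :=
  ⟨(fibRepl₀ (ModuleCat.{u} A)).obj L, (fibReplι₀ (ModuleCat.{u} A)).app L,
    fibrant_fibRepl₀ _ L, (fibrant_fibRepl₀ _ L).isKInjective, (trivCof_fibReplι₀ _ L).2⟩

lemma Q_map_surjective (P Y : DRing.Cx A) [P.IsKProjective] :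
    Function.Surjective (DerivedCategory.Q.map : (P ⟶ Y) → (DerivedCategory.Q.obj P ⟶ DerivedCategory.Q.obj Y)) := by
  intro g
  obtain ⟨g', hg'⟩ := (CochainComplex.IsKProjective.Qh_map_bijective P
    ((HomotopyCategory.quotient _ _).obj Y)).2 g
  obtain ⟨f, rfl⟩ := (HomotopyCategory.quotient _ _).map_surjective g'
  exact ⟨f, hg'⟩

/-- if `Q P ≅ Q E` with `P` K-projective then `RHom(E, L) ≅ Q (Hom•(P, L))` for every `L` -/
theorem nonempty_RHomCx_iso (E : DRing.Cx A) [DRing.HasRHomCx E] (P : DRing.Cx A) [P.IsKProjective]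
    (e : DerivedCategory.Q.obj P ≅ DerivedCategory.Q.obj E) (L : DRing.Cx A) :
    Nonempty ((DRing.RHomCx E).obj (DerivedCategory.Q.obj L) ≅ DerivedCategory.Q.obj (DRing.homCx P L)) := by
  obtain ⟨s, hs⟩ := Q_map_surjective P E e.hom
  have : IsIso (DerivedCategory.Q.map s) := by rw [hs]; infer_instance
  have : QuasiIso s := (DerivedCategory.isIso_Q_map_iff_quasiIso _ s).1 this
  obtain ⟨I, ι, hI, hI', hι⟩ := exists_resolution L
  have h1 := isIso_unit_app_of_fibrant E I hI
  have h2 : QuasiIso (homCxPre s I) := quasiIso_homCxPre_of_isKInjective s I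
  have h3 : QuasiIso (DRing.homCxMap P ι) := quasiIso_homCxMap_of_isKProjective P ι
  have h4 : IsIso (DerivedCategory.Q.map (homCxPre s I)) := inferInstance
  have h5 : IsIso (DerivedCategory.Q.map (DRing.homCxMap P ι)) := inferInstance
  have h6 : IsIso (DerivedCategory.Q.map ι) := inferInstance
  have i1 : (DRing.RHomCx E).obj (DerivedCategory.Q.obj L) ≅ (DRing.RHomCx E).obj (DerivedCategory.Q.obj I) :=
    (DRing.RHomCx E).mapIso (asIso (DerivedCategory.Q.map ι))
  have i2 : DerivedCategory.Q.obj (DRing.homCx E I) ≅ (DRing.RHomCx E).obj (DerivedCategory.Q.obj I) :=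
    @asIso _ _ _ _ (((DRing.homCxQ E).totalRightDerivedUnit DerivedCategory.Q
      (HomologicalComplex.quasiIso (ModuleCat.{u} A) (ComplexShape.up ℤ))).app I) h1
  have i3 : DerivedCategory.Q.obj (DRing.homCx E I) ≅ DerivedCategory.Q.obj (DRing.homCx P I) :=
    asIso (DerivedCategory.Q.map (homCxPre s I))
  have i4 : DerivedCategory.Q.obj (DRing.homCx P L) ≅ DerivedCategory.Q.obj (DRing.homCx P I) :=
    asIso (DerivedCategory.Q.map (DRing.homCxMap P ι))
  exact ⟨i1 ≪≫ i2.symm ≪≫ i3 ≪≫ i4.symm⟩

end KInj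

end Groth.Agent.Lib.Seat63.RHomCx
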