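import Groth.Agent.Lib.Seat63RHomCxInj
import Groth.Agent.Lib.Helper16KInjAdj

/-
Seat63RHomCxSingle: `RHom(M[0], -)` for a module `M`.
* `sg M`, `fromSgEquiv`, `sgHomIso : Hom•(M[0], L) ≅ (ihom M).mapHomologicalComplex L`.
* `isKInjective_homCx_sg` (`M` flat, `I` K-injective ⇒ `Hom•(M[0], I)` K-injective),
  `isIso_unit_app_of_isKInjective` (unit of `RHomCx E` is iso at K-injective complexes).
* `ihomCompIso`, `homCxSgCompIso`, `nonempty_RHomCx_sg_comp`:
  `RHom(M, RHom(N, K)) ≅ RHom(P, K)` for `N` flat, `N ⊗ M ≅ P`.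
* `awayTensorIso : A_g ⊗ A_f ≅ A_{fg}`; `nonempty_RHomCx_away_comp` (= S7099).
-/

set_option autoImplicit false
universe u v
open CategoryTheory CategoryTheory.Limits CochainComplex CochainComplex.HomComplex MonoidalCategory
open TensorProduct
attribute [local instance] HasDerivedCategory.standard

namespace Groth.Agent.Lib.Seat63.RHomCx

section SingleHom

variable {A : Type u} [CommRing A]

/-- a module as a complex in degree `0` -/
noncomputable abbrev sg (M : ModuleCat.{u} A) : DRing.Cx A :=
  (CochainComplex.singleFunctor (ModuleCat.{u} A) 0).obj M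

example (M : ModuleCat.{u} A) : sg M = (HomologicalComplex.single (ModuleCat.{u} A) (ComplexShape.up ℤ) 0).obj M := rfl

set_option backward.isDefEq.respectTransparency false in
/-- cochains of degree `n` out of `M[0]` are maps `M ⟶ L^n` -/
noncomputable def fromSgEquiv (M : ModuleCat.{u} A) (L : DRing.Cx A) (n : ℤ) :
    Cochain (sg M) L n ≃ₗ[A] (M ⟶ L.X n) where
  toFun z := Cochain.fromSingleEquiv (show (0 : ℤ) + n = n by omega) z
  invFun f := (Cochain.fromSingleEquiv (show (0 : ℤ) + n = n by omega)).symm f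
  map_add' z z' := map_add _ _ _
  map_smul' a z := by
    dsimp [Cochain.fromSingleEquiv]
    exact Linear.comp_smul (R := A) (C := ModuleCat.{u} A) _ _ _ _ _ _
  left_inv z := by simp
  right_inv f := by simp

lemma fromSgEquiv_symm_apply (M : ModuleCat.{u} A) (L : DRing.Cx A) (n : ℤ) (f : M ⟶ L.X n) :
    (fromSgEquiv M L n).symm f = Cochain.fromSingleMk f (show (0 : ℤ) + n = n by omega) := rfl

lemma fromSgEquiv_fromSingleMk (M : ModuleCat.{u} A) (L : DRing.Cx A) (n : ℤ) (f : M ⟶ L.X n) :
    fromSgEquiv M L n (Cochain.fromSingleMk f (show (0 : ℤ) + n = n by omega)) = f :=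
  Cochain.fromSingleEquiv_fromSingleMk f _

/-- `Hom•(M[0], L)` is the termwise internal hom complex -/
noncomputable def sgHomIso (M : ModuleCat.{u} A) (L : DRing.Cx A) :
    DRing.homCx (sg M) L ≅ ((ihom M).mapHomologicalComplex (ComplexShape.up ℤ)).obj L :=
  HomologicalComplex.Hom.isoOfComponents (fun n => (fromSgEquiv M L n).toModuleIso) (by
    rintro i j (rfl : i + 1 = j)
    ext z
    obtain ⟨z, rfl⟩ : ∃ z' : Cochain (sg M) L i, z' = z := ⟨z, rfl⟩
    obtain ⟨f, rfl⟩ := Cochain.fromSingleMk_surjective z i (show (0 : ℤ) + i = i by omega)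
    change (ihom M).map (L.d i (i + 1)) (fromSgEquiv M L i (Cochain.fromSingleMk f _)) =
      fromSgEquiv M L (i + 1) (δ i (i + 1) (Cochain.fromSingleMk f _))
    rw [Cochain.δ_fromSingleMk f _ (i + 1) (i + 1) (show (0 : ℤ) + (i + 1) = i + 1 by omega),
      fromSgEquiv_fromSingleMk, fromSgEquiv_fromSingleMk]
    rfl)

end SingleHom

section KInj2

open Groth.Agent.Lib.Helper17.KInj

variable {A : Type u} [CommRing A]

/-- `Hom•(M[0], I)` is K-injective when `M` is flat and `I` is K-injective -/
lemma isKInjective_homCx_sg (M : ModuleCat.{u} A) [Module.Flat A M] (I : DRing.Cx A) [I.IsKInjective] :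
    (DRing.homCx (sg M) I).IsKInjective := by
  have : (ihom M).Additive := (ihom.adjunction M).right_adjoint_additive
  have := Groth.Agent.Lib.Helper16.KInjAdj.isKInjective_map (ihom.adjunction M) I
  exact CochainComplex.isKInjective_of_iso (sgHomIso M I).symm

/-- the unit of `RHom(E, -)` is an isomorphism at K-injective complexes -/
lemma isIso_unit_app_of_isKInjective (E : DRing.Cx A) [DRing.HasRHomCx E] (I : DRing.Cx A)
    [I.IsKInjective] :
    IsIso (((DRing.homCxQ E).totalRightDerivedUnit DerivedCategory.Q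
      (HomologicalComplex.quasiIso (ModuleCat.{u} A) (ComplexShape.up ℤ))).app I) := by
  obtain ⟨J, ι, hJ, hJ', hι⟩ := exists_resolution I
  obtain ⟨e, he⟩ := homotopyEquiv_of_quasiIso ι
  have h1 := isIso_unit_app_of_fibrant E J hJ
  have h2 : IsIso ((DRing.homCxQ E).map ι) :=
    homotopyEquivalences_isInvertedBy_homCxQ E ι ⟨e, he⟩
  have h3 : IsIso ((DerivedCategory.Q ⋙ DRing.RHomCx E).map ι) := by
    dsimp
    infer_instance
  have nat := ((DRing.homCxQ E).totalRightDerivedUnit DerivedCategory.Q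
      (HomologicalComplex.quasiIso (ModuleCat.{u} A) (ComplexShape.up ℤ))).naturality ι
  have h4 : ((DRing.homCxQ E).totalRightDerivedUnit DerivedCategory.Q
      (HomologicalComplex.quasiIso (ModuleCat.{u} A) (ComplexShape.up ℤ))).app I =
      (DRing.homCxQ E).map ι ≫ ((DRing.homCxQ E).totalRightDerivedUnit DerivedCategory.Q
      (HomologicalComplex.quasiIso (ModuleCat.{u} A) (ComplexShape.up ℤ))).app J ≫
      inv ((DerivedCategory.Q ⋙ DRing.RHomCx E).map ι) := by
    rw [← Category.assoc, IsIso.eq_comp_inv]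
    exact nat.symm
  rw [h4]
  infer_instance

end KInj2

section Comp

open Groth.Agent.Lib.Helper17.KInj

variable {A : Type u} [CommRing A]

/-- `Hom(M, Hom(N, -)) ≅ Hom(P, -)` when `N ⊗ M ≅ P` -/
noncomputable def ihomCompIso (M N P : ModuleCat.{u} A) (e : N ⊗ M ≅ P) :
    ihom N ⋙ ihom M ≅ ihom P :=
  (((ihom.adjunction P).ofNatIsoLeft
    (((curriedTensor (ModuleCat.{u} A)).mapIso e).symm ≪≫ tensorLeftTensor N M)).rightAdjointUniq
      ((ihom.adjunction M).comp (ihom.adjunction N))).symm

/-- the chain level isomorphism `Hom•(M[0], Hom•(N[0], I)) ≅ Hom•(P[0], I)` when `N ⊗ M ≅ P` -/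
noncomputable def homCxSgCompIso (M N P : ModuleCat.{u} A) (e : N ⊗ M ≅ P) (I : DRing.Cx A) :
    DRing.homCx (sg M) (DRing.homCx (sg N) I) ≅ DRing.homCx (sg P) I :=
  have : (ihom M).Additive := (ihom.adjunction M).right_adjoint_additive
  have : (ihom N).Additive := (ihom.adjunction N).right_adjoint_additive
  have : (ihom P).Additive := (ihom.adjunction P).right_adjoint_additive
  sgHomIso M (DRing.homCx (sg N) I) ≪≫
    ((ihom M).mapHomologicalComplex (ComplexShape.up ℤ)).mapIso (sgHomIso N I) ≪≫
    (Functor.mapHomologicalComplexCompIso (ihomCompIso M N P e) (ComplexShape.up ℤ)).app I ≪≫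
    (sgHomIso P I).symm

/-- `RHom(M, RHom(N, K)) ≅ RHom(P, K)` when `N` is flat and `N ⊗ M ≅ P` -/
theorem nonempty_RHomCx_sg_comp (M N P : ModuleCat.{u} A) [Module.Flat A N] (e : N ⊗ M ≅ P)
    [DRing.HasRHomCx (sg M)] [DRing.HasRHomCx (sg N)] [DRing.HasRHomCx (sg P)] (K : Dual.D A) :
    Nonempty ((DRing.RHomCx (sg M)).obj ((DRing.RHomCx (sg N)).obj K) ≅ (DRing.RHomCx (sg P)).obj K) := by
  have eK : DerivedCategory.Q.obj (DerivedCategory.Q.objPreimage K) ≅ K :=
    DerivedCategory.Q.objObjPreimageIso K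
  obtain ⟨I, ι, hI, hI', hι⟩ := exists_resolution (DerivedCategory.Q.objPreimage K)
  have h6 : IsIso (DerivedCategory.Q.map ι) := inferInstance
  have eI : K ≅ DerivedCategory.Q.obj I := eK.symm ≪≫ asIso (DerivedCategory.Q.map ι)
  have hN := isIso_unit_app_of_fibrant (sg N) I hI
  have hP := isIso_unit_app_of_fibrant (sg P) I hI
  have := isKInjective_homCx_sg N I
  have hM := isIso_unit_app_of_isKInjective (sg M) (DRing.homCx (sg N) I)
  have b : (DRing.RHomCx (sg N)).obj K ≅ DerivedCategory.Q.obj (DRing.homCx (sg N) I) :=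
    (DRing.RHomCx (sg N)).mapIso eI ≪≫
      (@asIso _ _ _ _ (((DRing.homCxQ (sg N)).totalRightDerivedUnit DerivedCategory.Q
        (HomologicalComplex.quasiIso (ModuleCat.{u} A) (ComplexShape.up ℤ))).app I) hN).symm
  have c : (DRing.RHomCx (sg M)).obj ((DRing.RHomCx (sg N)).obj K) ≅
      DerivedCategory.Q.obj (DRing.homCx (sg M) (DRing.homCx (sg N) I)) :=
    (DRing.RHomCx (sg M)).mapIso b ≪≫
      (@asIso _ _ _ _ (((DRing.homCxQ (sg M)).totalRightDerivedUnit DerivedCategory.Q
        (HomologicalComplex.quasiIso (ModuleCat.{u} A) (ComplexShape.up ℤ))).app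
          (DRing.homCx (sg N) I)) hM).symm
  have d : (DRing.RHomCx (sg P)).obj K ≅ DerivedCategory.Q.obj (DRing.homCx (sg P) I) :=
    (DRing.RHomCx (sg P)).mapIso eI ≪≫
      (@asIso _ _ _ _ (((DRing.homCxQ (sg P)).totalRightDerivedUnit DerivedCategory.Q
        (HomologicalComplex.quasiIso (ModuleCat.{u} A) (ComplexShape.up ℤ))).app I) hP).symm
  exact ⟨c ≪≫ DerivedCategory.Q.mapIso (homCxSgCompIso M N P e I) ≪≫ d.symm⟩

end Comp

section Loc

variable {A : Type u} [CommRing A]

lemma isLocalization_away_tensor (f g : A) :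
    IsLocalization.Away (f * g) (Localization.Away g ⊗[A] Localization.Away f) := by
  have h1 : IsLocalization.Away (algebraMap A (Localization.Away g) f)
      (Localization.Away g ⊗[A] Localization.Away f) := by
    have := IsLocalization.tensor (S := Localization.Away g) (Localization.Away f) (Submonoid.powers f)
    rwa [Algebra.algebraMapSubmonoid, Submonoid.map_powers] at this
  exact IsLocalization.Away.mul (Localization.Away g) _ g f

/-- `A_g ⊗ A_f ≅ A_{fg}` -/
noncomputable def awayTensorIso (f g : A) :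
    ModuleCat.of A (Localization.Away g) ⊗ ModuleCat.of A (Localization.Away f) ≅
      ModuleCat.of A (Localization.Away (f * g)) :=
  have := isLocalization_away_tensor f g
  ((IsLocalization.algEquiv (Submonoid.powers (f * g))
    (Localization.Away g ⊗[A] Localization.Away f) (Localization.Away (f * g))).toLinearEquiv).toModuleIso

end Loc

section S7099

variable {A : Type u} [CommRing A]

/-- `S7099` -/
theorem nonempty_RHomCx_away_comp (f g : A)
    [DRing.HasRHomCx (sg (ModuleCat.of A (Localization.Away f)))]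
    [DRing.HasRHomCx (sg (ModuleCat.of A (Localization.Away g)))]
    [DRing.HasRHomCx (sg (ModuleCat.of A (Localization.Away (f * g))))] (K : Dual.D A) :
    Nonempty ((DRing.RHomCx (sg (ModuleCat.of A (Localization.Away f)))).obj
      ((DRing.RHomCx (sg (ModuleCat.of A (Localization.Away g)))).obj K) ≅
      (DRing.RHomCx (sg (ModuleCat.of A (Localization.Away (f * g))))).obj K) :=
  nonempty_RHomCx_sg_comp _ _ _ (awayTensorIso f g) K

end S7099

end Groth.Agent.Lib.Seat63.RHomCx
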