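/-
Seat63Syzygy: syzygies on locally Noetherian schemes.  For an exact sequence
`T₀ → T₁ → ⋯ → T_j → T_{j+1} → 0` of `O_Y`-modules with `T₀, …, T_j` finite locally free, the
projective dimension of the stalk of `ker (T₀ → T₁)` at `y` drops by `j + 1` compared with that of
the stalk of `T_{j+1}` (`pdLT_stalk_kernel`).  Also: local rings of a scheme have dimension at most
the topological Krull dimension (`ringKrullDim_stalk_le`), and a coherent module with projective
stalks is finite locally free (`isFinLocFree_of_projective_stalks`).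
-/
import Mathlib
import Groth.Agent.Lib.Seat63RegPerf
import Groth.Agent.Lib.Helper7Dim

set_option autoImplicit false
set_option linter.style.haveILetI false
universe u
open CategoryTheory CategoryTheory.Limits AlgebraicGeometry TopologicalSpace

namespace Groth.Agent.Lib.Seat63.Syzygy

open Groth.Agent.Lib.Seat63.CohThick Groth.Agent.Lib.Seat63.RegPerf

variable {Y : Scheme.{u}}

/-- the short exact sequence `0 → ker φ → A → B → 0` of an epimorphism -/
lemma kernel_shortExact {A B : Y.Modules} (φ : A ⟶ B) [Epi φ] :
    (ShortComplex.mk (kernel.ι φ) φ (kernel.condition φ)).ShortExact :=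
  { exact := ShortComplex.exact_kernel φ
    mono_f := inferInstanceAs (Mono (kernel.ι φ))
    epi_g := inferInstanceAs (Epi φ) }

/-- for an exact `A → B → C`, the short exact sequence `0 → ker f → A → ker g → 0` -/
lemma kernel_kernel_shortExact {A B C : Y.Modules} (f : A ⟶ B) (g : B ⟶ C) (w : f ≫ g = 0)
    (h : (ShortComplex.mk f g w).Exact) :
    (ShortComplex.mk (kernel.ι f) (kernel.lift g f w)
      (by rw [← cancel_mono (kernel.ι g), Category.assoc, kernel.lift_ι, kernel.condition,
        zero_comp])).ShortExact := by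
  have hepi : Epi (kernel.lift g f w) := (ShortComplex.exact_iff_epi_kernel_lift _).1 h
  refine ShortComplex.ShortExact.mk' ?_ (inferInstanceAs (Mono (kernel.ι f))) hepi
  apply ShortComplex.exact_of_f_is_kernel
  exact isKernelOfComp (kernel.ι g) f (kernelIsKernel f) _ (kernel.lift_ι g f w)

/-- pd of the stalk of the kernel of the first map drops -/
theorem pdLT_stalk_kernel [IsLocallyNoetherian Y] (y : Y) :
    ∀ (j n : ℕ) (T : ComposableArrows Y.Modules (j + 1)), T.Exact →
      Epi (T.map' j (j + 1)) → (∀ (i : ℕ) (hi : i ≤ j), FlatMod.IsFinLocFree (T.obj' i)) →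
      HasProjectiveDimensionLT (stalkMod (T.obj' (j + 1)) y) (n + j + 2) →
      HasProjectiveDimensionLT (stalkMod (kernel (T.map' 0 1)) y) (n + 1) := by
  intro j
  induction j with
  | zero =>
    intro n T hT hepi hflf hpd
    have hS := kernel_shortExact (T.map' 0 1 (Nat.zero_le _) le_rfl)
    have hproj : Projective (stalkSC (ShortComplex.mk (kernel.ι (T.map' 0 1 (Nat.zero_le _) le_rfl))
        (T.map' 0 1 (Nat.zero_le _) le_rfl) (kernel.condition _)) y).X₂ :=
      projective_stalk_of_isFinLocFree _ (hflf 0 le_rfl) y
    exact ((stalkSC_shortExact _ hS y).hasProjectiveDimensionLT_X₃_iff n hproj).1 hpd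
  | succ j ih =>
    intro n T hT hepi hflf hpd
    have h1 : HasProjectiveDimensionLT (stalkMod (kernel (T.δ₀.map' 0 1)) y) (n + 1 + 1) := by
      refine ih (n + 1) T.δ₀ hT.δ₀ hepi (fun i hi => hflf (i + 1) (by omega)) ?_
      have : n + 1 + j + 2 = n + (j + 1) + 2 := by omega
      rw [this]
      exact hpd
    have hS := kernel_kernel_shortExact (T.map' 0 1) (T.map' 1 2) (hT.toIsComplex.zero 0)
      (hT.exact 0)
    have hproj : Projective (stalkSC (ShortComplex.mk (kernel.ι (T.map' 0 1))
        (kernel.lift (T.map' 1 2) (T.map' 0 1) (hT.toIsComplex.zero 0))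
        (by rw [← cancel_mono (kernel.ι (T.map' 1 2)), Category.assoc, kernel.lift_ι,
          kernel.condition, zero_comp])) y).X₂ :=
      projective_stalk_of_isFinLocFree _ (hflf 0 (Nat.zero_le _)) y
    exact ((stalkSC_shortExact _ hS y).hasProjectiveDimensionLT_X₃_iff n hproj).1 h1

/-- the dimension of a local ring is at most the topological Krull dimension of the scheme -/
lemma ringKrullDim_stalk_le (X : Scheme.{u}) (x : X) :
    ringKrullDim (X.presheaf.stalk x) ≤ topologicalKrullDim X := by
  rw [ringKrullDim_stalk_eq_coheight, Groth.Agent.Lib.Helper7.topologicalKrullDim_eq_krullDim_points]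
  exact Order.coheight_le_krullDim x

/-- a coherent module all of whose stalks are projective is finite locally free -/
lemma isFinLocFree_of_projective_stalks [IsLocallyNoetherian Y] (G : Y.Modules)
    (hG : Coh.IsCoh G) (h : ∀ y : Y, Projective (stalkMod G y)) : FlatMod.IsFinLocFree G :=
  fun y => exists_restrict_iso_freeMod_of_projective_stalk G hG y (h y)

/-- on a regular locally Noetherian scheme of dimension `≤ m`, stalks have `pd < m + 1` -/
lemma pdLT_stalk_of_regular (X : Scheme.{u}) [IsLocallyNoetherian X]
    (hreg : ∀ x : X, IsRegularLocalRing (X.presheaf.stalk x)) (m : ℕ)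
    (hdim : topologicalKrullDim ↥X ≤ (m : WithBot ℕ∞)) (G : X.Modules) (x : X) :
    HasProjectiveDimensionLT (stalkMod G x) (m + 1) := by
  haveI := hreg x
  obtain ⟨d, hd⟩ := Groth.Agent.Lib.Helper5.exists_nat_ringKrullDim_eq (X.presheaf.stalk x)
  have h1 : HasProjectiveDimensionLT (stalkMod G x) (d + 1) :=
    Groth.Agent.S0563.result _ d hd (G.presheaf.stalk x)
  have h2 : (d : WithBot ℕ∞) ≤ m := by
    rw [← hd]
    exact (ringKrullDim_stalk_le X x).trans hdim
  have h3 : d ≤ m := by exact_mod_cast h2
  exact hasProjectiveDimensionLT_of_ge _ (d + 1) (m + 1) (by omega)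

end Groth.Agent.Lib.Seat63.Syzygy
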