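/-
Seat63TildeLoc: localisation of `M~` on `Spec A`.
* `restrictTildeIso ψ`: for `ψ : B ⟶ A` with `Spec.map ψ` an open immersion,
  `(M~)|_{Spec A} ≅ (A ⊗_B M)~` naturally; `restrictTildeCxIso`, `restrictTildeDIso` the versions
  for complexes and in the derived category.
* `exists_tildeCx_iso`: a strictly perfect complex on `Spec A` is the tilde of a bounded complex of
  finite projective modules.
* `isPerfect_Q_of_isStrictlyPerfect`, `isPC_of_conn`: global strictly perfect data give
  perfect / pseudo-coherent objects.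
* `conn_of_conn_tildeD`: `tildeD` reflects `m`-connectedness.
-/
import Mathlib
import Groth.Agent.Lib.Seat4TildeEquiv
import Groth.Agent.Lib.Helper20OmegaAff
import Groth.Agent.Lib.Seat0PerfLocal
import Groth.Agent.Lib.Seat0PCLocal
import Groth.Agent.Lib.Helper2FPAff
import Groth.Agent.Lib.Helper2LocFree
import Groth.Agent.Lib.Helper18Strict6
import Groth.Agent.Lib.Helper1FLF1
import Groth.Agent.Lib.Helper17Hyp19
import Groth.Agent.S9498

set_option autoImplicit false
set_option linter.style.haveILetI false
universe u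
open CategoryTheory CategoryTheory.Limits AlgebraicGeometry TopologicalSpace
attribute [local instance] HasDerivedCategory.standard

namespace Groth.Agent.Lib.Seat63.TildeLoc

open DerivedCategory Groth.Agent.Lib.Seat0.PerfLocal Groth.Agent.Lib.Seat0.PCLocal
  Groth.Agent.Lib.Seat0.Cn Groth.Agent.Lib.Helper20.OmegaAff

/-- the tilde functor is exact -/
lemma pfl_tilde (R : CommRingCat.{u}) : PreservesFiniteLimits (tilde.functor R) :=
  (Groth.Agent.S9498.aux R).1

/-- the tilde functor is exact (form for `CommRingCat.of A`) -/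
lemma pfl_tilde_of (A : Type u) [CommRing A] :
    PreservesFiniteLimits (tilde.functor (CommRingCat.of A)) :=
  pfl_tilde _

lemma additive_tilde (R : CommRingCat.{u}) : (tilde.functor R).Additive := inferInstance

/-- additivity of the tilde functor (form for `CommRingCat.of A`) -/
lemma additive_tilde_of (A : Type u) [CommRing A] :
    (tilde.functor (CommRingCat.of A)).Additive :=
  additive_tilde _

/-- the tilde functor is right exact (form for `CommRingCat.of A`) -/
lemma pfc_tilde_of (A : Type u) [CommRing A] :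
    PreservesFiniteColimits (tilde.functor (CommRingCat.of A)) :=
  (Groth.Agent.S9498.aux _).2

attribute [local instance] pfl_tilde pfl_tilde_of additive_tilde_of pfc_tilde_of

section restrict

variable {B A : CommRingCat.{u}} (ψ : B ⟶ A) [IsOpenImmersion (Spec.map ψ)]

/-- restriction of `M~` along an open immersion `Spec A ⟶ Spec B` is `(A ⊗_B M)~` -/
noncomputable def restrictTildeIso :
    tilde.functor B ⋙ Scheme.Modules.restrictFunctor (Spec.map ψ) ≅
      ModuleCat.extendScalars ψ.hom ⋙ tilde.functor A :=
  Functor.isoWhiskerLeft _ (Scheme.Modules.restrictFunctorIsoPullback (Spec.map ψ)) ≪≫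
    pullbackTildeIso ψ

/-- the version for complexes -/
noncomputable def restrictTildeCxIso (K : CochainComplex (ModuleCat.{u} B) ℤ) :
    (Rc (Spec.map ψ)).obj (((tilde.functor B).mapHomologicalComplex (ComplexShape.up ℤ)).obj K) ≅
      ((tilde.functor A).mapHomologicalComplex (ComplexShape.up ℤ)).obj
        (((ModuleCat.extendScalars ψ.hom).mapHomologicalComplex (ComplexShape.up ℤ)).obj K) :=
  HomologicalComplex.Hom.isoOfComponents (fun i => (restrictTildeIso ψ).app (K.X i))
    (fun i j _ => ((restrictTildeIso ψ).hom.naturality (K.d i j)).symm)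

/-- the version in the derived category -/
noncomputable def restrictTildeDIso (K : CochainComplex (ModuleCat.{u} B) ℤ) :
    (DCoh.restrictD (Spec.map ψ)).obj ((DCoh.tildeD B).obj (Q.obj K)) ≅
      (DCoh.tildeD A).obj
        (Q.obj (((ModuleCat.extendScalars ψ.hom).mapHomologicalComplex (ComplexShape.up ℤ)).obj K)) :=
  (DCoh.restrictD (Spec.map ψ)).mapIso ((tilde.functor B).mapDerivedCategoryFactors.app K) ≪≫
    rdQIso (Spec.map ψ) _ ≪≫ Q.mapIso (restrictTildeCxIso ψ K) ≪≫
    ((tilde.functor A).mapDerivedCategoryFactors.app _).symm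

end restrict

section strict

variable (A : CommRingCat.{u})

/-- a strictly perfect complex on `Spec A` is the tilde of a bounded complex of finite projective
modules -/
theorem exists_tildeCx_iso (E : CochainComplex (Spec A).Modules ℤ)
    (hE : DCoh.IsStrictlyPerfect E) :
    ∃ (P : CochainComplex (ModuleCat.{u} A) ℤ) (a b : ℤ), DRing.VanishesOutside P a b ∧
      DRing.TermwiseFiniteProjective P ∧
      Nonempty (((tilde.functor A).mapHomologicalComplex (ComplexShape.up ℤ)).obj P ≅ E) := by
  obtain ⟨⟨a, b, hv⟩, hfl⟩ := hE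
  haveI : ∀ i, (E.X i).IsQuasicoherent := fun i =>
    Groth.Agent.Helper18Strict.isQCoh_of_isFP _
      (Groth.Agent.Lib.Helper2.LocFree.isFP_of_isFinLocFree _ (hfl i))
  have hiso : ∀ i, IsIso (Scheme.Modules.fromTildeΓ (R := A) (E.X i)) := fun i =>
    Groth.Agent.Lib.Helper23.QCohLocal.isIso_fromTildeΓ (E.X i)
  let ε : ∀ i, (tilde.functor A).obj ((moduleSpecΓFunctor (R := A)).obj (E.X i)) ≅ E.X i :=
    fun i => @asIso _ _ _ _ (Scheme.Modules.fromTildeΓ (R := A) (E.X i)) (hiso i)
  let P := ((moduleSpecΓFunctor (R := A)).mapHomologicalComplex (ComplexShape.up ℤ)).obj E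
  let e : ((tilde.functor A).mapHomologicalComplex (ComplexShape.up ℤ)).obj P ≅ E :=
    HomologicalComplex.Hom.isoOfComponents (fun i => ε i)
      (fun i j _ => ((Scheme.Modules.fromTildeΓNatTrans (R := A)).naturality (E.d i j)).symm)
  refine ⟨P, a, b, fun i hi => (moduleSpecΓFunctor (R := A)).map_isZero (hv i hi), fun i => ?_, ⟨e⟩⟩
  exact (Groth.Agent.Lib.Helper2.FPAff.isFinLocFree_tilde_iff A (P.X i)).1
    (Groth.Agent.Lib.Helper1.FLF.isFinLocFree_of_iso (ε i).symm (hfl i))

end strict

end Groth.Agent.Lib.Seat63.TildeLoc
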