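/-
Seat63TildePerf: `M~` is perfect / `m`-pseudo-coherent in `D(O_{Spec A})` iff `M` is in `D(A)`.
* `isPerfect_of_iso_Q`, `isPC_of_conn`: global strictly perfect data.
* `isPerfect_tildeD`, `isPC_tildeD`: from rings to `Spec`.
* `isPerfect_away_of_sprep`, `isPC_away_of_pcrep`: a strictly perfect representative (approximation)
  of `M~` over `D(f)` gives perfectness (pseudo-coherence) of `M_f`.
* `isPerfect_of_isPerfect_tildeD`, `isPC_of_isPC_tildeD`: the converses, by Zariski descent on rings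
  (S6960, S2087).
-/
import Mathlib
import Groth.Agent.Lib.Seat63TildeLoc
import Groth.Agent.Lib.Helper1PC
import Groth.Agent.S6954
import Groth.Agent.S6960
import Groth.Agent.S2087

set_option autoImplicit false
set_option linter.style.haveILetI false
universe u
open CategoryTheory CategoryTheory.Limits AlgebraicGeometry TopologicalSpace
attribute [local instance] HasDerivedCategory.standard

namespace Groth.Agent.Lib.Seat63.TildePerf

open DerivedCategory Groth.Agent.Lib.Seat0.PerfLocal Groth.Agent.Lib.Seat0.PCLocal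
  Groth.Agent.Lib.Seat0.Cn Groth.Agent.Lib.Seat63.TildeLoc Groth.Agent.Lib.Seat4.TildeEquiv

attribute [local instance] pfl_tilde pfl_tilde_of additive_tilde_of pfc_tilde_of

section general

variable {X : Scheme.{u}}

/-- an object represented by a (global) strictly perfect complex is perfect -/
theorem isPerfect_of_iso_Q (K : DCoh.D X) (E : CochainComplex X.Modules ℤ)
    (hE : DCoh.IsStrictlyPerfect E) (e : K ≅ Q.obj E) : DCoh.IsPerfect K := by
  refine isPerfect_of_sprep K (fun x => ⟨X, 𝟙 X, inferInstance, ⟨x, rfl⟩, ?_⟩)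
  exact ⟨(Rc (𝟙 X)).obj E, isStrictlyPerfect_rc _ E hE,
    ⟨(DCoh.restrictD (𝟙 X)).mapIso e ≪≫ rdQIso (𝟙 X) E⟩⟩

/-- an object receiving an `m`-connected map from a (global) strictly perfect complex is
`m`-pseudo-coherent -/
theorem isPC_of_conn (m : ℤ) (K : DCoh.D X) (E : CochainComplex X.Modules ℤ)
    (hE : DCoh.IsStrictlyPerfect E) (α : Q.obj E ⟶ K) (hα : Conn m α) :
    DCoh.IsPseudoCoherentD m K := by
  refine isPC_of_pcrep m K (fun x => ⟨X, 𝟙 X, inferInstance, ⟨x, rfl⟩, ?_⟩)
  refine ⟨(Rc (𝟙 X)).obj E, (rdQIso (𝟙 X) E).inv ≫ (DCoh.restrictD (𝟙 X)).map α,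
    isStrictlyPerfect_rc _ E hE, ?_⟩
  exact (Conn.of_isIso m _).comp (conn_map (Scheme.Modules.restrictFunctor (𝟙 X)) α m hα)

lemma isPerfect_of_iso {K K' : DCoh.D X} (e : K ≅ K') (h : DCoh.IsPerfect K) :
    DCoh.IsPerfect K' := by
  rw [isPerfect_iff_sprep] at h ⊢
  intro x
  obtain ⟨V, hxV, hV⟩ := h x
  exact ⟨V, hxV, hV.of_iso e⟩

lemma isPC_of_iso {m : ℤ} {K K' : DCoh.D X} (e : K ≅ K') (h : DCoh.IsPseudoCoherentD m K) :
    DCoh.IsPseudoCoherentD m K' := by
  rw [isPC_iff_pcrep] at h ⊢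
  intro x
  obtain ⟨V, hxV, hV⟩ := h x
  exact ⟨V, hxV, hV.of_iso e⟩

end general

section ring

variable {R : Type u} [CommRing R]

lemma isPerfect_ring_of_iso {K K' : Dual.D R} (e : K ≅ K') (h : DRing.IsPerfect R K) :
    DRing.IsPerfect R K' := by
  obtain ⟨P, a, b, hv, hfp, ⟨i⟩⟩ := h
  exact ⟨P, a, b, hv, hfp, ⟨i ≪≫ e⟩⟩

/-- an object receiving an `m`-connected map from a perfect object is `m`-pseudo-coherent -/
theorem isPC_of_conn_perfect (m : ℤ) {P K : Dual.D R} (hP : DRing.IsPerfect R P) (β : P ⟶ K)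
    (hβ : Conn m β) : DRing.IsPseudoCoherent R m K := by
  obtain ⟨E, b, hE, hff, ⟨e⟩⟩ := ((Groth.Agent.S6954.result R P).1 hP).1
  have h1 := Groth.Agent.Lib.Helper1.PC.conn_sigmaGEι E m
  have h2 : Conn m (Q.map (Groth.Agent.Lib.Helper1.PC.sigmaGEι E m)) := ⟨h1.1, h1.2⟩
  have h3 : Conn m (Q.map (Groth.Agent.Lib.Helper1.PC.sigmaGEι E m) ≫ e.hom ≫ β) :=
    h2.comp ((Conn.of_isIso m e.hom).comp hβ)
  refine ⟨Groth.Agent.Lib.Helper1.PC.sigmaGE E m, m, b, _, ?_, ?_, h3.1, h3.2⟩
  · rintro i (hi | hi)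
    · exact Groth.Agent.Lib.Helper1.PC.isZero_sigmaGE_X E m i hi
    · exact Groth.Agent.Lib.Helper1.PC.isZero_sigmaGE_X' E m i (hE i hi)
  · intro i
    exact Groth.Agent.Lib.Helper1.PC.FF_sigmaGE E m i (hff i)

end ring

section toSpec

variable (A : CommRingCat.{u})

/-- `tildeD` reflects `m`-connectedness -/
lemma conn_of_conn_tildeD {M N : DerivedCategory (ModuleCat.{u} A)} (β : M ⟶ N) (m : ℤ)
    (h : Conn m ((DCoh.tildeD A).map β)) : Conn m β := by
  refine ⟨fun i hi => ?_, ?_⟩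
  · have h1 := h.1 i hi
    have h2 : IsIso ((tilde.functor A).map ((homologyFunctor (ModuleCat.{u} A) i).map β)) :=
      (Groth.Agent.Lib.Helper17.Hyp.isIso_homology_map_iff (tilde.functor A) β i).1 h1
    exact isIso_of_fully_faithful (tilde.functor A) _
  · have h1 := h.2
    have h2 : Epi ((tilde.functor A).map ((homologyFunctor (ModuleCat.{u} A) m).map β)) :=
      (Groth.Agent.Lib.Helper1.PC.epi_map_iff_of_natIso
        (Groth.Agent.Lib.Helper17.Hyp.homologyNatIso (tilde.functor A) m) β).1 h1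
    exact (tilde.functor A).epi_of_epi_map h2

/-- `M` perfect ⇒ `M~` perfect -/
theorem isPerfect_tildeD (M : DerivedCategory (ModuleCat.{u} A)) (h : DRing.IsPerfect A M) :
    DCoh.IsPerfect ((DCoh.tildeD A).obj M) := by
  obtain ⟨P, a, b, hv, hfp, ⟨e⟩⟩ := h
  refine isPerfect_of_iso_Q _
    (((tilde.functor A).mapHomologicalComplex (ComplexShape.up ℤ)).obj P)
    ⟨⟨a, b, fun i hi => (tilde.functor A).map_isZero (hv i hi)⟩, fun i =>
      (Groth.Agent.Lib.Helper2.FPAff.isFinLocFree_tilde_iff _ (P.X i)).2 (hfp i)⟩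
    ((DCoh.tildeD A).mapIso e.symm ≪≫ (tilde.functor A).mapDerivedCategoryFactors.app P)

/-- `M` `m`-pseudo-coherent ⇒ `M~` `m`-pseudo-coherent -/
theorem isPC_tildeD (m : ℤ) (M : DerivedCategory (ModuleCat.{u} A))
    (h : DRing.IsPseudoCoherent A m M) : DCoh.IsPseudoCoherentD m ((DCoh.tildeD A).obj M) := by
  obtain ⟨E, a, b, α, hv, hff, h1, h2⟩ := h
  refine isPC_of_conn m _
    (((tilde.functor A).mapHomologicalComplex (ComplexShape.up ℤ)).obj E)
    ⟨⟨a, b, fun i hi => (tilde.functor A).map_isZero (hv i hi)⟩, fun i =>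
      (Groth.Agent.Lib.Helper2.FPAff.isFinLocFree_tilde_iff _ (E.X i)).2
        ⟨(hff i).1, haveI := (hff i).2; inferInstance⟩⟩
    (((tilde.functor A).mapDerivedCategoryFactors.app E).inv ≫ (DCoh.tildeD A).map α) ?_
  exact (Conn.of_isIso m _).comp (conn_map (tilde.functor A) α m ⟨h1, h2⟩)

end toSpec

section away

variable (A : Type u) [CommRing A] (f : A)

/-- the localisation map as a morphism of `CommRingCat` -/
noncomputable abbrev ψf : CommRingCat.of A ⟶ CommRingCat.of (Localization.Away f) :=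
  CommRingCat.ofHom (algebraMap A (Localization.Away f))

/-- a strictly perfect representative of `K~` over `D(f)` makes `K_f` perfect -/
theorem isPerfect_away_of_sprep (K : DRing.Cx A)
    (h : SPRep (Spec.map (ψf A f)) ((DCoh.tildeD (CommRingCat.of A)).obj (Q.obj K))) :
    DRing.IsPerfect (Localization.Away f)
      (DRing.toD (((ModuleCat.extendScalars (algebraMap A (Localization.Away f))).mapHomologicalComplex
        (ComplexShape.up ℤ)).obj K)) := by
  obtain ⟨E, hE, ⟨e⟩⟩ := h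
  obtain ⟨P, a, b, hv, hfp, ⟨eP⟩⟩ :=
    exists_tildeCx_iso (CommRingCat.of (Localization.Away f)) E hE
  let Kf := ((ModuleCat.extendScalars (algebraMap A (Localization.Away f))).mapHomologicalComplex
    (ComplexShape.up ℤ)).obj K
  let i : (DCoh.tildeD (CommRingCat.of (Localization.Away f))).obj (Q.obj P) ≅
      (DCoh.tildeD (CommRingCat.of (Localization.Away f))).obj (Q.obj Kf) :=
    (tilde.functor (CommRingCat.of (Localization.Away f))).mapDerivedCategoryFactors.app P ≪≫
      Q.mapIso eP ≪≫ e.symm ≪≫ restrictTildeDIso (ψf A f) K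
  exact ⟨P, a, b, hv, hfp,
    ⟨(fullyFaithfulTildeD (CommRingCat.of (Localization.Away f))).preimageIso i⟩⟩

/-- an `m`-connected strictly perfect approximation of `K~` over `D(f)` makes `K_f`
`m`-pseudo-coherent -/
theorem isPC_away_of_pcrep (m : ℤ) (K : DRing.Cx A)
    (h : PCRep m (Spec.map (ψf A f)) ((DCoh.tildeD (CommRingCat.of A)).obj (Q.obj K))) :
    DRing.IsPseudoCoherent (Localization.Away f) m
      (DRing.toD (((ModuleCat.extendScalars (algebraMap A (Localization.Away f))).mapHomologicalComplex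
        (ComplexShape.up ℤ)).obj K)) := by
  obtain ⟨E, α, hE, hα⟩ := h
  obtain ⟨P, a, b, hv, hfp, ⟨eP⟩⟩ :=
    exists_tildeCx_iso (CommRingCat.of (Localization.Away f)) E hE
  let Kf := ((ModuleCat.extendScalars (algebraMap A (Localization.Away f))).mapHomologicalComplex
    (ComplexShape.up ℤ)).obj K
  let α' : (DCoh.tildeD (CommRingCat.of (Localization.Away f))).obj (Q.obj P) ⟶
      (DCoh.tildeD (CommRingCat.of (Localization.Away f))).obj (Q.obj Kf) :=
    ((tilde.functor (CommRingCat.of (Localization.Away f))).mapDerivedCategoryFactors.app P).hom ≫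
      (Q.mapIso eP).hom ≫ α ≫ (restrictTildeDIso (ψf A f) K).hom
  have hα' : Conn m α' :=
    (Conn.of_isIso m _).comp ((Conn.of_isIso m _).comp (hα.comp (Conn.of_isIso m _)))
  let β := (fullyFaithfulTildeD (CommRingCat.of (Localization.Away f))).preimage α'
  have hβ : Conn m β := by
    apply conn_of_conn_tildeD
    rw [Functor.FullyFaithful.map_preimage]
    exact hα'
  exact isPC_of_conn_perfect m ⟨P, a, b, hv, hfp, ⟨Iso.refl _⟩⟩ β hβ

end away

section global

variable (A : Type u) [CommRing A]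

/-- a set of elements meeting the complement of every prime generates the unit ideal -/
theorem span_eq_top_of_local (S : Set A) (h : ∀ x : PrimeSpectrum A, ∃ f ∈ S, f ∉ x.asIdeal) :
    Ideal.span S = ⊤ := by
  by_contra hne
  obtain ⟨𝔪, hm, hle⟩ := Ideal.exists_le_maximal _ hne
  obtain ⟨f, hfS, hf⟩ := h ⟨𝔪, hm.isPrime⟩
  exact hf (hle (Ideal.subset_span hfS))

/-- extraction of a finite generating family -/
theorem exists_fin_family (S : Set A) (hS : Ideal.span S = ⊤) :
    ∃ (r : ℕ) (f : Fin r → A), (∀ i, f i ∈ S) ∧ Ideal.span (Set.range f) = ⊤ := by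
  obtain ⟨s, hsS, hs⟩ := (Ideal.span_eq_top_iff_finite S).1 hS
  refine ⟨s.card, fun i => ((s.equivFin.symm i : s) : A), fun i => hsS (s.equivFin.symm i).2, ?_⟩
  have : Set.range (fun i => ((s.equivFin.symm i : s) : A)) = ↑s := by
    ext a
    constructor
    · rintro ⟨i, rfl⟩
      exact (s.equivFin.symm i).2
    · intro ha
      exact ⟨s.equivFin ⟨a, ha⟩, by simp⟩
  rw [this]
  exact hs

/-- the localisation `Spec A_f ⟶ Spec A` factors through any open containing `D(f)` -/
theorem exists_lift_basicOpen (V : (Spec (CommRingCat.of A)).Opens) (x : PrimeSpectrum A)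
    (hxV : x ∈ V) :
    ∃ (f : A) (_ : f ∉ x.asIdeal)
      (j₁ : Spec (CommRingCat.of (Localization.Away f)) ⟶ (V : Scheme.{u}))
      (_ : IsOpenImmersion j₁), j₁ ≫ V.ι = Spec.map (ψf A f) := by
  obtain ⟨_, ⟨f, rfl⟩, hxf, hfV⟩ :=
    (Opens.isBasis_iff_nbhd.1 (PrimeSpectrum.isBasis_basic_opens (R := A))) hxV
  have hrange : Set.range (Spec.map (ψf A f)) ⊆ Set.range V.ι := by
    rw [Scheme.Opens.range_ι, ← Scheme.Hom.coe_opensRange]
    have := Scheme.Hom.opensRange_localizationAway (R := CommRingCat.of A) f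
    rw [this]
    exact hfV
  let j₁ := IsOpenImmersion.lift V.ι (Spec.map (ψf A f)) hrange
  have hfac : j₁ ≫ V.ι = Spec.map (ψf A f) := IsOpenImmersion.lift_fac _ _ _
  haveI : IsOpenImmersion (j₁ ≫ V.ι) := by rw [hfac]; infer_instance
  exact ⟨f, (PrimeSpectrum.mem_basicOpen f x).1 hxf, j₁, IsOpenImmersion.of_comp j₁ V.ι, hfac⟩

/-- `M~` perfect ⇒ `M` perfect -/
theorem isPerfect_of_isPerfect_tildeD (M : Dual.D A)
    (h : DCoh.IsPerfect ((DCoh.tildeD (CommRingCat.of A)).obj M)) : DRing.IsPerfect A M := by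
  let K := Q.objPreimage M
  let e : Q.obj K ≅ M := Q.objObjPreimageIso M
  have h' : DCoh.IsPerfect ((DCoh.tildeD (CommRingCat.of A)).obj (Q.obj K)) :=
    isPerfect_of_iso ((DCoh.tildeD (CommRingCat.of A)).mapIso e.symm) h
  let S : Set A := {f | DRing.IsPerfect (Localization.Away f)
    (DRing.toD (((ModuleCat.extendScalars (algebraMap A (Localization.Away f))).mapHomologicalComplex
      (ComplexShape.up ℤ)).obj K))}
  have hS : Ideal.span S = ⊤ := span_eq_top_of_local A S (fun x => by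
    obtain ⟨V, hxV, hV⟩ := (isPerfect_iff_sprep _).1 h' x
    obtain ⟨f, hf, j₁, _, hfac⟩ := exists_lift_basicOpen A V x hxV
    exact ⟨f, isPerfect_away_of_sprep A f K ((hV.comp j₁).ofEq hfac), hf⟩)
  obtain ⟨r, f, hfS, hf⟩ := exists_fin_family A S hS
  exact isPerfect_ring_of_iso e (Groth.Agent.S6960.result f hf K hfS)

/-- `M~` `m`-pseudo-coherent ⇒ `M` `m`-pseudo-coherent -/
theorem isPC_of_isPC_tildeD (m : ℤ) (M : Dual.D A)
    (h : DCoh.IsPseudoCoherentD m ((DCoh.tildeD (CommRingCat.of A)).obj M)) :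
    DRing.IsPseudoCoherent A m M := by
  let K := Q.objPreimage M
  let e : Q.obj K ≅ M := Q.objObjPreimageIso M
  have h' : DCoh.IsPseudoCoherentD m ((DCoh.tildeD (CommRingCat.of A)).obj (Q.obj K)) :=
    isPC_of_iso ((DCoh.tildeD (CommRingCat.of A)).mapIso e.symm) h
  let S : Set A := {f | DRing.IsPseudoCoherent (Localization.Away f) m
    (DRing.toD (((ModuleCat.extendScalars (algebraMap A (Localization.Away f))).mapHomologicalComplex
      (ComplexShape.up ℤ)).obj K))}
  have hS : Ideal.span S = ⊤ := span_eq_top_of_local A S (fun x => by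
    obtain ⟨V, hxV, hV⟩ := (isPC_iff_pcrep m _).1 h' x
    obtain ⟨f, hf, j₁, _, hfac⟩ := exists_lift_basicOpen A V x hxV
    exact ⟨f, isPC_away_of_pcrep A f m K ((hV.comp j₁).ofEq hfac), hf⟩)
  obtain ⟨r, f, hfS, hf⟩ := exists_fin_family A S hS
  exact Groth.Agent.Lib.Helper1.PC.isPC_of_iso e (Groth.Agent.S2087.result f hf K m hfS)

end global

end Groth.Agent.Lib.Seat63.TildePerf
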