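import Mathlib

/-!
# Elementwise criterion for quasi-isomorphisms of complexes of abelian groups
(helper64)
-/

set_option autoImplicit false
open CategoryTheory

universe u

namespace Groth.Agent.Lib.Seat64.AbQuasiIso

section
variable (S : ShortComplex Ab.{u})

lemma ab_i_injective : Function.Injective S.abLeftHomologyData.i := by
  intro a b h
  exact Subtype.ext h

lemma ab_g_i (k : S.abLeftHomologyData.K) : S.g (S.abLeftHomologyData.i k) = 0 := by
  have := ConcreteCategory.congr_hom S.abLeftHomologyData.wi k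
  exact this

lemma ab_exists_i_eq (x₂ : S.X₂) (h : S.g x₂ = 0) :
    ∃ k : S.abLeftHomologyData.K, S.abLeftHomologyData.i k = x₂ :=
  ⟨(⟨x₂, h⟩ : AddMonoidHom.ker S.g.hom), rfl⟩

lemma ab_π_surjective : Function.Surjective S.abLeftHomologyData.π := by
  intro q
  obtain ⟨k, hk⟩ := QuotientAddGroup.mk_surjective
    (s := AddMonoidHom.range S.abToCycles) q
  exact ⟨k, hk⟩

lemma ab_π_eq_zero_iff (k : S.abLeftHomologyData.K) :
    S.abLeftHomologyData.π k = 0 ↔ ∃ x₁ : S.X₁, S.f x₁ = S.abLeftHomologyData.i k := by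
  have key : ∀ k' : AddMonoidHom.ker S.g.hom,
      (QuotientAddGroup.mk k' :
        AddMonoidHom.ker S.g.hom ⧸ AddMonoidHom.range S.abToCycles) = 0 ↔
        ∃ x₁ : S.X₁, S.f x₁ = k'.1 := by
    intro k'
    rw [QuotientAddGroup.eq_zero_iff, AddMonoidHom.mem_range]
    constructor
    · rintro ⟨x, hx⟩; exact ⟨x, congrArg Subtype.val hx⟩
    · rintro ⟨x, hx⟩; exact ⟨x, Subtype.ext hx⟩
  exact key k

end

/-- Elementwise criterion for a morphism of short complexes of abelian groups to be a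
quasi-isomorphism. -/
theorem ab_quasiIso_iff {S₁ S₂ : ShortComplex Ab.{u}} (φ : S₁ ⟶ S₂) :
    ShortComplex.QuasiIso φ ↔
      (∀ x₂ : S₁.X₂, S₁.g x₂ = 0 → (∃ y₁ : S₂.X₁, S₂.f y₁ = φ.τ₂ x₂) →
        ∃ x₁ : S₁.X₁, S₁.f x₁ = x₂) ∧
      (∀ y₂ : S₂.X₂, S₂.g y₂ = 0 →
        ∃ x₂ : S₁.X₂, S₁.g x₂ = 0 ∧ ∃ y₁ : S₂.X₁, S₂.f y₁ = φ.τ₂ x₂ - y₂) := by
  let γ : ShortComplex.LeftHomologyMapData φ S₁.abLeftHomologyData S₂.abLeftHomologyData :=
    default
  rw [γ.quasiIso_iff, ConcreteCategory.isIso_iff_bijective]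
  have hK : ∀ k : S₁.abLeftHomologyData.K,
      S₂.abLeftHomologyData.i (γ.φK k) = φ.τ₂ (S₁.abLeftHomologyData.i k) := by
    intro k
    exact ConcreteCategory.congr_hom γ.commi k
  have hH : ∀ k : S₁.abLeftHomologyData.K,
      γ.φH (S₁.abLeftHomologyData.π k) = S₂.abLeftHomologyData.π (γ.φK k) := by
    intro k
    exact ConcreteCategory.congr_hom γ.commπ k
  constructor
  · rintro ⟨hinj, hsurj⟩
    refine ⟨fun x₂ hx₂ hy => ?_, fun y₂ hy₂ => ?_⟩
    · obtain ⟨k, rfl⟩ := ab_exists_i_eq S₁ x₂ hx₂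
      have h0 : γ.φH (S₁.abLeftHomologyData.π k) = 0 := by
        rw [hH, ab_π_eq_zero_iff, hK]
        exact hy
      have : S₁.abLeftHomologyData.π k = 0 := by
        apply hinj
        rw [h0]
        exact (map_zero _).symm
      exact (ab_π_eq_zero_iff S₁ k).1 this
    · obtain ⟨k, rfl⟩ := ab_exists_i_eq S₂ y₂ hy₂
      obtain ⟨q, hq⟩ := hsurj (S₂.abLeftHomologyData.π k)
      obtain ⟨k₁, rfl⟩ := ab_π_surjective S₁ q
      refine ⟨S₁.abLeftHomologyData.i k₁, ab_g_i S₁ k₁, ?_⟩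
      rw [hH] at hq
      have h0 : S₂.abLeftHomologyData.π (γ.φK k₁ - k) = 0 := by
        rw [map_sub, hq, sub_self]
      obtain ⟨y₁, hy₁⟩ := (ab_π_eq_zero_iff S₂ _).1 h0
      refine ⟨y₁, ?_⟩
      rw [hy₁, map_sub, hK]
  · rintro ⟨hinj, hsurj⟩
    constructor
    · rw [injective_iff_map_eq_zero]
      intro q hq
      obtain ⟨k, rfl⟩ := ab_π_surjective S₁ q
      rw [hH, ab_π_eq_zero_iff, hK] at hq
      exact (ab_π_eq_zero_iff S₁ k).2 (hinj _ (ab_g_i S₁ k) hq)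
    · intro q
      obtain ⟨k, rfl⟩ := ab_π_surjective S₂ q
      obtain ⟨x₂, hx₂, y₁, hy₁⟩ := hsurj _ (ab_g_i S₂ k)
      obtain ⟨k₁, rfl⟩ := ab_exists_i_eq S₁ x₂ hx₂
      refine ⟨S₁.abLeftHomologyData.π k₁, ?_⟩
      rw [hH, ← sub_eq_zero, ← map_sub, ab_π_eq_zero_iff]
      refine ⟨y₁, ?_⟩
      rw [hy₁, map_sub, hK]

section complexes

variable {ι : Type*} {c : ComplexShape ι} {K L : HomologicalComplex Ab.{u} c}

lemma d_next_eq_zero_iff (j : ι) (x : K.X j) :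
    K.d j (c.next j) x = 0 ↔ ∀ k, K.d j k x = 0 := by
  constructor
  · intro h k
    by_cases hk : c.Rel j k
    · rw [← c.next_eq' hk]; exact h
    · rw [K.shape j k hk]; rfl
  · intro h; exact h _

/-- Elementwise criterion for `QuasiIsoAt` for complexes of abelian groups. -/
theorem quasiIsoAt_iff_elem (φ : K ⟶ L) (i j : ι) (hi : c.prev j = i) :
    QuasiIsoAt φ j ↔
      (∀ x : K.X j, (∀ k, K.d j k x = 0) → (∃ y : L.X i, L.d i j y = φ.f j x) →
        ∃ z : K.X i, K.d i j z = x) ∧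
      (∀ y : L.X j, (∀ k, L.d j k y = 0) →
        ∃ x : K.X j, (∀ k, K.d j k x = 0) ∧ ∃ w : L.X i, L.d i j w = φ.f j x - y) := by
  rw [quasiIsoAt_iff' φ i j (c.next j) hi rfl, ab_quasiIso_iff]
  simp only [← d_next_eq_zero_iff]
  rfl

/-- Homotopic maps differ by a boundary on cycles. -/
theorem exists_boundary_of_homotopy {f g : K ⟶ L} (h : Homotopy f g) (i j : ι)
    (hi : c.prev j = i) (x : K.X j) (hx : ∀ k, K.d j k x = 0) :
    ∃ w : L.X i, L.d i j w = f.f j x - g.f j x := by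
  subst hi
  refine ⟨h.hom j (c.prev j) x, ?_⟩
  have h1 := h.comm j
  have h2 : f.f j x = (dNext j h.hom) x + (prevD j h.hom) x + g.f j x := by
    rw [h1]; rfl
  have h3 : (dNext j h.hom) x = 0 := by
    change h.hom (c.next j) j (K.d j (c.next j) x) = 0
    rw [hx]; exact map_zero _
  have h4 : (prevD j h.hom) x = L.d (c.prev j) j (h.hom j (c.prev j) x) := rfl
  rw [h2, h3, h4]; abel

end complexes

end Groth.Agent.Lib.Seat64.AbQuasiIso
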