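import Mathlib
import Groth.Prelude.Def_BlowUp2

/-!
# Universal property of an affine blow-up chart: the ring/sheaf part (seat 64)

Let `A → B` be injective with `I·B ⊆ image of I`.  Let `Y` be a scheme and `ψ : A → Γ(Y, ⊤)` a ring
map such that locally on `Y` the ideal generated by `ψ(I)` is generated by one nonzerodivisor
(hypothesis `LocPrincipal`).  Then `ψ` extends uniquely to `B → Γ(Y, ⊤)`
(`existsUnique_extension`).
-/

set_option autoImplicit false
universe u
open CategoryTheory AlgebraicGeometry Opposite TopologicalSpace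

namespace Groth.Agent.Lib.Seat64.AffBlowUp

/-- Pure algebra: if `I·C = (c)` with `c` a nonzerodivisor and `m` is a "symmetric multiplier" on
`I`, then there is `t ∈ C` with `t · χ x = χ (m x)` on `I`. -/
theorem exists_local_multiplier {A C : Type*} [CommRing A] [CommRing C] (χ : A →+* C)
    (I : Ideal A) (c : C) (hc : c ∈ nonZeroDivisors C) (hI : Ideal.map χ I = Ideal.span {c})
    (m : A → A) (hm : ∀ x ∈ I, m x ∈ I)
    (hsym : ∀ x ∈ I, ∀ x' ∈ I, m x * x' = x * m x') :
    ∃ t : C, ∀ x ∈ I, t * χ x = χ (m x) := by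
  have key : ∀ z ∈ Ideal.map χ I, ∃ z' ∈ Ideal.map χ I, ∀ x ∈ I, z' * χ x = z * χ (m x) := by
    intro z hz
    refine Submodule.span_induction (p := fun z _ => ∃ z' ∈ Ideal.map χ I,
      ∀ x ∈ I, z' * χ x = z * χ (m x)) ?_ ?_ ?_ ?_ hz
    · rintro _ ⟨x₁, hx₁, rfl⟩
      refine ⟨χ (m x₁), Ideal.mem_map_of_mem χ (hm x₁ hx₁), fun x hx => ?_⟩
      rw [← map_mul, ← map_mul, hsym x₁ hx₁ x hx]
    · exact ⟨0, Ideal.zero_mem _, fun x _ => by rw [zero_mul, zero_mul]⟩
    · rintro a b - - ⟨a', ha', ha⟩ ⟨b', hb', hb⟩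
      exact ⟨a' + b', Ideal.add_mem _ ha' hb', fun x hx => by rw [add_mul, add_mul, ha x hx, hb x hx]⟩
    · rintro r a - ⟨a', ha', ha⟩
      refine ⟨r * a', Ideal.mul_mem_left _ r ha', fun x hx => ?_⟩
      rw [smul_eq_mul, mul_assoc, mul_assoc, ha x hx]
  have hcmem : c ∈ Ideal.map χ I := by rw [hI]; exact Ideal.mem_span_singleton_self c
  obtain ⟨c', hc', hcc⟩ := key c hcmem
  rw [hI, Ideal.mem_span_singleton'] at hc'
  obtain ⟨t, rfl⟩ := hc'
  refine ⟨t, fun x hx => ?_⟩
  have h1 := hcc x hx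
  have h2 : (t * χ x - χ (m x)) * c = 0 := by linear_combination h1
  have h3 := hc.2 _ h2
  exact sub_eq_zero.1 h3

variable {Y : Scheme.{u}} {A : Type u} [CommRing A]

/-- The restriction of `ψ : A → Γ(Y, ⊤)` to an open `W`. -/
noncomputable def resψ (ψ : A →+* Γ(Y, ⊤)) (W : Y.Opens) : A →+* Γ(Y, W) :=
  (Y.presheaf.map (homOfLE (le_top : W ≤ ⊤)).op).hom.comp ψ

theorem res_resψ (ψ : A →+* Γ(Y, ⊤)) {U W : Y.Opens} (h : U ≤ W) (a : A) :
    (Y.presheaf.map (homOfLE h).op).hom (resψ ψ W a) = resψ ψ U a := by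
  unfold resψ
  simp only [RingHom.comp_apply]
  rw [← CommRingCat.comp_apply, ← Functor.map_comp]
  rfl

theorem resψ_top (ψ : A →+* Γ(Y, ⊤)) (a : A) : resψ ψ ⊤ a = ψ a := by
  unfold resψ
  simp only [RingHom.comp_apply]
  have : Y.presheaf.map (homOfLE (le_top : (⊤ : Y.Opens) ≤ ⊤)).op = 𝟙 _ :=
    CategoryTheory.Functor.map_id _ _
  rw [this]
  rfl

/-- Locally on `Y`, arbitrarily finely, `ψ(I)` generates an ideal generated by one nonzerodivisor. -/
def LocPrincipal (ψ : A →+* Γ(Y, ⊤)) (I : Ideal A) : Prop :=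
  ∀ (y : Y) (W : Y.Opens), y ∈ W → ∃ U : Y.Opens, y ∈ U ∧ U ≤ W ∧
    ∃ c : Γ(Y, U), c ∈ nonZeroDivisors Γ(Y, U) ∧ Ideal.map (resψ ψ U) I = Ideal.span {c}

theorem eq_zero_of_forall_mul {ψ : A →+* Γ(Y, ⊤)} {I : Ideal A} (hloc : LocPrincipal ψ I)
    (W : Y.Opens) (s : Γ(Y, W)) (hs : ∀ x ∈ I, s * resψ ψ W x = 0) : s = 0 := by
  choose U hyU hUW c hc hIc using fun y : W => hloc y.1 W y.2
  have hcov : W ≤ ⨆ y : W, U y := fun y hy => Opens.mem_iSup.2 ⟨⟨y, hy⟩, hyU ⟨y, hy⟩⟩
  refine TopCat.Sheaf.eq_of_locally_eq' Y.sheaf U W (fun y => homOfLE (hUW y)) hcov s 0 ?_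
  intro y
  change (Y.presheaf.map (homOfLE (hUW y)).op).hom s = (Y.presheaf.map (homOfLE (hUW y)).op).hom 0
  rw [map_zero]
  set s' := (Y.presheaf.map (homOfLE (hUW y)).op).hom s with hs'
  have h1 : Ideal.map (resψ ψ (U y)) I ≤ (Submodule.span Γ(Y, U y) {s'}).annihilator := by
    rw [Ideal.map_le_iff_le_comap]
    intro x hx
    rw [Ideal.mem_comap, Submodule.mem_annihilator_span_singleton, smul_eq_mul, mul_comm,
      ← res_resψ ψ (hUW y), hs', ← map_mul, hs x hx, map_zero]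
  have h2 : c y ∈ (Submodule.span Γ(Y, U y) {s'}).annihilator :=
    h1 (by rw [hIc]; exact Ideal.mem_span_singleton_self _)
  rw [Submodule.mem_annihilator_span_singleton, smul_eq_mul, mul_comm] at h2
  exact (hc y).2 _ h2

theorem existsUnique_multiplier {ψ : A →+* Γ(Y, ⊤)} {I : Ideal A} (hloc : LocPrincipal ψ I)
    (m : A → A) (hm : ∀ x ∈ I, m x ∈ I)
    (hsym : ∀ x ∈ I, ∀ x' ∈ I, m x * x' = x * m x') :
    ∃! t : Γ(Y, ⊤), ∀ x ∈ I, t * ψ x = ψ (m x) := by
  choose U hyU _ c hc hIc using fun y : Y => hloc y ⊤ (Opens.mem_top y)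
  have hex : ∀ y : Y, ∃ t : Γ(Y, U y), ∀ x ∈ I, t * resψ ψ (U y) x = resψ ψ (U y) (m x) :=
    fun y => exists_local_multiplier (resψ ψ (U y)) I (c y) (hc y) (hIc y) m hm hsym
  choose t ht using hex
  have hcov : (⊤ : Y.Opens) ≤ ⨆ y : Y, U y := fun y _ => Opens.mem_iSup.2 ⟨y, hyU y⟩
  have hloc_mul : ∀ (y : Y) (V : Y.Opens) (hV : V ≤ U y), ∀ x ∈ I,
      (Y.presheaf.map (homOfLE hV).op).hom (t y) * resψ ψ V x = resψ ψ V (m x) := by
    intro y V hV x hx
    rw [← res_resψ ψ hV x, ← map_mul, ht y x hx, res_resψ ψ hV]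
  have hcompat : TopCat.Presheaf.IsCompatible Y.presheaf U t := by
    intro y y'
    change (Y.presheaf.map (homOfLE inf_le_left).op).hom (t y) =
      (Y.presheaf.map (homOfLE inf_le_right).op).hom (t y')
    rw [← sub_eq_zero]
    apply eq_zero_of_forall_mul hloc
    intro x hx
    rw [sub_mul, hloc_mul y _ inf_le_left x hx, hloc_mul y' _ inf_le_right x hx, sub_self]
  obtain ⟨t00, ht00, -⟩ := Y.sheaf.existsUnique_gluing' U ⊤ (fun y => homOfLE le_top) hcov t hcompat
  let t0 : Γ(Y, ⊤) := t00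
  have ht0' : ∀ y : Y, (Y.presheaf.map (homOfLE (le_top : U y ≤ ⊤)).op).hom t0 = t y := ht00
  have hprop : ∀ x ∈ I, t0 * ψ x = ψ (m x) := by
    intro x hx
    rw [← sub_eq_zero]
    refine TopCat.Sheaf.eq_of_locally_eq' Y.sheaf U ⊤ (fun y => homOfLE le_top) hcov
      (t0 * ψ x - ψ (m x) : Γ(Y, ⊤)) (0 : Γ(Y, ⊤)) ?_
    intro y
    change (Y.presheaf.map (homOfLE (le_top : U y ≤ ⊤)).op).hom (t0 * ψ x - ψ (m x)) =
      (Y.presheaf.map (homOfLE (le_top : U y ≤ ⊤)).op).hom 0
    rw [map_zero, map_sub, map_mul, ht0' y]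
    have := ht y x hx
    unfold resψ at this
    simp only [RingHom.comp_apply] at this
    rw [this, sub_self]
  refine ⟨t0, hprop, ?_⟩
  intro t1 ht1
  rw [← sub_eq_zero]
  apply eq_zero_of_forall_mul hloc
  intro x hx
  rw [resψ_top, sub_mul, ht1 x hx, hprop x hx, sub_self]

/-- If `A → B` is injective, `I·B` is contained in the image of `I`, and `ψ(I)` is locally on `Y`
generated by one nonzerodivisor, then `ψ : A → Γ(Y, ⊤)` extends uniquely to `B`. -/
theorem existsUnique_extension {B : Type u} [CommRing B] [Algebra A B]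
    (hinj : Function.Injective (algebraMap A B)) (I : Ideal A)
    (hIB : (Ideal.map (algebraMap A B) I : Set B) ⊆ algebraMap A B '' (I : Set A))
    (ψ : A →+* Γ(Y, ⊤)) (hloc : LocPrincipal ψ I) :
    ∃! η : B →+* Γ(Y, ⊤), η.comp (algebraMap A B) = ψ := by
  have h : ∀ (b : B) (x : A), ∃ y : A, x ∈ I → (y ∈ I ∧ algebraMap A B y = b * algebraMap A B x) := by
    intro b x
    by_cases hx : x ∈ I
    · obtain ⟨y, hy, e⟩ := hIB (Ideal.mul_mem_left _ b (Ideal.mem_map_of_mem (algebraMap A B) hx))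
      exact ⟨y, fun _ => ⟨hy, e⟩⟩
    · exact ⟨0, fun h => absurd h hx⟩
  choose mm hmm using h
  have hm : ∀ b, ∀ x ∈ I, mm b x ∈ I := fun b x hx => (hmm b x hx).1
  have hsym : ∀ b, ∀ x ∈ I, ∀ x' ∈ I, mm b x * x' = x * mm b x' := by
    intro b x hx x' hx'
    apply hinj
    rw [map_mul, map_mul, (hmm b x hx).2, (hmm b x' hx').2]
    ring
  have hex := fun b => existsUnique_multiplier hloc (mm b) (hm b) (hsym b)
  choose T hT' hTuniq using hex
  have hT : ∀ b, ∀ x ∈ I, ∀ y, algebraMap A B y = b * algebraMap A B x → T b * ψ x = ψ y := by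
    intro b x hx y hy
    rw [hT' b x hx]
    congr 1
    apply hinj
    rw [hy, (hmm b x hx).2]
  have hchar : ∀ b t, (∀ x ∈ I, ∀ y, algebraMap A B y = b * algebraMap A B x → t * ψ x = ψ y) →
      t = T b := by
    intro b t ht
    exact hTuniq b t (fun x hx => ht x hx _ (hmm b x hx).2)
  let η : B →+* Γ(Y, ⊤) :=
    { toFun := T
      map_one' := by
        symm
        apply hchar
        intro x hx y hy
        rw [one_mul] at hy
        rw [one_mul, hinj hy]
      map_mul' := by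
        intro b b'
        symm
        apply hchar
        intro x hx y hy
        rw [mul_assoc, hT b' x hx (mm b' x) (hmm b' x hx).2]
        apply hT b (mm b' x) (hm b' x hx) y
        rw [hy, (hmm b' x hx).2, mul_assoc]
      map_zero' := by
        symm
        apply hchar
        intro x hx y hy
        rw [zero_mul] at hy
        have : y = 0 := hinj (by rw [hy, map_zero])
        rw [this, map_zero, zero_mul]
      map_add' := by
        intro b b'
        symm
        apply hchar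
        intro x hx y hy
        rw [add_mul, hT b x hx (mm b x) (hmm b x hx).2, hT b' x hx (mm b' x) (hmm b' x hx).2,
          ← map_add]
        congr 1
        apply hinj
        rw [map_add, (hmm b x hx).2, (hmm b' x hx).2, hy, add_mul] }
  have hη : ∀ b, η b = T b := fun _ => rfl
  refine ⟨η, ?_, ?_⟩
  · ext a
    rw [RingHom.comp_apply, hη]
    symm
    apply hchar
    intro x hx y hy
    rw [← map_mul] at hy
    rw [← map_mul, hinj hy]
  · intro η' hη'
    ext b
    rw [hη]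
    apply hchar
    intro x hx y hy
    have h1 : ψ x = η' (algebraMap A B x) := by rw [← hη']; rfl
    have h2 : ψ y = η' (algebraMap A B y) := by rw [← hη']; rfl
    rw [h1, h2, ← map_mul, hy]

end Groth.Agent.Lib.Seat64.AffBlowUp
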