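import Mathlib
import Groth.Agent.Lib.Seat5LocFreeKer
import Groth.Agent.Lib.Helper2FPAff

/-!
# Epimorphisms onto finite locally free modules on an affine scheme split (Seat64)

Namespace `Groth.Agent.Lib.Seat64.AffSplit`.

* `restrictEquiv e`: restriction of modules along an isomorphism of schemes is an equivalence.
* `exists_section_spec`: on `Spec R`, an epimorphism of quasi-coherent modules onto a finite locally
  free module has a section.
* `exists_section_of_epi`: the same on any affine scheme.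
-/

set_option autoImplicit false
set_option linter.style.haveILetI false
universe u
open CategoryTheory CategoryTheory.Limits AlgebraicGeometry Opposite

namespace Groth.Agent.Lib.Seat64.AffSplit

open Groth.Agent.Lib.Helper20.Thickening Groth.Agent.Lib.Helper20.LocFree
  Groth.Agent.Lib.Helper23.QCohLocal
  Groth.Agent.Lib.Helper26.ModSec Groth.Agent.Lib.Helper26.ModRank
  Groth.Agent.Lib.Helper2.LocFree Groth.Agent.Helper18Strict

lemma isFinLocFree_of_iso {X : Scheme.{u}} {M N : X.Modules} (e : M ≅ N)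
    (h : FlatMod.IsFinLocFree M) : FlatMod.IsFinLocFree N := fun x => by
  obtain ⟨U, n, hx, ⟨i⟩⟩ := h x
  exact ⟨U, n, hx, ⟨(Scheme.Modules.restrictFunctor U.ι).mapIso e.symm ≪≫ i⟩⟩

/-- restriction of modules along an isomorphism of schemes is an equivalence -/
noncomputable def restrictEquiv {X Y : Scheme.{u}} (e : X ≅ Y) : Y.Modules ≌ X.Modules :=
  CategoryTheory.Equivalence.mk (Scheme.Modules.restrictFunctor e.hom) (Scheme.Modules.restrictFunctor e.inv)
    ((Scheme.Modules.restrictFunctorId (X := Y)).symm ≪≫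
      Scheme.Modules.restrictFunctorCongr (e.inv_hom_id).symm ≪≫
      Scheme.Modules.restrictFunctorComp e.inv e.hom)
    ((Scheme.Modules.restrictFunctorComp e.hom e.inv).symm ≪≫
      Scheme.Modules.restrictFunctorCongr (e.hom_inv_id) ≪≫
      Scheme.Modules.restrictFunctorId (X := X))

instance {X Y : Scheme.{u}} (e : X ≅ Y) : (Scheme.Modules.restrictFunctor e.hom).IsEquivalence :=
  inferInstanceAs (restrictEquiv e).functor.IsEquivalence

section spec
variable (R : CommRingCat.{u})

theorem exists_section_spec {A B : (Spec R).Modules} [A.IsQuasicoherent] [B.IsQuasicoherent]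
    (ψ : A ⟶ B) [Epi ψ] (hB : FlatMod.IsFinLocFree B) : ∃ s : B ⟶ A, s ≫ ψ = 𝟙 B := by
  haveI := isIso_εΓ R A
  haveI := isIso_εΓ R B
  have hepi : Epi ((ΓF R).map ψ) := (spec_epi_iff R ψ).1 inferInstance
  have hsurj : Function.Surjective ((ΓF R).map ψ).hom := (ModuleCat.epi_iff_surjective _).1 hepi
  have hfl : FlatMod.IsFinLocFree (tilde ((ΓF R).obj B)) :=
    isFinLocFree_of_iso (asIso ((εΓ R).app B)).symm hB
  obtain ⟨hfin, hproj⟩ := (Groth.Agent.Lib.Helper2.FPAff.isFinLocFree_tilde_iff R _).1 hfl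
  haveI hP : Projective ((ΓF R).obj B) := by
    have := (IsProjective.iff_projective (R := R) (P := ((ΓF R).obj B))).1 hproj
    exact this
  let σ' : (ΓF R).obj B ⟶ (ΓF R).obj A := Projective.factorThru (𝟙 _) ((ΓF R).map ψ)
  have hσ' : σ' ≫ (ΓF R).map ψ = 𝟙 _ := Projective.factorThru_comp _ _
  refine ⟨inv ((εΓ R).app B) ≫ (tilde.functor R).map σ' ≫ (εΓ R).app A, ?_⟩
  have w := (εΓ R).naturality ψ
  simp only [Functor.comp_obj, Functor.comp_map, Functor.id_obj, Functor.id_map] at w
  rw [Category.assoc, Category.assoc, ← w, ← Category.assoc ((tilde.functor R).map σ'),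
    ← CategoryTheory.Functor.map_comp, hσ', CategoryTheory.Functor.map_id, Category.id_comp,
    IsIso.inv_hom_id]

end spec

variable {X : Scheme.{u}} [IsAffine X]

theorem exists_section_of_epi {F G : X.Modules} (ψ : F ⟶ G) [Epi ψ]
    [F.IsQuasicoherent] (hG : FlatMod.IsFinLocFree G) : ∃ s : G ⟶ F, s ≫ ψ = 𝟙 G := by
  haveI : G.IsQuasicoherent := isQCoh_of_isFP G (isFP_of_isFinLocFree G hG)
  let e : Spec Γ(X, ⊤) ≅ X := X.isoSpec.symm
  let Rf := Scheme.Modules.restrictFunctor e.hom
  haveI : ((Scheme.Modules.restrictFunctor e.hom).obj F).IsQuasicoherent :=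
    Scheme.Modules.isQuasicoherent_restrictFunctor e.hom F
  haveI : ((Scheme.Modules.restrictFunctor e.hom).obj G).IsQuasicoherent :=
    Scheme.Modules.isQuasicoherent_restrictFunctor e.hom G
  have hG' : FlatMod.IsFinLocFree ((Scheme.Modules.restrictFunctor e.hom).obj G) := by
    intro w
    obtain ⟨U, n, hxU, ⟨i⟩⟩ := hG (e.hom w)
    refine ⟨e.hom ⁻¹ᵁ U, n, hxU, ⟨?_⟩⟩
    exact (Scheme.Modules.restrictFunctorComp (e.hom ⁻¹ᵁ U).ι e.hom).symm.app G ≪≫
      (Scheme.Modules.restrictFunctorCongr (morphismRestrict_ι e.hom U).symm).app G ≪≫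
      (Scheme.Modules.restrictFunctorComp (e.hom ∣_ U) U.ι).app G ≪≫
      (Scheme.Modules.restrictFunctor (e.hom ∣_ U)).mapIso i ≪≫
      Groth.Agent.Lib.Helper20.LocFree.restrictFreeMod (e.hom ∣_ U) n
  haveI : Epi ((Scheme.Modules.restrictFunctor e.hom).map ψ) := inferInstance
  obtain ⟨s', hs'⟩ := exists_section_spec Γ(X, ⊤)
    ((Scheme.Modules.restrictFunctor e.hom).map ψ) hG'
  refine ⟨(Scheme.Modules.restrictFunctor e.hom).preimage s', ?_⟩
  apply (Scheme.Modules.restrictFunctor e.hom).map_injective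
  rw [CategoryTheory.Functor.map_comp, CategoryTheory.Functor.map_preimage, hs',
    CategoryTheory.Functor.map_id]

end Groth.Agent.Lib.Seat64.AffSplit
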