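import Mathlib
import Groth.Prelude.Def_CurvBase

/-!
# Sections of the base change `X_K` of a `k`-scheme over preimages of affine opens

For `U ⊆ X` affine open and `W = (bcFst)⁻¹ U ⊆ X_K`: `Γ(X_K, W)` is the pushout of
`k → K` and `k → Γ(X, U)` (in `CommRingCat`, and as `Algebra.IsPushout`).
-/

set_option autoImplicit false
universe u
open CategoryTheory Limits AlgebraicGeometry TopologicalSpace

namespace Groth.Agent.Lib.Seat64.BCPushout

variable (k : Type u) [Field k] (K : Type u) [Field K] [Algebra k K] (X : Scheme.{u})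
  [X.Over (Spec (CommRingCat.of k))]

/-- the structure ring hom `k → Γ(X,U)` -/
noncomputable def toSec (U : X.Opens) : CommRingCat.of k ⟶ Γ(X, U) :=
  (Scheme.ΓSpecIso (CommRingCat.of k)).inv ≫
    (X ↘ Spec (CommRingCat.of k)).appLE ⊤ U (by simp)

/-- the structure ring hom `K → Γ(X_K, W)` -/
noncomputable def toSecK (W : (Curv2.bc k X K).Opens) :
    CommRingCat.of K ⟶ Γ(Curv2.bc k X K, W) :=
  (Scheme.ΓSpecIso (CommRingCat.of K)).inv ≫ (Curv2.bcSnd k X K).appLE ⊤ W (by simp)

theorem isPushout (U : X.Opens) (hU : IsAffineOpen U) :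
    IsPushout (toSec k X U) (CommRingCat.ofHom (algebraMap k K))
      ((Curv2.bcFst k X K).appLE U ((Curv2.bcFst k X K) ⁻¹ᵁ U) le_rfl)
      (toSecK k K X ((Curv2.bcFst k X K) ⁻¹ᵁ U)) := by
  have H : IsPullback (Curv2.bcFst k X K) (Curv2.bcSnd k X K) (X ↘ Spec (CommRingCat.of k))
      (Spec.map (CommRingCat.ofHom (algebraMap k K))) := IsPullback.of_hasPullback _ _
  have hUY : (Curv2.bcFst k X K) ⁻¹ᵁ U =
      (Curv2.bcFst k X K) ⁻¹ᵁ U ⊓ (Curv2.bcSnd k X K) ⁻¹ᵁ ⊤ := by simp
  have hiso := isIso_pushoutSection_of_isAffineOpen H (US := ⊤) (UT := ⊤) (UX := U)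
    (by simp) (by simp) hUY (isAffineOpen_top _) (isAffineOpen_top _) hU
  have h1 := (isIso_pushoutSection_iff H (US := ⊤) (UT := ⊤) (UX := U)
    (by simp) (by simp) hUY).mp hiso
  refine h1.of_iso (Scheme.ΓSpecIso _) (Iso.refl _) (Scheme.ΓSpecIso _) (Iso.refl _) ?_ ?_ ?_ ?_
  · simp [toSec]
  · rw [← Scheme.ΓSpecIso_naturality]
    congr 1
  · simp
  · simp [toSecK]

set_option backward.isDefEq.respectTransparency.types false in
theorem isAffineHom_bcFst : IsAffineHom (Curv2.bcFst k X K) :=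
  MorphismProperty.pullback_fst (P := @IsAffineHom) _ _
    (inferInstance : IsAffineHom (Spec.map (CommRingCat.ofHom (algebraMap k K))))

end Groth.Agent.Lib.Seat64.BCPushout
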