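import Mathlib
import Groth.Prelude.Def_CurvBase
import Groth.Prelude.Def_FlatCA
import Groth.Agent.Lib.Seat64BCPushout
import Groth.Agent.Lib.Seat35WeakAssField

/-!
# Weakly associated primes descend from `Γ(X_K, g⁻¹U)` to `Γ(X, U)` (field base change)

* `extEquiv` : `(extendScalars (algebraMap A B)).obj M ≃ₗ[B] B ⊗[A] M`.
* `comap_mem_weakAss` : for `U ⊆ X` affine, `W = g⁻¹U ⊆ X_K`, a `Γ(X,U)`-module `M` and a prime `q`
  of `Γ(X_K, W)` weakly associated to `Γ(X_K,W) ⊗ M`: `q ∩ Γ(X,U)` is weakly associated to `M`.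
-/

set_option autoImplicit false
set_option linter.style.haveILetI false
universe u
open CategoryTheory Limits AlgebraicGeometry TopologicalSpace

namespace Groth.Agent.Lib.Seat64.BCWeakAss

open Groth.Agent.Lib.Seat64.BCPushout Groth.Agent.Lib.Seat6.WeakAss

section ext
variable {A B : Type u} [CommRing A] [CommRing B] [Algebra A B]

/-- `B` with `A`-module structure via restriction is `B` -/
noncomputable def e₀ :
    ((ModuleCat.restrictScalars.{u} (algebraMap A B)).obj (ModuleCat.of B B)) ≃ₗ[A] B where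
  toFun x := x
  invFun x := x
  map_add' _ _ := rfl
  map_smul' r x := by
    show algebraMap A B r • (show B from x) = r • (show B from x)
    rw [Algebra.smul_def r, smul_eq_mul]
  left_inv _ := rfl
  right_inv _ := rfl

noncomputable def c₀ (M : Type u) [AddCommGroup M] [Module A M] :
    TensorProduct A ((ModuleCat.restrictScalars.{u} (algebraMap A B)).obj (ModuleCat.of B B)) M ≃ₗ[A]
      TensorProduct A B M :=
  TensorProduct.congr (e₀ (A := A) (B := B)) (LinearEquiv.refl A M)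

/-- the `B`-linear identification of `extendScalars` with the tensor product -/
noncomputable def extEquiv (M : ModuleCat.{u} A) :
    ((ModuleCat.extendScalars.{u, u, u} (algebraMap A B)).obj M) ≃ₗ[B] TensorProduct A B M where
  toFun x := c₀ M x
  invFun y := (c₀ M).symm y
  left_inv x := (c₀ M).symm_apply_apply x
  right_inv y := (c₀ M).apply_symm_apply y
  map_add' x y := (c₀ M).map_add x y
  map_smul' b x := by
    show c₀ M (b • x) = b • c₀ M x
    induction x using TensorProduct.induction_on with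
    | zero =>
      have h1 : b • (0 : ((ModuleCat.extendScalars.{u, u, u} (algebraMap A B)).obj M)) = 0 :=
        smul_zero b
      have h2 : c₀ (A := A) (B := B) M 0 = 0 := map_zero _
      exact (congrArg (c₀ M) h1).trans
        (h2.trans ((congrArg (fun z => b • z) h2).trans (smul_zero b)).symm)
    | tmul b' m =>
      rfl
    | add x y hx hy =>
      have h1 : b • ((show ((ModuleCat.extendScalars.{u, u, u} (algebraMap A B)).obj M) from x) +
          (show ((ModuleCat.extendScalars.{u, u, u} (algebraMap A B)).obj M) from y)) =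
            b • _ + b • _ := smul_add b _ _
      have h2 : c₀ (A := A) (B := B) M (x + y) = c₀ M x + c₀ M y := map_add _ _ _
      refine (congrArg (c₀ M) h1).trans (((c₀ (A := A) (B := B) M).map_add _ _).trans ?_)
      refine (congrArg₂ (· + ·) hx hy).trans ?_
      exact ((congrArg (fun z => b • z) h2).trans (smul_add b _ _)).symm

end ext

variable (k : Type u) [Field k] (K : Type u) [Field K] [Algebra k K] (X : Scheme.{u})
  [X.Over (Spec (CommRingCat.of k))]

theorem comap_mem_weakAss (U : X.Opens) (hU : IsAffineOpen U) (M : ModuleCat.{u} Γ(X, U))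
    (q : Ideal Γ(Curv2.bc k X K, (Curv2.bcFst k X K) ⁻¹ᵁ U)) [q.IsPrime]
    (hq : q ∈ FlatCA.weakAss Γ(Curv2.bc k X K, (Curv2.bcFst k X K) ⁻¹ᵁ U)
      ((ModuleCat.extendScalars.{u, u, u}
        ((Curv2.bcFst k X K).appLE U ((Curv2.bcFst k X K) ⁻¹ᵁ U) le_rfl).hom).obj M)) :
    q.comap ((Curv2.bcFst k X K).appLE U ((Curv2.bcFst k X K) ⁻¹ᵁ U) le_rfl).hom ∈
      FlatCA.weakAss Γ(X, U) M := by
  letI a1 : Algebra k Γ(X, U) := (toSec k X U).hom.toAlgebra
  letI a2 : Algebra Γ(X, U) Γ(Curv2.bc k X K, (Curv2.bcFst k X K) ⁻¹ᵁ U) :=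
    ((Curv2.bcFst k X K).appLE U ((Curv2.bcFst k X K) ⁻¹ᵁ U) le_rfl).hom.toAlgebra
  letI a3 : Algebra K Γ(Curv2.bc k X K, (Curv2.bcFst k X K) ⁻¹ᵁ U) :=
    (toSecK k K X ((Curv2.bcFst k X K) ⁻¹ᵁ U)).hom.toAlgebra
  letI a4 : Algebra k Γ(Curv2.bc k X K, (Curv2.bcFst k X K) ⁻¹ᵁ U) :=
    ((algebraMap Γ(X, U) Γ(Curv2.bc k X K, (Curv2.bcFst k X K) ⁻¹ᵁ U)).comp
      (algebraMap k Γ(X, U))).toAlgebra
  haveI t1 : IsScalarTower k Γ(X, U) Γ(Curv2.bc k X K, (Curv2.bcFst k X K) ⁻¹ᵁ U) :=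
    IsScalarTower.of_algebraMap_eq (fun _ => rfl)
  have hP := isPushout k K X U hU
  haveI t2 : IsScalarTower k K Γ(Curv2.bc k X K, (Curv2.bcFst k X K) ⁻¹ᵁ U) :=
    IsScalarTower.of_algebraMap_eq (fun r => by
      have := congrArg (fun f => f.hom r) hP.w
      exact this)
  haveI p1 : Algebra.IsPushout k Γ(X, U) K Γ(Curv2.bc k X K, (Curv2.bcFst k X K) ⁻¹ᵁ U) :=
    CommRingCat.isPushout_iff_isPushout.mp hP
  haveI p2 : Algebra.IsPushout k K Γ(X, U) Γ(Curv2.bc k X K, (Curv2.bcFst k X K) ⁻¹ᵁ U) :=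
    Algebra.IsPushout.symm p1
  have hq' : q ∈ FlatCA.weakAss Γ(Curv2.bc k X K, (Curv2.bcFst k X K) ⁻¹ᵁ U)
      (TensorProduct Γ(X, U) Γ(Curv2.bc k X K, (Curv2.bcFst k X K) ⁻¹ᵁ U) M) := by
    rw [← weakAss_eq_of_linearEquiv (extEquiv M)]
    exact hq
  exact Groth.Agent.Lib.Seat35.WeakAssField.desc_field k K Γ(X, U)
    Γ(Curv2.bc k X K, (Curv2.bcFst k X K) ⁻¹ᵁ U) M
    (TensorProduct Γ(X, U) Γ(Curv2.bc k X K, (Curv2.bcFst k X K) ⁻¹ᵁ U) M)
    (TensorProduct.mk Γ(X, U) Γ(Curv2.bc k X K, (Curv2.bcFst k X K) ⁻¹ᵁ U) M 1)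
    (TensorProduct.isBaseChange _ _ _) q hq'

end Groth.Agent.Lib.Seat64.BCWeakAss
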