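import Mathlib
import Groth.Agent.Lib.Seat64CMMult

/-!
# Multiplication maps `Γ(G) ⊗ Γ(O(e)) → Γ(G ⊗ O(e))` on `P^n_R` (Koszul proof; seat 64)

* `mem_of_forall_xF` : if `H^t(G(c - t)) = 0` for `1 ≤ t ≤ n`, every global section of `G(c + 1)` is a
  sum of `X_s · b_s`, `b_s` global sections of `G(c)`.
* `P G z` : every global section of `G ⊗ O(z)` comes from `Γ(G) ⊗ Γ(O(z))`; `P_zero`, `P_succ`, `P_nat`.
-/

set_option autoImplicit false
universe u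
open CategoryTheory CategoryTheory.Limits AlgebraicGeometry Opposite Abelian TopologicalSpace

namespace Groth.Agent.Lib.Seat64.CMMult

open Groth.Agent.Lib.Seat64.KoszulSh Groth.Agent.Lib.Seat64.KoszulPn
  Groth.Agent.Lib.Seat64.KoszulChase Groth.Agent.Lib.Seat64.TwistSES
  Groth.Agent.Lib.Seat64.CMReg Groth.Agent.Lib.Seat64.KoszulTwist Groth.Agent.Lib.Seat64.KoszulAlg
  Groth.Agent.Lib.Helper23.QCohLocal Groth.Agent.Lib.Helper23.AffVanish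
  Groth.Agent.Lib.Helper23.SecTw Groth.Agent.Lib.Helper6 Groth.Agent.Lib.Helper27GrTildeSect

attribute [local instance] Abelian.hasFiniteBiproducts

variable (n : ℕ) (R : Type u) [CommRing R]

local notation "𝒫" => CohB1.polyGrading n R

theorem mem_of_forall_xF (G : (Proj 𝒫).Modules) (c : ℤ)
    (hG : ∀ t : ℕ, 1 ≤ t → t ≤ n → Subsingleton (Coh.HH (Proj 𝒫)
      (CohB1.tensorMod G (GrTilde.tilde 𝒫 𝒫 (c - (t : ℤ)))) t))
    (Rg : AddSubgroup Γ(CohB1.tensorMod G (GrTilde.tilde 𝒫 𝒫 ((c - (n : ℤ)) + ((n : ℤ) + 1))), ⊤))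
    (hR : ∀ (s : Fin (n + 1))
      (b : Γ(CohB1.tensorMod G (GrTilde.tilde 𝒫 𝒫 ((c - (n : ℤ)) + (n : ℤ))), ⊤)),
      (xF n R G (c - (n : ℤ)) s (n : ℤ) ((n : ℤ) + 1) rfl).app ⊤ b ∈ Rg) :
    ∀ y : Γ(CohB1.tensorMod G (GrTilde.tilde 𝒫 𝒫 ((c - (n : ℤ)) + ((n : ℤ) + 1))), ⊤), y ∈ Rg := by
  classical
  set a : ℤ := c - (n : ℤ) with ha
  let C := koszulF n R G a
  have hC : ∀ i, C.ExactAt i := fun i => koszulF_exactAt n R G a i
  have h0 : IsZero (C.X (-1)) := isZero_K (N := n + 1) (AF n R G a) (-1) (Or.inl (by omega))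
  -- Step 1: `H¹` of the cocycles in degree `n` vanishes
  have hZ : Subsingleton (Coh.HH (Proj 𝒫) (Z C (n : ℤ)) 1) := by
    refine subsingleton_HH_Z C hC (-1) h0 (n + 1) (n : ℤ) (by push_cast; ring) 1 (fun l hl => ?_)
    rcases Nat.eq_zero_or_pos l with rfl | hlpos
    · have hz : IsZero (C.X (-1 + ((0 : ℕ) : ℤ))) :=
        isZero_K (N := n + 1) (AF n R G a) _ (Or.inl (by norm_num))
      exact subsingleton_HH_of_isZero hz _
    · refine subsingleton_HH_biproduct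
        (fun _ : Idx (n + 1) (-1 + (l : ℤ)) => AF n R G a (-1 + (l : ℤ))) _ (fun _ => ?_)
      have e : a + (-1 + (l : ℤ)) = c - ((1 + (n + 1 - 1 - l) : ℕ) : ℤ) := by
        rw [ha]
        omega
      have hgoal := hG (1 + (n + 1 - 1 - l)) (by omega) (by omega)
      rw [← e] at hgoal
      exact hgoal
  -- Step 2: surjectivity onto the cocycles on global sections
  have hS := sesZ_shortExact C hC (n : ℤ)
  have hE : Subsingleton (HE (ab' (sesZ C (n : ℤ)).X₁) 1 ⊤) :=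
    (HETopEquivH (Proj 𝒫).carrier (ab' (Z C (n : ℤ))) 1).injective.subsingleton
  have hsurj := surjective_app_of_subsingleton_HE (sesZ C (n : ℤ)) hS ⊤ hE
  -- Step 3: the last differential is surjective on global sections
  have hlast : IsZero (C.X ((n : ℤ) + 1 + 1)) :=
    isZero_K (N := n + 1) (AF n R G a) _ (Or.inr (by push_cast; omega))
  haveI := isIso_kernel_ι C ((n : ℤ) + 1) hlast
  have hd_surj : Function.Surjective
      ((dK (AF n R G a) (xF n R G a) (n : ℤ) ((n : ℤ) + 1) rfl).app ⊤) := by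
    intro c
    obtain ⟨b, hb⟩ := hsurj ((inv (kernel.ι (C.d ((n : ℤ) + 1) ((n : ℤ) + 1 + 1)))).app ⊤ c)
    refine ⟨b, ?_⟩
    have h1 : toZ C (n : ℤ) ≫ kernel.ι (C.d ((n : ℤ) + 1) ((n : ℤ) + 1 + 1)) =
        dK (AF n R G a) (xF n R G a) (n : ℤ) ((n : ℤ) + 1) rfl :=
      (toZ_ι C (n : ℤ)).trans (Kcx_d (AF n R G a) (xF n R G a) (xF_comm n R G a) _ _ rfl)
    have h2 := congrArg (fun φ : K (N := n + 1) (AF n R G a) (n : ℤ) ⟶
      K (N := n + 1) (AF n R G a) ((n : ℤ) + 1) => φ.app ⊤ b) h1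
    have h3 : (kernel.ι (C.d ((n : ℤ) + 1) ((n : ℤ) + 1 + 1))).app ⊤
        ((toZ C (n : ℤ)).app ⊤ b) =
        (dK (AF n R G a) (xF n R G a) (n : ℤ) ((n : ℤ) + 1) rfl).app ⊤ b := h2
    rw [← h3]
    have h4 : (toZ C (n : ℤ)).app ⊤ b =
        (inv (kernel.ι (C.d ((n : ℤ) + 1) ((n : ℤ) + 1 + 1)))).app ⊤ c := hb
    rw [h4]
    have h5 := congrArg (fun φ : C.X ((n : ℤ) + 1) ⟶ C.X ((n : ℤ) + 1) => φ.app ⊤ c)
      (IsIso.inv_hom_id (kernel.ι (C.d ((n : ℤ) + 1) ((n : ℤ) + 1 + 1))))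
    exact h5
  -- Step 4: decompose a global section
  intro y
  have hcard : ((Finset.univ : Finset (Fin (n + 1))).card : ℤ) = (n : ℤ) + 1 := by
    rw [Finset.card_univ, Fintype.card_fin]
    push_cast
    ring
  let Su : Idx (n + 1) ((n : ℤ) + 1) := ⟨Finset.univ, hcard⟩
  obtain ⟨b, hb⟩ := hd_surj
    ((biproduct.ι (fun _ : Idx (n + 1) ((n : ℤ) + 1) => AF n R G a ((n : ℤ) + 1)) Su).app ⊤ y)
  have hy : comp (N := n + 1) (AF n R G a) ⊤ ((n : ℤ) + 1)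
      ((biproduct.ι (fun _ : Idx (n + 1) ((n : ℤ) + 1) => AF n R G a ((n : ℤ) + 1)) Su).app ⊤ y)
      Finset.univ = y := by
    simp only [comp]
    rw [dif_pos hcard]
    have := congrArg (fun φ : AF n R G a ((n : ℤ) + 1) ⟶ AF n R G a ((n : ℤ) + 1) => φ.app ⊤ y)
      (biproduct.ι_π_self (fun _ : Idx (n + 1) ((n : ℤ) + 1) => AF n R G a ((n : ℤ) + 1)) Su)
    exact this
  rw [← hb, comp_dK] at hy
  rw [← hy]
  simp only [D]
  refine AddSubgroup.sum_mem _ (fun s _ => ?_)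
  simp only [E]
  rw [if_pos (Finset.mem_univ s)]
  exact AddSubgroup.zsmul_mem _ (hR s _) _

section induction

variable {C : Type*} [Category C] {S : Cᵒᵖ ⥤ CommRingCat.{u}}
variable (P Q : PresheafOfModules.{u} (S ⋙ forget₂ CommRingCat RingCat)) (Z : Cᵒᵖ)

open MonoidalCategory in
theorem induction_pt {motive : ↑((P ⊗ Q).obj Z) → Prop} (p : ↑((P ⊗ Q).obj Z))
    (h0 : motive 0) (ht : ∀ a b, motive (pt P Q Z a b))
    (ha : ∀ x y, motive x → motive y → motive (x + y)) : motive p :=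
  TensorProduct.induction_on p h0 ht ha

end induction

/-- every global section of `G ⊗ O(z)` is the image of an element of `Γ(G) ⊗ Γ(O(z))` -/
def P (G : (Proj 𝒫).Modules) (z : ℤ) : Prop :=
  ∀ b : Γ(CohB1.tensorMod G (GrTilde.tilde 𝒫 𝒫 z), ⊤),
    ∃ p : PreSec G (GrTilde.tilde 𝒫 𝒫 z) ⊤, toT G (GrTilde.tilde 𝒫 𝒫 z) ⊤ p = b

theorem P_zero (G : (Proj 𝒫).Modules) (z : ℤ) (hz : z = 0) : P n R G z := by
  intro b
  obtain ⟨e₀, he₀⟩ := exists_isGen_top 𝒫 z (by rw [hz]; simp)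
  obtain ⟨g, hg⟩ := (bijective_tm_of_isGen G _ ⊤ e₀ he₀ ⊤ le_rfl).2 b
  exact ⟨ptm G _ ⊤ g _, hg⟩

theorem P_succ (G : (Proj 𝒫).Modules) (z z' : ℤ) (hz' : z + 1 = z')
    (hG : ∀ t : ℕ, 1 ≤ t → t ≤ n → Subsingleton (Coh.HH (Proj 𝒫)
      (CohB1.tensorMod G (GrTilde.tilde 𝒫 𝒫 (z - (t : ℤ)))) t))
    (hP : P n R G z) : P n R G z' := by
  have hz'' : z' = (z - (n : ℤ)) + ((n : ℤ) + 1) := by omega
  subst hz''
  have hP' : P n R G ((z - (n : ℤ)) + (n : ℤ)) := by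
    rw [show (z - (n : ℤ)) + (n : ℤ) = z by ring]
    exact hP
  let L' := GrTilde.tilde 𝒫 𝒫 ((z - (n : ℤ)) + ((n : ℤ) + 1))
  let τ : PreSec G L' ⊤ →+ Γ(CohB1.tensorMod G L', ⊤) :=
    (((SecTwist.toTensor G L').app (op ⊤)).hom).toAddMonoidHom
  intro y
  have hmem : y ∈ τ.range := by
    refine mem_of_forall_xF n R G z hG τ.range (fun s b => ?_) y
    obtain ⟨p, rfl⟩ := hP' b
    let σ : PreSec G (GrTilde.tilde 𝒫 𝒫 ((z - (n : ℤ)) + (n : ℤ))) ⊤ →+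
        Γ(CohB1.tensorMod G (GrTilde.tilde 𝒫 𝒫 ((z - (n : ℤ)) + (n : ℤ))), ⊤) :=
      (((SecTwist.toTensor G (GrTilde.tilde 𝒫 𝒫 ((z - (n : ℤ)) + (n : ℤ)))).app
        (op ⊤)).hom).toAddMonoidHom
    let κ : PreSec G (GrTilde.tilde 𝒫 𝒫 ((z - (n : ℤ)) + (n : ℤ))) ⊤ →+
        Γ(CohB1.tensorMod G L', ⊤) :=
      (((xF n R G (z - (n : ℤ)) s (n : ℤ) ((n : ℤ) + 1) rfl).app ⊤).hom).comp σ
    change κ p ∈ τ.range
    refine induction_pt (CohB1.toPMod G) (CohB1.toPMod (GrTilde.tilde 𝒫 𝒫 ((z - (n : ℤ)) + (n : ℤ))))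
      (op ⊤) (motive := fun p => κ p ∈ τ.range) p ?_ ?_ ?_
    · exact ⟨0, (map_zero τ).trans (map_zero κ).symm⟩
    · intro g u
      have hx : (xF n R G (z - (n : ℤ)) s (n : ℤ) ((n : ℤ) + 1) rfl).app ⊤
          (tm G _ ⊤ g u) = tm G _ ⊤ g
            ((mulBy 𝒫 (X_mem n R s) ((z - (n : ℤ)) + (n : ℤ)) ((z - (n : ℤ)) + ((n : ℤ) + 1))
              (by omega)).app ⊤ u) :=
        tmulBy_tm 𝒫 G (X_mem n R s) ((z - (n : ℤ)) + (n : ℤ)) ((z - (n : ℤ)) + ((n : ℤ) + 1))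
          (by omega) ⊤ g u
      exact ⟨ptm G L' ⊤ g _, hx.symm⟩
    · intro p q hp hq
      obtain ⟨a, ha⟩ := hp
      obtain ⟨b, hb⟩ := hq
      exact ⟨a + b, (map_add τ a b).trans
        ((congrArg₂ (· + ·) ha hb).trans (map_add κ p q).symm)⟩
  obtain ⟨p, hp⟩ := hmem
  exact ⟨p, hp⟩

theorem P_nat (G : (Proj 𝒫).Modules)
    (hG : ∀ (z : ℕ) (t : ℕ), 1 ≤ t → t ≤ n → Subsingleton (Coh.HH (Proj 𝒫)
      (CohB1.tensorMod G (GrTilde.tilde 𝒫 𝒫 ((z : ℤ) - (t : ℤ)))) t)) (e : ℕ) :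
    P n R G (e : ℤ) := by
  induction e with
  | zero => exact P_zero n R G _ (by simp)
  | succ e ih => exact P_succ n R G (e : ℤ) _ (by push_cast; ring) (hG e) ih

end Groth.Agent.Lib.Seat64.CMMult
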