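import Mathlib
import Groth.Agent.Lib.Helper23QCohExt
import Groth.Agent.Lib.Seat54HHFinite

/-!
# Global sections and `H¹` along a short exact sequence (seat 64)

For a short exact sequence `0 → X₁ → X₂ → X₃ → 0` of `O_X`-modules:

* `subsingleton_HH_left`: `H^i(X₃) = 0` and `H^{i+1}(X₂) = 0` imply `H^{i+1}(X₁) = 0`.
* `injective_H1_of_surjective`: if `Γ(X₂) → Γ(X₃)` is surjective then `H¹(X₁) → H¹(X₂)` is injective.
* `surjective_of_injective_H1`: the converse.
* `injective_H_of_subsingleton`: `H^i(X₃) = 0` implies `H^{i+1}(X₁) → H^{i+1}(X₂)` injective.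
* `surjective_H_of_subsingleton`: `H^i(X₃) = 0` implies `H^i(X₁) → H^i(X₂)` surjective.
-/

set_option autoImplicit false
universe u
open CategoryTheory CategoryTheory.Limits AlgebraicGeometry Abelian Opposite

namespace Groth.Agent.Lib.Seat64.H1Gamma

open Groth.Agent.Lib.Helper23.QCohLocal

variable {X : Scheme.{u}}

/-- vanishing of the cohomology of the left term of a short exact sequence of modules -/
theorem subsingleton_HH_left (S : ShortComplex X.Modules) (hS : S.ShortExact) (i : ℕ)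
    (h₃ : Subsingleton (Coh.HH X S.X₃ i)) (h₂ : Subsingleton (Coh.HH X S.X₂ (i + 1))) :
    Subsingleton (Coh.HH X S.X₁ (i + 1)) := by
  have hS' := shortExact_toAbF S hS
  refine ⟨fun a b => ?_⟩
  have key : ∀ y : Coh.HH X S.X₁ (i + 1), y = 0 := by
    intro y
    have hy : (show Ext _ ((S.map (toAbF X)).X₁) (i + 1) from y).comp
        (Ext.mk₀ (S.map (toAbF X)).f) (add_zero (i + 1)) = 0 := h₂.elim _ _
    obtain ⟨x₃, hx₃⟩ := Ext.covariant_sequence_exact₁ _ hS' _ hy rfl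
    have hx0 : x₃ = 0 := h₃.elim _ _
    rw [hx0, Ext.zero_comp] at hx₃
    exact hx₃.symm
  rw [key a, key b]

/-- `H^i(X₃) = 0` implies that `H^{i+1}(X₁) → H^{i+1}(X₂)` is injective -/
theorem injective_H_of_subsingleton (S : ShortComplex X.Modules) (hS : S.ShortExact) (i : ℕ)
    (h₃ : Subsingleton (Coh.HH X S.X₃ i)) :
    Function.Injective (Sheaf.H.map ((SheafOfModules.toSheaf X.ringCatSheaf).map S.f) (i + 1)) := by
  have hS' := shortExact_toAbF S hS
  rw [injective_iff_map_eq_zero]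
  intro y hy
  have hy' : (show Ext _ ((S.map (toAbF X)).X₁) (i + 1) from y).comp
      (Ext.mk₀ (S.map (toAbF X)).f) (add_zero (i + 1)) = 0 := hy
  obtain ⟨x₃, hx₃⟩ := Ext.covariant_sequence_exact₁ _ hS' _ hy' rfl
  have hx0 : x₃ = 0 := h₃.elim _ _
  rw [hx0, Ext.zero_comp] at hx₃
  exact hx₃.symm

/-- `H^i(X₃) = 0` implies that `H^i(X₁) → H^i(X₂)` is surjective -/
theorem surjective_H_of_subsingleton (S : ShortComplex X.Modules) (hS : S.ShortExact) (i : ℕ)
    (h₃ : Subsingleton (Coh.HH X S.X₃ i)) :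
    Function.Surjective (Sheaf.H.map ((SheafOfModules.toSheaf X.ringCatSheaf).map S.f) i) := by
  have hS' := shortExact_toAbF S hS
  intro y
  have hy' : (show Ext _ ((S.map (toAbF X)).X₂) i from y).comp
      (Ext.mk₀ (S.map (toAbF X)).g) (add_zero i) = 0 := h₃.elim _ _
  obtain ⟨x₁, hx₁⟩ := Ext.covariant_sequence_exact₂ _ hS' _ hy'
  exact ⟨x₁, hx₁⟩

/-- the top open subset is terminal -/
noncomputable def isTerminalTop (X : Scheme.{u}) : IsTerminal (⊤ : X.Opens) :=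
  CategoryTheory.Limits.isTerminalTop

/-- if `Γ(X₂) → Γ(X₃)` is surjective then `H¹(X₁) → H¹(X₂)` is injective -/
theorem injective_H1_of_surjective (S : ShortComplex X.Modules) (hS : S.ShortExact)
    (hsurj : Function.Surjective (S.g.app ⊤)) :
    Function.Injective (Sheaf.H.map ((SheafOfModules.toSheaf X.ringCatSheaf).map S.f) 1) := by
  have hS' := shortExact_toAbF S hS
  rw [injective_iff_map_eq_zero]
  intro y hy
  have hy' : (show Ext _ ((S.map (toAbF X)).X₁) 1 from y).comp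
      (Ext.mk₀ (S.map (toAbF X)).f) (add_zero 1) = 0 := hy
  obtain ⟨x₃, hx₃⟩ := Ext.covariant_sequence_exact₁ _ hS' _ hy' (zero_add 1)
  -- lift the global section
  obtain ⟨s, hs⟩ := hsurj (Sheaf.H.equiv₀ (Coh.toAb S.X₃) (isTerminalTop X) x₃)
  let x₂ : Sheaf.H (Coh.toAb S.X₂) 0 := (Sheaf.H.equiv₀ (Coh.toAb S.X₂) (isTerminalTop X)).symm s
  have hx₂ : Sheaf.H.map ((SheafOfModules.toSheaf X.ringCatSheaf).map S.g) 0 x₂ = x₃ := by
    apply (Sheaf.H.equiv₀ (Coh.toAb S.X₃) (isTerminalTop X)).injective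
    rw [← Sheaf.H.equiv₀_naturality]
    have : Sheaf.H.equiv₀ (Coh.toAb S.X₂) (isTerminalTop X) x₂ = s :=
      (Sheaf.H.equiv₀ (Coh.toAb S.X₂) (isTerminalTop X)).apply_symm_apply s
    rw [this]
    exact hs
  have hx₂' : (show Ext _ ((S.map (toAbF X)).X₂) 0 from x₂).comp
      (Ext.mk₀ (S.map (toAbF X)).g) (add_zero 0) = x₃ := hx₂
  rw [← hx₃, ← hx₂', Ext.comp_assoc _ _ _ (add_zero 0) (zero_add 1) (by lia),
    hS'.comp_extClass, Ext.comp_zero]
  rfl

/-- if `H¹(X₁) → H¹(X₂)` is injective then `Γ(X₂) → Γ(X₃)` is surjective -/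
theorem surjective_of_injective_H1 (S : ShortComplex X.Modules) (hS : S.ShortExact)
    (hinj : Function.Injective
      (Sheaf.H.map ((SheafOfModules.toSheaf X.ringCatSheaf).map S.f) 1)) :
    Function.Surjective (S.g.app ⊤) := by
  have hS' := shortExact_toAbF S hS
  intro t
  let x₃ : Sheaf.H (Coh.toAb S.X₃) 0 := (Sheaf.H.equiv₀ (Coh.toAb S.X₃) (isTerminalTop X)).symm t
  have hx₃ : Sheaf.H.equiv₀ (Coh.toAb S.X₃) (isTerminalTop X) x₃ = t :=
    (Sheaf.H.equiv₀ (Coh.toAb S.X₃) (isTerminalTop X)).apply_symm_apply t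
  let x₁ : Sheaf.H (Coh.toAb S.X₁) 1 :=
    (show Ext _ ((S.map (toAbF X)).X₃) 0 from x₃).comp hS'.extClass (zero_add 1)
  have h0 : Sheaf.H.map ((SheafOfModules.toSheaf X.ringCatSheaf).map S.f) 1 x₁ = 0 := by
    change ((show Ext _ ((S.map (toAbF X)).X₃) 0 from x₃).comp hS'.extClass (zero_add 1)).comp
      (Ext.mk₀ (S.map (toAbF X)).f) (add_zero 1) = 0
    rw [Ext.comp_assoc _ _ _ (zero_add 1) (add_zero 1) (by lia), hS'.extClass_comp, Ext.comp_zero]
  have hx₁ : x₁ = 0 := hinj (h0.trans (map_zero _).symm)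
  obtain ⟨x₂, hx₂⟩ := Ext.covariant_sequence_exact₃ _ hS' _ (zero_add 1) hx₁
  refine ⟨Sheaf.H.equiv₀ (Coh.toAb S.X₂) (isTerminalTop X) x₂, ?_⟩
  have hnat := Sheaf.H.equiv₀_naturality (isTerminalTop X)
    ((SheafOfModules.toSheaf X.ringCatSheaf).map S.g) x₂
  have hx₂' : Sheaf.H.map ((SheafOfModules.toSheaf X.ringCatSheaf).map S.g) 0 x₂ = x₃ := hx₂
  rw [hx₂', hx₃] at hnat
  exact hnat

end Groth.Agent.Lib.Seat64.H1Gamma
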