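import Mathlib
import Groth.Agent.Lib.Seat64CMMult2
import Groth.Agent.Lib.Seat64H1Gamma
import Groth.Agent.Lib.Seat54HHFinite
import Groth.Agent.Lib.Seat54TwistExact

/-!
# Mumford's bound on `h¹` along a hyperplane section sequence (seat 64)

* `tmulBy_natural`, `surjective_succ` : on `P^n`, if `Γ(F(c)) → Γ(G(c))` is surjective and `G` is
  `c`-regular then `Γ(F(c+1)) → Γ(G(c+1))` is surjective.
* abstract lemmas `vanish_ge2`, `finrank_le`, `dichotomy`, `vanish_H1` for a family of short exact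
  sequences `0 → A j → A (j+1) → B (j+1) → 0`.
-/

set_option autoImplicit false
set_option linter.style.haveILetI false
universe u
open CategoryTheory CategoryTheory.Limits AlgebraicGeometry Opposite TopologicalSpace

namespace Groth.Agent.Lib.Seat64.CMBound

open Groth.Agent.Lib.Seat64.KoszulTwist Groth.Agent.Lib.Seat64.KoszulPn
  Groth.Agent.Lib.Seat64.CMMult Groth.Agent.Lib.Seat64.H1Gamma
  Groth.Agent.Lib.Seat54.HHFinite Groth.Agent.Lib.Seat54.TwistExact

section twist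

variable {R A : Type u} [CommRing R] [CommRing A] [Algebra R A] (𝒜 : ℕ → Submodule R A)
  [GradedAlgebra 𝒜]

theorem tmulBy_natural {F G : (Proj 𝒜).Modules} (π : F ⟶ G) {g : A} (hg : g ∈ 𝒜 1) (p q : ℤ)
    (h : p + 1 = q) :
    tw π (GrTilde.tilde 𝒜 𝒜 p) ≫ tmulBy 𝒜 G hg p q h =
      tmulBy 𝒜 F hg p q h ≫ tw π (GrTilde.tilde 𝒜 𝒜 q) := by
  have e1 : tw π (GrTilde.tilde 𝒜 𝒜 p) = KoszTw.tensorMap π (𝟙 _) :=
    KoszTw.tensorRightMod_map π _
  have e2 : tw π (GrTilde.tilde 𝒜 𝒜 q) = KoszTw.tensorMap π (𝟙 _) :=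
    KoszTw.tensorRightMod_map π _
  rw [e1, e2]
  unfold tmulBy
  rw [← KoszTw.tensorMap_comp, ← KoszTw.tensorMap_comp, Category.id_comp, Category.comp_id,
    Category.comp_id, Category.id_comp]

end twist

section Pn

variable (n : ℕ) (R : Type u) [CommRing R]

local notation "𝒫" => CohB1.polyGrading n R

theorem surjective_succ {F G : (Proj 𝒫).Modules} (π : F ⟶ G) (c : ℤ)
    (hG : ∀ t : ℕ, 1 ≤ t → t ≤ n → Subsingleton (Coh.HH (Proj 𝒫)
      (CohB1.tensorMod G (GrTilde.tilde 𝒫 𝒫 (c - (t : ℤ)))) t))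
    (h : Function.Surjective
      ((tw π (GrTilde.tilde 𝒫 𝒫 ((c - (n : ℤ)) + (n : ℤ)))).app ⊤)) :
    Function.Surjective
      ((tw π (GrTilde.tilde 𝒫 𝒫 ((c - (n : ℤ)) + ((n : ℤ) + 1)))).app ⊤) := by
  let τ : Γ(CohB1.tensorMod F (GrTilde.tilde 𝒫 𝒫 ((c - (n : ℤ)) + ((n : ℤ) + 1))), ⊤) →+
      Γ(CohB1.tensorMod G (GrTilde.tilde 𝒫 𝒫 ((c - (n : ℤ)) + ((n : ℤ) + 1))), ⊤) :=
    ((tw π (GrTilde.tilde 𝒫 𝒫 ((c - (n : ℤ)) + ((n : ℤ) + 1)))).app ⊤).hom
  intro y
  have hy : y ∈ τ.range := by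
    refine mem_of_forall_xF n R G c hG τ.range (fun s b => ?_) y
    obtain ⟨a, rfl⟩ := h b
    refine ⟨(xF n R F (c - (n : ℤ)) s (n : ℤ) ((n : ℤ) + 1) rfl).app ⊤ a, ?_⟩
    have hnat := tmulBy_natural 𝒫 π (X_mem n R s) ((c - (n : ℤ)) + (n : ℤ))
      ((c - (n : ℤ)) + ((n : ℤ) + 1)) (by omega)
    have h2 := congrArg (fun φ : CohB1.tensorMod F (GrTilde.tilde 𝒫 𝒫 ((c - (n : ℤ)) + (n : ℤ))) ⟶
      CohB1.tensorMod G (GrTilde.tilde 𝒫 𝒫 ((c - (n : ℤ)) + ((n : ℤ) + 1))) => φ.app ⊤ a) hnat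
    exact h2.symm
  obtain ⟨x, hx⟩ := hy
  exact ⟨x, hx⟩

end Pn

section abstract

variable (k : Type u) [Field k] {X : Scheme.{u}} [X.Over (Spec (CommRingCat.of k))]
variable (A B : ℤ → X.Modules) (f : ∀ j j' : ℤ, j + 1 = j' → (A j ⟶ A j')) (g : ∀ j, A j ⟶ B j)
  (w : ∀ j j' h, f j j' h ≫ g j' = 0)
  (hT : ∀ j j' h, (ShortComplex.mk (f j j' h) (g j') (w j j' h)).ShortExact)
  (m : ℤ)
  (H1 : ∀ (i : ℕ) (j : ℤ), 1 ≤ i → m - i ≤ j → Subsingleton (Coh.HH X (B j) i))
  (m₀ : ℤ) (H2 : ∀ j, m₀ ≤ j → ∀ q : ℕ, 1 ≤ q → Subsingleton (Coh.HH X (A j) q))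
  (H3 : ∀ j, Module.Finite k (Coh.HH X (A j) 1))
  (H4 : ∀ j, m ≤ j → Function.Surjective ((g j).app ⊤) → Function.Surjective ((g (j + 1)).app ⊤))

include hT H1 H2 in
theorem vanish_ge2 (i : ℕ) (j : ℤ) (hi : 2 ≤ i) (hj : m - i ≤ j) :
    Subsingleton (Coh.HH X (A j) i) := by
  obtain ⟨i', rfl⟩ : ∃ i', i = i' + 1 := ⟨i - 1, by omega⟩
  have key : ∀ d : ℕ, ∀ j : ℤ, m₀ - j ≤ d → m - ((i' + 1 : ℕ) : ℤ) ≤ j →
      Subsingleton (Coh.HH X (A j) (i' + 1)) := by
    intro d
    induction d with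
    | zero =>
      intro j h1 _
      exact H2 j (by push_cast at h1; omega) _ (by omega)
    | succ d ih =>
      intro j h1 h2
      have h3 := ih (j + 1) (by push_cast at h1 ⊢; omega) (by omega)
      exact subsingleton_HH_left _ (hT j (j + 1) rfl) i'
        (H1 i' (j + 1) (by omega) (by push_cast at h2 ⊢; omega)) h3
  exact key (m₀ - j).toNat j (by omega) hj

include hT H1 in
theorem surjective_f (j j' : ℤ) (h : j + 1 = j') (hj : m - 1 ≤ j') :
    Function.Surjective (Canon.HHlin k (f j j' h) 1) :=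
  surjective_H_of_subsingleton _ (hT j j' h) 1 (H1 1 j' le_rfl (by simpa using hj))

include hT H1 H3 in
theorem finrank_le (j : ℤ) (hj : m - 1 ≤ j) :
    Module.finrank k (Coh.HH X (A j) 1) ≤ Module.finrank k (Coh.HH X (A (j - 1)) 1) := by
  haveI := H3 (j - 1)
  exact LinearMap.finrank_le_finrank_of_surjective
    (surjective_f k A B f g w hT m H1 (j - 1) j (by ring) hj)

include hT H1 H2 H3 H4 in
theorem dichotomy (j j' : ℤ) (h : j + 1 = j') (hj : m ≤ j') :
    Subsingleton (Coh.HH X (A j) 1) ∨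
      Module.finrank k (Coh.HH X (A j') 1) < Module.finrank k (Coh.HH X (A j) 1) := by
  have hsurj := surjective_f k A B f g w hT m H1 j j' h (by omega)
  by_cases hinj : Function.Injective (Canon.HHlin k (f j j' h) 1)
  · left
    have hQ0 : Function.Surjective ((g j').app ⊤) :=
      surjective_of_injective_H1 _ (hT j j' h) hinj
    have hQ : ∀ d : ℕ, Function.Surjective ((g (j' + (d : ℤ))).app ⊤) := by
      intro d
      induction d with
      | zero =>
        have e : j' + ((0 : ℕ) : ℤ) = j' := by simp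
        rw [e]
        exact hQ0
      | succ d ih =>
        have e : j' + ((d + 1 : ℕ) : ℤ) = j' + (d : ℤ) + 1 := by push_cast; ring
        rw [e]
        exact H4 _ (by omega) ih
    have hQ' : ∀ a' : ℤ, j' ≤ a' → Function.Surjective ((g a').app ⊤) := by
      intro a' ha'
      have e : a' = j' + (((a' - j').toNat : ℕ) : ℤ) := by omega
      rw [e]
      exact hQ _
    have key : ∀ d : ℕ, ∀ a a' : ℤ, ∀ ha : a + 1 = a', j' ≤ a' → m₀ - a ≤ d →
        Subsingleton (Coh.HH X (A a) 1) := by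
      intro d
      induction d with
      | zero =>
        intro a a' _ _ h1
        exact H2 a (by push_cast at h1; omega) 1 le_rfl
      | succ d ih =>
        intro a a' ha h0 h1
        have h3 : Subsingleton (Coh.HH X (A a') 1) :=
          ih a' (a' + 1) rfl (by omega) (by push_cast at h1 ⊢; omega)
        have hi := injective_H1_of_surjective _ (hT a a' ha) (hQ' a' h0)
        exact ⟨fun x y => hi (h3.elim _ _)⟩
    exact key (m₀ - j).toNat j j' h le_rfl (by omega)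
  · right
    haveI := H3 j
    haveI := H3 j'
    have hle := LinearMap.finrank_le_finrank_of_surjective hsurj
    rcases lt_or_eq_of_le hle with hlt | heq
    · exact hlt
    · exact absurd ((LinearMap.injective_iff_surjective_of_finrank_eq_finrank heq.symm).2 hsurj) hinj

include hT H1 H2 H3 H4 in
theorem vanish_H1 (j : ℤ)
    (hj : m - 1 + (Module.finrank k (Coh.HH X (A (m - 1)) 1) : ℤ) ≤ j) :
    Subsingleton (Coh.HH X (A j) 1) := by
  have claim : ∀ t : ℕ, Subsingleton (Coh.HH X (A (m - 1 + (t : ℤ))) 1) ∨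
      Module.finrank k (Coh.HH X (A (m - 1 + (t : ℤ))) 1) + t ≤
        Module.finrank k (Coh.HH X (A (m - 1)) 1) := by
    intro t
    induction t with
    | zero =>
      right
      have e : m - 1 + ((0 : ℕ) : ℤ) = m - 1 := by simp
      rw [e]
      exact le_rfl
    | succ t ih =>
      have hd := dichotomy k A B f g w hT m H1 m₀ H2 H3 H4 (m - 1 + (t : ℤ))
        (m - 1 + ((t + 1 : ℕ) : ℤ)) (by push_cast; ring) (by push_cast; omega)
      have hs := surjective_f k A B f g w hT m H1 (m - 1 + (t : ℤ))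
        (m - 1 + ((t + 1 : ℕ) : ℤ)) (by push_cast; ring) (by push_cast; omega)
      have hsub : Subsingleton (Coh.HH X (A (m - 1 + (t : ℤ))) 1) →
          Subsingleton (Coh.HH X (A (m - 1 + ((t + 1 : ℕ) : ℤ))) 1) := by
        intro hh
        refine ⟨fun x y => ?_⟩
        obtain ⟨x', rfl⟩ := hs x
        obtain ⟨y', rfl⟩ := hs y
        rw [hh.elim x' y']
      rcases ih with ih | ih
      · exact Or.inl (hsub ih)
      · rcases hd with hd | hd
        · exact Or.inl (hsub hd)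
        · right
          omega
  have e : j = m - 1 + (((j - (m - 1)).toNat : ℕ) : ℤ) := by omega
  rw [e]
  rcases claim (j - (m - 1)).toNat with hc | hc
  · exact hc
  · haveI := H3 (m - 1 + (((j - (m - 1)).toNat : ℕ) : ℤ))
    apply (Module.finrank_eq_zero_iff_of_free k _).1
    omega

end abstract

end Groth.Agent.Lib.Seat64.CMBound
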