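import Mathlib
import Groth.Agent.Lib.Seat64CMMult2
import Groth.Agent.Lib.Helper23SecTw10
import Groth.Agent.Lib.Helper27SerreGen5
import Groth.Agent.Lib.Helper4ModEpi
import Groth.Agent.Lib.Seat54HHSigma

/-!
# Global generation from surjectivity of the multiplication maps (seat 64)

* `Sp N V` : the submodule of `Γ(N, V)` spanned by restrictions of global sections.
* `isGloballyGenerated_of_local` : sectionwise criterion for `Curv2.IsGloballyGenerated`.
* `app_mem_Sp_of_sigma` : the image of a map from a finite free module lies in `Sp`.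
* `isGloballyGenerated_of_P` : on `P^n_R`, `G` quasi-coherent of finite type with
  `Γ(G) ⊗ Γ(O(e)) → Γ(G ⊗ O(e))` surjective for all `e ≥ 0` is globally generated.
-/

set_option autoImplicit false
universe u
open CategoryTheory CategoryTheory.Limits AlgebraicGeometry Opposite TopologicalSpace

namespace Groth.Agent.Lib.Seat64.CMGG

open Groth.Agent.Lib.Helper23.SecTw Groth.Agent.Lib.Helper6 Groth.Agent.Lib.Helper23.GenLocus
  Groth.Agent.Lib.Helper23.Extend Groth.Agent.Lib.Seat64.CMMult Groth.Agent.Lib.Seat64.KoszulTwist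
  Groth.Agent.Lib.Seat64.KoszulPn Groth.Agent.Lib.Helper27GrTildeSect

section general

variable {X : Scheme.{u}}

/-- the span of the restrictions of the global sections -/
noncomputable def Sp (N : X.Modules) (V : X.Opens) : Submodule Γ(X, V) Γ(N, V) :=
  Submodule.span Γ(X, V) (Set.range fun g : Γ(N, ⊤) => res N (le_top : V ≤ ⊤) g)

theorem res_mem_Sp (N : X.Modules) {V V' : X.Opens} (h : V' ≤ V) (t : Γ(N, V)) (ht : t ∈ Sp N V) :
    res N h t ∈ Sp N V' := by
  unfold Sp at ht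
  induction ht using Submodule.span_induction with
  | mem y hy =>
    obtain ⟨g, rfl⟩ := hy
    rw [res_res]
    exact Submodule.subset_span ⟨g, rfl⟩
  | zero =>
    have h0 : res N h (0 : Γ(N, V)) = 0 := map_zero (N.presheaf.map (homOfLE h).op).hom
    rw [h0]; exact Submodule.zero_mem _
  | add a b _ _ ha hb => rw [res_add']; exact Submodule.add_mem _ ha hb
  | smul r a _ ha =>
    have : res N h (r • a) = resf h r • res N h a := N.map_smul (homOfLE h) r a
    rw [this]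
    exact Submodule.smul_mem _ _ ha

/-- the free module on a type, typed as an object of `X.Modules` -/
noncomputable abbrev freeM (X : Scheme.{u}) (I : Type u) : X.Modules := SheafOfModules.free I

theorem isGloballyGenerated_of_local (N : X.Modules)
    (h : ∀ (V : X.Opens) (t : Γ(N, V)) (x : X), x ∈ V →
      ∃ (V' : X.Opens) (hV' : V' ≤ V), x ∈ V' ∧ res N hV' t ∈ Sp N V') :
    Curv2.IsGloballyGenerated N := by
  let p : freeM X Γ(N, ⊤) ⟶ N :=
    Sigma.desc (C := SheafOfModules X.ringCatSheaf) (fun g : Γ(N, ⊤) => secHom N g)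
  have hp : ∀ g : Γ(N, ⊤),
      (show Coh.structureModule X ⟶ freeM X Γ(N, ⊤) from
        SheafOfModules.ιFree (R := X.ringCatSheaf) g) ≫ p = secHom N g := fun g =>
    Sigma.ι_desc (C := SheafOfModules X.ringCatSheaf) (fun g : Γ(N, ⊤) => secHom N g) g
  refine ⟨Γ(N, ⊤), p, ?_⟩
  apply Groth.Agent.Lib.Helper23.Serre.epi_of_locally_surjective
  intro V t x hxV
  obtain ⟨V', hV', hx', hmem⟩ := h V t x hxV
  refine ⟨V', hV', hx', ?_⟩
  let Rg : Submodule Γ(X, V') Γ(N, V') :=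
    { carrier := Set.range (Scheme.Modules.Hom.app p V')
      add_mem' := by
        rintro _ _ ⟨a, rfl⟩ ⟨b, rfl⟩
        exact ⟨a + b, map_add (Scheme.Modules.Hom.app p V').hom a b⟩
      zero_mem' := ⟨0, map_zero (Scheme.Modules.Hom.app p V').hom⟩
      smul_mem' := by
        rintro r _ ⟨a, rfl⟩
        exact ⟨(r • a : Γ(freeM X Γ(N, ⊤), V')), Scheme.Modules.Hom.app_smul p r a⟩ }
  have hle : Sp N V' ≤ Rg := by
    apply Submodule.span_le.2
    rintro _ ⟨g, rfl⟩
    refine ⟨(show Coh.structureModule X ⟶ freeM X Γ(N, ⊤) from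
        SheafOfModules.ιFree (R := X.ringCatSheaf) g).app V' (toS V' 1), ?_⟩
    have h1 := congrArg (fun φ : Coh.structureModule X ⟶ N => φ.app V' (toS V' 1)) (hp g)
    have h2 : (secHom N g).app V' (toS V' 1) = res N le_top g := sv_secHom N g V'
    exact h1.trans h2
  exact hle hmem


theorem app_mem_Sp_of_sigma (N : X.Modules) {r : ℕ}
    (p : (∐ fun _ : Fin r => Coh.structureModule X) ⟶ N) (V : X.Opens)
    (a : Γ((∐ fun _ : Fin r => Coh.structureModule X : X.Modules), V)) :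
    p.app V a ∈ Sp N V := by
  classical
  let f : Fin r → X.Modules := fun _ => Coh.structureModule X
  let π' : ∀ j : Fin r, (∐ f) ⟶ Coh.structureModule X := fun j =>
    Sigma.desc (fun i => if i = j then 𝟙 _ else 0)
  have hπ : ∀ i j, Sigma.ι f i ≫ π' j = if i = j then 𝟙 _ else 0 := fun i j =>
    Sigma.ι_desc _ _
  have htot : 𝟙 (∐ f) = ∑ j, π' j ≫ Sigma.ι f j := by
    apply Sigma.hom_ext
    intro i
    rw [Category.comp_id, Preadditive.comp_sum]
    have : ∀ j, Sigma.ι f i ≫ π' j ≫ Sigma.ι f j = if i = j then Sigma.ι f i else 0 := by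
      intro j
      rw [← Category.assoc, hπ]
      split_ifs with h
      · subst h; rw [Category.id_comp]
      · rw [zero_comp]
    simp only [this]
    rw [Finset.sum_ite_eq]
    simp
  have hp : p = ∑ j, π' j ≫ (Sigma.ι f j ≫ p) := by
    calc p = 𝟙 _ ≫ p := (Category.id_comp p).symm
      _ = _ := by
        rw [htot, Preadditive.sum_comp]
        simp only [Category.assoc]
  rw [hp, Groth.Agent.Lib.Seat54.HHSigma.sum_app_apply]
  apply Submodule.sum_mem
  intro j _
  have h1 : (π' j ≫ (Sigma.ι f j ≫ p)).app V a =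
      (Sigma.ι f j ≫ p).app V (toS V (ofS V ((π' j).app V a))) := rfl
  rw [h1, app_toS, ← res_sv (Sigma.ι f j ≫ p) (le_top : V ≤ ⊤)]
  exact Submodule.smul_mem _ _ (Submodule.subset_span ⟨sv (Sigma.ι f j ≫ p) ⊤, rfl⟩)


/-- restrictions of images of `Γ(G) ⊗ Γ(L)` are, on a trivialising open, of the form
`m ⊗ ε` with `m` in the span of global sections -/
theorem exists_mem_Sp_tm (G L : X.Modules) (W V : X.Opens) (hV : V ≤ W)
    (ε : Γ(L, W)) (hε : IsGen L W ε) (p : PreSec G L ⊤) :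
    ∃ m ∈ Sp G V, tm G L V m (res L hV ε) =
      res (CohB1.tensorMod G L) (le_top : V ≤ ⊤) (toT G L ⊤ p) := by
  refine induction_pt (CohB1.toPMod G) (CohB1.toPMod L) (op ⊤)
    (motive := fun p => ∃ m ∈ Sp G V, tm G L V m (res L hV ε) =
      res (CohB1.tensorMod G L) (le_top : V ≤ ⊤) (toT G L ⊤ p)) p ?_ ?_ ?_
  · refine ⟨0, Submodule.zero_mem _, ?_⟩
    have h0 : toT G L ⊤ (0 : PreSec G L ⊤) = 0 :=
      map_zero ((SecTwist.toTensor G L).app (op ⊤)).hom
    have h1 : res (CohB1.tensorMod G L) (le_top : V ≤ ⊤) (0 : Γ(CohB1.tensorMod G L, ⊤)) = 0 :=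
      map_zero ((CohB1.tensorMod G L).presheaf.map (homOfLE (le_top : V ≤ ⊤)).op).hom
    exact (tm_zero_left G L V _).trans ((congrArg _ h0).trans h1).symm
  · intro g₀ u₀
    let g : Γ(G, ⊤) := g₀
    let u : Γ(L, ⊤) := u₀
    obtain ⟨c, hc⟩ := (hε V hV).2 (res L (le_top : V ≤ ⊤) u)
    replace hc : c • res L hV ε = res L (le_top : V ≤ ⊤) u := hc
    refine ⟨c • res G (le_top : V ≤ ⊤) g,
      Submodule.smul_mem _ _ (Submodule.subset_span ⟨g, rfl⟩), ?_⟩
    change _ = res (CohB1.tensorMod G L) (le_top : V ≤ ⊤) (tm G L ⊤ g u)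
    rw [res_tm, ← hc, tm_smul_left, tm_smul_right]
  · intro x y hx hy
    obtain ⟨m₁, hm₁, h₁⟩ := hx
    obtain ⟨m₂, hm₂, h₂⟩ := hy
    refine ⟨m₁ + m₂, Submodule.add_mem _ hm₁ hm₂, ?_⟩
    have ha : toT G L ⊤ (x + y) = toT G L ⊤ x + toT G L ⊤ y :=
      map_add ((SecTwist.toTensor G L).app (op ⊤)).hom x y
    rw [tm_add_left, ha, res_add', h₁, h₂]

/-- local form of global generation from a twist: if `G ⊗ L` is a quotient of a finite free
module, `L` is locally free of rank one, and every global section of `G ⊗ L` comes from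
`Γ(G) ⊗ Γ(L)`, then sections of `G` are locally in the span of the global sections -/
theorem locally_mem_Sp_of_twist (G L : X.Modules) {r : ℕ}
    (p : (∐ fun _ : Fin r => Coh.structureModule X) ⟶ CohB1.tensorMod G L) [Epi p]
    (hL : ∀ x : X, ∃ (W : X.Opens) (ε : Γ(L, W)), x ∈ W ∧ IsGen L W ε)
    (hP : ∀ b : Γ(CohB1.tensorMod G L, ⊤), ∃ q : PreSec G L ⊤, toT G L ⊤ q = b) :
    ∀ (V : X.Opens) (t : Γ(G, V)) (x : X), x ∈ V →
      ∃ (V' : X.Opens) (hV' : V' ≤ V), x ∈ V' ∧ res G hV' t ∈ Sp G V' := by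
  intro V t x hxV
  obtain ⟨W, ε, hxW, hε⟩ := hL x
  have hVW : V ⊓ W ≤ W := inf_le_right
  obtain ⟨V₂, hV₂, hxV₂, a, ha⟩ := Groth.Agent.Lib.Helper4.ModEpi.exists_app_eq_of_epi p (V ⊓ W)
    (tm G L (V ⊓ W) (res G inf_le_left t) (res L hVW ε)) x ⟨hxV, hxW⟩
  have hV₂W : V₂ ≤ W := hV₂.trans hVW
  refine ⟨V₂, hV₂.trans inf_le_left, hxV₂, ?_⟩
  have hmem : tm G L V₂ (res G (hV₂.trans inf_le_left) t) (res L hV₂W ε) ∈
      Sp (CohB1.tensorMod G L) V₂ := by
    have h1 := app_mem_Sp_of_sigma (CohB1.tensorMod G L) p V₂ a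
    rw [ha] at h1
    have h2 : (CohB1.tensorMod G L).presheaf.map (homOfLE hV₂).op
        (tm G L (V ⊓ W) (res G inf_le_left t) (res L hVW ε)) =
        tm G L V₂ (res G (hV₂.trans inf_le_left) t) (res L hV₂W ε) := by
      have := res_tm G L hV₂ (res G inf_le_left t) (res L hVW ε)
      rw [res_res, res_res] at this
      exact this
    rw [h2] at h1
    exact h1
  -- the image of `Sp G V₂` under `m ↦ m ⊗ ε` contains `Sp (G ⊗ L) V₂`
  have hsub : ∀ y ∈ Sp (CohB1.tensorMod G L) V₂,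
      ∃ m ∈ Sp G V₂, tm G L V₂ m (res L hV₂W ε) = y := by
    intro y hy
    unfold Sp at hy
    induction hy using Submodule.span_induction with
    | mem y hy =>
      obtain ⟨b, rfl⟩ := hy
      obtain ⟨q, rfl⟩ := hP b
      exact exists_mem_Sp_tm G L W V₂ hV₂W ε hε q
    | zero => exact ⟨0, Submodule.zero_mem _, tm_zero_left _ _ _ _⟩
    | add y₁ y₂ _ _ h₁ h₂ =>
      obtain ⟨m₁, hm₁, rfl⟩ := h₁
      obtain ⟨m₂, hm₂, rfl⟩ := h₂
      exact ⟨m₁ + m₂, Submodule.add_mem _ hm₁ hm₂, tm_add_left _ _ _ _ _ _⟩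
    | smul c y₁ _ h₁ =>
      obtain ⟨m₁, hm₁, rfl⟩ := h₁
      exact ⟨c • m₁, Submodule.smul_mem _ _ hm₁, tm_smul_left _ _ _ _ _ _⟩
  obtain ⟨m, hm, hmt⟩ := hsub _ hmem
  have := injective_tm_of_isGen G L W ε hε V₂ hV₂W hmt
  rw [← this]
  exact hm

/-- global generation from a twist: if `G ⊗ L` is a quotient of a finite free module, `L` is
locally free of rank one, and every global section of `G ⊗ L` comes from `Γ(G) ⊗ Γ(L)`, then
`G` is globally generated -/
theorem isGloballyGenerated_of_twist (G L : X.Modules) {r : ℕ}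
    (p : (∐ fun _ : Fin r => Coh.structureModule X) ⟶ CohB1.tensorMod G L) [Epi p]
    (hL : ∀ x : X, ∃ (W : X.Opens) (ε : Γ(L, W)), x ∈ W ∧ IsGen L W ε)
    (hP : ∀ b : Γ(CohB1.tensorMod G L, ⊤), ∃ q : PreSec G L ⊤, toT G L ⊤ q = b) :
    Curv2.IsGloballyGenerated G :=
  isGloballyGenerated_of_local G (locally_mem_Sp_of_twist G L p hL hP)

end general


section Pn

variable (n : ℕ) (R : Type u) [CommRing R]

local notation "𝒫" => CohB1.polyGrading n R

/-- on `P^n_R`, sections of a quasi-coherent module of finite type all of whose multiplication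
maps `Γ(G) ⊗ Γ(O(e)) → Γ(G ⊗ O(e))` (`e ≥ 0`) are surjective lie locally in the span of the
global sections -/
theorem locally_mem_Sp_of_P (G : (Proj 𝒫).Modules) [G.IsQuasicoherent]
    [SheafOfModules.IsFiniteType (R := (Proj 𝒫).ringCatSheaf) G]
    (hP : ∀ e : ℕ, P n R G (e : ℤ)) :
    ∀ (V : (Proj 𝒫).Opens) (t : Γ(G, V)) (x : Proj 𝒫), x ∈ V →
      ∃ (V' : (Proj 𝒫).Opens) (hV' : V' ≤ V), x ∈ V' ∧ res G hV' t ∈ Sp G V' := by
  have hcov : ∀ y : Proj 𝒫, ∃ i : Fin (n + 1),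
      (MvPolynomial.X i : MvPolynomial (Fin (n + 1)) R) ∉
        (show ProjectiveSpectrum 𝒫 from y).asHomogeneousIdeal := by
    intro y
    obtain ⟨j, hj⟩ := exists_mem_basicOpen n R y
    exact ⟨j, (ProjectiveSpectrum.mem_basicOpen 𝒫 _ y).mp hj⟩
  obtain ⟨n₀, hn₀⟩ := exists_epi_free 𝒫 1
    (fun i : Fin (n + 1) => (MvPolynomial.X i : MvPolynomial (Fin (n + 1)) R))
    (fun i => X_mem n R i) hcov one_pos G
  obtain ⟨r, p, hp⟩ := hn₀ n₀ le_rfl (n₀ : ℤ) (by simp)
  have := hp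
  refine locally_mem_Sp_of_twist G (GrTilde.tilde 𝒫 𝒫 (n₀ : ℤ)) p (fun x => ?_) (hP n₀)
  obtain ⟨j, hj⟩ := exists_mem_basicOpen n R x
  exact ⟨_, gen 𝒫 (X_mem n R j) (n₀ : ℤ), hj, isGen_gen 𝒫 (X_mem n R j) _⟩

/-- on `P^n_R`, a quasi-coherent module of finite type all of whose multiplication maps
`Γ(G) ⊗ Γ(O(e)) → Γ(G ⊗ O(e))` (`e ≥ 0`) are surjective is globally generated -/
theorem isGloballyGenerated_of_P (G : (Proj 𝒫).Modules) [G.IsQuasicoherent]
    [SheafOfModules.IsFiniteType (R := (Proj 𝒫).ringCatSheaf) G]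
    (hP : ∀ e : ℕ, P n R G (e : ℤ)) : Curv2.IsGloballyGenerated G :=
  isGloballyGenerated_of_local G (locally_mem_Sp_of_P n R G hP)

end Pn

end Groth.Agent.Lib.Seat64.CMGG
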