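import Mathlib
import Groth.Agent.Lib.Seat64CMGG
import Groth.Agent.Lib.Seat64H1Gamma

/-!
# Finite free covers which are surjective on global sections (seat 64)

* `rangeApp p V` : the image of `p : M ⟶ N` on sections over `V`, as a submodule.
* `span_top_of_finite_HH` : if `H⁰(X, M)` is a finite `A`-module then `Γ(M, ⊤)` is spanned over
  `Γ(X, ⊤)` by finitely many sections.
* `exists_epi_sigma` : if moreover the sections of `M` lie locally in the span of the global
  sections, the induced map `O^b ⟶ M` is an epimorphism and surjective on global sections.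
-/

set_option autoImplicit false
universe u
open CategoryTheory CategoryTheory.Limits AlgebraicGeometry Opposite TopologicalSpace

namespace Groth.Agent.Lib.Seat64.CMRes

open Groth.Agent.Lib.Helper23.SecTw Groth.Agent.Lib.Helper6 Groth.Agent.Lib.Helper23.GenLocus
  Groth.Agent.Lib.Helper23.Extend Groth.Agent.Lib.Seat64.CMGG Groth.Agent.Lib.Seat64.H1Gamma

variable {X : Scheme.{u}}

/-- the image of a morphism of modules on sections over `V` -/
noncomputable def rangeApp {M N : X.Modules} (p : M ⟶ N) (V : X.Opens) :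
    Submodule Γ(X, V) Γ(N, V) where
  carrier := Set.range (Scheme.Modules.Hom.app p V)
  add_mem' := by
    rintro _ _ ⟨a, rfl⟩ ⟨b, rfl⟩
    exact ⟨a + b, map_add (Scheme.Modules.Hom.app p V).hom a b⟩
  zero_mem' := ⟨0, map_zero (Scheme.Modules.Hom.app p V).hom⟩
  smul_mem' := by
    rintro r _ ⟨a, rfl⟩
    exact ⟨r • a, Scheme.Modules.Hom.app_smul p r a⟩

theorem mem_rangeApp {M N : X.Modules} (p : M ⟶ N) (V : X.Opens) (y : Γ(N, V)) :
    y ∈ rangeApp p V ↔ ∃ a : Γ(M, V), p.app V a = y := Iff.rfl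

section finite

variable (A : Type u) [CommRing A] [X.Over (Spec (CommRingCat.of A))]

theorem span_top_of_finite_HH (M : X.Modules) [hfin : Module.Finite A (Coh.HH X M 0)] :
    ∃ (b : ℕ) (s : Fin b → Γ(M, ⊤)), Submodule.span Γ(X, ⊤) (Set.range s) = ⊤ := by
  obtain ⟨b, x, hx⟩ := Module.Finite.exists_fin (R := A) (M := Coh.HH X M 0)
  let E := Sheaf.H.equiv₀ (Coh.toAb M) (isTerminalTop X)
  refine ⟨b, fun j => E (x j), ?_⟩
  rw [eq_top_iff]
  intro t _
  have ht : E.symm t ∈ Submodule.span A (Set.range x) := by rw [hx]; trivial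
  obtain ⟨c, hc⟩ := (Submodule.mem_span_range_iff_exists_fun A).1 ht
  have h0 : t = ∑ i, E (c i • x i) := by
    rw [← map_sum, hc]
    exact (E.apply_symm_apply t).symm
  rw [h0]
  refine Submodule.sum_mem _ (fun i _ => ?_)
  have h1 : E (c i • x i) =
      (Coh.smulAb M (Coh.toGlobal (X ↘ Spec (CommRingCat.of A)) (c i))).hom.app (op ⊤) (E (x i)) :=
    (Sheaf.H.equiv₀_naturality (isTerminalTop X)
      (Coh.smulAb M (Coh.toGlobal (X ↘ Spec (CommRingCat.of A)) (c i))) (x i)).symm
  rw [h1, Coh.smulAb_app]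
  exact Submodule.smul_mem _ _ (Submodule.subset_span ⟨i, rfl⟩)

end finite

theorem exists_epi_sigma (G : X.Modules) {b : ℕ} (s : Fin b → Γ(G, ⊤))
    (hs : Submodule.span Γ(X, ⊤) (Set.range s) = ⊤)
    (hloc : ∀ (V : X.Opens) (t : Γ(G, V)) (x : X), x ∈ V →
      ∃ (V' : X.Opens) (hV' : V' ≤ V), x ∈ V' ∧ res G hV' t ∈ Sp G V') :
    Epi (Sigma.desc (fun j : Fin b => secHom G (s j))) ∧
      Function.Surjective ((Sigma.desc (fun j : Fin b => secHom G (s j))).app ⊤) := by
  set ψ : (∐ fun _ : Fin b => Coh.structureModule X) ⟶ G :=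
    Sigma.desc (fun j : Fin b => secHom G (s j)) with hψ
  have hι : ∀ j, Sigma.ι (fun _ : Fin b => Coh.structureModule X) j ≫ ψ = secHom G (s j) :=
    fun j => Sigma.ι_desc _ j
  have key : ∀ V : X.Opens, Sp G V ≤ rangeApp ψ V := by
    intro V
    apply Submodule.span_le.2
    rintro _ ⟨g, rfl⟩
    have hg : g ∈ Submodule.span Γ(X, ⊤) (Set.range s) := by rw [hs]; trivial
    induction hg using Submodule.span_induction with
    | mem y hy =>
      obtain ⟨j, rfl⟩ := hy
      refine ⟨(Sigma.ι (fun _ : Fin b => Coh.structureModule X) j).app V (toS V 1), ?_⟩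
      have h1 := congrArg (fun φ : Coh.structureModule X ⟶ G => φ.app V (toS V 1)) (hι j)
      have h2 : (secHom G (s j)).app V (toS V 1) = res G le_top (s j) := sv_secHom G (s j) V
      exact h1.trans h2
    | zero =>
      have h0 : res G (le_top : V ≤ ⊤) (0 : Γ(G, ⊤)) = 0 :=
        map_zero (G.presheaf.map (homOfLE (le_top : V ≤ ⊤)).op).hom
      change res G (le_top : V ≤ ⊤) (0 : Γ(G, ⊤)) ∈ rangeApp ψ V
      rw [h0]; exact Submodule.zero_mem _
    | add a c _ _ ha hc =>
      change res G (le_top : V ≤ ⊤) (a + c) ∈ rangeApp ψ V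
      rw [res_add']; exact Submodule.add_mem _ ha hc
    | smul r a _ ha =>
      have : res G (le_top : V ≤ ⊤) (r • a) = resf le_top r • res G le_top a :=
        G.map_smul (homOfLE (le_top : V ≤ ⊤)) r a
      change res G (le_top : V ≤ ⊤) (r • a) ∈ rangeApp ψ V
      rw [this]
      exact Submodule.smul_mem _ _ ha
  constructor
  · apply Groth.Agent.Lib.Helper23.Serre.epi_of_locally_surjective
    intro V t x hxV
    obtain ⟨V', hV', hx', hmem⟩ := hloc V t x hxV
    exact ⟨V', hV', hx', key V' hmem⟩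
  · intro t
    have ht : t ∈ Sp G ⊤ := by
      have h1 : res G (le_top : (⊤ : X.Opens) ≤ ⊤) t ∈ Sp G ⊤ :=
        Submodule.subset_span ⟨t, rfl⟩
      rw [res_self] at h1
      exact h1
    exact key ⊤ ht

end Groth.Agent.Lib.Seat64.CMRes
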