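import Mathlib
import Groth.Agent.Lib.Seat64CMRes
import Groth.Agent.Lib.Seat64CMReg
import Groth.Agent.Lib.Seat54TwistExact
import Groth.Agent.Lib.Seat54SerreVanish
import Groth.Agent.Lib.Seat54PnVanish2
import Groth.Agent.Lib.Seat54PnFinite
import Groth.Agent.Lib.Seat54HHSigma
import Groth.Agent.Lib.Seat98PicCalc
import Groth.Agent.Lib.Helper23TensorQCoh
import Groth.Agent.Lib.Helper23QCohAbelian
import Groth.Agent.S12453

/-!
# One step of a linear resolution of a regular sheaf on `P^n` (seat 64)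

* `regular_of_epi_kernel` : if `O(-m)^b → F` is an epimorphism with `(m+1)`-regular kernel
  then `F` is `m`-regular.
* `exists_epi_kernel_regular` : if `F` is coherent and `m`-regular then there is an epimorphism
  `O(-m)^b → F` with `(m+1)`-regular kernel.
-/

set_option autoImplicit false
set_option linter.style.haveILetI false
universe u
open CategoryTheory CategoryTheory.Limits AlgebraicGeometry Opposite TopologicalSpace

namespace Groth.Agent.Lib.Seat64.CMRes

open Groth.Agent.Lib.Helper23.SecTw Groth.Agent.Lib.Helper6 Groth.Agent.Lib.Helper23.GenLocus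
  Groth.Agent.Lib.Helper23.Extend Groth.Agent.Lib.Seat64.CMGG Groth.Agent.Lib.Seat64.H1Gamma
  Groth.Agent.Lib.Seat98.PicCalc

section basics

variable (n : ℕ) (R : Type u) [CommRing R]

local notation "PP" => CohB1.ProjSpace n R
local notation "OO" => Twist.twistProjSpace n R

theorem hcov : (⨆ f : CohB1.polyGrading n R 1, Proj.basicOpen (CohB1.polyGrading n R)
    (f : MvPolynomial (Fin (n + 1)) R)) = ⊤ := by
  rw [eq_top_iff, ← Groth.Agent.Lib.Helper27PnChart.iSup_basicOpen_X n R]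
  refine iSup_le fun j => ?_
  exact le_iSup (fun f : CohB1.polyGrading n R 1 => Proj.basicOpen (CohB1.polyGrading n R)
    (f : MvPolynomial (Fin (n + 1)) R)) ⟨MvPolynomial.X j, Groth.Agent.Lib.Helper27PnChart.X_mem_one n R j⟩

theorem hinv (d : ℤ) : PicF.IsInvertible (OO d) :=
  (Groth.Agent.S12453.result (CohB1.polyGrading n R) (hcov n R)).1 d

theorem hmul (a b : ℤ) : Nonempty (CohB1.tensorMod (OO a) (OO b) ≅ OO (a + b)) :=
  (Groth.Agent.S12453.result (CohB1.polyGrading n R) (hcov n R)).2.1 a b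

/-- `(M ⊗ O(a)) ⊗ O(b) ≅ M ⊗ O(c)` for `a + b = c` -/
theorem nonempty_twist_twist (M : (PP).Modules) (a b c : ℤ) (h : a + b = c) :
    Nonempty (CohB1.tensorMod (CohB1.tensorMod M (OO a)) (OO b) ≅ CohB1.tensorMod M (OO c)) := by
  subst h
  obtain ⟨e⟩ := hmul n R a b
  exact ⟨tAssoc _ _ _ ≪≫ tIso (Iso.refl M) e⟩

/-- `M ⊗ O(0) ≅ M` -/
theorem nonempty_twist_zero (M : (PP).Modules) :
    Nonempty (CohB1.tensorMod M (OO 0) ≅ M) := by
  obtain ⟨e⟩ := Groth.Agent.Lib.Seat54.PnVanish.nonempty_structure_iso n R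
  exact ⟨tIso (Iso.refl M) e.symm ≪≫ tUnitR M⟩

/-- `(M ⊗ O(a)) ⊗ O(-a) ≅ M` -/
theorem nonempty_twist_untwist (M : (PP).Modules) (a b : ℤ) (h : a + b = 0) :
    Nonempty (CohB1.tensorMod (CohB1.tensorMod M (OO a)) (OO b) ≅ M) := by
  obtain ⟨e⟩ := nonempty_twist_twist n R M a b 0 h
  obtain ⟨e'⟩ := nonempty_twist_zero n R M
  exact ⟨e ≪≫ e'⟩

/-- `O ⊗ O(a) ≅ O(a)` -/
noncomputable def unitTwist (a : ℤ) :
    CohB1.tensorMod (Coh.structureModule (PP)) (OO a) ≅ OO a := tUnitL _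

end basics


section main

variable (n : ℕ) (R : Type u) [CommRing R]

local notation "PP" => CohB1.ProjSpace n R
local notation "OO" => Twist.twistProjSpace n R

/-- the twisting functor `- ⊗ T` -/
noncomputable abbrev Φ (T : (PP).Modules) : (PP).Modules ⥤ (PP).Modules := DCoh.tensorRightMod T

/-- the kernel short exact sequence of an epimorphism -/
noncomputable def kerSC {X : Scheme.{u}} {M N : X.Modules} (φ : M ⟶ N) : ShortComplex X.Modules :=
  ShortComplex.mk (kernel.ι φ) φ (kernel.condition φ)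

theorem kerSC_shortExact {X : Scheme.{u}} {M N : X.Modules} (φ : M ⟶ N) [Epi φ] :
    (kerSC φ).ShortExact :=
  { exact := ShortComplex.exact_kernel φ
    mono_f := inferInstanceAs (Mono (kernel.ι φ))
    epi_g := inferInstanceAs (Epi φ) }

/-- cohomology of `O(a)^b ⊗ O(c)` -/
theorem subsingleton_HH_sigma_twist (b : ℕ) (a c : ℤ) (q : ℕ) (hq : 0 < q)
    (h : q < n ∨ -((n : ℤ) + 1) < a + c) :
    Subsingleton (Coh.HH (PP) (CohB1.tensorMod (∐ fun _ : Fin b => OO a) (OO c)) q) := by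
  have key := Groth.Agent.Lib.Seat54.SerreVanish.subsingleton_HH_map_sigma R
    (Φ n R (OO c)) (fun _ : Fin b => OO a) q (fun j => ?_)
  · exact key
  · obtain ⟨e⟩ := hmul n R a c
    exact Groth.Agent.Lib.Seat54.PnVanish.subsingleton_HH_of_iso e q
      (Groth.Agent.Lib.Seat54.PnVanish.subsingleton_HH_twist n R (a + c) q hq h)

/-- if `O(-m)^b → F` is an epimorphism with `(m+1)`-regular kernel then `F` is `m`-regular -/
theorem regular_of_epi_kernel (F : (PP).Modules) [F.IsQuasicoherent] (m : ℤ) (b : ℕ)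
    (φ : (∐ fun _ : Fin b => OO (-m)) ⟶ F) [Epi φ]
    (hK : ∀ i : ℕ, 1 ≤ i → i ≤ n → Subsingleton (Coh.HH (PP)
      (CohB1.tensorMod (kernel φ) (OO (m + 1 - i))) i)) :
    ∀ i : ℕ, 1 ≤ i → i ≤ n → Subsingleton (Coh.HH (PP) (CohB1.tensorMod F (OO (m - i))) i) := by
  intro i hi1 hin
  have hS := kerSC_shortExact φ
  have hS' := Groth.Agent.Lib.Seat54.TwistExact.shortExact_twist (kerSC φ) hS (OO (m - i))
    (hinv n R _)
  have h₂ : Subsingleton (Coh.HH (PP) ((kerSC φ).map (Φ n R (OO (m - i)))).X₂ i) :=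
    subsingleton_HH_sigma_twist n R b (-m) (m - i) i hi1 (Or.inr (by omega))
  have h₁ : Subsingleton (Coh.HH (PP) ((kerSC φ).map (Φ n R (OO (m - i)))).X₁ (i + 1)) := by
    change Subsingleton (Coh.HH (PP) (CohB1.tensorMod (kernel φ) (OO (m - i))) (i + 1))
    by_cases h : i + 1 ≤ n
    · have := hK (i + 1) (by omega) h
      have e : m + 1 - ((i + 1 : ℕ) : ℤ) = m - (i : ℤ) := by push_cast; ring
      rw [e] at this
      exact this
    · haveI : (∐ fun _ : Fin b => OO (-m)).IsQuasicoherent :=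
        (Groth.Agent.Lib.Seat54.HHSigma.isCoh_sigma (fun _ : Fin b => OO (-m))
          (fun _ => Groth.Agent.Lib.Seat54.PnFinite.isCoh_twistProjSpace n R (-m))).1
      haveI : (kernel φ).IsQuasicoherent :=
        Groth.Agent.Lib.Helper23.QCohLocal.isQuasicoherent_kernel φ
      haveI : (OO (m - i)).IsQuasicoherent :=
        (Groth.Agent.Lib.Seat54.PnFinite.isCoh_twistProjSpace n R (m - i)).1
      haveI : Coh.IsQCoh (CohB1.tensorMod (kernel φ) (OO (m - i))) :=
        Groth.Agent.Lib.Helper23.TensorQCoh.isQuasicoherent_tensorMod _ _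
      exact Groth.Agent.Lib.Seat68.ProjVanish.HH_subsingleton n R (𝟙 (PP)) _ (i + 1) (by omega)
  exact Groth.Agent.Lib.Seat64.TwistSES.subsingleton_HH_right _ hS' i h₂ h₁

end main


section noeth

variable (n : ℕ) (R : Type u) [CommRing R] [IsNoetherianRing R]

local notation "PP" => CohB1.ProjSpace n R
local notation "OO" => Twist.twistProjSpace n R

/-- a `0`-regular coherent module on `P^n` is a quotient of a finite free module by a map which
is surjective on global sections -/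
theorem exists_epi_sigma_of_regular (G : (PP).Modules) (hGcoh : Coh.IsCoh G)
    (hG : ∀ (z t : ℕ), 1 ≤ t → t ≤ n → Subsingleton (Coh.HH (PP)
      (CohB1.tensorMod G (OO ((z : ℤ) - (t : ℤ)))) t)) :
    ∃ (b : ℕ) (ψ : (∐ fun _ : Fin b => Coh.structureModule (PP)) ⟶ G),
      Epi ψ ∧ Function.Surjective (ψ.app ⊤) := by
  haveI hq : G.IsQuasicoherent := hGcoh.1
  haveI hf : SheafOfModules.IsFiniteType (R := (PP).ringCatSheaf) G := hGcoh.2
  simp only [Groth.Agent.Lib.Seat54.PnVanish.twist_eq_tilde] at hG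
  have hloc := @locally_mem_Sp_of_P n R _ G hq hf
    (fun e => Groth.Agent.Lib.Seat64.CMMult.P_nat n R G hG e)
  haveI := Groth.Agent.Lib.Seat54.PnFinite.finite_HH n R G hGcoh 0
  obtain ⟨b, s, hs⟩ := span_top_of_finite_HH R G
  exact ⟨b, _, exists_epi_sigma G s hs hloc⟩

theorem surjective_app_of_iso {X : Scheme.{u}} {M N : X.Modules} (e : M ≅ N) (U : X.Opens) :
    Function.Surjective (e.hom.app U) := by
  intro y
  refine ⟨e.inv.app U y, ?_⟩
  have h1 : e.hom.app U (e.inv.app U y) = (e.inv ≫ e.hom).app U y := rfl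
  rw [h1, e.inv_hom_id]
  rfl

/-- if `F` is coherent and `m`-regular then there is an epimorphism `O(-m)^b → F` with
`(m+1)`-regular kernel -/
theorem exists_epi_kernel_regular (F : (PP).Modules) (hF : Coh.IsCoh F) (m : ℤ)
    (hreg : ∀ i : ℕ, 1 ≤ i → i ≤ n → Subsingleton (Coh.HH (PP)
      (CohB1.tensorMod F (OO (m - i))) i)) :
    ∃ (b : ℕ) (φ : (∐ fun _ : Fin b => OO (-m)) ⟶ F), Epi φ ∧
      ∀ i : ℕ, 1 ≤ i → i ≤ n → Subsingleton (Coh.HH (PP)
        (CohB1.tensorMod (kernel φ) (OO (m + 1 - i))) i) := by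
  haveI : F.IsQuasicoherent := hF.1
  haveI : SheafOfModules.IsFiniteType (R := (PP).ringCatSheaf) F := hF.2
  have hO := Groth.Agent.Lib.Seat54.PnFinite.isCoh_twistProjSpace n R m
  haveI : (OO m).IsQuasicoherent := hO.1
  haveI : SheafOfModules.IsFiniteType (R := (PP).ringCatSheaf) (OO m) := hO.2
  have hGcoh : Coh.IsCoh (CohB1.tensorMod F (OO m)) :=
    ⟨Groth.Agent.Lib.Helper23.TensorQCoh.isQuasicoherent_tensorMod F _,
      Groth.Agent.Lib.Helper23.TensorQCoh.isFiniteType_tensorMod F _⟩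
  have hall := Groth.Agent.Lib.Seat64.CMReg.regular_ge n R F m
    (Groth.Agent.Lib.Seat64.CMReg.regular_all_of_le n R F m hreg)
  have hG : ∀ (z t : ℕ), 1 ≤ t → t ≤ n → Subsingleton (Coh.HH (PP)
      (CohB1.tensorMod (CohB1.tensorMod F (OO m)) (OO ((z : ℤ) - (t : ℤ)))) t) := by
    intro z t ht1 _
    obtain ⟨e⟩ := nonempty_twist_twist n R F m ((z : ℤ) - (t : ℤ)) _ rfl
    exact Groth.Agent.Lib.Seat54.PnVanish.subsingleton_HH_of_iso e t
      (hall t _ ht1 (by omega))
  obtain ⟨b, ψ, hψepi, hψsurj⟩ := exists_epi_sigma_of_regular n R _ hGcoh hG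
  haveI := hψepi
  -- `H¹` of the kernel of `ψ` vanishes
  have hS' := kerSC_shortExact ψ
  have hH1K' : Subsingleton (Coh.HH (PP) (kernel ψ) 1) := by
    have hinj := injective_H1_of_surjective (kerSC ψ) hS' hψsurj
    have h0 : Subsingleton (Coh.HH (PP) (∐ fun _ : Fin b => Coh.structureModule (PP)) 1) :=
      Groth.Agent.Lib.Seat54.SerreVanish.subsingleton_HH_map_sigma R (𝟭 _)
        (fun _ : Fin b => Coh.structureModule (PP)) 1
        (fun j => Groth.Agent.Lib.Seat54.PnVanish.subsingleton_HH_structure n R 1 one_pos)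
    exact ⟨fun x y => hinj (h0.elim _ _)⟩
  -- twist by `O(-m)` and then by `O(m)`
  have hS1 := Groth.Agent.Lib.Seat54.TwistExact.shortExact_twist (kerSC ψ) hS' (OO (-m))
    (hinv n R _)
  have hS2 := Groth.Agent.Lib.Seat54.TwistExact.shortExact_twist
    ((kerSC ψ).map (Φ n R (OO (-m)))) hS1 (OO m) (hinv n R _)
  have hsurj2 : Function.Surjective
      ((((kerSC ψ).map (Φ n R (OO (-m)))).map (Φ n R (OO m))).g.app ⊤) := by
    apply surjective_of_injective_H1 _ hS2
    have hsub : Subsingleton (Coh.HH (PP)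
        (((kerSC ψ).map (Φ n R (OO (-m)))).map (Φ n R (OO m))).X₁ 1) := by
      obtain ⟨e⟩ := nonempty_twist_untwist n R (kernel ψ) (-m) m (by ring)
      exact Groth.Agent.Lib.Seat54.PnVanish.subsingleton_HH_of_iso e 1 hH1K'
    intro a b _
    exact hsub.elim a b
  -- the map `φ`
  obtain ⟨β⟩ := nonempty_twist_untwist n R F m (-m) (by ring)
  let α : (∐ fun _ : Fin b => OO (-m)) ≅
      (Φ n R (OO (-m))).obj (∐ fun _ : Fin b => Coh.structureModule (PP)) :=
    (Sigma.mapIso (fun _ : Fin b => (unitTwist n R (-m)).symm)) ≪≫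
      (PreservesCoproduct.iso (Φ n R (OO (-m)))
        (fun _ : Fin b => Coh.structureModule (PP))).symm
  let β' : (Φ n R (OO (-m))).obj (CohB1.tensorMod F (OO m)) ≅ F := β
  let φ : (∐ fun _ : Fin b => OO (-m)) ⟶ F := α.hom ≫ (Φ n R (OO (-m))).map ψ ≫ β'.hom
  haveI : Epi ((Φ n R (OO (-m))).map ψ) := hS1.epi_g
  haveI : Epi φ := epi_comp _ _
  refine ⟨b, φ, inferInstance, ?_⟩
  have hφsurj : Function.Surjective (((Φ n R (OO m)).map φ).app ⊤) := by
    have e1 : (Φ n R (OO m)).map φ = (Φ n R (OO m)).map α.hom ≫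
        (Φ n R (OO m)).map ((Φ n R (OO (-m))).map ψ) ≫ (Φ n R (OO m)).map β'.hom := by
      simp only [φ, Functor.map_comp]
    have hα := surjective_app_of_iso ((Φ n R (OO m)).mapIso α) ⊤
    have hβ := surjective_app_of_iso ((Φ n R (OO m)).mapIso β') ⊤
    intro y
    obtain ⟨y1, h1⟩ := hβ y
    obtain ⟨y2, h2⟩ := hsurj2 y1
    obtain ⟨y3, h3⟩ := hα y2
    refine ⟨y3, ?_⟩
    rw [e1]
    change ((Φ n R (OO m)).mapIso β').hom.app ⊤
      ((((kerSC ψ).map (Φ n R (OO (-m)))).map (Φ n R (OO m))).g.app ⊤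
        (((Φ n R (OO m)).mapIso α).hom.app ⊤ y3)) = y
    rw [h3, h2, h1]
  intro i hi1 hin
  have hS := kerSC_shortExact φ
  obtain ⟨i', rfl⟩ : ∃ i', i = i' + 1 := ⟨i - 1, by omega⟩
  rcases Nat.eq_zero_or_pos i' with rfl | hi'
  · have e : m + 1 - ((0 + 1 : ℕ) : ℤ) = m := by push_cast; ring
    rw [e]
    have hSt := Groth.Agent.Lib.Seat54.TwistExact.shortExact_twist (kerSC φ) hS (OO m)
      (hinv n R _)
    have hinj := injective_H1_of_surjective _ hSt hφsurj
    have h0 : Subsingleton (Coh.HH (PP)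
        (CohB1.tensorMod (∐ fun _ : Fin b => OO (-m)) (OO m)) 1) :=
      subsingleton_HH_sigma_twist n R b (-m) m 1 one_pos (Or.inr (by omega))
    exact ⟨fun x y => hinj (h0.elim _ _)⟩
  · have hSt := Groth.Agent.Lib.Seat54.TwistExact.shortExact_twist (kerSC φ) hS
      (OO (m + 1 - ((i' + 1 : ℕ) : ℤ))) (hinv n R _)
    have h₃ : Subsingleton (Coh.HH (PP)
        (CohB1.tensorMod F (OO (m + 1 - ((i' + 1 : ℕ) : ℤ)))) i') := by
      have := hreg i' hi' (by omega)
      have e : m + 1 - ((i' + 1 : ℕ) : ℤ) = m - (i' : ℤ) := by push_cast; ring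
      rw [e]
      exact this
    have h₂ : Subsingleton (Coh.HH (PP)
        (CohB1.tensorMod (∐ fun _ : Fin b => OO (-m)) (OO (m + 1 - ((i' + 1 : ℕ) : ℤ))))
        (i' + 1)) :=
      subsingleton_HH_sigma_twist n R b (-m) _ (i' + 1) (by omega)
        (Or.inr (by push_cast; omega))
    exact subsingleton_HH_left _ hSt i' h₃ h₂

end noeth

end Groth.Agent.Lib.Seat64.CMRes
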