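import Mathlib
import Groth.Agent.Lib.Seat64CMBound
import Groth.Agent.Lib.Seat64CMRes2

/-!
# Mumford's bound on `h¹` on `P^n_k` (seat 64)

`mumford_bound` : for `F` coherent on `P^n_k`, `ι : F(-1) ↪ F` with `m`-regular cokernel:
`H^i(F(j)) = 0` for `i ≥ 2`, `j ≥ m - i`; `h¹(F(j)) ≤ h¹(F(j-1))` for `j ≥ m - 1`;
`H¹(F(j)) = 0` for `j ≥ m - 1 + h¹(F(m-1))`.
-/

set_option autoImplicit false
set_option linter.style.haveILetI false
universe u
open CategoryTheory CategoryTheory.Limits AlgebraicGeometry Opposite TopologicalSpace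

namespace Groth.Agent.Lib.Seat64.CMBound

open Groth.Agent.Lib.Seat64.CMRes Groth.Agent.Lib.Seat54.TwistExact
  Groth.Agent.Lib.Seat64.H1Gamma

section concrete

variable (n : ℕ) (k : Type u) [Field k]

local notation "PP" => CohB1.ProjSpace n k
local notation "OO" => Twist.twistProjSpace n k

variable (F : (CohB1.ProjSpace n k).Modules)
  (ι : CohB1.tensorMod F (Twist.twistProjSpace n k (-1)) ⟶ F)

/-- `(F ⊗ O(-1)) ⊗ O(j') ≅ F ⊗ O(j)` for `j + 1 = j'` -/
noncomputable def e1 (j j' : ℤ) (h : j + 1 = j') :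
    CohB1.tensorMod (CohB1.tensorMod F (OO (-1))) (OO j') ≅ CohB1.tensorMod F (OO j) :=
  (nonempty_twist_twist n k F (-1) j' j (by omega)).some

/-- the map `F(j) → F(j+1)` induced by `ι` -/
noncomputable def fj (j j' : ℤ) (h : j + 1 = j') :
    CohB1.tensorMod F (OO j) ⟶ CohB1.tensorMod F (OO j') :=
  (e1 n k F j j' h).inv ≫ tw ι (OO j')

/-- the map `F(j) → G(j)` -/
noncomputable def gj (j : ℤ) :
    CohB1.tensorMod F (OO j) ⟶ CohB1.tensorMod (cokernel ι) (OO j) :=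
  tw (cokernel.π ι) (OO j)

theorem wj (j j' : ℤ) (h : j + 1 = j') : fj n k F ι j j' h ≫ gj n k F ι j' = 0 := by
  unfold fj gj
  rw [Category.assoc, ← tw_comp, cokernel.condition, tw_zero, comp_zero]

theorem hTj [Mono ι] (j j' : ℤ) (h : j + 1 = j') :
    (ShortComplex.mk (fj n k F ι j j' h) (gj n k F ι j') (wj n k F ι j j' h)).ShortExact := by
  have hS₀ : (ShortComplex.mk ι (cokernel.π ι) (cokernel.condition ι)).ShortExact :=
    { exact := ShortComplex.exact_cokernel ι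
      mono_f := inferInstanceAs (Mono ι)
      epi_g := inferInstanceAs (Epi (cokernel.π ι)) }
  have w' : tw ι (OO j') ≫ tw (cokernel.π ι) (OO j') = 0 := by
    rw [← tw_comp, cokernel.condition, tw_zero]
  have hS := shortExact_tw ι (cokernel.π ι) (cokernel.condition ι) hS₀ (OO j') (hinv n k _) w'
  let S₁ : ShortComplex (PP).Modules :=
    ShortComplex.mk (tw ι (OO j')) (tw (cokernel.π ι) (OO j')) w'
  let S₂ : ShortComplex (PP).Modules :=
    ShortComplex.mk (fj n k F ι j j' h) (gj n k F ι j') (wj n k F ι j j' h)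
  have c1 : (e1 n k F j j' h).hom ≫ S₂.f = S₁.f ≫ (Iso.refl S₁.X₂).hom := by
    change (e1 n k F j j' h).hom ≫ fj n k F ι j j' h = tw ι (OO j') ≫ 𝟙 _
    unfold fj
    rw [Iso.hom_inv_id_assoc, Category.comp_id]
  have c2 : (Iso.refl S₁.X₂).hom ≫ S₂.g = S₁.g ≫ (Iso.refl S₁.X₃).hom := by
    change 𝟙 _ ≫ gj n k F ι j' = tw (cokernel.π ι) (OO j') ≫ 𝟙 _
    unfold gj
    rw [Category.id_comp, Category.comp_id]
  have e : S₁ ≅ S₂ :=
    ShortComplex.isoMk (e1 n k F j j' h) (Iso.refl S₁.X₂) (Iso.refl S₁.X₃) c1 c2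
  exact ShortComplex.shortExact_of_iso e hS

theorem isCoh_twist (M : (PP).Modules) (hM : Coh.IsCoh M) (j : ℤ) :
    Coh.IsCoh (CohB1.tensorMod M (OO j)) := by
  haveI : M.IsQuasicoherent := hM.1
  haveI : SheafOfModules.IsFiniteType (R := (PP).ringCatSheaf) M := hM.2
  have hO := Groth.Agent.Lib.Seat54.PnFinite.isCoh_twistProjSpace n k j
  haveI : (OO j).IsQuasicoherent := hO.1
  haveI : SheafOfModules.IsFiniteType (R := (PP).ringCatSheaf) (OO j) := hO.2
  exact ⟨Groth.Agent.Lib.Helper23.TensorQCoh.isQuasicoherent_tensorMod M _,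
    Groth.Agent.Lib.Helper23.TensorQCoh.isFiniteType_tensorMod M _⟩

theorem surjective_gj_succ (m : ℤ)
    (H1 : ∀ (i : ℕ) (j : ℤ), 1 ≤ i → m - i ≤ j → Subsingleton (Coh.HH (PP)
      (CohB1.tensorMod (cokernel ι) (OO j)) i))
    (j : ℤ) (hj : m ≤ j) (h : Function.Surjective ((gj n k F ι j).app ⊤)) :
    Function.Surjective ((gj n k F ι (j + 1)).app ⊤) := by
  have hG' : ∀ t : ℕ, 1 ≤ t → t ≤ n → Subsingleton (Coh.HH (PP)
      (CohB1.tensorMod (cokernel ι) (OO (j - (t : ℤ)))) t) :=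
    fun t ht _ => H1 t (j - (t : ℤ)) ht (by omega)
  simp only [Groth.Agent.Lib.Seat54.PnVanish.twist_eq_tilde] at hG'
  have e1 : (j - (n : ℤ)) + (n : ℤ) = j := by ring
  have e2 : (j - (n : ℤ)) + ((n : ℤ) + 1) = j + 1 := by ring
  have h' : Function.Surjective ((tw (cokernel.π ι) (GrTilde.tilde (CohB1.polyGrading n k)
      (CohB1.polyGrading n k) ((j - (n : ℤ)) + (n : ℤ)))).app ⊤) := by
    rw [e1, ← Groth.Agent.Lib.Seat54.PnVanish.twist_eq_tilde n k j]
    exact h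
  have key := surjective_succ n k (cokernel.π ι) j hG' h'
  rw [e2, ← Groth.Agent.Lib.Seat54.PnVanish.twist_eq_tilde n k (j + 1)] at key
  exact key

/-- **Mumford's bound** -/
theorem mumford_bound (hF : Coh.IsCoh F) [Mono ι] (m : ℤ)
    (hG : ∀ i : ℕ, 1 ≤ i → i ≤ n → Subsingleton (Coh.HH (PP)
      (CohB1.tensorMod (cokernel ι) (OO (m - i))) i)) :
    (∀ (i : ℕ) (j : ℤ), 2 ≤ i → m - i ≤ j →
        Subsingleton (Coh.HH (PP) (CohB1.tensorMod F (OO j)) i)) ∧
    (∀ j : ℤ, m - 1 ≤ j →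
        Module.finrank k (Coh.HH (PP) (CohB1.tensorMod F (OO j)) 1) ≤
          Module.finrank k (Coh.HH (PP) (CohB1.tensorMod F (OO (j - 1))) 1)) ∧
    (∀ j : ℤ, m - 1 + (Module.finrank k (Coh.HH (PP) (CohB1.tensorMod F (OO (m - 1))) 1) : ℤ) ≤ j →
        Subsingleton (Coh.HH (PP) (CohB1.tensorMod F (OO j)) 1)) := by
  haveI : F.IsQuasicoherent := hF.1
  have hF1 := isCoh_twist n k F hF (-1)
  haveI : (CohB1.tensorMod F (OO (-1))).IsQuasicoherent := hF1.1
  haveI : (cokernel ι).IsQuasicoherent :=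
    Groth.Agent.Lib.Helper23.QCohLocal.isQuasicoherent_cokernel ι
  have H1 := Groth.Agent.Lib.Seat64.CMReg.regular_ge n k (cokernel ι) m
    (Groth.Agent.Lib.Seat64.CMReg.regular_all_of_le n k (cokernel ι) m hG)
  obtain ⟨m₀, H2⟩ := Groth.Agent.Lib.Seat54.SerreVanish.serre_vanishing n k F hF
  have H3 : ∀ j : ℤ, Module.Finite k (Coh.HH (PP) (CohB1.tensorMod F (OO j)) 1) :=
    fun j => Groth.Agent.Lib.Seat54.PnFinite.finite_HH n k _ (isCoh_twist n k F hF j) 1
  have H4 := surjective_gj_succ n k F ι m H1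
  refine ⟨fun i j hi hj => ?_, fun j hj => ?_, fun j hj => ?_⟩
  · exact vanish_ge2 (fun j => CohB1.tensorMod F (OO j))
      (fun j => CohB1.tensorMod (cokernel ι) (OO j)) (fj n k F ι) (gj n k F ι) (wj n k F ι)
      (hTj n k F ι) m H1 m₀ H2 i j hi hj
  · exact finrank_le k (fun j => CohB1.tensorMod F (OO j))
      (fun j => CohB1.tensorMod (cokernel ι) (OO j)) (fj n k F ι) (gj n k F ι) (wj n k F ι)
      (hTj n k F ι) m H1 H3 j hj
  · exact vanish_H1 k (fun j => CohB1.tensorMod F (OO j))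
      (fun j => CohB1.tensorMod (cokernel ι) (OO j)) (fj n k F ι) (gj n k F ι) (wj n k F ι)
      (hTj n k F ι) m H1 m₀ H2 H3 H4 j hj

end concrete

end Groth.Agent.Lib.Seat64.CMBound
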