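import Mathlib
import Groth.Prelude.Def_CohB1
import Groth.Agent.Lib.Helper27ProjClosed
import Groth.Agent.Lib.Helper27RelProj4
import Groth.Agent.Lib.Helper27PnChart

/-!
# Linear embeddings of projective spaces and closed immersions of coproducts (Seat64)

Namespace `Groth.Agent.Lib.Seat64.CoprodProj`.

* `isClosedImmersion_coprod_desc`: `coprod.desc j₁ j₂` is a closed immersion if `j₁`, `j₂` are closed immersions
  with disjoint ranges.
* `lin g`: the graded ring hom `k[T_0..T_N] → k[T_0..T_n]`, `T_c ↦ T_i` if `g c = some i` and `0` if `g c = none`;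
  `linMap g e` the induced closed immersion `P^n → P^N` (when `g (e i) = some i`), `linMap_toSpec`,
  `disjoint_range_linMap`.
-/

set_option autoImplicit false
universe u
open CategoryTheory CategoryTheory.Limits AlgebraicGeometry

namespace Groth.Agent.Lib.Seat64.CoprodProj

section Coprod

variable {X₁ X₂ P : Scheme.{u}}

theorem isClosedImmersion_coprod_desc (j₁ : X₁ ⟶ P) (j₂ : X₂ ⟶ P) [IsClosedImmersion j₁]
    [IsClosedImmersion j₂] (hdisj : Disjoint (Set.range j₁) (Set.range j₂)) :
    IsClosedImmersion (coprod.desc j₁ j₂) := by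
  rw [isClosedImmersion_iff]
  constructor
  · -- stalks
    refine IsZariskiLocalAtSource.of_openCover (P := @SurjectiveOnStalks)
      (coprodOpenCover.{u, 0} X₁ X₂) (fun i => ?_)
    rcases i with i | i
    · change SurjectiveOnStalks (coprod.inl ≫ coprod.desc j₁ j₂)
      rw [coprod.inl_desc]
      infer_instance
    · change SurjectiveOnStalks (coprod.inr ≫ coprod.desc j₁ j₂)
      rw [coprod.inr_desc]
      infer_instance
  · -- topology
    have hinj : Function.Injective (Sum.elim j₁ j₂) := by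
      rintro (a | a) (b | b) hab
      · simp only [Sum.elim_inl] at hab
        rw [j₁.isClosedEmbedding.injective hab]
      · simp only [Sum.elim_inl, Sum.elim_inr] at hab
        exact (Set.disjoint_left.1 hdisj ⟨a, rfl⟩ ⟨b, hab.symm⟩).elim
      · simp only [Sum.elim_inl, Sum.elim_inr] at hab
        exact (Set.disjoint_left.1 hdisj ⟨b, rfl⟩ ⟨a, hab⟩).elim
      · simp only [Sum.elim_inr] at hab
        rw [j₂.isClosedEmbedding.injective hab]
    have h1 := Topology.IsClosedEmbedding.sumElim j₁.isClosedEmbedding j₂.isClosedEmbedding hinj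
    have h2 : (coprod.desc j₁ j₂ : ↥(X₁ ⨿ X₂) → P) =
        Sum.elim j₁ j₂ ∘ (coprodMk X₁ X₂).symm := by
      funext x
      obtain ⟨y, rfl⟩ := (coprodMk X₁ X₂).surjective x
      rw [Function.comp_apply, Homeomorph.symm_apply_apply]
      rcases y with y | y
      · rw [coprodMk_inl, ← Scheme.Hom.comp_apply, coprod.inl_desc]; rfl
      · rw [coprodMk_inr, ← Scheme.Hom.comp_apply, coprod.inr_desc]; rfl
    rw [h2]
    exact h1.comp (coprodMk X₁ X₂).symm.isClosedEmbedding

end Coprod

section gradedHom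
variable {R A : Type u} [CommRing R] [CommRing A] [Algebra R A] {𝒜 : ℕ → Submodule R A}
  [GradedAlgebra 𝒜]
  {B : Type u} [CommRing B] [Algebra R B] {ℬ : ℕ → Submodule R B} [GradedAlgebra ℬ]
  (φ : 𝒜 →+*ᵍ ℬ)

/-- for a surjective graded ring hom the irrelevant ideal of the target is the image of the irrelevant
ideal (copied from `Helper13ProjQuotIdeal`) -/
theorem irrelevant_le_map (hsurj : Function.Surjective φ) :
    HomogeneousIdeal.irrelevant ℬ ≤ (HomogeneousIdeal.irrelevant 𝒜).map φ := by
  change (HomogeneousIdeal.irrelevant ℬ).toIdeal ≤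
    ((HomogeneousIdeal.irrelevant 𝒜).map φ).toIdeal
  rw [HomogeneousIdeal.toIdeal_map]
  intro b hb
  obtain ⟨a, rfl⟩ := hsurj b
  replace hb : φ a ∈ HomogeneousIdeal.irrelevant ℬ := hb
  rw [HomogeneousIdeal.mem_irrelevant_iff, GradedRing.proj_apply,
    ← Groth.Agent.Lib.Helper27ProjClosed.map_decompose 𝒜 ℬ φ a 0] at hb
  have h1 : φ a = φ (a - (DirectSum.decompose 𝒜 a 0 : A)) := by rw [map_sub, hb, sub_zero]
  rw [h1]
  apply Ideal.mem_map_of_mem
  change _ ∈ HomogeneousIdeal.irrelevant 𝒜
  rw [HomogeneousIdeal.mem_irrelevant_iff, GradedRing.proj_apply, DirectSum.decompose_sub,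
    DirectSum.sub_apply, Submodule.coe_sub, DirectSum.decompose_coe, DirectSum.of_eq_same,
    sub_self]

end gradedHom

section Lin

open MvPolynomial

variable (k : Type u) [CommRing k] {N n : ℕ}

/-- the images of the variables -/
noncomputable def linVar (g : Fin (N + 1) → Option (Fin (n + 1))) (c : Fin (N + 1)) :
    MvPolynomial (Fin (n + 1)) k :=
  match g c with
  | some i => X i
  | none => 0

theorem linVar_some (g : Fin (N + 1) → Option (Fin (n + 1))) (c : Fin (N + 1)) (i : Fin (n + 1))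
    (h : g c = some i) : linVar k g c = X i := by
  unfold linVar; rw [h]

theorem linVar_none (g : Fin (N + 1) → Option (Fin (n + 1))) (c : Fin (N + 1))
    (h : g c = none) : linVar k g c = 0 := by
  unfold linVar; rw [h]

theorem linVar_isHomogeneous (g : Fin (N + 1) → Option (Fin (n + 1))) (c : Fin (N + 1)) :
    (linVar k g c).IsHomogeneous 1 := by
  unfold linVar
  cases g c with
  | some i => exact isHomogeneous_X k i
  | none => exact isHomogeneous_zero _ _ _

/-- the graded ring hom `T_c ↦ T_{g c}` (or `0`) -/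
noncomputable def lin (g : Fin (N + 1) → Option (Fin (n + 1))) :
    CohB1.polyGrading N k →+*ᵍ CohB1.polyGrading n k where
  toRingHom := (aeval (linVar k g) : MvPolynomial (Fin (N + 1)) k →ₐ[k] MvPolynomial (Fin (n + 1)) k).toRingHom
  map_mem := by
    intro d x hx
    have hx' : x.IsHomogeneous d := hx
    have := hx'.aeval (linVar k g) (linVar_isHomogeneous k g)
    rw [one_mul] at this
    exact this

theorem lin_apply (g : Fin (N + 1) → Option (Fin (n + 1))) (x : MvPolynomial (Fin (N + 1)) k) :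
    lin k g x = aeval (linVar k g) x := rfl

theorem lin_X (g : Fin (N + 1) → Option (Fin (n + 1))) (c : Fin (N + 1)) :
    lin k g (X c) = linVar k g c := by
  rw [lin_apply, aeval_X]

theorem lin_surjective (g : Fin (N + 1) → Option (Fin (n + 1))) (e : Fin (n + 1) → Fin (N + 1))
    (he : ∀ i, g (e i) = some i) : Function.Surjective (lin k g) := by
  intro y
  have hr : (aeval (linVar k g) : MvPolynomial (Fin (N + 1)) k →ₐ[k] MvPolynomial (Fin (n + 1)) k).range = ⊤ := by
    rw [eq_top_iff, ← MvPolynomial.adjoin_range_X]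
    apply Algebra.adjoin_le
    rintro _ ⟨i, rfl⟩
    exact ⟨X (e i), by
      show aeval (linVar k g) (X (e i)) = X i
      rw [aeval_X, linVar_some k g _ i (he i)]⟩
  have hy : y ∈ (aeval (linVar k g) : MvPolynomial (Fin (N + 1)) k →ₐ[k] MvPolynomial (Fin (n + 1)) k).range := by
    rw [hr]; trivial
  obtain ⟨x, hx⟩ := hy
  exact ⟨x, hx⟩

/-- the linear embedding `P^n → P^N` -/
noncomputable def linMap (g : Fin (N + 1) → Option (Fin (n + 1))) (e : Fin (n + 1) → Fin (N + 1))
    (he : ∀ i, g (e i) = some i) : CohB1.ProjSpace n k ⟶ CohB1.ProjSpace N k :=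
  Proj.map (lin k g) (irrelevant_le_map (lin k g)
    (lin_surjective k g e he))

instance (g : Fin (N + 1) → Option (Fin (n + 1))) (e : Fin (n + 1) → Fin (N + 1))
    (he : ∀ i, g (e i) = some i) : IsClosedImmersion (linMap k g e he) :=
  Groth.Agent.Lib.Helper27ProjClosed.isClosedImmersion_map (lin k g) (lin_surjective k g e he) _

theorem linMap_toSpec (g : Fin (N + 1) → Option (Fin (n + 1))) (e : Fin (n + 1) → Fin (N + 1))
    (he : ∀ i, g (e i) = some i) :
    linMap k g e he ≫ CohB1.ProjSpace.toSpec N k = CohB1.ProjSpace.toSpec n k := by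
  unfold linMap CohB1.ProjSpace.toSpec
  refine Groth.Agent.Lib.Helper27RelProj4.map_toSpecZero (lin k g) _
    (algebraMap k (CohB1.polyGrading N k 0)) (algebraMap k (CohB1.polyGrading n k 0)) ?_
  intro r
  change lin k g (algebraMap k (MvPolynomial (Fin (N + 1)) k) r) =
    algebraMap k (MvPolynomial (Fin (n + 1)) k) r
  rw [lin_apply, AlgHom.commutes]

theorem linMap_notMem_basicOpen (g : Fin (N + 1) → Option (Fin (n + 1))) (e : Fin (n + 1) → Fin (N + 1))
    (he : ∀ i, g (e i) = some i) (c : Fin (N + 1)) (hc : g c = none) (x : CohB1.ProjSpace n k) :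
    linMap k g e he x ∉ Proj.basicOpen (CohB1.polyGrading N k) (X c) := by
  intro hx
  have h1 : x ∈ (linMap k g e he) ⁻¹ᵁ Proj.basicOpen (CohB1.polyGrading N k) (X c) := hx
  have h2 : x ∈ Proj.basicOpen (CohB1.polyGrading n k) (lin k g (X c)) := h1
  rw [lin_X, linVar_none k g c hc, Proj.basicOpen_zero] at h2
  exact h2

theorem disjoint_range_linMap {n₁ n₂ : ℕ} (g₁ : Fin (N + 1) → Option (Fin (n₁ + 1)))
    (e₁ : Fin (n₁ + 1) → Fin (N + 1)) (he₁ : ∀ i, g₁ (e₁ i) = some i)
    (g₂ : Fin (N + 1) → Option (Fin (n₂ + 1)))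
    (e₂ : Fin (n₂ + 1) → Fin (N + 1)) (he₂ : ∀ i, g₂ (e₂ i) = some i)
    (h : ∀ c, g₁ c = none ∨ g₂ c = none) :
    Disjoint (Set.range (linMap k g₁ e₁ he₁)) (Set.range (linMap k g₂ e₂ he₂)) := by
  rw [Set.disjoint_left]
  rintro y ⟨x₁, rfl⟩ ⟨x₂, hx₂⟩
  have hy : (show Proj (CohB1.polyGrading N k) from linMap k g₁ e₁ he₁ x₁) ∈
      (⨆ i : Fin (N + 1), Proj.basicOpen (CohB1.polyGrading N k) (X i)) := by
    rw [Groth.Agent.Lib.Helper27PnChart.iSup_basicOpen_X N k]; trivial
  obtain ⟨c, hc⟩ := TopologicalSpace.Opens.mem_iSup.1 hy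
  rcases h c with h | h
  · exact linMap_notMem_basicOpen k g₁ e₁ he₁ c h x₁ hc
  · rw [← hx₂] at hc
    exact linMap_notMem_basicOpen k g₂ e₂ he₂ c h x₂ hc

end Lin

end Groth.Agent.Lib.Seat64.CoprodProj
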