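import Mathlib
import Groth.Prelude.Def_FlatCA
import Groth.Prelude.Def_CurvBase
import Groth.Agent.Lib.Helper2ModExact

/-!
# Weakly associated points of a quasi-coherent module versus weakly associated primes of sections

`isWeakAssPoint_iff hU F x hxU` : for `F` quasi-coherent, `U` affine open, `x ∈ U`:
`Curv2.IsWeakAssPoint F x ↔ (hU.primeIdealOf ⟨x, hxU⟩).asIdeal ∈ FlatCA.weakAss Γ(X, U) Γ(F, U)`.
-/

set_option autoImplicit false
universe u
open CategoryTheory Limits AlgebraicGeometry TopologicalSpace Opposite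

namespace Groth.Agent.Lib.Seat64.WeakAssPt

open Groth.Agent.Lib.Helper2.QCoh Groth.Agent.Lib.Helper2.Ass Groth.Agent.Lib.Helper2.Push
  Groth.Agent.Lib.Helper2.ModExact

variable {X : Scheme.{u}} {U : X.Opens} (hU : IsAffineOpen U)

theorem ann_eq (F : X.Modules) (m : Γ(F, U)) :
    ann F m = (Submodule.span Γ(X, U) {m}).annihilator := by
  ext a
  rw [mem_ann, Submodule.mem_annihilator_span_singleton]

include hU in
theorem isWeakAssPoint_iff (F : X.Modules) [F.IsQuasicoherent] (x : X) (hxU : x ∈ U) :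
    Curv2.IsWeakAssPoint F x ↔
      (hU.primeIdealOf ⟨x, hxU⟩).asIdeal ∈ FlatCA.weakAss Γ(X, U) Γ(F, U) := by
  constructor
  · intro hx
    obtain ⟨m, hm0, hpow⟩ :=
      exists_section_of_isWeakAssPoint hU (IsLocOn.of_isQuasicoherent hU F) x hxU hx
    refine ⟨m, ?_⟩
    rw [← ann_eq]
    refine ⟨⟨(hU.primeIdealOf ⟨x, hxU⟩).2, ?_⟩, ?_⟩
    · intro a ha
      by_contra hap
      have hau : IsUnit (X.presheaf.germ U x hxU a) := by
        rw [← Scheme.mem_basicOpen,
          Groth.Agent.Lib.Helper2.mem_basicOpen_iff_notMem_primeIdealOf hU x hxU]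
        exact hap
      rw [mem_ann] at ha
      have h1 := congrArg (F.presheaf.germ U x hxU) ha
      rw [map_zero, germ_smul] at h1
      exact hm0 (germ_smul_eq_zero_of_isUnit hau h1)
    · rintro q ⟨hq, hqann⟩ hqp b hb
      obtain ⟨k, hk⟩ := hpow b hb
      have h2 : F.presheaf.germ U x hxU (b ^ k • m) = 0 := by
        rw [germ_smul, map_pow]
        exact hk
      obtain ⟨t, hxt, ht⟩ := exists_smul_eq_zero_of_germ_eq_zero hU F x hxU _ h2
      rw [Groth.Agent.Lib.Helper2.mem_basicOpen_iff_notMem_primeIdealOf hU x hxU] at hxt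
      have h3 : t * b ^ k ∈ q := hqann (mem_ann.2 (by rw [mul_smul]; exact ht))
      rcases hq.mem_or_mem h3 with h | h
      · exact absurd (hqp h) hxt
      · exact hq.mem_of_pow_mem k h
  · rintro ⟨m, hm⟩
    rw [← ann_eq] at hm
    have h1 := isWeakAssPoint_fromSpec_of_minimalPrimes hU F m (hU.primeIdealOf ⟨x, hxU⟩) hm
    rwa [hU.fromSpec_primeIdealOf ⟨x, hxU⟩] at h1

end Groth.Agent.Lib.Seat64.WeakAssPt
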