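import Mathlib
import Groth.Prelude.Def_RefHull
import Groth.Prelude.Def_CurvBase
import Groth.Agent.Lib.Seat64WeakAssPt
import Groth.Agent.Lib.Seat75HomCoh
import Groth.Agent.Lib.Seat75DualFrame
import Groth.Agent.Lib.Helper18FinFlat1
import Groth.Agent.Lib.Helper20OmegaAff

/-!
# The dual of a coherent module on a reduced locally Noetherian scheme has no closed non-isolated
weakly associated points

* `exists_mem_nonZeroDivisors` : reduced Noetherian ring, prime `p` not minimal: some `t ∈ p` is a
  non-zero-divisor.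
* `not_mem_minimalPrimes_of_closed` : `x` closed and `{x}` not open: the prime of `x` in an affine
  open is not minimal.
* `not_isWeakAssPoint_dual`.
-/

set_option autoImplicit false
set_option linter.style.haveILetI false
universe u
open CategoryTheory Limits AlgebraicGeometry TopologicalSpace

namespace Groth.Agent.Lib.Seat64.DualTF

section alg
variable {A : Type u} [CommRing A]

theorem mem_nonZeroDivisors_of_notMem_minimalPrimes [IsReduced A] (t : A)
    (ht : ∀ q ∈ minimalPrimes A, t ∉ q) : t ∈ nonZeroDivisors A := by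
  have key : ∀ a : A, a * t = 0 → a = 0 := by
    intro a ha
    have h1 : a ∈ sInf (minimalPrimes A) := by
      rw [Submodule.mem_sInf]
      intro q hq
      have hqp : Ideal.IsPrime q := hq.1.1
      have h2 : a * t ∈ q := by rw [ha]; exact q.zero_mem
      rcases hqp.mem_or_mem h2 with h | h
      · exact h
      · exact absurd h (ht q hq)
    have h3 : sInf (minimalPrimes A) = (⊥ : Ideal A).radical := Ideal.sInf_minimalPrimes
    rw [h3] at h1
    have h4 : (⊥ : Ideal A).radical = ⊥ := by
      have := nilradical_eq_zero A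
      exact this
    rw [h4] at h1
    exact h1
  rw [mem_nonZeroDivisors_iff]
  refine ⟨fun a ha => key a (by rw [mul_comm]; exact ha), fun a ha => key a ha⟩

theorem exists_mem_nonZeroDivisors [IsReduced A] [IsNoetherianRing A] (p : Ideal A) [hp : p.IsPrime]
    (hnm : p ∉ minimalPrimes A) : ∃ t ∈ p, t ∈ nonZeroDivisors A := by
  classical
  have hfin : (minimalPrimes A).Finite := minimalPrimes.finite_of_isNoetherianRing A
  by_contra hcon
  push Not at hcon
  have hsub : (p : Set A) ⊆ ⋃ q ∈ (↑hfin.toFinset : Set (Ideal A)), (q : Set A) := by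
    intro t htp
    by_contra hnot
    apply hcon t htp
    apply mem_nonZeroDivisors_of_notMem_minimalPrimes
    intro q hq htq
    apply hnot
    simp only [Set.mem_iUnion]
    exact ⟨q, by simpa using hq, htq⟩
  have h2 := (Ideal.subset_union_prime (R := A) (s := hfin.toFinset) (f := fun q => q) ⊥ ⊥
    (fun q hq _ _ => ((Set.Finite.mem_toFinset hfin).1 hq).1.1) (I := p)).1 hsub
  obtain ⟨q, hq, hpq⟩ := h2
  have hq' : q ∈ minimalPrimes A := (Set.Finite.mem_toFinset hfin).1 hq
  have : q ≤ p := hq'.2 ⟨hp, bot_le⟩ hpq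
  exact hnm (le_antisymm hpq this ▸ hq')

end alg

section geom
variable {X : Scheme.{u}} {U : X.Opens} (hU : IsAffineOpen U)

include hU in
theorem notMem_minimalPrimes_of_closed [IsNoetherianRing Γ(X, U)] (x : X) (hxU : x ∈ U)
    (hx : IsClosed ({x} : Set X)) (hno : ¬ IsOpen ({x} : Set X)) :
    (hU.primeIdealOf ⟨x, hxU⟩).asIdeal ∉ minimalPrimes Γ(X, U) := by
  intro hmin
  apply hno
  set P := hU.primeIdealOf ⟨x, hxU⟩ with hP
  have hPx : hU.fromSpec P = x := hU.fromSpec_primeIdealOf ⟨x, hxU⟩
  have hcl : IsClosed ({P} : Set (PrimeSpectrum Γ(X, U))) := by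
    have h1 : ({P} : Set (PrimeSpectrum Γ(X, U))) = hU.fromSpec ⁻¹' {x} := by
      ext Q
      simp only [Set.mem_singleton_iff]
      constructor
      · rintro rfl
        exact hPx
      · intro h
        exact hU.fromSpec.isOpenEmbedding.injective (h.trans hPx.symm)
    rw [h1]
    exact hx.preimage hU.fromSpec.continuous
  have hmax : P.asIdeal.IsMaximal := (PrimeSpectrum.isClosed_singleton_iff_isMaximal P).1 hcl
  have hop : IsOpen ({P} : Set (PrimeSpectrum Γ(X, U))) := by
    have hfin : (minimalPrimes Γ(X, U)).Finite := minimalPrimes.finite_of_isNoetherianRing _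
    have hZ : IsClosed (⋃ q ∈ (minimalPrimes Γ(X, U) \ {P.asIdeal}),
        PrimeSpectrum.zeroLocus (q : Set Γ(X, U))) :=
      (hfin.subset Set.sdiff_subset).isClosed_biUnion
        (fun q _ => PrimeSpectrum.isClosed_zeroLocus _)
    have h2 : ({P} : Set (PrimeSpectrum Γ(X, U))) = (⋃ q ∈ (minimalPrimes Γ(X, U) \ {P.asIdeal}),
        PrimeSpectrum.zeroLocus (q : Set Γ(X, U)))ᶜ := by
      ext Q
      rw [Set.mem_singleton_iff, Set.mem_compl_iff]
      constructor
      · rintro rfl hmem
        simp only [Set.mem_iUnion] at hmem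
        obtain ⟨q, ⟨hq, hqP⟩, hle⟩ := hmem
        have hle' : q ≤ P.asIdeal := (PrimeSpectrum.mem_zeroLocus _ _).1 hle
        exact hqP (le_antisymm hle' (hmin.2 ⟨hq.1.1, bot_le⟩ hle'))
      · intro h
        by_contra hne
        obtain ⟨q, hq, hqQ⟩ := Ideal.exists_minimalPrimes_le (J := Q.asIdeal) bot_le
        by_cases hqP : q = P.asIdeal
        · rw [hqP] at hqQ
          exact hne (PrimeSpectrum.ext (hmax.eq_of_le Q.2.ne_top hqQ).symm)
        · apply h
          simp only [Set.mem_iUnion]
          exact ⟨q, ⟨hq, hqP⟩, (PrimeSpectrum.mem_zeroLocus _ _).2 hqQ⟩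
    rw [h2]
    exact hZ.isOpen_compl
  have h3 := hU.fromSpec.isOpenEmbedding.isOpenMap _ hop
  have h4 : (⇑hU.fromSpec '' {P} : Set X) = {x} := by
    ext z
    simp only [Set.mem_image, Set.mem_singleton_iff]
    constructor
    · rintro ⟨Q, rfl, rfl⟩
      exact hPx
    · rintro rfl
      exact ⟨P, rfl, hPx⟩
  exact (congrArg IsOpen h4).mp h3

end geom

section main
open Groth.Agent.Lib.Seat64.WeakAssPt Groth.Agent.Lib.Seat75.HomCoh Groth.Agent.Lib.Seat75.DualFrame
  Groth.Agent.Lib.Helper2.QCoh Groth.Agent.Lib.Helper2.Ass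

variable {X : Scheme.{u}}

theorem isCoh_structureModule (X : Scheme.{u}) : Coh.IsCoh (Coh.structureModule X) := by
  haveI : SheafOfModules.IsFinitePresentation (R := X.ringCatSheaf) (Coh.structureModule X) :=
    Groth.Agent.Helper18FinFlat.isFinitePresentation_structureModule X
  exact ⟨Groth.Agent.Lib.Helper20.OmegaAff.isQuasicoherent_structureModule, inferInstance⟩

/-- a scalar which is a non-zero-divisor in the local ring acts injectively on the stalk of the
structure module. -/
theorem eq_zero_of_smul_eq_zero (y : X) (c : X.presheaf.stalk y)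
    (hc : c ∈ nonZeroDivisors (X.presheaf.stalk y))
    (w : (Coh.structureModule X).presheaf.stalk y) (h : c • w = 0) : w = 0 := by
  obtain ⟨a, rfl⟩ := (bijective_smul_oneGerm y).2 w
  have h1 : (c * a) • oneGerm y = (0 : X.presheaf.stalk y) • oneGerm y := by
    rw [mul_smul, zero_smul]
    exact h
  have h2 : c * a = 0 := (bijective_smul_oneGerm y).1 h1
  have h3 : a = 0 := (mem_nonZeroDivisors_iff.1 hc).1 a h2
  show a • oneGerm y = 0
  rw [h3, zero_smul]

theorem not_isWeakAssPoint_dual [IsLocallyNoetherian X] [AlgebraicGeometry.IsReduced X]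
    (F : X.Modules) (hF : Coh.IsCoh F) (x : X) (hx : IsClosed ({x} : Set X))
    (hno : ¬ IsOpen ({x} : Set X)) : ¬ Curv2.IsWeakAssPoint (RefHull.dual F) x := by
  intro hw
  obtain ⟨U, hU, hxU, -⟩ := exists_isAffineOpen_mem_and_subset (x := x) (U := ⊤) trivial
  haveI : (RefHull.dual F).IsQuasicoherent :=
    (isCoh_homSh F (Coh.structureModule X) hF (isCoh_structureModule X)).1
  haveI : IsNoetherianRing Γ(X, U) := IsLocallyNoetherian.component_noetherian ⟨U, hU⟩
  obtain ⟨m, hm⟩ := (isWeakAssPoint_iff hU (RefHull.dual F) x hxU).1 hw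
  haveI : (hU.primeIdealOf ⟨x, hxU⟩).asIdeal.IsPrime := (hU.primeIdealOf ⟨x, hxU⟩).2
  obtain ⟨t, htp, htn⟩ := exists_mem_nonZeroDivisors (hU.primeIdealOf ⟨x, hxU⟩).asIdeal
    (notMem_minimalPrimes_of_closed hU x hxU hx hno)
  obtain ⟨s, k, hs, hsk⟩ := exists_mul_pow_mem_of_mem_minimalPrimes hm htp
  have h2 : (s * t ^ k) • m = 0 := (Submodule.mem_annihilator_span_singleton m _).1 hsk
  have h3 : s • m = 0 := by
    apply Subtype.ext
    funext y
    change (s • m).1 y = 0
    apply LinearMap.ext
    intro v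
    have h4 : (t ^ k • (s • m)).1 y = 0 := by
      rw [← mul_smul, mul_comm, h2]
      rfl
    have h5 : X.presheaf.germ U y.1 y.2 (t ^ k) • ((s • m).1 y v) = 0 := by
      have h6 := congrArg (fun φ => φ v) h4
      exact h6
    rw [LinearMap.zero_apply]
    refine eq_zero_of_smul_eq_zero y.1 _ ?_ _ h5
    letI : Algebra Γ(X, U) (X.presheaf.stalk y.1) :=
      TopCat.Presheaf.algebra_section_stalk X.presheaf y
    haveI : IsLocalization.AtPrime (X.presheaf.stalk y.1) (hU.primeIdealOf y).asIdeal :=
      hU.isLocalization_stalk y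
    exact IsLocalization.map_nonZeroDivisors_le (hU.primeIdealOf y).asIdeal.primeCompl
      (X.presheaf.stalk y.1) ⟨t ^ k, pow_mem htn k, rfl⟩
  exact hs (hm.1.2 ((Submodule.mem_annihilator_span_singleton m s).2 h3))

end main

end Groth.Agent.Lib.Seat64.DualTF
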