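import Mathlib
import Groth.Agent.S1987

/-!
# Ramified extensions of discrete valuation rings (seat 64)

`exists_ramified_ext`: for a DVR `R` with uniformizer `π` and `N ≥ 1` there is a finite injective
extension of DVRs `R → R'` and a uniformizer `T` of `R'` with `π = T ^ N` (namely
`R' = R[X]/(X^N - π)`).
-/

set_option autoImplicit false
universe v
open Polynomial

namespace Groth.Agent.Lib.Seat64.DvrExt

open Groth.Agent.S1987.Aux.ER in
theorem exists_ramified_ext (R : Type v) [CommRing R] [IsDomain R] [IsDiscreteValuationRing R]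
    (π : R) (hπ : Irreducible π) (n : ℕ) (hn : 1 ≤ n) :
    ∃ (R' : Type v) (_ : CommRing R') (_ : IsDomain R') (_ : IsDiscreteValuationRing R')
      (_ : Algebra R R') (_ : Module.Finite R R') (T : R'),
      Function.Injective (algebraMap R R') ∧ Irreducible T ∧ algebraMap R R' π = T ^ n := by
  have hn0 : 0 < n := by omega
  have hmonic : (X ^ n - C π : R[X]).Monic := monic_X_pow_sub_C π hn0.ne'
  have hdeg : (X ^ n - C π : R[X]).degree = n := degree_X_pow_sub_C hn0 π
  have hπp : Prime π := hπ.prime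
  have hprime : (Ideal.span {π}).IsPrime := (Ideal.span_singleton_prime hπ.ne_zero).mpr hπp
  have hirr : Irreducible (X ^ n - C π : R[X]) := by
    apply irreducible_of_eisenstein_criterion hprime
    · rw [hmonic.leadingCoeff]
      exact (Ideal.ne_top_iff_one _).mp hprime.ne_top
    · intro k hk
      rw [hdeg] at hk
      have hk' : k < n := by exact_mod_cast hk
      rw [coeff_sub, coeff_X_pow, if_neg hk'.ne, coeff_C, zero_sub]
      split_ifs
      · exact (Ideal.neg_mem_iff _).mpr (Ideal.mem_span_singleton_self π)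
      · rw [neg_zero]; exact Ideal.zero_mem _
    · rw [hdeg]; exact_mod_cast hn0
    · rw [coeff_sub, coeff_X_pow, if_neg hn0.ne, coeff_C, if_pos rfl, zero_sub,
        Ideal.span_singleton_pow, Ideal.neg_mem_iff, Ideal.mem_span_singleton]
      rintro ⟨c, hc⟩
      have h1 : π * (1 - π * c) = 0 := by linear_combination hc
      rcases mul_eq_zero.mp h1 with h | h
      · exact hπ.ne_zero h
      · exact hπ.not_isUnit (IsUnit.of_mul_eq_one c (by linear_combination -h))
    · exact hmonic.isPrimitive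
  have hprimef : Prime (X ^ n - C π : R[X]) := hirr.prime
  have hdom : IsDomain (AdjoinRoot (X ^ n - C π : R[X])) := AdjoinRoot.isDomain_of_prime hprimef
  have hfin : Module.Finite R (AdjoinRoot (X ^ n - C π : R[X])) := hmonic.finite_adjoinRoot
  have hinj : Function.Injective (algebraMap R (AdjoinRoot (X ^ n - C π : R[X]))) := by
    rw [AdjoinRoot.algebraMap_eq]
    apply AdjoinRoot.of.injective_of_degree_ne_zero
    rw [hdeg]; exact_mod_cast hn0.ne'
  set ϖ : AdjoinRoot (X ^ n - C π : R[X]) := AdjoinRoot.root _ with hϖdef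
  have hϖ : ϖ ^ n = algebraMap R (AdjoinRoot (X ^ n - C π : R[X])) π := by
    have := AdjoinRoot.eval₂_root (X ^ n - C π : R[X])
    rw [eval₂_sub, eval₂_X_pow, eval₂_C, sub_eq_zero] at this
    rw [AdjoinRoot.algebraMap_eq]; exact this
  have hgen : ∀ x : AdjoinRoot (X ^ n - C π : R[X]), ∃ p : R[X], x = aeval ϖ p := by
    intro x
    obtain ⟨p, rfl⟩ := AdjoinRoot.mk_surjective x
    exact ⟨p, (AdjoinRoot.aeval_eq p).symm⟩
  have hdec : ∀ x : AdjoinRoot (X ^ n - C π : R[X]),
      ∃ (a : R) (y : AdjoinRoot (X ^ n - C π : R[X])), x = algebraMap R _ a + ϖ * y := by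
    intro x
    obtain ⟨p, rfl⟩ := hgen x
    refine ⟨p.coeff 0, aeval ϖ p.divX, ?_⟩
    conv_lhs => rw [← divX_mul_X_add p]
    rw [map_add, map_mul, aeval_X, aeval_C, add_comm, mul_comm]
  have hdvr : IsDiscreteValuationRing (AdjoinRoot (X ^ n - C π : R[X])) :=
    isDVR hinj hπ hn0 ϖ hϖ hdec
  have hmax := maximalIdeal_eq hπ hn0 ϖ hϖ hdec
  refine ⟨AdjoinRoot (X ^ n - C π : R[X]), inferInstance, hdom, hdvr, inferInstance, hfin, ϖ,
    hinj, ?_, hϖ.symm⟩
  exact (IsDiscreteValuationRing.irreducible_iff_uniformizer ϖ).mpr hmax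

end Groth.Agent.Lib.Seat64.DvrExt
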