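import Mathlib
import Groth.Agent.Lib.Helper5FiberBC

/-!
# Dimension of fibre local rings under base change (helper64)
-/

set_option autoImplicit false
set_option linter.style.haveILetI false
universe u

namespace Groth.Agent.Lib.Seat64.FibCodim
open AlgebraicGeometry CategoryTheory Limits IsLocalRing TensorProduct

section Ring

variable (k T k' : Type u) [Field k] [CommRing T] [IsLocalRing T] [Field k'] [Algebra k T]
  [Algebra k k'] (𝔮 : Ideal (T ⊗[k] k')) [𝔮.IsPrime]

theorem map_maximalIdeal_ne_top :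
    (maximalIdeal T).map (algebraMap T (T ⊗[k] k')) ≠ ⊤ := by
  intro h
  have h1 := Ideal.comap_map_eq_self_of_faithfullyFlat (A := T) (B := T ⊗[k] k') (maximalIdeal T)
  rw [h, Ideal.comap_top] at h1
  exact (maximalIdeal.isMaximal T).ne_top h1.symm

theorem exists_minimal_over :
    ∃ 𝔮 : Ideal (T ⊗[k] k'), 𝔮 ∈ ((maximalIdeal T).map (algebraMap T (T ⊗[k] k'))).minimalPrimes ∧
      𝔮.comap (algebraMap T (T ⊗[k] k')) = maximalIdeal T := by
  obtain ⟨M, hM, hle⟩ := Ideal.exists_le_maximal _ (map_maximalIdeal_ne_top k T k')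
  obtain ⟨𝔮, h𝔮, -⟩ := Ideal.exists_minimalPrimes_le hle
  refine ⟨𝔮, h𝔮, ?_⟩
  haveI := h𝔮.1.1
  have h1 : maximalIdeal T ≤ 𝔮.comap (algebraMap T (T ⊗[k] k')) :=
    Ideal.map_le_iff_le_comap.mp h𝔮.1.2
  exact ((maximalIdeal.isMaximal T).eq_of_le (Ideal.IsPrime.ne_top inferInstance) h1).symm

variable {k T k'}

theorem ring_dim (h𝔮 : 𝔮.comap (algebraMap T (T ⊗[k] k')) = maximalIdeal T)
    [IsNoetherianRing T] [IsNoetherianRing (Localization.AtPrime 𝔮)] :
    ringKrullDim T ≤ ringKrullDim (Localization.AtPrime 𝔮) ∧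
      (𝔮 ∈ ((maximalIdeal T).map (algebraMap T (T ⊗[k] k'))).minimalPrimes →
        ringKrullDim (Localization.AtPrime 𝔮) = ringKrullDim T) := by
  set B := Localization.AtPrime 𝔮 with hB
  haveI : Module.Flat T B := Module.Flat.trans T (T ⊗[k] k') B
  have hcomap : (maximalIdeal B).comap (algebraMap (T ⊗[k] k') B) = 𝔮 :=
    IsLocalization.AtPrime.under_maximalIdeal B 𝔮
  haveI hlo : (maximalIdeal B).LiesOver (maximalIdeal T) := by
    constructor
    rw [Ideal.under_def, IsScalarTower.algebraMap_eq T (T ⊗[k] k') B, ← Ideal.comap_comap,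
      hcomap, h𝔮]
  have hht := Ideal.height_eq_height_add_of_liesOver_of_hasGoingDown (maximalIdeal T)
    (maximalIdeal B)
  have e1 : ((maximalIdeal B).height : WithBot ℕ∞) = ringKrullDim B :=
    maximalIdeal_height_eq_ringKrullDim
  have e2 : ((maximalIdeal T).height : WithBot ℕ∞) = ringKrullDim T :=
    maximalIdeal_height_eq_ringKrullDim
  constructor
  · rw [← e1, ← e2, hht]
    exact_mod_cast le_self_add
  · intro hmin
    rw [← e1, ← e2, hht]
    suffices h0 : ((maximalIdeal B).map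
        (Ideal.Quotient.mk ((maximalIdeal T).map (algebraMap T B)))).height = 0 by
      rw [h0, add_zero]
    have hker : (maximalIdeal T).map (algebraMap T B) ≤ maximalIdeal B :=
      Ideal.map_le_iff_le_comap.mpr hlo.over.le
    haveI hprime : ((maximalIdeal B).map
        (Ideal.Quotient.mk ((maximalIdeal T).map (algebraMap T B)))).IsPrime :=
      Ideal.map_isPrime_of_surjective Ideal.Quotient.mk_surjective (by rwa [Ideal.mk_ker])
    rw [Ideal.height_eq_zero_iff]
    refine ⟨⟨hprime, bot_le⟩, ?_⟩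
    rintro Qb ⟨hQb, -⟩ hle
    -- pull back `Qb` to `B` and then to `T ⊗ k'`
    set Q := Qb.comap (Ideal.Quotient.mk ((maximalIdeal T).map (algebraMap T B))) with hQ
    haveI : Q.IsPrime := Ideal.comap_isPrime _ _
    have hQP : Q ≤ maximalIdeal B := le_maximalIdeal (Ideal.IsPrime.ne_top inferInstance)
    have hmQ : (maximalIdeal T).map (algebraMap T B) ≤ Q := by
      intro x hx
      rw [hQ, Ideal.mem_comap, Ideal.Quotient.eq_zero_iff_mem.mpr hx]
      exact Qb.zero_mem
    set 𝔮₀ := Q.comap (algebraMap (T ⊗[k] k') B) with h𝔮₀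
    haveI : 𝔮₀.IsPrime := Ideal.comap_isPrime _ _
    have h1 : 𝔮₀ ≤ 𝔮 := by
      rw [← hcomap]; exact Ideal.comap_mono hQP
    have h2 : (maximalIdeal T).map (algebraMap T (T ⊗[k] k')) ≤ 𝔮₀ := by
      rw [h𝔮₀, ← Ideal.map_le_iff_le_comap, Ideal.map_map,
        ← IsScalarTower.algebraMap_eq T (T ⊗[k] k') B]
      exact hmQ
    have h3 : 𝔮 ≤ 𝔮₀ := hmin.2 ⟨inferInstance, h2⟩ h1
    have h4 : maximalIdeal B ≤ Q := by
      have hmap : (maximalIdeal B) = 𝔮.map (algebraMap (T ⊗[k] k') B) :=
        (IsLocalization.AtPrime.map_eq_maximalIdeal 𝔮 B).symm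
      rw [hmap]
      refine (Ideal.map_mono h3).trans ?_
      rw [h𝔮₀]; exact Ideal.map_comap_le
    calc (maximalIdeal B).map (Ideal.Quotient.mk _) ≤ Q.map (Ideal.Quotient.mk _) :=
          Ideal.map_mono h4
      _ ≤ Qb := by rw [hQ]; exact Ideal.map_comap_le

end Ring

section Sch

open Groth.Agent.Lib.Helper5.FiberStalk Groth.Agent.Lib.Helper5.FiberRing
  Groth.Agent.Lib.Helper5.FiberMor Groth.Agent.Lib.Helper5.FlatPreimm
  Groth.Agent.Lib.Helper5 Groth.Agent.Lib.Helper5.FiberBC

variable {X Y X' Y' : Scheme.{u}} {f : X ⟶ Y} {g : Y' ⟶ Y} {f' : X' ⟶ Y'} {g' : X' ⟶ X}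

/-- In a cartesian square, the local ring of the fibre of `f'` at `x'` has dimension at least
that of the local ring of the fibre of `f` at `g' x'`, and some point `x''` over `g' x'` realises
equality. -/
theorem fiber_dim (hsq : IsPullback g' f' f g) (x' : X')
    [hN : IsNoetherianRing ((f.fiber (f (g' x'))).presheaf.stalk (f.asFiber (g' x')))]
    (hN' : ∀ x'' : X', IsNoetherianRing ((f'.fiber (f' x'')).presheaf.stalk (f'.asFiber x''))) :
    ringKrullDim ((f.fiber (f (g' x'))).presheaf.stalk (f.asFiber (g' x'))) ≤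
        ringKrullDim ((f'.fiber (f' x')).presheaf.stalk (f'.asFiber x')) ∧
      ∃ x'' : X', g' x'' = g' x' ∧
        ringKrullDim ((f'.fiber (f' x'')).presheaf.stalk (f'.asFiber x'')) =
          ringKrullDim ((f.fiber (f (g' x'))).presheaf.stalk (f.asFiber (g' x'))) := by
  obtain ⟨h, hpb, hcomm⟩ : ∃ h : f'.fiber (f' x') ⟶ f.fiber (g (f' x')),
      IsPullback h (f'.fiberToSpecResidueField (f' x'))
        (f.fiberToSpecResidueField (g (f' x'))) (Spec.map (g.residueFieldMap (f' x'))) ∧
      h ≫ f.fiberι (g (f' x')) = f'.fiberι (f' x') ≫ g' :=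
    ⟨_, isPullback_fiberToSpecResidueField_of_isPullback hsq (f' x'), pullback.lift_fst _ _ _⟩
  -- transport to the fibre over `g (f' x')`
  have hw₁ : f.fiberι (g (f' x')) (h (f'.asFiber x')) = g' x' := by
    rw [← Scheme.Hom.comp_apply, hcomm, Scheme.Hom.comp_apply, f'.fiberι_asFiber]
  have hyy : g (f' x') = f (g' x') := by
    rw [← Scheme.Hom.comp_apply, ← Scheme.Hom.comp_apply, hsq.w]
  obtain ⟨eT⟩ := fiber_stalk_transport f hyy (h (f'.asFiber x')) (f.asFiber (g' x'))
    (hw₁.trans (f.fiberι_asFiber _).symm)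
  haveI : IsNoetherianRing ((f.fiber (g (f' x'))).presheaf.stalk (h (f'.asFiber x'))) :=
    isNoetherianRing_of_ringEquiv _ eT.symm
  -- the algebra structures
  letI algT : Algebra (Y.residueField (g (f' x')))
      ((f.fiber (g (f' x'))).presheaf.stalk (h (f'.asFiber x'))) :=
    (StructureSheaf.toStalk (Y.residueField (g (f' x')))
        ((f.fiberToSpecResidueField (g (f' x'))) (h (f'.asFiber x'))) ≫
      (f.fiberToSpecResidueField (g (f' x'))).stalkMap (h (f'.asFiber x'))).hom.toAlgebra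
  letI algK : Algebra (Y.residueField (g (f' x'))) (Y'.residueField (f' x')) :=
    (g.residueFieldMap (f' x')).hom.toAlgebra
  -- pasting of the cartesian squares
  have hpaste := (IsPullback.of_hasPullback
    ((f.fiber (g (f' x'))).fromSpecStalk (h (f'.asFiber x'))) h).paste_vert hpb
  have hjπ : (f.fiber (g (f' x'))).fromSpecStalk (h (f'.asFiber x')) ≫
      f.fiberToSpecResidueField (g (f' x')) =
      Spec.map (CommRingCat.ofHom (algebraMap (Y.residueField (g (f' x')))
        ((f.fiber (g (f' x'))).presheaf.stalk (h (f'.asFiber x'))))) := by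
    rw [← Scheme.SpecMap_stalkMap_fromSpecStalk, Spec.fromSpecStalk_eq']
    exact (Spec.map_comp _ _).symm
  rw [hjπ] at hpaste
  let ε := hpaste.isoPullback ≪≫ pullbackSpecIso (Y.residueField (g (f' x')))
    ((f.fiber (g (f' x'))).presheaf.stalk (h (f'.asFiber x'))) (Y'.residueField (f' x'))
  have hcomp : ε.hom ≫ Spec.map (CommRingCat.ofHom (algebraMap
      ((f.fiber (g (f' x'))).presheaf.stalk (h (f'.asFiber x')))
      (((f.fiber (g (f' x'))).presheaf.stalk (h (f'.asFiber x')))
        ⊗[Y.residueField (g (f' x'))] (Y'.residueField (f' x'))))) =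
      pullback.fst ((f.fiber (g (f' x'))).fromSpecStalk (h (f'.asFiber x'))) h := by
    simp only [ε, Iso.trans_hom, Category.assoc, pullbackSpecIso_hom_fst']
    exact hpaste.isoPullback_hom_fst
  -- the point
  obtain ⟨z, hz1, hz2⟩ := Scheme.Pullback.exists_preimage_pullback
    (f := (f.fiber (g (f' x'))).fromSpecStalk (h (f'.asFiber x'))) (g := h)
    (closedPoint ((f.fiber (g (f' x'))).presheaf.stalk (h (f'.asFiber x')))) (f'.asFiber x')
    Scheme.fromSpecStalk_closedPoint
  have hq1 : (Spec.map (CommRingCat.ofHom (algebraMap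
      ((f.fiber (g (f' x'))).presheaf.stalk (h (f'.asFiber x')))
      (((f.fiber (g (f' x'))).presheaf.stalk (h (f'.asFiber x'))) ⊗[Y.residueField (g (f' x'))]
        (Y'.residueField (f' x')))))) (ε.hom z) =
      closedPoint ((f.fiber (g (f' x'))).presheaf.stalk (h (f'.asFiber x'))) := by
    rw [← hcomp] at hz1
    exact hz1
  have h𝔮 : (ε.hom z).asIdeal.comap (algebraMap
      ((f.fiber (g (f' x'))).presheaf.stalk (h (f'.asFiber x')))
      (((f.fiber (g (f' x'))).presheaf.stalk (h (f'.asFiber x'))) ⊗[Y.residueField (g (f' x'))]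
        (Y'.residueField (f' x')))) =
      maximalIdeal ((f.fiber (g (f' x'))).presheaf.stalk (h (f'.asFiber x'))) :=
    congrArg PrimeSpectrum.asIdeal hq1
  -- the flat preimmersion from the spectrum of the tensor product
  have hρ : (ε.inv ≫ pullback.snd ((f.fiber (g (f' x'))).fromSpecStalk (h (f'.asFiber x'))) h)
      (ε.hom z) = f'.asFiber x' := by
    have hcomp' : ε.hom ≫ ε.inv ≫
        pullback.snd ((f.fiber (g (f' x'))).fromSpecStalk (h (f'.asFiber x'))) h =
        pullback.snd ((f.fiber (g (f' x'))).fromSpecStalk (h (f'.asFiber x'))) h := by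
      rw [Iso.hom_inv_id_assoc]
    rw [← hcomp'] at hz2
    exact hz2
  obtain ⟨e1⟩ := nonempty_stalk_equiv_of_eq hρ
  let e2 := stalkEquiv
    (ε.inv ≫ pullback.snd ((f.fiber (g (f' x'))).fromSpecStalk (h (f'.asFiber x'))) h) (ε.hom z)
  let e3 := (Spec.stalkIso (CommRingCat.of
    (((f.fiber (g (f' x'))).presheaf.stalk (h (f'.asFiber x'))) ⊗[Y.residueField (g (f' x'))]
      (Y'.residueField (f' x')))) (ε.hom z)).commRingCatIsoToRingEquiv
  let eT' := (e1.symm.trans e2).trans e3
  haveI := hN' x'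
  haveI hzp : (ε.hom z).asIdeal.IsPrime := (ε.hom z).isPrime
  haveI : IsNoetherianRing (Localization.AtPrime (ε.hom z).asIdeal) :=
    isNoetherianRing_of_ringEquiv _ eT'
  refine ⟨?_, ?_⟩
  · rw [← ringKrullDim_eq_of_ringEquiv eT, ringKrullDim_eq_of_ringEquiv eT']
    exact (ring_dim (ε.hom z).asIdeal h𝔮).1
  · obtain ⟨𝔮m, hmin, hcm⟩ := exists_minimal_over (Y.residueField (g (f' x')))
      ((f.fiber (g (f' x'))).presheaf.stalk (h (f'.asFiber x'))) (Y'.residueField (f' x'))
    haveI hpm : 𝔮m.IsPrime := hmin.1.1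
    let pm : Spec (CommRingCat.of
      (((f.fiber (g (f' x'))).presheaf.stalk (h (f'.asFiber x'))) ⊗[Y.residueField (g (f' x'))]
        (Y'.residueField (f' x')))) := ⟨𝔮m, hpm⟩
    have hc1 : (ε.inv ≫ pullback.snd ((f.fiber (g (f' x'))).fromSpecStalk (h (f'.asFiber x'))) h)
        ≫ h = Spec.map (CommRingCat.ofHom (algebraMap
          ((f.fiber (g (f' x'))).presheaf.stalk (h (f'.asFiber x')))
          (((f.fiber (g (f' x'))).presheaf.stalk (h (f'.asFiber x')))
            ⊗[Y.residueField (g (f' x'))] (Y'.residueField (f' x'))))) ≫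
          (f.fiber (g (f' x'))).fromSpecStalk (h (f'.asFiber x')) := by
      rw [Category.assoc, ← pullback.condition, ← hcomp, Category.assoc, Iso.inv_hom_id_assoc]
    have hcl : (Spec.map (CommRingCat.ofHom (algebraMap
        ((f.fiber (g (f' x'))).presheaf.stalk (h (f'.asFiber x')))
        (((f.fiber (g (f' x'))).presheaf.stalk (h (f'.asFiber x')))
          ⊗[Y.residueField (g (f' x'))] (Y'.residueField (f' x')))))) pm =
        closedPoint ((f.fiber (g (f' x'))).presheaf.stalk (h (f'.asFiber x'))) :=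
      PrimeSpectrum.ext hcm
    have hh : h ((ε.inv ≫
        pullback.snd ((f.fiber (g (f' x'))).fromSpecStalk (h (f'.asFiber x'))) h) pm) =
        h (f'.asFiber x') := by
      have e := Scheme.Hom.comp_apply (ε.inv ≫
        pullback.snd ((f.fiber (g (f' x'))).fromSpecStalk (h (f'.asFiber x'))) h) h pm
      rw [← e, hc1, Scheme.Hom.comp_apply, hcl, Scheme.fromSpecStalk_closedPoint]
    have hgx : g' (f'.fiberι (f' x') ((ε.inv ≫
        pullback.snd ((f.fiber (g (f' x'))).fromSpecStalk (h (f'.asFiber x'))) h) pm)) =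
        g' x' := by
      have e := Scheme.Hom.comp_apply (f'.fiberι (f' x')) g' ((ε.inv ≫
        pullback.snd ((f.fiber (g (f' x'))).fromSpecStalk (h (f'.asFiber x'))) h) pm)
      rw [← e, ← hcomm, Scheme.Hom.comp_apply, hh, hw₁]
    have hfx : f' (f'.fiberι (f' x') ((ε.inv ≫
        pullback.snd ((f.fiber (g (f' x'))).fromSpecStalk (h (f'.asFiber x'))) h) pm)) =
        f' x' := by
      have hmem : f'.fiberι (f' x') ((ε.inv ≫
          pullback.snd ((f.fiber (g (f' x'))).fromSpecStalk (h (f'.asFiber x'))) h) pm) ∈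
          Set.range (f'.fiberι (f' x')) := ⟨_, rfl⟩
      rw [Scheme.Hom.range_fiberι] at hmem
      exact hmem
    obtain ⟨eT''⟩ := fiber_stalk_transport f' hfx (f'.asFiber _) ((ε.inv ≫
        pullback.snd ((f.fiber (g (f' x'))).fromSpecStalk (h (f'.asFiber x'))) h) pm)
      (f'.fiberι_asFiber _)
    let e2' := stalkEquiv
      (ε.inv ≫ pullback.snd ((f.fiber (g (f' x'))).fromSpecStalk (h (f'.asFiber x'))) h) pm
    let e3' := (Spec.stalkIso (CommRingCat.of
      (((f.fiber (g (f' x'))).presheaf.stalk (h (f'.asFiber x'))) ⊗[Y.residueField (g (f' x'))]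
        (Y'.residueField (f' x')))) pm).commRingCatIsoToRingEquiv
    let eM := (eT''.trans e2').trans e3'
    haveI := hN' (f'.fiberι (f' x') ((ε.inv ≫
        pullback.snd ((f.fiber (g (f' x'))).fromSpecStalk (h (f'.asFiber x'))) h) pm))
    haveI : IsNoetherianRing (Localization.AtPrime 𝔮m) :=
      isNoetherianRing_of_ringEquiv _ eM
    refine ⟨_, hgx, ?_⟩
    rw [ringKrullDim_eq_of_ringEquiv eM, ← ringKrullDim_eq_of_ringEquiv eT]
    exact (ring_dim 𝔮m hcm).2 hmin

end Sch

end Groth.Agent.Lib.Seat64.FibCodim
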