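import Mathlib.RingTheory.Ideal.KrullsHeightTheorem
import Mathlib.RingTheory.LocalRing.RingHom.Basic
import Mathlib.RingTheory.Ideal.Quotient.Operations
import Mathlib.RingTheory.KrullDimension.Basic
import Mathlib.Tactic

/-!
# Dimension inequality for fibre rings (seat 64)

For local homomorphisms `C → A → B` of local rings with `B` Noetherian:
`dim B/m_C B ≤ dim A/m_C A + dim B/m_A B`.
-/

set_option autoImplicit false
set_option linter.style.haveILetI false
universe u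

namespace Groth.Agent.Lib.Seat64.FibDim

open IsLocalRing

variable {C A B : Type u} [CommRing C] [CommRing A] [CommRing B]
  [IsLocalRing C] [IsLocalRing A] [IsLocalRing B]

theorem isLocalRing_quot {R : Type u} [CommRing R] [IsLocalRing R] (I : Ideal R) (hI : I ≠ ⊤) :
    IsLocalRing (R ⧸ I) := by
  haveI : Nontrivial (R ⧸ I) := Ideal.Quotient.nontrivial_iff.mpr hI
  exact IsLocalRing.of_surjective' (Ideal.Quotient.mk I) Ideal.Quotient.mk_surjective

theorem dim_quot_le (φ : C →+* A) (ψ : A →+* B) [IsLocalHom φ] [IsLocalHom ψ]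
    [IsNoetherianRing A] [IsNoetherianRing B] :
    ringKrullDim (B ⧸ ((maximalIdeal C).map φ).map ψ) ≤
      ringKrullDim (A ⧸ (maximalIdeal C).map φ) + ringKrullDim (B ⧸ (maximalIdeal A).map ψ) := by
  set a : Ideal A := (maximalIdeal C).map φ with ha
  have haA : a ≤ maximalIdeal A := map_maximalIdeal_le φ
  have ha_top : a ≠ ⊤ := (map_maximalIdeal_lt_top φ).ne
  clear_value a
  have hmB : (maximalIdeal A).map ψ ≤ maximalIdeal B := map_maximalIdeal_le ψ
  have haB : a.map ψ ≤ (maximalIdeal A).map ψ := Ideal.map_mono haA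
  have haB_top : a.map ψ ≠ ⊤ := fun h =>
    (maximalIdeal.isMaximal B).ne_top (top_le_iff.mp (h ▸ haB.trans hmB))
  haveI : IsLocalRing (A ⧸ a) := isLocalRing_quot a ha_top
  haveI : IsLocalRing (B ⧸ a.map ψ) := isLocalRing_quot _ haB_top
  let mkA : A →+* A ⧸ a := Ideal.Quotient.mk a
  let mkB : B →+* B ⧸ a.map ψ := Ideal.Quotient.mk (a.map ψ)
  let ψq : (A ⧸ a) →+* (B ⧸ a.map ψ) := Ideal.quotientMap (a.map ψ) ψ Ideal.le_comap_map
  have hcomm : ψq.comp mkA = mkB.comp ψ := by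
    ext x
    rfl
  haveI : IsLocalHom mkA := IsLocalHom.of_surjective _ Ideal.Quotient.mk_surjective
  haveI : IsLocalHom mkB := IsLocalHom.of_surjective _ Ideal.Quotient.mk_surjective
  haveI : IsLocalHom ψq := by
    refine ⟨fun x hx => ?_⟩
    obtain ⟨x, rfl⟩ := Ideal.Quotient.mk_surjective x
    have h1 : IsUnit (mkB (ψ x)) := hx
    have h2 : IsUnit (ψ x) := isUnit_of_map_unit mkB _ h1
    have h3 : IsUnit x := isUnit_of_map_unit ψ _ h2
    exact h3.map mkA
  letI : Algebra (A ⧸ a) (B ⧸ a.map ψ) := ψq.toAlgebra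
  haveI : (maximalIdeal (B ⧸ a.map ψ)).LiesOver (maximalIdeal (A ⧸ a)) :=
    ⟨(maximalIdeal_comap ψq).symm⟩
  have key := Ideal.height_le_height_add_of_liesOver (maximalIdeal (A ⧸ a))
    (maximalIdeal (B ⧸ a.map ψ))
  -- identify the last quotient
  have hp : maximalIdeal (A ⧸ a) = (maximalIdeal A).map mkA := by
    rw [← maximalIdeal_comap mkA, Ideal.map_comap_of_surjective mkA Ideal.Quotient.mk_surjective]
  have hpm : (maximalIdeal (A ⧸ a)).map (algebraMap (A ⧸ a) (B ⧸ a.map ψ)) =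
      ((maximalIdeal A).map ψ).map mkB := by
    change (maximalIdeal (A ⧸ a)).map ψq = _
    rw [hp, Ideal.map_map mkA ψq, hcomm, ← Ideal.map_map ψ mkB]
  let e : ((B ⧸ a.map ψ) ⧸ (maximalIdeal (A ⧸ a)).map (algebraMap (A ⧸ a) (B ⧸ a.map ψ))) ≃+*
      (B ⧸ (maximalIdeal A).map ψ) :=
    (Ideal.quotEquivOfEq hpm).trans (DoubleQuot.quotQuotEquivQuotOfLE haB)
  have hdim := ringKrullDim_eq_of_ringEquiv e
  set Q := (maximalIdeal (B ⧸ a.map ψ)).map
    (Ideal.Quotient.mk ((maximalIdeal (A ⧸ a)).map (algebraMap (A ⧸ a) (B ⧸ a.map ψ)))) with hQ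
  have hQtop : Q ≠ ⊤ := by
    intro h
    have h1 := Ideal.comap_map_of_surjective
      (Ideal.Quotient.mk ((maximalIdeal (A ⧸ a)).map (algebraMap (A ⧸ a) (B ⧸ a.map ψ))))
      Ideal.Quotient.mk_surjective (maximalIdeal (B ⧸ a.map ψ))
    rw [← hQ, h, Ideal.comap_top] at h1
    have h2 : Ideal.comap (Ideal.Quotient.mk
        ((maximalIdeal (A ⧸ a)).map (algebraMap (A ⧸ a) (B ⧸ a.map ψ)))) ⊥ ≤
        maximalIdeal (B ⧸ a.map ψ) := by
      rw [← RingHom.ker_eq_comap_bot, Ideal.mk_ker]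
      change (maximalIdeal (A ⧸ a)).map ψq ≤ _
      exact map_maximalIdeal_le ψq
    rw [sup_eq_left.mpr h2] at h1
    exact (maximalIdeal.isMaximal _).ne_top h1.symm
  have hQle : (Q.height : WithBot ℕ∞) ≤ ringKrullDim (B ⧸ (maximalIdeal A).map ψ) := by
    rw [← hdim]
    exact Ideal.height_le_ringKrullDim_of_ne_top hQtop
  rw [← maximalIdeal_height_eq_ringKrullDim (R := B ⧸ a.map ψ),
    ← maximalIdeal_height_eq_ringKrullDim (R := A ⧸ a)]
  calc ((maximalIdeal (B ⧸ a.map ψ)).height : WithBot ℕ∞)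
      ≤ (((maximalIdeal (A ⧸ a)).height + Q.height : ℕ∞) : WithBot ℕ∞) :=
        WithBot.coe_le_coe.mpr key
    _ = ((maximalIdeal (A ⧸ a)).height : WithBot ℕ∞) + (Q.height : WithBot ℕ∞) :=
        WithBot.coe_add _ _
    _ ≤ _ := add_le_add le_rfl hQle

end Groth.Agent.Lib.Seat64.FibDim
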