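import Mathlib
import Groth.Agent.Lib.Helper5FiberStalk
import Groth.Agent.Lib.Seat64FibDim

/-!
# Points of a fibre with zero-dimensional fibre ring (seat 64)

* `exists_no_generization`: a nonempty scheme has a point without proper generizations.
* `ringKrullDim_stalk_le_zero`: the local ring at such a point has dimension `≤ 0`.
* `exists_point_fiber_dim_zero`: for `g : X' ⟶ X` and `y` in the range of `g` there is `y'` over
  `y` with `dim O_{X',y'} / m_y O_{X',y'} ≤ 0`.
* `fiberStalk_dim_comp_le`: `dim O_{X'_s,y'} ≤ dim O_{X_s,g y'} + dim O_{X',y'}/m_{g y'}`.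
-/

set_option autoImplicit false
set_option linter.style.haveILetI false
universe u

namespace Groth.Agent.Lib.Seat64.FibGen

open AlgebraicGeometry CategoryTheory IsLocalRing Groth.Agent.Lib.Helper5.FiberStalk

theorem exists_no_generization (F : Scheme.{u}) [Nonempty F] :
    ∃ z : F, ∀ w : F, w ⤳ z → w = z := by
  obtain ⟨z₀⟩ := ‹Nonempty F›
  obtain ⟨t, htirr, hzt, hmax⟩ := exists_preirreducible ({z₀} : Set F) isPreirreducible_singleton
  have htne : t.Nonempty := ⟨z₀, hzt rfl⟩
  have htcl : IsClosed t := by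
    have h1 : closure t = t := hmax (closure t) htirr.closure subset_closure
    rw [← h1]
    exact isClosed_closure
  obtain ⟨z, hz⟩ := QuasiSober.sober (S := t) ⟨htne, htirr⟩ htcl
  refine ⟨z, fun w hw => ?_⟩
  have hz' : closure ({z} : Set F) = t := hz
  have h1 : closure ({z} : Set F) ⊆ closure {w} := specializes_iff_closure_subset.mp hw
  have h2 : closure ({w} : Set F) = t :=
    hmax _ isPreirreducible_singleton.closure (hz' ▸ h1)
  have h3 : Inseparable w z := inseparable_iff_closure_eq.mpr (h2.trans hz'.symm)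
  exact h3.eq

theorem ringKrullDim_stalk_le_zero (F : Scheme.{u}) (z : F) (hz : ∀ w : F, w ⤳ z → w = z) :
    ringKrullDim (F.presheaf.stalk z) ≤ 0 := by
  haveI : Subsingleton (PrimeSpectrum (F.presheaf.stalk z)) := by
    refine ⟨fun p q => ?_⟩
    have hinj : Function.Injective (F.fromSpecStalk z) :=
      (F.fromSpecStalk z).isEmbedding.injective
    apply hinj
    have hp : (F.fromSpecStalk z) p ∈ Set.range (F.fromSpecStalk z) := ⟨p, rfl⟩
    have hq : (F.fromSpecStalk z) q ∈ Set.range (F.fromSpecStalk z) := ⟨q, rfl⟩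
    rw [Scheme.range_fromSpecStalk] at hp hq
    exact (hz _ hp).trans (hz _ hq).symm
  exact Order.krullDim_nonpos_of_subsingleton

theorem fiber_congr {X' X : Scheme.{u}} (g : X' ⟶ X) {y₁ y₂ : X} (h : y₁ = y₂) (z : g.fiber y₁)
    (hz : ∀ w : g.fiber y₁, w ⤳ z → w = z) :
    ∃ z' : g.fiber y₂, g.fiberι y₂ z' = g.fiberι y₁ z ∧ ∀ w : g.fiber y₂, w ⤳ z' → w = z' := by
  subst h
  exact ⟨z, rfl, hz⟩

theorem exists_point_fiber_dim_zero {X' X : Scheme.{u}} (g : X' ⟶ X) (y : X)
    (hy : y ∈ Set.range g) :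
    ∃ y' : X', g y' = y ∧
      ringKrullDim (X'.presheaf.stalk y' ⧸
        (maximalIdeal (X.presheaf.stalk (g y'))).map (g.stalkMap y').hom) ≤ 0 := by
  obtain ⟨x₀, hx₀⟩ := hy
  haveI : Nonempty (g.fiber y) := ⟨(g.fiberHomeo y).symm ⟨x₀, hx₀⟩⟩
  obtain ⟨z, hz⟩ := exists_no_generization (g.fiber y)
  have hgy : g (g.fiberι y z) = y := by
    have : g.fiberι y z ∈ Set.range (g.fiberι y) := ⟨z, rfl⟩
    rw [g.range_fiberι y] at this
    exact this
  obtain ⟨z', hz'ι, hz'gen⟩ := fiber_congr g hgy.symm z hz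
  obtain ⟨e⟩ := nonempty_stalk_fiber_equiv g (g.fiberι y z) z' hz'ι
  refine ⟨g.fiberι y z, hgy, ?_⟩
  have h0 := ringKrullDim_stalk_le_zero _ z' hz'gen
  rw [ringKrullDim_eq_of_ringEquiv e] at h0
  exact h0

/-- Dimension of the fibre ring of a composite. -/
theorem fiberStalk_dim_comp_le {X' X S : Scheme.{u}} [IsLocallyNoetherian X]
    [IsLocallyNoetherian X'] (g : X' ⟶ X) (f : X ⟶ S) (y' : X') :
    ringKrullDim (((g ≫ f).fiber ((g ≫ f) y')).presheaf.stalk ((g ≫ f).asFiber y')) ≤
      ringKrullDim ((f.fiber (f (g y'))).presheaf.stalk (f.asFiber (g y'))) +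
        ringKrullDim (X'.presheaf.stalk y' ⧸
          (maximalIdeal (X.presheaf.stalk (g y'))).map (g.stalkMap y').hom) := by
  obtain ⟨ef⟩ := nonempty_stalk_asFiber_equiv f (g y')
  obtain ⟨egf⟩ := nonempty_stalk_asFiber_equiv (g ≫ f) y'
  have hI : (maximalIdeal (S.presheaf.stalk ((g ≫ f) y'))).map ((g ≫ f).stalkMap y').hom =
      ((maximalIdeal (S.presheaf.stalk (f (g y')))).map (f.stalkMap (g y')).hom).map
        (g.stalkMap y').hom := by
    rw [Scheme.Hom.stalkMap_comp]
    exact (Ideal.map_map _ _).symm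
  let egf' := egf.trans (Ideal.quotEquivOfEq hI)
  rw [ringKrullDim_eq_of_ringEquiv egf', ringKrullDim_eq_of_ringEquiv ef]
  exact Groth.Agent.Lib.Seat64.FibDim.dim_quot_le (f.stalkMap (g y')).hom (g.stalkMap y').hom

end Groth.Agent.Lib.Seat64.FibGen
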