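import Mathlib
import Groth.Prelude.Def_FlatCA
import Groth.Agent.Lib.Seat6WeakAssBC

/-!
# Weakly associated primes go up along a ring map which is flat after localizing at a prime

`mem_weakAss_of_flat_localization`: `R → R'`, `q` a prime of `R'`, `B' = R'_q` flat over `R`, `q`
minimal among the primes below `q` with the same contraction `p = q ∩ R`; if `p ∈ WeakAss_R(M)` then
`q ∈ WeakAss_{R'}(R' ⊗_R M)`.
-/

set_option autoImplicit false
universe u v w

namespace Groth.Agent.Lib.Seat64.WeakAssFlatUp

open FlatCA TensorProduct Groth.Agent.Lib.Seat6.WeakAss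

variable {R : Type u} {R' : Type v} [CommRing R] [CommRing R'] [Algebra R R']
  (M : Type w) [AddCommGroup M] [Module R M]
  (q : Ideal R') [hq : q.IsPrime] (B' : Type*) [CommRing B'] [Algebra R' B'] [Algebra R B']
  [IsScalarTower R R' B'] [IsLocalization.AtPrime B' q]

theorem mem_weakAss_of_flat_localization [Module.Flat R B']
    (hinc : ∀ q' : Ideal R', q'.IsPrime → q' ≤ q →
      q'.comap (algebraMap R R') = q.comap (algebraMap R R') → q' = q)
    (hp : q.comap (algebraMap R R') ∈ weakAss R M) : q ∈ weakAss R' (R' ⊗[R] M) := by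
  have : IsLocalRing B' := IsLocalization.AtPrime.isLocalRing B' q
  have hu'q : (IsLocalRing.maximalIdeal B').comap (algebraMap R' B') = q :=
    IsLocalization.AtPrime.under_maximalIdeal B' q
  rw [← hu'q, ← mem_weakAss_tensor_localization_iff q.primeCompl B' M
    (IsLocalRing.maximalIdeal B')]
  refine mem_weakAss_baseChange_of_flat M (IsLocalRing.maximalIdeal B') ?_ ?_ hp
  · rw [IsScalarTower.algebraMap_eq R R' B', ← Ideal.comap_comap, hu'q]
  · intro t' ht' hle hcomap
    have h1 := hinc (t'.comap (algebraMap R' B')) (Ideal.comap_isPrime _ _)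
      (by rw [← hu'q]; exact Ideal.comap_mono hle)
      (by rw [Ideal.comap_comap, ← IsScalarTower.algebraMap_eq]; exact hcomap)
    have h2 : Ideal.map (algebraMap R' B') (Ideal.comap (algebraMap R' B') t') = t' :=
      IsLocalization.map_under q.primeCompl B' t'
    have h3 : Ideal.map (algebraMap R' B') (Ideal.comap (algebraMap R' B')
        (IsLocalRing.maximalIdeal B')) = IsLocalRing.maximalIdeal B' :=
      IsLocalization.map_under q.primeCompl B' (IsLocalRing.maximalIdeal B')
    rw [← h2, h1, ← h3, hu'q]

end Groth.Agent.Lib.Seat64.WeakAssFlatUp
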