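import Mathlib
import Groth.Prelude.Def_FlatCA
import Groth.Prelude.Def_CurvBase
import Groth.Agent.Lib.Seat64WeakAssPt
import Groth.Agent.Lib.Seat64WeakAssFlatUp
import Groth.Agent.Lib.Seat64BCWeakAss
import Groth.Agent.Lib.Helper20PullbackAff

/-!
# Weakly associated points of a pullback at generic points of fibres where the map is flat

`isWeakAssPoint_pullback` : `f : X ⟶ S`, `G` quasi-coherent on `S`, `x : X` with `f` flat at `x`,
`x` a generic point of its fibre, `f x` weakly associated to `G`; then `x` is weakly associated to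
`f^*G`.
-/

set_option autoImplicit false
set_option linter.style.haveILetI false
universe u
open CategoryTheory Limits AlgebraicGeometry TopologicalSpace

namespace Groth.Agent.Lib.Seat64.FlatGenFib

open Groth.Agent.Lib.Seat64.WeakAssPt Groth.Agent.Lib.Seat64.BCWeakAss
  Groth.Agent.Lib.Helper20.PullbackAff Groth.Agent.Lib.Seat6.WeakAss
  Groth.Agent.Lib.Helper20.Thickening Groth.Agent.Lib.Helper2.QCoh
  Groth.Agent.Lib.Seat64.WeakAssFlatUp

variable {X S : Scheme.{u}} (f : X ⟶ S) {V : S.Opens} (hV : IsAffineOpen V) {U : X.Opens}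
  (hU : IsAffineOpen U) (h : U ≤ f ⁻¹ᵁ V)

theorem map_fromSpec (Q : PrimeSpectrum Γ(X, U)) :
    f (hU.fromSpec Q) = hV.fromSpec (Q.comap (f.appLE V U h).hom) := by
  have h1 := IsAffineOpen.SpecMap_appLE_fromSpec f hV hU h
  have h2 : (hU.fromSpec ≫ f) (show Spec Γ(X, U) from Q) =
      (Spec.map (f.appLE V U h) ≫ hV.fromSpec) (show Spec Γ(X, U) from Q) := by
    rw [h1]
  rw [Scheme.Hom.comp_apply, Scheme.Hom.comp_apply] at h2
  exact h2

theorem primeIdealOf_map (x : X) (hxU : x ∈ U) :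
    hV.primeIdealOf ⟨f x, h hxU⟩ = (hU.primeIdealOf ⟨x, hxU⟩).comap (f.appLE V U h).hom := by
  have h1 := map_fromSpec f hV hU h (hU.primeIdealOf ⟨x, hxU⟩)
  rw [hU.fromSpec_primeIdealOf ⟨x, hxU⟩] at h1
  have h2 := primeIdealOf_fromSpec hV ((hU.primeIdealOf ⟨x, hxU⟩).comap (f.appLE V U h).hom)
  rw [← h2]
  congr 1
  exact Subtype.ext h1

include hV hU h in
theorem isWeakAssPoint_pullback_aux (G : S.Modules) [G.IsQuasicoherent] (x : X) (hxU : x ∈ U)
    (hfl : (f.stalkMap x).hom.Flat) (hgen : ∀ y : X, f y = f x → y ⤳ x → y = x)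
    (hs : Curv2.IsWeakAssPoint G (f x)) :
    Curv2.IsWeakAssPoint ((Scheme.Modules.pullback f).obj G) x := by
  have hsV : f x ∈ V := h hxU
  -- algebra structures
  letI a1 : Algebra Γ(S, V) Γ(X, U) := (f.appLE V U h).hom.toAlgebra
  letI a2 : Algebra Γ(X, U) (X.presheaf.stalk x) :=
    TopCat.Presheaf.algebra_section_stalk X.presheaf (⟨x, hxU⟩ : U)
  letI a3 : Algebra Γ(S, V) (X.presheaf.stalk x) :=
    ((algebraMap Γ(X, U) (X.presheaf.stalk x)).comp (algebraMap Γ(S, V) Γ(X, U))).toAlgebra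
  haveI t1 : IsScalarTower Γ(S, V) Γ(X, U) (X.presheaf.stalk x) :=
    IsScalarTower.of_algebraMap_eq (fun _ => rfl)
  haveI l1 : IsLocalization.AtPrime (X.presheaf.stalk x) (hU.primeIdealOf ⟨x, hxU⟩).asIdeal :=
    hU.isLocalization_stalk ⟨x, hxU⟩
  haveI : (hU.primeIdealOf ⟨x, hxU⟩).asIdeal.IsPrime := (hU.primeIdealOf ⟨x, hxU⟩).2
  -- flatness of `Γ(S,V) → O_{X,x}`
  haveI fl : Module.Flat Γ(S, V) (X.presheaf.stalk x) := by
    rw [← RingHom.flat_algebraMap_iff]
    have e1 : algebraMap Γ(S, V) (X.presheaf.stalk x) =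
        (S.presheaf.germ V (f x) hsV ≫ f.stalkMap x).hom := by
      have h3 : S.presheaf.germ V (f x) hsV ≫ f.stalkMap x =
          f.appLE V U h ≫ X.presheaf.germ U x hxU := by
        rw [Scheme.Hom.germ_stalkMap, Scheme.Hom.appLE, Category.assoc,
          TopCat.Presheaf.germ_res]
      rw [h3]
      rfl
    rw [e1, CommRingCat.hom_comp]
    refine RingHom.Flat.comp ?_ hfl
    letI : Algebra Γ(S, V) (S.presheaf.stalk (f x)) :=
      TopCat.Presheaf.algebra_section_stalk S.presheaf (⟨f x, hsV⟩ : V)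
    haveI : IsLocalization.AtPrime (S.presheaf.stalk (f x))
        (hV.primeIdealOf ⟨f x, hsV⟩).asIdeal := hV.isLocalization_stalk ⟨f x, hsV⟩
    have : Module.Flat Γ(S, V) (S.presheaf.stalk (f x)) :=
      IsLocalization.flat _ (hV.primeIdealOf ⟨f x, hsV⟩).asIdeal.primeCompl
    exact (RingHom.flat_algebraMap_iff (R := Γ(S, V)) (S := S.presheaf.stalk (f x))).2 this
  -- minimality in the fibre
  have hinc : ∀ q' : Ideal Γ(X, U), q'.IsPrime → q' ≤ (hU.primeIdealOf ⟨x, hxU⟩).asIdeal →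
      q'.comap (algebraMap Γ(S, V) Γ(X, U)) =
        (hU.primeIdealOf ⟨x, hxU⟩).asIdeal.comap (algebraMap Γ(S, V) Γ(X, U)) →
      q' = (hU.primeIdealOf ⟨x, hxU⟩).asIdeal := by
    intro q' hq' hle hcomap
    let Q' : PrimeSpectrum Γ(X, U) := ⟨q', hq'⟩
    have h1 : f (hU.fromSpec Q') = f x := by
      rw [map_fromSpec f hV hU h Q']
      have h2 := map_fromSpec f hV hU h (hU.primeIdealOf ⟨x, hxU⟩)
      rw [hU.fromSpec_primeIdealOf ⟨x, hxU⟩] at h2
      rw [h2]
      congr 1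
      exact PrimeSpectrum.ext hcomap
    have h2 : hU.fromSpec Q' ⤳ x := fromSpec_specializes hU Q' x hxU hle
    have h3 := hgen _ h1 h2
    have h4 := primeIdealOf_fromSpec hU Q'
    have h5 : hU.primeIdealOf ⟨hU.fromSpec Q', fromSpec_mem hU Q'⟩ =
        hU.primeIdealOf ⟨x, hxU⟩ := by
      congr 1
      exact Subtype.ext h3
    rw [h4] at h5
    exact congrArg PrimeSpectrum.asIdeal h5
  -- the weakly associated prime downstairs
  have hp := (isWeakAssPoint_iff hV G (f x) hsV).1 hs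
  rw [primeIdealOf_map f hV hU h x hxU, weakAss_eq_of_linearEquiv (ΓUEquiv hV G)] at hp
  have hq := mem_weakAss_of_flat_localization ((ΓUF hV).obj G)
    (hU.primeIdealOf ⟨x, hxU⟩).asIdeal (X.presheaf.stalk x) hinc hp
  rw [← weakAss_eq_of_linearEquiv (extEquiv ((ΓUF hV).obj G))] at hq
  have hq' : (hU.primeIdealOf ⟨x, hxU⟩).asIdeal ∈ FlatCA.weakAss Γ(X, U)
      ((ModuleCat.extendScalars.{u, u, u} (f.appLE V U h).hom).obj ((ΓUF hV).obj G)) := hq
  rw [← weakAss_eq_of_linearEquiv (ΓUFPullbackIso f hV hU h G).toLinearEquiv,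
    ← weakAss_eq_of_linearEquiv (ΓUEquiv hU _)] at hq'
  exact (isWeakAssPoint_iff hU _ x hxU).2 hq'

theorem isWeakAssPoint_pullback (G : S.Modules) [G.IsQuasicoherent] (x : X)
    (hfl : (f.stalkMap x).hom.Flat) (hgen : ∀ y : X, f y = f x → y ⤳ x → y = x)
    (hs : Curv2.IsWeakAssPoint G (f x)) :
    Curv2.IsWeakAssPoint ((Scheme.Modules.pullback f).obj G) x := by
  obtain ⟨V, hV, hsV, -⟩ := exists_isAffineOpen_mem_and_subset (x := f x) (U := ⊤) trivial
  obtain ⟨U, hU, hxU, hUV⟩ :=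
    exists_isAffineOpen_mem_and_subset (x := x) (U := f ⁻¹ᵁ V) hsV
  exact isWeakAssPoint_pullback_aux f hV hU hUV G x hxU hfl hgen hs

end Groth.Agent.Lib.Seat64.FlatGenFib
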