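import Mathlib

/-!
# Rescaling a ring map out of a ℤ-graded ring through the grading (seat 64)

* `dvd_of_generators`: if `I₊` is generated by finitely many homogeneous `f` of positive degree
  with `ϖ ^ deg f ∣ ψ f`, then `ϖ ^ d ∣ ψ a` for every homogeneous `a` of degree `d > 0`.
* `exists_rescale`: if `ϖ ^ d ∣ ψ a` for all homogeneous `a` of degree `d > 0` (target a domain,
  `ϖ ≠ 0`), there is a ring map `g` with `g a * ϖ ^ d = ψ a` (in the fraction field) for all
  homogeneous `a` of any degree `d ∈ ℤ`.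
-/

set_option autoImplicit false
universe u v w

namespace Groth.Agent.Lib.Seat64.GmQuot

section

variable {A : Type u} [CommRing A] (𝒜 : ℤ → AddSubgroup A) [GradedRing 𝒜]

theorem dvd_of_generators {R' : Type v} [CommRing R'] (ψ : A →+* R') (ϖ : R')
    (F : Finset A) (dg : A → ℤ)
    (hF : Ideal.span {a : A | ∃ d : ℤ, 0 < d ∧ a ∈ 𝒜 d} = Ideal.span (F : Set A))
    (hdg : ∀ f ∈ F, 0 < dg f ∧ f ∈ 𝒜 (dg f) ∧ ϖ ^ (dg f).toNat ∣ ψ f) :
    ∀ d : ℤ, 0 < d → ∀ a ∈ 𝒜 d, ϖ ^ d.toNat ∣ ψ a := by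
  have key : ∀ k : ℕ, ∀ d : ℤ, 0 < d → d ≤ k → ∀ a ∈ 𝒜 d, ϖ ^ d.toNat ∣ ψ a := by
    intro k
    induction k with
    | zero => intro d hd hk; omega
    | succ k ih =>
      intro d hd hk a ha
      have hmem : a ∈ Ideal.span (F : Set A) := by
        rw [← hF]; exact Ideal.subset_span ⟨d, hd, ha⟩
      obtain ⟨c, -, hc⟩ := Submodule.mem_span_finset.1 hmem
      have h1 : a = ∑ f ∈ F, ((DirectSum.decompose 𝒜 (c f) (d - dg f) : 𝒜 (d - dg f)) : A) * f := by
        have h2 : (DirectSum.decompose 𝒜 a d : A) = a := DirectSum.decompose_of_mem_same 𝒜 ha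
        rw [← h2, ← hc, DirectSum.decompose_sum, DFinsupp.finsetSum_apply,
          AddSubmonoidClass.coe_finsetSum]
        refine Finset.sum_congr rfl fun f hf => ?_
        obtain ⟨-, hfm, -⟩ := hdg f hf
        have h3 := DirectSum.coe_decompose_mul_add_of_right_mem 𝒜 (a := c f) (i := d - dg f) hfm
        rw [sub_add_cancel] at h3
        rw [smul_eq_mul]
        exact h3
      rw [h1, map_sum]
      refine Finset.dvd_sum fun f hf => ?_
      obtain ⟨hpos, hfm, hfd⟩ := hdg f hf
      rw [map_mul]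
      by_cases he : 0 < d - dg f
      · have h4 := ih (d - dg f) he (by omega) _
          (DirectSum.decompose 𝒜 (c f) (d - dg f) : 𝒜 (d - dg f)).2
        have h5 : d.toNat = (d - dg f).toNat + (dg f).toNat := by omega
        rw [h5, pow_add]
        exact mul_dvd_mul h4 hfd
      · have h5 : d.toNat ≤ (dg f).toNat := by omega
        exact dvd_mul_of_dvd_right ((pow_dvd_pow ϖ h5).trans hfd) _
  intro d hd a ha
  exact key d.toNat d hd (by omega) a ha

end

section

variable {A : Type u} [CommRing A] (𝒜 : ℤ → AddSubgroup A) [GradedRing 𝒜]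
variable {K' : Type w} [Field K']

/-- The rescaled map into a field: `a ↦ χ a * w ^ (-d)` on degree `d`. -/
noncomputable def rescaleField (χ : A →+* K') (w : K') (hw : w ≠ 0) : A →+* K' :=
  (DirectSum.toSemiring
    (fun i => (AddMonoidHom.mulRight (w ^ (-i))).comp (χ.toAddMonoidHom.comp (𝒜 i).subtype))
    (by
      change χ (1 : A) * w ^ (-(0 : ℤ)) = 1
      rw [map_one, neg_zero, zpow_zero, mul_one])
    (by
      intro i j ai aj
      change χ ((ai : A) * (aj : A)) * w ^ (-(i + j)) =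
        (χ (ai : A) * w ^ (-i)) * (χ (aj : A) * w ^ (-j))
      rw [map_mul, neg_add, zpow_add₀ hw]
      ring)).comp
    (DirectSum.decomposeRingEquiv 𝒜).toRingHom

theorem rescaleField_of_mem (χ : A →+* K') (w : K') (hw : w ≠ 0) {d : ℤ} {a : A}
    (ha : a ∈ 𝒜 d) : rescaleField 𝒜 χ w hw a = χ a * w ^ (-d) := by
  unfold rescaleField
  rw [RingHom.comp_apply]
  change DirectSum.toSemiring _ _ _ (DirectSum.decompose 𝒜 a) = _
  rw [DirectSum.decompose_of_mem 𝒜 ha, DirectSum.toSemiring_of]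
  rfl

theorem exists_rescale {R' : Type v} [CommRing R'] [IsDomain R'] [Algebra R' K']
    [IsFractionRing R' K'] (ψ : A →+* R') (ϖ : R') (hϖ : ϖ ≠ 0)
    (hdvd : ∀ d : ℤ, 0 < d → ∀ a ∈ 𝒜 d, ϖ ^ d.toNat ∣ ψ a) :
    ∃ g : A →+* R', ∀ (d : ℤ) (a : A), a ∈ 𝒜 d →
      algebraMap R' K' (g a) * algebraMap R' K' ϖ ^ d = algebraMap R' K' (ψ a) := by
  have hι : Function.Injective (algebraMap R' K') := IsFractionRing.injective R' K'
  have hw : algebraMap R' K' ϖ ≠ 0 := by
    intro h
    exact hϖ (hι (by rw [h, map_zero]))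
  set gK := rescaleField 𝒜 ((algebraMap R' K').comp ψ) (algebraMap R' K' ϖ) hw with hgK
  have hhom : ∀ (d : ℤ) (a : A), a ∈ 𝒜 d → ∃ r : R', algebraMap R' K' r = gK a := by
    intro d a ha
    rw [hgK, rescaleField_of_mem 𝒜 _ _ hw ha, RingHom.comp_apply]
    by_cases hd : 0 < d
    · obtain ⟨r, hr⟩ := hdvd d hd a ha
      refine ⟨r, ?_⟩
      rw [hr, map_mul, map_pow, zpow_neg, ← zpow_natCast, Int.toNat_of_nonneg hd.le]
      field_simp
    · refine ⟨ψ a * ϖ ^ (-d).toNat, ?_⟩
      rw [map_mul, map_pow, ← zpow_natCast, Int.toNat_of_nonneg (by omega)]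
  have hrange : ∀ a : A, ∃ r : R', algebraMap R' K' r = gK a := by
    intro a
    refine DirectSum.Decomposition.inductionOn 𝒜 (motive := fun a => ∃ r : R', algebraMap R' K' r = gK a)
      ⟨0, by rw [map_zero, map_zero]⟩ (fun {i} m => hhom i m m.2) ?_ a
    rintro a b ⟨r, hr⟩ ⟨s, hs⟩
    exact ⟨r + s, by rw [map_add, map_add, hr, hs]⟩
  let g : A →+* R' :=
    { toFun := fun a => (hrange a).choose
      map_one' := hι (by rw [(hrange 1).choose_spec, map_one, map_one])
      map_mul' := fun a b => hι (by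
        rw [(hrange (a * b)).choose_spec, map_mul, map_mul, (hrange a).choose_spec,
          (hrange b).choose_spec])
      map_zero' := hι (by rw [(hrange 0).choose_spec, map_zero, map_zero])
      map_add' := fun a b => hι (by
        rw [(hrange (a + b)).choose_spec, map_add, map_add, (hrange a).choose_spec,
          (hrange b).choose_spec]) }
  refine ⟨g, fun d a ha => ?_⟩
  have h1 : algebraMap R' K' (g a) = gK a := (hrange a).choose_spec
  rw [h1, hgK, rescaleField_of_mem 𝒜 _ _ hw ha, RingHom.comp_apply, zpow_neg, mul_assoc,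
    inv_mul_cancel₀ (zpow_ne_zero d hw), mul_one]

end

end Groth.Agent.Lib.Seat64.GmQuot
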