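import Mathlib.RingTheory.PowerSeries.Trunc
import Mathlib.RingTheory.PowerSeries.Inverse
import Mathlib.RingTheory.PowerSeries.NoZeroDivisors
import Mathlib.RingTheory.DiscreteValuationRing.Basic
import Mathlib.LinearAlgebra.Matrix.Nondegenerate
import Mathlib.LinearAlgebra.Matrix.Adjugate
import Mathlib.LinearAlgebra.Matrix.NonsingularInverse
import Mathlib.LinearAlgebra.Matrix.ToLin
import Mathlib.Tactic

/-!
# Row-reduced (Hermite) forms of square matrices over `k[[t]]` (seat 64)

* `exists_triangular`: a square matrix over `k[[t]]` with nonzero determinant can be brought, by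
  invertible row operations, to upper triangular form with diagonal entries powers of `X`.
* `exists_reduced`: general reduction theorem with a set `D` of degree offsets allowed for column
  operations.
* `unique_reduced`: uniqueness of the row-reduced form.
-/

set_option autoImplicit false

namespace Groth.Agent.Lib.Seat64.Hermite

open PowerSeries Matrix

variable {k : Type*} [Field k]

theorem exists_quot (f : PowerSeries k) (e : ℕ) :
    ∃ s : PowerSeries k, ∀ n, e ≤ n → coeff n (f - s * X ^ e) = 0 := by
  refine ⟨mk fun i => coeff (i + e) f, fun n hn => ?_⟩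
  have h := eq_shift_mul_X_pow_add_trunc e f
  have h2 : f - (mk fun i => coeff (i + e) f) * X ^ e = (f.trunc e : PowerSeries k) := by
    rw [sub_eq_iff_eq_add']; exact h
  rw [h2, Polynomial.coeff_coe, coeff_trunc, if_neg (not_lt.mpr hn)]

theorem eq_zero_of_mul_X_pow_trunc (c : PowerSeries k) (e : ℕ)
    (h : ∀ n, e ≤ n → coeff n (c * X ^ e) = 0) : c = 0 := by
  ext n
  rw [← coeff_mul_X_pow c e n, h _ (Nat.le_add_left _ _)]
  simp

variable {r : ℕ}

/-- Vectors whose coordinates of index `< j` vanish. -/
def lowZero (j : ℕ) : Submodule (PowerSeries k) (Fin r → PowerSeries k) where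
  carrier := {v | ∀ i : Fin r, i.val < j → v i = 0}
  add_mem' := by
    intro a b ha hb i hi
    simp [ha i hi, hb i hi]
  zero_mem' := by
    intro i _
    rfl
  smul_mem' := by
    intro c a ha i hi
    simp [ha i hi]

theorem mem_lowZero {j : ℕ} {v : Fin r → PowerSeries k} :
    v ∈ lowZero (k := k) (r := r) j ↔ ∀ i : Fin r, i.val < j → v i = 0 := Iff.rfl

/-- Triangular vecMul: for `A` upper triangular (on rows `≥ i₀`) with nonzero diagonal `X ^ e`,
if `c` vanishes below `i₀` and `c ᵥ* A` vanishes below `j`, then `c` vanishes below `j`. -/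
theorem coeff_zero_of_vecMul_lowZero (A : Matrix (Fin r) (Fin r) (PowerSeries k)) (e : Fin r → ℕ)
    (hd : ∀ i, A i i = X ^ e i) (ht : ∀ i j, j < i → A i j = 0)
    (c : Fin r → PowerSeries k) (j : ℕ) (h : ∀ i : Fin r, i.val < j → (c ᵥ* A) i = 0) :
    ∀ i : Fin r, i.val < j → c i = 0 := by
  suffices H : ∀ n : ℕ, ∀ i : Fin r, i.val = n → i.val < j → c i = 0 from fun i => H i.val i rfl
  intro n
  induction n using Nat.strong_induction_on with
  | _ n ih =>
  intro i hi hij
  have h1 := h i hij
  rw [Matrix.vecMul, dotProduct, Finset.sum_eq_single i] at h1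
  · rw [hd i] at h1
    exact (mul_eq_zero.mp h1).resolve_right (pow_ne_zero _ X_ne_zero)
  · intro b _ hb
    rcases lt_or_gt_of_ne hb with hlt | hgt
    · have : c b = 0 := ih b.val (by rw [← hi]; exact hlt) b rfl (lt_trans hlt hij)
      rw [this, zero_mul]
    · rw [ht b i hgt, mul_zero]
  · intro hni
    exact absurd (Finset.mem_univ i) hni

/-- Value of the first possibly nonzero coordinate of `c ᵥ* A` for triangular `A`. -/
theorem vecMul_apply_of_lowZero (A : Matrix (Fin r) (Fin r) (PowerSeries k))
    (ht : ∀ i j, j < i → A i j = 0)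
    (c : Fin r → PowerSeries k) (i : Fin r) (hc : ∀ b : Fin r, b < i → c b = 0) :
    (c ᵥ* A) i = c i * A i i := by
  rw [Matrix.vecMul, dotProduct, Finset.sum_eq_single i]
  · intro b _ hb
    rcases lt_or_gt_of_ne hb with hlt | hgt
    · rw [hc b hlt, zero_mul]
    · rw [ht b i hgt, mul_zero]
  · intro hni
    exact absurd (Finset.mem_univ i) hni


/-- The row lattice of `M`. -/
noncomputable def rowLat (M : Matrix (Fin r) (Fin r) (PowerSeries k)) :
    Submodule (PowerSeries k) (Fin r → PowerSeries k) :=
  LinearMap.range (Matrix.vecMulLinear M)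

theorem mem_rowLat {M : Matrix (Fin r) (Fin r) (PowerSeries k)} {v : Fin r → PowerSeries k} :
    v ∈ rowLat M ↔ ∃ w : Fin r → PowerSeries k, w ᵥ* M = v := Iff.rfl

theorem det_smul_single_mem_rowLat (M : Matrix (Fin r) (Fin r) (PowerSeries k)) (j : Fin r) :
    (M.det • (Pi.single j 1 : Fin r → PowerSeries k)) ∈ rowLat M := by
  refine ⟨(Pi.single j 1 : Fin r → PowerSeries k) ᵥ* adjugate M, ?_⟩
  rw [Matrix.vecMulLinear_apply, Matrix.vecMul_vecMul, adjugate_mul, Matrix.vecMul_smul, Matrix.vecMul_one]

/-- Existence of a triangular basis of the row lattice. -/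
theorem exists_triangular_vectors (M : Matrix (Fin r) (Fin r) (PowerSeries k)) (hM : M.det ≠ 0) :
    ∃ (e : Fin r → ℕ) (v : Fin r → Fin r → PowerSeries k),
      (∀ j, v j ∈ rowLat M) ∧ (∀ j i, i < j → v j i = 0) ∧ (∀ j, v j j = X ^ e j) ∧
      (∀ j (u : Fin r → PowerSeries k), u ∈ rowLat M → (∀ i, i < j → u i = 0) →
        ∃ c, u j = c * X ^ e j) := by
  have key : ∀ j : Fin r, ∃ (n : ℕ) (v : Fin r → PowerSeries k), v ∈ rowLat M ∧
      (∀ i, i < j → v i = 0) ∧ v j = X ^ n ∧
      (∀ (u : Fin r → PowerSeries k), u ∈ rowLat M → (∀ i, i < j → u i = 0) →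
        ∃ c, u j = c * X ^ n) := by
    intro j
    let I : Ideal (PowerSeries k) :=
      Submodule.map (LinearMap.proj j : (Fin r → PowerSeries k) →ₗ[PowerSeries k] PowerSeries k)
        (rowLat M ⊓ lowZero j.val)
    have hI : I ≠ ⊥ := by
      intro hbot
      have : M.det ∈ I := by
        refine ⟨M.det • (Pi.single j 1 : Fin r → PowerSeries k),
          ⟨det_smul_single_mem_rowLat M j, ?_⟩, by simp⟩
        intro i hi
        have : i ≠ j := fun h => by rw [h] at hi; exact lt_irrefl _ hi
        simp [this]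
      rw [hbot] at this
      exact hM ((Submodule.mem_bot _).mp this)
    obtain ⟨n, hn⟩ := IsDiscreteValuationRing.ideal_eq_span_pow_irreducible hI
      (X_irreducible (R := k))
    have hX : X ^ n ∈ I := by rw [hn]; exact Ideal.subset_span rfl
    obtain ⟨v, ⟨hvL, hvK⟩, hvj⟩ := hX
    refine ⟨n, v, hvL, fun i hi => hvK i hi, hvj, fun u huL huK => ?_⟩
    have : u j ∈ I := ⟨u, ⟨huL, fun i hi => huK i hi⟩, rfl⟩
    rw [hn, Ideal.mem_span_singleton'] at this
    obtain ⟨c, hc⟩ := this
    exact ⟨c, hc.symm⟩
  choose e v h1 h2 h3 h4 using key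
  exact ⟨e, v, h1, h2, h3, h4⟩


theorem row_mem_rowLat (M : Matrix (Fin r) (Fin r) (PowerSeries k)) (i : Fin r) :
    M i ∈ rowLat M := by
  refine ⟨Pi.single i 1, ?_⟩
  rw [Matrix.vecMulLinear_apply, Matrix.single_one_vecMul]
  rfl

/-- Triangular form by invertible row operations. -/
theorem exists_triangular (M : Matrix (Fin r) (Fin r) (PowerSeries k)) (hM : M.det ≠ 0) :
    ∃ (N : Matrix (Fin r) (Fin r) (PowerSeries k)) (e : Fin r → ℕ), IsUnit N ∧
      (∀ i, (N * M) i i = X ^ e i) ∧ (∀ i j, j < i → (N * M) i j = 0) := by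
  obtain ⟨e, v, hvL, hvlow, hvdiag, hgen⟩ := exists_triangular_vectors M hM
  -- every element of the lattice is in the span of the `v j`
  have hspan : ∀ d : ℕ, ∀ u : Fin r → PowerSeries k, u ∈ rowLat M →
      (∀ i : Fin r, i.val + d < r → u i = 0) →
      u ∈ Submodule.span (PowerSeries k) (Set.range v) := by
    intro d
    induction d with
    | zero =>
      intro u _ hu
      have : u = 0 := by
        funext i
        exact hu i (by simp)
      rw [this]
      exact Submodule.zero_mem _
    | succ d ih =>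
      intro u huL hu
      by_cases hd : d < r
      · let j : Fin r := ⟨r - d - 1, by omega⟩
        have hlow : ∀ i : Fin r, i < j → u i = 0 := by
          intro i hi
          apply hu
          have : i.val < r - d - 1 := hi
          omega
        obtain ⟨c, hc⟩ := hgen j u huL hlow
        have hu' : u - c • v j ∈ Submodule.span (PowerSeries k) (Set.range v) := by
          apply ih _ (Submodule.sub_mem _ huL (Submodule.smul_mem _ _ (hvL j)))
          intro i hi
          have hij : i.val ≤ r - d - 1 := by omega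
          rcases lt_or_eq_of_le hij with hlt | heq
          · have hij' : i < j := hlt
            simp [hlow i hij', hvlow j i hij']
          · have : i = j := Fin.ext heq
            rw [this]
            simp [hc, hvdiag j]
        have : u = (u - c • v j) + c • v j := by abel
        rw [this]
        exact Submodule.add_mem _ hu' (Submodule.smul_mem _ _ (Submodule.subset_span ⟨j, rfl⟩))
      · apply ih u huL
        intro i hi
        omega
  choose w hw using hvL
  have hrows : ∀ i : Fin r, ∃ c : Fin r → PowerSeries k, c ᵥ* (Matrix.of v) = M i := by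
    intro i
    have := hspan r (M i) (row_mem_rowLat M i) (fun i hi => by omega)
    rw [Submodule.mem_span_range_iff_exists_fun] at this
    obtain ⟨c, hc⟩ := this
    refine ⟨c, ?_⟩
    rw [Matrix.vecMul_eq_sum]
    exact hc
  choose c hc using hrows
  have hN₀ : Matrix.of w * M = Matrix.of v := by
    refine Matrix.ext fun i j => ?_
    rw [Matrix.mul_apply_eq_vecMul]
    exact congrFun (hw i) j
  have hN₁ : Matrix.of c * Matrix.of v = M := by
    refine Matrix.ext fun i j => ?_
    rw [Matrix.mul_apply_eq_vecMul]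
    exact congrFun (hc i) j
  have hone : Matrix.of w * Matrix.of c = 1 := by
    have h0 : (Matrix.of w * Matrix.of c - 1) * Matrix.of v = 0 := by
      rw [sub_mul, Matrix.mul_assoc, hN₁, hN₀, one_mul, sub_self]
    have h1 : Matrix.of w * Matrix.of c - 1 = 0 := by
      refine Matrix.ext fun i j => ?_
      have hrow : ((Matrix.of w * Matrix.of c - 1) i) ᵥ* Matrix.of v = 0 := by
        rw [← Matrix.mul_apply_eq_vecMul, h0]
        rfl
      have := coeff_zero_of_vecMul_lowZero (Matrix.of v) e (fun i => hvdiag i)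
        (fun i j hji => hvlow i j hji) ((Matrix.of w * Matrix.of c - 1) i) r
        (fun i _ => by rw [hrow]; rfl) j j.isLt
      exact this
    exact sub_eq_zero.mp h1
  refine ⟨Matrix.of w, e, ⟨⟨Matrix.of w, Matrix.of c, hone, mul_eq_one_comm.mp hone⟩, rfl⟩, ?_, ?_⟩
  · intro i
    rw [hN₀]
    exact hvdiag i
  · intro i j hji
    rw [hN₀]
    exact hvlow i j hji


/-- Reduction of a vector modulo the rows of index `≥ r - d` of a triangular matrix. -/
theorem exists_reduce_vector (A : Matrix (Fin r) (Fin r) (PowerSeries k)) (e : Fin r → ℕ)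
    (hd : ∀ i, A i i = X ^ e i) (ht : ∀ i j, j < i → A i j = 0) (d : ℕ) :
    ∀ w : Fin r → PowerSeries k, ∃ q : Fin r → PowerSeries k,
      (∀ j : Fin r, j.val + d < r → q j = 0) ∧
      ∀ l : Fin r, r ≤ l.val + d → ∀ n, e l ≤ n → coeff n ((w - q ᵥ* A) l) = 0 := by
  induction d with
  | zero =>
    intro w
    refine ⟨0, fun _ _ => rfl, fun l hl => ?_⟩
    have := l.isLt
    omega
  | succ d ih =>
    intro w
    by_cases hdr : d < r
    · let i : Fin r := ⟨r - d - 1, by omega⟩
      obtain ⟨s, hs⟩ := exists_quot (w i) (e i)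
      obtain ⟨q₂, hq₂, hred⟩ := ih (w - (Pi.single i s) ᵥ* A)
      refine ⟨Pi.single i s + q₂, ?_, ?_⟩
      · intro j hj
        have hji : j ≠ i := by
          intro h
          have : j.val = r - d - 1 := by rw [h]
          omega
        rw [Pi.add_apply, Pi.single_eq_of_ne hji, hq₂ j (by omega), add_zero]
      · intro l hl n hn
        have heq : w - (Pi.single i s + q₂) ᵥ* A = (w - (Pi.single i s) ᵥ* A) - q₂ ᵥ* A := by
          rw [Matrix.add_vecMul]; abel
        rw [heq]
        by_cases hli : r ≤ l.val + d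
        · exact hred l hli n hn
        · have hl' : l = i := Fin.ext (by change l.val = r - d - 1; omega)
          rw [hl']
          rw [hl'] at hn
          have h1 : (q₂ ᵥ* A) i = q₂ i * A i i :=
            vecMul_apply_of_lowZero A ht q₂ i (fun b hb => hq₂ b (by
              have : b.val < r - d - 1 := hb
              omega))
          have h2 : q₂ i = 0 := hq₂ i (by change r - d - 1 + d < r; omega)
          have h3 : ((Pi.single i s : Fin r → PowerSeries k) ᵥ* A) i = s * A i i := by
            rw [Matrix.single_vecMul]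
            rfl
          rw [Pi.sub_apply, Pi.sub_apply, h1, h2, zero_mul, sub_zero, h3, hd i]
          exact hs n hn
    · obtain ⟨q, _, hred⟩ := ih w
      refine ⟨q, fun j hj => ?_, fun l _ => hred l (by omega)⟩
      omega

/-- Series supported in the degrees satisfying `D`. -/
def SuppIn (D : ℕ → Prop) (c : PowerSeries k) : Prop := ∀ n, ¬ D n → coeff n c = 0

theorem suppIn_zero (D : ℕ → Prop) : SuppIn D (0 : PowerSeries k) := fun n _ => by simp

theorem SuppIn.add {D : ℕ → Prop} {a b : PowerSeries k} (ha : SuppIn D a) (hb : SuppIn D b) :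
    SuppIn D (a + b) := fun n hn => by rw [map_add, ha n hn, hb n hn, add_zero]

theorem SuppIn.mul {D : ℕ → Prop} (hD : ∀ a b, D a → D b → D (a + b)) {a b : PowerSeries k}
    (ha : SuppIn D a) (hb : SuppIn D b) : SuppIn D (a * b) := by
  intro n hn
  rw [coeff_mul]
  apply Finset.sum_eq_zero
  intro x hx
  rw [Finset.mem_antidiagonal] at hx
  by_cases h1 : D x.1
  · by_cases h2 : D x.2
    · exact absurd (hx ▸ hD _ _ h1 h2) hn
    · rw [hb _ h2, mul_zero]
  · rw [ha _ h1, zero_mul]

open Classical in
theorem exists_kill (D : ℕ → Prop) (g : PowerSeries k) (e : ℕ) :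
    ∃ c : PowerSeries k, SuppIn D c ∧
      ∀ n, (coeff n g = 0 ∨ (e ≤ n ∧ D (n - e))) → coeff n (g + c * X ^ e) = 0 := by
  refine ⟨-(mk fun m => if D m then coeff (m + e) g else 0), ?_, ?_⟩
  · intro n hn
    rw [map_neg, coeff_mk, if_neg hn, neg_zero]
  · intro n hn
    rw [map_add, coeff_mul_X_pow']
    by_cases hen : e ≤ n
    · rw [if_pos hen, map_neg, coeff_mk, Nat.sub_add_cancel hen]
      by_cases hDn : D (n - e)
      · rw [if_pos hDn, add_neg_cancel]
      · rw [if_neg hDn, neg_zero, add_zero]
        rcases hn with h | h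
        · exact h
        · exact absurd h.2 hDn
    · rw [if_neg hen, add_zero]
      rcases hn with h | h
      · exact h
      · exact absurd h.1 hen


/-- Entry formula for `(1 - vecMulVec x q) * A * (1 + vecMulVec x c)` with `x = Pi.single i 1`. -/
theorem step_apply (A : Matrix (Fin r) (Fin r) (PowerSeries k)) (i : Fin r)
    (q c : Fin r → PowerSeries k) (a b : Fin r) :
    ((1 - vecMulVec (Pi.single i 1) q) * A * (1 + vecMulVec (Pi.single i 1) c)) a b =
      (A a b - (Pi.single i 1 : Fin r → PowerSeries k) a * (q ᵥ* A) b) +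
        (A a i - (Pi.single i 1 : Fin r → PowerSeries k) a * (q ᵥ* A) i) * c b := by
  rw [Matrix.sub_mul, Matrix.one_mul, vecMulVec_mul, Matrix.mul_add, Matrix.mul_one,
    mul_vecMulVec, Matrix.add_apply, Matrix.sub_apply, vecMulVec_apply, vecMulVec_apply,
    mulVec_single_one]
  rfl

theorem vecMulVec_single_sq (i : Fin r) (q : Fin r → PowerSeries k) (hq : q i = 0) :
    vecMulVec (Pi.single i 1) q * vecMulVec (Pi.single i 1) q =
      (0 : Matrix (Fin r) (Fin r) (PowerSeries k)) := by
  rw [vecMulVec_mul, vecMul_vecMulVec, dotProduct_single_one, hq, zero_smul, vecMulVec_zero]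

theorem isUnit_one_sub_vecMulVec (i : Fin r) (q : Fin r → PowerSeries k) (hq : q i = 0) :
    IsUnit (1 - vecMulVec (Pi.single i 1) q : Matrix (Fin r) (Fin r) (PowerSeries k)) := by
  have hE := vecMulVec_single_sq i q hq
  have h : (1 - vecMulVec (Pi.single i 1) q) * (1 + vecMulVec (Pi.single i 1) q) =
      (1 : Matrix (Fin r) (Fin r) (PowerSeries k)) := by
    calc (1 - vecMulVec (Pi.single i 1) q) * (1 + vecMulVec (Pi.single i 1) q)
        = 1 - vecMulVec (Pi.single i 1) q * vecMulVec (Pi.single i 1) q := by noncomm_ring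
      _ = 1 := by rw [hE, sub_zero]
  exact ⟨⟨_, _, h, mul_eq_one_comm.mp h⟩, rfl⟩

theorem isUnit_one_add_vecMulVec (i : Fin r) (q : Fin r → PowerSeries k) (hq : q i = 0) :
    IsUnit (1 + vecMulVec (Pi.single i 1) q : Matrix (Fin r) (Fin r) (PowerSeries k)) := by
  have hE := vecMulVec_single_sq i q hq
  have h : (1 + vecMulVec (Pi.single i 1) q) * (1 - vecMulVec (Pi.single i 1) q) =
      (1 : Matrix (Fin r) (Fin r) (PowerSeries k)) := by
    calc (1 + vecMulVec (Pi.single i 1) q) * (1 - vecMulVec (Pi.single i 1) q)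
        = 1 - vecMulVec (Pi.single i 1) q * vecMulVec (Pi.single i 1) q := by noncomm_ring
      _ = 1 := by rw [hE, sub_zero]
  exact ⟨⟨_, _, h, mul_eq_one_comm.mp h⟩, rfl⟩

/-- `q ᵥ* A` vanishes at `b ≤ i` when `q` vanishes at indices `≤ i` and `A` is triangular. -/
theorem vecMul_eq_zero_of_le (A : Matrix (Fin r) (Fin r) (PowerSeries k))
    (ht : ∀ i j, j < i → A i j = 0) (q : Fin r → PowerSeries k) (i b : Fin r) (hb : b ≤ i)
    (hq : ∀ a : Fin r, a ≤ i → q a = 0) : (q ᵥ* A) b = 0 := by
  rw [Matrix.vecMul, dotProduct]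
  apply Finset.sum_eq_zero
  intro a _
  by_cases ha : a ≤ i
  · rw [hq a ha, zero_mul]
  · rw [ht a b (lt_of_le_of_lt hb (not_le.mp ha)), mul_zero]

/-- General reduction theorem: `D` is the set of degree offsets allowed in column operations. -/
theorem exists_reduced (D : ℕ → Prop) (hD : ∀ a b, D a → D b → D (a + b))
    (M : Matrix (Fin r) (Fin r) (PowerSeries k)) (hM : M.det ≠ 0) :
    ∃ (N P : Matrix (Fin r) (Fin r) (PowerSeries k)) (e : Fin r → ℕ), IsUnit N ∧ IsUnit P ∧
      (∀ i j, SuppIn D ((P - 1) i j)) ∧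
      (∀ i, (N * M * P) i i = X ^ e i) ∧ (∀ i j, j < i → (N * M * P) i j = 0) ∧
      (∀ i j, i < j → ∀ n, (e j ≤ n ∨ (e i ≤ n ∧ D (n - e i))) →
        coeff n ((N * M * P) i j) = 0) := by
  obtain ⟨N₀, e, hN₀, hdiag₀, hlow₀⟩ := exists_triangular M hM
  suffices H : ∀ d : ℕ, ∃ (N P : Matrix (Fin r) (Fin r) (PowerSeries k)), IsUnit N ∧ IsUnit P ∧
      (∀ i j, SuppIn D ((P - 1) i j)) ∧
      (∀ i, (N * M * P) i i = X ^ e i) ∧ (∀ i j, j < i → (N * M * P) i j = 0) ∧
      (∀ i j : Fin r, r ≤ i.val + d → i < j → ∀ n, (e j ≤ n ∨ (e i ≤ n ∧ D (n - e i))) →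
        coeff n ((N * M * P) i j) = 0) by
    obtain ⟨N, P, h1, h2, h3, h4, h5, h6⟩ := H r
    exact ⟨N, P, e, h1, h2, h3, h4, h5, fun i j hij => h6 i j (by omega) hij⟩
  intro d
  induction d with
  | zero =>
    refine ⟨N₀, 1, hN₀, isUnit_one, ?_, ?_, ?_, ?_⟩
    · intro i j
      rw [sub_self]
      exact suppIn_zero D
    · intro i
      rw [Matrix.mul_one]
      exact hdiag₀ i
    · intro i j hji
      rw [Matrix.mul_one]
      exact hlow₀ i j hji
    · intro i j hi
      have := i.isLt
      omega
  | succ d ih =>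
    obtain ⟨N, P, hN, hP, hPD, hdiag, hlow, hred⟩ := ih
    by_cases hdr : d < r
    · let i : Fin r := ⟨r - d - 1, by omega⟩
      set A := N * M * P with hA
      obtain ⟨q, hq0, hq⟩ := exists_reduce_vector A e hdiag hlow d (A i)
      have hq0' : ∀ a : Fin r, a ≤ i → q a = 0 := by
        intro a ha
        apply hq0
        have : a.val ≤ r - d - 1 := ha
        omega
      have hkill : ∀ l : Fin r, ∃ c : PowerSeries k, SuppIn D c ∧
          ∀ n, (coeff n ((A i - q ᵥ* A) l) = 0 ∨ (e i ≤ n ∧ D (n - e i))) →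
            coeff n ((A i - q ᵥ* A) l + c * X ^ e i) = 0 :=
        fun l => exists_kill D ((A i - q ᵥ* A) l) (e i)
      choose c hcD hc using hkill
      let c' : Fin r → PowerSeries k := fun l => if i < l then c l else 0
      have hc'D : ∀ l, SuppIn D (c' l) := by
        intro l
        by_cases hl : i < l
        · simp only [c', if_pos hl]; exact hcD l
        · simp only [c', if_neg hl]; exact suppIn_zero D
      have hc'0 : ∀ a : Fin r, a ≤ i → c' a = 0 := by
        intro a ha
        simp only [c', if_neg (not_lt.mpr ha)]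
      have hU := isUnit_one_sub_vecMulVec i q (hq0' i le_rfl)
      have hV := isUnit_one_add_vecMulVec i c' (hc'0 i le_rfl)
      have hform : (1 - vecMulVec (Pi.single i 1) q) * N * M *
          (P * (1 + vecMulVec (Pi.single i 1) c')) =
          (1 - vecMulVec (Pi.single i 1) q) * A * (1 + vecMulVec (Pi.single i 1) c') := by
        rw [hA]
        simp only [Matrix.mul_assoc]
      have hqA : ∀ b : Fin r, b ≤ i → (q ᵥ* A) b = 0 :=
        fun b hb => vecMul_eq_zero_of_le A hlow q i b hb hq0'
      refine ⟨(1 - vecMulVec (Pi.single i 1) q) * N, P * (1 + vecMulVec (Pi.single i 1) c'),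
        hU.mul hN, hP.mul hV, ?_, ?_, ?_, ?_⟩
      · -- support of P' - 1
        intro a b
        have : (P * (1 + vecMulVec (Pi.single i 1) c') - 1) a b =
            (P - 1) a b + ((P - 1) a i * c' b + (1 : Matrix (Fin r) (Fin r) (PowerSeries k)) a i * c' b) := by
          rw [Matrix.mul_add, Matrix.mul_one, mul_vecMulVec, Matrix.sub_apply, Matrix.add_apply,
            vecMulVec_apply, mulVec_single_one, Matrix.sub_apply, Matrix.sub_apply]
          change P a b + P a i * c' b - _ = _
          ring
        rw [this]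
        refine (hPD a b).add (((hPD a i).mul hD (hc'D b)).add ?_)
        by_cases hai : a = i
        · rw [hai, Matrix.one_apply_eq, one_mul]; exact hc'D b
        · rw [Matrix.one_apply_ne hai, zero_mul]; exact suppIn_zero D
      · -- diagonal
        intro a
        rw [hform, step_apply]
        by_cases hai : a = i
        · rw [hai, hqA i le_rfl, hc'0 i le_rfl, mul_zero, mul_zero, sub_zero, add_zero]
          exact hdiag i
        · rw [Pi.single_eq_of_ne hai, zero_mul, zero_mul, sub_zero, sub_zero]
          rcases lt_or_gt_of_ne hai with hlt | hgt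
          · rw [hc'0 a hlt.le, mul_zero, add_zero]
            exact hdiag a
          · rw [hlow a i hgt, zero_mul, add_zero]
            exact hdiag a
      · -- lower part
        intro a b hba
        rw [hform, step_apply]
        by_cases hai : a = i
        · rw [hai] at hba ⊢
          rw [hqA b hba.le, hqA i le_rfl, hc'0 b hba.le, mul_zero, mul_zero, sub_zero, add_zero]
          exact hlow i b hba
        · rw [Pi.single_eq_of_ne hai, zero_mul, zero_mul, sub_zero, sub_zero]
          rcases lt_or_gt_of_ne hai with hlt | hgt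
          · rw [hc'0 b (hba.le.trans hlt.le), mul_zero, add_zero]
            exact hlow a b hba
          · rw [hlow a i hgt, zero_mul, add_zero]
            exact hlow a b hba
      · -- reducedness
        intro a b ha hab n hn
        rw [hform, step_apply]
        by_cases hai : a = i
        · rw [hai] at hab hn ⊢
          rw [Pi.single_eq_same, one_mul, one_mul, hqA i le_rfl, sub_zero, hdiag i]
          have hcb : c' b = c b := by simp only [c', if_pos hab]
          rw [hcb, mul_comm (X ^ e i) (c b)]
          apply hc b n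
          rcases hn with h | h
          · left
            exact hq b (by
              have : r - d - 1 < b.val := hab
              omega) n h
          · right
            exact h
        · have hgt : i < a := by
            rcases lt_or_gt_of_ne hai with hlt | hgt
            · exfalso
              have : a.val < r - d - 1 := hlt
              omega
            · exact hgt
          rw [Pi.single_eq_of_ne hai, zero_mul, zero_mul, sub_zero, sub_zero, hlow a i hgt,
            zero_mul, add_zero]
          exact hred a b (by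
            have : r - d - 1 < a.val := hgt
            omega) hab n hn
    · refine ⟨N, P, hN, hP, hPD, hdiag, hlow, fun i j _ hij n hn => hred i j (by omega) hij n hn⟩


/-- Existence of the row-reduced form (no column operations). -/
theorem exists_rowReduced (M : Matrix (Fin r) (Fin r) (PowerSeries k)) (hM : M.det ≠ 0) :
    ∃ (N : Matrix (Fin r) (Fin r) (PowerSeries k)) (e : Fin r → ℕ), IsUnit N ∧
      (∀ i, (N * M) i i = X ^ e i) ∧ (∀ i j, j < i → (N * M) i j = 0) ∧
      (∀ i j, i < j → ∀ n, e j ≤ n → coeff n ((N * M) i j) = 0) := by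
  obtain ⟨N, P, e, hN, _, hPD, h1, h2, h3⟩ :=
    exists_reduced (fun _ => False) (fun _ _ h _ => h) M hM
  have hP : P = 1 := by
    have : P - 1 = 0 := by
      refine Matrix.ext fun i j => ?_
      ext n
      rw [hPD i j n (fun h => h)]
      simp
    exact sub_eq_zero.mp this
  rw [hP, Matrix.mul_one] at h1 h2 h3
  exact ⟨N, e, hN, h1, h2, fun i j hij n hn => h3 i j hij n (Or.inl hn)⟩

/-- Uniqueness of the row-reduced form. -/
theorem unique_rowReduced (M H H' : Matrix (Fin r) (Fin r) (PowerSeries k)) (e e' : Fin r → ℕ)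
    (hd : ∀ i, H i i = X ^ e i) (ht : ∀ i j, j < i → H i j = 0)
    (hr : ∀ i j, i < j → ∀ n, e j ≤ n → coeff n (H i j) = 0)
    (hd' : ∀ i, H' i i = X ^ e' i) (ht' : ∀ i j, j < i → H' i j = 0)
    (hr' : ∀ i j, i < j → ∀ n, e' j ≤ n → coeff n (H' i j) = 0)
    (N N' : Matrix (Fin r) (Fin r) (PowerSeries k)) (hN : IsUnit N) (hN' : IsUnit N')
    (h : N * M = H) (h' : N' * M = H') : H = H' := by
  obtain ⟨⟨N, Ni, hNNi, hNiN⟩, rfl⟩ := hN
  obtain ⟨⟨N', Ni', hNNi', hNiN'⟩, rfl⟩ := hN'
  simp only at h h'
  have hU : N' * Ni * H = H' := by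
    rw [← h, Matrix.mul_assoc, ← Matrix.mul_assoc Ni, hNiN, Matrix.one_mul, h']
  have hU' : N * Ni' * H' = H := by
    rw [← h', Matrix.mul_assoc, ← Matrix.mul_assoc Ni', hNiN', Matrix.one_mul, h]
  -- general facts about a matrix `U` with `U * H = H'`
  have gen : ∀ (H H' : Matrix (Fin r) (Fin r) (PowerSeries k)) (e e' : Fin r → ℕ)
      (_ : ∀ i, H i i = X ^ e i) (_ : ∀ i j, j < i → H i j = 0)
      (_ : ∀ i, H' i i = X ^ e' i) (_ : ∀ i j, j < i → H' i j = 0)
      (U : Matrix (Fin r) (Fin r) (PowerSeries k)) (_ : U * H = H') (i : Fin r),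
      (∀ b : Fin r, b < i → U i b = 0) ∧ X ^ e' i = U i i * X ^ e i := by
    intro H H' e e' hd ht hd' ht' U hUH i
    have hrow : (U i) ᵥ* H = H' i := by
      rw [← Matrix.mul_apply_eq_vecMul, hUH]
    have hlow : ∀ b : Fin r, b < i → U i b = 0 := by
      intro b hb
      refine coeff_zero_of_vecMul_lowZero H e hd ht (U i) i.val ?_ b hb
      intro a ha
      rw [hrow]
      exact ht' i a ha
    refine ⟨hlow, ?_⟩
    rw [← hd' i, ← hrow, vecMul_apply_of_lowZero H ht (U i) i hlow, hd i]
  have hee' : ∀ i, e i = e' i := by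
    intro i
    have h1 := (gen H H' e e' hd ht hd' ht' _ hU i).2
    have h2 := (gen H' H e' e hd' ht' hd ht _ hU' i).2
    have hX0 : (X : PowerSeries k) ≠ 0 := X_ne_zero
    have hXu : ¬ IsUnit (X : PowerSeries k) := X_irreducible.not_isUnit
    have le1 : e i ≤ e' i := (pow_dvd_pow_iff hX0 hXu).mp ⟨_, by rw [h1]; ring⟩
    have le2 : e' i ≤ e i := (pow_dvd_pow_iff hX0 hXu).mp ⟨_, by rw [h2]; ring⟩
    exact le_antisymm le1 le2
  refine Matrix.ext fun i => ?_
  have hrow : ((N' * Ni) i) ᵥ* H = H' i := by
    rw [← Matrix.mul_apply_eq_vecMul, hU]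
  obtain ⟨hlow, hdiagU⟩ := gen H H' e e' hd ht hd' ht' _ hU i
  have hUii : (N' * Ni) i i = 1 := by
    rw [← hee' i] at hdiagU
    have : (N' * Ni) i i * X ^ e i = 1 * X ^ e i := by rw [one_mul]; exact hdiagU.symm
    exact mul_right_cancel₀ (pow_ne_zero _ X_ne_zero) this
  set c : Fin r → PowerSeries k := (N' * Ni) i - Pi.single i 1 with hc
  have hcH : c ᵥ* H = H' i - H i := by
    rw [hc, Matrix.sub_vecMul, hrow, Matrix.single_one_vecMul]
    rfl
  have hcle : ∀ b : Fin r, b ≤ i → c b = 0 := by
    intro b hb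
    rcases lt_or_eq_of_le hb with hlt | heq
    · rw [hc, Pi.sub_apply, hlow b hlt, Pi.single_eq_of_ne (ne_of_lt hlt), sub_zero]
    · rw [heq, hc, Pi.sub_apply, hUii, Pi.single_eq_same, sub_self]
  have hc0 : ∀ n : ℕ, ∀ b : Fin r, b.val = n → c b = 0 := by
    intro n
    induction n using Nat.strong_induction_on with
    | _ n ih =>
    intro b hbn
    by_cases hbi : b ≤ i
    · exact hcle b hbi
    · have hib : i < b := not_le.mp hbi
      have h1 : (c ᵥ* H) b = c b * H b b :=
        vecMul_apply_of_lowZero H ht c b (fun a ha => ih a.val (by rw [← hbn]; exact ha) a rfl)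
      rw [hcH, hd b] at h1
      apply eq_zero_of_mul_X_pow_trunc (c b) (e b)
      intro n hn
      rw [← h1, Pi.sub_apply, map_sub, hr i b hib n hn, hr' i b hib n (by rw [← hee' b]; exact hn),
        sub_zero]
  have hczero : c = 0 := funext fun b => hc0 b.val b rfl
  have : H' i - H i = 0 := by rw [← hcH, hczero, Matrix.zero_vecMul]
  exact fun j => congrFun (sub_eq_zero.mp this).symm j

end Groth.Agent.Lib.Seat64.Hermite
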