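import Mathlib
import Groth.Prelude.Def_CohB1
import Groth.Prelude.Def_ClSub2
import Groth.Agent.Lib.Helper23SecTw7
import Groth.Agent.Lib.Helper23Restr
import Groth.Agent.Lib.Helper23AmpleIso

/-!
# Pairs of inverse invertible modules with sections on an integral proper scheme over a field

* `genLocus_ne_bot` : on an integral scheme, a nonzero section of an invertible module generates it
  on a nonempty open.
* `isIso_of_genLocus_eq_top`.
* `isIso_of_inverse_pair` : `X` integral, universally closed over a field, `L ⊗ M ≅ O`, `s`, `t`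
  sections generating somewhere: `s` and `t` are isomorphisms.
-/

set_option autoImplicit false
set_option linter.style.haveILetI false
universe u
open CategoryTheory Limits AlgebraicGeometry TopologicalSpace Opposite

namespace Groth.Agent.Lib.Seat64.InvPair

open Groth.Agent.Lib.Helper23.SecTw Groth.Agent.Lib.Helper23.GenLocus Groth.Agent.Lib.Helper6
  Groth.Agent.Lib.Helper23.TensorUnit Groth.Agent.Lib.Helper23.AmpleIso
  Groth.Agent.Lib.Helper23.Extend

variable {X : Scheme.{u}}

theorem isIso_of_genLocus_eq_top {L : X.Modules} (s : Coh.structureModule X ⟶ L)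
    (h : CohB1.genLocus L s = ⊤) : IsIso s := by
  rw [Scheme.Modules.Hom.isIso_iff_isIso_app]
  intro W
  rw [ConcreteCategory.isIso_iff_bijective]
  apply bijective_app_of_cover
  intro x _
  have hx : x ∈ CohB1.genLocus L s := by rw [h]; trivial
  exact (mem_genLocus_iff L s x).1 hx

theorem sv_top_eq_zero_of_cover {L : X.Modules} (s : Coh.structureModule X ⟶ L)
    (h : ∀ x : X, ∃ W : X.Opens, x ∈ W ∧ sv s W = 0) : s = 0 := by
  apply hom_ext_of_sv
  rw [Groth.Agent.Lib.Helper23.SecTw.sv_zero]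
  apply TopCat.Presheaf.section_ext (⟨L.presheaf, L.isSheaf⟩ : TopCat.Sheaf _ _) ⊤
  intro x hx
  obtain ⟨W, hxW, hW⟩ := h x
  have h1 : L.presheaf.germ W x hxW (res L (le_top : W ≤ ⊤) (sv s ⊤)) =
      L.presheaf.germ ⊤ x hx (sv s ⊤) :=
    TopCat.Presheaf.germ_res_apply L.presheaf (homOfLE (le_top : W ≤ ⊤)) x hxW (sv s ⊤)
  rw [res_sv, hW, map_zero] at h1
  rw [map_zero]
  exact h1.symm

theorem genLocus_ne_bot [IsIntegral X] {L : X.Modules} (hL : PicF.IsInvertible L)
    (s : Coh.structureModule X ⟶ L) (hs : s ≠ 0) : CohB1.genLocus L s ≠ ⊥ := by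
  intro hbot
  apply hs
  apply sv_top_eq_zero_of_cover
  intro x
  obtain ⟨W, e, hxW, he⟩ := exists_gen L hL x
  refine ⟨W, hxW, ?_⟩
  have h1 := genLocus_inf_eq_coef s he
  rw [hbot, bot_inf_eq] at h1
  have h2 : coef he le_rfl (sv s W) = 0 := (basicOpen_eq_bot_iff _).1 h1.symm
  rw [sv_eq_coef_smul s he, h2, zero_smul]

theorem isIso_of_inverse_pair (k : Type u) [Field k] [X.Over (Spec (CommRingCat.of k))]
    [IsIntegral X] [UniversallyClosed (X ↘ Spec (CommRingCat.of k))]
    {L M : X.Modules} (hL : PicF.IsInvertible L) (hM : PicF.IsInvertible M)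
    (ε : CohB1.tensorMod L M ≅ Coh.structureModule X)
    (s : Coh.structureModule X ⟶ L) (t : Coh.structureModule X ⟶ M)
    (hs : CohB1.genLocus L s ≠ ⊥) (ht : CohB1.genLocus M t ≠ ⊥) : IsIso s ∧ IsIso t := by
  have h1 := genLocus_eq_basicOpen (CohB1.tensorMod L M) ε (SecTwist.tmulHom s t)
  rw [genLocus_tmulHom hL hM s t] at h1
  have hfield : IsField Γ(X, ⊤) := isField_of_universallyClosed k (X ↘ Spec (CommRingCat.of k))
  have hf0 : endFun (SecTwist.tmulHom s t ≫ ε.hom) ⊤ ≠ 0 := by
    intro h0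
    rw [h0, Scheme.basicOpen_zero] at h1
    have hs' : (CohB1.genLocus L s : Set X).Nonempty := (Opens.ne_bot_iff_nonempty _).1 hs
    have ht' : (CohB1.genLocus M t : Set X).Nonempty := (Opens.ne_bot_iff_nonempty _).1 ht
    have h2 := nonempty_preirreducible_inter (CohB1.genLocus L s).2 (CohB1.genLocus M t).2 hs' ht'
    have h3 : ((CohB1.genLocus L s ⊓ CohB1.genLocus M t : X.Opens) : Set X).Nonempty := h2
    rw [h1] at h3
    exact Set.not_nonempty_empty h3
  have hu : IsUnit (endFun (SecTwist.tmulHom s t ≫ ε.hom) ⊤) :=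
    isUnit_iff_exists_inv.2 (hfield.mul_inv_cancel hf0)
  rw [Scheme.basicOpen_of_isUnit _ hu] at h1
  have hs2 : CohB1.genLocus L s = ⊤ := top_le_iff.1 (h1 ▸ inf_le_left)
  have ht2 : CohB1.genLocus M t = ⊤ := top_le_iff.1 (h1 ▸ inf_le_right)
  exact ⟨isIso_of_genLocus_eq_top s hs2, isIso_of_genLocus_eq_top t ht2⟩

end Groth.Agent.Lib.Seat64.InvPair
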