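import Mathlib
import Groth.Prelude.Def_Coh
import Groth.Agent.Lib.Seat64InvPair
import Groth.Agent.Lib.Helper2TensorInv

/-!
# Negative powers of an invertible module with sections in high powers have no sections

* `exists_hom_ne_zero_of_HH` : a nonzero class in `H^0(X, F)` gives a nonzero map `O ⟶ F`.
* `subsingleton_HH_tensorPow_inverse` : the statement of S14064.
-/

set_option autoImplicit false
set_option linter.style.haveILetI false
universe u
open CategoryTheory Limits AlgebraicGeometry TopologicalSpace Opposite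

namespace Groth.Agent.Lib.Seat64.InvPair

open Groth.Agent.Lib.Helper23.SecTw Groth.Agent.Lib.Helper23.GenLocus Groth.Agent.Lib.Helper6
  Groth.Agent.Lib.Helper23.TensorUnit Groth.Agent.Lib.Helper23.AmpleIso
  Groth.Agent.Lib.Helper23.Extend

variable {X : Scheme.{u}}

theorem exists_hom_ne_zero_of_HH (F : X.Modules) (x : Coh.HH X F 0) (hx : x ≠ 0) :
    ∃ s : Coh.structureModule X ⟶ F, s ≠ 0 := by
  let σ : Γ(F, ⊤) := Sheaf.H.equiv₀ (Coh.toAb F) Limits.isTerminalTop x
  have hσ : σ ≠ 0 := fun h =>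
    hx ((Sheaf.H.equiv₀ (Coh.toAb F) Limits.isTerminalTop).injective (h.trans (map_zero _).symm))
  refine ⟨secHom F σ, fun h0 => hσ ?_⟩
  have h1 := sv_secHom F σ ⊤
  rw [h0, Groth.Agent.Lib.Helper23.SecTw.sv_zero, res_self] at h1
  exact h1.symm

theorem subsingleton_HH_tensorPow_inverse (k : Type u) [Field k]
    [X.Over (Spec (CommRingCat.of k))] [UniversallyClosed (X ↘ (Spec (CommRingCat.of k)))]
    [IsIntegral X]
    (L M : X.Modules) (hL : PicF.IsInvertible L) (hM : ClSub.IsInverseOf M L)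
    (hsec : ∀ j : ℕ, 4 ≤ j → Nontrivial (Coh.HH X (CohB1.tensorPow L j) 0))
    (hnt : ∀ j : ℕ, 1 ≤ j → IsEmpty (CohB1.tensorPow L j ≅ Coh.structureModule X))
    (i : ℕ) (hi : 1 ≤ i) :
    Subsingleton (Coh.HH X (CohB1.tensorPow M i) 0) := by
  by_contra hns
  rw [not_subsingleton_iff_nontrivial] at hns
  obtain ⟨ε₀⟩ := hM
  have hMi : PicF.IsInvertible M :=
    Groth.Agent.Lib.Helper2.TensorInv.isInvertible_of_tensor_iso M L ε₀
  -- the section of `M^i`
  obtain ⟨x, hx⟩ := exists_ne (0 : Coh.HH X (CohB1.tensorPow M i) 0)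
  obtain ⟨t, ht⟩ := exists_hom_ne_zero_of_HH (CohB1.tensorPow M i) x hx
  -- the section of `L^{4i}`
  haveI := hsec (i * 4) (by omega)
  obtain ⟨y, hy⟩ := exists_ne (0 : Coh.HH X (CohB1.tensorPow L (i * 4)) 0)
  obtain ⟨s, hs⟩ := exists_hom_ne_zero_of_HH (CohB1.tensorPow L (i * 4)) y hy
  -- transport `t^4` to `M^{4i}`
  obtain ⟨Φ⟩ := nonempty_tensorPow_tensorPow_iso M hMi i 4 (i * 4) rfl
  have hMp : PicF.IsInvertible (CohB1.tensorPow M i) := isInvertible_tensorPow hMi i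
  have ht' : CohB1.genLocus (CohB1.tensorPow M (i * 4)) (SecTwist.powHom t 4 ≫ Φ.hom) ≠ ⊥ := by
    rw [genLocus_comp_iso, genLocus_powHom hMp t 4 (by norm_num)]
    exact genLocus_ne_bot hMp t ht
  have hs' : CohB1.genLocus (CohB1.tensorPow L (i * 4)) s ≠ ⊥ :=
    genLocus_ne_bot (isInvertible_tensorPow hL _) s hs
  -- the pairing
  obtain ⟨Φ₃⟩ := nonempty_tensorPow_tensorMod_iso M L hMi hL (i * 4)
  let ε : CohB1.tensorMod (CohB1.tensorPow M (i * 4)) (CohB1.tensorPow L (i * 4)) ≅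
      Coh.structureModule X :=
    Φ₃ ≪≫ tensorPowIso ε₀ (i * 4) ≪≫ tensorPowUnitIso (i * 4)
  obtain ⟨-, h2⟩ := isIso_of_inverse_pair k (isInvertible_tensorPow hMi _)
    (isInvertible_tensorPow hL _) ε (SecTwist.powHom t 4 ≫ Φ.hom) s ht' hs'
  exact (hnt (i * 4) (by omega)).false (asIso s).symm

end Groth.Agent.Lib.Seat64.InvPair
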