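import Mathlib
import Groth.Agent.Lib.Helper28Equidim

/-!
# Ring-theoretic lemmas for proper intersections (seat 64)

* `isEquidim_of_forall_le`: a ring with a prime contained in every prime is equidimensional.
* `dim_eq_height_add_dim_quotient`: in a catenary Noetherian local ring with a least prime,
  `dim R = ht p + dim R/p`.
* `ringKrullDim_eq_height_comap_of_isLocalization`: for a local localization `S = M⁻¹R`,
  `dim S = ht (𝔪_S ∩ R)`.
* `height_eq_one_of_mem_minimalPrimes`: Krull: a minimal prime over a nonzerodivisor has height one.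
-/

set_option autoImplicit false
universe u

namespace Groth.Agent.Lib.Seat64.ProperIntRing

theorem isEquidim_of_forall_le {R : Type u} [CommRing R] (p₀ : Ideal R) [hp₀ : p₀.IsPrime]
    (h : ∀ q : Ideal R, q.IsPrime → p₀ ≤ q) : EGA4.IsEquidim R := by
  intro p hp
  have hpp : p.IsPrime := hp.1.1
  have hle : p ≤ p₀ := hp.2 ⟨hp₀, bot_le⟩ (h p hpp)
  have hpe : p = p₀ := le_antisymm hle (h p hpp)
  subst hpe
  rw [ringKrullDim_quotient]
  have huniv : PrimeSpectrum.zeroLocus (R := R) (p : Set R) = Set.univ := by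
    ext q
    simp only [PrimeSpectrum.mem_zeroLocus, Set.mem_univ, iff_true]
    exact h q.asIdeal q.2
  rw [huniv]
  exact Order.krullDim_eq_of_orderIso OrderIso.Set.univ

theorem dim_eq_height_add_dim_quotient {R : Type u} [CommRing R] [IsLocalRing R]
    [IsNoetherianRing R] (hc : CAlg.IsCatenary R) (p₀ : Ideal R) [p₀.IsPrime]
    (h : ∀ q : Ideal R, q.IsPrime → p₀ ≤ q) (p : Ideal R) [p.IsPrime] :
    ringKrullDim R = ((p.height : ℕ∞) : WithBot ℕ∞) + ringKrullDim (R ⧸ p) :=
  (Groth.Agent.Lib.Helper28.height_add_ringKrullDim_quotient_eq_of_isEquidim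
    (isEquidim_of_forall_le p₀ h) hc p).symm

theorem ringKrullDim_eq_height_comap_of_isLocalization {R S : Type*} [CommRing R] [CommRing S]
    [Algebra R S] (M : Submonoid R) [IsLocalization M S] [IsLocalRing S] :
    ringKrullDim S =
      ((((IsLocalRing.maximalIdeal S).comap (algebraMap R S)).height : ℕ∞) : WithBot ℕ∞) := by
  rw [← IsLocalRing.maximalIdeal_height_eq_ringKrullDim]
  congr 1
  exact (IsLocalization.height_under M (IsLocalRing.maximalIdeal S)).symm

theorem height_eq_one_of_mem_minimalPrimes {Γ : Type*} [CommRing Γ] [IsNoetherianRing Γ] (c : Γ)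
    (hc : c ∈ nonZeroDivisors Γ) (q : Ideal Γ)
    (hq : q ∈ (Ideal.span {c}).minimalPrimes) : q.height = 1 := by
  apply le_antisymm
  · exact Ideal.height_le_one_of_isPrincipal_of_mem_minimalPrimes (Ideal.span {c}) q hq
  · exact (Ideal.one_le_height_span_singleton_of_mem_nonZeroDivisors hc).trans
      (Ideal.height_mono hq.1.2)

end Groth.Agent.Lib.Seat64.ProperIntRing
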