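import Mathlib
import Groth.Prelude.Def_BlowUp2
import Groth.Agent.Lib.Seat64ProperIntRing
import Groth.Agent.Lib.Helper5StalkSpec
import Groth.Agent.Lib.Helper4Pur21

/-!
# Proper intersection of an effective Cartier divisor with an integral closed subscheme (seat 64)

Scheme-level lemmas:
* `one_le_dim_of_mem_support`, `exists_generization_dim_eq_one`, `dim_eq_one_of_maximal`:
  points of (resp. maximal points of) an effective Cartier divisor on a locally Noetherian scheme.
* `dim_stalk_eq_add`: for a closed immersion `i : Z → X` of an integral scheme into an irreducible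
  locally Noetherian scheme, if `O_{X,i z}` is catenary then
  `dim O_{X,i z} = dim O_{X,i ξ} + dim O_{Z,z}`.
-/

set_option autoImplicit false
universe u
open CategoryTheory AlgebraicGeometry TopologicalSpace

namespace Groth.Agent.Lib.Seat64.ProperInt

section Affine

variable {X : Scheme.{u}} {U : X.Opens} (hU : IsAffineOpen U)

include hU in
theorem fromSpec_mem (q : PrimeSpectrum Γ(X, U)) : hU.fromSpec q ∈ U := by
  rw [← SetLike.mem_coe, ← hU.range_fromSpec]
  exact ⟨q, rfl⟩

theorem ringKrullDim_stalk_fromSpec (q : PrimeSpectrum Γ(X, U)) :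
    ringKrullDim (X.presheaf.stalk (hU.fromSpec q)) =
      ((q.asIdeal.height : ℕ∞) : WithBot ℕ∞) := by
  have h := hU.isLocalization_stalk' q (fromSpec_mem hU q)
  exact @IsLocalization.AtPrime.ringKrullDim_eq_height _ _ q.asIdeal _ _ _
    (TopCat.Presheaf.algebra_section_stalk X.presheaf ⟨hU.fromSpec q, fromSpec_mem hU q⟩) h

theorem fromSpec_mem_support_iff (𝓘 : X.IdealSheafData) (q : PrimeSpectrum Γ(X, U)) :
    hU.fromSpec q ∈ 𝓘.support ↔ 𝓘.ideal ⟨U, hU⟩ ≤ q.asIdeal := by
  rw [Scheme.IdealSheafData.mem_support_iff_of_mem (U := ⟨U, hU⟩) (fromSpec_mem hU q)]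
  have h1 := Set.ext_iff.mp (hU.fromSpec_preimage_zeroLocus (𝓘.ideal ⟨U, hU⟩ : Set Γ(X, U))) q
  exact h1.trans (PrimeSpectrum.mem_zeroLocus _ _)

theorem fromSpec_specializes {q q' : PrimeSpectrum Γ(X, U)} (h : q ≤ q') :
    hU.fromSpec q ⤳ hU.fromSpec q' :=
  ((PrimeSpectrum.le_iff_specializes q q').1 h).map hU.fromSpec.continuous

end Affine

section Cartier

variable {X : Scheme.{u}} [IsLocallyNoetherian X]

open Groth.Agent.Lib.Seat64.ProperIntRing

omit [IsLocallyNoetherian X] in
theorem ringKrullDim_stalk_eq_height_primeIdealOf {U : X.Opens} (hU : IsAffineOpen U) (x : X)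
    (hxU : x ∈ U) :
    ringKrullDim (X.presheaf.stalk x) =
      (((hU.primeIdealOf ⟨x, hxU⟩).asIdeal.height : ℕ∞) : WithBot ℕ∞) := by
  have h := ringKrullDim_stalk_fromSpec hU (hU.primeIdealOf ⟨x, hxU⟩)
  have hqx : hU.fromSpec (hU.primeIdealOf ⟨x, hxU⟩) = x := hU.fromSpec_primeIdealOf ⟨x, hxU⟩
  rw [hqx] at h
  exact h

omit [IsLocallyNoetherian X] in
theorem ideal_le_primeIdealOf (𝓘 : X.IdealSheafData) {U : X.Opens} (hU : IsAffineOpen U) (x : X)
    (hxU : x ∈ U) (hx : x ∈ 𝓘.support) :
    𝓘.ideal ⟨U, hU⟩ ≤ (hU.primeIdealOf ⟨x, hxU⟩).asIdeal := by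
  have hqx : hU.fromSpec (hU.primeIdealOf ⟨x, hxU⟩) = x := hU.fromSpec_primeIdealOf ⟨x, hxU⟩
  rw [← fromSpec_mem_support_iff hU 𝓘, hqx]
  exact hx

/-- A point of the support of an effective Cartier ideal has a local ring of dimension `≥ 1`. -/
theorem one_le_dim_of_mem_support (𝓘 : X.IdealSheafData) (hY : BlowUp.IsEffCartierIdeal 𝓘)
    (x : X) (hx : x ∈ 𝓘.support) : (1 : WithBot ℕ∞) ≤ ringKrullDim (X.presheaf.stalk x) := by
  obtain ⟨U, hxU, f, hf, hI⟩ := hY x
  have hU : IsAffineOpen U.1 := U.2
  have : IsNoetherianRing Γ(X, U.1) := IsLocallyNoetherian.component_noetherian U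
  have hle := ideal_le_primeIdealOf 𝓘 hU x hxU hx
  have hI' : 𝓘.ideal ⟨U.1, hU⟩ = Ideal.span {f} := hI
  rw [hI'] at hle
  rw [ringKrullDim_stalk_eq_height_primeIdealOf hU x hxU]
  have h1 := (Ideal.one_le_height_span_singleton_of_mem_nonZeroDivisors hf).trans
    (Ideal.height_mono hle)
  exact_mod_cast h1

/-- Every point of an effective Cartier divisor has a generization in the divisor whose local
ring has dimension one. -/
theorem exists_generization_dim_eq_one (𝓘 : X.IdealSheafData) (hY : BlowUp.IsEffCartierIdeal 𝓘)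
    (x : X) (hx : x ∈ 𝓘.support) :
    ∃ y : X, y ∈ 𝓘.support ∧ y ⤳ x ∧ ringKrullDim (X.presheaf.stalk y) = 1 := by
  obtain ⟨U, hxU, f, hf, hI⟩ := hY x
  have hU : IsAffineOpen U.1 := U.2
  have : IsNoetherianRing Γ(X, U.1) := IsLocallyNoetherian.component_noetherian U
  have hqx : hU.fromSpec (hU.primeIdealOf ⟨x, hxU⟩) = x := hU.fromSpec_primeIdealOf ⟨x, hxU⟩
  have hle := ideal_le_primeIdealOf 𝓘 hU x hxU hx
  have hI' : 𝓘.ideal ⟨U.1, hU⟩ = Ideal.span {f} := hI
  rw [hI'] at hle
  obtain ⟨q, hq, hqle⟩ := Ideal.exists_minimalPrimes_le hle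
  have hqp : q.IsPrime := hq.1.1
  refine ⟨hU.fromSpec ⟨q, hqp⟩, ?_, ?_, ?_⟩
  · rw [fromSpec_mem_support_iff hU 𝓘, hI']
    exact hq.1.2
  · rw [← hqx]
    exact fromSpec_specializes hU hqle
  · rw [ringKrullDim_stalk_fromSpec, height_eq_one_of_mem_minimalPrimes f hf q hq]
    rfl

/-- A point of an effective Cartier divisor without proper generizations inside the divisor has a
local ring of dimension one. -/
theorem dim_eq_one_of_maximal (𝓘 : X.IdealSheafData) (hY : BlowUp.IsEffCartierIdeal 𝓘)
    (x : X) (hx : x ∈ 𝓘.support) (hmax : ∀ y ∈ 𝓘.support, y ⤳ x → y = x) :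
    ringKrullDim (X.presheaf.stalk x) = 1 := by
  obtain ⟨y, hy, hyx, hdim⟩ := exists_generization_dim_eq_one 𝓘 hY x hx
  have := hmax y hy hyx
  subst this
  exact hdim

end Cartier

section Dim

open Groth.Agent.Lib.Seat64.ProperIntRing

/-- In an irreducible scheme, the local ring at any point has a least prime ideal. -/
theorem exists_least_prime {X : Scheme.{u}} [IrreducibleSpace X] (x : X) :
    ∃ p₀ : Ideal (X.presheaf.stalk x), p₀.IsPrime ∧
      ∀ q : Ideal (X.presheaf.stalk x), q.IsPrime → p₀ ≤ q := by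
  have hη : genericPoint X ⤳ x := (genericPoint_spec X).specializes trivial
  refine ⟨(IsLocalRing.maximalIdeal (X.presheaf.stalk (genericPoint X))).comap
    (X.presheaf.stalkSpecializes hη).hom, Ideal.comap_isPrime _ _, ?_⟩
  intro q hq
  set 𝔮 : Spec (X.presheaf.stalk x) := ⟨q, hq⟩ with h𝔮
  have hsp : X.fromSpecStalk x 𝔮 ⤳ x := Groth.Agent.Lib.Helper4.Pur21.fromSpecStalk_specializes X x 𝔮
  have hη' : genericPoint X ⤳ X.fromSpecStalk x 𝔮 := (genericPoint_spec X).specializes trivial
  have hcomp : X.presheaf.stalkSpecializes hsp ≫ X.presheaf.stalkSpecializes hη' =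
      X.presheaf.stalkSpecializes hη := X.presheaf.stalkSpecializes_comp hη' hsp
  have hq' := Groth.Agent.Lib.Helper4.Pur21.comap_stalkSpecializes_maximalIdeal X x 𝔮 hsp
  have hq'' : q = (IsLocalRing.maximalIdeal (X.presheaf.stalk (X.fromSpecStalk x 𝔮))).comap
      (X.presheaf.stalkSpecializes hsp).hom := hq'.symm
  rw [hq'', ← hcomp, CommRingCat.hom_comp, ← Ideal.comap_comap]
  apply Ideal.comap_mono
  apply IsLocalRing.le_maximalIdeal
  exact (Ideal.comap_isPrime _ _).ne_top

/-- For a closed immersion `i : Z → X` of an integral scheme into an irreducible locally Noetherian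
scheme and a point `z` of `Z` with `O_{X,i z}` catenary:
`dim O_{X,i z} = dim O_{X,i ξ} + dim O_{Z,z}` (`ξ` the generic point of `Z`). -/
theorem dim_stalk_eq_add {X Z : Scheme.{u}} [IsLocallyNoetherian X] [IrreducibleSpace X]
    (i : Z ⟶ X) [IsClosedImmersion i] [IsIntegral Z] (z : Z)
    (hcat : CAlg.IsCatenary (X.presheaf.stalk (i z))) :
    ringKrullDim (X.presheaf.stalk (i z)) =
      ringKrullDim (X.presheaf.stalk (i (genericPoint Z))) +
        ringKrullDim (Z.presheaf.stalk z) := by
  obtain ⟨p₀, hp₀, hleast⟩ := exists_least_prime (i z)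
  have hsurj : Function.Surjective (i.stalkMap z).hom := i.stalkMap_surjective z
  set p : Ideal (X.presheaf.stalk (i z)) := RingHom.ker (i.stalkMap z).hom with hp
  have hpp : p.IsPrime := RingHom.ker_isPrime _
  -- the quotient by `p` is the local ring of `Z`
  have hquot : ringKrullDim (X.presheaf.stalk (i z) ⧸ p) = ringKrullDim (Z.presheaf.stalk z) :=
    ringKrullDim_eq_of_ringEquiv (RingHom.quotientKerEquivOfSurjective hsurj)
  -- the dimension formula
  have hdim := dim_eq_height_add_dim_quotient hcat p₀ hleast p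
  -- the height of `p` is the dimension of the local ring at the generic point of `Z`
  have hξ : genericPoint Z ⤳ z := (genericPoint_spec Z).specializes trivial
  have hiξ : i (genericPoint Z) ⤳ i z := i.base.hom.map_specializes hξ
  have hsq := Scheme.Hom.stalkSpecializes_stalkMap i (genericPoint Z) z hξ
  have hinjZ : Function.Injective (Z.presheaf.stalkSpecializes hξ).hom :=
    Groth.Agent.Lib.Helper4.Pur21.injective_stalkSpecializes Z hξ
  -- kernel of the stalk map at the generic point is the maximal ideal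
  have hkerξ : RingHom.ker (i.stalkMap (genericPoint Z)).hom =
      IsLocalRing.maximalIdeal (X.presheaf.stalk (i (genericPoint Z))) := by
    have hsurjξ : Function.Surjective (i.stalkMap (genericPoint Z)).hom :=
      i.stalkMap_surjective (genericPoint Z)
    let _ : Field (Z.presheaf.stalk (genericPoint Z)) :=
      inferInstanceAs (Field Z.functionField)
    have hmax : (RingHom.ker (i.stalkMap (genericPoint Z)).hom).IsMaximal :=
      RingHom.ker_isMaximal_of_surjective _ hsurjξ
    exact IsLocalRing.eq_maximalIdeal hmax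
  have hpeq : p = (IsLocalRing.maximalIdeal (X.presheaf.stalk (i (genericPoint Z)))).comap
      (X.presheaf.stalkSpecializes hiξ).hom := by
    rw [← hkerξ, RingHom.comap_ker, ← CommRingCat.hom_comp, hsq, CommRingCat.hom_comp, hp]
    ext a
    rw [RingHom.mem_ker, RingHom.mem_ker, RingHom.comp_apply]
    constructor
    · intro h
      rw [h, map_zero]
    · intro h
      exact hinjZ (by rw [h, map_zero])
  have hht : ringKrullDim (X.presheaf.stalk (i (genericPoint Z))) =
      ((p.height : ℕ∞) : WithBot ℕ∞) := by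
    let _ := (X.presheaf.stalkSpecializes hiξ).hom.toAlgebra
    obtain ⟨M, hM⟩ := Groth.Agent.Lib.Helper5.StalkSpec.exists_isLocalization_stalkSpecializes X hiξ
    rw [ringKrullDim_eq_height_comap_of_isLocalization M, hpeq]
    rfl
  rw [hdim, hht, hquot]

end Dim

end Groth.Agent.Lib.Seat64.ProperInt
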