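import Mathlib
import Groth.Agent.Lib.Seat64AbQuasiIso

/-!
# Free simplicial abelian groups, normalized elements (helper64)
-/

set_option autoImplicit false
open CategoryTheory AlgebraicTopology AlgebraicTopology.DoldKan Simplicial Opposite DoldKan

universe u

namespace Groth.Agent.Lib.Seat64.SimpFree

/-- Underlying simplicial set of a simplicial abelian group. -/
abbrev U : SimplicialObject AddCommGrpCat.{u} ⥤ SSet.{u} :=
  (SimplicialObject.whiskering _ _).obj (forget AddCommGrpCat.{u})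

/-- Free simplicial abelian group on a simplicial set. -/
abbrev Z : SSet.{u} ⥤ SimplicialObject AddCommGrpCat.{u} :=
  (SimplicialObject.whiskering _ _).obj AddCommGrpCat.free.{u}

lemma hom_sum_apply {M N : AddCommGrpCat.{u}} {ι : Type*} (s : Finset ι) (f : ι → (M ⟶ N))
    (x : M) : (∑ i ∈ s, f i : M ⟶ N) x = ∑ i ∈ s, f i x := by
  classical
  induction s using Finset.induction_on with
  | empty => simp
  | insert a s ha ih =>
    rw [Finset.sum_insert ha, Finset.sum_insert ha, AddCommGrpCat.hom_add_apply, ih]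

lemma hom_zsmul_apply {M N : AddCommGrpCat.{u}} (n : ℤ) (f : M ⟶ N) (x : M) :
    (n • f : M ⟶ N) x = n • f x := rfl

lemma lift_id_map_of {A B : Type u} [AddCommGroup A] [AddCommGroup B] (g : A →+ B) (a : A) :
    FreeAbelianGroup.lift id (FreeAbelianGroup.map g (FreeAbelianGroup.of a)) =
      g (FreeAbelianGroup.lift id (FreeAbelianGroup.of a)) := by
  simp

lemma lift_id_iota_aux {A : Type u} [AddCommGroup A] (x : A) :
    FreeAbelianGroup.lift id (FreeAbelianGroup.of x - FreeAbelianGroup.of (0 : A)) = x := by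
  simp

lemma map_iota_aux {A B : Type u} [AddCommGroup A] [AddCommGroup B] (g : A →+ B) (x : A) :
    FreeAbelianGroup.map g (FreeAbelianGroup.of x - FreeAbelianGroup.of (0 : A)) =
      FreeAbelianGroup.of (g x) - FreeAbelianGroup.of (0 : B) := by
  simp

variable (X : SimplicialObject AddCommGrpCat.{u})

/-- The counit `ℤ[X] ⟶ X`. -/
noncomputable def counit : Z.obj (U.obj X) ⟶ X where
  app Δ := AddCommGrpCat.ofHom (FreeAbelianGroup.lift (id : X.obj Δ → X.obj Δ))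
  naturality Δ Δ' θ := by
    apply AddCommGrpCat.hom_ext
    apply FreeAbelianGroup.lift_ext
    intro a
    exact lift_id_map_of (X.map θ).hom a

/-- The (non-additive) pointed unit `x ↦ [x] - [0]`. -/
noncomputable def iota {A : AddCommGrpCat.{u}} (x : A) : FreeAbelianGroup A :=
  FreeAbelianGroup.of x - FreeAbelianGroup.of 0

lemma iota_zero {A : AddCommGrpCat.{u}} : iota (0 : A) = 0 := sub_self _

lemma counit_iota (Δ : SimplexCategoryᵒᵖ) (x : X.obj Δ) :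
    (counit X).app Δ (iota x : FreeAbelianGroup (X.obj Δ)) = x := by
  exact lift_id_iota_aux x

lemma map_iota {Y : SimplicialObject AddCommGrpCat.{u}} (f : X ⟶ Y) (Δ : SimplexCategoryᵒᵖ)
    (x : X.obj Δ) :
    (Z.map (U.map f)).app Δ (iota x : FreeAbelianGroup (X.obj Δ)) =
      (iota (f.app Δ x) : FreeAbelianGroup (Y.obj Δ)) := by
  exact map_iota_aux (f.app Δ).hom x

lemma δ_iota (n : ℕ) (i : Fin (n + 2)) (x : X _⦋n + 1⦌) :
    (Z.obj (U.obj X)).δ i (iota x : FreeAbelianGroup (X _⦋n + 1⦌)) =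
      (iota (X.δ i x) : FreeAbelianGroup (X _⦋n⦌)) := by
  exact map_iota_aux (X.δ i).hom x

/-- Normalized elements: all faces except possibly the `0`-th vanish. -/
def IsNorm (n : ℕ) (x : X _⦋n⦌) : Prop :=
  match n, x with
  | 0, _ => True
  | m + 1, x => ∀ j : Fin (m + 1), X.δ j.succ x = 0

lemma isNorm_PInfty (n : ℕ) (x : X _⦋n⦌) :
    IsNorm X n ((PInfty : K[X] ⟶ K[X]).f n x) := by
  cases n with
  | zero => trivial
  | succ m =>
    intro j
    have h := HigherFacesVanish.of_P (X := X) (m + 1) m j (by omega)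
    rw [← PInfty_f] at h
    exact ConcreteCategory.congr_hom h x

lemma d_of_isNorm (n : ℕ) (y : X _⦋n + 1⦌) (h : IsNorm X (n + 1) y) :
    (K[X]).d (n + 1) n y = X.δ 0 y := by
  rw [AlternatingFaceMapComplex.obj_d_eq, hom_sum_apply, Fin.sum_univ_succ]
  have h0 : ∀ j : Fin (n + 1), ((-1 : ℤ) ^ (j.succ : ℕ) • X.δ j.succ : X _⦋n + 1⦌ ⟶ X _⦋n⦌) y = 0 := by
    intro j
    rw [hom_zsmul_apply, h j, smul_zero]
  rw [Finset.sum_eq_zero (fun j _ => h0 j), add_zero, hom_zsmul_apply]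
  simp

lemma isNorm_iota (n : ℕ) (x : X _⦋n⦌) (h : IsNorm X n x) :
    IsNorm (Z.obj (U.obj X)) n (iota x : FreeAbelianGroup (X _⦋n⦌)) := by
  cases n with
  | zero => trivial
  | succ m =>
    intro j
    rw [δ_iota, h j, iota_zero]
    rfl

lemma cycle_iota (n : ℕ) (x : X _⦋n⦌) (h : IsNorm X n x) (hc : ∀ k, (K[X]).d n k x = 0) :
    ∀ k, (K[Z.obj (U.obj X)]).d n k (iota x : FreeAbelianGroup (X _⦋n⦌)) = 0 := by
  intro k
  by_cases hk : k + 1 = n
  · subst hk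
    rw [d_of_isNorm _ _ _ (isNorm_iota X _ x h), δ_iota, ← d_of_isNorm X _ _ h, hc, iota_zero]
    rfl
  · rw [(K[Z.obj (U.obj X)]).shape n k (by simpa using hk)]
    rfl

variable {X}
variable {Y : SimplicialObject AddCommGrpCat.{u}}

lemma counit_naturality (f : X ⟶ Y) : Z.map (U.map f) ≫ counit Y = counit X ≫ f := by
  ext Δ : 2
  apply FreeAbelianGroup.lift_ext
  intro a
  exact lift_id_map_of (f.app Δ).hom a

lemma counit_naturality_apply (f : X ⟶ Y) (Δ : SimplexCategoryᵒᵖ)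
    (a : (Z.obj (U.obj X)).obj Δ) :
    (counit Y).app Δ ((Z.map (U.map f)).app Δ a) = f.app Δ ((counit X).app Δ a) :=
  ConcreteCategory.congr_hom (congrArg (fun t => t.app Δ) (counit_naturality f)) a

/-- A homotopy of simplicial sets induces a chain homotopy on free simplicial abelian groups. -/
noncomputable def freeChainHomotopy {S T : SSet.{u}} {a b : S ⟶ T} (H : SSet.Homotopy a b) :
    Homotopy ((alternatingFaceMapComplex AddCommGrpCat.{u}).map (Z.map a))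
      ((alternatingFaceMapComplex AddCommGrpCat.{u}).map (Z.map b)) :=
  (H.toSimplicialObjectHomotopy.whiskerRight AddCommGrpCat.free.{u}).toChainHomotopy

lemma nonempty_homotopy_id {S T : SSet.{u}} (a : S ⟶ T) (b : T ⟶ S)
    (h : Nonempty (SSet.Homotopy (a ≫ b) (𝟙 _)) ∨ Nonempty (SSet.Homotopy (𝟙 _) (a ≫ b))) :
    Nonempty (Homotopy
      ((alternatingFaceMapComplex AddCommGrpCat.{u}).map (Z.map a) ≫
        (alternatingFaceMapComplex AddCommGrpCat.{u}).map (Z.map b)) (𝟙 _)) := by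
  rcases h with ⟨⟨H⟩⟩ | ⟨⟨H⟩⟩
  · have h1 := freeChainHomotopy H
    rw [CategoryTheory.Functor.map_comp, CategoryTheory.Functor.map_comp,
      CategoryTheory.Functor.map_id, CategoryTheory.Functor.map_id] at h1
    exact ⟨h1⟩
  · have h1 := (freeChainHomotopy H).symm
    rw [CategoryTheory.Functor.map_comp, CategoryTheory.Functor.map_comp,
      CategoryTheory.Functor.map_id, CategoryTheory.Functor.map_id] at h1
    exact ⟨h1⟩

theorem quasiIso_free (f : X ⟶ Y) (g : U.obj Y ⟶ U.obj X)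
    (hX : Nonempty (SSet.Homotopy (U.map f ≫ g) (𝟙 _)) ∨
      Nonempty (SSet.Homotopy (𝟙 _) (U.map f ≫ g)))
    (hY : Nonempty (SSet.Homotopy (g ≫ U.map f) (𝟙 _)) ∨
      Nonempty (SSet.Homotopy (𝟙 _) (g ≫ U.map f))) :
    QuasiIso ((alternatingFaceMapComplex AddCommGrpCat.{u}).map (Z.map (U.map f))) := by
  obtain ⟨h1⟩ := nonempty_homotopy_id _ _ hX
  obtain ⟨h2⟩ := nonempty_homotopy_id _ _ hY
  let e : HomotopyEquiv (K[Z.obj (U.obj X)]) (K[Z.obj (U.obj Y)]) :=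
    { hom := (alternatingFaceMapComplex AddCommGrpCat.{u}).map (Z.map (U.map f))
      inv := (alternatingFaceMapComplex AddCommGrpCat.{u}).map (Z.map g)
      homotopyHomInvId := h1
      homotopyInvHomId := h2 }
  exact e.quasiIso_hom

lemma hom_comm_apply {ι : Type*} {c : ComplexShape ι} {K L : HomologicalComplex Ab.{u} c}
    (φ : K ⟶ L) (i j : ι) (x : K.X i) : φ.f j (K.d i j x) = L.d i j (φ.f i x) :=
  (ConcreteCategory.congr_hom (φ.comm i j) x).symm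

lemma PInfty_naturality_apply (f : X ⟶ Y) (n : ℕ) (x : X _⦋n⦌) :
    (PInfty : K[Y] ⟶ K[Y]).f n (f.app (op ⦋n⦌) x) =
      f.app (op ⦋n⦌) ((PInfty : K[X] ⟶ K[X]).f n x) :=
  ConcreteCategory.congr_hom (PInfty_f_naturality n f) x

lemma app_d {A B : SimplicialObject AddCommGrpCat.{u}} (g : A ⟶ B) (i j : ℕ) (a : A _⦋i⦌) :
    g.app (op ⦋j⦌) ((K[A]).d i j a) = (K[B]).d i j (g.app (op ⦋i⦌) a) :=
  hom_comm_apply ((alternatingFaceMapComplex AddCommGrpCat.{u}).map g) i j a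

lemma PInfty_d (i j : ℕ) (a : X _⦋i⦌) :
    (PInfty : K[X] ⟶ K[X]).f j ((K[X]).d i j a) =
      (K[X]).d i j ((PInfty : K[X] ⟶ K[X]).f i a) :=
  hom_comm_apply (PInfty : K[X] ⟶ K[X]) i j a

theorem quasiIso_of_quasiIso_free (f : X ⟶ Y)
    (hq : QuasiIso ((alternatingFaceMapComplex AddCommGrpCat.{u}).map (Z.map (U.map f)))) :
    QuasiIso ((alternatingFaceMapComplex AddCommGrpCat.{u}).map f) := by
  rw [quasiIso_iff]
  intro n
  have hq' := (AbQuasiIso.quasiIsoAt_iff_elem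
    ((alternatingFaceMapComplex AddCommGrpCat.{u}).map (Z.map (U.map f))) (n + 1) n
    (by simp)).1 (hq.quasiIsoAt n)
  rw [AbQuasiIso.quasiIsoAt_iff_elem _ (n + 1) n (by simp)]
  obtain ⟨hinj, hsurj⟩ := hq'
  replace hinj : ∀ x : (Z.obj (U.obj X)) _⦋n⦌, (∀ k, (K[Z.obj (U.obj X)]).d n k x = 0) →
      (∃ y : (Z.obj (U.obj Y)) _⦋n + 1⦌,
        (K[Z.obj (U.obj Y)]).d (n + 1) n y = (Z.map (U.map f)).app (op ⦋n⦌) x) →
      ∃ z : (Z.obj (U.obj X)) _⦋n + 1⦌, (K[Z.obj (U.obj X)]).d (n + 1) n z = x := hinj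
  replace hsurj : ∀ y : (Z.obj (U.obj Y)) _⦋n⦌, (∀ k, (K[Z.obj (U.obj Y)]).d n k y = 0) →
      ∃ x : (Z.obj (U.obj X)) _⦋n⦌, (∀ k, (K[Z.obj (U.obj X)]).d n k x = 0) ∧
        ∃ w : (Z.obj (U.obj Y)) _⦋n + 1⦌,
          (K[Z.obj (U.obj Y)]).d (n + 1) n w = (Z.map (U.map f)).app (op ⦋n⦌) x - y := hsurj
  change (∀ x : X _⦋n⦌, (∀ k, (K[X]).d n k x = 0) →
      (∃ y : Y _⦋n + 1⦌, (K[Y]).d (n + 1) n y = f.app (op ⦋n⦌) x) →
      ∃ z : X _⦋n + 1⦌, (K[X]).d (n + 1) n z = x) ∧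
    (∀ y : Y _⦋n⦌, (∀ k, (K[Y]).d n k y = 0) →
      ∃ x : X _⦋n⦌, (∀ k, (K[X]).d n k x = 0) ∧
        ∃ w : Y _⦋n + 1⦌, (K[Y]).d (n + 1) n w = f.app (op ⦋n⦌) x - y)
  constructor
  · rintro x hx ⟨y, hy⟩
    obtain ⟨x₁, hx₁⟩ : ∃ x₁ : X _⦋n⦌, x₁ = (PInfty : K[X] ⟶ K[X]).f n x := ⟨_, rfl⟩
    obtain ⟨y₁, hy₁⟩ : ∃ y₁ : Y _⦋n + 1⦌, y₁ = (PInfty : K[Y] ⟶ K[Y]).f (n + 1) y := ⟨_, rfl⟩
    obtain ⟨w, hw⟩ : ∃ w : X _⦋n + 1⦌, (K[X]).d (n + 1) n w = x₁ - x := by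
      rw [hx₁]
      exact AbQuasiIso.exists_boundary_of_homotopy (homotopyPInftyToId X) (n + 1) n
        (by simp) x hx
    have hx₁c : ∀ k, (K[X]).d n k x₁ = 0 := by
      intro k
      rw [hx₁, ← PInfty_d, hx, map_zero]
    have hx₁n : IsNorm X n x₁ := hx₁ ▸ isNorm_PInfty X n x
    have hy₁n : IsNorm Y (n + 1) y₁ := hy₁ ▸ isNorm_PInfty Y (n + 1) y
    have hy₁' : (K[Y]).d (n + 1) n y₁ = f.app (op ⦋n⦌) x₁ := by
      rw [hy₁, hx₁, ← PInfty_d, hy]
      exact PInfty_naturality_apply f n x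
    have hα := cycle_iota X n _ hx₁n hx₁c
    have hβ : (K[Z.obj (U.obj Y)]).d (n + 1) n (iota y₁ : FreeAbelianGroup (Y _⦋n + 1⦌)) =
        (Z.map (U.map f)).app (op ⦋n⦌) (iota x₁ : FreeAbelianGroup (X _⦋n⦌)) := by
      rw [d_of_isNorm _ _ _ (isNorm_iota Y _ _ hy₁n), δ_iota, ← d_of_isNorm Y _ _ hy₁n, hy₁']
      exact (map_iota X f _ _).symm
    obtain ⟨γ, hγ⟩ := hinj _ hα ⟨_, hβ⟩
    refine ⟨(counit X).app (op ⦋n + 1⦌) γ - w, ?_⟩
    rw [map_sub, hw, ← app_d, hγ, counit_iota]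
    abel
  · intro y hy
    obtain ⟨y₁, hy₁⟩ : ∃ y₁ : Y _⦋n⦌, y₁ = (PInfty : K[Y] ⟶ K[Y]).f n y := ⟨_, rfl⟩
    obtain ⟨w, hw⟩ : ∃ w : Y _⦋n + 1⦌, (K[Y]).d (n + 1) n w = y₁ - y := by
      rw [hy₁]
      exact AbQuasiIso.exists_boundary_of_homotopy (homotopyPInftyToId Y) (n + 1) n
        (by simp) y hy
    have hy₁c : ∀ k, (K[Y]).d n k y₁ = 0 := by
      intro k
      rw [hy₁, ← PInfty_d, hy, map_zero]
    have hy₁n : IsNorm Y n y₁ := hy₁ ▸ isNorm_PInfty Y n y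
    have hβ := cycle_iota Y n _ hy₁n hy₁c
    obtain ⟨β, hβeq⟩ : ∃ β : (Z.obj (U.obj Y)) _⦋n⦌,
      β = (iota y₁ : FreeAbelianGroup (Y _⦋n⦌)) := ⟨_, rfl⟩
    rw [← hβeq] at hβ
    have hcβ : (counit Y).app (op ⦋n⦌) β = y₁ := by
      rw [hβeq]; exact counit_iota Y _ y₁
    obtain ⟨α, hα, γ, hγ⟩ := hsurj β hβ
    refine ⟨(counit X).app (op ⦋n⦌) α, ?_, (counit Y).app (op ⦋n + 1⦌) γ + w, ?_⟩
    · intro k
      rw [← app_d, hα, map_zero]
    · rw [map_add, hw, ← app_d, hγ, map_sub, hcβ, counit_naturality_apply]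
      abel

end Groth.Agent.Lib.Seat64.SimpFree
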