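import Mathlib

/-!
# Contractibility of bounded above acyclic complexes with "projective-like" terms (Seat64)

Namespace `Groth.Agent.Lib.Seat64.SplitCx`.

* `nonempty_homotopy_id_zero`: an acyclic cochain complex (indexed by `ℤ`) in an abelian category such
  that each epimorphism `E^i ⟶ Z^{i+1}` onto the cocycles admits a section is contractible.
* `kernel_mem`: downward induction — if a class `P` of objects is closed under isomorphisms, contains the
  zero objects and kernels of epimorphisms between members of `P`, then the cocycle objects of a bounded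
  above acyclic complex with terms in `P` are in `P`.
* `nonempty_homotopy_id_zero_of_class`: the combination.
* `acyclic_of_homotopy_id_zero`: the converse direction.
-/

set_option autoImplicit false
set_option linter.style.haveILetI false
universe v u
open CategoryTheory CategoryTheory.Limits

namespace Groth.Agent.Lib.Seat64.SplitCx

variable {C : Type u} [Category.{v} C] [Abelian C]

/-- the canonical map `E^i ⟶ Z^{i+1}` -/
noncomputable abbrev toCocycles (E : CochainComplex C ℤ) (i : ℤ) :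
    E.X i ⟶ kernel (E.d (i + 1) (i + 1 + 1)) :=
  kernel.lift (E.d (i + 1) (i + 1 + 1)) (E.d i (i + 1)) (E.d_comp_d _ _ _)

lemma epi_toCocycles (E : CochainComplex C ℤ) (i : ℤ) (h : E.ExactAt (i + 1)) :
    Epi (toCocycles E i) := by
  have h' := (HomologicalComplex.exactAt_iff' E i (i + 1) (i + 1 + 1) (by simp) (by simp)).1 h
  exact (ShortComplex.exact_iff_epi_kernel_lift _).1 h'

theorem nonempty_homotopy_id_zero (E : CochainComplex C ℤ)
    (hs : ∀ i : ℤ, ∃ s : kernel (E.d (i + 1) (i + 1 + 1)) ⟶ E.X i, s ≫ toCocycles E i = 𝟙 _) :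
    Nonempty (Homotopy (𝟙 E) 0) := by
  choose s hs using hs
  -- retraction `r i : E^i ⟶ Z^i`
  have hfac : ∀ i : ℤ, (𝟙 (E.X (i + 1)) - toCocycles E (i + 1) ≫ s (i + 1)) ≫
      E.d (i + 1) (i + 1 + 1) = 0 := by
    intro i
    have h1 : toCocycles E (i + 1) ≫ kernel.ι _ = E.d (i + 1) (i + 1 + 1) := kernel.lift_ι _ _ _
    rw [Preadditive.sub_comp, Category.id_comp, Category.assoc]
    nth_rewrite 2 [← h1]
    rw [← Category.assoc (s (i + 1)), hs (i + 1), Category.id_comp, h1, sub_self]
  let r : ∀ i : ℤ, E.X (i + 1) ⟶ kernel (E.d (i + 1) (i + 1 + 1)) := fun i =>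
    kernel.lift _ (𝟙 (E.X (i + 1)) - toCocycles E (i + 1) ≫ s (i + 1)) (hfac i)
  have hr : ∀ i : ℤ, r i ≫ kernel.ι _ = 𝟙 (E.X (i + 1)) - toCocycles E (i + 1) ≫ s (i + 1) :=
    fun i => kernel.lift_ι _ _ _
  have hιp : ∀ i : ℤ, kernel.ι (E.d (i + 1) (i + 1 + 1)) ≫ toCocycles E (i + 1) = 0 := by
    intro i
    rw [← cancel_mono (kernel.ι _), Category.assoc, kernel.lift_ι, kernel.condition, zero_comp]
  have hιr : ∀ i : ℤ, kernel.ι (E.d (i + 1) (i + 1 + 1)) ≫ r i = 𝟙 _ := by
    intro i
    rw [← cancel_mono (kernel.ι _), Category.assoc, hr, Preadditive.comp_sub, Category.comp_id,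
      ← Category.assoc, hιp, zero_comp, sub_zero, Category.id_comp]
  -- the homotopy components `E^{i+1} ⟶ E^i`
  let H : ∀ i : ℤ, E.X (i + 1) ⟶ E.X i := fun i => r i ≫ s i
  have hdH : ∀ i : ℤ, E.d i (i + 1) ≫ H i = toCocycles E i ≫ s i := by
    intro i
    have h1 : toCocycles E i ≫ kernel.ι _ = E.d i (i + 1) := kernel.lift_ι _ _ _
    change E.d i (i + 1) ≫ r i ≫ s i = _
    rw [← h1, Category.assoc, ← Category.assoc (kernel.ι _), hιr, Category.id_comp]
  have hHd : ∀ i : ℤ, H i ≫ E.d i (i + 1) = 𝟙 _ - toCocycles E (i + 1) ≫ s (i + 1) := by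
    intro i
    have h1 : toCocycles E i ≫ kernel.ι _ = E.d i (i + 1) := kernel.lift_ι _ _ _
    change (r i ≫ s i) ≫ E.d i (i + 1) = _
    rw [← h1, Category.assoc, ← Category.assoc (s i), hs i, Category.id_comp, hr]
  refine ⟨{
    hom := fun i j => if h : j + 1 = i then eqToHom (by rw [h]) ≫ H j else 0
    zero := fun i j hij => dif_neg hij
    comm := fun i => ?_ }⟩
  have hrel1 : (ComplexShape.up ℤ).Rel i (i + 1) := rfl
  have hrel2 : (ComplexShape.up ℤ).Rel (i - 1) i := by simp
  rw [dNext_eq _ hrel1, prevD_eq _ hrel2]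
  simp only [HomologicalComplex.id_f, HomologicalComplex.zero_f, add_zero]
  rw [dif_pos trivial, dif_pos (sub_add_cancel i 1)]
  simp only [eqToHom_refl, Category.id_comp]
  obtain ⟨j, rfl⟩ : ∃ j, i = j + 1 := ⟨i - 1, by ring⟩
  have hj : j + 1 - 1 = j := by ring
  rw [hdH]
  have : ∀ (k : ℤ) (hk : k = j),
      eqToHom (by rw [hk]) ≫ H k ≫ E.d k (j + 1) = H j ≫ E.d j (j + 1) := by
    intro k hk; subst hk; simp
  rw [Category.assoc, this _ hj, hHd]
  abel

theorem kernel_mem (P : C → Prop) (hiso : ∀ A B : C, (A ≅ B) → P A → P B)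
    (hzero : ∀ A : C, IsZero A → P A)
    (hker : ∀ {A B : C} (p : A ⟶ B), Epi p → P A → P B → P (kernel p))
    (E : CochainComplex C ℤ) (b : ℤ) (hEb : ∀ i : ℤ, b < i → IsZero (E.X i))
    (hE : ∀ i : ℤ, P (E.X i)) (hex : ∀ i : ℤ, E.ExactAt i) :
    ∀ i : ℤ, P (kernel (E.d i (i + 1))) := by
  have key : ∀ n : ℕ, ∀ i : ℤ, b + 1 - n ≤ i → P (kernel (E.d i (i + 1))) := by
    intro n
    induction n with
    | zero =>
      intro i hi
      have hi' : b < i := by simp at hi; omega
      exact hzero _ (IsZero.of_mono (kernel.ι _) (hEb i hi'))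
    | succ n ih =>
      intro i hi
      by_cases h : b + 1 - n ≤ i
      · exact ih i h
      · have hi1 : b + 1 - n ≤ i + 1 := by push_cast at hi; omega
        have hP := ih (i + 1) hi1
        haveI := epi_toCocycles E i (hex (i + 1))
        have hk := hker (toCocycles E i) inferInstance (hE i) hP
        have heq : toCocycles E i ≫ kernel.ι (E.d (i + 1) (i + 1 + 1)) = E.d i (i + 1) :=
          kernel.lift_ι _ _ _
        exact hiso _ _ ((kernelCompMono (toCocycles E i) (kernel.ι _)).symm ≪≫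
          kernelIsoOfEq heq) hk
  intro i
  exact key (b + 1 - i).toNat i (by omega)

theorem nonempty_homotopy_id_zero_of_class (P : C → Prop)
    (hiso : ∀ A B : C, (A ≅ B) → P A → P B)
    (hzero : ∀ A : C, IsZero A → P A)
    (hker : ∀ {A B : C} (p : A ⟶ B), Epi p → P A → P B → P (kernel p))
    (hsplit : ∀ {A B : C} (p : A ⟶ B), Epi p → P A → P B → ∃ s : B ⟶ A, s ≫ p = 𝟙 B)
    (E : CochainComplex C ℤ) (b : ℤ) (hEb : ∀ i : ℤ, b < i → IsZero (E.X i))
    (hE : ∀ i : ℤ, P (E.X i)) (hex : ∀ i : ℤ, E.ExactAt i) :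
    Nonempty (Homotopy (𝟙 E) 0) := by
  have hZ := kernel_mem P hiso hzero hker E b hEb hE hex
  refine nonempty_homotopy_id_zero E (fun i => ?_)
  haveI := epi_toCocycles E i (hex (i + 1))
  exact hsplit (toCocycles E i) inferInstance (hE i) (hZ (i + 1))

theorem exactAt_of_homotopy_id_zero (E : CochainComplex C ℤ) (h : Homotopy (𝟙 E) 0) (i : ℤ) :
    E.ExactAt i := by
  rw [HomologicalComplex.exactAt_iff_isZero_homology]
  rw [IsZero.iff_id_eq_zero]
  have := h.homologyMap_eq i
  rw [HomologicalComplex.homologyMap_id, HomologicalComplex.homologyMap_zero] at this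
  exact this

end Groth.Agent.Lib.Seat64.SplitCx
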