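import Mathlib
set_option autoImplicit false
set_option linter.unusedSectionVars false
universe u v w
open LieAlgebra LieModule

namespace Groth.Agent.Lib.Seat65.AdjVarA

variable {ι : Type u} {K : Type v} {L : Type w} [Fintype ι] [Field K] [CharZero K]
    [IsAlgClosed K] [LieRing L] [LieAlgebra K L] [FiniteDimensional K L] [LieAlgebra.IsSimple K L]
    {H : LieSubalgebra K L} [H.IsCartanSubalgebra] (b : LieAlgebra.Basis ι H)

/-- The weight `∑ i, z i • α i` attached to a lattice point `z`. -/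
noncomputable def wt (z : ι → ℤ) : H → K := ∑ i, z i • ⇑(b.baseSupp i)

theorem wt_apply (z : ι → ℤ) (h : H) : wt b z h = ∑ i, (z i : K) * b.baseSupp i h := by
  simp [wt, Finset.sum_apply]

theorem wt_zero : wt b (0 : ι → ℤ) = 0 := by
  simp [wt]

theorem wt_add (z z' : ι → ℤ) : wt b (z + z') = wt b z + wt b z' := by
  simp [wt, add_smul, Finset.sum_add_distrib]

theorem wt_neg (z : ι → ℤ) : wt b (-z) = -wt b z := by
  simp [wt]

theorem wt_sub (z z' : ι → ℤ) : wt b (z - z') = wt b z - wt b z' := by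
  simp [wt, sub_smul, Finset.sum_sub_distrib]

theorem wt_zsmul (n : ℤ) (z : ι → ℤ) : wt b (n • z) = n • wt b z := by
  simp [wt, Finset.smul_sum, mul_smul]

theorem wt_single [DecidableEq ι] (i : ι) : wt b (Pi.single i 1) = ⇑(b.baseSupp i) := by
  classical
  simp [wt, Pi.single_apply, Finset.sum_ite_eq']

theorem wt_natCast (n : ι → ℕ) : wt b (fun i => (n i : ℤ)) = ∑ i, n i • ⇑(b.baseSupp i) := by
  simp [wt]

theorem wt_injective : Function.Injective (wt b : (ι → ℤ) → H → K) := by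
  intro z z' h
  have h0 : wt b (z - z') = 0 := by rw [wt_sub, h, sub_self]
  have h1 : ∑ i, ((z - z') i : K) • b.baseSupp i = 0 := by
    refine LinearMap.ext fun h => ?_
    have := congrFun h0 h
    rw [wt_apply] at this
    simpa [LinearMap.sum_apply] using this
  have h2 := Fintype.linearIndependent_iff.mp b.linearIndependent_baseSupp _ h1
  funext i
  have := h2 i
  simp only [Pi.sub_apply, Int.cast_sub, sub_eq_zero, Int.cast_inj] at this
  exact this

/-- The root space attached to a lattice point. -/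
noncomputable abbrev RS (z : ι → ℤ) : LieSubmodule K H L := rootSpace H (wt b z)

/-- The lattice point is a weight of `L`. -/
def IsWt (z : ι → ℤ) : Prop := rootSpace H (wt b z) ≠ ⊥

theorem lie_mem_RS {z z' : ι → ℤ} {x y : L} (hx : x ∈ rootSpace H (wt b z))
    (hy : y ∈ rootSpace H (wt b z')) : ⁅x, y⁆ ∈ rootSpace H (wt b (z + z')) := by
  rw [wt_add]
  exact LieAlgebra.lie_mem_genWeightSpace_of_mem_genWeightSpace hx hy

theorem e_mem (i : ι) : b.e i ∈ rootSpace H (b.baseSupp i) :=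
  (mem_genWeightSpace _ _ _).mpr fun ⟨z, hz⟩ ↦ ⟨1, by simp⟩

theorem f_mem (i : ι) : b.f i ∈ rootSpace H (-b.baseSupp i) :=
  (mem_genWeightSpace _ _ _).mpr fun ⟨z, hz⟩ ↦ ⟨1, by simp [← eq_neg_iff_add_eq_zero]⟩

theorem e_mem_RS [DecidableEq ι] (i : ι) : b.e i ∈ rootSpace H (wt b (Pi.single i 1)) := by
  rw [wt_single]; exact e_mem b i

theorem f_mem_RS [DecidableEq ι] (i : ι) : b.f i ∈ rootSpace H (wt b (-Pi.single i 1)) := by
  rw [wt_neg, wt_single]; exact f_mem b i

theorem lie_h {χ : H → K} {x : L} (hx : x ∈ rootSpace H χ) (h : H) :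
    ⁅(h : L), x⁆ = χ h • x :=
  LieAlgebra.IsKilling.lie_eq_smul_of_mem_rootSpace hx h

theorem mem_rs_iff {χ : H → K} {x : L} :
    x ∈ rootSpace H χ ↔ ∀ h : H, ⁅(h : L), x⁆ = χ h • x := by
  refine ⟨fun hx h => lie_h hx h, fun hx => ?_⟩
  exact (mem_genWeightSpace _ _ _).mpr fun h ↦ ⟨1, by
    simp only [pow_one, LinearMap.sub_apply, LieModule.toEnd_apply_apply]
    rw [sub_eq_zero]; exact hx h⟩

/-- Every weight is zero, a nonnegative or a nonpositive combination of simple roots. -/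
theorem weight_cases {χ : H → K} (hχ : rootSpace H χ ≠ ⊥) :
    χ = 0 ∨ (∃ n : ι → ℕ, n ≠ 0 ∧ χ = -∑ i, n i • ⇑(b.baseSupp i)) ∨
      (∃ n : ι → ℕ, n ≠ 0 ∧ χ = ∑ i, n i • ⇑(b.baseSupp i)) := by
  let s : Set (H → K) := {0} ∪
    {f | ∃ n : ι → ℕ, n ≠ 0 ∧ f = -∑ i, n i • ⇑(b.baseSupp i)} ∪
    {f | ∃ n : ι → ℕ, n ≠ 0 ∧ f = ∑ i, n i • ⇑(b.baseSupp i)}
  have hs : ⨆ α ∈ s, rootSpace H α = ⊤ := by
    have := b.iSup_cartan_borelLower_borelUpper_eq_top
    rw [b.borelLower_eq, b.borelUpper_eq, b.cartan_eq] at this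
    rw [iSup_union, iSup_union]
    simpa [iSup_and, iSup_comm (ι := H → K)] using this
  have hmem : χ ∈ s := (iSupIndep_genWeightSpace K H L).mem_of_biSup_eq_top hs hχ
  simp only [s, Set.mem_union, Set.mem_singleton_iff, Set.mem_ofPred_eq] at hmem
  rcases hmem with (h | h) | h
  · exact Or.inl h
  · exact Or.inr (Or.inl h)
  · exact Or.inr (Or.inr h)

/-- Every weight lies in the root lattice, with all coordinates of the same sign. -/
theorem exists_lattice {χ : H → K} (hχ : rootSpace H χ ≠ ⊥) :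
    ∃ z : ι → ℤ, χ = wt b z ∧ ((∀ i, 0 ≤ z i) ∨ (∀ i, z i ≤ 0)) := by
  rcases weight_cases b hχ with h | ⟨n, -, h⟩ | ⟨n, -, h⟩
  · exact ⟨0, by rw [h, wt_zero], Or.inl fun i => le_rfl⟩
  · refine ⟨-(fun i => (n i : ℤ)), by rw [h, wt_neg, wt_natCast], Or.inr fun i => ?_⟩
    simp
  · refine ⟨fun i => (n i : ℤ), by rw [h, wt_natCast], Or.inl fun i => ?_⟩
    simp

theorem IsWt.sign {z : ι → ℤ} (hz : IsWt b z) : (∀ i, 0 ≤ z i) ∨ (∀ i, z i ≤ 0) := by
  obtain ⟨z', h, h'⟩ := exists_lattice b hz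
  rwa [wt_injective b h]


theorem e_ne_zero (i : ι) : b.e i ≠ 0 := (b.sl2 i).e_ne_zero

theorem f_ne_zero (i : ι) : b.f i ≠ 0 := (b.sl2 i).f_ne_zero

/-- The simple root `α i` as a weight. -/
noncomputable def αW (i : ι) : Weight K H L :=
  ⟨⇑(b.baseSupp i), fun h => e_ne_zero b i ((LieSubmodule.eq_bot_iff _).mp h _ (e_mem b i))⟩

theorem coe_αW (i : ι) : (αW b i : H → K) = ⇑(b.baseSupp i) := rfl

theorem αW_isNonZero (i : ι) : (αW b i).IsNonZero := by
  intro h
  have h1 : (αW b i : H → K) = 0 := h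
  rw [coe_αW] at h1
  have h2 : b.baseSupp i = 0 := DFunLike.coe_injective (by rw [h1]; rfl)
  exact b.linearIndependent_baseSupp.ne_zero i h2

theorem coroot_αW (i : ι) : LieAlgebra.IsKilling.coroot (αW b i) = b.h' i := by
  have h1 : αW b i = ((b.baseSupportEquiv i : LieSubalgebra.root (H := H)) : Weight K H L) := by
    apply Weight.ext
    intro x
    rfl
  rw [h1]
  exact b.coroot_eq_h' i

/-- A lattice weight as a `Weight`. -/
noncomputable def zW (z : ι → ℤ) (hz : IsWt b z) : Weight K H L := ⟨wt b z, hz⟩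

theorem coe_zW (z : ι → ℤ) (hz : IsWt b z) : (zW b z hz : H → K) = wt b z := rfl

theorem zW_isNonZero {z : ι → ℤ} (hz : IsWt b z) (h0 : z ≠ 0) : (zW b z hz).IsNonZero := by
  intro h
  have h1 : (zW b z hz : H → K) = 0 := h
  rw [coe_zW, ← wt_zero b] at h1
  exact h0 (wt_injective b h1)

theorem finrank_RS {z : ι → ℤ} (hz : IsWt b z) (h0 : z ≠ 0) :
    Module.finrank K (rootSpace H (wt b z)) = 1 :=
  LieAlgebra.IsKilling.finrank_rootSpace_eq_one (zW b z hz) (zW_isNonZero b hz h0)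

theorem exists_smul_eq {z : ι → ℤ} (h0 : z ≠ 0) {x y : L} (hx : x ∈ rootSpace H (wt b z))
    (hx0 : x ≠ 0) (hy : y ∈ rootSpace H (wt b z)) : ∃ c : K, y = c • x := by
  have hz : IsWt b z := by
    intro h
    exact hx0 ((LieSubmodule.eq_bot_iff _).mp h _ hx)
  have h1 := finrank_RS b hz h0
  obtain ⟨c, hc⟩ := (finrank_eq_one_iff_of_nonzero' (⟨x, hx⟩ : rootSpace H (wt b z))
    (by simpa using hx0)).mp h1 ⟨y, hy⟩
  refine ⟨c, ?_⟩
  have := congrArg Subtype.val hc
  simpa using this.symm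

theorem wt_add_zsmul_single [DecidableEq ι] (z : ι → ℤ) (n : ℤ) (i : ι) :
    wt b (z + n • Pi.single i 1) = n • ⇑(b.baseSupp i) + wt b z := by
  rw [wt_add, wt_zsmul, wt_single, add_comm]

/-- Root strings through a weight in a simple direction. -/
theorem string [DecidableEq ι] (i : ι) {z : ι → ℤ} (hz : IsWt b z) :
    ∃ p q : ℕ, (∀ n : ℤ, IsWt b (z + n • Pi.single i 1) ↔ n ≤ p ∧ -n ≤ q) ∧
      wt b z (b.h' i) = (q : K) - (p : K) := by
  refine ⟨chainTopCoeff (αW b i) (zW b z hz), chainBotCoeff (αW b i) (zW b z hz), ?_, ?_⟩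
  · intro n
    have := LieAlgebra.IsKilling.rootSpace_zsmul_add_ne_bot_iff (αW b i) (zW b z hz)
      (αW_isNonZero b i) n
    rw [← this]
    unfold IsWt
    rw [wt_add_zsmul_single]
    rfl
  · have := LieAlgebra.IsKilling.apply_coroot_eq_cast (αW b i) (zW b z hz)
    rw [coroot_αW] at this
    rw [← coe_zW b z hz]
    rw [this]
    push_cast
    rfl


/-- Injectivity of `ad (e i)` on a nonzero root space below another weight. -/
theorem lie_e_ne_zero [DecidableEq ι] (i : ι) {z : ι → ℤ} (hz0 : z ≠ 0)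
    (hz' : IsWt b (z + Pi.single i 1)) {x : L} (hx : x ∈ rootSpace H (wt b z)) (hx0 : x ≠ 0) :
    ⁅b.e i, x⁆ ≠ 0 := by
  have hz : IsWt b z := fun h => hx0 ((LieSubmodule.eq_bot_iff _).mp h _ hx)
  set α := αW b i with hαdef
  set β := zW b z hz with hβdef
  have hα : α.IsNonZero := αW_isNonZero b i
  set p := chainTopCoeff α β with hp
  set m := LieAlgebra.IsKilling.chainLength α β with hm
  have hp1 : 1 ≤ p := by
    have h1 : rootSpace H ((1 : ℤ) • (α : H → K) + (β : H → K)) ≠ ⊥ := by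
      have := hz'
      unfold IsWt at this
      have h2 := wt_add_zsmul_single b z 1 i
      rw [one_smul] at h2
      rw [h2] at this
      exact this
    have := ((LieAlgebra.IsKilling.rootSpace_zsmul_add_ne_bot_iff α β hα 1).mp h1).1
    exact_mod_cast this
  have hpm : p ≤ m := LieAlgebra.IsKilling.chainTopCoeff_le_chainLength α β
  obtain ⟨v, hv, hv0⟩ := (chainTop α β).exists_ne_zero
  have prim : (b.sl2 i).HasPrimitiveVectorWith v (m : K) := by
    refine ⟨hv0, ?_, ?_⟩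
    · have h1 := (LieAlgebra.IsKilling.chainLength_smul α β hv).symm
      rw [hαdef, coroot_αW] at h1
      exact h1
    · have h1 := LieAlgebra.lie_mem_genWeightSpace_of_mem_genWeightSpace (e_mem b i) hv
      have h2 : genWeightSpace L ((α : H → K) + (chainTop α β : H → K)) = ⊥ :=
        genWeightSpace_add_chainTop α β hα
      exact (LieSubmodule.eq_bot_iff _).mp h2 _ h1
  have hψp : ((toEnd K L L (b.f i)) ^ p) v ∈ rootSpace H (wt b z) := by
    have h1 := LieAlgebra.toEnd_pow_apply_mem (f_mem b i) hv p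
    have h2 : (p • (-⇑(b.baseSupp i)) + (chainTop α β : H → K)) = wt b z := by
      rw [coe_chainTop']
      change p • (-⇑(b.baseSupp i)) + (p • ⇑(b.baseSupp i) + wt b z) = wt b z
      rw [smul_neg, neg_add_cancel_left]
    rw [h2] at h1
    exact h1
  have hψp0 : ((toEnd K L L (b.f i)) ^ p) v ≠ 0 := prim.pow_toEnd_f_ne_zero_of_eq_nat rfl hpm
  obtain ⟨c, hc⟩ := exists_smul_eq b hz0 hψp hψp0 hx
  have hc0 : c ≠ 0 := by
    rintro rfl
    rw [zero_smul] at hc
    exact hx0 hc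
  obtain ⟨n, hn⟩ : ∃ n, p = n + 1 := ⟨p - 1, by omega⟩
  rw [hn] at hc hpm
  rw [hc, lie_smul, prim.lie_e_pow_succ_toEnd_f n]
  have h3 : ((toEnd K L L (b.f i)) ^ n) v ≠ 0 :=
    prim.pow_toEnd_f_ne_zero_of_eq_nat rfl (by omega)
  have h4 : ((n : K) + 1) * ((m : K) - (n : K)) ≠ 0 := by
    refine mul_ne_zero (Nat.cast_add_one_ne_zero n) ?_
    rw [sub_ne_zero]
    intro h
    have : m = n := Nat.cast_injective h
    omega
  exact smul_ne_zero hc0 (smul_ne_zero h4 h3)

end Groth.Agent.Lib.Seat65.AdjVarA
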