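import Groth.Agent.Lib.Seat65AdjVarA
set_option autoImplicit false
set_option linter.unusedSectionVars false
universe u v w
open LieAlgebra LieModule

namespace Groth.Agent.Lib.Seat65.AdjVarB

open Groth.Agent.Lib.Seat65.AdjVarA

variable {ι : Type u} {K : Type v} {L : Type w} [Fintype ι] [Field K] [CharZero K]
    [IsAlgClosed K] [LieRing L] [LieAlgebra K L] [FiniteDimensional K L] [LieAlgebra.IsSimple K L]
    {H : LieSubalgebra K L} [H.IsCartanSubalgebra] (b : LieAlgebra.Basis ι H)

/-- A submodule stable under a set of elements is stable under the Lie subalgebra they span. -/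
theorem lie_mem_of_mem_lieSpan (N : Submodule K L) (s : Set L)
    (hs : ∀ y ∈ s, ∀ x ∈ N, ⁅y, x⁆ ∈ N) {y : L} (hy : y ∈ LieSubalgebra.lieSpan K L s)
    {x : L} (hx : x ∈ N) : ⁅y, x⁆ ∈ N := by
  let stab : LieSubalgebra K L :=
    { carrier := {y | ∀ x ∈ N, ⁅y, x⁆ ∈ N}
      add_mem' := fun {y y'} hy hy' x hx => by
        rw [add_lie]; exact N.add_mem (hy x hx) (hy' x hx)
      zero_mem' := fun x _ => by rw [zero_lie]; exact N.zero_mem
      smul_mem' := fun c {y} hy x hx => by
        rw [smul_lie]; exact N.smul_mem c (hy x hx)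
      lie_mem' := fun {y y'} hy hy' x hx => by
        rw [lie_lie]
        exact N.sub_mem (hy _ (hy' x hx)) (hy' _ (hy x hx)) }
  have h1 : LieSubalgebra.lieSpan K L s ≤ stab := by
    rw [LieSubalgebra.lieSpan_le]
    exact fun y hy => hs y hy
  exact h1 hy x hx

/-- A submodule stable under all `e i` and `f i` is stable under everything. -/
theorem lie_mem_of_stable_ef (N : Submodule K L)
    (he : ∀ i, ∀ x ∈ N, ⁅b.e i, x⁆ ∈ N) (hf : ∀ i, ∀ x ∈ N, ⁅b.f i, x⁆ ∈ N)
    (y : L) {x : L} (hx : x ∈ N) : ⁅y, x⁆ ∈ N := by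
  refine lie_mem_of_mem_lieSpan N (Set.range b.e ∪ Set.range b.f) ?_ ?_ hx
  · rintro y (⟨i, rfl⟩ | ⟨i, rfl⟩)
    · exact he i
    · exact hf i
  · rw [b.span_ef]; exact LieSubalgebra.mem_top y

/-- Highest weight theorem: a weight `r` with no `r + α i` a weight dominates all weights. -/
theorem le_of_top [DecidableEq ι] {r : ι → ℤ} (hr : IsWt b r)
    (htop : ∀ i, ¬ IsWt b (r + Pi.single i 1)) {z : ι → ℤ} (hz : IsWt b z) : z ≤ r := by
  obtain ⟨v, hv, hv0⟩ := (zW b r hr).exists_ne_zero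
  change v ∈ rootSpace H (wt b r) at hv
  set S : Set (Submodule K L) := {S | v ∈ S ∧ ∀ i, ∀ x ∈ S, ⁅b.f i, x⁆ ∈ S} with hS
  set N : Submodule K L := sInf S with hN
  have hvN : v ∈ N := Submodule.mem_sInf.mpr fun S' hS' => hS'.1
  have hfN : ∀ i, ∀ x ∈ N, ⁅b.f i, x⁆ ∈ N := fun i x hx =>
    Submodule.mem_sInf.mpr fun S' hS' => hS'.2 i x (Submodule.mem_sInf.mp hx S' hS')
  -- the sum of the weight spaces below `r`
  set T : Submodule K L :=
    ⨆ z : {z : ι → ℤ // z ≤ r}, (rootSpace H (wt b z.1) : Submodule K L) with hT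
  have hTS : T ∈ S := by
    refine ⟨Submodule.mem_iSup_of_mem ⟨r, le_rfl⟩ hv, fun i x hx => ?_⟩
    refine Submodule.iSup_induction (fun z : {z : ι → ℤ // z ≤ r} =>
      (rootSpace H (wt b z.1) : Submodule K L)) (motive := fun x => ⁅b.f i, x⁆ ∈ T) hx ?_ ?_ ?_
    · rintro ⟨z, hz⟩ x hx
      have h1 := lie_mem_RS b (f_mem_RS b i) hx
      refine Submodule.mem_iSup_of_mem ⟨-Pi.single i 1 + z, ?_⟩ h1
      intro k
      have hzk : z k ≤ r k := hz k
      have h2 : (0 : ℤ) ≤ (Pi.single i 1 : ι → ℤ) k := by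
        by_cases hk : k = i
        · subst hk; simp
        · simp [hk]
      simp only [Pi.add_apply, Pi.neg_apply]
      omega
    · rw [lie_zero]; exact T.zero_mem
    · intro x y hx hy
      rw [lie_add]; exact T.add_mem hx hy
  -- closure of `N` under `H` and the `e k`
  set M : Submodule K L := N ⊓ (⨅ h : H, N.comap (LieAlgebra.ad K L (h : L))) ⊓
    (⨅ k, N.comap (LieAlgebra.ad K L (b.e k))) with hM
  have hmemM : ∀ x, x ∈ M ↔ x ∈ N ∧ (∀ h : H, ⁅(h : L), x⁆ ∈ N) ∧ ∀ k, ⁅b.e k, x⁆ ∈ N := by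
    intro x
    simp only [hM, Submodule.mem_inf, Submodule.mem_iInf, Submodule.mem_comap,
      LieAlgebra.ad_apply, and_assoc]
  have hMS : M ∈ S := by
    refine ⟨(hmemM v).mpr ⟨hvN, fun h => ?_, fun k => ?_⟩, fun i x hx => ?_⟩
    · rw [lie_h hv h]; exact N.smul_mem _ hvN
    · have h1 := lie_mem_RS b (e_mem_RS b k) hv
      have h2 : ⁅b.e k, v⁆ = 0 := by
        have h3 := htop k
        unfold IsWt at h3
        rw [not_not, add_comm] at h3
        exact (LieSubmodule.eq_bot_iff _).mp h3 _ h1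
      rw [h2]; exact N.zero_mem
    · obtain ⟨hxN, hxH, hxe⟩ := (hmemM x).mp hx
      refine (hmemM _).mpr ⟨hfN i x hxN, fun h => ?_, fun k => ?_⟩
      · rw [leibniz_lie, lie_h (f_mem b i) h, smul_lie]
        exact N.add_mem (N.smul_mem _ (hfN i x hxN)) (hfN i _ (hxH h))
      · rw [leibniz_lie]
        refine N.add_mem ?_ (hfN i _ (hxe k))
        by_cases hki : k = i
        · subst hki
          rw [(b.sl2 k).lie_e_f]
          exact hxH (b.h' k)
        · rw [b.lie_e_f_ne k i hki, zero_lie]; exact N.zero_mem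
  have hNM : N ≤ M := sInf_le hMS
  have heN : ∀ i, ∀ x ∈ N, ⁅b.e i, x⁆ ∈ N := fun i x hx => ((hmemM x).mp (hNM hx)).2.2 i
  -- `N` is an ideal
  let I : LieIdeal K L :=
    { N with lie_mem := fun {y x} hx => lie_mem_of_stable_ef b N heN hfN y hx }
  have hI : I = ⊤ := by
    rcases LieAlgebra.IsSimple.eq_bot_or_eq_top I with h | h
    · exfalso
      have : v ∈ I := hvN
      rw [h] at this
      exact hv0 (by simpa using this)
    · exact h
  have hNtop : N = ⊤ := by
    rw [eq_top_iff]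
    intro x _
    have : x ∈ I := by rw [hI]; exact LieSubmodule.mem_top x
    exact this
  have hTtop : T = ⊤ := by
    rw [eq_top_iff, ← hNtop]
    exact sInf_le hTS
  -- conclude by independence of weight spaces
  let s : Set (H → K) := {χ | ∃ z : ι → ℤ, z ≤ r ∧ χ = wt b z}
  have hs : ⨆ χ ∈ s, rootSpace H χ = ⊤ := by
    rw [eq_top_iff]
    intro x _
    have hx : x ∈ T := by rw [hTtop]; exact Submodule.mem_top
    have hle : T ≤ ((⨆ χ ∈ s, rootSpace H χ : LieSubmodule K H L) : Submodule K L) := by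
      refine iSup_le fun z => ?_
      rw [LieSubmodule.toSubmodule_le_toSubmodule]
      exact le_biSup (fun χ : H → K => rootSpace H χ) (i := wt b z.1) ⟨z.1, z.2, rfl⟩
    exact hle hx
  have hmem : wt b z ∈ s := (iSupIndep_genWeightSpace K H L).mem_of_biSup_eq_top hs hz
  obtain ⟨z', hz', h⟩ := hmem
  rw [wt_injective b h]
  exact hz'


/-- A nonzero element of the Cartan subalgebra is moved by some `e i`. -/
theorem exists_lie_e_ne_zero {x : L} (hx : x ∈ rootSpace H (wt b (0 : ι → ℤ))) (hx0 : x ≠ 0) :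
    ∃ i, ⁅b.e i, x⁆ ≠ 0 := by
  by_contra! hall
  rw [wt_zero] at hx
  have hxH : x ∈ H.toLieSubmodule := by rw [b.cartan_eq]; exact hx
  set xH : H := ⟨x, hxH⟩ with hxHdef
  have h1 : ∀ i, b.baseSupp i xH = 0 := by
    intro i
    have h2 := b.baseSupp_apply_smul_e i xH
    have h3 : ⁅xH, b.e i⁆ = 0 := by
      change ⁅x, b.e i⁆ = 0
      rw [← lie_skew, hall i, neg_zero]
    rw [h3] at h2
    exact (smul_eq_zero.mp h2).resolve_right (e_ne_zero b i)
  have h4 : xH ∈ (⨅ α : Weight K H L, α.ker : Submodule K H) := by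
    rw [Submodule.mem_iInf]
    intro χ
    rw [LinearMap.mem_ker, Weight.toLinear_apply]
    obtain ⟨z, hz, -⟩ := exists_lattice b χ.genWeightSpace_ne_bot
    rw [hz, wt_apply]
    exact Finset.sum_eq_zero fun i _ => by rw [h1 i, mul_zero]
  rw [LieAlgebra.IsKilling.iInf_ker_weight_eq_bot] at h4
  have h5 : xH = 0 := by simpa using h4
  exact hx0 (by simpa [hxHdef] using congrArg Subtype.val h5)

theorem wt_single_apply_h' [DecidableEq ι] (i k : ι) :
    wt b (Pi.single i 1) (b.h' k) = (b.A i k : K) := by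
  rw [wt_single, b.baseSupp_apply_h']

theorem isWt_single [DecidableEq ι] (i : ι) : IsWt b (Pi.single i 1) := fun h =>
  e_ne_zero b i ((LieSubmodule.eq_bot_iff _).mp h _ (e_mem_RS b i))

theorem isWt_zero [DecidableEq ι] [Nonempty ι] : IsWt b (0 : ι → ℤ) := by
  obtain ⟨i⟩ := ‹Nonempty ι›
  intro h
  have h1 : b.h i ∈ rootSpace H (wt b (0 : ι → ℤ)) := by
    rw [wt_zero, ← b.cartan_eq]
    exact (b.h' i).2
  have h2 : b.h i = 0 := (LieSubmodule.eq_bot_iff _).mp h _ h1
  have h3 := (b.sl2 i).lie_e_f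
  have h4 := (b.sl2 i).lie_h_e_nsmul
  rw [h2, zero_lie] at h4
  have : b.e i = 0 := by
    have h5 : (2 : K) • b.e i = 0 := by
      rw [← Nat.cast_smul_eq_nsmul K] at h4
      simpa using h4.symm
    exact (smul_eq_zero.mp h5).resolve_left two_ne_zero
  exact e_ne_zero b i this

/-- The lattice form of the hypotheses on the highest root. -/
structure Top [DecidableEq ι] (r : ι → ℤ) (j : ι) : Prop where
  isWt : IsWt b r
  top : ∀ i, ¬ IsWt b (r + Pi.single i 1)
  pair : ∀ i, wt b r (b.h' i) ≠ 0 ↔ i = j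
  pair_j : wt b r (b.h' j) = 1

section Top

variable [DecidableEq ι] {b} {r : ι → ℤ} {j : ι} (T : Top b r j)
include T

theorem Top.le {z : ι → ℤ} (hz : IsWt b z) : z ≤ r := le_of_top b T.isWt T.top hz

theorem Top.ne_zero : r ≠ 0 := by
  rintro rfl
  apply T.top j
  rw [zero_add]
  exact isWt_single b j

theorem Top.pair_eq_zero {i : ι} (hij : i ≠ j) : wt b r (b.h' i) = 0 := by
  by_contra h
  exact hij ((T.pair i).mp h)

theorem Top.str (i : ι) : ∃ q : ℕ, (∀ n : ℤ, IsWt b (r + n • Pi.single i 1) ↔ n ≤ 0 ∧ -n ≤ q) ∧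
    wt b r (b.h' i) = (q : K) := by
  obtain ⟨p, q, hstr, hval⟩ := AdjVarA.string b i T.isWt
  have hp : p = 0 := by
    by_contra hp
    have h1 := (hstr 1).mpr ⟨by omega, by omega⟩
    rw [one_smul] at h1
    exact T.top i h1
  subst hp
  refine ⟨q, fun n => ?_, by simpa using hval⟩
  simpa using hstr n

theorem Top.isWt_sub_iff (i : ι) : IsWt b (r - Pi.single i 1) ↔ i = j := by
  obtain ⟨q, hstr, hval⟩ := T.str i
  have h1 : r - Pi.single i 1 = r + (-1 : ℤ) • Pi.single i 1 := by
    rw [neg_one_smul, sub_eq_add_neg]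
  rw [h1, hstr (-1), ← T.pair i, hval]
  constructor
  · rintro ⟨-, h2⟩
    have : q ≠ 0 := by omega
    exact_mod_cast this
  · intro h2
    have : q ≠ 0 := by exact_mod_cast h2
    omega

theorem Top.isWt_sub : IsWt b (r - Pi.single j 1) := (T.isWt_sub_iff j).mpr rfl

theorem Top.not_isWt_sub_two : ¬ IsWt b (r - Pi.single j 1 - Pi.single j 1) := by
  obtain ⟨q, hstr, hval⟩ := T.str j
  have hq : q = 1 := by
    rw [T.pair_j] at hval
    exact_mod_cast hval.symm
  have h1 : r - Pi.single j 1 - Pi.single j 1 = r + (-2 : ℤ) • Pi.single j 1 := by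
    rw [sub_sub, ← two_smul ℤ (Pi.single j (1 : ℤ) : ι → ℤ), neg_smul, sub_eq_add_neg]
  rw [h1, hstr (-2)]
  omega

theorem Top.ne_single : r ≠ Pi.single j 1 := by
  intro h
  have h1 := T.pair_j
  have _i : IsAddTorsionFree L := .of_isTorsionFree K L
  rw [h, wt_single_apply_h', b.A_diag_eq_two] at h1
  norm_num at h1

theorem Top.sub_ne_zero : r - Pi.single j 1 ≠ 0 := fun h => T.ne_single (sub_eq_zero.mp h)

theorem Top.not_isWt_sub_add {i : ι} (hij : i ≠ j) :
    ¬ IsWt b (r - Pi.single j 1 + Pi.single i 1) := by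
  intro h
  have h1 := T.le h i
  simp only [Pi.add_apply, Pi.sub_apply, Pi.single_eq_same, Pi.single_eq_of_ne hij] at h1
  omega

theorem Top.of_isWt_sub_sub {i : ι} (h : IsWt b (r - Pi.single j 1 - Pi.single i 1)) :
    i ≠ j ∧ b.A i j ≠ 0 ∧ r - Pi.single j 1 - Pi.single i 1 ≠ 0 := by
  have hij : i ≠ j := by
    rintro rfl
    exact T.not_isWt_sub_two h
  have _i : IsAddTorsionFree L := .of_isTorsionFree K L
  -- the string through `r - α j` along `α i`
  obtain ⟨p, q, hstr, hval⟩ := AdjVarA.string b i T.isWt_sub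
  have hp : p = 0 := by
    by_contra hp
    have h1 := (hstr 1).mpr ⟨by omega, by omega⟩
    rw [one_smul] at h1
    exact T.not_isWt_sub_add hij h1
  have hq : 1 ≤ q := by
    have h1 : r - Pi.single j 1 - Pi.single i 1 = r - Pi.single j 1 + (-1 : ℤ) • Pi.single i 1 := by
      rw [neg_one_smul, sub_eq_add_neg]
    rw [h1] at h
    have := ((hstr (-1)).mp h).2
    omega
  have hAji : b.A j i ≠ 0 := by
    intro h0
    rw [wt_sub, Pi.sub_apply, T.pair_eq_zero hij, wt_single_apply_h', h0, hp] at hval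
    have : (q : K) = 0 := by simpa using hval.symm
    have : q = 0 := by exact_mod_cast this
    omega
  -- the string through `α j` along `α i`
  obtain ⟨p1, q1, hstr1, hval1⟩ := AdjVarA.string b i (isWt_single b j)
  have hq1 : q1 = 0 := by
    by_contra hq1
    have h1 := (hstr1 (-1)).mpr ⟨by omega, by omega⟩
    rcases h1.sign with h2 | h2
    · have := h2 i
      simp [Pi.single_eq_of_ne hij] at this
    · have := h2 j
      simp [Pi.single_eq_of_ne hij.symm] at this
  rw [wt_single_apply_h', hq1] at hval1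
  have hAji' : b.A j i = -(p1 : ℤ) := by
    have : ((b.A j i : ℤ) : K) = ((-(p1 : ℤ) : ℤ) : K) := by rw [hval1]; simp
    exact_mod_cast this
  have hp1 : 1 ≤ p1 := by
    by_contra hp1
    have : p1 = 0 := by omega
    rw [this] at hAji'
    exact hAji (by simpa using hAji')
  have hsum : IsWt b (Pi.single j 1 + Pi.single i 1) := by
    have h1 := (hstr1 1).mpr ⟨by omega, by omega⟩
    rwa [one_smul] at h1
  -- the string through `α i` along `α j`
  obtain ⟨p2, q2, hstr2, hval2⟩ := AdjVarA.string b j (isWt_single b i)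
  have hq2 : q2 = 0 := by
    by_contra hq2
    have h1 := (hstr2 (-1)).mpr ⟨by omega, by omega⟩
    rcases h1.sign with h2 | h2
    · have := h2 j
      simp [Pi.single_eq_of_ne hij.symm] at this
    · have := h2 i
      simp [Pi.single_eq_of_ne hij] at this
  have hp2 : 1 ≤ p2 := by
    have h1 : IsWt b (Pi.single i 1 + (1 : ℤ) • Pi.single j 1) := by
      rw [one_smul, add_comm]; exact hsum
    have := ((hstr2 1).mp h1).1
    omega
  rw [wt_single_apply_h', hq2] at hval2
  have hAij : b.A i j ≠ 0 := by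
    intro h0
    rw [h0] at hval2
    have : (p2 : K) = 0 := by simpa using hval2
    have : p2 = 0 := by exact_mod_cast this
    omega
  refine ⟨hij, hAij, fun h0 => ?_⟩
  -- `r = α j + α i` is impossible
  have hr : r = Pi.single j 1 + Pi.single i 1 := by
    have := sub_eq_zero.mp h0
    rw [← this]; abel
  have h3 := T.pair_eq_zero hij
  rw [hr, wt_add, Pi.add_apply, wt_single_apply_h', wt_single_apply_h', b.A_diag_eq_two] at h3
  have h4 : b.A j i = -2 := by
    have : ((b.A j i : ℤ) : K) = ((-2 : ℤ) : K) := by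
      push_cast
      linear_combination h3
    exact_mod_cast this
  have hp12 : p1 = 2 := by omega
  have h5 := (hstr1 2).mpr ⟨by omega, by omega⟩
  apply T.top i
  rw [hr]
  have : (Pi.single j 1 + Pi.single i 1 + Pi.single i 1 : ι → ℤ) =
      Pi.single j 1 + (2 : ℤ) • (Pi.single i (1 : ℤ) : ι → ℤ) := by
    rw [two_smul, add_assoc]
  rw [this]
  exact h5

end Top

end Groth.Agent.Lib.Seat65.AdjVarB
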