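import Groth.Agent.Lib.Seat65AdjVarB
set_option autoImplicit false
set_option linter.unusedSectionVars false
universe u v w
open LieAlgebra LieModule

namespace Groth.Agent.Lib.Seat65.AdjVarC

open Groth.Agent.Lib.Seat65.AdjVarA Groth.Agent.Lib.Seat65.AdjVarB

variable {ι : Type u} {K : Type v} {L : Type w} [Fintype ι] [Field K] [CharZero K]
    [IsAlgClosed K] [LieRing L] [LieAlgebra K L] [FiniteDimensional K L] [LieAlgebra.IsSimple K L]
    {H : LieSubalgebra K L} [H.IsCartanSubalgebra] (b : LieAlgebra.Basis ι H)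

/-- The root space as a plain submodule. -/
noncomputable abbrev RSm (z : ι → ℤ) : Submodule K L := (rootSpace H (wt b z) : Submodule K L)

theorem RSm_inf_eq_bot {a c : ι → ℤ} (hac : a ≠ c) : RSm b a ⊓ RSm b c = ⊥ := by
  have h1 : wt b a ≠ wt b c := fun h => hac (wt_injective b h)
  exact disjoint_iff.mp (LieSubmodule.disjoint_toSubmodule.mpr (disjoint_genWeightSpace K H L h1))

theorem finrank_RSm {z : ι → ℤ} (hz : IsWt b z) (h0 : z ≠ 0) :
    Module.finrank K (RSm b z) = 1 := finrank_RS b hz h0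

theorem finrank_sup2 {a c : ι → ℤ} (ha : IsWt b a) (ha0 : a ≠ 0) (hc : IsWt b c) (hc0 : c ≠ 0)
    (hac : a ≠ c) : Module.finrank K ↥(RSm b a ⊔ RSm b c) = 2 := by
  have h1 := Submodule.finrank_sup_add_finrank_inf_eq (RSm b a) (RSm b c)
  rw [RSm_inf_eq_bot b hac, finrank_bot, finrank_RSm b ha ha0, finrank_RSm b hc hc0] at h1
  omega

theorem sup2_inf_eq_bot {a c d : ι → ℤ} (had : a ≠ d) (hcd : c ≠ d) :
    (RSm b a ⊔ RSm b c) ⊓ RSm b d = ⊥ := by
  have h0 := iSupIndep_genWeightSpace K H L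
  have h1 : wt b d ∉ ({wt b a, wt b c} : Set (H → K)) := by
    simp only [Set.mem_insert_iff, Set.mem_singleton_iff, not_or]
    exact ⟨fun h => had (wt_injective b h).symm, fun h => hcd (wt_injective b h).symm⟩
  have h2 := h0.disjoint_biSup h1
  rw [iSup_pair] at h2
  have h3 := LieSubmodule.disjoint_toSubmodule.mpr h2
  rw [LieSubmodule.sup_toSubmodule] at h3
  rw [inf_comm]
  exact disjoint_iff.mp h3

theorem finrank_sup3 {a c d : ι → ℤ} (ha : IsWt b a) (ha0 : a ≠ 0) (hc : IsWt b c) (hc0 : c ≠ 0)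
    (hd : IsWt b d) (hd0 : d ≠ 0) (hac : a ≠ c) (had : a ≠ d) (hcd : c ≠ d) :
    Module.finrank K ↥(RSm b a ⊔ RSm b c ⊔ RSm b d) = 3 := by
  have h1 := Submodule.finrank_sup_add_finrank_inf_eq (RSm b a ⊔ RSm b c) (RSm b d)
  rw [sup2_inf_eq_bot b had hcd, finrank_bot, finrank_sup2 b ha ha0 hc hc0 hac,
    finrank_RSm b hd hd0] at h1
  omega

section Stable

variable (W : Submodule K L)

/-- `W` meets the root space of `z` nontrivially. -/
def InW (z : ι → ℤ) : Prop := ∃ x ∈ W, x ∈ rootSpace H (wt b z) ∧ x ≠ 0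

variable {b W}

theorem InW.isWt {z : ι → ℤ} (h : InW b W z) : IsWt b z := by
  obtain ⟨x, -, hx, hx0⟩ := h
  exact fun h => hx0 ((LieSubmodule.eq_bot_iff _).mp h _ hx)

theorem InW.le {z : ι → ℤ} (h : InW b W z) (h0 : z ≠ 0) : RSm b z ≤ W := by
  obtain ⟨x, hxW, hx, hx0⟩ := h
  intro y hy
  obtain ⟨c, rfl⟩ := exists_smul_eq b h0 hx hx0 hy
  exact W.smul_mem c hxW

theorem inW_of_le {z : ι → ℤ} (hz : IsWt b z) (h : RSm b z ≤ W) : InW b W z := by
  obtain ⟨x, hx, hx0⟩ := (zW b z hz).exists_ne_zero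
  exact ⟨x, h hx, hx, hx0⟩

variable (hH : ∀ h : H, ∀ w ∈ W, ⁅(h : L), w⁆ ∈ W)
include hH

/-- An `H`-stable subspace is contained in the sum of the root spaces it meets. -/
theorem le_iSup_inW : W ≤ ⨆ z : {z : ι → ℤ // InW b W z}, RSm b z.1 := by
  let W' : LieSubmodule K H L := { W with lie_mem := fun {h w} hw => hH h w hw }
  have h1 := eq_iSup_inf_genWeightSpace K H L W'
  intro w hw
  have hw' : w ∈ (W' : Submodule K L) := hw
  rw [h1, LieSubmodule.iSup_toSubmodule] at hw'
  refine (iSup_le fun χ => ?_ : (⨆ χ : Weight K H L, ((W' ⊓ genWeightSpace L χ :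
    LieSubmodule K H L) : Submodule K L)) ≤ _) hw'
  by_cases hbot : W' ⊓ genWeightSpace L χ = ⊥
  · rw [hbot]; simp
  · obtain ⟨z, hz, -⟩ := exists_lattice b χ.genWeightSpace_ne_bot
    have hin : InW b W z := by
      rw [LieSubmodule.eq_bot_iff] at hbot
      push Not at hbot
      obtain ⟨x, hx, hx0⟩ := hbot
      rw [LieSubmodule.mem_inf] at hx
      refine ⟨x, hx.1, ?_, hx0⟩
      rw [← hz]; exact hx.2
    refine le_trans ?_ (le_iSup (fun z : {z : ι → ℤ // InW b W z} => RSm b z.1) ⟨z, hin⟩)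
    rw [LieSubmodule.inf_toSubmodule]
    refine inf_le_right.trans ?_
    change (genWeightSpace L (χ : H → K) : Submodule K L) ≤ RSm b z
    rw [hz]

theorem exists_inW (hW : W ≠ ⊥) : ∃ z, InW b W z := by
  by_contra! h
  apply hW
  rw [eq_bot_iff]
  refine (le_iSup_inW (b := b) hH).trans (iSup_le fun z => ?_)
  exact absurd z.2 (h z.1)

theorem le_of_inW_imp {U : Submodule K L} (h : ∀ z, InW b W z → RSm b z ≤ U) : W ≤ U :=
  (le_iSup_inW (b := b) hH).trans (iSup_le fun z => h z.1 z.2)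

variable [DecidableEq ι] (he : ∀ i, ∀ w ∈ W, ⁅b.e i, w⁆ ∈ W)
include he

omit hH in
theorem InW.step {z : ι → ℤ} (hz : InW b W z) (hz0 : z ≠ 0) {i : ι}
    (hz' : IsWt b (z + Pi.single i 1)) : InW b W (z + Pi.single i 1) := by
  obtain ⟨x, hxW, hx, hx0⟩ := hz
  refine ⟨⁅b.e i, x⁆, he i x hxW, ?_, lie_e_ne_zero b i hz0 hz' hx hx0⟩
  have := lie_mem_RS b (e_mem_RS b i) hx
  rwa [add_comm] at this

omit hH in
theorem InW.step_zero (hz : InW b W 0) : ∃ i, InW b W (Pi.single i 1) := by
  obtain ⟨x, hxW, hx, hx0⟩ := hz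
  obtain ⟨i, hi⟩ := exists_lie_e_ne_zero b hx hx0
  refine ⟨i, ⁅b.e i, x⁆, he i x hxW, ?_, hi⟩
  have := lie_mem_RS b (e_mem_RS b i) hx
  rwa [add_zero] at this

/-- One step up inside `W`. -/
def StepW (b : LieAlgebra.Basis ι H) (W : Submodule K L) (z z' : ι → ℤ) : Prop :=
  InW b W z ∧ InW b W z' ∧ ∃ i, z' = z + Pi.single i 1

variable {r : ι → ℤ} {j : ι} (T : Top b r j)
include T

omit hH in
/-- Every weight of a Borel-stable subspace is joined to the highest root inside it. -/
theorem chain {z : ι → ℤ} (hz : InW b W z) : Relation.ReflTransGen (StepW b W) z r := by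
  have key : ∀ n : ℕ, ∀ z : ι → ℤ, InW b W z → ∑ i, (r i - z i) = n →
      Relation.ReflTransGen (StepW b W) z r := by
    intro n
    induction n with
    | zero =>
      intro z hz hsum
      have hle := T.le hz.isWt
      have h1 : ∀ i ∈ Finset.univ, r i - z i = 0 := by
        refine (Finset.sum_eq_zero_iff_of_nonneg fun i _ => ?_).mp (by simpa using hsum)
        have hi : z i ≤ r i := hle i
        omega
      have : z = r := by
        funext i
        have := h1 i (Finset.mem_univ i)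
        omega
      rw [this]
    | succ n ih =>
      intro z hz hsum
      have hzr : z ≠ r := by
        rintro rfl
        simp at hsum
        omega
      have hstep : ∃ i, InW b W (z + Pi.single i 1) := by
        by_cases hz0 : z = 0
        · subst hz0
          obtain ⟨i, hi⟩ := InW.step_zero he hz
          exact ⟨i, by rwa [zero_add]⟩
        · have hex : ∃ i, IsWt b (z + Pi.single i 1) := by
            by_contra! hno
            have h1 := le_of_top b hz.isWt hno T.isWt
            exact hzr (le_antisymm (T.le hz.isWt) h1)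
          obtain ⟨i, hi⟩ := hex
          exact ⟨i, InW.step he hz hz0 hi⟩
      obtain ⟨i, hi⟩ := hstep
      refine Relation.ReflTransGen.head ⟨hz, hi, i, rfl⟩ (ih _ hi ?_)
      have h2 : ∑ k, (r k - (z + Pi.single i 1 : ι → ℤ) k) = ∑ k, (r k - z k) - 1 := by
        simp only [Pi.add_apply, ← sub_sub, Finset.sum_sub_distrib, Finset.sum_pi_single',
          Finset.mem_univ, if_true]
      rw [h2, hsum]
      push_cast
      ring
  have hle := T.le hz.isWt
  have hnn : 0 ≤ ∑ i, (r i - z i) := Finset.sum_nonneg fun i _ => by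
    have hi : z i ≤ r i := hle i
    omega
  exact key (∑ i, (r i - z i)).toNat z hz (Int.toNat_of_nonneg hnn).symm

theorem inW_top (hW : W ≠ ⊥) : InW b W r := by
  obtain ⟨z, hz⟩ := exists_inW (b := b) hH hW
  rcases (chain he T hz).cases_tail with h | ⟨z', -, hstep⟩
  · rwa [h]
  · exact hstep.2.1

omit hH in
theorem inW_sub {z : ι → ℤ} (hz : InW b W z) (hzr : z ≠ r) : InW b W (r - Pi.single j 1) := by
  rcases (chain he T hz).cases_tail with h | ⟨z', -, hz', -, i, hi⟩
  · exact absurd h.symm hzr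
  · have h1 : z' = r - Pi.single i 1 := by rw [hi]; abel
    rw [h1] at hz'
    have : i = j := (T.isWt_sub_iff i).mp hz'.isWt
    rwa [this] at hz'

omit hH in
theorem inW_sub_sub {z : ι → ℤ} (hz : InW b W z) (hzr : z ≠ r) (hzr' : z ≠ r - Pi.single j 1) :
    ∃ i, InW b W (r - Pi.single j 1 - Pi.single i 1) := by
  rcases (chain he T hz).cases_tail with h | ⟨z', hchain, hz', -, i, hi⟩
  · exact absurd h.symm hzr
  · have h1 : z' = r - Pi.single i 1 := by rw [hi]; abel
    have hij : i = j := by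
      rw [h1] at hz'
      exact (T.isWt_sub_iff i).mp hz'.isWt
    rw [hij] at h1
    rcases hchain.cases_tail with h | ⟨z'', -, hz'', -, k, hk⟩
    · exact absurd (h.symm.trans h1) hzr'
    · refine ⟨k, ?_⟩
      have h2 : z'' = r - Pi.single j 1 - Pi.single k 1 := by
        rw [← h1, hk]; abel
      rwa [h2] at hz''

end Stable

end Groth.Agent.Lib.Seat65.AdjVarC
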