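import Groth.Agent.Lib.Seat65AdjVarC
set_option autoImplicit false
set_option linter.unusedSectionVars false
universe u v w
open LieAlgebra LieModule

namespace Groth.Agent.Lib.Seat65.AdjVarD

open Groth.Agent.Lib.Seat65.AdjVarA Groth.Agent.Lib.Seat65.AdjVarB Groth.Agent.Lib.Seat65.AdjVarC

variable {ι : Type u} {K : Type v} {L : Type w} [Fintype ι] [Field K] [CharZero K]
    [IsAlgClosed K] [LieRing L] [LieAlgebra K L] [FiniteDimensional K L] [LieAlgebra.IsSimple K L]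
    {H : LieSubalgebra K L} [H.IsCartanSubalgebra] (b : LieAlgebra.Basis ι H)

/-- Translation of the hypotheses on `ρ` into lattice form. -/
theorem exists_top [DecidableEq ι] (ρ : Module.Dual K H) (hρ : rootSpace H ρ ≠ ⊥)
    (htop : ∀ i, rootSpace H (ρ + b.baseSupp i) = ⊥)
    (j : ι) (hN : ∀ i, ρ (b.h' i) ≠ 0 ↔ i = j) (hj : ρ (b.h' j) = 1) :
    ∃ r : ι → ℤ, (⇑ρ : H → K) = wt b r ∧ Top b r j := by
  obtain ⟨r, hr, -⟩ := exists_lattice b hρ
  refine ⟨r, hr, ⟨?_, fun i => ?_, fun i => ?_, ?_⟩⟩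
  · unfold IsWt; rw [← hr]; exact hρ
  · unfold IsWt; rw [wt_add, wt_single, ← hr]; exact not_not.mpr (htop i)
  · rw [← hr]; exact hN i
  · rw [← hr]; exact hj

theorem e_mem_borel (i : ι) : b.e i ∈ (b.borelUpper : Submodule K L) := by
  change b.e i ∈ LieSubalgebra.lieSpan K L (Set.range b.e)
  exact LieSubalgebra.subset_lieSpan (Set.mem_range_self i)

theorem mem_borel_iff {x : L} :
    x ∈ (b.borelUpper : Submodule K L) ↔ x ∈ LieSubalgebra.lieSpan K L (Set.range b.e) := Iff.rfl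

section

variable {b} {W : Submodule K L}
  (hst : ∀ x ∈ H.toSubmodule ⊔ (b.borelUpper : Submodule K L), ∀ w ∈ W, ⁅x, w⁆ ∈ W)
include hst

theorem stable_H : ∀ h : H, ∀ w ∈ W, ⁅(h : L), w⁆ ∈ W :=
  fun h w hw => hst h (Submodule.mem_sup_left h.2) w hw

theorem stable_e : ∀ i, ∀ w ∈ W, ⁅b.e i, w⁆ ∈ W :=
  fun i w hw => hst (b.e i) (Submodule.mem_sup_right (e_mem_borel b i)) w hw

end

section Top

variable [DecidableEq ι] {b} {r : ι → ℤ} {j : ι} (T : Top b r j)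
include T

theorem ne_sub : r ≠ r - Pi.single j 1 := by
  intro h
  have := congrFun h j
  simp only [Pi.sub_apply, Pi.single_eq_same] at this
  omega

theorem ne_sub_sub (i : ι) : r ≠ r - Pi.single j 1 - Pi.single i 1 := by
  intro h
  have := congrFun h j
  simp only [Pi.sub_apply, Pi.single_eq_same] at this
  have h2 : (0 : ℤ) ≤ (Pi.single i 1 : ι → ℤ) j := by
    by_cases hk : j = i
    · subst hk; simp
    · simp [hk]
  omega

theorem sub_ne_sub_sub (i : ι) : r - Pi.single j 1 ≠ r - Pi.single j 1 - Pi.single i 1 := by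
  intro h
  have := congrFun h i
  simp only [Pi.sub_apply, Pi.single_eq_same] at this
  omega

/-- The sum of the top two root spaces is stable under the Borel subalgebra. -/
theorem stable_sup2 :
    ∀ x ∈ H.toSubmodule ⊔ (b.borelUpper : Submodule K L),
      ∀ w ∈ RSm b r ⊔ RSm b (r - Pi.single j 1), ⁅x, w⁆ ∈ RSm b r ⊔ RSm b (r - Pi.single j 1) := by
  set U := RSm b r ⊔ RSm b (r - Pi.single j 1) with hU
  have hHU : ∀ h ∈ H.toSubmodule, ∀ w ∈ U, ⁅h, w⁆ ∈ U := by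
    intro h hh w hw
    obtain ⟨w1, hw1, w2, hw2, rfl⟩ := Submodule.mem_sup.mp hw
    rw [lie_add]
    refine U.add_mem (Submodule.mem_sup_left ?_) (Submodule.mem_sup_right ?_)
    · exact (rootSpace H (wt b r)).lie_mem (x := ⟨h, hh⟩) hw1
    · exact (rootSpace H (wt b (r - Pi.single j 1))).lie_mem (x := ⟨h, hh⟩) hw2
  have heU : ∀ y ∈ Set.range b.e, ∀ w ∈ U, ⁅y, w⁆ ∈ U := by
    rintro _ ⟨i, rfl⟩ w hw
    obtain ⟨w1, hw1, w2, hw2, rfl⟩ := Submodule.mem_sup.mp hw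
    rw [lie_add]
    have h1 : ⁅b.e i, w1⁆ = 0 := by
      have h2 := lie_mem_RS b (e_mem_RS b i) hw1
      have h3 := T.top i
      unfold IsWt at h3
      rw [not_not, add_comm] at h3
      exact (LieSubmodule.eq_bot_iff _).mp h3 _ h2
    rw [h1, zero_add]
    have h2 := lie_mem_RS b (e_mem_RS b i) hw2
    by_cases hij : i = j
    · subst hij
      rw [add_sub_cancel] at h2
      exact Submodule.mem_sup_left h2
    · have h3 := T.not_isWt_sub_add hij
      unfold IsWt at h3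
      rw [not_not, add_comm] at h3
      rw [(LieSubmodule.eq_bot_iff _).mp h3 _ h2]
      exact U.zero_mem
  intro x hx w hw
  obtain ⟨h, hh, u, hu, rfl⟩ := Submodule.mem_sup.mp hx
  rw [add_lie]
  exact U.add_mem (hHU h hh w hw)
    (lie_mem_of_mem_lieSpan U _ heU ((mem_borel_iff b).mp hu) hw)

variable {W : Submodule K L}
  (hst : ∀ x ∈ H.toSubmodule ⊔ (b.borelUpper : Submodule K L), ∀ w ∈ W, ⁅x, w⁆ ∈ W)
include hst

theorem top_le (hW : W ≠ ⊥) : RSm b r ≤ W :=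
  (inW_top (stable_H hst) (stable_e hst) T hW).le T.ne_zero

theorem sub_le (hW : 2 ≤ Module.finrank K W) : RSm b (r - Pi.single j 1) ≤ W := by
  have hex : ∃ z, InW b W z ∧ z ≠ r := by
    by_contra! h
    have h1 : W ≤ RSm b r := le_of_inW_imp (b := b) (stable_H hst) fun z hz => by rw [h z hz]
    have h2 := Submodule.finrank_mono h1
    rw [finrank_RSm b T.isWt T.ne_zero] at h2
    omega
  obtain ⟨z, hz, hzr⟩ := hex
  exact (inW_sub (stable_e hst) T hz hzr).le T.sub_ne_zero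

theorem sup2_le (hW : 2 ≤ Module.finrank K W) : RSm b r ⊔ RSm b (r - Pi.single j 1) ≤ W := by
  refine sup_le (top_le T hst ?_) (sub_le T hst hW)
  rintro rfl
  rw [finrank_bot] at hW
  omega

theorem eq_sup2 (hW : Module.finrank K W = 2) : W = RSm b r ⊔ RSm b (r - Pi.single j 1) := by
  have h1 := sup2_le T hst hW.ge
  have h2 := finrank_sup2 b T.isWt T.ne_zero T.isWt_sub T.sub_ne_zero (ne_sub T)
  exact (Submodule.eq_of_le_of_finrank_eq h1 (h2.trans hW.symm)).symm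

theorem eq_sup3 (hW : Module.finrank K W = 3) : ∃ i : ι, i ≠ j ∧ b.A i j ≠ 0 ∧
    IsWt b (r - Pi.single j 1 - Pi.single i 1) ∧ r - Pi.single j 1 - Pi.single i 1 ≠ 0 ∧
    W = RSm b r ⊔ RSm b (r - Pi.single j 1) ⊔ RSm b (r - Pi.single j 1 - Pi.single i 1) := by
  have h1 := sup2_le T hst (by omega : 2 ≤ Module.finrank K W)
  have hex : ∃ z, InW b W z ∧ z ≠ r ∧ z ≠ r - Pi.single j 1 := by
    by_contra! h
    have h2 : W ≤ RSm b r ⊔ RSm b (r - Pi.single j 1) :=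
      le_of_inW_imp (b := b) (stable_H hst) fun z hz => by
        by_cases hzr : z = r
        · rw [hzr]; exact le_sup_left
        · rw [h z hz hzr]; exact le_sup_right
    have h3 := Submodule.finrank_mono h2
    rw [finrank_sup2 b T.isWt T.ne_zero T.isWt_sub T.sub_ne_zero (ne_sub T)] at h3
    omega
  obtain ⟨z, hz, hzr, hzr'⟩ := hex
  obtain ⟨i, hi⟩ := inW_sub_sub (stable_e hst) T hz hzr hzr'
  obtain ⟨hij, hA, h0⟩ := T.of_isWt_sub_sub hi.isWt
  refine ⟨i, hij, hA, hi.isWt, h0, ?_⟩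
  have h4 : RSm b r ⊔ RSm b (r - Pi.single j 1) ⊔ RSm b (r - Pi.single j 1 - Pi.single i 1) ≤ W :=
    sup_le h1 (hi.le h0)
  have h5 := finrank_sup3 b T.isWt T.ne_zero T.isWt_sub T.sub_ne_zero hi.isWt h0 (ne_sub T)
    (ne_sub_sub T i) (sub_ne_sub_sub T i)
  exact (Submodule.eq_of_le_of_finrank_eq h4 (h5.trans hW.symm)).symm

end Top

/-- Statement S17430. -/
theorem twoDim_iff (ρ : Module.Dual K H) (hρ : rootSpace H ρ ≠ ⊥)
    (htop : ∀ i, rootSpace H (ρ + b.baseSupp i) = ⊥)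
    (j : ι) (hN : ∀ i, ρ (b.h' i) ≠ 0 ↔ i = j) (hj : ρ (b.h' j) = 1)
    (W : Submodule K L) :
    (Module.finrank K W = 2 ∧
        ∀ x ∈ H.toSubmodule ⊔ (b.borelUpper : Submodule K L), ∀ w ∈ W, ⁅x, w⁆ ∈ W) ↔
      W = (rootSpace H ρ : Submodule K L) ⊔ (rootSpace H (ρ - b.baseSupp j) : Submodule K L) := by
  classical
  obtain ⟨r, hr, T⟩ := exists_top b ρ hρ htop j hN hj
  have h1 : (⇑ρ - ⇑(b.baseSupp j) : H → K) = wt b (r - Pi.single j 1) := by
    rw [wt_sub, wt_single, hr]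
  rw [h1, hr]
  constructor
  · rintro ⟨hW, hst⟩
    exact eq_sup2 T hst hW
  · rintro rfl
    exact ⟨finrank_sup2 b T.isWt T.ne_zero T.isWt_sub T.sub_ne_zero (ne_sub T), stable_sup2 T⟩

/-- Statement S17431. -/
theorem threeDim_eq (ρ : Module.Dual K H) (hρ : rootSpace H ρ ≠ ⊥)
    (htop : ∀ i, rootSpace H (ρ + b.baseSupp i) = ⊥)
    (j : ι) (hN : ∀ i, ρ (b.h' i) ≠ 0 ↔ i = j) (hj : ρ (b.h' j) = 1)
    (W : Submodule K L) (hW : Module.finrank K W = 3)
    (hst : ∀ x ∈ H.toSubmodule ⊔ (b.borelUpper : Submodule K L), ∀ w ∈ W, ⁅x, w⁆ ∈ W) :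
    (rootSpace H ρ : Submodule K L) ⊔ (rootSpace H (ρ - b.baseSupp j) : Submodule K L) ≤ W ∧
      ∃ i : ι, i ≠ j ∧ b.A i j ≠ 0 ∧
        W = (rootSpace H ρ : Submodule K L) ⊔ (rootSpace H (ρ - b.baseSupp j) : Submodule K L) ⊔
          (rootSpace H (ρ - b.baseSupp j - b.baseSupp i) : Submodule K L) := by
  classical
  obtain ⟨r, hr, T⟩ := exists_top b ρ hρ htop j hN hj
  have h1 : (⇑ρ - ⇑(b.baseSupp j) : H → K) = wt b (r - Pi.single j 1) := by
    rw [wt_sub, wt_single, hr]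
  have h2 : ∀ i, (⇑ρ - ⇑(b.baseSupp j) - ⇑(b.baseSupp i) : H → K) =
      wt b (r - Pi.single j 1 - Pi.single i 1) := by
    intro i
    rw [wt_sub, wt_single, h1]
  refine ⟨?_, ?_⟩
  · rw [h1, hr]
    exact sup2_le T hst (by omega)
  · obtain ⟨i, hij, hA, -, -, hWeq⟩ := eq_sup3 T hst hW
    refine ⟨i, hij, hA, ?_⟩
    rw [h2 i, h1, hr]
    exact hWeq

end Groth.Agent.Lib.Seat65.AdjVarD
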