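import Groth.Agent.Lib.Seat65AdjVarD
set_option autoImplicit false
set_option linter.unusedSectionVars false
universe u v w
open LieAlgebra LieModule QuadraticMap

namespace Groth.Agent.Lib.Seat65.AdjVarE

open Groth.Agent.Lib.Seat65.AdjVarA Groth.Agent.Lib.Seat65.AdjVarB Groth.Agent.Lib.Seat65.AdjVarC
  Groth.Agent.Lib.Seat65.AdjVarD

/-- A quadratic form which is diagonal with at most one nonzero diagonal entry with respect to a
spanning triple is a multiple of the square of a linear form. -/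
theorem quad_rank_one {K W : Type*} [Field K] [CharZero K] [AddCommGroup W] [Module K W]
    (q : QuadraticForm K W) (u v w : W)
    (hspan : ∀ p : W, ∃ x y z : K, p = x • u + y • v + z • w)
    (huv : polar q u v = 0) (huw : polar q u w = 0) (hvw : polar q v w = 0)
    (h1 : q u ≠ 0 → q v = 0 ∧ q w = 0) (h2 : q v ≠ 0 → q w = 0) :
    ∃ (ℓ : Module.Dual K W) (c : K), ∀ p : W, q p = c * ℓ p ^ 2 := by
  have hq : ∀ x y z : K, q (x • u + y • v + z • w) = x * x * q u + y * y * q v + z * z * q w := by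
    intro x y z
    rw [QuadraticMap.map_add (⇑q) (x • u + y • v) (z • w), QuadraticMap.map_add (⇑q) (x • u) (y • v)]
    simp only [QuadraticMap.map_smul, polar_add_left, polar_smul_left, polar_smul_right, huv, huw,
      hvw, smul_eq_mul, mul_zero, add_zero]
  have hpol : ∀ (t : W) (x y z : K), polar q t (x • u + y • v + z • w) =
      x * polar q t u + y * polar q t v + z * polar q t w := by
    intro t x y z
    simp only [polar_add_right, polar_smul_right, smul_eq_mul]
  have hvu : polar q v u = 0 := by rw [polar_comm]; exact huv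
  have hwu : polar q w u = 0 := by rw [polar_comm]; exact huw
  have hwv : polar q w v = 0 := by rw [polar_comm]; exact hvw
  have hself : ∀ t : W, polar q t t = 2 * q t := fun t => by
    rw [polar_self]; simp [two_mul]
  by_cases hu : q u = 0
  · by_cases hv : q v = 0
    · by_cases hw : q w = 0
      · refine ⟨0, 0, fun p => ?_⟩
        obtain ⟨x, y, z, rfl⟩ := hspan p
        rw [hq, hu, hv, hw]; simp
      · refine ⟨q.polarBilin w, (4 * q w)⁻¹, fun p => ?_⟩
        obtain ⟨x, y, z, rfl⟩ := hspan p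
        rw [polarBilin_apply_apply, hq, hpol, hwu, hwv, hself, hu, hv]
        field_simp
        ring
    · have hw := h2 hv
      refine ⟨q.polarBilin v, (4 * q v)⁻¹, fun p => ?_⟩
      obtain ⟨x, y, z, rfl⟩ := hspan p
      rw [polarBilin_apply_apply, hq, hpol, hvu, hvw, hself, hu, hw]
      field_simp
      ring
  · obtain ⟨hv, hw⟩ := h1 hu
    refine ⟨q.polarBilin u, (4 * q u)⁻¹, fun p => ?_⟩
    obtain ⟨x, y, z, rfl⟩ := hspan p
    rw [polarBilin_apply_apply, hq, hpol, huv, huw, hself, hv, hw]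
    field_simp
    ring


variable {ι : Type u} {K : Type v} {L : Type w} [Fintype ι] [Field K] [CharZero K]
    [IsAlgClosed K] [LieRing L] [LieAlgebra K L] [FiniteDimensional K L] [LieAlgebra.IsSimple K L]
    {H : LieSubalgebra K L} [H.IsCartanSubalgebra] {b : LieAlgebra.Basis ι H}
    {W : Submodule K L}
    (hst : ∀ x ∈ H.toSubmodule ⊔ (b.borelUpper : Submodule K L), ∀ w ∈ W, ⁅x, w⁆ ∈ W)

/-- The operator `ad x` restricted to the stable subspace `W`. -/
def D (x : L) (hx : x ∈ H.toSubmodule ⊔ (b.borelUpper : Submodule K L)) (p : W) : W :=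
  ⟨⁅x, (p : L)⁆, hst x hx p p.2⟩

theorem D_add (x : L) (hx : x ∈ H.toSubmodule ⊔ (b.borelUpper : Submodule K L)) (p p' : W) :
    D hst x hx (p + p') = D hst x hx p + D hst x hx p' :=
  Subtype.ext (by simp [D, lie_add])

theorem D_eq_smul (x : L) (hx : x ∈ H.toSubmodule ⊔ (b.borelUpper : Submodule K L)) {p p' : W}
    {c : K} (h : ⁅x, (p : L)⁆ = c • (p' : L)) : D hst x hx p = c • p' :=
  Subtype.ext (by simp [D, h])

theorem D_eq_zero (x : L) (hx : x ∈ H.toSubmodule ⊔ (b.borelUpper : Submodule K L)) {p : W}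
    (h : ⁅x, (p : L)⁆ = 0) : D hst x hx p = 0 :=
  Subtype.ext (by simp [D, h])

/-- Polarised form of semi-invariance. -/
theorem polarized (q : QuadraticForm K W) (x : L)
    (hx : x ∈ H.toSubmodule ⊔ (b.borelUpper : Submodule K L)) (c : K)
    (hc : ∀ p : W, polar q (D hst x hx p) p = c * q p) (p p' : W) :
    polar q (D hst x hx p) p' + polar q (D hst x hx p') p = c * polar q p p' := by
  have h1 := hc (p + p')
  rw [D_add, polar_add_left, polar_add_right, polar_add_right,
    QuadraticMap.map_add (⇑q) p p'] at h1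
  linear_combination h1 - hc p - hc p'

/-- Two pairs of weight vectors on which the polar form does not vanish have the same total
weight. -/
theorem pair_weight (q : QuadraticForm K W)
    (hq : ∀ (x : L) (hx : x ∈ H.toSubmodule ⊔ (b.borelUpper : Submodule K L)), ∃ c : K,
      ∀ p : W, polar q (D hst x hx p) p = c * q p)
    {z z' y y' : ι → ℤ} {p p' s s' : W}
    (hp : (p : L) ∈ rootSpace H (wt b z)) (hp' : (p' : L) ∈ rootSpace H (wt b z'))
    (hs : (s : L) ∈ rootSpace H (wt b y)) (hs' : (s' : L) ∈ rootSpace H (wt b y'))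
    (h1 : polar q p p' ≠ 0) (h2 : polar q s s' ≠ 0) : z + z' = y + y' := by
  apply wt_injective b
  funext h
  rw [wt_add, wt_add, Pi.add_apply, Pi.add_apply]
  have hx : (h : L) ∈ H.toSubmodule ⊔ (b.borelUpper : Submodule K L) := Submodule.mem_sup_left h.2
  obtain ⟨c, hc⟩ := hq h hx
  have key : ∀ {z z' : ι → ℤ} {p p' : W}, (p : L) ∈ rootSpace H (wt b z) →
      (p' : L) ∈ rootSpace H (wt b z') → polar q p p' ≠ 0 → wt b z h + wt b z' h = c := by
    intro z z' p p' hp hp' h1
    have e1 := polarized hst q h hx c hc p p'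
    rw [D_eq_smul hst h hx (lie_h hp h), D_eq_smul hst h hx (lie_h hp' h), polar_smul_left,
      polar_smul_left, polar_comm (⇑q) p' p, smul_eq_mul, smul_eq_mul, ← add_mul] at e1
    exact mul_right_cancel₀ h1 e1
  rw [key hp hp' h1, key hs hs' h2]

/-- Statement S17432 in lattice form. -/
theorem rank_le_one_of_top [DecidableEq ι] {r : ι → ℤ} {j : ι} (T : Top b r j)
    (hW : Module.finrank K W = 3) (q : QuadraticForm K W)
    (hq : ∀ (x : L) (hx : x ∈ H.toSubmodule ⊔ (b.borelUpper : Submodule K L)), ∃ c : K,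
      ∀ p : W, polar q (D hst x hx p) p = c * q p) :
    ∃ (ℓ : Module.Dual K W) (c : K), ∀ p : W, q p = c * ℓ p ^ 2 := by
  obtain ⟨i, hij, -, hcwt, hc0, hWeq⟩ := eq_sup3 T hst hW
  set a := r with ha
  set bb := r - Pi.single j 1 with hbb
  set cc := r - Pi.single j 1 - Pi.single i 1 with hcc
  have hab : a ≠ bb := ne_sub T
  have hac : a ≠ cc := ne_sub_sub T i
  have hbc : bb ≠ cc := sub_ne_sub_sub T i
  obtain ⟨u, hu, hu0⟩ := (zW b a T.isWt).exists_ne_zero
  obtain ⟨v, hv, hv0⟩ := (zW b bb T.isWt_sub).exists_ne_zero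
  obtain ⟨w, hw, hw0⟩ := (zW b cc hcwt).exists_ne_zero
  change u ∈ rootSpace H (wt b a) at hu
  change v ∈ rootSpace H (wt b bb) at hv
  change w ∈ rootSpace H (wt b cc) at hw
  have hle_a : RSm b a ≤ W := by rw [hWeq]; exact le_sup_of_le_left le_sup_left
  have hle_b : RSm b bb ≤ W := by rw [hWeq]; exact le_sup_of_le_left le_sup_right
  have hle_c : RSm b cc ≤ W := by rw [hWeq]; exact le_sup_right
  set uW : W := ⟨u, hle_a hu⟩ with huW
  set vW : W := ⟨v, hle_b hv⟩ with hvW
  set wW : W := ⟨w, hle_c hw⟩ with hwW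
  have huW' : (uW : L) ∈ rootSpace H (wt b a) := hu
  have hvW' : (vW : L) ∈ rootSpace H (wt b bb) := hv
  have hwW' : (wW : L) ∈ rootSpace H (wt b cc) := hw
  -- spanning
  have hspan : ∀ p : W, ∃ x y z : K, p = x • uW + y • vW + z • wW := by
    intro p
    have hp : (p : L) ∈ RSm b a ⊔ RSm b bb ⊔ RSm b cc := by rw [← hWeq]; exact p.2
    obtain ⟨p12, hp12, p3, hp3, h123⟩ := Submodule.mem_sup.mp hp
    obtain ⟨p1, hp1, p2, hp2, h12⟩ := Submodule.mem_sup.mp hp12
    obtain ⟨x, hx⟩ := exists_smul_eq b T.ne_zero hu hu0 hp1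
    obtain ⟨y, hy⟩ := exists_smul_eq b T.sub_ne_zero hv hv0 hp2
    obtain ⟨z, hz⟩ := exists_smul_eq b hc0 hw hw0 hp3
    refine ⟨x, y, z, Subtype.ext ?_⟩
    simp only [Submodule.coe_add, Submodule.coe_smul, huW, hvW, hwW]
    rw [← hx, ← hy, ← hz, h12, h123]
  -- brackets with `e j` and `e i`
  have hxj : b.e j ∈ H.toSubmodule ⊔ (b.borelUpper : Submodule K L) :=
    Submodule.mem_sup_right (e_mem_borel b j)
  have hxi : b.e i ∈ H.toSubmodule ⊔ (b.borelUpper : Submodule K L) :=
    Submodule.mem_sup_right (e_mem_borel b i)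
  obtain ⟨s, hs, hs0⟩ : ∃ s : K, ⁅b.e j, v⁆ = s • u ∧ s ≠ 0 := by
    have h1 : ⁅b.e j, v⁆ ∈ rootSpace H (wt b a) := by
      have := lie_mem_RS b (e_mem_RS b j) hv
      rwa [hbb, add_sub_cancel] at this
    have h2 : ⁅b.e j, v⁆ ≠ 0 := by
      refine lie_e_ne_zero b j T.sub_ne_zero ?_ hv hv0
      rw [sub_add_cancel]; exact T.isWt
    obtain ⟨s, hs⟩ := exists_smul_eq b T.ne_zero hu hu0 h1
    refine ⟨s, hs, ?_⟩
    rintro rfl
    rw [zero_smul] at hs
    exact h2 hs
  have hjw : ⁅b.e j, w⁆ = 0 := by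
    have h1 := lie_mem_RS b (e_mem_RS b j) hw
    have h2 : Pi.single j 1 + cc = r - Pi.single i 1 := by rw [hcc]; abel
    rw [h2] at h1
    have h3 : ¬ IsWt b (r - Pi.single i 1) := fun h => hij ((T.isWt_sub_iff i).mp h)
    unfold IsWt at h3
    rw [not_not] at h3
    exact (LieSubmodule.eq_bot_iff _).mp h3 _ h1
  obtain ⟨t, ht, ht0⟩ : ∃ t : K, ⁅b.e i, w⁆ = t • v ∧ t ≠ 0 := by
    have h1 : ⁅b.e i, w⁆ ∈ rootSpace H (wt b bb) := by
      have := lie_mem_RS b (e_mem_RS b i) hw
      rwa [hcc, add_sub_cancel] at this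
    have h2 : ⁅b.e i, w⁆ ≠ 0 := by
      refine lie_e_ne_zero b i hc0 ?_ hw hw0
      rw [hcc, sub_add_cancel]; exact T.isWt_sub
    obtain ⟨t, ht⟩ := exists_smul_eq b T.sub_ne_zero hv hv0 h1
    refine ⟨t, ht, ?_⟩
    rintro rfl
    rw [zero_smul] at ht
    exact h2 ht
  have hDjv : D hst (b.e j) hxj vW = s • uW := D_eq_smul hst _ hxj hs
  have hDjw : D hst (b.e j) hxj wW = 0 := D_eq_zero hst _ hxj hjw
  have hDiw : D hst (b.e i) hxi wW = t • vW := D_eq_smul hst _ hxi ht
  obtain ⟨cj, hcj⟩ := hq (b.e j) hxj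
  obtain ⟨ci, hci⟩ := hq (b.e i) hxi
  have two_ne : (2 : K) ≠ 0 := two_ne_zero
  -- off-diagonal entries vanish
  have huv : polar q uW vW = 0 := by
    by_contra h
    have hvv : polar q vW vW = 0 := by
      by_contra h'
      have h3 := pair_weight hst q hq huW' hvW' hvW' hvW' h h'
      exact hab (add_right_cancel h3)
    have e1 := polarized hst q (b.e j) hxj cj hcj vW vW
    rw [hDjv, polar_smul_left, hvv, mul_zero, smul_eq_mul, ← two_mul] at e1
    rcases mul_eq_zero.mp e1 with h4 | h4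
    · exact two_ne h4
    · rcases mul_eq_zero.mp h4 with h5 | h5
      · exact hs0 h5
      · exact h h5
  have huw : polar q uW wW = 0 := by
    by_contra h
    have hvw' : polar q vW wW = 0 := by
      by_contra h'
      have h3 := pair_weight hst q hq huW' hwW' hvW' hwW' h h'
      exact hab (add_right_cancel h3)
    have e1 := polarized hst q (b.e j) hxj cj hcj vW wW
    rw [hDjv, hDjw, polar_smul_left, polar_zero_left, hvw', mul_zero, add_zero, smul_eq_mul] at e1
    rcases mul_eq_zero.mp e1 with h5 | h5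
    · exact hs0 h5
    · exact h h5
  have hvw : polar q vW wW = 0 := by
    by_contra h
    have hww : polar q wW wW = 0 := by
      by_contra h'
      have h3 := pair_weight hst q hq hvW' hwW' hwW' hwW' h h'
      exact hbc (add_right_cancel h3)
    have e1 := polarized hst q (b.e i) hxi ci hci wW wW
    rw [hDiw, polar_smul_left, hww, mul_zero, smul_eq_mul, ← two_mul] at e1
    rcases mul_eq_zero.mp e1 with h4 | h4
    · exact two_ne h4
    · rcases mul_eq_zero.mp h4 with h5 | h5
      · exact ht0 h5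
      · exact h h5
  have hself : ∀ t : W, q t ≠ 0 → polar q t t ≠ 0 := fun t ht => by
    rw [polar_self]
    simpa [two_ne] using ht
  have hdouble : ∀ {z z' : ι → ℤ}, z + z = z' + z' → z = z' := by
    intro z z' h
    funext k
    have := congrFun h k
    simp only [Pi.add_apply] at this
    omega
  have h1 : q uW ≠ 0 → q vW = 0 ∧ q wW = 0 := by
    intro hu'
    refine ⟨?_, ?_⟩
    · by_contra hv'
      exact hab (hdouble (pair_weight hst q hq huW' huW' hvW' hvW' (hself _ hu') (hself _ hv')))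
    · by_contra hw'
      exact hac (hdouble (pair_weight hst q hq huW' huW' hwW' hwW' (hself _ hu') (hself _ hw')))
  have h2 : q vW ≠ 0 → q wW = 0 := by
    intro hv'
    by_contra hw'
    exact hbc (hdouble (pair_weight hst q hq hvW' hvW' hwW' hwW' (hself _ hv') (hself _ hw')))
  exact quad_rank_one q uW vW wW hspan huv huw hvw h1 h2

/-- Statement S17432. -/
theorem semiInvariant_rank_le_one (b : LieAlgebra.Basis ι H)
    (ρ : Module.Dual K H) (hρ : rootSpace H ρ ≠ ⊥) (htop : ∀ i, rootSpace H (ρ + b.baseSupp i) = ⊥)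
    (j : ι) (hN : ∀ i, ρ (b.h' i) ≠ 0 ↔ i = j) (hj : ρ (b.h' j) = 1)
    (W : Submodule K L) (hW : Module.finrank K W = 3)
    (hst : ∀ x ∈ H.toSubmodule ⊔ (b.borelUpper : Submodule K L), ∀ w ∈ W, ⁅x, w⁆ ∈ W)
    (q : QuadraticForm K W)
    (hq : ∀ (x : L) (hx : x ∈ H.toSubmodule ⊔ (b.borelUpper : Submodule K L)), ∃ c : K, ∀ w : W,
      QuadraticMap.polar q ⟨⁅x, (w : L)⁆, hst x hx w w.property⟩ w = c * q w) :
    ∃ (ℓ : Module.Dual K W) (c : K), ∀ w : W, q w = c * ℓ w ^ 2 := by
  classical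
  obtain ⟨r, -, T⟩ := exists_top b ρ hρ htop j hN hj
  exact rank_le_one_of_top hst T hW q hq

end Groth.Agent.Lib.Seat65.AdjVarE
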