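import Groth.Agent.Lib.Seat65AdjVarD
set_option autoImplicit false
set_option linter.unusedSectionVars false
universe u v w
open LieAlgebra LieModule

namespace Groth.Agent.Lib.Seat65.AdjVarF

open Groth.Agent.Lib.Seat65.AdjVarA Groth.Agent.Lib.Seat65.AdjVarB Groth.Agent.Lib.Seat65.AdjVarC
  Groth.Agent.Lib.Seat65.AdjVarD

variable {ι : Type u} {K : Type v} {L : Type w} [Fintype ι] [Field K] [CharZero K]
    [IsAlgClosed K] [LieRing L] [LieAlgebra K L] [FiniteDimensional K L] [LieAlgebra.IsSimple K L]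
    {H : LieSubalgebra K L} [H.IsCartanSubalgebra] (b : LieAlgebra.Basis ι H)

theorem isWt_neg {z : ι → ℤ} (hz : IsWt b z) : IsWt b (-z) := by
  have h1 := (-(zW b z hz) : Weight K H L).genWeightSpace_ne_bot
  unfold IsWt
  rw [wt_neg]
  exact h1

theorem eq_zero_of_not_isWt {z : ι → ℤ} (hz : ¬ IsWt b z) {x : L}
    (hx : x ∈ rootSpace H (wt b z)) : x = 0 := by
  unfold IsWt at hz
  rw [not_not] at hz
  exact (LieSubmodule.eq_bot_iff _).mp hz _ hx

/-- Root strings in an arbitrary root direction. -/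
theorem string_gen {y z : ι → ℤ} (hy : IsWt b y) (hy0 : y ≠ 0) (hz : IsWt b z) :
    ∃ p q : ℕ, (∀ n : ℤ, IsWt b (z + n • y) ↔ n ≤ p ∧ -n ≤ q) ∧
      wt b z (LieAlgebra.IsKilling.coroot (zW b y hy)) = (q : K) - (p : K) := by
  refine ⟨chainTopCoeff (zW b y hy) (zW b z hz), chainBotCoeff (zW b y hy) (zW b z hz), ?_, ?_⟩
  · intro n
    have := LieAlgebra.IsKilling.rootSpace_zsmul_add_ne_bot_iff (zW b y hy) (zW b z hz)
      (zW_isNonZero b hy hy0) n
    rw [← this]
    unfold IsWt
    rw [wt_add, wt_zsmul, add_comm]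
    rfl
  · have := LieAlgebra.IsKilling.apply_coroot_eq_cast (zW b y hy) (zW b z hz)
    rw [← coe_zW b z hz]
    rw [this]
    push_cast
    rfl

section Top

variable [DecidableEq ι] {b} {r : ι → ℤ} {j : ι} (T : Top b r j)
include T

theorem single_le : Pi.single j 1 ≤ r := T.le (isWt_single b j)

theorem one_le_rj : 1 ≤ r j := by
  have := single_le T j
  simpa using this

theorem not_isWt_two_sub : ¬ IsWt b (r + (r - Pi.single j 1)) := by
  intro h
  have h1 := T.le h
  apply T.ne_single
  refine le_antisymm (fun k => ?_) (single_le T)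
  have h2 : r k + (r k - (Pi.single j 1 : ι → ℤ) k) ≤ r k := h1 k
  show r k ≤ (Pi.single j 1 : ι → ℤ) k
  omega

theorem not_isWt_neg_sub : ¬ IsWt b (-r - Pi.single j 1) := by
  intro h
  have h1 := isWt_neg b h
  rw [neg_sub, sub_neg_eq_add, add_comm] at h1
  exact T.top j h1

/-- The simple root `α j` takes the value `1` on the coroot of the highest root. -/
theorem single_apply_coroot :
    wt b (Pi.single j 1) (LieAlgebra.IsKilling.coroot (zW b r T.isWt)) = 1 := by
  obtain ⟨p, q, hstr, hval⟩ := string_gen b T.isWt T.ne_zero (isWt_single b j)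
  have hp : p = 0 := by
    by_contra hp
    have h1 := (hstr 1).mpr ⟨by omega, by omega⟩
    rw [one_smul, add_comm] at h1
    exact T.top j h1
  have hq1 : 1 ≤ q := by
    have h1 : IsWt b (Pi.single j 1 + (-1 : ℤ) • r) := by
      have := isWt_neg b T.isWt_sub
      rwa [neg_sub, sub_eq_add_neg, ← neg_one_smul ℤ r] at this
    have := ((hstr (-1)).mp h1).2
    omega
  have hq2 : q ≤ 1 := by
    by_contra hq2
    have h1 := (hstr (-2)).mpr ⟨by omega, by omega⟩
    have h2 := isWt_neg b h1
    apply not_isWt_two_sub T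
    have : -(Pi.single j 1 + (-2 : ℤ) • r) = r + (r - Pi.single j 1) := by
      rw [neg_smul, two_smul]; abel
    rwa [this] at h2
  have hq : q = 1 := by omega
  rw [hval, hp, hq]
  simp

theorem top_apply_coroot : wt b r (LieAlgebra.IsKilling.coroot (zW b r T.isWt)) = 2 :=
  LieAlgebra.IsKilling.root_apply_coroot (zW_isNonZero b T.isWt T.ne_zero)

theorem sub_apply_coroot :
    wt b (r - Pi.single j 1) (LieAlgebra.IsKilling.coroot (zW b r T.isWt)) = 1 := by
  rw [wt_sub, Pi.sub_apply, top_apply_coroot T, single_apply_coroot T]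
  norm_num

theorem neg_single_apply_coroot :
    wt b (-Pi.single j 1) (LieAlgebra.IsKilling.coroot (zW b r T.isWt)) = -1 := by
  rw [wt_neg, Pi.neg_apply, single_apply_coroot T]

end Top

end Groth.Agent.Lib.Seat65.AdjVarF
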