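import Groth.Agent.Lib.Seat65AdjVarF
set_option autoImplicit false
set_option linter.unusedSectionVars false
universe u v w
open LieAlgebra LieModule

namespace Groth.Agent.Lib.Seat65.AdjVarG

open Groth.Agent.Lib.Seat65.AdjVarA Groth.Agent.Lib.Seat65.AdjVarB Groth.Agent.Lib.Seat65.AdjVarC
  Groth.Agent.Lib.Seat65.AdjVarD Groth.Agent.Lib.Seat65.AdjVarF

/-- A Lie algebra over a field of characteristic zero containing an `sl₂` triple is not solvable. -/
theorem not_isSolvable_of_isSl2Triple {K M : Type*} [Field K] [CharZero K] [LieRing M]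
    [LieAlgebra K M] {h e f : M} (t : IsSl2Triple h e f) : ¬ LieAlgebra.IsSolvable M := by
  intro hs
  obtain ⟨k, hk⟩ := (LieAlgebra.isSolvable_iff K M).mp hs
  have key : ∀ k, h ∈ derivedSeries K M k ∧ e ∈ derivedSeries K M k ∧
      f ∈ derivedSeries K M k := by
    intro k
    induction k with
    | zero => simp [derivedSeries_def]
    | succ k ih =>
      obtain ⟨hh, he, hf⟩ := ih
      rw [derivedSeries_def, derivedSeriesOfIdeal_succ, ← derivedSeries_def]
      refine ⟨?_, ?_, ?_⟩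
      · rw [← t.lie_e_f]; exact LieSubmodule.lie_mem_lie he hf
      · have h1 : ⁅h, e⁆ ∈ ⁅derivedSeries K M k, derivedSeries K M k⁆ :=
          LieSubmodule.lie_mem_lie hh he
        rw [t.lie_h_e_nsmul, ← Nat.cast_smul_eq_nsmul K] at h1
        have h2 := (⁅derivedSeries K M k, derivedSeries K M k⁆).smul_mem ((2 : K)⁻¹) h1
        rwa [smul_smul, Nat.cast_ofNat, inv_mul_cancel₀ two_ne_zero, one_smul] at h2
      · have h1 : ⁅h, f⁆ ∈ ⁅derivedSeries K M k, derivedSeries K M k⁆ :=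
          LieSubmodule.lie_mem_lie hh hf
        rw [t.lie_h_f_nsmul, ← Nat.cast_smul_eq_nsmul K, ← neg_smul] at h1
        have h2 := (⁅derivedSeries K M k, derivedSeries K M k⁆).smul_mem ((-2 : K)⁻¹) h1
        rwa [smul_smul, Nat.cast_ofNat, inv_mul_cancel₀ (neg_ne_zero.mpr two_ne_zero),
          one_smul] at h2
  have h1 := (key k).1
  rw [hk] at h1
  exact t.h_ne_zero (by simpa using h1)

section
variable {K M : Type*} [Field K] [CharZero K] [LieRing M] [LieAlgebra K M] {h e f : M}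
  (t : IsSl2Triple h e f)
include t

theorem sl2_ee (c₁ c₂ c₃ : K) :
    ⁅e, ⁅e, c₁ • e + c₂ • f + c₃ • h⁆⁆ = (-2 * c₂) • e := by
  have h1 : ⁅e, h⁆ = -((2 : K) • e) := by rw [← lie_skew, t.lie_h_e_smul K]
  simp only [lie_add, lie_smul, lie_self, t.lie_e_f, h1, smul_zero, zero_add, lie_neg, smul_neg,
    neg_zero, add_zero]
  module

theorem sl2_ff (c₁ c₂ c₃ : K) :
    ⁅f, ⁅f, c₁ • e + c₂ • f + c₃ • h⁆⁆ = (-2 * c₁) • f := by
  have h1 : ⁅f, h⁆ = (2 : K) • f := by rw [← lie_skew, t.lie_lie_smul_f K, neg_neg]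
  have h2 : ⁅f, e⁆ = -h := by rw [← lie_skew, t.lie_e_f]
  simp only [lie_add, lie_smul, lie_self, h1, h2, smul_zero, lie_neg, smul_neg, add_zero]
  module

/-- A solvable ideal meets the span of an `sl₂` triple trivially. -/
theorem eq_zero_of_mem_solvable_ideal (I : LieIdeal K M) [hI : LieAlgebra.IsSolvable I]
    {c₁ c₂ c₃ : K} (hmem : c₁ • e + c₂ • f + c₃ • h ∈ I) : c₁ = 0 ∧ c₂ = 0 ∧ c₃ = 0 := by
  have two_ne : (2 : K) ≠ 0 := two_ne_zero
  -- if `e` or `f` lies in `I` then the whole triple does, which is impossible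
  have hall : e ∈ I → f ∈ I → h ∈ I → False := by
    intro heI hfI hhI
    have tI : IsSl2Triple (⟨h, hhI⟩ : I) ⟨e, heI⟩ ⟨f, hfI⟩ :=
      { h_ne_zero := fun h0 => t.h_ne_zero (by simpa using congrArg Subtype.val h0)
        lie_e_f := Subtype.ext t.lie_e_f
        lie_h_e_nsmul := Subtype.ext t.lie_h_e_nsmul
        lie_h_f_nsmul := Subtype.ext t.lie_h_f_nsmul }
    exact not_isSolvable_of_isSl2Triple (K := K) tI hI
  have he_imp : e ∈ I → False := by
    intro heI
    have hhI : h ∈ I := by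
      have : ⁅f, e⁆ ∈ I := I.lie_mem heI
      rw [← lie_skew, t.lie_e_f] at this
      simpa using this
    have hfI : f ∈ I := by
      have : ⁅f, h⁆ ∈ I := I.lie_mem hhI
      rw [← lie_skew, t.lie_lie_smul_f K, neg_neg] at this
      have h2 := I.smul_mem ((2 : K)⁻¹) this
      rwa [smul_smul, inv_mul_cancel₀ two_ne, one_smul] at h2
    exact hall heI hfI hhI
  have hf_imp : f ∈ I → False := by
    intro hfI
    have hhI : h ∈ I := by
      have : ⁅e, f⁆ ∈ I := I.lie_mem hfI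
      rwa [t.lie_e_f] at this
    have heI : e ∈ I := by
      have : ⁅e, h⁆ ∈ I := I.lie_mem hhI
      rw [← lie_skew, t.lie_h_e_smul K] at this
      have h2 := I.smul_mem ((-2 : K)⁻¹) this
      rwa [← neg_smul, smul_smul, inv_mul_cancel₀ (neg_ne_zero.mpr two_ne), one_smul] at h2
    exact hall heI hfI hhI
  have hc2 : c₂ = 0 := by
    by_contra hc
    have h1 : ⁅e, ⁅e, c₁ • e + c₂ • f + c₃ • h⁆⁆ ∈ I := I.lie_mem (I.lie_mem hmem)
    rw [sl2_ee t] at h1
    have h2 := I.smul_mem ((-2 * c₂)⁻¹) h1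
    rw [smul_smul, inv_mul_cancel₀ (mul_ne_zero (neg_ne_zero.mpr two_ne) hc), one_smul] at h2
    exact he_imp h2
  have hc1 : c₁ = 0 := by
    by_contra hc
    have h1 : ⁅f, ⁅f, c₁ • e + c₂ • f + c₃ • h⁆⁆ ∈ I := I.lie_mem (I.lie_mem hmem)
    rw [sl2_ff t] at h1
    have h2 := I.smul_mem ((-2 * c₁)⁻¹) h1
    rw [smul_smul, inv_mul_cancel₀ (mul_ne_zero (neg_ne_zero.mpr two_ne) hc), one_smul] at h2
    exact hf_imp h2
  refine ⟨hc1, hc2, ?_⟩
  by_contra hc
  rw [hc1, hc2, zero_smul, zero_smul, zero_add, zero_add] at hmem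
  have h1 : ⁅e, c₃ • h⁆ ∈ I := I.lie_mem hmem
  rw [lie_smul, ← lie_skew, t.lie_h_e_smul K, smul_neg, ← neg_smul, smul_smul] at h1
  have h2 := I.smul_mem ((-c₃ * 2)⁻¹) h1
  rw [smul_smul, inv_mul_cancel₀ (mul_ne_zero (neg_ne_zero.mpr hc) two_ne), one_smul] at h2
  exact he_imp h2

end

variable {ι : Type u} {K : Type v} {L : Type w} [Fintype ι] [Field K] [CharZero K]
    [IsAlgClosed K] [LieRing L] [LieAlgebra K L] [FiniteDimensional K L] [LieAlgebra.IsSimple K L]
    {H : LieSubalgebra K L} [H.IsCartanSubalgebra] (b : LieAlgebra.Basis ι H)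

/-- The sum of the root spaces of `ρ - α j` and `-α j`. -/
noncomputable def V [DecidableEq ι] (r : ι → ℤ) (j : ι) : Submodule K L :=
  RSm b (r - Pi.single j 1) ⊔ RSm b (-Pi.single j 1)

section Top

variable [DecidableEq ι] {b} {r : ι → ℤ} {j : ι} (T : Top b r j)
  {h e f : L} (t : IsSl2Triple h e f) (he : e ∈ rootSpace H (wt b r))
  (hf : f ∈ rootSpace H (wt b (-r)))
include T

theorem isWt_neg_single : IsWt b (-Pi.single j 1) := isWt_neg b (isWt_single b j)

theorem neg_single_ne_zero : (-Pi.single j 1 : ι → ℤ) ≠ 0 := by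
  intro h0
  have := congrFun h0 j
  simp at this

theorem sub_ne_neg_single : r - Pi.single j 1 ≠ -Pi.single j 1 := by
  intro h0
  apply T.ne_zero
  have : r = r - Pi.single j 1 + Pi.single j 1 := by abel
  rw [this, h0]; abel

theorem finrank_V : Module.finrank K (V b r j) = 2 :=
  finrank_sup2 b T.isWt_sub T.sub_ne_zero (isWt_neg_single T) (neg_single_ne_zero T)
    (sub_ne_neg_single T)

include he in
theorem lie_e_V : ∀ v ∈ V b r j, ⁅e, v⁆ ∈ V b r j := by
  intro v hv
  obtain ⟨v1, hv1, v2, hv2, rfl⟩ := Submodule.mem_sup.mp hv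
  rw [lie_add]
  have h1 : ⁅e, v1⁆ = 0 := eq_zero_of_not_isWt b (not_isWt_two_sub T) (lie_mem_RS b he hv1)
  have h2 : ⁅e, v2⁆ ∈ rootSpace H (wt b (r - Pi.single j 1)) := by
    have := lie_mem_RS b he hv2
    rwa [← sub_eq_add_neg] at this
  rw [h1, zero_add]
  exact Submodule.mem_sup_left h2

include hf in
theorem lie_f_V : ∀ v ∈ V b r j, ⁅f, v⁆ ∈ V b r j := by
  intro v hv
  obtain ⟨v1, hv1, v2, hv2, rfl⟩ := Submodule.mem_sup.mp hv
  rw [lie_add]
  have h2 : ⁅f, v2⁆ = 0 := by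
    refine eq_zero_of_not_isWt b (not_isWt_neg_sub T) ?_
    have := lie_mem_RS b hf hv2
    rwa [← sub_eq_add_neg] at this
  have h1 : ⁅f, v1⁆ ∈ rootSpace H (wt b (-Pi.single j 1)) := by
    have := lie_mem_RS b hf hv1
    have h3 : -r + (r - Pi.single j 1) = -Pi.single j 1 := by abel
    rwa [h3] at this
  rw [h2, add_zero]
  exact Submodule.mem_sup_right h1

theorem lie_H_V (x : H) : ∀ v ∈ V b r j, ⁅(x : L), v⁆ ∈ V b r j := by
  intro v hv
  obtain ⟨v1, hv1, v2, hv2, rfl⟩ := Submodule.mem_sup.mp hv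
  rw [lie_add]
  exact (V b r j).add_mem
    (Submodule.mem_sup_left ((rootSpace H (wt b (r - Pi.single j 1))).lie_mem (x := x) hv1))
    (Submodule.mem_sup_right ((rootSpace H (wt b (-Pi.single j 1))).lie_mem (x := x) hv2))

theorem lie_V_V : ∀ v ∈ V b r j, ∀ v' ∈ V b r j, ⁅v, v'⁆ = 0 := by
  intro v hv v' hv'
  obtain ⟨v1, hv1, v2, hv2, rfl⟩ := Submodule.mem_sup.mp hv
  obtain ⟨v1', hv1', v2', hv2', rfl⟩ := Submodule.mem_sup.mp hv'
  have hβ : ∀ x ∈ rootSpace H (wt b (r - Pi.single j 1)),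
      ∀ y ∈ rootSpace H (wt b (r - Pi.single j 1)), ⁅x, y⁆ = 0 := by
    intro x hx y hy
    by_cases hx0 : x = 0
    · rw [hx0, zero_lie]
    · obtain ⟨c, rfl⟩ := exists_smul_eq b T.sub_ne_zero hx hx0 hy
      rw [lie_smul, lie_self, smul_zero]
  have hγ : ∀ x ∈ rootSpace H (wt b (-Pi.single j 1)),
      ∀ y ∈ rootSpace H (wt b (-Pi.single j 1)), ⁅x, y⁆ = 0 := by
    intro x hx y hy
    by_cases hx0 : x = 0
    · rw [hx0, zero_lie]
    · obtain ⟨c, rfl⟩ := exists_smul_eq b (neg_single_ne_zero T) hx hx0 hy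
      rw [lie_smul, lie_self, smul_zero]
  have hβγ : ∀ x ∈ rootSpace H (wt b (r - Pi.single j 1)),
      ∀ y ∈ rootSpace H (wt b (-Pi.single j 1)), ⁅x, y⁆ = 0 := by
    intro x hx y hy
    refine eq_zero_of_not_isWt b T.not_isWt_sub_two ?_
    have := lie_mem_RS b hx hy
    rwa [← sub_eq_add_neg] at this
  rw [add_lie, lie_add, lie_add, hβ v1 hv1 v1' hv1', hβγ v1 hv1 v2' hv2', hγ v2 hv2 v2' hv2',
    ← lie_skew, hβγ v1' hv1' v2 hv2]
  simp


include t he hf in
theorem h_eq : h = (LieAlgebra.IsKilling.coroot (zW b r T.isWt) : L) := by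
  have hf' : f ∈ rootSpace H (-(zW b r T.isWt : H → K)) := by
    rw [coe_zW, ← wt_neg]; exact hf
  exact t.h_eq_coroot (zW_isNonZero b T.isWt T.ne_zero) he hf'

include t he hf in
theorem lie_h_V : ∀ v ∈ V b r j, ⁅h, v⁆ ∈ V b r j := by
  rw [h_eq T t he hf]
  exact lie_H_V T _

include he hf in
theorem lie_S0_V : ∀ a ∈ t.toLieSubalgebra K, ∀ v ∈ V b r j, ⁅a, v⁆ ∈ V b r j := by
  intro a ha v hv
  obtain ⟨c₁, c₂, c₃, rfl⟩ := IsSl2Triple.mem_toLieSubalgebra_iff.mp ha
  rw [t.lie_e_f, add_lie, add_lie, smul_lie, smul_lie, smul_lie]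
  exact (V b r j).add_mem ((V b r j).add_mem ((V b r j).smul_mem _ (lie_e_V T he v hv))
    ((V b r j).smul_mem _ (lie_f_V T hf v hv))) ((V b r j).smul_mem _ (lie_h_V T t he hf v hv))

/-- The five-dimensional subalgebra `sl₂(ρ) ⊕ V`. -/
noncomputable def S : LieSubalgebra K L :=
  { toSubmodule := (t.toLieSubalgebra K).toSubmodule ⊔ V b r j
    lie_mem' := fun {x y} hx hy => by
      obtain ⟨a, ha, v, hv, rfl⟩ := Submodule.mem_sup.mp hx
      obtain ⟨a', ha', v', hv', rfl⟩ := Submodule.mem_sup.mp hy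
      rw [add_lie, lie_add, lie_add, lie_V_V T v hv v' hv', add_zero]
      refine Submodule.add_mem _ (Submodule.add_mem _
        (Submodule.mem_sup_left ((t.toLieSubalgebra K).lie_mem ha ha'))
        (Submodule.mem_sup_right (lie_S0_V T t he hf a ha v' hv'))) (Submodule.mem_sup_right ?_)
      rw [← lie_skew]
      exact (V b r j).neg_mem (lie_S0_V T t he hf a' ha' v hv) }

theorem mem_S {x : L} : x ∈ S T t he hf ↔
    x ∈ (t.toLieSubalgebra K).toSubmodule ⊔ V b r j := Iff.rfl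

theorem S0_le_S : t.toLieSubalgebra K ≤ S T t he hf := fun _ hx =>
  (mem_S T t he hf).mpr (Submodule.mem_sup_left hx)

theorem V_le_S {x : L} (hx : x ∈ V b r j) : x ∈ S T t he hf :=
  (mem_S T t he hf).mpr (Submodule.mem_sup_right hx)

theorem e_mem_S0 : e ∈ t.toLieSubalgebra K :=
  IsSl2Triple.mem_toLieSubalgebra_iff.mpr ⟨1, 0, 0, by simp⟩

theorem f_mem_S0 : f ∈ t.toLieSubalgebra K :=
  IsSl2Triple.mem_toLieSubalgebra_iff.mpr ⟨0, 1, 0, by simp⟩

theorem h_mem_S0 : h ∈ t.toLieSubalgebra K :=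
  IsSl2Triple.mem_toLieSubalgebra_iff.mpr ⟨0, 0, 1, by simp [t.lie_e_f]⟩

/-- The subalgebra generated by the three root spaces is `S`. -/
theorem lieSpan_eq :
    LieSubalgebra.lieSpan K L ((rootSpace H (wt b r) : Set L) ∪ (rootSpace H (wt b (-r)) : Set L) ∪
      (rootSpace H (wt b (r - Pi.single j 1)) : Set L)) = S T t he hf := by
  have hnegr0 : -r ≠ 0 := neg_ne_zero.mpr T.ne_zero
  apply le_antisymm
  · rw [LieSubalgebra.lieSpan_le]
    rintro x ((hx | hx) | hx)
    · obtain ⟨c, rfl⟩ := exists_smul_eq b T.ne_zero he t.e_ne_zero hx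
      exact (S T t he hf).smul_mem c (S0_le_S T t he hf (e_mem_S0 T t))
    · obtain ⟨c, rfl⟩ := exists_smul_eq b hnegr0 hf t.f_ne_zero hx
      exact (S T t he hf).smul_mem c (S0_le_S T t he hf (f_mem_S0 T t))
    · exact V_le_S T t he hf (Submodule.mem_sup_left hx)
  · set A := LieSubalgebra.lieSpan K L ((rootSpace H (wt b r) : Set L) ∪
      (rootSpace H (wt b (-r)) : Set L) ∪ (rootSpace H (wt b (r - Pi.single j 1)) : Set L)) with hA
    have heA : e ∈ A := LieSubalgebra.subset_lieSpan (Or.inl (Or.inl he))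
    have hfA : f ∈ A := LieSubalgebra.subset_lieSpan (Or.inl (Or.inr hf))
    have hhA : h ∈ A := by rw [← t.lie_e_f]; exact A.lie_mem heA hfA
    have hβA : ∀ x ∈ rootSpace H (wt b (r - Pi.single j 1)), x ∈ A := fun x hx =>
      LieSubalgebra.subset_lieSpan (Or.inr hx)
    obtain ⟨v0, hv0, hv00⟩ := (zW b _ T.isWt_sub).exists_ne_zero
    change v0 ∈ rootSpace H (wt b (r - Pi.single j 1)) at hv0
    have hfv0 : ⁅f, v0⁆ ∈ rootSpace H (wt b (-Pi.single j 1)) := by
      have := lie_mem_RS b hf hv0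
      have h3 : -r + (r - Pi.single j 1) = -Pi.single j 1 := by abel
      rwa [h3] at this
    have hfv00 : ⁅f, v0⁆ ≠ 0 := by
      intro h0
      have h1 : ⁅e, ⁅f, v0⁆⁆ = v0 := by
        rw [leibniz_lie, t.lie_e_f,
          eq_zero_of_not_isWt b (not_isWt_two_sub T) (lie_mem_RS b he hv0), lie_zero, add_zero,
          h_eq T t he hf, lie_h hv0, sub_apply_coroot T, one_smul]
      rw [h0, lie_zero] at h1
      exact hv00 h1.symm
    intro x hx
    obtain ⟨a, ha, v, hv, rfl⟩ := Submodule.mem_sup.mp ((mem_S T t he hf).mp hx)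
    refine A.add_mem ?_ ?_
    · obtain ⟨c₁, c₂, c₃, rfl⟩ := IsSl2Triple.mem_toLieSubalgebra_iff.mp ha
      rw [t.lie_e_f]
      exact A.add_mem (A.add_mem (A.smul_mem _ heA) (A.smul_mem _ hfA)) (A.smul_mem _ hhA)
    · obtain ⟨v1, hv1, v2, hv2, rfl⟩ := Submodule.mem_sup.mp hv
      refine A.add_mem (hβA v1 hv1) ?_
      obtain ⟨c, rfl⟩ := exists_smul_eq b (neg_single_ne_zero T) hfv0 hfv00 hv2
      exact A.smul_mem c (A.lie_mem hfA (hβA v0 hv0))


omit T in
theorem RSm_eq_span {z : ι → ℤ} (h0 : z ≠ 0) {x : L} (hx : x ∈ rootSpace H (wt b z))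
    (hx0 : x ≠ 0) : RSm b z = Submodule.span K {x} := by
  apply le_antisymm
  · intro y hy
    obtain ⟨c, rfl⟩ := exists_smul_eq b h0 hx hx0 hy
    exact Submodule.mem_span_singleton.mpr ⟨c, rfl⟩
  · rw [Submodule.span_le]
    rintro _ rfl
    exact hx

theorem weights_injective : Function.Injective
    (![r, -r, 0, r - Pi.single j 1, -Pi.single j 1] : Fin 5 → (ι → ℤ)) := by
  have hj := one_le_rj T
  have hne := T.ne_single
  have key : ∀ {z z' : ι → ℤ}, z j ≠ z' j → z ≠ z' := fun h h' => h (congrFun h' j)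
  have h01 : r ≠ -r := key (by simp only [Pi.neg_apply]; omega)
  have h02 : r ≠ 0 := T.ne_zero
  have h03 : r ≠ r - Pi.single j 1 := ne_sub T
  have h04 : r ≠ -Pi.single j 1 := key (by simp only [Pi.neg_apply, Pi.single_eq_same]; omega)
  have h12 : -r ≠ 0 := neg_ne_zero.mpr T.ne_zero
  have h13 : -r ≠ r - Pi.single j 1 :=
    key (by simp only [Pi.neg_apply, Pi.sub_apply, Pi.single_eq_same]; omega)
  have h14 : -r ≠ -Pi.single j 1 := fun h => hne (neg_injective h)
  have h23 : (0 : ι → ℤ) ≠ r - Pi.single j 1 := fun h => T.sub_ne_zero h.symm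
  have h24 : (0 : ι → ℤ) ≠ -Pi.single j 1 := fun h => neg_single_ne_zero T h.symm
  have h34 : r - Pi.single j 1 ≠ -Pi.single j 1 := sub_ne_neg_single T
  intro k k' hkk'
  fin_cases k <;> fin_cases k' <;> first
    | rfl
    | exact absurd hkk' h01 | exact absurd hkk'.symm h01
    | exact absurd hkk' h02 | exact absurd hkk'.symm h02
    | exact absurd hkk' h03 | exact absurd hkk'.symm h03
    | exact absurd hkk' h04 | exact absurd hkk'.symm h04
    | exact absurd hkk' h12 | exact absurd hkk'.symm h12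
    | exact absurd hkk' h13 | exact absurd hkk'.symm h13
    | exact absurd hkk' h14 | exact absurd hkk'.symm h14
    | exact absurd hkk' h23 | exact absurd hkk'.symm h23
    | exact absurd hkk' h24 | exact absurd hkk'.symm h24
    | exact absurd hkk' h34 | exact absurd hkk'.symm h34

theorem finrank_S : Module.finrank K (S T t he hf) = 5 := by
  obtain ⟨v0, hv0, hv00⟩ := (zW b _ T.isWt_sub).exists_ne_zero
  change v0 ∈ rootSpace H (wt b (r - Pi.single j 1)) at hv0
  obtain ⟨y0, hy0, hy00⟩ := (zW b _ (isWt_neg_single T)).exists_ne_zero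
  change y0 ∈ rootSpace H (wt b (-Pi.single j 1)) at hy0
  have hh0 : h ∈ rootSpace H (wt b (0 : ι → ℤ)) := by
    rw [wt_zero, ← b.cartan_eq, h_eq T t he hf]
    exact (LieAlgebra.IsKilling.coroot (zW b r T.isWt)).2
  set g : Fin 5 → L := ![e, f, h, v0, y0] with hg
  set zz : Fin 5 → (ι → ℤ) := ![r, -r, 0, r - Pi.single j 1, -Pi.single j 1] with hzz
  have hind : iSupIndep (fun k : Fin 5 => RSm b (zz k)) := by
    have h0 := (iSupIndep_genWeightSpace K H L).comp (f := fun k => wt b (zz k))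
      (fun k k' hkk' => weights_injective T (wt_injective b hkk'))
    exact LieSubmodule.iSupIndep_toSubmodule.mpr h0
  have hLI : LinearIndependent K g := by
    refine hind.linearIndependent _ (fun k => ?_) (fun k => ?_)
    · fin_cases k
      · exact he
      · exact hf
      · exact hh0
      · exact hv0
      · exact hy0
    · fin_cases k
      · exact t.e_ne_zero
      · exact t.f_ne_zero
      · exact t.h_ne_zero
      · exact hv00
      · exact hy00
  have hspan : (S T t he hf).toSubmodule = Submodule.span K (Set.range g) := by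
    apply le_antisymm
    · change (t.toLieSubalgebra K).toSubmodule ⊔ V b r j ≤ _
      refine sup_le ?_ (sup_le ?_ ?_)
      · change Submodule.span K {e, f, h} ≤ _
        rw [Submodule.span_le]
        rintro x (rfl | rfl | rfl)
        · exact Submodule.subset_span ⟨0, rfl⟩
        · exact Submodule.subset_span ⟨1, rfl⟩
        · exact Submodule.subset_span ⟨2, rfl⟩
      · rw [RSm_eq_span T.sub_ne_zero hv0 hv00, Submodule.span_le]
        rintro _ rfl
        exact Submodule.subset_span ⟨3, rfl⟩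
      · rw [RSm_eq_span (neg_single_ne_zero T) hy0 hy00, Submodule.span_le]
        rintro _ rfl
        exact Submodule.subset_span ⟨4, rfl⟩
    · rw [Submodule.span_le]
      rintro _ ⟨k, rfl⟩
      fin_cases k
      · exact S0_le_S T t he hf (e_mem_S0 T t)
      · exact S0_le_S T t he hf (f_mem_S0 T t)
      · exact S0_le_S T t he hf (h_mem_S0 T t)
      · exact V_le_S T t he hf (Submodule.mem_sup_left hv0)
      · exact V_le_S T t he hf (Submodule.mem_sup_right hy0)
  have h5 := finrank_span_eq_card hLI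
  rw [← hspan] at h5
  have h6 : Module.finrank K ↥(S T t he hf).toSubmodule = 5 := by simpa using h5
  exact h6


/-- The `sl₂` triple inside `S`. -/
theorem tS : IsSl2Triple (⟨h, S0_le_S T t he hf (h_mem_S0 T t)⟩ : S T t he hf)
    ⟨e, S0_le_S T t he hf (e_mem_S0 T t)⟩ ⟨f, S0_le_S T t he hf (f_mem_S0 T t)⟩ :=
  { h_ne_zero := fun h0 => t.h_ne_zero (by simpa using congrArg Subtype.val h0)
    lie_e_f := Subtype.ext t.lie_e_f
    lie_h_e_nsmul := Subtype.ext t.lie_h_e_nsmul
    lie_h_f_nsmul := Subtype.ext t.lie_h_f_nsmul }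

/-- The ideal of `S` cut out by `V`. -/
noncomputable def VS : LieIdeal K (S T t he hf) :=
  { carrier := {x | (x : L) ∈ V b r j}
    add_mem' := fun {x y} hx hy => (V b r j).add_mem hx hy
    zero_mem' := (V b r j).zero_mem
    smul_mem' := fun c {x} hx => (V b r j).smul_mem c hx
    lie_mem := fun {x y} hy => by
      show ((⁅x, y⁆ : S T t he hf) : L) ∈ V b r j
      rw [LieSubalgebra.coe_bracket]
      obtain ⟨a, ha, v, hv, hxa⟩ := Submodule.mem_sup.mp ((mem_S T t he hf).mp x.2)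
      rw [← hxa, add_lie, lie_V_V T v hv _ hy, add_zero]
      exact lie_S0_V T t he hf a ha _ hy }

theorem mem_VS {x : S T t he hf} : x ∈ VS T t he hf ↔ (x : L) ∈ V b r j := Iff.rfl

theorem VS_le_radical : VS T t he hf ≤ LieAlgebra.radical K (S T t he hf) := by
  rw [← LieIdeal.solvable_iff_le_radical]
  have hab : IsLieAbelian (VS T t he hf) := by
    rw [LieSubmodule.lie_abelian_iff_lie_self_eq_bot, LieSubmodule.lie_eq_bot_iff]
    intro x hx y hy
    apply Subtype.ext
    rw [LieSubalgebra.coe_bracket]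
    exact lie_V_V T _ hx _ hy
  infer_instance

theorem radical_eq : LieAlgebra.radical K (S T t he hf) = VS T t he hf := by
  apply le_antisymm _ (VS_le_radical T t he hf)
  intro x hx
  obtain ⟨a, ha, v, hv, hxav⟩ := Submodule.mem_sup.mp ((mem_S T t he hf).mp x.2)
  obtain ⟨c₁, c₂, c₃, rfl⟩ := IsSl2Triple.mem_toLieSubalgebra_iff.mp ha
  rw [t.lie_e_f] at hxav
  set vS : S T t he hf := ⟨v, V_le_S T t he hf hv⟩ with hvS
  have hvrad : vS ∈ LieAlgebra.radical K (S T t he hf) := VS_le_radical T t he hf hv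
  set eS : S T t he hf := ⟨e, S0_le_S T t he hf (e_mem_S0 T t)⟩ with heS
  set fS : S T t he hf := ⟨f, S0_le_S T t he hf (f_mem_S0 T t)⟩ with hfS
  set hS : S T t he hf := ⟨h, S0_le_S T t he hf (h_mem_S0 T t)⟩ with hhS
  have hdiff : c₁ • eS + c₂ • fS + c₃ • hS = x - vS := by
    apply Subtype.ext
    show (c₁ • e + c₂ • f + c₃ • h : L) = (x : L) - v
    rw [← hxav]; abel
  have hmem : c₁ • eS + c₂ • fS + c₃ • hS ∈ LieAlgebra.radical K (S T t he hf) := by
    rw [hdiff]; exact sub_mem hx hvrad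
  obtain ⟨h1, h2, h3⟩ := eq_zero_of_mem_solvable_ideal (tS T t he hf) _ hmem
  rw [mem_VS, ← hxav, h1, h2, h3]
  simpa using hv

theorem map_radical :
    (LieAlgebra.radical K (S T t he hf)).toSubmodule.map
      ((S T t he hf).incl : S T t he hf →ₗ⁅K⁆ L).toLinearMap = V b r j := by
  rw [radical_eq]
  ext x
  constructor
  · rintro ⟨y, hy, rfl⟩
    exact hy
  · intro hx
    exact ⟨⟨x, V_le_S T t he hf hx⟩, hx, rfl⟩

theorem finrank_radical :
    Module.finrank K (LieAlgebra.radical K (S T t he hf)) = 2 := by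
  have hinj : Function.Injective ((S T t he hf).incl : S T t he hf →ₗ⁅K⁆ L).toLinearMap :=
    fun x y hxy => Subtype.ext hxy
  have h1 := (Submodule.equivMapOfInjective _ hinj
    (LieAlgebra.radical K (S T t he hf)).toSubmodule).finrank_eq
  rw [map_radical, finrank_V T] at h1
  exact h1

end Top

/-- Statement S17433. -/
theorem finrank_lieSpan_eq_five (b : LieAlgebra.Basis ι H)
    (ρ : Module.Dual K H) (hρ : rootSpace H ρ ≠ ⊥) (htop : ∀ i, rootSpace H (ρ + b.baseSupp i) = ⊥)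
    (j : ι) (hN : ∀ i, ρ (b.h' i) ≠ 0 ↔ i = j) (hj : ρ (b.h' j) = 1)
    (A : LieSubalgebra K L)
    (hA : A = LieSubalgebra.lieSpan K L
      ((rootSpace H ρ : Set L) ∪ (rootSpace H (-ρ) : Set L) ∪
        (rootSpace H (ρ - b.baseSupp j) : Set L))) :
    Module.finrank K A = 5 ∧ Module.finrank K (LieAlgebra.radical K A) = 2 ∧
      (LieAlgebra.radical K A).toSubmodule.map (A.incl : A →ₗ⁅K⁆ L).toLinearMap =
        (rootSpace H (ρ - b.baseSupp j) : Submodule K L) ⊔
          (rootSpace H (-b.baseSupp j) : Submodule K L) := by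
  classical
  obtain ⟨r, hr, T⟩ := exists_top b ρ hρ htop j hN hj
  have h1 : (⇑ρ - ⇑(b.baseSupp j) : H → K) = wt b (r - Pi.single j 1) := by
    rw [wt_sub, wt_single, hr]
  have h2 : (-⇑ρ : H → K) = wt b (-r) := by rw [wt_neg, hr]
  have h3 : (-⇑(b.baseSupp j) : H → K) = wt b (-Pi.single j 1) := by rw [wt_neg, wt_single]
  obtain ⟨h, e, f, t, he, hf⟩ := LieAlgebra.IsKilling.exists_isSl2Triple_of_weight_isNonZero
    (zW_isNonZero b T.isWt T.ne_zero)
  have he' : e ∈ rootSpace H (wt b r) := he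
  have hf' : f ∈ rootSpace H (wt b (-r)) := by
    rw [wt_neg]; exact hf
  rw [h1, h2, hr, lieSpan_eq T t he' hf'] at hA
  subst hA
  rw [h1, h3]
  exact ⟨finrank_S T t he' hf', finrank_radical T t he' hf', map_radical T t he' hf'⟩

end Groth.Agent.Lib.Seat65.AdjVarG
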