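import Groth.Prelude.Def_W4c1btstackcountsChain
import Mathlib

/-!
Chains of matrices `k^{d 0} → k^{d 1} → ⋯`: composite maps, the global shift operator on
`Π j, k^{d j}`, and the basic (in)equalities satisfied by the rank array.
-/

set_option autoImplicit false

namespace Groth.Agent.Lib.Seat65.ChainA

open W4c1btstackcounts

variable {k : Type*} [Field k] {d : ℕ → ℕ}

/-- The composite `k^{d i} → k^{d (i+n)}` of `n` consecutive matrices of the chain. -/
noncomputable def cmp (f : (i : ℕ) → Matrix (Fin (d (i + 1))) (Fin (d i)) k) (i : ℕ) :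
    (n : ℕ) → ((Fin (d i) → k) →ₗ[k] (Fin (d (i + n)) → k))
  | 0 => LinearMap.id
  | n + 1 => (Matrix.toLin' (f (i + n))).comp (cmp f i n)

theorem cmp_zero (f : (i : ℕ) → Matrix (Fin (d (i + 1))) (Fin (d i)) k) (i : ℕ) :
    cmp f i 0 = LinearMap.id := rfl

theorem cmp_succ (f : (i : ℕ) → Matrix (Fin (d (i + 1))) (Fin (d i)) k) (i n : ℕ) :
    cmp f i (n + 1) = (Matrix.toLin' (f (i + n))).comp (cmp f i n) := rfl

theorem iterImage_eq_range (f : (i : ℕ) → Matrix (Fin (d (i + 1))) (Fin (d i)) k) (i n : ℕ) :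
    iterImage f i n = LinearMap.range (cmp f i n) := by
  induction n with
  | zero => simp [iterImage, cmp_zero]
  | succ n ih =>
    rw [cmp_succ, LinearMap.range_comp, ← ih]
    rfl

/-- The component of the global shift operator landing in the `j`-th factor. -/
noncomputable def stepAt (f : (i : ℕ) → Matrix (Fin (d (i + 1))) (Fin (d i)) k) :
    (j : ℕ) → (((i : ℕ) → Fin (d i) → k) →ₗ[k] (Fin (d j) → k))
  | 0 => 0
  | j + 1 => (Matrix.toLin' (f j)).comp (LinearMap.proj j)

/-- The global shift operator on `Π j, k^{d j}`. -/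
noncomputable def F (f : (i : ℕ) → Matrix (Fin (d (i + 1))) (Fin (d i)) k) :
    ((i : ℕ) → Fin (d i) → k) →ₗ[k] ((i : ℕ) → Fin (d i) → k) :=
  LinearMap.pi (stepAt f)

/-- The inclusion of the `j`-th factor. -/
noncomputable def inc (k : Type*) [Field k] (d : ℕ → ℕ) (j : ℕ) :
    (Fin (d j) → k) →ₗ[k] ((i : ℕ) → Fin (d i) → k) :=
  LinearMap.single k (fun i => Fin (d i) → k) j

theorem inc_injective (j : ℕ) : Function.Injective (inc k d j) :=
  Pi.single_injective (M := fun i => Fin (d i) → k) j

theorem F_inc (f : (i : ℕ) → Matrix (Fin (d (i + 1))) (Fin (d i)) k) (j : ℕ)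
    (w : Fin (d j) → k) : F f (inc k d j w) = inc k d (j + 1) (Matrix.toLin' (f j) w) := by
  funext i
  cases i with
  | zero =>
    simp [F, stepAt, inc]
  | succ i =>
    by_cases h : i = j
    · subst h
      simp [F, stepAt, inc]
    · have h' : i + 1 ≠ j + 1 := by omega
      simp [F, stepAt, inc, Pi.single_eq_of_ne h, Pi.single_eq_of_ne h']

theorem F_pow_inc (f : (i : ℕ) → Matrix (Fin (d (i + 1))) (Fin (d i)) k) (i n : ℕ)
    (w : Fin (d i) → k) : (F f ^ n) (inc k d i w) = inc k d (i + n) (cmp f i n w) := by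
  induction n with
  | zero => simp [cmp_zero]
  | succ n ih =>
    rw [pow_succ', Module.End.mul_apply, ih, F_inc]
    rfl

/-- The image of the `i`-th factor under the `n`-th power of the shift, in the global space. -/
noncomputable def A (f : (i : ℕ) → Matrix (Fin (d (i + 1))) (Fin (d i)) k) (i n : ℕ) :
    Submodule k ((i : ℕ) → Fin (d i) → k) :=
  LinearMap.range ((F f ^ n).comp (inc k d i))

theorem A_eq_map (f : (i : ℕ) → Matrix (Fin (d (i + 1))) (Fin (d i)) k) (i n : ℕ) :
    A f i n = (iterImage f i n).map (inc k d (i + n)) := by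
  rw [iterImage_eq_range, A, ← LinearMap.range_comp]
  congr 1
  refine LinearMap.ext fun w => ?_
  exact F_pow_inc f i n w

instance (f : (i : ℕ) → Matrix (Fin (d (i + 1))) (Fin (d i)) k) (i n : ℕ) :
    Module.Finite k (A f i n) := by
  unfold A; infer_instance

theorem finrank_A (f : (i : ℕ) → Matrix (Fin (d (i + 1))) (Fin (d i)) k) (i n : ℕ) :
    Module.finrank k (A f i n) = Module.finrank k (iterImage f i n) := by
  rw [A_eq_map]
  exact (Submodule.equivMapOfInjective _ (inc_injective _) _).finrank_eq.symm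

theorem rankArray_eq (f : (i : ℕ) → Matrix (Fin (d (i + 1))) (Fin (d i)) k) (i n : ℕ) :
    rankArray f i (i + n) = Module.finrank k (A f i n) := by
  rw [rankArray, if_pos (Nat.le_add_right _ _), finrank_A, Nat.add_sub_cancel_left]

theorem A_succ (f : (i : ℕ) → Matrix (Fin (d (i + 1))) (Fin (d i)) k) (i n : ℕ) :
    A f i (n + 1) = (A f i n).map (F f) := by
  rw [A, A, ← LinearMap.range_comp, pow_succ']
  rfl

theorem A_succ_le (f : (i : ℕ) → Matrix (Fin (d (i + 1))) (Fin (d i)) k) (i n : ℕ) :
    A f i (n + 1) ≤ A f (i + 1) n := by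
  rintro _ ⟨w, rfl⟩
  refine ⟨Matrix.toLin' (f i) w, ?_⟩
  simp only [LinearMap.comp_apply]
  rw [pow_succ, Module.End.mul_apply, F_inc]

/-- For `B ≤ A` and a linear map `φ`, the drop of dimension on `B` is at most the drop on `A`. -/
theorem finrank_map_add_le {V V' : Type*} [AddCommGroup V] [Module k V] [AddCommGroup V']
    [Module k V'] (φ : V →ₗ[k] V') (P Q : Submodule k V) [Module.Finite k P] (hQP : Q ≤ P) :
    Module.finrank k (P.map φ) + Module.finrank k Q ≤
      Module.finrank k P + Module.finrank k (Q.map φ) := by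
  have : Module.Finite k Q := Module.Finite.of_injective (Submodule.inclusion hQP)
    (Submodule.inclusion_injective hQP)
  have hP := LinearMap.finrank_range_add_finrank_ker (φ.domRestrict P)
  have hQ := LinearMap.finrank_range_add_finrank_ker (φ.domRestrict Q)
  have hrP : LinearMap.range (φ.domRestrict P) = P.map φ := by
    rw [LinearMap.domRestrict, LinearMap.range_comp, Submodule.range_subtype]
  have hrQ : LinearMap.range (φ.domRestrict Q) = Q.map φ := by
    rw [LinearMap.domRestrict, LinearMap.range_comp, Submodule.range_subtype]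
  rw [hrP] at hP
  rw [hrQ] at hQ
  have hker : Module.finrank k (LinearMap.ker (φ.domRestrict Q)) ≤
      Module.finrank k (LinearMap.ker (φ.domRestrict P)) := by
    let g : LinearMap.ker (φ.domRestrict Q) →ₗ[k] LinearMap.ker (φ.domRestrict P) :=
      LinearMap.codRestrict _ ((Submodule.inclusion hQP).comp (Submodule.subtype _)) (by
        rintro ⟨⟨x, hx⟩, hx0⟩
        simpa [LinearMap.mem_ker] using hx0)
    refine LinearMap.finrank_le_finrank_of_injective (f := g) ?_
    intro a b hab
    have := congrArg (fun z : LinearMap.ker (φ.domRestrict P) => ((z : P) : V)) hab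
    apply Subtype.ext
    apply Subtype.ext
    simpa [g] using this
  omega

/-! ### Invariance under change of bases -/

theorem toLin'_GL_injective {n : Type*} [Fintype n] [DecidableEq n]
    (g : Matrix.GeneralLinearGroup n k) :
    Function.Injective (Matrix.toLin' (g : Matrix n n k)) := by
  intro x y hxy
  have h := congrArg (Matrix.toLin' ((g⁻¹ : Matrix.GeneralLinearGroup n k) : Matrix n n k)) hxy
  rw [← LinearMap.comp_apply, ← LinearMap.comp_apply, ← Matrix.toLin'_mul, Units.inv_mul,
    Matrix.toLin'_one] at h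
  simpa using h

theorem toLin'_GL_surjective {n : Type*} [Fintype n] [DecidableEq n]
    (g : Matrix.GeneralLinearGroup n k) :
    Function.Surjective (Matrix.toLin' (g : Matrix n n k)) := by
  intro y
  refine ⟨Matrix.toLin' ((g⁻¹ : Matrix.GeneralLinearGroup n k) : Matrix n n k) y, ?_⟩
  rw [← LinearMap.comp_apply, ← Matrix.toLin'_mul, Units.mul_inv, Matrix.toLin'_one]
  rfl

theorem iterImage_conj (g : (j : ℕ) → Matrix.GeneralLinearGroup (Fin (d j)) k)
    (f : (i : ℕ) → Matrix (Fin (d (i + 1))) (Fin (d i)) k) (i n : ℕ) :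
    iterImage (conj g f) i n =
      (iterImage f i n).map (Matrix.toLin' ((g (i + n) : Matrix.GeneralLinearGroup _ k) :
        Matrix (Fin (d (i + n))) (Fin (d (i + n))) k)) := by
  induction n with
  | zero =>
    simp only [iterImage, Submodule.map_top]
    exact (LinearMap.range_eq_top.mpr (toLin'_GL_surjective (g i))).symm
  | succ n ih =>
    change (iterImage (conj g f) i n).map (Matrix.toLin' (conj g f (i + n))) =
      ((iterImage f i n).map (Matrix.toLin' (f (i + n)))).map
        (Matrix.toLin' ((g (i + n + 1) : Matrix.GeneralLinearGroup _ k) : Matrix _ _ k))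
    rw [ih, ← Submodule.map_comp, ← Submodule.map_comp, ← Matrix.toLin'_mul, ← Matrix.toLin'_mul]
    congr 2
    rw [conj, Matrix.mul_assoc, Units.inv_mul, Matrix.mul_one]

theorem rankArray_conj (g : (j : ℕ) → Matrix.GeneralLinearGroup (Fin (d j)) k)
    (f : (i : ℕ) → Matrix (Fin (d (i + 1))) (Fin (d i)) k) (i j : ℕ) :
    rankArray (conj g f) i j = rankArray f i j := by
  unfold rankArray
  split_ifs with h
  · rw [iterImage_conj]
    exact (Submodule.equivMapOfInjective _ (toLin'_GL_injective _) _).finrank_eq.symm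
  · rfl

/-! ### The rank array is admissible -/

theorem isRankArray_rankArray (f : (i : ℕ) → Matrix (Fin (d (i + 1))) (Fin (d i)) k) (r : ℕ) :
    IsRankArray d r (rankArray f) := by
  refine ⟨?_, ?_, ?_, ?_⟩
  · intro j _ _
    have := rankArray_eq f j 0
    rw [Nat.add_zero] at this
    rw [this, finrank_A]
    change Module.finrank k (⊤ : Submodule k (Fin (d j) → k)) = d j
    rw [finrank_top, Module.finrank_fin_fun]
  · intro i j _ hij _
    obtain ⟨n, rfl⟩ := Nat.exists_eq_add_of_le (Nat.succ_le_of_lt hij)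
    have h1 : i + 1 + n = i + (n + 1) := by omega
    rw [rankArray_eq f (i + 1) n, h1, rankArray_eq f i (n + 1)]
    exact Submodule.finrank_mono (A_succ_le f i n)
  · intro i j _ hij _
    obtain ⟨n, rfl⟩ := Nat.exists_eq_add_of_le hij
    rw [Nat.add_assoc, rankArray_eq f i (n + 1), rankArray_eq f i n, A_succ]
    exact Submodule.finrank_map_le _ _
  · intro i j hi hij _
    obtain ⟨i₀, rfl⟩ : ∃ i₀, i = i₀ + 1 := ⟨i - 1, by omega⟩
    obtain ⟨n, rfl⟩ := Nat.exists_eq_add_of_le hij
    have h1 : i₀ + 1 - 1 = i₀ := by omega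
    have h2 : i₀ + 1 + n = i₀ + (n + 1) := by omega
    have h3 : i₀ + 1 + n + 1 = i₀ + (n + 1 + 1) := by omega
    have h4 : i₀ + 1 + n + 1 = i₀ + 1 + (n + 1) := by omega
    rw [h1]
    rw [show rankArray f (i₀ + 1) (i₀ + 1 + n + 1) = Module.finrank k (A f (i₀ + 1) (n + 1)) by
        rw [h4, rankArray_eq],
      show rankArray f i₀ (i₀ + 1 + n) = Module.finrank k (A f i₀ (n + 1)) by
        rw [h2, rankArray_eq],
      show rankArray f (i₀ + 1) (i₀ + 1 + n) = Module.finrank k (A f (i₀ + 1) n) by
        rw [rankArray_eq],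
      show rankArray f i₀ (i₀ + 1 + n + 1) = Module.finrank k (A f i₀ (n + 1 + 1)) by
        rw [h3, rankArray_eq]]
    rw [A_succ f (i₀ + 1) n, A_succ f i₀ (n + 1)]
    exact finrank_map_add_le (F f) _ _ (A_succ_le f i₀ n)

end Groth.Agent.Lib.Seat65.ChainA
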