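import Groth.Agent.Lib.Seat65ChainA

/-!
Extension of linear isomorphisms compatible with flags of subspaces, and the construction of
an isomorphism between two chains of matrices with the same rank array.
-/

set_option autoImplicit false

namespace Groth.Agent.Lib.Seat65.ChainB

open W4c1btstackcounts
open Groth.Agent.Lib.Seat65.ChainA

universe u₀ u₁ u₂ u₃

section ext

variable {k : Type u₀} [Field k]

/-- Two linear maps out of `W` with the same kernel, into spaces of the same dimension,
differ by an isomorphism of the targets. -/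
theorem exists_equiv_of_ker_eq {W : Type u₁} {V : Type u₂} {V' : Type u₃}
    [AddCommGroup W] [Module k W] [AddCommGroup V] [Module k V] [AddCommGroup V'] [Module k V']
    [FiniteDimensional k V] [FiniteDimensional k V']
    (hdim : Module.finrank k V = Module.finrank k V')
    (p : W →ₗ[k] V) (p' : W →ₗ[k] V') (hker : LinearMap.ker p = LinearMap.ker p') :
    ∃ g : V ≃ₗ[k] V', ∀ w, g (p w) = p' w := by
  let h : LinearMap.range p ≃ₗ[k] LinearMap.range p' :=
    (p.quotKerEquivRange).symm ≪≫ₗ (Submodule.quotEquivOfEq _ _ hker) ≪≫ₗ p'.quotKerEquivRange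
  have hh : ∀ w, (h ⟨p w, LinearMap.mem_range_self p w⟩ : V') = p' w := by
    intro w
    simp only [h, LinearEquiv.trans_apply]
    rw [LinearMap.quotKerEquivRange_symm_apply_image]
    simp
  obtain ⟨C, hC⟩ := Submodule.exists_isCompl (LinearMap.range p)
  obtain ⟨C', hC'⟩ := Submodule.exists_isCompl (LinearMap.range p')
  have e1 := Submodule.finrank_add_eq_of_isCompl hC
  have e2 := Submodule.finrank_add_eq_of_isCompl hC'
  have e3 := h.finrank_eq
  have e4 : Module.finrank k C = Module.finrank k C' := by omega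
  let e : C ≃ₗ[k] C' := LinearEquiv.ofFinrankEq _ _ e4
  refine ⟨(Submodule.prodEquivOfIsCompl _ _ hC).symm ≪≫ₗ (h.prodCongr e) ≪≫ₗ
    Submodule.prodEquivOfIsCompl _ _ hC', fun w => ?_⟩
  have := Submodule.prodEquivOfIsCompl_symm_apply_left (LinearMap.range p) C hC
    ⟨p w, LinearMap.mem_range_self p w⟩
  simp only [LinearEquiv.trans_apply]
  rw [this]
  simp [hh]

/-- Extension of an isomorphism compatibly with a flag of subspaces. -/
theorem exists_equiv_flag (m : ℕ) : ∀ {W : Type u₁} {V : Type u₂} {V' : Type u₃}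
    [AddCommGroup W] [Module k W] [AddCommGroup V] [Module k V] [AddCommGroup V'] [Module k V']
    [FiniteDimensional k V] [FiniteDimensional k V'],
    Module.finrank k V = Module.finrank k V' →
    ∀ (p : W →ₗ[k] V) (p' : W →ₗ[k] V') (K : ℕ → Submodule k V) (K' : ℕ → Submodule k V'),
    Monotone K → Monotone K' →
    (∀ l < m, Module.finrank k (K l) = Module.finrank k (K' l)) →
    LinearMap.ker p = LinearMap.ker p' →
    (∀ l < m, ∀ w, p w ∈ K l ↔ p' w ∈ K' l) →
    ∃ g : V ≃ₗ[k] V', (∀ w, g (p w) = p' w) ∧ ∀ l < m, ∀ x, x ∈ K l ↔ g x ∈ K' l := by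
  induction m with
  | zero =>
    intro W V V' _ _ _ _ _ _ _ _ hdim p p' K K' _ _ _ hker _
    obtain ⟨g, hg⟩ := exists_equiv_of_ker_eq hdim p p' hker
    exact ⟨g, hg, fun l hl => absurd hl (Nat.not_lt_zero l)⟩
  | succ m ih =>
    intro W V V' _ _ _ _ _ _ _ _ hdim p p' K K' hK hK' hfin hker hmem
    -- the top members of the flags
    set T := K m with hT
    set T' := K' m with hT'
    have hTT' : Module.finrank k T = Module.finrank k T' := hfin m (Nat.lt_succ_self m)
    have hpT : ∀ w ∈ T.comap p, p w ∈ T := fun w hw => hw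
    have hpT' : ∀ w ∈ T.comap p, p' w ∈ T' := fun w hw => (hmem m (Nat.lt_succ_self m) w).1 hw
    let p₀ : ↥(T.comap p) →ₗ[k] T := p.restrict hpT
    let p₀' : ↥(T.comap p) →ₗ[k] T' := p'.restrict hpT'
    let K₀ : ℕ → Submodule k T := fun l => (K l).comap T.subtype
    let K₀' : ℕ → Submodule k T' := fun l => (K' l).comap T'.subtype
    have hK₀ : Monotone K₀ := fun a b hab => Submodule.comap_mono (hK hab)
    have hK₀' : Monotone K₀' := fun a b hab => Submodule.comap_mono (hK' hab)
    have hfin₀ : ∀ l < m, Module.finrank k (K₀ l) = Module.finrank k (K₀' l) := by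
      intro l hl
      have h1 : K l ≤ T := hK (Nat.le_of_lt hl)
      have h2 : K' l ≤ T' := hK' (Nat.le_of_lt hl)
      rw [(Submodule.comapSubtypeEquivOfLe h1).finrank_eq,
        (Submodule.comapSubtypeEquivOfLe h2).finrank_eq]
      exact hfin l (Nat.lt_succ_of_lt hl)
    have hker₀ : LinearMap.ker p₀ = LinearMap.ker p₀' := by
      ext ⟨w, hw⟩
      have : w ∈ LinearMap.ker p ↔ w ∈ LinearMap.ker p' := by rw [hker]
      simp only [LinearMap.mem_ker] at this ⊢
      rw [← Subtype.coe_inj, ← Subtype.coe_inj (a := p₀' ⟨w, hw⟩)]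
      exact this
    have hmem₀ : ∀ l < m, ∀ w, p₀ w ∈ K₀ l ↔ p₀' w ∈ K₀' l := by
      rintro l hl ⟨w, hw⟩
      exact hmem l (Nat.lt_succ_of_lt hl) w
    obtain ⟨g₀, hg₀p, hg₀K⟩ := ih hTT' p₀ p₀' K₀ K₀' hK₀ hK₀' hfin₀ hker₀ hmem₀
    -- glue
    let q : (T × W) →ₗ[k] V := T.subtype.coprod p
    let q' : (T × W) →ₗ[k] V' := (T'.subtype.comp g₀.toLinearMap).coprod p'
    have hq : ∀ x w, q (x, w) = (x : V) + p w := fun x w => by simp [q]
    have hq' : ∀ x w, q' (x, w) = (g₀ x : V') + p' w := fun x w => by simp [q']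
    have hkerq : LinearMap.ker q = LinearMap.ker q' := by
      ext ⟨x, w⟩
      rw [LinearMap.mem_ker, LinearMap.mem_ker, hq, hq']
      constructor
      · intro h
        have hpw : p w = -(x : V) := by
          rw [eq_neg_iff_add_eq_zero, add_comm]; exact h
        have hwT : w ∈ T.comap p := by
          change p w ∈ T
          rw [hpw]; exact T.neg_mem x.2
        have h1 : p₀ ⟨w, hwT⟩ = -x := Subtype.ext hpw
        have h2 := hg₀p ⟨w, hwT⟩
        rw [h1, map_neg] at h2
        have h3 : p' w = -(g₀ x : V') := by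
          have := congrArg (fun z : T' => (z : V')) h2
          simpa [p₀'] using this.symm
        rw [h3]; simp
      · intro h
        have hpw : p' w = -(g₀ x : V') := by
          rw [eq_neg_iff_add_eq_zero, add_comm]; exact h
        have hwT : w ∈ T.comap p := by
          change p w ∈ T
          rw [hmem m (Nat.lt_succ_self m) w, hpw]
          exact T'.neg_mem (g₀ x).2
        have h2 := hg₀p ⟨w, hwT⟩
        have h3 : p₀' ⟨w, hwT⟩ = g₀ (-x) := by
          rw [map_neg]; exact Subtype.ext hpw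
        rw [h3] at h2
        have h4 := g₀.injective h2
        have h5 : p w = -(x : V) := by
          have := congrArg (fun z : T => (z : V)) h4
          simpa [p₀] using this
        rw [h5]; simp
    obtain ⟨g, hg⟩ := exists_equiv_of_ker_eq hdim q q' hkerq
    have hgT : ∀ x : T, g (x : V) = (g₀ x : V') := by
      intro x
      have := hg (x, 0)
      rwa [hq, hq', map_zero, map_zero, add_zero, add_zero] at this
    have hgp : ∀ w, g (p w) = p' w := by
      intro w
      have := hg (0, w)
      rwa [hq, hq', map_zero, Submodule.coe_zero, Submodule.coe_zero, zero_add, zero_add] at this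
    have hgTiff : ∀ x, x ∈ T ↔ g x ∈ T' := by
      intro x
      constructor
      · intro hx
        have := hgT ⟨x, hx⟩
        rw [this]; exact (g₀ ⟨x, hx⟩).2
      · intro hx
        have h1 := hgT (g₀.symm ⟨g x, hx⟩)
        rw [LinearEquiv.apply_symm_apply] at h1
        have h2 := g.injective h1
        rw [← h2]; exact (g₀.symm ⟨g x, hx⟩).2
    refine ⟨g, hgp, fun l hl x => ?_⟩
    rcases Nat.lt_succ_iff_lt_or_eq.mp hl with hl' | rfl
    · have key : ∀ hx : x ∈ T, (x ∈ K l ↔ g x ∈ K' l) := by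
        intro hx
        have := hg₀K l hl' ⟨x, hx⟩
        rw [hgT ⟨x, hx⟩]
        exact this
      constructor
      · intro hx
        exact (key (hK (Nat.le_of_lt hl') hx)).1 hx
      · intro hx
        have hxT : x ∈ T := (hgTiff x).2 (hK' (Nat.le_of_lt hl') hx)
        exact (key hxT).2 hx
    · exact hgTiff x

end ext

section chain

variable {k : Type u₀} [Field k] {d : ℕ → ℕ}

/-- The flag of kernels of the composite maps out of `k^{d j}`. -/
noncomputable def Kf (f : (i : ℕ) → Matrix (Fin (d (i + 1))) (Fin (d i)) k) (j n : ℕ) :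
    Submodule k (Fin (d j) → k) :=
  LinearMap.ker (cmp f j n)

theorem Kf_mono (f : (i : ℕ) → Matrix (Fin (d (i + 1))) (Fin (d i)) k) (j : ℕ) :
    Monotone (Kf f j) := by
  refine monotone_nat_of_le_succ fun n x hx => ?_
  rw [Kf, LinearMap.mem_ker] at hx ⊢
  rw [cmp_succ, LinearMap.comp_apply, hx, map_zero]

theorem finrank_Kf (f : (i : ℕ) → Matrix (Fin (d (i + 1))) (Fin (d i)) k) (j n : ℕ) :
    rankArray f j (j + n) + Module.finrank k (Kf f j n) = d j := by
  have h := LinearMap.finrank_range_add_finrank_ker (cmp f j n)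
  rw [Module.finrank_fin_fun, ← iterImage_eq_range] at h
  rw [rankArray, if_pos (Nat.le_add_right _ _), Nat.add_sub_cancel_left]
  exact h

theorem mem_Kf_iff (f : (i : ℕ) → Matrix (Fin (d (i + 1))) (Fin (d i)) k) (j n : ℕ)
    (w : Fin (d j) → k) : w ∈ Kf f j n ↔ (F f ^ n) (inc k d j w) = 0 := by
  rw [Kf, LinearMap.mem_ker, F_pow_inc]
  constructor
  · intro h; rw [h, map_zero]
  · intro h
    apply inc_injective (k := k) (d := d) (j + n)
    rw [h, map_zero]

theorem toLin'_mem_Kf_iff (f : (i : ℕ) → Matrix (Fin (d (i + 1))) (Fin (d i)) k) (j l : ℕ)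
    (w : Fin (d j) → k) : Matrix.toLin' (f j) w ∈ Kf f (j + 1) l ↔ w ∈ Kf f j (l + 1) := by
  rw [mem_Kf_iff, mem_Kf_iff, ← F_inc, pow_succ, Module.End.mul_apply]

theorem mem_Kf_one (f : (i : ℕ) → Matrix (Fin (d (i + 1))) (Fin (d i)) k) (j : ℕ)
    (w : Fin (d j) → k) : w ∈ Kf f j 1 ↔ Matrix.toLin' (f j) w = 0 := by
  rw [Kf, LinearMap.mem_ker]
  rfl

/-- Two chains with the same rank array on `[1, r]` are related by linear automorphisms of
the spaces `k^{d j}`. -/
theorem exists_equivs (f f' : (i : ℕ) → Matrix (Fin (d (i + 1))) (Fin (d i)) k) (r : ℕ)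
    (hrank : ∀ i j : ℕ, 1 ≤ i → i ≤ j → j ≤ r → rankArray f i j = rankArray f' i j)
    (n : ℕ) (hn1 : 1 ≤ n) (hnr : n ≤ r) :
    ∃ g : (j : ℕ) → ((Fin (d j) → k) ≃ₗ[k] (Fin (d j) → k)),
      (∀ j, 1 ≤ j → j + 1 ≤ n → ∀ w, g (j + 1) (Matrix.toLin' (f j) w) =
        Matrix.toLin' (f' j) (g j w)) ∧
      (∀ l, n + l ≤ r → ∀ x, x ∈ Kf f n l ↔ g n x ∈ Kf f' n l) := by
  have hfin : ∀ j l, 1 ≤ j → j + l ≤ r →
      Module.finrank k (Kf f j l) = Module.finrank k (Kf f' j l) := by
    intro j l hj hjl
    have h1 := finrank_Kf f j l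
    have h2 := finrank_Kf f' j l
    have h3 := hrank j (j + l) hj (Nat.le_add_right _ _) hjl
    omega
  induction n, hn1 using Nat.le_induction with
  | base =>
    obtain ⟨g₁, -, hg₁⟩ := exists_equiv_flag (k := k) r (W := PUnit.{u₀ + 1})
      (V := Fin (d 1) → k) (V' := Fin (d 1) → k) rfl 0 0 (Kf f 1) (Kf f' 1)
      (Kf_mono f 1) (Kf_mono f' 1) (fun l hl => hfin 1 l le_rfl (by omega)) rfl
      (fun l _ w => by simp)
    refine ⟨Function.update (fun j => LinearEquiv.refl k _) 1 g₁, ?_, ?_⟩
    · intro j hj hj'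
      omega
    · intro l hl x
      rw [Function.update_self]
      exact hg₁ l (by omega) x
  | succ n hn1 ih =>
    obtain ⟨g, hg1, hg2⟩ := ih (by omega)
    obtain ⟨gn, hgn1, hgn2⟩ := exists_equiv_flag (k := k) (r - n)
      (W := Fin (d n) → k) (V := Fin (d (n + 1)) → k) (V' := Fin (d (n + 1)) → k) rfl
      (Matrix.toLin' (f n)) ((Matrix.toLin' (f' n)).comp (g n).toLinearMap)
      (Kf f (n + 1)) (Kf f' (n + 1)) (Kf_mono f (n + 1)) (Kf_mono f' (n + 1))
      (fun l hl => hfin (n + 1) l (by omega) (by omega))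
      (by
        ext w
        rw [LinearMap.mem_ker, LinearMap.mem_ker, ← mem_Kf_one, hg2 1 (by omega) w, mem_Kf_one]
        rfl)
      (fun l hl w => by
        rw [toLin'_mem_Kf_iff, hg2 (l + 1) (by omega) w, ← toLin'_mem_Kf_iff]
        rfl)
    refine ⟨Function.update g (n + 1) gn, ?_, ?_⟩
    · intro j hj hj' w
      rcases Nat.lt_or_ge j n with hlt | hge
      · have h1 : j + 1 ≠ n + 1 := by omega
        have h2 : j ≠ n + 1 := by omega
        rw [Function.update_of_ne h1, Function.update_of_ne h2]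
        exact hg1 j hj (by omega) w
      · have hjn : j = n := by omega
        subst hjn
        have h2 : j ≠ j + 1 := by omega
        rw [Function.update_self, Function.update_of_ne h2]
        exact hgn1 w
    · intro l hl x
      rw [Function.update_self]
      exact hgn2 l (by omega) x

/-- The element of `GL` attached to a linear automorphism of `k^n`. -/
noncomputable def toGL {n : Type*} [Fintype n] [DecidableEq n]
    (g : (n → k) ≃ₗ[k] (n → k)) : Matrix.GeneralLinearGroup n k :=
  ⟨LinearMap.toMatrix' g.toLinearMap, LinearMap.toMatrix' g.symm.toLinearMap,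
    by rw [← LinearMap.toMatrix'_comp]; simp,
    by rw [← LinearMap.toMatrix'_comp]; simp⟩

theorem coe_toGL {n : Type*} [Fintype n] [DecidableEq n] (g : (n → k) ≃ₗ[k] (n → k)) :
    ((toGL g : Matrix.GeneralLinearGroup n k) : Matrix n n k) =
      LinearMap.toMatrix' g.toLinearMap := rfl

/-- Two chains with the same rank array on `[1, r]` are conjugate. -/
theorem exists_conj_eq (f f' : (i : ℕ) → Matrix (Fin (d (i + 1))) (Fin (d i)) k) (r : ℕ)
    (hrank : ∀ i j : ℕ, 1 ≤ i → i ≤ j → j ≤ r → rankArray f i j = rankArray f' i j) :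
    ∃ g : (j : ℕ) → Matrix.GeneralLinearGroup (Fin (d j)) k,
      ∀ i : ℕ, 1 ≤ i → i + 1 ≤ r → conj g f i = f' i := by
  rcases Nat.eq_zero_or_pos r with rfl | hr
  · exact ⟨fun _ => 1, fun i _ hi => absurd hi (by omega)⟩
  obtain ⟨g, hg, -⟩ := exists_equivs f f' r hrank r hr le_rfl
  refine ⟨fun j => toGL (g j), fun i hi hir => ?_⟩
  have key : ((toGL (g (i + 1)) : Matrix.GeneralLinearGroup (Fin (d (i + 1))) k) :
        Matrix (Fin (d (i + 1))) (Fin (d (i + 1))) k) * f i =
      f' i * ((toGL (g i) : Matrix.GeneralLinearGroup (Fin (d i)) k) :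
        Matrix (Fin (d i)) (Fin (d i)) k) := by
    apply Matrix.toLin'.injective
    rw [Matrix.toLin'_mul, Matrix.toLin'_mul, coe_toGL, coe_toGL, Matrix.toLin'_toMatrix',
      Matrix.toLin'_toMatrix']
    refine LinearMap.ext fun w => ?_
    exact hg i hi hir w
  rw [conj, key, Matrix.mul_assoc, Units.mul_inv, Matrix.mul_one]

end chain

end Groth.Agent.Lib.Seat65.ChainB
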