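import Groth.Agent.Lib.Seat65ChainA

/-!
Realising every admissible array as the rank array of a chain of `0/1` matrices.
-/

set_option autoImplicit false

namespace Groth.Agent.Lib.Seat65.ChainC

open W4c1btstackcounts
open Groth.Agent.Lib.Seat65.ChainA

/-- The array `a` with a zeroth row of zeros. -/
def cl (a : ℕ → ℕ → ℕ) (i j : ℕ) : ℕ := if i = 0 then 0 else a i j

theorem cl_zero (a : ℕ → ℕ → ℕ) (j : ℕ) : cl a 0 j = 0 := by simp [cl]

theorem cl_succ (a : ℕ → ℕ → ℕ) (i j : ℕ) : cl a (i + 1) j = a (i + 1) j := by simp [cl]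

theorem cl_pos (a : ℕ → ℕ → ℕ) {i : ℕ} (hi : 1 ≤ i) (j : ℕ) : cl a i j = a i j := by
  have : i ≠ 0 := by omega
  simp [cl, this]

section adm

variable {d : ℕ → ℕ} {r : ℕ} {a : ℕ → ℕ → ℕ}

theorem cl_diag (ha : IsRankArray d r a) {j : ℕ} (hj : 1 ≤ j) (hjr : j ≤ r) :
    cl a j j = d j := by
  rw [cl_pos a hj]; exact ha.1 j hj hjr

theorem cl_mono (ha : IsRankArray d r a) {i i' j : ℕ} (hii' : i ≤ i') (hi'j : i' ≤ j)
    (hjr : j ≤ r) : cl a i j ≤ cl a i' j := by
  induction i', hii' using Nat.le_induction with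
  | base => exact le_rfl
  | succ m hm ih =>
    refine le_trans (ih (by omega)) ?_
    rcases Nat.eq_zero_or_pos m with rfl | hm0
    · rw [cl_zero]; exact Nat.zero_le _
    · rw [cl_pos a hm0, cl_succ]
      exact ha.2.1 m j hm0 (by omega) hjr

theorem cl_D (ha : IsRankArray d r a) {i₀ j : ℕ} (hij : i₀ < j) (hjr : j < r) :
    cl a (i₀ + 1) (j + 1) + cl a i₀ j ≤ cl a (i₀ + 1) j + cl a i₀ (j + 1) := by
  rcases Nat.eq_zero_or_pos i₀ with rfl | h0
  · rw [cl_zero, cl_zero, cl_succ, cl_succ]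
    simpa using ha.2.2.1 1 j le_rfl (by omega) hjr
  · rw [cl_succ, cl_succ, cl_pos a h0, cl_pos a h0]
    have := ha.2.2.2 (i₀ + 1) j (by omega) (by omega) hjr
    simpa using this

/-- The partial injection from the coordinates of `k^{d j}` to those of `k^{d (j+1)}`. -/
def Rel (a : ℕ → ℕ → ℕ) (j t t' : ℕ) : Prop :=
  ∃ i₀, i₀ < j ∧ cl a i₀ j ≤ t ∧ t < cl a (i₀ + 1) j ∧
    t' + cl a i₀ j = t + cl a i₀ (j + 1) ∧ t' < cl a (i₀ + 1) (j + 1)

theorem Rel_lt (ha : IsRankArray d r a) {j t t' i : ℕ} (hjr : j < r) (h : Rel a j t t')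
    (ht : t < cl a i j) (hij : i ≤ j) : t' < cl a i (j + 1) := by
  obtain ⟨i₀, h1, h2, h3, h4, h5⟩ := h
  have hlt : i₀ < i := by
    by_contra hcon
    have := cl_mono ha (Nat.le_of_not_lt hcon) (Nat.le_of_lt h1) (Nat.le_of_lt hjr)
    omega
  have := cl_mono ha (i := i₀ + 1) (i' := i) (j := j + 1) hlt (by omega) hjr
  omega

theorem Rel_inj (ha : IsRankArray d r a) {j t₁ t₂ t' : ℕ} (hjr : j < r) (h₁ : Rel a j t₁ t')
    (h₂ : Rel a j t₂ t') : t₁ = t₂ := by
  obtain ⟨i₁, a1, a2, a3, a4, a5⟩ := h₁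
  obtain ⟨i₂, b1, b2, b3, b4, b5⟩ := h₂
  have hi : i₁ = i₂ := by
    rcases Nat.lt_trichotomy i₁ i₂ with hlt | heq | hgt
    · have := cl_mono ha (i := i₁ + 1) (i' := i₂) (j := j + 1) hlt (by omega) hjr
      omega
    · exact heq
    · have := cl_mono ha (i := i₂ + 1) (i' := i₁) (j := j + 1) hgt (by omega) hjr
      omega
  subst hi
  omega

theorem Rel_fun (ha : IsRankArray d r a) {j t t₁' t₂' : ℕ} (hjr : j < r) (h₁ : Rel a j t t₁')
    (h₂ : Rel a j t t₂') : t₁' = t₂' := by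
  obtain ⟨i₁, a1, a2, a3, a4, a5⟩ := h₁
  obtain ⟨i₂, b1, b2, b3, b4, b5⟩ := h₂
  have hi : i₁ = i₂ := by
    rcases Nat.lt_trichotomy i₁ i₂ with hlt | heq | hgt
    · have := cl_mono ha (i := i₁ + 1) (i' := i₂) (j := j) hlt (by omega) (by omega)
      omega
    · exact heq
    · have := cl_mono ha (i := i₂ + 1) (i' := i₁) (j := j) hgt (by omega) (by omega)
      omega
  subst hi
  omega

theorem Rel_surj (ha : IsRankArray d r a) {j t' i : ℕ} (hjr : j < r)
    (ht' : t' < cl a i (j + 1)) (hij : i ≤ j) : ∃ t, t < cl a i j ∧ Rel a j t t' := by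
  classical
  have hex : ∃ i₁, t' < cl a i₁ (j + 1) := ⟨i, ht'⟩
  have hmin : ∀ m, m < Nat.find hex → ¬ t' < cl a m (j + 1) := fun m hm => Nat.find_min hex hm
  have hspec : t' < cl a (Nat.find hex) (j + 1) := Nat.find_spec hex
  have hle : Nat.find hex ≤ i := Nat.find_min' hex ht'
  have hpos : 1 ≤ Nat.find hex := by
    by_contra hcon
    have h0 : Nat.find hex = 0 := by omega
    rw [h0, cl_zero] at hspec
    omega
  obtain ⟨i₀, hi₀⟩ : ∃ i₀, Nat.find hex = i₀ + 1 := ⟨Nat.find hex - 1, by omega⟩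
  rw [hi₀] at hspec hle hmin
  have hlow : cl a i₀ (j + 1) ≤ t' := Nat.le_of_not_lt (hmin i₀ (Nat.lt_succ_self _))
  have hD := cl_D ha (i₀ := i₀) (j := j) (by omega) hjr
  have hm := cl_mono ha (i := i₀ + 1) (i' := i) (j := j) hle hij (by omega)
  refine ⟨t' - cl a i₀ (j + 1) + cl a i₀ j, by omega, i₀, by omega, by omega, by omega, by omega,
    hspec⟩

end adm

section lin

variable {k : Type*} [Field k]

/-- Vectors of `k^n` supported on the first `b` coordinates. -/
def S (k : Type*) [Field k] (n b : ℕ) : Submodule k (Fin n → k) where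
  carrier := {v | ∀ t : Fin n, b ≤ t.val → v t = 0}
  add_mem' := by
    intro v w hv hw t ht
    simp [hv t ht, hw t ht]
  zero_mem' := by intro t _; rfl
  smul_mem' := by
    intro c v hv t ht
    simp [hv t ht]

theorem mem_S {n b : ℕ} {v : Fin n → k} : v ∈ S k n b ↔ ∀ t : Fin n, b ≤ t.val → v t = 0 :=
  Iff.rfl

theorem S_eq_top {n b : ℕ} (h : n ≤ b) : S k n b = ⊤ := by
  rw [eq_top_iff]
  intro v _ t ht
  exact absurd t.2 (by omega)

theorem single_mem_S {n b : ℕ} {t : Fin n} (ht : t.val < b) :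
    (Pi.single t 1 : Fin n → k) ∈ S k n b := by
  intro t₂ ht₂
  have : t₂ ≠ t := by
    intro h; rw [h] at ht₂; omega
  simp [Pi.single_eq_of_ne this]

theorem S_eq_span (n b : ℕ) :
    S k n b = Submodule.span k {v | ∃ t : Fin n, t.val < b ∧ v = Pi.single t 1} := by
  apply le_antisymm
  · intro v hv
    rw [pi_eq_sum_univ' v]
    refine Submodule.sum_mem _ fun t _ => ?_
    by_cases ht : t.val < b
    · exact Submodule.smul_mem _ _ (Submodule.subset_span ⟨t, ht, rfl⟩)
    · rw [hv t (Nat.le_of_not_lt ht), zero_smul]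
      exact Submodule.zero_mem _
  · rw [Submodule.span_le]
    rintro _ ⟨t, ht, rfl⟩
    exact single_mem_S ht

theorem finrank_S {n b : ℕ} (h : b ≤ n) : Module.finrank k (S k n b) = b := by
  have hli : LinearIndependent k
      (fun t : Fin b => (Pi.single (Fin.castLE h t) 1 : Fin n → k)) := by
    have := (Pi.basisFun k (Fin n)).linearIndependent.comp (Fin.castLE h)
      (Fin.castLE_injective h)
    convert this using 1
    funext t
    simp [Pi.basisFun_apply]
  have hS : S k n b = Submodule.span k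
      (Set.range (fun t : Fin b => (Pi.single (Fin.castLE h t) 1 : Fin n → k))) := by
    rw [S_eq_span]
    congr 1
    ext v
    constructor
    · rintro ⟨t, ht, rfl⟩
      exact ⟨⟨t.val, ht⟩, by congr 1⟩
    · rintro ⟨t, rfl⟩
      exact ⟨Fin.castLE h t, by simp, rfl⟩
  rw [hS, finrank_span_eq_card hli, Fintype.card_fin]

end lin

section mat

variable {k : Type*} [Field k] {d : ℕ → ℕ} {r : ℕ} {a : ℕ → ℕ → ℕ}

open Classical in
/-- The chain of `0/1` matrices attached to an array. -/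
noncomputable def mat (k : Type*) [Field k] (d : ℕ → ℕ) (a : ℕ → ℕ → ℕ) (j : ℕ) :
    Matrix (Fin (d (j + 1))) (Fin (d j)) k :=
  fun t' t => if Rel a j t.val t'.val then 1 else 0

theorem mat_of_rel {j : ℕ} {t' : Fin (d (j + 1))} {t : Fin (d j)} (h : Rel a j t.val t'.val) :
    mat k d a j t' t = 1 := by
  simp [mat, h]

theorem mat_of_not_rel {j : ℕ} {t' : Fin (d (j + 1))} {t : Fin (d j)}
    (h : ¬ Rel a j t.val t'.val) : mat k d a j t' t = 0 := by
  simp [mat, h]

theorem map_mat_S (ha : IsRankArray d r a) {i j : ℕ} (hij : i ≤ j) (hj : 1 ≤ j) (hjr : j < r) :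
    (S k (d j) (cl a i j)).map (Matrix.toLin' (mat k d a j)) =
      S k (d (j + 1)) (cl a i (j + 1)) := by
  apply le_antisymm
  · rintro _ ⟨v, hv, rfl⟩
    intro t' ht'
    rw [Matrix.toLin'_apply]
    simp only [Matrix.mulVec, dotProduct]
    refine Finset.sum_eq_zero fun t _ => ?_
    by_cases ht : cl a i j ≤ t.val
    · rw [hv t ht, mul_zero]
    · have : ¬ Rel a j t.val t'.val := by
        intro hR
        have := Rel_lt ha hjr hR (Nat.lt_of_not_le ht) hij
        omega
      rw [mat_of_not_rel this, zero_mul]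
  · rw [S_eq_span, Submodule.span_le]
    rintro _ ⟨t', ht', rfl⟩
    obtain ⟨t₀, ht₀, hR⟩ := Rel_surj ha hjr ht' hij
    have hdj : cl a i j ≤ d j := by
      rw [← cl_diag ha hj (Nat.le_of_lt hjr)]
      exact cl_mono ha hij le_rfl (Nat.le_of_lt hjr)
    refine ⟨Pi.single (⟨t₀, by omega⟩ : Fin (d j)) 1, single_mem_S (by simpa using ht₀), ?_⟩
    rw [Matrix.toLin'_apply, Matrix.mulVec_single_one]
    funext t''
    by_cases h : t'' = t'
    · subst h
      rw [Pi.single_eq_same]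
      exact mat_of_rel hR
    · rw [Pi.single_eq_of_ne h]
      refine mat_of_not_rel ?_
      intro hR'
      have := Rel_fun ha hjr hR hR'
      exact h (Fin.ext this.symm)

theorem iterImage_mat (ha : IsRankArray d r a) {i : ℕ} (hi : 1 ≤ i) (n : ℕ) (hn : i + n ≤ r) :
    iterImage (mat k d a) i n = S k (d (i + n)) (cl a i (i + n)) := by
  induction n with
  | zero =>
    rw [Nat.add_zero] at hn
    change (⊤ : Submodule k (Fin (d i) → k)) = S k (d i) (cl a i i)
    rw [S_eq_top]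
    rw [cl_diag ha hi hn]
  | succ n ih =>
    change (iterImage (mat k d a) i n).map (Matrix.toLin' (mat k d a (i + n))) =
      S k (d (i + n + 1)) (cl a i (i + n + 1))
    rw [ih (by omega)]
    exact map_mat_S ha (Nat.le_add_right _ _) (by omega) (by omega)

theorem rankArray_mat (ha : IsRankArray d r a) {i j : ℕ} (hi : 1 ≤ i) (hij : i ≤ j)
    (hjr : j ≤ r) : rankArray (mat k d a) i j = a i j := by
  obtain ⟨n, rfl⟩ := Nat.exists_eq_add_of_le hij
  rw [rankArray, if_pos hij, Nat.add_sub_cancel_left, iterImage_mat ha hi n hjr, finrank_S,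
    cl_pos a hi]
  rw [← cl_diag ha (by omega : 1 ≤ i + n) hjr]
  exact cl_mono ha hij le_rfl hjr

end mat

end Groth.Agent.Lib.Seat65.ChainC
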