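import Mathlib.RingTheory.Ideal.Pointwise
import Mathlib.RingTheory.Ideal.Over
import Mathlib.RingTheory.Localization.AtPrime.Basic
import Mathlib.RingTheory.Invariant.Basic
import Mathlib.RingTheory.Finiteness.Defs
import Mathlib.RingTheory.Ideal.Operations
import Mathlib.GroupTheory.Coset.Basic
import Mathlib.GroupTheory.GroupAction.Quotient

/-!
# Decomposition-group lemmas (for S6017), part A: group-action algebra

`G` finite acting on a commutative ring `R`, `q` a prime of `R`, `H ≤ G` containing the stabilizer of `q`.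
-/

set_option autoImplicit false
universe u
open scoped Pointwise

namespace Groth.Agent.Lib.Seat65.DecompA

variable {G R : Type u} [Group G] [Finite G] [CommRing R] [MulSemiringAction G R]

/-- If `g • q ≤ q` for `g` in a finite group, then `g • q = q`. -/
theorem smul_eq_of_smul_le (q : Ideal R) (g : G) (h : g • q ≤ q) : g • q = q := by
  have hk : ∀ k : ℕ, g ^ k • q ≤ q := by
    intro k
    induction k with
    | zero => simp
    | succ k ih =>
      rw [pow_succ, mul_smul]
      exact (Ideal.pointwise_smul_le_pointwise_smul_iff.mpr h).trans ih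
  refine le_antisymm h ?_
  have hpos : 0 < orderOf g := orderOf_pos g
  have h1 := hk (orderOf g - 1)
  have h2 : g • (g ^ (orderOf g - 1) • q) ≤ g • q := Ideal.pointwise_smul_le_pointwise_smul_iff.mpr h1
  rw [← mul_smul, ← pow_succ', Nat.sub_add_cancel hpos, pow_orderOf_eq_one, one_smul] at h2
  exact h2

/-- Incomparability of conjugates: `τ₁ • q ≤ τ₂ • q` forces equality and `τ₂⁻¹ τ₁` stabilizes `q`. -/
theorem conj_le_conj (q : Ideal R) (τ₁ τ₂ : G) (h : τ₁ • q ≤ τ₂ • q) :
    τ₁ • q = τ₂ • q ∧ τ₂⁻¹ * τ₁ ∈ MulAction.stabilizer G q := by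
  have h' : (τ₂⁻¹ * τ₁) • q ≤ q := by
    rw [mul_smul]
    have := Ideal.pointwise_smul_le_pointwise_smul_iff (a := τ₂⁻¹).mpr h
    rwa [inv_smul_smul] at this
  have h2 := smul_eq_of_smul_le q _ h'
  refine ⟨?_, by simpa [MulAction.mem_stabilizer_iff] using h2⟩
  rw [mul_smul] at h2
  have h3 := congrArg (fun J => τ₂ • J) h2
  simpa [smul_inv_smul] using h3

/-- Prime avoidance among conjugates of a prime `q`. -/
theorem exists_avoid (q : Ideal R) [q.IsPrime] (T₁ T₂ : Set G)
    (hT : ∀ τ₁ ∈ T₁, ∀ τ₂ ∈ T₂, ¬ τ₁ • q ≤ τ₂ • q) :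
    ∃ u : R, (∀ τ ∈ T₁, u ∈ τ • q) ∧ (∀ τ ∈ T₂, u ∉ τ • q) := by
  classical
  haveI : Fintype G := Fintype.ofFinite G
  let s₁ : Finset G := Finset.univ.filter (· ∈ T₁)
  let s₂ : Finset G := Finset.univ.filter (· ∈ T₂)
  let I : Ideal R := s₁.inf (fun τ => τ • q)
  have hprime : ∀ τ : G, (τ • q).IsPrime := fun τ => by
    rw [Ideal.pointwise_smul_def]
    exact Ideal.map_isPrime_of_equiv (MulSemiringAction.toRingEquiv G R τ)
  by_contra hcon
  push Not at hcon
  have hsub : ((I : Set R) ⊆ ⋃ i ∈ (↑s₂ : Set G), ((fun τ => τ • q) i : Set R)) := by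
    intro u hu
    have hu1 : ∀ τ ∈ T₁, u ∈ τ • q := by
      intro τ hτ
      have : I ≤ τ • q := Finset.inf_le (f := fun τ => τ • q) (by simp [s₁, hτ])
      exact this hu
    obtain ⟨τ, hτ, hmem⟩ := hcon u hu1
    simp only [Set.mem_iUnion]
    exact ⟨τ, by simp [s₂, hτ], hmem⟩
  by_cases hne : s₂ = ∅
  · -- then the union is empty, but `1 ∈ ...`? `I` could be anything; use `0`.
    have h0 : (0 : R) ∈ (I : Set R) := I.zero_mem
    have := hsub h0
    simp [hne] at this
  obtain ⟨a, ha⟩ := Finset.nonempty_iff_ne_empty.mpr hne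
  obtain ⟨i, his, hi⟩ := (Ideal.subset_union_prime (s := s₂) (f := fun τ => τ • q) a a
    (fun i _ _ _ => hprime i)).mp hsub
  obtain ⟨j, hjs, hj⟩ := (Ideal.IsPrime.inf_le' (s := s₁) (f := fun τ => τ • q) (P := i • q)
    (hprime i)).mp hi
  exact hT j (by simpa [s₁] using hjs) i (by simpa [s₂] using his) hj

end Groth.Agent.Lib.Seat65.DecompA
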