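import Groth.Agent.Lib.Seat65DecompA

/-!
# Decomposition-group lemmas (for S6017), part B: coset conjugates, trace, norm, cofactor
-/

set_option autoImplicit false
universe u
open scoped Pointwise

namespace Groth.Agent.Lib.Seat65.DecompB

variable {G R : Type u} [Group G] [CommRing R] [MulSemiringAction G R] (H : Subgroup G)

theorem mem_fix_iff (x : R) : x ∈ FixedPoints.subring R H ↔ ∀ h : H, h • x = x := Iff.rfl

theorem mem_fixG_iff (x : R) : x ∈ FixedPoints.subring R G ↔ ∀ g : G, g • x = x := Iff.rfl

theorem fix_smul (x : FixedPoints.subring R H) (h : G) (hh : h ∈ H) : h • (x : R) = x :=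
  x.2 ⟨h, hh⟩

/-- The conjugate `g • x` of an `H`-invariant `x`, as a function of the coset `gH`. -/
def conj (x : FixedPoints.subring R H) (c : G ⧸ H) : R :=
  Quotient.liftOn' c (fun g => g • (x : R)) (by
    intro a b hab
    have hab' : a⁻¹ * b ∈ H := QuotientGroup.leftRel_apply.mp hab
    have : b = a * (a⁻¹ * b) := by group
    show a • (x : R) = b • (x : R)
    rw [this, mul_smul, fix_smul H x _ hab'])

@[simp] theorem conj_mk (x : FixedPoints.subring R H) (g : G) :
    conj H x (QuotientGroup.mk g) = g • (x : R) := rfl

theorem smul_conj (x : FixedPoints.subring R H) (g : G) (c : G ⧸ H) :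
    g • conj H x c = conj H x (g • c) := by
  induction c using QuotientGroup.induction_on with
  | H a => simp [mul_smul, ← QuotientGroup.mk_mul, MulAction.Quotient.smul_mk]

theorem conj_one (x : FixedPoints.subring R H) : conj H x (QuotientGroup.mk 1) = x := by simp

theorem conj_mul (x y : FixedPoints.subring R H) (c : G ⧸ H) :
    conj H (x * y) c = conj H x c * conj H y c := by
  induction c using QuotientGroup.induction_on with
  | H a => simp [smul_mul']

theorem conj_add (x y : FixedPoints.subring R H) (c : G ⧸ H) :
    conj H (x + y) c = conj H x c + conj H y c := by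
  induction c using QuotientGroup.induction_on with
  | H a => simp [smul_add]

theorem conj_of_fixG (x : FixedPoints.subring R H) (hx : (x : R) ∈ FixedPoints.subring R G) (c : G ⧸ H) :
    conj H x c = x := by
  induction c using QuotientGroup.induction_on with
  | H a => simpa using hx a

theorem exists_rep_not_mem (c : G ⧸ H) (hc : c ≠ QuotientGroup.mk 1) :
    ∃ g : G, g ∉ H ∧ c = QuotientGroup.mk g := by
  induction c using QuotientGroup.induction_on with
  | H a =>
    refine ⟨a, fun ha => hc ?_, rfl⟩
    rw [QuotientGroup.eq]
    simpa using H.inv_mem ha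

variable [Finite G]

/-- Relative trace `R^H → R^G`. -/
noncomputable def tr (x : FixedPoints.subring R H) : FixedPoints.subring R G :=
  haveI : Fintype (G ⧸ H) := Fintype.ofFinite _
  ⟨∑ c : G ⧸ H, conj H x c, by
    intro g
    rw [Finset.smul_sum]
    simp_rw [smul_conj]
    exact Fintype.sum_equiv (MulAction.toPerm g) _ _ (fun c => rfl)⟩

/-- Relative norm `R^H → R^G`. -/
noncomputable def nrm (x : FixedPoints.subring R H) : FixedPoints.subring R G :=
  haveI : Fintype (G ⧸ H) := Fintype.ofFinite _
  ⟨∏ c : G ⧸ H, conj H x c, by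
    intro g
    rw [Finset.smul_prod']
    simp_rw [smul_conj]
    exact Fintype.prod_equiv (MulAction.toPerm g) _ _ (fun c => rfl)⟩

open Classical in
/-- Cofactor: the product of the conjugates over the non-trivial cosets; it is `H`-invariant. -/
noncomputable def cof (x : FixedPoints.subring R H) : FixedPoints.subring R H :=
  haveI : Fintype (G ⧸ H) := Fintype.ofFinite _
  ⟨∏ c ∈ (Finset.univ.erase (QuotientGroup.mk 1 : G ⧸ H)), conj H x c, by
    intro h
    rw [Finset.smul_prod']
    simp_rw [Subgroup.smul_def, smul_conj]
    refine Finset.prod_equiv (MulAction.toPerm (h : G)) ?_ (fun c _ => rfl)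
    intro c
    simp only [Finset.mem_erase, Finset.mem_univ, and_true, ne_eq, MulAction.toPerm_apply]
    have h1 : ((h : G) • (QuotientGroup.mk 1 : G ⧸ H)) = QuotientGroup.mk 1 := by
      rw [MulAction.Quotient.smul_mk, QuotientGroup.eq]
      simp
    constructor
    · intro hc hc'
      apply hc
      rw [← h1] at hc'
      exact smul_left_cancel _ hc'
    · intro hc hc'
      apply hc
      rw [hc', h1]⟩

theorem coe_tr (x : FixedPoints.subring R H) :
    haveI : Fintype (G ⧸ H) := Fintype.ofFinite _
    ((tr H x : FixedPoints.subring R G) : R) = ∑ c : G ⧸ H, conj H x c := rfl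

theorem coe_nrm (x : FixedPoints.subring R H) :
    haveI : Fintype (G ⧸ H) := Fintype.ofFinite _
    ((nrm H x : FixedPoints.subring R G) : R) = ∏ c : G ⧸ H, conj H x c := rfl

open Classical in
theorem coe_cof (x : FixedPoints.subring R H) :
    haveI : Fintype (G ⧸ H) := Fintype.ofFinite _
    ((cof H x : FixedPoints.subring R H) : R) =
      ∏ c ∈ (Finset.univ.erase (QuotientGroup.mk 1 : G ⧸ H)), conj H x c := rfl

open Classical in
theorem nrm_eq (x : FixedPoints.subring R H) :
    ((nrm H x : FixedPoints.subring R G) : R) = (x : R) * (cof H x : FixedPoints.subring R H) := by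
  letI : Fintype (G ⧸ H) := Fintype.ofFinite _
  rw [coe_nrm, coe_cof]
  conv_rhs => rw [← conj_one H x]
  rw [Finset.mul_prod_erase _ _ (Finset.mem_univ _)]

end Groth.Agent.Lib.Seat65.DecompB
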