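import Groth.Agent.Lib.Seat65DecompB

/-!
# Decomposition-group lemmas (for S6017), part C: key ring-level lemmas
-/

set_option autoImplicit false
universe u
open scoped Pointwise

namespace Groth.Agent.Lib.Seat65.DecompC

open Groth.Agent.Lib.Seat65.DecompA Groth.Agent.Lib.Seat65.DecompB

variable {G R : Type u} [Group G] [Finite G] [CommRing R] [MulSemiringAction G R] (H : Subgroup G)

/-- Norm over `H`: `R → R^H`. -/
noncomputable def nH (u : R) : FixedPoints.subring R H :=
  haveI : Fintype H := Fintype.ofFinite _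
  ⟨∏ h : H, h • u, by
    intro h'
    rw [Finset.smul_prod']
    simp_rw [← mul_smul]
    exact Fintype.prod_equiv (Equiv.mulLeft h') _ _ (fun c => rfl)⟩

theorem coe_nH (u : R) :
    haveI : Fintype H := Fintype.ofFinite _
    ((nH H u : FixedPoints.subring R H) : R) = ∏ h : H, h • u := rfl

variable (q : Ideal R) [q.IsPrime]

theorem smul_mem_iff (σ : G) (x : R) : σ • x ∈ q ↔ x ∈ σ⁻¹ • q := by
  rw [Ideal.mem_pointwise_smul_iff_inv_smul_mem, inv_inv]

/-- `nH u ∈ τ • q` as soon as `u ∈ τ • q`. -/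
theorem nH_mem (u : R) (τ : G) (hu : u ∈ τ • q) : (nH H u : R) ∈ τ • q := by
  letI : Fintype H := Fintype.ofFinite _
  rw [coe_nH]
  refine Ideal.prod_mem _ (Finset.mem_univ (1 : H)) ?_
  simpa using hu

/-- `nH u ∉ τ • q` as soon as `u ∉ h⁻¹ τ • q` for all `h ∈ H`. -/
theorem nH_not_mem (u : R) (τ : G) (hu : ∀ h ∈ H, u ∉ (h * τ) • q) : (nH H u : R) ∉ τ • q := by
  letI : Fintype H := Fintype.ofFinite _
  rw [coe_nH]
  have hprime : (τ • q).IsPrime := by
    rw [Ideal.pointwise_smul_def]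
    exact Ideal.map_isPrime_of_equiv (MulSemiringAction.toRingEquiv G R τ)
  rw [Ideal.IsPrime.prod_mem_iff]
  rintro ⟨h, -, hh⟩
  apply hu (h⁻¹ : H) (H.inv_mem h.2)
  rw [Ideal.mem_pointwise_smul_iff_inv_smul_mem] at hh ⊢
  rw [Subgroup.smul_def, ← mul_smul] at hh
  convert hh using 2
  simp [mul_inv_rev]

variable (hD : MulAction.stabilizer G q ≤ H)
include hD

/-- L1: an `H`-invariant element outside `q` lying in all the conjugates `σ⁻¹ q`, `σ ∉ H`. -/
theorem exists_t : ∃ t : FixedPoints.subring R H, (t : R) ∉ q ∧ ∀ σ : G, σ ∉ H → σ • (t : R) ∈ q := by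
  obtain ⟨u, hu1, hu2⟩ := exists_avoid q {τ | τ ∉ H} {τ | τ ∈ H} (by
    intro τ₁ h1 τ₂ h2 hle
    have := hD (conj_le_conj q τ₁ τ₂ hle).2
    apply h1
    have h3 : τ₁ = τ₂ * (τ₂⁻¹ * τ₁) := by group
    rw [h3]
    exact H.mul_mem h2 this)
  refine ⟨nH H u, ?_, ?_⟩
  · have := nH_not_mem H q u 1 (fun h hh => by simpa using hu2 h hh)
    simpa using this
  · intro σ hσ
    rw [smul_mem_iff]
    exact nH_mem H q u _ (hu1 _ (fun h => hσ (by simpa using H.inv_mem h)))

/-- good element: in `q`, outside all `τ • q` with `τ ∉ H`. -/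
def Good (z : FixedPoints.subring R H) : Prop := (z : R) ∈ q ∧ ∀ τ : G, τ ∉ H → (z : R) ∉ τ • q

theorem exists_good : ∃ v : FixedPoints.subring R H, Good H q v := by
  obtain ⟨u, hu1, hu2⟩ := exists_avoid q {1} {τ | τ ∉ H} (by
    intro τ₁ h1 τ₂ h2 hle
    have := hD (conj_le_conj q τ₁ τ₂ hle).2
    rw [Set.mem_singleton_iff] at h1
    subst h1
    apply h2
    simpa using H.inv_mem this)
  refine ⟨nH H u, ?_, ?_⟩
  · have := nH_mem H q u 1 (hu1 1 rfl)
    simpa using this
  · intro τ hτ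
    apply nH_not_mem H q u τ
    intro h hh
    apply hu2
    intro hcon
    apply hτ
    have h3 : τ = h⁻¹ * (h * τ) := by group
    rw [h3]
    exact H.mul_mem (H.inv_mem hh) hcon

/-- L4: every element of `q ∩ R^H` is `y - a * v` with `y`, `v` good. -/
theorem exists_good_decomp (x : FixedPoints.subring R H) (hx : (x : R) ∈ q) :
    ∃ y v a : FixedPoints.subring R H, Good H q y ∧ Good H q v ∧ x = y - a * v := by
  obtain ⟨v, hv⟩ := exists_good H q hD
  obtain ⟨a₀, ha1, ha2⟩ := exists_avoid q {τ | τ ∉ H ∧ (x : R) ∉ τ • q} {τ | τ ∉ H ∧ (x : R) ∈ τ • q} (by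
    rintro τ₁ ⟨h1, h1'⟩ τ₂ ⟨h2, h2'⟩ hle
    apply h1'
    rw [(conj_le_conj q τ₁ τ₂ hle).1]
    exact h2')
  -- the bad set is stable under left multiplication by `H`
  have hstab : ∀ h ∈ H, ∀ τ : G, (x : R) ∈ τ • q → (x : R) ∈ (h * τ) • q := by
    intro h hh τ hτ
    rw [mul_smul, Ideal.mem_pointwise_smul_iff_inv_smul_mem]
    rw [fix_smul H x _ (H.inv_mem hh)]
    exact hτ
  have hnotH : ∀ h ∈ H, ∀ τ : G, τ ∉ H → h * τ ∉ H := by
    intro h hh τ hτ hcon
    apply hτ
    have h3 : τ = h⁻¹ * (h * τ) := by group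
    rw [h3]
    exact H.mul_mem (H.inv_mem hh) hcon
  let a := nH H a₀
  refine ⟨x + a * v, v, a, ⟨?_, ?_⟩, hv, by ring⟩
  · -- in q
    show ((x : R) + (a : R) * (v : R)) ∈ q
    exact q.add_mem hx (q.mul_mem_left _ hv.1)
  · intro τ hτ
    have hprime : (τ • q).IsPrime := by
      rw [Ideal.pointwise_smul_def]
      exact Ideal.map_isPrime_of_equiv (MulSemiringAction.toRingEquiv G R τ)
    show ((x : R) + (a : R) * (v : R)) ∉ τ • q
    by_cases hxτ : (x : R) ∈ τ • q
    · -- bad index: a ∉ τ q, v ∉ τ q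
      intro hcon
      have hav : (a : R) * (v : R) ∈ τ • q := by
        have := (τ • q).sub_mem hcon hxτ
        simpa using this
      rcases hprime.mem_or_mem hav with h1 | h1
      · revert h1
        apply nH_not_mem H q a₀ τ
        intro h hh
        exact ha2 _ ⟨hnotH h hh τ hτ, hstab h hh τ hxτ⟩
      · exact hv.2 τ hτ h1
    · -- good index: a ∈ τ q
      intro hcon
      apply hxτ
      have ha : (a : R) ∈ τ • q := nH_mem H q a₀ τ (ha1 τ ⟨hτ, hxτ⟩)
      have := (τ • q).sub_mem hcon ((τ • q).mul_mem_right (v : R) ha)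
      simpa using this

omit hD in
/-- L5: a good element times a unit-like cofactor lies in `R^G ∩ q`. -/
theorem good_mul_cof (z : FixedPoints.subring R H) (hz : Good H q z) :
    ((nrm H z : FixedPoints.subring R G) : R) ∈ q ∧ ((cof H z : FixedPoints.subring R H) : R) ∉ q ∧
      ((nrm H z : FixedPoints.subring R G) : R) = (z : R) * (cof H z : FixedPoints.subring R H) := by
  classical
  letI : Fintype (G ⧸ H) := Fintype.ofFinite _
  refine ⟨?_, ?_, nrm_eq H z⟩
  · rw [nrm_eq]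
    exact q.mul_mem_right _ hz.1
  · rw [coe_cof, Ideal.IsPrime.prod_mem_iff]
    rintro ⟨c, hc, hmem⟩
    rw [Finset.mem_erase] at hc
    obtain ⟨g, hg, rfl⟩ := exists_rep_not_mem H c hc.1
    rw [conj_mk, smul_mem_iff] at hmem
    exact hz.2 _ (fun h => hg (by simpa using H.inv_mem h)) hmem

end Groth.Agent.Lib.Seat65.DecompC
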