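import Groth.Agent.Lib.Seat65DecompC

/-!
# Decomposition-group lemmas (for S6017), part D: trace lemmas, residue field, unramifiedness, kernel
-/

set_option autoImplicit false
universe u
open scoped Pointwise

namespace Groth.Agent.Lib.Seat65.DecompD

open Groth.Agent.Lib.Seat65.DecompA Groth.Agent.Lib.Seat65.DecompB Groth.Agent.Lib.Seat65.DecompC

variable {G R : Type u} [Group G] [Finite G] [CommRing R] [MulSemiringAction G R] (H : Subgroup G)

theorem coe_tr_add (x y : FixedPoints.subring R H) :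
    ((tr H (x + y) : FixedPoints.subring R G) : R) = (tr H x : R) + (tr H y : R) := by
  letI : Fintype (G ⧸ H) := Fintype.ofFinite _
  simp only [coe_tr, conj_add, Finset.sum_add_distrib]

theorem tr_add (x y : FixedPoints.subring R H) : tr H (x + y) = tr H x + tr H y :=
  Subtype.ext (coe_tr_add H x y)

theorem tr_zero : tr H (0 : FixedPoints.subring R H) = 0 := by
  have := tr_add H (0 : FixedPoints.subring R H) 0
  rw [add_zero] at this
  exact left_eq_add.mp this

/-- `tr (b * x) = b * tr x` for `b ∈ R^G`. -/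
theorem coe_tr_mul (b x : FixedPoints.subring R H) (hb : (b : R) ∈ FixedPoints.subring R G) :
    ((tr H (b * x) : FixedPoints.subring R G) : R) = (b : R) * (tr H x : R) := by
  letI : Fintype (G ⧸ H) := Fintype.ofFinite _
  simp only [coe_tr, DecompB.conj_mul, Finset.mul_sum]
  refine Finset.sum_congr rfl (fun c _ => ?_)
  rw [conj_of_fixG H b hb c]

variable (q : Ideal R)

/-- L2: if all the non-trivial conjugates of `x` lie in `q`, then `tr x ≡ x` mod `q`. -/
theorem tr_sub_mem (x : FixedPoints.subring R H) (hx : ∀ σ : G, σ ∉ H → σ • (x : R) ∈ q) :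
    ((tr H x : FixedPoints.subring R G) : R) - x ∈ q := by
  classical
  letI : Fintype (G ⧸ H) := Fintype.ofFinite _
  rw [coe_tr, ← Finset.add_sum_erase _ _ (Finset.mem_univ (QuotientGroup.mk 1 : G ⧸ H)), conj_one,
    add_sub_cancel_left]
  refine q.sum_mem (fun c hc => ?_)
  rw [Finset.mem_erase] at hc
  obtain ⟨g, hg, rfl⟩ := exists_rep_not_mem H c hc.1
  rw [conj_mk]
  exact hx g hg

variable [q.IsPrime] (hD : MulAction.stabilizer G q ≤ H)
include hD

/-- L3: residue field. -/
theorem exists_residue (x : FixedPoints.subring R H) :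
    ∃ y y₁ : FixedPoints.subring R G, (y₁ : R) ∉ q ∧ (y₁ : R) * x - y ∈ q := by
  obtain ⟨t, ht1, ht2⟩ := exists_t H q hD
  refine ⟨tr H (t * x), tr H t, ?_, ?_⟩
  · intro hcon
    apply ht1
    have := q.sub_mem hcon (tr_sub_mem H q t ht2)
    simpa using this
  · have h1 := tr_sub_mem H q t ht2
    have h2 := tr_sub_mem H q (t * x) (fun σ hσ => by
      show σ • ((t : R) * (x : R)) ∈ q
      rw [smul_mul']
      exact q.mul_mem_right _ (ht2 σ hσ))
    have : ((tr H t : FixedPoints.subring R G) : R) * x - (tr H (t * x) : FixedPoints.subring R G) =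
        (((tr H t : FixedPoints.subring R G) : R) - t) * x -
          (((tr H (t * x) : FixedPoints.subring R G) : R) - ((t * x : FixedPoints.subring R H) : R)) := by
      push_cast
      ring
    rw [this]
    exact q.sub_mem (q.mul_mem_right _ h1) h2

/-- Unramifiedness: every `x ∈ q ∩ R^H` satisfies `s * x = Σ (elements of R^H) * (elements of q ∩ R^G)`,
in the weak form `s * x = c₁ * b₁ + c₂ * b₂` with `s ∉ q`, `bᵢ ∈ q ∩ R^G`. -/
theorem exists_unram (x : FixedPoints.subring R H) (hx : (x : R) ∈ q) :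
    ∃ (s c₁ c₂ : FixedPoints.subring R H) (b₁ b₂ : FixedPoints.subring R G),
      (s : R) ∉ q ∧ (b₁ : R) ∈ q ∧ (b₂ : R) ∈ q ∧
        (s : R) * x = (c₁ : R) * b₁ + (c₂ : R) * b₂ := by
  obtain ⟨y, v, a, hy, hv, hxy⟩ := exists_good_decomp H q hD x hx
  obtain ⟨hy1, hy2, hy3⟩ := good_mul_cof H q y hy
  obtain ⟨hv1, hv2, hv3⟩ := good_mul_cof H q v hv
  refine ⟨cof H y * cof H v, cof H v, - (a * cof H y), nrm H y, nrm H v, ?_, hy1, hv1, ?_⟩
  · intro hcon
    rcases (inferInstance : q.IsPrime).mem_or_mem hcon with h | h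
    · exact hy2 h
    · exact hv2 h
  · rw [hy3, hv3, hxy]
    push_cast
    ring

/-- L6: kernel lemma. If `s * b` (with `s ∈ R^H ∖ q`, `b ∈ R^G`) is a combination `Σ xⱼ aⱼ` with
`aⱼ ∈ I ⊆ R^G`, then `u * b ∈ I` for some `u ∈ R^G ∖ q`. -/
theorem exists_kernel (I : Ideal (FixedPoints.subring R G)) (b : FixedPoints.subring R G)
    (s : FixedPoints.subring R H) (hs : (s : R) ∉ q)
    (P : FixedPoints.subring R H → Prop)
    (hP0 : ∀ z, P z → ∀ w : FixedPoints.subring R H, tr H (w * z) ∈ I)
    (hsb : ∀ z : FixedPoints.subring R H, (z : R) = (s : R) * b → P z) :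
    ∃ u : FixedPoints.subring R G, (u : R) ∉ q ∧ u * b ∈ I := by
  obtain ⟨t, ht1, ht2⟩ := exists_t H q hD
  refine ⟨tr H (t * s), ?_, ?_⟩
  · intro hcon
    have h2 := tr_sub_mem H q (t * s) (fun σ hσ => by
      show σ • ((t : R) * (s : R)) ∈ q
      rw [smul_mul']
      exact q.mul_mem_right _ (ht2 σ hσ))
    have := q.sub_mem hcon h2
    have hts : (t : R) * s ∈ q := by simpa using this
    rcases (inferInstance : q.IsPrime).mem_or_mem hts with h | h
    · exact ht1 h
    · exact hs h
  · -- `tr (t * s) * b = tr (t * (s * b))`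
    have hbH : (b : R) ∈ FixedPoints.subring R H := fun h => b.2 h
    let b' : FixedPoints.subring R H := ⟨b, hbH⟩
    have key := hP0 (s * b') (hsb _ rfl) t
    have e : tr H (t * (s * b')) = tr H (t * s) * b := by
      apply Subtype.ext
      have : t * (s * b') = b' * (t * s) := by ring
      rw [this, coe_tr_mul H b' (t * s) b.2]
      show (b : R) * _ = _ * (b : R)
      ring
    rwa [e] at key

end Groth.Agent.Lib.Seat65.DecompD
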