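import Mathlib.RingTheory.Localization.AtPrime.Basic
import Mathlib.RingTheory.Localization.Ideal
import Mathlib.RingTheory.Ideal.Operations
import Mathlib.RingTheory.Ideal.Quotient.Basic

/-!
# A local criterion for `B_p → B'_{q'}` to be an isomorphism modulo all powers of the maximal ideals
-/

set_option autoImplicit false
universe u

namespace Groth.Agent.Lib.Seat65.DecompE

open IsLocalRing

variable {B B' : Type u} [CommRing B] [CommRing B'] (ι : B →+* B') (q' : Ideal B') [q'.IsPrime]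

local notation "Lq" => Localization.AtPrime q'
local notation "Lp" => Localization.AtPrime (Ideal.comap ι q')
local notation "φ" => Localization.localRingHom (Ideal.comap ι q') q' ι rfl

/-- (M1) -/
theorem maximalIdeal_eq (H2 : ∀ x ∈ q', ∃ s, s ∉ q' ∧ s * x ∈ Ideal.map ι (Ideal.comap ι q')) :
    maximalIdeal Lq = Ideal.map (algebraMap B' Lq) (Ideal.map ι (Ideal.comap ι q')) := by
  apply le_antisymm
  · rw [← Localization.AtPrime.map_eq_maximalIdeal, Ideal.map_le_iff_le_comap]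
    intro x hx
    rw [Ideal.mem_comap]
    obtain ⟨s, hs, hsx⟩ := H2 x hx
    rw [IsLocalization.algebraMap_mem_map_algebraMap_iff q'.primeCompl]
    exact ⟨s, hs, hsx⟩
  · rw [← Localization.AtPrime.map_eq_maximalIdeal]
    exact Ideal.map_mono Ideal.map_comap_le

theorem map_maximalIdeal_eq (H2 : ∀ x ∈ q', ∃ s, s ∉ q' ∧ s * x ∈ Ideal.map ι (Ideal.comap ι q')) :
    Ideal.map φ (maximalIdeal Lp) = maximalIdeal Lq := by
  rw [maximalIdeal_eq ι q' H2, ← Localization.AtPrime.map_eq_maximalIdeal (I := Ideal.comap ι q'),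
    Ideal.map_map, Ideal.map_map]
  congr 1
  ext x
  simp

theorem maximalIdeal_pow_eq (H2 : ∀ x ∈ q', ∃ s, s ∉ q' ∧ s * x ∈ Ideal.map ι (Ideal.comap ι q'))
    (n : ℕ) :
    maximalIdeal Lq ^ n = Ideal.map (algebraMap B' Lq) (Ideal.map ι ((Ideal.comap ι q') ^ n)) := by
  rw [maximalIdeal_eq ι q' H2, Ideal.map_pow, Ideal.map_pow]

/-- (Z1) -/
theorem exists_residue_algebraMap
    (H1 : ∀ x : B', ∃ y y₁ : B, y₁ ∉ Ideal.comap ι q' ∧ ι y₁ * x - ι y ∈ q') (x : B') :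
    ∃ w : Lp, algebraMap B' Lq x - φ w ∈ maximalIdeal Lq := by
  obtain ⟨y, y₁, hy₁, hxy⟩ := H1 x
  refine ⟨IsLocalization.mk' Lp y (⟨y₁, hy₁⟩ : (Ideal.comap ι q').primeCompl), ?_⟩
  rw [Localization.localRingHom_mk']
  have hu : IsUnit (algebraMap B' Lq (ι y₁)) :=
    IsLocalization.map_units Lq (⟨ι y₁, hy₁⟩ : q'.primeCompl)
  rw [← Ideal.unit_mul_mem_iff_mem _ hu, mul_sub]
  have h1 : algebraMap B' Lq (ι y₁) *
      IsLocalization.mk' Lq (ι y) (⟨ι y₁, hy₁⟩ : q'.primeCompl) = algebraMap B' Lq (ι y) := by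
    rw [mul_comm]
    exact IsLocalization.mk'_spec Lq (ι y) (⟨ι y₁, hy₁⟩ : q'.primeCompl)
  rw [h1, ← map_mul, ← map_sub, ← Localization.AtPrime.map_eq_maximalIdeal]
  exact Ideal.mem_map_of_mem _ hxy

/-- (Z3) residue fields agree. -/
theorem exists_residue_all
    (H1 : ∀ x : B', ∃ y y₁ : B, y₁ ∉ Ideal.comap ι q' ∧ ι y₁ * x - ι y ∈ q') (z : Lq) :
    ∃ w : Lp, z - φ w ∈ maximalIdeal Lq := by
  obtain ⟨x, s, rfl⟩ := IsLocalization.exists_mk'_eq q'.primeCompl z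
  obtain ⟨w₁, hw₁⟩ := exists_residue_algebraMap ι q' H1 x
  obtain ⟨w₂, hw₂⟩ := exists_residue_algebraMap ι q' H1 s
  have hu : IsUnit (algebraMap B' Lq s) := IsLocalization.map_units Lq s
  -- `φ w₂` is a unit
  have hu2 : IsUnit (φ w₂) := by
    by_contra hcon
    have hmem : φ w₂ ∈ maximalIdeal Lq := (mem_maximalIdeal _).mpr hcon
    have := (maximalIdeal Lq).add_mem hw₂ hmem
    rw [sub_add_cancel] at this
    exact ((mem_maximalIdeal _).mp this) hu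
  have hw2u : IsUnit w₂ := isUnit_of_map_unit φ w₂ hu2
  obtain ⟨w₂', hw₂'⟩ := hw2u.exists_right_inv
  refine ⟨w₁ * w₂', ?_⟩
  -- multiply by the unit `algebraMap s * φ w₂`
  rw [← Ideal.unit_mul_mem_iff_mem _ (hu.mul hu2)]
  have e1 : algebraMap B' Lq s * IsLocalization.mk' Lq x s = algebraMap B' Lq x := by
    rw [mul_comm]; exact IsLocalization.mk'_spec Lq x s
  have e2 : φ w₂ * φ w₂' = 1 := by rw [← map_mul, hw₂', map_one]
  have : algebraMap B' Lq s * φ w₂ * (IsLocalization.mk' Lq x s - φ (w₁ * w₂')) =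
      φ w₂ * (algebraMap B' Lq x - φ w₁) - φ w₁ * (algebraMap B' Lq s - φ w₂) := by
    rw [map_mul]
    calc algebraMap B' Lq s * φ w₂ * (IsLocalization.mk' Lq x s - φ w₁ * φ w₂')
        = φ w₂ * (algebraMap B' Lq s * IsLocalization.mk' Lq x s)
            - algebraMap B' Lq s * φ w₁ * (φ w₂ * φ w₂') := by ring
      _ = φ w₂ * (algebraMap B' Lq x - φ w₁) - φ w₁ * (algebraMap B' Lq s - φ w₂) := by
          rw [e1, e2]; ring
  rw [this]
  exact (maximalIdeal Lq).sub_mem (Ideal.mul_mem_left _ _ hw₁) (Ideal.mul_mem_left _ _ hw₂)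

/-- (S(n)) -/
theorem exists_approx_step
    (H1 : ∀ x : B', ∃ y y₁ : B, y₁ ∉ Ideal.comap ι q' ∧ ι y₁ * x - ι y ∈ q')
    (H2 : ∀ x ∈ q', ∃ s, s ∉ q' ∧ s * x ∈ Ideal.map ι (Ideal.comap ι q'))
    (n : ℕ) (e : Lq) (he : e ∈ maximalIdeal Lq ^ n) :
    ∃ w : Lp, e - φ w ∈ maximalIdeal Lq ^ (n + 1) := by
  have hmap : maximalIdeal Lq ^ n = Ideal.map φ (maximalIdeal Lp ^ n) := by
    rw [Ideal.map_pow, map_maximalIdeal_eq ι q' H2]
  rw [hmap] at he
  have key : ∀ e ∈ Ideal.map φ (maximalIdeal Lp ^ n),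
      e ∈ maximalIdeal Lq ^ n ∧ ∃ w : Lp, e - φ w ∈ maximalIdeal Lq ^ (n + 1) := by
    intro e he
    refine Submodule.span_induction (p := fun e _ =>
      e ∈ maximalIdeal Lq ^ n ∧ ∃ w : Lp, e - φ w ∈ maximalIdeal Lq ^ (n + 1)) ?_ ?_ ?_ ?_ he
    · rintro _ ⟨a, ha, rfl⟩
      refine ⟨?_, a, by simp⟩
      rw [hmap]
      exact Ideal.mem_map_of_mem _ ha
    · exact ⟨Ideal.zero_mem _, 0, by simp⟩
    · rintro x y _ _ ⟨hx, wx, hwx⟩ ⟨hy, wy, hwy⟩
      refine ⟨Ideal.add_mem _ hx hy, wx + wy, ?_⟩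
      have : x + y - φ (wx + wy) = (x - φ wx) + (y - φ wy) := by rw [map_add]; ring
      rw [this]
      exact Ideal.add_mem _ hwx hwy
    · rintro r x _ ⟨hx, wx, hwx⟩
      obtain ⟨wr, hwr⟩ := exists_residue_all ι q' H1 r
      refine ⟨Ideal.mul_mem_left _ _ hx, wr * wx, ?_⟩
      have : r • x - φ (wr * wx) = (r - φ wr) * x + φ wr * (x - φ wx) := by
        rw [map_mul, smul_eq_mul]; ring
      rw [this]
      refine Ideal.add_mem _ ?_ (Ideal.mul_mem_left _ _ hwx)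
      rw [pow_succ']
      exact Ideal.mul_mem_mul hwr hx
  exact (key e he).2

/-- (T(n)) surjectivity modulo powers. -/
theorem exists_approx
    (H1 : ∀ x : B', ∃ y y₁ : B, y₁ ∉ Ideal.comap ι q' ∧ ι y₁ * x - ι y ∈ q')
    (H2 : ∀ x ∈ q', ∃ s, s ∉ q' ∧ s * x ∈ Ideal.map ι (Ideal.comap ι q'))
    (n : ℕ) (z : Lq) : ∃ w : Lp, z - φ w ∈ maximalIdeal Lq ^ n := by
  induction n with
  | zero => exact ⟨0, by simp⟩
  | succ n ih =>
    obtain ⟨w, hw⟩ := ih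
    obtain ⟨w', hw'⟩ := exists_approx_step ι q' H1 H2 n _ hw
    refine ⟨w + w', ?_⟩
    have : z - φ (w + w') = z - φ w - φ w' := by rw [map_add]; ring
    rw [this]
    exact hw'

theorem surjective_mod_pow
    (H1 : ∀ x : B', ∃ y y₁ : B, y₁ ∉ Ideal.comap ι q' ∧ ι y₁ * x - ι y ∈ q')
    (H2 : ∀ x ∈ q', ∃ s, s ∉ q' ∧ s * x ∈ Ideal.map ι (Ideal.comap ι q'))
    (n : ℕ) :
    Function.Surjective ((Ideal.Quotient.mk (maximalIdeal Lq ^ n)).comp φ) := by
  intro z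
  obtain ⟨z, rfl⟩ := Ideal.Quotient.mk_surjective z
  obtain ⟨w, hw⟩ := exists_approx ι q' H1 H2 n z
  refine ⟨w, ?_⟩
  rw [RingHom.comp_apply, eq_comm, Ideal.Quotient.eq]
  exact hw

theorem comap_pow_eq
    (H2 : ∀ x ∈ q', ∃ s, s ∉ q' ∧ s * x ∈ Ideal.map ι (Ideal.comap ι q'))
    (H3 : ∀ (n : ℕ) (b : B) (s : B'), s ∉ q' → s * ι b ∈ Ideal.map ι ((Ideal.comap ι q') ^ n) →
      ∃ u : B, u ∉ Ideal.comap ι q' ∧ u * b ∈ (Ideal.comap ι q') ^ n)
    (n : ℕ) :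
    Ideal.comap φ (maximalIdeal Lq ^ n) = maximalIdeal Lp ^ n := by
  apply le_antisymm
  · intro w hw
    rw [Ideal.mem_comap, maximalIdeal_pow_eq ι q' H2] at hw
    obtain ⟨b, d, rfl⟩ := IsLocalization.exists_mk'_eq (Ideal.comap ι q').primeCompl w
    rw [Localization.localRingHom_mk', IsLocalization.mk'_mem_map_algebraMap_iff] at hw
    obtain ⟨s, hs, hsb⟩ := hw
    obtain ⟨u, hu, hub⟩ := H3 n b s hs hsb
    rw [← Localization.AtPrime.map_eq_maximalIdeal (I := Ideal.comap ι q'), ← Ideal.map_pow,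
      IsLocalization.mk'_mem_map_algebraMap_iff]
    exact ⟨u, hu, hub⟩
  · rw [← Ideal.map_le_iff_le_comap, Ideal.map_pow, map_maximalIdeal_eq ι q' H2]

end Groth.Agent.Lib.Seat65.DecompE
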