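import Groth.Agent.Lib.Seat65DecompD
import Groth.Agent.Lib.Seat65DecompE

/-!
# Decomposition-group lemmas (for S6017), part F: assembly
-/

set_option autoImplicit false
universe u
open scoped Pointwise

namespace Groth.Agent.Lib.Seat65.DecompF

open Groth.Agent.Lib.Seat65.DecompA Groth.Agent.Lib.Seat65.DecompB Groth.Agent.Lib.Seat65.DecompC
  Groth.Agent.Lib.Seat65.DecompD Groth.Agent.Lib.Seat65.DecompE

variable {G R : Type u} [Group G] [Finite G] [CommRing R] [MulSemiringAction G R] (H : Subgroup G)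
  (q : Ideal R) [q.IsPrime] (hD : MulAction.stabilizer G q ≤ H)
  (hle : FixedPoints.subring R G ≤ FixedPoints.subring R H)

local notation "q'" => Ideal.comap (Subring.subtype (FixedPoints.subring R H)) q
local notation "ι" => Subring.inclusion hle

theorem mem_q'_iff (x : FixedPoints.subring R H) : x ∈ q' ↔ (x : R) ∈ q := Iff.rfl

theorem mem_p_iff (b : FixedPoints.subring R G) : b ∈ Ideal.comap ι q' ↔ (b : R) ∈ q := Iff.rfl

include hD

theorem H1 : ∀ x : FixedPoints.subring R H, ∃ y y₁ : FixedPoints.subring R G,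
    y₁ ∉ Ideal.comap ι q' ∧ ι y₁ * x - ι y ∈ q' := by
  intro x
  obtain ⟨y, y₁, hy₁, hxy⟩ := exists_residue H q hD x
  exact ⟨y, y₁, hy₁, hxy⟩

theorem H2 : ∀ x ∈ q', ∃ s, s ∉ q' ∧ s * x ∈ Ideal.map ι (Ideal.comap ι q') := by
  intro x hx
  obtain ⟨s, c₁, c₂, b₁, b₂, hs, hb₁, hb₂, he⟩ := exists_unram H q hD x hx
  refine ⟨s, hs, ?_⟩
  have e : s * x = c₁ * ι b₁ + c₂ * ι b₂ := Subtype.ext he
  rw [e]
  exact Ideal.add_mem _ (Ideal.mul_mem_left _ _ (Ideal.mem_map_of_mem _ hb₁))
    (Ideal.mul_mem_left _ _ (Ideal.mem_map_of_mem _ hb₂))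

theorem H3 : ∀ (n : ℕ) (b : FixedPoints.subring R G) (s : FixedPoints.subring R H), s ∉ q' →
    s * ι b ∈ Ideal.map ι ((Ideal.comap ι q') ^ n) →
      ∃ u : FixedPoints.subring R G, u ∉ Ideal.comap ι q' ∧ u * b ∈ (Ideal.comap ι q') ^ n := by
  intro n b s hs hsb
  refine exists_kernel H q hD ((Ideal.comap ι q') ^ n) b s hs
    (fun z => z ∈ Ideal.map ι ((Ideal.comap ι q') ^ n)) ?_ ?_
  · intro z hz
    refine Submodule.span_induction (p := fun z _ => ∀ w : FixedPoints.subring R H,
      tr H (w * z) ∈ (Ideal.comap ι q') ^ n) ?_ ?_ ?_ ?_ hz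
    · rintro _ ⟨a, ha, rfl⟩ w
      have e : tr H (w * ι a) = a * tr H w := by
        apply Subtype.ext
        have : w * ι a = ι a * w := mul_comm _ _
        rw [this, coe_tr_mul H (ι a) w a.2]
        rfl
      rw [e]
      exact Ideal.mul_mem_right _ _ ha
    · intro w
      rw [mul_zero, tr_zero]
      exact Ideal.zero_mem _
    · intro x y _ _ hx hy w
      rw [mul_add, tr_add]
      exact Ideal.add_mem _ (hx w) (hy w)
    · intro r x _ hx w
      rw [smul_eq_mul, ← mul_assoc]
      exact hx (w * r)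
  · intro z hz
    have : z = s * ι b := Subtype.ext hz
    rw [this]
    exact hsb

theorem main (n : ℕ) :
    Function.Surjective ((Ideal.Quotient.mk (IsLocalRing.maximalIdeal (Localization.AtPrime q') ^ n)).comp
        (Localization.localRingHom (Ideal.comap ι q') q' ι rfl)) ∧
      Ideal.comap (Localization.localRingHom (Ideal.comap ι q') q' ι rfl)
          (IsLocalRing.maximalIdeal (Localization.AtPrime q') ^ n) =
        IsLocalRing.maximalIdeal (Localization.AtPrime (Ideal.comap ι q')) ^ n :=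
  ⟨surjective_mod_pow ι q' (H1 H q hD hle) (H2 H q hD hle) n,
    comap_pow_eq ι q' (H2 H q hD hle) (H3 H q hD hle) n⟩

end Groth.Agent.Lib.Seat65.DecompF
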