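import Mathlib.Analysis.Convex.Combination
import Mathlib.LinearAlgebra.Dual.Lemmas

/-!
# Seat 65: Farkas' lemma over a linearly ordered field

Bartl's short algebraic proof of the Farkas lemma for finitely many linear functionals on an
arbitrary vector space over a linearly ordered field, and the resulting description of the convex
hull of a finite family of vectors by linear inequalities.
-/

set_option autoImplicit false
universe u v w

namespace Groth.Agent.Lib.Seat65.Farkas

variable {R : Type u} [Field R] [LinearOrder R] [IsStrictOrderedRing R]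

/-- Farkas' lemma: if a linear functional `g` is nonpositive wherever the finitely many linear
functionals `a i`, `i ∈ s`, are all nonpositive, then `g` is a nonnegative combination of them. -/
theorem farkas {V : Type v} [AddCommGroup V] [Module R V] {κ : Type w} [DecidableEq κ]
    (s : Finset κ) :
    ∀ (a : κ → V →ₗ[R] R) (g : V →ₗ[R] R),
      (∀ x, (∀ i ∈ s, a i x ≤ 0) → g x ≤ 0) →
      ∃ l : κ → R, (∀ i, 0 ≤ l i) ∧ g = ∑ i ∈ s, l i • a i := by
  induction s using Finset.induction_on with
  | empty =>
    intro a g h
    refine ⟨fun _ => 0, fun _ => le_rfl, ?_⟩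
    rw [Finset.sum_empty]
    ext x
    have h1 := h x (by simp)
    have h2 := h (-x) (by simp)
    rw [map_neg] at h2
    rw [LinearMap.zero_apply]
    linarith
  | insert k s hk ih =>
    intro a g h
    by_cases hA : ∀ x, (∀ i ∈ s, a i x ≤ 0) → g x ≤ 0
    · obtain ⟨l, hl, hg⟩ := ih a g hA
      refine ⟨fun i => if i = k then 0 else l i, fun i => ?_, ?_⟩
      · dsimp only
        split_ifs
        · exact le_rfl
        · exact hl i
      · rw [Finset.sum_insert hk]
        beta_reduce
        rw [if_pos rfl, zero_smul, zero_add, hg]
        refine Finset.sum_congr rfl fun i hi => ?_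
        rw [if_neg (fun (h : i = k) => hk (h ▸ hi))]
    · push Not at hA
      obtain ⟨x0, hx0, hgx0⟩ := hA
      have hk0 : 0 < a k x0 := by
        by_contra hle
        push Not at hle
        refine absurd (h x0 ?_) (not_le.mpr hgx0)
        intro i hi
        rcases Finset.mem_insert.mp hi with rfl | hi
        · exact hle
        · exact hx0 i hi
      set x1 : V := (a k x0)⁻¹ • x0 with hx1def
      have hx1k : a k x1 = 1 := by
        rw [hx1def, map_smul, smul_eq_mul, inv_mul_cancel₀ hk0.ne']
      have hx1 : ∀ i ∈ s, a i x1 ≤ 0 := by
        intro i hi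
        rw [hx1def, map_smul, smul_eq_mul]
        exact mul_nonpos_of_nonneg_of_nonpos (inv_nonneg.mpr hk0.le) (hx0 i hi)
      have hgx1 : 0 < g x1 := by
        rw [hx1def, map_smul, smul_eq_mul]
        exact mul_pos (inv_pos.mpr hk0) hgx0
      set a' : κ → V →ₗ[R] R := fun i => a i - (a i x1) • a k with ha'
      set g' : V →ₗ[R] R := g - (g x1) • a k with hg'
      have h' : ∀ x, (∀ i ∈ s, a' i x ≤ 0) → g' x ≤ 0 := by
        intro x hx
        have key := h (x - (a k x) • x1) ?_
        · simp only [hg', LinearMap.sub_apply, LinearMap.smul_apply, smul_eq_mul]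
          simp only [map_sub, map_smul, smul_eq_mul] at key
          linarith
        · intro i hi
          rcases Finset.mem_insert.mp hi with rfl | hi
          · simp only [map_sub, map_smul, smul_eq_mul, hx1k, mul_one, sub_self, le_refl]
          · have := hx i hi
            simp only [ha', LinearMap.sub_apply, LinearMap.smul_apply, smul_eq_mul] at this
            simp only [map_sub, map_smul, smul_eq_mul]
            linarith
      obtain ⟨l, hl, hgl⟩ := ih a' g' h'
      have hsum_nonpos : ∑ i ∈ s, l i * a i x1 ≤ 0 :=
        Finset.sum_nonpos fun i hi => mul_nonpos_of_nonneg_of_nonpos (hl i) (hx1 i hi)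
      refine ⟨fun i => if i = k then g x1 - ∑ i ∈ s, l i * a i x1 else l i, fun i => ?_, ?_⟩
      · dsimp only
        split_ifs
        · linarith
        · exact hl i
      · rw [Finset.sum_insert hk]
        beta_reduce
        rw [if_pos rfl]
        have hrest : ∑ i ∈ s, (if i = k then g x1 - ∑ i ∈ s, l i * a i x1 else l i) • a i =
            ∑ i ∈ s, l i • a i := by
          refine Finset.sum_congr rfl fun i hi => ?_
          rw [if_neg (fun (h : i = k) => hk (h ▸ hi))]
        rw [hrest]
        have hg2 : g = (∑ i ∈ s, l i • a' i) + (g x1) • a k := by rw [← hgl, hg']; abel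
        refine hg2.trans ?_
        ext x
        simp only [ha', LinearMap.add_apply, LinearMap.sum_apply, LinearMap.smul_apply,
          LinearMap.sub_apply, smul_eq_mul, mul_sub, Finset.sum_sub_distrib, sub_mul,
          Finset.sum_mul]
        have : ∑ i ∈ s, l i * (a i x1 * a k x) = ∑ i ∈ s, l i * a i x1 * a k x :=
          Finset.sum_congr rfl fun i _ => by ring
        rw [this]
        ring

/-- A vector lies in the convex hull of a finite family as soon as every linear functional takes
at it a value at least one of its values on the family. -/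
theorem mem_convexHull_range_of_forall_dual {N : Type v} [AddCommGroup N] [Module R N]
    {κ : Type w} [Fintype κ] (v : κ → N) (x : N)
    (h : ∀ f : N →ₗ[R] R, ∃ c, f (v c) ≤ f x) : x ∈ convexHull R (Set.range v) := by
  classical
  let W := Module.Dual R N × R
  let ev : N → (W →ₗ[R] R) := fun y =>
    LinearMap.snd R (Module.Dual R N) R -
      (Module.Dual.eval R N y).comp (LinearMap.fst R (Module.Dual R N) R)
  have hev : ∀ (y : N) (f : Module.Dual R N) (t : R), ev y (f, t) = t - f y := by
    intro y f t
    simp only [ev, LinearMap.sub_apply, LinearMap.comp_apply, Module.Dual.eval_apply]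
    rfl
  obtain ⟨l, hl, hg⟩ := farkas (R := R) (V := W) (Finset.univ : Finset κ) (fun c => ev (v c)) (ev x)
    (by
      rintro ⟨f, t⟩ hft
      obtain ⟨c, hc⟩ := h f
      have := hft c (Finset.mem_univ c)
      rw [hev] at this ⊢
      linarith)
  have h1 : ∑ c, l c = 1 := by
    have := congrArg (fun φ : W →ₗ[R] R => φ (0, 1)) hg
    simp only [LinearMap.sum_apply, LinearMap.smul_apply, hev, LinearMap.zero_apply, sub_zero,
      smul_eq_mul, mul_one] at this
    exact this.symm
  have h2 : ∑ c, l c • v c = x := by
    have hz : x - ∑ c, l c • v c = 0 := by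
      rw [← Module.forall_dual_apply_eq_zero_iff R]
      intro f
      have := congrArg (fun φ : W →ₗ[R] R => φ (f, 0)) hg
      simp only [LinearMap.sum_apply, LinearMap.smul_apply, hev, zero_sub, smul_eq_mul,
        mul_neg, Finset.sum_neg_distrib, neg_inj] at this
      rw [map_sub, map_sum, this, sub_eq_zero]
      refine Finset.sum_congr rfl fun c _ => ?_
      rw [map_smul, smul_eq_mul]
    exact (sub_eq_zero.mp hz).symm
  exact mem_convexHull_of_exists_fintype l v hl h1 (fun c => Set.mem_range_self c) h2

end Groth.Agent.Lib.Seat65.Farkas
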