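import Mathlib

/-!
Sesquilinear forms attached to matrices over a commutative ring with an involution `lam`:
`sq lam h x y = (lam x)ᵀ h y`, the operation `st lam v = (lam v)ᵀ`, congruence `st v * h * v`.
-/

set_option autoImplicit false

namespace Groth.Agent.Lib.Seat65.HermA

open Matrix

variable {A : Type*} [CommRing A] (lam : A ≃+* A) {ι : Type*} [Fintype ι] [DecidableEq ι]

/-- `(lam v)ᵀ`. -/
def st (v : Matrix ι ι A) : Matrix ι ι A := (v.map lam).transpose

theorem st_apply (v : Matrix ι ι A) (j k : ι) : st lam v j k = lam (v k j) := rfl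

theorem st_mul (v w : Matrix ι ι A) : st lam (v * w) = st lam w * st lam v := by
  ext j k
  simp only [st_apply, Matrix.mul_apply, map_sum, map_mul]
  exact Finset.sum_congr rfl fun l _ => mul_comm _ _

theorem st_one : st lam (1 : Matrix ι ι A) = 1 := by
  ext j k
  rw [st_apply, Matrix.one_apply, Matrix.one_apply]
  by_cases hjk : j = k
  · subst hjk; simp
  · have : ¬ k = j := fun h => hjk h.symm
    simp [hjk, this]

theorem st_st (hlam : Function.Involutive lam) (v : Matrix ι ι A) : st lam (st lam v) = v := by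
  ext j k
  simp only [st_apply]
  exact hlam _

theorem st_smul (c : A) (v : Matrix ι ι A) : st lam (c • v) = lam c • st lam v := by
  ext j k
  simp [st_apply]

theorem isUnit_st {v : Matrix ι ι A} (hv : IsUnit v) : IsUnit (st lam v) := by
  obtain ⟨w, h1, h2⟩ := isUnit_iff_exists.mp hv
  refine isUnit_iff_exists.mpr ⟨st lam w, ?_, ?_⟩
  · rw [← st_mul, h2, st_one]
  · rw [← st_mul, h1, st_one]

/-- The sesquilinear form `(lam x)ᵀ h y`. -/
def sq (h : Matrix ι ι A) (x y : ι → A) : A := (fun j => lam (x j)) ⬝ᵥ (h *ᵥ y)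

theorem sq_eq_sum (h : Matrix ι ι A) (x y : ι → A) :
    sq lam h x y = ∑ j, ∑ k, lam (x j) * h j k * y k := by
  simp only [sq, dotProduct, Matrix.mulVec, Finset.mul_sum, mul_assoc]

theorem sq_add_left (h : Matrix ι ι A) (x x' y : ι → A) :
    sq lam h (x + x') y = sq lam h x y + sq lam h x' y := by
  simp only [sq, Pi.add_apply, map_add]
  rw [← add_dotProduct]
  rfl

theorem sq_add_right (h : Matrix ι ι A) (x y y' : ι → A) :
    sq lam h x (y + y') = sq lam h x y + sq lam h x y' := by
  simp only [sq, Matrix.mulVec_add, dotProduct_add]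

theorem sq_smul_left (h : Matrix ι ι A) (c : A) (x y : ι → A) :
    sq lam h (c • x) y = lam c * sq lam h x y := by
  simp only [sq, Pi.smul_apply, smul_eq_mul, map_mul]
  rw [← smul_eq_mul, ← smul_dotProduct]
  rfl

theorem sq_smul_right (h : Matrix ι ι A) (c : A) (x y : ι → A) :
    sq lam h x (c • y) = c * sq lam h x y := by
  simp only [sq, Matrix.mulVec_smul, dotProduct_smul, smul_eq_mul]

theorem sq_zero_left (h : Matrix ι ι A) (y : ι → A) : sq lam h 0 y = 0 := by
  simp [sq]

theorem sq_zero_right (h : Matrix ι ι A) (x : ι → A) : sq lam h x 0 = 0 := by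
  simp [sq]

theorem sq_neg_right (h : Matrix ι ι A) (x y : ι → A) : sq lam h x (-y) = -sq lam h x y := by
  simp [sq, Matrix.mulVec_neg]

theorem sq_sub_right (h : Matrix ι ι A) (x y y' : ι → A) :
    sq lam h x (y - y') = sq lam h x y - sq lam h x y' := by
  rw [sub_eq_add_neg, sq_add_right, sq_neg_right, ← sub_eq_add_neg]

theorem sq_single_left (h : Matrix ι ι A) (j : ι) (y : ι → A) :
    sq lam h (Pi.single j 1) y = (h *ᵥ y) j := by
  have : (fun k => lam ((Pi.single j (1 : A) : ι → A) k)) = Pi.single j 1 := by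
    funext k
    by_cases hk : k = j
    · subst hk; simp
    · simp [Pi.single_eq_of_ne hk]
  rw [sq, this, single_one_dotProduct]

theorem sq_single_single (h : Matrix ι ι A) (j k : ι) :
    sq lam h (Pi.single j 1) (Pi.single k 1) = h j k := by
  rw [sq_single_left, Matrix.mulVec_single_one]
  rfl

theorem map_mulVec (v : Matrix ι ι A) (x : ι → A) :
    (v.map lam) *ᵥ (fun j => lam (x j)) = fun j => lam ((v *ᵥ x) j) := by
  funext j
  simp [Matrix.mulVec, dotProduct, map_sum, map_mul]

theorem sq_congr (h v : Matrix ι ι A) (x y : ι → A) :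
    sq lam (st lam v * h * v) x y = sq lam h (v *ᵥ x) (v *ᵥ y) := by
  simp only [sq, st]
  rw [← Matrix.mulVec_mulVec, ← Matrix.mulVec_mulVec, Matrix.dotProduct_mulVec,
    Matrix.vecMul_transpose, map_mulVec]

/-- `h` is `ε`-hermitian. -/
def Herm (ε : A) (h : Matrix ι ι A) : Prop := ε • (h.map lam).transpose = h

variable {lam} in
theorem Herm.apply {ε : A} {h : Matrix ι ι A} (hh : Herm lam ε h) (j k : ι) :
    h j k = ε * lam (h k j) := by
  have := congrFun (congrFun hh j) k
  simpa using this.symm

variable {lam} in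
theorem Herm.congr {ε : A} (hlam : Function.Involutive lam)
    {h : Matrix ι ι A} (hh : Herm lam ε h) (v : Matrix ι ι A) :
    Herm lam ε (st lam v * h * v) := by
  have h1 : ((st lam v * h * v).map lam).transpose = st lam v * st lam h * v := by
    change st lam (st lam v * h * v) = _
    rw [st_mul, st_mul, st_st lam hlam, Matrix.mul_assoc]
  have h2 : st lam v * h * v = st lam v * (ε • st lam h) * v := by
    congr 2
    exact hh.symm
  unfold Herm
  rw [h1, h2, Matrix.mul_smul, Matrix.smul_mul]

variable {lam} in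
theorem sq_symm {ε : A} (hlam : Function.Involutive lam)
    {h : Matrix ι ι A} (hh : Herm lam ε h) (x y : ι → A) :
    sq lam h y x = ε * lam (sq lam h x y) := by
  rw [sq_eq_sum, sq_eq_sum, map_sum, Finset.mul_sum, Finset.sum_comm]
  refine Finset.sum_congr rfl fun j _ => ?_
  rw [map_sum, Finset.mul_sum]
  refine Finset.sum_congr rfl fun k _ => ?_
  rw [map_mul, map_mul, hlam, hh.apply k j]
  ring

theorem sq_polar (h : Matrix ι ι A) (x y : ι → A) :
    sq lam h (x + y) (x + y) = sq lam h x x + sq lam h y y + sq lam h x y + sq lam h y x := by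
  rw [sq_add_left, sq_add_right, sq_add_right]
  ring

end Groth.Agent.Lib.Seat65.HermA
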