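import Groth.Agent.Lib.Seat65HermC

/-!
Diagonalisation of invertible `ε`-hermitian matrices having a vector of unit norm, by induction
on the size; alternating matrices of odd size are singular.
-/

set_option autoImplicit false

namespace Groth.Agent.Lib.Seat65.HermD

open Matrix Groth.Agent.Lib.Seat65.HermA Groth.Agent.Lib.Seat65.HermB
  Groth.Agent.Lib.Seat65.HermC Groth.Agent.Lib.Helper15.QuadEtale

universe u v

section blocks

variable {A : Type*} [CommRing A] (lam : A ≃+* A)

/-- The index type as the complement of `i` plus a point. -/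
def eqv {ι : Type*} [DecidableEq ι] (i : ι) : {j : ι // j ≠ i} ⊕ Unit ≃ ι where
  toFun := Sum.elim Subtype.val (fun _ => i)
  invFun j := if h : j = i then Sum.inr () else Sum.inl ⟨j, h⟩
  left_inv := by
    rintro (⟨j, hj⟩ | ⟨⟩)
    · simp [hj]
    · simp
  right_inv := by
    intro j
    by_cases h : j = i
    · simp [h]
    · simp [h]

theorem sq_submatrix {ι κ : Type*} [Fintype ι] [Fintype κ]
    (M : Matrix ι ι A) (e : κ ≃ ι) (x y : ι → A) :
    sq lam (M.submatrix e e) (x ∘ e) (y ∘ e) = sq lam M x y := by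
  unfold HermA.sq
  rw [Matrix.submatrix_mulVec_equiv]
  have h1 : (y ∘ ⇑e) ∘ ⇑e.symm = y := by
    funext j; simp
  rw [h1]
  exact comp_equiv_dotProduct_comp_equiv (fun j => lam (x j)) (M *ᵥ y) e

theorem sq_fromBlocks {κ : Type*} [Fintype κ] (M' : Matrix κ κ A) (D : Matrix Unit Unit A)
    (y' : κ → A) :
    sq lam (fromBlocks M' 0 0 D) (Sum.elim y' 0) (Sum.elim y' 0) = sq lam M' y' y' := by
  unfold HermA.sq
  rw [fromBlocks_mulVec]
  have h1 : (fun j : κ ⊕ Unit => lam ((Sum.elim y' (0 : Unit → A)) j)) =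
      Sum.elim (fun j => lam (y' j)) 0 := by
    funext j
    rcases j with j | j <;> simp
  rw [h1, sumElim_dotProduct_sumElim]
  simp

end blocks

variable {B : Type u} {A : Type v} [CommRing B] [CommRing A] [Algebra B A]
  (lam : A ≃+* A) (hlam : Function.Involutive lam) (hB : RInv.IsFixedRing B A lam)
  [IsLocalRing B]

/-- The block step of the diagonalisation. -/
theorem diag_step {ι : Type} [Fintype ι] [DecidableEq ι] {ε : A} {M : Matrix ι ι A}
    (hM : Herm lam ε M) (hMu : IsUnit M) (i : ι)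
    (hsplit : ∀ k, k ≠ i → M i k = 0 ∧ M k i = 0)
    (IH : ∀ M' : Matrix {j : ι // j ≠ i} {j : ι // j ≠ i} A, IsUnit M' → Herm lam ε M' →
      (IsEmpty {j : ι // j ≠ i} ∨ Good lam M') →
      ∃ w' : Matrix {j : ι // j ≠ i} {j : ι // j ≠ i} A, IsUnit w' ∧
        ∃ d' : {j : ι // j ≠ i} → A, st lam w' * M' * w' = diagonal d')
    (hgood : (∃ y : ι → A, y i = 0 ∧ IsUnit (sq lam M y y)) ∨ ∀ k : ι, k = i) :
    ∃ w : Matrix ι ι A, IsUnit w ∧ ∃ d : ι → A, st lam w * M * w = diagonal d := by
  obtain ⟨e, he⟩ : ∃ e : {j : ι // j ≠ i} ⊕ Unit ≃ ι, e = eqv i := ⟨_, rfl⟩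
  have hel : ∀ j : {j : ι // j ≠ i}, e (Sum.inl j) = j.1 := by
    intro j; rw [he]; rfl
  have her : ∀ t : Unit, e (Sum.inr t) = i := by
    intro t; rw [he]; rfl
  obtain ⟨M', hM'⟩ : ∃ M' : Matrix {j : ι // j ≠ i} {j : ι // j ≠ i} A,
      M' = M.submatrix Subtype.val Subtype.val := ⟨_, rfl⟩
  obtain ⟨N, hN⟩ : ∃ N : Matrix ({j : ι // j ≠ i} ⊕ Unit) ({j : ι // j ≠ i} ⊕ Unit) A,
      N = M.submatrix e e := ⟨_, rfl⟩
  have hNb : N = fromBlocks M' 0 0 (diagonal fun _ => M i i) := by
    ext (j | j) (k | k)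
    · simp [hN, hM', hel]
    · simp [hN, hel, her, (hsplit j.1 j.2).2]
    · simp [hN, hel, her, (hsplit k.1 k.2).1]
    · simp [hN, her]
  have hM'u : IsUnit M' := by
    rw [Matrix.isUnit_iff_isUnit_det] at hMu ⊢
    have h1 : N.det = M.det := by rw [hN]; exact Matrix.det_submatrix_equiv_self e M
    rw [hNb, Matrix.det_fromBlocks_zero₂₁] at h1
    rw [← h1] at hMu
    exact isUnit_of_mul_isUnit_left hMu
  have hM'h : Herm lam ε M' := by
    unfold Herm
    ext j k
    have := hM.apply j.1 k.1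
    simp only [hM', Matrix.smul_apply, Matrix.transpose_apply, Matrix.map_apply,
      Matrix.submatrix_apply, smul_eq_mul]
    exact this.symm
  have hM'g : IsEmpty {j : ι // j ≠ i} ∨ Good lam M' := by
    rcases hgood with ⟨y, hyi, hyu⟩ | hall
    · right
      refine ⟨fun j => y j.1, ?_⟩
      have h1 : y ∘ e = Sum.elim (fun j : {j : ι // j ≠ i} => y j.1) 0 := by
        funext j
        rcases j with j | j
        · simp [hel]
        · simp [her, hyi]
      have h2 := sq_submatrix lam M e y y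
      rw [← hN, hNb, h1, sq_fromBlocks] at h2
      rw [h2]; exact hyu
    · left
      exact ⟨fun j => j.2 (hall j.1)⟩
  obtain ⟨w', hw'u, d', hw'⟩ := IH M' hM'u hM'h hM'g
  obtain ⟨W, hW⟩ : ∃ W : Matrix ({j : ι // j ≠ i} ⊕ Unit) ({j : ι // j ≠ i} ⊕ Unit) A,
      W = fromBlocks w' 0 0 1 := ⟨_, rfl⟩
  have hstW : st lam W = fromBlocks (st lam w') 0 0 1 := by
    rw [hW]
    unfold st
    rw [fromBlocks_map, fromBlocks_transpose]
    congr 1
    · ext j k; simp
    · ext j k; simp
    · ext j k
      simp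
  have hWN : st lam W * N * W = diagonal (Sum.elim d' fun _ => M i i) := by
    rw [hstW, hNb, hW, fromBlocks_multiply, fromBlocks_multiply, ← fromBlocks_diagonal]
    simp only [Matrix.mul_zero, Matrix.zero_mul, add_zero, zero_add, Matrix.one_mul,
      Matrix.mul_one, hw']
  have hWu : IsUnit W := by
    rw [Matrix.isUnit_iff_isUnit_det] at hw'u ⊢
    rw [hW, Matrix.det_fromBlocks_zero₂₁, Matrix.det_one, mul_one]
    exact hw'u
  refine ⟨W.submatrix e.symm e.symm, ?_, (Sum.elim d' fun _ => M i i) ∘ e.symm, ?_⟩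
  · rw [Matrix.isUnit_iff_isUnit_det, Matrix.det_submatrix_equiv_self]
    exact (Matrix.isUnit_iff_isUnit_det _).mp hWu
  · have hMN : M = N.submatrix e.symm e.symm := by
      rw [hN]; ext j k; simp
    have hst : st lam (W.submatrix e.symm e.symm) = (st lam W).submatrix e.symm e.symm := rfl
    rw [hst]
    conv_lhs => rw [hMN]
    rw [Matrix.submatrix_mul_equiv, Matrix.submatrix_mul_equiv, hWN,
      Matrix.submatrix_diagonal_equiv]

include hlam hB in
/-- An invertible `ε`-hermitian matrix having a vector of unit norm is congruent to a diagonal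
matrix. -/
theorem diagonalizable {ε : A} (hε : ε = 1 ∨ ε = -1) :
    ∀ (n : ℕ) (ι : Type) [Fintype ι] [DecidableEq ι], Fintype.card ι = n →
      ∀ h : Matrix ι ι A, IsUnit h → Herm lam ε h → (IsEmpty ι ∨ Good lam h) →
      ∃ v : Matrix ι ι A, IsUnit v ∧ ∃ d : ι → A, st lam v * h * v = diagonal d := by
  intro n
  induction n with
  | zero =>
    intro ι _ _ hcard h _ _ _
    have : IsEmpty ι := Fintype.card_eq_zero_iff.mp hcard
    exact ⟨1, isUnit_one, fun _ => 0, Subsingleton.elim _ _⟩
  | succ n ih =>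
    intro ι _ _ hcard h hu hh hg
    have hne : Nonempty ι := by
      rw [← Fintype.card_pos_iff, hcard]; exact Nat.succ_pos n
    have hg' : Good lam h := hg.resolve_left (fun he => he.false hne.some)
    obtain ⟨i, v₁, hv₁u, hsplit, -, hgood⟩ := exists_good_split lam hlam hB hε hh hu hg'
    have hM₁h : Herm lam ε (st lam v₁ * h * v₁) := hh.congr hlam v₁
    have hM₁u : IsUnit (st lam v₁ * h * v₁) := ((isUnit_st lam hv₁u).mul hu).mul hv₁u
    have hcard' : Fintype.card {j : ι // j ≠ i} = n := by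
      have h1 := Fintype.card_congr (eqv i)
      rw [Fintype.card_sum, Fintype.card_unit, hcard] at h1
      omega
    obtain ⟨w, hwu, d, hw⟩ := diag_step lam hM₁h hM₁u i hsplit
      (fun M' hM'u hM'h hM'g => ih {j : ι // j ≠ i} hcard' M' hM'u hM'h hM'g) hgood
    refine ⟨v₁ * w, hv₁u.mul hwu, d, ?_⟩
    rw [st_mul, ← hw]
    simp only [Matrix.mul_assoc]

/-- An alternating matrix of odd size is singular. -/
theorem det_eq_zero_of_alt {R : Type*} [CommRing R] {n : ℕ} (hn : Odd n)
    (H : Matrix (Fin n) (Fin n) R) (hT : H.transpose = -H) (hd : ∀ j, H j j = 0) :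
    H.det = 0 := by
  let G : Matrix (Fin n) (Fin n) (MvPolynomial (Fin n × Fin n) ℤ) :=
    Matrix.of fun j k => if j < k then MvPolynomial.X (j, k) else
      if k < j then -MvPolynomial.X (k, j) else 0
  have hGT : G.transpose = -G := by
    ext j k
    simp only [G, Matrix.transpose_apply, Matrix.of_apply, Matrix.neg_apply]
    rcases lt_trichotomy j k with hjk | hjk | hjk
    · have : ¬ k < j := not_lt.mpr hjk.le
      simp [hjk, this]
    · subst hjk; simp
    · have : ¬ j < k := not_lt.mpr hjk.le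
      simp [hjk, this]
  have hG : G.det = 0 := by
    have h1 : G.det = -G.det := by
      conv_lhs => rw [← Matrix.det_transpose, hGT, Matrix.det_neg, Fintype.card_fin,
        hn.neg_one_pow]
      ring
    have h2 : (2 : MvPolynomial (Fin n × Fin n) ℤ) * G.det = 0 := by
      have : (2 : MvPolynomial (Fin n × Fin n) ℤ) * G.det = G.det + G.det := by ring
      rw [this]
      nth_rewrite 1 [h1]
      ring
    rcases mul_eq_zero.mp h2 with h3 | h3
    · exact absurd h3 two_ne_zero
    · exact h3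
  let φ : MvPolynomial (Fin n × Fin n) ℤ →+* R :=
    MvPolynomial.eval₂Hom (Int.castRingHom R) fun p => H p.1 p.2
  have hφ : φ.mapMatrix G = H := by
    ext j k
    have hkj : H k j = -H j k := by
      have := congrFun (congrFun hT j) k
      simpa using this
    simp only [G, RingHom.mapMatrix_apply, Matrix.map_apply, Matrix.of_apply]
    rcases lt_trichotomy j k with hjk | hjk | hjk
    · simp [hjk, φ]
    · subst hjk
      simp [hd]
    · have : ¬ j < k := not_lt.mpr hjk.le
      simp [hjk, this, φ, hkj]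
  rw [← hφ, ← RingHom.map_det, hG, map_zero]

end Groth.Agent.Lib.Seat65.HermD
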