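import Mathlib.RingTheory.Invariant.Profinite
import Mathlib.RingTheory.Ideal.Over

/-!
# Ind-etale inertia invariants (for S9494), part A: lifting inertia elements from a quotient by a
closed normal subgroup (profinite group acting continuously on a discrete ring)
-/

set_option autoImplicit false
universe u v
open scoped Pointwise

namespace Groth.Agent.Lib.Seat65.IndInA

variable {B : Type v} [CommRing B]
variable {G : Type u} [Group G] [MulSemiringAction G B]
variable [TopologicalSpace G] [CompactSpace G] [TotallyDisconnectedSpace G] [IsTopologicalGroup G]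
  [TopologicalSpace B] [DiscreteTopology B] [ContinuousSMul G B]

omit [TopologicalSpace G] [CompactSpace G] [TotallyDisconnectedSpace G] [IsTopologicalGroup G]
  [TopologicalSpace B] [DiscreteTopology B] [ContinuousSMul G B] in
theorem isInvariant_fixedPoints (N : Subgroup G) :
    Algebra.IsInvariant (FixedPoints.subring B N) B N :=
  ⟨fun b hb => ⟨⟨b, hb⟩, rfl⟩⟩

omit [TopologicalSpace G] [CompactSpace G] [TotallyDisconnectedSpace G] [IsTopologicalGroup G]
  [TopologicalSpace B] [DiscreteTopology B] [ContinuousSMul G B] in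
theorem smul_mem_fixedPoints (N : Subgroup G) [N.Normal] (σ : G) {b : B}
    (hb : b ∈ FixedPoints.subring B N) : σ • b ∈ FixedPoints.subring B N := by
  rintro ⟨n, hn⟩
  have h := hb ⟨σ⁻¹ * n * σ, by
    have := ‹N.Normal›.conj_mem n hn σ⁻¹
    simpa using this⟩
  have h' : (σ⁻¹ * n * σ) • b = b := h
  show n • (σ • b) = σ • b
  calc n • (σ • b) = σ • ((σ⁻¹ * n * σ) • b) := by
        rw [smul_smul, smul_smul]; congr 1; group
    _ = σ • b := by rw [h']

/-- If `σ` acts trivially modulo `q` on the `N`-invariants (`N` a closed normal subgroup), then some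
translate `ν * σ`, `ν ∈ N`, lies in the inertia group of `q`. -/
theorem exists_mul_mem_inertia (q : Ideal B) [q.IsPrime] (N : Subgroup G) [N.Normal]
    (hN : IsClosed (N : Set G)) (σ : G)
    (hσ : ∀ b ∈ FixedPoints.subring B N, σ • b - b ∈ q) :
    ∃ ν ∈ N, ν * σ ∈ q.inertia G := by
  haveI : CompactSpace N := isCompact_iff_compactSpace.mp hN.isCompact
  haveI : Algebra.IsInvariant (FixedPoints.subring B N) B N := isInvariant_fixedPoints N
  -- Step 1: `σ • q` and `q` have the same contraction to the `N`-invariants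
  haveI hprime : (σ • q).IsPrime := by
    rw [Ideal.pointwise_smul_def]
    exact Ideal.map_isPrime_of_equiv (MulSemiringAction.toRingEquiv G B σ)
  have hunder : q.under (FixedPoints.subring B N) = (σ • q).under (FixedPoints.subring B N) := by
    ext b
    simp only [Ideal.under_def, Ideal.mem_comap]
    show (b : B) ∈ q ↔ (b : B) ∈ σ • q
    rw [Ideal.mem_pointwise_smul_iff_inv_smul_mem]
    have h1 : σ⁻¹ • (b : B) ∈ FixedPoints.subring B N := smul_mem_fixedPoints N σ⁻¹ b.2
    have h2 := hσ _ h1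
    rw [smul_inv_smul] at h2
    constructor
    · intro hb
      have := q.sub_mem hb h2
      simpa using this
    · intro hb
      have := q.add_mem h2 hb
      simpa using this
  obtain ⟨ν, hν⟩ := Algebra.IsInvariant.exists_smul_of_under_eq_of_profinite
    (A := FixedPoints.subring B N) (G := N) q (σ • q) hunder
  -- `τ = ν⁻¹ σ` stabilises `q`
  have hνq : (ν : G) • q = σ • q := hν.symm
  set τ : G := (ν : G)⁻¹ * σ with hτ
  have hτq : τ • q = q := by
    rw [hτ, mul_smul, ← hνq, inv_smul_smul]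
  have hτS : ∀ b ∈ FixedPoints.subring B N, τ • b - b ∈ q := by
    intro b hb
    have h1 : σ • b ∈ FixedPoints.subring B N := smul_mem_fixedPoints N σ hb
    have h2 : (ν : G)⁻¹ • (σ • b) = σ • b := h1 (ν⁻¹)
    rw [hτ, mul_smul, h2]
    exact hσ b hb
  -- Step 3: the automorphism of `B ⧸ q` induced by `τ`, linear over the invariants
  let α₀ : (B ⧸ q) ≃+* (B ⧸ q) := Ideal.quotientEquiv q q (MulSemiringAction.toRingEquiv G B τ) (by
    conv_lhs => rw [← hτq]
    rfl)
  have hα₀ : ∀ b : B, α₀ (Ideal.Quotient.mk q b) = Ideal.Quotient.mk q (τ • b) := fun b => rfl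
  let α : (B ⧸ q) ≃ₐ[FixedPoints.subring B N ⧸ q.under (FixedPoints.subring B N)] (B ⧸ q) :=
    AlgEquiv.ofRingEquiv (f := α₀) (by
      intro x
      obtain ⟨s, rfl⟩ := Ideal.Quotient.mk_surjective x
      show α₀ (Ideal.Quotient.mk q (s : B)) = Ideal.Quotient.mk q (s : B)
      rw [hα₀]
      exact Ideal.Quotient.eq.mpr (hτS _ s.2))
  obtain ⟨ν', hν'⟩ := Ideal.Quotient.stabilizerHom_surjective_of_profinite (G := N)
    (q.under (FixedPoints.subring B N)) q α
  have hgq : ((ν'.1 : N) : G) • q = q := ν'.2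
  have hgN : ((ν'.1 : N) : G) ∈ N := ν'.1.2
  have hg1 : ∀ b : B, Ideal.Quotient.mk q (((ν'.1 : N) : G) • b) = Ideal.Quotient.mk q (τ • b) :=
    fun b => congrArg (fun f => f (Ideal.Quotient.mk q b)) hν'
  generalize ((ν'.1 : N) : G) = g at hgq hgN hg1
  refine ⟨g⁻¹ * (ν : G)⁻¹, N.mul_mem (N.inv_mem hgN) (N.inv_mem ν.2), ?_⟩
  intro b
  have h2 : g • b - τ • b ∈ q := Ideal.Quotient.eq.mp (hg1 b)
  have hst : g⁻¹ • q = q := inv_smul_eq_iff.mpr hgq.symm
  have h3 : g⁻¹ • (g • b - τ • b) ∈ q := by
    have := Ideal.smul_mem_pointwise_smul g⁻¹ _ q h2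
    rwa [hst] at this
  rw [smul_sub, inv_smul_smul] at h3
  have h5 : (g⁻¹ * (ν : G)⁻¹ * σ) • b = g⁻¹ • τ • b := by
    rw [hτ, smul_smul, mul_assoc]
  rw [h5]
  have := q.neg_mem h3
  rwa [neg_sub] at this

end Groth.Agent.Lib.Seat65.IndInA
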