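import Mathlib.FieldTheory.Fixed
import Mathlib.FieldTheory.PrimitiveElement
import Mathlib.RingTheory.Localization.FractionRing

/-!
# Inertia invariants (for S0271), part C: a finite group acting on a domain has an element whose
stabilizer is the kernel of the action
-/

set_option autoImplicit false
universe u v
open scoped IntermediateField

namespace Groth.Agent.Lib.Seat65.InertiaC

/-- A finite group acting on a field has an element whose stabilizer acts trivially
(primitive element theorem over the fixed field). -/
theorem exists_faithful_elt_field (Γ : Type u) (L : Type v) [Group Γ] [Finite Γ] [Field L]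
    [MulSemiringAction Γ L] :
    ∃ α : L, ∀ γ : Γ, γ • α = α → ∀ x : L, γ • x = x := by
  obtain ⟨α, hα⟩ := Field.exists_primitive_element (FixedPoints.subfield Γ L) L
  refine ⟨α, fun γ hγ x => ?_⟩
  have h1 : (FixedPoints.subfield Γ L)⟮α⟯ ≤ FixedBy.intermediateField (FixedPoints.subfield Γ L) L γ := by
    rw [IntermediateField.adjoin_simple_le_iff]
    exact hγ
  have h2 : x ∈ FixedBy.intermediateField (FixedPoints.subfield Γ L) L γ := by
    apply h1
    rw [hα]
    exact IntermediateField.mem_top
  exact h2

/-- A finite group acting on a domain has an element whose stabilizer acts trivially. -/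
theorem exists_faithful_elt (Γ : Type u) (A : Type v) [Group Γ] [Finite Γ] [CommRing A] [IsDomain A]
    [MulSemiringAction Γ A] :
    ∃ y : A, ∀ γ : Γ, γ • y = y → ∀ a : A, γ • a = a := by
  classical
  letI : Fintype Γ := Fintype.ofFinite Γ
  letI : MulSemiringAction Γ (FractionRing A) := IsFractionRing.mulSemiringAction Γ A (FractionRing A)
  haveI : SMulDistribClass Γ A (FractionRing A) := IsFractionRing.smulDistribClass Γ A (FractionRing A)
  have hsm : ∀ (γ : Γ) (a : A), γ • algebraMap A (FractionRing A) a =
      algebraMap A (FractionRing A) (γ • a) := fun γ a => (algebraMap.coe_smul' γ a _).symm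
  have hinj : Function.Injective (algebraMap A (FractionRing A)) := IsFractionRing.injective _ _
  obtain ⟨α, hα⟩ := exists_faithful_elt_field Γ (FractionRing A)
  obtain ⟨a, b, hb, rfl⟩ := IsFractionRing.div_surjective (A := A) α
  have hb0 : b ≠ 0 := nonZeroDivisors.ne_zero hb
  -- the invariant denominator
  set N : A := ∏ γ : Γ, γ • b with hN
  have hN0 : N ≠ 0 := by
    rw [hN, Finset.prod_ne_zero_iff]
    intro γ _ h
    apply hb0
    have := congrArg (fun z => γ⁻¹ • z) h
    simpa using this
  have hNinv : ∀ γ : Γ, γ • N = N := by
    intro γ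
    rw [hN, Finset.smul_prod']
    simp only [smul_smul]
    exact Fintype.prod_equiv (Equiv.mulLeft γ) _ _ (fun _ => rfl)
  have hNb : N = b * ∏ γ ∈ Finset.univ.erase (1 : Γ), γ • b := by
    rw [hN, ← Finset.mul_prod_erase _ _ (Finset.mem_univ (1 : Γ)), one_smul]
  refine ⟨a * ∏ γ ∈ Finset.univ.erase (1 : Γ), γ • b, fun γ hγ c => ?_⟩
  have key : algebraMap A (FractionRing A) (a * ∏ γ ∈ Finset.univ.erase (1 : Γ), γ • b) =
      algebraMap A (FractionRing A) N *
        (algebraMap A (FractionRing A) a / algebraMap A (FractionRing A) b) := by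
    have hb' : algebraMap A (FractionRing A) b ≠ 0 := fun h => hb0 (hinj (h.trans (map_zero _).symm))
    rw [hNb, map_mul, map_mul]
    field_simp
  have hfix : γ • (algebraMap A (FractionRing A) a / algebraMap A (FractionRing A) b) =
      algebraMap A (FractionRing A) a / algebraMap A (FractionRing A) b := by
    have h1 := congrArg (algebraMap A (FractionRing A)) hγ
    rw [← hsm, key, smul_mul', hsm, hNinv] at h1
    have hN' : algebraMap A (FractionRing A) N ≠ 0 := fun h => hN0 (hinj (h.trans (map_zero _).symm))
    exact mul_left_cancel₀ hN' h1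
  have := hα γ hfix (algebraMap A (FractionRing A) c)
  rw [hsm] at this
  exact hinj this

end Groth.Agent.Lib.Seat65.InertiaC
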