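import Groth.Agent.Lib.Seat65InertiaB
import Groth.Agent.Lib.Seat65InertiaC
import Groth.Agent.Lib.Seat65DecompC
import Mathlib.RingTheory.Ideal.Over
import Mathlib.RingTheory.Invariant.Basic

/-!
# Inertia invariants (for S0271), part D: an inertia-invariant element `θ` with `f'(θ) ∉ q`
-/

set_option autoImplicit false
universe u
open scoped Pointwise
open Polynomial Pi1

namespace Groth.Agent.Lib.Seat65.InertiaD

open Groth.Agent.Lib.Seat65.DecompB Groth.Agent.Lib.Seat65.DecompC
open Groth.Agent.Lib.Seat65.InertiaA Groth.Agent.Lib.Seat65.InertiaB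
open Groth.Agent.Lib.Seat65.InertiaC

variable (G : Type u) {R : Type u} [Group G] [Finite G] [CommRing R] [MulSemiringAction G R]
  (q : Ideal R) [q.IsPrime]

/-- The action of the decomposition group on the residue ring. -/
@[instance_reducible]
noncomputable def actD : MulSemiringAction (MulAction.stabilizer G q) (R ⧸ q) :=
  MulSemiringAction.compHom (R ⧸ q) (Ideal.Quotient.stabilizerHom q (q.under ℤ) G)

omit [Finite G] [q.IsPrime] in
theorem actD_mk (d : MulAction.stabilizer G q) (x : R) :
    letI := actD G q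
    d • (Ideal.Quotient.mk q x) = Ideal.Quotient.mk q ((d : G) • x) := rfl

omit [Finite G] [q.IsPrime] in
theorem smul_mem_of_mem_stabilizer {d : G} (hd : d ∈ MulAction.stabilizer G q) {x : R} (hx : x ∈ q) :
    d • x ∈ q := by
  have := Ideal.smul_mem_pointwise_smul d x q hx
  rwa [MulAction.mem_stabilizer_iff.mp hd] at this

omit [Finite G] [q.IsPrime] in
/-- The inertia group is normalised by the decomposition group. -/
theorem conj_mem_inertia {d : G} (hd : d ∈ MulAction.stabilizer G q) {i : G} (hi : i ∈ q.inertia G) :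
    d⁻¹ * i * d ∈ q.inertia G := by
  intro x
  have h1 : i • (d • x) - d • x ∈ q := hi (d • x)
  have h2 := smul_mem_of_mem_stabilizer G q (inv_mem hd) h1
  have : d⁻¹ • (i • (d • x) - d • x) = (d⁻¹ * i * d) • x - x := by
    rw [smul_sub, smul_smul, smul_smul, smul_smul, inv_mul_cancel, one_smul]
  rwa [this] at h2

omit [Finite G] [q.IsPrime] in
/-- The decomposition group preserves the inertia invariants. -/
theorem smul_mem_fixed {d : G} (hd : d ∈ MulAction.stabilizer G q) {c : R}
    (hc : c ∈ FixedPoints.subring R (q.inertia G)) : d • c ∈ FixedPoints.subring R (q.inertia G) := by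
  rintro ⟨i, hi⟩
  have h := hc ⟨d⁻¹ * i * d, conj_mem_inertia G q hd hi⟩
  have h' : (d⁻¹ * i * d) • c = c := h
  show i • (d • c) = d • c
  calc i • (d • c) = d • ((d⁻¹ * i * d) • c) := by
        rw [smul_smul, smul_smul]; congr 1; group
    _ = d • c := by rw [h']

/-- Faithfulness: an element of `G` acting trivially modulo `q` on the inertia invariants lies in the
inertia group. -/
theorem mem_inertia_of_forall (σ : G)
    (h : ∀ c ∈ FixedPoints.subring R (q.inertia G), σ • c - c ∈ q) : σ ∈ q.inertia G := by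
  classical
  letI : Fintype (q.inertia G) := Fintype.ofFinite _
  intro x
  set P : R[X] := MulSemiringAction.charpoly (q.inertia G) x with hP
  have hcoef : ∀ n, P.coeff n ∈ FixedPoints.subring R (q.inertia G) := fun n i =>
    MulSemiringAction.smul_coeff_charpoly x n i
  -- `P` and `σ • P` agree modulo `q`
  have hmap : (σ • P).map (Ideal.Quotient.mk q) = P.map (Ideal.Quotient.mk q) := by
    ext n
    rw [Polynomial.coeff_map, Polynomial.coeff_map, Polynomial.smul_eq_map, Polynomial.coeff_map]
    exact Ideal.Quotient.eq.mpr (h _ (hcoef n))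
  have h0 : (σ • P).eval (σ • x) = 0 := by
    rw [Polynomial.smul_eval_smul, hP, MulSemiringAction.eval_charpoly, smul_zero]
  have h1 : Ideal.Quotient.mk q (P.eval (σ • x)) = 0 := by
    rw [← Polynomial.eval_map_apply, ← hmap, Polynomial.eval_map_apply, h0, map_zero]
  rw [Ideal.Quotient.eq_zero_iff_mem, hP, MulSemiringAction.charpoly, Polynomial.eval_prod] at h1
  obtain ⟨i, -, hi⟩ := (Ideal.IsPrime.prod_mem_iff).mp h1
  simp only [Polynomial.eval_sub, Polynomial.eval_X, Polynomial.eval_C] at hi
  have h2 : (i : G) • x - x ∈ q := i.2 x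
  have : σ • x - x = (σ • x - i • x) + ((i : G) • x - x) := by
    rw [MulAction.subgroup_smul_def]; ring
  rw [this]
  exact q.add_mem hi h2

/-- The image of the inertia invariants in the residue ring. -/
noncomputable def Abar : Subring (R ⧸ q) :=
  ((Ideal.Quotient.mk q).comp (FixedPoints.subring R (q.inertia G)).subtype).range

omit [Finite G] [q.IsPrime] in
theorem isInvariantSubring_Abar :
    letI := actD G q
    IsInvariantSubring (MulAction.stabilizer G q) (Abar G q) := by
  letI := actD G q
  refine ⟨?_⟩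
  rintro d _ ⟨c, rfl⟩
  refine ⟨⟨(d : G) • (c : R), smul_mem_fixed G q d.2 c.2⟩, ?_⟩
  rfl

/-- An inertia-invariant element on which the decomposition group acts with stabilizer the
inertia group, modulo `q`. -/
theorem exists_y : ∃ y : FixedPoints.subring R (q.inertia G), (y : R) ∉ q ∧
    ∀ σ ∈ MulAction.stabilizer G q, σ • (y : R) - y ∈ q → σ ∈ q.inertia G := by
  letI := actD G q
  haveI := isInvariantSubring_Abar G q
  obtain ⟨⟨_, ⟨y, rfl⟩⟩, hy⟩ := exists_faithful_elt (MulAction.stabilizer G q) (Abar G q)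
  have key : ∀ σ ∈ MulAction.stabilizer G q, σ • (y : R) - y ∈ q → σ ∈ q.inertia G := by
    intro σ hσ hσy
    apply mem_inertia_of_forall G q σ
    intro c hc
    have h1 := hy ⟨σ, hσ⟩ (Subtype.ext (Ideal.Quotient.eq.mpr hσy))
      ⟨Ideal.Quotient.mk q c, ⟨⟨c, hc⟩, rfl⟩⟩
    exact Ideal.Quotient.eq.mp (congrArg Subtype.val h1)
  by_cases hyq : (y : R) ∈ q
  · refine ⟨y + 1, ?_, ?_⟩
    · intro h
      have : (1 : R) ∈ q := by
        have := q.sub_mem h hyq
        simpa using this
      exact (Ideal.ne_top_iff_one q).mp (Ideal.IsPrime.ne_top inferInstance) this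
    · intro σ hσ h
      apply key σ hσ
      have : σ • (y : R) - y = σ • ((y + 1 : FixedPoints.subring R (q.inertia G)) : R) -
          ((y + 1 : FixedPoints.subring R (q.inertia G)) : R) := by
        simp [smul_add]
      rwa [this]
  · exact ⟨y, hyq, key⟩

/-- The key element: `θ ∈ R^I` with `θ - σ θ ∉ q` for all `σ ∉ I`. -/
theorem exists_theta : ∃ θ : FixedPoints.subring R (q.inertia G),
    ∀ σ : G, σ ∉ q.inertia G → (θ : R) - σ • (θ : R) ∉ q := by
  obtain ⟨t, ht1, ht2⟩ := exists_t (MulAction.stabilizer G q) q le_rfl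
  obtain ⟨y, hy1, hy2⟩ := exists_y G q
  have htI : (t : R) ∈ FixedPoints.subring R (q.inertia G) := fun i =>
    t.2 ⟨i, Ideal.inertia_le_stabilizer q i.2⟩
  refine ⟨⟨t, htI⟩ * y, fun σ hσ => ?_⟩
  show (t : R) * y - σ • ((t : R) * y) ∉ q
  by_cases hσD : σ ∈ MulAction.stabilizer G q
  · have hσt : σ • (t : R) = t := t.2 ⟨σ, hσD⟩
    rw [smul_mul', hσt, ← mul_sub]
    intro h
    rcases Ideal.IsPrime.mem_or_mem inferInstance h with h | h
    · exact ht1 h
    · apply hσ
      apply hy2 σ hσD
      have := q.neg_mem h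
      rwa [neg_sub] at this
  · have h1 : σ • ((t : R) * y) ∈ q := by
      rw [smul_mul']
      exact q.mul_mem_right _ (ht2 σ hσD)
    intro h
    have h2 : (t : R) * y ∈ q := by
      have := q.add_mem h h1
      simpa using this
    rcases Ideal.IsPrime.mem_or_mem inferInstance h2 with h | h
    · exact ht1 h
    · exact hy1 h

/-- If `θ - σ θ ∉ q` for all `σ ∉ H`, then `f'(θ) ∉ q`. -/
theorem gel_not_mem (H : Subgroup G) (θ : FixedPoints.subring R H)
    (h : ∀ σ : G, σ ∉ H → (θ : R) - σ • (θ : R) ∉ q) :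
    ((gel H θ : FixedPoints.subring R H) : R) ∉ q := by
  classical
  letI : Fintype (G ⧸ H) := Fintype.ofFinite _
  rw [coe_gel, eval_derivative_fR, fc, Polynomial.eval_prod]
  intro hmem
  obtain ⟨c, hc, hcq⟩ := (Ideal.IsPrime.prod_mem_iff).mp hmem
  obtain ⟨σ, rfl⟩ := QuotientGroup.mk_surjective c
  have hσ : σ ∉ H := by
    intro hσH
    apply (Finset.mem_erase.mp hc).1
    exact QuotientGroup.eq.mpr (by simpa using hσH)
  apply h σ hσ
  simpa [lin, conj_mk] using hcq

/-- Main existence statement for S0271. -/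
theorem main : ∃ g : FixedPoints.subring R (q.inertia G),
      g ∉ q.comap (FixedPoints.subring R (q.inertia G)).subtype ∧
      Algebra.Etale (FixedPoints.subring R G) (Localization.Away g) := by
  obtain ⟨θ, hθ⟩ := exists_theta G q
  exact ⟨gel (q.inertia G) θ, gel_not_mem G q _ θ hθ, etale_away _ θ⟩

end Groth.Agent.Lib.Seat65.InertiaD
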