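import Groth.Agent.Lib.Seat65IndInA
import Groth.Agent.Lib.Seat65InertiaD

/-!
# Ind-etale inertia invariants (for S9494), part B: finite levels `B^N`, `G/N`
-/

set_option autoImplicit false
universe u
open scoped Pointwise

namespace Groth.Agent.Lib.Seat65.IndInB

open Groth.Agent.Lib.Seat65.IndInA

variable {A B : Type u} [CommRing A] [CommRing B] [Algebra A B]
variable {G : Type u} [Group G] [MulSemiringAction G B] [SMulCommClass G A B]
variable [TopologicalSpace G] [CompactSpace G] [TotallyDisconnectedSpace G] [IsTopologicalGroup G]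
  [TopologicalSpace B] [DiscreteTopology B] [ContinuousSMul G B]

variable (A B) in
/-- The `N`-invariants. -/
abbrev BN (N : OpenNormalSubgroup G) : Subalgebra A B := FixedPoints.subalgebra A B (N : Subgroup G)

/-- The finite quotient `G/N`. -/
abbrev GN (N : OpenNormalSubgroup G) : Type u := G ⧸ (N : Subgroup G)

variable (A) in
/-- The contraction of `q` to the `N`-invariants. -/
abbrev qN (q : Ideal B) (N : OpenNormalSubgroup G) : Ideal (BN A B N) := q.under (BN A B N)

omit [CompactSpace G] [TotallyDisconnectedSpace G] [TopologicalSpace B] [DiscreteTopology B]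
  [ContinuousSMul G B] in
theorem coe_mk_smul (N : OpenNormalSubgroup G) (σ : G) (b : BN A B N) :
    (((QuotientGroup.mk σ : GN N) • b : BN A B N) : B) = σ • (b : B) := rfl

omit [CompactSpace G] [TotallyDisconnectedSpace G] [TopologicalSpace B] [DiscreteTopology B]
  [ContinuousSMul G B] in
theorem mk_mem_inertia_iff (q : Ideal B) (N : OpenNormalSubgroup G) (σ : G) :
    (QuotientGroup.mk σ : GN N) ∈ (qN A q N).inertia (GN N) ↔
      ∀ b ∈ FixedPoints.subring B (N : Subgroup G), σ • b - b ∈ q := by
  constructor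
  · intro h b hb
    exact h ⟨b, hb⟩
  · intro h b
    exact h b.1 b.2

omit [CompactSpace G] [TotallyDisconnectedSpace G] [TopologicalSpace B] [DiscreteTopology B]
  [ContinuousSMul G B] in
theorem mk_mem_inertia (q : Ideal B) (N : OpenNormalSubgroup G) {σ : G} (hσ : σ ∈ q.inertia G) :
    (QuotientGroup.mk σ : GN N) ∈ (qN A q N).inertia (GN N) :=
  (mk_mem_inertia_iff q N σ).mpr (fun b _ => hσ b)

/-- An element fixed by `N` and by the inertia group of `q` is fixed by the inertia group at level
`N` (uses the lifting lemma of part A). -/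
theorem smul_eq_of_mem_inertia (q : Ideal B) [q.IsPrime] (N : OpenNormalSubgroup G)
    (c : BN A B N) (hc : ∀ i ∈ q.inertia G, i • (c : B) = c)
    (γ : GN N) (hγ : γ ∈ (qN A q N).inertia (GN N)) : γ • c = c := by
  obtain ⟨σ, rfl⟩ := QuotientGroup.mk_surjective γ
  obtain ⟨ν, hν, hνσ⟩ := exists_mul_mem_inertia q (N : Subgroup G) N.toOpenSubgroup.isClosed σ
    ((mk_mem_inertia_iff q N σ).mp hγ)
  apply Subtype.ext
  rw [coe_mk_smul]
  have h1 := hc _ hνσ
  rw [mul_smul] at h1
  have h2 : ν⁻¹ • (c : B) = c := c.2 ⟨ν⁻¹, (N : Subgroup G).inv_mem hν⟩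
  calc σ • (c : B) = ν⁻¹ • (ν • σ • (c : B)) := (inv_smul_smul _ _).symm
    _ = ν⁻¹ • (c : B) := by rw [h1]
    _ = c := h2

end Groth.Agent.Lib.Seat65.IndInB
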