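import Groth.Agent.Lib.Seat65IndInB
import Mathlib.RingTheory.Etale.Basic
import Mathlib.RingTheory.Localization.AtPrime.Basic

/-!
# Ind-etale inertia invariants (for S9494), part C: generic transfer lemmas
-/

set_option autoImplicit false
universe u v w
open scoped Pointwise

namespace Groth.Agent.Lib.Seat65.IndInC

/-- The lift of an injective ring map to a localization is injective. -/
theorem lift_injective_of_injective {R : Type*} [CommRing R] {M : Submonoid R} {S : Type*} [CommRing S]
    [Algebra R S] [IsLocalization M S] {P : Type*} [CommRing P] {g : R →+* P}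
    (hg : ∀ y : M, IsUnit (g y)) (hinj : Function.Injective g) :
    Function.Injective (IsLocalization.lift (S := S) hg) := by
  rw [IsLocalization.lift_injective_iff]
  intro x y
  constructor
  · intro h
    have := congrArg (IsLocalization.lift (S := S) hg) h
    rwa [IsLocalization.lift_eq, IsLocalization.lift_eq] at this
  · intro h
    rw [hinj h]

theorem away_lift_injective_of_injective {R : Type*} [CommRing R] (x : R) {S : Type*} [CommRing S]
    [Algebra R S] [IsLocalization.Away x S] {P : Type*} [CommRing P] {g : R →+* P}
    (hg : IsUnit (g x)) (hinj : Function.Injective g) :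
    Function.Injective (IsLocalization.Away.lift (S := S) x hg) :=
  lift_injective_of_injective _ hinj

/-- Transfer of etaleness along a bijection of base rings and an injective map into `T`:
the image is an etale `A`-subalgebra of `T`. -/
theorem exists_etale_subalgebra_of_injective {A A' E T : Type u} [CommRing A] [CommRing A']
    [CommRing E] [CommRing T] [Algebra A T] [Algebra A' E] [Algebra.Etale A' E]
    (φ : A →+* A') (hφ : Function.Bijective φ) (ψ : E →+* T) (hψ : Function.Injective ψ)
    (hcomp : ∀ a : A, ψ (algebraMap A' E (φ a)) = algebraMap A T a) :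
    ∃ S : Subalgebra A T, Algebra.Etale A S ∧ ∀ t : T, t ∈ S ↔ t ∈ Set.range ψ := by
  letI : Algebra A A' := φ.toAlgebra
  letI : Algebra A E := ((algebraMap A' E).comp φ).toAlgebra
  haveI : IsScalarTower A A' E := IsScalarTower.of_algebraMap_eq (fun _ => rfl)
  haveI : Algebra.Etale A A' :=
    Algebra.Etale.of_equiv (AlgEquiv.ofBijective (Algebra.ofId A A') hφ)
  haveI : Algebra.Etale A E := Algebra.Etale.comp A A' E
  let ψ' : E →ₐ[A] T := { ψ with commutes' := hcomp }
  have hψ' : Function.Injective ψ' := hψ
  refine ⟨ψ'.range, Algebra.Etale.of_equiv (AlgEquiv.ofInjective ψ' hψ'), fun t => ?_⟩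
  rfl

end Groth.Agent.Lib.Seat65.IndInC
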