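import Groth.Agent.Lib.Seat65IndInC

/-!
# Ind-etale inertia invariants (for S9494), part D: etale subalgebras of the localization of the
inertia invariants coming from finite levels
-/

set_option autoImplicit false
universe u
open scoped Pointwise

namespace Groth.Agent.Lib.Seat65.IndInD

open Groth.Agent.Lib.Seat65.IndInA Groth.Agent.Lib.Seat65.IndInB Groth.Agent.Lib.Seat65.IndInC
open Groth.Agent.Lib.Seat65.InertiaB Groth.Agent.Lib.Seat65.InertiaD

variable {A B : Type u} [CommRing A] [CommRing B] [Algebra A B]
variable {G : Type u} [Group G] [MulSemiringAction G B] [SMulCommClass G A B]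
variable [TopologicalSpace G] [CompactSpace G] [TotallyDisconnectedSpace G] [IsTopologicalGroup G]
  [TopologicalSpace B] [DiscreteTopology B] [ContinuousSMul G B]

variable (A) in
/-- The inertia invariants. -/
abbrev CI (q : Ideal B) : Subalgebra A B := FixedPoints.subalgebra A B (q.inertia G)

variable (A) in
/-- The contraction of `q` to the inertia invariants. -/
abbrev pI (q : Ideal B) : Ideal (CI (G := G) A q) := q.comap (CI (G := G) A q).val

variable (A) in
/-- The subring of `B^N` fixed by the inertia group at level `N`. -/
abbrev RI (q : Ideal B) (N : OpenNormalSubgroup G) : Subring (BN A B N) :=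
  FixedPoints.subring (BN A B N) ((qN A q N).inertia (GN N))

omit [CompactSpace G] [TotallyDisconnectedSpace G] [TopologicalSpace B] [DiscreteTopology B]
  [ContinuousSMul G B] in
theorem coe_mem_CI (q : Ideal B) (N : OpenNormalSubgroup G) (x : RI A q N) :
    ((x : BN A B N) : B) ∈ CI (G := G) A q := by
  intro i
  have h := x.2 ⟨QuotientGroup.mk (i : G), mk_mem_inertia q N i.2⟩
  have h' : (QuotientGroup.mk (i : G) : GN N) • (x : BN A B N) = x := h
  have := congrArg (fun z : BN A B N => (z : B)) h'
  simp only [coe_mk_smul] at this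
  exact this

variable (A) in
/-- The inclusion of the level-`N` inertia invariants into the inertia invariants. -/
def iota (q : Ideal B) (N : OpenNormalSubgroup G) : RI A q N →+* CI (G := G) A q where
  toFun x := ⟨((x : BN A B N) : B), coe_mem_CI q N x⟩
  map_one' := rfl
  map_mul' _ _ := rfl
  map_zero' := rfl
  map_add' _ _ := rfl

omit [CompactSpace G] [TotallyDisconnectedSpace G] [TopologicalSpace B] [DiscreteTopology B]
  [ContinuousSMul G B] in
theorem iota_injective (q : Ideal B) (N : OpenNormalSubgroup G) :
    Function.Injective (iota A q N) := by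
  intro x y h
  apply Subtype.ext
  apply Subtype.ext
  exact congrArg (fun z : CI (G := G) A q => (z : B)) h

variable (A) in
/-- The map from `A` to the `G/N`-invariants of `B^N`. -/
def phiA (N : OpenNormalSubgroup G) : A →+* FixedPoints.subring (BN A B N) (GN N) where
  toFun a := ⟨algebraMap A (BN A B N) a, fun γ => smul_algebraMap γ a⟩
  map_one' := by apply Subtype.ext; exact map_one _
  map_mul' _ _ := by apply Subtype.ext; exact map_mul _ _ _
  map_zero' := by apply Subtype.ext; exact map_zero _
  map_add' _ _ := by apply Subtype.ext; exact map_add _ _ _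

theorem phiA_bijective [Algebra.IsInvariant A B G] (hinj : Function.Injective (algebraMap A B))
    (N : OpenNormalSubgroup G) : Function.Bijective (phiA A (B := B) N) := by
  constructor
  · intro a b h
    apply hinj
    have := congrArg (fun z : FixedPoints.subring (BN A B N) (GN N) => ((z : BN A B N) : B)) h
    exact this
  · intro x
    obtain ⟨a, ha⟩ := Algebra.IsInvariant.isInvariant (A := A) (G := GN N) (x : BN A B N)
      (fun γ => x.2 γ)
    exact ⟨a, Subtype.ext ha⟩


/-- **Finite-level etale subalgebras**: finitely many inertia invariants fixed by an open normal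
subgroup `N`, together with the inverse of one such element outside `q`, lie in an etale
`A`-subalgebra of the localization of the inertia invariants at `q`. -/
theorem exists_etale_subalgebra [IsDomain B] [Algebra.IsInvariant A B G]
    (hinj : Function.Injective (algebraMap A B)) (q : Ideal B) [q.IsPrime]
    (N : OpenNormalSubgroup G) (S₀ : Finset (CI (G := G) A q)) (s : CI (G := G) A q)
    (hs : (s : B) ∉ q) (hS₀ : ∀ c ∈ S₀, (c : B) ∈ BN A B N) (hsN : (s : B) ∈ BN A B N) :
    ∃ E : Subalgebra A (Localization.AtPrime (pI (G := G) A q)), Algebra.Etale A E ∧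
      (∀ c ∈ S₀, algebraMap (CI (G := G) A q) (Localization.AtPrime (pI (G := G) A q)) c ∈ E) ∧
      ∃ y ∈ E, y * algebraMap (CI (G := G) A q) (Localization.AtPrime (pI (G := G) A q)) s = 1 := by
  classical
  -- the key element at level `N`
  obtain ⟨θ, hθ⟩ := exists_theta (GN N) (qN A q N)
  have hgq := gel_not_mem (GN N) (qN A q N) ((qN A q N).inertia (GN N)) θ hθ
  haveI hE₀ : Algebra.Etale (FixedPoints.subring (BN A B N) (GN N))
      (Localization.Away (gel ((qN A q N).inertia (GN N)) θ)) :=
    etale_away ((qN A q N).inertia (GN N)) θ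
  set g : RI A q N := gel ((qN A q N).inertia (GN N)) θ with hg
  -- lifting elements of `CI` fixed by `N` to level `N`
  have lift_mem : ∀ c : CI (G := G) A q, ∀ hc : (c : B) ∈ BN A B N,
      (⟨(c : B), hc⟩ : BN A B N) ∈ RI A q N := by
    intro c hc γ
    exact smul_eq_of_mem_inertia q N ⟨(c : B), hc⟩ (fun i hi => c.2 ⟨i, hi⟩) γ.1 γ.2
  let sN : RI A q N := ⟨⟨(s : B), hsN⟩, lift_mem s hsN⟩
  -- the map to the localization
  let T := Localization.AtPrime (pI (G := G) A q)
  let f : RI A q N →+* T := (algebraMap (CI (G := G) A q) T).comp (iota A q N)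
  have hT_inj : Function.Injective (algebraMap (CI (G := G) A q) T) :=
    IsLocalization.injective T (pI (G := G) A q).primeCompl_le_nonZeroDivisors
  have hf_inj : Function.Injective f := by
    intro x y h
    exact iota_injective (A := A) q N (hT_inj h)
  have hunit : ∀ x : RI A q N, ((x : BN A B N) : B) ∉ q → IsUnit (f x) := by
    intro x hx
    exact IsLocalization.map_units T (⟨iota A q N x, hx⟩ : (pI (G := G) A q).primeCompl)
  have hfg : IsUnit (f g) := hunit g hgq
  let f₀ : Localization.Away g →+* T := IsLocalization.Away.lift g hfg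
  have hf₀ : ∀ x, f₀ (algebraMap (RI A q N) (Localization.Away g) x) = f x :=
    fun x => IsLocalization.Away.lift_eq g hfg x
  have hf₀_inj : Function.Injective f₀ := away_lift_injective_of_injective g hfg hf_inj
  set s₀ : Localization.Away g := algebraMap (RI A q N) (Localization.Away g) sN with hs₀
  have hf₀s : IsUnit (f₀ s₀) := by
    rw [hs₀, hf₀]
    exact hunit sN hs
  let f₁ : Localization.Away s₀ →+* T := IsLocalization.Away.lift s₀ hf₀s
  have hf₁ : ∀ x, f₁ (algebraMap (Localization.Away g) (Localization.Away s₀) x) = f₀ x :=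
    fun x => IsLocalization.Away.lift_eq s₀ hf₀s x
  have hf₁_inj : Function.Injective f₁ := away_lift_injective_of_injective s₀ hf₀s hf₀_inj
  -- compatibility with the `A`-algebra structures
  have hcomp : ∀ a : A, f₁ (algebraMap (FixedPoints.subring (BN A B N) (GN N))
      (Localization.Away s₀) (phiA A (B := B) N a)) = algebraMap A T a := by
    intro a
    rw [IsScalarTower.algebraMap_apply (FixedPoints.subring (BN A B N) (GN N))
      (Localization.Away g) (Localization.Away s₀), hf₁,
      IsScalarTower.algebraMap_apply (FixedPoints.subring (BN A B N) (GN N)) (RI A q N)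
      (Localization.Away g), hf₀]
    rw [IsScalarTower.algebraMap_apply A (CI (G := G) A q) T]
    rfl
  obtain ⟨E, hE, hEmem⟩ := exists_etale_subalgebra_of_injective (phiA A (B := B) N)
    (phiA_bijective hinj N) f₁ hf₁_inj hcomp
  refine ⟨E, hE, fun c hc => ?_, ?_⟩
  · rw [hEmem]
    refine ⟨algebraMap (Localization.Away g) (Localization.Away s₀)
      (algebraMap (RI A q N) (Localization.Away g) ⟨⟨(c : B), hS₀ c hc⟩, lift_mem c (hS₀ c hc)⟩), ?_⟩
    rw [hf₁, hf₀]
    rfl
  · refine ⟨f₁ (IsLocalization.Away.invSelf s₀), (hEmem _).mpr ⟨_, rfl⟩, ?_⟩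
    have h1 : algebraMap (CI (G := G) A q) T s =
        f₁ (algebraMap (Localization.Away g) (Localization.Away s₀) s₀) := by
      rw [hf₁, hs₀, hf₀]
      rfl
    rw [h1, ← map_mul, mul_comm, IsLocalization.Away.mul_invSelf, map_one]

end Groth.Agent.Lib.Seat65.IndInD
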