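import Groth.Agent.Lib.Seat65IndInD
import Groth.Agent.Lib.Helper3IndEt

/-!
# Ind-etale inertia invariants (for S9494), part E: the general theorem for a profinite group
acting continuously on a (discrete) domain
-/

set_option autoImplicit false
universe u
open scoped Pointwise

namespace Groth.Agent.Lib.Seat65.IndInE

open Groth.Agent.Lib.Seat65.IndInB Groth.Agent.Lib.Seat65.IndInD

variable {A B : Type u} [CommRing A] [CommRing B] [Algebra A B]
variable {G : Type u} [Group G] [MulSemiringAction G B] [SMulCommClass G A B]
variable [TopologicalSpace G] [CompactSpace G] [TotallyDisconnectedSpace G] [IsTopologicalGroup G]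
  [TopologicalSpace B] [DiscreteTopology B] [ContinuousSMul G B]

/-- Finitely many elements of `B` are fixed by a common open normal subgroup. -/
theorem exists_openNormalSubgroup_fixing (F : Finset B) :
    ∃ N : OpenNormalSubgroup G, ∀ x ∈ F, ∀ n ∈ (N : Subgroup G), n • x = x := by
  have hU : IsOpen (⋂ x ∈ F, (MulAction.stabilizer G x : Set G)) :=
    isOpen_biInter_finset (fun x _ => stabilizer_isOpen G x)
  have h1 : (1 : G) ∈ ⋂ x ∈ F, (MulAction.stabilizer G x : Set G) := by
    simp only [Set.mem_iInter]
    intro x _
    exact one_mem _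
  obtain ⟨N, hN⟩ := ProfiniteGrp.exist_openNormalSubgroup_sub_open_nhds_of_one hU h1
  refine ⟨N, fun x hx n hn => ?_⟩
  have := hN hn
  simp only [Set.mem_iInter] at this
  exact this x hx

/-- **Main theorem (abstract form)**: for a profinite group `G` acting continuously on a discrete
domain `B` with invariants `A`, the localization of the inertia invariants `B^I` at `q ∩ B^I` is an
ind-etale `A`-algebra. -/
theorem isIndEtale_localization_inertia [IsDomain B] [Algebra.IsInvariant A B G]
    (hinj : Function.Injective (algebraMap A B)) (q : Ideal B) [q.IsPrime] :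
    EtPBC.IsIndEtale A (Localization.AtPrime (pI (G := G) A q)) := by
  classical
  apply Groth.Agent.Lib.Helper3.IndEt.isIndEtale_of_factor
  intro P _ _ _ ψ
  obtain ⟨gens, hgens⟩ := (Algebra.FiniteType.out : (⊤ : Subalgebra A P).FG)
  obtain ⟨⟨s, hs⟩, hsint⟩ := IsLocalization.exist_integer_multiples_of_finset
    (pI (G := G) A q).primeCompl (gens.image ψ)
  have hc : ∀ x : P, ∃ c : CI (G := G) A q, x ∈ gens →
      algebraMap (CI (G := G) A q) (Localization.AtPrime (pI (G := G) A q)) c = s • ψ x := by
    intro x
    by_cases hx : x ∈ gens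
    · obtain ⟨c, hc⟩ := hsint (ψ x) (Finset.mem_image_of_mem ψ hx)
      exact ⟨c, fun _ => hc⟩
    · exact ⟨0, fun h => absurd h hx⟩
  choose c hc using hc
  obtain ⟨N, hN⟩ := exists_openNormalSubgroup_fixing (G := G)
    ((insert s (gens.image c)).image (fun x : CI (G := G) A q => (x : B)))
  have hNmem : ∀ x ∈ insert s (gens.image c), (x : B) ∈ BN A B N := by
    intro x hx n
    exact hN (x : B) (Finset.mem_image_of_mem _ hx) n.1 n.2
  obtain ⟨E, hE, hEc, y, hyE, hy⟩ := exists_etale_subalgebra hinj q N (gens.image c) s hs
    (fun x hx => hNmem x (Finset.mem_insert_of_mem hx)) (hNmem s (Finset.mem_insert_self _ _))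
  -- `ψ` lands in `E`
  have hgenE : ∀ x ∈ gens, ψ x ∈ E := by
    intro x hx
    have h1 := hc x hx
    have h2 : ψ x = y * algebraMap (CI (G := G) A q) (Localization.AtPrime (pI (G := G) A q)) (c x) := by
      rw [h1, Algebra.smul_def, ← mul_assoc, hy, one_mul]
    rw [h2]
    exact E.mul_mem hyE (hEc _ (Finset.mem_image_of_mem c hx))
  have hψE : ∀ x : P, ψ x ∈ E := by
    intro x
    have hx : x ∈ Algebra.adjoin A (gens : Set P) := by rw [hgens]; exact Algebra.mem_top
    induction hx using Algebra.adjoin_induction with
    | mem x hx => exact hgenE x hx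
    | algebraMap r => rw [AlgHom.commutes]; exact E.algebraMap_mem r
    | add x y _ _ hx hy => rw [map_add]; exact E.add_mem hx hy
    | mul x y _ _ hx hy => rw [map_mul]; exact E.mul_mem hx hy
  exact ⟨E, inferInstance, inferInstance, hE, ψ.codRestrict E hψE, E.val,
    AlgHom.val_comp_codRestrict ψ E hψE⟩

end Groth.Agent.Lib.Seat65.IndInE
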