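import Groth.Agent.Lib.Seat65IndInE
import Mathlib.FieldTheory.Galois.Profinite
import Mathlib.FieldTheory.Galois.Infinite
import Mathlib.FieldTheory.KrullTopology

/-!
# Ind-etale inertia invariants (for S9494), part F: the Galois case
-/

set_option autoImplicit false
universe u
open scoped Pointwise

namespace Groth.Agent.Lib.Seat65.IndInF

open Groth.Agent.Lib.Seat65.IndInD Groth.Agent.Lib.Seat65.IndInE

variable (A K L : Type u) [CommRing A] [IsDomain A] [IsIntegrallyClosed A]
  [Field K] [Field L] [Algebra A K] [IsFractionRing A K] [Algebra K L] [Algebra A L] [IsScalarTower A K L]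

/-- The Galois group acts on the integral closure. -/
@[instance_reducible]
noncomputable def galAction : MulSemiringAction (L ≃ₐ[K] L) (integralClosure A L) where
  smul σ b := ⟨σ (b : L), b.2.map ((σ : L →ₐ[K] L).restrictScalars A)⟩
  one_smul b := Subtype.ext rfl
  mul_smul σ τ b := Subtype.ext rfl
  smul_zero σ := Subtype.ext (map_zero σ)
  smul_add σ a b := Subtype.ext (map_add σ _ _)
  smul_one σ := Subtype.ext (map_one σ)
  smul_mul σ a b := Subtype.ext (map_mul σ _ _)

omit [IsDomain A] [IsIntegrallyClosed A] [IsFractionRing A K] in
theorem coe_smul (σ : L ≃ₐ[K] L) (b : integralClosure A L) :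
    letI := galAction A K L
    ((σ • b : integralClosure A L) : L) = σ (b : L) := rfl

omit [IsDomain A] [IsIntegrallyClosed A] [IsFractionRing A K] in
theorem smulCommClass : letI := galAction A K L
    SMulCommClass (L ≃ₐ[K] L) A (integralClosure A L) := by
  letI := galAction A K L
  refine ⟨fun σ a b => Subtype.ext ?_⟩
  show σ (a • (b : L)) = a • σ (b : L)
  exact map_smul ((σ : L →ₐ[K] L).restrictScalars A) a (b : L)

include K in
omit [IsIntegrallyClosed A] in
theorem algebraMap_injective : Function.Injective (algebraMap A (integralClosure A L)) := by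
  intro a b h
  have h1 : algebraMap A L a = algebraMap A L b :=
    congrArg (fun z : integralClosure A L => (z : L)) h
  rw [IsScalarTower.algebraMap_apply A K L, IsScalarTower.algebraMap_apply A K L] at h1
  exact IsFractionRing.injective A K ((algebraMap K L).injective h1)

theorem isInvariant [IsGalois K L] : letI := galAction A K L
    Algebra.IsInvariant A (integralClosure A L) (L ≃ₐ[K] L) := by
  letI := galAction A K L
  refine ⟨fun b hb => ?_⟩
  have h1 : (b : L) ∈ Set.range (algebraMap K L) := by
    rw [InfiniteGalois.mem_range_algebraMap_iff_fixed]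
    intro σ
    exact congrArg (fun z : integralClosure A L => (z : L)) (hb σ)
  obtain ⟨k, hk⟩ := h1
  have hkint : IsIntegral A k := by
    have : IsIntegral A (algebraMap K L k) := hk ▸ b.2
    exact (isIntegral_algebraMap_iff (algebraMap K L).injective).mp this
  obtain ⟨a, rfl⟩ := IsIntegrallyClosed.algebraMap_eq_of_integral hkint
  refine ⟨a, Subtype.ext ?_⟩
  rw [← hk, ← IsScalarTower.algebraMap_apply A K L]
  rfl

theorem continuousSMul [IsGalois K L] : letI := galAction A K L
    letI : TopologicalSpace (integralClosure A L) := ⊥
    ContinuousSMul (L ≃ₐ[K] L) (integralClosure A L) := by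
  letI := galAction A K L
  letI : TopologicalSpace (integralClosure A L) := ⊥
  haveI : DiscreteTopology (integralClosure A L) := ⟨rfl⟩
  rw [continuousSMul_iff_stabilizer_isOpen]
  intro b
  have : (MulAction.stabilizer (L ≃ₐ[K] L) b : Set (L ≃ₐ[K] L)) =
      (MulAction.stabilizer (L ≃ₐ[K] L) (b : L) : Set (L ≃ₐ[K] L)) := by
    ext σ
    simp only [SetLike.mem_coe, MulAction.mem_stabilizer_iff]
    constructor
    · intro h
      exact congrArg (fun z : integralClosure A L => (z : L)) h
    · intro h
      exact Subtype.ext h
  rw [this]
  exact stabilizer_isOpen_of_isIntegral (b : L)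


/-- **S9494**: the localization of the inertia invariants of the integral closure in a (possibly
infinite) Galois extension is ind-etale over the base. -/
theorem main [IsGalois K L] (q : Ideal (integralClosure A L)) [q.IsPrime]
    (I : Subgroup (L ≃ₐ[K] L))
    (hI : ∀ σ : L ≃ₐ[K] L, σ ∈ I ↔ ∀ b : integralClosure A L, ∃ c ∈ q, (c : L) = σ b - b) :
    EtPBC.IsIndEtale A (Localization.AtPrime
      (q.comap (Subalgebra.inclusion
        (inf_le_left : integralClosure A L ⊓ (IntermediateField.fixedField I).toSubalgebra.restrictScalars A ≤
          integralClosure A L)))) := by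
  letI := galAction A K L
  haveI := smulCommClass A K L
  letI : TopologicalSpace (integralClosure A L) := ⊥
  haveI : DiscreteTopology (integralClosure A L) := ⟨rfl⟩
  haveI := continuousSMul A K L
  haveI := isInvariant A K L
  have hmain := isIndEtale_localization_inertia (A := A) (B := integralClosure A L)
    (G := L ≃ₐ[K] L) (algebraMap_injective A K L) q
  -- `I` is the inertia group
  obtain rfl : I = q.inertia (L ≃ₐ[K] L) := by
    ext σ
    rw [hI]
    constructor
    · intro h b
      obtain ⟨c, hc, hcb⟩ := h b
      have : c = σ • b - b := Subtype.ext hcb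
      rw [← this]
      exact hc
    · intro h b
      exact ⟨σ • b - b, h b, rfl⟩
  -- the isomorphism of the two models of the inertia invariants
  let e : ↥(integralClosure A L ⊓
      (IntermediateField.fixedField (q.inertia (L ≃ₐ[K] L))).toSubalgebra.restrictScalars A) ≃ₐ[A]
      CI (G := L ≃ₐ[K] L) A q :=
    { toFun := fun x => ⟨⟨(x : L), x.2.1⟩, fun i => Subtype.ext (x.2.2 i)⟩
      invFun := fun y => ⟨((y : integralClosure A L) : L), ⟨(y : integralClosure A L).2,
        fun i => congrArg Subtype.val (y.2 i)⟩⟩
      left_inv := fun x => rfl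
      right_inv := fun y => rfl
      map_mul' := fun _ _ => rfl
      map_add' := fun _ _ => rfl
      commutes' := fun a => rfl }
  have H : Submonoid.map e.symm (pI (G := L ≃ₐ[K] L) A q).primeCompl =
      (q.comap (Subalgebra.inclusion
        (inf_le_left : integralClosure A L ⊓
          (IntermediateField.fixedField (q.inertia (L ≃ₐ[K] L))).toSubalgebra.restrictScalars A ≤
          integralClosure A L))).primeCompl := by
    ext x
    constructor
    · rintro ⟨y, hy, rfl⟩
      exact hy
    · intro hx
      exact ⟨e x, hx, e.symm_apply_apply x⟩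
  exact Groth.Agent.Lib.Helper3.IndEt.isIndEtale_of_algEquiv hmain
    (IsLocalization.algEquivOfAlgEquiv _ _ e.symm H)

end Groth.Agent.Lib.Seat65.IndInF
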