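import Groth.Agent.Lib.Seat65DecompB
import Mathlib.Algebra.Polynomial.GroupRingAction
import Mathlib.Algebra.Polynomial.Derivative
import Mathlib.Algebra.Polynomial.Lifts
import Mathlib.Algebra.Polynomial.Div
import Mathlib.Algebra.Polynomial.AlgebraMap

/-!
# Inertia invariants (for S0271), part A: the coset polynomial of `θ ∈ R^H` and interpolation identities
-/

set_option autoImplicit false
universe u
open scoped Pointwise
open Polynomial

namespace Groth.Agent.Lib.Seat65.InertiaA

open Groth.Agent.Lib.Seat65.DecompB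

variable {G R : Type u} [Group G] [Finite G] [CommRing R] [MulSemiringAction G R] (H : Subgroup G)

/-- A `G`-invariant polynomial over `R` has coefficients in `R^G`. -/
theorem exists_map_eq_of_smul_eq (p : R[X]) (hp : ∀ g : G, g • p = p) :
    ∃ pB : (FixedPoints.subring R G)[X], pB.map (FixedPoints.subring R G).subtype = p := by
  have : p ∈ Polynomial.lifts (FixedPoints.subring R G).subtype := by
    rw [Polynomial.lifts_iff_coeff_lifts]
    intro n
    have hmem : p.coeff n ∈ FixedPoints.subring R G := by
      intro g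
      have := congrArg (fun r => r.coeff n) (hp g)
      simpa [Polynomial.smul_eq_map, Polynomial.coeff_map] using this
    exact ⟨⟨p.coeff n, hmem⟩, rfl⟩
  obtain ⟨pB, hpB⟩ := this
  exact ⟨pB, hpB⟩

theorem smul_map_subtype (pB : (FixedPoints.subring R G)[X]) (g : G) :
    g • pB.map (FixedPoints.subring R G).subtype = pB.map (FixedPoints.subring R G).subtype := by
  ext n
  simp only [Polynomial.smul_eq_map, Polynomial.coeff_map]
  exact (pB.coeff n).2 g

theorem map_subtype_injective :
    Function.Injective (Polynomial.map (FixedPoints.subring R G).subtype) :=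
  Polynomial.map_injective _ Subtype.val_injective

section

variable (θ : FixedPoints.subring R H)

/-- The linear factor attached to a coset. -/
noncomputable def lin (c : G ⧸ H) : R[X] := X - C (conj H θ c)

theorem smul_lin (g : G) (c : G ⧸ H) : g • lin H θ c = lin H θ (g • c) := by
  simp only [lin, smul_sub, Polynomial.smul_X, Polynomial.smul_C, smul_conj]

/-- The coset polynomial `∏_{c ∈ G/H} (X - θ_c)` over `R`. -/
noncomputable def fR : R[X] :=
  haveI : Fintype (G ⧸ H) := Fintype.ofFinite _
  ∏ c : G ⧸ H, lin H θ c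

open Classical in
/-- The cofactor `∏_{c' ≠ c} (X - θ_{c'})`. -/
noncomputable def fc (c : G ⧸ H) : R[X] :=
  haveI : Fintype (G ⧸ H) := Fintype.ofFinite _
  ∏ c' ∈ Finset.univ.erase c, lin H θ c'

open Classical in
theorem lin_mul_fc (c : G ⧸ H) : lin H θ c * fc H θ c = fR H θ := by
  letI : Fintype (G ⧸ H) := Fintype.ofFinite _
  exact Finset.mul_prod_erase _ _ (Finset.mem_univ c)

theorem smul_fR (g : G) : g • fR H θ = fR H θ := by
  letI : Fintype (G ⧸ H) := Fintype.ofFinite _
  show g • (∏ c : G ⧸ H, lin H θ c) = ∏ c : G ⧸ H, lin H θ c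
  rw [Finset.smul_prod']
  simp_rw [smul_lin]
  exact Fintype.prod_equiv (MulAction.toPerm g) _ _ (fun c => rfl)

open Classical in
theorem smul_fc (g : G) (c : G ⧸ H) : g • fc H θ c = fc H θ (g • c) := by
  letI : Fintype (G ⧸ H) := Fintype.ofFinite _
  show g • (∏ c' ∈ Finset.univ.erase c, lin H θ c') = ∏ c' ∈ Finset.univ.erase (g • c), lin H θ c'
  rw [Finset.smul_prod']
  simp_rw [smul_lin]
  refine Finset.prod_equiv (MulAction.toPerm g) ?_ (fun c _ => rfl)
  intro c'
  simp only [Finset.mem_erase, Finset.mem_univ, and_true, ne_eq, MulAction.toPerm_apply]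
  exact (smul_left_cancel_iff g).not.symm

theorem monic_fR : (fR H θ).Monic := by
  letI : Fintype (G ⧸ H) := Fintype.ofFinite _
  exact Polynomial.monic_prod_of_monic _ _ (fun c _ => Polynomial.monic_X_sub_C _)

open Classical in
theorem derivative_fR :
    haveI : Fintype (G ⧸ H) := Fintype.ofFinite _
    derivative (fR H θ) = ∑ c : G ⧸ H, fc H θ c := by
  letI : Fintype (G ⧸ H) := Fintype.ofFinite _
  show derivative (∏ c : G ⧸ H, lin H θ c) = _
  rw [Polynomial.derivative_prod_finset]
  refine Finset.sum_congr rfl (fun c _ => ?_)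
  simp [lin, fc]

theorem eval_lin_one : (lin H θ (QuotientGroup.mk 1)).eval (θ : R) = 0 := by
  simp [lin]

open Classical in
theorem eval_fc_of_ne (c : G ⧸ H) (hc : c ≠ QuotientGroup.mk 1) : (fc H θ c).eval (θ : R) = 0 := by
  letI : Fintype (G ⧸ H) := Fintype.ofFinite _
  show (∏ c' ∈ Finset.univ.erase c, lin H θ c').eval (θ : R) = 0
  rw [Polynomial.eval_prod]
  exact Finset.prod_eq_zero (i := QuotientGroup.mk 1)
    (Finset.mem_erase.mpr ⟨hc.symm, Finset.mem_univ _⟩) (eval_lin_one H θ)

theorem eval_fR : (fR H θ).eval (θ : R) = 0 := by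
  classical
  rw [← lin_mul_fc H θ (QuotientGroup.mk 1), Polynomial.eval_mul, eval_lin_one, zero_mul]

open Classical in
theorem eval_derivative_fR :
    (derivative (fR H θ)).eval (θ : R) = (fc H θ (QuotientGroup.mk 1)).eval (θ : R) := by
  letI : Fintype (G ⧸ H) := Fintype.ofFinite _
  rw [derivative_fR, Polynomial.eval_finset_sum]
  rw [Finset.sum_eq_single (QuotientGroup.mk 1 : G ⧸ H)]
  · intro c _ hc
    exact eval_fc_of_ne H θ c hc
  · intro h
    exact absurd (Finset.mem_univ _) h

/-- The coset polynomial with coefficients in `R^G`. -/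
noncomputable def fB : (FixedPoints.subring R G)[X] :=
  (exists_map_eq_of_smul_eq (fR H θ) (smul_fR H θ)).choose

theorem map_fB : (fB H θ).map (FixedPoints.subring R G).subtype = fR H θ :=
  (exists_map_eq_of_smul_eq (fR H θ) (smul_fR H θ)).choose_spec

theorem monic_fB : (fB H θ).Monic := by
  have h := monic_fR H θ
  rw [← map_fB] at h
  exact Polynomial.monic_of_injective Subtype.val_injective h

/-- Interpolation (surjectivity input): for `c ∈ R^H` there is `p ∈ R^G[X]` with `p(θ) = c · f'(θ)`. -/
theorem exists_interp (c : FixedPoints.subring R H) :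
    ∃ p : (FixedPoints.subring R G)[X],
      (p.map (FixedPoints.subring R G).subtype).eval (θ : R) =
        (c : R) * (derivative (fR H θ)).eval (θ : R) := by
  classical
  letI : Fintype (G ⧸ H) := Fintype.ofFinite _
  let P : R[X] := ∑ c' : G ⧸ H, C (conj H c c') * fc H θ c'
  have hP : ∀ g : G, g • P = P := by
    intro g
    show g • (∑ c' : G ⧸ H, C (conj H c c') * fc H θ c') = _
    rw [Finset.smul_sum]
    simp_rw [smul_mul', Polynomial.smul_C, smul_conj, smul_fc]
    exact Fintype.sum_equiv (MulAction.toPerm g) _ _ (fun c => rfl)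
  obtain ⟨p, hp⟩ := exists_map_eq_of_smul_eq P hP
  refine ⟨p, ?_⟩
  rw [hp, eval_derivative_fR]
  show (∑ c' : G ⧸ H, C (conj H c c') * fc H θ c').eval (θ : R) = _
  rw [Polynomial.eval_finset_sum, Finset.sum_eq_single (QuotientGroup.mk 1 : G ⧸ H)]
  · simp
  · intro c' _ hc'
    rw [Polynomial.eval_mul, eval_fc_of_ne H θ c' hc', mul_zero]
  · intro h
    exact absurd (Finset.mem_univ _) h

/-- Divisibility (injectivity input): if `Q ∈ R^G[X]` vanishes at `θ` then `f' Q = f S` with `S ∈ R^G[X]`. -/
theorem exists_factor (Q : (FixedPoints.subring R G)[X])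
    (hQ : (Q.map (FixedPoints.subring R G).subtype).eval (θ : R) = 0) :
    ∃ S : (FixedPoints.subring R G)[X], derivative (fB H θ) * Q = fB H θ * S := by
  classical
  letI : Fintype (G ⧸ H) := Fintype.ofFinite _
  set QR : R[X] := Q.map (FixedPoints.subring R G).subtype with hQR
  have hQinv : ∀ g : G, g • QR = QR := fun g => smul_map_subtype Q g
  -- vanishing at all conjugates
  have hroot : ∀ c : G ⧸ H, QR.eval (conj H θ c) = 0 := by
    intro c
    induction c using QuotientGroup.induction_on with
    | H σ =>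
      rw [conj_mk]
      have := Polynomial.smul_eval_smul R σ QR (θ : R)
      rw [hQinv σ, hQ, smul_zero] at this
      exact this
  -- quotients
  have hdvd : ∀ c : G ⧸ H, lin H θ c ∣ QR := fun c => by
    rw [lin, Polynomial.dvd_iff_isRoot]
    exact hroot c
  choose W hW using hdvd
  let SR : R[X] := ∑ c : G ⧸ H, W c
  have hmain : derivative (fR H θ) * QR = fR H θ * SR := by
    rw [derivative_fR, Finset.sum_mul, Finset.mul_sum]
    refine Finset.sum_congr rfl (fun c _ => ?_)
    rw [← lin_mul_fc H θ c]
    conv_lhs => rw [hW c]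
    ring
  have hSinv : ∀ g : G, g • SR = SR := by
    intro g
    have h1 : g • (derivative (fR H θ) * QR) = derivative (fR H θ) * QR := by
      rw [smul_mul', hQinv g]
      congr 1
      rw [Polynomial.smul_eq_map, ← Polynomial.derivative_map, ← Polynomial.smul_eq_map, smul_fR]
    rw [hmain, smul_mul', smul_fR] at h1
    exact (monic_fR H θ).isRegular.left h1
  obtain ⟨S, hS⟩ := exists_map_eq_of_smul_eq SR hSinv
  refine ⟨S, map_subtype_injective ?_⟩
  rw [Polynomial.map_mul, Polynomial.map_mul, ← Polynomial.derivative_map, map_fB, hS]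
  exact hmain

end

end Groth.Agent.Lib.Seat65.InertiaA
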