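import Groth.Agent.Lib.Seat65InertiaA
import Groth.Prelude.Def_Pi1
import Mathlib.RingTheory.Etale.StandardEtale

/-!
# Inertia invariants (for S0271), part B: `(R^H)_{f'(θ)}` is standard etale over `R^G`
-/

set_option autoImplicit false
universe u
open scoped Pointwise
open Polynomial Pi1

namespace Groth.Agent.Lib.Seat65.InertiaB

open Groth.Agent.Lib.Seat65.DecompB Groth.Agent.Lib.Seat65.InertiaA

variable {G R : Type u} [Group G] [Finite G] [CommRing R] [MulSemiringAction G R] (H : Subgroup G)
  (θ : FixedPoints.subring R H)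

theorem subtype_comp_algebraMap :
    (FixedPoints.subring R H).subtype.comp
      (algebraMap (FixedPoints.subring R G) (FixedPoints.subring R H)) =
      (FixedPoints.subring R G).subtype := by
  ext x; rfl

/-- Bridging: evaluation in `R^H` versus evaluation in `R`. -/
theorem coe_aeval (p : (FixedPoints.subring R G)[X]) :
    ((aeval θ p : FixedPoints.subring R H) : R) =
      (p.map (FixedPoints.subring R G).subtype).eval (θ : R) := by
  rw [Polynomial.aeval_def, Polynomial.eval_map]
  have := Polynomial.hom_eval₂ p (algebraMap (FixedPoints.subring R G) (FixedPoints.subring R H))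
    (FixedPoints.subring R H).subtype θ
  rw [subtype_comp_algebraMap] at this
  exact this

/-- The distinguished element `f'(θ) ∈ R^H`. -/
noncomputable def gel : FixedPoints.subring R H := aeval θ (derivative (fB H θ))

theorem coe_gel : ((gel H θ : FixedPoints.subring R H) : R) =
    (derivative (fR H θ)).eval (θ : R) := by
  rw [gel, coe_aeval, ← Polynomial.derivative_map, map_fB]

theorem aeval_fB : aeval θ (fB H θ) = 0 := by
  apply Subtype.ext
  rw [coe_aeval, map_fB, eval_fR]
  rfl

/-- The standard etale pair `(f, f')`. -/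
noncomputable def pair : StandardEtalePair (FixedPoints.subring R G) where
  f := fB H θ
  monic_f := monic_fB H θ
  g := derivative (fB H θ)
  cond := ⟨1, 0, 1, by simp⟩

local notation "S" => Localization.Away (gel H θ)

theorem hasMap : (pair H θ).HasMap (algebraMap (FixedPoints.subring R H) S θ) := by
  constructor
  · show aeval _ (fB H θ) = 0
    rw [Polynomial.aeval_algebraMap_apply, aeval_fB, map_zero]
  · show IsUnit (aeval _ (derivative (fB H θ)))
    rw [Polynomial.aeval_algebraMap_apply]
    exact IsLocalization.Away.algebraMap_isUnit (gel H θ)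

theorem lift_aeval (p : (FixedPoints.subring R G)[X]) :
    (pair H θ).lift _ (hasMap H θ) (aeval (pair H θ).X p) =
      algebraMap (FixedPoints.subring R H) S (aeval θ p) := by
  rw [← Polynomial.aeval_algHom_apply, StandardEtalePair.lift_X, Polynomial.aeval_algebraMap_apply]

theorem lift_surjective : Function.Surjective ((pair H θ).lift _ (hasMap H θ)) := by
  intro s
  obtain ⟨c, ⟨_, n, rfl⟩, rfl⟩ := IsLocalization.exists_mk'_eq (Submonoid.powers (gel H θ)) s
  obtain ⟨p, hp⟩ := exists_interp H θ c
  have hp' : aeval θ p = c * gel H θ := by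
    apply Subtype.ext
    rw [coe_aeval, hp]
    show _ = (c : R) * ((gel H θ : FixedPoints.subring R H) : R)
    rw [coe_gel]
  -- the unit `u = f'(X)` of the standard etale ring
  have hu : IsUnit (aeval (pair H θ).X (derivative (fB H θ))) := (pair H θ).hasMap_X.2
  obtain ⟨u, hu'⟩ := hu
  refine ⟨aeval (pair H θ).X p * ((u⁻¹ : _ˣ) : (pair H θ).Ring) ^ (n + 1), ?_⟩
  set φ := (pair H θ).lift _ (hasMap H θ) with hφ
  have hφu : φ (u : (pair H θ).Ring) = algebraMap (FixedPoints.subring R H) S (gel H θ) := by
    rw [hu', hφ, lift_aeval]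
    rfl
  have hφuinv : φ ((u⁻¹ : _ˣ) : (pair H θ).Ring) *
      algebraMap (FixedPoints.subring R H) S (gel H θ) = 1 := by
    rw [← hφu, ← map_mul, Units.inv_mul, map_one]
  rw [map_mul, map_pow, hφ, lift_aeval, ← hφ, hp', map_mul]
  rw [IsLocalization.eq_mk'_iff_mul_eq]
  simp only [map_pow]
  calc algebraMap _ S c * algebraMap _ S (gel H θ) * φ ((u⁻¹ : _ˣ) : (pair H θ).Ring) ^ (n + 1) *
        algebraMap _ S (gel H θ) ^ n
      = algebraMap _ S c * (φ ((u⁻¹ : _ˣ) : (pair H θ).Ring) *
          algebraMap (FixedPoints.subring R H) S (gel H θ)) ^ (n + 1) := by ring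
    _ = algebraMap _ S c := by rw [hφuinv, one_pow, mul_one]

theorem lift_injective : Function.Injective ((pair H θ).lift _ (hasMap H θ)) := by
  rw [injective_iff_map_eq_zero]
  intro z hz
  -- canonical presentation of the standard etale ring
  let Pres : StandardEtalePresentation (FixedPoints.subring R G) (pair H θ).Ring :=
    ⟨pair H θ, (pair H θ).X, (pair H θ).hasMap_X, by
      rw [StandardEtalePair.lift_X_left]; exact Function.bijective_id⟩
  obtain ⟨p, n, hpn⟩ := Pres.exists_mul_aeval_x_g_pow_eq_aeval_x z
  change z * aeval (pair H θ).X (derivative (fB H θ)) ^ n = aeval (pair H θ).X p at hpn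
  have hu : IsUnit (aeval (pair H θ).X (derivative (fB H θ))) := (pair H θ).hasMap_X.2
  -- apply the lift
  have h1 : algebraMap (FixedPoints.subring R H) S (aeval θ p) = 0 := by
    rw [← lift_aeval, ← hpn, map_mul, hz, zero_mul]
  obtain ⟨⟨_, k, rfl⟩, hk⟩ := (IsLocalization.map_eq_zero_iff (Submonoid.powers (gel H θ)) S _).mp h1
  have hk' : gel H θ ^ k * aeval θ p = 0 := hk
  -- the polynomial `Q = f'^k p` vanishes at `θ`
  have hQ : ((derivative (fB H θ) ^ k * p).map (FixedPoints.subring R G).subtype).eval (θ : R) = 0 := by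
    rw [← coe_aeval, map_mul, map_pow]
    show ((gel H θ ^ k * aeval θ p : FixedPoints.subring R H) : R) = 0
    rw [hk']
    rfl
  obtain ⟨S', hS'⟩ := exists_factor H θ _ hQ
  have h2 := congrArg (aeval (pair H θ).X) hS'
  simp only [map_mul, map_pow] at h2
  have hf0 : aeval (pair H θ).X (fB H θ) = 0 := (pair H θ).hasMap_X.1
  rw [hf0, zero_mul] at h2
  have h3 : aeval (pair H θ).X p = 0 := by
    have : aeval (pair H θ).X (derivative (fB H θ)) ^ (k + 1) * aeval (pair H θ).X p = 0 := by
      rw [pow_succ', mul_assoc]; exact h2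
    exact (hu.pow (k + 1)).mul_right_eq_zero.mp this
  rw [h3] at hpn
  exact (hu.pow n).mul_left_eq_zero.mp hpn

/-- `(R^H)_{f'(θ)}` is standard etale, hence etale, over `R^G`. -/
theorem etale_away : Algebra.Etale (FixedPoints.subring R G) (Localization.Away (gel H θ)) := by
  haveI : Algebra.IsStandardEtale (FixedPoints.subring R G) (Localization.Away (gel H θ)) :=
    ⟨⟨⟨pair H θ, _, hasMap H θ, ⟨lift_injective H θ, lift_surjective H θ⟩⟩⟩⟩
  infer_instance

end Groth.Agent.Lib.Seat65.InertiaB
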