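import Mathlib.MeasureTheory.Group.Measure
import Mathlib.MeasureTheory.Constructions.Pi
import Mathlib.MeasureTheory.Integral.Bochner.Basic
import Mathlib.MeasureTheory.Integral.Prod
import Mathlib.MeasureTheory.Integral.Pi
import Mathlib.MeasureTheory.Group.Integral
import Mathlib.MeasureTheory.Constructions.BorelSpace.Basic
import Mathlib.MeasureTheory.Function.SimpleFuncDense
import Mathlib.Topology.Algebra.Group.Basic

/-!
# Seat 65, PtDeg library, part A

Measure-theoretic tools on finite powers of a compact space with no countability assumption: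
continuous functions are strongly measurable and integrable for the product sigma-algebra,
continuity of parametric integrals over a compact space, Fubini splitting one coordinate off a
finite power of a measure.
-/

set_option autoImplicit false
universe u
open MeasureTheory Set Filter Topology

namespace Groth.Agent.Lib.Seat65.PtDeg

section Measurability

variable {ι : Type*} [Fintype ι] {X : ι → Type*} [∀ i, TopologicalSpace (X i)]
  [∀ i, MeasurableSpace (X i)] [∀ i, OpensMeasurableSpace (X i)]

/-- A continuous real function on a compact finite product can be uniformly approximated by simple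
functions for the product sigma-algebra (no countability assumption on the factors). -/
lemma exists_simpleFunc_approx_of_pi [CompactSpace (∀ i, X i)] {f : (∀ i, X i) → ℝ}
    (hf : Continuous f) {ε : ℝ} (hε : 0 < ε) :
    ∃ g : SimpleFunc (∀ i, X i) ℝ, ∀ x, dist (f x) (g x) < ε := by
  have M : ∃ (g : SimpleFunc (∀ i, X i) ℝ) (s : Set (∀ i, X i)), MeasurableSet s ∧
      (univ : Set (∀ i, X i)) ⊆ s ∧ ∀ x ∈ s, dist (f x) (g x) < ε := by
    apply IsCompact.induction_on
      (p := fun t ↦ ∃ (g : SimpleFunc (∀ i, X i) ℝ) (s : Set (∀ i, X i)), MeasurableSet s ∧ t ⊆ s ∧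
        ∀ x ∈ s, dist (f x) (g x) < ε) isCompact_univ
    · exact ⟨0, ∅, by simp⟩
    · intro t t' htt' ⟨g, s, s_meas, ts, hg⟩
      exact ⟨g, s, s_meas, htt'.trans ts, hg⟩
    · intro t t' ⟨g, s, s_meas, ts, hg⟩ ⟨g', s', s'_meas, t's', hg'⟩
      refine ⟨g.piecewise s s_meas g', s ∪ s', s_meas.union s'_meas,
        union_subset_union ts t's', fun p hp ↦ ?_⟩
      by_cases H : p ∈ s
      · simpa [H, SimpleFunc.piecewise_apply] using hg p H
      · simp only [SimpleFunc.piecewise_apply, H, ite_false]
        apply hg'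
        simpa [H] using (mem_union _ _ _).1 hp
    · intro x _
      have hopen : IsOpen {z | dist (f z) (f x) < ε} :=
        isOpen_lt (by fun_prop) continuous_const
      have hx : x ∈ {z | dist (f z) (f x) < ε} := by simp [hε]
      obtain ⟨u, hu, hsub⟩ := isOpen_pi_iff'.1 hopen x hx
      refine ⟨univ.pi u, nhdsWithin_le_nhds
        (set_pi_mem_nhds finite_univ fun i _ => (hu i).1.mem_nhds (hu i).2), ?_⟩
      exact ⟨SimpleFunc.const _ (f x), univ.pi u,
        MeasurableSet.univ_pi fun i => (hu i).1.measurableSet, Subset.rfl, fun z hz => hsub hz⟩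
  obtain ⟨g, s, -, hs, hg⟩ := M
  exact ⟨g, fun x => hg x (hs (mem_univ x))⟩

lemma measurable_of_continuous_pi [CompactSpace (∀ i, X i)] {f : (∀ i, X i) → ℝ}
    (hf : Continuous f) : Measurable f := by
  obtain ⟨u, -, u_pos, u_lim⟩ : ∃ u, StrictAnti u ∧ (∀ (n : ℕ), 0 < u n) ∧ Tendsto u atTop (𝓝 0) :=
    exists_seq_strictAnti_tendsto (0 : ℝ)
  have : ∀ n, ∃ g : SimpleFunc (∀ i, X i) ℝ, ∀ x, dist (f x) (g x) < u n :=
    fun n ↦ exists_simpleFunc_approx_of_pi hf (u_pos n)
  choose g hg using this
  have A : ∀ x, Tendsto (fun n ↦ g n x) atTop (𝓝 (f x)) := by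
    intro x
    rw [tendsto_iff_dist_tendsto_zero]
    apply squeeze_zero (fun n ↦ dist_nonneg) (fun n ↦ ?_) u_lim
    rw [dist_comm]
    exact (hg n x).le
  exact measurable_of_tendsto_metrizable (fun n ↦ (g n).measurable) (tendsto_pi_nhds.2 A)

lemma stronglyMeasurable_of_continuous_pi [CompactSpace (∀ i, X i)] {f : (∀ i, X i) → ℝ}
    (hf : Continuous f) : StronglyMeasurable f :=
  (measurable_of_continuous_pi hf).stronglyMeasurable

lemma integrable_of_continuous_pi [CompactSpace (∀ i, X i)] {f : (∀ i, X i) → ℝ}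
    (hf : Continuous f) (ν : Measure (∀ i, X i)) [IsFiniteMeasure ν] : Integrable f ν := by
  obtain ⟨C, hC⟩ := (isCompact_range hf.norm).bddAbove
  refine Integrable.of_bound (stronglyMeasurable_of_continuous_pi hf).aestronglyMeasurable C
    (ae_of_all _ fun x => hC (mem_range_self x))

end Measurability

section Parametric

/-- Continuity of a parametric integral over a compact space, with no countability assumption and
no compatibility assumption between the topology and the sigma-algebra. -/
lemma continuous_parametric_integral_compact {Z Y : Type*} [TopologicalSpace Z]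
    [TopologicalSpace Y] [CompactSpace Y] [MeasurableSpace Y] (ν : Measure Y) [IsFiniteMeasure ν]
    {F : Z → Y → ℝ} (hF : Continuous (Function.uncurry F)) (hint : ∀ z, Integrable (F z) ν) :
    Continuous fun z => ∫ y, F z y ∂ν := by
  rw [continuous_iff_continuousAt]
  intro z₀
  rw [ContinuousAt, Metric.tendsto_nhds]
  intro ε hε
  set c : ℝ := ν.real univ with hc
  have hc0 : 0 ≤ c := measureReal_nonneg
  set δ : ℝ := ε / (c + 1) with hδ
  have hδ0 : 0 < δ := div_pos hε (by linarith)
  have hδc : δ * c < ε := by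
    rw [hδ, div_mul_eq_mul_div, div_lt_iff₀ (by linarith)]
    nlinarith
  have hopen : IsOpen {p : Z × Y | dist (F p.1 p.2) (F z₀ p.2) < δ} := by
    apply isOpen_lt _ continuous_const
    apply Continuous.dist
    · exact hF
    · exact hF.comp (continuous_const.prodMk continuous_snd)
  have hsub : ({z₀} : Set Z) ×ˢ (univ : Set Y) ⊆ {p : Z × Y | dist (F p.1 p.2) (F z₀ p.2) < δ} := by
    rintro ⟨z, y⟩ ⟨hz, -⟩
    rw [mem_singleton_iff] at hz
    subst hz
    simp [hδ0]
  obtain ⟨u, v, hu, -, hzu, hv, huv⟩ :=
    generalized_tube_lemma isCompact_singleton isCompact_univ hopen hsub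
  have hv' : v = univ := univ_subset_iff.mp hv
  filter_upwards [hu.mem_nhds (hzu rfl)] with z hz
  rw [dist_eq_norm, ← integral_sub (hint z) (hint z₀)]
  refine lt_of_le_of_lt (norm_integral_le_of_norm_le_const (C := δ) (ae_of_all _ fun y => ?_)) hδc
  have : (z, y) ∈ u ×ˢ v := ⟨hz, by rw [hv']; trivial⟩
  have h := huv this
  rw [mem_ofPred_eq, dist_eq_norm] at h
  exact h.le

end Parametric

section Fubini

variable {G : Type u} [MeasurableSpace G]

/-- Fubini for a finite power of a measure, splitting off one coordinate. -/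
lemma integral_pi_insertNth {k : ℕ} (μ : Measure G) [SigmaFinite μ] (i : Fin (k + 1))
    {f : (Fin (k + 1) → G) → ℝ} (hf : Integrable f (Measure.pi fun _ : Fin (k + 1) => μ)) :
    ∫ x, f x ∂(Measure.pi fun _ : Fin (k + 1) => μ) =
      ∫ c, ∫ u, f (Fin.insertNth i c u) ∂(Measure.pi fun _ : Fin k => μ) ∂μ := by
  have mp := (measurePreserving_piFinSuccAbove (fun _ : Fin (k + 1) => μ) i).symm
  rw [← mp.integral_comp']
  have hint : Integrable (fun p : G × (Fin k → G) =>
      f ((MeasurableEquiv.piFinSuccAbove (fun _ : Fin (k + 1) => G) i).symm p))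
      (μ.prod (Measure.pi fun _ : Fin k => μ)) :=
    (mp.integrable_comp_emb (MeasurableEquiv.measurableEmbedding _)).mpr hf
  rw [integral_prod _ hint]
  rfl

lemma integral_pi_insertNth' {k : ℕ} (μ : Measure G) [SigmaFinite μ] (i : Fin (k + 1))
    {f : (Fin (k + 1) → G) → ℝ} (hf : Integrable f (Measure.pi fun _ : Fin (k + 1) => μ)) :
    ∫ x, f x ∂(Measure.pi fun _ : Fin (k + 1) => μ) =
      ∫ u, ∫ c, f (Fin.insertNth i c u) ∂μ ∂(Measure.pi fun _ : Fin k => μ) := by
  have mp := (measurePreserving_piFinSuccAbove (fun _ : Fin (k + 1) => μ) i).symm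
  rw [← mp.integral_comp']
  have hint : Integrable (fun p : G × (Fin k → G) =>
      f ((MeasurableEquiv.piFinSuccAbove (fun _ : Fin (k + 1) => G) i).symm p))
      (μ.prod (Measure.pi fun _ : Fin k => μ)) :=
    (mp.integrable_comp_emb (MeasurableEquiv.measurableEmbedding _)).mpr hf
  rw [integral_prod_symm _ hint]
  rfl

end Fubini

end Groth.Agent.Lib.Seat65.PtDeg
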