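import Groth.Agent.Lib.Seat65PtDegA
import Mathlib.Data.Fintype.Powerset
import Mathlib.Algebra.BigOperators.Fin
import Mathlib.Data.Nat.Choose.Sum

/-!
# Seat 65, PtDeg library, part B

A continuous real function on a finite power of a compact commutative group which is a 2-cocycle
in every pair of variables is the deviation of the function obtained by averaging all but one
variable against the Haar measure (S14297).
-/

set_option autoImplicit false
set_option linter.unusedSectionVars false
universe u
open MeasureTheory Set Filter Topology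

namespace Groth.Agent.Lib.Seat65.PtDeg

section AltSum

variable {G : Type u} [AddCommGroup G]

/-- The alternating sum `∑_I (-1)^|I| f (g + ∑_{i ∈ I} x i)` over all subsets `I` of the index set. -/
noncomputable def altSum {k : ℕ} (f : G → ℝ) (g : G) (x : Fin k → G) : ℝ :=
  ∑ I ∈ (Finset.univ : Finset (Fin k)).powerset, (-1 : ℝ) ^ I.card * f (g + ∑ i ∈ I, x i)

lemma altSum_zero (f : G → ℝ) (g : G) (x : Fin 0 → G) : altSum f g x = f g := by
  simp [altSum]

lemma altSum_succ {k : ℕ} (f : G → ℝ) (g : G) (x : Fin (k + 1) → G) :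
    altSum f g x = altSum f g (Fin.tail x) - altSum f (g + x 0) (Fin.tail x) := by
  classical
  unfold altSum
  have huniv : (Finset.univ : Finset (Fin (k + 1))) =
      insert 0 ((Finset.univ : Finset (Fin k)).image Fin.succ) := by
    ext i
    simp only [Finset.mem_univ, Finset.mem_insert, Finset.mem_image, true_and, true_iff]
    rcases Fin.eq_zero_or_eq_succ i with h | ⟨j, h⟩
    · exact Or.inl h
    · exact Or.inr ⟨j, h.symm⟩
  have h0 : (0 : Fin (k + 1)) ∉ (Finset.univ : Finset (Fin k)).image Fin.succ := by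
    simp
  have hinj : Set.InjOn (fun J : Finset (Fin k) => J.image Fin.succ)
      ((Finset.univ : Finset (Fin k)).powerset : Set (Finset (Fin k))) :=
    Finset.image_injOn_powerset_of_injOn (Fin.succ_injective k).injOn
  rw [huniv, Finset.sum_powerset_insert h0, Finset.powerset_image, Finset.sum_image hinj,
    Finset.sum_image hinj, sub_eq_add_neg, ← Finset.sum_neg_distrib]
  congr 1
  · refine Finset.sum_congr rfl fun J _ => ?_
    rw [Finset.card_image_of_injective _ (Fin.succ_injective k),
      Finset.sum_image (fun a _ b _ h => Fin.succ_injective k h)]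
    rfl
  · refine Finset.sum_congr rfl fun J _ => ?_
    have h0J : (0 : Fin (k + 1)) ∉ J.image Fin.succ := by simp [Fin.succ_ne_zero]
    rw [Finset.card_insert_of_notMem h0J, Finset.sum_insert h0J,
      Finset.card_image_of_injective _ (Fin.succ_injective k),
      Finset.sum_image (fun a _ b _ h => Fin.succ_injective k h), pow_succ, add_assoc]
    simp only [Fin.tail]
    ring

lemma altSum_cons {k : ℕ} (f : G → ℝ) (g b : G) (t : Fin k → G) :
    altSum f g (Fin.cons b t : Fin (k + 1) → G) = altSum f g t - altSum f (g + b) t := by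
  rw [altSum_succ, Fin.tail_cons, Fin.cons_zero]

/-- The sum over the nonempty subsets in terms of `altSum`. -/
lemma sum_erase_empty_eq {k : ℕ} (f : G → ℝ) (x : Fin k → G) (s : ℝ) :
    ∑ I ∈ ((Finset.univ : Finset (Fin k)).powerset.erase ∅),
        (s * (-1 : ℝ) ^ I.card) * f (∑ i ∈ I, x i) = s * (altSum f 0 x - f 0) := by
  classical
  rw [Finset.sum_erase_eq_sub (Finset.empty_mem_powerset _), altSum, mul_sub,
    Finset.mul_sum]
  simp only [Finset.card_empty, pow_zero, mul_one, Finset.sum_empty, zero_add, mul_assoc]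

end AltSum

section Core

variable {G : Type u} [AddCommGroup G] [TopologicalSpace G] [IsTopologicalAddGroup G]
  [CompactSpace G] [T2Space G] [MeasurableSpace G] [BorelSpace G]
  (μ : Measure G) [μ.IsAddHaarMeasure] [IsProbabilityMeasure μ]

/-- The pairwise cocycle condition. -/
def IsCocycle {m : ℕ} (ψ : (Fin (m + 1) → G) → ℝ) : Prop :=
  ∀ (i j : Fin (m + 1)), i ≠ j → ∀ (x : Fin (m + 1) → G) (a b c : G),
    ψ (Function.update (Function.update x i (a + b)) j c) +
        ψ (Function.update (Function.update x i a) j b) =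
      ψ (Function.update (Function.update x i a) j (b + c)) +
        ψ (Function.update (Function.update x i b) j c)

/-- The function `φ` attached to `ψ`. -/
noncomputable def phi {m : ℕ} (ψ : (Fin (m + 1) → G) → ℝ) (g : G) : ℝ :=
  (-1 : ℝ) ^ m * ∫ u, ψ (Fin.cons g u) ∂(Measure.pi fun _ : Fin m => μ)

/-- Integrating out the variable in position `1`. -/
noncomputable def integrateOut {m : ℕ} (ψ : (Fin (m + 2) → G) → ℝ) (x' : Fin (m + 1) → G) : ℝ :=
  -∫ c, ψ (Fin.insertNth 1 c x') ∂μ

lemma integrable_of_continuous {h : G → ℝ} (hh : Continuous h) : Integrable h μ :=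
  hh.integrable_of_hasCompactSupport (HasCompactSupport.of_compactSpace h)

lemma integrateOut_cons {m : ℕ} (ψ : (Fin (m + 2) → G) → ℝ) (g : G) (t : Fin m → G) :
    integrateOut μ ψ (Fin.cons g t) = -∫ c, ψ (Fin.cons g (Fin.cons c t)) ∂μ := by
  unfold integrateOut
  congr 2
  funext c
  rw [← Fin.succ_zero_eq_one, Fin.insertNth_succ_cons, Fin.insertNth_zero']

lemma continuous_integrateOut {m : ℕ} {ψ : (Fin (m + 2) → G) → ℝ} (hψ : Continuous ψ) :
    Continuous (integrateOut μ ψ) := by
  unfold integrateOut
  refine Continuous.neg ?_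
  refine continuous_parametric_integral_compact μ
    (F := fun (x' : Fin (m + 1) → G) (c : G) => ψ (Fin.insertNth 1 c x')) ?_ ?_
  · exact hψ.comp (Continuous.finInsertNth 1 continuous_snd continuous_fst)
  · intro x'
    exact integrable_of_continuous μ
      (hψ.comp (Continuous.finInsertNth 1 continuous_id continuous_const))

lemma isCocycle_integrateOut {m : ℕ} {ψ : (Fin (m + 2) → G) → ℝ} (hψ : Continuous ψ)
    (hc : IsCocycle ψ) : IsCocycle (integrateOut μ ψ) := by
  intro i j hij x a b c
  have hne : (1 : Fin (m + 2)).succAbove i ≠ (1 : Fin (m + 2)).succAbove j :=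
    fun h => hij (Fin.succAbove_right_injective h)
  have hint : ∀ p q : G, Integrable (fun e : G => ψ (Function.update (Function.update
      (Fin.insertNth 1 e x) ((1 : Fin (m + 2)).succAbove i) p)
      ((1 : Fin (m + 2)).succAbove j) q)) μ := by
    intro p q
    apply integrable_of_continuous μ
    refine hψ.comp ?_
    refine Continuous.update (Continuous.update ?_ _ continuous_const) _ continuous_const
    exact Continuous.finInsertNth 1 continuous_id continuous_const
  have key : ∀ p q : G, integrateOut μ ψ (Function.update (Function.update x i p) j q) =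
      -∫ e, ψ (Function.update (Function.update (Fin.insertNth 1 e x)
        ((1 : Fin (m + 2)).succAbove i) p) ((1 : Fin (m + 2)).succAbove j) q) ∂μ := by
    intro p q
    unfold integrateOut
    congr 2
    funext e
    rw [Fin.insertNth_update, Fin.insertNth_update]
  rw [key, key, key, key, ← neg_add, ← neg_add, ← integral_add (hint _ _) (hint _ _),
    ← integral_add (hint _ _) (hint _ _)]
  congr 2
  funext e
  exact hc _ _ hne (Fin.insertNth 1 e x) a b c

lemma update_update_cons_cons {m : ℕ} (a b p q : G) (t : Fin m → G) :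
    Function.update (Function.update (Fin.cons a (Fin.cons b t) : Fin (m + 2) → G) 0 p) 1 q =
      Fin.cons p (Fin.cons q t) := by
  rw [Fin.update_cons_zero, ← Fin.succ_zero_eq_one, ← Fin.cons_update, Fin.update_cons_zero]

/-- The key identity: a cocycle is the coboundary, in its first two variables, of the function
obtained by integrating out the second variable. -/
lemma eq_integrateOut_sub {m : ℕ} {ψ : (Fin (m + 2) → G) → ℝ} (hψ : Continuous ψ)
    (hc : IsCocycle ψ) (a b : G) (t : Fin m → G) :
    ψ (Fin.cons a (Fin.cons b t)) = integrateOut μ ψ (Fin.cons (a + b) t) -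
      integrateOut μ ψ (Fin.cons a t) - integrateOut μ ψ (Fin.cons b t) := by
  have hcont : ∀ g : G, Continuous fun e : G => ψ (Fin.cons g (Fin.cons e t)) := by
    intro g
    exact hψ.comp (Continuous.finCons continuous_const
      (Continuous.finCons continuous_id continuous_const))
  have hint : ∀ g : G, Integrable (fun e : G => ψ (Fin.cons g (Fin.cons e t))) μ :=
    fun g => integrable_of_continuous μ (hcont g)
  have hpt : ∀ e : G, ψ (Fin.cons (a + b) (Fin.cons e t)) + ψ (Fin.cons a (Fin.cons b t)) =
      ψ (Fin.cons a (Fin.cons (b + e) t)) + ψ (Fin.cons b (Fin.cons e t)) := by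
    intro e
    have := hc 0 1 (by simp) (Fin.cons a (Fin.cons b t)) a b e
    rwa [update_update_cons_cons, update_update_cons_cons, update_update_cons_cons,
      update_update_cons_cons] at this
  have hI := congrArg (fun F : G → ℝ => ∫ e, F e ∂μ) (funext hpt)
  beta_reduce at hI
  rw [integral_add (hint _) (integrable_const _), integral_const, probReal_univ, one_smul] at hI
  have htr : ∫ e, ψ (Fin.cons a (Fin.cons (b + e) t)) ∂μ =
      ∫ e, ψ (Fin.cons a (Fin.cons e t)) ∂μ :=
    integral_add_left_eq_self (fun e => ψ (Fin.cons a (Fin.cons e t))) b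
  have hint' : Integrable (fun e : G => ψ (Fin.cons a (Fin.cons (b + e) t))) μ := by
    apply integrable_of_continuous μ
    exact (hcont a).comp (continuous_const.add continuous_id)
  rw [integral_add hint' (hint _), htr] at hI
  rw [integrateOut_cons, integrateOut_cons, integrateOut_cons]
  linarith

lemma continuous_cons_left {m : ℕ} {ψ : (Fin (m + 1) → G) → ℝ} (hψ : Continuous ψ) (g : G) :
    Continuous fun u : Fin m → G => ψ (Fin.cons g u) :=
  hψ.comp (Continuous.finCons continuous_const continuous_id)

lemma phi_integrateOut {m : ℕ} {ψ : (Fin (m + 2) → G) → ℝ} (hψ : Continuous ψ) (g : G) :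
    phi μ (integrateOut μ ψ) g = phi μ ψ g := by
  unfold phi
  have h1 : ∫ u, integrateOut μ ψ (Fin.cons g u) ∂(Measure.pi fun _ : Fin m => μ) =
      -∫ u, ∫ c, ψ (Fin.cons g (Fin.cons c u)) ∂μ ∂(Measure.pi fun _ : Fin m => μ) := by
    rw [← integral_neg]
    congr 1
    funext u
    rw [integrateOut_cons]
  have h2 : ∫ u, ψ (Fin.cons g u) ∂(Measure.pi fun _ : Fin (m + 1) => μ) =
      ∫ u, ∫ c, ψ (Fin.cons g (Fin.cons c u)) ∂μ ∂(Measure.pi fun _ : Fin m => μ) := by
    rw [integral_pi_insertNth' μ 0 (integrable_of_continuous_pi (continuous_cons_left hψ g) _)]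
    congr 1
    funext u
    congr 1
    funext c
    rw [Fin.insertNth_zero']
  rw [h1, h2, pow_succ]
  ring

end Core

section Main

variable {G : Type u} [AddCommGroup G] [TopologicalSpace G] [IsTopologicalAddGroup G]
  [CompactSpace G] [T2Space G] [MeasurableSpace G] [BorelSpace G]
  (μ : Measure G) [μ.IsAddHaarMeasure] [IsProbabilityMeasure μ]

/-- A continuous pairwise cocycle through the alternating sums of its function `φ`. -/
theorem eq_altSum_phi : ∀ (m : ℕ) (ψ : (Fin (m + 1) → G) → ℝ), Continuous ψ → IsCocycle ψ →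
    ∀ (g : G) (t : Fin m → G), ψ (Fin.cons g t) =
      (-1 : ℝ) ^ (m + 1) * (altSum (phi μ ψ) 0 t - altSum (phi μ ψ) g t - phi μ ψ 0)
  | 0, ψ, hψ, _, g, t => by
    rw [altSum_zero, altSum_zero]
    have h : phi μ ψ g = ψ (Fin.cons g t) := by
      unfold phi
      rw [pow_zero, one_mul]
      have : ∀ u : Fin 0 → G, ψ (Fin.cons g u) = ψ (Fin.cons g t) :=
        fun u => by rw [Subsingleton.elim u t]
      simp_rw [this]
      rw [integral_const, probReal_univ, one_smul]
    rw [← h]
    ring
  | m + 1, ψ, hψ, hc, g, t => by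
    obtain ⟨b, t', rfl⟩ : ∃ b t', t = Fin.cons b t' :=
      ⟨t 0, Fin.tail t, (Fin.cons_self_tail t).symm⟩
    have ih := eq_altSum_phi m (integrateOut μ ψ) (continuous_integrateOut μ hψ)
      (isCocycle_integrateOut μ hψ hc)
    have hphi : phi μ (integrateOut μ ψ) = phi μ ψ := funext (phi_integrateOut μ hψ)
    rw [hphi] at ih
    rw [eq_integrateOut_sub μ hψ hc g b t', ih, ih, ih, altSum_cons, altSum_cons, zero_add,
      pow_succ]
    ring

/-- The first assertion: `ψ` is the deviation of `φ`. -/
theorem eq_sum_phi {m : ℕ} {ψ : (Fin (m + 1) → G) → ℝ} (hψ : Continuous ψ) (hc : IsCocycle ψ)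
    (x : Fin (m + 1) → G) :
    ψ x = ∑ I ∈ ((Finset.univ : Finset (Fin (m + 1))).powerset.erase ∅),
      (-1 : ℝ) ^ (m + 1 + I.card) * phi μ ψ (∑ i ∈ I, x i) := by
  have h1 : ∑ I ∈ ((Finset.univ : Finset (Fin (m + 1))).powerset.erase ∅),
      (-1 : ℝ) ^ (m + 1 + I.card) * phi μ ψ (∑ i ∈ I, x i) =
      (-1 : ℝ) ^ (m + 1) * (altSum (phi μ ψ) 0 x - phi μ ψ 0) := by
    rw [← sum_erase_empty_eq]
    refine Finset.sum_congr rfl fun I _ => ?_
    rw [pow_add]
  rw [h1, altSum_succ, zero_add]
  conv_lhs => rw [← Fin.cons_self_tail x]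
  exact eq_altSum_phi μ m ψ hψ hc (x 0) (Fin.tail x)

/-- The second assertion: `φ` is continuous. -/
theorem continuous_phi {m : ℕ} {ψ : (Fin (m + 1) → G) → ℝ} (hψ : Continuous ψ) :
    Continuous (phi μ ψ) := by
  unfold phi
  refine continuous_const.mul ?_
  refine continuous_parametric_integral_compact (Measure.pi fun _ : Fin m => μ)
    (F := fun (g : G) (u : Fin m → G) => ψ (Fin.cons g u)) ?_ ?_
  · exact hψ.comp (Continuous.finCons continuous_fst continuous_snd)
  · intro g
    exact integrable_of_continuous_pi (continuous_cons_left hψ g) _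

end Main

section Uniqueness

variable {G : Type u} [AddCommGroup G] [TopologicalSpace G] [IsTopologicalAddGroup G]
  [CompactSpace G] [T2Space G] [MeasurableSpace G] [BorelSpace G]
  (μ : Measure G) [μ.IsAddHaarMeasure] [IsProbabilityMeasure μ]

lemma continuous_comp_add_sum {m : ℕ} {h : G → ℝ} (hh : Continuous h) (g : G)
    (J : Finset (Fin m)) : Continuous fun u : Fin m → G => h (g + ∑ j ∈ J, u j) :=
  hh.comp (continuous_const.add (continuous_finsetSum _ fun j _ => continuous_apply j))

/-- Averaging a function of a nonempty partial sum of the coordinates gives its integral. -/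
lemma integral_comp_add_sum {m : ℕ} {h : G → ℝ} (hh : Continuous h) (g : G)
    (J : Finset (Fin m)) (hJ : J.Nonempty) :
    ∫ u, h (g + ∑ j ∈ J, u j) ∂(Measure.pi fun _ : Fin m => μ) = ∫ y, h y ∂μ := by
  classical
  obtain ⟨j₀, hj₀⟩ := hJ
  cases m with
  | zero => exact j₀.elim0
  | succ k =>
    rw [integral_pi_insertNth' μ j₀
      (integrable_of_continuous_pi (continuous_comp_add_sum hh g J) _)]
    have inner : ∀ u' : Fin k → G,
        ∫ c, h (g + ∑ j ∈ J, (Fin.insertNth j₀ c u' : Fin (k + 1) → G) j) ∂μ = ∫ y, h y ∂μ := by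
      intro u'
      have hrw : ∀ c : G, g + ∑ j ∈ J, (Fin.insertNth j₀ c u' : Fin (k + 1) → G) j =
          (g + ∑ j ∈ J.erase j₀, (Fin.insertNth j₀ (0 : G) u' : Fin (k + 1) → G) j) + c := by
        intro c
        rw [← Finset.add_sum_erase J _ hj₀, Fin.insertNth_apply_same]
        have : ∑ j ∈ J.erase j₀, (Fin.insertNth j₀ c u' : Fin (k + 1) → G) j =
            ∑ j ∈ J.erase j₀, (Fin.insertNth j₀ (0 : G) u' : Fin (k + 1) → G) j := by
          refine Finset.sum_congr rfl fun j hj => ?_
          have hne : j ≠ j₀ := Finset.ne_of_mem_erase hj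
          obtain ⟨j', rfl⟩ := Fin.exists_succAbove_eq hne
          rw [Fin.insertNth_apply_succAbove, Fin.insertNth_apply_succAbove]
        rw [this]
        abel
      simp_rw [hrw]
      exact integral_add_left_eq_self h _
    simp_rw [inner]
    rw [integral_const, probReal_univ, one_smul]

lemma sum_powerset_neg_one_pow_card_real {m : ℕ} (hm : 1 ≤ m) :
    ∑ J ∈ (Finset.univ : Finset (Fin m)).powerset, (-1 : ℝ) ^ J.card = 0 := by
  have hne : (Finset.univ : Finset (Fin m)).Nonempty := ⟨⟨0, hm⟩, Finset.mem_univ _⟩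
  have := Finset.sum_powerset_neg_one_pow_card_of_nonempty hne
  exact_mod_cast this

lemma integral_altSum {m : ℕ} (hm : 1 ≤ m) {φ : G → ℝ} (hφ : Continuous φ) (g : G) :
    ∫ u, altSum φ g u ∂(Measure.pi fun _ : Fin m => μ) = φ g - ∫ y, φ y ∂μ := by
  classical
  unfold altSum
  rw [integral_finsetSum _ fun J _ =>
    (integrable_of_continuous_pi (continuous_comp_add_sum hφ g J) _).const_mul _]
  have hterm : ∀ J ∈ (Finset.univ : Finset (Fin m)).powerset,
      ∫ u, (-1 : ℝ) ^ J.card * φ (g + ∑ j ∈ J, u j) ∂(Measure.pi fun _ : Fin m => μ) =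
        (-1 : ℝ) ^ J.card * (∫ y, φ y ∂μ) +
          (if J = ∅ then φ g - ∫ y, φ y ∂μ else 0) := by
    intro J _
    rw [integral_const_mul]
    by_cases hJ : J = ∅
    · subst hJ
      simp only [Finset.sum_empty, add_zero, Finset.card_empty, pow_zero, one_mul, if_true,
        integral_const, probReal_univ, one_smul]
      ring
    · rw [if_neg hJ, add_zero, integral_comp_add_sum μ hφ g J (Finset.nonempty_iff_ne_empty.mpr hJ)]
  rw [Finset.sum_congr rfl hterm, Finset.sum_add_distrib, ← Finset.sum_mul,
    sum_powerset_neg_one_pow_card_real hm, zero_mul, zero_add,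
    Finset.sum_ite_eq' _ (∅ : Finset (Fin m)), if_pos (Finset.empty_mem_powerset _)]

/-- The third assertion: uniqueness of `φ`. -/
theorem eq_phi_of_eq_sum {m : ℕ} (hm : 1 ≤ m) {ψ : (Fin (m + 1) → G) → ℝ} {φ : G → ℝ}
    (hφ : Continuous φ)
    (h : ∀ x : Fin (m + 1) → G,
      ψ x = ∑ I ∈ ((Finset.univ : Finset (Fin (m + 1))).powerset.erase ∅),
        (-1 : ℝ) ^ (m + 1 + I.card) * φ (∑ i ∈ I, x i)) :
    φ = phi μ ψ := by
  funext g
  unfold phi
  have hψ' : ∀ x : Fin (m + 1) → G, ψ x = (-1 : ℝ) ^ (m + 1) * (altSum φ 0 x - φ 0) := by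
    intro x
    rw [h x, ← sum_erase_empty_eq]
    refine Finset.sum_congr rfl fun I _ => ?_
    rw [pow_add]
  have hcons : ∀ u : Fin m → G, ψ (Fin.cons g u) =
      (-1 : ℝ) ^ (m + 1) * (altSum φ 0 u - altSum φ g u - φ 0) := by
    intro u
    rw [hψ', altSum_cons, zero_add]
  have hint : ∀ g' : G, Integrable (fun u : Fin m → G => altSum φ g' u)
      (Measure.pi fun _ : Fin m => μ) := by
    intro g'
    unfold altSum
    exact integrable_finsetSum _ fun J _ =>
      (integrable_of_continuous_pi (continuous_comp_add_sum hφ g' J) _).const_mul _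
  simp_rw [hcons]
  have e1 : ∫ u, (altSum φ 0 u - altSum φ g u - φ 0) ∂(Measure.pi fun _ : Fin m => μ) =
      (φ 0 - ∫ y, φ y ∂μ) - (φ g - ∫ y, φ y ∂μ) - φ 0 := by
    have hi : Integrable (fun u : Fin m → G => altSum φ 0 u - altSum φ g u)
        (Measure.pi fun _ : Fin m => μ) := (hint 0).sub (hint g)
    rw [integral_sub hi (integrable_const _), integral_sub (hint 0) (hint g),
      integral_altSum μ hm hφ, integral_altSum μ hm hφ, integral_const, probReal_univ, one_smul]
  rw [integral_const_mul, e1]
  have hsq : (-1 : ℝ) ^ m * (-1 : ℝ) ^ (m + 1) = -1 := by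
    rw [← pow_add, show m + (m + 1) = 2 * m + 1 by ring, pow_succ, pow_mul]
    norm_num
  rw [← mul_assoc, hsq]
  ring

end Uniqueness

end Groth.Agent.Lib.Seat65.PtDeg
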