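import Mathlib
import Groth.Prelude.Def_W4c4chowquasisplitNorm

/-!
# The Chow group of zero-cycles of the spectrum of a field (helper65)

`CH_0(Spec k) ≅ ℤ` by the coefficient at the unique point, the push-forward from `Spec F` multiplies
by the degree `[F : k]`, and the image of `QsChow.ptNormSubgroup` in `ℤ`.
-/

set_option autoImplicit false
universe u
open CategoryTheory AlgebraicGeometry

namespace Groth.Agent.Lib.Seat65.PtNormA

section residue

variable (K : Type u) [Field K]

/-- The structure map `K → κ(x)` for a point of `Spec K`. -/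
noncomputable def psiK (x : Spec (CommRingCat.of K)) :
    CommRingCat.of K ⟶ (Spec (CommRingCat.of K)).residueField x :=
  Spec.preimage ((Spec (CommRingCat.of K)).fromSpecResidueField x)

lemma map_psiK (x : Spec (CommRingCat.of K)) :
    Spec.map (psiK K x) = (Spec (CommRingCat.of K)).fromSpecResidueField x :=
  Spec.map_preimage _

lemma bijective_psiK (x : Spec (CommRingCat.of K)) : Function.Bijective (psiK K x).hom := by
  refine ⟨(psiK K x).hom.injective, ?_⟩
  have h : IsPreimmersion (Spec.map (psiK K x)) := by
    rw [map_psiK]; infer_instance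
  have h2 := ((IsPreimmersion.SpecMap_iff _).mp h).2
  exact (RingHom.surjectiveOnStalks_iff_of_isLocalHom (f := (psiK K x).hom)).mp h2

lemma psiK_comm (k F : Type u) [Field k] [Field F] [Algebra k F] (x : Spec (CommRingCat.of F)) :
    psiK k ((Spec.map (CommRingCat.ofHom (algebraMap k F))) x) ≫
      (Spec.map (CommRingCat.ofHom (algebraMap k F))).residueFieldMap x =
    CommRingCat.ofHom (algebraMap k F) ≫ psiK F x := by
  apply Spec.map_injective
  rw [Spec.map_comp, Spec.map_comp, map_psiK, map_psiK,
    Scheme.Hom.SpecMap_residueFieldMap_fromSpecResidueField]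

/-- The residue degree of `Spec F ⟶ Spec k` at the point is `[F : k]`. -/
lemma residueDegree_spec (k F : Type u) [Field k] [Field F] [Algebra k F]
    (x : Spec (CommRingCat.of F)) :
    (Spec.map (CommRingCat.ofHom (algebraMap k F))).residueDegree x = Module.finrank k F := by
  unfold Scheme.Hom.residueDegree
  let _ := ((Spec.map (CommRingCat.ofHom (algebraMap k F))).residueFieldMap x).hom.toAlgebra
  symm
  apply Algebra.finrank_eq_of_equiv_equiv
    (RingEquiv.ofBijective _ (bijective_psiK k ((Spec.map (CommRingCat.ofHom (algebraMap k F))) x)))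
    (RingEquiv.ofBijective _ (bijective_psiK F x))
  have := psiK_comm k F x
  ext a
  have h := congrArg (fun φ => φ.hom a) this
  simp only [CommRingCat.hom_comp, CommRingCat.hom_ofHom, RingHom.coe_comp,
    Function.comp_apply] at h
  simp only [RingEquiv.toRingHom_eq_coe, RingHom.coe_comp, RingHom.coe_coe,
    RingEquiv.ofBijective_apply, Function.comp_apply, RingHom.algebraMap_toAlgebra]
  exact h

end residue

section chow

variable (k : Type u) [Field k]

/-- The coefficient at the unique point, on zero-cycles. -/
noncomputable def evHom :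
    ↥(ChowOps.zk (Spec (CommRingCat.of k)) (fun _ => 0) 0) →+ ℤ where
  toFun a := a.1 default
  map_zero' := rfl
  map_add' a b := by
    show (a.1 + b.1) default = _
    simp

lemma eq_zero_of_ratEquivZero (α : AlgebraicCycle (Spec (CommRingCat.of k)) ℤ)
    (h : Cyc.RatEquivZero (fun _ => (0 : ℤ)) 0 α) : α = 0 := by
  obtain ⟨ι, ξ, f, hδ, -, -, hα⟩ := h
  have : IsEmpty ι := ⟨fun i => by have := hδ i; simp at this⟩
  ext x
  rw [hα x, finsum_of_isEmpty]
  rfl

lemma ratTriv_eq_bot :
    ChowOps.ratTriv (Spec (CommRingCat.of k)) (fun _ => 0) 0 = ⊥ := by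
  unfold ChowOps.ratTriv
  rw [AddSubgroup.closure_eq_bot_iff]
  intro a ha
  rw [Set.mem_singleton_iff]
  apply Subtype.ext
  exact eq_zero_of_ratEquivZero k _ ha

/-- The degree map `CH_0(Spec k) → ℤ`. -/
noncomputable def deg :
    ChowOps.CH (Spec (CommRingCat.of k)) (fun _ => 0) 0 →+ ℤ :=
  QuotientAddGroup.lift _ (evHom k) (by
    rw [ratTriv_eq_bot]; exact bot_le)

lemma deg_cl (α : AlgebraicCycle (Spec (CommRingCat.of k)) ℤ)
    (h : α ∈ Cyc.Zk (Spec (CommRingCat.of k)) (fun _ => 0) 0) :
    deg k (ChowOps.cl α h) = α default := rfl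

lemma mem_Zk (α : AlgebraicCycle (Spec (CommRingCat.of k)) ℤ) :
    α ∈ Cyc.Zk (Spec (CommRingCat.of k)) (fun _ => 0) 0 :=
  fun _ hx => absurd rfl hx

lemma deg_injective : Function.Injective (deg k) := by
  rw [injective_iff_map_eq_zero]
  intro c hc
  obtain ⟨a, rfl⟩ := QuotientAddGroup.mk_surjective c
  have h0 : a.1 default = 0 := hc
  have : a = 0 := by
    apply Subtype.ext
    ext x
    rw [Unique.eq_default x, h0]
    rfl
  rw [this]
  rfl

open Classical in
lemma deg_surjective : Function.Surjective (deg k) := by
  intro m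
  refine ⟨ChowOps.cl (Function.locallyFinsuppWithin.single default m) (mem_Zk k _), ?_⟩
  rw [deg_cl]
  simp

/-- The coefficient of the push-forward from `Spec F`. -/
lemma map_apply_default (F : Type u) [Field F] [Algebra k F]
    (α : AlgebraicCycle (Spec (CommRingCat.of F)) ℤ) :
    (AlgebraicCycle.map (Spec.map (CommRingCat.ofHom (algebraMap k F)))
      (fun _ => (0 : ℤ)) (fun _ => (0 : ℤ)) α) default = α default * Module.finrank k F := by
  unfold AlgebraicCycle.map
  rw [Function.locallyFinsupp.map_apply]
  have hpre : (⇑(Spec.map (CommRingCat.ofHom (algebraMap k F))) ⁻¹' {default}) = Set.univ := by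
    ext x
    simp only [Set.mem_preimage, Set.mem_singleton_iff, Set.mem_univ, iff_true]
    exact Subsingleton.elim _ _
  rw [hpre, finsum_mem_univ, finsum_unique]
  simp only [AlgebraicCycle.mapCoeff, if_true]
  rw [residueDegree_spec]

end chow

section norm

variable (k : Type u) [Field k] (K : Type u) [Field K] [Algebra k K]

/-- The degrees of the finite nontrivial intermediate fields. -/
def degSet : Set ℤ :=
  {d | ∃ (F : IntermediateField k K), FiniteDimensional k F ∧ F ≠ ⊥ ∧
    d = (Module.finrank k F : ℤ)}

open Classical in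
/-- The image of the norm subgroup under the degree is generated by the degrees. -/
lemma map_deg_ptNormSubgroup :
    (QsChow.ptNormSubgroup k K).map (deg k) = AddSubgroup.closure (degSet k K) := by
  unfold QsChow.ptNormSubgroup
  rw [AddMonoidHom.map_closure]
  apply le_antisymm
  · rw [AddSubgroup.closure_le]
    rintro _ ⟨c, ⟨F, hF, hne, α, h, rfl⟩, rfl⟩
    rw [deg_cl, map_apply_default, mul_comm]
    have hd : (Module.finrank k F : ℤ) ∈ AddSubgroup.closure (degSet k K) :=
      AddSubgroup.subset_closure ⟨F, hF, hne, rfl⟩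
    have := AddSubgroup.zsmul_mem _ hd (α default)
    rw [smul_eq_mul, mul_comm] at this
    exact this
  · rw [AddSubgroup.closure_le]
    rintro _ ⟨F, hF, hne, rfl⟩
    apply AddSubgroup.subset_closure
    refine ⟨ChowOps.cl (AlgebraicCycle.map (Spec.map (CommRingCat.ofHom (algebraMap k F)))
      (fun _ => (0 : ℤ)) (fun _ => (0 : ℤ)) (Function.locallyFinsuppWithin.single default 1))
      (mem_Zk k _), ⟨F, hF, hne, Function.locallyFinsuppWithin.single default 1, mem_Zk k _, rfl⟩, ?_⟩
    rw [deg_cl, map_apply_default]
    simp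

lemma ptNormSubgroup_eq_top_iff :
    QsChow.ptNormSubgroup k K = ⊤ ↔ AddSubgroup.closure (degSet k K) = ⊤ := by
  rw [← map_deg_ptNormSubgroup]
  constructor
  · intro h
    rw [h, ← AddMonoidHom.range_eq_map, AddMonoidHom.range_eq_top]
    exact deg_surjective k
  · intro h
    rw [eq_top_iff]
    intro c _
    have : deg k c ∈ (QsChow.ptNormSubgroup k K).map (deg k) := by rw [h]; trivial
    obtain ⟨c', hc', he⟩ := this
    rwa [← deg_injective k he]

lemma index_ptNormSubgroup :
    (QsChow.ptNormSubgroup k K).index = (AddSubgroup.closure (degSet k K)).index := by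
  rw [← map_deg_ptNormSubgroup]
  exact (AddSubgroup.index_map_of_bijective ⟨deg_injective k, deg_surjective k⟩ _).symm

end norm

end Groth.Agent.Lib.Seat65.PtNormA
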