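import Mathlib
import Groth.Agent.Lib.Seat65PtNormA

/-!
# The norm subgroup of `CH_0(Spec k)` (helper65): statements S17743, S17744
-/

set_option autoImplicit false
universe u
open CategoryTheory AlgebraicGeometry

namespace Groth.Agent.Lib.Seat65.PtNormB

open Groth.Agent.Lib.Seat65.PtNormA

variable (k : Type u) [Field k] (K : Type u) [Field K] [Algebra k K]

/-- Intermediate fields of prescribed codegree inside a finite Galois subextension. -/
lemma exists_intermediateField (L : IntermediateField k K) [FiniteDimensional k L] [IsGalois k L]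
    (p m : ℕ) [Fact p.Prime] (h : p ^ m ∣ Module.finrank k L) :
    ∃ F : IntermediateField k K, FiniteDimensional k F ∧
      Module.finrank k F * p ^ m = Module.finrank k L := by
  have hcard : Nat.card (L ≃ₐ[k] L) = Module.finrank k L := IsGalois.card_aut_eq_finrank k L
  obtain ⟨H, hH⟩ := Sylow.exists_subgroup_card_pow_prime p (hcard ▸ h)
  obtain ⟨E, hE⟩ : ∃ E : IntermediateField k L, E = IntermediateField.fixedField H := ⟨_, rfl⟩
  have h1 : Module.finrank E L = p ^ m := by
    rw [hE, IntermediateField.finrank_fixedField_eq_card, hH]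
  have h2 : Module.finrank k E * Module.finrank E L = Module.finrank k L :=
    Module.finrank_mul_finrank k E L
  refine ⟨IntermediateField.lift E, ?_, ?_⟩
  · exact (IntermediateField.liftAlgEquiv E).toLinearEquiv.finiteDimensional
  · rw [← (IntermediateField.liftAlgEquiv E).toLinearEquiv.finrank_eq, ← h1, h2]

lemma finrank_ne_one_of_ne_bot (F : IntermediateField k K) (hF : F ≠ ⊥) :
    Module.finrank k F ≠ 1 := by
  intro h
  exact hF (IntermediateField.finrank_eq_one_iff.mp h)

lemma ne_bot_of_finrank_ne_one (F : IntermediateField k K) (hF : Module.finrank k F ≠ 1) :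
    F ≠ ⊥ := by
  intro h
  exact hF (IntermediateField.finrank_eq_one_iff.mpr h)

/-- Statement S17743. -/
theorem ptNorm_eq_top (L : IntermediateField k K) [FiniteDimensional k L] [IsGalois k L]
    (hL : ∀ p n : ℕ, p.Prime → Module.finrank k L ≠ p ^ n) :
    QsChow.ptNormSubgroup k K = ⊤ := by
  rw [ptNormSubgroup_eq_top_iff]
  obtain ⟨N, hN⟩ : ∃ N, N = Module.finrank k L := ⟨_, rfl⟩
  have hN0 : 0 < N := by rw [hN]; exact Module.finrank_pos
  have hN1 : N ≠ 1 := by
    have := hL 2 0 Nat.prime_two
    rw [pow_zero] at this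
    rw [hN]; exact this
  -- for every prime divisor of `N` a member of the subgroup
  have key : ∀ p : ℕ, p.Prime → ∃ d : ℕ, d * p ^ N.factorization p = N ∧
      (d : ℤ) ∈ AddSubgroup.closure (degSet k K) := by
    intro p hp
    haveI : Fact p.Prime := ⟨hp⟩
    obtain ⟨F, hF, hd⟩ := exists_intermediateField k K L p (N.factorization p)
      (by rw [← hN]; exact Nat.ordProj_dvd N p)
    refine ⟨Module.finrank k F, by rw [hd, hN], ?_⟩
    apply AddSubgroup.subset_closure
    refine ⟨F, hF, ne_bot_of_finrank_ne_one k K F ?_, rfl⟩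
    intro h1
    rw [h1, one_mul] at hd
    exact hL p _ hp hd.symm
  obtain ⟨g, hg⟩ := Int.subgroup_cyclic (AddSubgroup.closure (degSet k K))
  rw [← AddSubgroup.zmultiples_eq_closure] at hg
  have hdvd : ∀ p : ℕ, p.Prime → ∃ d : ℕ, d * p ^ N.factorization p = N ∧ g ∣ (d : ℤ) := by
    intro p hp
    obtain ⟨d, hd, hmem⟩ := key p hp
    rw [hg, Int.mem_zmultiples_iff] at hmem
    exact ⟨d, hd, hmem⟩
  have hg1 : g.natAbs = 1 := by
    by_contra hne
    obtain ⟨d0, hd0, hgd0⟩ := hdvd N.minFac (Nat.minFac_prime hN1)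
    have hd0N : d0 ∣ N := ⟨_, hd0.symm⟩
    have hgN : g.natAbs ∣ N := by
      have : g.natAbs ∣ d0 := by
        have := Int.natAbs_dvd_natAbs.mpr hgd0
        simpa using this
      exact this.trans hd0N
    obtain ⟨q, hq, hqg⟩ := Nat.exists_prime_and_dvd hne
    obtain ⟨d, hd, hgd⟩ := hdvd q hq
    have hqd : q ∣ d := by
      have h1 : g.natAbs ∣ d := by
        have := Int.natAbs_dvd_natAbs.mpr hgd
        simpa using this
      exact hqg.trans h1
    obtain ⟨v, hv⟩ : ∃ v, v = N.factorization q := ⟨_, rfl⟩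
    rw [← hv] at hd
    have : q ^ (v + 1) ∣ N := by
      obtain ⟨c, hc⟩ := hqd
      refine ⟨c, ?_⟩
      rw [← hd, hc, pow_succ]; ring
    rw [hv] at this
    exact Nat.pow_succ_factorization_not_dvd (by omega) hq this
  rw [hg, eq_top_iff]
  intro x _
  rw [Int.mem_zmultiples_iff]
  exact Int.natAbs_dvd_natAbs.mp (by rw [hg1]; exact one_dvd _)

/-- Statement S17744. -/
theorem ptNorm_index (L : IntermediateField k K) [FiniteDimensional k L] [IsGalois k L]
    (p n : ℕ) (hp : p.Prime) (hn : 1 ≤ n) (hL : Module.finrank k L = p ^ n)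
    (hF : ∀ F : IntermediateField k K, FiniteDimensional k F →
      ∃ e : ℕ, Module.finrank k F = p ^ e) :
    (QsChow.ptNormSubgroup k K).index = p := by
  rw [index_ptNormSubgroup]
  have : Fact p.Prime := ⟨hp⟩
  have hcl : AddSubgroup.closure (degSet k K) = AddSubgroup.zmultiples (p : ℤ) := by
    apply le_antisymm
    · rw [AddSubgroup.closure_le]
      rintro _ ⟨F, hFfin, hne, rfl⟩
      obtain ⟨e, he⟩ := hF F hFfin
      rw [SetLike.mem_coe, Int.mem_zmultiples_iff, he]
      have he0 : e ≠ 0 := by
        intro h0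
        rw [h0, pow_zero] at he
        exact finrank_ne_one_of_ne_bot k K F hne he
      obtain ⟨e', rfl⟩ := Nat.exists_eq_succ_of_ne_zero he0
      push_cast
      exact dvd_pow_self _ (Nat.succ_ne_zero _)
    · apply AddSubgroup.zmultiples_le_of_mem
      obtain ⟨F, hFfin, hd⟩ := exists_intermediateField k K L p (n - 1)
        (by rw [hL]; exact pow_dvd_pow p (by omega))
      have hFp : Module.finrank k F = p := by
        rw [hL] at hd
        have e : p ^ n = p * p ^ (n - 1) := by
          rw [← pow_succ']; congr 1; omega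
        rw [e] at hd
        exact Nat.eq_of_mul_eq_mul_right (pow_pos hp.pos _) hd
      apply AddSubgroup.subset_closure
      refine ⟨F, hFfin, ne_bot_of_finrank_ne_one k K F ?_, by rw [hFp]⟩
      rw [hFp]; exact hp.one_lt.ne'
  rw [hcl, Int.index_zmultiples, Int.natAbs_natCast]

end Groth.Agent.Lib.Seat65.PtNormB
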