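import Groth.Prelude.Def_CAlgX
import Mathlib.LinearAlgebra.TensorProduct.RightExactness
import Mathlib.LinearAlgebra.Isomorphisms

/-!
# Pure (universally exact) sequences of modules: concrete lemmas

`CAlgX.UniversallyInjective` is the frozen notion.  Here: the range of a map in a sequence which
stays exact after every tensor product is a pure submodule; lifting against pure epimorphisms and
extension along pure monomorphisms in the exact form used for comparison of resolutions.
-/

set_option autoImplicit false
universe u

namespace Groth.Agent.Lib.Seat65.PureA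

open CAlgX TensorProduct

variable {R : Type u} [CommRing R]

/-- The lifting property defining pure projective modules (frozen form used by the statements). -/
def PureProj (R : Type u) [CommRing R] (P : Type u) [AddCommGroup P] [Module R P] : Prop :=
  ∀ ⦃L T : Type u⦄ [AddCommGroup L] [Module R L] [AddCommGroup T] [Module R T] (g : L →ₗ[R] T),
    Function.Surjective g → CAlgX.UniversallyInjective R (LinearMap.ker g).subtype →
      ∀ φ : P →ₗ[R] T, ∃ ψ : P →ₗ[R] L, g ∘ₗ ψ = φ

/-- The extension property defining pure injective modules (frozen form used by the statements). -/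
def PureInj (R : Type u) [CommRing R] (J : Type u) [AddCommGroup J] [Module R J] : Prop :=
  ∀ ⦃K L : Type u⦄ [AddCommGroup K] [Module R K] [AddCommGroup L] [Module R L] (g : K →ₗ[R] L),
    CAlgX.UniversallyInjective R g → ∀ φ : K →ₗ[R] J, ∃ ψ : L →ₗ[R] J, ψ ∘ₗ g = φ

section

variable {A'' A' A : Type u} [AddCommGroup A''] [Module R A''] [AddCommGroup A'] [Module R A']
  [AddCommGroup A] [Module R A]

/-- A pair of composable maps is *universally exact* when the kernel of the second is contained in
the range of the first after every tensor product. -/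
def UnivExact (e' : A'' →ₗ[R] A') (e : A' →ₗ[R] A) : Prop :=
  ∀ (Q : Type u) [AddCommGroup Q] [Module R Q],
    LinearMap.ker (e.rTensor Q) ≤ LinearMap.range (e'.rTensor Q)

/-- Universally exact pairs are exact. -/
theorem UnivExact.ker_le_range {e' : A'' →ₗ[R] A'} {e : A' →ₗ[R] A} (h : UnivExact e' e) :
    LinearMap.ker e ≤ LinearMap.range e' := by
  intro x hx
  have hx' : (x ⊗ₜ[R] (1 : R)) ∈ LinearMap.ker (e.rTensor R) := by
    simp [LinearMap.mem_ker.mp hx]
  obtain ⟨y, hy⟩ := h R hx'
  refine ⟨TensorProduct.rid R A'' y, ?_⟩
  have key : ∀ y : A'' ⊗[R] R,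
      TensorProduct.rid R A' ((e'.rTensor R) y) = e' (TensorProduct.rid R A'' y) := by
    intro y
    induction y using TensorProduct.induction_on with
    | zero => simp
    | tmul a r => simp
    | add a b ha hb => simp [ha, hb]
  rw [← key, hy]
  simp

/-- A map which is surjective after tensoring with the ring is surjective. -/
theorem surjective_of_rTensor_ring {e : A' →ₗ[R] A}
    (h : Function.Surjective (e.rTensor R)) : Function.Surjective e := by
  intro z
  obtain ⟨y, hy⟩ := h (z ⊗ₜ[R] (1 : R))
  refine ⟨TensorProduct.rid R A' y, ?_⟩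
  have key : ∀ y : A' ⊗[R] R,
      TensorProduct.rid R A ((e.rTensor R) y) = e (TensorProduct.rid R A' y) := by
    intro y
    induction y using TensorProduct.induction_on with
    | zero => simp
    | tmul a r => simp
    | add a b ha hb => simp [ha, hb]
  rw [← key, hy]
  simp

/-- A map which is injective after tensoring with the ring is injective. -/
theorem injective_of_rTensor_ring {e : A' →ₗ[R] A}
    (h : Function.Injective (e.rTensor R)) : Function.Injective e := by
  intro x y hxy
  have : (x ⊗ₜ[R] (1 : R) : A' ⊗[R] R) = y ⊗ₜ[R] (1 : R) := by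
    apply h
    simp [hxy]
  simpa using congrArg (TensorProduct.rid R A') this

/-- In a universally exact pair with zero composite, the range of the second map is a pure
submodule. -/
theorem univInj_range_subtype {e' : A'' →ₗ[R] A'} {e : A' →ₗ[R] A} (h0 : e ∘ₗ e' = 0)
    (h : UnivExact e' e) : UniversallyInjective R (LinearMap.range e).subtype := by
  intro Q _ _
  rw [← LinearMap.ker_eq_bot, eq_bot_iff]
  intro z hz
  have hsurj : Function.Surjective (e.rangeRestrict.rTensor Q) :=
    LinearMap.rTensor_surjective Q e.surjective_rangeRestrict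
  obtain ⟨a', rfl⟩ := hsurj z
  have h1 : (e.rTensor Q) a' = 0 := by
    have : e = (LinearMap.range e).subtype ∘ₗ e.rangeRestrict := by
      ext x; rfl
    rw [this, LinearMap.rTensor_comp]
    exact hz
  obtain ⟨a'', rfl⟩ := h Q (LinearMap.mem_ker.mpr h1)
  have h2 : e.rangeRestrict ∘ₗ e' = 0 := by
    ext x
    simpa using LinearMap.congr_fun h0 x
  rw [Submodule.mem_bot, ← LinearMap.comp_apply, ← LinearMap.rTensor_comp, h2]
  simp

/-- A map is universally injective iff it forms a universally exact pair with the zero map from
the zero module. -/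
theorem univExact_zero_iff {e : A' →ₗ[R] A} :
    UnivExact (0 : PUnit.{u + 1} →ₗ[R] A') e ↔ UniversallyInjective R e := by
  constructor
  · intro h Q _ _
    rw [← LinearMap.ker_eq_bot, eq_bot_iff]
    intro z hz
    obtain ⟨y, rfl⟩ := h Q hz
    simp
  · intro h Q _ _ z hz
    have : z = 0 := h Q (by simpa using hz)
    subst this
    exact Submodule.zero_mem _

variable {A3 : Type u} [AddCommGroup A3] [Module R A3]

/-- Lifting from a pure projective module: in a sequence `A3 → A'' → A' → A` with zero
composites, universally exact at `A''` and exact at `A'`, a map `P → A` with values in the range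
of `A' → A` lifts to `A'`. -/
theorem exists_lift {P : Type u} [AddCommGroup P] [Module R P] (hP : PureProj R P)
    {e'' : A3 →ₗ[R] A''} {e' : A'' →ₗ[R] A'} {e : A' →ₗ[R] A} (h0 : e' ∘ₗ e'' = 0)
    (h1 : UnivExact e'' e') (h2 : e ∘ₗ e' = 0) (h3 : LinearMap.ker e ≤ LinearMap.range e')
    (φ : P →ₗ[R] A) (hφ : ∀ x, φ x ∈ LinearMap.range e) : ∃ ψ : P →ₗ[R] A', e ∘ₗ ψ = φ := by
  have hker : LinearMap.ker e.rangeRestrict = LinearMap.range e' := by
    apply le_antisymm
    · intro x hx
      apply h3
      have := congrArg Subtype.val (LinearMap.mem_ker.mp hx)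
      simpa using this
    · rintro _ ⟨y, rfl⟩
      rw [LinearMap.mem_ker]
      apply Subtype.ext
      simpa using LinearMap.congr_fun h2 y
  have hui : UniversallyInjective R (LinearMap.ker e.rangeRestrict).subtype := by
    rw [hker]
    exact univInj_range_subtype h0 h1
  obtain ⟨ψ, hψ⟩ := hP e.rangeRestrict e.surjective_rangeRestrict hui
    (φ.codRestrict (LinearMap.range e) hφ)
  refine ⟨ψ, ?_⟩
  ext x
  have := congrArg Subtype.val (LinearMap.congr_fun hψ x)
  simpa using this

/-- Extension into a pure injective module: in a universally exact pair `A'' → A' → A` with zero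
composite, a map `A' → J` killing the image of `A''` extends along `A' → A`. -/
theorem exists_ext {J : Type u} [AddCommGroup J] [Module R J] (hJ : PureInj R J)
    {e' : A'' →ₗ[R] A'} {e : A' →ₗ[R] A} (h0 : e ∘ₗ e' = 0) (h : UnivExact e' e)
    (ψ : A' →ₗ[R] J) (hψ : ψ ∘ₗ e' = 0) : ∃ χ : A →ₗ[R] J, χ ∘ₗ e = ψ := by
  have hker : LinearMap.ker e ≤ LinearMap.ker ψ := by
    intro x hx
    obtain ⟨y, rfl⟩ := h.ker_le_range hx
    simpa using LinearMap.congr_fun hψ y
  -- the induced map on the range of `e`
  let ψbar : LinearMap.range e →ₗ[R] J :=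
    (LinearMap.ker e).liftQ ψ hker ∘ₗ (e.quotKerEquivRange).symm.toLinearMap
  obtain ⟨χ, hχ⟩ := hJ (LinearMap.range e).subtype (univInj_range_subtype h0 h) ψbar
  refine ⟨χ, ?_⟩
  ext x
  have h1 := LinearMap.congr_fun hχ ⟨e x, x, rfl⟩
  have h2 : (e.quotKerEquivRange).symm ⟨e x, x, rfl⟩ = Submodule.Quotient.mk x := by
    rw [LinearEquiv.symm_apply_eq]
    rfl
  simp only [LinearMap.coe_comp, Function.comp_apply, Submodule.coe_subtype] at h1
  rw [LinearMap.comp_apply, h1]
  simp [ψbar, h2]

end

end Groth.Agent.Lib.Seat65.PureA
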