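import Groth.Agent.Lib.Seat65PureA
import Mathlib.Algebra.Category.ModuleCat.Monoidal.Basic
import Mathlib.CategoryTheory.Monoidal.Preadditive
import Mathlib.Algebra.Homology.QuasiIso
import Mathlib.Algebra.Homology.SingleHomology
import Mathlib.Algebra.Homology.Additive
import Mathlib.Algebra.Homology.Homotopy
import Mathlib.Algebra.Category.ModuleCat.Abelian
import Mathlib.Algebra.Homology.ShortComplex.ModuleCat

/-!
# Augmented (co)chain complexes quasi-isomorphic to a single object: exactness consequences
-/

set_option autoImplicit false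
universe v u

namespace Groth.Agent.Lib.Seat65.PureB

open CategoryTheory Category Limits HomologicalComplex

section General

variable {C : Type u} [Category.{v} C] [Abelian C]

section Chain

variable (K : ChainComplex C ℕ) {Z : C} (π : K ⟶ (ChainComplex.single₀ C).obj Z)

theorem chain_d_comp_π : K.d 1 0 ≫ π.f 0 = 0 := by
  rw [← π.comm 1 0, single_obj_d, comp_zero]

variable [QuasiIso π]

include π in
lemma chain_exactAt_succ (n : ℕ) : K.ExactAt (n + 1) := by
  rw [← quasiIsoAt_iff_exactAt' π (n + 1) (ChainComplex.exactAt_succ_single_obj _ _)]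
  infer_instance

include π in
lemma chain_exact_succ (n : ℕ) :
    (ShortComplex.mk _ _ (K.d_comp_d (n + 2) (n + 1) n)).Exact :=
  ((HomologicalComplex.exactAt_iff' _ (n + 2) (n + 1) n) (by simp only [ChainComplex.prev]; rfl)
    (by simp)).1 (chain_exactAt_succ K π n)

set_option backward.isDefEq.respectTransparency.types false in
set_option backward.defeqAttrib.useBackward true in
/-- `Z` is the cokernel of `K.X 1 ⟶ K.X 0`. -/
noncomputable def chainIsColimitCokernelCofork :
    IsColimit (CokernelCofork.ofπ _ (chain_d_comp_π K π)) := by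
  refine IsColimit.ofIsoColimit (K.opcyclesIsCokernel 1 0 (by simp)) ?_
  refine Cofork.ext (K.isoHomologyι₀.symm ≪≫ isoOfQuasiIsoAt π 0 ≪≫
    singleObjHomologySelfIso _ _ _) ?_
  rw [← cancel_mono (singleObjHomologySelfIso (ComplexShape.down ℕ) 0 _).inv,
    ← cancel_mono (ChainComplex.isoHomologyι₀ _).hom]
  dsimp
  simp only [ChainComplex.isoHomologyι₀_inv_naturality_assoc, p_opcyclesMap_assoc,
    ChainComplex.single₀_obj_zero, assoc,
    Iso.hom_inv_id, comp_id, isoHomologyι_inv_hom_id, singleObjHomologySelfIso_inv_homologyι,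
    singleObjOpcyclesSelfIso_hom, ChainComplex.single₀ObjXSelf, Iso.refl_inv, id_comp]

lemma chain_epi_π_zero : Epi (π.f 0) :=
  epi_of_isColimit_cofork (chainIsColimitCokernelCofork K π)

lemma chain_exact₀ : (ShortComplex.mk _ _ (chain_d_comp_π K π)).Exact :=
  ShortComplex.exact_of_g_is_cokernel _ (chainIsColimitCokernelCofork K π)

end Chain

section Cochain

variable (K : CochainComplex C ℕ) {Z : C} (ι : (CochainComplex.single₀ C).obj Z ⟶ K)

theorem cochain_ι_comp_d : ι.f 0 ≫ K.d 0 1 = 0 := by
  rw [ι.comm 0 1, single_obj_d, zero_comp]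

variable [QuasiIso ι]

include ι in
lemma cochain_exactAt_succ (n : ℕ) : K.ExactAt (n + 1) := by
  rw [← quasiIsoAt_iff_exactAt ι (n + 1) (CochainComplex.exactAt_succ_single_obj _ _)]
  infer_instance

include ι in
lemma cochain_exact_succ (n : ℕ) :
    (ShortComplex.mk _ _ (K.d_comp_d n (n + 1) (n + 2))).Exact :=
  (HomologicalComplex.exactAt_iff' _ n (n + 1) (n + 2) (by simp)
    (by simp only [CochainComplex.next]; rfl)).1 (cochain_exactAt_succ K ι n)

set_option backward.defeqAttrib.useBackward true in
set_option backward.isDefEq.respectTransparency false in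
/-- `Z` is the kernel of `K.X 0 ⟶ K.X 1`. -/
noncomputable def cochainIsLimitKernelFork :
    IsLimit (KernelFork.ofι _ (cochain_ι_comp_d K ι)) := by
  refine IsLimit.ofIsoLimit (K.cyclesIsKernel 0 1 (by simp)) (Iso.symm ?_)
  refine Fork.ext ((singleObjHomologySelfIso _ _ _).symm ≪≫
    isoOfQuasiIsoAt ι 0 ≪≫ K.isoHomologyπ₀.symm) ?_
  rw [← cancel_epi (singleObjHomologySelfIso (ComplexShape.up ℕ) _ _).hom,
    ← cancel_epi (CochainComplex.isoHomologyπ₀ _).hom,
    ← cancel_epi (singleObjCyclesSelfIso (ComplexShape.up ℕ) _ _).inv]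
  simp

lemma cochain_mono_ι_zero : Mono (ι.f 0) :=
  mono_of_isLimit_fork (cochainIsLimitKernelFork K ι)

lemma cochain_exact₀ : (ShortComplex.mk _ _ (cochain_ι_comp_d K ι)).Exact :=
  ShortComplex.exact_of_f_is_kernel _ (cochainIsLimitKernelFork K ι)

end Cochain

end General

section ModuleCat

open MonoidalCategory TensorProduct Groth.Agent.Lib.Seat65.PureA

variable {R : Type u} [CommRing R]

/-- A short complex of modules of the form `F.map f`, `F.map g` with `F = - ⊗ T`, when exact, gives
the containment `ker (g ⊗ Q) ≤ range (f ⊗ Q)`. -/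
lemma ker_le_range_of_exact {X₁ X₂ X₃ : ModuleCat.{u} R} {f : X₁ ⟶ X₂} {g : X₂ ⟶ X₃}
    (Q : Type u) [AddCommGroup Q] [Module R Q]
    (w : (tensorRight (ModuleCat.of R Q)).map f ≫ (tensorRight (ModuleCat.of R Q)).map g = 0)
    (h : (ShortComplex.mk _ _ w).Exact) :
    LinearMap.ker (g.hom.rTensor Q) ≤ LinearMap.range (f.hom.rTensor Q) := by
  rw [ShortComplex.moduleCat_exact_iff] at h
  intro x hx
  obtain ⟨y, hy⟩ := h x (LinearMap.mem_ker.mp hx)
  exact ⟨y, hy⟩

section Chain

variable (K : ChainComplex (ModuleCat.{u} R) ℕ) {Z : ModuleCat.{u} R}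
  (π : K ⟶ (ChainComplex.single₀ (ModuleCat.{u} R)).obj Z)

/-- The tensored augmentation as a map to a `single₀` complex. -/
noncomputable def chainTensorAug (T : ModuleCat.{u} R) :
    ((tensorRight T).mapHomologicalComplex (ComplexShape.down ℕ)).obj K ⟶
      (ChainComplex.single₀ (ModuleCat.{u} R)).obj ((tensorRight T).obj Z) :=
  ((tensorRight T).mapHomologicalComplex (ComplexShape.down ℕ)).map π ≫
    (HomologicalComplex.singleMapHomologicalComplex (tensorRight T) (ComplexShape.down ℕ) 0).hom.app Z

lemma chainTensorAug_quasiIso (T : ModuleCat.{u} R)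
    (h : QuasiIso (((tensorRight T).mapHomologicalComplex (ComplexShape.down ℕ)).map π)) :
    QuasiIso (chainTensorAug K π T) := by
  unfold chainTensorAug
  infer_instance

variable (hπ : ∀ T : ModuleCat.{u} R,
  QuasiIso (((tensorRight T).mapHomologicalComplex (ComplexShape.down ℕ)).map π))

include hπ

theorem chain_univExact_succ (n : ℕ) :
    UnivExact (K.d (n + 2) (n + 1)).hom (K.d (n + 1) n).hom := by
  intro Q _ _
  have := chainTensorAug_quasiIso K π (ModuleCat.of R Q) (hπ _)
  have := chain_exact_succ _ (chainTensorAug K π (ModuleCat.of R Q)) n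
  exact ker_le_range_of_exact Q _ this

theorem chain_univExact_zero :
    UnivExact (K.d 1 0).hom (π.f 0).hom := by
  intro Q _ _
  have := chainTensorAug_quasiIso K π (ModuleCat.of R Q) (hπ _)
  have h := chain_exact₀ _ (chainTensorAug K π (ModuleCat.of R Q))
  rw [ShortComplex.moduleCat_exact_iff] at h
  intro x hx
  have hx' : (chainTensorAug K π (ModuleCat.of R Q)).f 0 x = 0 := by
    have h0 : ((π.f 0).hom.rTensor Q) x = 0 := hx
    have h1 : (chainTensorAug K π (ModuleCat.of R Q)).f 0 x =
        (((HomologicalComplex.singleMapHomologicalComplex (tensorRight (ModuleCat.of R Q))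
          (ComplexShape.down ℕ) 0).hom.app Z).f 0).hom (((π.f 0).hom.rTensor Q) x) := rfl
    rw [h1]
    exact (congrArg (fun z => (((HomologicalComplex.singleMapHomologicalComplex
      (tensorRight (ModuleCat.of R Q)) (ComplexShape.down ℕ) 0).hom.app Z).f 0).hom z) h0).trans
      (map_zero _)
  obtain ⟨y, hy⟩ := h x hx'
  exact ⟨y, hy⟩

theorem chain_surjective_zero : Function.Surjective (π.f 0).hom := by
  have := chainTensorAug_quasiIso K π (ModuleCat.of R R) (hπ _)
  have h := chain_epi_π_zero _ (chainTensorAug K π (ModuleCat.of R R))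
  have h2 : Epi ((tensorRight (ModuleCat.of R R)).map (π.f 0)) := by
    have : (chainTensorAug K π (ModuleCat.of R R)).f 0 =
        (tensorRight (ModuleCat.of R R)).map (π.f 0) ≫
        ((HomologicalComplex.singleMapHomologicalComplex (tensorRight (ModuleCat.of R R))
          (ComplexShape.down ℕ) 0).hom.app Z).f 0 := rfl
    rw [this] at h
    simp only [HomologicalComplex.singleMapHomologicalComplex_hom_app_self] at h
    simp at h
    exact h
  rw [ModuleCat.epi_iff_surjective] at h2
  exact surjective_of_rTensor_ring h2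

end Chain

section Cochain

variable (K : CochainComplex (ModuleCat.{u} R) ℕ) {Z : ModuleCat.{u} R}
  (ι : (CochainComplex.single₀ (ModuleCat.{u} R)).obj Z ⟶ K)

/-- The tensored coaugmentation as a map from a `single₀` complex. -/
noncomputable def cochainTensorAug (T : ModuleCat.{u} R) :
    (CochainComplex.single₀ (ModuleCat.{u} R)).obj ((tensorRight T).obj Z) ⟶
    ((tensorRight T).mapHomologicalComplex (ComplexShape.up ℕ)).obj K :=
  (HomologicalComplex.singleMapHomologicalComplex (tensorRight T) (ComplexShape.up ℕ) 0).inv.app Z ≫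
    ((tensorRight T).mapHomologicalComplex (ComplexShape.up ℕ)).map ι

lemma cochainTensorAug_quasiIso (T : ModuleCat.{u} R)
    (h : QuasiIso (((tensorRight T).mapHomologicalComplex (ComplexShape.up ℕ)).map ι)) :
    QuasiIso (cochainTensorAug K ι T) := by
  unfold cochainTensorAug
  infer_instance

variable (hι : ∀ T : ModuleCat.{u} R,
  QuasiIso (((tensorRight T).mapHomologicalComplex (ComplexShape.up ℕ)).map ι))

include hι

theorem cochain_univExact_succ (n : ℕ) :
    UnivExact (K.d n (n + 1)).hom (K.d (n + 1) (n + 2)).hom := by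
  intro Q _ _
  have := cochainTensorAug_quasiIso K ι (ModuleCat.of R Q) (hι _)
  have := cochain_exact_succ _ (cochainTensorAug K ι (ModuleCat.of R Q)) n
  exact ker_le_range_of_exact Q _ this

theorem cochain_univExact_zero :
    UnivExact (ι.f 0).hom (K.d 0 1).hom := by
  intro Q _ _
  have := cochainTensorAug_quasiIso K ι (ModuleCat.of R Q) (hι _)
  have h := cochain_exact₀ _ (cochainTensorAug K ι (ModuleCat.of R Q))
  rw [ShortComplex.moduleCat_exact_iff] at h
  intro x hx
  obtain ⟨y, hy⟩ := h x (LinearMap.mem_ker.mp hx)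
  have h1 : (cochainTensorAug K ι (ModuleCat.of R Q)).f 0 y =
      ((ι.f 0).hom.rTensor Q) ((((HomologicalComplex.singleMapHomologicalComplex
        (tensorRight (ModuleCat.of R Q)) (ComplexShape.up ℕ) 0).inv.app Z).f 0).hom y) := rfl
  exact ⟨_, h1.symm.trans hy⟩

theorem cochain_univInj_zero : CAlgX.UniversallyInjective R (ι.f 0).hom := by
  intro Q _ _
  have := cochainTensorAug_quasiIso K ι (ModuleCat.of R Q) (hι _)
  have h := cochain_mono_ι_zero _ (cochainTensorAug K ι (ModuleCat.of R Q))
  have h2 : Mono ((tensorRight (ModuleCat.of R Q)).map (ι.f 0)) := by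
    have : (cochainTensorAug K ι (ModuleCat.of R Q)).f 0 =
        ((HomologicalComplex.singleMapHomologicalComplex (tensorRight (ModuleCat.of R Q))
          (ComplexShape.up ℕ) 0).inv.app Z).f 0 ≫
        (tensorRight (ModuleCat.of R Q)).map (ι.f 0) := rfl
    rw [this] at h
    simp only [HomologicalComplex.singleMapHomologicalComplex_inv_app_self] at h
    simp at h
    exact h
  rw [ModuleCat.mono_iff_injective] at h2
  exact h2

end Cochain

end ModuleCat

end Groth.Agent.Lib.Seat65.PureB
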