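import Groth.Agent.Lib.Seat65PureB

/-!
# Comparison theorems for pure projective / pure injective resolutions
-/

set_option autoImplicit false
universe u

namespace Groth.Agent.Lib.Seat65.PureC

open CategoryTheory Category Limits HomologicalComplex MonoidalCategory
open Groth.Agent.Lib.Seat65.PureA Groth.Agent.Lib.Seat65.PureB

variable {R : Type u} [CommRing R]

section Chain

variable {M N : ModuleCat.{u} R} (f : M ⟶ N) (P N' : ChainComplex (ModuleCat.{u} R) ℕ)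
  (π : P ⟶ (ChainComplex.single₀ (ModuleCat.{u} R)).obj M)
  (ε : N' ⟶ (ChainComplex.single₀ (ModuleCat.{u} R)).obj N)
  (hP : ∀ n : ℕ, PureProj R (P.X n))
  (hN' : ∀ T : ModuleCat.{u} R,
    QuasiIso (((tensorRight T).mapHomologicalComplex (ComplexShape.down ℕ)).map ε))

include hN'

include hP in
/-- Degree `0` of the lift. -/
lemma exists_lift_zero (g : P.X 0 ⟶ ((ChainComplex.single₀ (ModuleCat.{u} R)).obj N).X 0) :
    ∃ z : P.X 0 ⟶ N'.X 0, z ≫ ε.f 0 = g := by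
  obtain ⟨ψ, hψ⟩ := exists_lift (hP 0)
    (e'' := (N'.d 2 1).hom) (e' := (N'.d 1 0).hom) (e := (ε.f 0).hom)
    (by rw [← ModuleCat.hom_comp, N'.d_comp_d]; rfl)
    (chain_univExact_succ N' ε hN' 0)
    (by rw [← ModuleCat.hom_comp, chain_d_comp_π]; rfl)
    (chain_univExact_zero N' ε hN').ker_le_range
    g.hom (fun x => chain_surjective_zero N' ε hN' _)
  exact ⟨ModuleCat.ofHom ψ, ModuleCat.hom_ext hψ⟩

/-- Lifting a map into `N'.X 0` killed by the augmentation. -/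
lemma exists_lift_one {X : ModuleCat.{u} R} (hX : PureProj R X) (g : X ⟶ N'.X 0)
    (hg : g ≫ ε.f 0 = 0) : ∃ z : X ⟶ N'.X 1, z ≫ N'.d 1 0 = g := by
  obtain ⟨ψ, hψ⟩ := exists_lift hX
    (e'' := (N'.d 3 2).hom) (e' := (N'.d 2 1).hom) (e := (N'.d 1 0).hom)
    (by rw [← ModuleCat.hom_comp, N'.d_comp_d]; rfl)
    (chain_univExact_succ N' ε hN' 1)
    (by rw [← ModuleCat.hom_comp, N'.d_comp_d]; rfl)
    (chain_univExact_succ N' ε hN' 0).ker_le_range
    g.hom (fun x => (chain_univExact_zero N' ε hN').ker_le_range (by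
      rw [LinearMap.mem_ker]
      exact congrArg (fun k => k.hom x) hg))
  exact ⟨ModuleCat.ofHom ψ, ModuleCat.hom_ext hψ⟩

/-- Lifting a map into `N'.X (n+1)` killed by the differential. -/
lemma exists_lift_succ {X : ModuleCat.{u} R} (hX : PureProj R X) (n : ℕ) (g : X ⟶ N'.X (n + 1))
    (hg : g ≫ N'.d (n + 1) n = 0) : ∃ z : X ⟶ N'.X (n + 2), z ≫ N'.d (n + 2) (n + 1) = g := by
  obtain ⟨ψ, hψ⟩ := exists_lift hX
    (e'' := (N'.d (n + 4) (n + 3)).hom) (e' := (N'.d (n + 3) (n + 2)).hom)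
    (e := (N'.d (n + 2) (n + 1)).hom)
    (by rw [← ModuleCat.hom_comp, N'.d_comp_d]; rfl)
    (chain_univExact_succ N' ε hN' (n + 2))
    (by rw [← ModuleCat.hom_comp, N'.d_comp_d]; rfl)
    (chain_univExact_succ N' ε hN' (n + 1)).ker_le_range
    g.hom (fun x => (chain_univExact_succ N' ε hN' n).ker_le_range (by
      rw [LinearMap.mem_ker]
      exact congrArg (fun k => k.hom x) hg))
  exact ⟨ModuleCat.ofHom ψ, ModuleCat.hom_ext hψ⟩

include hP in
theorem exists_chainMap :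
    ∃ φ : P ⟶ N', φ ≫ ε = π ≫ (ChainComplex.single₀ (ModuleCat.{u} R)).map f := by
  obtain ⟨z, hz⟩ := exists_lift_zero P N' ε hP hN'
    (π.f 0 ≫ ((ChainComplex.single₀ (ModuleCat.{u} R)).map f).f 0)
  obtain ⟨o, ho⟩ := exists_lift_one N' ε hN' (hP 1) (P.d 1 0 ≫ z) (by
    rw [assoc, hz, ← assoc, chain_d_comp_π, zero_comp])
  refine ⟨ChainComplex.mkHom P N' z o ho (fun n p => ?_), ?_⟩
  · have := exists_lift_succ N' ε hN' (hP (n + 2)) n (P.d (n + 2) (n + 1) ≫ p.2.1) (by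
      rw [assoc, p.2.2, ← assoc, P.d_comp_d, zero_comp])
    exact ⟨this.choose, this.choose_spec⟩
  · apply HomologicalComplex.to_single_hom_ext
    simp only [HomologicalComplex.comp_f, ChainComplex.mkHom_f_0]
    exact hz

include hP in
theorem exists_homotopy (α β : P ⟶ N')
    (hα : α ≫ ε = π ≫ (ChainComplex.single₀ (ModuleCat.{u} R)).map f)
    (hβ : β ≫ ε = π ≫ (ChainComplex.single₀ (ModuleCat.{u} R)).map f) :
    Nonempty (Homotopy α β) := by
  have he : (α - β) ≫ ε = 0 := by rw [Preadditive.sub_comp, hα, hβ, sub_self]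
  obtain ⟨z, hz⟩ := exists_lift_one N' ε hN' (hP 0) ((α - β).f 0) (by
    rw [← HomologicalComplex.comp_f, he]; rfl)
  obtain ⟨o, ho⟩ := exists_lift_succ N' ε hN' (hP 1) 0 ((α - β).f 1 - P.d 1 0 ≫ z) (by
    rw [Preadditive.sub_comp, assoc, hz, (α - β).comm 1 0, sub_self])
  refine ⟨Homotopy.equivSubZero.symm (Homotopy.mkInductive (α - β) z hz.symm o ?_ ?_)⟩
  · rw [ho]; abel
  · rintro n ⟨p1, p2, h2⟩
    have := exists_lift_succ N' ε hN' (hP (n + 2)) (n + 1)
      ((α - β).f (n + 2) - P.d (n + 2) (n + 1) ≫ p2) (by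
        rw [Preadditive.sub_comp, assoc, (α - β).comm (n + 2) (n + 1)]
        have h3 : p2 ≫ N'.d (n + 2) (n + 1) = (α - β).f (n + 1) - P.d (n + 1) n ≫ p1 := by
          rw [h2]; abel
        rw [h3, Preadditive.comp_sub, ← assoc (P.d (n + 2) (n + 1)), P.d_comp_d, zero_comp,
          sub_zero, sub_self])
    exact ⟨this.choose, by rw [this.choose_spec]; abel⟩

end Chain

section Cochain

variable {M N : ModuleCat.{u} R} (f : M ⟶ N) (M' I : CochainComplex (ModuleCat.{u} R) ℕ)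
  (η : (CochainComplex.single₀ (ModuleCat.{u} R)).obj M ⟶ M')
  (ε : (CochainComplex.single₀ (ModuleCat.{u} R)).obj N ⟶ I)
  (hM' : ∀ T : ModuleCat.{u} R,
    QuasiIso (((tensorRight T).mapHomologicalComplex (ComplexShape.up ℕ)).map η))
  (hI : ∀ n : ℕ, PureInj R (I.X n))

include hM'

/-- Degree `0` of the extension. -/
lemma exists_ext_zero {J : ModuleCat.{u} R} (hJ : PureInj R J)
    (g : ((CochainComplex.single₀ (ModuleCat.{u} R)).obj M).X 0 ⟶ J) :
    ∃ z : M'.X 0 ⟶ J, η.f 0 ≫ z = g := by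
  obtain ⟨χ, hχ⟩ := exists_ext hJ
    (e' := (0 : PUnit.{u + 1} →ₗ[R] _)) (e := (η.f 0).hom)
    (LinearMap.comp_zero _)
    (univExact_zero_iff.mpr (cochain_univInj_zero M' η hM'))
    g.hom (LinearMap.comp_zero _)
  exact ⟨ModuleCat.ofHom χ, ModuleCat.hom_ext hχ⟩

/-- Extending a map from `M'.X 0` which kills the coaugmentation. -/
lemma exists_ext_one {J : ModuleCat.{u} R} (hJ : PureInj R J) (g : M'.X 0 ⟶ J)
    (hg : η.f 0 ≫ g = 0) : ∃ z : M'.X 1 ⟶ J, M'.d 0 1 ≫ z = g := by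
  obtain ⟨χ, hχ⟩ := exists_ext hJ
    (e' := (η.f 0).hom) (e := (M'.d 0 1).hom)
    (by rw [← ModuleCat.hom_comp, cochain_ι_comp_d]; rfl)
    (cochain_univExact_zero M' η hM')
    g.hom (by rw [← ModuleCat.hom_comp, hg]; rfl)
  exact ⟨ModuleCat.ofHom χ, ModuleCat.hom_ext hχ⟩

/-- Extending a map from `M'.X (n+1)` which kills the incoming differential. -/
lemma exists_ext_succ {J : ModuleCat.{u} R} (hJ : PureInj R J) (n : ℕ) (g : M'.X (n + 1) ⟶ J)
    (hg : M'.d n (n + 1) ≫ g = 0) : ∃ z : M'.X (n + 2) ⟶ J, M'.d (n + 1) (n + 2) ≫ z = g := by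
  obtain ⟨χ, hχ⟩ := exists_ext hJ
    (e' := (M'.d n (n + 1)).hom) (e := (M'.d (n + 1) (n + 2)).hom)
    (by rw [← ModuleCat.hom_comp, M'.d_comp_d]; rfl)
    (cochain_univExact_succ M' η hM' n)
    g.hom (by rw [← ModuleCat.hom_comp, hg]; rfl)
  exact ⟨ModuleCat.ofHom χ, ModuleCat.hom_ext hχ⟩

include hI in
theorem exists_cochainMap :
    ∃ φ : M' ⟶ I, η ≫ φ = (CochainComplex.single₀ (ModuleCat.{u} R)).map f ≫ ε := by
  obtain ⟨z, hz⟩ := exists_ext_zero M' η hM' (hI 0)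
    (((CochainComplex.single₀ (ModuleCat.{u} R)).map f).f 0 ≫ ε.f 0)
  obtain ⟨o, ho⟩ := exists_ext_one M' η hM' (hI 1) (z ≫ I.d 0 1) (by
    rw [← assoc, hz, assoc, cochain_ι_comp_d, comp_zero])
  refine ⟨CochainComplex.mkHom M' I z o ho.symm (fun n p => ?_), ?_⟩
  · have := exists_ext_succ M' η hM' (hI (n + 2)) n (p.2.1 ≫ I.d (n + 1) (n + 2)) (by
      rw [← assoc, ← p.2.2, assoc, I.d_comp_d, comp_zero])
    exact ⟨this.choose, this.choose_spec.symm⟩
  · apply HomologicalComplex.from_single_hom_ext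
    simp only [HomologicalComplex.comp_f, CochainComplex.mkHom_f_0]
    exact hz

include hI in
theorem exists_cohomotopy (α β : M' ⟶ I)
    (hα : η ≫ α = (CochainComplex.single₀ (ModuleCat.{u} R)).map f ≫ ε)
    (hβ : η ≫ β = (CochainComplex.single₀ (ModuleCat.{u} R)).map f ≫ ε) :
    Nonempty (Homotopy α β) := by
  have he : η ≫ (α - β) = 0 := by rw [Preadditive.comp_sub, hα, hβ, sub_self]
  obtain ⟨z, hz⟩ := exists_ext_one M' η hM' (hI 0) ((α - β).f 0) (by
    rw [← HomologicalComplex.comp_f, he]; rfl)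
  obtain ⟨o, ho⟩ := exists_ext_succ M' η hM' (hI 1) 0 ((α - β).f 1 - z ≫ I.d 0 1) (by
    rw [Preadditive.comp_sub, ← assoc, hz, (α - β).comm 0 1, sub_self])
  refine ⟨Homotopy.equivSubZero.symm (Homotopy.mkCoinductive (α - β) z hz.symm o ?_ ?_)⟩
  · rw [ho]; abel
  · rintro n ⟨p1, p2, h2⟩
    have := exists_ext_succ M' η hM' (hI (n + 2)) (n + 1)
      ((α - β).f (n + 2) - p2 ≫ I.d (n + 1) (n + 2)) (by
        rw [Preadditive.comp_sub, ← assoc, ← (α - β).comm (n + 1) (n + 2)]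
        have h3 : M'.d (n + 1) (n + 2) ≫ p2 = (α - β).f (n + 1) - p1 ≫ I.d n (n + 1) := by
          rw [h2]; abel
        rw [h3, Preadditive.sub_comp, assoc p1, I.d_comp_d, comp_zero,
          sub_zero, sub_self])
    exact ⟨this.choose, by rw [this.choose_spec]; abel⟩

end Cochain

end Groth.Agent.Lib.Seat65.PureC
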