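import Groth.Agent.Lib.Seat65PureB
import Mathlib.Algebra.Module.CharacterModule

/-!
# From universal exactness to quasi-isomorphisms after tensoring; enough pure injectives
-/

set_option autoImplicit false
universe u

namespace Groth.Agent.Lib.Seat65.PureD

open CategoryTheory Category Limits HomologicalComplex MonoidalCategory TensorProduct
open Groth.Agent.Lib.Seat65.PureA Groth.Agent.Lib.Seat65.PureB

variable {R : Type u} [CommRing R]

/-- Containment `ker (g ⊗ T) ≤ range (f ⊗ T)` gives exactness of the tensored short complex. -/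
lemma exact_of_ker_le_range {X₁ X₂ X₃ : ModuleCat.{u} R} {f : X₁ ⟶ X₂} {g : X₂ ⟶ X₃}
    (T : ModuleCat.{u} R)
    (w : (tensorRight T).map f ≫ (tensorRight T).map g = 0)
    (h : LinearMap.ker (g.hom.rTensor T) ≤ LinearMap.range (f.hom.rTensor T)) :
    (ShortComplex.mk _ _ w).Exact := by
  rw [ShortComplex.moduleCat_exact_iff]
  intro x hx
  obtain ⟨y, hy⟩ := h (LinearMap.mem_ker.mpr hx)
  exact ⟨y, hy⟩

/-- Splicing: in `A -q→ B -j→ C -q'→ D -j'→ E` with `q, q'` surjective, `j, q'` exact and
`j' ⊗ Q` injective, the composites `j ∘ q` and `j' ∘ q'` are exact after `- ⊗ Q`. -/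
theorem splice_ker_le_range {A B C D E : Type u} [AddCommGroup A] [Module R A]
    [AddCommGroup B] [Module R B] [AddCommGroup C] [Module R C] [AddCommGroup D]
    [Module R D] [AddCommGroup E] [Module R E]
    (q : A →ₗ[R] B) (j : B →ₗ[R] C) (q' : C →ₗ[R] D) (j' : D →ₗ[R] E)
    (hq : Function.Surjective q) (hex : Function.Exact j q') (hq' : Function.Surjective q')
    (Q : Type u) [AddCommGroup Q] [Module R Q] (hj' : Function.Injective (j'.rTensor Q)) :
    LinearMap.ker ((j' ∘ₗ q').rTensor Q) ≤ LinearMap.range ((j ∘ₗ q).rTensor Q) := by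
  intro x hx
  rw [LinearMap.mem_ker, LinearMap.rTensor_comp, LinearMap.comp_apply] at hx
  have h1 : (q'.rTensor Q) x = 0 := hj' (by rw [hx, map_zero])
  have hex' := rTensor_exact Q hex hq'
  obtain ⟨y, rfl⟩ := (hex' x).mp h1
  obtain ⟨w, rfl⟩ := LinearMap.rTensor_surjective Q hq y
  exact ⟨w, by rw [LinearMap.rTensor_comp, LinearMap.comp_apply]⟩

section Chain

variable (K : ChainComplex (ModuleCat.{u} R) ℕ) {Z : ModuleCat.{u} R}
  (π : K ⟶ (ChainComplex.single₀ (ModuleCat.{u} R)).obj Z)

theorem chain_quasiIso_tensor (T : ModuleCat.{u} R)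
    (hsurj : Function.Surjective (π.f 0).hom)
    (h0 : LinearMap.ker ((π.f 0).hom.rTensor T) ≤ LinearMap.range ((K.d 1 0).hom.rTensor T))
    (hn : ∀ n : ℕ, LinearMap.ker ((K.d (n + 1) n).hom.rTensor T) ≤
      LinearMap.range ((K.d (n + 2) (n + 1)).hom.rTensor T)) :
    QuasiIso (((tensorRight T).mapHomologicalComplex (ComplexShape.down ℕ)).map π) := by
  refine ⟨fun i => ?_⟩
  cases i with
  | zero =>
    rw [ChainComplex.quasiIsoAt₀_iff]
    refine (ShortComplex.quasiIso_iff_of_zeros' _ ?_ ?_ ?_).2 ⟨?_, ?_⟩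
    · change (((tensorRight T).mapHomologicalComplex (ComplexShape.down ℕ)).obj K).d 0 0 = 0
      exact HomologicalComplex.shape _ _ _ (show ¬ (ComplexShape.down ℕ).Rel 0 0 by simp)
    · change (tensorRight T).map (((ChainComplex.single₀ (ModuleCat.{u} R)).obj Z).d 1 0) = 0
      rw [single_obj_d, Functor.map_zero]
    · change (((tensorRight T).mapHomologicalComplex (ComplexShape.down ℕ)).obj
        ((ChainComplex.single₀ (ModuleCat.{u} R)).obj Z)).d 0 0 = 0
      exact HomologicalComplex.shape _ _ _ (show ¬ (ComplexShape.down ℕ).Rel 0 0 by simp)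
    · apply exact_of_ker_le_range T _ h0
    · change Epi ((tensorRight T).map (π.f 0))
      rw [ModuleCat.epi_iff_surjective]
      exact LinearMap.rTensor_surjective T hsurj
  | succ n =>
    have hL : (((tensorRight T).mapHomologicalComplex (ComplexShape.down ℕ)).obj
        ((ChainComplex.single₀ (ModuleCat.{u} R)).obj Z)).ExactAt (n + 1) := by
      apply ShortComplex.exact_of_isZero_X₂
      change IsZero ((tensorRight T).obj (((ChainComplex.single₀ (ModuleCat.{u} R)).obj Z).X (n + 1)))
      exact Functor.map_isZero _ (isZero_single_obj_X _ _ _ _ (Nat.succ_ne_zero n))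
    rw [quasiIsoAt_iff_exactAt' _ _ hL,
      HomologicalComplex.exactAt_iff' _ (n + 2) (n + 1) n (by simp only [ChainComplex.prev]; rfl)
        (by simp)]
    exact exact_of_ker_le_range T _ (hn n)

end Chain

section Cochain

variable (K : CochainComplex (ModuleCat.{u} R) ℕ) {Z : ModuleCat.{u} R}
  (ι : (CochainComplex.single₀ (ModuleCat.{u} R)).obj Z ⟶ K)

theorem cochain_quasiIso_tensor (T : ModuleCat.{u} R)
    (hinj : Function.Injective ((ι.f 0).hom.rTensor T))
    (h0 : LinearMap.ker ((K.d 0 1).hom.rTensor T) ≤ LinearMap.range ((ι.f 0).hom.rTensor T))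
    (hn : ∀ n : ℕ, LinearMap.ker ((K.d (n + 1) (n + 2)).hom.rTensor T) ≤
      LinearMap.range ((K.d n (n + 1)).hom.rTensor T)) :
    QuasiIso (((tensorRight T).mapHomologicalComplex (ComplexShape.up ℕ)).map ι) := by
  refine ⟨fun i => ?_⟩
  cases i with
  | zero =>
    rw [CochainComplex.quasiIsoAt₀_iff]
    refine (ShortComplex.quasiIso_iff_of_zeros _ ?_ ?_ ?_).2 ⟨?_, ?_⟩
    · change (((tensorRight T).mapHomologicalComplex (ComplexShape.up ℕ)).obj
        ((CochainComplex.single₀ (ModuleCat.{u} R)).obj Z)).d 0 0 = 0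
      exact HomologicalComplex.shape _ _ _ (show ¬ (ComplexShape.up ℕ).Rel 0 0 by simp)
    · change (tensorRight T).map (((CochainComplex.single₀ (ModuleCat.{u} R)).obj Z).d 0 1) = 0
      rw [single_obj_d, Functor.map_zero]
    · change (((tensorRight T).mapHomologicalComplex (ComplexShape.up ℕ)).obj K).d 0 0 = 0
      exact HomologicalComplex.shape _ _ _ (show ¬ (ComplexShape.up ℕ).Rel 0 0 by simp)
    · apply exact_of_ker_le_range T _ h0
    · change Mono ((tensorRight T).map (ι.f 0))
      rw [ModuleCat.mono_iff_injective]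
      exact hinj
  | succ n =>
    have hL : (((tensorRight T).mapHomologicalComplex (ComplexShape.up ℕ)).obj
        ((CochainComplex.single₀ (ModuleCat.{u} R)).obj Z)).ExactAt (n + 1) := by
      apply ShortComplex.exact_of_isZero_X₂
      change IsZero ((tensorRight T).obj
        (((CochainComplex.single₀ (ModuleCat.{u} R)).obj Z).X (n + 1)))
      exact Functor.map_isZero _ (isZero_single_obj_X _ _ _ _ (Nat.succ_ne_zero n))
    rw [quasiIsoAt_iff_exactAt _ _ hL,
      HomologicalComplex.exactAt_iff' _ n (n + 1) (n + 2) (by simp)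
        (by simp only [CochainComplex.next]; rfl)]
    exact exact_of_ker_le_range T _ (hn n)

end Cochain

end Groth.Agent.Lib.Seat65.PureD
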