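import Groth.Agent.Lib.Seat65PureD

/-!
# Existence of pure injective resolutions
-/

set_option autoImplicit false
universe u

namespace Groth.Agent.Lib.Seat65.PureE

open CategoryTheory Category Limits HomologicalComplex MonoidalCategory TensorProduct
open Groth.Agent.Lib.Seat65.PureA Groth.Agent.Lib.Seat65.PureB Groth.Agent.Lib.Seat65.PureD

variable {R : Type u} [CommRing R]

section Character

/-- Evaluation into the double character module. -/
noncomputable def ev (M : Type u) [AddCommGroup M] [Module R M] :
    M →ₗ[R] CharacterModule (CharacterModule M) where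
  toFun m :=
    { toFun := fun c => c m
      map_zero' := rfl
      map_add' := fun _ _ => rfl }
  map_add' m m' := by
    apply CharacterModule.ext
    intro c
    exact c.map_add m m'
  map_smul' r m := by
    apply CharacterModule.ext
    intro c
    rfl

@[simp] lemma ev_apply (M : Type u) [AddCommGroup M] [Module R M] (m : M) (c : CharacterModule M) :
    ev (R := R) M m c = c m := rfl

/-- Character modules are pure injective. -/
theorem pureInj_characterModule (B : Type u) [AddCommGroup B] [Module R B] :
    PureInj R (CharacterModule B) := by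
  intro K L _ _ _ _ g hg φ
  exact (rTensor_injective_iff_lcomp_surjective.mp (hg B)) φ

/-- The evaluation into the double character module is universally injective. -/
theorem univInj_ev (M : Type u) [AddCommGroup M] [Module R M] :
    CAlgX.UniversallyInjective R (ev (R := R) M) := by
  intro Q _ _
  rw [rTensor_injective_iff_lcomp_surjective]
  intro φ
  refine ⟨CharacterModule.dual (ev (R := R) Q) ∘ₗ
    CharacterModule.dual (CharacterModule.dual φ), ?_⟩
  ext m q
  rfl

end Character

section Construction

variable (E : ModuleCat.{u} R → ModuleCat.{u} R) (j : ∀ Y : ModuleCat.{u} R, Y ⟶ E Y)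

/-- The cosyzygy of `Y` with respect to the embedding `j Y : Y ⟶ E Y`. -/
def cosyz (Y : ModuleCat.{u} R) : ModuleCat.{u} R :=
  ModuleCat.of R ((E Y) ⧸ LinearMap.range (j Y).hom)

/-- The quotient map onto the cosyzygy. -/
def quot (Y : ModuleCat.{u} R) : E Y ⟶ cosyz E j Y :=
  ModuleCat.ofHom (LinearMap.range (j Y).hom).mkQ

lemma j_quot (Y : ModuleCat.{u} R) : j Y ≫ quot E j Y = 0 := by
  apply ModuleCat.hom_ext
  ext x
  change (LinearMap.range (j Y).hom).mkQ ((j Y).hom x) = 0
  simp

lemma quot_surjective (Y : ModuleCat.{u} R) : Function.Surjective (quot E j Y).hom :=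
  Submodule.mkQ_surjective _

lemma exact_j_quot (Y : ModuleCat.{u} R) : Function.Exact (j Y).hom (quot E j Y).hom :=
  LinearMap.exact_map_mkQ_range _

/-- The iterated cosyzygies. -/
def Zs (M : ModuleCat.{u} R) : ℕ → ModuleCat.{u} R
  | 0 => M
  | n + 1 => cosyz E j (Zs M n)

/-- The terms of the resolution. -/
def X (M : ModuleCat.{u} R) (n : ℕ) : ModuleCat.{u} R := E (Zs E j M n)

/-- The differentials of the resolution. -/
def d (M : ModuleCat.{u} R) (n : ℕ) : X E j M n ⟶ X E j M (n + 1) :=
  quot E j (Zs E j M n) ≫ j (Zs E j M (n + 1))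

lemma d_comp_d (M : ModuleCat.{u} R) (n : ℕ) : d E j M n ≫ d E j M (n + 1) = 0 := by
  change (quot E j (Zs E j M n) ≫ j (cosyz E j (Zs E j M n))) ≫
    (quot E j (cosyz E j (Zs E j M n)) ≫ j (cosyz E j (cosyz E j (Zs E j M n)))) = 0
  rw [assoc, ← assoc (j _), j_quot, zero_comp, comp_zero]

/-- The resolution as a cochain complex. -/
noncomputable def cx (M : ModuleCat.{u} R) : CochainComplex (ModuleCat.{u} R) ℕ :=
  CochainComplex.of (X E j M) (d E j M) (d_comp_d E j M)

/-- The coaugmentation. -/
noncomputable def coaug (M : ModuleCat.{u} R) :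
    (CochainComplex.single₀ (ModuleCat.{u} R)).obj M ⟶ cx E j M :=
  (CochainComplex.fromSingle₀Equiv (cx E j M) M).symm ⟨(j M : M ⟶ (cx E j M).X 0), by
    have h : (cx E j M).d 0 1 = d E j M 0 := CochainComplex.of_d (X E j M) (d E j M) 0
    rw [h]
    change j M ≫ quot E j M ≫ j (cosyz E j M) = 0
    rw [← assoc, j_quot, zero_comp]⟩

variable (hj : ∀ Y : ModuleCat.{u} R, CAlgX.UniversallyInjective R (j Y).hom)

include hj in
theorem coaug_quasiIso (M T : ModuleCat.{u} R) :
    QuasiIso (((tensorRight T).mapHomologicalComplex (ComplexShape.up ℕ)).map (coaug E j M)) := by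
  have hf0 : ((coaug E j M).f 0) = (j M : M ⟶ (cx E j M).X 0) :=
    CochainComplex.fromSingle₀Equiv_symm_apply_f_zero _ _
  have hd : ∀ n, (cx E j M).d n (n + 1) = d E j M n := fun n =>
    CochainComplex.of_d (X E j M) (d E j M) n
  apply cochain_quasiIso_tensor
  · rw [hf0]
    exact hj M T
  · rw [hf0, hd 0]
    have := splice_ker_le_range (LinearMap.id : M →ₗ[R] M) (j M).hom (quot E j M).hom
      (j (cosyz E j M)).hom Function.surjective_id (exact_j_quot E j M) (quot_surjective E j M) T
      (hj _ T)
    exact this
  · intro n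
    rw [hd (n + 1), hd n]
    have := splice_ker_le_range (quot E j (Zs E j M n)).hom (j (cosyz E j (Zs E j M n))).hom
      (quot E j (cosyz E j (Zs E j M n))).hom
      (j (cosyz E j (cosyz E j (Zs E j M n)))).hom (quot_surjective E j _) (exact_j_quot E j _)
      (quot_surjective E j _) T (hj _ T)
    exact this

end Construction

/-- The double character module as a functor on objects. -/
noncomputable def EE (Y : ModuleCat.{u} R) : ModuleCat.{u} R :=
  ModuleCat.of R (CharacterModule (CharacterModule Y))

/-- The evaluation map as a morphism of `ModuleCat`. -/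
noncomputable def jj (Y : ModuleCat.{u} R) : Y ⟶ EE Y := ModuleCat.ofHom (ev (R := R) Y)

theorem exists_pureInj_resolution (M : ModuleCat.{u} R) :
    ∃ (I : CochainComplex (ModuleCat.{u} R) ℕ)
      (η : (CochainComplex.single₀ (ModuleCat.{u} R)).obj M ⟶ I),
      (∀ n : ℕ, PureInj R (I.X n)) ∧
      ∀ T : ModuleCat.{u} R,
        QuasiIso (((tensorRight T).mapHomologicalComplex (ComplexShape.up ℕ)).map η) := by
  refine ⟨cx EE jj M, coaug EE jj M, ?_, ?_⟩
  · intro n
    exact pureInj_characterModule _
  · intro T
    exact coaug_quasiIso EE jj (fun Y => univInj_ev Y) M T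

end Groth.Agent.Lib.Seat65.PureE
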