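import Groth.Agent.Lib.Seat65PureD
import Mathlib.LinearAlgebra.TensorProduct.Vanishing
import Mathlib.Algebra.Colimit.TensorProduct
import Mathlib.Algebra.Module.FinitePresentation
import Mathlib.LinearAlgebra.DFinsupp

/-!
# Existence of pure projective resolutions
-/

set_option autoImplicit false
universe u

namespace Groth.Agent.Lib.Seat65.PureF

open TensorProduct
open Groth.Agent.Lib.Seat65.PureA Groth.Agent.Lib.Seat65.PureB Groth.Agent.Lib.Seat65.PureD

variable {R : Type u} [CommRing R]

section Criterion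

variable {P M : Type u} [AddCommGroup P] [Module R P] [AddCommGroup M] [Module R M]

/-- The coordinate form of "every map from a finitely presented module to `M` lifts to `P`". -/
def LiftsFP (p : P →ₗ[R] M) : Prop :=
  ∀ (r s : ℕ) (a : Fin r → Fin s → R) (y : Fin s → P), (∀ j, ∑ l, a j l • p (y l) = 0) →
    ∃ y' : Fin s → P, (∀ l, p (y' l) = p (y l)) ∧ ∀ j, ∑ l, a j l • y' l = 0

/-- Every element of `N ⊗ K` is of the form `∑ t_j ⊗ k_j` when the `t_j` span `N`. -/
lemma exists_sum_tmul_of_span {N K : Type u} [AddCommGroup N] [Module R N] [AddCommGroup K]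
    [Module R K] {r : ℕ} (t : Fin r → N) (ht : Submodule.span R (Set.range t) = ⊤)
    (z : N ⊗[R] K) : ∃ k : Fin r → K, z = ∑ j, t j ⊗ₜ[R] k j := by
  induction z using TensorProduct.induction_on with
  | zero => exact ⟨fun _ => 0, by simp⟩
  | tmul n k =>
    have hn : n ∈ Submodule.span R (Set.range t) := by rw [ht]; trivial
    obtain ⟨c, rfl⟩ := (Submodule.mem_span_range_iff_exists_fun R).mp hn
    refine ⟨fun j => c j • k, ?_⟩
    rw [TensorProduct.sum_tmul]
    simp [TensorProduct.smul_tmul]
  | add x y hx hy =>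
    obtain ⟨kx, rfl⟩ := hx
    obtain ⟨ky, rfl⟩ := hy
    exact ⟨fun j => kx j + ky j, by simp [TensorProduct.tmul_add, Finset.sum_add_distrib]⟩

/-- The finitely generated case of purity. -/
lemma lTensor_injective_of_liftsFP_of_fg (p : P →ₗ[R] M) (hp : LiftsFP p)
    (N : Type u) [AddCommGroup N] [Module R N] [Module.Finite R N] :
    Function.Injective ((LinearMap.ker p).subtype.lTensor N) := by
  obtain ⟨r, t, ht⟩ := Module.Finite.exists_fin (R := R) (M := N)
  rw [injective_iff_map_eq_zero]
  intro z hz
  obtain ⟨k, rfl⟩ := exists_sum_tmul_of_span t ht z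
  simp only [map_sum, LinearMap.lTensor_tmul, Submodule.coe_subtype] at hz
  obtain ⟨κ, a, y, h1, h2⟩ := TensorProduct.vanishesTrivially_of_sum_tmul_eq_zero R ht hz
  -- lift the relations
  obtain ⟨y', hy', hrel⟩ := hp r κ a y (fun j => by
    simp only [← map_smul, ← map_sum]
    rw [← h1 j]
    exact (k j).2)
  let k' : Fin κ → LinearMap.ker p := fun l => ⟨y l - y' l, by
    rw [LinearMap.mem_ker, map_sub, hy' l, sub_self]⟩
  have hk : ∀ j, k j = ∑ l, a j l • k' l := by
    intro j
    apply Subtype.ext
    rw [Submodule.coe_sum]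
    simp only [Submodule.coe_smul, k', smul_sub, Finset.sum_sub_distrib, hrel j, sub_zero]
    exact h1 j
  exact TensorProduct.sum_tmul_eq_zero_of_vanishesTrivially R ⟨κ, a, k', hk, h2⟩

/-- A surjection through which all maps from finitely presented modules lift has a pure kernel. -/
theorem univInj_ker_subtype_of_liftsFP (p : P →ₗ[R] M) (hp : LiftsFP p) :
    CAlgX.UniversallyInjective R (LinearMap.ker p).subtype := by
  intro T _ _
  -- pass to `lTensor`
  suffices h : Function.Injective ((LinearMap.ker p).subtype.lTensor T) by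
    have hcomm : (LinearMap.ker p).subtype.rTensor T =
        (TensorProduct.comm R T P).toLinearMap ∘ₗ (LinearMap.ker p).subtype.lTensor T ∘ₗ
          (TensorProduct.comm R (LinearMap.ker p) T).toLinearMap := by
      ext x t
      simp
    rw [hcomm]
    exact (TensorProduct.comm R T P).injective.comp
      (h.comp (TensorProduct.comm R (LinearMap.ker p) T).injective)
  rw [injective_iff_map_eq_zero]
  intro z hz
  -- `z` comes from a finitely generated submodule `N` of `T`
  obtain ⟨N, hNfin, hN⟩ := TensorProduct.exists_finite_submodule_left_of_setFinite {z}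
    (Set.finite_singleton z)
  obtain ⟨z₁, hz₁⟩ := hN (Set.mem_singleton z)
  have hNfg : N.FG := Module.Finite.iff_fg.mp hNfin
  -- the image in `N ⊗ P` dies in `T ⊗ P`, hence in `N' ⊗ P` for some f.g. `N' ≥ N`
  have h0 : N.subtype.rTensor P (((LinearMap.ker p).subtype.lTensor N) z₁) =
      N.subtype.rTensor P 0 := by
    rw [map_zero, ← LinearMap.comp_apply, LinearMap.rTensor_comp_lTensor,
      ← LinearMap.lTensor_comp_rTensor, LinearMap.comp_apply, hz₁, hz]
  obtain ⟨N', hN'fg, hle, heq⟩ := Submodule.FG.exists_rTensor_fg_inclusion_eq hNfg h0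
  have : Module.Finite R N' := Module.Finite.iff_fg.mpr hN'fg
  have hinj := lTensor_injective_of_liftsFP_of_fg p hp N'
  have hz₂ : ((Submodule.inclusion hle).rTensor (LinearMap.ker p)) z₁ = 0 := by
    apply hinj
    rw [map_zero, ← LinearMap.comp_apply, LinearMap.lTensor_comp_rTensor,
      ← LinearMap.rTensor_comp_lTensor, LinearMap.comp_apply, heq, map_zero]
  have hfac : N.subtype.rTensor (LinearMap.ker p) =
      N'.subtype.rTensor (LinearMap.ker p) ∘ₗ (Submodule.inclusion hle).rTensor (LinearMap.ker p) := by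
    rw [← LinearMap.rTensor_comp]
    rfl
  rw [← hz₁, hfac, LinearMap.comp_apply, hz₂, map_zero]

end Criterion

section Cover

variable (R)
variable (M : Type u) [AddCommGroup M] [Module R M]

/-- Index type: all finite presentations together with a map to `M`. -/
def Idx : Type u :=
  Σ (s : ℕ) (r : ℕ) (a : Fin r → Fin s → R), {x : Fin s → M // ∀ j, ∑ l, a j l • x l = 0}

variable {R M}

/-- The finitely presented module attached to an index. -/
abbrev Q (i : Idx R M) : Type u :=
  (Fin i.1 → R) ⧸ Submodule.span R (Set.range i.2.2.1)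

instance (i : Idx R M) : Module.FinitePresentation R (Q i) :=
  Module.finitePresentation_of_surjective (Submodule.span R (Set.range i.2.2.1)).mkQ
    (Submodule.mkQ_surjective _) (by
      rw [Submodule.ker_mkQ]
      exact Submodule.fg_span (Set.finite_range _))

/-- The map from the finitely presented module of an index to `M`. -/
noncomputable def qmap (i : Idx R M) : Q i →ₗ[R] M :=
  (Submodule.span R (Set.range i.2.2.1)).liftQ (Fintype.linearCombination R i.2.2.2.1) (by
    rw [Submodule.span_le]
    rintro _ ⟨j, rfl⟩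
    rw [SetLike.mem_coe, LinearMap.mem_ker, Fintype.linearCombination_apply]
    exact i.2.2.2.2 j)

variable (R M)

/-- The direct sum of all finitely presented modules mapping to `M`. -/
def G : Type u := Π₀ i : Idx R M, Q i

noncomputable instance : AddCommGroup (G R M) :=
  inferInstanceAs (AddCommGroup (Π₀ i : Idx R M, Q i))

noncomputable instance : Module R (G R M) :=
  inferInstanceAs (Module R (Π₀ i : Idx R M, Q i))

/-- The identity as a linear equivalence `G R M ≃ Π₀ i, Q i`. -/
noncomputable def Gequiv : G R M ≃ₗ[R] (Π₀ i : Idx R M, Q i) := LinearEquiv.refl R _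

open Classical in
/-- The canonical map `G M → M`. -/
noncomputable def pmap : G R M →ₗ[R] M :=
  (DFinsupp.lsum ℕ (fun i : Idx R M => qmap i)) ∘ₗ (Gequiv R M).toLinearMap

open Classical in
lemma pmap_single (i : Idx R M) (q : Q i) :
    pmap R M ((Gequiv R M).symm (DFinsupp.single i q)) = qmap i q := by
  unfold pmap
  rw [LinearMap.comp_apply, LinearEquiv.coe_coe, LinearEquiv.apply_symm_apply,
    DFinsupp.lsum_single]

variable {R M} in
lemma qmap_mk (i : Idx R M) (c : Fin i.1 → R) :
    qmap i (Submodule.Quotient.mk c) = ∑ l, c l • i.2.2.2.1 l := by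
  unfold qmap
  rw [Submodule.liftQ_apply, Fintype.linearCombination_apply]

open Classical in
theorem liftsFP_pmap : LiftsFP (pmap R M) := by
  intro r s a y h
  let i₀ : Idx R M := ⟨s, r, a, ⟨fun l => pmap R M (y l), h⟩⟩
  refine ⟨fun l => (Gequiv R M).symm (DFinsupp.single i₀ (Submodule.Quotient.mk (Pi.single l 1))),
    ?_, ?_⟩
  · intro l
    rw [pmap_single, qmap_mk]
    simp [i₀, Pi.single_apply]
  · intro j
    simp only [← map_smul, ← map_sum]
    rw [LinearEquiv.map_eq_zero_iff]
    have h1 : ∑ l, a j l • (DFinsupp.single i₀ (Submodule.Quotient.mk (Pi.single l 1)) :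
        Π₀ i : Idx R M, Q i) = DFinsupp.single i₀ (Submodule.Quotient.mk (a j)) := by
      have e1 : (a j : Fin s → R) = ∑ l, a j l • (Pi.single l 1 : Fin s → R) := by
        funext l'
        simp [Finset.sum_apply, Pi.single_apply]
      have e2 : ∀ q : Q i₀, (DFinsupp.single i₀ q : Π₀ i : Idx R M, Q i) =
          DFinsupp.lsingle (R := R) i₀ q := fun q => rfl
      have e3 : ∀ c : Fin s → R, (Submodule.Quotient.mk c : Q i₀) =
          (Submodule.span R (Set.range a)).mkQ c := fun c => rfl
      conv_rhs => rw [e1]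
      simp only [e2, e3, map_sum, map_smul]
    rw [h1]
    have h2 : (Submodule.Quotient.mk (a j) : Q i₀) = 0 := by
      rw [Submodule.Quotient.mk_eq_zero]
      exact Submodule.subset_span ⟨j, rfl⟩
    rw [h2, DFinsupp.single_zero]

theorem pmap_surjective : Function.Surjective (pmap R M) := by
  intro m
  let i₀ : Idx R M := ⟨1, 0, fun j => Fin.elim0 j, ⟨fun _ => m, fun j => Fin.elim0 j⟩⟩
  classical
  refine ⟨(Gequiv R M).symm (DFinsupp.single i₀ (Submodule.Quotient.mk (fun _ => 1))), ?_⟩
  rw [pmap_single, qmap_mk]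
  simp [i₀]

end Cover

section Construction

open CategoryTheory Category Limits HomologicalComplex MonoidalCategory

variable (R)

/-- The covering object as an object of `ModuleCat`. -/
noncomputable def GG (Y : ModuleCat.{u} R) : ModuleCat.{u} R := ModuleCat.of R (G R Y)

/-- The covering map. -/
noncomputable def pp (Y : ModuleCat.{u} R) : GG R Y ⟶ Y := ModuleCat.ofHom (pmap R Y)

/-- The syzygy. -/
noncomputable def syz (Y : ModuleCat.{u} R) : ModuleCat.{u} R :=
  ModuleCat.of R (LinearMap.ker (pmap R Y))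

/-- The inclusion of the syzygy. -/
noncomputable def incl (Y : ModuleCat.{u} R) : syz R Y ⟶ GG R Y :=
  ModuleCat.ofHom (LinearMap.ker (pmap R Y)).subtype

lemma incl_pp (Y : ModuleCat.{u} R) : incl R Y ≫ pp R Y = 0 := by
  apply ModuleCat.hom_ext
  ext x
  exact x.2

lemma pp_surjective (Y : ModuleCat.{u} R) : Function.Surjective (pp R Y).hom :=
  pmap_surjective R Y

lemma exact_incl_pp (Y : ModuleCat.{u} R) : Function.Exact (incl R Y).hom (pp R Y).hom :=
  LinearMap.exact_subtype_ker_map _

lemma incl_univInj (Y : ModuleCat.{u} R) : CAlgX.UniversallyInjective R (incl R Y).hom :=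
  univInj_ker_subtype_of_liftsFP _ (liftsFP_pmap R Y)

/-- The iterated syzygies. -/
noncomputable def Zs (M : ModuleCat.{u} R) : ℕ → ModuleCat.{u} R
  | 0 => M
  | n + 1 => syz R (Zs M n)

/-- The terms of the resolution. -/
noncomputable def X (M : ModuleCat.{u} R) (n : ℕ) : ModuleCat.{u} R := GG R (Zs R M n)

/-- The differentials of the resolution. -/
noncomputable def d (M : ModuleCat.{u} R) (n : ℕ) : X R M (n + 1) ⟶ X R M n :=
  pp R (Zs R M (n + 1)) ≫ incl R (Zs R M n)

lemma d_comp_d (M : ModuleCat.{u} R) (n : ℕ) : d R M (n + 1) ≫ d R M n = 0 := by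
  change (pp R (syz R (syz R (Zs R M n))) ≫ incl R (syz R (Zs R M n))) ≫
    (pp R (syz R (Zs R M n)) ≫ incl R (Zs R M n)) = 0
  rw [assoc, ← assoc (incl R _), incl_pp, zero_comp, comp_zero]

/-- The resolution as a chain complex. -/
noncomputable def cx (M : ModuleCat.{u} R) : ChainComplex (ModuleCat.{u} R) ℕ :=
  ChainComplex.of (X R M) (d R M) (d_comp_d R M)

/-- The augmentation. -/
noncomputable def aug (M : ModuleCat.{u} R) :
    cx R M ⟶ (ChainComplex.single₀ (ModuleCat.{u} R)).obj M :=
  (ChainComplex.toSingle₀Equiv (cx R M) M).symm ⟨(pp R M : (cx R M).X 0 ⟶ M), by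
    have h : (cx R M).d 1 0 = d R M 0 := ChainComplex.of_d (X R M) (d R M) 0
    rw [h]
    change (pp R (syz R M) ≫ incl R M) ≫ pp R M = 0
    rw [assoc, incl_pp, comp_zero]⟩

theorem aug_quasiIso (M T : ModuleCat.{u} R) :
    QuasiIso (((tensorRight T).mapHomologicalComplex (ComplexShape.down ℕ)).map (aug R M)) := by
  have hf0 : ((aug R M).f 0) = (pp R M : (cx R M).X 0 ⟶ M) :=
    ChainComplex.toSingle₀Equiv_symm_apply_f_zero _ _
  have hd : ∀ n, (cx R M).d (n + 1) n = d R M n := fun n =>
    ChainComplex.of_d (X R M) (d R M) n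
  apply chain_quasiIso_tensor
  · rw [hf0]
    exact pp_surjective R M
  · rw [hf0, hd 0]
    have := splice_ker_le_range (pp R (syz R M)).hom (incl R M).hom (pp R M).hom
      (LinearMap.id : M →ₗ[R] M) (pp_surjective R _) (exact_incl_pp R M) (pp_surjective R M) T
      (by rw [LinearMap.rTensor_id]; exact Function.injective_id)
    exact this
  · intro n
    rw [hd (n + 1), hd n]
    have := splice_ker_le_range (pp R (syz R (syz R (Zs R M n)))).hom
      (incl R (syz R (Zs R M n))).hom (pp R (syz R (Zs R M n))).hom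
      (incl R (Zs R M n)).hom (pp_surjective R _) (exact_incl_pp R _)
      (pp_surjective R _) T (incl_univInj R _ T)
    exact this

theorem exists_pureProj_resolution (M : ModuleCat.{u} R) :
    ∃ (P : ChainComplex (ModuleCat.{u} R) ℕ)
      (π : P ⟶ (ChainComplex.single₀ (ModuleCat.{u} R)).obj M),
      (∀ n : ℕ, ∃ (ι : Type u) (Q : ι → Type u) (_ : ∀ i, AddCommGroup (Q i))
        (_ : ∀ i, Module R (Q i)),
        (∀ i, Module.FinitePresentation R (Q i)) ∧
        ∃ (s : P.X n →ₗ[R] (Π₀ i, Q i)) (r : (Π₀ i, Q i) →ₗ[R] P.X n), r ∘ₗ s = LinearMap.id) ∧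
      ∀ N : ModuleCat.{u} R,
        QuasiIso (((tensorRight N).mapHomologicalComplex (ComplexShape.down ℕ)).map π) := by
  refine ⟨cx R M, aug R M, ?_, fun N => aug_quasiIso R M N⟩
  intro n
  refine ⟨Idx R (Zs R M n), fun i => Q i, inferInstance, inferInstance, inferInstance,
    (Gequiv R (Zs R M n)).toLinearMap, (Gequiv R (Zs R M n)).symm.toLinearMap, ?_⟩
  ext x
  exact (Gequiv R (Zs R M n)).symm_apply_apply x

end Construction

end Groth.Agent.Lib.Seat65.PureF
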