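import Mathlib
import Groth.Prelude.Def_W4c4chowquasisplitPn2

/-!
# Basic structure of the truncated algebra `QsChow.P n` (helper65)

Variables, vanishing of the powers, membership in the monomial ideal, annihilator of `ε_1`,
and the arithmetic of the exponents `klog`.
-/

set_option autoImplicit false

namespace Groth.Agent.Lib.Seat65.QsA

open MvPolynomial QsChow

variable {n : ℕ}

/-- The position of `ε_1`. -/
def i0 (hn : 2 ≤ n) : Fin (numVars n) := ⟨0, by unfold numVars; omega⟩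

/-- The position of `ε_2`. -/
def i1 (hn : 2 ≤ n) : Fin (numVars n) := ⟨1, by unfold numVars; omega⟩

@[simp] lemma i0_val (hn : 2 ≤ n) : (i0 hn).val = 0 := rfl
@[simp] lemma i1_val (hn : 2 ≤ n) : (i1 hn).val = 1 := rfl

lemma i0_ne_i1 (hn : 2 ≤ n) : i0 hn ≠ i1 hn := by
  intro h
  have := congrArg Fin.val h
  simp at this

variable (n) in
/-- The class of the variable in position `i`. -/
noncomputable def E (i : Fin (numVars n)) : P n := Ideal.Quotient.mk (truncIdeal n) (X i)

lemma eps_succ (i : Fin (numVars n)) : eps n (i.val + 1) = E n i := by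
  unfold eps
  rw [dif_pos ⟨Nat.succ_pos _, i.isLt⟩]
  rfl

lemma eps_one (hn : 2 ≤ n) : eps n 1 = E n (i0 hn) := by
  have := eps_succ (i0 hn)
  simpa using this

lemma eps_two (hn : 2 ≤ n) : eps n 2 = E n (i1 hn) := by
  have := eps_succ (i1 hn)
  simpa using this

lemma E_pow_bound (i : Fin (numVars n)) : E n i ^ bound n i = 0 := by
  unfold E
  rw [← map_pow]
  exact Ideal.Quotient.eq_zero_iff_mem.mpr (Ideal.subset_span ⟨i, rfl⟩)

lemma bound_i0 (hn : 2 ≤ n) : bound n (i0 hn) = n := by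
  unfold bound; simp

lemma bound_of_pos (i : Fin (numVars n)) (hi : i.val ≠ 0) :
    bound n i = 2 ^ klog n (i.val + 1) := by
  unfold bound; rw [if_neg hi]

lemma eps_one_pow (hn : 2 ≤ n) : eps n 1 ^ n = 0 := by
  have := E_pow_bound (i0 hn)
  rwa [bound_i0 hn, ← eps_one hn] at this

lemma eps_one_pow_of_le (hn : 2 ≤ n) {k : ℕ} (hk : n ≤ k) : eps n 1 ^ k = 0 := by
  obtain ⟨d, rfl⟩ := Nat.exists_eq_add_of_le hk
  rw [pow_add, eps_one_pow hn, zero_mul]

/-- `n ≤ (2j-3)·2^(k_j)`. -/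
lemma le_mul_two_pow_klog (j : ℕ) (hj : 2 ≤ j) : n ≤ (2 * j - 3) * 2 ^ klog n j := by
  unfold klog
  have hpos : 0 < 2 * j - 3 := by omega
  have h1 := Nat.lt_pow_succ_log_self (b := 2) one_lt_two ((2 * n - 1) / (2 * j - 3))
  have h2 : 2 * n - 1 < (2 * j - 3) * ((2 * n - 1) / (2 * j - 3) + 1) :=
    Nat.lt_mul_div_succ _ hpos
  have h3 : (2 * j - 3) * ((2 * n - 1) / (2 * j - 3) + 1) ≤
      (2 * j - 3) * 2 ^ (Nat.log 2 ((2 * n - 1) / (2 * j - 3))).succ :=
    Nat.mul_le_mul_left _ h1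
  rw [pow_succ] at h3
  have h4 : (2 * j - 3) * (2 ^ Nat.log 2 ((2 * n - 1) / (2 * j - 3)) * 2) =
      2 * ((2 * j - 3) * 2 ^ Nat.log 2 ((2 * n - 1) / (2 * j - 3))) := by ring
  omega

lemma le_two_pow_klog_two : n ≤ 2 ^ klog n 2 := by
  have := le_mul_two_pow_klog (n := n) 2 le_rfl
  simpa using this

lemma one_le_klog_two (hn : 2 ≤ n) : 1 ≤ klog n 2 := by
  by_contra h
  have h0 : klog n 2 = 0 := by omega
  have := le_two_pow_klog_two (n := n)
  rw [h0] at this
  omega

lemma eps_two_pow (hn : 2 ≤ n) : eps n 2 ^ 2 ^ klog n 2 = 0 := by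
  have := E_pow_bound (i1 hn)
  rwa [bound_of_pos _ (by simp), ← eps_two hn] at this

lemma eps_pow (i : Fin (numVars n)) (hi : i.val ≠ 0) :
    eps n (i.val + 1) ^ 2 ^ klog n (i.val + 1) = 0 := by
  have := E_pow_bound i
  rwa [bound_of_pos _ hi, ← eps_succ] at this

/-- The generators of the monomial ideal as monomials. -/
lemma truncIdeal_eq : truncIdeal n = Ideal.span ((fun s => monomial s (1 : ZMod 2)) ''
    (Set.range fun i : Fin (numVars n) => Finsupp.single i (bound n i))) := by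
  unfold truncIdeal
  congr 1
  ext p
  constructor
  · rintro ⟨i, rfl⟩
    exact ⟨_, ⟨i, rfl⟩, by simp [X_pow_eq_monomial]⟩
  · rintro ⟨_, ⟨i, rfl⟩, rfl⟩
    exact ⟨i, by simp [X_pow_eq_monomial]⟩

lemma mem_truncIdeal_iff (p : FreeP n) :
    p ∈ truncIdeal n ↔ ∀ m ∈ p.support, ∃ i, bound n i ≤ m i := by
  rw [truncIdeal_eq, mem_ideal_span_monomial_image]
  refine forall₂_congr fun m _ => ?_
  constructor
  · rintro ⟨_, ⟨i, rfl⟩, h⟩
    refine ⟨i, ?_⟩
    have := h i
    simpa using this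
  · rintro ⟨i, h⟩
    refine ⟨_, ⟨i, rfl⟩, ?_⟩
    intro j
    by_cases hij : i = j
    · subst hij; simpa using h
    · simp [hij]

/-- The class of a monomial. -/
noncomputable def mon (m : Fin (numVars n) →₀ ℕ) : P n :=
  Ideal.Quotient.mk (truncIdeal n) (monomial m 1)

lemma mon_eq_prod (m : Fin (numVars n) →₀ ℕ) : mon m = ∏ i, E n i ^ m i := by
  unfold mon E
  rw [monomial_eq, map_mul, Finsupp.prod_fintype _ _ (fun i => pow_zero _), map_prod]
  simp

lemma mon_eq_zero (m : Fin (numVars n) →₀ ℕ) (i : Fin (numVars n)) (h : bound n i ≤ m i) :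
    mon m = 0 := by
  rw [mon_eq_prod]
  apply Finset.prod_eq_zero (Finset.mem_univ i)
  obtain ⟨d, hd⟩ := Nat.exists_eq_add_of_le h
  rw [hd, pow_add, E_pow_bound, zero_mul]

lemma mon_add (m m' : Fin (numVars n) →₀ ℕ) : mon (m + m') = mon m * mon m' := by
  unfold mon
  rw [← map_mul, monomial_mul, one_mul]

lemma mon_single (i : Fin (numVars n)) (k : ℕ) : mon (Finsupp.single i k) = E n i ^ k := by
  unfold mon E
  rw [← map_pow, X_pow_eq_monomial]

lemma mk_monomial (m : Fin (numVars n) →₀ ℕ) (a : ZMod 2) :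
    Ideal.Quotient.mk (truncIdeal n) (monomial m a) = a • mon m := by
  unfold mon
  have : monomial m a = a • (monomial m (1 : ZMod 2)) := by
    rw [smul_monomial, smul_eq_mul, mul_one]
  rw [this]
  exact map_smul (Ideal.Quotient.mkₐ (ZMod 2) (truncIdeal n)) a _

/-- Every element of `P n` is a sum of classes of monomials. -/
lemma mem_span_mon (y : P n) : y ∈ Submodule.span (ZMod 2) (Set.range (mon (n := n))) := by
  obtain ⟨p, rfl⟩ := Ideal.Quotient.mk_surjective y
  induction p using MvPolynomial.induction_on' with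
  | monomial m a =>
    rw [mk_monomial]
    exact Submodule.smul_mem _ _ (Submodule.subset_span ⟨m, rfl⟩)
  | add p q hp hq =>
    rw [map_add]
    exact Submodule.add_mem _ hp hq

/-- The annihilator of `ε_1` is generated by `ε_1^(n-1)`. -/
lemma exists_of_eps_one_mul_eq_zero (hn : 2 ≤ n) (y : P n) (hy : eps n 1 * y = 0) :
    ∃ w : P n, y = eps n 1 ^ (n - 1) * w := by
  obtain ⟨p, rfl⟩ := Ideal.Quotient.mk_surjective y
  rw [eps_one hn, E, ← map_mul, Ideal.Quotient.eq_zero_iff_mem, mem_truncIdeal_iff] at hy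
  suffices h : (Ideal.Quotient.mk (truncIdeal n)) p ∈ Ideal.span {eps n 1 ^ (n - 1)} by
    obtain ⟨w, hw⟩ := Ideal.mem_span_singleton'.mp h
    exact ⟨w, by rw [← hw, mul_comm]⟩
  rw [p.as_sum, map_sum]
  refine Ideal.sum_mem _ fun m hm => ?_
  have hm' : m + Finsupp.single (i0 hn) 1 ∈ (X (i0 hn) * p).support := by
    rw [mul_comm, support_mul_X]
    exact Finset.mem_map.mpr ⟨m, hm, rfl⟩
  obtain ⟨i, hi⟩ := hy _ hm'
  rw [mk_monomial]
  refine Submodule.smul_of_tower_mem _ _ ?_
  by_cases hii : i = i0 hn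
  · subst hii
    rw [bound_i0 hn] at hi
    simp only [Finsupp.coe_add, Pi.add_apply, Finsupp.single_eq_same] at hi
    have hle : n - 1 ≤ m (i0 hn) := by omega
    have hm_eq : m = Finsupp.single (i0 hn) (n - 1) + (m - Finsupp.single (i0 hn) (n - 1)) := by
      ext j
      by_cases hj : j = i0 hn
      · subst hj; simp; omega
      · simp [Ne.symm hj]
    rw [hm_eq, mon_add, mon_single, ← eps_one hn]
    exact Ideal.mul_mem_right _ _ (Ideal.subset_span rfl)
  · have : bound n i ≤ m i := by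
      simpa [Finsupp.single_apply, Ne.symm hii] using hi
    rw [mon_eq_zero m i this]
    exact Submodule.zero_mem _

end Groth.Agent.Lib.Seat65.QsA
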