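import Mathlib
import Groth.Agent.Lib.Seat65QsA

/-!
# The invariant generators and the decomposition `P = V + V·ε_2` (helper65)
-/

set_option autoImplicit false

namespace Groth.Agent.Lib.Seat65.QsB

open MvPolynomial QsChow Groth.Agent.Lib.Seat65.QsA

variable {n : ℕ}

variable (n) in
/-- The images of the generators `e_j`. -/
noncomputable def G (i : Fin (numVars n)) : P n := genImage n (some i)

lemma G_i0 (hn : 2 ≤ n) : G n (i0 hn) = eps n 1 := by
  unfold G genImage; simp

lemma G_i1 (hn : 2 ≤ n) : G n (i1 hn) = eps n 2 ^ 2 + eps n 1 * eps n 2 := by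
  unfold G genImage; simp

lemma G_of_two_le (i : Fin (numVars n)) (hi : 2 ≤ i.val) :
    G n i = eps n (i.val + 1) + eps n 1 ^ (2 * (i.val + 1) - 4) * eps n 2 := by
  unfold G genImage
  simp only
  rw [if_neg (by omega), if_neg (by omega)]

lemma psi_X (i : Fin (numVars n)) : psi n (X i) = G n i := by
  unfold psi G; simp

lemma phi_X_some (i : Fin (numVars n)) : phi n (X (some i)) = G n i := by
  unfold phi G; simp

lemma phi_X_none : phi n (X none) = eps n 1 ^ (n - 1) * eps n 2 := by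
  unfold phi; simp [genImage]

lemma phi_rename (p : FreeP n) : phi n (rename some p) = psi n p := by
  unfold phi psi
  rw [aeval_rename]
  rfl

/-- The image under `ψ` of a monomial. -/
noncomputable def gmon (m : Fin (numVars n) →₀ ℕ) : P n := psi n (monomial m 1)

lemma gmon_eq_prod (m : Fin (numVars n) →₀ ℕ) : gmon m = ∏ i, G n i ^ m i := by
  unfold gmon psi G
  rw [aeval_monomial, Finsupp.prod_fintype _ _ (fun i => pow_zero _)]
  simp

section tau

variable (τ : P n →ₐ[ZMod 2] P n)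

lemma char_two (a : P n) : a + a = 0 := by
  have h2 : (1 : ZMod 2) + 1 = 0 := by decide
  have h : a + a = ((1 : ZMod 2) + 1) • a := by rw [add_smul, one_smul]
  rw [h, h2, zero_smul]

lemma add_sq' (a b : P n) : (a + b) ^ 2 = a ^ 2 + b ^ 2 := by
  have h := char_two (a * b)
  have : (a + b) ^ 2 = a ^ 2 + b ^ 2 + (a * b + a * b) := by ring
  rw [this, h, add_zero]

lemma tau_G (hn : 2 ≤ n) (hτ1 : τ (eps n 1) = eps n 1)
    (hτ : ∀ j : ℕ, 2 ≤ j → j ≤ numVars n → τ (eps n j) = eps n j + eps n 1 ^ (2 * j - 3))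
    (i : Fin (numVars n)) : τ (G n i) = G n i := by
  have h2 : τ (eps n 2) = eps n 2 + eps n 1 := by
    have := hτ 2 le_rfl (by unfold numVars; omega)
    simpa using this
  by_cases h0 : i.val = 0
  · have : i = i0 hn := Fin.ext h0
    rw [this, G_i0, hτ1]
  by_cases h1 : i.val = 1
  · have : i = i1 hn := Fin.ext h1
    rw [this, G_i1, map_add, map_pow, map_mul, hτ1, h2, add_sq', mul_add]
    have := char_two (eps n 1 ^ 2)
    calc eps n 2 ^ 2 + eps n 1 ^ 2 + (eps n 1 * eps n 2 + eps n 1 * eps n 1)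
        = eps n 2 ^ 2 + eps n 1 * eps n 2 + (eps n 1 ^ 2 + eps n 1 ^ 2) := by ring
      _ = _ := by rw [this, add_zero]
  · have hi : 2 ≤ i.val := by omega
    rw [G_of_two_le i hi, map_add, map_mul, map_pow, hτ1, h2,
      hτ (i.val + 1) (by omega) i.isLt]
    obtain ⟨c, hc⟩ : ∃ c, c = 2 * (i.val + 1) - 4 := ⟨_, rfl⟩
    have e1 : 2 * (i.val + 1) - 3 = c + 1 := by omega
    rw [e1, ← hc]
    have := char_two (eps n 1 ^ (c + 1))
    calc eps n (i.val + 1) + eps n 1 ^ (c + 1) + eps n 1 ^ c * (eps n 2 + eps n 1)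
        = eps n (i.val + 1) + eps n 1 ^ c * eps n 2 +
          (eps n 1 ^ (c + 1) + eps n 1 ^ (c + 1)) := by ring
      _ = _ := by rw [this, add_zero]

lemma tau_psi (hn : 2 ≤ n) (hτ1 : τ (eps n 1) = eps n 1)
    (hτ : ∀ j : ℕ, 2 ≤ j → j ≤ numVars n → τ (eps n j) = eps n j + eps n 1 ^ (2 * j - 3))
    (p : FreeP n) : τ (psi n p) = psi n p := by
  have : τ.comp (psi n) = psi n := by
    apply MvPolynomial.algHom_ext
    intro i
    rw [AlgHom.comp_apply, psi_X, tau_G τ hn hτ1 hτ]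
  exact DFunLike.congr_fun this p

lemma tau_xbar (hn : 2 ≤ n) (hτ1 : τ (eps n 1) = eps n 1)
    (hτ : ∀ j : ℕ, 2 ≤ j → j ≤ numVars n → τ (eps n j) = eps n j + eps n 1 ^ (2 * j - 3)) :
    τ (eps n 1 ^ (n - 1) * eps n 2) = eps n 1 ^ (n - 1) * eps n 2 := by
  have h2 : τ (eps n 2) = eps n 2 + eps n 1 := by
    have := hτ 2 le_rfl (by unfold numVars; omega)
    simpa using this
  have h0 : eps n 1 ^ (n - 1) * eps n 1 = 0 := by
    rw [← pow_succ]; exact eps_one_pow_of_le hn (by omega)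
  rw [map_mul, map_pow, hτ1, h2, mul_add, h0, add_zero]

lemma tau_phi (hn : 2 ≤ n) (hτ1 : τ (eps n 1) = eps n 1)
    (hτ : ∀ j : ℕ, 2 ≤ j → j ≤ numVars n → τ (eps n j) = eps n j + eps n 1 ^ (2 * j - 3))
    (q : FreeE n) : τ (phi n q) = phi n q := by
  have : τ.comp (phi n) = phi n := by
    apply MvPolynomial.algHom_ext
    intro i
    rw [AlgHom.comp_apply]
    cases i with
    | none => rw [phi_X_none, tau_xbar τ hn hτ1 hτ]
    | some i => rw [phi_X_some, tau_G τ hn hτ1 hτ]
  exact DFunLike.congr_fun this q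

end tau

/-! ### The half box -/

/-- The bounds of the half box: the bound of `ε_2` is halved. -/
def bound' (hn : 2 ≤ n) (i : Fin (numVars n)) : ℕ :=
  if i = i1 hn then bound n i / 2 else bound n i

/-- The box of exponents. -/
def box (n : ℕ) : Set (Fin (numVars n) →₀ ℕ) := {m | ∀ i, m i < bound n i}

/-- The half box of exponents. -/
def box' (hn : 2 ≤ n) : Set (Fin (numVars n) →₀ ℕ) := {m | ∀ i, m i < bound' hn i}

lemma bound_i1 (hn : 2 ≤ n) : bound n (i1 hn) = 2 * 2 ^ (klog n 2 - 1) := by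
  rw [bound_of_pos _ (by simp)]
  have := one_le_klog_two hn
  have e : (i1 hn).val + 1 = 2 := rfl
  rw [e, ← pow_succ']
  congr 1
  omega

lemma bound'_i1 (hn : 2 ≤ n) : bound' hn (i1 hn) = 2 ^ (klog n 2 - 1) := by
  unfold bound'
  rw [if_pos rfl, bound_i1 hn]
  omega

lemma bound'_of_ne (hn : 2 ≤ n) (i : Fin (numVars n)) (hi : i ≠ i1 hn) :
    bound' hn i = bound n i := by
  unfold bound'; rw [if_neg hi]

/-- Halving the exponent of `ε_2`. -/
noncomputable def half (hn : 2 ≤ n) (m : Fin (numVars n) →₀ ℕ) : Fin (numVars n) →₀ ℕ :=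
  m.update (i1 hn) (m (i1 hn) / 2)

lemma half_i1 (hn : 2 ≤ n) (m : Fin (numVars n) →₀ ℕ) : half hn m (i1 hn) = m (i1 hn) / 2 := by
  unfold half; simp

lemma half_of_ne (hn : 2 ≤ n) (m : Fin (numVars n) →₀ ℕ) (i : Fin (numVars n))
    (hi : i ≠ i1 hn) : half hn m i = m i := by
  unfold half; simp [Function.update_of_ne hi]

lemma half_mem_box' (hn : 2 ≤ n) (m : Fin (numVars n) →₀ ℕ) (hm : m ∈ box n) :
    half hn m ∈ box' hn := by
  intro i
  by_cases hi : i = i1 hn
  · subst hi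
    rw [half_i1, bound'_i1]
    have := hm (i1 hn)
    rw [bound_i1 hn] at this
    omega
  · rw [half_of_ne hn m i hi, bound'_of_ne hn i hi]
    exact hm i

/-- The span of the images under `ψ` of the monomials of the half box. -/
noncomputable def V (hn : 2 ≤ n) : Submodule (ZMod 2) (P n) :=
  (restrictSupport (ZMod 2) (box' hn)).map (psi n).toLinearMap

/-- `ε_2 · V`. -/
noncomputable def Vu (hn : 2 ≤ n) : Submodule (ZMod 2) (P n) :=
  (V hn).map (LinearMap.mulLeft (ZMod 2) (eps n 2))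

lemma gmon_mem_V (hn : 2 ≤ n) (m : Fin (numVars n) →₀ ℕ) (hm : m ∈ box' hn) :
    gmon m ∈ V hn := by
  refine ⟨monomial m 1, ?_, rfl⟩
  simp [hm]

lemma mul_mem_Vu (hn : 2 ≤ n) (v : P n) (hv : v ∈ V hn) : eps n 2 * v ∈ Vu hn :=
  ⟨v, hv, rfl⟩

lemma pow_sub_pow_mem' {R : Type*} [CommRing R] (I : Ideal R) (a b : R) (k : ℕ)
    (h : a - b ∈ I) : a ^ k - b ^ k ∈ I := by
  obtain ⟨c, hc⟩ := sub_dvd_pow_sub_pow a b k
  rw [hc]
  exact I.mul_mem_right _ h

lemma prod_sub_prod_mem' {R ι : Type*} [CommRing R] (I : Ideal R) (s : Finset ι) (f g : ι → R)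
    (h : ∀ i ∈ s, f i - g i ∈ I) : ∏ i ∈ s, f i - ∏ i ∈ s, g i ∈ I := by
  classical
  induction s using Finset.induction_on with
  | empty => simp
  | insert a s ha ih =>
    rw [Finset.prod_insert ha, Finset.prod_insert ha]
    exact Ideal.mul_sub_mul_mem I (h a (Finset.mem_insert_self a s))
      (ih fun i hi => h i (Finset.mem_insert_of_mem hi))

/-- The key congruence: a monomial agrees with an element `ψ(monomial)·ε_2^c` up to a higher
power of `ε_1`. -/
lemma mon_congr (hn : 2 ≤ n) (m : Fin (numVars n) →₀ ℕ) :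
    ∃ p : P n, mon m = gmon (half hn m) * eps n 2 ^ (m (i1 hn) % 2) +
      eps n 1 ^ (m (i0 hn) + 1) * p := by
  classical
  obtain ⟨t, ht⟩ : ∃ t, t = eps n 1 := ⟨_, rfl⟩
  obtain ⟨u, hu⟩ : ∃ u, u = eps n 2 := ⟨_, rfl⟩
  let A : Fin (numVars n) → P n := fun i =>
    G n i ^ (half hn m i) * (if i = i1 hn then u ^ (m (i1 hn) % 2) else 1)
  have hA : gmon (half hn m) * u ^ (m (i1 hn) % 2) = ∏ i, A i := by
    rw [gmon_eq_prod, Finset.prod_mul_distrib, Finset.prod_ite_eq' Finset.univ (i1 hn)]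
    simp
  have hA0 : A (i0 hn) = t ^ m (i0 hn) := by
    simp only [A]
    rw [if_neg (i0_ne_i1 hn), mul_one, half_of_ne hn m _ (i0_ne_i1 hn), G_i0, ht]
  have htI : t ∈ Ideal.span ({t} : Set (P n)) := Ideal.subset_span rfl
  have hπ : ∀ i ∈ ({i0 hn}ᶜ : Finset (Fin (numVars n))),
      E n i ^ m i - A i ∈ Ideal.span ({t} : Set (P n)) := by
    intro i hi
    have hi0 : i ≠ i0 hn := by simpa using hi
    by_cases hi1 : i = i1 hn
    · subst hi1
      simp only [A, if_true]
      rw [half_i1, G_i1, ← hu, ← ht, ← eps_two hn, ← hu]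
      have h1 : u ^ 2 - (u ^ 2 + t * u) ∈ Ideal.span ({t} : Set (P n)) := by
        have : u ^ 2 - (u ^ 2 + t * u) = t * (-u) := by ring
        rw [this]
        exact Ideal.mul_mem_right _ _ htI
      have h2 := pow_sub_pow_mem' _ _ _ (m (i1 hn) / 2) h1
      have h3 : u ^ m (i1 hn) - (u ^ 2 + t * u) ^ (m (i1 hn) / 2) * u ^ (m (i1 hn) % 2) =
          ((u ^ 2) ^ (m (i1 hn) / 2) - (u ^ 2 + t * u) ^ (m (i1 hn) / 2)) *
            u ^ (m (i1 hn) % 2) := by
        rw [sub_mul, ← pow_mul, ← pow_add, Nat.div_add_mod]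
      rw [h3]
      exact Ideal.mul_mem_right _ _ h2
    · have h2 : 2 ≤ i.val := by
        have h0 : i.val ≠ 0 := fun h => hi0 (Fin.ext h)
        have h1 : i.val ≠ 1 := fun h => hi1 (Fin.ext h)
        omega
      simp only [A]
      rw [if_neg hi1, mul_one, half_of_ne hn m i hi1, G_of_two_le i h2, eps_succ, ← ht, ← hu]
      apply pow_sub_pow_mem'
      obtain ⟨c, hc⟩ : ∃ c, 2 * (i.val + 1) - 4 = c + 1 := ⟨2 * (i.val + 1) - 5, by omega⟩
      have : E n i - (E n i + t ^ (2 * (i.val + 1) - 4) * u) = t * (-(t ^ c * u)) := by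
        rw [hc]; ring
      rw [this]
      exact Ideal.mul_mem_right _ _ htI
  have hprod := prod_sub_prod_mem' _ _ _ _ hπ
  obtain ⟨p, hp⟩ := Ideal.mem_span_singleton'.mp hprod
  refine ⟨p, ?_⟩
  rw [← hu, ← ht, hA, mon_eq_prod, Fintype.prod_eq_mul_prod_compl (i0 hn),
    Fintype.prod_eq_mul_prod_compl (i0 hn) A, hA0, ← eps_one hn, ← ht]
  have : ∏ i ∈ ({i0 hn}ᶜ : Finset (Fin (numVars n))), E n i ^ m i =
      ∏ i ∈ ({i0 hn}ᶜ : Finset (Fin (numVars n))), A i + p * t := by
    rw [hp]; ring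
  rw [this]; ring

/-- The decomposition `P = V + ε_2 V`. -/
lemma V_sup_Vu (hn : 2 ≤ n) : V hn ⊔ Vu hn = ⊤ := by
  have key : ∀ k : ℕ, ∀ m : Fin (numVars n) →₀ ℕ, n ≤ m (i0 hn) + k → mon m ∈ V hn ⊔ Vu hn := by
    intro k
    induction k with
    | zero =>
      intro m hm
      rw [mon_eq_zero m (i0 hn) (by rw [bound_i0 hn]; omega)]
      exact Submodule.zero_mem _
    | succ k ih =>
      intro m hm
      by_cases hS : m ∈ box n
      · have hmul : ∀ q ∈ Submodule.span (ZMod 2) (Set.range (mon (n := n))),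
            eps n 1 ^ (m (i0 hn) + 1) * q ∈ V hn ⊔ Vu hn := by
          intro q hq
          induction hq using Submodule.span_induction with
          | mem x hx =>
            obtain ⟨m', rfl⟩ := hx
            rw [eps_one hn, ← mon_single, ← mon_add]
            apply ih
            simp only [Finsupp.coe_add, Pi.add_apply, Finsupp.single_eq_same]
            omega
          | zero => rw [mul_zero]; exact Submodule.zero_mem _
          | add x y _ _ hx hy => rw [mul_add]; exact Submodule.add_mem _ hx hy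
          | smul a x _ hx => rw [mul_smul_comm]; exact Submodule.smul_mem _ _ hx
        obtain ⟨p, hp⟩ := mon_congr hn m
        rw [hp]
        refine Submodule.add_mem _ ?_ ?_
        · have hg := gmon_mem_V hn _ (half_mem_box' hn m hS)
          rcases Nat.mod_two_eq_zero_or_one (m (i1 hn)) with h | h
          · rw [h, pow_zero, mul_one]
            exact Submodule.mem_sup_left hg
          · rw [h, pow_one, mul_comm]
            exact Submodule.mem_sup_right (mul_mem_Vu hn _ hg)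
        · exact hmul p (mem_span_mon p)
      · have : ∃ i, bound n i ≤ m i := by
          by_contra h
          push Not at h
          exact hS h
        obtain ⟨i, hi⟩ := this
        rw [mon_eq_zero m i hi]
        exact Submodule.zero_mem _
  rw [eq_top_iff]
  intro y _
  have hy := mem_span_mon y
  refine (Submodule.span_le.mpr ?_) hy
  rintro _ ⟨m, rfl⟩
  exact key n m (by omega)

/-- Every element is `ψ(p₀) + ψ(p₁)·ε_2` with `p₀`, `p₁` supported in the half box. -/
lemma exists_decomp (hn : 2 ≤ n) (y : P n) :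
    ∃ p0 ∈ restrictSupport (ZMod 2) (box' hn), ∃ p1 ∈ restrictSupport (ZMod 2) (box' hn),
      y = psi n p0 + psi n p1 * eps n 2 := by
  have hy : y ∈ V hn ⊔ Vu hn := by rw [V_sup_Vu hn]; trivial
  obtain ⟨v0, hv0, w, hw, rfl⟩ := Submodule.mem_sup.mp hy
  obtain ⟨p0, hp0, rfl⟩ := hv0
  obtain ⟨v1, ⟨p1, hp1, rfl⟩, rfl⟩ := hw
  refine ⟨p0, hp0, p1, hp1, ?_⟩
  simp [mul_comm]

end Groth.Agent.Lib.Seat65.QsB
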