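import Mathlib
import Groth.Agent.Lib.Seat65QsB

/-!
# The fixed subalgebra is the range of `φ`; the image of `1 + τ` (helper65)
-/

set_option autoImplicit false

namespace Groth.Agent.Lib.Seat65.QsC

open MvPolynomial QsChow Groth.Agent.Lib.Seat65.QsA Groth.Agent.Lib.Seat65.QsB

variable {n : ℕ}

section tau

variable (τ : P n →ₐ[ZMod 2] P n)

lemma tau_eps_two (hn : 2 ≤ n)
    (hτ : ∀ j : ℕ, 2 ≤ j → j ≤ numVars n → τ (eps n j) = eps n j + eps n 1 ^ (2 * j - 3)) :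
    τ (eps n 2) = eps n 2 + eps n 1 := by
  have := hτ 2 le_rfl (by unfold numVars; omega)
  simpa using this

/-- `y + τ y` for `y = ψ p₀ + ψ p₁ ε_2`. -/
lemma add_tau_decomp (hn : 2 ≤ n) (hτ1 : τ (eps n 1) = eps n 1)
    (hτ : ∀ j : ℕ, 2 ≤ j → j ≤ numVars n → τ (eps n j) = eps n j + eps n 1 ^ (2 * j - 3))
    (p0 p1 : FreeP n) :
    (psi n p0 + psi n p1 * eps n 2) + τ (psi n p0 + psi n p1 * eps n 2) =
      eps n 1 * psi n p1 := by
  rw [map_add, map_mul, tau_psi τ hn hτ1 hτ, tau_psi τ hn hτ1 hτ, tau_eps_two τ hn hτ]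
  have h1 := char_two (psi n p0)
  have h2 := char_two (psi n p1 * eps n 2)
  calc psi n p0 + psi n p1 * eps n 2 + (psi n p0 + psi n p1 * (eps n 2 + eps n 1))
      = (psi n p0 + psi n p0) + (psi n p1 * eps n 2 + psi n p1 * eps n 2) +
          eps n 1 * psi n p1 := by ring
    _ = _ := by rw [h1, h2]; ring

lemma eps_two_sq (hn : 2 ≤ n) : eps n 2 ^ 2 = G n (i1 hn) + eps n 1 * eps n 2 := by
  rw [G_i1, add_assoc, char_two, add_zero]

/-- The shape of a fixed element. -/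
lemma fixed_form (hn : 2 ≤ n) (hτ1 : τ (eps n 1) = eps n 1)
    (hτ : ∀ j : ℕ, 2 ≤ j → j ≤ numVars n → τ (eps n j) = eps n j + eps n 1 ^ (2 * j - 3))
    (z : P n) (hz : τ z = z) :
    ∃ p0 q0 q1 : FreeP n, z = psi n p0 + psi n q0 * (eps n 1 ^ (n - 1) * eps n 2) +
      eps n 1 ^ (n - 1) * (psi n q1 * G n (i1 hn)) := by
  obtain ⟨p0, -, p1, -, rfl⟩ := exists_decomp hn z
  have h := add_tau_decomp τ hn hτ1 hτ p0 p1
  rw [hz, char_two] at h
  obtain ⟨w, hw⟩ := exists_of_eps_one_mul_eq_zero hn _ h.symm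
  obtain ⟨q0, -, q1, -, rfl⟩ := exists_decomp hn w
  refine ⟨p0, q0, q1, ?_⟩
  rw [hw]
  have ht : eps n 1 ^ (n - 1) * eps n 1 = 0 := by
    rw [← pow_succ]; exact eps_one_pow_of_le hn (by omega)
  calc psi n p0 + eps n 1 ^ (n - 1) * (psi n q0 + psi n q1 * eps n 2) * eps n 2
      = psi n p0 + psi n q0 * (eps n 1 ^ (n - 1) * eps n 2) +
          eps n 1 ^ (n - 1) * (psi n q1 * eps n 2 ^ 2) := by ring
    _ = psi n p0 + psi n q0 * (eps n 1 ^ (n - 1) * eps n 2) +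
          eps n 1 ^ (n - 1) * (psi n q1 * G n (i1 hn)) +
          (eps n 1 ^ (n - 1) * eps n 1) * (psi n q1 * eps n 2) := by
        rw [eps_two_sq hn]; ring
    _ = _ := by rw [ht, zero_mul, add_zero]

/-- The range of `φ` is the fixed subalgebra. -/
theorem range_phi (hn : 2 ≤ n) (hτ1 : τ (eps n 1) = eps n 1)
    (hτ : ∀ j : ℕ, 2 ≤ j → j ≤ numVars n → τ (eps n j) = eps n j + eps n 1 ^ (2 * j - 3)) :
    (phi n).range = AlgHom.equalizer τ (AlgHom.id (ZMod 2) (P n)) := by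
  ext z
  rw [AlgHom.mem_equalizer, AlgHom.id_apply, AlgHom.mem_range]
  constructor
  · rintro ⟨q, rfl⟩
    exact tau_phi τ hn hτ1 hτ q
  · intro hz
    obtain ⟨p0, q0, q1, rfl⟩ := fixed_form τ hn hτ1 hτ z hz
    refine ⟨rename some p0 + rename some q0 * X none +
      (X (some (i0 hn))) ^ (n - 1) * (rename some q1 * X (some (i1 hn))), ?_⟩
    rw [map_add, map_add, map_mul, map_mul, map_mul, map_pow,
      phi_rename, phi_rename, phi_rename, phi_X_none, phi_X_some, phi_X_some, G_i0]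

/-- The image of `1 + τ` is `ε_1` times the fixed subalgebra. -/
theorem range_add_tau (hn : 2 ≤ n) (hτ1 : τ (eps n 1) = eps n 1)
    (hτ : ∀ j : ℕ, 2 ≤ j → j ≤ numVars n → τ (eps n j) = eps n j + eps n 1 ^ (2 * j - 3)) :
    Set.range (fun y : P n => y + τ y) =
      (fun z : P n => eps n 1 * z) ''
        (AlgHom.equalizer τ (AlgHom.id (ZMod 2) (P n)) : Set (P n)) := by
  ext v
  constructor
  · rintro ⟨y, rfl⟩
    obtain ⟨p0, -, p1, -, rfl⟩ := exists_decomp hn y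
    refine ⟨psi n p1, ?_, ?_⟩
    · show psi n p1 ∈ AlgHom.equalizer τ (AlgHom.id (ZMod 2) (P n))
      rw [AlgHom.mem_equalizer, AlgHom.id_apply]
      exact tau_psi τ hn hτ1 hτ p1
    · exact (add_tau_decomp τ hn hτ1 hτ p0 p1).symm
  · rintro ⟨z, hz, rfl⟩
    have hz' : τ z = z := by
      have : z ∈ AlgHom.equalizer τ (AlgHom.id (ZMod 2) (P n)) := hz
      rwa [AlgHom.mem_equalizer, AlgHom.id_apply] at this
    obtain ⟨p0, q0, q1, rfl⟩ := fixed_form τ hn hτ1 hτ z hz'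
    refine ⟨psi n 0 + psi n p0 * eps n 2, ?_⟩
    show (psi n 0 + psi n p0 * eps n 2) + τ (psi n 0 + psi n p0 * eps n 2) = _
    rw [add_tau_decomp τ hn hτ1 hτ]
    have ht : eps n 1 * eps n 1 ^ (n - 1) = 0 := by
      rw [← pow_succ']; exact eps_one_pow_of_le hn (by omega)
    calc eps n 1 * psi n p0
        = eps n 1 * psi n p0 + (eps n 1 * eps n 1 ^ (n - 1)) * (psi n q0 * eps n 2) +
          (eps n 1 * eps n 1 ^ (n - 1)) * (psi n q1 * G n (i1 hn)) := by
          rw [ht, zero_mul, zero_mul, add_zero, add_zero]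
      _ = _ := by ring

end tau

end Groth.Agent.Lib.Seat65.QsC
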