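import Mathlib
import Groth.Agent.Lib.Seat65QsB

/-!
# Dimension count: `P = V ⊕ ε_2 V` and injectivity of `ψ` on the half box (helper65)
-/

set_option autoImplicit false

namespace Groth.Agent.Lib.Seat65.QsD

open MvPolynomial QsChow Groth.Agent.Lib.Seat65.QsA Groth.Agent.Lib.Seat65.QsB

/-- A box of exponent vectors. -/
def boxSet {ι : Type*} (d : ι → ℕ) : Set (ι →₀ ℕ) := {m | ∀ i, m i < d i}

/-- A box is a product of finite intervals. -/
noncomputable def boxEquiv {ι : Type*} [Fintype ι] (d : ι → ℕ) :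
    boxSet d ≃ ((i : ι) → Fin (d i)) where
  toFun m := fun i => ⟨m.1 i, m.2 i⟩
  invFun f := ⟨Finsupp.equivFunOnFinite.symm (fun i => (f i : ℕ)), fun i => by simp⟩
  left_inv m := by ext; simp
  right_inv f := by ext; simp

instance {ι : Type*} [Fintype ι] (d : ι → ℕ) : Finite (boxSet d) :=
  Finite.of_equiv _ (boxEquiv d).symm

lemma card_boxSet {ι : Type*} [Fintype ι] [DecidableEq ι] (d : ι → ℕ) :
    Nat.card (boxSet d) = ∏ i, d i := by
  rw [Nat.card_congr (boxEquiv d), Nat.card_eq_fintype_card, Fintype.card_pi]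
  simp

lemma finrank_restrictSupport_boxSet {ι : Type*} [Fintype ι] [DecidableEq ι] (d : ι → ℕ) :
    Module.finrank (ZMod 2) (restrictSupport (ZMod 2) (boxSet d)) = ∏ i, d i := by
  rw [Module.finrank_eq_nat_card_basis (basisRestrictSupport (ZMod 2) (boxSet d)), card_boxSet]

instance {ι : Type*} [Fintype ι] (d : ι → ℕ) :
    Module.Finite (ZMod 2) (restrictSupport (ZMod 2) (boxSet d)) :=
  Module.Finite.of_basis (basisRestrictSupport (ZMod 2) (boxSet d))

variable {n : ℕ}

lemma box_eq : box n = boxSet (bound n) := rfl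

lemma box'_eq (hn : 2 ≤ n) : box' hn = boxSet (bound' hn) := rfl

lemma prod_bound (hn : 2 ≤ n) : ∏ i, bound n i = 2 * ∏ i, bound' hn i := by
  rw [Fintype.prod_eq_mul_prod_compl (i1 hn), Fintype.prod_eq_mul_prod_compl (i1 hn) (bound' hn),
    bound_i1 hn, bound'_i1 hn, mul_assoc]
  congr 2
  apply Finset.prod_congr rfl
  intro i hi
  have : i ≠ i1 hn := by simpa using hi
  rw [bound'_of_ne hn i this]

instance finite_box' (hn : 2 ≤ n) :
    Module.Finite (ZMod 2) (restrictSupport (ZMod 2) (box' hn)) := by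
  rw [box'_eq hn]; infer_instance

lemma finite_P (hn : 2 ≤ n) : Module.Finite (ZMod 2) (P n) := by
  rw [Module.finite_def, ← V_sup_Vu hn]
  have h1 : (V hn).FG := by
    unfold V
    apply Submodule.FG.map
    rw [box'_eq hn]
    exact (Module.Finite.iff_fg).mp inferInstance
  exact Submodule.FG.sup h1 (Submodule.FG.map _ h1)

/-- The monomials of the box are linearly independent in `P n`. -/
lemma prod_bound_le_finrank (hn : 2 ≤ n) : ∏ i, bound n i ≤ Module.finrank (ZMod 2) (P n) := by
  have := finite_P hn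
  rw [← finrank_restrictSupport_boxSet (bound n)]
  let L : restrictSupport (ZMod 2) (boxSet (bound n)) →ₗ[ZMod 2] P n :=
    (Ideal.Quotient.mkₐ (ZMod 2) (truncIdeal n)).toLinearMap.domRestrict _
  apply LinearMap.finrank_le_finrank_of_injective (f := L)
  rw [← LinearMap.ker_eq_bot, LinearMap.ker_eq_bot']
  rintro ⟨p, hp⟩ h
  have h' : p ∈ truncIdeal n := by
    have : (Ideal.Quotient.mk (truncIdeal n)) p = 0 := h
    exact Ideal.Quotient.eq_zero_iff_mem.mp this
  rw [mem_truncIdeal_iff] at h'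
  have : p = 0 := by
    rw [← support_eq_empty]
    by_contra hne
    obtain ⟨m, hm⟩ := Finset.nonempty_iff_ne_empty.mpr hne
    obtain ⟨i, hi⟩ := h' m hm
    have := (show (p.support : Set _) ⊆ boxSet (bound n) from hp) (Finset.mem_coe.mpr hm) i
    omega
  exact Subtype.ext this

lemma finrank_facts (hn : 2 ≤ n) :
    Module.finrank (ZMod 2) ↥(V hn ⊓ Vu hn) = 0 ∧
    Module.finrank (ZMod 2) (V hn) = ∏ i, bound' hn i ∧
    Module.finrank (ZMod 2) (Vu hn) = ∏ i, bound' hn i := by
  have := finite_P hn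
  have h1 := Submodule.finrank_sup_add_finrank_inf_eq (V hn) (Vu hn)
  rw [V_sup_Vu hn, finrank_top] at h1
  have h2 := prod_bound_le_finrank hn
  have h3 := prod_bound hn
  have h4 : Module.finrank (ZMod 2) (V hn) ≤ ∏ i, bound' hn i := by
    rw [← finrank_restrictSupport_boxSet (bound' hn)]
    exact Submodule.finrank_map_le _ _
  have h5 : Module.finrank (ZMod 2) (Vu hn) ≤ Module.finrank (ZMod 2) (V hn) :=
    Submodule.finrank_map_le _ _
  omega

lemma V_inf_Vu (hn : 2 ≤ n) : V hn ⊓ Vu hn = ⊥ := by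
  have := finite_P hn
  exact Submodule.finrank_eq_zero.mp (finrank_facts hn).1

/-- `ψ` is injective on the polynomials supported in the half box. -/
lemma psi_injOn (hn : 2 ≤ n) (p : FreeP n) (hp : p ∈ restrictSupport (ZMod 2) (box' hn))
    (h : psi n p = 0) : p = 0 := by
  have := finite_P hn
  let f := (psi n).toLinearMap.domRestrict (restrictSupport (ZMod 2) (boxSet (bound' hn)))
  have hr : LinearMap.range f = V hn := LinearMap.range_domRestrict _ _
  have h1 := LinearMap.finrank_range_add_finrank_ker f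
  rw [hr, (finrank_facts hn).2.1, finrank_restrictSupport_boxSet] at h1
  have h2 : Module.finrank (ZMod 2) (LinearMap.ker f) = 0 := by omega
  have h3 : LinearMap.ker f = ⊥ := Submodule.finrank_eq_zero.mp h2
  have := (LinearMap.ker_eq_bot'.mp h3) ⟨p, hp⟩ h
  exact congrArg Subtype.val this

/-- `ε_2 · ψ` is injective on the polynomials supported in the half box. -/
lemma mul_psi_injOn (hn : 2 ≤ n) (p : FreeP n) (hp : p ∈ restrictSupport (ZMod 2) (box' hn))
    (h : eps n 2 * psi n p = 0) : p = 0 := by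
  have := finite_P hn
  let f := ((LinearMap.mulLeft (ZMod 2) (eps n 2)).comp (psi n).toLinearMap).domRestrict
    (restrictSupport (ZMod 2) (boxSet (bound' hn)))
  have hr : LinearMap.range f = Vu hn := by
    rw [LinearMap.range_domRestrict, Submodule.map_comp]
    rfl
  have h1 := LinearMap.finrank_range_add_finrank_ker f
  rw [hr, (finrank_facts hn).2.2, finrank_restrictSupport_boxSet] at h1
  have h2 : Module.finrank (ZMod 2) (LinearMap.ker f) = 0 := by omega
  have h3 : LinearMap.ker f = ⊥ := Submodule.finrank_eq_zero.mp h2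
  have := (LinearMap.ker_eq_bot'.mp h3) ⟨p, hp⟩ h
  exact congrArg Subtype.val this

/-- Uniqueness of the decomposition. -/
lemma decomp_unique (hn : 2 ≤ n) (p0 p1 : FreeP n)
    (hp0 : p0 ∈ restrictSupport (ZMod 2) (box' hn))
    (hp1 : p1 ∈ restrictSupport (ZMod 2) (box' hn))
    (h : psi n p0 + psi n p1 * eps n 2 = 0) : p0 = 0 ∧ p1 = 0 := by
  have h1 : psi n p0 = eps n 2 * psi n p1 := by
    have := char_two (psi n p1 * eps n 2)
    calc psi n p0 = psi n p0 + psi n p1 * eps n 2 + psi n p1 * eps n 2 := by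
          rw [add_assoc, this, add_zero]
      _ = _ := by rw [h, zero_add, mul_comm]
  have hV : psi n p0 ∈ V hn := ⟨p0, hp0, rfl⟩
  have hVu : psi n p0 ∈ Vu hn := by
    rw [h1]; exact mul_mem_Vu hn _ ⟨p1, hp1, rfl⟩
  have h0 : psi n p0 ∈ V hn ⊓ Vu hn := ⟨hV, hVu⟩
  rw [V_inf_Vu hn, Submodule.mem_bot] at h0
  refine ⟨psi_injOn hn p0 hp0 h0, mul_psi_injOn hn p1 hp1 ?_⟩
  rw [← h1, h0]

end Groth.Agent.Lib.Seat65.QsD
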