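import Mathlib
import Groth.Agent.Lib.Seat65QsC
import Groth.Agent.Lib.Seat65QsD

/-!
# Purity of `V` for the `ε_1`-adic filtration (helper65): statement S17740
-/

set_option autoImplicit false

namespace Groth.Agent.Lib.Seat65.QsE

open MvPolynomial QsChow Groth.Agent.Lib.Seat65.QsA Groth.Agent.Lib.Seat65.QsB
  Groth.Agent.Lib.Seat65.QsC Groth.Agent.Lib.Seat65.QsD

variable {n : ℕ}

lemma V_eq_span (hn : 2 ≤ n) :
    V hn = Submodule.span (ZMod 2) ((fun m => gmon m) '' box' hn) := by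
  unfold V
  rw [restrictSupport_eq_span, Submodule.map_span, Set.image_image]
  rfl

lemma bound'_i0 (hn : 2 ≤ n) : bound' hn (i0 hn) = n := by
  rw [bound'_of_ne hn _ (i0_ne_i1 hn), bound_i0 hn]

lemma eps_one_mul_gmon (hn : 2 ≤ n) (m : Fin (numVars n) →₀ ℕ) :
    eps n 1 * gmon m = gmon (Finsupp.single (i0 hn) 1 + m) := by
  unfold gmon
  rw [← G_i0 hn, ← psi_X, ← map_mul]
  congr 1
  rw [X, monomial_mul, one_mul]

lemma gmon_eq_zero (hn : 2 ≤ n) (m : Fin (numVars n) →₀ ℕ) (h : n ≤ m (i0 hn)) :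
    gmon m = 0 := by
  rw [gmon_eq_prod]
  apply Finset.prod_eq_zero (Finset.mem_univ (i0 hn))
  rw [G_i0 hn]
  exact eps_one_pow_of_le hn h

lemma eps_one_mul_mem_V (hn : 2 ≤ n) (v : P n) (hv : v ∈ V hn) : eps n 1 * v ∈ V hn := by
  rw [V_eq_span hn] at hv
  induction hv using Submodule.span_induction with
  | mem x hx =>
    obtain ⟨m, hm, rfl⟩ := hx
    show eps n 1 * gmon m ∈ V hn
    rw [eps_one_mul_gmon hn]
    by_cases h : m (i0 hn) + 1 < n
    · apply gmon_mem_V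
      intro i
      by_cases hi : i = i0 hn
      · subst hi
        rw [bound'_i0 hn]
        simp only [Finsupp.coe_add, Pi.add_apply, Finsupp.single_eq_same]
        omega
      · have := hm i
        simpa [Finsupp.single_apply, Ne.symm hi] using this
    · rw [gmon_eq_zero hn]
      · exact Submodule.zero_mem _
      · simp only [Finsupp.coe_add, Pi.add_apply, Finsupp.single_eq_same]
        omega
  | zero => rw [mul_zero]; exact Submodule.zero_mem _
  | add x y _ _ hx hy => rw [mul_add]; exact Submodule.add_mem _ hx hy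
  | smul a x _ hx => rw [mul_smul_comm]; exact Submodule.smul_mem _ _ hx

lemma eps_one_pow_mul_mem_V (hn : 2 ≤ n) (k : ℕ) (v : P n) (hv : v ∈ V hn) :
    eps n 1 ^ k * v ∈ V hn := by
  induction k with
  | zero => simpa using hv
  | succ k ih =>
    rw [pow_succ', mul_assoc]
    exact eps_one_mul_mem_V hn _ ih

lemma V_le_range_psi (hn : 2 ≤ n) (v : P n) (hv : v ∈ V hn) : ∃ p : FreeP n, psi n p = v := by
  obtain ⟨p, -, rfl⟩ := hv
  exact ⟨p, rfl⟩

section tau

variable (τ : P n →ₐ[ZMod 2] P n)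

/-- Statement S17740. -/
theorem add_tau_mem_pow (hn : 2 ≤ n) (hτ1 : τ (eps n 1) = eps n 1)
    (hτ : ∀ j : ℕ, 2 ≤ j → j ≤ numVars n → τ (eps n j) = eps n j + eps n 1 ^ (2 * j - 3))
    (m : ℕ) (y : P n)
    (hy : y + τ y ∈ Ideal.span ({eps n 1 ^ m} : Set (P n))) :
    ∃ z : P n, τ z = z ∧ y + τ y = eps n 1 ^ m * z := by
  obtain ⟨p0, hp0, p1, hp1, rfl⟩ := exists_decomp hn y
  rw [add_tau_decomp τ hn hτ1 hτ] at hy ⊢
  obtain ⟨w, hw⟩ := Ideal.mem_span_singleton'.mp hy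
  obtain ⟨q0, hq0, q1, hq1, rfl⟩ := exists_decomp hn w
  have hv1 : psi n p1 ∈ V hn := ⟨p1, hp1, rfl⟩
  have hw0 : psi n q0 ∈ V hn := ⟨q0, hq0, rfl⟩
  have hw1 : psi n q1 ∈ V hn := ⟨q1, hq1, rfl⟩
  have ha : eps n 1 * psi n p1 + eps n 1 ^ m * psi n q0 ∈ V hn :=
    Submodule.add_mem _ (eps_one_mul_mem_V hn _ hv1) (eps_one_pow_mul_mem_V hn m _ hw0)
  have hb : eps n 1 * psi n p1 + eps n 1 ^ m * psi n q0 =
      eps n 2 * (eps n 1 ^ m * psi n q1) := by
    have := char_two (eps n 1 ^ m * psi n q0)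
    calc eps n 1 * psi n p1 + eps n 1 ^ m * psi n q0
        = (psi n q0 + psi n q1 * eps n 2) * eps n 1 ^ m + eps n 1 ^ m * psi n q0 := by rw [hw]
      _ = eps n 2 * (eps n 1 ^ m * psi n q1) +
          (eps n 1 ^ m * psi n q0 + eps n 1 ^ m * psi n q0) := by ring
      _ = _ := by rw [this, add_zero]
  have hc : eps n 1 * psi n p1 + eps n 1 ^ m * psi n q0 ∈ V hn ⊓ Vu hn := by
    refine ⟨ha, ?_⟩
    rw [hb]
    exact mul_mem_Vu hn _ (eps_one_pow_mul_mem_V hn m _ hw1)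
  rw [V_inf_Vu hn, Submodule.mem_bot] at hc
  refine ⟨psi n q0, tau_psi τ hn hτ1 hτ q0, ?_⟩
  have := char_two (eps n 1 ^ m * psi n q0)
  calc eps n 1 * psi n p1
      = eps n 1 * psi n p1 + eps n 1 ^ m * psi n q0 + eps n 1 ^ m * psi n q0 := by
        rw [add_assoc, this, add_zero]
    _ = _ := by rw [hc, zero_add]

end tau

end Groth.Agent.Lib.Seat65.QsE
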