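import Mathlib
import Groth.Agent.Lib.Seat65QsB

/-!
# The relations hold in `P n`: `presIdeal n ≤ ker φ` (helper65)
-/

set_option autoImplicit false

namespace Groth.Agent.Lib.Seat65.QsF

open MvPolynomial QsChow Groth.Agent.Lib.Seat65.QsA Groth.Agent.Lib.Seat65.QsB

section char2

variable {R : Type*} [CommRing R] (h2 : ∀ a : R, a + a = 0)
include h2

lemma add_sq_c2 (a b : R) : (a + b) ^ 2 = a ^ 2 + b ^ 2 := by
  have : (a + b) ^ 2 = a ^ 2 + b ^ 2 + (a * b + a * b) := by ring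
  rw [this, h2, add_zero]

lemma add_pow_two_pow (a b : R) (k : ℕ) : (a + b) ^ 2 ^ k = a ^ 2 ^ k + b ^ 2 ^ k := by
  induction k with
  | zero => simp
  | succ k ih => rw [pow_succ, pow_mul, ih, add_sq_c2 h2, ← pow_mul, ← pow_mul]

lemma sum_sq_c2 {ι : Type*} (s : Finset ι) (f : ι → R) :
    (∑ i ∈ s, f i) ^ 2 = ∑ i ∈ s, f i ^ 2 := by
  classical
  induction s using Finset.induction_on with
  | empty => simp
  | insert a s ha ih => rw [Finset.sum_insert ha, Finset.sum_insert ha, add_sq_c2 h2, ih]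

lemma sum_pow_two_pow {ι : Type*} (s : Finset ι) (f : ι → R) (k : ℕ) :
    (∑ i ∈ s, f i) ^ 2 ^ k = ∑ i ∈ s, f i ^ 2 ^ k := by
  classical
  induction s using Finset.induction_on with
  | empty => simp
  | insert a s ha ih =>
    rw [Finset.sum_insert ha, Finset.sum_insert ha, add_pow_two_pow h2, ih]

/-- The polynomial `S(k) = Σ_{i<k} t^(2^k - 2^(i+1)) e^(2^i)`. -/
def SS (t e : R) (k : ℕ) : R := ∑ i ∈ Finset.range k, t ^ (2 ^ k - 2 ^ (i + 1)) * e ^ 2 ^ i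

omit h2 in
lemma SS_succ (t e : R) (k : ℕ) : SS t e (k + 1) = t ^ 2 ^ k * SS t e k + e ^ 2 ^ k := by
  unfold SS
  rw [Finset.sum_range_succ, Finset.mul_sum, Nat.sub_self, pow_zero, one_mul]
  congr 1
  apply Finset.sum_congr rfl
  intro i hi
  have hi' : i < k := Finset.mem_range.mp hi
  have h2' : 2 ^ (i + 1) ≤ 2 ^ k := Nat.pow_le_pow_right (by norm_num) (by omega)
  have e1 : 2 ^ (k + 1) - 2 ^ (i + 1) = 2 ^ k + (2 ^ k - 2 ^ (i + 1)) := by
    rw [pow_succ 2 k]; omega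
  rw [e1, pow_add, mul_assoc]

lemma SS_succ' (t e : R) (k : ℕ) : SS t e (k + 1) = t ^ (2 ^ (k + 1) - 2) * e + SS t e k ^ 2 := by
  unfold SS
  rw [Finset.sum_range_succ', sum_sq_c2 h2, add_comm]
  congr 1
  · simp
  · apply Finset.sum_congr rfl
    intro i hi
    have hi' : i < k := Finset.mem_range.mp hi
    have h2' : 2 ^ (i + 1) ≤ 2 ^ k := Nat.pow_le_pow_right (by norm_num) (by omega)
    have e1 : 2 ^ (k + 1) - 2 ^ (i + 1 + 1) = (2 ^ k - 2 ^ (i + 1)) * 2 := by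
      rw [pow_succ 2 k, pow_succ 2 (i + 1)]; omega
    rw [e1, mul_pow, ← pow_mul, ← pow_mul, pow_succ 2 i]

/-- The key identity: `u^(2^k) = t^(2^k-1) u + S(k)(t, u² + t u)`. -/
lemma pow_two_pow_eq (t u : R) (k : ℕ) :
    u ^ 2 ^ k = t ^ (2 ^ k - 1) * u + SS t (u ^ 2 + t * u) k := by
  induction k with
  | zero => simp [SS]
  | succ k ih =>
    rw [pow_succ, pow_mul, ih, add_sq_c2 h2, SS_succ' h2]
    have hk : 1 ≤ 2 ^ k := Nat.one_le_two_pow
    have e1 : 2 ^ k * 2 - 1 = (2 ^ k - 1) * 2 + 1 := by omega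
    have e2 : 2 ^ (k + 1) - 2 = (2 ^ k - 1) * 2 := by rw [pow_succ]; omega
    rw [e1, e2]
    have := h2 (t ^ ((2 ^ k - 1) * 2) * (t * u))
    calc (t ^ (2 ^ k - 1) * u) ^ 2 + SS t (u ^ 2 + t * u) k ^ 2
        = t ^ ((2 ^ k - 1) * 2) * u ^ 2 + SS t (u ^ 2 + t * u) k ^ 2 := by ring
      _ = t ^ ((2 ^ k - 1) * 2) * u ^ 2 +
            (t ^ ((2 ^ k - 1) * 2) * (t * u) + t ^ ((2 ^ k - 1) * 2) * (t * u)) +
            SS t (u ^ 2 + t * u) k ^ 2 := by rw [this, add_zero]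
      _ = _ := by ring

end char2

variable {n : ℕ}

lemma evar_succ (i : Fin (numVars n)) : evar n (i.val + 1) = X (some i) := by
  unfold evar
  rw [dif_pos ⟨Nat.succ_pos _, i.isLt⟩]
  rfl

lemma evar_one (hn : 2 ≤ n) : evar n 1 = X (some (i0 hn)) := by
  simpa using evar_succ (i0 hn)

lemma evar_two (hn : 2 ≤ n) : evar n 2 = X (some (i1 hn)) := by
  simpa using evar_succ (i1 hn)

lemma phi_evar_one (hn : 2 ≤ n) : phi n (evar n 1) = eps n 1 := by
  rw [evar_one hn, phi_X_some, G_i0]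

lemma phi_evar_two (hn : 2 ≤ n) : phi n (evar n 2) = eps n 2 ^ 2 + eps n 1 * eps n 2 := by
  rw [evar_two hn, phi_X_some, G_i1]

lemma phi_xvar : phi n (xvar n) = eps n 1 ^ (n - 1) * eps n 2 := phi_X_none

lemma phi_sPoly (hn : 2 ≤ n) (j : ℕ) :
    phi n (sPoly n j) = SS (eps n 1) (eps n 2 ^ 2 + eps n 1 * eps n 2) (klog n j) := by
  unfold sPoly SS
  rw [map_sum]
  apply Finset.sum_congr rfl
  intro i _
  rw [map_mul, map_pow, map_pow, phi_evar_one hn, phi_evar_two hn]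

/-- `ε_2^(2^k) = ε_1^(2^k-1) ε_2 + S(k)`. -/
lemma eps_two_pow_two_pow (k : ℕ) :
    eps n 2 ^ 2 ^ k = eps n 1 ^ (2 ^ k - 1) * eps n 2 +
      SS (eps n 1) (eps n 2 ^ 2 + eps n 1 * eps n 2) k :=
  pow_two_pow_eq char_two (eps n 1) (eps n 2) k

lemma phi_hrel_two (hn : 2 ≤ n) : phi n (hrel n 2) = 0 := by
  unfold hrel
  rw [if_pos rfl, map_add, map_mul, map_pow, phi_evar_one hn, phi_xvar, phi_sPoly hn]
  have h1 := eps_two_pow_two_pow (n := n) (klog n 2)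
  rw [eps_two_pow hn] at h1
  have hN := le_two_pow_klog_two (n := n)
  have e : eps n 1 ^ (2 ^ klog n 2 - n) * (eps n 1 ^ (n - 1) * eps n 2) =
      eps n 1 ^ (2 ^ klog n 2 - 1) * eps n 2 := by
    rw [← mul_assoc, ← pow_add]
    congr 2
    omega
  rw [e, ← h1]

lemma phi_hrel_of_three_le (hn : 2 ≤ n) (i : Fin (numVars n)) (hi : 2 ≤ i.val) :
    phi n (hrel n (i.val + 1)) = 0 := by
  unfold hrel
  rw [if_neg (by omega), if_pos ⟨by omega, i.isLt⟩]
  obtain ⟨j, hj⟩ : ∃ j, j = i.val + 1 := ⟨_, rfl⟩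
  rw [← hj]
  have hj3 : 3 ≤ j := by omega
  obtain ⟨k, hk⟩ : ∃ k, k = klog n j := ⟨_, rfl⟩
  rw [← hk]
  rw [map_add, map_add, map_mul, map_mul, map_pow, map_pow, map_pow, phi_evar_one hn, phi_xvar,
    phi_sPoly hn, ← hk, hj, evar_succ, phi_X_some, G_of_two_le i hi, ← hj]
  obtain ⟨t, ht⟩ : ∃ t, t = eps n 1 := ⟨_, rfl⟩
  obtain ⟨u, hu⟩ : ∃ u, u = eps n 2 := ⟨_, rfl⟩
  rw [← ht, ← hu]
  have h0 : eps n j ^ 2 ^ k = 0 := by
    rw [hj, hk, hj]
    exact eps_pow i (by omega)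
  have h1 : u ^ 2 ^ k = t ^ (2 ^ k - 1) * u + SS t (u ^ 2 + t * u) k := by
    rw [hu, ht]; exact eps_two_pow_two_pow k
  have hle : n ≤ (2 * j - 3) * 2 ^ k := by
    rw [hk]; exact le_mul_two_pow_klog j (by omega)
  have hk1 : 1 ≤ 2 ^ k := Nat.one_le_two_pow
  rw [add_pow_two_pow char_two, h0, zero_add, mul_pow, ← pow_mul, h1]
  have e1 : t ^ ((2 * j - 3) * 2 ^ k - n) * (t ^ (n - 1) * u) =
      t ^ ((2 * j - 4) * 2 ^ k) * (t ^ (2 ^ k - 1) * u) := by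
    rw [← mul_assoc, ← mul_assoc, ← pow_add, ← pow_add]
    congr 2
    have : (2 * j - 3) * 2 ^ k = (2 * j - 4) * 2 ^ k + 2 ^ k := by
      have : 2 * j - 3 = (2 * j - 4) + 1 := by omega
      rw [this, add_mul, one_mul]
    omega
  rw [e1]
  have := char_two (t ^ ((2 * j - 4) * 2 ^ k) * (t ^ (2 ^ k - 1) * u + SS t (u ^ 2 + t * u) k))
  calc t ^ ((2 * j - 4) * 2 ^ k) * (t ^ (2 ^ k - 1) * u + SS t (u ^ 2 + t * u) k) +
        t ^ ((2 * j - 4) * 2 ^ k) * (t ^ (2 ^ k - 1) * u) +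
        t ^ ((2 * j - 4) * 2 ^ k) * SS t (u ^ 2 + t * u) k
      = t ^ ((2 * j - 4) * 2 ^ k) * (t ^ (2 ^ k - 1) * u + SS t (u ^ 2 + t * u) k) +
        t ^ ((2 * j - 4) * 2 ^ k) * (t ^ (2 ^ k - 1) * u + SS t (u ^ 2 + t * u) k) := by ring
    _ = 0 := this

lemma phi_hrel (hn : 2 ≤ n) (i : Fin (numVars n)) : phi n (hrel n (i.val + 1)) = 0 := by
  by_cases h0 : i.val = 0
  · unfold hrel
    rw [if_neg (by omega), if_neg (by omega), map_zero]
  by_cases h1 : i.val = 1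
  · have : i.val + 1 = 2 := by omega
    rw [this]; exact phi_hrel_two hn
  · exact phi_hrel_of_three_le hn i (by omega)

/-- The relations hold in `P n`. -/
theorem presIdeal_le_ker (hn : 2 ≤ n) : presIdeal n ≤ RingHom.ker (phi n) := by
  unfold presIdeal
  rw [Ideal.span_le]
  rintro q (hq | hq)
  · simp only [Set.mem_insert_iff, Set.mem_singleton_iff] at hq
    rw [SetLike.mem_coe, RingHom.mem_ker]
    rcases hq with rfl | rfl | rfl
    · rw [map_pow, phi_evar_one hn, eps_one_pow hn]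
    · rw [map_mul, phi_evar_one hn, phi_xvar, ← mul_assoc, ← pow_succ',
        eps_one_pow_of_le hn (by omega), zero_mul]
    · rw [map_pow, phi_xvar, mul_pow, ← pow_mul, eps_one_pow_of_le hn (by
        have : 2 * (n - 1) = (n - 1) * 2 := by ring
        omega), zero_mul]
  · obtain ⟨i, rfl⟩ := hq
    rw [SetLike.mem_coe, RingHom.mem_ker]
    exact phi_hrel hn i

end Groth.Agent.Lib.Seat65.QsF
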