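import Mathlib
import Groth.Agent.Lib.Seat65QsD
import Groth.Agent.Lib.Seat65QsE
import Groth.Agent.Lib.Seat65QsF

/-!
# The kernel of `φ` is the ideal of relations (helper65): statement S17742
-/

set_option autoImplicit false

namespace Groth.Agent.Lib.Seat65.QsG

open MvPolynomial QsChow Groth.Agent.Lib.Seat65.QsA Groth.Agent.Lib.Seat65.QsB
  Groth.Agent.Lib.Seat65.QsD Groth.Agent.Lib.Seat65.QsE Groth.Agent.Lib.Seat65.QsF

variable {n : ℕ}

lemma char_two_E (a : FreeE n) : a + a = 0 := by
  have h2 : (1 : ZMod 2) + 1 = 0 := by decide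
  have h : a + a = ((1 : ZMod 2) + 1) • a := by rw [add_smul, one_smul]
  rw [h, h2, zero_smul]

/-- Monomials in the variables `e_j`. -/
noncomputable def emon (g : Fin (numVars n) →₀ ℕ) : FreeE n := rename some (monomial g 1)

lemma emon_add (g g' : Fin (numVars n) →₀ ℕ) : emon (g + g') = emon g * emon g' := by
  unfold emon
  rw [← map_mul, monomial_mul, one_mul]

lemma emon_single (i : Fin (numVars n)) (k : ℕ) :
    emon (Finsupp.single i k) = (X (some i) : FreeE n) ^ k := by
  unfold emon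
  rw [← X_pow_eq_monomial, map_pow, rename_X]

lemma emon_zero : emon (0 : Fin (numVars n) →₀ ℕ) = 1 := by
  unfold emon
  simp

lemma phi_emon (g : Fin (numVars n) →₀ ℕ) : phi n (emon g) = gmon g := by
  unfold emon gmon
  rw [phi_rename]

/-- The half box with no `e_1`. -/
def box0 (hn : 2 ≤ n) : Set (Fin (numVars n) →₀ ℕ) := {g | g ∈ box' hn ∧ g (i0 hn) = 0}

/-- The ideal of relations together with `e_1`. -/
noncomputable def J (hn : 2 ≤ n) : Ideal (FreeE n) :=
  presIdeal n ⊔ Ideal.span {(X (some (i0 hn)) : FreeE n)}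

lemma presIdeal_le_J (hn : 2 ≤ n) : presIdeal n ≤ J hn := le_sup_left

lemma e0_mem_J (hn : 2 ≤ n) : (X (some (i0 hn)) : FreeE n) ∈ J hn :=
  Ideal.mem_sup_right (Ideal.subset_span rfl)

lemma e0_pow_mul_mem_J (hn : 2 ≤ n) (k : ℕ) (hk : k ≠ 0) (q : FreeE n) :
    (X (some (i0 hn)) : FreeE n) ^ k * q ∈ J hn := by
  obtain ⟨k', rfl⟩ := Nat.exists_eq_succ_of_ne_zero hk
  rw [pow_succ, mul_assoc]
  exact Ideal.mul_mem_left _ _ (Ideal.mul_mem_right _ _ (e0_mem_J hn))

lemma e0_pow_mem (hn : 2 ≤ n) : (X (some (i0 hn)) : FreeE n) ^ n ∈ presIdeal n := by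
  rw [← evar_one hn]
  exact Ideal.subset_span (Or.inl (by simp))

lemma e0_mul_x_mem (hn : 2 ≤ n) : (X (some (i0 hn)) : FreeE n) * X none ∈ presIdeal n := by
  rw [← evar_one hn]
  exact Ideal.subset_span (Or.inl (by simp [xvar]))

lemma x_sq_mem : (X none : FreeE n) ^ 2 ∈ presIdeal n :=
  Ideal.subset_span (Or.inl (by simp [xvar]))

lemma hrel_mem (i : Fin (numVars n)) : hrel n (i.val + 1) ∈ presIdeal n :=
  Ideal.subset_span (Or.inr ⟨i, rfl⟩)

/-- The exponent of `e_1` in front of `x` in the relation `h_j`. -/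
def cexp (n : ℕ) (i : Fin (numVars n)) : ℕ :=
  (2 * (i.val + 1) - 3) * 2 ^ klog n (i.val + 1) - n

/-- Modulo the relations and `e_1`, the power `e_j^(bound')` is `e_1^c x`. -/
lemma pow_bound'_add_mem (hn : 2 ≤ n) (i : Fin (numVars n)) (hi : i.val ≠ 0) :
    (X (some i) : FreeE n) ^ bound' hn i + X (some (i0 hn)) ^ cexp n i * X none ∈ J hn := by
  by_cases h1 : i = i1 hn
  · subst h1
    have hk := one_le_klog_two hn
    obtain ⟨k', hk'⟩ : ∃ k', klog n 2 = k' + 1 := ⟨klog n 2 - 1, by omega⟩
    have hh := hrel_mem (i1 hn)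
    have e2 : (i1 hn).val + 1 = 2 := rfl
    rw [e2] at hh
    unfold hrel at hh
    rw [if_pos rfl] at hh
    unfold sPoly at hh
    rw [hk', Finset.sum_range_succ, Nat.sub_self, pow_zero, one_mul, evar_one hn, evar_two hn,
      xvar] at hh
    have hb : bound' hn (i1 hn) = 2 ^ k' := by rw [bound'_i1 hn, hk']; simp
    have hc : cexp n (i1 hn) = 2 ^ (k' + 1) - n := by
      unfold cexp; rw [e2, hk']; simp
    rw [hb, hc]
    have hrest : ∑ x ∈ Finset.range k', (X (some (i0 hn)) : FreeE n) ^ (2 ^ (k' + 1) - 2 ^ (x + 1)) *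
        X (some (i1 hn)) ^ 2 ^ x ∈ J hn := by
      refine Ideal.sum_mem _ fun t ht => ?_
      have ht' : t < k' := Finset.mem_range.mp ht
      apply e0_pow_mul_mem_J hn
      have h1 : 2 ^ (t + 1) ≤ 2 ^ k' := Nat.pow_le_pow_right (by norm_num) (by omega)
      have h2 : 2 ^ k' < 2 ^ (k' + 1) := Nat.pow_lt_pow_right (by norm_num) (by omega)
      omega
    have := (J hn).sub_mem (presIdeal_le_J hn hh) hrest
    convert this using 1
    ring
  · have h2 : 2 ≤ i.val := by
      have : i.val ≠ 1 := fun h => h1 (Fin.ext h)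
      omega
    have hh := hrel_mem i
    unfold hrel at hh
    rw [if_neg (by omega), if_pos ⟨by omega, i.isLt⟩, evar_one hn, evar_succ, xvar] at hh
    have hb : bound' hn i = 2 ^ klog n (i.val + 1) := by
      rw [bound'_of_ne hn i h1, bound_of_pos i hi]
    rw [hb]
    unfold cexp
    have hrest : (X (some (i0 hn)) : FreeE n) ^ ((2 * (i.val + 1) - 4) * 2 ^ klog n (i.val + 1)) *
        sPoly n (i.val + 1) ∈ J hn := by
      apply e0_pow_mul_mem_J hn
      have : 1 ≤ 2 ^ klog n (i.val + 1) := Nat.one_le_two_pow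
      have h3 : 2 ≤ 2 * (i.val + 1) - 4 := by omega
      exact Nat.ne_of_gt (Nat.mul_pos (by omega) (by omega))
    have := (J hn).sub_mem (presIdeal_le_J hn hh) hrest
    convert this using 1
    ring

/-! ### Stage 1: spanning modulo `e_1` -/

/-- The generators of the first stage. -/
def gens2 (hn : 2 ≤ n) : Set (FreeE n) :=
  {q | ∃ g ∈ box0 hn, ∃ c : ℕ, c ≤ 1 ∧ q = emon g * X none ^ c}

/-- Membership in `span gens2 + J`. -/
def inN (hn : 2 ≤ n) (q : FreeE n) : Prop :=
  ∃ v ∈ Submodule.span (ZMod 2) (gens2 hn), ∃ j ∈ J hn, q = v + j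

lemma inN_add (hn : 2 ≤ n) {q q' : FreeE n} (h : inN hn q) (h' : inN hn q') : inN hn (q + q') := by
  obtain ⟨v, hv, j, hj, rfl⟩ := h
  obtain ⟨v', hv', j', hj', rfl⟩ := h'
  exact ⟨v + v', Submodule.add_mem _ hv hv', j + j', (J hn).add_mem hj hj', by ring⟩

lemma inN_smul (hn : 2 ≤ n) (a : ZMod 2) {q : FreeE n} (h : inN hn q) : inN hn (a • q) := by
  obtain ⟨v, hv, j, hj, rfl⟩ := h
  refine ⟨a • v, Submodule.smul_mem _ _ hv, a • j, ?_, by rw [smul_add]⟩
  rw [Algebra.smul_def]
  exact Ideal.mul_mem_left _ _ hj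

lemma inN_of_mem_J (hn : 2 ≤ n) {q : FreeE n} (h : q ∈ J hn) : inN hn q :=
  ⟨0, Submodule.zero_mem _, q, h, by rw [zero_add]⟩

lemma inN_of_gen (hn : 2 ≤ n) {q : FreeE n} (h : q ∈ gens2 hn) : inN hn q :=
  ⟨q, Submodule.subset_span h, 0, (J hn).zero_mem, by rw [add_zero]⟩

lemma erase_mem_box0 (hn : 2 ≤ n) (g : Fin (numVars n) →₀ ℕ) (hg : g ∈ box0 hn)
    (i : Fin (numVars n)) : g.erase i ∈ box0 hn := by
  refine ⟨fun k => ?_, ?_⟩
  · by_cases hk : k = i
    · subst hk
      rw [Finsupp.erase_same]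
      exact Nat.lt_of_le_of_lt (Nat.zero_le _) (hg.1 k)
    · rw [Finsupp.erase_ne hk]; exact hg.1 k
  · by_cases hk : i0 hn = i
    · rw [← hk, Finsupp.erase_same]
    · rw [Finsupp.erase_ne hk]; exact hg.2

lemma inN_gen_mul_var (hn : 2 ≤ n) (g : Fin (numVars n) →₀ ℕ) (hg : g ∈ box0 hn) (c : ℕ)
    (hc : c ≤ 1) (y : Option (Fin (numVars n))) :
    inN hn (emon g * X none ^ c * X y) := by
  cases y with
  | none =>
    interval_cases c
    · apply inN_of_gen
      exact ⟨g, hg, 1, le_rfl, by ring⟩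
    · apply inN_of_mem_J
      have : emon g * X none ^ 1 * X none = emon g * (X none : FreeE n) ^ 2 := by ring
      rw [this]
      exact Ideal.mul_mem_left _ _ (presIdeal_le_J hn x_sq_mem)
  | some i =>
    by_cases hi0 : i = i0 hn
    · subst hi0
      apply inN_of_mem_J
      exact Ideal.mul_mem_left _ _ (e0_mem_J hn)
    have hival : i.val ≠ 0 := fun h => hi0 (Fin.ext h)
    by_cases hlt : g i + 1 < bound' hn i
    · apply inN_of_gen
      refine ⟨g + Finsupp.single i 1, ⟨fun k => ?_, ?_⟩, c, hc, ?_⟩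
      · by_cases hk : k = i
        · subst hk; simpa using hlt
        · have := hg.1 k
          simpa [Finsupp.single_apply, Ne.symm hk] using this
      · have := hg.2
        simpa [Finsupp.single_apply, hi0] using this
      · rw [emon_add, emon_single]; ring
    · have hgi : g i + 1 = bound' hn i := by
        have := hg.1 i
        omega
      have hsplit : emon g = emon (g.erase i) * (X (some i) : FreeE n) ^ g i := by
        rw [← emon_single, ← emon_add, Finsupp.erase_add_single]
      have hrel := pow_bound'_add_mem hn i hival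
      have h2 := char_two_E ((X (some (i0 hn)) : FreeE n) ^ cexp n i * X none)
      have hrw : emon g * X none ^ c * X (some i) =
          emon (g.erase i) * X none ^ c *
            ((X (some i) : FreeE n) ^ bound' hn i + X (some (i0 hn)) ^ cexp n i * X none) +
          emon (g.erase i) * X none ^ c * (X (some (i0 hn)) ^ cexp n i * X none) := by
        rw [hsplit, ← hgi]
        calc emon (g.erase i) * (X (some i) : FreeE n) ^ g i * X none ^ c * X (some i)
            = emon (g.erase i) * X none ^ c * (X (some i) : FreeE n) ^ (g i + 1) +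
              emon (g.erase i) * X none ^ c * 0 := by ring
          _ = emon (g.erase i) * X none ^ c * (X (some i) : FreeE n) ^ (g i + 1) +
              emon (g.erase i) * X none ^ c *
                ((X (some (i0 hn)) : FreeE n) ^ cexp n i * X none +
                  X (some (i0 hn)) ^ cexp n i * X none) := by rw [h2]
          _ = _ := by ring
      rw [hrw]
      apply inN_add hn (inN_of_mem_J hn (Ideal.mul_mem_left _ _ hrel))
      by_cases hc0 : cexp n i = 0
      · rw [hc0, pow_zero, one_mul]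
        interval_cases c
        · apply inN_of_gen
          exact ⟨g.erase i, erase_mem_box0 hn g hg i, 1, le_rfl, by ring⟩
        · apply inN_of_mem_J
          have : emon (g.erase i) * X none ^ 1 * X none =
              emon (g.erase i) * (X none : FreeE n) ^ 2 := by ring
          rw [this]
          exact Ideal.mul_mem_left _ _ (presIdeal_le_J hn x_sq_mem)
      · apply inN_of_mem_J
        exact Ideal.mul_mem_left _ _ (e0_pow_mul_mem_J hn _ hc0 _)

lemma inN_mul_var (hn : 2 ≤ n) (q : FreeE n) (h : inN hn q) (y : Option (Fin (numVars n))) :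
    inN hn (q * X y) := by
  obtain ⟨v, hv, j, hj, rfl⟩ := h
  rw [add_mul]
  apply inN_add hn _ (inN_of_mem_J hn (Ideal.mul_mem_right _ _ hj))
  induction hv using Submodule.span_induction with
  | mem x hx =>
    obtain ⟨g, hg, c, hc, rfl⟩ := hx
    exact inN_gen_mul_var hn g hg c hc y
  | zero => rw [zero_mul]; exact inN_of_mem_J hn (J hn).zero_mem
  | add x x' _ _ hx hx' => rw [add_mul]; exact inN_add hn hx hx'
  | smul a x _ hx => rw [smul_mul_assoc]; exact inN_smul hn a hx

lemma zero_mem_box0 (hn : 2 ≤ n) : (0 : Fin (numVars n) →₀ ℕ) ∈ box0 hn := by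
  refine ⟨fun i => ?_, rfl⟩
  simp only [Finsupp.coe_zero, Pi.zero_apply]
  by_cases hi : i = i1 hn
  · subst hi; rw [bound'_i1 hn]; exact Nat.pos_of_ne_zero (by positivity)
  · rw [bound'_of_ne hn i hi]
    unfold bound
    split_ifs
    · omega
    · exact Nat.pos_of_ne_zero (by positivity)

lemma inN_all (hn : 2 ≤ n) (q : FreeE n) : inN hn q := by
  induction q using MvPolynomial.induction_on with
  | C a =>
    have : (C a : FreeE n) = a • (emon (0 : Fin (numVars n) →₀ ℕ) * X none ^ 0) := by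
      rw [emon_zero, pow_zero, mul_one, Algebra.smul_def, mul_one]; rfl
    rw [this]
    apply inN_smul hn
    apply inN_of_gen
    exact ⟨0, zero_mem_box0 hn, 0, by omega, rfl⟩
  | add p q hp hq => exact inN_add hn hp hq
  | mul_X p y hp => exact inN_mul_var hn p hp y

/-! ### Stage 2: spanning modulo the relations -/

/-- The generators of the second stage. -/
def gens1 (hn : 2 ≤ n) : Set (FreeE n) :=
  {q | (∃ g ∈ box' hn, q = emon g) ∨ (∃ g ∈ box0 hn, q = emon g * X none)}

/-- Membership in `span gens1 + presIdeal`. -/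
def inG (hn : 2 ≤ n) (q : FreeE n) : Prop :=
  ∃ v ∈ Submodule.span (ZMod 2) (gens1 hn), ∃ j ∈ presIdeal n, q = v + j

lemma inG_add (hn : 2 ≤ n) {q q' : FreeE n} (h : inG hn q) (h' : inG hn q') : inG hn (q + q') := by
  obtain ⟨v, hv, j, hj, rfl⟩ := h
  obtain ⟨v', hv', j', hj', rfl⟩ := h'
  exact ⟨v + v', Submodule.add_mem _ hv hv', j + j', (presIdeal n).add_mem hj hj', by ring⟩

lemma inG_smul (hn : 2 ≤ n) (a : ZMod 2) {q : FreeE n} (h : inG hn q) : inG hn (a • q) := by
  obtain ⟨v, hv, j, hj, rfl⟩ := h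
  refine ⟨a • v, Submodule.smul_mem _ _ hv, a • j, ?_, by rw [smul_add]⟩
  rw [Algebra.smul_def]
  exact Ideal.mul_mem_left _ _ hj

lemma inG_of_mem (hn : 2 ≤ n) {q : FreeE n} (h : q ∈ presIdeal n) : inG hn q :=
  ⟨0, Submodule.zero_mem _, q, h, by rw [zero_add]⟩

lemma inG_of_gen (hn : 2 ≤ n) {q : FreeE n} (h : q ∈ gens1 hn) : inG hn q :=
  ⟨q, Submodule.subset_span h, 0, (presIdeal n).zero_mem, by rw [add_zero]⟩

lemma inG_pow_mul_gen (hn : 2 ≤ n) (a : ℕ) (ha : a < n) (g : Fin (numVars n) →₀ ℕ)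
    (hg : g ∈ box0 hn) (c : ℕ) (hc : c ≤ 1) :
    inG hn ((X (some (i0 hn)) : FreeE n) ^ a * (emon g * X none ^ c)) := by
  interval_cases c
  · apply inG_of_gen
    left
    refine ⟨Finsupp.single (i0 hn) a + g, fun k => ?_, ?_⟩
    · by_cases hk : k = i0 hn
      · subst hk
        rw [bound'_i0 hn]
        simp only [Finsupp.coe_add, Pi.add_apply, Finsupp.single_eq_same, hg.2]
        omega
      · have := hg.1 k
        simpa [Finsupp.single_apply, Ne.symm hk] using this
    · rw [emon_add, emon_single]; ring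
  · by_cases ha0 : a = 0
    · subst ha0
      apply inG_of_gen
      right
      exact ⟨g, hg, by ring⟩
    · obtain ⟨a', rfl⟩ := Nat.exists_eq_succ_of_ne_zero ha0
      apply inG_of_mem
      have : (X (some (i0 hn)) : FreeE n) ^ (a' + 1) * (emon g * X none ^ 1) =
          (X (some (i0 hn)) ^ a' * emon g) * (X (some (i0 hn)) * X none) := by ring
      rw [this]
      exact Ideal.mul_mem_left _ _ (e0_mul_x_mem hn)

lemma inG_all (hn : 2 ≤ n) (q : FreeE n) : inG hn q := by
  have key : ∀ k : ℕ, k ≤ n → ∀ q : FreeE n,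
      inG hn ((X (some (i0 hn)) : FreeE n) ^ (n - k) * q) := by
    intro k
    induction k with
    | zero =>
      intro _ q
      apply inG_of_mem
      exact Ideal.mul_mem_right _ _ (e0_pow_mem hn)
    | succ k ih =>
      intro hk q
      obtain ⟨v, hv, j, hj, rfl⟩ := inN_all hn q
      obtain ⟨j1, hj1, j2, hj2, rfl⟩ := Submodule.mem_sup.mp hj
      obtain ⟨r, rfl⟩ := Ideal.mem_span_singleton'.mp hj2
      have e : (X (some (i0 hn)) : FreeE n) ^ (n - (k + 1)) * (v + (j1 + r * X (some (i0 hn)))) =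
          X (some (i0 hn)) ^ (n - (k + 1)) * v + X (some (i0 hn)) ^ (n - (k + 1)) * j1 +
          X (some (i0 hn)) ^ (n - k) * r := by
        have : n - k = (n - (k + 1)) + 1 := by omega
        rw [this, pow_succ]; ring
      rw [e]
      clear e hj
      refine inG_add hn (inG_add hn ?_ (inG_of_mem hn (Ideal.mul_mem_left _ _ hj1)))
        (ih (by omega) r)
      induction hv using Submodule.span_induction with
      | mem x hx =>
        obtain ⟨g, hg, c, hc, rfl⟩ := hx
        exact inG_pow_mul_gen hn _ (by omega) g hg c hc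
      | zero => rw [mul_zero]; exact inG_of_mem hn (presIdeal n).zero_mem
      | add x x' _ _ hx hx' => rw [mul_add]; exact inG_add hn hx hx'
      | smul a x _ hx => rw [mul_smul_comm]; exact inG_smul hn a hx
  have := key n le_rfl q
  simpa using this

/-- Elements of `span gens1` have the normal form. -/
lemma normal_form (hn : 2 ≤ n) (v : FreeE n) (hv : v ∈ Submodule.span (ZMod 2) (gens1 hn)) :
    ∃ p0 ∈ restrictSupport (ZMod 2) (box' hn), ∃ p1 ∈ restrictSupport (ZMod 2) (box0 hn),
      v = rename some p0 + rename some p1 * X none := by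
  induction hv using Submodule.span_induction with
  | mem x hx =>
    rcases hx with ⟨g, hg, rfl⟩ | ⟨g, hg, rfl⟩
    · exact ⟨monomial g 1, by simp [hg], 0, Submodule.zero_mem _, by simp [emon]⟩
    · exact ⟨0, Submodule.zero_mem _, monomial g 1, by simp [hg], by simp [emon]⟩
  | zero => exact ⟨0, Submodule.zero_mem _, 0, Submodule.zero_mem _, by simp⟩
  | add x x' _ _ hx hx' =>
    obtain ⟨p0, hp0, p1, hp1, rfl⟩ := hx
    obtain ⟨p0', hp0', p1', hp1', rfl⟩ := hx'
    exact ⟨p0 + p0', Submodule.add_mem _ hp0 hp0', p1 + p1', Submodule.add_mem _ hp1 hp1',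
      by simp only [map_add]; ring⟩
  | smul a x _ hx =>
    obtain ⟨p0, hp0, p1, hp1, rfl⟩ := hx
    refine ⟨a • p0, Submodule.smul_mem _ _ hp0, a • p1, Submodule.smul_mem _ _ hp1, ?_⟩
    rw [smul_add, map_smul, map_smul, smul_mul_assoc]

lemma pow_mul_mem_box' (hn : 2 ≤ n) (p : FreeP n) (hp : p ∈ restrictSupport (ZMod 2) (box0 hn)) :
    (X (i0 hn) : FreeP n) ^ (n - 1) * p ∈ restrictSupport (ZMod 2) (box' hn) := by
  rw [restrictSupport_eq_span] at hp
  induction hp using Submodule.span_induction with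
  | mem x hx =>
    obtain ⟨g, hg, rfl⟩ := hx
    show (X (i0 hn) : FreeP n) ^ (n - 1) * monomial g 1 ∈ _
    rw [X_pow_eq_monomial, monomial_mul, one_mul]
    simp only [monomial_mem_restrictSupport, one_ne_zero, or_false]
    intro k
    by_cases hk : k = i0 hn
    · subst hk
      rw [bound'_i0 hn]
      simp only [Finsupp.coe_add, Pi.add_apply, Finsupp.single_eq_same, hg.2]
      omega
    · have := hg.1 k
      simpa [Finsupp.single_apply, Ne.symm hk] using this
  | zero => rw [mul_zero]; exact Submodule.zero_mem _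
  | add x x' _ _ hx hx' => rw [mul_add]; exact Submodule.add_mem _ hx hx'
  | smul a x _ hx => rw [mul_smul_comm]; exact Submodule.smul_mem _ _ hx

/-- Statement S17742: the kernel of `φ` is the ideal of relations. -/
theorem ker_phi (hn : 2 ≤ n) : RingHom.ker (phi n) = presIdeal n := by
  apply le_antisymm _ (presIdeal_le_ker hn)
  intro q hq
  rw [RingHom.mem_ker] at hq
  obtain ⟨v, hv, j, hj, rfl⟩ := inG_all hn q
  obtain ⟨p0, hp0, p1, hp1, rfl⟩ := normal_form hn v hv
  have hj0 : phi n j = 0 := presIdeal_le_ker hn hj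
  rw [map_add, hj0, add_zero, map_add, map_mul, phi_rename, phi_rename, phi_X_none] at hq
  have hq' : psi n p0 + psi n ((X (i0 hn) : FreeP n) ^ (n - 1) * p1) * eps n 2 = 0 := by
    rw [map_mul, map_pow, psi_X, G_i0 hn, ← hq]; ring
  obtain ⟨h0, h1⟩ := decomp_unique hn p0 _ hp0 (pow_mul_mem_box' hn p1 hp1) hq'
  have h1' : p1 = 0 := by
    rcases mul_eq_zero.mp h1 with h | h
    · exact absurd h (pow_ne_zero _ (X_ne_zero _))
    · exact h
  rw [h0, h1']
  simpa using hj

end Groth.Agent.Lib.Seat65.QsG
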