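import Mathlib
import Groth.Agent.Lib.Seat65QsC
import Groth.Agent.Lib.Seat65QsG

/-!
# The invariant subalgebra modulo a power of `ε_1`; the case `n` odd (helper65): S17747
-/

set_option autoImplicit false

namespace Groth.Agent.Lib.Seat65.QsH

open MvPolynomial QsChow Groth.Agent.Lib.Seat65.QsA Groth.Agent.Lib.Seat65.QsB
  Groth.Agent.Lib.Seat65.QsC Groth.Agent.Lib.Seat65.QsD Groth.Agent.Lib.Seat65.QsE
  Groth.Agent.Lib.Seat65.QsF Groth.Agent.Lib.Seat65.QsG

variable {n : ℕ}

/-- The exponent of `e_1` dividing the remainder of the relation `h_j`. -/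
def dexp (n : ℕ) (i : Fin (numVars n)) : ℕ :=
  if i.val = 1 then 2 ^ (klog n 2 - 1) else (2 * (i.val + 1) - 4) * 2 ^ klog n (i.val + 1)

lemma sPoly_eq_SS (j : ℕ) : sPoly n j = SS (evar n 1) (evar n 2) (klog n j) := rfl

/-- The shape of the relation `h_j`. -/
lemma hrel_eq (hn : 2 ≤ n) (i : Fin (numVars n)) (hi : i.val ≠ 0) :
    ∃ r : FreeE n, hrel n (i.val + 1) = X (some i) ^ bound' hn i +
      X (some (i0 hn)) ^ cexp n i * X none + X (some (i0 hn)) ^ dexp n i * r := by
  by_cases h1 : i = i1 hn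
  · subst h1
    have hk := one_le_klog_two hn
    obtain ⟨k', hk'⟩ : ∃ k', klog n 2 = k' + 1 := ⟨klog n 2 - 1, by omega⟩
    have e2 : (i1 hn).val + 1 = 2 := rfl
    have hb : bound' hn (i1 hn) = 2 ^ k' := by rw [bound'_i1 hn, hk']; simp
    have hc : cexp n (i1 hn) = 2 ^ (k' + 1) - n := by
      unfold cexp; rw [e2, hk']; simp
    have hd : dexp n (i1 hn) = 2 ^ k' := by
      unfold dexp; rw [if_pos (i1_val hn), hk']; simp
    refine ⟨SS (X (some (i0 hn))) (X (some (i1 hn))) k', ?_⟩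
    rw [e2, hb, hc, hd]
    unfold hrel
    rw [if_pos rfl, sPoly_eq_SS, hk', SS_succ, evar_one hn, evar_two hn, xvar]
    ring
  · have h2 : 2 ≤ i.val := by
      have : i.val ≠ 1 := fun h => h1 (Fin.ext h)
      omega
    have hb : bound' hn i = 2 ^ klog n (i.val + 1) := by
      rw [bound'_of_ne hn i h1, bound_of_pos i hi]
    have hd : dexp n i = (2 * (i.val + 1) - 4) * 2 ^ klog n (i.val + 1) := by
      unfold dexp; rw [if_neg (by omega)]
    refine ⟨sPoly n (i.val + 1), ?_⟩
    rw [hb, hd]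
    unfold hrel cexp
    rw [if_neg (by omega), if_pos ⟨by omega, i.isLt⟩, evar_one hn, evar_succ, xvar]

lemma dexp_ne_zero (i : Fin (numVars n)) (hi : i.val ≠ 0) : dexp n i ≠ 0 := by
  unfold dexp
  split_ifs with h
  · positivity
  · have h3 : 2 ≤ 2 * (i.val + 1) - 4 := by omega
    have : 1 ≤ 2 ^ klog n (i.val + 1) := Nat.one_le_two_pow
    exact Nat.ne_of_gt (Nat.mul_pos (by omega) (by omega))

lemma pow_mul_mem_of_mem {R : Type*} [CommRing R] (I : Ideal R) (x : R) (hx : x ∈ I) (k : ℕ)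
    (hk : k ≠ 0) (r : R) : x ^ k * r ∈ I := by
  obtain ⟨c, rfl⟩ := Nat.exists_eq_succ_of_ne_zero hk
  rw [pow_succ, mul_assoc]
  exact Ideal.mul_mem_left _ _ (Ideal.mul_mem_right _ _ hx)

section tau

variable (τ : P n →ₐ[ZMod 2] P n)

/-- Divisibility of `φ q` by `ε_1^m` inside the fixed subalgebra. -/
theorem fixed_mul_iff (hn : 2 ≤ n) (hτ1 : τ (eps n 1) = eps n 1)
    (hτ : ∀ j : ℕ, 2 ≤ j → j ≤ numVars n → τ (eps n j) = eps n j + eps n 1 ^ (2 * j - 3))
    (m : ℕ) (q : FreeE n) :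
    (∃ w : P n, τ w = w ∧ phi n q = eps n 1 ^ m * w) ↔
      q ∈ presIdeal n ⊔ Ideal.span {(X (some (i0 hn)) : FreeE n) ^ m} := by
  constructor
  · rintro ⟨w, hw, hq⟩
    have hw' : w ∈ (phi n).range := by
      rw [range_phi τ hn hτ1 hτ, AlgHom.mem_equalizer, AlgHom.id_apply]; exact hw
    obtain ⟨q', rfl⟩ := (AlgHom.mem_range (phi n)).mp hw'
    have hker : q - X (some (i0 hn)) ^ m * q' ∈ RingHom.ker (phi n) := by
      rw [RingHom.mem_ker, map_sub, map_mul, map_pow, phi_X_some, G_i0 hn, hq, sub_self]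
    rw [ker_phi hn] at hker
    have : q = (q - X (some (i0 hn)) ^ m * q') + q' * X (some (i0 hn)) ^ m := by ring
    rw [this]
    exact Ideal.add_mem _ (Ideal.mem_sup_left hker)
      (Ideal.mem_sup_right (Ideal.mul_mem_left _ _ (Ideal.subset_span rfl)))
  · intro hq
    obtain ⟨j, hj, j2, hj2, rfl⟩ := Submodule.mem_sup.mp hq
    obtain ⟨r, rfl⟩ := Ideal.mem_span_singleton'.mp hj2
    refine ⟨phi n r, tau_phi τ hn hτ1 hτ r, ?_⟩
    have hj0 : phi n j = 0 := presIdeal_le_ker hn hj
    rw [map_add, hj0, zero_add, map_mul, map_pow, phi_X_some, G_i0 hn, mul_comm]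

end tau

/-! ### Arithmetic of the exponents -/

/-- `j` is not the index `l` of the odd part of `n`. -/
def NotL (n j : ℕ) : Prop := ∀ k : ℕ, n ≠ (2 * j - 3) * 2 ^ k

lemma log_eq_klog (hn : 2 ≤ n) (j : ℕ) (hj : 2 ≤ j) (hjn : 2 * j - 3 ≤ n) (h : NotL n j) :
    Nat.log 2 (2 * n / (2 * j - 3)) = klog n j := by
  unfold klog
  obtain ⟨d, hd⟩ : ∃ d, d = 2 * j - 3 := ⟨_, rfl⟩
  rw [← hd]
  have hd0 : 0 < d := by omega
  symm
  obtain ⟨K, hK⟩ : ∃ K, K = Nat.log 2 (2 * n / d) := ⟨_, rfl⟩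
  rw [← hK]
  have hq : 2 * n / d ≠ 0 := by
    have : 1 ≤ 2 * n / d := (Nat.one_le_div_iff hd0).mpr (by omega)
    omega
  have h1 : 2 ^ K ≤ 2 * n / d := by rw [hK]; exact Nat.pow_log_le_self 2 hq
  have h2 : 2 * n / d < 2 ^ (K + 1) := by rw [hK]; exact Nat.lt_pow_succ_log_self one_lt_two _
  have h1' : d * 2 ^ K ≤ 2 * n := by
    have := (Nat.le_div_iff_mul_le hd0).mp h1
    rwa [mul_comm] at this
  have hne : d * 2 ^ K ≠ 2 * n := by
    intro he
    cases K with
    | zero =>
      -- d = 2n, but d is odd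
      rw [pow_zero, mul_one] at he
      omega
    | succ K' =>
      apply h K'
      rw [← hd]
      rw [pow_succ] at he
      have : 2 * (d * 2 ^ K') = 2 * n := by rw [← he]; ring
      omega
  apply Nat.log_eq_of_pow_le_of_lt_pow
  · rw [Nat.le_div_iff_mul_le hd0, mul_comm]
    omega
  · exact lt_of_le_of_lt (Nat.div_le_div_right (by omega)) h2

lemma kprime_two : kprime n 2 = Nat.log 2 n := by
  unfold kprime; simp

lemma kprime_of_three_le (j : ℕ) (hj : 3 ≤ j) : kprime n j = Nat.log 2 (2 * n / (2 * j - 3)) := by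
  unfold kprime
  rw [if_neg (by omega), if_neg (by omega)]

lemma klog_two_of_notL (hn : 2 ≤ n) (h : NotL n 2) : klog n 2 = kprime n 2 + 1 := by
  have h1 := log_eq_klog hn 2 le_rfl (by omega) h
  rw [← h1, kprime_two]
  have : 2 * n / (2 * 2 - 3) = n * 2 := by norm_num; ring
  rw [this, Nat.log_mul_base one_lt_two (by omega)]

lemma bound'_eq_of_notL (hn : 2 ≤ n) (i : Fin (numVars n)) (hi : i.val ≠ 0)
    (h : NotL n (i.val + 1)) : bound' hn i = 2 ^ kprime n (i.val + 1) := by
  by_cases h1 : i = i1 hn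
  · subst h1
    have e2 : (i1 hn).val + 1 = 2 := rfl
    rw [e2] at h ⊢
    rw [bound'_i1 hn, klog_two_of_notL hn h]
    simp
  · have h2 : 2 ≤ i.val := by
      have : i.val ≠ 1 := fun h => h1 (Fin.ext h)
      omega
    rw [bound'_of_ne hn i h1, bound_of_pos i hi, kprime_of_three_le _ (by omega),
      log_eq_klog hn _ (by omega) _ h]
    have := i.isLt
    unfold numVars at this
    omega

lemma cexp_ne_zero_of_notL (i : Fin (numVars n)) (hi : i.val ≠ 0)
    (h : NotL n (i.val + 1)) : cexp n i ≠ 0 := by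
  unfold cexp
  have h1 := le_mul_two_pow_klog (n := n) (i.val + 1) (by omega)
  have h2 := h (klog n (i.val + 1))
  omega

lemma notL_of_odd (hodd : Odd n) (j : ℕ) (hj : j ≤ numVars n) : NotL n j := by
  intro k he
  unfold numVars at hj
  obtain ⟨c, hc⟩ := hodd
  cases k with
  | zero =>
    rw [pow_zero, mul_one] at he
    omega
  | succ k' =>
    rw [pow_succ] at he
    have : n = 2 * ((2 * j - 3) * 2 ^ k') := by rw [he]; ring
    omega

/-! ### The case `n` odd -/

lemma J_one_eq_oddIdeal (hn : 2 ≤ n) (hodd : Odd n) :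
    presIdeal n ⊔ Ideal.span {(X (some (i0 hn)) : FreeE n) ^ 1} = oddIdeal n := by
  have he0 : (X (some (i0 hn)) : FreeE n) ∈ oddIdeal n := by
    rw [← evar_one hn]
    exact Ideal.subset_span (Or.inl (by simp))
  have hx2 : (X none : FreeE n) ^ 2 ∈ oddIdeal n :=
    Ideal.subset_span (Or.inl (by simp [xvar]))
  have hgen : ∀ i : Fin (numVars n), (X (some i) : FreeE n) ^ 2 ^ kprime n (i.val + 1) ∈ oddIdeal n := by
    intro i
    rw [← evar_succ]
    exact Ideal.subset_span (Or.inr ⟨i, rfl⟩)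
  apply le_antisymm
  · rw [sup_le_iff]
    constructor
    · unfold presIdeal
      rw [Ideal.span_le]
      rintro q (hq | hq)
      · simp only [Set.mem_insert_iff, Set.mem_singleton_iff] at hq
        rcases hq with rfl | rfl | rfl
        · rw [evar_one hn]
          obtain ⟨n', rfl⟩ : ∃ n', n = n' + 1 := ⟨n - 1, by omega⟩
          rw [pow_succ]
          exact Ideal.mul_mem_left _ _ he0
        · rw [evar_one hn]
          exact Ideal.mul_mem_right _ _ he0
        · exact hx2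
      · obtain ⟨i, rfl⟩ := hq
        beta_reduce
        by_cases hi : i.val = 0
        · have : hrel n (i.val + 1) = 0 := by
            unfold hrel
            rw [if_neg (by omega), if_neg (by omega)]
          rw [this]; exact (oddIdeal n).zero_mem
        · obtain ⟨r, hr⟩ := hrel_eq hn i hi
          have hN := notL_of_odd hodd (i.val + 1) i.isLt
          rw [hr, SetLike.mem_coe, bound'_eq_of_notL hn i hi hN]
          refine Ideal.add_mem _ (Ideal.add_mem _ (hgen i) ?_) ?_
          · exact pow_mul_mem_of_mem _ _ he0 _ (cexp_ne_zero_of_notL i hi hN) _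
          · exact pow_mul_mem_of_mem _ _ he0 _ (dexp_ne_zero i hi) _
    · rw [Ideal.span_le, Set.singleton_subset_iff, pow_one]
      exact he0
  · unfold oddIdeal
    rw [Ideal.span_le]
    have he0' : (X (some (i0 hn)) : FreeE n) ∈
        presIdeal n ⊔ Ideal.span {(X (some (i0 hn)) : FreeE n) ^ 1} :=
      Ideal.mem_sup_right (Ideal.subset_span (by simp))
    rintro q (hq | hq)
    · simp only [Set.mem_insert_iff, Set.mem_singleton_iff] at hq
      rcases hq with rfl | rfl
      · rw [evar_one hn]; exact he0'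
      · exact Ideal.mem_sup_left x_sq_mem
    · obtain ⟨i, rfl⟩ := hq
      beta_reduce
      rw [evar_succ]
      by_cases hi : i.val = 0
      · have : i = i0 hn := Fin.ext hi
        rw [this]
        obtain ⟨c, hc⟩ := Nat.exists_eq_succ_of_ne_zero
          (show 2 ^ kprime n ((i0 hn).val + 1) ≠ 0 by positivity)
        rw [hc, pow_succ]
        exact Ideal.mul_mem_left _ _ he0'
      · obtain ⟨r, hr⟩ := hrel_eq hn i hi
        have hN := notL_of_odd hodd (i.val + 1) i.isLt
        rw [SetLike.mem_coe, ← bound'_eq_of_notL hn i hi hN]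
        have hh : hrel n (i.val + 1) ∈
            presIdeal n ⊔ Ideal.span {(X (some (i0 hn)) : FreeE n) ^ 1} :=
          Ideal.mem_sup_left (hrel_mem i)
        have e : (X (some i) : FreeE n) ^ bound' hn i = hrel n (i.val + 1) -
            X (some (i0 hn)) ^ cexp n i * X none - X (some (i0 hn)) ^ dexp n i * r := by
          rw [hr]; ring
        rw [e]
        refine Ideal.sub_mem _ (Ideal.sub_mem _ hh ?_) ?_
        · exact pow_mul_mem_of_mem _ _ he0' _ (cexp_ne_zero_of_notL i hi hN) _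
        · exact pow_mul_mem_of_mem _ _ he0' _ (dexp_ne_zero i hi) _

/-- Statement S17747. -/
theorem odd_case (hn : 2 ≤ n) (τ : P n →ₐ[ZMod 2] P n) (hτ1 : τ (eps n 1) = eps n 1)
    (hτ : ∀ j : ℕ, 2 ≤ j → j ≤ numVars n → τ (eps n j) = eps n j + eps n 1 ^ (2 * j - 3))
    (hodd : Odd n) (q : FreeE n) :
    (∃ w : P n, τ w = w ∧ phi n q = eps n 1 * w) ↔ q ∈ oddIdeal n := by
  have := fixed_mul_iff τ hn hτ1 hτ 1 q
  rw [pow_one, J_one_eq_oddIdeal hn hodd] at this
  exact this

end Groth.Agent.Lib.Seat65.QsH
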