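import Mathlib
import Groth.Agent.Lib.Seat65QsH

/-!
# Eliminating `x`; the case `n` a power of two (helper65): S17749
-/

set_option autoImplicit false

namespace Groth.Agent.Lib.Seat65.QsI

open MvPolynomial QsChow Groth.Agent.Lib.Seat65.QsA Groth.Agent.Lib.Seat65.QsB
  Groth.Agent.Lib.Seat65.QsC Groth.Agent.Lib.Seat65.QsD Groth.Agent.Lib.Seat65.QsE
  Groth.Agent.Lib.Seat65.QsF Groth.Agent.Lib.Seat65.QsG Groth.Agent.Lib.Seat65.QsH

variable {n : ℕ}

lemma char_two_P (a : FreeP n) : a + a = 0 := by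
  have h2 : (1 : ZMod 2) + 1 = 0 := by decide
  have h : a + a = ((1 : ZMod 2) + 1) • a := by rw [add_smul, one_smul]
  rw [h, h2, zero_smul]

/-- The substitution `x ↦ ξ`. -/
noncomputable def rho (ξ : FreeP n) : FreeE n →ₐ[ZMod 2] FreeP n :=
  aeval (fun o : Option (Fin (numVars n)) => match o with
    | some i => X i
    | none => ξ)

@[simp] lemma rho_X_some (ξ : FreeP n) (i : Fin (numVars n)) : rho ξ (X (some i)) = X i := by
  unfold rho; simp

@[simp] lemma rho_X_none (ξ : FreeP n) : rho ξ (X none) = ξ := by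
  unfold rho; simp

lemma rho_rename (ξ : FreeP n) (p : FreeP n) : rho ξ (rename some p) = p := by
  unfold rho
  rw [aeval_rename]
  have : ((fun o : Option (Fin (numVars n)) => match o with
    | some i => (X i : FreeP n)
    | none => ξ) ∘ some) = X := rfl
  rw [this, aeval_X_left, AlgHom.id_apply]

lemma phi_eq_psi_rho (ξ : FreeP n) (hξ : psi n ξ = eps n 1 ^ (n - 1) * eps n 2) (q : FreeE n) :
    phi n q = psi n (rho ξ q) := by
  have : phi n = (psi n).comp (rho ξ) := by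
    apply MvPolynomial.algHom_ext
    intro o
    cases o with
    | none => rw [AlgHom.comp_apply, rho_X_none, hξ, phi_X_none]
    | some i => rw [AlgHom.comp_apply, rho_X_some, phi_X_some, psi_X]
  rw [this, AlgHom.comp_apply]

lemma evarE_succ (i : Fin (numVars n)) : evarE n (i.val + 1) = X i := by
  unfold evarE
  rw [dif_pos ⟨Nat.succ_pos _, i.isLt⟩]
  rfl

lemma evarE_one (hn : 2 ≤ n) : evarE n 1 = X (i0 hn) := by
  simpa using evarE_succ (i0 hn)

lemma evarE_two (hn : 2 ≤ n) : evarE n 2 = X (i1 hn) := by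
  simpa using evarE_succ (i1 hn)

lemma rho_sPoly (hn : 2 ≤ n) (ξ : FreeP n) (j : ℕ) :
    rho ξ (sPoly n j) = SS (X (i0 hn)) (X (i1 hn)) (klog n j) := by
  unfold sPoly SS
  rw [map_sum]
  apply Finset.sum_congr rfl
  intro i _
  rw [map_mul, map_pow, map_pow, evar_one hn, evar_two hn, rho_X_some, rho_X_some]

lemma rho_hrel_two (hn : 2 ≤ n) (ξ : FreeP n) :
    rho ξ (hrel n 2) = X (i0 hn) ^ (2 ^ klog n 2 - n) * ξ +
      SS (X (i0 hn)) (X (i1 hn)) (klog n 2) := by
  unfold hrel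
  rw [if_pos rfl, map_add, map_mul, map_pow, evar_one hn, xvar, rho_X_some, rho_X_none,
    rho_sPoly hn]

lemma rho_hrel_of_three_le (hn : 2 ≤ n) (ξ : FreeP n) (i : Fin (numVars n)) (hi : 2 ≤ i.val) :
    rho ξ (hrel n (i.val + 1)) = X i ^ 2 ^ klog n (i.val + 1) + X (i0 hn) ^ cexp n i * ξ +
      X (i0 hn) ^ dexp n i * SS (X (i0 hn)) (X (i1 hn)) (klog n (i.val + 1)) := by
  have hd : dexp n i = (2 * (i.val + 1) - 4) * 2 ^ klog n (i.val + 1) := by
    unfold dexp; rw [if_neg (by omega)]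
  rw [hd]
  unfold hrel cexp
  rw [if_neg (by omega), if_pos ⟨by omega, i.isLt⟩, map_add, map_add, map_mul, map_mul, map_pow,
    map_pow, map_pow, evar_one hn, evar_succ, xvar, rho_X_some, rho_X_some, rho_X_none,
    rho_sPoly hn]

lemma rho_hrel_one (ξ : FreeP n) (i : Fin (numVars n)) (hi : i.val = 0) :
    rho ξ (hrel n (i.val + 1)) = 0 := by
  unfold hrel
  rw [if_neg (by omega), if_neg (by omega), map_zero]

lemma psi_SS (hn : 2 ≤ n) (k : ℕ) :
    psi n (SS (X (i0 hn)) (X (i1 hn)) k) =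
      SS (eps n 1) (eps n 2 ^ 2 + eps n 1 * eps n 2) k := by
  unfold SS
  rw [map_sum]
  apply Finset.sum_congr rfl
  intro i _
  rw [map_mul, map_pow, map_pow, psi_X, psi_X, G_i0 hn, G_i1 hn]

/-- If `ψ p = 0` then `p` lies in the image under `ρ` of the ideal of relations. -/
lemma mem_map_rho_of_psi_eq_zero (hn : 2 ≤ n) (ξ : FreeP n) (p : FreeP n) (hp : psi n p = 0) :
    p ∈ Ideal.map (rho ξ) (presIdeal n) := by
  have h1 : rename some p ∈ RingHom.ker (phi n) := by
    rw [RingHom.mem_ker, phi_rename, hp]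
  rw [ker_phi hn] at h1
  have := Ideal.mem_map_of_mem (rho ξ) h1
  rwa [rho_rename] at this

/-! ### Arithmetic for `n = 2^b` -/

lemma klog_two_of_pow (b : ℕ) (hb : 1 ≤ b) (hnb : n = 2 ^ b) : klog n 2 = b := by
  unfold klog
  have : (2 * n - 1) / (2 * 2 - 3) = 2 * n - 1 := by norm_num
  rw [this]
  apply Nat.log_eq_of_pow_le_of_lt_pow
  · rw [hnb]
    have : 1 ≤ 2 ^ b := Nat.one_le_two_pow
    omega
  · rw [hnb, pow_succ]
    have : 1 ≤ 2 ^ b := Nat.one_le_two_pow
    omega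

lemma kprime_one_of_pow (b : ℕ) (hnb : n = 2 ^ b) : kprime n 1 = b := by
  unfold kprime twoExp
  rw [if_pos rfl, hnb, padicValNat.prime_pow]

lemma kprime_two_of_pow (b : ℕ) (hnb : n = 2 ^ b) : kprime n 2 = b := by
  rw [kprime_two, hnb, Nat.log_pow one_lt_two]

lemma notL_of_pow (b : ℕ) (hnb : n = 2 ^ b) (j : ℕ) (hj : 3 ≤ j) : NotL n j := by
  intro k he
  rw [hnb] at he
  have hd : (2 * j - 3) ∣ 2 ^ b := ⟨2 ^ k, he⟩
  obtain ⟨c, _, hc⟩ := (Nat.dvd_prime_pow Nat.prime_two).mp hd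
  cases c with
  | zero => rw [pow_zero] at hc; omega
  | succ c' => rw [pow_succ] at hc; omega

lemma n_le_dexp_of_pow (b : ℕ) (hnb : n = 2 ^ b) (i : Fin (numVars n)) (hi : 2 ≤ i.val) :
    n ≤ dexp n i := by
  have hd : dexp n i = (2 * (i.val + 1) - 4) * 2 ^ klog n (i.val + 1) := by
    unfold dexp; rw [if_neg (by omega)]
  rw [hd]
  obtain ⟨k, hk⟩ : ∃ k, k = klog n (i.val + 1) := ⟨_, rfl⟩
  obtain ⟨d, hd'⟩ : ∃ d, d = 2 * (i.val + 1) - 3 := ⟨_, rfl⟩
  have hd3 : 3 ≤ d := by omega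
  have h1 : n ≤ d * 2 ^ k := by
    rw [hk, hd']; exact le_mul_two_pow_klog (i.val + 1) (by omega)
  have h2 : n ≠ d * 2 ^ k := by
    rw [hd']; exact notL_of_pow b hnb (i.val + 1) (by omega) k
  have e : 2 * (i.val + 1) - 4 = d - 1 := by omega
  rw [← hk, e]
  have hk1 : 1 ≤ 2 ^ k := Nat.one_le_two_pow
  by_cases hkb : b ≤ k
  · have : 2 ^ b ≤ 2 ^ k := Nat.pow_le_pow_right (by norm_num) hkb
    have h3 : 2 * 2 ^ k ≤ (d - 1) * 2 ^ k := Nat.mul_le_mul_right _ (by omega)
    omega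
  · obtain ⟨c, hc⟩ : ∃ c, b = k + c := ⟨b - k, by omega⟩
    rw [hnb, hc, pow_add] at h1 h2 ⊢
    rw [mul_comm (2 ^ k)] at h1 h2 ⊢
    have h4 : 2 ^ c ≤ d := Nat.le_of_mul_le_mul_right h1 (by omega)
    have h5 : 2 ^ c ≠ d := fun h => h2 (by rw [h])
    exact Nat.mul_le_mul_right _ (by omega)

/-! ### The case `n = 2^b` -/

section pow

variable (hn : 2 ≤ n) (b : ℕ) (hb : 1 ≤ b) (hnb : n = 2 ^ b)
include hn hb hnb

lemma psi_xi_two : psi n (SS (X (i0 hn)) (X (i1 hn)) (klog n 2)) =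
    eps n 1 ^ (n - 1) * eps n 2 := by
  rw [psi_SS hn]
  have h1 := eps_two_pow_two_pow (n := n) (klog n 2)
  rw [eps_two_pow hn] at h1
  have hk := klog_two_of_pow b hb hnb
  have e : 2 ^ klog n 2 - 1 = n - 1 := by rw [hk, ← hnb]
  rw [e] at h1
  have := char_two (eps n 1 ^ (n - 1) * eps n 2)
  calc SS (eps n 1) (eps n 2 ^ 2 + eps n 1 * eps n 2) (klog n 2)
      = eps n 1 ^ (n - 1) * eps n 2 + (eps n 1 ^ (n - 1) * eps n 2 +
          SS (eps n 1) (eps n 2 ^ 2 + eps n 1 * eps n 2) (klog n 2)) := by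
        rw [← add_assoc, this, zero_add]
    _ = _ := by rw [← h1, add_zero]

lemma range_psi_eq_range_phi : (psi n).range = (phi n).range := by
  apply le_antisymm
  · rintro _ ⟨p, rfl⟩
    exact ⟨rename some p, phi_rename p⟩
  · rintro _ ⟨q, rfl⟩
    exact ⟨rho (SS (X (i0 hn)) (X (i1 hn)) (klog n 2)) q,
      (phi_eq_psi_rho _ (psi_xi_two hn b hb hnb) q).symm⟩

lemma powIdeal_gen0 : (X (i0 hn) : FreeP n) * SS (X (i0 hn)) (X (i1 hn)) (klog n 2) ∈ powIdeal n := by
  have : (X (i0 hn) : FreeP n) * SS (X (i0 hn)) (X (i1 hn)) (klog n 2) =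
      evarE n 1 * ∑ t ∈ Finset.range (kprime n 2),
        evarE n 1 ^ (2 ^ kprime n 2 - 2 ^ (t + 1)) * evarE n 2 ^ 2 ^ t := by
    rw [kprime_two_of_pow b hnb, klog_two_of_pow b hb hnb, evarE_one hn, evarE_two hn]
    rfl
  rw [this]
  exact Ideal.subset_span (Or.inl rfl)

omit hn hb hnb in
lemma powIdeal_gen (i : Fin (numVars n)) : (X i : FreeP n) ^ 2 ^ kprime n (i.val + 1) ∈ powIdeal n := by
  rw [← evarE_succ]
  exact Ideal.subset_span (Or.inr ⟨i, rfl⟩)

lemma X0_pow_n_mem : (X (i0 hn) : FreeP n) ^ n ∈ powIdeal n := by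
  have := powIdeal_gen (i0 hn)
  have e : (i0 hn).val + 1 = 1 := rfl
  rw [e, kprime_one_of_pow b hnb, ← hnb] at this
  exact this

lemma psi_powIdeal_le : powIdeal n ≤ RingHom.ker (psi n) := by
  unfold powIdeal
  rw [Ideal.span_le]
  rintro q (hq | hq)
  · rw [Set.mem_singleton_iff] at hq
    rw [SetLike.mem_coe, RingHom.mem_ker, hq, kprime_two_of_pow b hnb, evarE_one hn, evarE_two hn]
    have : (∑ t ∈ Finset.range b, (X (i0 hn) : FreeP n) ^ (2 ^ b - 2 ^ (t + 1)) *
        X (i1 hn) ^ 2 ^ t) = SS (X (i0 hn)) (X (i1 hn)) (klog n 2) := by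
      rw [klog_two_of_pow b hb hnb]; rfl
    rw [this, map_mul, psi_xi_two hn b hb hnb, psi_X, G_i0 hn, ← mul_assoc, ← pow_succ',
      eps_one_pow_of_le hn (by omega), zero_mul]
  · obtain ⟨i, rfl⟩ := hq
    beta_reduce
    rw [SetLike.mem_coe, RingHom.mem_ker, evarE_succ, map_pow, psi_X]
    by_cases h0 : i.val = 0
    · have : i = i0 hn := Fin.ext h0
      subst this
      have e : (i0 hn).val + 1 = 1 := rfl
      rw [e, kprime_one_of_pow b hnb, ← hnb, G_i0 hn, eps_one_pow hn]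
    by_cases h1 : i.val = 1
    · have : i = i1 hn := Fin.ext h1
      subst this
      have e : (i1 hn).val + 1 = 2 := rfl
      rw [e, kprime_two_of_pow b hnb, G_i1 hn, add_pow_two_pow char_two, mul_pow, ← hnb,
        eps_one_pow hn, zero_mul, add_zero, ← pow_mul]
      have h2 := eps_two_pow hn
      rw [klog_two_of_pow b hb hnb, ← hnb] at h2
      rw [mul_comm, pow_mul, h2, zero_pow (by norm_num)]
    · have h2 : 2 ≤ i.val := by omega
      have hN := notL_of_pow b hnb (i.val + 1) (by omega)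
      have hjn : 2 * (i.val + 1) - 3 ≤ n := by
        have := i.isLt
        unfold numVars at this
        omega
      rw [kprime_of_three_le _ (by omega), log_eq_klog hn _ (by omega) hjn hN, G_of_two_le i h2,
        add_pow_two_pow char_two, eps_pow i (by omega), zero_add, mul_pow, ← pow_mul]
      have hd : dexp n i = (2 * (i.val + 1) - 4) * 2 ^ klog n (i.val + 1) := by
        unfold dexp; rw [if_neg (by omega)]
      rw [← hd, eps_one_pow_of_le hn (n_le_dexp_of_pow b hnb i h2), zero_mul]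

lemma map_rho_le : Ideal.map (rho (SS (X (i0 hn)) (X (i1 hn)) (klog n 2))) (presIdeal n) ≤
    powIdeal n := by
  obtain ⟨ξ, hξ⟩ : ∃ ξ, ξ = SS (X (i0 hn) : FreeP n) (X (i1 hn)) (klog n 2) := ⟨_, rfl⟩
  rw [← hξ, Ideal.map_le_iff_le_comap]
  unfold presIdeal
  rw [Ideal.span_le]
  have hg0 : X (i0 hn) * ξ ∈ powIdeal n := by rw [hξ]; exact powIdeal_gen0 hn b hb hnb
  rintro q (hq | hq)
  · simp only [Set.mem_insert_iff, Set.mem_singleton_iff] at hq
    rw [SetLike.mem_coe, Ideal.mem_comap]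
    rcases hq with rfl | rfl | rfl
    · rw [map_pow, evar_one hn, rho_X_some]
      exact X0_pow_n_mem hn b hb hnb
    · rw [map_mul, evar_one hn, xvar, rho_X_some, rho_X_none]
      exact hg0
    · rw [map_pow, xvar, rho_X_none, hξ, klog_two_of_pow b hb hnb]
      obtain ⟨b', rfl⟩ : ∃ b', b = b' + 1 := ⟨b - 1, by omega⟩
      unfold SS
      rw [sum_sq_c2 char_two_P, Finset.sum_range_succ]
      refine Ideal.add_mem _ (Ideal.sum_mem _ fun t ht => ?_) ?_
      · have ht' : t < b' := Finset.mem_range.mp ht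
        rw [mul_pow, ← pow_mul]
        have h1 : 2 ^ (t + 1) ≤ 2 ^ b' := Nat.pow_le_pow_right (by norm_num) (by omega)
        have h2 : n ≤ (2 ^ (b' + 1) - 2 ^ (t + 1)) * 2 := by
          rw [hnb, pow_succ 2 b']; omega
        obtain ⟨c, hc⟩ := Nat.exists_eq_add_of_le h2
        rw [hc, pow_add]
        exact Ideal.mul_mem_right _ _ (Ideal.mul_mem_right _ _ (X0_pow_n_mem hn _ hb hnb))
      · rw [Nat.sub_self, pow_zero, one_mul, ← pow_mul, ← pow_succ]
        have := powIdeal_gen (i1 hn)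
        have e : (i1 hn).val + 1 = 2 := rfl
        rw [e, kprime_two_of_pow _ hnb] at this
        exact this
  · obtain ⟨i, rfl⟩ := hq
    beta_reduce
    rw [SetLike.mem_coe, Ideal.mem_comap]
    by_cases h0 : i.val = 0
    · rw [rho_hrel_one ξ i h0]; exact (powIdeal n).zero_mem
    by_cases h1 : i.val = 1
    · have e : i.val + 1 = 2 := by omega
      rw [e, rho_hrel_two hn, klog_two_of_pow b hb hnb, ← hnb, Nat.sub_self, pow_zero, one_mul,
        hξ, klog_two_of_pow b hb hnb, char_two_P]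
      exact (powIdeal n).zero_mem
    · have h2 : 2 ≤ i.val := by omega
      have hN := notL_of_pow b hnb (i.val + 1) (by omega)
      have hjn : 2 * (i.val + 1) - 3 ≤ n := by
        have := i.isLt
        unfold numVars at this
        omega
      rw [rho_hrel_of_three_le hn ξ i h2]
      refine Ideal.add_mem _ (Ideal.add_mem _ ?_ ?_) ?_
      · have := powIdeal_gen i
        rwa [kprime_of_three_le _ (by omega), log_eq_klog hn _ (by omega) hjn hN] at this
      · obtain ⟨c, hc⟩ := Nat.exists_eq_succ_of_ne_zero (cexp_ne_zero_of_notL i (by omega) hN)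
        rw [hc, pow_succ, mul_assoc]
        exact Ideal.mul_mem_left _ _ hg0
      · obtain ⟨c, hc⟩ := Nat.exists_eq_add_of_le (n_le_dexp_of_pow b hnb i h2)
        rw [hc, pow_add]
        exact Ideal.mul_mem_right _ _ (Ideal.mul_mem_right _ _ (X0_pow_n_mem hn b hb hnb))

/-- Statement S17749. -/
theorem pow_case (τ : P n →ₐ[ZMod 2] P n) (hτ1 : τ (eps n 1) = eps n 1)
    (hτ : ∀ j : ℕ, 2 ≤ j → j ≤ numVars n → τ (eps n j) = eps n j + eps n 1 ^ (2 * j - 3)) :
    (psi n).range = AlgHom.equalizer τ (AlgHom.id (ZMod 2) (P n)) ∧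
      RingHom.ker (psi n) = powIdeal n := by
  refine ⟨?_, ?_⟩
  · rw [range_psi_eq_range_phi hn b hb hnb, range_phi τ hn hτ1 hτ]
  · apply le_antisymm
    · intro p hp
      exact map_rho_le hn b hb hnb (mem_map_rho_of_psi_eq_zero hn _ p (RingHom.mem_ker.mp hp))
    · exact psi_powIdeal_le hn b hb hnb

end pow

end Groth.Agent.Lib.Seat65.QsI
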