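import Mathlib
import Groth.Agent.Lib.Seat65QsI

/-!
# Arithmetic for `n` even and not a power of two (helper65)
-/

set_option autoImplicit false

namespace Groth.Agent.Lib.Seat65.QsJ

open MvPolynomial QsChow Groth.Agent.Lib.Seat65.QsA Groth.Agent.Lib.Seat65.QsB
  Groth.Agent.Lib.Seat65.QsC Groth.Agent.Lib.Seat65.QsD Groth.Agent.Lib.Seat65.QsE
  Groth.Agent.Lib.Seat65.QsF Groth.Agent.Lib.Seat65.QsG Groth.Agent.Lib.Seat65.QsH
  Groth.Agent.Lib.Seat65.QsI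

variable {n : ℕ}

/-- The odd part of `n`. -/
def oddPart (n : ℕ) : ℕ := n / 2 ^ twoExp n

lemma n_eq (hn : 2 ≤ n) : n = 2 ^ twoExp n * oddPart n := by
  unfold oddPart twoExp
  rw [Nat.mul_div_cancel' pow_padicValNat_dvd]

lemma oddPart_odd (hn : 2 ≤ n) : Odd (oddPart n) := by
  rw [← Nat.not_even_iff_odd]
  rintro ⟨c, hc⟩
  haveI : Fact (Nat.Prime 2) := ⟨Nat.prime_two⟩
  apply pow_succ_padicValNat_not_dvd (p := 2) (n := n) (by omega)
  refine ⟨c, ?_⟩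
  have := n_eq hn
  unfold twoExp at this
  rw [hc] at this
  obtain ⟨a, ha⟩ : ∃ a, a = padicValNat 2 n := ⟨_, rfl⟩
  rw [← ha] at this ⊢
  rw [this, pow_succ]; ring

lemma three_le_oddPart (hn : 2 ≤ n) (hne : n ≠ 2 ^ twoExp n) : 3 ≤ oddPart n := by
  obtain ⟨c, hc⟩ := oddPart_odd hn
  have h1 := n_eq hn
  by_contra h
  have h0 : c = 0 := by omega
  rw [hc, h0] at h1
  apply hne
  simpa using h1

lemma two_mul_lIdx (hn : 2 ≤ n) : 2 * lIdx n = oddPart n + 3 := by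
  obtain ⟨c, hc⟩ := oddPart_odd hn
  unfold lIdx
  change 2 * ((oddPart n + 3) / 2) = oddPart n + 3
  omega

lemma lIdx_le (hn : 2 ≤ n) (ha : 1 ≤ twoExp n) : lIdx n ≤ numVars n := by
  have h1 := two_mul_lIdx hn
  have h2 := n_eq hn
  obtain ⟨a', ha'⟩ : ∃ a', twoExp n = a' + 1 := ⟨twoExp n - 1, by omega⟩
  rw [ha', pow_succ] at h2
  have h6 : 1 ≤ oddPart n := by
    obtain ⟨c, hc⟩ := oddPart_odd hn
    omega
  obtain ⟨d, hd⟩ : ∃ d, d = oddPart n := ⟨_, rfl⟩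
  rw [← hd] at h1 h2 h6
  have h3 : 1 ≤ 2 ^ a' := Nat.one_le_two_pow
  have h4 : d ≤ 2 ^ a' * d := Nat.le_mul_of_pos_left _ (by omega)
  have h5 : n = 2 * (2 ^ a' * d) := by rw [h2]; ring
  unfold numVars
  omega

/-- If `n = (2j-3)·2^k` then `j` is the index `l`. -/
lemma eq_lIdx_of_eq (hn : 2 ≤ n) (j k : ℕ) (hj : 2 ≤ j) (he : n = (2 * j - 3) * 2 ^ k) :
    j = lIdx n := by
  have : Fact (Nat.Prime 2) := ⟨Nat.prime_two⟩
  have hodd : ¬ 2 ∣ (2 * j - 3) := by omega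
  have hk : twoExp n = k := by
    unfold twoExp
    rw [he, padicValNat.mul (by omega) (by positivity), padicValNat.eq_zero_of_not_dvd hodd,
      padicValNat.prime_pow, zero_add]
  have h1 : oddPart n = 2 * j - 3 := by
    unfold oddPart
    rw [hk]
    nth_rewrite 1 [he]
    exact Nat.mul_div_cancel _ (by positivity)
  have := two_mul_lIdx hn
  omega

lemma notL_of_ne (hn : 2 ≤ n) (j : ℕ) (hj : 2 ≤ j) (hjl : j ≠ lIdx n) : NotL n j :=
  fun k he => hjl (eq_lIdx_of_eq hn j k hj he)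

lemma klog_lIdx (hn : 2 ≤ n) : klog n (lIdx n) = twoExp n := by
  unfold klog
  have h1 := two_mul_lIdx hn
  have h2 := n_eq hn
  have e : 2 * lIdx n - 3 = oddPart n := by omega
  rw [e]
  obtain ⟨d, hd⟩ : ∃ d, d = oddPart n := ⟨_, rfl⟩
  obtain ⟨a, ha⟩ : ∃ a, a = twoExp n := ⟨_, rfl⟩
  rw [← hd, ← ha] at h2 ⊢
  have hd1 : 1 ≤ d := by
    obtain ⟨c, hc⟩ := oddPart_odd hn
    omega
  have hq : (2 * n - 1) / d = 2 ^ (a + 1) - 1 := by
    have h3 : 2 * n - 1 = (d - 1) + (2 ^ (a + 1) - 1) * d := by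
      have : 1 ≤ 2 ^ (a + 1) := Nat.one_le_two_pow
      have h4 : 2 * n = 2 ^ (a + 1) * d := by rw [h2, pow_succ]; ring
      have h5 : 2 ^ (a + 1) * d = (2 ^ (a + 1) - 1) * d + d := by
        rw [Nat.sub_mul, one_mul, Nat.sub_add_cancel (Nat.le_mul_of_pos_left _ (by omega))]
      omega
    rw [h3, Nat.add_mul_div_right _ _ (by omega), Nat.div_eq_of_lt (by omega), zero_add]
  rw [hq]
  apply Nat.log_eq_of_pow_le_of_lt_pow
  · rw [pow_succ]
    have : 1 ≤ 2 ^ a := Nat.one_le_two_pow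
    omega
  · have : 1 ≤ 2 ^ (a + 1) := Nat.one_le_two_pow
    omega

lemma kprime_lIdx (hn : 2 ≤ n) (hne : n ≠ 2 ^ twoExp n) : kprime n (lIdx n) = twoExp n + 1 := by
  have h1 := two_mul_lIdx hn
  have h3 := three_le_oddPart hn hne
  rw [kprime_of_three_le _ (by omega)]
  have e : 2 * lIdx n - 3 = oddPart n := by omega
  rw [e]
  have h2 := n_eq hn
  have : 2 * n / oddPart n = 2 ^ (twoExp n + 1) := by
    have h4 : 2 * n = 2 ^ (twoExp n + 1) * oddPart n := by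
      nth_rewrite 1 [h2]; rw [pow_succ]; ring
    rw [h4, Nat.mul_div_cancel _ (by omega)]
  rw [this, Nat.log_pow one_lt_two]

lemma kprime_one : kprime n 1 = twoExp n := by
  unfold kprime; rw [if_pos rfl]

lemma two_pow_twoExp_le (hn : 2 ≤ n) : 2 ^ twoExp n ≤ n :=
  Nat.le_of_dvd (by omega) pow_padicValNat_dvd

/-- `2^a ≤ dexp` for every index. -/
lemma two_pow_le_dexp (hn : 2 ≤ n) (hne : n ≠ 2 ^ twoExp n) (i : Fin (numVars n))
    (hi : i.val ≠ 0) : 2 ^ twoExp n ≤ dexp n i := by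
  unfold dexp
  split_ifs with h1
  · -- klog n 2 - 1 ≥ a
    have h3 := three_le_oddPart hn hne
    have hl := two_mul_lIdx hn
    have hN : NotL n 2 := notL_of_ne hn 2 le_rfl (by omega)
    rw [klog_two_of_notL hn hN, kprime_two]
    apply Nat.pow_le_pow_right (by norm_num)
    simp only [Nat.add_sub_cancel]
    exact Nat.le_log_of_pow_le one_lt_two (two_pow_twoExp_le hn)
  · obtain ⟨k, hk⟩ : ∃ k, k = klog n (i.val + 1) := ⟨_, rfl⟩
    obtain ⟨a, ha⟩ : ∃ a, a = twoExp n := ⟨_, rfl⟩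
    obtain ⟨d, hd⟩ : ∃ d, d = 2 * (i.val + 1) - 3 := ⟨_, rfl⟩
    have h3 := three_le_oddPart hn hne
    have h2 := n_eq hn
    have h1' : n ≤ d * 2 ^ k := by
      rw [hk, hd]; exact le_mul_two_pow_klog (i.val + 1) (by omega)
    have e : 2 * (i.val + 1) - 4 = d - 1 := by omega
    rw [← hk, ← ha, e]
    rw [← ha] at h2
    have hk1 : 1 ≤ 2 ^ k := Nat.one_le_two_pow
    have hd3 : 3 ≤ d := by omega
    by_cases hka : a ≤ k
    · have : 2 ^ a ≤ 2 ^ k := Nat.pow_le_pow_right (by norm_num) hka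
      have h4 : 1 * 2 ^ k ≤ (d - 1) * 2 ^ k := Nat.mul_le_mul_right _ (by omega)
      omega
    · obtain ⟨c, hc⟩ : ∃ c, a = k + c := ⟨a - k, by omega⟩
      rw [hc, pow_add]
      rw [hc, pow_add] at h2
      have h5 : 2 ^ k * (2 ^ c * 3) ≤ 2 ^ k * d := by
        calc 2 ^ k * (2 ^ c * 3) ≤ 2 ^ k * (2 ^ c * oddPart n) :=
              Nat.mul_le_mul_left _ (Nat.mul_le_mul_left _ h3)
          _ = n := by rw [← mul_assoc]; exact h2.symm
          _ ≤ d * 2 ^ k := h1'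
          _ = 2 ^ k * d := by ring
      have h6 : 2 ^ c * 3 ≤ d := Nat.le_of_mul_le_mul_left h5 (by omega)
      have hc1 : 1 ≤ 2 ^ c := Nat.one_le_two_pow
      rw [mul_comm]
      exact Nat.mul_le_mul_right _ (by omega)

end Groth.Agent.Lib.Seat65.QsJ
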