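import Mathlib
import Groth.Agent.Lib.Seat65QsJ

/-!
# The case `n` even and not a power of two (helper65): S17748
-/

set_option autoImplicit false

namespace Groth.Agent.Lib.Seat65.QsK

open MvPolynomial QsChow Groth.Agent.Lib.Seat65.QsA Groth.Agent.Lib.Seat65.QsB
  Groth.Agent.Lib.Seat65.QsC Groth.Agent.Lib.Seat65.QsD Groth.Agent.Lib.Seat65.QsE
  Groth.Agent.Lib.Seat65.QsF Groth.Agent.Lib.Seat65.QsG Groth.Agent.Lib.Seat65.QsH
  Groth.Agent.Lib.Seat65.QsI Groth.Agent.Lib.Seat65.QsJ

variable {n : ℕ}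

section even

variable (hn : 2 ≤ n) (ha : 1 ≤ twoExp n) (hne : n ≠ 2 ^ twoExp n)

include hn hne in
lemma three_le_lIdx : 3 ≤ lIdx n := by
  have h1 := two_mul_lIdx hn
  have h3 := three_le_oddPart hn hne
  omega

/-- The position of `e_l`. -/
def il : Fin (numVars n) := ⟨lIdx n - 1, by
  have h1 := lIdx_le hn ha
  have h3 := three_le_lIdx hn hne
  omega⟩

lemma il_val : (il hn ha hne).val + 1 = lIdx n := by
  have h3 := three_le_lIdx hn hne
  simp only [il]
  omega

lemma two_le_il : 2 ≤ (il hn ha hne).val := by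
  have h3 := three_le_lIdx hn hne
  simp only [il]
  omega

lemma klog_il : klog n ((il hn ha hne).val + 1) = twoExp n := by
  rw [il_val, klog_lIdx hn]

lemma dexp_il : dexp n (il hn ha hne) = (2 * lIdx n - 4) * 2 ^ twoExp n := by
  have h2 := two_le_il hn ha hne
  unfold dexp
  rw [if_neg (by omega), klog_il, il_val]

lemma cexp_il : cexp n (il hn ha hne) = 0 := by
  unfold cexp
  rw [klog_il, il_val]
  have h1 := two_mul_lIdx hn
  have h2 := n_eq hn
  have e : 2 * lIdx n - 3 = oddPart n := by omega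
  rw [e, mul_comm, ← h2, Nat.sub_self]

lemma dexp_il_add : dexp n (il hn ha hne) + (2 ^ twoExp n - 1) = n - 1 := by
  rw [dexp_il]
  have h1 := two_mul_lIdx hn
  have h2 := n_eq hn
  have h3 := three_le_oddPart hn hne
  have hp : 1 ≤ 2 ^ twoExp n := Nat.one_le_two_pow
  have e : 2 * lIdx n - 4 = oddPart n - 1 := by omega
  rw [e, Nat.sub_mul, one_mul]
  have h4 : 2 ^ twoExp n ≤ oddPart n * 2 ^ twoExp n := Nat.le_mul_of_pos_left _ (by omega)
  have h5 : oddPart n * 2 ^ twoExp n = n := by rw [mul_comm]; exact h2.symm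
  omega

lemma notL_of_ne_il (i : Fin (numVars n)) (hi : i.val ≠ 0) (hil : i ≠ il hn ha hne) :
    NotL n (i.val + 1) := by
  apply notL_of_ne hn _ (by omega)
  intro h
  apply hil
  apply Fin.ext
  have := il_val hn ha hne
  omega

/-- The element substituted for `x`. -/
noncomputable def xi : FreeP n :=
  X (il hn ha hne) ^ 2 ^ twoExp n +
    X (i0 hn) ^ dexp n (il hn ha hne) * SS (X (i0 hn)) (X (i1 hn)) (twoExp n)

lemma psi_xi : psi n (xi hn ha hne) = eps n 1 ^ (n - 1) * eps n 2 := by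
  unfold xi
  have h2 := two_le_il hn ha hne
  rw [map_add, map_mul, map_pow, map_pow, psi_X, psi_X, psi_SS hn, G_i0 hn,
    G_of_two_le _ h2, add_pow_two_pow char_two, mul_pow, ← pow_mul]
  have h0 : eps n ((il hn ha hne).val + 1) ^ 2 ^ twoExp n = 0 := by
    have := eps_pow (il hn ha hne) (by omega)
    rwa [klog_il] at this
  have hD : (2 * ((il hn ha hne).val + 1) - 4) * 2 ^ twoExp n = dexp n (il hn ha hne) := by
    rw [dexp_il, il_val]
  rw [h0, zero_add, hD, eps_two_pow_two_pow (twoExp n)]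
  obtain ⟨S, hS⟩ : ∃ S, S = SS (eps n 1) (eps n 2 ^ 2 + eps n 1 * eps n 2) (twoExp n) := ⟨_, rfl⟩
  rw [← hS]
  have hc := char_two (eps n 1 ^ dexp n (il hn ha hne) * S)
  calc eps n 1 ^ dexp n (il hn ha hne) * (eps n 1 ^ (2 ^ twoExp n - 1) * eps n 2 + S) +
        eps n 1 ^ dexp n (il hn ha hne) * S
      = eps n 1 ^ (dexp n (il hn ha hne) + (2 ^ twoExp n - 1)) * eps n 2 +
        (eps n 1 ^ dexp n (il hn ha hne) * S + eps n 1 ^ dexp n (il hn ha hne) * S) := by
        rw [pow_add]; ring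
    _ = _ := by rw [hc, add_zero, dexp_il_add]

/-! ### Generators of `evenIdeal` -/

omit hn in
lemma gen_mem (i : Fin (numVars n)) : (X i : FreeP n) ^ 2 ^ kprime n (i.val + 1) ∈ evenIdeal n := by
  rw [← evarE_succ]
  exact Ideal.subset_span (Or.inr ⟨i, rfl⟩)

lemma gl_mem : (X (i0 hn) : FreeP n) * X (il hn ha hne) ^ 2 ^ twoExp n ∈ evenIdeal n := by
  have : (X (i0 hn) : FreeP n) * X (il hn ha hne) ^ 2 ^ twoExp n =
      evarE n 1 * evarE n (lIdx n) ^ 2 ^ (kprime n (lIdx n) - 1) := by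
    rw [evarE_one hn, ← il_val hn ha hne, evarE_succ, il_val, kprime_lIdx hn hne]
    simp
  rw [this]
  exact Ideal.subset_span (Or.inl rfl)

include hn in
lemma X0_pow_mem : (X (i0 hn) : FreeP n) ^ 2 ^ twoExp n ∈ evenIdeal n := by
  have := gen_mem (n := n) (i0 hn)
  have e : (i0 hn).val + 1 = 1 := rfl
  rwa [e, kprime_one] at this

include hn in
lemma X0_pow_mul_mem (k : ℕ) (hk : 2 ^ twoExp n ≤ k) (r : FreeP n) :
    (X (i0 hn) : FreeP n) ^ k * r ∈ evenIdeal n := by
  obtain ⟨c, rfl⟩ := Nat.exists_eq_add_of_le hk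
  rw [pow_add]
  exact Ideal.mul_mem_right _ _ (Ideal.mul_mem_right _ _ (X0_pow_mem hn))

lemma Xil_pow_mem : (X (il hn ha hne) : FreeP n) ^ 2 ^ (twoExp n + 1) ∈ evenIdeal n := by
  have := gen_mem (n := n) (il hn ha hne)
  rwa [il_val, kprime_lIdx hn hne] at this

lemma X0_mul_xi_mem : (X (i0 hn) : FreeP n) * xi hn ha hne ∈ evenIdeal n := by
  unfold xi
  rw [mul_add]
  refine Ideal.add_mem _ (gl_mem hn ha hne) ?_
  rw [← mul_assoc, ← pow_succ']
  exact X0_pow_mul_mem hn _ (le_trans (two_pow_le_dexp hn hne _ (by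
    have := two_le_il hn ha hne
    omega)) (Nat.le_succ _)) _

lemma X0_pow_mul_xi_mem (c : ℕ) (hc : c ≠ 0) :
    (X (i0 hn) : FreeP n) ^ c * xi hn ha hne ∈ evenIdeal n := by
  obtain ⟨c', rfl⟩ := Nat.exists_eq_succ_of_ne_zero hc
  rw [pow_succ, mul_assoc]
  exact Ideal.mul_mem_left _ _ (X0_mul_xi_mem hn ha hne)

lemma map_rho_presIdeal_le : Ideal.map (rho (xi hn ha hne)) (presIdeal n) ≤ evenIdeal n := by
  rw [Ideal.map_le_iff_le_comap]
  unfold presIdeal
  rw [Ideal.span_le]
  rintro q (hq | hq)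
  · simp only [Set.mem_insert_iff, Set.mem_singleton_iff] at hq
    rw [SetLike.mem_coe, Ideal.mem_comap]
    rcases hq with rfl | rfl | rfl
    · rw [map_pow, evar_one hn, rho_X_some]
      have := X0_pow_mul_mem hn n (two_pow_twoExp_le hn) 1
      rwa [mul_one] at this
    · rw [map_mul, evar_one hn, xvar, rho_X_some, rho_X_none]
      exact X0_mul_xi_mem hn ha hne
    · rw [map_pow, xvar, rho_X_none]
      unfold xi
      have e : ∀ A B : FreeP n, (A + B) ^ 2 = A ^ 2 + B * (2 * A + B) := fun A B => by ring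
      rw [e, ← pow_mul, ← pow_succ, mul_assoc]
      exact Ideal.add_mem _ (Xil_pow_mem hn ha hne)
        (X0_pow_mul_mem hn _ (two_pow_le_dexp hn hne _ (by
          have := two_le_il hn ha hne
          omega)) _)
  · obtain ⟨i, rfl⟩ := hq
    beta_reduce
    rw [SetLike.mem_coe, Ideal.mem_comap]
    by_cases h0 : i.val = 0
    · rw [rho_hrel_one _ i h0]; exact (evenIdeal n).zero_mem
    by_cases h1 : i.val = 1
    · have e : i.val + 1 = 2 := by omega
      have hi1 : i = i1 hn := Fin.ext h1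
      have hil : i ≠ il hn ha hne := by
        intro h
        have := two_le_il hn ha hne
        rw [← h] at this
        omega
      have hN : NotL n 2 := by
        have := notL_of_ne_il hn ha hne i h0 hil
        rwa [e] at this
      rw [e, rho_hrel_two hn]
      have hc : 2 ^ klog n 2 - n ≠ 0 := by
        have := cexp_ne_zero_of_notL (i1 hn) (by simp) (by
          have e2 : (i1 hn).val + 1 = 2 := rfl
          rw [e2]; exact hN)
        unfold cexp at this
        have e2 : (i1 hn).val + 1 = 2 := rfl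
        rw [e2] at this
        simpa using this
      refine Ideal.add_mem _ (X0_pow_mul_xi_mem hn ha hne _ hc) ?_
      rw [klog_two_of_notL hn hN, SS_succ]
      refine Ideal.add_mem _ (X0_pow_mul_mem hn _ ?_ _) ?_
      · rw [kprime_two]
        exact Nat.pow_le_pow_right (by norm_num)
          (Nat.le_log_of_pow_le one_lt_two (two_pow_twoExp_le hn))
      · have := gen_mem (n := n) (i1 hn)
        have e2 : (i1 hn).val + 1 = 2 := rfl
        rwa [e2] at this
    · have h2 : 2 ≤ i.val := by omega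
      rw [rho_hrel_of_three_le hn _ i h2]
      by_cases hil : i = il hn ha hne
      · subst hil
        rw [klog_il, cexp_il, pow_zero, one_mul]
        unfold xi
        have h1 := char_two_P ((X (il hn ha hne) : FreeP n) ^ 2 ^ twoExp n)
        have h2 := char_two_P ((X (i0 hn) : FreeP n) ^ dexp n (il hn ha hne) *
          SS (X (i0 hn)) (X (i1 hn)) (twoExp n))
        have : (X (il hn ha hne) : FreeP n) ^ 2 ^ twoExp n +
            (X (il hn ha hne) ^ 2 ^ twoExp n +
              X (i0 hn) ^ dexp n (il hn ha hne) * SS (X (i0 hn)) (X (i1 hn)) (twoExp n)) +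
            X (i0 hn) ^ dexp n (il hn ha hne) * SS (X (i0 hn)) (X (i1 hn)) (twoExp n) = 0 := by
          calc _ = ((X (il hn ha hne) : FreeP n) ^ 2 ^ twoExp n + X (il hn ha hne) ^ 2 ^ twoExp n) +
                (X (i0 hn) ^ dexp n (il hn ha hne) * SS (X (i0 hn)) (X (i1 hn)) (twoExp n) +
                  X (i0 hn) ^ dexp n (il hn ha hne) * SS (X (i0 hn)) (X (i1 hn)) (twoExp n)) := by
                ring
            _ = 0 := by rw [h1, h2, add_zero]
        rw [this]
        exact (evenIdeal n).zero_mem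
      · have hN := notL_of_ne_il hn ha hne i h0 hil
        have hjn : 2 * (i.val + 1) - 3 ≤ n := by
          have := i.isLt
          unfold numVars at this
          omega
        refine Ideal.add_mem _ (Ideal.add_mem _ ?_ ?_) ?_
        · have := gen_mem (n := n) i
          rwa [kprime_of_three_le _ (by omega), log_eq_klog hn _ (by omega) hjn hN] at this
        · exact X0_pow_mul_xi_mem hn ha hne _ (cexp_ne_zero_of_notL i h0 hN)
        · exact X0_pow_mul_mem hn _ (two_pow_le_dexp hn hne i h0) _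

/-- The ideal `presIdeal + (e_1^(2^a))`. -/
noncomputable def Jm : Ideal (FreeE n) :=
  presIdeal n ⊔ Ideal.span {(X (some (i0 hn)) : FreeE n) ^ 2 ^ twoExp n}

lemma map_rho_Jm_le : Ideal.map (rho (xi hn ha hne)) (Jm hn) ≤ evenIdeal n := by
  unfold Jm
  rw [Ideal.map_sup, sup_le_iff]
  refine ⟨map_rho_presIdeal_le hn ha hne, ?_⟩
  rw [Ideal.map_span, Set.image_singleton, Ideal.span_le, Set.singleton_subset_iff, map_pow,
    rho_X_some]
  exact X0_pow_mem hn

include hn in
lemma e0_pow_mul_mem_Jm (k : ℕ) (hk : 2 ^ twoExp n ≤ k) (r : FreeE n) :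
    (X (some (i0 hn)) : FreeE n) ^ k * r ∈ Jm hn := by
  obtain ⟨c, rfl⟩ := Nat.exists_eq_add_of_le hk
  rw [pow_add]
  exact Ideal.mul_mem_right _ _ (Ideal.mul_mem_right _ _
    (Ideal.mem_sup_right (Ideal.subset_span rfl)))

include hn in
lemma e0_pow_mul_x_mem_Jm (c : ℕ) (hc : c ≠ 0) :
    (X (some (i0 hn)) : FreeE n) ^ c * X none ∈ Jm hn := by
  obtain ⟨c', rfl⟩ := Nat.exists_eq_succ_of_ne_zero hc
  rw [pow_succ, mul_assoc]
  exact Ideal.mul_mem_left _ _ (Ideal.mem_sup_left (e0_mul_x_mem hn))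

include ha hne in
lemma evenIdeal_le_comap : evenIdeal n ≤ Ideal.comap (rename some : FreeP n →ₐ[ZMod 2] FreeE n) (Jm hn) := by
  unfold evenIdeal
  rw [Ideal.span_le]
  -- the relation h_l
  obtain ⟨r, hr⟩ := hrel_eq hn (il hn ha hne) (by
    have := two_le_il hn ha hne
    omega)
  have hbl : bound' hn (il hn ha hne) = 2 ^ twoExp n := by
    have h2 := two_le_il hn ha hne
    have hne1 : il hn ha hne ≠ i1 hn := by
      intro h
      have := congrArg Fin.val h
      simp only [i1_val] at this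
      omega
    rw [bound'_of_ne hn _ hne1, bound_of_pos _ (by omega), klog_il]
  rw [hbl, cexp_il, pow_zero, one_mul] at hr
  have hl : (X (some (il hn ha hne)) : FreeE n) ^ 2 ^ twoExp n =
      hrel n ((il hn ha hne).val + 1) - X none -
        X (some (i0 hn)) ^ dexp n (il hn ha hne) * r := by
    rw [hr]; ring
  have hhl : hrel n ((il hn ha hne).val + 1) ∈ Jm hn := Ideal.mem_sup_left (hrel_mem _)
  have hDl : 2 ^ twoExp n ≤ dexp n (il hn ha hne) := two_pow_le_dexp hn hne _ (by
    have := two_le_il hn ha hne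
    omega)
  rintro q (hq | hq)
  · rw [Set.mem_singleton_iff] at hq
    rw [SetLike.mem_coe, Ideal.mem_comap, hq, evarE_one hn, ← il_val hn ha hne, evarE_succ, il_val,
      kprime_lIdx hn hne, map_mul, map_pow, rename_X, rename_X]
    simp only [Nat.add_sub_cancel]
    rw [hl]
    have e : (X (some (i0 hn)) : FreeE n) * (hrel n ((il hn ha hne).val + 1) - X none -
        X (some (i0 hn)) ^ dexp n (il hn ha hne) * r) =
        X (some (i0 hn)) * hrel n ((il hn ha hne).val + 1) - X (some (i0 hn)) * X none -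
        X (some (i0 hn)) ^ dexp n (il hn ha hne) * (X (some (i0 hn)) * r) := by ring
    rw [e]
    exact Ideal.sub_mem _ (Ideal.sub_mem _ (Ideal.mul_mem_left _ _ hhl)
      (Ideal.mem_sup_left (e0_mul_x_mem hn))) (e0_pow_mul_mem_Jm hn _ hDl _)
  · obtain ⟨i, rfl⟩ := hq
    beta_reduce
    rw [SetLike.mem_coe, Ideal.mem_comap, evarE_succ, map_pow, rename_X]
    by_cases h0 : i.val = 0
    · have : i = i0 hn := Fin.ext h0
      subst this
      have e : (i0 hn).val + 1 = 1 := rfl
      rw [e, kprime_one]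
      exact Ideal.mem_sup_right (Ideal.subset_span rfl)
    by_cases hil : i = il hn ha hne
    · subst hil
      rw [il_val, kprime_lIdx hn hne, pow_succ, pow_mul, hl]
      have e : ∀ A B C : FreeE n, (A - B - C) ^ 2 = A * (A - 2 * B - 2 * C) + B ^ 2 +
          C * (2 * B + C) := fun A B C => by ring
      rw [e, mul_assoc]
      exact Ideal.add_mem _ (Ideal.add_mem _ (Ideal.mul_mem_right _ _ hhl)
        (Ideal.mem_sup_left x_sq_mem)) (e0_pow_mul_mem_Jm hn _ hDl _)
    · have hN := notL_of_ne_il hn ha hne i h0 hil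
      obtain ⟨r', hr'⟩ := hrel_eq hn i h0
      rw [← bound'_eq_of_notL hn i h0 hN]
      have e : (X (some i) : FreeE n) ^ bound' hn i = hrel n (i.val + 1) -
          X (some (i0 hn)) ^ cexp n i * X none - X (some (i0 hn)) ^ dexp n i * r' := by
        rw [hr']; ring
      rw [e]
      exact Ideal.sub_mem _ (Ideal.sub_mem _ (Ideal.mem_sup_left (hrel_mem i))
        (e0_pow_mul_x_mem_Jm hn _ (cexp_ne_zero_of_notL i h0 hN)))
        (e0_pow_mul_mem_Jm hn _ (two_pow_le_dexp hn hne i h0) _)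

include hn ha hne in
/-- Statement S17748. -/
theorem even_case (τ : P n →ₐ[ZMod 2] P n) (hτ1 : τ (eps n 1) = eps n 1)
    (hτ : ∀ j : ℕ, 2 ≤ j → j ≤ numVars n → τ (eps n j) = eps n j + eps n 1 ^ (2 * j - 3)) :
    (∀ q : FreeP n,
      (∃ w : P n, τ w = w ∧ psi n q = eps n 1 ^ 2 ^ twoExp n * w) ↔ q ∈ evenIdeal n) ∧
    (∀ z : P n, τ z = z → ∃ q : FreeP n, ∃ w : P n,
      τ w = w ∧ z = psi n q + eps n 1 ^ 2 ^ twoExp n * w) := by
  refine ⟨fun q => ?_, fun z hz => ?_⟩
  · have key := fixed_mul_iff τ hn hτ1 hτ (2 ^ twoExp n) (rename some q)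
    rw [phi_rename] at key
    rw [key]
    constructor
    · intro h
      have := map_rho_Jm_le hn ha hne (Ideal.mem_map_of_mem (rho (xi hn ha hne)) h)
      rwa [rho_rename] at this
    · intro h
      exact evenIdeal_le_comap hn ha hne h
  · have hz' : z ∈ (phi n).range := by
      rw [range_phi τ hn hτ1 hτ, AlgHom.mem_equalizer, AlgHom.id_apply]; exact hz
    obtain ⟨q', rfl⟩ := (AlgHom.mem_range (phi n)).mp hz'
    refine ⟨rho (xi hn ha hne) q', 0, map_zero τ, ?_⟩
    rw [mul_zero, add_zero, phi_eq_psi_rho _ (psi_xi hn ha hne)]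

end even

end Groth.Agent.Lib.Seat65.QsK
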