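import Groth.Prelude.Def_RootCh2
import Mathlib.LinearAlgebra.RootSystem.BaseExists

/-!
# Seat 65, RootCh library, part A

Fundamental weights as the dual basis of the simple coroots, sign coherence of the coefficients
of (co)roots in a base, invariant forms on the coweight space and the comparison of the
coefficients of a root and of its coroot.
-/

set_option autoImplicit false
set_option linter.unusedSectionVars false
set_option linter.unusedVariables false
universe u v w x
open RootCh Module

namespace Groth.Agent.Lib.Seat65.RootChA

variable {ι : Type u} {R : Type v} {M : Type w} {N : Type x}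
  [Field R] [LinearOrder R] [IsStrictOrderedRing R]
  [AddCommGroup M] [Module R M] [AddCommGroup N] [Module R N]
  {P : RootPairing ι R M N} [P.IsRootSystem]

/-! ### Fundamental weights as a dual basis -/

/-- Pairing a fundamental weight with a vector of `N` reads off a coordinate in the basis of
simple coroots. -/
lemma pair_fundWeight (b : P.Base) (i : b.support) (n : N) :
    P.toLinearMap (fundWeight b i) n = b.toCoweightBasis.repr n i := by
  have h : P.toLinearMap (P.toPerfPair.symm (b.toCoweightBasis.coord i)) =
      b.toCoweightBasis.coord i :=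
    P.toLinearMap.apply_symm_toPerfPair_self _
  rw [fundWeight, h, Basis.coord_apply]

lemma pair_fundCoweight (b : P.Base) (i : b.support) (m : M) :
    P.toLinearMap m (fundCoweight b i) = b.toWeightBasis.repr m i :=
  pair_fundWeight (P := P.flip) b.flip i m

lemma pair_fundWeight_coroot_self (b : P.Base) (i : b.support) :
    P.toLinearMap (fundWeight b i) (P.coroot i) = 1 :=
  coroot'_fundWeight_self b i

lemma pair_fundWeight_coroot_ne (b : P.Base) {i j : b.support} (h : j ≠ i) :
    P.toLinearMap (fundWeight b i) (P.coroot j) = 0 :=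
  coroot'_fundWeight_of_ne b i j h

lemma pair_root_fundCoweight_self (b : P.Base) (i : b.support) :
    P.toLinearMap (P.root i) (fundCoweight b i) = 1 :=
  root'_fundCoweight_self b i

lemma pair_root_fundCoweight_ne (b : P.Base) {i j : b.support} (h : j ≠ i) :
    P.toLinearMap (P.root j) (fundCoweight b i) = 0 :=
  root'_fundCoweight_of_ne b i j h

/-- Pairing a linear combination of fundamental weights with a simple coroot. -/
lemma pair_sum_fundWeight_coroot (b : P.Base) (c : b.support → R) (k : b.support) :
    P.toLinearMap (∑ j : b.support, c j • fundWeight b j) (P.coroot k) = c k := by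
  simp only [map_sum, map_smul, LinearMap.sum_apply, LinearMap.smul_apply, smul_eq_mul]
  rw [Finset.sum_eq_single k]
  · rw [pair_fundWeight_coroot_self, mul_one]
  · intro j _ hj
    rw [pair_fundWeight_coroot_ne b (Ne.symm hj), mul_zero]
  · intro h; exact absurd (Finset.mem_univ k) h

lemma pair_root_sum_fundCoweight (b : P.Base) (c : b.support → R) (k : b.support) :
    P.toLinearMap (P.root k) (∑ j : b.support, c j • fundCoweight b j) = c k :=
  pair_sum_fundWeight_coroot (P := P.flip) b.flip c k

/-- Two vectors of `M` with the same pairings against the simple coroots are equal. -/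
lemma ext_simple (b : P.Base) {ξ ξ' : M}
    (h : ∀ j : b.support, P.toLinearMap ξ (P.coroot j) = P.toLinearMap ξ' (P.coroot j)) :
    ξ = ξ' := by
  apply P.toPerfPair.injective
  apply b.toCoweightBasis.ext
  intro j
  simpa using h j

lemma ext_simple' (b : P.Base) {y y' : N}
    (h : ∀ j : b.support, P.toLinearMap (P.root j) y = P.toLinearMap (P.root j) y') :
    y = y' :=
  ext_simple (P := P.flip) b.flip h

/-- Expansion of a vector in the fundamental weights. -/
lemma expand_fundWeight (b : P.Base) (ξ : M) :
    ξ = ∑ j : b.support, P.toLinearMap ξ (P.coroot j) • fundWeight b j := by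
  apply ext_simple b
  intro k
  rw [pair_sum_fundWeight_coroot]

lemma expand_fundCoweight (b : P.Base) (y : N) :
    y = ∑ j : b.support, P.toLinearMap (P.root j) y • fundCoweight b j :=
  expand_fundWeight (P := P.flip) b.flip y

/-- The pairing of a vector with any element of `N`, through its coordinates on simple coroots. -/
lemma pair_eq_sum (b : P.Base) (ξ : M) (n : N) :
    P.toLinearMap ξ n =
      ∑ j : b.support, P.toLinearMap (fundWeight b j) n * P.toLinearMap ξ (P.coroot j) := by
  conv_lhs => rw [expand_fundWeight b ξ]
  simp only [map_sum, map_smul, LinearMap.sum_apply, LinearMap.smul_apply, smul_eq_mul]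
  exact Finset.sum_congr rfl fun j _ => mul_comm _ _

lemma pair_eq_sum' (b : P.Base) (m : M) (y : N) :
    P.toLinearMap m y =
      ∑ j : b.support, P.toLinearMap m (fundCoweight b j) * P.toLinearMap (P.root j) y :=
  pair_eq_sum (P := P.flip) b.flip y m

lemma fundWeight_injective (b : P.Base) : Function.Injective (fundWeight b) := by
  intro i j h
  by_contra hne
  have h1 := pair_fundWeight_coroot_self b i
  rw [h, pair_fundWeight_coroot_ne b hne] at h1
  exact zero_ne_one h1

lemma fundWeight_linearIndependent (b : P.Base) : LinearIndependent R (fundWeight b) := by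
  classical
  rw [Fintype.linearIndependent_iff]
  intro c hc k
  have := pair_sum_fundWeight_coroot b c k
  rw [hc] at this
  simpa using this.symm

/-! ### Coefficients of coroots and roots in a base -/

/-- Elements of the additive closure of the simple coroots have natural number coordinates. -/
lemma pair_fundWeight_of_mem_closure (b : P.Base) {n : N}
    (hn : n ∈ AddSubmonoid.closure (P.coroot '' b.support)) (j : b.support) :
    ∃ k : ℕ, P.toLinearMap (fundWeight b j) n = k := by
  classical
  induction hn using AddSubmonoid.closure_induction with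
  | mem x hx =>
    obtain ⟨i, hi, rfl⟩ := hx
    by_cases h : (⟨i, hi⟩ : b.support) = j
    · subst h
      exact ⟨1, by simpa using pair_fundWeight_coroot_self b ⟨i, hi⟩⟩
    · exact ⟨0, by simpa using pair_fundWeight_coroot_ne b h⟩
  | zero => exact ⟨0, by simp⟩
  | add x y _ _ hx hy =>
    obtain ⟨k, hk⟩ := hx
    obtain ⟨l, hl⟩ := hy
    exact ⟨k + l, by simp [hk, hl]⟩

/-- Sign coherence (with integrality) of the coefficients of a coroot in a base. -/
lemma coroot_coef_cases (b : P.Base) (i : ι) :
    (∀ j : b.support, ∃ k : ℕ, P.toLinearMap (fundWeight b j) (P.coroot i) = k) ∨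
      (∀ j : b.support, ∃ k : ℕ, P.toLinearMap (fundWeight b j) (P.coroot i) = -(k : R)) := by
  rcases b.coroot_mem_or_neg_mem i with h | h
  · exact Or.inl fun j => pair_fundWeight_of_mem_closure b h j
  · refine Or.inr fun j => ?_
    obtain ⟨k, hk⟩ := pair_fundWeight_of_mem_closure b h j
    exact ⟨k, by rw [← hk]; simp⟩

lemma root_coef_cases (b : P.Base) (i : ι) :
    (∀ j : b.support, ∃ k : ℕ, P.toLinearMap (P.root i) (fundCoweight b j) = k) ∨
      (∀ j : b.support, ∃ k : ℕ, P.toLinearMap (P.root i) (fundCoweight b j) = -(k : R)) :=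
  coroot_coef_cases (P := P.flip) b.flip i

/-- The coefficients of a coroot are not all zero. -/
lemma exists_coroot_coef_ne_zero (b : P.Base) (i : ι) :
    ∃ j : b.support, P.toLinearMap (fundWeight b j) (P.coroot i) ≠ 0 := by
  by_contra h
  push Not at h
  have : P.coroot i = 0 := by
    apply P.flip.toPerfPair.injective
    apply b.toWeightBasis.ext
    intro j
    have h2 := pair_eq_sum b (P.root j) (P.coroot i)
    simp only [h, zero_mul, Finset.sum_const_zero] at h2
    simpa using h2
  exact P.ne_zero' i this

lemma exists_root_coef_ne_zero (b : P.Base) (i : ι) :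
    ∃ j : b.support, P.toLinearMap (P.root i) (fundCoweight b j) ≠ 0 :=
  exists_coroot_coef_ne_zero (P := P.flip) b.flip i

/-! ### Heights and positivity -/

/-- The height of a root, cast to `R`, is the sum of its coefficients. -/
lemma height_cast (b : P.Base) (i : ι) :
    ((b.height i : ℤ) : R) = ∑ j : b.support, P.toLinearMap (P.root i) (fundCoweight b j) := by
  obtain ⟨f, hf₀, hf₁, hf₂⟩ := b.exists_root_eq_sum_int i
  rw [RootPairing.Base.height_eq_sum hf₂]
  have key : ∀ k : b.support, P.toLinearMap (P.root i) (fundCoweight b k) = (f k : R) := by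
    intro k
    rw [hf₂, ← Finset.sum_coe_sort b.support (fun j => f j • P.root j)]
    have : ∑ j : b.support, f j • P.root j = ∑ j : b.support, ((f j : ℤ) : R) • P.root j := by
      refine Finset.sum_congr rfl fun j _ => ?_
      rw [Int.cast_smul_eq_zsmul]
    rw [this]
    simp only [map_sum, map_smul, LinearMap.sum_apply, LinearMap.smul_apply, smul_eq_mul]
    rw [Finset.sum_eq_single k]
    · rw [pair_root_fundCoweight_self, mul_one]
    · intro j _ hj
      rw [pair_root_fundCoweight_ne b hj, mul_zero]
    · intro h; exact absurd (Finset.mem_univ k) h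
  rw [Int.cast_sum, ← Finset.sum_coe_sort b.support (fun j => ((f j : ℤ) : R))]
  exact Finset.sum_congr rfl fun k _ => (key k).symm

lemma isPos_iff_coef (b : P.Base) (i : ι) :
    b.IsPos i ↔ ∀ j : b.support, 0 ≤ P.toLinearMap (P.root i) (fundCoweight b j) := by
  rw [RootPairing.Base.isPos_iff]
  constructor
  · intro h
    rcases root_coef_cases b i with h1 | h1
    · intro j
      obtain ⟨k, hk⟩ := h1 j
      rw [hk]; exact Nat.cast_nonneg k
    · exfalso
      have : ((b.height i : ℤ) : R) ≤ 0 := by
        rw [height_cast]
        refine Finset.sum_nonpos fun j _ => ?_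
        obtain ⟨k, hk⟩ := h1 j
        rw [hk]; simp
      have h' : (0 : R) < ((b.height i : ℤ) : R) := by exact_mod_cast h
      exact absurd h' (not_lt.mpr this)
  · intro h
    have h0 : (0 : R) ≤ ((b.height i : ℤ) : R) := by
      rw [height_cast]
      exact Finset.sum_nonneg fun j _ => h j
    have h1 : (0 : ℤ) ≤ b.height i := by exact_mod_cast h0
    exact lt_of_le_of_ne h1 (b.height_ne_zero i).symm

lemma not_isPos_iff_coef (b : P.Base) (i : ι) :
    ¬ b.IsPos i ↔ ∀ j : b.support, P.toLinearMap (P.root i) (fundCoweight b j) ≤ 0 := by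
  constructor
  · intro h
    rcases root_coef_cases b i with h1 | h1
    · exfalso
      apply h
      rw [isPos_iff_coef]
      intro j
      obtain ⟨k, hk⟩ := h1 j
      rw [hk]; exact Nat.cast_nonneg k
    · intro j
      obtain ⟨k, hk⟩ := h1 j
      rw [hk]; simp
  · intro h hpos
    rw [isPos_iff_coef] at hpos
    obtain ⟨j, hj⟩ := exists_root_coef_ne_zero b i
    exact hj (le_antisymm (h j) (hpos j))

/-! ### Invariant forms -/

/-- An invariant scalar product on the coweight space. -/
structure InvForm (P : RootPairing ι R M N) (B : LinearMap.BilinForm R N) : Prop where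
  symm : ∀ y z : N, B y z = B z y
  pos : ∀ y : N, y ≠ 0 → 0 < B y y
  inv : ∀ (i : ι) (y z : N), B (P.coreflection i y) (P.coreflection i z) = B y z

/-- A vector of `N` pairing to zero with all roots is zero. -/
lemma eq_zero_of_pair_root_eq_zero {y : N} (h : ∀ i, P.toLinearMap (P.root i) y = 0) : y = 0 := by
  apply P.flip.toPerfPair.injective
  rw [map_zero]
  apply LinearMap.ext_on_range (RootPairing.IsRootSystem.span_root_eq_top (P := P))
  intro i
  simpa using h i

lemma eq_zero_of_pair_coroot_eq_zero {ξ : M} (h : ∀ i, P.toLinearMap ξ (P.coroot i) = 0) :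
    ξ = 0 :=
  eq_zero_of_pair_root_eq_zero (P := P.flip) h

lemma exists_invForm [Finite ι] : ∃ B : LinearMap.BilinForm R N, InvForm P B := by
  classical
  have : Fintype ι := Fintype.ofFinite ι
  refine ⟨P.CorootForm, ?_, ?_, ?_⟩
  · intro y z
    simp only [RootPairing.corootForm_apply_apply, mul_comm]
  · intro y hy
    rw [RootPairing.corootForm_apply_apply]
    have hnn : ∀ i ∈ (Finset.univ : Finset ι), 0 ≤ P.root' i y * P.root' i y :=
      fun i _ => mul_self_nonneg _
    rcases (Finset.sum_nonneg hnn).lt_or_eq with h | h
    · exact h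
    · exfalso
      apply hy
      refine eq_zero_of_pair_root_eq_zero (P := P) fun i => ?_
      have := (Finset.sum_eq_zero_iff_of_nonneg hnn).mp h.symm i (Finset.mem_univ i)
      exact mul_self_eq_zero.mp this
  · intro i y z
    exact P.flip.rootForm_reflection_reflection_apply i y z

namespace InvForm

variable {B : LinearMap.BilinForm R N} (hB : InvForm P B)
include hB

lemma two_mul_coroot (i : ι) (z : N) :
    2 * B (P.coroot i) z = P.toLinearMap (P.root i) z * B (P.coroot i) (P.coroot i) := by
  have h := hB.inv i (P.coroot i) z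
  rw [RootPairing.coreflection_apply_self, RootPairing.coreflection_apply] at h
  simp only [map_neg, map_sub, map_smul, LinearMap.neg_apply, smul_eq_mul] at h
  have : P.root' i z = P.toLinearMap (P.root i) z := rfl
  rw [this] at h
  linarith

lemma coroot_pos (i : ι) : 0 < B (P.coroot i) (P.coroot i) :=
  hB.pos _ (P.ne_zero' i)

/-- Comparison of the coefficients of a root and of its coroot in a base. -/
lemma coef_link (b : P.Base) (i : ι) (k : b.support) :
    P.toLinearMap (P.root i) (fundCoweight b k) * B (P.coroot i) (P.coroot i) =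
      P.toLinearMap (fundWeight b k) (P.coroot i) * B (P.coroot k) (P.coroot k) := by
  have hexp : P.coroot i =
      ∑ j : b.support, P.toLinearMap (fundWeight b j) (P.coroot i) • P.coroot j := by
    conv_lhs => rw [← b.toCoweightBasis.sum_repr (P.coroot i)]
    refine Finset.sum_congr rfl fun j _ => ?_
    rw [pair_fundWeight, b.toCoweightBasis_apply]
  rw [← hB.two_mul_coroot i]
  conv_lhs => rw [hexp]
  simp only [map_sum, map_smul, LinearMap.sum_apply, LinearMap.smul_apply, smul_eq_mul,
    Finset.mul_sum]
  rw [Finset.sum_eq_single k]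
  · rw [mul_left_comm, hB.two_mul_coroot, pair_root_fundCoweight_self, one_mul]
  · intro j _ hj
    rw [mul_left_comm, hB.two_mul_coroot, pair_root_fundCoweight_ne b hj, zero_mul, mul_zero]
  · intro h; exact absurd (Finset.mem_univ k) h

end InvForm

end Groth.Agent.Lib.Seat65.RootChA

namespace Groth.Agent.Lib.Seat65.RootChA

variable {ι : Type u} {R : Type v} {M : Type w} {N : Type x}
  [Field R] [LinearOrder R] [IsStrictOrderedRing R]
  [AddCommGroup M] [Module R M] [AddCommGroup N] [Module R N]
  {P : RootPairing ι R M N} [P.IsRootSystem] [Finite ι]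

/-! ### Root coefficients versus coroot coefficients -/

lemma coef_pos_iff (b : P.Base) (i : ι) (k : b.support) :
    0 < P.toLinearMap (P.root i) (fundCoweight b k) ↔
      0 < P.toLinearMap (fundWeight b k) (P.coroot i) := by
  obtain ⟨B, hB⟩ := exists_invForm (P := P)
  have h := hB.coef_link b i k
  have h1 := hB.coroot_pos i
  have h2 := hB.coroot_pos (k : ι)
  constructor
  · intro hp
    have : 0 < P.toLinearMap (fundWeight b k) (P.coroot i) * B (P.coroot k) (P.coroot k) := by
      rw [← h]; exact mul_pos hp h1
    exact (pos_iff_pos_of_mul_pos this).mpr h2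
  · intro hp
    have : 0 < P.toLinearMap (P.root i) (fundCoweight b k) * B (P.coroot i) (P.coroot i) := by
      rw [h]; exact mul_pos hp h2
    exact (pos_iff_pos_of_mul_pos this).mpr h1

lemma coef_eq_zero_iff (b : P.Base) (i : ι) (k : b.support) :
    P.toLinearMap (P.root i) (fundCoweight b k) = 0 ↔
      P.toLinearMap (fundWeight b k) (P.coroot i) = 0 := by
  obtain ⟨B, hB⟩ := exists_invForm (P := P)
  have h := hB.coef_link b i k
  have h1 := (hB.coroot_pos i).ne'
  have h2 := (hB.coroot_pos (k : ι)).ne'
  constructor
  · intro h0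
    rw [h0, zero_mul] at h
    exact (mul_eq_zero.mp h.symm).resolve_right h2
  · intro h0
    rw [h0, zero_mul] at h
    exact (mul_eq_zero.mp h).resolve_right h1

lemma coef_neg_iff (b : P.Base) (i : ι) (k : b.support) :
    P.toLinearMap (P.root i) (fundCoweight b k) < 0 ↔
      P.toLinearMap (fundWeight b k) (P.coroot i) < 0 := by
  have h1 := coef_pos_iff b i k
  have h2 := coef_eq_zero_iff b i k
  constructor
  · intro h
    rcases lt_trichotomy (P.toLinearMap (fundWeight b k) (P.coroot i)) 0 with h' | h' | h'
    · exact h'
    · exact absurd (h2.mpr h') h.ne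
    · exact absurd (h1.mpr h') (not_lt.mpr h.le)
  · intro h
    rcases lt_trichotomy (P.toLinearMap (P.root i) (fundCoweight b k)) 0 with h' | h' | h'
    · exact h'
    · exact absurd (h2.mp h') h.ne
    · exact absurd (h1.mp h') (not_lt.mpr h.le)

lemma coef_nonneg_iff (b : P.Base) (i : ι) (k : b.support) :
    0 ≤ P.toLinearMap (P.root i) (fundCoweight b k) ↔
      0 ≤ P.toLinearMap (fundWeight b k) (P.coroot i) := by
  rw [← not_lt, ← not_lt, coef_neg_iff]

lemma coef_nonpos_iff (b : P.Base) (i : ι) (k : b.support) :
    P.toLinearMap (P.root i) (fundCoweight b k) ≤ 0 ↔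
      P.toLinearMap (fundWeight b k) (P.coroot i) ≤ 0 := by
  rw [← not_lt, ← not_lt, coef_pos_iff]

/-- Positivity of a root for a base, read on the coefficients of its coroot. -/
lemma isPos_iff_cocoef (b : P.Base) (i : ι) :
    b.IsPos i ↔ ∀ j : b.support, 0 ≤ P.toLinearMap (fundWeight b j) (P.coroot i) := by
  rw [isPos_iff_coef]
  exact forall_congr' fun j => coef_nonneg_iff b i j

lemma not_isPos_iff_cocoef (b : P.Base) (i : ι) :
    ¬ b.IsPos i ↔ ∀ j : b.support, P.toLinearMap (fundWeight b j) (P.coroot i) ≤ 0 := by
  rw [not_isPos_iff_coef]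
  exact forall_congr' fun j => coef_nonpos_iff b i j

end Groth.Agent.Lib.Seat65.RootChA
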