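import Groth.Agent.Lib.Seat65RootChA

/-!
# Seat 65, RootCh library, part B

Existence of chambers: every vector lies in the closed chamber of some base, and so does a small
perturbation of it in any prescribed direction.
-/

set_option autoImplicit false
set_option linter.unusedSectionVars false
set_option linter.unusedVariables false
universe u v w x
open RootCh Module

namespace Groth.Agent.Lib.Seat65.RootChB

open Groth.Agent.Lib.Seat65.RootChA

variable {ι : Type u} {R : Type v} {M : Type w} {N : Type x}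
  [Field R] [LinearOrder R] [IsStrictOrderedRing R]
  [AddCommGroup M] [Module R M] [AddCommGroup N] [Module R N]
  {P : RootPairing ι R M N} [P.IsRootSystem] [Finite ι]

/-- A uniform small positive scalar for finitely many strict inequalities. -/
lemma exists_pos_forall_mul_lt {α : Type*} [Finite α] (a c : α → R) (ha : ∀ i, 0 < a i) :
    ∃ ε : R, 0 < ε ∧ ∀ i, ε * c i < a i := by
  classical
  have : Fintype α := Fintype.ofFinite α
  set S : R := ∑ i, (|c i| + 1) / a i with hS
  have hterm : ∀ i, 0 < (|c i| + 1) / a i := fun i =>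
    div_pos (by positivity) (ha i)
  have hS0 : 0 ≤ S := Finset.sum_nonneg fun i _ => (hterm i).le
  refine ⟨(S + 1)⁻¹, by positivity, fun i => ?_⟩
  have h1 : (|c i| + 1) / a i ≤ S := by
    rw [hS]
    exact Finset.single_le_sum (f := fun i => (|c i| + 1) / a i) (fun j _ => (hterm j).le)
      (Finset.mem_univ i)
  have h2 : (|c i| + 1) / a i < S + 1 := by linarith
  have h3 : |c i| + 1 < (S + 1) * a i := by
    rwa [div_lt_iff₀ (ha i)] at h2
  have h4 : c i < (S + 1) * a i := by
    have := le_abs_self (c i)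
    linarith
  have hpos : 0 < S + 1 := by positivity
  calc (S + 1)⁻¹ * c i < (S + 1)⁻¹ * ((S + 1) * a i) :=
        mul_lt_mul_of_pos_left h4 (inv_pos.mpr hpos)
    _ = a i := by field_simp

/-- Small perturbations keep the strict signs. -/
lemma exists_perturb (ξ ζ : M) :
    ∃ ε : R, 0 < ε ∧ ∀ i,
      (0 < P.toLinearMap ξ (P.coroot i) → 0 < P.toLinearMap (ξ + ε • ζ) (P.coroot i)) ∧
      (P.toLinearMap ξ (P.coroot i) < 0 → P.toLinearMap (ξ + ε • ζ) (P.coroot i) < 0) := by
  classical
  let a : ι → R := fun i => if P.toLinearMap ξ (P.coroot i) = 0 then 1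
    else |P.toLinearMap ξ (P.coroot i)|
  have ha : ∀ i, 0 < a i := by
    intro i
    simp only [a]
    split_ifs with h
    · exact one_pos
    · exact abs_pos.mpr h
  obtain ⟨ε, hε, h⟩ := exists_pos_forall_mul_lt a (fun i => |P.toLinearMap ζ (P.coroot i)|) ha
  refine ⟨ε, hε, fun i => ⟨fun hi => ?_, fun hi => ?_⟩⟩
  · have h1 := h i
    simp only [a, if_neg hi.ne', abs_of_pos hi] at h1
    simp only [map_add, map_smul, LinearMap.add_apply, LinearMap.smul_apply, smul_eq_mul]
    have h2 : -|P.toLinearMap ζ (P.coroot i)| ≤ P.toLinearMap ζ (P.coroot i) := neg_abs_le _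
    nlinarith
  · have h1 := h i
    simp only [a, if_neg hi.ne, abs_of_neg hi] at h1
    simp only [map_add, map_smul, LinearMap.add_apply, LinearMap.smul_apply, smul_eq_mul]
    have h2 : P.toLinearMap ζ (P.coroot i) ≤ |P.toLinearMap ζ (P.coroot i)| := le_abs_self _
    nlinarith

/-- There is a vector of `M` off all root hyperplanes. -/
lemma exists_regular : ∃ ζ : M, ∀ i, P.toLinearMap ζ (P.coroot i) ≠ 0 := by
  obtain ⟨x, hx⟩ := Module.Dual.exists_forall_ne_zero_of_forall_exists (K := R) (M := M)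
    (fun i : ι => P.coroot' i) (fun i => ⟨P.root i, by simp⟩)
  exact ⟨x, fun i => hx i⟩

variable [P.IsCrystallographic] [P.IsReduced]

/-- A regular vector lies in the open chamber of some base. -/
lemma exists_base_of_regular {ζ : M} (hζ : ∀ i, P.toLinearMap ζ (P.coroot i) ≠ 0) :
    ∃ b : P.Base, ∀ i ∈ b.support, 0 < P.toLinearMap ζ (P.coroot i) := by
  let f : Module.Dual R N := P.toLinearMap ζ
  have hf : ∀ i, f (P.flip.root i) ≠ 0 := fun i => hζ i
  have hli := RootPairing.linearIndepOn_root_baseOf' (P := P.flip) (S := R) f hf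
  have hsp : ∀ i, P.flip.root i ∈ AddSubmonoid.closure
        (P.flip.root '' IsAddIndecomposable.baseOf P.flip.root (f : N →+ R)) ∨
      -P.flip.root i ∈ AddSubmonoid.closure
        (P.flip.root '' IsAddIndecomposable.baseOf P.flip.root (f : N →+ R)) := by
    intro i
    let _ := P.flip.indexNeg
    exact IsAddIndecomposable.mem_or_neg_mem_closure_baseOf P.flip.root (f : N →+ R) i (hf i)
      (by simp)
  let b' : P.flip.Base := RootPairing.Base.mk' P.flip _ hli hsp
  refine ⟨b'.flip, fun i hi => ?_⟩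
  have hi' : i ∈ IsAddIndecomposable.baseOf P.flip.root (f : N →+ R) := by
    simpa [b', RootPairing.Base.mk'] using hi
  exact IsAddIndecomposable.baseOf_subset_pos P.flip.root (f : N →+ R) hi'

lemma mem_closedChamber_iff (b : P.Base) (ξ : M) :
    ξ ∈ closedChamber b ↔ ∀ i ∈ b.support, 0 ≤ P.toLinearMap ξ (P.coroot i) := Iff.rfl

lemma mem_openChamber_iff (b : P.Base) (ξ : M) :
    ξ ∈ openChamber b ↔ ∀ i ∈ b.support, 0 < P.toLinearMap ξ (P.coroot i) := Iff.rfl

/-- Every vector, together with a small perturbation of it in a prescribed direction, lies in the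
closed chamber of some base. -/
lemma exists_base_closedChamber₂ (η ξ : M) :
    ∃ (b : P.Base) (ε : R), 0 < ε ∧ η ∈ closedChamber b ∧ η + ε • ξ ∈ closedChamber b := by
  obtain ⟨ε₁, hε₁, h₁⟩ := exists_perturb (P := P) η ξ
  obtain ⟨ζ₀, hζ₀⟩ := exists_regular (P := P)
  obtain ⟨ε₂, hε₂, h₂⟩ := exists_perturb (P := P) (η + ε₁ • ξ) ζ₀
  have hreg : ∀ i, P.toLinearMap (η + ε₁ • ξ + ε₂ • ζ₀) (P.coroot i) ≠ 0 := by
    intro i
    rcases lt_trichotomy (P.toLinearMap (η + ε₁ • ξ) (P.coroot i)) 0 with h | h | h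
    · exact ((h₂ i).2 h).ne
    · have : P.toLinearMap (η + ε₁ • ξ + ε₂ • ζ₀) (P.coroot i) =
          ε₂ * P.toLinearMap ζ₀ (P.coroot i) := by
        rw [map_add, LinearMap.add_apply, h, zero_add, map_smul, LinearMap.smul_apply,
          smul_eq_mul]
      rw [this]
      exact mul_ne_zero hε₂.ne' (hζ₀ i)
    · exact ((h₂ i).1 h).ne'
  obtain ⟨b, hb⟩ := exists_base_of_regular hreg
  have hη₁ : η + ε₁ • ξ ∈ closedChamber b := by
    intro i hi
    by_contra hlt
    exact absurd (hb i hi) (not_lt.mpr ((h₂ i).2 (not_le.mp hlt)).le)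
  refine ⟨b, ε₁, hε₁, ?_, hη₁⟩
  intro i hi
  by_contra hlt
  exact absurd (hη₁ i hi) (not_le.mpr ((h₁ i).2 (not_le.mp hlt)))

lemma exists_base_closedChamber (η : M) : ∃ b : P.Base, η ∈ closedChamber b := by
  obtain ⟨b, ε, _, h, _⟩ := exists_base_closedChamber₂ (P := P) η 0
  exact ⟨b, h⟩

end Groth.Agent.Lib.Seat65.RootChB
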