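import Groth.Agent.Lib.Seat65RootChB

/-!
# Seat 65, RootCh library, part C

Reflection of a base in a root, behaviour of fundamental weights and positivity under it,
and the induction principle along galleries of bases.
-/

set_option autoImplicit false
set_option linter.unusedSectionVars false
set_option linter.unusedVariables false
universe u v w x
open RootCh Module

namespace Groth.Agent.Lib.Seat65.RootChC

open Groth.Agent.Lib.Seat65.RootChA Groth.Agent.Lib.Seat65.RootChB

variable {ι : Type u} {R : Type v} {M : Type w} {N : Type x}
  [Field R] [LinearOrder R] [IsStrictOrderedRing R]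
  [AddCommGroup M] [Module R M] [AddCommGroup N] [Module R N]
  {P : RootPairing ι R M N}

/-- Transport of a base along a permutation of the indices induced by linear automorphisms. -/
def mapBase (b : P.Base) (σ : ι ≃ ι) (g : M ≃ₗ[R] M) (g' : N ≃ₗ[R] N)
    (hg : ∀ i, g (P.root i) = P.root (σ i)) (hg' : ∀ i, g' (P.coroot i) = P.coroot (σ i)) :
    P.Base where
  support := b.support.map σ.toEmbedding
  linearIndepOn_root := by
    rw [Finset.coe_map]
    apply LinearIndepOn.image_of_comp
    have : (P.root ∘ (σ.toEmbedding : ι → ι)) = g ∘ P.root := by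
      ext i; simp [hg]
    rw [this]
    exact b.linearIndepOn_root.map_injOn g.toLinearMap g.injective.injOn
  linearIndepOn_coroot := by
    rw [Finset.coe_map]
    apply LinearIndepOn.image_of_comp
    have : (P.coroot ∘ (σ.toEmbedding : ι → ι)) = g' ∘ P.coroot := by
      ext i; simp [hg']
    rw [this]
    exact b.linearIndepOn_coroot.map_injOn g'.toLinearMap g'.injective.injOn
  root_mem_or_neg_mem i := by
    have himg : P.root '' ((b.support.map σ.toEmbedding : Finset ι) : Set ι) =
        g '' (P.root '' (b.support : Set ι)) := by
      rw [Finset.coe_map, ← Set.image_comp, ← Set.image_comp]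
      apply Set.image_congr
      intro k _
      simp [hg]
    have hcl : AddSubmonoid.closure (P.root '' ((b.support.map σ.toEmbedding : Finset ι) : Set ι)) =
        (AddSubmonoid.closure (P.root '' (b.support : Set ι))).map g.toAddMonoidHom := by
      rw [himg, AddMonoidHom.map_mclosure]
      rfl
    rw [hcl]
    have hi : P.root i = g (P.root (σ.symm i)) := by simp [hg]
    rcases b.root_mem_or_neg_mem (σ.symm i) with h | h
    · left
      rw [hi]
      exact AddSubmonoid.mem_map_of_mem g.toAddMonoidHom h
    · right
      rw [hi, ← map_neg]
      exact AddSubmonoid.mem_map_of_mem g.toAddMonoidHom h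
  coroot_mem_or_neg_mem i := by
    have himg : P.coroot '' ((b.support.map σ.toEmbedding : Finset ι) : Set ι) =
        g' '' (P.coroot '' (b.support : Set ι)) := by
      rw [Finset.coe_map, ← Set.image_comp, ← Set.image_comp]
      apply Set.image_congr
      intro k _
      simp [hg']
    have hcl : AddSubmonoid.closure
        (P.coroot '' ((b.support.map σ.toEmbedding : Finset ι) : Set ι)) =
        (AddSubmonoid.closure (P.coroot '' (b.support : Set ι))).map g'.toAddMonoidHom := by
      rw [himg, AddMonoidHom.map_mclosure]
      rfl
    rw [hcl]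
    have hi : P.coroot i = g' (P.coroot (σ.symm i)) := by simp [hg']
    rcases b.coroot_mem_or_neg_mem (σ.symm i) with h | h
    · left
      rw [hi]
      exact AddSubmonoid.mem_map_of_mem g'.toAddMonoidHom h
    · right
      rw [hi, ← map_neg]
      exact AddSubmonoid.mem_map_of_mem g'.toAddMonoidHom h

/-- The reflection of a base in a root. -/
def reflectBase (b : P.Base) (j : ι) : P.Base :=
  mapBase b (P.reflectionPerm j) (P.reflection j) (P.coreflection j)
    (fun i => (P.root_reflectionPerm j i).symm) (fun i => (P.coroot_reflectionPerm j i).symm)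

lemma mem_reflectBase_support (b : P.Base) (j i : ι) :
    i ∈ (reflectBase b j).support ↔ P.reflectionPerm j i ∈ b.support := by
  simp only [reflectBase, mapBase, Finset.mem_map, Equiv.coe_toEmbedding]
  constructor
  · rintro ⟨k, hk, rfl⟩
    simpa using hk
  · intro h
    exact ⟨_, h, by simp⟩

lemma reflectionPerm_mem_reflectBase_support (b : P.Base) (j : ι) {k : ι} (hk : k ∈ b.support) :
    P.reflectionPerm j k ∈ (reflectBase b j).support := by
  rw [mem_reflectBase_support, RootPairing.reflectionPerm_self]; exact hk

lemma base_ext {b b' : P.Base} (h : b.support = b'.support) : b = b' := by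
  cases b; cases b'; simp only at h; subst h; rfl

lemma reflectBase_reflectBase (b : P.Base) (j : ι) : reflectBase (reflectBase b j) j = b := by
  apply base_ext
  ext i
  rw [mem_reflectBase_support, mem_reflectBase_support, RootPairing.reflectionPerm_self]

/-- The pairing is invariant under simultaneous reflection. -/
lemma pair_reflection_coreflection (j : ι) (m : M) (n : N) :
    P.toLinearMap (P.reflection j m) (P.coreflection j n) = P.toLinearMap m n := by
  simp only [RootPairing.reflection_apply, RootPairing.coreflection_apply, map_sub, map_smul,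
    LinearMap.sub_apply, LinearMap.smul_apply, smul_eq_mul, RootPairing.root_coroot_two,
    LinearMap.flip_apply]
  ring

lemma pair_reflection (j : ι) (m : M) (n : N) :
    P.toLinearMap (P.reflection j m) n = P.toLinearMap m (P.coreflection j n) := by
  have := pair_reflection_coreflection (P := P) j m (P.coreflection j n)
  rwa [RootPairing.coreflection_same] at this

lemma pair_reflection_coroot (j i : ι) (m : M) :
    P.toLinearMap (P.reflection j m) (P.coroot i) =
      P.toLinearMap m (P.coroot (P.reflectionPerm j i)) := by
  rw [pair_reflection, RootPairing.coroot_reflectionPerm]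

lemma pair_root_coreflection (j i : ι) (n : N) :
    P.toLinearMap (P.root i) (P.coreflection j n) =
      P.toLinearMap (P.root (P.reflectionPerm j i)) n := by
  rw [RootPairing.root_reflectionPerm, pair_reflection]

section RootSystem

variable [P.IsRootSystem]

/-- The fundamental weights of the reflected base are the reflections of the fundamental weights. -/
lemma fundWeight_reflectBase (b : P.Base) (j : ι) (k : b.support) :
    fundWeight (reflectBase b j)
      ⟨P.reflectionPerm j k, reflectionPerm_mem_reflectBase_support b j k.2⟩ =
      P.reflection j (fundWeight b k) := by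
  apply ext_simple (reflectBase b j)
  intro l
  have hl : P.reflectionPerm j l ∈ b.support := (mem_reflectBase_support b j l).mp l.2
  rw [pair_reflection_coroot]
  by_cases h : (⟨P.reflectionPerm j l, hl⟩ : b.support) = k
  · have h1 : l = ⟨P.reflectionPerm j k, reflectionPerm_mem_reflectBase_support b j k.2⟩ := by
      apply Subtype.ext
      have := congrArg (fun x : b.support => P.reflectionPerm j (x : ι)) h
      simpa using this
    rw [← h1, pair_fundWeight_coroot_self]
    have := pair_fundWeight_coroot_self b k
    rw [← h] at this ⊢
    exact this.symm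
  · have h1 : l ≠ ⟨P.reflectionPerm j k, reflectionPerm_mem_reflectBase_support b j k.2⟩ := by
      intro hl'
      apply h
      apply Subtype.ext
      simp [hl']
    rw [pair_fundWeight_coroot_ne _ h1]
    exact (pair_fundWeight_coroot_ne b (i := k) (j := ⟨P.reflectionPerm j l, hl⟩) h).symm

lemma fundWeight_reflectBase' (b : P.Base) (j : ι) (l : (reflectBase b j).support) :
    fundWeight (reflectBase b j) l = P.reflection j
      (fundWeight b ⟨P.reflectionPerm j l, (mem_reflectBase_support b j l).mp l.2⟩) := by
  rw [← fundWeight_reflectBase]
  congr 1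
  apply Subtype.ext
  simp

variable [Finite ι]

lemma isPos_reflectBase (b : P.Base) (j i : ι) :
    (reflectBase b j).IsPos i ↔ b.IsPos (P.reflectionPerm j i) := by
  rw [isPos_iff_cocoef, isPos_iff_cocoef]
  constructor
  · intro h k
    have := h ⟨P.reflectionPerm j k, reflectionPerm_mem_reflectBase_support b j k.2⟩
    rwa [fundWeight_reflectBase, pair_reflection_coroot] at this
  · intro h l
    rw [fundWeight_reflectBase', pair_reflection_coroot]
    exact h _

end RootSystem

end Groth.Agent.Lib.Seat65.RootChC

namespace Groth.Agent.Lib.Seat65.RootChC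

open Groth.Agent.Lib.Seat65.RootChA Groth.Agent.Lib.Seat65.RootChB

variable {ι : Type u} {R : Type v} {M : Type w} {N : Type x}
  [Field R] [LinearOrder R] [IsStrictOrderedRing R]
  [AddCommGroup M] [Module R M] [AddCommGroup N] [Module R N]
  {P : RootPairing ι R M N} [P.IsRootSystem] [Finite ι] [P.IsCrystallographic] [P.IsReduced]

lemma not_isPos_neg_simple (b : P.Base) {j : ι} (hj : j ∈ b.support) :
    ¬ b.IsPos (P.reflectionPerm j j) := by
  have h := RootPairing.Base.IsPos.neg_iff_not b j
  simp only [RootPairing.indexNeg_neg] at h
  intro hc
  exact (h.mp hc) (RootPairing.Base.isPos_of_mem_support hj)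

lemma isPos_neg_iff (b : P.Base) (i : ι) :
    b.IsPos (P.reflectionPerm i i) ↔ ¬ b.IsPos i := by
  have h := RootPairing.Base.IsPos.neg_iff_not b i
  simpa only [RootPairing.indexNeg_neg] using h

/-- A simple reflection permutes the positive roots other than the simple root itself. -/
lemma isPos_reflectionPerm_simple (b : P.Base) {j : ι} (hj : j ∈ b.support) (i : ι) :
    b.IsPos (P.reflectionPerm j i) ↔ (b.IsPos i ∧ i ≠ j) ∨ i = P.reflectionPerm j j := by
  constructor
  · intro h
    by_cases hij : P.reflectionPerm j i = j
    · right
      have := congrArg (P.reflectionPerm j) hij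
      simpa using this
    · left
      have h2 := h.reflectionPerm hj hij
      rw [RootPairing.reflectionPerm_self] at h2
      refine ⟨h2, ?_⟩
      rintro rfl
      exact not_isPos_neg_simple b hj h
  · rintro (⟨hi, hij⟩ | rfl)
    · exact hi.reflectionPerm hj hij
    · rw [RootPairing.reflectionPerm_self]
      exact RootPairing.Base.isPos_of_mem_support hj

/-- The simple roots are the indecomposable positive roots. -/
lemma mem_support_iff_indecomposable (b : P.Base) (i : ι) :
    i ∈ b.support ↔ b.IsPos i ∧ ∀ k l, b.IsPos k → b.IsPos l → P.root i ≠ P.root k + P.root l := by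
  constructor
  · intro hi
    refine ⟨RootPairing.Base.isPos_of_mem_support hi, fun k l hk hl h => ?_⟩
    have h1 := b.height_add h
    rw [RootPairing.Base.height_one_of_mem_support hi] at h1
    rw [RootPairing.Base.isPos_iff] at hk hl
    omega
  · rintro ⟨hpos, hind⟩
    obtain ⟨j, hj, hj'⟩ := hpos.exists_mem_support_pos_pairingIn
    rw [P.zero_lt_pairingIn_iff'] at hj'
    rcases eq_or_ne i j with rfl | hij
    · exact hj
    exfalso
    obtain ⟨k, hk⟩ := P.root_sub_root_mem_of_pairingIn_pos hj' hij
    have hkpos : b.IsPos k := hpos.sub hj hk
    exact hind k j hkpos (RootPairing.Base.isPos_of_mem_support hj) (by rw [hk]; abel)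

lemma eq_of_isPos_iff {b b' : P.Base} (h : ∀ i, b.IsPos i ↔ b'.IsPos i) : b = b' := by
  apply base_ext
  ext i
  rw [mem_support_iff_indecomposable, mem_support_iff_indecomposable]
  simp only [h]

lemma eq_of_isPos_imp {b b' : P.Base} (h : ∀ i, b.IsPos i → b'.IsPos i) : b = b' := by
  apply eq_of_isPos_iff
  intro i
  refine ⟨h i, fun hi => ?_⟩
  by_contra hni
  have h1 : b.IsPos (P.reflectionPerm i i) := (isPos_neg_iff b i).mpr hni
  have h2 := h _ h1
  exact (isPos_neg_iff b' i).mp h2 hi

/-- The set of roots separating two bases. -/
def sepSet (b b' : P.Base) : Set ι := {i | b.IsPos i ∧ ¬ b'.IsPos i}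

lemma sepSet_reflectBase (b b' : P.Base) {j : ι} (hj : j ∈ b.support) (hj' : ¬ b'.IsPos j) :
    sepSet (reflectBase b j) b' = sepSet b b' \ {j} := by
  ext i
  simp only [sepSet, Set.mem_ofPred_eq, Set.mem_sdiff, Set.mem_singleton_iff, isPos_reflectBase,
    isPos_reflectionPerm_simple b hj]
  constructor
  · rintro ⟨(⟨hi, hij⟩ | rfl), hi'⟩
    · exact ⟨⟨hi, hi'⟩, hij⟩
    · exact absurd ((isPos_neg_iff b' j).mpr hj') hi'
  · rintro ⟨⟨hi, hi'⟩, hij⟩
    exact ⟨Or.inl ⟨hi, hij⟩, hi'⟩

/-- Induction along galleries ending at a fixed base `b'`: a property holds of all bases if it holds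
of `b'` and passes from the reflection of `b` in a simple root of `b` that is not positive for
`b'` to `b`. -/
theorem base_induction (b' : P.Base) (motive : P.Base → Prop) (h0 : motive b')
    (hstep : ∀ (b : P.Base) (j : ι), j ∈ b.support → ¬ b'.IsPos j →
      motive (reflectBase b j) → motive b) :
    ∀ b, motive b := by
  suffices H : ∀ n : ℕ, ∀ b : P.Base, (sepSet b b').ncard = n → motive b from
    fun b => H _ b rfl
  intro n
  induction n with
  | zero =>
    intro b hb
    have hfin : (sepSet b b').Finite := Set.toFinite _
    rw [Set.ncard_eq_zero hfin] at hb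
    have : b = b' := by
      apply eq_of_isPos_imp
      intro i hi
      by_contra hni
      have : i ∈ sepSet b b' := ⟨hi, hni⟩
      rw [hb] at this
      exact this
    rw [this]; exact h0
  | succ n ih =>
    intro b hb
    -- there is a simple root of `b` that is not positive for `b'`
    have hex : ∃ j ∈ b.support, ¬ b'.IsPos j := by
      by_contra hcon
      push Not at hcon
      have hall : ∀ i, b.IsPos i → b'.IsPos i := by
        intro i hi
        refine hi.induction_on_add (p := fun i => b'.IsPos i) hcon ?_
        intro i j k hk hi hj
        exact hi.add (hcon j hj) hk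
      have : sepSet b b' = ∅ := by
        ext i
        simp only [sepSet, Set.mem_ofPred_eq, Set.mem_empty_iff_false, iff_false, not_and, not_not]
        exact hall i
      rw [this, Set.ncard_empty] at hb
      omega
    obtain ⟨j, hj, hj'⟩ := hex
    apply hstep b j hj hj'
    apply ih
    rw [sepSet_reflectBase b b' hj hj']
    have hmem : j ∈ sepSet b b' := ⟨RootPairing.Base.isPos_of_mem_support hj, hj'⟩
    rw [Set.ncard_sdiff_singleton_of_mem hmem]
    omega

end Groth.Agent.Lib.Seat65.RootChC
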