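import Groth.Agent.Lib.Seat65RootChC

/-!
# Seat 65, RootCh library, part D

Signs of pairings on a closed chamber, the key lemma on fundamental weights in a closed chamber,
and the description of a facet through an adjacent chamber.
-/

set_option autoImplicit false
set_option linter.unusedSectionVars false
set_option linter.unusedVariables false
universe u v w x
open RootCh Module

namespace Groth.Agent.Lib.Seat65.RootChD

open Groth.Agent.Lib.Seat65.RootChA Groth.Agent.Lib.Seat65.RootChB Groth.Agent.Lib.Seat65.RootChC

variable {ι : Type u} {R : Type v} {M : Type w} {N : Type x}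
  [Field R] [LinearOrder R] [IsStrictOrderedRing R]
  [AddCommGroup M] [Module R M] [AddCommGroup N] [Module R N]
  {P : RootPairing ι R M N} [P.IsRootSystem] [Finite ι] [P.IsCrystallographic] [P.IsReduced]

lemma pair_nonneg_of_isPos {b : P.Base} {ξ : M} (hξ : ξ ∈ closedChamber b) {i : ι}
    (hi : b.IsPos i) : 0 ≤ P.toLinearMap ξ (P.coroot i) := by
  rw [pair_eq_sum b ξ (P.coroot i)]
  exact Finset.sum_nonneg fun j _ => mul_nonneg ((isPos_iff_cocoef b i).mp hi j) (hξ j j.2)

lemma pair_nonpos_of_not_isPos {b : P.Base} {ξ : M} (hξ : ξ ∈ closedChamber b) {i : ι}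
    (hi : ¬ b.IsPos i) : P.toLinearMap ξ (P.coroot i) ≤ 0 := by
  rw [pair_eq_sum b ξ (P.coroot i)]
  exact Finset.sum_nonpos fun j _ =>
    mul_nonpos_of_nonpos_of_nonneg ((not_isPos_iff_cocoef b i).mp hi j) (hξ j j.2)

lemma fundWeight_mem_closedChamber_self (b : P.Base) (i : b.support) :
    fundWeight b i ∈ closedChamber b := by
  intro l hl
  change 0 ≤ P.toLinearMap (fundWeight b i) (P.coroot l)
  by_cases h : (⟨l, hl⟩ : b.support) = i
  · subst h
    rw [pair_fundWeight_coroot_self b ⟨l, hl⟩]
    exact zero_le_one
  · rw [pair_fundWeight_coroot_ne b (j := ⟨l, hl⟩) h]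

/-- **Key lemma**: a fundamental weight (of any base) lying in the closed chamber of `b` is a
fundamental weight of `b`. -/
theorem exists_fundWeight_eq_of_mem_closedChamber (b b' : P.Base) (i' : b'.support)
    (h : fundWeight b' i' ∈ closedChamber b) :
    ∃ j : b.support, fundWeight b j = fundWeight b' i' := by
  revert h
  refine base_induction b'
    (fun b => fundWeight b' i' ∈ closedChamber b →
      ∃ j : b.support, fundWeight b j = fundWeight b' i') (fun _ => ⟨i', rfl⟩) ?_ b
  intro b j hj hj' ih hξ
  set ξ := fundWeight b' i' with hξdef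
  have h1 : 0 ≤ P.toLinearMap ξ (P.coroot j) := hξ j hj
  have h2 : P.toLinearMap ξ (P.coroot j) ≤ 0 :=
    pair_nonpos_of_not_isPos (fundWeight_mem_closedChamber_self b' i') hj'
  have h0 : P.toLinearMap ξ (P.coroot j) = 0 := le_antisymm h2 h1
  have hfix : P.reflection j ξ = ξ := by
    rw [RootPairing.reflection_apply]
    change ξ - P.toLinearMap ξ (P.coroot j) • P.root j = ξ
    rw [h0, zero_smul, sub_zero]
  have hmem : ξ ∈ closedChamber (reflectBase b j) := by
    intro l hl
    change 0 ≤ P.toLinearMap ξ (P.coroot l)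
    have hl' : P.reflectionPerm j l ∈ b.support := (mem_reflectBase_support b j l).mp hl
    have := hξ _ hl'
    change 0 ≤ P.toLinearMap ξ (P.coroot (P.reflectionPerm j l)) at this
    rwa [← pair_reflection_coroot, hfix] at this
  obtain ⟨l, hl⟩ := ih hmem
  rw [fundWeight_reflectBase'] at hl
  refine ⟨⟨P.reflectionPerm j l, (mem_reflectBase_support b j l).mp l.2⟩, ?_⟩
  have := congrArg (P.reflection j) hl
  rw [RootPairing.reflection_same, hfix] at this
  exact this

/-- The corners of the chamber of a base are its fundamental weights. -/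
theorem baseCorners_eq_range (b : P.Base) : baseCorners b = Set.range (fundWeight b) := by
  ext w
  constructor
  · rintro ⟨⟨b', i', rfl⟩, hw⟩
    exact exists_fundWeight_eq_of_mem_closedChamber b b' i' hw
  · rintro ⟨j, rfl⟩
    exact ⟨⟨b, j, rfl⟩, fundWeight_mem_closedChamber_self b j⟩

end Groth.Agent.Lib.Seat65.RootChD
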