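import Groth.Agent.Lib.Seat65RootChD

/-!
# Seat 65, RootCh library, part E

Sign vectors on a closed chamber; membership in a facet and in its closure tested on the simple
coroots of an adjacent chamber.
-/

set_option autoImplicit false
set_option linter.unusedSectionVars false
set_option linter.unusedVariables false
universe u v w x
open RootCh Module

namespace Groth.Agent.Lib.Seat65.RootChE

open Groth.Agent.Lib.Seat65.RootChA Groth.Agent.Lib.Seat65.RootChB Groth.Agent.Lib.Seat65.RootChC
  Groth.Agent.Lib.Seat65.RootChD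

variable {ι : Type u} {R : Type v} {M : Type w} {N : Type x}
  [Field R] [LinearOrder R] [IsStrictOrderedRing R]
  [AddCommGroup M] [Module R M] [AddCommGroup N] [Module R N]
  {P : RootPairing ι R M N}

lemma sgnVec_apply (ξ : M) (i : ι) :
    sgnVec P ξ i = SignType.sign (P.toLinearMap ξ (P.coroot i)) := rfl

lemma coroot_neg (i : ι) : P.coroot (P.reflectionPerm i i) = - P.coroot i := by
  rw [RootPairing.coroot_reflectionPerm, RootPairing.coreflection_apply_self]

lemma root_neg (i : ι) : P.root (P.reflectionPerm i i) = - P.root i := by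
  rw [RootPairing.root_reflectionPerm, RootPairing.reflection_apply_self]

lemma sgnVec_neg (ξ : M) (i : ι) :
    sgnVec P ξ (P.reflectionPerm i i) = - sgnVec P ξ i := by
  rw [sgnVec_apply, sgnVec_apply, coroot_neg, map_neg, Left.sign_neg]

lemma facet_sgn_neg (F : Facet P) (i : ι) : F.sgn (P.reflectionPerm i i) = - F.sgn i := by
  obtain ⟨ξ, hξ⟩ := F.exists_sgnVec_eq
  rw [← hξ, sgnVec_neg]

lemma carrier_nonempty (F : Facet P) : F.carrier.Nonempty := F.exists_sgnVec_eq

lemma mem_carrier_iff' (F : Facet P) (ξ : M) :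
    ξ ∈ F.carrier ↔ ∀ i, SignType.sign (P.toLinearMap ξ (P.coroot i)) = F.sgn i := by
  constructor
  · intro h i
    exact congrFun h i
  · intro h
    exact funext h

lemma mem_cham_iff (F : Facet P) (b : P.Base) :
    b ∈ F.cham ↔ ∀ j ∈ b.support, F.sgn j ≠ -1 := by
  constructor
  · intro hb j hj
    obtain ⟨ξ, hξ⟩ := carrier_nonempty F
    have h1 : 0 ≤ P.toLinearMap ξ (P.coroot j) := hb hξ j hj
    have h2 := (mem_carrier_iff' F ξ).mp hξ j
    rw [← h2]
    intro h3
    rw [sign_eq_neg_one_iff] at h3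
    exact absurd h1 (not_le.mpr h3)
  · intro h ξ hξ j hj
    change 0 ≤ P.toLinearMap ξ (P.coroot j)
    by_contra hlt
    apply h j hj
    rw [← (mem_carrier_iff' F ξ).mp hξ j, sign_eq_neg_one_iff]
    exact not_le.mp hlt

variable [P.IsRootSystem] [Finite ι] [P.IsCrystallographic] [P.IsReduced]

lemma pair_simple_nonneg {b : P.Base} {ξ : M} (hξ : ξ ∈ closedChamber b) (j : b.support) :
    0 ≤ P.toLinearMap ξ (P.coroot j) := hξ j j.2

/-- In a closed chamber, a pairing with a coroot vanishes iff each term of its expansion does. -/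
lemma pair_eq_zero_iff {b : P.Base} {ξ : M} (hξ : ξ ∈ closedChamber b) (i : ι) :
    P.toLinearMap ξ (P.coroot i) = 0 ↔
      ∀ j : b.support, P.toLinearMap (fundWeight b j) (P.coroot i) = 0 ∨
        P.toLinearMap ξ (P.coroot j) = 0 := by
  rw [pair_eq_sum b ξ (P.coroot i)]
  by_cases hi : b.IsPos i
  · rw [Finset.sum_eq_zero_iff_of_nonneg
      (fun j _ => mul_nonneg ((isPos_iff_cocoef b i).mp hi j) (pair_simple_nonneg hξ j))]
    simp only [Finset.mem_univ, mul_eq_zero, forall_const]
  · rw [← neg_eq_zero, ← Finset.sum_neg_distrib, Finset.sum_eq_zero_iff_of_nonneg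
      (fun j _ => neg_nonneg.mpr
        (mul_nonpos_of_nonpos_of_nonneg ((not_isPos_iff_cocoef b i).mp hi j)
          (pair_simple_nonneg hξ j)))]
    simp only [Finset.mem_univ, neg_eq_zero, mul_eq_zero, forall_const]

lemma pair_pos_of_isPos {b : P.Base} {ξ : M} (hξ : ξ ∈ closedChamber b) {i : ι}
    (hi : b.IsPos i) (h0 : P.toLinearMap ξ (P.coroot i) ≠ 0) :
    0 < P.toLinearMap ξ (P.coroot i) :=
  lt_of_le_of_ne (pair_nonneg_of_isPos hξ hi) (Ne.symm h0)

lemma pair_neg_of_not_isPos {b : P.Base} {ξ : M} (hξ : ξ ∈ closedChamber b) {i : ι}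
    (hi : ¬ b.IsPos i) (h0 : P.toLinearMap ξ (P.coroot i) ≠ 0) :
    P.toLinearMap ξ (P.coroot i) < 0 :=
  lt_of_le_of_ne (pair_nonpos_of_not_isPos hξ hi) h0

/-- Two vectors of a closed chamber vanishing on the same simple coroots have the same signs. -/
lemma sgnVec_eq_of_zero_iff {b : P.Base} {ξ η : M} (hξ : ξ ∈ closedChamber b)
    (hη : η ∈ closedChamber b)
    (h : ∀ j : b.support, P.toLinearMap ξ (P.coroot j) = 0 ↔ P.toLinearMap η (P.coroot j) = 0) :
    sgnVec P ξ = sgnVec P η := by
  funext i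
  rw [sgnVec_apply, sgnVec_apply]
  have hz : P.toLinearMap ξ (P.coroot i) = 0 ↔ P.toLinearMap η (P.coroot i) = 0 := by
    rw [pair_eq_zero_iff hξ, pair_eq_zero_iff hη]
    exact forall_congr' fun j => or_congr Iff.rfl (h j)
  by_cases h0 : P.toLinearMap ξ (P.coroot i) = 0
  · rw [h0, hz.mp h0]
  · have h0' : P.toLinearMap η (P.coroot i) ≠ 0 := fun h' => h0 (hz.mpr h')
    by_cases hi : b.IsPos i
    · rw [sign_pos (pair_pos_of_isPos hξ hi h0), sign_pos (pair_pos_of_isPos hη hi h0')]
    · rw [sign_neg (pair_neg_of_not_isPos hξ hi h0), sign_neg (pair_neg_of_not_isPos hη hi h0')]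

section Facet

variable {F : Facet P} {b : P.Base}

lemma sgn_simple (hb : b ∈ F.cham) (j : b.support) : F.sgn j = 0 ∨ F.sgn j = 1 := by
  have := (mem_cham_iff F b).mp hb j j.2
  rcases SignType.trichotomy (F.sgn j) with h | h | h
  · exact absurd h this
  · exact Or.inl h
  · exact Or.inr h

lemma sgn_eq_zero_iff (hb : b ∈ F.cham) (i : ι) :
    F.sgn i = 0 ↔ ∀ j : b.support, P.toLinearMap (fundWeight b j) (P.coroot i) = 0 ∨
      F.sgn j = 0 := by
  obtain ⟨ξ, hξ⟩ := carrier_nonempty F
  have hs := (mem_carrier_iff' F ξ).mp hξ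
  rw [← hs i, sign_eq_zero_iff, pair_eq_zero_iff (hb hξ)]
  refine forall_congr' fun j => or_congr Iff.rfl ?_
  rw [← hs j, sign_eq_zero_iff]

lemma sgn_ne_neg_one_of_isPos (hb : b ∈ F.cham) {i : ι} (hi : b.IsPos i) : F.sgn i ≠ -1 := by
  obtain ⟨ξ, hξ⟩ := carrier_nonempty F
  rw [← (mem_carrier_iff' F ξ).mp hξ i]
  intro h
  rw [sign_eq_neg_one_iff] at h
  exact absurd (pair_nonneg_of_isPos (hb hξ) hi) (not_le.mpr h)

lemma sgn_ne_one_of_not_isPos (hb : b ∈ F.cham) {i : ι} (hi : ¬ b.IsPos i) : F.sgn i ≠ 1 := by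
  obtain ⟨ξ, hξ⟩ := carrier_nonempty F
  rw [← (mem_carrier_iff' F ξ).mp hξ i]
  intro h
  rw [sign_eq_one_iff] at h
  exact absurd (pair_nonpos_of_not_isPos (hb hξ) hi) (not_le.mpr h)

/-- Membership in a facet, tested on the simple coroots of an adjacent chamber. -/
lemma mem_carrier_iff (hb : b ∈ F.cham) (ξ : M) :
    ξ ∈ F.carrier ↔ ∀ j : b.support, SignType.sign (P.toLinearMap ξ (P.coroot j)) = F.sgn j := by
  constructor
  · intro h j
    exact (mem_carrier_iff' F ξ).mp h j
  · intro h
    obtain ⟨η, hη⟩ := carrier_nonempty F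
    have hηs := (mem_carrier_iff' F η).mp hη
    have hξc : ξ ∈ closedChamber b := by
      intro j hj
      change 0 ≤ P.toLinearMap ξ (P.coroot j)
      by_contra hlt
      have h1 := h ⟨j, hj⟩
      rw [sign_neg (not_le.mp hlt)] at h1
      exact (mem_cham_iff F b).mp hb j hj h1.symm
    change sgnVec P ξ = F.sgn
    rw [← hη]
    apply sgnVec_eq_of_zero_iff hξc (hb hη)
    intro j
    rw [← sign_eq_zero_iff, ← sign_eq_zero_iff (a := P.toLinearMap η (P.coroot j)), h j, hηs j]

/-- Membership in the closure of a facet, tested on the simple coroots of an adjacent chamber. -/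
lemma mem_closure_iff (hb : b ∈ F.cham) (ξ : M) :
    ξ ∈ F.closure ↔ ∀ j : b.support, 0 ≤ P.toLinearMap ξ (P.coroot j) ∧
      (F.sgn j = 0 → P.toLinearMap ξ (P.coroot j) = 0) := by
  constructor
  · intro h j
    have hj := h j
    rw [sgnVec_apply] at hj
    constructor
    · rcases hj with hj | hj
      · exact (sign_eq_zero_iff.mp hj).ge
      · rcases sgn_simple hb j with h0 | h1
        · rw [h0] at hj; exact (sign_eq_zero_iff.mp hj).ge
        · rw [h1] at hj; exact (sign_eq_one_iff.mp hj).le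
    · intro h0
      rcases hj with hj | hj
      · exact sign_eq_zero_iff.mp hj
      · rw [h0] at hj; exact sign_eq_zero_iff.mp hj
  · intro h i
    have hξc : ξ ∈ closedChamber b := fun j hj => (h ⟨j, hj⟩).1
    rw [sgnVec_apply]
    by_cases h0 : P.toLinearMap ξ (P.coroot i) = 0
    · left; rw [h0, sign_zero]
    · right
      have hF : F.sgn i ≠ 0 := by
        intro hF0
        apply h0
        rw [pair_eq_zero_iff hξc]
        intro j
        rcases (sgn_eq_zero_iff hb i).mp hF0 j with hj | hj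
        · exact Or.inl hj
        · exact Or.inr ((h j).2 hj)
      by_cases hi : b.IsPos i
      · rw [sign_pos (pair_pos_of_isPos hξc hi h0)]
        rcases SignType.trichotomy (F.sgn i) with h' | h' | h'
        · exact absurd h' (sgn_ne_neg_one_of_isPos hb hi)
        · exact absurd h' hF
        · exact h'.symm
      · rw [sign_neg (pair_neg_of_not_isPos hξc hi h0)]
        rcases SignType.trichotomy (F.sgn i) with h' | h' | h'
        · exact h'.symm
        · exact absurd h' hF
        · exact absurd h' (sgn_ne_one_of_not_isPos hb hi)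

lemma closure_subset_closedChamber (hb : b ∈ F.cham) : F.closure ⊆ closedChamber b :=
  fun ξ hξ j hj => ((mem_closure_iff hb ξ).mp hξ ⟨j, hj⟩).1

end Facet

end Groth.Agent.Lib.Seat65.RootChE
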