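import Groth.Agent.Lib.Seat65RootChE

/-!
# Seat 65, RootCh library, part F

Adjacent chambers exist; the corners of a facet in terms of an adjacent chamber; facets of
non-negative combinations of fundamental weights.
-/

set_option autoImplicit false
set_option linter.unusedSectionVars false
set_option linter.unusedVariables false
universe u v w x
open RootCh Module

namespace Groth.Agent.Lib.Seat65.RootChF

open Groth.Agent.Lib.Seat65.RootChA Groth.Agent.Lib.Seat65.RootChB Groth.Agent.Lib.Seat65.RootChC
  Groth.Agent.Lib.Seat65.RootChD Groth.Agent.Lib.Seat65.RootChE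

variable {ι : Type u} {R : Type v} {M : Type w} {N : Type x}
  [Field R] [LinearOrder R] [IsStrictOrderedRing R]
  [AddCommGroup M] [Module R M] [AddCommGroup N] [Module R N]
  {P : RootPairing ι R M N} [P.IsRootSystem] [Finite ι] [P.IsCrystallographic] [P.IsReduced]

lemma ofVec_sgn (ξ : M) : (Facet.ofVec P ξ).sgn = sgnVec P ξ := rfl

lemma mem_ofVec_carrier (ξ : M) : ξ ∈ (Facet.ofVec P ξ).carrier := rfl

lemma mem_cham_ofVec {b : P.Base} {ξ : M} (hξ : ξ ∈ closedChamber b) :
    b ∈ (Facet.ofVec P ξ).cham := by
  rw [mem_cham_iff]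
  intro j hj h
  rw [ofVec_sgn, sgnVec_apply, sign_eq_neg_one_iff] at h
  exact absurd (hξ j hj) (not_le.mpr h)

/-- Every facet has an adjacent chamber. -/
lemma exists_mem_cham (F : Facet P) : ∃ b : P.Base, b ∈ F.cham := by
  obtain ⟨ξ, hξ⟩ := carrier_nonempty F
  obtain ⟨b, hb⟩ := exists_base_closedChamber (P := P) ξ
  refine ⟨b, ?_⟩
  rw [mem_cham_iff]
  intro j hj h
  rw [← (mem_carrier_iff' F ξ).mp hξ j, sign_eq_neg_one_iff] at h
  exact absurd (hb j hj) (not_le.mpr h)

lemma sum_mem_closedChamber (b : P.Base) (c : b.support → R) (hc : ∀ j, 0 ≤ c j) :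
    ∑ j : b.support, c j • fundWeight b j ∈ closedChamber b := by
  intro j hj
  change 0 ≤ P.toLinearMap (∑ j : b.support, c j • fundWeight b j) (P.coroot j)
  rw [pair_sum_fundWeight_coroot b c ⟨j, hj⟩]
  exact hc _

lemma ofVec_sum_sgn_simple (b : P.Base) (c : b.support → R) (j : b.support) :
    (Facet.ofVec P (∑ j : b.support, c j • fundWeight b j)).sgn j = SignType.sign (c j) := by
  rw [ofVec_sgn, sgnVec_apply, pair_sum_fundWeight_coroot]

section Facet

variable {F : Facet P} {b : P.Base}

/-- The corners of a facet are the fundamental weights of an adjacent chamber on which the facet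
is positive. -/
theorem corners_eq (hb : b ∈ F.cham) :
    F.corners = {m | ∃ j : b.support, F.sgn j = 1 ∧ fundWeight b j = m} := by
  ext m
  constructor
  · rintro ⟨⟨b', i', rfl⟩, hm⟩
    obtain ⟨j, hj⟩ := exists_fundWeight_eq_of_mem_closedChamber b b' i'
      (closure_subset_closedChamber hb hm)
    refine ⟨j, ?_, hj⟩
    rcases sgn_simple hb j with h0 | h1
    · exfalso
      have := ((mem_closure_iff hb _).mp hm j).2 h0
      rw [← hj, pair_fundWeight_coroot_self] at this
      exact one_ne_zero this
    · exact h1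
  · rintro ⟨j, hj, rfl⟩
    refine ⟨⟨b, j, rfl⟩, ?_⟩
    rw [mem_closure_iff hb]
    intro k
    constructor
    · exact pair_simple_nonneg (fundWeight_mem_closedChamber_self b j) k
    · intro hk
      have hne : k ≠ j := by
        rintro rfl
        rw [hj] at hk
        exact absurd hk (by decide)
      exact pair_fundWeight_coroot_ne b hne

lemma fundWeight_mem_corners_iff (hb : b ∈ F.cham) (j : b.support) :
    fundWeight b j ∈ F.corners ↔ F.sgn j = 1 := by
  rw [corners_eq hb]
  constructor
  · rintro ⟨k, hk, hkj⟩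
    rwa [← fundWeight_injective b hkj]
  · intro h
    exact ⟨j, h, rfl⟩

lemma corners_subset_baseCorners (hb : b ∈ F.cham) : F.corners ⊆ baseCorners b := by
  rw [corners_eq hb, baseCorners_eq_range]
  rintro m ⟨j, _, rfl⟩
  exact ⟨j, rfl⟩

end Facet

/-- The corners of the facet of a non-negative combination of fundamental weights. -/
theorem corners_ofVec_sum (b : P.Base) (c : b.support → R) (hc : ∀ j, 0 ≤ c j) :
    (Facet.ofVec P (∑ j : b.support, c j • fundWeight b j)).corners =
      {m | ∃ j : b.support, 0 < c j ∧ fundWeight b j = m} := by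
  rw [corners_eq (mem_cham_ofVec (sum_mem_closedChamber b c hc))]
  ext m
  simp only [Set.mem_ofPred_eq, ofVec_sum_sgn_simple, sign_eq_one_iff]

end Groth.Agent.Lib.Seat65.RootChF
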