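import Groth.Agent.Lib.Seat65RootChF

/-!
# Seat 65, RootCh library, part G

Corners of facets: linear independence, spans, positive combinations, adding and removing a
corner (statements S14228, S14229, S14230, S14232, S14233).
-/

set_option autoImplicit false
set_option linter.unusedSectionVars false
set_option linter.unusedVariables false
universe u v w x
open RootCh Module

namespace Groth.Agent.Lib.Seat65.RootChG

open Groth.Agent.Lib.Seat65.RootChA Groth.Agent.Lib.Seat65.RootChB Groth.Agent.Lib.Seat65.RootChC
  Groth.Agent.Lib.Seat65.RootChD Groth.Agent.Lib.Seat65.RootChE Groth.Agent.Lib.Seat65.RootChF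

variable {ι : Type u} {R : Type v} {M : Type w} {N : Type x}
  [Field R] [LinearOrder R] [IsStrictOrderedRing R]
  [AddCommGroup M] [Module R M] [AddCommGroup N] [Module R N]
  {P : RootPairing ι R M N} [P.IsRootSystem] [Finite ι] [P.IsCrystallographic] [P.IsReduced]

lemma corners_eq_image {F : Facet P} {b : P.Base} (hb : b ∈ F.cham) :
    F.corners = fundWeight b '' {j : b.support | F.sgn j = 1} := by
  rw [corners_eq hb]
  ext m
  simp only [Set.mem_ofPred_eq, Set.mem_image]

/-- S14228. -/
theorem linearIndepOn_corners (F : Facet P) : LinearIndepOn R (fun m : M => m) F.corners := by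
  obtain ⟨b, hb⟩ := exists_mem_cham F
  rw [corners_eq_image hb]
  exact ((fundWeight_linearIndependent b).linearIndepOn {j : b.support | F.sgn j = 1}).id_image

/-- The vectors of a facet are the combinations of the fundamental weights of an adjacent chamber
with coefficients of the signs prescribed by the facet. -/
lemma mem_carrier_iff_sum {F : Facet P} {b : P.Base} (hb : b ∈ F.cham) (ξ : M) :
    ξ ∈ F.carrier ↔ ∃ c : b.support → R, (∀ j, SignType.sign (c j) = F.sgn j) ∧
      ξ = ∑ j : b.support, c j • fundWeight b j := by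
  constructor
  · intro h
    exact ⟨fun j => P.toLinearMap ξ (P.coroot j), (mem_carrier_iff hb ξ).mp h,
      expand_fundWeight b ξ⟩
  · rintro ⟨c, hc, rfl⟩
    rw [mem_carrier_iff hb]
    intro j
    rw [pair_sum_fundWeight_coroot]
    exact hc j

/-- S14229. -/
theorem span_carrier_eq_span_corners (F : Facet P) :
    Submodule.span R F.carrier = Submodule.span R F.corners := by
  classical
  obtain ⟨b, hb⟩ := exists_mem_cham F
  apply le_antisymm
  · rw [Submodule.span_le]
    intro ξ hξ
    obtain ⟨c, hc, rfl⟩ := (mem_carrier_iff_sum hb ξ).mp hξ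
    refine Submodule.sum_mem _ fun j _ => ?_
    by_cases hj : F.sgn j = 1
    · exact Submodule.smul_mem _ _ (Submodule.subset_span ((fundWeight_mem_corners_iff hb j).mpr hj))
    · have : c j = 0 := by
        rcases sgn_simple hb j with h0 | h1
        · rw [← hc j] at h0; exact sign_eq_zero_iff.mp h0
        · exact absurd h1 hj
      rw [this, zero_smul]
      exact Submodule.zero_mem _
  · rw [Submodule.span_le]
    intro m hm
    rw [corners_eq hb] at hm
    obtain ⟨j₀, hj₀, rfl⟩ := hm
    -- two points of the facet differing by the corner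
    let c₁ : b.support → R := fun j => if F.sgn j = 1 then 1 else 0
    let c₂ : b.support → R := fun j => if j = j₀ then 2 else if F.sgn j = 1 then 1 else 0
    have h1 : ∑ j : b.support, c₁ j • fundWeight b j ∈ F.carrier := by
      rw [mem_carrier_iff_sum hb]
      refine ⟨c₁, fun j => ?_, rfl⟩
      simp only [c₁]
      rcases sgn_simple hb j with h0 | h1
      · rw [if_neg (by rw [h0]; decide), h0, sign_zero]
      · rw [if_pos h1, h1, sign_one]
    have h2 : ∑ j : b.support, c₂ j • fundWeight b j ∈ F.carrier := by
      rw [mem_carrier_iff_sum hb]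
      refine ⟨c₂, fun j => ?_, rfl⟩
      simp only [c₂]
      by_cases hjj : j = j₀
      · rw [if_pos hjj, hjj, hj₀]
        exact sign_pos two_pos
      · rw [if_neg hjj]
        rcases sgn_simple hb j with h0 | h1
        · rw [if_neg (by rw [h0]; decide), h0, sign_zero]
        · rw [if_pos h1, h1, sign_one]
    have hdiff : fundWeight b j₀ =
        ∑ j : b.support, c₂ j • fundWeight b j - ∑ j : b.support, c₁ j • fundWeight b j := by
      rw [← Finset.sum_sub_distrib]
      rw [Finset.sum_eq_single j₀]
      · simp only [c₁, c₂, if_pos rfl, if_pos hj₀, ← sub_smul]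
        norm_num
      · intro j _ hj
        simp only [c₁, c₂, if_neg hj, sub_self]
      · intro h; exact absurd (Finset.mem_univ j₀) h
    rw [hdiff]
    exact Submodule.sub_mem _ (Submodule.subset_span h2) (Submodule.subset_span h1)


/-- S14230. -/
theorem carrier_eq_setOf_pos_comb_corners (F : Facet P) :
    F.carrier = {ξ : M | ∃ c : M →₀ R, (c.support : Set M) ⊆ F.corners ∧
      (∀ m ∈ F.corners, 0 < c m) ∧ c.sum (fun m r => r • m) = ξ} := by
  classical
  obtain ⟨b, hb⟩ := exists_mem_cham F
  ext ξ
  constructor
  · intro hξ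
    obtain ⟨c', hc', rfl⟩ := (mem_carrier_iff_sum hb ξ).mp hξ
    let c₀ : b.support →₀ R := Finsupp.equivFunOnFinite.symm c'
    have hc₀ : ∀ j, c₀ j = c' j := fun j => rfl
    refine ⟨Finsupp.mapDomain (fundWeight b) c₀, ?_, ?_, ?_⟩
    · intro m hm
      have := Finsupp.mapDomain_support hm
      rw [Finset.mem_image] at this
      obtain ⟨j, hj, rfl⟩ := this
      rw [fundWeight_mem_corners_iff hb]
      rw [Finsupp.mem_support_iff, hc₀] at hj
      rcases sgn_simple hb j with h0 | h1
      · rw [← hc' j, sign_eq_zero_iff] at h0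
        exact absurd h0 hj
      · exact h1
    · intro m hm
      rw [corners_eq hb] at hm
      obtain ⟨j, hj, rfl⟩ := hm
      rw [Finsupp.mapDomain_apply (fundWeight_injective b), hc₀]
      rw [← hc' j, sign_eq_one_iff] at hj
      exact hj
    · rw [Finsupp.sum_mapDomain_index (h := fun (m : M) (r : R) => r • m)
        (fun _ => zero_smul _ _) (fun _ _ _ => add_smul _ _ _)]
      rw [Finsupp.sum_fintype c₀ (fun (a : b.support) (m : R) => m • fundWeight b a)
        (fun _ => zero_smul _ _)]
      rfl
  · rintro ⟨c, hsupp, hpos, rfl⟩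
    rw [mem_carrier_iff hb]
    intro k
    have hpair : P.toLinearMap (c.sum fun m r => r • m) (P.coroot k) =
        ∑ m ∈ c.support, c m * P.toLinearMap m (P.coroot k) := by
      rw [Finsupp.sum, map_sum, LinearMap.sum_apply]
      refine Finset.sum_congr rfl fun m _ => ?_
      rw [map_smul, LinearMap.smul_apply, smul_eq_mul]
    rw [hpair]
    rcases sgn_simple hb k with h0 | h1
    · rw [h0]
      rw [Finset.sum_eq_zero, sign_zero]
      intro m hm
      have hm' := hsupp hm
      rw [corners_eq hb] at hm'
      obtain ⟨j, hj, rfl⟩ := hm'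
      have hne : k ≠ j := by
        rintro rfl
        rw [hj] at h0
        exact absurd h0 (by decide)
      rw [pair_fundWeight_coroot_ne b hne, mul_zero]
    · rw [h1]
      have hk : fundWeight b k ∈ F.corners := (fundWeight_mem_corners_iff hb k).mpr h1
      have hck := hpos _ hk
      rw [Finset.sum_eq_single (fundWeight b k)]
      · rw [pair_fundWeight_coroot_self, mul_one]
        exact sign_pos hck
      · intro m hm hne
        have hm' := hsupp hm
        rw [corners_eq hb] at hm'
        obtain ⟨j, hj, rfl⟩ := hm'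
        have hne' : k ≠ j := by
          rintro rfl
          exact hne rfl
        rw [pair_fundWeight_coroot_ne b hne', mul_zero]
      · intro hnot
        rw [Finsupp.mem_support_iff, not_not] at hnot
        rw [hnot] at hck
        exact absurd hck (lt_irrefl _)


/-- S14232. -/
theorem exists_corners_eq_insert (F : Facet P) (m : M) (hm : m ∈ F.corners') :
    ∃ G : Facet P, G.corners = insert m F.corners := by
  classical
  simp only [Facet.corners', Set.mem_iUnion] at hm
  obtain ⟨b, hb, hmb⟩ := hm
  rw [baseCorners_eq_range] at hmb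
  obtain ⟨k, rfl⟩ := hmb
  let c : b.support → R := fun j => if F.sgn j = 1 ∨ j = k then 1 else 0
  have hc : ∀ j, 0 ≤ c j := fun j => by
    simp only [c]; split_ifs <;> norm_num
  refine ⟨Facet.ofVec P (∑ j : b.support, c j • fundWeight b j), ?_⟩
  rw [corners_ofVec_sum b c hc, corners_eq hb]
  ext m
  simp only [Set.mem_ofPred_eq, Set.mem_insert_iff, c]
  constructor
  · rintro ⟨j, hj, rfl⟩
    split_ifs at hj with h
    · rcases h with h | h
      · exact Or.inr ⟨j, h, rfl⟩
      · exact Or.inl (by rw [h])
    · exact absurd hj (lt_irrefl _)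
  · rintro (rfl | ⟨j, hj, rfl⟩)
    · exact ⟨k, by rw [if_pos (Or.inr rfl)]; exact one_pos, rfl⟩
    · exact ⟨j, by rw [if_pos (Or.inl hj)]; exact one_pos, rfl⟩

/-- S14233. -/
theorem exists_corners_eq_diff_singleton (F : Facet P) (m : M) (hm : m ∈ F.corners) :
    ∃ G : Facet P, G.corners = F.corners \ {m} := by
  classical
  obtain ⟨b, hb⟩ := exists_mem_cham F
  let c : b.support → R := fun j => if F.sgn j = 1 ∧ fundWeight b j ≠ m then 1 else 0
  have hc : ∀ j, 0 ≤ c j := fun j => by
    simp only [c]; split_ifs <;> norm_num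
  refine ⟨Facet.ofVec P (∑ j : b.support, c j • fundWeight b j), ?_⟩
  rw [corners_ofVec_sum b c hc, corners_eq hb]
  ext m'
  simp only [Set.mem_ofPred_eq, Set.mem_sdiff, Set.mem_singleton_iff, c]
  constructor
  · rintro ⟨j, hj, rfl⟩
    split_ifs at hj with h
    · exact ⟨⟨j, h.1, rfl⟩, h.2⟩
    · exact absurd hj (lt_irrefl _)
  · rintro ⟨⟨j, hj, rfl⟩, hne⟩
    exact ⟨j, by rw [if_pos ⟨hj, hne⟩]; exact one_pos, rfl⟩

end Groth.Agent.Lib.Seat65.RootChG
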