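import Groth.Agent.Lib.Seat65RootChG

/-!
# Seat 65, RootCh library, part H

The dual side: the correspondence between fundamental weights and coweights is well defined, the
dual facet as a facet of the flipped root system, dual corners (S14231) and the description of
the corners through the parabolic set (S14234).
-/

set_option autoImplicit false
set_option linter.unusedSectionVars false
set_option linter.unusedVariables false
universe u v w x
open RootCh Module

namespace Groth.Agent.Lib.Seat65.RootChH

open Groth.Agent.Lib.Seat65.RootChA Groth.Agent.Lib.Seat65.RootChB Groth.Agent.Lib.Seat65.RootChC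
  Groth.Agent.Lib.Seat65.RootChD Groth.Agent.Lib.Seat65.RootChE Groth.Agent.Lib.Seat65.RootChF
  Groth.Agent.Lib.Seat65.RootChG

variable {ι : Type u} {R : Type v} {M : Type w} {N : Type x}
  [Field R] [LinearOrder R] [IsStrictOrderedRing R]
  [AddCommGroup M] [Module R M] [AddCommGroup N] [Module R N]
  {P : RootPairing ι R M N} [P.IsRootSystem] [Finite ι] [P.IsCrystallographic] [P.IsReduced]

lemma fundCoweight_flip (b : P.Base) (j : b.support) :
    fundCoweight (P := P.flip) b.flip j = fundWeight b j := rfl

lemma fundWeight_flip (b : P.Base) (j : b.support) :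
    fundWeight (P := P.flip) b.flip j = fundCoweight b j := rfl

/-- Positivity for the flipped base is positivity for the base. -/
lemma isPos_flip_iff (b : P.Base) (i : ι) : b.flip.IsPos i ↔ b.IsPos i := by
  rw [isPos_iff_coef (P := P.flip) b.flip i, isPos_iff_cocoef b i]
  rfl

lemma cosgnVec_apply (x : N) (i : ι) :
    cosgnVec P x i = SignType.sign (P.toLinearMap (P.root i) x) := rfl

lemma sgnVec_flip (x : N) : sgnVec P.flip x = cosgnVec P x := rfl

/-- **Well-definedness of the correspondence** between fundamental weights and coweights. -/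
theorem fundCoweight_eq_of_fundWeight_eq {b b' : P.Base} {j : b.support} {i' : b'.support}
    (h : fundWeight b j = fundWeight b' i') : fundCoweight b j = fundCoweight b' i' := by
  set y' := fundCoweight b' i' with hy'
  -- the coefficients of y' on the simple roots of b
  have hcoef : ∀ l : b.support, l ≠ j → P.toLinearMap (P.root l) y' = 0 := by
    intro l hl
    rw [hy', coef_eq_zero_iff b' (l : ι) i', ← h]
    exact pair_fundWeight_coroot_ne b hl
  have hpos : 0 < P.toLinearMap (P.root j) y' := by
    rw [hy', coef_pos_iff b' (j : ι) i', ← h, pair_fundWeight_coroot_self]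
    exact one_pos
  have hexp : y' = P.toLinearMap (P.root j) y' • fundCoweight b j := by
    conv_lhs => rw [expand_fundCoweight b y']
    rw [Finset.sum_eq_single j]
    · intro l _ hl
      rw [hcoef l hl, zero_smul]
    · intro hn; exact absurd (Finset.mem_univ j) hn
  -- y' lies in the closed chamber of the flipped base
  have hmem : fundWeight (P := P.flip) b'.flip i' ∈ closedChamber (P := P.flip) b.flip := by
    intro l hl
    change 0 ≤ P.toLinearMap (P.root l) y'
    by_cases hlj : (⟨l, hl⟩ : b.support) = j
    · rw [← hlj] at hpos; exact hpos.le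
    · exact (hcoef ⟨l, hl⟩ hlj).ge
  obtain ⟨k, hk⟩ := exists_fundWeight_eq_of_mem_closedChamber (P := P.flip) b.flip b'.flip i' hmem
  change fundCoweight b k = y' at hk
  have hkj : k = j := by
    by_contra hne
    have h1 := pair_root_fundCoweight_self b k
    rw [hk, hcoef k hne] at h1
    exact zero_ne_one h1
  rw [← hk, hkj]

theorem fundWeight_eq_of_fundCoweight_eq {b b' : P.Base} {j : b.support} {i' : b'.support}
    (h : fundCoweight b j = fundCoweight b' i') : fundWeight b j = fundWeight b' i' :=
  fundCoweight_eq_of_fundWeight_eq (P := P.flip) (b := b.flip) (b' := b'.flip) h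

/-- The fundamental coweights corresponding to a fundamental weight of a base. -/
lemma corr_fundWeight_iff (b : P.Base) (j : b.support) (y : N) :
    Corr P (fundWeight b j) y ↔ y = fundCoweight b j := by
  constructor
  · rintro ⟨b', i', h1, h2⟩
    rw [← h2]
    exact fundCoweight_eq_of_fundWeight_eq h1
  · rintro rfl
    exact ⟨b, j, rfl, rfl⟩

end Groth.Agent.Lib.Seat65.RootChH

namespace Groth.Agent.Lib.Seat65.RootChH

open Groth.Agent.Lib.Seat65.RootChA Groth.Agent.Lib.Seat65.RootChB Groth.Agent.Lib.Seat65.RootChC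
  Groth.Agent.Lib.Seat65.RootChD Groth.Agent.Lib.Seat65.RootChE Groth.Agent.Lib.Seat65.RootChF
  Groth.Agent.Lib.Seat65.RootChG

variable {ι : Type u} {R : Type v} {M : Type w} {N : Type x}
  [Field R] [LinearOrder R] [IsStrictOrderedRing R]
  [AddCommGroup M] [Module R M] [AddCommGroup N] [Module R N]
  {P : RootPairing ι R M N} [P.IsRootSystem] [Finite ι] [P.IsCrystallographic] [P.IsReduced]

/-- The sign of a facet at a root, from an adjacent chamber. -/
lemma sgn_eq_one_iff {F : Facet P} {b : P.Base} (hb : b ∈ F.cham) (i : ι) :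
    F.sgn i = 1 ↔ b.IsPos i ∧ F.sgn i ≠ 0 := by
  constructor
  · intro h
    refine ⟨?_, by rw [h]; decide⟩
    by_contra hi
    exact sgn_ne_one_of_not_isPos hb hi h
  · rintro ⟨hi, h0⟩
    rcases SignType.trichotomy (F.sgn i) with h | h | h
    · exact absurd h (sgn_ne_neg_one_of_isPos hb hi)
    · exact absurd h h0
    · exact h

lemma sgn_eq_neg_one_iff {F : Facet P} {b : P.Base} (hb : b ∈ F.cham) (i : ι) :
    F.sgn i = -1 ↔ ¬ b.IsPos i ∧ F.sgn i ≠ 0 := by
  constructor
  · intro h
    refine ⟨fun hi => sgn_ne_neg_one_of_isPos hb hi h, by rw [h]; decide⟩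
  · rintro ⟨hi, h0⟩
    rcases SignType.trichotomy (F.sgn i) with h | h | h
    · exact h
    · exact absurd h h0
    · exact absurd h (sgn_ne_one_of_not_isPos hb hi)

/-- A facet of the root system and a facet of the dual root system adjacent to the same base and
with the same signs on its simple roots have the same sign vector. -/
lemma sgn_eq_of_simple_flip {F : Facet P} {G : Facet P.flip} {b : P.Base} (hF : b ∈ F.cham)
    (hG : b.flip ∈ G.cham) (h : ∀ j : b.support, F.sgn j = G.sgn j) : F.sgn = G.sgn := by
  funext i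
  have hz : F.sgn i = 0 ↔ G.sgn i = 0 := by
    rw [sgn_eq_zero_iff hF, sgn_eq_zero_iff (P := P.flip) hG]
    refine forall_congr' fun j => or_congr ?_ (by rw [h j])
    exact (coef_eq_zero_iff b i j).symm
  rcases SignType.trichotomy (F.sgn i) with hi | hi | hi
  · rw [hi]
    have h1 := (sgn_eq_neg_one_iff hF i).mp hi
    symm
    rw [sgn_eq_neg_one_iff (P := P.flip) hG, isPos_flip_iff]
    exact ⟨h1.1, fun h0 => h1.2 (hz.mpr h0)⟩
  · rw [hi, hz.mp hi]
  · rw [hi]
    have h1 := (sgn_eq_one_iff hF i).mp hi
    symm
    rw [sgn_eq_one_iff (P := P.flip) hG, isPos_flip_iff]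
    exact ⟨h1.1, fun h0 => h1.2 (hz.mpr h0)⟩

/-- The sign vector of a facet is realised by a vector of `N`, read against the roots. -/
lemma exists_cosgnVec_eq (F : Facet P) : ∃ x : N, cosgnVec P x = F.sgn := by
  obtain ⟨b, hb⟩ := exists_mem_cham F
  obtain ⟨ξ, hξ⟩ := carrier_nonempty F
  have hξs := (mem_carrier_iff' F ξ).mp hξ
  let c : b.support → R := fun j => P.toLinearMap ξ (P.coroot j)
  have hc : ∀ j, 0 ≤ c j := fun j => pair_simple_nonneg (hb hξ) j
  let x : N := ∑ j : b.support, c j • fundCoweight b j
  have hx : x ∈ closedChamber (P := P.flip) b.flip :=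
    sum_mem_closedChamber (P := P.flip) b.flip c hc
  refine ⟨x, ?_⟩
  have hG : b.flip ∈ (Facet.ofVec P.flip x).cham := mem_cham_ofVec (P := P.flip) hx
  have := sgn_eq_of_simple_flip (F := F) (G := Facet.ofVec P.flip x) hb hG ?_
  · rw [this]; rfl
  · intro j
    have h1 : (Facet.ofVec P.flip x).sgn j = SignType.sign (c j) :=
      ofVec_sum_sgn_simple (P := P.flip) b.flip c j
    rw [h1, ← hξs j]

/-- The dual facet, as a facet of the flipped root system. -/
def dualFacet (F : Facet P) : Facet P.flip := ⟨F.sgn, exists_cosgnVec_eq F⟩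

lemma dualFacet_sgn (F : Facet P) : (dualFacet F).sgn = F.sgn := rfl

lemma dualFacet_carrier (F : Facet P) : (dualFacet F).carrier = F.dualCarrier := rfl

lemma dualFacet_closure (F : Facet P) : (dualFacet F).closure = F.dualClosure := rfl

lemma dualFacet_corners (F : Facet P) : (dualFacet F).corners = F.dualCorners := rfl

lemma mem_dualFacet_cham {F : Facet P} {b : P.Base} :
    b.flip ∈ (dualFacet F).cham ↔ b ∈ F.cham := by
  rw [mem_cham_iff, mem_cham_iff]
  rfl

end Groth.Agent.Lib.Seat65.RootChH

namespace Groth.Agent.Lib.Seat65.RootChH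

open Groth.Agent.Lib.Seat65.RootChA Groth.Agent.Lib.Seat65.RootChB Groth.Agent.Lib.Seat65.RootChC
  Groth.Agent.Lib.Seat65.RootChD Groth.Agent.Lib.Seat65.RootChE Groth.Agent.Lib.Seat65.RootChF
  Groth.Agent.Lib.Seat65.RootChG

variable {ι : Type u} {R : Type v} {M : Type w} {N : Type x}
  [Field R] [LinearOrder R] [IsStrictOrderedRing R]
  [AddCommGroup M] [Module R M] [AddCommGroup N] [Module R N]
  {P : RootPairing ι R M N} [P.IsRootSystem] [Finite ι] [P.IsCrystallographic] [P.IsReduced]

/-- S14231. -/
theorem dualCorners_eq_setOf_corr_corners (F : Facet P) :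
    F.dualCorners = {y : N | ∃ m ∈ F.corners, Corr P m y} := by
  obtain ⟨b, hb⟩ := exists_mem_cham F
  rw [← dualFacet_corners, corners_eq (P := P.flip) (mem_dualFacet_cham.mpr hb), corners_eq hb]
  ext y
  constructor
  · rintro ⟨j, hj, rfl⟩
    exact ⟨fundWeight b j, ⟨j, hj, rfl⟩, (corr_fundWeight_iff b j _).mpr rfl⟩
  · rintro ⟨m, ⟨j, hj, rfl⟩, hcorr⟩
    rw [corr_fundWeight_iff] at hcorr
    exact ⟨j, hj, hcorr.symm⟩

/-- S14234. -/
theorem corners_eq_setOf_nonneg_on_parab (F : Facet P) :
    F.corners = {m : M | m ∈ fundWeights P ∧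
      ∀ y : N, Corr P m y → ∀ i ∈ F.parab, 0 ≤ P.root' i y} := by
  obtain ⟨b, hb⟩ := exists_mem_cham F
  ext m
  constructor
  · intro hm
    have hm' := hm
    rw [corners_eq hb] at hm'
    obtain ⟨j, hj, rfl⟩ := hm'
    refine ⟨hm.1, fun y hy i hi => ?_⟩
    rw [corr_fundWeight_iff] at hy
    subst hy
    change 0 ≤ P.toLinearMap (P.root i) (fundCoweight b j)
    by_cases hpos : b.IsPos i
    · exact (isPos_iff_coef b i).mp hpos j
    · have h1 : F.sgn i ≠ 1 := sgn_ne_one_of_not_isPos hb hpos
      have h0 : F.sgn i = 0 := by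
        rcases SignType.trichotomy (F.sgn i) with h | h | h
        · exact absurd h hi
        · exact h
        · exact absurd h h1
      rcases (sgn_eq_zero_iff hb i).mp h0 j with h | h
      · exact ((coef_eq_zero_iff b i j).mpr h).ge
      · rw [hj] at h; exact absurd h (by decide)
  · rintro ⟨⟨b', i', rfl⟩, h⟩
    have hy := h (fundCoweight b' i') ⟨b', i', rfl, rfl⟩
    have hmem : fundWeight (P := P.flip) b'.flip i' ∈ closedChamber (P := P.flip) b.flip := by
      intro l hl
      exact hy l ((mem_cham_iff F b).mp hb l hl)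
    have hex : ∃ k : b.support, fundCoweight b k = fundCoweight b' i' :=
      exists_fundWeight_eq_of_mem_closedChamber (P := P.flip) b.flip b'.flip i' hmem
    obtain ⟨k, hk⟩ := hex
    have hk' := fundWeight_eq_of_fundCoweight_eq hk
    rw [← hk', fundWeight_mem_corners_iff hb]
    rcases sgn_simple hb k with h0 | h1
    · exfalso
      have hneg : P.reflectionPerm k k ∈ F.parab := by
        change F.sgn (P.reflectionPerm k k) ≠ -1
        rw [facet_sgn_neg, h0]; decide
      have := hy _ hneg
      change 0 ≤ P.toLinearMap (P.root (P.reflectionPerm k k)) (fundCoweight b' i') at this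
      rw [root_neg, ← hk, map_neg, LinearMap.neg_apply, pair_root_fundCoweight_self] at this
      linarith
    · exact h1

end Groth.Agent.Lib.Seat65.RootChH
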