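import Groth.Agent.Lib.Seat65RootChH

/-!
# Seat 65, RootCh library, part I

Sums of roots over sets of indices stable under reflections; the sum of the roots of the
parabolic set of a facet lies in the facet (S14237); the sum of an elementary set of roots lies in
the span of the corners (S14242).
-/

set_option autoImplicit false
set_option linter.unusedSectionVars false
set_option linter.unusedVariables false
universe u v w x
open RootCh Module

namespace Groth.Agent.Lib.Seat65.RootChI

open Groth.Agent.Lib.Seat65.RootChA Groth.Agent.Lib.Seat65.RootChB Groth.Agent.Lib.Seat65.RootChC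
  Groth.Agent.Lib.Seat65.RootChD Groth.Agent.Lib.Seat65.RootChE Groth.Agent.Lib.Seat65.RootChF
  Groth.Agent.Lib.Seat65.RootChG Groth.Agent.Lib.Seat65.RootChH

variable {ι : Type u} {R : Type v} {M : Type w} {N : Type x}
  [Field R] [LinearOrder R] [IsStrictOrderedRing R]
  [AddCommGroup M] [Module R M] [AddCommGroup N] [Module R N]
  {P : RootPairing ι R M N} [Finite ι]

/-- Sum of the roots indexed by a set of indices. -/
noncomputable def rootSum (P : RootPairing ι R M N) (S : Set ι) : M :=
  ∑ i ∈ (Set.toFinite S).toFinset, P.root i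

lemma sum_toFinset_eq_sum_ite {A : Type*} [AddCommMonoid A] [Fintype ι] (S : Set ι)
    [DecidablePred (· ∈ S)] (f : ι → A) :
    ∑ i ∈ (Set.toFinite S).toFinset, f i = ∑ i, if i ∈ S then f i else 0 := by
  rw [← Finset.sum_filter]
  apply Finset.sum_congr _ (fun _ _ => rfl)
  ext i
  simp

/-- Sums over a set stable under a permutation. -/
lemma sum_toFinset_perm {A : Type*} [AddCommMonoid A] (S : Set ι) (e : ι ≃ ι)
    (hS : ∀ i, i ∈ S ↔ e i ∈ S) (f : ι → A) :
    ∑ i ∈ (Set.toFinite S).toFinset, f (e i) = ∑ i ∈ (Set.toFinite S).toFinset, f i := by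
  apply Finset.sum_equiv e
  · intro i
    simp only [Set.Finite.mem_toFinset]
    exact hS i
  · intro i _
    rfl

lemma pair_rootSum (S : Set ι) (n : N) :
    P.toLinearMap (rootSum P S) n = ∑ i ∈ (Set.toFinite S).toFinset, P.toLinearMap (P.root i) n := by
  rw [rootSum, map_sum, LinearMap.sum_apply]

/-- The sum of a set of roots stable under a reflection is orthogonal to the coroot. -/
lemma pair_rootSum_eq_zero {S : Set ι} {k : ι} (hS : ∀ i ∈ S, P.reflectionPerm k i ∈ S) :
    P.toLinearMap (rootSum P S) (P.coroot k) = 0 := by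
  have hS' : ∀ i, i ∈ S ↔ P.reflectionPerm k i ∈ S := by
    intro i
    refine ⟨hS i, fun h => ?_⟩
    have := hS _ h
    rwa [RootPairing.reflectionPerm_self] at this
  have hfix : P.reflection k (rootSum P S) = rootSum P S := by
    rw [rootSum, map_sum]
    have : ∀ i, P.reflection k (P.root i) = P.root (P.reflectionPerm k i) :=
      fun i => (P.root_reflectionPerm k i).symm
    simp only [this]
    exact sum_toFinset_perm S (P.reflectionPerm k) hS' (fun i => P.root i)
  rw [RootPairing.reflection_apply] at hfix
  have h2 : P.toLinearMap (rootSum P S) (P.coroot k) • P.root k = 0 := by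
    have := sub_eq_self.mp hfix
    exact this
  rcases smul_eq_zero.mp h2 with h | h
  · exact h
  · exact absurd h (P.ne_zero k)

/-- The negation permutation of the indices. -/
def negPerm (P : RootPairing ι R M N) : ι ≃ ι where
  toFun i := P.reflectionPerm i i
  invFun i := P.reflectionPerm i i
  left_inv i := (P.indexNeg).neg_neg i
  right_inv i := (P.indexNeg).neg_neg i

/-- The sum of a set of roots stable under negation vanishes. -/
lemma rootSum_eq_zero_of_neg {S : Set ι} (hS : ∀ i ∈ S, P.reflectionPerm i i ∈ S) :
    rootSum P S = 0 := by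
  have hS' : ∀ i, i ∈ S ↔ negPerm P i ∈ S := by
    intro i
    refine ⟨hS i, fun h => ?_⟩
    have := hS _ h
    have h2 : P.reflectionPerm (P.reflectionPerm i i) (P.reflectionPerm i i) = i :=
      (P.indexNeg).neg_neg i
    change P.reflectionPerm (P.reflectionPerm i i) (P.reflectionPerm i i) ∈ S at this
    rwa [h2] at this
  have h1 : rootSum P S = - rootSum P S := by
    conv_lhs => rw [rootSum, ← sum_toFinset_perm S (negPerm P) hS' (fun i => P.root i)]
    rw [rootSum, ← Finset.sum_neg_distrib]
    refine Finset.sum_congr rfl fun i _ => ?_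
    exact root_neg i
  have h2 : (2 : R) • rootSum P S = 0 := by
    rw [two_smul]
    nth_rewrite 1 [h1]
    exact neg_add_cancel _
  rcases smul_eq_zero.mp h2 with h | h
  · exact absurd h two_ne_zero
  · exact h

end Groth.Agent.Lib.Seat65.RootChI

namespace Groth.Agent.Lib.Seat65.RootChI

open Groth.Agent.Lib.Seat65.RootChA Groth.Agent.Lib.Seat65.RootChB Groth.Agent.Lib.Seat65.RootChC
  Groth.Agent.Lib.Seat65.RootChD Groth.Agent.Lib.Seat65.RootChE Groth.Agent.Lib.Seat65.RootChF
  Groth.Agent.Lib.Seat65.RootChG Groth.Agent.Lib.Seat65.RootChH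

variable {ι : Type u} {R : Type v} {M : Type w} {N : Type x}
  [Field R] [LinearOrder R] [IsStrictOrderedRing R]
  [AddCommGroup M] [Module R M] [AddCommGroup N] [Module R N]
  {P : RootPairing ι R M N} [Finite ι]

lemma rootSum_union {S T : Set ι} (h : Disjoint S T) :
    rootSum P (S ∪ T) = rootSum P S + rootSum P T := by
  classical
  rw [rootSum, rootSum, rootSum, ← Finset.sum_union]
  · apply Finset.sum_congr _ (fun _ _ => rfl)
    ext i
    simp
  · rw [Finset.disjoint_left]
    intro i hi hi'
    simp only [Set.Finite.mem_toFinset] at hi hi'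
    exact Set.disjoint_left.mp h hi hi'

lemma rootSum_singleton (j : ι) : rootSum P {j} = P.root j := by
  rw [rootSum]
  have : (Set.toFinite ({j} : Set ι)).toFinset = {j} := by
    ext i; simp
  rw [this, Finset.sum_singleton]

variable [P.IsRootSystem] [P.IsCrystallographic] [P.IsReduced]

/-- Reflecting in a root vanishing on the facet preserves the signs of the facet. -/
lemma sgn_reflectionPerm_of_sgn_eq_zero (F : Facet P) {k : ι} (hk : F.sgn k = 0) (i : ι) :
    F.sgn (P.reflectionPerm k i) = F.sgn i := by
  obtain ⟨ξ, hξ⟩ := carrier_nonempty F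
  have hs := (mem_carrier_iff' F ξ).mp hξ
  have h0 : P.toLinearMap ξ (P.coroot k) = 0 := by
    rw [← sign_eq_zero_iff, hs k, hk]
  have hfix : P.reflection k ξ = ξ := by
    rw [RootPairing.reflection_apply]
    change ξ - P.toLinearMap ξ (P.coroot k) • P.root k = ξ
    rw [h0, zero_smul, sub_zero]
  rw [← hs, ← hs, ← pair_reflection_coroot, hfix]

/-- The pairing of two distinct simple roots is non-positive. -/
lemma pair_simple_simple_nonpos (b : P.Base) {j k : b.support} (h : j ≠ k) :
    P.toLinearMap (P.root j) (P.coroot k) ≤ 0 := by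
  have h1 : P.pairingIn ℤ j k ≤ 0 :=
    b.pairingIn_le_zero_of_ne (fun hjk => h (Subtype.ext hjk)) j.2 k.2
  have h2 : P.toLinearMap (P.root j) (P.coroot k) = ((P.pairingIn ℤ j k : ℤ) : R) := by
    rw [RootPairing.root_coroot_eq_pairing, ← P.algebraMap_pairingIn ℤ]
    simp
  rw [h2]
  exact_mod_cast h1

/-- S14237. -/
theorem sum_root_parab_mem_carrier (F : Facet P) :
    (∑ i ∈ (Set.toFinite F.parab).toFinset, P.root i) ∈ F.carrier := by
  obtain ⟨b, hb⟩ := exists_mem_cham F
  change rootSum P F.parab ∈ F.carrier
  rw [mem_carrier_iff hb]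
  intro j
  rcases sgn_simple hb j with h0 | h1
  · rw [h0, pair_rootSum_eq_zero, sign_zero]
    intro i hi
    change F.sgn _ ≠ -1
    rw [sgn_reflectionPerm_of_sgn_eq_zero F h0]
    exact hi
  · rw [h1]
    apply sign_pos
    -- decompositions
    set U : Set ι := {i | F.sgn i = 1} with hU
    set L : Set ι := {i | F.sgn i = 0} with hL
    set Pos : Set ι := {i | b.IsPos i} with hPos
    set L' : Set ι := {i | b.IsPos i ∧ F.sgn i = 0} with hL'
    have e1 : F.parab = U ∪ L := by
      ext i
      simp only [Facet.parab, Set.mem_ofPred_eq, Set.mem_union, hU, hL]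
      rcases SignType.trichotomy (F.sgn i) with h | h | h <;> simp [h]
    have d1 : Disjoint U L := by
      rw [Set.disjoint_left]
      intro i hi hi'
      simp only [hU, hL, Set.mem_ofPred_eq] at hi hi'
      rw [hi] at hi'
      exact absurd hi' (by decide)
    have e2 : Pos = U ∪ L' := by
      ext i
      simp only [Set.mem_ofPred_eq, Set.mem_union, hU, hL', hPos]
      constructor
      · intro hi
        by_cases hz : F.sgn i = 0
        · exact Or.inr ⟨hi, hz⟩
        · exact Or.inl ((sgn_eq_one_iff hb i).mpr ⟨hi, hz⟩)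
      · rintro (hi | hi)
        · exact ((sgn_eq_one_iff hb i).mp hi).1
        · exact hi.1
    have d2 : Disjoint U L' := by
      rw [Set.disjoint_left]
      intro i hi hi'
      simp only [hU, hL', Set.mem_ofPred_eq] at hi hi'
      rw [hi] at hi'
      exact absurd hi'.2 (by decide)
    have e3 : Pos = {(j : ι)} ∪ (Pos \ {(j : ι)}) := by
      ext i
      simp only [Set.mem_union, Set.mem_singleton_iff, Set.mem_sdiff]
      constructor
      · intro hi
        by_cases hij : i = j
        · exact Or.inl hij
        · exact Or.inr ⟨hi, hij⟩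
      · rintro (rfl | hi)
        · exact RootPairing.Base.isPos_of_mem_support j.2
        · exact hi.1
    have d3 : Disjoint ({(j : ι)} : Set ι) (Pos \ {(j : ι)}) := by
      rw [Set.disjoint_left]
      intro i hi hi'
      exact hi'.2 hi
    have hLzero : rootSum P L = 0 := by
      apply rootSum_eq_zero_of_neg
      intro i hi
      simp only [hL, Set.mem_ofPred_eq] at hi ⊢
      rw [facet_sgn_neg, hi]; rfl
    have hPos2 : P.toLinearMap (rootSum P Pos) (P.coroot j) = 2 := by
      rw [e3, rootSum_union d3, rootSum_singleton, map_add, LinearMap.add_apply,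
        P.root_coroot_two, pair_rootSum_eq_zero, add_zero]
      intro i hi
      have := (isPos_reflectionPerm_simple b j.2 i).mpr (Or.inl ⟨hi.1, hi.2⟩)
      refine ⟨this, ?_⟩
      intro hc
      have hc' : P.reflectionPerm j i = j := hc
      have h3 := congrArg (P.reflectionPerm j) hc'
      rw [RootPairing.reflectionPerm_self] at h3
      rw [h3] at hi
      exact not_isPos_neg_simple b j.2 hi.1
    have hL'nonpos : P.toLinearMap (rootSum P L') (P.coroot j) ≤ 0 := by
      rw [pair_rootSum]
      apply Finset.sum_nonpos
      intro i hi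
      simp only [Set.Finite.mem_toFinset, hL', Set.mem_ofPred_eq] at hi
      rw [pair_eq_sum' b (P.root i) (P.coroot j)]
      apply Finset.sum_nonpos
      intro k _
      by_cases hkj : k = j
      · have hz : P.toLinearMap (P.root i) (fundCoweight b k) = 0 := by
          rw [coef_eq_zero_iff]
          rcases (sgn_eq_zero_iff hb i).mp hi.2 k with h | h
          · exact h
          · rw [hkj, h1] at h; exact absurd h (by decide)
        rw [hz, zero_mul]
      · exact mul_nonpos_of_nonneg_of_nonpos ((isPos_iff_coef b i).mp hi.1 k)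
          (pair_simple_simple_nonpos b hkj)
    have hUeq : rootSum P U = rootSum P Pos - rootSum P L' := by
      rw [e2, rootSum_union d2]; abel
    rw [e1, rootSum_union d1, hLzero, add_zero, hUeq, map_sub, LinearMap.sub_apply, hPos2]
    linarith

end Groth.Agent.Lib.Seat65.RootChI

namespace Groth.Agent.Lib.Seat65.RootChI

open Groth.Agent.Lib.Seat65.RootChA Groth.Agent.Lib.Seat65.RootChB Groth.Agent.Lib.Seat65.RootChC
  Groth.Agent.Lib.Seat65.RootChD Groth.Agent.Lib.Seat65.RootChE Groth.Agent.Lib.Seat65.RootChF
  Groth.Agent.Lib.Seat65.RootChG Groth.Agent.Lib.Seat65.RootChH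

variable {ι : Type u} {R : Type v} {M : Type w} {N : Type x}
  [Field R] [LinearOrder R] [IsStrictOrderedRing R]
  [AddCommGroup M] [Module R M] [AddCommGroup N] [Module R N]
  {P : RootPairing ι R M N} [Finite ι] [P.IsRootSystem] [P.IsCrystallographic] [P.IsReduced]

/-- A simple root of an adjacent chamber vanishing on the facet pairs to zero with the coweights
corresponding to the corners of the facet. -/
lemma pair_simple_corr_eq_zero {F : Facet P} {b : P.Base} (hb : b ∈ F.cham) {j : b.support}
    (hj : F.sgn j = 0) {w : M} (hw : w ∈ F.corners) {x : N} (hx : Corr P w x) :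
    P.toLinearMap (P.root j) x = 0 := by
  rw [corners_eq hb] at hw
  obtain ⟨k, hk, rfl⟩ := hw
  rw [corr_fundWeight_iff] at hx
  subst hx
  apply pair_root_fundCoweight_ne
  rintro rfl
  rw [hk] at hj
  exact absurd hj (by decide)

lemma pair_root_reflectionPerm (k i : ι) (x : N) :
    P.toLinearMap (P.root (P.reflectionPerm k i)) x =
      P.toLinearMap (P.root i) x - P.toLinearMap (P.root i) (P.coroot k) *
        P.toLinearMap (P.root k) x := by
  rw [RootPairing.root_reflectionPerm, RootPairing.reflection_apply, map_sub, map_smul,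
    LinearMap.sub_apply, LinearMap.smul_apply, smul_eq_mul]
  rfl

/-- The elementary sets of roots of a facet are stable under the simple reflections of an adjacent
chamber in the roots vanishing on the facet. -/
lemma psi_stable {F : Facet P} {b : P.Base} (hb : b ∈ F.cham) {j : b.support}
    (hj : F.sgn j = 0) {m : M} (hm : m ∈ F.corners) {i : ι} (hi : i ∈ F.Psi m) :
    P.reflectionPerm j i ∈ F.Psi m := by
  refine ⟨fun x hx => ?_, fun w' hw' hne x hx => ?_⟩
  · change P.toLinearMap (P.root (P.reflectionPerm j i)) x = 1
    rw [pair_root_reflectionPerm, pair_simple_corr_eq_zero hb hj hm hx, mul_zero, sub_zero]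
    exact hi.1 x hx
  · change P.toLinearMap (P.root (P.reflectionPerm j i)) x = 0
    rw [pair_root_reflectionPerm, pair_simple_corr_eq_zero hb hj hw' hx, mul_zero, sub_zero]
    exact hi.2 w' hw' hne x hx

/-- A vector orthogonal to the simple coroots vanishing on the facet lies in the span of the
corners. -/
lemma mem_span_corners_of_pair_eq_zero {F : Facet P} {b : P.Base} (hb : b ∈ F.cham) {ξ : M}
    (h : ∀ j : b.support, F.sgn j = 0 → P.toLinearMap ξ (P.coroot j) = 0) :
    ξ ∈ Submodule.span R F.corners := by
  rw [expand_fundWeight b ξ]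
  refine Submodule.sum_mem _ fun j _ => ?_
  rcases sgn_simple hb j with h0 | h1
  · rw [h j h0, zero_smul]; exact Submodule.zero_mem _
  · exact Submodule.smul_mem _ _ (Submodule.subset_span ((fundWeight_mem_corners_iff hb j).mpr h1))

/-- S14242. -/
theorem sum_root_psi_mem_span_corners (F : Facet P) (m : M) (hm : m ∈ F.corners) :
    (∑ i ∈ (Set.toFinite (F.Psi m)).toFinset, P.root i) ∈ Submodule.span R F.corners := by
  obtain ⟨b, hb⟩ := exists_mem_cham F
  change rootSum P (F.Psi m) ∈ _
  apply mem_span_corners_of_pair_eq_zero hb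
  intro j hj
  exact pair_rootSum_eq_zero fun i hi => psi_stable hb hj hm hi

end Groth.Agent.Lib.Seat65.RootChI
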