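import Groth.Agent.Lib.Seat65RootChI

/-!
# Seat 65, RootCh library, part J

Complementary convex solids: independence of the degree and of the numerical invariants of the
adjacent chamber (S14249, S14250).
-/

set_option autoImplicit false
set_option linter.unusedSectionVars false
set_option linter.unusedVariables false
universe u v w x
open RootCh Module

namespace Groth.Agent.Lib.Seat65.RootChJ

open Groth.Agent.Lib.Seat65.RootChA Groth.Agent.Lib.Seat65.RootChB Groth.Agent.Lib.Seat65.RootChC
  Groth.Agent.Lib.Seat65.RootChD Groth.Agent.Lib.Seat65.RootChE Groth.Agent.Lib.Seat65.RootChF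
  Groth.Agent.Lib.Seat65.RootChG Groth.Agent.Lib.Seat65.RootChH Groth.Agent.Lib.Seat65.RootChI

variable {ι : Type u} {R : Type v} {M : Type w} {N : Type x}
  [Field R] [LinearOrder R] [IsStrictOrderedRing R]
  [AddCommGroup M] [Module R M] [AddCommGroup N] [Module R N]
  {P : RootPairing ι R M N} [Finite ι] [P.IsRootSystem] [P.IsCrystallographic] [P.IsReduced]

/-- By (B1), vectors in the span of the corners of a facet pair equally with the values of `d` at
the chambers adjacent to the facet. -/
lemma pair_eq_of_mem_span_corners {d : P.Base → N} (hd : IsCCS d) {F : Facet P} {b b' : P.Base}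
    (hb : b ∈ F.cham) (hb' : b' ∈ F.cham) {ξ : M} (hξ : ξ ∈ Submodule.span R F.corners) :
    P.toLinearMap ξ (d b) = P.toLinearMap ξ (d b') := by
  induction hξ using Submodule.span_induction with
  | mem m hm =>
    exact hd.corner_eq b b' m (corners_subset_baseCorners hb hm) (corners_subset_baseCorners hb' hm)
  | zero => simp
  | add x y _ _ hx hy => simp [hx, hy]
  | smul t x _ hx => simp [hx]

lemma deg_eq_pair (d : P.Base → N) (F : Facet P) (b : P.Base) :
    F.deg d b = P.toLinearMap (rootSum P F.parab) (d b) := by
  rw [pair_rootSum]; rfl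

lemma numInv_eq_pair (d : P.Base → N) (F : Facet P) (m : M) (b : P.Base) :
    F.numInv d m b = P.toLinearMap (rootSum P (F.Psi m)) (d b) := by
  rw [pair_rootSum]; rfl

lemma carrier_subset_span_corners (F : Facet P) :
    F.carrier ⊆ (Submodule.span R F.corners : Set M) := by
  intro ξ hξ
  rw [← span_carrier_eq_span_corners]
  exact Submodule.subset_span hξ

/-- S14249. -/
theorem deg_eq_deg_of_mem_cham {d : P.Base → N} (hd : IsCCS d) (F : Facet P) (b b' : P.Base)
    (hb : b ∈ F.cham) (hb' : b' ∈ F.cham) : F.deg d b = F.deg d b' := by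
  rw [deg_eq_pair, deg_eq_pair]
  exact pair_eq_of_mem_span_corners hd hb hb'
    (carrier_subset_span_corners F (sum_root_parab_mem_carrier F))

/-- S14250. -/
theorem numInv_eq_numInv_of_mem_cham {d : P.Base → N} (hd : IsCCS d) (F : Facet P) (m : M)
    (hm : m ∈ F.corners) (b b' : P.Base) (hb : b ∈ F.cham) (hb' : b' ∈ F.cham) :
    F.numInv d m b = F.numInv d m b' := by
  rw [numInv_eq_pair, numInv_eq_pair]
  exact pair_eq_of_mem_span_corners hd hb hb' (sum_root_psi_mem_span_corners F m hm)

end Groth.Agent.Lib.Seat65.RootChJ
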