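import Groth.Agent.Lib.Seat65RootChJ

/-!
# Seat 65, RootCh library, part K

Parabolic sets of roots and facets: the parabolic set of a facet is parabolic, the order on facets
through parabolic sets, every parabolic set is the parabolic set of exactly one facet
(S14235, S14236).
-/

set_option autoImplicit false
set_option linter.unusedSectionVars false
set_option linter.unusedVariables false
universe u v w x
open RootCh Module

namespace Groth.Agent.Lib.Seat65.RootChK

open Groth.Agent.Lib.Seat65.RootChA Groth.Agent.Lib.Seat65.RootChB Groth.Agent.Lib.Seat65.RootChC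
  Groth.Agent.Lib.Seat65.RootChD Groth.Agent.Lib.Seat65.RootChE Groth.Agent.Lib.Seat65.RootChF
  Groth.Agent.Lib.Seat65.RootChG Groth.Agent.Lib.Seat65.RootChH Groth.Agent.Lib.Seat65.RootChI

variable {ι : Type u} {R : Type v} {M : Type w} {N : Type x}
  [Field R] [LinearOrder R] [IsStrictOrderedRing R]
  [AddCommGroup M] [Module R M] [AddCommGroup N] [Module R N]
  {P : RootPairing ι R M N} [Finite ι] [P.IsRootSystem] [P.IsCrystallographic] [P.IsReduced]

/-- The coroot of a sum of two roots is a positive combination of their coroots. -/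
lemma invForm_coroot_add {B : LinearMap.BilinForm R N} (hB : InvForm P B) {i j k : ι}
    (h : P.root k = P.root i + P.root j) :
    P.coroot k = (B (P.coroot k) (P.coroot k) / B (P.coroot i) (P.coroot i)) • P.coroot i +
      (B (P.coroot k) (P.coroot k) / B (P.coroot j) (P.coroot j)) • P.coroot j := by
  set Bi := B (P.coroot i) (P.coroot i) with hBi
  set Bj := B (P.coroot j) (P.coroot j) with hBj
  set Bk := B (P.coroot k) (P.coroot k) with hBk
  have hi : Bi ≠ 0 := (hB.coroot_pos i).ne'
  have hj : Bj ≠ 0 := (hB.coroot_pos j).ne'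
  set w := P.coroot k - ((Bk / Bi) • P.coroot i + (Bk / Bj) • P.coroot j) with hw
  have hz : ∀ z : N, B w z = 0 := by
    intro z
    have h1 := hB.two_mul_coroot i z
    have h2 := hB.two_mul_coroot j z
    have h3 := hB.two_mul_coroot k z
    have h4 : P.toLinearMap (P.root k) z = P.toLinearMap (P.root i) z + P.toLinearMap (P.root j) z := by
      rw [h, map_add, LinearMap.add_apply]
    rw [← hBi] at h1
    rw [← hBj] at h2
    rw [← hBk, h4] at h3
    have e1 : B (P.coroot i) z = P.toLinearMap (P.root i) z * Bi / 2 := by linarith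
    have e2 : B (P.coroot j) z = P.toLinearMap (P.root j) z * Bj / 2 := by linarith
    have e3 : B (P.coroot k) z =
        (P.toLinearMap (P.root i) z + P.toLinearMap (P.root j) z) * Bk / 2 := by linarith
    simp only [hw, map_sub, map_add, map_smul, LinearMap.sub_apply, LinearMap.add_apply,
      LinearMap.smul_apply, smul_eq_mul, e1, e2, e3]
    field_simp
    ring
  have hw0 : w = 0 := by
    by_contra hne
    exact absurd (hz w) (hB.pos w hne).ne'
  rw [hw, sub_eq_zero] at hw0
  exact hw0

/-- The parabolic set of a facet is a parabolic set of roots. -/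
lemma isParabolicSubset_parab (F : Facet P) : IsParabolicSubset P F.parab := by
  obtain ⟨B, hB⟩ := exists_invForm (P := P)
  obtain ⟨ξ, hξ⟩ := carrier_nonempty F
  have hs := (mem_carrier_iff' F ξ).mp hξ
  have hmem : ∀ i, i ∈ F.parab ↔ 0 ≤ P.toLinearMap ξ (P.coroot i) := by
    intro i
    change F.sgn i ≠ -1 ↔ _
    rw [← hs i, Ne, sign_eq_neg_one_iff, not_lt]
  constructor
  · intro i j k hi hj hk
    rw [hmem] at hi hj ⊢
    rw [invForm_coroot_add hB hk, map_add, map_smul, map_smul, smul_eq_mul, smul_eq_mul]
    have hBi := hB.coroot_pos i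
    have hBj := hB.coroot_pos j
    have hBk := hB.coroot_pos k
    positivity
  · intro i
    by_cases h : F.sgn i = -1
    · right
      change F.sgn _ ≠ -1
      rw [facet_sgn_neg, h]; decide
    · left; exact h

/-- The order on facets through their parabolic sets. -/
lemma le_iff_parab_subset (F G : Facet P) : F ≤ G ↔ F.parab ⊆ G.parab := by
  rw [Facet.le_def]
  constructor
  · intro h i hi
    change G.sgn i ≠ -1
    change F.sgn i ≠ -1 at hi
    rcases h i with h0 | h1
    · rw [h0]; decide
    · rw [h1]; exact hi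
  · intro h i
    rcases SignType.trichotomy (G.sgn i) with hG | hG | hG
    · right
      rw [hG]
      by_contra hne
      have : i ∈ F.parab := fun hc => hne hc.symm
      exact h this hG
    · left; exact hG
    · right
      rw [hG]
      have hG' : G.sgn (P.reflectionPerm i i) = -1 := by rw [facet_sgn_neg, hG]
      have hF' : F.sgn (P.reflectionPerm i i) = -1 := by
        by_contra hne
        exact h (show P.reflectionPerm i i ∈ F.parab from hne) hG'
      rw [facet_sgn_neg] at hF'
      have := congrArg Neg.neg hF'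
      simpa using this.symm

lemma eq_of_parab_eq {F G : Facet P} (h : F.parab = G.parab) : F = G :=
  le_antisymm ((le_iff_parab_subset F G).mpr h.subset) ((le_iff_parab_subset G F).mpr h.symm.subset)

end Groth.Agent.Lib.Seat65.RootChK

namespace Groth.Agent.Lib.Seat65.RootChK

open Groth.Agent.Lib.Seat65.RootChA Groth.Agent.Lib.Seat65.RootChB Groth.Agent.Lib.Seat65.RootChC
  Groth.Agent.Lib.Seat65.RootChD Groth.Agent.Lib.Seat65.RootChE Groth.Agent.Lib.Seat65.RootChF
  Groth.Agent.Lib.Seat65.RootChG Groth.Agent.Lib.Seat65.RootChH Groth.Agent.Lib.Seat65.RootChI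

variable {ι : Type u} {R : Type v} {M : Type w} {N : Type x}
  [Field R] [LinearOrder R] [IsStrictOrderedRing R]
  [AddCommGroup M] [Module R M] [AddCommGroup N] [Module R N]
  {P : RootPairing ι R M N} [Finite ι] [P.IsRootSystem] [P.IsCrystallographic] [P.IsReduced]

/-- A parabolic set of roots contains the positive roots of some base. -/
lemma exists_base_pos_subset {S : Set ι} (hS : IsParabolicSubset P S) :
    ∃ b : P.Base, ∀ i, b.IsPos i → i ∈ S := by
  obtain ⟨b₀⟩ := P.nonempty_base
  suffices H : ∀ n : ℕ, ∀ b : P.Base, Set.ncard {i | b.IsPos i ∧ i ∉ S} = n →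
      ∃ b' : P.Base, ∀ i, b'.IsPos i → i ∈ S from H _ b₀ rfl
  intro n
  induction n with
  | zero =>
    intro b hb
    rw [Set.ncard_eq_zero (Set.toFinite _)] at hb
    refine ⟨b, fun i hi => ?_⟩
    by_contra hni
    have : i ∈ {i | b.IsPos i ∧ i ∉ S} := ⟨hi, hni⟩
    rw [hb] at this
    exact this
  | succ n ih =>
    intro b hb
    by_cases hsimple : ∀ j ∈ b.support, j ∈ S
    · refine ⟨b, fun i hi => ?_⟩
      exact hi.induction_on_add (p := fun i => i ∈ S) hsimple
        (fun i j k hk hi hj => hS.1 i j k hi (hsimple j hj) hk)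
    · push Not at hsimple
      obtain ⟨j, hj, hjS⟩ := hsimple
      have hnegS : P.reflectionPerm j j ∈ S := (hS.2 j).resolve_left hjS
      apply ih (reflectBase b j)
      have hset : {i | (reflectBase b j).IsPos i ∧ i ∉ S} = {i | b.IsPos i ∧ i ∉ S} \ {j} := by
        ext i
        simp only [Set.mem_ofPred_eq, Set.mem_sdiff, Set.mem_singleton_iff, isPos_reflectBase,
          isPos_reflectionPerm_simple b hj]
        constructor
        · rintro ⟨(⟨hi, hij⟩ | rfl), hiS⟩
          · exact ⟨⟨hi, hiS⟩, hij⟩
          · exact absurd hnegS hiS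
        · rintro ⟨⟨hi, hiS⟩, hij⟩
          exact ⟨Or.inl ⟨hi, hij⟩, hiS⟩
      rw [hset, Set.ncard_sdiff_singleton_of_mem
        (show j ∈ {i | b.IsPos i ∧ i ∉ S} from ⟨RootPairing.Base.isPos_of_mem_support hj, hjS⟩)]
      omega

/-- For a parabolic set containing the positive roots of a base: the negative of a positive root
belongs to the set iff the negatives of the simple roots of its support do. -/
lemma neg_mem_iff_of_pos_subset {S : Set ι} (hS : IsParabolicSubset P S) {b : P.Base}
    (hb : ∀ i, b.IsPos i → i ∈ S) {i : ι} (hi : b.IsPos i) :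
    P.reflectionPerm i i ∈ S ↔ ∀ j : b.support,
      P.toLinearMap (P.root i) (fundCoweight b j) ≠ 0 → P.reflectionPerm j j ∈ S := by
  refine (hi.induction_on_add (p := fun i => b.IsPos i ∧ (P.reflectionPerm i i ∈ S ↔
    ∀ j : b.support, P.toLinearMap (P.root i) (fundCoweight b j) ≠ 0 →
      P.reflectionPerm j j ∈ S)) ?_ ?_).2
  · intro j₀ hj₀
    refine ⟨RootPairing.Base.isPos_of_mem_support hj₀, ?_, ?_⟩
    · intro h j hj
      have : j = ⟨j₀, hj₀⟩ := by
        by_contra hne
        exact hj (pair_root_fundCoweight_ne b (i := j) (j := ⟨j₀, hj₀⟩) (Ne.symm hne))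
      rw [this]; exact h
    · intro h
      have := h ⟨j₀, hj₀⟩ (by rw [pair_root_fundCoweight_self b ⟨j₀, hj₀⟩]; exact one_ne_zero)
      exact this
  · intro i j k hk ⟨hipos, hiff⟩ hj
    have hjpos : b.IsPos j := RootPairing.Base.isPos_of_mem_support hj
    have hkpos : b.IsPos k := hipos.add hjpos hk
    have hcoef : ∀ l : b.support, P.toLinearMap (P.root k) (fundCoweight b l) =
        P.toLinearMap (P.root i) (fundCoweight b l) +
          P.toLinearMap (P.root j) (fundCoweight b l) := by
      intro l
      rw [hk, map_add, LinearMap.add_apply]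
    have hnegk : P.root (P.reflectionPerm k k) =
        P.root (P.reflectionPerm i i) + P.root (P.reflectionPerm j j) := by
      rw [root_neg, root_neg, root_neg, hk]; abel
    refine ⟨hkpos, ?_, ?_⟩
    · intro hkS
      have hiS : P.reflectionPerm i i ∈ S := by
        refine hS.1 (P.reflectionPerm k k) j _ hkS (hb j hjpos) ?_
        rw [root_neg, root_neg, hk]; abel
      have hjS : P.reflectionPerm j j ∈ S := by
        refine hS.1 (P.reflectionPerm k k) i _ hkS (hb i hipos) ?_
        rw [root_neg, root_neg, hk]; abel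
      intro l hl
      by_cases hil : P.toLinearMap (P.root i) (fundCoweight b l) = 0
      · rw [hcoef, hil, zero_add] at hl
        have : l = ⟨j, hj⟩ := by
          by_contra hne
          exact hl (pair_root_fundCoweight_ne b (i := l) (j := ⟨j, hj⟩) (Ne.symm hne))
        rw [this]; exact hjS
      · exact hiff.mp hiS l hil
    · intro h
      have hiS : P.reflectionPerm i i ∈ S := by
        apply hiff.mpr
        intro l hl
        apply h l
        rw [hcoef]
        have h1 : 0 ≤ P.toLinearMap (P.root i) (fundCoweight b l) := (isPos_iff_coef b i).mp hipos l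
        have h2 : 0 ≤ P.toLinearMap (P.root j) (fundCoweight b l) := (isPos_iff_coef b j).mp hjpos l
        have h3 : 0 < P.toLinearMap (P.root i) (fundCoweight b l) := lt_of_le_of_ne h1 (Ne.symm hl)
        linarith
      have hjS : P.reflectionPerm j j ∈ S := by
        apply h ⟨j, hj⟩
        rw [hcoef, pair_root_fundCoweight_self b ⟨j, hj⟩]
        have h1 : 0 ≤ P.toLinearMap (P.root i) (fundCoweight b ⟨j, hj⟩) :=
          (isPos_iff_coef b i).mp hipos _
        linarith
      exact hS.1 _ _ _ hiS hjS hnegk

lemma reflectionPerm_neg_neg (i : ι) :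
    P.reflectionPerm (P.reflectionPerm i i) (P.reflectionPerm i i) = i := by
  apply P.root.injective
  rw [root_neg, root_neg, neg_neg]

/-- Every parabolic set of roots is the parabolic set of a facet. -/
lemma exists_facet_parab_eq {S : Set ι} (hS : IsParabolicSubset P S) :
    ∃ F : Facet P, F.parab = S := by
  classical
  obtain ⟨b, hb⟩ := exists_base_pos_subset hS
  set c : b.support → R := fun j => if P.reflectionPerm j j ∈ S then 0 else 1 with hc
  have hc0 : ∀ j, 0 ≤ c j := by
    intro j
    simp only [hc]
    split_ifs <;> norm_num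
  set ξ : M := ∑ j : b.support, c j • fundWeight b j with hξ
  have hξmem : ξ ∈ closedChamber b := sum_mem_closedChamber b c hc0
  have hcham : b ∈ (Facet.ofVec P ξ).cham := mem_cham_ofVec hξmem
  have hsimple : ∀ j : b.support, (Facet.ofVec P ξ).sgn j = 0 ↔ P.reflectionPerm j j ∈ S := by
    intro j
    rw [hξ, ofVec_sum_sgn_simple, sign_eq_zero_iff]
    simp only [hc]
    split_ifs with h
    · simp [h]
    · simp [h]
  refine ⟨Facet.ofVec P ξ, ?_⟩
  ext i
  change (Facet.ofVec P ξ).sgn i ≠ -1 ↔ i ∈ S
  by_cases hi : b.IsPos i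
  · exact ⟨fun _ => hb i hi, fun _ => sgn_ne_neg_one_of_isPos hcham hi⟩
  · set i' := P.reflectionPerm i i with hi'
    have hi'pos : b.IsPos i' := (isPos_neg_iff b i).mpr hi
    have hii' : P.reflectionPerm i' i' = i := reflectionPerm_neg_neg i
    have h1 : (Facet.ofVec P ξ).sgn i ≠ -1 ↔ (Facet.ofVec P ξ).sgn i = 0 := by
      constructor
      · intro h
        rcases SignType.trichotomy ((Facet.ofVec P ξ).sgn i) with h' | h' | h'
        · exact absurd h' h
        · exact h'
        · exact absurd h' (sgn_ne_one_of_not_isPos hcham hi)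
      · intro h; rw [h]; decide
    have h2 : (Facet.ofVec P ξ).sgn i = 0 ↔ (Facet.ofVec P ξ).sgn i' = 0 := by
      rw [hi', facet_sgn_neg]
      constructor
      · intro h; rw [h]; rfl
      · intro h
        have := congrArg Neg.neg h
        simpa using this
    rw [h1, h2, sgn_eq_zero_iff hcham, ← hii', neg_mem_iff_of_pos_subset hS hb hi'pos]
    refine forall_congr' fun j => ?_
    rw [hsimple, ← coef_eq_zero_iff]
    tauto

/-- S14236. -/
theorem isParabolicSubset_iff_existsUnique_parab_eq :
    (∀ S : Set ι, IsParabolicSubset P S ↔ ∃! F : Facet P, F.parab = S) ∧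
      ∀ F G : Facet P, F ≤ G ↔ F.parab ⊆ G.parab := by
  refine ⟨fun S => ⟨fun hS => ?_, ?_⟩, le_iff_parab_subset⟩
  · obtain ⟨F, hF⟩ := exists_facet_parab_eq hS
    exact ⟨F, hF, fun G hG => eq_of_parab_eq (hG.trans hF.symm)⟩
  · rintro ⟨F, rfl, -⟩
    exact isParabolicSubset_parab F

/-- Two facets with the same corners are equal. -/
lemma eq_of_corners_eq {F G : Facet P} (h : F.corners = G.corners) : F = G := by
  have hc : F.carrier = G.carrier := by
    rw [carrier_eq_setOf_pos_comb_corners F, carrier_eq_setOf_pos_comb_corners G, h]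
  obtain ⟨ξ, hξ⟩ := carrier_nonempty F
  have hξ' : ξ ∈ G.carrier := hc ▸ hξ
  apply Facet.ext
  exact hξ.symm.trans hξ'

/-- S14235. -/
theorem existsUnique_facet_corners_eq_of_isParabolicSubset {S : Set ι}
    (hS : IsParabolicSubset P S) :
    ∃ F : Facet P,
      (F.corners = {m : M | m ∈ fundWeights P ∧ ∀ y : N, Corr P m y → ∀ i ∈ S, 0 ≤ P.root' i y} ∧
        F.parab = S) ∧
      ∀ G : Facet P,
        G.corners = {m : M | m ∈ fundWeights P ∧ ∀ y : N, Corr P m y → ∀ i ∈ S, 0 ≤ P.root' i y} →
        G = F := by
  obtain ⟨F, hF⟩ := exists_facet_parab_eq hS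
  have hcor : F.corners =
      {m : M | m ∈ fundWeights P ∧ ∀ y : N, Corr P m y → ∀ i ∈ S, 0 ≤ P.root' i y} := by
    rw [corners_eq_setOf_nonneg_on_parab F, hF]
  exact ⟨F, ⟨hcor, hF⟩, fun G hG => eq_of_corners_eq (hG.trans hcor.symm)⟩

end Groth.Agent.Lib.Seat65.RootChK
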