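import Groth.Agent.Lib.Seat65RootChK
import Groth.Agent.Lib.Seat65Farkas

/-!
# Seat 65, RootCh library, part L

Complementary convex solids: wall crossing, the description of the dual solid of a facet by
hyperplanes and half-spaces (S14238), and the equivalent forms of semi-stability
(S14239, S14240, S14241).
-/

set_option autoImplicit false
set_option linter.unusedSectionVars false
set_option linter.unusedVariables false
universe u v w x
open RootCh Module

namespace Groth.Agent.Lib.Seat65.RootChL

open Groth.Agent.Lib.Seat65.RootChA Groth.Agent.Lib.Seat65.RootChB Groth.Agent.Lib.Seat65.RootChC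
  Groth.Agent.Lib.Seat65.RootChD Groth.Agent.Lib.Seat65.RootChE Groth.Agent.Lib.Seat65.RootChF
  Groth.Agent.Lib.Seat65.RootChG Groth.Agent.Lib.Seat65.RootChH Groth.Agent.Lib.Seat65.RootChI
  Groth.Agent.Lib.Seat65.RootChJ Groth.Agent.Lib.Seat65.RootChK

variable {ι : Type u} {R : Type v} {M : Type w} {N : Type x}
  [Field R] [LinearOrder R] [IsStrictOrderedRing R]
  [AddCommGroup M] [Module R M] [AddCommGroup N] [Module R N]
  {P : RootPairing ι R M N} [Finite ι] [P.IsRootSystem] [P.IsCrystallographic] [P.IsReduced]

/-- The fundamental weights of `b` other than the one of the simple root `j` are fundamental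
weights of the reflected base. -/
lemma fundWeight_reflectBase_of_ne (b : P.Base) {j : ι} (hj : j ∈ b.support) (k : b.support)
    (hk : k ≠ ⟨j, hj⟩) :
    fundWeight (reflectBase b j)
      ⟨P.reflectionPerm j k, reflectionPerm_mem_reflectBase_support b j k.2⟩ = fundWeight b k := by
  rw [fundWeight_reflectBase, RootPairing.reflection_apply]
  have : P.toLinearMap (fundWeight b k) (P.coroot j) = 0 :=
    pair_fundWeight_coroot_ne b (i := k) (j := ⟨j, hj⟩) (Ne.symm hk)
  change fundWeight b k - P.toLinearMap (fundWeight b k) (P.coroot j) • P.root j = _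
  rw [this, zero_smul, sub_zero]

lemma fundWeight_mem_baseCorners (b : P.Base) (k : b.support) : fundWeight b k ∈ baseCorners b :=
  ⟨⟨b, k, rfl⟩, fundWeight_mem_closedChamber_self b k⟩

lemma fundWeight_mem_baseCorners_reflectBase (b : P.Base) {j : ι} (hj : j ∈ b.support)
    (k : b.support) (hk : k ≠ ⟨j, hj⟩) : fundWeight b k ∈ baseCorners (reflectBase b j) := by
  rw [← fundWeight_reflectBase_of_ne b hj k hk]
  exact fundWeight_mem_baseCorners _ _

lemma fundWeight_not_mem_baseCorners_reflectBase (b : P.Base) {j : ι} (hj : j ∈ b.support) :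
    fundWeight b ⟨j, hj⟩ ∉ baseCorners (reflectBase b j) := by
  intro h
  have hmem : P.reflectionPerm j j ∈ (reflectBase b j).support :=
    reflectionPerm_mem_reflectBase_support b j hj
  have h1 : 0 ≤ P.toLinearMap (fundWeight b ⟨j, hj⟩) (P.coroot (P.reflectionPerm j j)) :=
    h.2 _ hmem
  rw [coroot_neg, map_neg, pair_fundWeight_coroot_self b ⟨j, hj⟩] at h1
  linarith

lemma baseCorners_inter_reflectBase (b : P.Base) {j : ι} (hj : j ∈ b.support) :
    baseCorners b ∩ baseCorners (reflectBase b j) =
      fundWeight b '' {k : b.support | k ≠ ⟨j, hj⟩} := by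
  ext m
  constructor
  · rintro ⟨h1, h2⟩
    rw [baseCorners_eq_range] at h1
    obtain ⟨k, rfl⟩ := h1
    refine ⟨k, ?_, rfl⟩
    rintro rfl
    exact fundWeight_not_mem_baseCorners_reflectBase b hj h2
  · rintro ⟨k, hk, rfl⟩
    exact ⟨fundWeight_mem_baseCorners b k, fundWeight_mem_baseCorners_reflectBase b hj k hk⟩

lemma ncard_baseCorners_inter_reflectBase (b : P.Base) {j : ι} (hj : j ∈ b.support) :
    (baseCorners b ∩ baseCorners (reflectBase b j)).ncard + 1 = b.support.card := by
  rw [baseCorners_inter_reflectBase b hj, Set.ncard_image_of_injective _ (fundWeight_injective b)]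
  have h := Set.ncard_add_ncard_compl ({⟨j, hj⟩} : Set b.support)
  rw [Set.ncard_singleton, Nat.card_eq_fintype_card, Fintype.card_coe] at h
  have : ({⟨j, hj⟩} : Set b.support)ᶜ = {k : b.support | k ≠ ⟨j, hj⟩} := by
    ext k; simp
  rw [this] at h
  omega

lemma isPos_and_not_isPos_reflectBase_iff (b : P.Base) {j : ι} (hj : j ∈ b.support) (i : ι) :
    (b.IsPos i ∧ ¬ (reflectBase b j).IsPos i) ↔ i = j := by
  rw [isPos_reflectBase, isPos_reflectionPerm_simple b hj]
  constructor
  · rintro ⟨hi, hn⟩
    by_contra hij
    exact hn (Or.inl ⟨hi, hij⟩)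
  · rintro rfl
    refine ⟨RootPairing.Base.isPos_of_mem_support hj, ?_⟩
    rintro (⟨_, h⟩ | h)
    · exact h rfl
    · have := not_isPos_neg_simple b hj
      rw [← h] at this
      exact this (RootPairing.Base.isPos_of_mem_support hj)

/-- Wall crossing: the values of a complementary convex solid at two adjacent chambers differ by a
nonnegative multiple of the coroot of the wall. -/
lemma pair_reflectBase {d : P.Base → N} (hd : IsCCS d) (c : P.Base) {j : ι} (hj : j ∈ c.support) :
    ∃ s : R, 0 ≤ s ∧ ∀ ξ : M, P.toLinearMap ξ (d (reflectBase c j)) =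
      P.toLinearMap ξ (d c) + s * P.toLinearMap ξ (P.coroot j) := by
  set c' := reflectBase c j with hc'
  set s : R := P.toLinearMap (fundWeight c ⟨j, hj⟩) (d c' - d c) with hs
  have h1 : ∀ k : c.support, k ≠ ⟨j, hj⟩ → P.toLinearMap (fundWeight c k) (d c' - d c) = 0 := by
    intro k hk
    rw [map_sub, sub_eq_zero]
    exact (hd.corner_eq c c' _ (fundWeight_mem_baseCorners c k)
      (fundWeight_mem_baseCorners_reflectBase c hj k hk)).symm
  have h2 : ∀ ξ : M, P.toLinearMap ξ (d c') =
      P.toLinearMap ξ (d c) + s * P.toLinearMap ξ (P.coroot j) := by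
    intro ξ
    have := pair_eq_sum c ξ (d c' - d c)
    rw [Finset.sum_eq_single (⟨j, hj⟩ : c.support)] at this
    · rw [map_sub] at this
      rw [hs]
      linarith
    · intro k _ hk
      rw [h1 k hk, zero_mul]
    · intro h; exact absurd (Finset.mem_univ _) h
  refine ⟨s, ?_, h2⟩
  have h3 := hd.wall_le c c' j (ncard_baseCorners_inter_reflectBase c hj)
    (isPos_and_not_isPos_reflectBase_iff c hj)
  change P.toLinearMap (P.root j) (d c) ≤ P.toLinearMap (P.root j) (d c') at h3
  rw [h2 (P.root j)] at h3
  have h4 : P.toLinearMap (P.root j) (P.coroot j) = 2 := P.root_coroot_two j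
  rw [h4] at h3
  linarith

/-- A vector that is dominant for the base `b` pairs minimally with the value of a complementary
convex solid at `b`. -/
lemma pair_le_of_mem_closedChamber {d : P.Base → N} (hd : IsCCS d) {b : P.Base} {m : M}
    (hm : m ∈ closedChamber b) (c : P.Base) :
    P.toLinearMap m (d b) ≤ P.toLinearMap m (d c) := by
  refine base_induction b (fun c => P.toLinearMap m (d b) ≤ P.toLinearMap m (d c)) le_rfl ?_ c
  intro c j hj hj' ih
  obtain ⟨s, hs, h⟩ := pair_reflectBase hd c hj
  have h1 := h m
  have h2 : P.toLinearMap m (P.coroot j) ≤ 0 := pair_nonpos_of_not_isPos hm hj'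
  have h3 : s * P.toLinearMap m (P.coroot j) ≤ 0 := mul_nonpos_of_nonneg_of_nonpos hs h2
  change P.toLinearMap m (d b) ≤ P.toLinearMap m (d (reflectBase c j)) at ih
  linarith

lemma convex_hyper (d : P.Base → N) (m : M) : Convex R (hyper d m) := by
  intro x hx y hy a b ha hb hab c hc
  rw [map_add, map_smul, map_smul, hx c hc, hy c hc, ← add_smul, hab, one_smul]

lemma convex_halfClosed (d : P.Base → N) (m : M) : Convex R (halfClosed d m) := by
  intro x hx y hy a b ha hb hab c hc
  rw [map_add, map_smul, map_smul, smul_eq_mul, smul_eq_mul]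
  have h1 := mul_le_mul_of_nonneg_left (hx c hc) ha
  have h2 := mul_le_mul_of_nonneg_left (hy c hc) hb
  calc P.toLinearMap m (d c) = (a + b) * P.toLinearMap m (d c) := by rw [hab, one_mul]
    _ = a * P.toLinearMap m (d c) + b * P.toLinearMap m (d c) := by ring
    _ ≤ _ := add_le_add h1 h2

lemma mem_cham_of_mem_carrier {F : Facet P} {b : P.Base} {η : M} (hη : η ∈ F.carrier)
    (hb : η ∈ closedChamber b) : b ∈ F.cham := by
  have : F = Facet.ofVec P η := Facet.ext (Eq.symm hη)
  rw [this]
  exact mem_cham_ofVec hb

instance finite_base : Finite P.Base :=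
  Finite.of_injective (fun b : P.Base => b.support) (fun b b' h => base_ext h)

/-- S14238. -/
theorem dualSolid_eq {d : P.Base → N} (hd : IsCCS d) (F : Facet P) :
    dualSolid d F =
      (⋂ m ∈ F.corners, hyper d m) ∩ ⋂ m ∈ F.corners', halfClosed d m := by
  apply Set.Subset.antisymm
  · apply convexHull_min
    · rintro _ ⟨c, hc, rfl⟩
      refine ⟨?_, ?_⟩
      · simp only [Set.mem_iInter]
        intro m hm b hb
        exact hd.corner_eq c b m (corners_subset_baseCorners hc hm) hb
      · simp only [Set.mem_iInter]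
        intro m hm b hb
        exact pair_le_of_mem_closedChamber hd hb.2 c
    · exact (convex_iInter₂ fun m _ => convex_hyper d m).inter
        (convex_iInter₂ fun m _ => convex_halfClosed d m)
  · rintro x ⟨hx1, hx2⟩
    simp only [Set.mem_iInter] at hx1 hx2
    let _ : Fintype F.cham := Fintype.ofFinite _
    have key := Farkas.mem_convexHull_range_of_forall_dual (R := R) (fun c : F.cham => d c) x ?_
    · have hr : Set.range (fun c : F.cham => d c) = d '' F.cham := by
        ext y; simp
      rw [hr] at key; exact key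
    · intro f
      set ξ := P.toPerfPair.symm f with hξdef
      have hξ : ∀ y, f y = P.toLinearMap ξ y := by
        intro y
        have : P.toLinearMap ξ = f := P.toLinearMap.apply_symm_toPerfPair_self f
        rw [this]
      obtain ⟨η, hη⟩ := carrier_nonempty F
      obtain ⟨b, ε, hε, hηb, hηξb⟩ := exists_base_closedChamber₂ (P := P) η ξ
      have hb : b ∈ F.cham := mem_cham_of_mem_carrier hη hηb
      refine ⟨⟨b, hb⟩, ?_⟩
      rw [hξ, hξ]
      have hsum := pair_eq_sum b ξ (x - d b)
      have hnn : 0 ≤ ∑ k : b.support,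
          P.toLinearMap (fundWeight b k) (x - d b) * P.toLinearMap ξ (P.coroot k) := by
        refine Finset.sum_nonneg fun k _ => ?_
        rcases sgn_simple hb k with h0 | h1
        · have hηk : P.toLinearMap η (P.coroot k) = 0 := by
            have := (mem_carrier_iff' F η).mp hη k
            rw [h0, sign_eq_zero_iff] at this
            exact this
          have h2 : 0 ≤ P.toLinearMap (η + ε • ξ) (P.coroot k) := hηξb k k.2
          rw [map_add, LinearMap.add_apply, hηk, zero_add, map_smul, LinearMap.smul_apply,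
            smul_eq_mul] at h2
          have h3 : 0 ≤ P.toLinearMap ξ (P.coroot k) := by
            by_contra hneg
            push Not at hneg
            have := mul_neg_of_pos_of_neg hε hneg
            linarith
          have h4 : P.toLinearMap (fundWeight b k) (d b) ≤ P.toLinearMap (fundWeight b k) x :=
            hx2 (fundWeight b k) (Set.mem_iUnion₂.mpr ⟨b, hb, fundWeight_mem_baseCorners b k⟩) b
              (fundWeight_mem_baseCorners b k)
          rw [map_sub]
          exact mul_nonneg (by linarith) h3
        · have h4 : P.toLinearMap (fundWeight b k) x = P.toLinearMap (fundWeight b k) (d b) :=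
            hx1 (fundWeight b k) ((fundWeight_mem_corners_iff hb k).mpr h1) b
              (fundWeight_mem_baseCorners b k)
          rw [map_sub, h4, sub_self, zero_mul]
      rw [map_sub] at hsum
      change P.toLinearMap ξ (d b) ≤ P.toLinearMap ξ x
      linarith

lemma mem_cham_origin (b : P.Base) : b ∈ (Facet.origin P).cham := by
  rw [mem_cham_iff]
  intro j _
  change sgnVec P 0 j ≠ -1
  rw [sgnVec_apply, map_zero, LinearMap.zero_apply, sign_zero]
  decide

lemma corners_origin : (Facet.origin P).corners = ∅ := by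
  obtain ⟨b⟩ := P.nonempty_base
  rw [corners_eq (mem_cham_origin b)]
  ext m
  simp only [Set.mem_ofPred_eq, Set.mem_empty_iff_false, iff_false, not_exists, not_and]
  intro j hj
  change sgnVec P 0 j = 1 at hj
  rw [sgnVec_apply, map_zero, LinearMap.zero_apply, sign_zero] at hj
  exact absurd hj (by decide)

lemma solid_eq_dualSolid_origin (d : P.Base → N) : solid d = dualSolid d (Facet.origin P) := by
  have : d '' (Facet.origin P).cham = Set.range d := by
    ext y
    constructor
    · rintro ⟨b, _, rfl⟩; exact ⟨b, rfl⟩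
    · rintro ⟨b, rfl⟩; exact ⟨b, mem_cham_origin b, rfl⟩
  rw [solid, dualSolid, this]

/-- The solid of a complementary convex solid is cut out by the half-spaces of the corners of the
chambers. -/
theorem mem_solid_iff {d : P.Base → N} (hd : IsCCS d) (x : N) :
    x ∈ solid d ↔ ∀ b : P.Base, ∀ m ∈ baseCorners b,
      P.toLinearMap m (d b) ≤ P.toLinearMap m x := by
  rw [solid_eq_dualSolid_origin, dualSolid_eq hd, corners_origin]
  constructor
  · rintro ⟨_, h⟩ b m hm
    simp only [Set.mem_iInter] at h
    exact h m (Set.mem_iUnion₂.mpr ⟨b, mem_cham_origin b, hm⟩) b hm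
  · intro h
    refine ⟨by simp, ?_⟩
    simp only [Set.mem_iInter]
    intro m _ b hb
    exact h b m hb

/-- S14241. -/
theorem corners_nonpos_iff_isSemistable {d : P.Base → N} (hd : IsCCS d) :
    (∀ (b : P.Base), ∀ m ∈ baseCorners b, P.toLinearMap m (d b) ≤ 0) ↔ IsSemistable d := by
  rw [IsSemistable, mem_solid_iff hd]
  refine forall_congr' fun b => forall_congr' fun m => forall_congr' fun _ => ?_
  rw [map_zero]

lemma deg_nonpos_of_isSemistable {d : P.Base → N} (hd : IsCCS d) (hss : IsSemistable d)
    (F : Facet P) (b : P.Base) (hb : b ∈ F.cham) : F.deg d b ≤ 0 := by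
  have hc := (corners_nonpos_iff_isSemistable hd).mpr hss b
  rw [deg_eq_pair, pair_eq_sum b]
  have hmem : rootSum P F.parab ∈ closedChamber b := hb (sum_root_parab_mem_carrier F)
  refine Finset.sum_nonpos fun j _ => ?_
  exact mul_nonpos_of_nonpos_of_nonneg (hc _ (fundWeight_mem_baseCorners b j)) (hmem j j.2)

lemma sgn_ofVec_fundWeight_self (b : P.Base) (k : b.support) :
    (Facet.ofVec P (fundWeight b k)).sgn k = 1 := by
  rw [ofVec_sgn, sgnVec_apply, pair_fundWeight_coroot_self, sign_one]

lemma sgn_ofVec_fundWeight_ne (b : P.Base) {k j : b.support} (h : j ≠ k) :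
    (Facet.ofVec P (fundWeight b k)).sgn j = 0 := by
  rw [ofVec_sgn, sgnVec_apply, pair_fundWeight_coroot_ne b h, sign_zero]

lemma corners_ofVec_fundWeight (b : P.Base) (k : b.support) :
    (Facet.ofVec P (fundWeight b k)).corners = {fundWeight b k} := by
  rw [corners_eq (mem_cham_ofVec (fundWeight_mem_closedChamber_self b k))]
  ext m
  simp only [Set.mem_ofPred_eq, Set.mem_singleton_iff]
  constructor
  · rintro ⟨j, hj, rfl⟩
    by_cases h : j = k
    · rw [h]
    · rw [sgn_ofVec_fundWeight_ne b h] at hj
      exact absurd hj (by decide)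
  · rintro rfl
    exact ⟨k, sgn_ofVec_fundWeight_self b k, rfl⟩

lemma fundWeight_ne_zero (b : P.Base) (k : b.support) : fundWeight b k ≠ 0 := by
  intro h
  have := pair_fundWeight_coroot_self b k
  rw [h, map_zero, LinearMap.zero_apply] at this
  exact zero_ne_one this

lemma dim_ofVec_fundWeight (b : P.Base) (k : b.support) :
    (Facet.ofVec P (fundWeight b k)).dim = 1 := by
  rw [Facet.dim, span_carrier_eq_span_corners, corners_ofVec_fundWeight]
  exact finrank_span_singleton (fundWeight_ne_zero b k)

lemma corners_nonpos_of_deg_nonpos {d : P.Base → N} (hd : IsCCS d)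
    (h : ∀ (F : Facet P) (b : P.Base), F.dim = 1 → b ∈ F.cham → F.deg d b ≤ 0)
    (b : P.Base) (m : M) (hm : m ∈ baseCorners b) : P.toLinearMap m (d b) ≤ 0 := by
  rw [baseCorners_eq_range] at hm
  obtain ⟨k, rfl⟩ := hm
  set F := Facet.ofVec P (fundWeight b k) with hF
  have hb : b ∈ F.cham := mem_cham_ofVec (fundWeight_mem_closedChamber_self b k)
  have hdeg := h F b (dim_ofVec_fundWeight b k) hb
  obtain ⟨c, hc, hsum⟩ := (mem_carrier_iff_sum hb _).mp (sum_root_parab_mem_carrier F)
  change rootSum P F.parab = _ at hsum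
  rw [deg_eq_pair, hsum, map_sum, LinearMap.sum_apply,
    Finset.sum_eq_single k] at hdeg
  · rw [map_smul, LinearMap.smul_apply, smul_eq_mul] at hdeg
    have hck : 0 < c k := by
      have := hc k
      rw [hF, sgn_ofVec_fundWeight_self, sign_eq_one_iff] at this
      exact this
    by_contra hpos
    push Not at hpos
    have := mul_pos hck hpos
    linarith
  · intro j _ hj
    have := hc j
    rw [hF, sgn_ofVec_fundWeight_ne b hj, sign_eq_zero_iff] at this
    rw [this, zero_smul, map_zero, LinearMap.zero_apply]
  · intro hk; exact absurd (Finset.mem_univ k) hk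

/-- S14240. -/
theorem deg_dim_one_nonpos_iff_isSemistable {d : P.Base → N} (hd : IsCCS d) :
    (∀ (F : Facet P) (b : P.Base), F.dim = 1 → b ∈ F.cham → F.deg d b ≤ 0) ↔
      IsSemistable d :=
  ⟨fun h => (corners_nonpos_iff_isSemistable hd).mp (corners_nonpos_of_deg_nonpos hd h),
    fun hss F b _ hb => deg_nonpos_of_isSemistable hd hss F b hb⟩

/-- S14239. -/
theorem deg_nonpos_iff_isSemistable {d : P.Base → N} (hd : IsCCS d) :
    (∀ (F : Facet P) (b : P.Base), b ∈ F.cham → F.deg d b ≤ 0) ↔ IsSemistable d :=
  ⟨fun h => (deg_dim_one_nonpos_iff_isSemistable hd).mp fun F b _ hb => h F b hb,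
    fun hss F b hb => deg_nonpos_of_isSemistable hd hss F b hb⟩

end Groth.Agent.Lib.Seat65.RootChL
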