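import Groth.Agent.Lib.Seat65RootChL

/-!
# Seat 65, RootCh library, part M

The dual facet and its span, invariant forms and fundamental coweights, the point `y(F)` of a
facet (the locus `yLocus d F` is a single point), special facets through numerical invariants
(S14243) and the point of a special facet (S14251).
-/

set_option autoImplicit false
set_option linter.unusedSectionVars false
set_option linter.unusedVariables false
universe u v w x
open RootCh Module

namespace Groth.Agent.Lib.Seat65.RootChM

open Groth.Agent.Lib.Seat65.RootChA Groth.Agent.Lib.Seat65.RootChB Groth.Agent.Lib.Seat65.RootChC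
  Groth.Agent.Lib.Seat65.RootChD Groth.Agent.Lib.Seat65.RootChE Groth.Agent.Lib.Seat65.RootChF
  Groth.Agent.Lib.Seat65.RootChG Groth.Agent.Lib.Seat65.RootChH Groth.Agent.Lib.Seat65.RootChI
  Groth.Agent.Lib.Seat65.RootChJ Groth.Agent.Lib.Seat65.RootChK Groth.Agent.Lib.Seat65.RootChL

variable {ι : Type u} {R : Type v} {M : Type w} {N : Type x}
  [Field R] [LinearOrder R] [IsStrictOrderedRing R]
  [AddCommGroup M] [Module R M] [AddCommGroup N] [Module R N]
  {P : RootPairing ι R M N} [Finite ι] [P.IsRootSystem] [P.IsCrystallographic] [P.IsReduced]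

/-! ### The dual facet and its span -/

lemma mem_dualCarrier_iff {F : Facet P} {b : P.Base} (hb : b ∈ F.cham) (y : N) :
    y ∈ F.dualCarrier ↔
      ∀ j : b.support, SignType.sign (P.toLinearMap (P.root j) y) = F.sgn j := by
  rw [← dualFacet_carrier]
  exact mem_carrier_iff (P := P.flip) (mem_dualFacet_cham.mpr hb) y

lemma mem_dualCarrier_iff' (F : Facet P) (y : N) :
    y ∈ F.dualCarrier ↔ ∀ i, SignType.sign (P.toLinearMap (P.root i) y) = F.sgn i := by
  rw [← dualFacet_carrier]
  exact mem_carrier_iff' (P := P.flip) (dualFacet F) y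

lemma pair_root_eq_zero_of_mem_span_dualCarrier {F : Facet P} {y : N}
    (hy : y ∈ Submodule.span R F.dualCarrier) {i : ι} (hi : F.sgn i = 0) :
    P.toLinearMap (P.root i) y = 0 := by
  induction hy using Submodule.span_induction with
  | mem z hz =>
    have := (mem_dualCarrier_iff' F z).mp hz i
    rw [hi, sign_eq_zero_iff] at this
    exact this
  | zero => simp
  | add x y _ _ hx hy => rw [map_add, hx, hy, add_zero]
  | smul t x _ hx => rw [map_smul, hx, smul_zero]

lemma fundCoweight_mem_dualCorners {F : Facet P} {b : P.Base} (hb : b ∈ F.cham) (j : b.support)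
    (hj : F.sgn j = 1) : fundCoweight b j ∈ F.dualCorners := by
  rw [dualCorners_eq_setOf_corr_corners]
  exact ⟨fundWeight b j, (fundWeight_mem_corners_iff hb j).mpr hj,
    (corr_fundWeight_iff b j _).mpr rfl⟩

lemma span_dualCarrier_eq_span_dualCorners (F : Facet P) :
    Submodule.span R F.dualCarrier = Submodule.span R F.dualCorners := by
  rw [← dualFacet_carrier, ← dualFacet_corners]
  exact span_carrier_eq_span_corners (P := P.flip) (dualFacet F)

lemma mem_span_dualCarrier_iff {F : Facet P} {b : P.Base} (hb : b ∈ F.cham) (y : N) :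
    y ∈ Submodule.span R F.dualCarrier ↔
      ∀ j : b.support, F.sgn j = 0 → P.toLinearMap (P.root j) y = 0 := by
  constructor
  · intro hy j hj
    exact pair_root_eq_zero_of_mem_span_dualCarrier hy hj
  · intro h
    rw [span_dualCarrier_eq_span_dualCorners, expand_fundCoweight b y]
    refine Submodule.sum_mem _ fun j _ => ?_
    rcases sgn_simple hb j with h0 | h1
    · rw [h j h0, zero_smul]; exact zero_mem _
    · exact Submodule.smul_mem _ _ (Submodule.subset_span (fundCoweight_mem_dualCorners hb j h1))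

/-! ### Invariant forms and fundamental coweights -/

lemma expand_coroot (b : P.Base) (z : N) :
    z = ∑ l : b.support, P.toLinearMap (fundWeight b l) z • P.coroot l := by
  apply ext_simple' b
  intro j
  rw [pair_eq_sum b (P.root j) z, map_sum]
  refine Finset.sum_congr rfl fun l _ => ?_
  rw [map_smul, smul_eq_mul]

lemma invForm_fundCoweight_left {B : LinearMap.BilinForm R N} (hB : InvForm P B) (b : P.Base)
    (k : b.support) (z : N) :
    B (fundCoweight b k) z =
      B (P.coroot k) (P.coroot k) / 2 * P.toLinearMap (fundWeight b k) z := by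
  conv_lhs => rw [expand_coroot b z]
  rw [map_sum, Finset.sum_eq_single k]
  · rw [map_smul, smul_eq_mul, hB.symm]
    have := hB.two_mul_coroot k (fundCoweight b k)
    rw [pair_root_fundCoweight_self, one_mul] at this
    have h2 : B (P.coroot k) (fundCoweight b k) = B (P.coroot k) (P.coroot k) / 2 := by linarith
    rw [h2]; ring
  · intro l _ hl
    rw [map_smul, smul_eq_mul, hB.symm]
    have := hB.two_mul_coroot l (fundCoweight b k)
    rw [pair_root_fundCoweight_ne b hl, zero_mul] at this
    have h0 : B (P.coroot l) (fundCoweight b k) = 0 := by linarith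
    rw [h0, mul_zero]
  · intro h; exact absurd (Finset.mem_univ k) h

/-! ### The point `y(F)` -/

/-- A vector of the span of the dual facet pairing to zero with the corners of the facet is zero. -/
lemma eq_zero_of_mem_span_dualCarrier {F : Facet P} {b : P.Base} (hb : b ∈ F.cham) {y : N}
    (hy : y ∈ Submodule.span R F.dualCarrier)
    (h : ∀ j : b.support, F.sgn j = 1 → P.toLinearMap (fundWeight b j) y = 0) : y = 0 := by
  obtain ⟨B, hB⟩ := exists_invForm (P := P)
  by_contra hne
  have hpos := hB.pos y hne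
  have e := expand_fundCoweight b y
  have h0 : B y y = 0 := by
    have e' := congrArg (fun t => B t y) e
    simp only [map_sum, map_smul, LinearMap.sum_apply, LinearMap.smul_apply, smul_eq_mul,
      invForm_fundCoweight_left hB] at e'
    rw [e']
    refine Finset.sum_eq_zero fun j _ => ?_
    rcases sgn_simple hb j with hj0 | hj1
    · rw [pair_root_eq_zero_of_mem_span_dualCarrier hy hj0, zero_mul]
    · rw [h j hj1, mul_zero, mul_zero]
  rw [h0] at hpos
  exact lt_irrefl _ hpos

/-- Vectors of the span of the dual facet with prescribed pairings with the corners. -/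
lemma exists_mem_span_dualCarrier_pair_eq {F : Facet P} {b : P.Base} (hb : b ∈ F.cham)
    (r : b.support → R) :
    ∃ y ∈ Submodule.span R F.dualCarrier,
      ∀ j : b.support, F.sgn j = 1 → P.toLinearMap (fundWeight b j) y = r j := by
  classical
  let J := {j : b.support // F.sgn j = 1}
  let S : (J → R) →ₗ[R] N := Fintype.linearCombination R (fun k : J => fundCoweight b k.1)
  let T : (J → R) →ₗ[R] (J → R) :=
    LinearMap.pi fun j => (P.toLinearMap (fundWeight b j.1)).comp S
  have hSapp : ∀ t : J → R, S t = ∑ k : J, t k • fundCoweight b k.1 := fun t =>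
    Fintype.linearCombination_apply R _ t
  have hS : ∀ t, S t ∈ Submodule.span R F.dualCarrier := by
    intro t
    rw [hSapp, span_dualCarrier_eq_span_dualCorners]
    exact Submodule.sum_mem _ fun k _ => Submodule.smul_mem _ _
      (Submodule.subset_span (fundCoweight_mem_dualCorners hb k.1 k.2))
  have hinj : Function.Injective T := by
    rw [← LinearMap.ker_eq_bot, LinearMap.ker_eq_bot']
    intro t ht
    have h0 : S t = 0 := eq_zero_of_mem_span_dualCarrier hb (hS t)
      (fun j hj => congrFun ht ⟨j, hj⟩)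
    funext k
    have hk : P.toLinearMap (P.root k.1) (S t) = t k := by
      rw [hSapp, map_sum, Finset.sum_eq_single k]
      · rw [map_smul, pair_root_fundCoweight_self, smul_eq_mul, mul_one]
      · intro l _ hl
        have hl' : l.1 ≠ k.1 := fun h => hl (Subtype.ext h)
        rw [map_smul, pair_root_fundCoweight_ne b (i := l.1) (j := k.1) hl'.symm, smul_zero]
      · intro h; exact absurd (Finset.mem_univ k) h
    rw [← hk, h0, map_zero]
    rfl
  have hsurj : Function.Surjective T := LinearMap.injective_iff_surjective.mp hinj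
  obtain ⟨t, ht⟩ := hsurj (fun j => r j.1)
  exact ⟨S t, hS t, fun j hj => congrFun ht ⟨j, hj⟩⟩

lemma mem_yLocus_iff {d : P.Base → N} (hd : IsCCS d) {F : Facet P} {b : P.Base} (hb : b ∈ F.cham)
    (y : N) :
    y ∈ yLocus d F ↔ y ∈ Submodule.span R F.dualCarrier ∧
      ∀ j : b.support, F.sgn j = 1 →
        P.toLinearMap (fundWeight b j) y = P.toLinearMap (fundWeight b j) (d b) := by
  constructor
  · rintro ⟨h1, h2⟩
    refine ⟨h2, fun j hj => ?_⟩
    simp only [Set.mem_iInter] at h1
    exact h1 _ ((fundWeight_mem_corners_iff hb j).mpr hj) b (fundWeight_mem_baseCorners b j)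
  · rintro ⟨h1, h2⟩
    refine ⟨?_, h1⟩
    simp only [Set.mem_iInter]
    intro w hw b' hb'
    have hw' := hw
    rw [corners_eq hb] at hw'
    obtain ⟨j, hj, rfl⟩ := hw'
    rw [h2 j hj]
    exact hd.corner_eq b b' _ (fundWeight_mem_baseCorners b j) hb'

lemma eq_of_mem_yLocus {d : P.Base → N} (hd : IsCCS d) {F : Facet P} {y z : N}
    (hy : y ∈ yLocus d F) (hz : z ∈ yLocus d F) : y = z := by
  obtain ⟨b, hb⟩ := exists_mem_cham F
  rw [mem_yLocus_iff hd hb] at hy hz
  have := eq_zero_of_mem_span_dualCarrier hb (Submodule.sub_mem _ hy.1 hz.1) (fun j hj => by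
    rw [map_sub, hy.2 j hj, hz.2 j hj, sub_self])
  exact sub_eq_zero.mp this

lemma yLocus_eq_singleton_of_mem {d : P.Base → N} (hd : IsCCS d) {F : Facet P} {y : N}
    (hy : y ∈ yLocus d F) : yLocus d F = {y} := by
  ext z
  constructor
  · intro hz; exact eq_of_mem_yLocus hd hz hy
  · rintro rfl; exact hy

/-- The locus of `y(F)` is a single point. -/
theorem exists_yLocus_eq_singleton {d : P.Base → N} (hd : IsCCS d) (F : Facet P) :
    ∃ y : N, yLocus d F = {y} := by
  obtain ⟨b, hb⟩ := exists_mem_cham F
  obtain ⟨y, hy1, hy2⟩ := exists_mem_span_dualCarrier_pair_eq hb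
    (fun j => P.toLinearMap (fundWeight b j) (d b))
  exact ⟨y, yLocus_eq_singleton_of_mem hd ((mem_yLocus_iff hd hb y).mpr ⟨hy1, hy2⟩)⟩

/-- Vectors in the span of the corners pair equally with a point satisfying the corner equations
and with the value of `d` at an adjacent chamber. -/
lemma pair_eq_of_mem_span_corners' {d : P.Base → N} {F : Facet P} {b : P.Base} (hb : b ∈ F.cham)
    {y : N} (hy : ∀ j : b.support, F.sgn j = 1 →
      P.toLinearMap (fundWeight b j) y = P.toLinearMap (fundWeight b j) (d b))
    {ξ : M} (hξ : ξ ∈ Submodule.span R F.corners) :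
    P.toLinearMap ξ y = P.toLinearMap ξ (d b) := by
  induction hξ using Submodule.span_induction with
  | mem m hm =>
    rw [corners_eq hb] at hm
    obtain ⟨j, hj, rfl⟩ := hm
    exact hy j hj
  | zero => simp
  | add x z _ _ hx hz => simp [hx, hz]
  | smul t x _ hx => simp [hx]

/-! ### Special facets: first properties -/

lemma corner_eq_of_mem_dualSolid {d : P.Base → N} (hd : IsCCS d) {F : Facet P} {b : P.Base}
    (hb : b ∈ F.cham) {y : N} (hy : y ∈ dualSolid d F) (j : b.support) (hj : F.sgn j = 1) :
    P.toLinearMap (fundWeight b j) y = P.toLinearMap (fundWeight b j) (d b) := by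
  rw [dualSolid_eq hd F] at hy
  have h1 := hy.1
  simp only [Set.mem_iInter] at h1
  exact h1 _ ((fundWeight_mem_corners_iff hb j).mpr hj) b (fundWeight_mem_baseCorners b j)

lemma mem_yLocus_of_mem_dualSolid {d : P.Base → N} (hd : IsCCS d) {F : Facet P} {y : N}
    (hy : y ∈ dualSolid d F) (hy' : y ∈ Submodule.span R F.dualCarrier) : y ∈ yLocus d F := by
  rw [dualSolid_eq hd F] at hy
  exact ⟨hy.1, hy'⟩

/-- S14251. -/
theorem exists_yLocus_eq_and_inter_eq {d : P.Base → N} (hd : IsCCS d) (F : Facet P)
    (hF : IsSpecial d F) :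
    ∃ y₀ : N, yLocus d F = {y₀} ∧ F.dualCarrier ∩ dualSolid d F = {y₀} := by
  obtain ⟨y, hy1, hy2⟩ := hF
  have hy : y ∈ yLocus d F := mem_yLocus_of_mem_dualSolid hd hy2 (Submodule.subset_span hy1)
  refine ⟨y, yLocus_eq_singleton_of_mem hd hy, ?_⟩
  ext z
  constructor
  · rintro ⟨hz1, hz2⟩
    exact eq_of_mem_yLocus hd
      (mem_yLocus_of_mem_dualSolid hd hz2 (Submodule.subset_span hz1)) hy
  · rintro rfl
    exact ⟨hy1, hy2⟩

lemma mem_psi_iff {F : Facet P} {b : P.Base} (hb : b ∈ F.cham) (j₀ : b.support)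
    (i : ι) :
    i ∈ F.Psi (fundWeight b j₀) ↔ P.toLinearMap (P.root i) (fundCoweight b j₀) = 1 ∧
      ∀ k : b.support, F.sgn k = 1 → k ≠ j₀ → P.toLinearMap (P.root i) (fundCoweight b k) = 0 := by
  constructor
  · rintro ⟨h1, h2⟩
    refine ⟨h1 _ ((corr_fundWeight_iff b j₀ _).mpr rfl), fun k hk hne => ?_⟩
    exact h2 (fundWeight b k) ((fundWeight_mem_corners_iff hb k).mpr hk)
      (fun h => hne (fundWeight_injective b h)) _ ((corr_fundWeight_iff b k _).mpr rfl)
  · rintro ⟨h1, h2⟩
    refine ⟨fun x hx => ?_, fun w' hw' hne x hx => ?_⟩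
    · rw [corr_fundWeight_iff] at hx
      subst hx
      exact h1
    · rw [corners_eq hb] at hw'
      obtain ⟨k, hk, rfl⟩ := hw'
      rw [corr_fundWeight_iff] at hx
      subst hx
      exact h2 k hk (fun h => hne (by rw [h]))

lemma simple_mem_psi {F : Facet P} {b : P.Base} (hb : b ∈ F.cham) (j₀ : b.support) :
    (j₀ : ι) ∈ F.Psi (fundWeight b j₀) := by
  rw [mem_psi_iff hb]
  exact ⟨pair_root_fundCoweight_self b j₀, fun k _ hne => pair_root_fundCoweight_ne b hne.symm⟩

lemma pair_root_of_mem_psi {F : Facet P} {b : P.Base} (hb : b ∈ F.cham) (j₀ : b.support)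
    {i : ι} (hi : i ∈ F.Psi (fundWeight b j₀)) {y : N}
    (hy : y ∈ Submodule.span R F.dualCarrier) :
    P.toLinearMap (P.root i) y = P.toLinearMap (P.root j₀) y := by
  rw [mem_psi_iff hb] at hi
  rw [pair_eq_sum' b (P.root i) y, Finset.sum_eq_single j₀]
  · rw [hi.1, one_mul]
  · intro k _ hk
    rcases sgn_simple hb k with h0 | h1
    · rw [pair_root_eq_zero_of_mem_span_dualCarrier hy h0, mul_zero]
    · rw [hi.2 k h1 hk, zero_mul]
  · intro h; exact absurd (Finset.mem_univ j₀) h

/-- The numerical invariant through the point `y(F)`. -/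
lemma numInv_eq_card_mul {d : P.Base → N} {F : Facet P} {b : P.Base} (hb : b ∈ F.cham)
    (j₀ : b.support) (hj₀ : F.sgn j₀ = 1) {y : N} (hy : y ∈ Submodule.span R F.dualCarrier)
    (hy' : ∀ j : b.support, F.sgn j = 1 →
      P.toLinearMap (fundWeight b j) y = P.toLinearMap (fundWeight b j) (d b)) :
    F.numInv d (fundWeight b j₀) b =
      ((Set.toFinite (F.Psi (fundWeight b j₀))).toFinset.card : R) *
        P.toLinearMap (P.root j₀) y := by
  have hm : fundWeight b j₀ ∈ F.corners := (fundWeight_mem_corners_iff hb j₀).mpr hj₀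
  have hmem : rootSum P (F.Psi (fundWeight b j₀)) ∈ Submodule.span R F.corners :=
    sum_root_psi_mem_span_corners F _ hm
  rw [numInv_eq_pair, ← pair_eq_of_mem_span_corners' hb hy' hmem]
  rw [pair_rootSum, Finset.sum_congr rfl (fun i hi => pair_root_of_mem_psi hb j₀
    ((Set.Finite.mem_toFinset _).mp hi) hy), Finset.sum_const, nsmul_eq_mul]

lemma card_psi_pos {F : Facet P} {b : P.Base} (hb : b ∈ F.cham) (j₀ : b.support) :
    (0 : R) < ((Set.toFinite (F.Psi (fundWeight b j₀))).toFinset.card : R) := by
  rw [Nat.cast_pos, Finset.card_pos]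
  exact ⟨j₀, (Set.Finite.mem_toFinset _).mpr (simple_mem_psi hb j₀)⟩

/-- S14243. -/
theorem numInv_pos_and_nonempty_iff_isSpecial {d : P.Base → N} (hd : IsCCS d) (F : Facet P) :
    ((∀ m ∈ F.corners, ∀ b ∈ F.cham, 0 < F.numInv d m b) ∧
        (dualSolid d F ∩ (Submodule.span R F.dualCarrier : Set N)).Nonempty) ↔
      IsSpecial d F := by
  constructor
  · rintro ⟨hnum, y, hy1, hy2⟩
    obtain ⟨b, hb⟩ := exists_mem_cham F
    refine ⟨y, ?_, hy1⟩
    rw [mem_dualCarrier_iff hb]
    intro j
    rcases sgn_simple hb j with h0 | h1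
    · rw [h0, pair_root_eq_zero_of_mem_span_dualCarrier hy2 h0, sign_zero]
    · rw [h1, sign_eq_one_iff]
      have h2 := hnum _ ((fundWeight_mem_corners_iff hb j).mpr h1) b hb
      rw [numInv_eq_card_mul hb j h1 hy2 (corner_eq_of_mem_dualSolid hd hb hy1)] at h2
      exact (pos_iff_pos_of_mul_pos h2).mp (card_psi_pos hb j)
  · rintro ⟨y, hy1, hy2⟩
    have hy3 : y ∈ Submodule.span R F.dualCarrier := Submodule.subset_span hy1
    refine ⟨fun m hm b hb => ?_, ⟨y, hy2, hy3⟩⟩
    have hm' := hm
    rw [corners_eq hb] at hm'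
    obtain ⟨j, hj, rfl⟩ := hm'
    rw [numInv_eq_card_mul hb j hj hy3 (corner_eq_of_mem_dualSolid hd hb hy2)]
    have : 0 < P.toLinearMap (P.root j) y := by
      have := (mem_dualCarrier_iff hb y).mp hy1 j
      rwa [hj, sign_eq_one_iff] at this
    exact mul_pos (card_psi_pos hb j) this

end Groth.Agent.Lib.Seat65.RootChM
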