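import Groth.Agent.Lib.Seat65RootChM

/-!
# Seat 65, RootCh library, part N

Special facets and facets of maximal degree: the special facet is the largest facet of maximal
degree (S14248), a maximal facet of maximal degree is special (S14247), existence and uniqueness
of the special facet (S14246).
-/

set_option autoImplicit false
set_option linter.unusedSectionVars false
set_option linter.unusedVariables false
universe u v w x
open RootCh Module

namespace Groth.Agent.Lib.Seat65.RootChN

open Groth.Agent.Lib.Seat65.RootChA Groth.Agent.Lib.Seat65.RootChB Groth.Agent.Lib.Seat65.RootChC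
  Groth.Agent.Lib.Seat65.RootChD Groth.Agent.Lib.Seat65.RootChE Groth.Agent.Lib.Seat65.RootChF
  Groth.Agent.Lib.Seat65.RootChG Groth.Agent.Lib.Seat65.RootChH Groth.Agent.Lib.Seat65.RootChI
  Groth.Agent.Lib.Seat65.RootChJ Groth.Agent.Lib.Seat65.RootChK Groth.Agent.Lib.Seat65.RootChL
  Groth.Agent.Lib.Seat65.RootChM

variable {ι : Type u} {R : Type v} {M : Type w} {N : Type x}
  [Field R] [LinearOrder R] [IsStrictOrderedRing R]
  [AddCommGroup M] [Module R M] [AddCommGroup N] [Module R N]
  {P : RootPairing ι R M N} [Finite ι] [P.IsRootSystem] [P.IsCrystallographic] [P.IsReduced]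

lemma convex_setOf_le_pair (m : M) (r : R) : Convex R {y : N | r ≤ P.toLinearMap m y} := by
  intro x hx y hy a b ha hb hab
  change r ≤ P.toLinearMap m (a • x + b • y)
  rw [map_add, map_smul, map_smul, smul_eq_mul, smul_eq_mul]
  have h1 := mul_le_mul_of_nonneg_left (show r ≤ P.toLinearMap m x from hx) ha
  have h2 := mul_le_mul_of_nonneg_left (show r ≤ P.toLinearMap m y from hy) hb
  calc r = (a + b) * r := by rw [hab, one_mul]
    _ = a * r + b * r := by ring
    _ ≤ _ := add_le_add h1 h2

/-- A vector dominant for the base `c` pairs minimally on the solid with `d c`. -/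
lemma pair_le_of_mem_solid {d : P.Base → N} (hd : IsCCS d) {c : P.Base} {m : M}
    (hm : m ∈ closedChamber c) {y : N} (hy : y ∈ solid d) :
    P.toLinearMap m (d c) ≤ P.toLinearMap m y := by
  have hsub : Set.range d ⊆ {y : N | P.toLinearMap m (d c) ≤ P.toLinearMap m y} := by
    rintro _ ⟨c', rfl⟩
    exact pair_le_of_mem_closedChamber hd hm c'
  exact convexHull_min hsub (convex_setOf_le_pair m _) hy

lemma dualSolid_subset_solid (d : P.Base → N) (F : Facet P) : dualSolid d F ⊆ solid d :=
  convexHull_mono (by rintro _ ⟨c, _, rfl⟩; exact ⟨c, rfl⟩)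

/-- For a point of the dual facet of `F`, the sum of the roots of the parabolic set of `F` pairs
maximally among the parabolic sets of facets. -/
lemma pair_rootSum_parab_le (F G : Facet P) {y : N} (hy : y ∈ F.dualCarrier) :
    P.toLinearMap (rootSum P G.parab) y ≤ P.toLinearMap (rootSum P F.parab) y ∧
      (P.toLinearMap (rootSum P G.parab) y = P.toLinearMap (rootSum P F.parab) y →
        G.parab ⊆ F.parab) := by
  classical
  rw [pair_rootSum, pair_rootSum]
  set f : ι → R := fun i => P.toLinearMap (P.root i) y with hf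
  set A := (Set.toFinite G.parab).toFinset with hA
  set Bf := (Set.toFinite F.parab).toFinset with hBf
  have hmemB : ∀ i, i ∈ Bf ↔ 0 ≤ f i := by
    intro i
    rw [hBf, Set.Finite.mem_toFinset]
    change F.sgn i ≠ -1 ↔ _
    rw [← (mem_dualCarrier_iff' F y).mp hy i, Ne, sign_eq_neg_one_iff, not_lt]
  have e1 : ∑ i ∈ A ∩ Bf, f i + ∑ i ∈ A \ Bf, f i = ∑ i ∈ A, f i :=
    Finset.sum_inter_add_sum_sdiff A Bf f
  have e2 : ∑ i ∈ Bf ∩ A, f i + ∑ i ∈ Bf \ A, f i = ∑ i ∈ Bf, f i :=
    Finset.sum_inter_add_sum_sdiff Bf A f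
  have e3 : ∑ i ∈ Bf ∩ A, f i = ∑ i ∈ A ∩ Bf, f i := by rw [Finset.inter_comm]
  have h1 : ∀ i ∈ A \ Bf, f i ≤ 0 := by
    intro i hi
    rw [Finset.mem_sdiff, hmemB, not_le] at hi
    exact hi.2.le
  have h2 : 0 ≤ ∑ i ∈ Bf \ A, f i := by
    refine Finset.sum_nonneg fun i hi => ?_
    rw [Finset.mem_sdiff, hmemB] at hi
    exact hi.1
  have h3 : ∑ i ∈ A \ Bf, f i ≤ 0 := Finset.sum_nonpos h1
  refine ⟨by linarith, fun heq => ?_⟩
  have h4 : ∑ i ∈ A \ Bf, f i = 0 := by linarith
  have h5 := (Finset.sum_eq_zero_iff_of_nonpos h1).mp h4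
  intro i hi
  by_contra hni
  have hiA : i ∈ A := (Set.Finite.mem_toFinset _).mpr hi
  have hiB : i ∉ Bf := fun h => hni ((Set.Finite.mem_toFinset _).mp h)
  have h6 := h5 i (Finset.mem_sdiff.mpr ⟨hiA, hiB⟩)
  rw [hmemB, h6] at hiB
  exact hiB le_rfl

lemma deg_eq_pair_of_corner_eq {d : P.Base → N} {F : Facet P} {b : P.Base} (hb : b ∈ F.cham)
    {y : N} (hy : ∀ j : b.support, F.sgn j = 1 →
      P.toLinearMap (fundWeight b j) y = P.toLinearMap (fundWeight b j) (d b)) :
    F.deg d b = P.toLinearMap (rootSum P F.parab) y := by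
  rw [deg_eq_pair]
  exact (pair_eq_of_mem_span_corners' hb hy
    (carrier_subset_span_corners F (sum_root_parab_mem_carrier F))).symm

/-- S14248. -/
theorem deg_le_deg_of_isSpecial {d : P.Base → N} (hd : IsCCS d) (F : Facet P) (b : P.Base)
    (hb : b ∈ F.cham) (hF : IsSpecial d F) :
    (∀ (G : Facet P) (c : P.Base), c ∈ G.cham → G.deg d c ≤ F.deg d b) ∧
      ∀ (G : Facet P) (c : P.Base), c ∈ G.cham → G.deg d c = F.deg d b → G ≤ F := by
  obtain ⟨y, hy1, hy2⟩ := hF
  have hdegF : F.deg d b = P.toLinearMap (rootSum P F.parab) y :=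
    deg_eq_pair_of_corner_eq hb (corner_eq_of_mem_dualSolid hd hb hy2)
  have hG : ∀ (G : Facet P) (c : P.Base), c ∈ G.cham →
      G.deg d c ≤ P.toLinearMap (rootSum P G.parab) y := by
    intro G c hc
    rw [deg_eq_pair]
    exact pair_le_of_mem_solid hd (hc (sum_root_parab_mem_carrier G))
      (dualSolid_subset_solid d F hy2)
  refine ⟨fun G c hc => ?_, fun G c hc heq => ?_⟩
  · rw [hdegF]
    exact (hG G c hc).trans (pair_rootSum_parab_le F G hy1).1
  · rw [le_iff_parab_subset]
    apply (pair_rootSum_parab_le F G hy1).2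
    have h1 := hG G c hc
    have h2 := (pair_rootSum_parab_le F G hy1).1
    rw [heq, hdegF] at h1
    exact le_antisymm h2 h1

/-! ### Facets of maximal degree -/

/-- A facet adjacent to `b` with prescribed signs on the simple roots of `b`. -/
lemma exists_facet_simple_sgn (b : P.Base) (T : Set b.support) :
    ∃ G : Facet P, b ∈ G.cham ∧ ∀ j : b.support, G.sgn j = 1 ↔ j ∈ T := by
  classical
  let c : b.support → R := fun j => if j ∈ T then 1 else 0
  have hc : ∀ j, 0 ≤ c j := fun j => by
    simp only [c]; split_ifs <;> norm_num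
  refine ⟨Facet.ofVec P (∑ j : b.support, c j • fundWeight b j),
    mem_cham_ofVec (sum_mem_closedChamber b c hc), fun j => ?_⟩
  rw [ofVec_sum_sgn_simple, sign_eq_one_iff]
  simp only [c]
  split_ifs with h
  · simp [h]
  · simp [h]

/-- The order on facets adjacent to a common chamber, tested on its simple roots. -/
lemma le_of_simple {F G : Facet P} {b : P.Base} (hF : b ∈ F.cham) (hG : b ∈ G.cham)
    (h : ∀ j : b.support, G.sgn j = 1 → F.sgn j = 1) : F ≤ G := by
  rw [Facet.le_def]
  intro i
  by_cases hG0 : G.sgn i = 0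
  · exact Or.inl hG0
  · right
    have hF0 : F.sgn i ≠ 0 := by
      intro hF0
      apply hG0
      rw [sgn_eq_zero_iff hG]
      intro j
      rcases (sgn_eq_zero_iff hF i).mp hF0 j with hz | hz
      · exact Or.inl hz
      · right
        rcases sgn_simple hG j with h0 | h1
        · exact h0
        · rw [h j h1] at hz
          exact absurd hz (by decide)
    by_cases hpos : b.IsPos i
    · rw [(sgn_eq_one_iff hG i).mpr ⟨hpos, hG0⟩, (sgn_eq_one_iff hF i).mpr ⟨hpos, hF0⟩]
    · rw [(sgn_eq_neg_one_iff hG i).mpr ⟨hpos, hG0⟩, (sgn_eq_neg_one_iff hF i).mpr ⟨hpos, hF0⟩]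

lemma pair_rootSum_parab_sub {F G : Facet P} (hFG : F ≤ G) (y : N) :
    P.toLinearMap (rootSum P G.parab) y - P.toLinearMap (rootSum P F.parab) y =
      ∑ i ∈ (Set.toFinite (G.parab \ F.parab)).toFinset, P.toLinearMap (P.root i) y := by
  have hsub : F.parab ⊆ G.parab := (le_iff_parab_subset F G).mp hFG
  have hun : F.parab ∪ (G.parab \ F.parab) = G.parab := Set.union_sdiff_cancel hsub
  have hdis : Disjoint F.parab (G.parab \ F.parab) := Set.disjoint_sdiff_right
  rw [← pair_rootSum, ← hun, rootSum_union hdis, hun, map_add, LinearMap.add_apply,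
    add_sub_cancel_left]

lemma sgn_of_mem_parab_diff {F G : Facet P} (hFG : F ≤ G) {i : ι} (hi : i ∈ G.parab \ F.parab) :
    F.sgn i = -1 ∧ G.sgn i = 0 := by
  have h1 : F.sgn i = -1 := by
    by_contra h
    exact hi.2 h
  refine ⟨h1, ?_⟩
  rcases hFG i with h | h
  · exact h
  · rw [h1] at h
    exact absurd h hi.1

/-- S14247. -/
theorem isSpecial_of_maximal {d : P.Base → N} (hd : IsCCS d) (F : Facet P) (b : P.Base)
    (hb : b ∈ F.cham)
    (hmax : ∀ (G : Facet P) (c : P.Base), c ∈ G.cham → G.deg d c ≤ F.deg d b)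
    (hmaxl : ∀ (G : Facet P) (c : P.Base), c ∈ G.cham → G.deg d c = F.deg d b → F ≤ G → G = F) :
    IsSpecial d F := by
  classical
  obtain ⟨y, hyL⟩ := exists_yLocus_eq_singleton hd F
  have hy : y ∈ yLocus d F := by rw [hyL]; rfl
  have hyspan : y ∈ Submodule.span R F.dualCarrier := hy.2
  have hycorner : ∀ {b' : P.Base} (hb' : b' ∈ F.cham) (j : b'.support), F.sgn j = 1 →
      P.toLinearMap (fundWeight b' j) y = P.toLinearMap (fundWeight b' j) (d b') :=
    fun hb' => ((mem_yLocus_iff hd hb' y).mp hy).2
  have hdegF : ∀ {b' : P.Base} (hb' : b' ∈ F.cham),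
      F.deg d b = P.toLinearMap (rootSum P F.parab) y := by
    intro b' hb'
    rw [deg_eq_deg_of_mem_cham hd F b b' hb hb']
    exact deg_eq_pair_of_corner_eq hb' (hycorner hb')
  refine ⟨y, ?_, ?_⟩
  · -- the point lies in the dual facet
    rw [mem_dualCarrier_iff hb]
    intro j₀
    rcases sgn_simple hb j₀ with h0 | h1
    · rw [h0, pair_root_eq_zero_of_mem_span_dualCarrier hyspan h0, sign_zero]
    · rw [h1, sign_eq_one_iff]
      obtain ⟨G, hbG, hGs⟩ := exists_facet_simple_sgn b {j : b.support | F.sgn j = 1 ∧ j ≠ j₀}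
      have hFG : F ≤ G := le_of_simple hb hbG (fun j hj => ((hGs j).mp hj).1)
      have hGne : G ≠ F := by
        intro h
        have : G.sgn j₀ = 1 := by rw [h]; exact h1
        exact ((hGs j₀).mp this).2 rfl
      have hlt : G.deg d b < F.deg d b :=
        lt_of_le_of_ne (hmax G b hbG) (fun h => hGne (hmaxl G b hbG h hFG))
      have hdegG : G.deg d b = P.toLinearMap (rootSum P G.parab) y :=
        deg_eq_pair_of_corner_eq hbG (fun j hj => hycorner hb j ((hGs j).mp hj).1)
      rw [hdegG, hdegF hb] at hlt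
      have hsub := pair_rootSum_parab_sub hFG y
      have hterm : ∀ i ∈ (Set.toFinite (G.parab \ F.parab)).toFinset,
          P.toLinearMap (P.root i) y =
            P.toLinearMap (P.root i) (fundCoweight b j₀) * P.toLinearMap (P.root j₀) y := by
        intro i hi
        rw [Set.Finite.mem_toFinset] at hi
        obtain ⟨hFi, hGi⟩ := sgn_of_mem_parab_diff hFG hi
        rw [pair_eq_sum' b (P.root i) y, Finset.sum_eq_single j₀]
        · intro k _ hk
          rcases sgn_simple hb k with hk0 | hk1
          · rw [pair_root_eq_zero_of_mem_span_dualCarrier hyspan hk0, mul_zero]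
          · have hGk : G.sgn k = 1 := (hGs k).mpr ⟨hk1, hk⟩
            rcases (sgn_eq_zero_iff hbG i).mp hGi k with hz | hz
            · rw [(coef_eq_zero_iff b i k).mpr hz, zero_mul]
            · rw [hGk] at hz; exact absurd hz (by decide)
        · intro h; exact absurd (Finset.mem_univ _) h
      have hcoef : ∀ i ∈ (Set.toFinite (G.parab \ F.parab)).toFinset,
          P.toLinearMap (P.root i) (fundCoweight b j₀) ≤ 0 := by
        intro i hi
        rw [Set.Finite.mem_toFinset] at hi
        obtain ⟨hFi, hGi⟩ := sgn_of_mem_parab_diff hFG hi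
        have hnp : ¬ b.IsPos i := ((sgn_eq_neg_one_iff hb i).mp hFi).1
        exact (not_isPos_iff_coef b i).mp hnp j₀
      rw [Finset.sum_congr rfl hterm, ← Finset.sum_mul] at hsub
      have hC := Finset.sum_nonpos hcoef
      by_contra hle
      push Not at hle
      have := mul_nonneg_of_nonpos_of_nonpos hC hle
      linarith
  · -- the point lies in the dual solid
    rw [dualSolid_eq hd F]
    refine ⟨hy.1, ?_⟩
    simp only [Set.mem_iInter]
    intro m hm b'' hb''
    simp only [Facet.corners', Set.mem_iUnion] at hm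
    obtain ⟨b', hb', hmb'⟩ := hm
    rw [hd.corner_eq b'' b' m hb'' hmb']
    rw [baseCorners_eq_range] at hmb'
    obtain ⟨k, rfl⟩ := hmb'
    rcases sgn_simple hb' k with hk0 | hk1
    · obtain ⟨G, hbG, hGs⟩ :=
        exists_facet_simple_sgn b' {j : b'.support | F.sgn j = 1 ∨ j = k}
      have hGF : G ≤ F := le_of_simple hbG hb' (fun j hj => (hGs j).mpr (Or.inl hj))
      have hle := hmax G b' hbG
      rw [hdegF hb'] at hle
      have hsub := pair_rootSum_parab_sub hGF y
      have hzero : ∑ i ∈ (Set.toFinite (F.parab \ G.parab)).toFinset,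
          P.toLinearMap (P.root i) y = 0 := Finset.sum_eq_zero fun i hi => by
        rw [Set.Finite.mem_toFinset] at hi
        exact pair_root_eq_zero_of_mem_span_dualCarrier hyspan (sgn_of_mem_parab_diff hGF hi).2
      rw [hzero, sub_eq_zero] at hsub
      rw [hsub, deg_eq_pair, pair_eq_sum b' (rootSum P G.parab) (d b'),
        pair_eq_sum b' (rootSum P G.parab) y] at hle
      have hsgnG : ∀ l : b'.support,
          SignType.sign (P.toLinearMap (rootSum P G.parab) (P.coroot l)) = G.sgn l :=
        fun l => (mem_carrier_iff' G _).mp (sum_root_parab_mem_carrier G) l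
      have hgk : 0 < P.toLinearMap (rootSum P G.parab) (P.coroot k) := by
        have := hsgnG k
        rwa [(hGs k).mpr (Or.inr rfl), sign_eq_one_iff] at this
      have hrest : ∀ l ∈ (Finset.univ : Finset b'.support).erase k,
          P.toLinearMap (fundWeight b' l) (d b') *
              P.toLinearMap (rootSum P G.parab) (P.coroot l) =
            P.toLinearMap (fundWeight b' l) y *
              P.toLinearMap (rootSum P G.parab) (P.coroot l) := by
        intro l hl
        have hlk : l ≠ k := Finset.ne_of_mem_erase hl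
        rcases sgn_simple hbG l with hl0 | hl1
        · have := hsgnG l
          rw [hl0, sign_eq_zero_iff] at this
          rw [this, mul_zero, mul_zero]
        · have hFl : F.sgn l = 1 := ((hGs l).mp hl1).resolve_right hlk
          rw [hycorner hb' l hFl]
      rw [← Finset.add_sum_erase _ _ (Finset.mem_univ k),
        ← Finset.add_sum_erase _ _ (Finset.mem_univ k), Finset.sum_congr rfl hrest] at hle
      have h' : P.toLinearMap (fundWeight b' k) (d b') *
            P.toLinearMap (rootSum P G.parab) (P.coroot k) ≤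
          P.toLinearMap (fundWeight b' k) y *
            P.toLinearMap (rootSum P G.parab) (P.coroot k) := by linarith
      exact le_of_mul_le_mul_right h' hgk
    · exact (hycorner hb' k hk1).ge

instance finite_facet : Finite (Facet P) :=
  Finite.of_injective (fun F : Facet P => F.sgn) (fun F G h => Facet.ext h)

/-- S14246. -/
theorem existsUnique_isSpecial {d : P.Base → N} (hd : IsCCS d) :
    ∃! F : Facet P, IsSpecial d F := by
  classical
  let D : Facet P → R := fun F => F.deg d (Classical.choose (exists_mem_cham F))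
  have hD : ∀ (F : Facet P) (c : P.Base), c ∈ F.cham → F.deg d c = D F := fun F c hc =>
    deg_eq_deg_of_mem_cham hd F c _ hc (Classical.choose_spec (exists_mem_cham F))
  have : Nonempty (Facet P) := ⟨Facet.origin P⟩
  obtain ⟨F₀, hF₀⟩ := Finite.exists_max D
  obtain ⟨F, hFmax⟩ := (Set.toFinite {G : Facet P | D G = D F₀}).exists_maximal ⟨F₀, rfl⟩
  have hF1 : D F = D F₀ := hFmax.prop
  obtain ⟨b, hb⟩ := exists_mem_cham F
  have hspecial : IsSpecial d F := by
    apply isSpecial_of_maximal hd F b hb
    · intro G c hc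
      rw [hD G c hc, hD F b hb, hF1]
      exact hF₀ G
    · intro G c hc heq hFG
      rw [hD G c hc, hD F b hb] at heq
      have hG : G ∈ {G : Facet P | D G = D F₀} := heq.trans hF1
      exact le_antisymm (hFmax.le_of_ge hG hFG) hFG
  refine ⟨F, hspecial, fun F' hF' => ?_⟩
  obtain ⟨b', hb'⟩ := exists_mem_cham F'
  have h1 := deg_le_deg_of_isSpecial hd F b hb hspecial
  have h2 := deg_le_deg_of_isSpecial hd F' b' hb' hF'
  have heq : F'.deg d b' = F.deg d b := le_antisymm (h1.1 F' b' hb') (h2.1 F b hb)
  exact le_antisymm (h1.2 F' b' hb' heq) (h2.2 F b hb heq.symm)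

end Groth.Agent.Lib.Seat65.RootChN
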