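import Groth.Agent.Lib.Seat65RootChN

/-!
# Seat 65, RootCh library, part O

Special facets and invariant scalar products: the point of the special facet is the point of the
solid closest to the origin (S14244, S14245).
-/

set_option autoImplicit false
set_option linter.unusedSectionVars false
set_option linter.unusedVariables false
universe u v w x
open RootCh Module

namespace Groth.Agent.Lib.Seat65.RootChO

open Groth.Agent.Lib.Seat65.RootChA Groth.Agent.Lib.Seat65.RootChB Groth.Agent.Lib.Seat65.RootChC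
  Groth.Agent.Lib.Seat65.RootChD Groth.Agent.Lib.Seat65.RootChE Groth.Agent.Lib.Seat65.RootChF
  Groth.Agent.Lib.Seat65.RootChG Groth.Agent.Lib.Seat65.RootChH Groth.Agent.Lib.Seat65.RootChI
  Groth.Agent.Lib.Seat65.RootChJ Groth.Agent.Lib.Seat65.RootChK Groth.Agent.Lib.Seat65.RootChL
  Groth.Agent.Lib.Seat65.RootChM Groth.Agent.Lib.Seat65.RootChN

variable {ι : Type u} {R : Type v} {M : Type w} {N : Type x}
  [Field R] [LinearOrder R] [IsStrictOrderedRing R]
  [AddCommGroup M] [Module R M] [AddCommGroup N] [Module R N]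
  {P : RootPairing ι R M N} [Finite ι] [P.IsRootSystem] [P.IsCrystallographic] [P.IsReduced]

/-- An invariant form computed through the simple roots and the fundamental weights of a base. -/
lemma invForm_apply {B : LinearMap.BilinForm R N} (hB : InvForm P B) (b : P.Base) (y z : N) :
    B y z = ∑ k : b.support, P.toLinearMap (P.root k) y *
      (B (P.coroot k) (P.coroot k) / 2 * P.toLinearMap (fundWeight b k) z) := by
  have e' := congrArg (fun t => B t z) (expand_fundCoweight b y)
  simp only [map_sum, map_smul, LinearMap.sum_apply, LinearMap.smul_apply, smul_eq_mul,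
    invForm_fundCoweight_left hB] at e'
  exact e'

/-- S14244. -/
theorem exists_yLocus_eq_and_forall_lt {d : P.Base → N} (hd : IsCCS d)
    (B : LinearMap.BilinForm R N) (hBs : ∀ y z : N, B y z = B z y)
    (hBp : ∀ y : N, y ≠ 0 → 0 < B y y)
    (hBi : ∀ (i : ι) (y z : N), B (P.coreflection i y) (P.coreflection i z) = B y z)
    (F : Facet P) (hF : IsSpecial d F) :
    ∃ y₀ : N, yLocus d F = {y₀} ∧ y₀ ∈ solid d ∧
      ∀ y ∈ solid d, y ≠ y₀ → B y₀ y₀ < B y y := by
  have hB : InvForm P B := ⟨hBs, hBp, hBi⟩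
  obtain ⟨y₀, hy1, hy2⟩ := hF
  obtain ⟨b, hb⟩ := exists_mem_cham F
  have hyL : y₀ ∈ yLocus d F :=
    mem_yLocus_of_mem_dualSolid hd hy2 (Submodule.subset_span hy1)
  refine ⟨y₀, yLocus_eq_singleton_of_mem hd hyL, dualSolid_subset_solid d F hy2,
    fun y hy hne => ?_⟩
  have hkey : 0 ≤ B y₀ (y - y₀) := by
    rw [invForm_apply hB b y₀ (y - y₀)]
    refine Finset.sum_nonneg fun k _ => ?_
    have hsg := (mem_dualCarrier_iff hb y₀).mp hy1 k
    rcases sgn_simple hb k with h0 | h1
    · rw [h0, sign_eq_zero_iff] at hsg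
      rw [hsg, zero_mul]
    · rw [h1, sign_eq_one_iff] at hsg
      have hc := hB.coroot_pos (k : ι)
      have h3 : P.toLinearMap (fundWeight b k) y₀ = P.toLinearMap (fundWeight b k) (d b) :=
        corner_eq_of_mem_dualSolid hd hb hy2 k h1
      have h4 : P.toLinearMap (fundWeight b k) (d b) ≤ P.toLinearMap (fundWeight b k) y :=
        (mem_solid_iff hd y).mp hy b _ (fundWeight_mem_baseCorners b k)
      rw [map_sub, h3]
      exact mul_nonneg hsg.le (mul_nonneg (div_pos hc two_pos).le (by linarith))
  have hpos : 0 < B (y - y₀) (y - y₀) := hB.pos _ (sub_ne_zero.mpr hne)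
  have hexp : B y y = B y₀ y₀ + 2 * B y₀ (y - y₀) + B (y - y₀) (y - y₀) := by
    simp only [map_sub, LinearMap.sub_apply]
    rw [hB.symm y y₀]
    ring
  linarith

/-- S14245. -/
theorem isSpecial_of_minimal {d : P.Base → N} (hd : IsCCS d)
    (B : LinearMap.BilinForm R N) (hBs : ∀ y z : N, B y z = B z y)
    (hBp : ∀ y : N, y ≠ 0 → 0 < B y y)
    (hBi : ∀ (i : ι) (y z : N), B (P.coreflection i y) (P.coreflection i z) = B y z)
    (y₀ : N) (hy₀ : y₀ ∈ solid d) (hmin : ∀ y ∈ solid d, B y₀ y₀ ≤ B y y)
    (F : Facet P) (hF : y₀ ∈ F.dualCarrier) :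
    IsSpecial d F ∧ yLocus d F = {y₀} := by
  have hB : InvForm P B := ⟨hBs, hBp, hBi⟩
  -- the variational inequality
  have hvar : ∀ y ∈ solid d, 0 ≤ B y₀ (y - y₀) := by
    intro y hy
    by_contra hneg
    push Not at hneg
    set v := y - y₀ with hv
    set p := B y₀ v with hp
    have hvne : v ≠ 0 := by
      intro h
      rw [hp, h, map_zero] at hneg
      exact lt_irrefl _ hneg
    set q := B v v with hq
    have hqpos : 0 < q := hB.pos v hvne
    set t := min 1 (-p / q) with ht
    have ht0 : 0 < t := lt_min one_pos (div_pos (neg_pos.mpr hneg) hqpos)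
    have ht1 : t ≤ 1 := min_le_left _ _
    have ht2 : t ≤ -p / q := min_le_right _ _
    have hmem : y₀ + t • v ∈ solid d := by
      have e : y₀ + t • v = (1 - t) • y₀ + t • y := by
        rw [hv, smul_sub, sub_smul, one_smul]; abel
      rw [e]
      exact (convex_convexHull R _) hy₀ hy (by linarith) ht0.le (by ring)
    have h1 := hmin _ hmem
    have hexp : B (y₀ + t • v) (y₀ + t • v) = B y₀ y₀ + 2 * t * p + t * t * q := by
      simp only [map_add, map_smul, LinearMap.add_apply, LinearMap.smul_apply, smul_eq_mul]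
      rw [hB.symm v y₀]
      ring
    have h2 : t * q ≤ -p := (le_div_iff₀ hqpos).mp ht2
    rw [hexp] at h1
    nlinarith
  obtain ⟨b, hb⟩ := exists_mem_cham F
  have hdb : d b ∈ solid d := subset_convexHull R _ ⟨b, rfl⟩
  have hsol := (mem_solid_iff hd y₀).mp hy₀
  have h0 := hvar (d b) hdb
  rw [invForm_apply hB b y₀ (d b - y₀)] at h0
  have hterms : ∀ k ∈ (Finset.univ : Finset b.support), P.toLinearMap (P.root k) y₀ *
      (B (P.coroot k) (P.coroot k) / 2 * P.toLinearMap (fundWeight b k) (d b - y₀)) ≤ 0 := by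
    intro k _
    have hsg := (mem_dualCarrier_iff hb y₀).mp hF k
    rcases sgn_simple hb k with hk0 | hk1
    · rw [hk0, sign_eq_zero_iff] at hsg
      rw [hsg, zero_mul]
    · rw [hk1, sign_eq_one_iff] at hsg
      have h4 := hsol b _ (fundWeight_mem_baseCorners b k)
      have hc := hB.coroot_pos (k : ι)
      rw [map_sub]
      exact mul_nonpos_of_nonneg_of_nonpos hsg.le
        (mul_nonpos_of_nonneg_of_nonpos (div_pos hc two_pos).le (by linarith))
  have hsum0 := le_antisymm (Finset.sum_nonpos hterms) h0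
  have hzero := (Finset.sum_eq_zero_iff_of_nonpos hterms).mp hsum0
  have hcorner : ∀ k : b.support, F.sgn k = 1 →
      P.toLinearMap (fundWeight b k) y₀ = P.toLinearMap (fundWeight b k) (d b) := by
    intro k hk1
    have hsg := (mem_dualCarrier_iff hb y₀).mp hF k
    rw [hk1, sign_eq_one_iff] at hsg
    have hz := hzero k (Finset.mem_univ k)
    have hc := hB.coroot_pos (k : ι)
    rw [mul_eq_zero, mul_eq_zero] at hz
    rcases hz with h | h | h
    · exact absurd h hsg.ne'
    · exact absurd h (div_pos hc two_pos).ne'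
    · rw [map_sub, sub_eq_zero] at h
      exact h.symm
  have hds : y₀ ∈ dualSolid d F := by
    rw [dualSolid_eq hd F]
    constructor
    · simp only [Set.mem_iInter]
      intro m hm b' hb'
      have hm' := hm
      rw [corners_eq hb] at hm'
      obtain ⟨k, hk, rfl⟩ := hm'
      rw [hcorner k hk]
      exact hd.corner_eq b b' _ (fundWeight_mem_baseCorners b k) hb'
    · simp only [Set.mem_iInter]
      intro m _ b' hb'
      exact hsol b' m hb'
  exact ⟨⟨y₀, hF, hds⟩, yLocus_eq_singleton_of_mem hd
    (mem_yLocus_of_mem_dualSolid hd hds (Submodule.subset_span hF))⟩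

end Groth.Agent.Lib.Seat65.RootChO
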