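import Groth.Agent.Lib.Seat65HermC

/-!
Skew-hermitian matrices (`ε = -1`): splitting off a hyperbolic pair, diagonal scalings and
shears as congruences.
-/

set_option autoImplicit false

namespace Groth.Agent.Lib.Seat65.SkewA

open Matrix Groth.Agent.Lib.Seat65.HermA Groth.Agent.Lib.Seat65.HermB
  Groth.Agent.Lib.Seat65.HermC

variable {A : Type*} [CommRing A] (lam : A ≃+* A) {ι : Type*} [Fintype ι] [DecidableEq ι]

theorem single_eq_smul (j : ι) (c : A) : (Pi.single j c : ι → A) = c • Pi.single j 1 := by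
  funext k
  by_cases hk : k = j
  · subst hk; simp
  · simp [Pi.single_eq_of_ne hk]

/-- Congruence by a diagonal matrix. -/
theorem congr_diagonal (h : Matrix ι ι A) (d : ι → A) (j k : ι) :
    (st lam (diagonal d) * h * diagonal d) j k = lam (d j) * h j k * d k := by
  rw [congr_apply, diagonal_mulVec_single, diagonal_mulVec_single, mul_one, mul_one,
    single_eq_smul j, single_eq_smul k, sq_smul_left, sq_smul_right, sq_single_single]
  ring

/-- Splitting off a hyperbolic pair `(e_{i₁}, e_{i₂})` with `h i₁ i₂ = 1`. -/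
theorem exists_split_pair (hlam : Function.Involutive lam) {h : Matrix ι ι A}
    (hh : Herm lam (-1) h) (i₁ i₂ : ι) (hne : i₁ ≠ i₂)
    (h12 : h i₁ i₂ = 1) (hδ : IsUnit (1 + h i₁ i₁ * h i₂ i₂)) :
    ∃ v : Matrix ι ι A, IsUnit v ∧
      (st lam v * h * v) i₁ i₁ = h i₁ i₁ ∧ (st lam v * h * v) i₁ i₂ = 1 ∧
      (st lam v * h * v) i₂ i₁ = -1 ∧ (st lam v * h * v) i₂ i₂ = h i₂ i₂ ∧
      ∀ k, k ≠ i₁ → k ≠ i₂ →
        (st lam v * h * v) i₁ k = 0 ∧ (st lam v * h * v) k i₁ = 0 ∧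
        (st lam v * h * v) i₂ k = 0 ∧ (st lam v * h * v) k i₂ = 0 := by
  have h21 : h i₂ i₁ = -1 := by rw [hh.apply i₂ i₁, h12, map_one, mul_one]
  obtain ⟨δinv, hδ1⟩ := hδ.exists_right_inv
  obtain ⟨α, hα⟩ : ∃ α : ι → A, α = fun k => if k = i₁ ∨ k = i₂ then 0 else
      δinv * (h i₂ i₂ * h i₁ k - h i₂ k) := ⟨_, rfl⟩
  obtain ⟨β, hβ⟩ : ∃ β : ι → A, β = fun k => if k = i₁ ∨ k = i₂ then 0 else
      h i₁ k - α k * h i₁ i₁ := ⟨_, rfl⟩
  have hα1 : α i₁ = 0 := by simp [hα]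
  have hα2 : α i₂ = 0 := by simp [hα]
  have hβ1 : β i₁ = 0 := by simp [hβ]
  have hβ2 : β i₂ = 0 := by simp [hβ]
  obtain ⟨T₂, hT₂⟩ : ∃ T₂ : Matrix ι ι A, T₂ = 1 + vecMulVec (Pi.single i₁ 1) (-α) := ⟨_, rfl⟩
  obtain ⟨T₃, hT₃⟩ : ∃ T₃ : Matrix ι ι A, T₃ = 1 + vecMulVec (Pi.single i₂ 1) (-β) := ⟨_, rfl⟩
  have hT₂u : IsUnit T₂ := by
    rw [hT₂]
    exact isUnit_one_add_vecMulVec _ _ (by rw [dotProduct_single_one]; simp [hα1])
  have hT₃u : IsUnit T₃ := by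
    rw [hT₃]
    exact isUnit_one_add_vecMulVec _ _ (by rw [dotProduct_single_one]; simp [hβ2])
  obtain ⟨v, hv⟩ : ∃ v : Matrix ι ι A, v = T₂ * T₃ := ⟨_, rfl⟩
  have hvu : IsUnit v := hv ▸ hT₂u.mul hT₃u
  have hvy : ∀ y : ι → A, v *ᵥ y =
      y - (α ⬝ᵥ y) • Pi.single i₁ 1 - (β ⬝ᵥ y) • Pi.single i₂ 1 := by
    intro y
    rw [hv, ← Matrix.mulVec_mulVec, hT₃, one_add_vecMulVec_mulVec, hT₂,
      one_add_vecMulVec_mulVec]
    funext l
    simp only [neg_dotProduct, dotProduct_add, dotProduct_smul, dotProduct_single_one,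
      Pi.add_apply, Pi.smul_apply, Pi.sub_apply, Pi.neg_apply, smul_eq_mul, hα2]
    ring
  have hv1 : v *ᵥ Pi.single i₁ 1 = Pi.single i₁ 1 := by
    rw [hvy, dotProduct_single_one, dotProduct_single_one, hα1, hβ1]; simp
  have hv2 : v *ᵥ Pi.single i₂ 1 = Pi.single i₂ 1 := by
    rw [hvy, dotProduct_single_one, dotProduct_single_one, hα2, hβ2]; simp
  have hvk : ∀ k, k ≠ i₁ → k ≠ i₂ → v *ᵥ Pi.single k 1 =
      Pi.single k 1 - α k • Pi.single i₁ 1 - β k • Pi.single i₂ 1 := by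
    intro k _ _
    rw [hvy, dotProduct_single_one, dotProduct_single_one]
  obtain ⟨M, hM⟩ : ∃ M : Matrix ι ι A, M = st lam v * h * v := ⟨_, rfl⟩
  have hMh : Herm lam (-1) M := hM ▸ hh.congr hlam v
  have hM1k : ∀ k, k ≠ i₁ → k ≠ i₂ → M i₁ k = 0 := by
    intro k hk1 hk2
    rw [hM, congr_apply, hv1, hvk k hk1 hk2, sq_sub_right, sq_sub_right, sq_smul_right,
      sq_smul_right, sq_single_single, sq_single_single, sq_single_single, h12]
    have : β k = h i₁ k - α k * h i₁ i₁ := by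
      simp [hβ, hk1, hk2]
    rw [this]; ring
  have hM2k : ∀ k, k ≠ i₁ → k ≠ i₂ → M i₂ k = 0 := by
    intro k hk1 hk2
    rw [hM, congr_apply, hv2, hvk k hk1 hk2, sq_sub_right, sq_sub_right, sq_smul_right,
      sq_smul_right, sq_single_single, sq_single_single, sq_single_single, h21]
    have hb : β k = h i₁ k - α k * h i₁ i₁ := by
      simp [hβ, hk1, hk2]
    have ha : α k = δinv * (h i₂ i₂ * h i₁ k - h i₂ k) := by
      simp [hα, hk1, hk2]
    rw [hb]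
    have key : α k * (1 + h i₁ i₁ * h i₂ i₂) = h i₂ i₂ * h i₁ k - h i₂ k := by
      rw [ha]
      calc δinv * (h i₂ i₂ * h i₁ k - h i₂ k) * (1 + h i₁ i₁ * h i₂ i₂)
          = (h i₂ i₂ * h i₁ k - h i₂ k) * ((1 + h i₁ i₁ * h i₂ i₂) * δinv) := by ring
        _ = h i₂ i₂ * h i₁ k - h i₂ k := by rw [hδ1, mul_one]
    linear_combination key
  refine ⟨v, hvu, ?_, ?_, ?_, ?_, fun k hk1 hk2 => ⟨?_, ?_, ?_, ?_⟩⟩
  · rw [congr_apply, hv1, sq_single_single]
  · rw [congr_apply, hv1, hv2, sq_single_single, h12]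
  · rw [congr_apply, hv1, hv2, sq_single_single, h21]
  · rw [congr_apply, hv2, sq_single_single]
  · rw [← hM]; exact hM1k k hk1 hk2
  · rw [← hM, hMh.apply k i₁, hM1k k hk1 hk2, map_zero, mul_zero]
  · rw [← hM]; exact hM2k k hk1 hk2
  · rw [← hM, hMh.apply k i₂, hM2k k hk1 hk2, map_zero, mul_zero]

end Groth.Agent.Lib.Seat65.SkewA
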