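import Groth.Agent.Lib.Seat65SkewA
import Groth.Agent.S15577

/-!
Block form of invertible skew-hermitian matrices over a ring with involution which is trivial
modulo the Jacobson radical (fixed ring local, `2` invertible).
-/

set_option autoImplicit false

namespace Groth.Agent.Lib.Seat65.SkewB

open Matrix Groth.Agent.Lib.Seat65.HermA Groth.Agent.Lib.Seat65.HermB
  Groth.Agent.Lib.Seat65.HermC Groth.Agent.Lib.Seat65.SkewA Groth.Agent.Lib.Helper15.QuadEtale

universe u v

variable {B : Type u} {A : Type v} [CommRing B] [CommRing A] [Algebra B A]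
  (lam : A ≃+* A) (hlam : Function.Involutive lam) (hB : RInv.IsFixedRing B A lam)
  [IsLocalRing B] (hid : ∀ a : A, lam a - a ∈ Ring.jacobson A) (h2 : IsUnit (2 : A))

include hlam hid h2 in
/-- Diagonal entries of a skew-hermitian matrix lie in the radical. -/
theorem diag_mem {ι : Type*} [Fintype ι] [DecidableEq ι] {M : Matrix ι ι A}
    (hM : Herm lam (-1) M)
    (j : ι) : M j j ∈ Ring.jacobson A := by
  have h1 : M j j = -1 * lam (M j j) := hM.apply j j
  have h3 : lam (M j j) - M j j ∈ Ring.jacobson A := hid _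
  have h4 : lam (M j j) - M j j = -(2 * M j j) := by
    have : lam (M j j) = -M j j := by linear_combination h1
    rw [this]; ring
  rw [h4] at h3
  have h5 : 2 * M j j ∈ Ring.jacobson A := (Ideal.neg_mem_iff _).mp h3
  obtain ⟨t, ht⟩ := h2.exists_left_inv
  have h6 := Ideal.mul_mem_left _ t h5
  rwa [← mul_assoc, ht, one_mul] at h6

include hlam hB hid in
theorem isLocal : IsLocalRing A := (Groth.Agent.S15577.result B A lam hlam hB hid).1

/-- The standard decomposition of `Fin (n + 2)` into the last `n` and the first two indices. -/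
def e2 (n : ℕ) : Fin n ⊕ Fin 2 ≃ Fin (n + 2) where
  toFun := Sum.elim (fun j => ⟨j.val + 2, by omega⟩) (fun b => ⟨b.val, by omega⟩)
  invFun i := if h : i.val < 2 then Sum.inr ⟨i.val, h⟩ else Sum.inl ⟨i.val - 2, by omega⟩
  left_inv := by
    rintro (j | b)
    · simp
    · have := b.isLt
      simp
      omega
  right_inv := by
    intro i
    by_cases h : i.val < 2
    · simp [h]
    · simp only [h, ↓reduceDIte, Sum.elim_inl]
      apply Fin.ext
      simp only
      omega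

theorem e2_inl_val (n : ℕ) (j : Fin n) : ((e2 n (Sum.inl j) : Fin (n + 2)) : ℕ) = j.val + 2 := rfl

theorem e2_inr_val (n : ℕ) (b : Fin 2) : ((e2 n (Sum.inr b) : Fin (n + 2)) : ℕ) = b.val := rfl

/-- The block shape required of the final Gram matrix. -/
def SympJ (n : ℕ) (M : Matrix (Fin n) (Fin n) A) : Prop :=
  ∀ i j : Fin n,
    (i.val / 2 ≠ j.val / 2 → M i j = 0) ∧
    (i.val / 2 = j.val / 2 → (Even i.val ↔ Even j.val) → M i j ∈ Ring.jacobson A) ∧
    (i.val / 2 = j.val / 2 → Even i.val → ¬ Even j.val → M i j - 1 ∈ Ring.jacobson A) ∧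
    (i.val / 2 = j.val / 2 → ¬ Even i.val → Even j.val → M i j + 1 ∈ Ring.jacobson A)

include hlam hB hid in
/-- Some congruent matrix has a unit in position `(0, 1)`. -/
theorem exists_unit_01 {n : ℕ} {h : Matrix (Fin (n + 2)) (Fin (n + 2)) A}
    (hu : IsUnit h) :
    ∃ T : Matrix (Fin (n + 2)) (Fin (n + 2)) A, IsUnit T ∧ IsUnit ((st lam T * h * T) 0 1) := by
  have hloc : IsLocalRing A := isLocal lam hlam hB hid
  have hJ : Ring.jacobson A = IsLocalRing.maximalIdeal A :=
    IsLocalRing.ringJacobson_eq_maximalIdeal A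
  obtain ⟨w, hw1, -⟩ := isUnit_iff_exists.mp hu
  have hrow : ∑ k, h 0 k * w k 0 = 1 := by
    have := congrFun (congrFun hw1 0) 0
    simpa [Matrix.mul_apply] using this
  have hex : ∃ k, IsUnit (h 0 k) := by
    by_contra hcon
    push Not at hcon
    have : (∑ k, h 0 k * w k 0) ∈ IsLocalRing.maximalIdeal A :=
      Ideal.sum_mem _ fun k _ => Ideal.mul_mem_right _ _
        ((IsLocalRing.mem_maximalIdeal _).mpr (hcon k))
    rw [hrow] at this
    exact (IsLocalRing.mem_maximalIdeal _).mp this isUnit_one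
  obtain ⟨k, hk⟩ := hex
  by_cases h01 : IsUnit (h 0 1)
  · refine ⟨1, isUnit_one, ?_⟩
    rw [st_one, Matrix.one_mul, Matrix.mul_one]; exact h01
  have hk1 : k ≠ 1 := fun hk1 => h01 (hk1 ▸ hk)
  have h01J : h 0 1 ∈ Ring.jacobson A := by
    rw [hJ]; exact (IsLocalRing.mem_maximalIdeal _).mpr h01
  obtain ⟨T, hT⟩ : ∃ T : Matrix (Fin (n + 2)) (Fin (n + 2)) A,
      T = 1 + vecMulVec (Pi.single k 1) (Pi.single 1 1) := ⟨_, rfl⟩
  have hTu : IsUnit T := by
    rw [hT]
    exact isUnit_one_add_vecMulVec _ _ (by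
      rw [single_one_dotProduct]; exact Pi.single_eq_of_ne hk1.symm _)
  have hT0 : T *ᵥ Pi.single 0 1 = Pi.single 0 1 := by
    rw [hT, one_add_vecMulVec_mulVec, single_one_dotProduct,
      Pi.single_eq_of_ne (by exact Fin.zero_ne_one.symm), zero_smul, add_zero]
  have hT1 : T *ᵥ Pi.single 1 1 = Pi.single 1 1 + Pi.single k 1 := by
    rw [hT, one_add_vecMulVec_mulVec, single_one_dotProduct, Pi.single_eq_same, one_smul]
  refine ⟨T, hTu, ?_⟩
  rw [congr_apply, hT0, hT1, sq_add_right, sq_single_single, sq_single_single, add_comm]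
  exact isUnit_add_of_mem_jacobson hk h01J

include hlam hB hid h2 in
/-- A hyperbolic pair can be split off in positions `0` and `1`. -/
theorem exists_split_01 {n : ℕ} {h : Matrix (Fin (n + 2)) (Fin (n + 2)) A}
    (hh : Herm lam (-1) h) (hu : IsUnit h) :
    ∃ v : Matrix (Fin (n + 2)) (Fin (n + 2)) A, IsUnit v ∧
      (st lam v * h * v) 0 1 = 1 ∧ (st lam v * h * v) 1 0 = -1 ∧
      ∀ k : Fin (n + 2), k ≠ 0 → k ≠ 1 →
        (st lam v * h * v) 0 k = 0 ∧ (st lam v * h * v) k 0 = 0 ∧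
        (st lam v * h * v) 1 k = 0 ∧ (st lam v * h * v) k 1 = 0 := by
  obtain ⟨T, hTu, hT01⟩ := exists_unit_01 lam hlam hB hid hu
  obtain ⟨h₁, hh₁⟩ : ∃ h₁ : Matrix (Fin (n + 2)) (Fin (n + 2)) A, h₁ = st lam T * h * T :=
    ⟨_, rfl⟩
  rw [← hh₁] at hT01
  have hh₁h : Herm lam (-1) h₁ := hh₁ ▸ hh.congr hlam T
  obtain ⟨t, ht⟩ := hT01.exists_right_inv
  have htu : IsUnit t := IsUnit.of_mul_eq_one _ (by rw [mul_comm]; exact ht)
  obtain ⟨d, hd⟩ : ∃ d : Fin (n + 2) → A, d = Function.update (1 : Fin (n + 2) → A) 1 t := ⟨_, rfl⟩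
  have hne01 : (0 : Fin (n + 2)) ≠ 1 := Fin.zero_ne_one
  have hd0 : d 0 = 1 := by
    rw [hd, Function.update_of_ne hne01]; rfl
  have hd1 : d 1 = t := by rw [hd, Function.update_self]
  have hDu : IsUnit (diagonal d) := by
    rw [Matrix.isUnit_diagonal, Pi.isUnit_iff]
    intro i
    by_cases hi : i = 1
    · subst hi; rw [hd1]; exact htu
    · rw [hd, Function.update_of_ne hi]; exact isUnit_one
  obtain ⟨h₂, hh₂⟩ : ∃ h₂ : Matrix (Fin (n + 2)) (Fin (n + 2)) A,
      h₂ = st lam (diagonal d) * h₁ * diagonal d := ⟨_, rfl⟩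
  have hh₂h : Herm lam (-1) h₂ := hh₂ ▸ hh₁h.congr hlam _
  have h₂01 : h₂ 0 1 = 1 := by
    rw [hh₂, congr_diagonal, hd0, hd1, map_one, one_mul, ht]
  have hδ : IsUnit (1 + h₂ 0 0 * h₂ 1 1) :=
    isUnit_add_of_mem_jacobson isUnit_one
      (Ideal.mul_mem_right _ _ (diag_mem lam hlam hid h2 hh₂h 0))
  obtain ⟨v₃, hv₃u, -, hv01, hv10, -, hvk⟩ :=
    exists_split_pair lam hlam hh₂h 0 1 hne01 h₂01 hδ
  have hmul : st lam (T * diagonal d * v₃) * h * (T * diagonal d * v₃) =
      st lam v₃ * h₂ * v₃ := by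
    rw [st_mul, st_mul, hh₂, hh₁]
    simp only [Matrix.mul_assoc]
  refine ⟨T * diagonal d * v₃, (hTu.mul hDu).mul hv₃u, ?_, ?_, ?_⟩
  · rw [hmul]; exact hv01
  · rw [hmul]; exact hv10
  · rw [hmul]; exact hvk

end Groth.Agent.Lib.Seat65.SkewB
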