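import Groth.Agent.Lib.Seat65SpSeqPage
import Groth.Agent.Lib.Helper10SpSeq

/-!
# The limit term `ZTop / BBot` of the spectral sequence of a filtered complex is `gr^p H^n`
-/

set_option autoImplicit false
universe v u
open CategoryTheory CategoryTheory.Limits SpSeq

namespace Groth.Agent.Lib.Seat65.SpSeqAbut

open Groth.Agent.Lib.Seat65.SubQ Groth.Agent.Lib.Seat65.SpSeqPage

variable {A : Type u} [Category.{v} A] [Abelian A] (K : FilCx A)

lemma next_eq (n : ℤ) : (ComplexShape.up ℤ).next n = n + 1 := CochainComplex.next ℤ n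
lemma prev_eq (n : ℤ) : (ComplexShape.up ℤ).prev n = n - 1 := CochainComplex.prev ℤ n

lemma factors_filX_iff {T : A} (p n : ℤ) (a : T ⟶ K.obj.X n) :
    (K.filX p n).Factors a ↔ ∃ b : T ⟶ (K.fil p : CochainComplex A ℤ).X n,
      b ≫ (K.fil p).arrow.f n = a :=
  Subobject.mk_factors_iff _ _

/-- an element of `F^p K^n` killed by `d` comes from a cycle of the subcomplex `F^p K` -/
lemma exists_cycle_of_factors {T : A} (p n m : ℤ) (a : T ⟶ K.obj.X n)
    (ha : (K.filX p n).Factors a) (hd : a ≫ K.obj.d n m = 0) :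
    ∃ b : T ⟶ (K.fil p : CochainComplex A ℤ).X n,
      b ≫ (K.fil p).arrow.f n = a ∧ b ≫ (K.fil p : CochainComplex A ℤ).d n m = 0 := by
  obtain ⟨b, hb⟩ := (factors_filX_iff K p n a).mp ha
  refine ⟨b, hb, ?_⟩
  rw [← cancel_mono ((K.fil p).arrow.f m), Category.assoc, ← (K.fil p).arrow.comm,
    ← Category.assoc, hb, hd, zero_comp]

lemma factors_filH_iff {T : A} (p n : ℤ) (a : T ⟶ K.obj.homology n) :
    (K.filH p n).Factors a ↔
      ∃ (T' : A) (π : T' ⟶ T) (_ : Epi π) (b : T' ⟶ (K.fil p : CochainComplex A ℤ).X n)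
        (hb : b ≫ (K.fil p : CochainComplex A ℤ).d n (n + 1) = 0),
        π ≫ a = K.obj.liftCycles (b ≫ (K.fil p).arrow.f n) (n + 1) (next_eq n)
          (by rw [Category.assoc, (K.fil p).arrow.comm, reassoc_of% hb, zero_comp]) ≫
            K.obj.homologyπ n := by
  unfold FilCx.filH
  rw [factors_image_iff]
  constructor
  · rintro ⟨T₁, π₁, hπ₁, h, e⟩
    obtain ⟨T₂, π₂, hπ₂, z, hz, e₂⟩ :=
      (K.fil p : CochainComplex A ℤ).eq_liftCycles_homologyπ_up_to_refinements h (n + 1) (next_eq n)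
    refine ⟨T₂, π₂ ≫ π₁, inferInstance, z, hz, ?_⟩
    rw [Category.assoc, e, ← Category.assoc, e₂, Category.assoc,
      HomologicalComplex.homologyπ_naturality, ← Category.assoc,
      HomologicalComplex.liftCycles_comp_cyclesMap]
  · rintro ⟨T₁, π₁, hπ₁, b, hb, e⟩
    refine ⟨T₁, π₁, hπ₁, (K.fil p : CochainComplex A ℤ).liftCycles b (n + 1) (next_eq n) hb ≫
      (K.fil p : CochainComplex A ℤ).homologyπ n, ?_⟩
    rw [e]
    simp only [Category.assoc, HomologicalComplex.homologyπ_naturality,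
      HomologicalComplex.liftCycles_comp_cyclesMap_assoc]

/-- the subobject `F^p ⊓ ker d ⊔ im d` of `K^n` whose classes form `F^p H^n` -/
noncomputable def HSub (p n : ℤ) : Subobject (K.obj.X n) :=
  (K.filX p n ⊓ kernelSubobject (K.obj.d n (n + 1))) ⊔ imageSubobject (K.obj.d (n - 1) n)

lemma liftCycles_factors_filH_iff {T : A} (p n : ℤ) (z : T ⟶ K.obj.X n)
    (hz : z ≫ K.obj.d n (n + 1) = 0) :
    (K.filH p n).Factors (K.obj.liftCycles z (n + 1) (next_eq n) hz ≫ K.obj.homologyπ n) ↔
      (HSub K p n).Factors z := by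
  constructor
  · intro h
    obtain ⟨T₁, π₁, hπ₁, b, hb, e⟩ := (factors_filH_iff K p n _).mp h
    rw [← Category.assoc, HomologicalComplex.comp_liftCycles] at e
    obtain ⟨T₂, π₂, hπ₂, x₁, e₂⟩ :=
      (K.obj.liftCycles_comp_homologyπ_eq_iff_up_to_refinements (n - 1) n (n + 1) (prev_eq n)
        (next_eq n) _ _ _ _).mp e
    apply factors_of_epi_comp _ (π₂ ≫ π₁)
    rw [Category.assoc, e₂]
    unfold HSub
    refine Subobject.factors_add _ _ (Subobject.sup_factors_of_factors_left ?_)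
      (Subobject.sup_factors_of_factors_right (imageSubobject_factors_comp_self _ _))
    rw [Subobject.inf_factors, kernelSubobject_factors_iff]
    refine ⟨factors_precomp _ _ _ ((factors_filX_iff K p n _).mpr ⟨b, rfl⟩), ?_⟩
    rw [Category.assoc, Category.assoc, (K.fil p).arrow.comm, reassoc_of% hb, zero_comp, comp_zero]
  · intro h
    unfold HSub at h
    obtain ⟨T₁, π₁, hπ₁, u, v, hu, hv, e⟩ := (factors_sup_iff _ _ _).mp h
    rw [Subobject.inf_factors, kernelSubobject_factors_iff] at hu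
    obtain ⟨b, hb, hbd⟩ := exists_cycle_of_factors K p n (n + 1) u hu.1 hu.2
    obtain ⟨T₂, π₂, hπ₂, x₁, e₂⟩ := (factors_image_iff _ _).mp hv
    apply factors_of_epi_comp _ (π₂ ≫ π₁)
    rw [(factors_filH_iff K p n _)]
    refine ⟨T₂, 𝟙 _, inferInstance, π₂ ≫ b, by rw [Category.assoc, hbd, comp_zero], ?_⟩
    rw [Category.id_comp, ← Category.assoc, HomologicalComplex.comp_liftCycles]
    rw [K.obj.liftCycles_comp_homologyπ_eq_iff_up_to_refinements (n - 1) n (n + 1) (prev_eq n)
        (next_eq n)]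
    refine ⟨T₂, 𝟙 _, inferInstance, x₁, ?_⟩
    rw [Category.id_comp, Category.id_comp, Category.assoc, e, Preadditive.comp_add, e₂,
      Category.assoc, hb]

lemma BBot_le_ZTop (p n : ℤ) : K.BBot p n ≤ K.ZTop p n := by
  unfold FilCx.BBot FilCx.ZTop
  refine sup_le_sup_right (inf_le_inf_left _ ?_) _
  have := image_d_le_kernel K n ⊤
  refine le_trans ?_ this
  have h : IsIso (⊤ : Subobject (K.obj.X (n - 1))).arrow := inferInstance
  rw [imageSubobject_iso_comp]

/-- elements of `ZTop` killed by `d` lie in `F^p` -/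
lemma ZTop_inf_ker_le (p n : ℤ) :
    K.ZTop p n ⊓ kernelSubobject (K.obj.d n (n + 1)) ≤
      K.filX p n ⊓ kernelSubobject (K.obj.d n (n + 1)) := by
  refine le_inf (inf_le_left.trans ?_) inf_le_right
  unfold FilCx.ZTop
  exact sup_le inf_le_left (K.filX_anti n (by omega))

lemma BBot_inf_ker_le (p n : ℤ) :
    K.BBot p n ⊓ kernelSubobject (K.obj.d n (n + 1)) ≤ HSub K (p + 1) n := by
  rw [le_iff_forall_factors]
  intro T a ha
  rw [Subobject.inf_factors, kernelSubobject_factors_iff] at ha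
  obtain ⟨haB, hd⟩ := ha
  unfold FilCx.BBot at haB
  obtain ⟨T₁, π₁, hπ₁, u, v, hu, hv, e⟩ := (factors_sup_iff _ _ _).mp haB
  rw [Subobject.inf_factors] at hu
  apply factors_of_epi_comp _ π₁
  rw [e, add_comm u v]
  unfold HSub
  refine Subobject.factors_add _ _ (Subobject.sup_factors_of_factors_left ?_)
    (Subobject.sup_factors_of_factors_right hu.2)
  rw [Subobject.inf_factors, kernelSubobject_factors_iff]
  refine ⟨hv, ?_⟩
  have hu0 : u ≫ K.obj.d n (n + 1) = 0 := by
    obtain ⟨T₂, π₂, hπ₂, x, hx⟩ := (factors_image_iff _ _).mp hu.2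
    rw [← cancel_epi π₂, ← Category.assoc, hx, Category.assoc, K.obj.d_comp_d, comp_zero, comp_zero]
  have : (u + v) ≫ K.obj.d n (n + 1) = 0 := by rw [← e, Category.assoc, hd, comp_zero]
  rwa [Preadditive.add_comp, hu0, zero_add] at this

lemma ZTop_inf_HSub_le (p n : ℤ) :
    (K.ZTop p n ⊓ kernelSubobject (K.obj.d n (n + 1))) ⊓ HSub K (p + 1) n ≤ K.BBot p n := by
  rw [le_iff_forall_factors]
  intro T a ha
  rw [Subobject.inf_factors] at ha
  obtain ⟨ha1, ha2⟩ := ha
  have haF : (K.filX p n).Factors a :=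
    Subobject.factors_left_of_inf_factors (Subobject.factors_of_le _ (ZTop_inf_ker_le K p n) ha1)
  unfold HSub at ha2
  obtain ⟨T₁, π₁, hπ₁, u, v, hu, hv, e⟩ := (factors_sup_iff _ _ _).mp ha2
  rw [Subobject.inf_factors] at hu
  apply factors_of_epi_comp _ π₁
  rw [e, add_comm u v]
  unfold FilCx.BBot
  refine Subobject.factors_add _ _ (Subobject.sup_factors_of_factors_left ?_)
    (Subobject.sup_factors_of_factors_right hu.1)
  rw [Subobject.inf_factors]
  refine ⟨?_, hv⟩
  have : v = π₁ ≫ a - u := by rw [e]; abel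
  rw [this]
  exact factors_sub _ _ _ (factors_precomp _ _ _ haF)
    (Subobject.factors_of_le _ (K.filX_anti n (by omega)) hu.1)

variable {P : ObjectProperty A} (hP : IsWS P)

include hP in
/-- the limit term is `gr^p H^n` up to isomorphism, hence they are in `P` together -/
theorem P_gr_iff (p n : ℤ) :
    P (SQ.mk (K.ZTop p n) (K.BBot p n) (BBot_le_ZTop K p n)).obj ↔ P ((K.HFil n).gr p) := by
  let ι := K.obj.iCycles n
  let π := K.obj.homologyπ n
  let Sc : SQ (K.obj.cycles n) := ⟨(Subobject.pullback ι).obj (K.ZTop p n),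
    (Subobject.pullback ι).obj (K.BBot p n), (Subobject.pullback ι).monotone (BBot_le_ZTop K p n)⟩
  let S₁ : SQ (K.obj.X n) := ⟨K.ZTop p n, K.BBot p n, BBot_le_ZTop K p n⟩
  let S₂ : SQ (K.obj.homology n) := ⟨K.filH p n, K.filH (p + 1) n, K.filH_anti n (by omega)⟩
  -- general facts about elements of cycles
  have hcyc : ∀ {T : A} (c : T ⟶ K.obj.cycles n),
      c = K.obj.liftCycles (c ≫ ι) (n + 1) (next_eq n)
        (by rw [Category.assoc, K.obj.iCycles_d, comp_zero]) := by
    intro T c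
    rw [← cancel_mono (K.obj.iCycles n), HomologicalComplex.liftCycles_i]
  have hπ_iff : ∀ {T : A} (c : T ⟶ K.obj.cycles n) (q : ℤ),
      (K.filH q n).Factors (c ≫ π) ↔ (HSub K q n).Factors (c ≫ ι) := by
    intro T c q
    rw [← liftCycles_factors_filH_iff K q n (c ≫ ι)
      (by rw [Category.assoc, K.obj.iCycles_d, comp_zero]), ← hcyc c]
  have hker : ∀ {T : A} (c : T ⟶ K.obj.cycles n),
      (kernelSubobject (K.obj.d n (n + 1))).Factors (c ≫ ι) := by
    intro T c
    rw [kernelSubobject_factors_iff, Category.assoc, K.obj.iCycles_d, comp_zero]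
  -- φ₁ : Sc ≅ S₁
  have h1m : Mono (SQ.map ι Sc S₁ le_rfl le_rfl) := SQ.mono_map _ _ _ _ _ inf_le_right
  have h1e : Epi (SQ.map ι Sc S₁ le_rfl le_rfl) := by
    apply SQ.epi_map
    rw [le_iff_forall_factors]
    intro T a ha
    change (K.ZTop p n).Factors a at ha
    have ha' := ha
    unfold FilCx.ZTop at ha'
    obtain ⟨T₁, π₁, hπ₁, u, v, hu, hv, e⟩ := (factors_sup_iff _ _ _).mp ha'
    apply factors_of_epi_comp _ π₁
    rw [e]
    refine Subobject.factors_add _ _ (Subobject.sup_factors_of_factors_left ?_)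
      (Subobject.sup_factors_of_factors_right ?_)
    · have hu' := hu
      rw [Subobject.inf_factors, kernelSubobject_factors_iff] at hu'
      have : u = K.obj.liftCycles u (n + 1) (next_eq n) hu'.2 ≫ ι :=
        (HomologicalComplex.liftCycles_i _ _ _ _ _).symm
      rw [this]
      apply factors_img_of_factors
      change ((Subobject.pullback ι).obj (K.ZTop p n)).Factors _
      rw [pullback_factors_iff, ← this]
      unfold FilCx.ZTop
      exact Subobject.sup_factors_of_factors_left hu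
    · change (K.BBot p n).Factors v
      unfold FilCx.BBot
      exact Subobject.sup_factors_of_factors_right hv
  -- φ₂ : Sc ≅ S₂
  have hZ₂ : Sc.Z ≤ (Subobject.pullback π).obj S₂.Z := by
    rw [le_iff_forall_factors]
    intro T c hc
    change ((Subobject.pullback ι).obj (K.ZTop p n)).Factors c at hc
    rw [pullback_factors_iff] at hc
    rw [pullback_factors_iff]
    change (K.filH p n).Factors (c ≫ π)
    rw [hπ_iff]
    unfold HSub
    exact Subobject.sup_factors_of_factors_left (Subobject.factors_of_le _ (ZTop_inf_ker_le K p n)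
      ((Subobject.inf_factors _).mpr ⟨hc, hker c⟩))
  have hB₂ : Sc.B ≤ (Subobject.pullback π).obj S₂.B := by
    rw [le_iff_forall_factors]
    intro T c hc
    change ((Subobject.pullback ι).obj (K.BBot p n)).Factors c at hc
    rw [pullback_factors_iff] at hc
    rw [pullback_factors_iff]
    change (K.filH (p + 1) n).Factors (c ≫ π)
    rw [hπ_iff]
    exact Subobject.factors_of_le _ (BBot_inf_ker_le K p n)
      ((Subobject.inf_factors _).mpr ⟨hc, hker c⟩)
  have h2m : Mono (SQ.map π Sc S₂ hZ₂ hB₂) := by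
    apply SQ.mono_map
    rw [le_iff_forall_factors]
    intro T c hc
    rw [Subobject.inf_factors] at hc
    obtain ⟨hc1, hc2⟩ := hc
    change ((Subobject.pullback ι).obj (K.ZTop p n)).Factors c at hc1
    rw [pullback_factors_iff] at hc1 hc2
    change (K.filH (p + 1) n).Factors (c ≫ π) at hc2
    rw [hπ_iff] at hc2
    change ((Subobject.pullback ι).obj (K.BBot p n)).Factors c
    rw [pullback_factors_iff]
    exact Subobject.factors_of_le _ (ZTop_inf_HSub_le K p n)
      ((Subobject.inf_factors _).mpr ⟨(Subobject.inf_factors _).mpr ⟨hc1, hker c⟩, hc2⟩)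
  have h2e : Epi (SQ.map π Sc S₂ hZ₂ hB₂) := by
    apply SQ.epi_map
    refine le_trans ?_ le_sup_left
    rw [le_iff_forall_factors]
    intro T a ha
    change (K.filH p n).Factors a at ha
    obtain ⟨T₁, π₁, hπ₁, b, hb, e⟩ := (factors_filH_iff K p n a).mp ha
    apply factors_of_epi_comp _ π₁
    rw [e]
    apply factors_img_of_factors
    change ((Subobject.pullback ι).obj (K.ZTop p n)).Factors _
    rw [pullback_factors_iff, HomologicalComplex.liftCycles_i]
    unfold FilCx.ZTop
    apply Subobject.sup_factors_of_factors_left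
    rw [Subobject.inf_factors, kernelSubobject_factors_iff]
    refine ⟨(factors_filX_iff K p n _).mpr ⟨b, rfl⟩, ?_⟩
    rw [Category.assoc, (K.fil p).arrow.comm, reassoc_of% hb, zero_comp]
  exact ((@IsWS.of_mono_epi _ _ _ _ hP _ _ (SQ.map ι Sc S₁ le_rfl le_rfl) h1m h1e).symm).trans
    (@IsWS.of_mono_epi _ _ _ _ hP _ _ (SQ.map π Sc S₂ hZ₂ hB₂) h2m h2e)

/-! ### finite filtrations -/

lemma isZero_of_eq_bot {X : A} (S : Subobject X) (h : S = ⊥) : IsZero (S : A) := by
  subst h
  exact IsZero.of_iso (isZero_zero A) Subobject.botCoeIsoZero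

include hP in
theorem P_of_gr_finite (F : FilObj A) (hfin : F.IsFinite) (hgr : ∀ p : ℤ, P (F.gr p)) :
    P F.obj := by
  obtain ⟨⟨a, ha⟩, ⟨b, hb⟩⟩ := hfin
  have hstep : ∀ k : ℕ, P (F.step (b - k)) := by
    intro k
    induction k with
    | zero =>
      apply hP.of_isZero
      apply isZero_of_eq_bot
      rw [show b - ((0 : ℕ) : ℤ) = b by simp]
      exact hb
    | succ k ih =>
      have e : b - ((k + 1 : ℕ) : ℤ) + 1 = b - k := by push_cast; ring
      have ih' : P (F.step (b - ((k + 1 : ℕ) : ℤ) + 1)) := by rw [e]; exact ih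
      let i := (F.fil (b - ((k + 1 : ℕ) : ℤ) + 1)).ofLE (F.fil (b - ((k + 1 : ℕ) : ℤ)))
        (F.anti (Int.le_add_one le_rfl))
      have w : i ≫ cokernel.π i = 0 := cokernel.condition _
      have hex : (ShortComplex.mk _ _ w).Exact := ShortComplex.exact_cokernel i
      exact hP.ext i (cokernel.π i) w hex ih' (hgr _)
  have htop : F.fil (b - ((b - a).toNat : ℤ)) = ⊤ :=
    top_le_iff.mp (ha ▸ F.anti (by omega))
  have hiso : IsIso (F.fil (b - ((b - a).toNat : ℤ))).arrow :=
    (Subobject.isIso_arrow_iff_eq_top _).mpr htop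
  exact hP.iso (asIso (F.fil (b - ((b - a).toNat : ℤ))).arrow) (hstep _)

/-! ### stabilisation of the pages for degreewise finite filtrations -/

open Groth.Agent.Lib.Helper10.SpSeqLib in
lemma ZSub_eq_ZTop {b p n : ℤ} {s : ℕ} (hb : K.filX b (n + 1) = ⊥) (h : b ≤ p + s) :
    K.ZSub s p n = K.ZTop p n := by
  unfold FilCx.ZSub FilCx.ZTop
  rw [filX_eq_bot_of_le K hb h, pullback_bot]

open Groth.Agent.Lib.Helper10.SpSeqLib in
lemma BSub_eq_BBot {a p n : ℤ} {s : ℕ} (ha : K.filX a (n - 1) = ⊤) (h : p - s + 1 ≤ a) :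
    K.BSub s p n = K.BBot p n := by
  have htop : K.filX (p - (s : ℤ) + 1) (n - 1) = ⊤ := filX_eq_top_of_le K ha h
  have : IsIso (K.filX (p - (s : ℤ) + 1) (n - 1)).arrow :=
    (Subobject.isIso_arrow_iff_eq_top _).mpr htop
  unfold FilCx.BSub FilCx.BBot
  rw [imageSubobject_iso_comp]

include hP in
/-- S6793: if some page lies in a weak Serre class then so does the cohomology. -/
theorem homology_mem (hK : ∀ n : ℤ, (K.XFil n).IsFinite) (r : ℕ)
    (hr : ∀ p n : ℤ, P (K.E r p n)) (n : ℤ) : P (K.obj.homology n) := by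
  refine P_of_gr_finite hP (K.HFil n)
    (Groth.Agent.Lib.Helper10.SpSeqLib.hFil_isFinite K hK n) (fun p => ?_)
  obtain ⟨⟨a, ha⟩, -⟩ := hK (n - 1)
  obtain ⟨-, ⟨b, hb⟩⟩ := hK (n + 1)
  change K.filX a (n - 1) = ⊤ at ha
  change K.filX b (n + 1) = ⊥ at hb
  let s : ℕ := max r (max (b - p).toNat (p + 1 - a).toNat)
  have hs : P (K.E s p n) := page_ge K hP r hr s (le_max_left _ _) p n
  rw [← P_gr_iff K hP p n]
  refine P_congr (K.BSub_le_ZSub s p n) _ (ZSub_eq_ZTop K hb ?_) (BSub_eq_BBot K ha ?_) hs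
  · have : (b - p).toNat ≤ s := (le_max_left _ _).trans (le_max_right _ _)
    omega
  · have : (p + 1 - a).toNat ≤ s := (le_max_right _ _).trans (le_max_right _ _)
    omega

end Groth.Agent.Lib.Seat65.SpSeqAbut
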