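import Groth.Agent.Lib.Seat65SpSeqAbut

/-!
# Convergence of the spectral sequence of a filtered complex from conditions on `H^n(F^p K)`
-/

set_option autoImplicit false
universe v u
open CategoryTheory CategoryTheory.Limits SpSeq

namespace Groth.Agent.Lib.Seat65.SpSeqConv

open Groth.Agent.Lib.Seat65.SubQ Groth.Agent.Lib.Seat65.SpSeqPage Groth.Agent.Lib.Seat65.SpSeqAbut

variable {A : Type u} [Category.{v} A] [Abelian A] (K : FilCx A)

/-! ### translating conditions on the homology of the steps into inequalities of subobjects -/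

lemma ker_le_of_isZero_homology (p l n m : ℤ) (hl : l + 1 = n) (hm : n + 1 = m)
    (h : IsZero ((K.fil p : CochainComplex A ℤ).homology n)) :
    K.filX p n ⊓ kernelSubobject (K.obj.d n m) ≤ img (K.obj.d l n) (K.filX p l) := by
  rw [le_iff_forall_factors]
  intro T a ha
  rw [Subobject.inf_factors, kernelSubobject_factors_iff] at ha
  obtain ⟨b, hb, hbd⟩ := exists_cycle_of_factors K p n m a ha.1 ha.2
  have hex : (K.fil p : CochainComplex A ℤ).ExactAt n :=
    (HomologicalComplex.exactAt_iff_isZero_homology _ _).mpr h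
  obtain ⟨T', π, hπ, x₁, e⟩ := ((K.fil p : CochainComplex A ℤ).exactAt_iff_exact_up_to_refinements
    l n m ((prev_eq n).trans (by omega)) ((next_eq n).trans (by omega))).mp hex b hbd
  apply factors_of_epi_comp _ π
  rw [factors_img_iff]
  refine ⟨T', 𝟙 _, inferInstance, x₁ ≫ (K.fil p).arrow.f l,
    (factors_filX_iff K p l _).mpr ⟨x₁, rfl⟩, ?_⟩
  rw [Category.id_comp, ← hb, ← Category.assoc, e, Category.assoc, Category.assoc,
    (K.fil p).arrow.comm]

lemma inf_image_le_of_mono (p l n m : ℤ) (hl : l + 1 = n) (hm : n + 1 = m)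
    (h : Mono (HomologicalComplex.homologyMap (K.fil p).arrow n)) :
    K.filX p n ⊓ imageSubobject (K.obj.d l n) ≤ img (K.obj.d l n) (K.filX p l) := by
  rw [le_iff_forall_factors]
  intro T a ha
  rw [Subobject.inf_factors] at ha
  obtain ⟨T₁, π₁, hπ₁, y₁, e₁⟩ := (factors_image_iff _ _).mp ha.2
  have had : a ≫ K.obj.d n m = 0 := by
    rw [← cancel_epi π₁, ← Category.assoc, e₁, Category.assoc, K.obj.d_comp_d, comp_zero,
      comp_zero]
  obtain ⟨b, hb, hbd⟩ := exists_cycle_of_factors K p n m a ha.1 had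
  obtain ⟨T₂, π₂, hπ₂, x₁, e₂⟩ := (HomologicalComplex.mono_homologyMap_iff_up_to_refinements
    (K.fil p).arrow l n m ((prev_eq n).trans (by omega)) ((next_eq n).trans (by omega))).mp h
    (π₁ ≫ b) (by rw [Category.assoc, hbd, comp_zero]) y₁ (by rw [Category.assoc, hb, e₁])
  apply factors_of_epi_comp _ (π₂ ≫ π₁)
  rw [factors_img_iff]
  refine ⟨T₂, 𝟙 _, inferInstance, x₁ ≫ (K.fil p).arrow.f l,
    (factors_filX_iff K p l _).mpr ⟨x₁, rfl⟩, ?_⟩
  rw [Category.id_comp, Category.assoc, ← hb, ← Category.assoc π₁, ← Category.assoc π₂, e₂,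
    Category.assoc, Category.assoc, (K.fil p).arrow.comm]

lemma ker_le_of_epi (p l n m : ℤ) (hl : l + 1 = n) (hm : n + 1 = m)
    (h : Epi (HomologicalComplex.homologyMap (K.fil p).arrow n)) :
    kernelSubobject (K.obj.d n m) ≤
      (K.filX p n ⊓ kernelSubobject (K.obj.d n m)) ⊔ imageSubobject (K.obj.d l n) := by
  rw [le_iff_forall_factors]
  intro T a ha
  rw [kernelSubobject_factors_iff] at ha
  obtain ⟨T₁, π₁, hπ₁, x₂, hx₂, y₁, e⟩ := (HomologicalComplex.epi_homologyMap_iff_up_to_refinements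
    (K.fil p).arrow l n m ((prev_eq n).trans (by omega)) ((next_eq n).trans (by omega))).mp h a ha
  apply factors_of_epi_comp _ π₁
  rw [e]
  refine Subobject.factors_add _ _ (Subobject.sup_factors_of_factors_left ?_)
    (Subobject.sup_factors_of_factors_right (imageSubobject_factors_comp_self _ _))
  rw [Subobject.inf_factors, kernelSubobject_factors_iff]
  exact ⟨(factors_filX_iff K p n _).mpr ⟨x₂, rfl⟩,
    by rw [Category.assoc, (K.fil p).arrow.comm, reassoc_of% hx₂, zero_comp]⟩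

/-! ### the pages -/

lemma ZTop_le_ZSub (r : ℕ) (p n : ℤ) : K.ZTop p n ≤ K.ZSub r p n :=
  sup_le_sup_right (inf_le_inf_left _ (FilCx.kernelSubobject_le_pullback _ _)) _

lemma BSub_le_BBot (r : ℕ) (p n : ℤ) : K.BSub r p n ≤ K.BBot p n :=
  sup_le_sup_right (inf_le_inf_left _ (imageSubobject_comp_le _ _)) _

lemma ZSub_le_ZTop_of_isZero (p n : ℤ) (r : ℕ) (hr : 1 ≤ r)
    (h : IsZero ((K.fil (p + r) : CochainComplex A ℤ).homology (n + 1))) :
    K.ZSub r p n ≤ K.ZTop p n := by
  unfold FilCx.ZSub FilCx.ZTop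
  refine sup_le ?_ le_sup_right
  rw [le_iff_forall_factors]
  intro T a ha
  rw [Subobject.inf_factors, pullback_factors_iff] at ha
  have h1 : (K.filX (p + r) (n + 1) ⊓ kernelSubobject (K.obj.d (n + 1) (n + 1 + 1))).Factors
      (a ≫ K.obj.d n (n + 1)) :=
    (Subobject.inf_factors _).mpr ⟨ha.2, (kernelSubobject_factors_iff _ _).mpr (by simp)⟩
  have h2 := Subobject.factors_of_le _
    (ker_le_of_isZero_homology K (p + r) n (n + 1) (n + 1 + 1) rfl rfl h) h1
  obtain ⟨T₁, π₁, hπ₁, y, hy, e⟩ := (factors_img_iff _ _ _).mp h2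
  apply factors_of_epi_comp _ π₁
  have hsplit : π₁ ≫ a = (π₁ ≫ a - y) + y := by abel
  rw [hsplit]
  refine Subobject.factors_add _ _ (Subobject.sup_factors_of_factors_left ?_)
    (Subobject.sup_factors_of_factors_right
      (Subobject.factors_of_le _ (K.filX_anti n (by omega)) hy))
  rw [Subobject.inf_factors, kernelSubobject_factors_iff]
  refine ⟨factors_sub _ _ _ (factors_precomp _ _ _ ha.1)
    (Subobject.factors_of_le _ (K.filX_anti n (by omega)) hy), ?_⟩
  rw [Preadditive.sub_comp, Category.assoc, e, sub_self]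

lemma BBot_le_BSub_of_mono (p n : ℤ) (r : ℕ) (hr : 1 ≤ r)
    (h : Mono (HomologicalComplex.homologyMap (K.fil (p - r + 1)).arrow n)) :
    K.BBot p n ≤ K.BSub r p n := by
  unfold FilCx.BBot FilCx.BSub
  refine sup_le_sup_right (le_inf inf_le_left ?_) _
  refine le_trans (inf_le_inf_right _ (K.filX_anti n (show p - (r : ℤ) + 1 ≤ p by omega))) ?_
  exact inf_image_le_of_mono K (p - r + 1) (n - 1) n (n + 1) (by omega) rfl h

/-- vanishing of `E₁` from two inequalities -/
lemma ZSub_one_le_BSub_one (p n : ℤ)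
    (h1 : K.filX (p + 1) (n + 1) ⊓ imageSubobject (K.obj.d n (n + 1)) ≤
      img (K.obj.d n (n + 1)) (K.filX (p + 1) n))
    (h2 : K.filX p n ⊓ kernelSubobject (K.obj.d n (n + 1)) ≤
      img (K.obj.d (n - 1) n) (K.filX p (n - 1)) ⊔ K.filX (p + 1) n) :
    K.ZSub 1 p n ≤ K.BSub 1 p n := by
  have hB : K.BSub 1 p n =
      (K.filX p n ⊓ img (K.obj.d (n - 1) n) (K.filX p (n - 1))) ⊔ K.filX (p + 1) n := by
    unfold FilCx.BSub
    rw [img_congr K (p - ((1 : ℕ) : ℤ) + 1) p (n - 1) (n - 1) n (by simp) rfl]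
  have hZ : K.ZSub 1 p n =
      (K.filX p n ⊓ (Subobject.pullback (K.obj.d n (n + 1))).obj (K.filX (p + 1) (n + 1))) ⊔
        K.filX (p + 1) n := by
    unfold FilCx.ZSub
    rw [show p + ((1 : ℕ) : ℤ) = p + 1 by simp]
  rw [hB, hZ]
  refine sup_le ?_ le_sup_right
  rw [le_iff_forall_factors]
  intro T a ha
  rw [Subobject.inf_factors, pullback_factors_iff] at ha
  have h3 := Subobject.factors_of_le _ h1 ((Subobject.inf_factors _).mpr
    ⟨ha.2, imageSubobject_factors_comp_self _ a⟩)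
  obtain ⟨T₁, π₁, hπ₁, y, hy, e⟩ := (factors_img_iff _ _ _).mp h3
  have hyF : (K.filX p n).Factors y := Subobject.factors_of_le _ (K.filX_anti n (by omega)) hy
  have hz : (K.filX p n ⊓ kernelSubobject (K.obj.d n (n + 1))).Factors (π₁ ≫ a - y) := by
    rw [Subobject.inf_factors, kernelSubobject_factors_iff]
    refine ⟨factors_sub _ _ _ (factors_precomp _ _ _ ha.1) hyF, ?_⟩
    rw [Preadditive.sub_comp, Category.assoc, e, sub_self]
  obtain ⟨T₂, π₂, hπ₂, u, v, hu, hv, e₂⟩ :=
    (factors_sup_iff _ _ _).mp (Subobject.factors_of_le _ h2 hz)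
  apply factors_of_epi_comp _ (π₂ ≫ π₁)
  have hsplit : (π₂ ≫ π₁) ≫ a = u + (v + π₂ ≫ y) := by
    have : π₂ ≫ (π₁ ≫ a - y) = u + v := e₂
    rw [Preadditive.comp_sub] at this
    rw [Category.assoc, ← add_assoc, ← this]; abel
  rw [hsplit]
  refine Subobject.factors_add _ _ (Subobject.sup_factors_of_factors_left ?_)
    (Subobject.sup_factors_of_factors_right
      (Subobject.factors_add _ _ hv (factors_precomp _ _ _ hy)))
  rw [Subobject.inf_factors]
  refine ⟨?_, hu⟩
  have hu' : u = π₂ ≫ (π₁ ≫ a - y) - v := by rw [e₂]; abel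
  rw [hu']
  exact factors_sub _ _ _ (factors_precomp _ _ _ (Subobject.factors_left_of_inf_factors hz))
    (Subobject.factors_of_le _ (K.filX_anti n (by omega)) hv)

lemma filH_eq_top_of_isIso (p n : ℤ)
    (h : IsIso (HomologicalComplex.homologyMap (K.fil p).arrow n)) : K.filH p n = ⊤ := by
  unfold FilCx.filH
  rw [imageSubobject_mono, ← Subobject.isIso_iff_mk_eq_top]
  exact h

lemma filH_eq_bot_of_isZero (p n : ℤ)
    (h : IsZero ((K.fil p : CochainComplex A ℤ).homology n)) : K.filH p n = ⊥ := by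
  unfold FilCx.filH
  have h0' : HomologicalComplex.homologyMap (K.fil p).arrow n = 0 := h.eq_of_src _ _
  exact eq_bot_iff.mpr (imageSubobject_le _ 0 (by rw [zero_comp, h0']))

open Groth.Agent.Lib.Helper10.SpSeqLib in
/-- S6794 -/
theorem converges
    (h0 : ∀ n : ℤ, ∃ p₀ : ℤ, ∀ p : ℤ, p₀ ≤ p →
      IsZero ((K.fil p : CochainComplex A ℤ).homology n))
    (h1 : ∀ n : ℤ, ∃ p₁ : ℤ, ∀ p : ℤ, p ≤ p₁ →
      IsIso (HomologicalComplex.homologyMap (K.fil p).arrow n)) :
    K.IsBounded 1 ∧ (∀ n : ℤ, (K.HFil n).IsFinite) ∧ K.Converges := by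
  choose p₀ hp₀ using h0
  choose p₁ hp₁ using h1
  have hmono : ∀ n p, p ≤ p₁ n → Mono (HomologicalComplex.homologyMap (K.fil p).arrow n) :=
    fun n p h => by haveI := hp₁ n p h; infer_instance
  have hepi : ∀ n p, p ≤ p₁ n → Epi (HomologicalComplex.homologyMap (K.fil p).arrow n) :=
    fun n p h => by haveI := hp₁ n p h; infer_instance
  have hfin : ∀ n : ℤ, (K.HFil n).IsFinite := fun n =>
    ⟨⟨p₁ n, filH_eq_top_of_isIso K _ n (hp₁ n _ le_rfl)⟩,
      ⟨p₀ n, filH_eq_bot_of_isZero K _ n (hp₀ n _ le_rfl)⟩⟩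
  -- stabilisation of Z
  have hZ : ∀ (p n : ℤ) (r : ℕ), max 1 (p₀ (n + 1) - p).toNat ≤ r → K.ZSub r p n = K.ZTop p n := by
    intro p n r hr
    refine le_antisymm (ZSub_le_ZTop_of_isZero K p n r ((le_max_left _ _).trans hr)
      (hp₀ (n + 1) _ ?_)) (ZTop_le_ZSub K r p n)
    have : (p₀ (n + 1) - p).toNat ≤ r := (le_max_right _ _).trans hr
    omega
  have hB : ∀ (p n : ℤ) (r : ℕ), max 1 (p + 1 - p₁ n).toNat ≤ r → K.BSub r p n = K.BBot p n := by
    intro p n r hr
    refine le_antisymm (BSub_le_BBot K r p n) (BBot_le_BSub_of_mono K p n r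
      ((le_max_left _ _).trans hr) (hmono n _ ?_))
    have : (p + 1 - p₁ n).toNat ≤ r := (le_max_right _ _).trans hr
    omega
  refine ⟨?_, hfin, ?_, ⟨?_, fun n => ⟨isSeparated_of_isFinite _ (hfin n),
    isExhaustive_of_isFinite _ (hfin n)⟩⟩, fun n => isComplete_of_isDiscrete _ (hfin n).2⟩
  · -- bounded from page 1
    intro n
    refine (Set.finite_Ico (min (p₁ n) (p₁ (n + 1))) (max (p₀ n) (p₀ (n + 1)))).subset
      fun p hp => ?_
    by_contra hnot
    apply hp
    rw [Set.mem_Ico, not_and_or, not_le, not_lt] at hnot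
    apply isZero_subquot_of_eq
    refine le_antisymm (K.BSub_le_ZSub 1 p n) ?_
    rcases hnot with h | h
    · -- small p
      have hp1 : p + 1 ≤ p₁ n := by have := min_le_left (p₁ n) (p₁ (n + 1)); omega
      have hp2 : p + 1 ≤ p₁ (n + 1) := by have := min_le_right (p₁ n) (p₁ (n + 1)); omega
      refine ZSub_one_le_BSub_one K p n
        (inf_image_le_of_mono K (p + 1) n (n + 1) (n + 1 + 1) rfl rfl (hmono _ _ hp2)) ?_
      rw [le_iff_forall_factors]
      intro T z hz
      have hz' := hz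
      rw [Subobject.inf_factors] at hz'
      have hC := Subobject.factors_of_le _
        (ker_le_of_epi K (p + 1) (n - 1) n (n + 1) (by omega) rfl (hepi _ _ hp1)) hz'.2
      obtain ⟨T₁, π₁, hπ₁, w, v, hw, hv, e⟩ := (factors_sup_iff _ _ _).mp hC
      rw [Subobject.inf_factors] at hw
      apply factors_of_epi_comp _ π₁
      rw [e, add_comm w v]
      refine Subobject.factors_add _ _ (Subobject.sup_factors_of_factors_left ?_)
        (Subobject.sup_factors_of_factors_right hw.1)
      refine Subobject.factors_of_le _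
        (inf_image_le_of_mono K p (n - 1) n (n + 1) (by omega) rfl (hmono _ _ (by omega))) ?_
      rw [Subobject.inf_factors]
      refine ⟨?_, hv⟩
      have : v = π₁ ≫ z - w := by rw [e]; abel
      rw [this]
      exact factors_sub _ _ _ (factors_precomp _ _ _ hz'.1)
        (Subobject.factors_of_le _ (K.filX_anti n (by omega)) hw.1)
    · -- large p
      have hp1 : p₀ n ≤ p := (le_max_left _ _).trans h
      have hp2 : p₀ (n + 1) ≤ p + 1 := by have := (le_max_right (p₀ n) (p₀ (n + 1))).trans h; omega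
      refine ZSub_one_le_BSub_one K p n ?_ ?_
      · refine le_trans (inf_le_inf_left _ ?_)
          (ker_le_of_isZero_homology K (p + 1) n (n + 1) (n + 1 + 1) rfl rfl (hp₀ _ _ hp2))
        exact le_kernelSubobject _ _ (imageSubobject_arrow_comp_eq_zero (by simp))
      · exact (ker_le_of_isZero_homology K p (n - 1) n (n + 1) (by omega) rfl
          (hp₀ _ _ hp1)).trans le_sup_left
  · -- regular
    intro p n
    exact ⟨max 1 (p₀ (n + 1) - p).toNat, fun r hr => by rw [hZ p n r hr, hZ p n _ le_rfl]⟩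
  · -- weakly converges
    intro p n
    constructor
    · constructor
      · rintro _ ⟨r, rfl⟩
        exact ZTop_le_ZSub K r p n
      · intro S hS
        exact (hS ⟨max 1 (p₀ (n + 1) - p).toNat, rfl⟩).trans (le_of_eq (hZ p n _ le_rfl))
    · constructor
      · rintro _ ⟨r, rfl⟩
        exact BSub_le_BBot K r p n
      · intro S hS
        exact (le_of_eq (hB p n _ le_rfl).symm).trans (hS ⟨max 1 (p + 1 - p₁ n).toNat, rfl⟩)

end Groth.Agent.Lib.Seat65.SpSeqConv
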