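import Groth.Agent.Lib.Seat65SubQStep

/-!
# Pages of the spectral sequence of a filtered complex and weak Serre classes
-/

set_option autoImplicit false
universe v u
open CategoryTheory CategoryTheory.Limits SpSeq

namespace Groth.Agent.Lib.Seat65.SpSeqPage

open Groth.Agent.Lib.Seat65.SubQ

variable {A : Type u} [Category.{v} A] [Abelian A] (K : FilCx A)

lemma img_congr (a a' l l' m : ℤ) (ha : a = a') (hl : l = l') :
    imageSubobject ((K.filX a l).arrow ≫ K.obj.d l m) =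
      imageSubobject ((K.filX a' l').arrow ≫ K.obj.d l' m) := by
  subst ha hl; rfl

lemma P_congr {P : ObjectProperty A} {X : A} {Z Z' B B' : Subobject X} (h : B ≤ Z) (h' : B' ≤ Z')
    (hZ : Z = Z') (hB : B = B') (hp : P (SQ.mk Z B h).obj) : P (SQ.mk Z' B' h').obj := by
  subst hZ hB; exact hp

lemma BSub_le_ZSub' (r s : ℕ) (p n : ℤ) : K.BSub r p n ≤ K.ZSub s p n :=
  sup_le_sup_right (inf_le_inf_left _ (K.image_d_le_pullback n _ _)) _

lemma ZSub_succ_le (r : ℕ) (p n : ℤ) : K.ZSub (r + 1) p n ≤ K.ZSub r p n := by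
  unfold FilCx.ZSub
  refine sup_le_sup_right (inf_le_inf_left _ ((Subobject.pullback _).monotone ?_)) _
  exact K.filX_anti (n + 1) (by push_cast; omega)

lemma image_d_le_kernel (n : ℤ) (S : Subobject (K.obj.X (n - 1))) :
    imageSubobject (S.arrow ≫ K.obj.d (n - 1) n) ≤ kernelSubobject (K.obj.d n (n + 1)) :=
  le_kernelSubobject _ _ (imageSubobject_arrow_comp_eq_zero (by simp))

lemma image_d_le_pullback' (n m k : ℤ) (T : Subobject (K.obj.X k)) :
    imageSubobject (K.obj.d n m) ≤ (Subobject.pullback (K.obj.d m k)).obj T :=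
  (le_kernelSubobject _ _ (imageSubobject_arrow_comp_eq_zero (by simp))).trans
    (FilCx.kernelSubobject_le_pullback _ _)

variable {P : ObjectProperty A} (hP : IsWS P)

include hP in
theorem stepA (r : ℕ) (p n : ℤ) (h₁ : P (K.E r p n)) (h₂ : P (K.E r (p + r) (n + 1))) :
    P (SQ.mk (K.ZSub (r + 1) p n) (K.BSub r p n) (BSub_le_ZSub' K r (r + 1) p n)).obj ∧
    P (SQ.mk (K.ZSub r (p + r) (n + 1)) (K.BSub (r + 1) (p + r) (n + 1))
      (BSub_le_ZSub' K (r + 1) r (p + r) (n + 1))).obj := by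
  have hF : K.filX (p + 1) n ≤ K.filX p n := K.filX_anti n (by omega)
  have hG : K.filX (p + r + 1) (n + 1) ≤ K.filX (p + r) (n + 1) := K.filX_anti (n + 1) (by omega)
  have hBi : imageSubobject ((K.filX (p - r + 1) (n - 1)).arrow ≫ K.obj.d (n - 1) n) ≤
      kernelSubobject (K.obj.d n (n + 1)) := image_d_le_kernel K n _
  have hKd : imageSubobject (K.obj.d n (n + 1)) ≤
      (Subobject.pullback (K.obj.d (n + 1) (n + 1 + 1))).obj (K.filX (p + r + r) (n + 1 + 1)) :=
    image_d_le_pullback' K _ _ _ _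
  have h₂' : P (SQ.mk (stZ' (K.filX (p + r) (n + 1)) (K.filX (p + r + 1) (n + 1))
      ((Subobject.pullback (K.obj.d (n + 1) (n + 1 + 1))).obj (K.filX (p + r + r) (n + 1 + 1))))
      (stB' (K.obj.d n (n + 1)) (K.filX (p + r) (n + 1)) (K.filX (p + r + 1) (n + 1))
        (K.filX (p + 1) n)) (stB'_le_stZ' _ _ _ _ hKd _)).obj := by
    refine P_congr (K.BSub_le_ZSub r (p + r) (n + 1)) _ rfl ?_ h₂
    unfold FilCx.BSub
    rw [img_congr K (p + r - r + 1) (p + 1) (n + 1 - 1) n (n + 1) (by omega) (by omega)]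
  obtain ⟨h₃, h₄⟩ := step (K.obj.d n (n + 1)) (K.filX p n) (K.filX (p + 1) n)
    (imageSubobject ((K.filX (p - r + 1) (n - 1)).arrow ≫ K.obj.d (n - 1) n))
    (K.filX (p + r) (n + 1)) (K.filX (p + r + 1) (n + 1))
    ((Subobject.pullback (K.obj.d (n + 1) (n + 1 + 1))).obj (K.filX (p + r + r) (n + 1 + 1)))
    hF hBi hG hKd hP h₁ h₂'
  constructor
  · refine P_congr _ _ ?_ rfl h₃
    unfold FilCx.ZSub
    rw [show p + ((r + 1 : ℕ) : ℤ) = p + r + 1 by push_cast; ring]
  · refine P_congr _ _ rfl ?_ h₄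
    unfold FilCx.BSub
    rw [img_congr K (p + r - ((r + 1 : ℕ) : ℤ) + 1) p (n + 1 - 1) n (n + 1)
      (by push_cast; omega) (by omega)]

include hP in
theorem page_succ (r : ℕ) (h : ∀ p n : ℤ, P (K.E r p n)) (p n : ℤ) : P (K.E (r + 1) p n) := by
  have ha : P (SQ.mk (K.ZSub (r + 1) p n) (K.BSub r p n) (BSub_le_ZSub' K r (r + 1) p n)).obj :=
    (stepA K hP r p n (h _ _) (h _ _)).1
  have hb : P (SQ.mk (K.ZSub r p n) (K.BSub (r + 1) p n) (BSub_le_ZSub' K (r + 1) r p n)).obj := by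
    have key : ∀ (q m : ℤ) (_ : q = p) (_ : m = n),
        P (SQ.mk (K.ZSub r q m) (K.BSub (r + 1) q m) (BSub_le_ZSub' K (r + 1) r q m)).obj →
        P (SQ.mk (K.ZSub r p n) (K.BSub (r + 1) p n) (BSub_le_ZSub' K (r + 1) r p n)).obj := by
      rintro q m rfl rfl hq; exact hq
    exact key (p - r + r) (n - 1 + 1) (by omega) (by omega)
      (stepA K hP r (p - r) (n - 1) (h _ _) (h _ _)).2
  have hc : P (SQ.mk (K.ZSub r p n) (K.ZSub (r + 1) p n) (ZSub_succ_le K r p n)).obj :=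
    P_quot_of_three (K.BSub r p n) (K.ZSub (r + 1) p n) (K.ZSub r p n)
      (BSub_le_ZSub' K r (r + 1) p n) (ZSub_succ_le K r p n) hP ha (h p n)
  exact P_sub_of_three (K.BSub (r + 1) p n) (K.ZSub (r + 1) p n) (K.ZSub r p n)
    (K.BSub_le_ZSub (r + 1) p n) (ZSub_succ_le K r p n) hP hb hc

include hP in
theorem page_ge (r : ℕ) (h : ∀ p n : ℤ, P (K.E r p n)) (s : ℕ) (hs : r ≤ s) (p n : ℤ) :
    P (K.E s p n) := by
  induction s, hs using Nat.le_induction generalizing p n with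
  | base => exact h p n
  | succ s _ ih => exact page_succ K hP s ih p n

end Groth.Agent.Lib.Seat65.SpSeqPage
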