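import Mathlib
import Groth.Prelude.Def_SpSeq

/-!
# A calculus of subquotients in an abelian category (element chasing "up to refinements")

`Subobject.Factors` is used as the membership relation `a ∈ S` for generalized elements
`a : T ⟶ X`.  We characterise membership in infima, pullbacks, images and suprema, and build
morphisms between subquotients `Z / B` (`SpSeq.subquot`) induced by a morphism of the ambient
objects, with criteria for being mono / epi / exact.
-/

set_option autoImplicit false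
universe v u
open CategoryTheory CategoryTheory.Limits

namespace Groth.Agent.Lib.Seat65.SubQ

variable {A : Type u} [Category.{v} A] [Abelian A]

/-! ### Membership -/

lemma factors_of_epi_comp {X T T' : A} (S : Subobject X) (π : T' ⟶ T) [Epi π] (a : T ⟶ X)
    (h : S.Factors (π ≫ a)) : S.Factors a := by
  have sq : CommSq (S.factorThru (π ≫ a) h) π S.arrow a := ⟨by simp⟩
  haveI : StrongEpi π := strongEpi_of_epi π
  exact (Subobject.factors_iff _ _).mpr ⟨sq.lift, sq.fac_right⟩

lemma factors_precomp {X T T' : A} (S : Subobject X) (π : T' ⟶ T) (a : T ⟶ X)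
    (h : S.Factors a) : S.Factors (π ≫ a) :=
  Subobject.factors_of_factors_right π h

lemma factors_image_iff {W X T : A} (f : W ⟶ X) (a : T ⟶ X) :
    (imageSubobject f).Factors a ↔
      ∃ (T' : A) (π : T' ⟶ T) (_ : Epi π) (b : T' ⟶ W), π ≫ a = b ≫ f := by
  constructor
  · intro h
    obtain ⟨T', π, hπ, b, hb⟩ := surjective_up_to_refinements_of_epi
      (factorThruImageSubobject f) ((imageSubobject f).factorThru a h)
    refine ⟨T', π, hπ, b, ?_⟩
    have := hb =≫ (imageSubobject f).arrow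
    simpa using this
  · rintro ⟨T', π, hπ, b, hb⟩
    apply factors_of_epi_comp _ π
    rw [hb]
    exact imageSubobject_factors_comp_self f b

lemma sup_eq_imageSubobject {X : A} (S S' : Subobject X) :
    S ⊔ S' = imageSubobject (biprod.desc S.arrow S'.arrow) := by
  apply le_antisymm
  · apply sup_le
    · apply Subobject.le_of_factors
      have := imageSubobject_factors_comp_self (biprod.desc S.arrow S'.arrow) biprod.inl
      simpa using this
    · apply Subobject.le_of_factors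
      have := imageSubobject_factors_comp_self (biprod.desc S.arrow S'.arrow) biprod.inr
      simpa using this
  · apply imageSubobject_le _ (biprod.desc (S.ofLE _ le_sup_left) (S'.ofLE _ le_sup_right))
    ext <;> simp

lemma factors_sup_iff {X T : A} (S S' : Subobject X) (a : T ⟶ X) :
    (S ⊔ S').Factors a ↔
      ∃ (T' : A) (π : T' ⟶ T) (_ : Epi π) (b c : T' ⟶ X),
        S.Factors b ∧ S'.Factors c ∧ π ≫ a = b + c := by
  constructor
  · intro h
    rw [sup_eq_imageSubobject, factors_image_iff] at h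
    obtain ⟨T', π, hπ, w, hw⟩ := h
    refine ⟨T', π, hπ, (w ≫ biprod.fst) ≫ S.arrow, (w ≫ biprod.snd) ≫ S'.arrow,
      Subobject.factors_comp_arrow _, Subobject.factors_comp_arrow _, ?_⟩
    rw [hw]
    have : w = (w ≫ biprod.fst) ≫ biprod.inl + (w ≫ biprod.snd) ≫ biprod.inr := by
      ext <;> simp
    conv_lhs => rw [this]
    simp
  · rintro ⟨T', π, hπ, b, c, hb, hc, e⟩
    apply factors_of_epi_comp _ π
    rw [e]
    exact Subobject.factors_add _ _ (Subobject.sup_factors_of_factors_left hb)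
      (Subobject.sup_factors_of_factors_right hc)

lemma le_iff_forall_factors {X : A} (S S' : Subobject X) :
    S ≤ S' ↔ ∀ ⦃T : A⦄ (a : T ⟶ X), S.Factors a → S'.Factors a :=
  ⟨fun h _ a ha => Subobject.factors_of_le a h ha,
    fun h => Subobject.le_of_factors (h _ (Subobject.factors_self S))⟩

lemma factors_neg {X T : A} (S : Subobject X) (a : T ⟶ X) (h : S.Factors a) : S.Factors (-a) := by
  have : -a = (-(S.factorThru a h)) ≫ S.arrow := by simp
  rw [this]
  exact Subobject.factors_comp_arrow _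

lemma factors_sub {X T : A} (S : Subobject X) (a b : T ⟶ X) (ha : S.Factors a) (hb : S.Factors b) :
    S.Factors (a - b) := by
  rw [sub_eq_add_neg]
  exact Subobject.factors_add _ _ ha (factors_neg S b hb)

/-- the image of a subobject under a morphism -/
noncomputable abbrev img {X Y : A} (f : X ⟶ Y) (S : Subobject X) : Subobject Y :=
  imageSubobject (S.arrow ≫ f)

lemma factors_img_iff {X Y T : A} (f : X ⟶ Y) (S : Subobject X) (a : T ⟶ Y) :
    (img f S).Factors a ↔
      ∃ (T' : A) (π : T' ⟶ T) (_ : Epi π) (b : T' ⟶ X), S.Factors b ∧ π ≫ a = b ≫ f := by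
  rw [factors_image_iff]
  constructor
  · rintro ⟨T', π, hπ, b, hb⟩
    exact ⟨T', π, hπ, b ≫ S.arrow, Subobject.factors_comp_arrow _, by simpa using hb⟩
  · rintro ⟨T', π, hπ, b, hS, hb⟩
    exact ⟨T', π, hπ, S.factorThru b hS, by simpa using hb⟩

/-! ### Subquotients -/

/-- A subquotient datum `B ≤ Z` of subobjects of `X`. -/
structure SQ (X : A) where
  Z : Subobject X
  B : Subobject X
  le : B ≤ Z

namespace SQ

variable {X Y W : A}

/-- the subquotient object `Z / B` -/
noncomputable abbrev obj (S : SQ X) : A := cokernel (S.B.ofLE S.Z S.le)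

lemma obj_eq_subquot (S : SQ X) : S.obj = SpSeq.subquot S.Z S.B S.le := rfl

/-- the projection `Z ⟶ Z / B` -/
noncomputable abbrev proj (S : SQ X) : (S.Z : A) ⟶ S.obj := cokernel.π (S.B.ofLE S.Z S.le)

instance (S : SQ X) : Epi S.proj := by unfold proj; infer_instance

lemma condition (S : SQ X) : S.B.ofLE S.Z S.le ≫ S.proj = 0 := cokernel.condition _

/-- the class of a generalized element of `Z` -/
noncomputable def cls (S : SQ X) {T : A} (z : T ⟶ X) (hz : S.Z.Factors z) : T ⟶ S.obj :=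
  S.Z.factorThru z hz ≫ S.proj

lemma exists_rep (S : SQ X) {T : A} (a : T ⟶ S.obj) :
    ∃ (T' : A) (π : T' ⟶ T) (_ : Epi π) (z : T' ⟶ X) (hz : S.Z.Factors z), π ≫ a = S.cls z hz := by
  obtain ⟨T', π, hπ, z, hz⟩ := surjective_up_to_refinements_of_epi S.proj a
  refine ⟨T', π, hπ, z ≫ S.Z.arrow, Subobject.factors_comp_arrow _, ?_⟩
  rw [hz, cls]
  congr 1
  rw [Subobject.factorThru_comp_arrow]

lemma cls_eq_zero_iff (S : SQ X) {T : A} (z : T ⟶ X) (hz : S.Z.Factors z) :
    S.cls z hz = 0 ↔ S.B.Factors z := by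
  constructor
  · intro h
    obtain ⟨T', π, hπ, b, hb⟩ := (CokernelCofork.IsColimit.comp_π_eq_zero_iff_up_to_refinements
      (cokernelIsCokernel (S.B.ofLE S.Z S.le)) (S.Z.factorThru z hz)).mp h
    apply factors_of_epi_comp _ π
    rw [Subobject.factors_iff]
    refine ⟨b, ?_⟩
    have := hb =≫ S.Z.arrow
    simpa using this.symm
  · intro h
    rw [cls, show S.Z.factorThru z hz = S.B.factorThru z h ≫ S.B.ofLE S.Z S.le from by
      rw [← cancel_mono S.Z.arrow]; simp, Category.assoc, S.condition, comp_zero]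

lemma comp_cls (S : SQ X) {T T' : A} (π : T' ⟶ T) (z : T ⟶ X) (hz : S.Z.Factors z) :
    π ≫ S.cls z hz = S.cls (π ≫ z) (factors_precomp _ π z hz) := by
  rw [cls, cls, ← Category.assoc]
  congr 1
  rw [← cancel_mono S.Z.arrow]
  simp

lemma cls_add (S : SQ X) {T : A} (z z' : T ⟶ X) (hz : S.Z.Factors z) (hz' : S.Z.Factors z') :
    S.cls (z + z') (Subobject.factors_add _ _ hz hz') = S.cls z hz + S.cls z' hz' := by
  rw [cls, cls, cls, ← Preadditive.add_comp]
  congr 1
  rw [← cancel_mono S.Z.arrow]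
  simp

lemma cls_congr (S : SQ X) {T : A} (z z' : T ⟶ X) (hz : S.Z.Factors z) (e : z = z') :
    S.cls z hz = S.cls z' (e ▸ hz) := by
  subst e; rfl

lemma cls_eq_of_sub (S : SQ X) {T : A} (z z' : T ⟶ X) (hz : S.Z.Factors z) (hz' : S.Z.Factors z')
    (h : S.B.Factors (z - z')) : S.cls z hz = S.cls z' hz' := by
  have h1 : S.cls (z - z') (factors_sub _ _ _ hz hz') = 0 := (S.cls_eq_zero_iff _ _).mpr h
  have h2 := S.cls_add (z - z') z' (factors_sub _ _ _ hz hz') hz'
  rw [h1, zero_add] at h2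
  rw [← h2]
  exact S.cls_congr _ _ _ (by simp)

/-- the morphism of subquotients induced by `f : X ⟶ Y`. -/
noncomputable def map (f : X ⟶ Y) (S : SQ X) (S' : SQ Y)
    (hZ : S.Z ≤ (Subobject.pullback f).obj S'.Z) (hB : S.B ≤ (Subobject.pullback f).obj S'.B) :
    S.obj ⟶ S'.obj :=
  cokernel.desc _ (S'.Z.factorThru (S.Z.arrow ≫ f)
      ((pullback_factors_iff f _ _).mp (Subobject.factors_of_le _ hZ (Subobject.factors_self _))) ≫
    S'.proj) (by
      have hBf : S'.B.Factors ((S.B.ofLE S.Z S.le ≫ S.Z.arrow) ≫ f) := by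
        rw [Subobject.ofLE_arrow]
        exact (pullback_factors_iff f _ _).mp
          (Subobject.factors_of_le _ hB (Subobject.factors_self _))
      have : S.B.ofLE S.Z S.le ≫ S'.Z.factorThru (S.Z.arrow ≫ f)
          ((pullback_factors_iff f _ _).mp
            (Subobject.factors_of_le _ hZ (Subobject.factors_self _))) =
          S'.B.factorThru _ hBf ≫ S'.B.ofLE S'.Z S'.le := by
        rw [← cancel_mono S'.Z.arrow]
        simp
      rw [← Category.assoc, this, Category.assoc, S'.condition, comp_zero])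

lemma cls_map (f : X ⟶ Y) (S : SQ X) (S' : SQ Y)
    (hZ : S.Z ≤ (Subobject.pullback f).obj S'.Z) (hB : S.B ≤ (Subobject.pullback f).obj S'.B)
    {T : A} (z : T ⟶ X) (hz : S.Z.Factors z) :
    S.cls z hz ≫ map f S S' hZ hB =
      S'.cls (z ≫ f) ((pullback_factors_iff f _ _).mp (Subobject.factors_of_le _ hZ hz)) := by
  rw [cls, cls, map, Category.assoc, cokernel.π_desc, ← Category.assoc]
  congr 1
  rw [← cancel_mono S'.Z.arrow]
  simp

lemma mono_map (f : X ⟶ Y) (S : SQ X) (S' : SQ Y)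
    (hZ : S.Z ≤ (Subobject.pullback f).obj S'.Z) (hB : S.B ≤ (Subobject.pullback f).obj S'.B)
    (h : S.Z ⊓ (Subobject.pullback f).obj S'.B ≤ S.B) : Mono (map f S S' hZ hB) := by
  rw [Preadditive.mono_iff_cancel_zero]
  intro T a ha
  obtain ⟨T', π, hπ, z, hz, e⟩ := S.exists_rep a
  rw [← cancel_epi π, comp_zero, e, cls_eq_zero_iff]
  have h1 : S.cls z hz ≫ map f S S' hZ hB = 0 := by rw [← e, Category.assoc, ha, comp_zero]
  rw [cls_map, cls_eq_zero_iff] at h1
  exact Subobject.factors_of_le _ h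
    ((Subobject.inf_factors _).mpr ⟨hz, (pullback_factors_iff f _ _).mpr h1⟩)

/-- lifting of classes along `map` -/
lemma exists_lift (f : X ⟶ Y) (S : SQ X) (S' : SQ Y)
    (hZ : S.Z ≤ (Subobject.pullback f).obj S'.Z) (hB : S.B ≤ (Subobject.pullback f).obj S'.B)
    {T : A} (z' : T ⟶ Y) (hz' : S'.Z.Factors z') (h : (img f S.Z ⊔ S'.B).Factors z') :
    ∃ (T' : A) (π : T' ⟶ T) (_ : Epi π) (x : T' ⟶ S.obj),
      π ≫ S'.cls z' hz' = x ≫ map f S S' hZ hB := by
  obtain ⟨T₁, π₁, hπ₁, u, v, hu, hv, e⟩ := (factors_sup_iff _ _ _).mp h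
  obtain ⟨T₂, π₂, hπ₂, w, hw, e₂⟩ := (factors_img_iff _ _ _).mp hu
  refine ⟨T₂, π₂ ≫ π₁, inferInstance, S.cls w hw, ?_⟩
  rw [cls_map, comp_cls]
  apply cls_eq_of_sub
  have : (π₂ ≫ π₁) ≫ z' - w ≫ f = π₂ ≫ v := by
    rw [Category.assoc, e, Preadditive.comp_add, e₂]; abel
  rw [this]
  exact factors_precomp _ _ _ hv

lemma epi_map (f : X ⟶ Y) (S : SQ X) (S' : SQ Y)
    (hZ : S.Z ≤ (Subobject.pullback f).obj S'.Z) (hB : S.B ≤ (Subobject.pullback f).obj S'.B)
    (h : S'.Z ≤ img f S.Z ⊔ S'.B) : Epi (map f S S' hZ hB) := by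
  rw [epi_iff_surjective_up_to_refinements]
  intro T y
  obtain ⟨T₁, π₁, hπ₁, z', hz', e⟩ := S'.exists_rep y
  obtain ⟨T₂, π₂, hπ₂, x, hx⟩ := exists_lift f S S' hZ hB z' hz' (Subobject.factors_of_le _ h hz')
  exact ⟨T₂, π₂ ≫ π₁, inferInstance, x, by rw [Category.assoc, e, hx]⟩

lemma map_comp_eq_zero (f : X ⟶ Y) (g : Y ⟶ W) (S : SQ X) (S' : SQ Y) (S'' : SQ W)
    (hZ : S.Z ≤ (Subobject.pullback f).obj S'.Z) (hB : S.B ≤ (Subobject.pullback f).obj S'.B)
    (hZ' : S'.Z ≤ (Subobject.pullback g).obj S''.Z) (hB' : S'.B ≤ (Subobject.pullback g).obj S''.B)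
    (h : S.Z ≤ (Subobject.pullback (f ≫ g)).obj S''.B) :
    map f S S' hZ hB ≫ map g S' S'' hZ' hB' = 0 := by
  rw [← cancel_epi S.proj, comp_zero]
  have : S.proj = S.cls S.Z.arrow (Subobject.factors_self _) := by
    rw [cls, Subobject.factorThru_self, Category.id_comp]
  rw [this, ← Category.assoc, cls_map, cls_map, cls_eq_zero_iff, Category.assoc]
  exact (pullback_factors_iff (f ≫ g) _ _).mp (Subobject.factors_of_le _ h (Subobject.factors_self _))

lemma exact_map (f : X ⟶ Y) (g : Y ⟶ W) (S : SQ X) (S' : SQ Y) (S'' : SQ W)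
    (hZ : S.Z ≤ (Subobject.pullback f).obj S'.Z) (hB : S.B ≤ (Subobject.pullback f).obj S'.B)
    (hZ' : S'.Z ≤ (Subobject.pullback g).obj S''.Z) (hB' : S'.B ≤ (Subobject.pullback g).obj S''.B)
    (w : map f S S' hZ hB ≫ map g S' S'' hZ' hB' = 0)
    (h : S'.Z ⊓ (Subobject.pullback g).obj S''.B ≤ img f S.Z ⊔ S'.B) :
    (ShortComplex.mk _ _ w).Exact := by
  rw [ShortComplex.exact_iff_exact_up_to_refinements]
  intro T x₂ hx₂
  dsimp at x₂ hx₂ ⊢
  obtain ⟨T₁, π₁, hπ₁, z', hz', e⟩ := S'.exists_rep x₂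
  have h1 : S'.cls z' hz' ≫ map g S' S'' hZ' hB' = 0 := by
    rw [← e, Category.assoc, hx₂, comp_zero]
  rw [cls_map, cls_eq_zero_iff] at h1
  obtain ⟨T₂, π₂, hπ₂, x, hx⟩ := exists_lift f S S' hZ hB z' hz' (Subobject.factors_of_le _ h
    ((Subobject.inf_factors _).mpr ⟨hz', (pullback_factors_iff g _ _).mpr h1⟩))
  exact ⟨T₂, π₂ ≫ π₁, inferInstance, x, by rw [Category.assoc, e, hx]⟩

end SQ

end Groth.Agent.Lib.Seat65.SubQ
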