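import Groth.Agent.Lib.Seat65SubQ

/-!
# Weak Serre classes and subquotients; one step of the spectral sequence of a filtered object
-/

set_option autoImplicit false
universe v u
open CategoryTheory CategoryTheory.Limits

namespace Groth.Agent.Lib.Seat65.SubQ

variable {A : Type u} [Category.{v} A] [Abelian A]

/-- weak Serre class, in the form used by the statements -/
structure IsWS (P : ObjectProperty A) : Prop where
  iso : ∀ {X Y : A}, (X ≅ Y) → P X → P Y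
  zero : ∃ Z : A, IsZero Z ∧ P Z
  five : ∀ S : ComposableArrows A 4, S.Exact → P (S.obj 0) → P (S.obj 1) → P (S.obj 3) →
    P (S.obj 4) → P (S.obj 2)

namespace IsWS

variable {P : ObjectProperty A} (hP : IsWS P)
include hP

lemma of_isZero {X : A} (h : IsZero X) : P X := by
  obtain ⟨Z, hZ, hPZ⟩ := hP.zero
  exact hP.iso (hZ.iso h) hPZ

lemma ker {X₁ X₂ X₃ : A} (i : X₁ ⟶ X₂) (f : X₂ ⟶ X₃) (w : i ≫ f = 0) [Mono i]
    (hex : (ShortComplex.mk i f w).Exact) (h₂ : P X₂) (h₃ : P X₃) : P X₁ := by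
  obtain ⟨Z, hZ, hPZ⟩ := hP.zero
  let S : ComposableArrows A 4 := ComposableArrows.mk₄ (0 : Z ⟶ Z) (0 : Z ⟶ X₁) i f
  have hS : S.Exact := by
    refine ComposableArrows.exact_of_δ₀ ?_ (ComposableArrows.exact_of_δ₀ ?_ ?_)
    · exact (ShortComplex.exact_of_isZero_X₂
        (ShortComplex.mk (0 : Z ⟶ Z) (0 : Z ⟶ X₁) (by simp)) hZ).exact_toComposableArrows
    · exact ((ShortComplex.mk (0 : Z ⟶ X₁) i (by simp)).exact_iff_mono rfl).2 ‹_›
        |>.exact_toComposableArrows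
    · exact hex.exact_toComposableArrows
  exact hP.five S hS hPZ hPZ h₂ h₃

lemma coker {X₁ X₂ X₃ : A} (f : X₁ ⟶ X₂) (p : X₂ ⟶ X₃) (w : f ≫ p = 0) [Epi p]
    (hex : (ShortComplex.mk f p w).Exact) (h₁ : P X₁) (h₂ : P X₂) : P X₃ := by
  obtain ⟨Z, hZ, hPZ⟩ := hP.zero
  let S : ComposableArrows A 4 := ComposableArrows.mk₄ f p (0 : X₃ ⟶ Z) (0 : Z ⟶ Z)
  have hS : S.Exact := by
    refine ComposableArrows.exact_of_δ₀ ?_ (ComposableArrows.exact_of_δ₀ ?_ ?_)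
    · exact hex.exact_toComposableArrows
    · exact ((ShortComplex.mk p (0 : X₃ ⟶ Z) (by simp)).exact_iff_epi rfl).2 ‹_›
        |>.exact_toComposableArrows
    · exact (ShortComplex.exact_of_isZero_X₂
        (ShortComplex.mk (0 : X₃ ⟶ Z) (0 : Z ⟶ Z) (by simp)) hZ).exact_toComposableArrows
  exact hP.five S hS h₁ h₂ hPZ hPZ

lemma ext {X₁ X₂ X₃ : A} (i : X₁ ⟶ X₂) (p : X₂ ⟶ X₃) (w : i ≫ p = 0) [Mono i] [Epi p]
    (hex : (ShortComplex.mk i p w).Exact) (h₁ : P X₁) (h₃ : P X₃) : P X₂ := by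
  obtain ⟨Z, hZ, hPZ⟩ := hP.zero
  let S : ComposableArrows A 4 := ComposableArrows.mk₄ (0 : Z ⟶ X₁) i p (0 : X₃ ⟶ Z)
  have hS : S.Exact := by
    refine ComposableArrows.exact_of_δ₀ ?_ (ComposableArrows.exact_of_δ₀ ?_ ?_)
    · exact ((ShortComplex.mk (0 : Z ⟶ X₁) i (by simp)).exact_iff_mono rfl).2 ‹_›
        |>.exact_toComposableArrows
    · exact hex.exact_toComposableArrows
    · exact ((ShortComplex.mk p (0 : X₃ ⟶ Z) (by simp)).exact_iff_epi rfl).2 ‹_›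
        |>.exact_toComposableArrows
  exact hP.five S hS hPZ h₁ h₃ hPZ

lemma of_mono_epi {X Y : A} (f : X ⟶ Y) [Mono f] [Epi f] : P X ↔ P Y := by
  haveI := isIso_of_mono_of_epi f
  exact ⟨hP.iso (asIso f), hP.iso (asIso f).symm⟩

end IsWS

/-! ### maps induced by the identity -/

lemma le_img_id {X : A} (S : Subobject X) : S ≤ img (𝟙 X) S := by
  rw [le_iff_forall_factors]
  intro T a ha
  exact (factors_img_iff _ _ _).mpr ⟨T, 𝟙 T, inferInstance, a, ha, by simp⟩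

lemma img_mono {X Y : A} (f : X ⟶ Y) {S S' : Subobject X} (h : S ≤ S') : img f S ≤ img f S' := by
  rw [le_iff_forall_factors]
  intro T a ha
  obtain ⟨T', π, hπ, b, hb, e⟩ := (factors_img_iff _ _ _).mp ha
  exact (factors_img_iff _ _ _).mpr ⟨T', π, hπ, b, Subobject.factors_of_le _ h hb, e⟩

lemma img_le_imageSubobject {X Y : A} (f : X ⟶ Y) (S : Subobject X) :
    img f S ≤ imageSubobject f := imageSubobject_comp_le _ _

lemma factors_img_of_factors {X Y T : A} (f : X ⟶ Y) (S : Subobject X) (b : T ⟶ X)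
    (hb : S.Factors b) : (img f S).Factors (b ≫ f) :=
  (factors_img_iff _ _ _).mpr ⟨T, 𝟙 T, inferInstance, b, hb, by simp⟩

namespace SQ

variable {X : A}

/-- map of subquotients of the same object induced by the identity -/
noncomputable def mapId (S S' : SQ X) (hZ : S.Z ≤ S'.Z) (hB : S.B ≤ S'.B) : S.obj ⟶ S'.obj :=
  map (𝟙 X) S S' (by rwa [Subobject.pullback_id]) (by rwa [Subobject.pullback_id])

lemma mono_mapId (S S' : SQ X) (hZ : S.Z ≤ S'.Z) (hB : S.B ≤ S'.B) (h : S.Z ⊓ S'.B ≤ S.B) :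
    Mono (mapId S S' hZ hB) :=
  mono_map _ _ _ _ _ (by rwa [Subobject.pullback_id])

lemma epi_mapId (S S' : SQ X) (hZ : S.Z ≤ S'.Z) (hB : S.B ≤ S'.B) (h : S'.Z ≤ S.Z ⊔ S'.B) :
    Epi (mapId S S' hZ hB) :=
  epi_map _ _ _ _ _ (h.trans (sup_le_sup_right (le_img_id _) _))

end SQ

/-! ### the short exact sequence `0 → B/C → Z/C → Z/B → 0` -/

section ThreeStep

variable {X : A} (C B Z : Subobject X) (hCB : C ≤ B) (hBZ : B ≤ Z)
variable {P : ObjectProperty A} (hP : IsWS P)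
include hP

lemma P_top_of_three (h₁ : P (SQ.mk B C hCB).obj) (h₃ : P (SQ.mk Z B hBZ).obj) :
    P (SQ.mk Z C (hCB.trans hBZ)).obj := by
  let S₁ : SQ X := ⟨B, C, hCB⟩
  let S₂ : SQ X := ⟨Z, C, hCB.trans hBZ⟩
  let S₃ : SQ X := ⟨Z, B, hBZ⟩
  have hm : Mono (SQ.mapId S₁ S₂ hBZ le_rfl) := SQ.mono_mapId _ _ _ _ inf_le_right
  have he : Epi (SQ.mapId S₂ S₃ le_rfl hCB) := SQ.epi_mapId _ _ _ _ le_sup_left
  have w : SQ.mapId S₁ S₂ hBZ le_rfl ≫ SQ.mapId S₂ S₃ le_rfl hCB = 0 :=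
    SQ.map_comp_eq_zero _ _ _ _ _ _ _ _ _ (by
      rw [Category.comp_id, Subobject.pullback_id])
  have hex : (ShortComplex.mk _ _ w).Exact :=
    SQ.exact_map _ _ _ _ _ _ _ _ _ w (by
      rw [Subobject.pullback_id]
      exact inf_le_right.trans ((le_img_id B).trans le_sup_left))
  exact hP.ext _ _ w hex h₁ h₃

lemma P_quot_of_three (h₁ : P (SQ.mk B C hCB).obj) (h₂ : P (SQ.mk Z C (hCB.trans hBZ)).obj) :
    P (SQ.mk Z B hBZ).obj := by
  let S₁ : SQ X := ⟨B, C, hCB⟩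
  let S₂ : SQ X := ⟨Z, C, hCB.trans hBZ⟩
  let S₃ : SQ X := ⟨Z, B, hBZ⟩
  have he : Epi (SQ.mapId S₂ S₃ le_rfl hCB) := SQ.epi_mapId _ _ _ _ le_sup_left
  have w : SQ.mapId S₁ S₂ hBZ le_rfl ≫ SQ.mapId S₂ S₃ le_rfl hCB = 0 :=
    SQ.map_comp_eq_zero _ _ _ _ _ _ _ _ _ (by
      rw [Category.comp_id, Subobject.pullback_id])
  have hex : (ShortComplex.mk _ _ w).Exact :=
    SQ.exact_map _ _ _ _ _ _ _ _ _ w (by
      rw [Subobject.pullback_id]
      exact inf_le_right.trans ((le_img_id B).trans le_sup_left))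
  exact hP.coker _ _ w hex h₁ h₂

lemma P_sub_of_three (h₂ : P (SQ.mk Z C (hCB.trans hBZ)).obj) (h₃ : P (SQ.mk Z B hBZ).obj) :
    P (SQ.mk B C hCB).obj := by
  let S₁ : SQ X := ⟨B, C, hCB⟩
  let S₂ : SQ X := ⟨Z, C, hCB.trans hBZ⟩
  let S₃ : SQ X := ⟨Z, B, hBZ⟩
  have hm : Mono (SQ.mapId S₁ S₂ hBZ le_rfl) := SQ.mono_mapId _ _ _ _ inf_le_right
  have w : SQ.mapId S₁ S₂ hBZ le_rfl ≫ SQ.mapId S₂ S₃ le_rfl hCB = 0 :=
    SQ.map_comp_eq_zero _ _ _ _ _ _ _ _ _ (by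
      rw [Category.comp_id, Subobject.pullback_id])
  have hex : (ShortComplex.mk _ _ w).Exact :=
    SQ.exact_map _ _ _ _ _ _ _ _ _ w (by
      rw [Subobject.pullback_id]
      exact inf_le_right.trans ((le_img_id B).trans le_sup_left))
  exact hP.ker _ _ w hex h₂ h₃

end ThreeStep

end Groth.Agent.Lib.Seat65.SubQ
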