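import Groth.Agent.Lib.Seat65SubQSerre

/-!
# One step of the spectral sequence, for abstract subobjects

`d : X ⟶ Y`, `Fp1 ≤ Fp ≤ X`, `Bi ≤ ker d`, `Gq1 ≤ Gq ≤ Y`, `im d ≤ Kd`.  With
`Zr = Fp ⊓ d⁻¹ Gq ⊔ Fp1`, `Zr1 = Fp ⊓ d⁻¹ Gq1 ⊔ Fp1`, `Br = Fp ⊓ Bi ⊔ Fp1` (subobjects of `X`) and
`Zr' = Gq ⊓ Kd ⊔ Gq1`, `Br' = Gq ⊓ d Fp1 ⊔ Gq1`, `Br1' = Gq ⊓ d Fp ⊔ Gq1` (subobjects of `Y`) there is
an exact sequence `0 → Zr1/Br → Zr/Br → Zr'/Br' → Zr'/Br1' → 0`.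
-/

set_option autoImplicit false
universe v u
open CategoryTheory CategoryTheory.Limits

namespace Groth.Agent.Lib.Seat65.SubQ

variable {A : Type u} [Category.{v} A] [Abelian A]

section Step

variable {X Y : A} (d : X ⟶ Y) (Fp Fp1 Bi : Subobject X) (Gq Gq1 Kd : Subobject Y)

/-- `Z_r` -/
noncomputable abbrev stZ : Subobject X := (Fp ⊓ (Subobject.pullback d).obj Gq) ⊔ Fp1
/-- `B_r` at the source -/
noncomputable abbrev stB : Subobject X := (Fp ⊓ Bi) ⊔ Fp1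
/-- `Z_r` at the target -/
noncomputable abbrev stZ' : Subobject Y := (Gq ⊓ Kd) ⊔ Gq1
/-- `B` at the target, built from the image of a subobject `F` of `X` -/
noncomputable abbrev stB' (F : Subobject X) : Subobject Y := (Gq ⊓ img d F) ⊔ Gq1

variable (hF : Fp1 ≤ Fp) (hBi : Bi ≤ kernelSubobject d) (hG : Gq1 ≤ Gq)
  (hKd : imageSubobject d ≤ Kd)

include hBi in
lemma stB_le_stZ (G : Subobject Y) : stB Fp Fp1 Bi ≤ stZ d Fp Fp1 G :=
  sup_le_sup_right (inf_le_inf_left _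
    (hBi.trans (SpSeq.FilCx.kernelSubobject_le_pullback _ _))) _

include hG in
lemma stZ_anti : stZ d Fp Fp1 Gq1 ≤ stZ d Fp Fp1 Gq :=
  sup_le_sup_right (inf_le_inf_left _ ((Subobject.pullback d).monotone hG)) _

include hKd in
lemma stB'_le_stZ' (F : Subobject X) : stB' d Gq Gq1 F ≤ stZ' Gq Gq1 Kd :=
  sup_le_sup_right (inf_le_inf_left _ ((img_le_imageSubobject d F).trans hKd)) _

include hF in
lemma stB'_mono : stB' d Gq Gq1 Fp1 ≤ stB' d Gq Gq1 Fp :=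
  sup_le_sup_right (inf_le_inf_left _ (img_mono d hF)) _

/-- `W = Fp ⊓ d⁻¹ Gq` -/
noncomputable abbrev stW : Subobject X := Fp ⊓ (Subobject.pullback d).obj Gq

include hKd in
lemma stW_le_pullback_stZ' : stW d Fp Gq ≤ (Subobject.pullback d).obj (stZ' Gq Gq1 Kd) := by
  rw [le_iff_forall_factors]
  intro T a ha
  rw [Subobject.inf_factors, pullback_factors_iff] at ha
  rw [pullback_factors_iff]
  apply Subobject.sup_factors_of_factors_left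
  rw [Subobject.inf_factors]
  exact ⟨ha.2, Subobject.factors_of_le _ hKd (imageSubobject_factors_comp_self d a)⟩

include hBi in
lemma stW_inf_stB_le : stW d Fp Gq ⊓ stB Fp Fp1 Bi ≤
    (Subobject.pullback d).obj (stB' d Gq Gq1 Fp1) := by
  rw [le_iff_forall_factors]
  intro T a ha
  rw [Subobject.inf_factors, Subobject.inf_factors, pullback_factors_iff] at ha
  obtain ⟨⟨-, haG⟩, haB⟩ := ha
  obtain ⟨T', π, hπ, u, v, hu, hv, e⟩ := (factors_sup_iff _ _ _).mp haB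
  rw [pullback_factors_iff]
  apply factors_of_epi_comp _ π
  have hu0 : u ≫ d = 0 := by
    rw [Subobject.inf_factors] at hu
    exact (kernelSubobject_factors_iff d u).mp (Subobject.factors_of_le _ hBi hu.2)
  have e' : π ≫ a ≫ d = v ≫ d := by
    rw [← Category.assoc, e, Preadditive.add_comp, hu0, zero_add]
  apply Subobject.sup_factors_of_factors_left
  rw [Subobject.inf_factors]
  refine ⟨factors_precomp _ _ _ haG, ?_⟩
  rw [e']
  exact factors_img_of_factors d Fp1 v hv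

/-- the kernel numerator `W ⊓ d⁻¹ Br'` -/
noncomputable abbrev stWt : Subobject X :=
  stW d Fp Gq ⊓ (Subobject.pullback d).obj (stB' d Gq Gq1 Fp1)

include hF in
lemma stWt_le_stZ1 : stWt d Fp Fp1 Gq Gq1 ≤ stZ d Fp Fp1 Gq1 := by
  rw [le_iff_forall_factors]
  intro T a ha
  rw [Subobject.inf_factors, Subobject.inf_factors, pullback_factors_iff,
    pullback_factors_iff] at ha
  obtain ⟨⟨haF, haG⟩, haB⟩ := ha
  obtain ⟨T₁, π₁, hπ₁, u, v, hu, hv, e⟩ := (factors_sup_iff _ _ _).mp haB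
  rw [Subobject.inf_factors] at hu
  obtain ⟨T₂, π₂, hπ₂, y, hy, e₂⟩ := (factors_img_iff _ _ _).mp hu.2
  apply factors_of_epi_comp _ (π₂ ≫ π₁)
  have hsplit : (π₂ ≫ π₁) ≫ a = ((π₂ ≫ π₁) ≫ a - y) + y := by abel
  rw [hsplit]
  refine Subobject.factors_add _ _ (Subobject.sup_factors_of_factors_left ?_)
    (Subobject.sup_factors_of_factors_right hy)
  rw [Subobject.inf_factors, pullback_factors_iff]
  refine ⟨factors_sub _ _ _ (factors_precomp _ _ _ haF) (Subobject.factors_of_le _ hF hy), ?_⟩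
  have : ((π₂ ≫ π₁) ≫ a - y) ≫ d = π₂ ≫ v := by
    rw [Preadditive.sub_comp, Category.assoc, Category.assoc, e, Preadditive.comp_add, e₂]
    abel
  rw [this]
  exact factors_precomp _ _ _ hv

include hG in
lemma stZ1_le : stZ d Fp Fp1 Gq1 ≤ stWt d Fp Fp1 Gq Gq1 ⊔ stB Fp Fp1 Bi := by
  apply sup_le
  · refine le_trans ?_ le_sup_left
    rw [le_iff_forall_factors]
    intro T a ha
    rw [Subobject.inf_factors, pullback_factors_iff] at ha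
    rw [Subobject.inf_factors, Subobject.inf_factors, pullback_factors_iff, pullback_factors_iff]
    exact ⟨⟨ha.1, Subobject.factors_of_le _ hG ha.2⟩,
      Subobject.sup_factors_of_factors_right ha.2⟩
  · exact le_sup_right.trans le_sup_right

lemma stW_le_pullback_stB1' : stW d Fp Gq ≤ (Subobject.pullback d).obj (stB' d Gq Gq1 Fp) := by
  rw [le_iff_forall_factors]
  intro T a ha
  rw [Subobject.inf_factors, pullback_factors_iff] at ha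
  rw [pullback_factors_iff]
  apply Subobject.sup_factors_of_factors_left
  rw [Subobject.inf_factors]
  exact ⟨ha.2, factors_img_of_factors d Fp a ha.1⟩

lemma stZ'_inf_stB1'_le : stZ' Gq Gq1 Kd ⊓ stB' d Gq Gq1 Fp ≤
    img d (stW d Fp Gq) ⊔ stB' d Gq Gq1 Fp1 := by
  rw [le_iff_forall_factors]
  intro T a ha
  rw [Subobject.inf_factors] at ha
  obtain ⟨T₁, π₁, hπ₁, u, v, hu, hv, e⟩ := (factors_sup_iff _ _ _).mp ha.2
  rw [Subobject.inf_factors] at hu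
  obtain ⟨T₂, π₂, hπ₂, x, hx, e₂⟩ := (factors_img_iff _ _ _).mp hu.2
  apply factors_of_epi_comp _ (π₂ ≫ π₁)
  have : (π₂ ≫ π₁) ≫ a = x ≫ d + π₂ ≫ v := by
    rw [Category.assoc, e, Preadditive.comp_add, e₂]
  rw [this]
  refine Subobject.factors_add _ _ (Subobject.sup_factors_of_factors_left ?_)
    (Subobject.sup_factors_of_factors_right
      (Subobject.sup_factors_of_factors_right (factors_precomp _ _ _ hv)))
  apply factors_img_of_factors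
  rw [Subobject.inf_factors, pullback_factors_iff, ← e₂]
  exact ⟨hx, factors_precomp _ _ _ hu.1⟩

variable {P : ObjectProperty A} (hP : IsWS P)

include hF hBi hG hKd hP in
/-- the main step: from `P (Zr/Br)` and `P (Zr'/Br')` deduce `P (Zr1/Br)` and `P (Zr'/Br1')`. -/
theorem step
    (h₁ : P (SQ.mk (stZ d Fp Fp1 Gq) (stB Fp Fp1 Bi) (stB_le_stZ d Fp Fp1 Bi hBi Gq)).obj)
    (h₂ : P (SQ.mk (stZ' Gq Gq1 Kd) (stB' d Gq Gq1 Fp1) (stB'_le_stZ' d Gq Gq1 Kd hKd Fp1)).obj) :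
    P (SQ.mk (stZ d Fp Fp1 Gq1) (stB Fp Fp1 Bi) (stB_le_stZ d Fp Fp1 Bi hBi Gq1)).obj ∧
    P (SQ.mk (stZ' Gq Gq1 Kd) (stB' d Gq Gq1 Fp) (stB'_le_stZ' d Gq Gq1 Kd hKd Fp)).obj := by
  -- the auxiliary presentation `E' = W / (W ⊓ Br)` of `Zr/Br`
  let E' : SQ X := ⟨stW d Fp Gq, stW d Fp Gq ⊓ stB Fp Fp1 Bi, inf_le_left⟩
  let Er : SQ X := ⟨stZ d Fp Fp1 Gq, stB Fp Fp1 Bi, stB_le_stZ d Fp Fp1 Bi hBi Gq⟩
  let Er' : SQ Y := ⟨stZ' Gq Gq1 Kd, stB' d Gq Gq1 Fp1, stB'_le_stZ' d Gq Gq1 Kd hKd Fp1⟩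
  let Ec : SQ Y := ⟨stZ' Gq Gq1 Kd, stB' d Gq Gq1 Fp, stB'_le_stZ' d Gq Gq1 Kd hKd Fp⟩
  let Ek : SQ X := ⟨stWt d Fp Fp1 Gq Gq1, stW d Fp Gq ⊓ stB Fp Fp1 Bi,
    le_inf inf_le_left (stW_inf_stB_le d Fp Fp1 Bi Gq Gq1 hBi)⟩
  let Ez : SQ X := ⟨stZ d Fp Fp1 Gq1, stB Fp Fp1 Bi, stB_le_stZ d Fp Fp1 Bi hBi Gq1⟩
  -- α : E' ≅ Er
  have hαm : Mono (SQ.mapId E' Er le_sup_left inf_le_right) := SQ.mono_mapId _ _ _ _ le_rfl
  have hαe : Epi (SQ.mapId E' Er le_sup_left inf_le_right) :=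
    SQ.epi_mapId _ _ _ _ (sup_le_sup_left (le_sup_right : Fp1 ≤ stB Fp Fp1 Bi) _)
  have hE' : P E'.obj := (hP.of_mono_epi (SQ.mapId E' Er le_sup_left inf_le_right)).mpr h₁
  -- δ : E' ⟶ Er'
  let δ := SQ.map d E' Er' (stW_le_pullback_stZ' d Fp Gq Gq1 Kd hKd)
    (stW_inf_stB_le d Fp Fp1 Bi Gq Gq1 hBi)
  -- κ : Ek ⟶ E'
  have hκm : Mono (SQ.mapId Ek E' inf_le_left le_rfl) := SQ.mono_mapId _ _ _ _ inf_le_right
  have w₁ : SQ.mapId Ek E' inf_le_left le_rfl ≫ δ = 0 :=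
    SQ.map_comp_eq_zero _ _ _ _ _ _ _ _ _ (by
      rw [Category.id_comp]; exact inf_le_right)
  have hex₁ : (ShortComplex.mk _ _ w₁).Exact :=
    SQ.exact_map _ _ _ _ _ _ _ _ _ w₁ ((le_img_id _).trans le_sup_left)
  have hEk : P Ek.obj := hP.ker _ _ w₁ hex₁ hE' h₂
  -- β : Ek ≅ Ez
  have hβm : Mono (SQ.mapId Ek Ez (stWt_le_stZ1 d Fp Fp1 Gq Gq1 hF) inf_le_right) :=
    SQ.mono_mapId _ _ _ _ (le_inf (inf_le_left.trans inf_le_left) inf_le_right)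
  have hβe : Epi (SQ.mapId Ek Ez (stWt_le_stZ1 d Fp Fp1 Gq Gq1 hF) inf_le_right) :=
    SQ.epi_mapId _ _ _ _ (stZ1_le d Fp Fp1 Bi Gq Gq1 hG)
  have hEz : P Ez.obj :=
    (hP.of_mono_epi (SQ.mapId Ek Ez (stWt_le_stZ1 d Fp Fp1 Gq Gq1 hF) inf_le_right)).mp hEk
  -- γ : Er' ⟶ Ec
  have hγe : Epi (SQ.mapId Er' Ec le_rfl (stB'_mono d Fp Fp1 Gq Gq1 hF)) :=
    SQ.epi_mapId _ _ _ _ le_sup_left
  have w₂ : δ ≫ SQ.mapId Er' Ec le_rfl (stB'_mono d Fp Fp1 Gq Gq1 hF) = 0 :=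
    SQ.map_comp_eq_zero _ _ _ _ _ _ _ _ _ (by
      rw [Category.comp_id]; exact stW_le_pullback_stB1' d Fp Gq Gq1)
  have hex₂ : (ShortComplex.mk _ _ w₂).Exact :=
    SQ.exact_map _ _ _ _ _ _ _ _ _ w₂ (by
      rw [Subobject.pullback_id]
      exact stZ'_inf_stB1'_le d Fp Fp1 Gq Gq1 Kd)
  have hEc : P Ec.obj := hP.coker _ _ w₂ hex₂ hE' h₂
  exact ⟨hEz, hEc⟩

end Step

end Groth.Agent.Lib.Seat65.SubQ
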