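import Mathlib
import Groth.Agent.Lib.Seat53AltTrace

/-!
# Trace calculus for `ℂ[X]`-modules (helper65)

Objects of `ModuleCat ℂ[X]` viewed as complex vector spaces with the endomorphism "multiplication by
`X`": finiteness, dimension, eigenvalues and trace; behaviour under monos, epis, isos and four-term
exact sequences; the relation `tr Z_j - tr X_j + tr Z_i - tr H_i = 0` in a homological complex; and
a telescoping lemma for alternating double sums over the first quadrant.
-/

set_option autoImplicit false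
universe u
open CategoryTheory CategoryTheory.Limits

namespace Groth.Agent.Lib.Seat65.TrMod

section Lin

variable {K : Type*} [Field K] {V W : Type*} [AddCommGroup V] [AddCommGroup W]
  [Module K V] [Module K W]

theorem hasEigenvalue_of_injective (f : V →ₗ[K] W) (hf : Function.Injective f)
    (φ : V →ₗ[K] V) (ψ : W →ₗ[K] W) (h : ∀ x, f (φ x) = ψ (f x)) {μ : K}
    (hμ : Module.End.HasEigenvalue φ μ) : Module.End.HasEigenvalue ψ μ := by
  obtain ⟨v, hv⟩ := hμ.exists_hasEigenvector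
  refine Module.End.hasEigenvalue_of_hasEigenvector (x := f v) ⟨?_, ?_⟩
  · rw [Module.End.mem_eigenspace_iff, ← h, Module.End.mem_eigenspace_iff.mp hv.1, map_smul]
  · intro h0
    exact hv.2 (hf (by rw [h0, map_zero]))

theorem hasEigenvalue_of_surjective [FiniteDimensional K V] (f : V →ₗ[K] W)
    (hf : Function.Surjective f)
    (φ : V →ₗ[K] V) (ψ : W →ₗ[K] W) (h : ∀ x, f (φ x) = ψ (f x)) {μ : K}
    (hμ : Module.End.HasEigenvalue ψ μ) : Module.End.HasEigenvalue φ μ := by
  by_contra hφ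
  have : FiniteDimensional K W := Module.Finite.of_surjective f hf
  have h1 : LinearMap.ker (φ - μ • (1 : Module.End K V)) = ⊥ := by
    rw [Module.End.hasEigenvalue_iff, Module.End.eigenspace_def] at hφ
    exact not_not.mp hφ
  have h2 : Function.Surjective (φ - μ • (1 : Module.End K V)) :=
    LinearMap.injective_iff_surjective.mp (LinearMap.ker_eq_bot.mp h1)
  have h3 : Function.Surjective (ψ - μ • (1 : Module.End K W)) := by
    intro w
    obtain ⟨v, rfl⟩ := hf w
    obtain ⟨v', rfl⟩ := h2 v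
    refine ⟨f v', ?_⟩
    simp only [LinearMap.sub_apply, LinearMap.smul_apply, Module.End.one_apply, map_sub, map_smul, h]
  have h4 : LinearMap.ker (ψ - μ • (1 : Module.End K W)) = ⊥ :=
    LinearMap.ker_eq_bot.mpr (LinearMap.injective_iff_surjective.mpr h3)
  rw [Module.End.hasEigenvalue_iff, Module.End.eigenspace_def] at hμ
  exact hμ h4

variable {V₀ V₁ V₂ V₃ : Type*} [AddCommGroup V₀] [AddCommGroup V₁] [AddCommGroup V₂]
  [AddCommGroup V₃] [Module K V₀] [Module K V₁] [Module K V₂] [Module K V₃]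

theorem trace_four [FiniteDimensional K V₁] [FiniteDimensional K V₂]
    (i : V₀ →ₗ[K] V₁) (g : V₁ →ₗ[K] V₂) (p : V₂ →ₗ[K] V₃)
    (hi : Function.Injective i) (hig : Function.Exact i g) (hgp : Function.Exact g p)
    (hp : Function.Surjective p)
    (φ₀ : V₀ →ₗ[K] V₀) (φ₁ : V₁ →ₗ[K] V₁) (φ₂ : V₂ →ₗ[K] V₂) (φ₃ : V₃ →ₗ[K] V₃)
    (h0 : ∀ x, i (φ₀ x) = φ₁ (i x)) (h1 : ∀ x, g (φ₁ x) = φ₂ (g x))
    (h2 : ∀ x, p (φ₂ x) = φ₃ (p x)) :
    LinearMap.trace K V₀ φ₀ - LinearMap.trace K V₁ φ₁ + LinearMap.trace K V₂ φ₂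
      - LinearMap.trace K V₃ φ₃ = 0 := by
  have hinv : LinearMap.range g ≤ (LinearMap.range g).comap φ₂ := by
    rintro _ ⟨x, rfl⟩
    exact ⟨φ₁ x, h1 x⟩
  have e1 := Groth.Agent.Lib.Seat53.AltTrace.trace_add_of_exact i g.rangeRestrict hi
    g.surjective_rangeRestrict (by
      intro x
      rw [← hig x]
      constructor
      · intro h
        have := congrArg Subtype.val h
        simpa using this
      · intro h
        apply Subtype.ext
        simpa using h) φ₀ φ₁ (φ₂.restrict hinv) h0 (by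
      intro x
      apply Subtype.ext
      simp [h1])
  have e2 := Groth.Agent.Lib.Seat53.AltTrace.trace_add_of_exact (LinearMap.range g).subtype p
    (Submodule.injective_subtype _) hp (by
      intro x
      rw [hgp x]
      simp) (φ₂.restrict hinv) φ₂ φ₃ (by intro x; rfl) h2
  rw [e1, e2]
  ring

end Lin


section Cat

/-- The ring `ℂ[X]`. -/
abbrev P := Polynomial ℂ

/-- Restriction of scalars from `ℂ[X]`-modules to `ℂ`-vector spaces. -/
noncomputable abbrev rs : ModuleCat.{u} P ⥤ ModuleCat.{u} ℂ :=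
  ModuleCat.restrictScalars (algebraMap ℂ (Polynomial ℂ))

/-- Multiplication by `X` as a `ℂ`-linear endomorphism. -/
noncomputable abbrev Phi (M : ModuleCat.{u} P) : (rs.obj M) →ₗ[ℂ] (rs.obj M) :=
  (rs.map ((Polynomial.X : P) • 𝟙 M)).hom

/-- The trace of multiplication by `X`. -/
noncomputable abbrev tr (M : ModuleCat.{u} P) : ℂ := LinearMap.trace ℂ _ (Phi M)

/-- Finite-dimensionality over `ℂ`. -/
abbrev Fin (M : ModuleCat.{u} P) : Prop := Module.Finite ℂ (rs.obj M)

/-- Dimension over `ℂ`. -/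
noncomputable abbrev rk (M : ModuleCat.{u} P) : ℕ := Module.finrank ℂ (rs.obj M)

/-- `μ` is an eigenvalue of multiplication by `X`. -/
abbrev Eig (M : ModuleCat.{u} P) (μ : ℂ) : Prop := Module.End.HasEigenvalue (Phi M) μ

variable {M N : ModuleCat.{u} P}

theorem Phi_apply (M : ModuleCat.{u} P) (x : rs.obj M) :
    Phi M x = (Polynomial.X : P) • (show M from x) := rfl

theorem map_Phi (f : M ⟶ N) (x : rs.obj M) :
    (rs.map f).hom (Phi M x) = Phi N ((rs.map f).hom x) := by
  change f.hom ((Polynomial.X : P) • (show M from x)) = (Polynomial.X : P) • f.hom (show M from x)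
  rw [map_smul]

theorem injective_of_mono (f : M ⟶ N) [Mono f] : Function.Injective (rs.map f).hom :=
  (ModuleCat.mono_iff_injective f).mp inferInstance

theorem surjective_of_epi (f : M ⟶ N) [Epi f] : Function.Surjective (rs.map f).hom :=
  (ModuleCat.epi_iff_surjective f).mp inferInstance

theorem fin_of_mono (f : M ⟶ N) [Mono f] (h : Fin N) : Fin M :=
  Module.Finite.of_injective (rs.map f).hom (injective_of_mono f)

theorem fin_of_epi (f : M ⟶ N) [Epi f] (h : Fin M) : Fin N :=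
  Module.Finite.of_surjective (rs.map f).hom (surjective_of_epi f)

theorem rk_le_of_mono (f : M ⟶ N) [Mono f] (h : Fin N) : rk M ≤ rk N :=
  LinearMap.finrank_le_finrank_of_injective (injective_of_mono f)

theorem rk_le_of_epi (f : M ⟶ N) [Epi f] (h : Fin M) : rk N ≤ rk M :=
  LinearMap.finrank_le_finrank_of_surjective (surjective_of_epi f)

theorem eig_of_mono (f : M ⟶ N) [Mono f] {μ : ℂ} (h : Eig M μ) : Eig N μ :=
  hasEigenvalue_of_injective (rs.map f).hom (injective_of_mono f) _ _ (map_Phi f) h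

theorem eig_of_epi (f : M ⟶ N) [Epi f] (hM : Fin M) {μ : ℂ} (h : Eig N μ) : Eig M μ :=
  hasEigenvalue_of_surjective (rs.map f).hom (surjective_of_epi f) _ _ (map_Phi f) h

theorem fin_of_isZero (h : IsZero M) : Fin M := by
  have : Subsingleton M := ModuleCat.subsingleton_of_isZero h
  have : Subsingleton (rs.obj M) := this
  infer_instance

theorem tr_of_isZero (h : IsZero M) : tr M = 0 := by
  have : Subsingleton M := ModuleCat.subsingleton_of_isZero h
  have : Subsingleton (rs.obj M) := this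
  have h0 : Phi M = 0 := LinearMap.ext fun x => Subsingleton.elim _ _
  rw [tr, h0, map_zero]

theorem tr_eq_of_iso (e : M ≅ N) : tr M = tr N := by
  have := LinearMap.trace_conj' (Phi M) (rs.mapIso e).toLinearEquiv
  change LinearMap.trace ℂ _ (Phi M) = LinearMap.trace ℂ _ (Phi N)
  rw [← this]
  congr 1
  apply LinearMap.ext
  intro y
  obtain ⟨x, rfl⟩ := (rs.mapIso e).toLinearEquiv.surjective y
  simp only [LinearEquiv.conj_apply, LinearMap.coe_comp, LinearEquiv.coe_coe, Function.comp_apply,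
    LinearEquiv.symm_apply_apply]
  exact map_Phi e.hom x

theorem fin_of_iso (e : M ≅ N) (h : Fin M) : Fin N := fin_of_epi e.hom h

theorem rk_eq_of_iso (e : M ≅ N) : rk M = rk N :=
  LinearEquiv.finrank_eq (rs.mapIso e).toLinearEquiv

theorem eig_of_iso (e : M ≅ N) {μ : ℂ} (h : Eig M μ) : Eig N μ := eig_of_mono e.hom h


theorem tr_four {M₀ M₁ M₂ M₃ : ModuleCat.{u} P} (i : M₀ ⟶ M₁) (g : M₁ ⟶ M₂) (p : M₂ ⟶ M₃)
    [Mono i] [Epi p] (w₁ : i ≫ g = 0) (w₂ : g ≫ p = 0)
    (h₁ : (ShortComplex.mk i g w₁).Exact) (h₂ : (ShortComplex.mk g p w₂).Exact)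
    (hM₁ : Fin M₁) (hM₂ : Fin M₂) :
    tr M₀ - tr M₁ + tr M₂ - tr M₃ = 0 := by
  have e₁ : Function.Exact (rs.map i).hom (rs.map g).hom :=
    (ShortComplex.ShortExact.moduleCat_exact_iff_function_exact _).mp h₁
  have e₂ : Function.Exact (rs.map g).hom (rs.map p).hom :=
    (ShortComplex.ShortExact.moduleCat_exact_iff_function_exact _).mp h₂
  exact trace_four (rs.map i).hom (rs.map g).hom (rs.map p).hom (injective_of_mono i) e₁ e₂
    (surjective_of_epi p) (Phi M₀) (Phi M₁) (Phi M₂) (Phi M₃) (map_Phi i) (map_Phi g) (map_Phi p)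

variable {ι : Type*} {c : ComplexShape ι} (K : HomologicalComplex (ModuleCat.{u} P) c)

/-- The basic relation between traces on cycles, terms and homology. -/
theorem tr_cycles_homology {j i : ι} (hji : c.Rel j i) (hj : Fin (K.X j)) (hi : Fin (K.X i)) :
    tr (K.cycles j) - tr (K.X j) + tr (K.cycles i) - tr (K.homology i) = 0 := by
  have w₁ : K.iCycles j ≫ K.toCycles j i = 0 := by
    rw [← cancel_mono (K.iCycles i)]
    simp
  have h₁ : (ShortComplex.mk (K.iCycles j) (K.toCycles j i) w₁).Exact := by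
    apply ShortComplex.exact_of_f_is_kernel
    exact isKernelOfComp (K.iCycles i) (K.d j i) (K.cyclesIsKernel j i (c.next_eq' hji)) w₁
      (K.toCycles_i j i)
  have h₂ : (ShortComplex.mk (K.toCycles j i) (K.homologyπ i) (by simp)).Exact := by
    apply ShortComplex.exact_of_g_is_cokernel
    exact K.homologyIsCokernel j i (c.prev_eq' hji)
  exact tr_four (K.iCycles j) (K.toCycles j i) (K.homologyπ i) w₁ (by simp) h₁ h₂ hj
    (fin_of_mono (K.iCycles i) hi)

end Cat

section Telescope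

/-- The inclusion of the first quadrant. -/
def quad (pq : ℕ × ℕ) : ℤ × ℤ := ((pq.1 : ℤ), (pq.2 : ℤ))

theorem quad_injective : Function.Injective quad := by
  rintro ⟨a, b⟩ ⟨c, d⟩ h
  simp only [quad, Prod.mk.injEq, Nat.cast_inj] at h
  exact Prod.ext h.1 h.2

theorem mem_range_quad (i : ℤ × ℤ) : i ∈ Set.range quad ↔ 0 ≤ i.1 ∧ 0 ≤ i.2 := by
  constructor
  · rintro ⟨pq, rfl⟩
    exact ⟨Int.natCast_nonneg _, Int.natCast_nonneg _⟩
  · rintro ⟨h1, h2⟩
    refine ⟨(i.1.toNat, i.2.toNat), ?_⟩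
    simp only [quad]
    ext
    · exact Int.toNat_of_nonneg h1
    · exact Int.toNat_of_nonneg h2

/-- The sign `(-1)^(p+q)` on `ℤ × ℤ`. -/
noncomputable def sgn (i : ℤ × ℤ) : ℂ := (-1 : ℂ) ^ (i.1 + i.2)

theorem sgn_quad (pq : ℕ × ℕ) : sgn (quad pq) = (-1 : ℂ) ^ (pq.1 + pq.2) := by
  simp only [sgn, quad]
  rw [← Nat.cast_add, zpow_natCast]

theorem sgn_sub (i v : ℤ × ℤ) (hv : v.1 + v.2 = 1) : sgn (i - v) = - sgn i := by
  simp only [sgn, Prod.fst_sub, Prod.snd_sub]
  have : i.1 - v.1 + (i.2 - v.2) = (i.1 + i.2) - 1 := by omega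
  rw [this, zpow_sub₀ (by norm_num : (-1 : ℂ) ≠ 0), zpow_one]
  ring

theorem norm_sgn (i : ℤ × ℤ) : ‖sgn i‖ = 1 := by
  simp [sgn, norm_zpow]

theorem telescope (v : ℤ × ℤ) (hv : v.1 + v.2 = 1) (x h γ : ℤ × ℤ → ℂ)
    (hrel : ∀ i, x i - h i = γ i + γ (i - v))
    (ha : ∀ i, i ∉ Set.range quad → γ i = 0) (hb : ∀ i, i + v ∉ Set.range quad → γ i = 0)
    (hx : Summable (fun pq : ℕ × ℕ => ‖x (quad pq)‖))
    (hh : Summable (fun pq : ℕ × ℕ => ‖h (quad pq)‖))
    (hγ : Summable (fun pq : ℕ × ℕ => ‖γ (quad pq)‖)) :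
    ∑' pq : ℕ × ℕ, (-1 : ℂ) ^ (pq.1 + pq.2) * h (quad pq) =
      ∑' pq : ℕ × ℕ, (-1 : ℂ) ^ (pq.1 + pq.2) * x (quad pq) := by
  set G : ℤ × ℤ → ℂ := fun i => sgn i * γ i with hG
  have hGq : Summable (G ∘ quad) := by
    apply Summable.of_norm
    refine hγ.congr ?_
    intro pq
    simp [hG, norm_sgn]
  have hGsupp : ∀ i, i ∉ Set.range quad → G i = 0 := by
    intro i hi
    simp [hG, ha i hi]
  have hGs : Summable G := (quad_injective.summable_iff hGsupp).mp hGq
  let sh : ℕ × ℕ → ℤ × ℤ := fun pq => quad pq - v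
  have hsh : Function.Injective sh := by
    intro a b hab
    apply quad_injective
    simpa [sh] using hab
  have hGsh : Summable (G ∘ sh) := hGs.comp_injective hsh
  have hsX : Summable (fun pq : ℕ × ℕ => (-1 : ℂ) ^ (pq.1 + pq.2) * x (quad pq)) := by
    apply Summable.of_norm
    refine hx.congr ?_
    intro pq
    simp
  have hsH : Summable (fun pq : ℕ × ℕ => (-1 : ℂ) ^ (pq.1 + pq.2) * h (quad pq)) := by
    apply Summable.of_norm
    refine hh.congr ?_
    intro pq
    simp
  have key : ∀ pq : ℕ × ℕ, (-1 : ℂ) ^ (pq.1 + pq.2) * x (quad pq) -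
      (-1 : ℂ) ^ (pq.1 + pq.2) * h (quad pq) = (G ∘ quad) pq - (G ∘ sh) pq := by
    intro pq
    simp only [Function.comp_apply, hG, sh]
    rw [sgn_sub _ _ hv, sgn_quad, ← mul_sub, hrel]
    ring
  have e1 : ∑' pq, (G ∘ quad) pq = ∑' i, G i :=
    quad_injective.tsum_eq (f := G) (by
      intro i hi
      by_contra hn
      exact hi (hGsupp i hn))
  have e2 : ∑' pq, (G ∘ sh) pq = ∑' i, G i :=
    hsh.tsum_eq (f := G) (by
      intro i hi
      by_contra hn
      apply hi
      have : γ i = 0 := by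
        apply hb
        intro hmem
        obtain ⟨pq, hpq⟩ := hmem
        apply hn
        refine ⟨pq, ?_⟩
        simp [sh, hpq]
      simp [hG, this])
  have : ∑' pq : ℕ × ℕ, (-1 : ℂ) ^ (pq.1 + pq.2) * x (quad pq) -
      ∑' pq : ℕ × ℕ, (-1 : ℂ) ^ (pq.1 + pq.2) * h (quad pq) = 0 := by
    rw [← hsX.tsum_sub hsH]
    rw [tsum_congr key, hGq.tsum_sub hGsh, e1, e2, sub_self]
  exact (sub_eq_zero.mp this).symm

end Telescope

end Groth.Agent.Lib.Seat65.TrMod
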