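import Groth.Agent.Lib.Seat65TrModStep
import Groth.Prelude.Def_SpSeq

/-!
# Alternating traces on the abutment of a first-quadrant spectral sequence of `ℂ[X]`-modules (helper65)

Finite filtrations are additive for the trace (`fin_tr_of_finite`); all pages satisfy the bounds
(`pages`); pages `≥ N + 2` have zero differentials (`d_eq_zero`); stationary positions
(`iso_of_stationary`, `iso_infty`); the final statement `main` (= S14283).
-/

set_option autoImplicit false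
universe u
open CategoryTheory CategoryTheory.Limits

namespace Groth.Agent.Lib.Seat65.TrModAbut

open Groth.Agent.Lib.Seat65.TrMod Groth.Agent.Lib.Seat65.TrModStep SpSeq

section Antidiag
open Finset.HasAntidiagonal

theorem summable_sum_antidiagonal {α : Type*} [NormedAddCommGroup α] [CompleteSpace α]
    {g : ℕ × ℕ → α} (hg : Summable g) :
    Summable fun n : ℕ => ∑ kl ∈ antidiagonal n, g kl := by
  have h : Summable fun x : Σ n : ℕ, antidiagonal n => g (x.2 : ℕ × ℕ) :=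
    (sigmaAntidiagonalEquivProd.summable_iff (f := g)).mpr hg
  conv => congr; ext; rw [← Finset.sum_finset_coe, ← tsum_fintype (L := .unconditional _)]
  exact h.sigma' fun n => (hasSum_fintype _).summable

theorem tsum_antidiagonal {α : Type*} [NormedAddCommGroup α] [CompleteSpace α]
    {f : ℕ × ℕ → α} (hf : Summable f) :
    ∑' n : ℕ, ∑ kl ∈ antidiagonal n, f kl = ∑' kl, f kl := by
  have h : Summable fun x : Σ n : ℕ, antidiagonal n => f (x.2 : ℕ × ℕ) :=
    (sigmaAntidiagonalEquivProd.summable_iff (f := f)).mpr hf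
  conv_lhs => congr; ext; rw [← Finset.sum_finset_coe, ← tsum_fintype (L := .unconditional _)]
  rw [← sigmaAntidiagonalEquivProd.tsum_eq f]
  exact (h.tsum_sigma' (fun n => (hasSum_fintype _).summable)).symm

end Antidiag

theorem fin_tr_ses {M₀ M₁ M₂ : ModuleCat.{u} P} (i : M₀ ⟶ M₁) (p : M₁ ⟶ M₂) [Mono i] [Epi p]
    (w : i ≫ p = 0) (hex : (ShortComplex.mk i p w).Exact) (h₀ : Fin M₀) (h₂ : Fin M₂) :
    Fin M₁ ∧ tr M₁ = tr M₀ + tr M₂ := by
  have e : Function.Exact (rs.map i).hom (rs.map p).hom :=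
    (ShortComplex.ShortExact.moduleCat_exact_iff_function_exact _).mp hex
  have hfin : Fin M₁ := Module.Finite.of_exact e (surjective_of_epi p)
  refine ⟨hfin, ?_⟩
  exact Groth.Agent.Lib.Seat53.AltTrace.trace_add_of_exact (rs.map i).hom (rs.map p).hom
    (injective_of_mono i) (surjective_of_epi p) e (Phi M₀) (Phi M₁) (Phi M₂) (map_Phi i) (map_Phi p)

variable {M : ModuleCat.{u} P} (F : ℤ → Subobject M) (hF : Antitone F)

theorem isZero_of_eq_bot (S : Subobject M) (h : S = ⊥) : IsZero (S : ModuleCat.{u} P) := by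
  subst h
  exact IsZero.of_iso (isZero_zero _) Subobject.botCoeIsoZero

theorem coker_step {M₀ M₁ : ModuleCat.{u} P} (i : M₀ ⟶ M₁) [Mono i] (h₀ : Fin M₀)
    (h₂ : Fin (cokernel i)) : Fin M₁ ∧ tr M₁ = tr M₀ + tr (cokernel i) := by
  refine fin_tr_ses i (cokernel.π i) (cokernel.condition i) ?_ h₀ h₂
  apply ShortComplex.exact_of_g_is_cokernel
  exact cokernelIsCokernel _

theorem gr_step (p : ℤ) (h₀ : Fin (F (p + 1) : ModuleCat.{u} P)) (h₂ : Fin (grPiece F hF p)) :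
    Fin (F p : ModuleCat.{u} P) ∧
      tr (F p : ModuleCat.{u} P) = tr (F (p + 1) : ModuleCat.{u} P) + tr (grPiece F hF p) :=
  coker_step ((F (p + 1)).ofLE (F p) (hF (Int.le_add_one le_rfl))) h₀ h₂

theorem isZero_cokernel_of_isIso {M₀ M₁ : ModuleCat.{u} P} (i : M₀ ⟶ M₁) [IsIso i] :
    IsZero (cokernel i) := by
  have h0 : cokernel.π i = 0 := by
    rw [← cancel_epi i, cokernel.condition, comp_zero]
  rw [IsZero.iff_id_eq_zero, ← cancel_epi (cokernel.π i), h0, zero_comp, zero_comp]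

theorem isZero_gr_of_eq (p : ℤ) (h : F (p + 1) = F p) : IsZero (grPiece F hF p) := by
  have hle : F (p + 1) ≤ F p := hF (Int.le_add_one le_rfl)
  have : IsIso ((F (p + 1)).ofLE (F p) hle) := by
    have : (F (p + 1)).ofLE (F p) hle = (Subobject.isoOfEq _ _ h).hom := by
      rw [← cancel_mono (F p).arrow]
      simp
    rw [this]
    infer_instance
  exact isZero_cokernel_of_isIso ((F (p + 1)).ofLE (F p) hle)

theorem fin_tr_fil (b : ℤ) (hb : F b = ⊥) (hfin : ∀ p, Fin (grPiece F hF p)) :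
    ∀ k : ℕ, Fin (F (b - k) : ModuleCat.{u} P) ∧
      tr (F (b - k) : ModuleCat.{u} P) = ∑ p ∈ Finset.Ico (b - k) b, tr (grPiece F hF p) := by
  intro k
  induction k with
  | zero =>
    have h0 : IsZero (F (b - (0 : ℕ)) : ModuleCat.{u} P) := by
      apply isZero_of_eq_bot
      simpa using hb
    refine ⟨fin_of_isZero h0, ?_⟩
    rw [tr_of_isZero h0]
    simp
  | succ k ih =>
    have e1 : b - ((k + 1 : ℕ) : ℤ) + 1 = b - (k : ℤ) := by push_cast; ring
    have h1 := gr_step F hF (b - ((k + 1 : ℕ) : ℤ)) (by rw [e1]; exact ih.1) (hfin _)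
    refine ⟨h1.1, ?_⟩
    rw [h1.2]
    have e2 : b - ((k + 1 : ℕ) : ℤ) = b - (k : ℤ) - 1 := by push_cast; ring
    have hle : b - (k : ℤ) ≤ b := by omega
    rw [e2, ← Finset.insert_Ico_left_eq_Ico_sub_one hle, Finset.sum_insert (by simp)]
    have e3 : b - (k : ℤ) - 1 + 1 = b - (k : ℤ) := by ring
    rw [e3, ih.2]
    ring

theorem tr_gr_eq_zero_of_notMem (a b : ℤ) (ha : F a = ⊤) (hb : F b = ⊥) (p : ℤ)
    (hp : p ∉ Finset.Ico a b) : IsZero (grPiece F hF p) := by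
  apply isZero_gr_of_eq
  rw [Finset.mem_Ico, not_and_or, not_le, not_lt] at hp
  rcases hp with hp | hp
  · have h1 : F p = ⊤ := top_le_iff.mp (ha ▸ hF hp.le)
    have h2 : F (p + 1) = ⊤ := top_le_iff.mp (ha ▸ hF (by omega : p + 1 ≤ a))
    rw [h1, h2]
  · have h1 : F p = ⊥ := le_bot_iff.mp (hb ▸ hF hp)
    have h2 : F (p + 1) = ⊥ := le_bot_iff.mp (hb ▸ hF (by omega : b ≤ p + 1))
    rw [h1, h2]

theorem fin_tr_of_finite (a b : ℤ) (ha : F a = ⊤) (hb : F b = ⊥)
    (hfin : ∀ p, Fin (grPiece F hF p)) :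
    Fin M ∧ tr M = ∑ᶠ p : ℤ, tr (grPiece F hF p) := by
  wlog hab : a ≤ b generalizing a
  · refine this b ?_ le_rfl
    exact top_le_iff.mp (ha ▸ hF (not_le.mp hab).le)
  obtain ⟨k, hk⟩ : ∃ k : ℕ, b - (k : ℤ) = a := ⟨(b - a).toNat, by omega⟩
  have h1 := fin_tr_fil F hF b hb hfin k
  rw [hk] at h1
  have : IsIso (F a).arrow := (Subobject.isIso_arrow_iff_eq_top _).mpr ha
  refine ⟨fin_of_iso (asIso (F a).arrow) h1.1, ?_⟩
  rw [← tr_eq_of_iso (asIso (F a).arrow), h1.2]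
  symm
  apply finsum_eq_sum_of_support_subset
  intro p hp
  by_contra hn
  exact hp (tr_of_isZero (tr_gr_eq_zero_of_notMem F hF a b ha hb p (by simpa using hn)))


section Pages

variable (E : E₂CohomologicalSpectralSequence (ModuleCat.{u} P))
  {N : ℕ} {a c : ℕ → ℝ} {b d : ℕ → ℕ}

/-- The alternating sum of traces over the first quadrant. -/
noncomputable def altSum (F : ℤ × ℤ → ModuleCat.{u} P) : ℂ :=
  ∑' pq : ℕ × ℕ, (-1 : ℂ) ^ (pq.1 + pq.2) * tr (F (quad pq))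

theorem pages (h : Bdd (E.page 2 le_rfl).X N a c b d)
    (ha : ∀ q, 0 ≤ a q) (hc : ∀ p, 0 ≤ c p) (hsum : Summable fun p : ℕ => c p * (d p : ℝ)) :
    ∀ (r : ℤ) (hr : 2 ≤ r), Bdd (E.page r hr).X N a c b d ∧
      altSum (E.page r hr).X = altSum (E.page 2 le_rfl).X := by
  intro r hr
  induction r, hr using Int.leInduction with
  | base => exact ⟨h, rfl⟩
  | succ r hr ih =>
    have := step (E.page r hr) (by simp) (fun pq => E.iso r (r + 1) pq rfl hr) ih.1 ha hc hsum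
    exact ⟨this.1, this.2.trans ih.2⟩

theorem d_eq_zero (hB : ∀ (r : ℤ) (hr : 2 ≤ r), Bdd (E.page r hr).X N a c b d)
    (r : ℤ) (hr : 2 ≤ r) (hrN : (N : ℤ) + 2 ≤ r) (i j : ℤ × ℤ) : (E.page r hr).d i j = 0 := by
  by_cases hij : (ComplexShape.up' ((r, 1 - r) : ℤ × ℤ)).Rel i j
  · have hj : i + (r, 1 - r) = j := hij
    by_cases hi : i ∈ Set.range quad
    · obtain ⟨⟨p, q⟩, rfl⟩ := hi
      by_cases hq : N < q
      · exact ((hB r hr).2.2.1 p q hq).eq_of_src _ _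
      · apply IsZero.eq_of_tgt
        apply (hB r hr).1
        right
        rw [← hj]
        simp only [quad, Prod.snd_add]
        omega
    · apply IsZero.eq_of_src
      apply (hB r hr).1
      rw [mem_range_quad] at hi
      omega
  · exact (E.page r hr).shape i j hij

theorem iso_of_stationary (pq : ℤ × ℤ) (r₁ : ℤ) (h₁ : 2 ≤ r₁)
    (hstat : ∀ (r' : ℤ) (h₀ : 2 ≤ r') (_ : r₁ ≤ r'),
      (E.page r' h₀).d (pq - (r', 1 - r')) pq = 0 ∧ (E.page r' h₀).d pq (pq + (r', 1 - r')) = 0) :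
    ∀ (r₂ : ℤ) (h12 : r₁ ≤ r₂), Nonempty ((E.page r₁ h₁).X pq ≅ (E.page r₂ (h₁.trans h12)).X pq) := by
  intro r₂ h12
  induction r₂, h12 using Int.leInduction with
  | base => exact ⟨Iso.refl _⟩
  | succ r hr ih =>
    obtain ⟨e⟩ := ih
    obtain ⟨z₁, z₂⟩ := hstat r (h₁.trans hr) hr
    exact ⟨e ≪≫ (homologyIsoOfZero (E.page r (h₁.trans hr)) pq z₁ z₂).symm ≪≫
      E.iso r (r + 1) pq rfl (h₁.trans hr)⟩


variable {E} {H : ℤ → ModuleCat.{u} P} (abut : SpSeq.Abutment E H)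

theorem N2_le (N : ℕ) : (2 : ℤ) ≤ (N : ℤ) + 2 := by omega

theorem iso_infty (hB : ∀ (r : ℤ) (hr : 2 ≤ r), Bdd (E.page r hr).X N a c b d) (pq : ℤ × ℤ) :
    Nonempty ((E.page (abut.rk pq) (abut.stat pq).1).X pq ≅ (E.page ((N : ℤ) + 2) (N2_le N)).X pq) := by
  obtain ⟨e₁⟩ := iso_of_stationary E pq (abut.rk pq) (abut.stat pq).1 (abut.stat pq).2
    (max (abut.rk pq) ((N : ℤ) + 2)) (le_max_left _ _)
  obtain ⟨e₂⟩ := iso_of_stationary E pq ((N : ℤ) + 2) (N2_le N)
    (fun r' h₀ hr' => ⟨d_eq_zero E hB r' h₀ hr' _ _, d_eq_zero E hB r' h₀ hr' _ _⟩)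
    (max (abut.rk pq) ((N : ℤ) + 2)) (le_max_right _ _)
  exact ⟨e₁ ≪≫ e₂.symm⟩

theorem iso_gr (hB : ∀ (r : ℤ) (hr : 2 ≤ r), Bdd (E.page r hr).X N a c b d) (n p : ℤ) :
    Nonempty (grPiece (abut.fil n) (abut.anti n) p ≅ (E.page ((N : ℤ) + 2) (N2_le N)).X (p, n - p)) := by
  have key : ∀ (m : ℤ) (hm : m = n),
      Nonempty (grPiece (abut.fil m) (abut.anti m) p ≅ grPiece (abut.fil n) (abut.anti n) p) := by
    rintro m rfl
    exact ⟨Iso.refl _⟩
  obtain ⟨e₀⟩ := key (p + (n - p)) (by ring)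
  obtain ⟨e₁⟩ := iso_infty abut hB (p, n - p)
  exact ⟨e₀.symm ≪≫ (abut.β (p, n - p)).symm ≪≫ e₁⟩

theorem fin_tr_H (hB : ∀ (r : ℤ) (hr : 2 ≤ r), Bdd (E.page r hr).X N a c b d) (n : ℤ)
    (hfin : abut.IsFinite n) :
    Fin (H n) ∧ tr (H n) = ∑ᶠ p : ℤ, tr ((E.page ((N : ℤ) + 2) (N2_le N)).X (p, n - p)) := by
  obtain ⟨⟨a₀, ha₀⟩, ⟨b₀, hb₀⟩⟩ := hfin
  have h1 := fin_tr_of_finite (abut.fil n) (abut.anti n) a₀ b₀ ha₀ hb₀ (fun p => by
    obtain ⟨e⟩ := iso_gr abut hB n p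
    exact fin_of_iso e.symm ((hB _ _).2.1 _))
  refine ⟨h1.1, ?_⟩
  rw [h1.2]
  apply finsum_congr
  intro p
  obtain ⟨e⟩ := iso_gr abut hB n p
  exact tr_eq_of_iso e

theorem tr_H_nat (hB : ∀ (r : ℤ) (hr : 2 ≤ r), Bdd (E.page r hr).X N a c b d) (n : ℕ)
    (hfin : abut.IsFinite n) :
    tr (H n) = ∑ kl ∈ Finset.HasAntidiagonal.antidiagonal n,
      tr ((E.page ((N : ℤ) + 2) (N2_le N)).X (quad kl)) := by
  rw [(fin_tr_H abut hB n hfin).2, Finset.Nat.sum_antidiagonal_eq_sum_range_succ_mk]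
  rw [finsum_eq_sum_of_support_subset (s := (Finset.range n.succ).image (fun k : ℕ => (k : ℤ)))]
  · rw [Finset.sum_image (fun x _ y _ h => Nat.cast_injective h)]
    apply Finset.sum_congr rfl
    intro k hk
    have hk' : k ≤ n := Nat.lt_succ_iff.mp (Finset.mem_range.mp hk)
    simp only [quad]
    rw [Nat.cast_sub hk']
  · intro p hp
    by_contra hn
    apply hp
    apply tr_of_isZero
    apply (hB _ _).1
    simp only [Finset.coe_image, Finset.coe_range, Set.mem_image, Set.mem_Iio, not_exists,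
      not_and] at hn
    by_contra hcon
    push Not at hcon
    simp only at hcon
    exact hn p.toNat (by omega) (by omega)


theorem main (hfin : ∀ n, abut.IsFinite n) (h : Bdd (E.page 2 le_rfl).X N a c b d)
    (ha : ∀ q, 0 ≤ a q) (hc : ∀ p, 0 ≤ c p) (hsum : Summable fun p : ℕ => c p * (d p : ℝ)) :
    Summable (fun n : ℕ => ‖tr (H n)‖) ∧
      ∑' n : ℕ, (-1 : ℂ) ^ n * tr (H n) = altSum (E.page 2 le_rfl).X := by
  have hP := pages E h ha hc hsum
  have hB : ∀ (r : ℤ) (hr : 2 ≤ r), Bdd (E.page r hr).X N a c b d := fun r hr => (hP r hr).1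
  set T : ℕ × ℕ → ℂ := fun kl => tr ((E.page ((N : ℤ) + 2) (N2_le N)).X (quad kl)) with hT_def
  have hT : Summable (fun kl => ‖T kl‖) := (hB _ (N2_le N)).summable ha hc hsum
  set f : ℕ × ℕ → ℂ := fun kl => (-1 : ℂ) ^ (kl.1 + kl.2) * T kl with hf_def
  have hf : Summable f := by
    apply Summable.of_norm
    refine hT.congr ?_
    intro kl
    simp [hf_def]
  have hHn : ∀ n : ℕ, (-1 : ℂ) ^ n * tr (H n) =
      ∑ kl ∈ Finset.HasAntidiagonal.antidiagonal n, f kl := by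
    intro n
    rw [tr_H_nat abut hB n (hfin n), Finset.mul_sum]
    apply Finset.sum_congr rfl
    intro kl hkl
    rw [Finset.HasAntidiagonal.mem_antidiagonal] at hkl
    simp only [hf_def, hT_def, hkl]
  constructor
  · have h1 := summable_sum_antidiagonal hT
    refine Summable.of_nonneg_of_le (fun _ => norm_nonneg _) (fun n => ?_) h1
    rw [tr_H_nat abut hB n (hfin n)]
    exact norm_sum_le _ _
  · rw [tsum_congr hHn, tsum_antidiagonal hf, ← (hP _ (N2_le N)).2]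
    rfl

end Pages

end Groth.Agent.Lib.Seat65.TrModAbut
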