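import Groth.Agent.Lib.Seat65TrMod
import Groth.Agent.S14280

/-!
# One page of a spectral sequence of `ℂ[X]`-modules: bounds and alternating trace sums (helper65)
-/

set_option autoImplicit false
universe u
open CategoryTheory CategoryTheory.Limits

namespace Groth.Agent.Lib.Seat65.TrModStep

open Groth.Agent.Lib.Seat65.TrMod

/-- The boundedness condition on a bigraded family of `ℂ[X]`-modules. -/
def Bdd (F : ℤ × ℤ → ModuleCat.{u} P) (N : ℕ) (a c : ℕ → ℝ) (b d : ℕ → ℕ) : Prop :=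
  (∀ pq : ℤ × ℤ, pq.1 < 0 ∨ pq.2 < 0 → IsZero (F pq)) ∧
  (∀ pq : ℤ × ℤ, Module.Finite ℂ (rs.obj (F pq))) ∧
  (∀ p q : ℕ, N < q → IsZero (F ((p : ℤ), (q : ℤ)))) ∧
  (∀ (p q : ℕ) (μ : ℂ), Module.End.HasEigenvalue (Phi (F ((p : ℤ), (q : ℤ)))) μ →
    ‖μ‖ ≤ a q * c p) ∧
  (∀ p q : ℕ, Module.finrank ℂ (rs.obj (F ((p : ℤ), (q : ℤ)))) ≤ b q * d p)

variable {F F' : ℤ × ℤ → ModuleCat.{u} P} {N : ℕ} {a c : ℕ → ℝ} {b d : ℕ → ℕ}

theorem Bdd.of_sub (h : Bdd F N a c b d) (i : ∀ pq, F' pq ⟶ F pq) [∀ pq, Mono (i pq)] :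
    Bdd F' N a c b d := by
  obtain ⟨h1, h2, h3, h4, h5⟩ := h
  refine ⟨fun pq hpq => IsZero.of_mono (i pq) (h1 pq hpq), fun pq => fin_of_mono (i pq) (h2 pq),
    fun p q hq => IsZero.of_mono (i _) (h3 p q hq), fun p q μ hμ => h4 p q μ (eig_of_mono (i _) hμ),
    fun p q => (rk_le_of_mono (i _) (h2 _)).trans (h5 p q)⟩

theorem Bdd.of_quot (h : Bdd F N a c b d) (π : ∀ pq, F pq ⟶ F' pq) [∀ pq, Epi (π pq)] :
    Bdd F' N a c b d := by
  obtain ⟨h1, h2, h3, h4, h5⟩ := h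
  refine ⟨fun pq hpq => IsZero.of_epi (π pq) (h1 pq hpq), fun pq => fin_of_epi (π pq) (h2 pq),
    fun p q hq => IsZero.of_epi (π _) (h3 p q hq),
    fun p q μ hμ => h4 p q μ (eig_of_epi (π _) (h2 _) hμ),
    fun p q => (rk_le_of_epi (π _) (h2 _)).trans (h5 p q)⟩

theorem Bdd.of_iso (h : Bdd F N a c b d) (e : ∀ pq, F pq ≅ F' pq) : Bdd F' N a c b d :=
  h.of_quot (fun pq => (e pq).hom)

theorem Bdd.summable (h : Bdd F N a c b d) (ha : ∀ q, 0 ≤ a q) (hc : ∀ p, 0 ≤ c p)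
    (hsum : Summable fun p : ℕ => c p * (d p : ℝ)) :
    Summable (fun pq : ℕ × ℕ => ‖tr (F (quad pq))‖) := by
  obtain ⟨h1, h2, h3, h4, h5⟩ := h
  have := fun p q : ℕ => h2 ((p : ℤ), (q : ℤ))
  exact Groth.Agent.S14280.result (fun p q : ℕ => rs.obj (F ((p : ℤ), (q : ℤ))))
    (fun p q => Phi (F ((p : ℤ), (q : ℤ)))) N a c b d ha hc
    (fun p q hq => (ModuleCat.subsingleton_of_isZero (h3 p q hq) : Subsingleton (F ((p : ℤ), (q : ℤ))))) h4 h5 hsum


section Step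

variable {v : ℤ × ℤ} (K : HomologicalComplex (ModuleCat.{u} P) (ComplexShape.up' v))

theorem rel_sub (i : ℤ × ℤ) : (ComplexShape.up' v).Rel (i - v) i := by
  change i - v + v = i
  exact sub_add_cancel i v

theorem rel_add (i : ℤ × ℤ) : (ComplexShape.up' v).Rel i (i + v) := rfl

/-- If the differentials into and out of position `i` vanish, the homology at `i` is the term. -/
noncomputable def homologyIsoOfZero (i : ℤ × ℤ) (h₁ : K.d (i - v) i = 0) (h₂ : K.d i (i + v) = 0) :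
    K.homology i ≅ K.X i :=
  (K.isoHomologyπ (i - v) i ((ComplexShape.up' v).prev_eq' (rel_sub i)) h₁).symm ≪≫
    K.iCyclesIso i (i + v) ((ComplexShape.up' v).next_eq' (rel_add i)) h₂

theorem tr_cycles_eq (i : ℤ × ℤ) (h : IsZero (K.X (i + v))) : tr (K.cycles i) = tr (K.X i) :=
  tr_eq_of_iso (K.iCyclesIso i (i + v) ((ComplexShape.up' v).next_eq' (rel_add i))
    (h.eq_of_tgt _ _))

theorem step (hv : v.1 + v.2 = 1) (e : ∀ pq, K.homology pq ≅ F' pq) (h : Bdd K.X N a c b d)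
    (ha : ∀ q, 0 ≤ a q) (hc : ∀ p, 0 ≤ c p) (hsum : Summable fun p : ℕ => c p * (d p : ℝ)) :
    Bdd F' N a c b d ∧
      ∑' pq : ℕ × ℕ, (-1 : ℂ) ^ (pq.1 + pq.2) * tr (F' (quad pq)) =
        ∑' pq : ℕ × ℕ, (-1 : ℂ) ^ (pq.1 + pq.2) * tr (K.X (quad pq)) := by
  have hZ : Bdd (fun pq => K.cycles pq) N a c b d := h.of_sub (fun pq => K.iCycles pq)
  have hH : Bdd (fun pq => K.homology pq) N a c b d := hZ.of_quot (fun pq => K.homologyπ pq)
  have hF' : Bdd F' N a c b d := hH.of_iso e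
  refine ⟨hF', ?_⟩
  have hzero : ∀ i : ℤ × ℤ, i ∉ Set.range quad → IsZero (K.X i) := by
    intro i hi
    rw [mem_range_quad] at hi
    apply h.1
    by_contra hn
    push Not at hn
    exact hi hn
  refine telescope v hv (fun i => tr (K.X i)) (fun i => tr (F' i))
    (fun i => tr (K.X i) - tr (K.cycles i)) ?_ ?_ ?_ (h.summable ha hc hsum)
    (hF'.summable ha hc hsum) ?_
  · intro i
    have h1 := tr_cycles_homology K (rel_sub i) (h.2.1 _) (h.2.1 _)
    have h2 : tr (K.homology i) = tr (F' i) := tr_eq_of_iso (e i)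
    rw [← h2]
    linear_combination h1
  · intro i hi
    have h0 := hzero i hi
    rw [tr_of_isZero h0, tr_of_isZero (IsZero.of_mono (K.iCycles i) h0), sub_zero]
  · intro i hi
    rw [tr_cycles_eq K i (hzero _ hi), sub_self]
  · have h1 := h.summable ha hc hsum
    have h2 := hZ.summable ha hc hsum
    refine Summable.of_nonneg_of_le (fun _ => norm_nonneg _) (fun pq => ?_) (h1.add h2)
    exact norm_sub_le _ _

end Step

end Groth.Agent.Lib.Seat65.TrModStep
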