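import Mathlib
import Groth.Prelude.Def_BrSev
import Groth.Prelude.Def_DCoh4
import Groth.Agent.Lib.Helper1PT4
import Groth.Agent.Lib.Helper27PnChart
import Groth.Agent.S12453
set_option backward.isDefEq.respectTransparency.types false

/-!
# Tensor products of modules that become sums of twists after base change (helper65)
-/

set_option autoImplicit false
universe u
open CategoryTheory CategoryTheory.Limits AlgebraicGeometry

namespace Groth.Agent.Lib.Seat65.TwPowTensor

section cat

variable {C : Type*} [Category C] [Preadditive C] [HasFiniteCoproducts C]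
  (F : C ⥤ C ⥤ C) [F.Additive] [∀ A, (F.obj A).Additive]

/-- an additive bifunctor commutes with finite coproducts in both variables -/
noncomputable def bipow (A B : C) (r s : ℕ) :
    (F.obj (∐ fun _ : Fin r => A)).obj (∐ fun _ : Fin s => B) ≅
      ∐ fun _ : Fin (r * s) => (F.obj A).obj B := by
  let G : C ⥤ C := F ⋙ (evaluation C C).obj (∐ fun _ : Fin s => B)
  haveI : G.Additive := inferInstance
  let e1 : G.obj (∐ fun _ : Fin r => A) ≅ ∐ fun _ : Fin r => G.obj A :=
    PreservesCoproduct.iso G (fun _ : Fin r => A)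
  let e2 : (F.obj A).obj (∐ fun _ : Fin s => B) ≅ ∐ fun _ : Fin s => (F.obj A).obj B :=
    PreservesCoproduct.iso (F.obj A) (fun _ : Fin s => B)
  let e3 : (∐ fun _ : Fin r => ∐ fun _ : Fin s => (F.obj A).obj B) ≅
      ∐ fun _ : (Σ _ : Fin r, Fin s) => (F.obj A).obj B :=
    sigmaSigmaIso (fun _ : Fin r => Fin s) (fun _ _ => (F.obj A).obj B)
  let eq : (Σ _ : Fin r, Fin s) ≃ Fin (r * s) :=
    (Equiv.sigmaEquivProd (Fin r) (Fin s)).trans finProdFinEquiv
  let e4 : (∐ fun _ : (Σ _ : Fin r, Fin s) => (F.obj A).obj B) ≅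
      ∐ fun _ : Fin (r * s) => (F.obj A).obj B :=
    Sigma.whiskerEquiv (f := fun _ : (Σ _ : Fin r, Fin s) => (F.obj A).obj B)
      (g := fun _ : Fin (r * s) => (F.obj A).obj B) eq (fun _ => Iso.refl _)
  exact e1 ≪≫ Sigma.mapIso (fun _ => e2) ≪≫ e3 ≪≫ e4

end cat

open Groth.Agent.Lib.Helper1.PT

variable {X : Scheme.{u}}

/-- `O(a) ⊗ O(m) ≅ O(a + m)` on projective space over any ring -/
theorem nonempty_twist_tensor_iso (n : ℕ) (B : Type u) [CommRing B] (a m : ℤ) :
    Nonempty (CohB1.tensorMod (Twist.twistProjSpace n B a) (Twist.twistProjSpace n B m) ≅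
      Twist.twistProjSpace n B (a + m)) := by
  have hcov : (⨆ f : CohB1.polyGrading n B 1, Proj.basicOpen (CohB1.polyGrading n B)
      (f : MvPolynomial (Fin (n + 1)) B)) = ⊤ := by
    rw [eq_top_iff, ← Groth.Agent.Lib.Helper27PnChart.iSup_basicOpen_X n B]
    refine iSup_le fun i => ?_
    exact le_iSup (fun f : CohB1.polyGrading n B 1 => Proj.basicOpen (CohB1.polyGrading n B)
      (f : MvPolynomial (Fin (n + 1)) B)) ⟨MvPolynomial.X i, Groth.Agent.Lib.Helper27PnChart.X_mem_one n B i⟩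
  exact (Groth.Agent.S12453.result (CohB1.polyGrading n B) hcov).2.1 a m

attribute [local instance] Abelian.hasFiniteBiproducts in
/-- tensor product of `O_e(j)^r`-type and `O_e(l)^s`-type modules -/
theorem isTwPow_tensorMod (k : Type u) [Field k]
    (f : X ⟶ Spec (CommRingCat.of k)) (n : ℕ)
    (K : Type u) [Field K] [Algebra k K] (e : BrSev.Splitting f K n) (j l : ℤ) (r s : ℕ)
    (W W' : X.Modules) (hWt : BrSev.IsTwPow e j r W) (hW't : BrSev.IsTwPow e l s W') :
    BrSev.IsTwPow e (j + l) (r * s) (CohB1.tensorMod W W') := by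
  obtain ⟨a⟩ := hWt
  obtain ⟨b⟩ := hW't
  obtain ⟨t⟩ := nonempty_twist_tensor_iso n K j l
  let Y := BrSev.bc f K
  let T := DCoh.tensorBi (X := Y)
  -- pullback of the tensor product
  let e1 : BrSev.bcMod f K (CohB1.tensorMod W W') ≅
      (T.obj (BrSev.bcMod f K W)).obj (BrSev.bcMod f K W') :=
    ((pullTensorIso (BrSev.proj f K)).app W).app W'
  let e2 : (T.obj (BrSev.bcMod f K W)).obj (BrSev.bcMod f K W') ≅
      (T.obj (BrSev.pow (e.twist j) r)).obj (BrSev.pow (e.twist l) s) :=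
    (T.mapIso a).app _ ≪≫ (T.obj _).mapIso b
  let e3 : (T.obj (BrSev.pow (e.twist j) r)).obj (BrSev.pow (e.twist l) s) ≅
      ∐ fun _ : Fin (r * s) => (T.obj (e.twist j)).obj (e.twist l) :=
    bipow T (e.twist j) (e.twist l) r s
  let e4 : (T.obj (e.twist j)).obj (e.twist l) ≅ e.twist (j + l) :=
    (((pullTensorIso e.iso.hom).app (Twist.twistProjSpace n K j)).app
      (Twist.twistProjSpace n K l)).symm ≪≫ (plb e.iso.hom).mapIso t
  exact ⟨e1 ≪≫ e2 ≪≫ e3 ≪≫ Sigma.mapIso (fun _ => e4)⟩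

end Groth.Agent.Lib.Seat65.TwPowTensor
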