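import Groth.Prelude.Def_W4c5m1nsnscurvesC
import Groth.Prelude.Def_W4c5m1nsnscurvesI
import Mathlib.Tactic.LinearCombination

/-!
# `O(U_{n+1}) ≅ O(C_n)` (for S18252), part A: relations in `URing` and in `CurveAlg`
-/

set_option autoImplicit false
universe u
open MvPolynomial W4c5m1nsnscurves

namespace Groth.Agent.Lib.Seat65.UCurveA

variable (R : Type u) [CommRing R] (m : ℕ)

/-! ### Relations among the generators of `URing R m` -/

theorem ulin (i j : Fin m) (h : i ≠ j) :
    ugen R m (.cij i j h) + ugen R m (.cij j i h.symm) =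
      ugen R m .a + ugen R m (.ci i) + ugen R m (.cbi i) + ugen R m (.ci j) + ugen R m (.cbi j) := by
  have hmem : (X (.cij i j h) + X (.cij j i h.symm) -
      (X .a + X (.ci i) + X (.cbi i) + X (.ci j) + X (.cbi j)) : MvPolynomial (UGen m) R) ∈ URel R m :=
    Or.inl (Or.inl (Or.inl ⟨⟨(i, j), h⟩, rfl⟩))
  have := Ideal.Quotient.eq_zero_iff_mem.mpr (Ideal.subset_span hmem)
  simp only [map_sub, map_add] at this
  exact sub_eq_zero.mp this

theorem uqc (i j : Fin m) (h : i ≠ j) :
    ugen R m (.cij j i h.symm) * ugen R m (.ci j) + ugen R m (.cij i j h) * ugen R m (.ci i) -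
      ugen R m (.ci i) * ugen R m (.ci j) - ugen R m .c = 0 := by
  have hmem : (X (.cij j i h.symm) * X (.ci j) + X (.cij i j h) * X (.ci i) -
      X (.ci i) * X (.ci j) - X .c : MvPolynomial (UGen m) R) ∈ URel R m :=
    Or.inl (Or.inl (Or.inr ⟨⟨(i, j), h⟩, rfl⟩))
  have := Ideal.Quotient.eq_zero_iff_mem.mpr (Ideal.subset_span hmem)
  simp only [map_sub, map_add, map_mul] at this
  exact this

theorem uqb (i j : Fin m) (h : i ≠ j) :
    ugen R m (.cij j i h.symm) * ugen R m (.cbi i) + ugen R m (.cij i j h) * ugen R m (.cbi j) -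
      ugen R m (.cbi i) * ugen R m (.cbi j) - ugen R m .cb = 0 := by
  have hmem : (X (.cij j i h.symm) * X (.cbi i) + X (.cij i j h) * X (.cbi j) -
      X (.cbi i) * X (.cbi j) - X .cb : MvPolynomial (UGen m) R) ∈ URel R m :=
    Or.inl (Or.inr ⟨⟨(i, j), h⟩, rfl⟩)
  have := Ideal.Quotient.eq_zero_iff_mem.mpr (Ideal.subset_span hmem)
  simp only [map_sub, map_add, map_mul] at this
  exact this

theorem ucub (i j k : Fin m) (hij : i ≠ j) (hjk : j ≠ k) (hik : i ≠ k) :
    ugen R m (.cij i j hij) * ugen R m (.cij j k hjk) +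
      ugen R m (.cij j i hij.symm) * ugen R m (.cij i k hik) -
      ugen R m (.cij i k hik) * ugen R m (.cij j k hjk) +
      (ugen R m .a + ugen R m (.ci k) + ugen R m (.cbi k)) * ugen R m (.ci k) - ugen R m .c = 0 := by
  have hmem : (X (.cij i j hij) * X (.cij j k hjk) + X (.cij j i hij.symm) * X (.cij i k hik) -
      X (.cij i k hik) * X (.cij j k hjk) + (X .a + X (.ci k) + X (.cbi k)) * X (.ci k) - X .c :
      MvPolynomial (UGen m) R) ∈ URel R m :=
    Or.inr ⟨⟨(i, j, k), ⟨hij, hjk, hik⟩⟩, rfl⟩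
  have := Ideal.Quotient.eq_zero_iff_mem.mpr (Ideal.subset_span hmem)
  simp only [map_sub, map_add, map_mul] at this
  exact this

theorem uincl_ugen (x : UGen m) : uincl R m (ugen R m x) = ugen R (m + 1) x.castSucc := by
  simp [uincl, ugen, rename_X]

/-! ### The curve algebra over `URing R m` -/

/-- The curve algebra `O(C_n)` over `O(U_n)`. -/
abbrev CA : Type u := CurveAlg (URing R m) m (ugen R m)

/-- The class of a variable in the curve algebra. -/
noncomputable def cx (v : CVar m) : CA R m :=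
  Ideal.Quotient.mk (Ideal.span (CRel (URing R m) m (ugen R m))) (X v)

/-- The image of a generator of `URing R m` in the curve algebra. -/
noncomputable def cg (x : UGen m) : CA R m := algebraMap (URing R m) (CA R m) (ugen R m x)

theorem cg_eq (x : UGen m) :
    cg R m x = Ideal.Quotient.mk (Ideal.span (CRel (URing R m) m (ugen R m))) (C (ugen R m x)) := rfl

theorem cr1 (i : Fin m) :
    cx R m .x2 * cx R m (.xi i) = cx R m .x2 * cx R m .x3 + cg R m (.ci i) * cx R m (.xi i) +
      cg R m (.cbi i) * cx R m .x2 - cg R m .c := by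
  have hmem : (X .x2 * X (.xi i) - (X .x2 * X .x3 + C (ugen R m (.ci i)) * X (.xi i) +
      C (ugen R m (.cbi i)) * X .x2 - C (ugen R m .c)) : MvPolynomial (CVar m) (URing R m)) ∈
      CRel (URing R m) m (ugen R m) := Or.inl (Or.inl ⟨i, rfl⟩)
  have := Ideal.Quotient.eq_zero_iff_mem.mpr (Ideal.subset_span hmem)
  simp only [map_sub, map_add, map_mul] at this
  exact sub_eq_zero.mp this

theorem cr2 (i : Fin m) :
    cx R m .x3 * cx R m (.xi i) = cx R m .x2 * cx R m .x3 +
      (cg R m .a + cg R m (.ci i) + cg R m (.cbi i)) * (cx R m (.xi i) - cg R m (.cbi i)) +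
      cg R m .cb - cg R m .c := by
  have hmem : (X .x3 * X (.xi i) - (X .x2 * X .x3 +
      C (ugen R m .a + ugen R m (.ci i) + ugen R m (.cbi i)) * (X (.xi i) - C (ugen R m (.cbi i))) +
      C (ugen R m .cb) - C (ugen R m .c)) : MvPolynomial (CVar m) (URing R m)) ∈
      CRel (URing R m) m (ugen R m) := Or.inl (Or.inr ⟨i, rfl⟩)
  have := Ideal.Quotient.eq_zero_iff_mem.mpr (Ideal.subset_span hmem)
  simp only [map_sub, map_add, map_mul] at this
  exact sub_eq_zero.mp this

theorem cr3 (i j : Fin m) (h : i ≠ j) :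
    cx R m (.xi i) * cx R m (.xi j) = cx R m .x2 * cx R m .x3 + cg R m (.cij i j h) * cx R m (.xi j) +
      cg R m (.cij j i h.symm) * cx R m (.xi i) - cg R m .c := by
  have hmem : (X (.xi i) * X (.xi j) - (X .x2 * X .x3 + C (ugen R m (.cij i j h)) * X (.xi j) +
      C (ugen R m (.cij j i h.symm)) * X (.xi i) - C (ugen R m .c)) :
      MvPolynomial (CVar m) (URing R m)) ∈
      CRel (URing R m) m (ugen R m) := Or.inr ⟨⟨(i, j), h⟩, rfl⟩
  have := Ideal.Quotient.eq_zero_iff_mem.mpr (Ideal.subset_span hmem)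
  simp only [map_sub, map_add, map_mul] at this
  exact sub_eq_zero.mp this

/-! Relations of `URing R m` transported to the curve algebra. -/

theorem clin (i j : Fin m) (h : i ≠ j) :
    cg R m (.cij i j h) + cg R m (.cij j i h.symm) =
      cg R m .a + cg R m (.ci i) + cg R m (.cbi i) + cg R m (.ci j) + cg R m (.cbi j) := by
  have := congrArg (algebraMap (URing R m) (CA R m)) (ulin R m i j h)
  simp only [map_add] at this
  exact this

theorem cqc (i j : Fin m) (h : i ≠ j) :
    cg R m (.cij j i h.symm) * cg R m (.ci j) + cg R m (.cij i j h) * cg R m (.ci i) -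
      cg R m (.ci i) * cg R m (.ci j) - cg R m .c = 0 := by
  have := congrArg (algebraMap (URing R m) (CA R m)) (uqc R m i j h)
  simp only [map_add, map_sub, map_mul, map_zero] at this
  exact this

theorem cqb (i j : Fin m) (h : i ≠ j) :
    cg R m (.cij j i h.symm) * cg R m (.cbi i) + cg R m (.cij i j h) * cg R m (.cbi j) -
      cg R m (.cbi i) * cg R m (.cbi j) - cg R m .cb = 0 := by
  have := congrArg (algebraMap (URing R m) (CA R m)) (uqb R m i j h)
  simp only [map_add, map_sub, map_mul, map_zero] at this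
  exact this

theorem ccub (i j k : Fin m) (hij : i ≠ j) (hjk : j ≠ k) (hik : i ≠ k) :
    cg R m (.cij i j hij) * cg R m (.cij j k hjk) +
      cg R m (.cij j i hij.symm) * cg R m (.cij i k hik) -
      cg R m (.cij i k hik) * cg R m (.cij j k hjk) +
      (cg R m .a + cg R m (.ci k) + cg R m (.cbi k)) * cg R m (.ci k) - cg R m .c = 0 := by
  have := congrArg (algebraMap (URing R m) (CA R m)) (ucub R m i j k hij hjk hik)
  simp only [map_add, map_sub, map_mul, map_zero] at this
  exact this

end Groth.Agent.Lib.Seat65.UCurveA
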