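import Groth.Agent.Lib.Seat65UCurveA

/-!
# `O(U_{n+1}) ≅ O(C_n)` (for S18252), part B: the forward map `O(C_n) → O(U_{n+1})`
-/

set_option autoImplicit false
universe u
open MvPolynomial W4c5m1nsnscurves

namespace Groth.Agent.Lib.Seat65.UCurveB

open Groth.Agent.Lib.Seat65.UCurveA

variable (R : Type u) [CommRing R] (m : ℕ)

/-- The values of the variables `x_2, x_3, x_i` in `O(U_{n+1})`. -/
noncomputable def val : CVar m → URing R (m + 1)
  | .x2 => ugen R (m + 1) (.ci (Fin.last m))
  | .x3 => ugen R (m + 1) .a + ugen R (m + 1) (.ci (Fin.last m)) + ugen R (m + 1) (.cbi (Fin.last m))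
  | .xi i => ugen R (m + 1) (.cij i.castSucc (Fin.last m) (Fin.castSucc_lt_last i).ne)

/-- The forward map on polynomials. -/
noncomputable def phi : MvPolynomial (CVar m) (URing R m) →+* URing R (m + 1) :=
  eval₂Hom (uincl R m : URing R m →+* URing R (m + 1)) (val R m)

theorem phi_C (r : URing R m) : phi R m (C r) = uincl R m r := eval₂Hom_C _ _ _

theorem phi_X (v : CVar m) : phi R m (X v) = val R m v := eval₂Hom_X' _ _ _

theorem phi_mem (p : MvPolynomial (CVar m) (URing R m))
    (hp : p ∈ CRel (URing R m) m (ugen R m)) : phi R m p = 0 := by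
  rcases hp with (⟨i, rfl⟩ | ⟨i, rfl⟩) | ⟨⟨⟨i, j⟩, h⟩, rfl⟩
  · simp only [map_sub, map_add, map_mul, phi_C, phi_X, val, uincl_ugen, UGen.castSucc]
    have l := ulin R (m + 1) i.castSucc (Fin.last m) (Fin.castSucc_lt_last i).ne
    have q := uqc R (m + 1) i.castSucc (Fin.last m) (Fin.castSucc_lt_last i).ne
    linear_combination (-1 : URing R (m + 1)) * q + ugen R (m + 1) (.ci (Fin.last m)) * l
  · simp only [map_sub, map_add, map_mul, phi_C, phi_X, val, uincl_ugen, UGen.castSucc]
    have l := ulin R (m + 1) i.castSucc (Fin.last m) (Fin.castSucc_lt_last i).ne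
    have q := uqc R (m + 1) i.castSucc (Fin.last m) (Fin.castSucc_lt_last i).ne
    have qb := uqb R (m + 1) i.castSucc (Fin.last m) (Fin.castSucc_lt_last i).ne
    linear_combination qb - q +
      (ugen R (m + 1) (.ci (Fin.last m)) - ugen R (m + 1) (.cbi i.castSucc)) * l
  · simp only [map_sub, map_add, map_mul, phi_C, phi_X, val, uincl_ugen, UGen.castSucc]
    have t := ucub R (m + 1) i.castSucc j.castSucc (Fin.last m)
      (fun e => h (Fin.castSucc_injective _ e)) (Fin.castSucc_lt_last j).ne (Fin.castSucc_lt_last i).ne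
    linear_combination (-1 : URing R (m + 1)) * t

theorem phi_span (p : MvPolynomial (CVar m) (URing R m))
    (hp : p ∈ Ideal.span (CRel (URing R m) m (ugen R m))) : phi R m p = 0 := by
  have : Ideal.span (CRel (URing R m) m (ugen R m)) ≤ RingHom.ker (phi R m) :=
    Ideal.span_le.mpr (fun p hp => phi_mem R m p hp)
  exact this hp

/-- The forward map `O(C_n) → O(U_{n+1})`. -/
noncomputable def fwd : CA R m →+* URing R (m + 1) :=
  Ideal.Quotient.lift _ (phi R m) (phi_span R m)

theorem fwd_cx (v : CVar m) : fwd R m (cx R m v) = val R m v := by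
  rw [cx, fwd, Ideal.Quotient.lift_mk, phi_X]

theorem fwd_algebraMap (r : URing R m) :
    fwd R m (algebraMap (URing R m) (CA R m) r) = uincl R m r := by
  show fwd R m (Ideal.Quotient.mk _ (C r)) = _
  rw [fwd, Ideal.Quotient.lift_mk, phi_C]

theorem fwd_cg (x : UGen m) : fwd R m (cg R m x) = ugen R (m + 1) x.castSucc := by
  rw [cg, fwd_algebraMap, uincl_ugen]

end Groth.Agent.Lib.Seat65.UCurveB
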