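import Groth.Agent.Lib.Seat65UCurveA

/-!
# `O(U_{n+1}) ≅ O(C_n)` (for S18252), part C: the backward map `O(U_{n+1}) → O(C_n)`
-/

set_option autoImplicit false
universe u
open MvPolynomial W4c5m1nsnscurves

namespace Groth.Agent.Lib.Seat65.UCurveC

open Groth.Agent.Lib.Seat65.UCurveA

variable (R : Type u) [CommRing R] (m : ℕ)

/-- Image of `c_j`. -/
noncomputable def wci (j : Fin (m + 1)) : CA R m :=
  if hj : j = Fin.last m then cx R m .x2 else cg R m (.ci (j.castPred hj))

/-- Image of `c̄_j`. -/
noncomputable def wcbi (j : Fin (m + 1)) : CA R m :=
  if hj : j = Fin.last m then cx R m .x3 - cg R m .a - cx R m .x2 else cg R m (.cbi (j.castPred hj))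

/-- Image of `c_{jk}`. -/
noncomputable def wcij (j k : Fin (m + 1)) : CA R m :=
  if hj : j = Fin.last m then
    if hk : k = Fin.last m then 0
    else cg R m (.ci (k.castPred hk)) + cg R m (.cbi (k.castPred hk)) + cx R m .x3 -
      cx R m (.xi (k.castPred hk))
  else
    if hk : k = Fin.last m then cx R m (.xi (j.castPred hj))
    else if hjk : j.castPred hj = k.castPred hk then 0
      else cg R m (.cij (j.castPred hj) (k.castPred hk) hjk)

/-- Images of the generators of `O(U_{n+1})` in `O(C_n)`. -/
noncomputable def w : UGen (m + 1) → CA R m
  | .a => cg R m .a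
  | .c => cg R m .c
  | .cb => cg R m .cb
  | .ci j => wci R m j
  | .cbi j => wcbi R m j
  | .cij j k _ => wcij R m j k

@[simp] theorem wci_last : wci R m (Fin.last m) = cx R m .x2 := by simp [wci]

@[simp] theorem wci_castSucc (i : Fin m) : wci R m i.castSucc = cg R m (.ci i) := by
  simp [wci, (Fin.castSucc_lt_last i).ne]

@[simp] theorem wcbi_last : wcbi R m (Fin.last m) = cx R m .x3 - cg R m .a - cx R m .x2 := by
  simp [wcbi]

@[simp] theorem wcbi_castSucc (i : Fin m) : wcbi R m i.castSucc = cg R m (.cbi i) := by
  simp [wcbi, (Fin.castSucc_lt_last i).ne]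

theorem wcij_cc (i j : Fin m) (h : i ≠ j) :
    wcij R m i.castSucc j.castSucc = cg R m (.cij i j h) := by
  simp [wcij, (Fin.castSucc_lt_last i).ne, (Fin.castSucc_lt_last j).ne, h]

@[simp] theorem wcij_cl (i : Fin m) : wcij R m i.castSucc (Fin.last m) = cx R m (.xi i) := by
  simp [wcij, (Fin.castSucc_lt_last i).ne]

@[simp] theorem wcij_lc (i : Fin m) : wcij R m (Fin.last m) i.castSucc =
    cg R m (.ci i) + cg R m (.cbi i) + cx R m .x3 - cx R m (.xi i) := by
  simp [wcij, (Fin.castSucc_lt_last i).ne]

/-- The backward map on polynomials. -/
noncomputable def psi : MvPolynomial (UGen (m + 1)) R →ₐ[R] CA R m := aeval (w R m)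

theorem psi_X (x : UGen (m + 1)) : psi R m (X x) = w R m x := aeval_X _ _

theorem psi_mem (p : MvPolynomial (UGen (m + 1)) R) (hp : p ∈ URel R (m + 1)) : psi R m p = 0 := by
  rcases hp with ((⟨⟨⟨j, k⟩, h⟩, rfl⟩ | ⟨⟨⟨j, k⟩, h⟩, rfl⟩) | ⟨⟨⟨j, k⟩, h⟩, rfl⟩) |
    ⟨⟨⟨i, j, k⟩, hij, hjk, hik⟩, rfl⟩
  · -- linear relation
    simp only [map_sub, map_add, map_mul, psi_X, w]
    induction j using Fin.lastCases with
    | last =>
      induction k using Fin.lastCases with
      | last => exact absurd rfl h
      | cast k =>
        simp only [wci_last, wci_castSucc, wcbi_last, wcbi_castSucc, wcij_cl, wcij_lc]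
        ring
    | cast j =>
      induction k using Fin.lastCases with
      | last =>
        simp only [wci_last, wci_castSucc, wcbi_last, wcbi_castSucc, wcij_cl, wcij_lc]
        ring
      | cast k =>
        have hjk : j ≠ k := fun e => h (by simp [e])
        simp only [wci_castSucc, wcbi_castSucc, wcij_cc R m j k hjk, wcij_cc R m k j hjk.symm]
        linear_combination clin R m j k hjk
  · -- quadratic relation for `c`
    simp only [map_sub, map_add, map_mul, psi_X, w]
    induction j using Fin.lastCases with
    | last =>
      induction k using Fin.lastCases with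
      | last => exact absurd rfl h
      | cast k =>
        simp only [wci_last, wci_castSucc, wcbi_last, wcbi_castSucc, wcij_cl, wcij_lc]
        linear_combination (-1 : CA R m) * cr1 R m k
    | cast j =>
      induction k using Fin.lastCases with
      | last =>
        simp only [wci_last, wci_castSucc, wcbi_last, wcbi_castSucc, wcij_cl, wcij_lc]
        linear_combination (-1 : CA R m) * cr1 R m j
      | cast k =>
        have hjk : j ≠ k := fun e => h (by simp [e])
        simp only [wci_castSucc, wcbi_castSucc, wcij_cc R m j k hjk, wcij_cc R m k j hjk.symm]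
        linear_combination cqc R m j k hjk
  · -- quadratic relation for `c̄`
    simp only [map_sub, map_add, map_mul, psi_X, w]
    induction j using Fin.lastCases with
    | last =>
      induction k using Fin.lastCases with
      | last => exact absurd rfl h
      | cast k =>
        simp only [wci_last, wci_castSucc, wcbi_last, wcbi_castSucc, wcij_cl, wcij_lc]
        linear_combination cr2 R m k - cr1 R m k
    | cast j =>
      induction k using Fin.lastCases with
      | last =>
        simp only [wci_last, wci_castSucc, wcbi_last, wcbi_castSucc, wcij_cl, wcij_lc]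
        linear_combination cr2 R m j - cr1 R m j
      | cast k =>
        have hjk : j ≠ k := fun e => h (by simp [e])
        simp only [wci_castSucc, wcbi_castSucc, wcij_cc R m j k hjk, wcij_cc R m k j hjk.symm]
        linear_combination cqb R m j k hjk
  · -- cubic relation
    simp only [map_sub, map_add, map_mul, psi_X, w]
    simp only at hij hjk hik
    induction i using Fin.lastCases with
    | last =>
      induction j using Fin.lastCases with
      | last => exact absurd rfl hij
      | cast j =>
        induction k using Fin.lastCases with
        | last => exact absurd rfl hik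
        | cast k =>
          have hjk' : j ≠ k := fun e => hjk (by simp [e])
          simp only [wci_last, wci_castSucc, wcbi_last, wcbi_castSucc, wcij_cl, wcij_lc,
            wcij_cc R m j k hjk']
          linear_combination cr2 R m j - cr3 R m j k hjk' - cx R m (.xi j) * clin R m j k hjk' +
            cqc R m j k hjk' - cqb R m j k hjk' +
            (cg R m (.cbi j) - cg R m (.ci k)) * clin R m j k hjk'
    | cast i =>
      induction j using Fin.lastCases with
      | last =>
        induction k using Fin.lastCases with
        | last => exact absurd rfl hjk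
        | cast k =>
          have hik' : i ≠ k := fun e => hik (by simp [e])
          simp only [wci_last, wci_castSucc, wcbi_last, wcbi_castSucc, wcij_cl, wcij_lc,
            wcij_cc R m i k hik']
          linear_combination cr2 R m i - cr3 R m i k hik' - cx R m (.xi i) * clin R m i k hik' +
            cqc R m i k hik' - cqb R m i k hik' +
            (cg R m (.cbi i) - cg R m (.ci k)) * clin R m i k hik'
      | cast j =>
        have hij' : i ≠ j := fun e => hij (by simp [e])
        induction k using Fin.lastCases with
        | last =>
          simp only [wci_last, wci_castSucc, wcbi_last, wcbi_castSucc, wcij_cl, wcij_lc,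
            wcij_cc R m i j hij', wcij_cc R m j i hij'.symm]
          linear_combination (-1 : CA R m) * cr3 R m i j hij'
        | cast k =>
          have hjk' : j ≠ k := fun e => hjk (by simp [e])
          have hik' : i ≠ k := fun e => hik (by simp [e])
          simp only [wci_castSucc, wcbi_castSucc, wcij_cc R m i j hij', wcij_cc R m j i hij'.symm,
            wcij_cc R m j k hjk', wcij_cc R m i k hik']
          linear_combination ccub R m i j k hij' hjk' hik'

theorem psi_span (p : MvPolynomial (UGen (m + 1)) R) (hp : p ∈ Ideal.span (URel R (m + 1))) :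
    psi R m p = 0 := by
  have : Ideal.span (URel R (m + 1)) ≤ RingHom.ker (psi R m : _ →+* CA R m) :=
    Ideal.span_le.mpr (fun p hp => psi_mem R m p hp)
  exact this hp

/-- The backward map `O(U_{n+1}) → O(C_n)`. -/
noncomputable def bwd : URing R (m + 1) →ₐ[R] CA R m :=
  Ideal.Quotient.liftₐ _ (psi R m) (psi_span R m)

theorem bwd_ugen (x : UGen (m + 1)) : bwd R m (ugen R (m + 1) x) = w R m x := by
  rw [ugen, bwd]
  erw [Ideal.Quotient.liftₐ_apply, Ideal.Quotient.lift_mk]
  exact psi_X R m x

end Groth.Agent.Lib.Seat65.UCurveC
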