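import Groth.Agent.Lib.Seat65UCurveB
import Groth.Agent.Lib.Seat65UCurveC

/-!
# `O(U_{n+1}) ≅ O(C_n)` (for S18252), part D: the two maps are mutually inverse
-/

set_option autoImplicit false
universe u
open MvPolynomial W4c5m1nsnscurves

namespace Groth.Agent.Lib.Seat65.UCurveD

open Groth.Agent.Lib.Seat65.UCurveA Groth.Agent.Lib.Seat65.UCurveB Groth.Agent.Lib.Seat65.UCurveC

variable (R : Type u) [CommRing R] (m : ℕ)

theorem w_castSucc (x : UGen m) : w R m x.castSucc = cg R m x := by
  cases x with
  | a => rfl
  | c => rfl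
  | cb => rfl
  | ci i => simp [UGen.castSucc, w]
  | cbi i => simp [UGen.castSucc, w]
  | cij i j h => simp only [UGen.castSucc, w]; exact wcij_cc R m i j h

theorem fwd_w (x : UGen (m + 1)) : fwd R m (w R m x) = ugen R (m + 1) x := by
  cases x with
  | a => exact fwd_cg R m .a
  | c => exact fwd_cg R m .c
  | cb => exact fwd_cg R m .cb
  | ci j =>
    simp only [w]
    induction j using Fin.lastCases with
    | last => rw [wci_last, fwd_cx]; rfl
    | cast i => rw [wci_castSucc, fwd_cg]; rfl
  | cbi j =>
    simp only [w]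
    induction j using Fin.lastCases with
    | last =>
      rw [wcbi_last, map_sub, map_sub, fwd_cx, fwd_cx, fwd_cg]
      simp only [val, UGen.castSucc]
      ring
    | cast i => rw [wcbi_castSucc, fwd_cg]; rfl
  | cij j k h =>
    simp only [w]
    induction j using Fin.lastCases with
    | last =>
      induction k using Fin.lastCases with
      | last => exact absurd rfl h
      | cast k =>
        rw [wcij_lc, map_sub, map_add, map_add, fwd_cx, fwd_cx, fwd_cg, fwd_cg]
        simp only [val, UGen.castSucc]
        have l := ulin R (m + 1) k.castSucc (Fin.last m) (Fin.castSucc_lt_last k).ne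
        linear_combination (-1 : URing R (m + 1)) * l
    | cast j =>
      induction k using Fin.lastCases with
      | last => rw [wcij_cl, fwd_cx]; rfl
      | cast k =>
        have hjk : j ≠ k := fun e => h (by simp [e])
        rw [wcij_cc R m j k hjk, fwd_cg]; rfl

theorem fwd_comp_bwd : (fwd R m).comp (bwd R m : URing R (m + 1) →+* CA R m) = RingHom.id _ := by
  apply Ideal.Quotient.ringHom_ext
  apply MvPolynomial.ringHom_ext
  · intro r
    simp only [RingHom.comp_apply, RingHom.id_apply]
    have h1 : (Ideal.Quotient.mk (Ideal.span (URel R (m + 1)))) (C r) =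
        algebraMap R (URing R (m + 1)) r := rfl
    rw [h1]
    show fwd R m (bwd R m (algebraMap R (URing R (m + 1)) r)) = _
    rw [AlgHom.commutes, IsScalarTower.algebraMap_apply R (URing R m) (CA R m), fwd_algebraMap,
      AlgHom.commutes]
  · intro x
    simp only [RingHom.comp_apply, RingHom.id_apply]
    have h1 : (Ideal.Quotient.mk (Ideal.span (URel R (m + 1)))) (X x) = ugen R (m + 1) x := rfl
    rw [h1]
    show fwd R m (bwd R m (ugen R (m + 1) x)) = _
    rw [bwd_ugen]
    exact fwd_w R m x

theorem bwd_uincl (r : URing R m) : bwd R m (uincl R m r) = algebraMap (URing R m) (CA R m) r := by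
  have : ((bwd R m : URing R (m + 1) →+* CA R m).comp (uincl R m : URing R m →+* URing R (m + 1))) =
      algebraMap (URing R m) (CA R m) := by
    apply Ideal.Quotient.ringHom_ext
    apply MvPolynomial.ringHom_ext
    · intro r
      simp only [RingHom.comp_apply]
      have h1 : (Ideal.Quotient.mk (Ideal.span (URel R m))) (C r) = algebraMap R (URing R m) r := rfl
      rw [h1]
      show bwd R m (uincl R m (algebraMap R (URing R m) r)) = _
      rw [AlgHom.commutes, AlgHom.commutes, ← IsScalarTower.algebraMap_apply R (URing R m) (CA R m)]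
    · intro x
      simp only [RingHom.comp_apply]
      have h1 : (Ideal.Quotient.mk (Ideal.span (URel R m))) (X x) = ugen R m x := rfl
      rw [h1]
      show bwd R m (uincl R m (ugen R m x)) = _
      rw [uincl_ugen, bwd_ugen]
      exact w_castSucc R m x
  exact congrArg (fun f => f r) this

theorem bwd_val (v : CVar m) : bwd R m (val R m v) = cx R m v := by
  cases v with
  | x2 => simp only [val]; rw [bwd_ugen]; simp [w]
  | x3 =>
    simp only [val]; rw [map_add, map_add, bwd_ugen, bwd_ugen, bwd_ugen]
    simp only [w, wci_last, wcbi_last]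
    show cg R m .a + cx R m .x2 + (cx R m .x3 - cg R m .a - cx R m .x2) = cx R m .x3
    ring
  | xi i => simp only [val]; rw [bwd_ugen]; simp [w]

theorem bwd_comp_fwd : (bwd R m : URing R (m + 1) →+* CA R m).comp (fwd R m) = RingHom.id _ := by
  apply Ideal.Quotient.ringHom_ext
  apply MvPolynomial.ringHom_ext
  · intro r
    simp only [RingHom.comp_apply, RingHom.id_apply]
    have h1 : (Ideal.Quotient.mk (Ideal.span (CRel (URing R m) m (ugen R m)))) (C r) =
        algebraMap (URing R m) (CA R m) r := rfl
    rw [h1, fwd_algebraMap]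
    exact bwd_uincl R m r
  · intro v
    simp only [RingHom.comp_apply, RingHom.id_apply]
    have h1 : (Ideal.Quotient.mk (Ideal.span (CRel (URing R m) m (ugen R m)))) (X v) = cx R m v := rfl
    rw [h1, fwd_cx]
    exact bwd_val R m v

/-- The isomorphism `O(C_n) ≅ O(U_{n+1})`. -/
noncomputable def equiv : CA R m ≃+* URing R (m + 1) :=
  RingEquiv.ofRingHom (fwd R m) (bwd R m : URing R (m + 1) →+* CA R m)
    (fwd_comp_bwd R m) (bwd_comp_fwd R m)

theorem equiv_apply (z : CA R m) : equiv R m z = fwd R m z := rfl

theorem main :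
    ∃ e : CurveAlg (URing R m) m (ugen R m) ≃+* URing R (m + 1),
      (∀ r : URing R m, e (algebraMap (URing R m) (CurveAlg (URing R m) m (ugen R m)) r) = uincl R m r) ∧
      e (Ideal.Quotient.mk (Ideal.span (CRel (URing R m) m (ugen R m))) (MvPolynomial.X CVar.x2)) =
        ugen R (m + 1) (UGen.ci (Fin.last m)) ∧
      e (Ideal.Quotient.mk (Ideal.span (CRel (URing R m) m (ugen R m))) (MvPolynomial.X CVar.x3)) =
        ugen R (m + 1) UGen.a + ugen R (m + 1) (UGen.ci (Fin.last m)) + ugen R (m + 1) (UGen.cbi (Fin.last m)) ∧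
      ∀ i : Fin m, e (Ideal.Quotient.mk (Ideal.span (CRel (URing R m) m (ugen R m))) (MvPolynomial.X (CVar.xi i))) =
        ugen R (m + 1) (UGen.cij i.castSucc (Fin.last m) (Fin.castSucc_lt_last i).ne) := by
  refine ⟨equiv R m, fun r => ?_, ?_, ?_, fun i => ?_⟩
  · rw [equiv_apply]; exact fwd_algebraMap R m r
  · rw [equiv_apply]; exact fwd_cx R m .x2
  · rw [equiv_apply]; exact fwd_cx R m .x3
  · rw [equiv_apply]; exact fwd_cx R m (.xi i)

end Groth.Agent.Lib.Seat65.UCurveD
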