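import Mathlib
import Groth.Prelude.Def_W4c5m1nsnscurvesU
import Groth.Agent.Lib.Seat65UCurveA

/-!
# The cotangent space of `U_n` at the origin, part A: generation by weight-one classes
-/

set_option autoImplicit false
universe u
open MvPolynomial W4c5m1nsnscurves

namespace Groth.Agent.Lib.Seat65.UTangentA

open Groth.Agent.Lib.Seat65.UCurveA

variable (R : Type u) [CommRing R] (m : ℕ)

/-- the weight-one generating set -/
def W1 : Set (URing R m) :=
  {ugen R m .a} ∪ Set.range (fun i : Fin m => ugen R m (.ci i)) ∪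
    Set.range (fun i : Fin m => ugen R m (.cbi i)) ∪
    Set.range (fun q : {q : Fin m × Fin m // q.1 < q.2} =>
      ugen R m (.cij q.1.1 q.1.2 (ne_of_lt q.2)))

theorem a_mem : ugen R m .a ∈ W1 R m := Or.inl (Or.inl (Or.inl rfl))
theorem ci_mem (i : Fin m) : ugen R m (.ci i) ∈ W1 R m := Or.inl (Or.inl (Or.inr ⟨i, rfl⟩))
theorem cbi_mem (i : Fin m) : ugen R m (.cbi i) ∈ W1 R m := Or.inl (Or.inr ⟨i, rfl⟩)
theorem cij_mem (i j : Fin m) (h : i < j) : ugen R m (.cij i j (ne_of_lt h)) ∈ W1 R m :=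
  Or.inr ⟨⟨(i, j), h⟩, rfl⟩

/-- a subalgebra containing the weight-one classes contains all `c_{ij}` -/
theorem cij_mem_of_le {A : Type*} [CommRing A] [Algebra A (URing R m)]
    (B : Subalgebra A (URing R m)) (hB : W1 R m ⊆ B) (i j : Fin m) (h : i ≠ j) :
    ugen R m (.cij i j h) ∈ B := by
  rcases lt_or_gt_of_ne h with hlt | hgt
  · exact hB (cij_mem R m i j hlt)
  · have h1 := ulin R m i j h
    have h2 : ugen R m (.cij i j h) = ugen R m .a + ugen R m (.ci i) + ugen R m (.cbi i) +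
        ugen R m (.ci j) + ugen R m (.cbi j) - ugen R m (.cij j i h.symm) := by
      rw [← h1]; ring
    rw [h2]
    refine B.sub_mem (B.add_mem (B.add_mem (B.add_mem (B.add_mem ?_ ?_) ?_) ?_) ?_) ?_
    · exact hB (a_mem R m)
    · exact hB (ci_mem R m i)
    · exact hB (cbi_mem R m i)
    · exact hB (ci_mem R m j)
    · exact hB (cbi_mem R m j)
    · exact hB (cij_mem R m j i hgt)

theorem ugen_mem_of_le {A : Type*} [CommRing A] [Algebra A (URing R m)] (hm : 2 ≤ m)
    (B : Subalgebra A (URing R m)) (hB : W1 R m ⊆ B) (g : UGen m) : ugen R m g ∈ B := by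
  have h01 : (⟨0, by omega⟩ : Fin m) ≠ ⟨1, by omega⟩ := by
    intro h; simpa using congrArg Fin.val h
  cases g with
  | a => exact hB (a_mem R m)
  | c =>
    have h1 := uqc R m _ _ h01
    have h2 : ugen R m .c = ugen R m (.cij _ _ h01.symm) * ugen R m (.ci ⟨1, by omega⟩) +
        ugen R m (.cij _ _ h01) * ugen R m (.ci ⟨0, by omega⟩) -
        ugen R m (.ci ⟨0, by omega⟩) * ugen R m (.ci ⟨1, by omega⟩) := by
      linear_combination -h1
    rw [h2]
    exact B.sub_mem (B.add_mem (B.mul_mem (cij_mem_of_le R m B hB _ _ _) (hB (ci_mem R m _)))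
      (B.mul_mem (cij_mem_of_le R m B hB _ _ _) (hB (ci_mem R m _))))
      (B.mul_mem (hB (ci_mem R m _)) (hB (ci_mem R m _)))
  | cb =>
    have h1 := uqb R m _ _ h01
    have h2 : ugen R m .cb = ugen R m (.cij _ _ h01.symm) * ugen R m (.cbi ⟨0, by omega⟩) +
        ugen R m (.cij _ _ h01) * ugen R m (.cbi ⟨1, by omega⟩) -
        ugen R m (.cbi ⟨0, by omega⟩) * ugen R m (.cbi ⟨1, by omega⟩) := by
      linear_combination -h1
    rw [h2]
    exact B.sub_mem (B.add_mem (B.mul_mem (cij_mem_of_le R m B hB _ _ _) (hB (cbi_mem R m _)))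
      (B.mul_mem (cij_mem_of_le R m B hB _ _ _) (hB (cbi_mem R m _))))
      (B.mul_mem (hB (cbi_mem R m _)) (hB (cbi_mem R m _)))
  | ci i => exact hB (ci_mem R m i)
  | cbi i => exact hB (cbi_mem R m i)
  | cij i j h => exact cij_mem_of_le R m B hB i j h

/-- the classes of the generators generate `URing R m` over any base mapping onto `R`-scalars -/
theorem adjoin_ugen_eq_top : Algebra.adjoin R (Set.range (ugen R m)) = ⊤ := by
  have h1 : Algebra.adjoin R (Set.range (X : UGen m → MvPolynomial (UGen m) R)) = ⊤ :=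
    MvPolynomial.adjoin_range_X
  have h2 : (Algebra.adjoin R (Set.range (X : UGen m → MvPolynomial (UGen m) R))).map
      (Ideal.Quotient.mkₐ R (Ideal.span (URel R m))) = ⊤ := by
    rw [h1, Algebra.map_top]
    exact (AlgHom.range_eq_top _).2 (Ideal.Quotient.mkₐ_surjective R _)
  rw [← h2, AlgHom.map_adjoin, ← Set.range_comp]
  rfl

theorem adjoin_W1_eq_top (hm : 2 ≤ m) : Algebra.adjoin R (W1 R m) = ⊤ := by
  rw [eq_top_iff, ← adjoin_ugen_eq_top R m]
  refine Algebra.adjoin_le ?_
  rintro _ ⟨g, rfl⟩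
  exact ugen_mem_of_le R m hm _ Algebra.subset_adjoin g

end Groth.Agent.Lib.Seat65.UTangentA
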