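import Mathlib
import Groth.Prelude.Def_W4c5m1nsnscurvesU
import Groth.Agent.Lib.Seat65UTangentA

/-!
# The cotangent space of `U_n` at the origin, part B: the dimension count
-/

set_option autoImplicit false
universe u
open MvPolynomial W4c5m1nsnscurves

namespace Groth.Agent.Lib.Seat65.UTangentB

open Groth.Agent.Lib.Seat65.UCurveA Groth.Agent.Lib.Seat65.UTangentA

/-- strictly ordered pairs -/
abbrev Pr (m : ℕ) : Type := {q : Fin m × Fin m // q.1 < q.2}

/-- index type of the weight-one generators -/
abbrev Idx (m : ℕ) : Type := Unit ⊕ (Fin m ⊕ (Fin m ⊕ Pr m))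

theorem card_Idx (m : ℕ) : Fintype.card (Idx m) = (m + 2) * (m + 1) / 2 := by
  have h1 : Fintype.card (Pr m) = m.choose 2 := by
    rw [Fintype.card_subtype]
    have := Fintype.card_product_filter_lt (α := Fin m)
    simpa using this
  have h2 : (m + 2).choose 2 = (m + 2) * (m + 1) / 2 := by
    rw [Nat.choose_two_right]; rfl
  rw [← h2]
  simp only [Idx, Fintype.card_sum, Fintype.card_unit, Fintype.card_fin, h1]
  have h3 : (m + 2).choose 2 = (m + 1).choose 1 + (m + 1).choose 2 := Nat.choose_succ_succ' (m + 1) 1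
  have h4 : (m + 1).choose 2 = m.choose 1 + m.choose 2 := Nat.choose_succ_succ' m 1
  rw [h3, h4, Nat.choose_one_right, Nat.choose_one_right]
  ring

/-- the weight-one generator with a given index -/
def gen {m : ℕ} : Idx m → UGen m
  | .inl _ => .a
  | .inr (.inl i) => .ci i
  | .inr (.inr (.inl i)) => .cbi i
  | .inr (.inr (.inr q)) => .cij q.1.1 q.1.2 (ne_of_lt q.2)

variable (K : Type u) [Field K] (m : ℕ)

/-- basis vectors -/
def e (x : Idx m) : Idx m → K := Pi.single x 1

/-- the linear part of a generator -/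
def vec : UGen m → (Idx m → K)
  | .a => e K m (.inl ())
  | .c => 0
  | .cb => 0
  | .ci i => e K m (.inr (.inl i))
  | .cbi i => e K m (.inr (.inr (.inl i)))
  | .cij i j h =>
      if hlt : i < j then e K m (.inr (.inr (.inr ⟨(i, j), hlt⟩)))
      else e K m (.inl ()) + e K m (.inr (.inl i)) + e K m (.inr (.inr (.inl i))) +
        e K m (.inr (.inl j)) + e K m (.inr (.inr (.inl j))) -
        e K m (.inr (.inr (.inr ⟨(j, i), lt_of_le_of_ne (not_lt.mp hlt) h.symm⟩)))

theorem vec_gen (x : Idx m) : vec K m (gen x) = e K m x := by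
  rcases x with _ | i | i | q
  · rfl
  · rfl
  · rfl
  · show vec K m (.cij q.1.1 q.1.2 _) = _
    simp only [vec]
    rw [dif_pos q.2]

theorem vec_lin (i j : Fin m) (h : i ≠ j) :
    vec K m (.cij i j h) + vec K m (.cij j i h.symm) =
      vec K m .a + vec K m (.ci i) + vec K m (.cbi i) + vec K m (.ci j) + vec K m (.cbi j) := by
  rcases lt_or_gt_of_ne h with hlt | hgt
  · have h2 : ¬ j < i := not_lt.mpr hlt.le
    simp only [vec]
    rw [dif_pos hlt, dif_neg h2]
    abel
  · have h2 : ¬ i < j := not_lt.mpr hgt.le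
    simp only [vec]
    rw [dif_neg h2, dif_pos hgt]
    abel

/-- the square-zero extension receiving the first-order data -/
abbrev TS : Type u := TrivSqZeroExt K (Idx m → K)

/-- the algebra map on polynomials -/
noncomputable def phi0 : MvPolynomial (UGen m) K →ₐ[K] TS K m :=
  MvPolynomial.aeval (fun g => (TrivSqZeroExt.inr (vec K m g) : TS K m))

theorem phi0_X (g : UGen m) : phi0 K m (X g) = TrivSqZeroExt.inr (vec K m g) := by
  simp [phi0]

theorem phi0_rel (p : MvPolynomial (UGen m) K) (hp : p ∈ URel K m) : phi0 K m p = 0 := by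
  rcases hp with ((⟨q, rfl⟩ | ⟨q, rfl⟩) | ⟨q, rfl⟩) | ⟨q, rfl⟩
  · simp only [map_sub, map_add, phi0_X, ← TrivSqZeroExt.inr_add, ← TrivSqZeroExt.inr_sub]
    rw [vec_lin K m q.1.1 q.1.2 q.2, sub_self, TrivSqZeroExt.inr_zero]
  · simp only [map_sub, map_add, map_mul, phi0_X, TrivSqZeroExt.inr_mul_inr]
    simp [vec]
  · simp only [map_sub, map_add, map_mul, phi0_X, TrivSqZeroExt.inr_mul_inr]
    simp [vec]
  · simp only [map_sub, map_add, map_mul, phi0_X, ← TrivSqZeroExt.inr_add,
      TrivSqZeroExt.inr_mul_inr]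
    simp [vec]

/-- the first-order algebra map on `URing K m` -/
noncomputable def phi : URing K m →ₐ[K] TS K m :=
  Ideal.Quotient.liftₐ (Ideal.span (URel K m)) (phi0 K m) (fun p hp => by
    have hle : Ideal.span (URel K m) ≤ RingHom.ker (phi0 K m).toRingHom := by
      rw [Ideal.span_le]
      intro p hp
      exact phi0_rel K m p hp
    exact hle hp)

theorem phi_ugen (g : UGen m) : phi K m (ugen K m g) = TrivSqZeroExt.inr (vec K m g) := by
  show phi K m (Ideal.Quotient.mk _ (X g)) = _
  rw [phi, Ideal.Quotient.liftₐ_apply, Ideal.Quotient.lift_mk]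
  exact phi0_X K m g

/-- the augmentation -/
noncomputable def eps : URing K m →ₐ[K] K := (TrivSqZeroExt.fstHom K K (Idx m → K)).comp (phi K m)

theorem eps_ugen (g : UGen m) : eps K m (ugen K m g) = 0 := by
  simp [eps, phi_ugen]

theorem ugen_mem (g : UGen m) : ugen K m g ∈ uorigin K m := Ideal.subset_span ⟨g, rfl⟩

theorem eps_eq_zero_of_mem (x : URing K m) (hx : x ∈ uorigin K m) : eps K m x = 0 := by
  have hle : uorigin K m ≤ RingHom.ker (eps K m).toRingHom := by
    rw [uorigin, Ideal.span_le]
    rintro _ ⟨g, rfl⟩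
    exact eps_ugen K m g
  exact hle hx

theorem sub_eps_mem (r : URing K m) : r - algebraMap K (URing K m) (eps K m r) ∈ uorigin K m := by
  have hr : r ∈ Algebra.adjoin K (Set.range (ugen K m)) := by
    rw [adjoin_ugen_eq_top]; trivial
  induction hr using Algebra.adjoin_induction with
  | mem x hx =>
    obtain ⟨g, rfl⟩ := hx
    rw [eps_ugen, map_zero, sub_zero]
    exact ugen_mem K m g
  | algebraMap k =>
    rw [AlgHom.commutes, Algebra.algebraMap_self_apply, sub_self]
    exact Ideal.zero_mem _
  | add x y _ _ hx hy =>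
    have : x + y - algebraMap K (URing K m) (eps K m (x + y)) =
        (x - algebraMap K (URing K m) (eps K m x)) + (y - algebraMap K (URing K m) (eps K m y)) := by
      rw [map_add, map_add]; ring
    rw [this]
    exact Ideal.add_mem _ hx hy
  | mul x y _ _ hx hy =>
    have : x * y - algebraMap K (URing K m) (eps K m (x * y)) =
        (x - algebraMap K (URing K m) (eps K m x)) * y +
          algebraMap K (URing K m) (eps K m x) * (y - algebraMap K (URing K m) (eps K m y)) := by
      rw [map_mul, map_mul]; ring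
    rw [this]
    exact Ideal.add_mem _ (Ideal.mul_mem_right _ _ hx) (Ideal.mul_mem_left _ _ hy)

/-- the first-order part, as a linear map on the ideal of the origin -/
noncomputable def psi : (uorigin K m) →ₗ[K] (Idx m → K) :=
  (TrivSqZeroExt.sndHom K (Idx m → K)) ∘ₗ (phi K m).toLinearMap ∘ₗ
    ((uorigin K m).subtype.restrictScalars K)

theorem psi_apply (x : uorigin K m) : psi K m x = (phi K m (x : URing K m)).snd := rfl

theorem fst_phi (x : URing K m) : (phi K m x).fst = eps K m x := rfl

theorem psi_mul (x y : uorigin K m) : psi K m (x * y) = 0 := by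
  rw [psi_apply]
  show (phi K m ((x : URing K m) * (y : URing K m))).snd = 0
  rw [map_mul, TrivSqZeroExt.snd_mul, fst_phi, fst_phi, eps_eq_zero_of_mem K m _ x.2,
    eps_eq_zero_of_mem K m _ y.2]
  simp

/-- the induced map on the cotangent space -/
noncomputable def psiC : (uorigin K m).Cotangent →ₗ[K] (Idx m → K) :=
  Ideal.Cotangent.lift (psi K m) (psi_mul K m)

theorem psi_ugen (g : UGen m) : psi K m ⟨ugen K m g, ugen_mem K m g⟩ = vec K m g := by
  rw [psi_apply, phi_ugen]; rfl

theorem psiC_surjective : Function.Surjective (psiC K m) := by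
  rw [psiC, Ideal.Cotangent.lift_surjective_iff]
  intro v
  refine ⟨∑ x : Idx m, v x • (⟨ugen K m (gen x), ugen_mem K m (gen x)⟩ : uorigin K m), ?_⟩
  rw [map_sum]
  simp only [map_smul, psi_ugen, vec_gen]
  ext y
  simp [e, Pi.single_apply]

/-- the class of a generator in the cotangent space -/
noncomputable def tc (g : UGen m) : (uorigin K m).Cotangent :=
  (uorigin K m).toCotangent ⟨ugen K m g, ugen_mem K m g⟩

/-- the span of the weight-one classes -/
noncomputable def Wsp : Submodule K (uorigin K m).Cotangent :=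
  Submodule.span K (Set.range fun x : Idx m => tc K m (gen x))

theorem smul_cot (r : URing K m) (z : (uorigin K m).Cotangent) : r • z = eps K m r • z := by
  have h1 : r = (r - algebraMap K (URing K m) (eps K m r)) + algebraMap K (URing K m) (eps K m r) := by
    ring
  have h2 : r • z = (r - algebraMap K (URing K m) (eps K m r)) • z +
      algebraMap K (URing K m) (eps K m r) • z := by
    conv_lhs => rw [h1]
    exact add_smul (r - algebraMap K (URing K m) (eps K m r))
      (algebraMap K (URing K m) (eps K m r)) z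
  have h3 : algebraMap K (URing K m) (eps K m r) • z = eps K m r • z :=
    algebraMap_smul (URing K m) (eps K m r) z
  rw [h2, Ideal.Cotangent.smul_eq_zero_of_mem (sub_eps_mem K m r), zero_add, h3]

theorem tc_c_eq_zero (hm : 2 ≤ m) : tc K m .c = 0 := by
  have h01 : (⟨0, by omega⟩ : Fin m) ≠ ⟨1, by omega⟩ := by
    intro h; simpa using congrArg Fin.val h
  rw [tc, Ideal.toCotangent_eq_zero]
  have h1 := uqc K m _ _ h01
  have h2 : ugen K m .c = ugen K m (.cij _ _ h01.symm) * ugen K m (.ci ⟨1, by omega⟩) +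
      ugen K m (.cij _ _ h01) * ugen K m (.ci ⟨0, by omega⟩) -
      ugen K m (.ci ⟨0, by omega⟩) * ugen K m (.ci ⟨1, by omega⟩) := by
    linear_combination -h1
  show ugen K m .c ∈ uorigin K m ^ 2
  rw [h2, pow_two]
  exact Ideal.sub_mem _ (Ideal.add_mem _ (Ideal.mul_mem_mul (ugen_mem K m _) (ugen_mem K m _))
    (Ideal.mul_mem_mul (ugen_mem K m _) (ugen_mem K m _)))
    (Ideal.mul_mem_mul (ugen_mem K m _) (ugen_mem K m _))

theorem tc_cb_eq_zero (hm : 2 ≤ m) : tc K m .cb = 0 := by
  have h01 : (⟨0, by omega⟩ : Fin m) ≠ ⟨1, by omega⟩ := by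
    intro h; simpa using congrArg Fin.val h
  rw [tc, Ideal.toCotangent_eq_zero]
  have h1 := uqb K m _ _ h01
  have h2 : ugen K m .cb = ugen K m (.cij _ _ h01.symm) * ugen K m (.cbi ⟨0, by omega⟩) +
      ugen K m (.cij _ _ h01) * ugen K m (.cbi ⟨1, by omega⟩) -
      ugen K m (.cbi ⟨0, by omega⟩) * ugen K m (.cbi ⟨1, by omega⟩) := by
    linear_combination -h1
  show ugen K m .cb ∈ uorigin K m ^ 2
  rw [h2, pow_two]
  exact Ideal.sub_mem _ (Ideal.add_mem _ (Ideal.mul_mem_mul (ugen_mem K m _) (ugen_mem K m _))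
    (Ideal.mul_mem_mul (ugen_mem K m _) (ugen_mem K m _)))
    (Ideal.mul_mem_mul (ugen_mem K m _) (ugen_mem K m _))

theorem tc_gen_mem (x : Idx m) : tc K m (gen x) ∈ Wsp K m := Submodule.subset_span ⟨x, rfl⟩

theorem tc_lin (i j : Fin m) (h : i ≠ j) :
    tc K m (.cij i j h) = tc K m .a + tc K m (.ci i) + tc K m (.cbi i) + tc K m (.ci j) +
      tc K m (.cbi j) - tc K m (.cij j i h.symm) := by
  simp only [tc, ← map_add, ← map_sub]
  congr 1
  apply Subtype.ext
  show ugen K m (.cij i j h) = ugen K m .a + ugen K m (.ci i) + ugen K m (.cbi i) +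
      ugen K m (.ci j) + ugen K m (.cbi j) - ugen K m (.cij j i h.symm)
  rw [← ulin K m i j h]; ring

theorem tc_mem (hm : 2 ≤ m) (g : UGen m) : tc K m g ∈ Wsp K m := by
  have hij : ∀ (i j : Fin m) (h : i < j), tc K m (.cij i j (ne_of_lt h)) ∈ Wsp K m :=
    fun i j h => tc_gen_mem K m (.inr (.inr (.inr ⟨(i, j), h⟩)))
  cases g with
  | a => exact tc_gen_mem K m (.inl ())
  | c => rw [tc_c_eq_zero K m hm]; exact Submodule.zero_mem _
  | cb => rw [tc_cb_eq_zero K m hm]; exact Submodule.zero_mem _
  | ci i => exact tc_gen_mem K m (.inr (.inl i))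
  | cbi i => exact tc_gen_mem K m (.inr (.inr (.inl i)))
  | cij i j h =>
    rcases lt_or_gt_of_ne h with hlt | hgt
    · exact hij i j hlt
    · rw [tc_lin K m i j h]
      refine Submodule.sub_mem _ (Submodule.add_mem _ (Submodule.add_mem _ (Submodule.add_mem _
        (Submodule.add_mem _ ?_ ?_) ?_) ?_) ?_) (hij j i hgt)
      · exact tc_gen_mem K m (.inl ())
      · exact tc_gen_mem K m (.inr (.inl i))
      · exact tc_gen_mem K m (.inr (.inr (.inl i)))
      · exact tc_gen_mem K m (.inr (.inl j))
      · exact tc_gen_mem K m (.inr (.inr (.inl j)))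

theorem Wsp_eq_top (hm : 2 ≤ m) : Wsp K m = ⊤ := by
  rw [eq_top_iff]
  intro z _
  obtain ⟨⟨x, hx⟩, rfl⟩ := (uorigin K m).toCotangent_surjective z
  have key : ∀ (x : URing K m) (hx : x ∈ uorigin K m),
      (uorigin K m).toCotangent ⟨x, hx⟩ ∈ Wsp K m := by
    intro x hx
    unfold uorigin at hx
    induction hx using Submodule.span_induction with
    | mem y hy =>
      obtain ⟨g, rfl⟩ := hy
      exact tc_mem K m hm g
    | zero =>
      have : (⟨0, (uorigin K m).zero_mem⟩ : uorigin K m) = 0 := rfl
      rw [this, map_zero]; exact Submodule.zero_mem _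
    | add y z hy hz ihy ihz =>
      have : (⟨y + z, (uorigin K m).add_mem hy hz⟩ : uorigin K m) = ⟨y, hy⟩ + ⟨z, hz⟩ := rfl
      rw [this, map_add]; exact Submodule.add_mem _ ihy ihz
    | smul r y hy ihy =>
      have : (⟨r • y, (uorigin K m).smul_mem r hy⟩ : uorigin K m) = r • ⟨y, hy⟩ := rfl
      rw [this, map_smul, smul_cot]
      exact Submodule.smul_mem _ _ ihy
  exact key x hx

theorem finrank_cotangent (hm : 2 ≤ m) :
    Module.finrank K (uorigin K m).Cotangent = (m + 2) * (m + 1) / 2 := by
  have htop := Wsp_eq_top K m hm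
  have : Module.Finite K (uorigin K m).Cotangent := by
    rw [Module.finite_def, ← htop]
    exact Submodule.fg_span (Set.finite_range _)
  apply le_antisymm
  · rw [← card_Idx m]
    have h1 : Module.finrank K (uorigin K m).Cotangent = Module.finrank K (Wsp K m) := by
      rw [htop, finrank_top]
    rw [h1]
    exact finrank_range_le_card (fun x : Idx m => tc K m (gen x))
  · have h1 := LinearMap.finrank_le_finrank_of_surjective (psiC_surjective K m)
    rw [Module.finrank_pi, card_Idx] at h1
    exact h1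

end Groth.Agent.Lib.Seat65.UTangentB
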