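import Mathlib.CategoryTheory.Abelian.Basic
import Mathlib.CategoryTheory.Subobject.Limits

/-!
# Subobject helpers in abelian categories (seat 66)
-/

set_option autoImplicit false
universe v u

namespace Groth.Agent.Lib.Seat66.AbSub

open CategoryTheory CategoryTheory.Limits

variable {V : Type u} [Category.{v} V] [Abelian V]

/-- In an abelian category precomposing with an epimorphism does not change the image. -/
theorem imageSubobject_epi_comp {A A' B : V} (h : A ⟶ A') [Epi h] (f : A' ⟶ B) :
    imageSubobject (h ≫ f) = imageSubobject f := by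
  apply le_antisymm (imageSubobject_comp_le h f)
  have h1 : Epi (Subobject.ofLE _ _ (imageSubobject_comp_le h f)) := inferInstance
  have h2 : IsIso (Subobject.ofLE _ _ (imageSubobject_comp_le h f)) := isIso_of_mono_of_epi _
  exact Subobject.le_of_comm (inv (Subobject.ofLE _ _ (imageSubobject_comp_le h f))) (by simp)

/-- Equal morphisms have equal images. -/
theorem imageSubobject_congr {A B : V} {f g : A ⟶ B} (h : f = g) :
    imageSubobject f = imageSubobject g := by
  subst h; rfl

/-- The image of the arrow of a subobject is the subobject. -/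
theorem imageSubobject_arrow_eq {B : V} (S : Subobject B) : imageSubobject S.arrow = S := by
  rw [imageSubobject_mono, Subobject.mk_arrow]

/-- If `f` factors through the arrow of a subobject `S` by an epimorphism then `S` is the
image of `f`. -/
theorem imageSubobject_eq_of_epi_fac {A B : V} (S : Subobject B) (f : A ⟶ B) (h : A ⟶ (S : V))
    [Epi h] (w : h ≫ S.arrow = f) : imageSubobject f = S := by
  subst w
  rw [imageSubobject_epi_comp, imageSubobject_arrow_eq]

/-- If `g ≫ S.arrow` has image `S`, then `g` is an epimorphism. -/
theorem epi_of_imageSubobject_comp_arrow_eq {A B : V} (S : Subobject B) (g : A ⟶ (S : V))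
    (h : imageSubobject (g ≫ S.arrow) = S) : Epi g := by
  have hle : imageSubobject (g ≫ S.arrow) ≤ S := h.le
  have hge : S ≤ imageSubobject (g ≫ S.arrow) := h.ge
  -- the comparison morphism is an isomorphism
  have e1 : Subobject.ofLE _ _ hle ≫ Subobject.ofLE _ _ hge = 𝟙 _ := by
    apply (cancel_mono (imageSubobject (g ≫ S.arrow)).arrow).mp
    simp
  have e2 : Subobject.ofLE _ _ hge ≫ Subobject.ofLE _ _ hle = 𝟙 _ := by
    apply (cancel_mono S.arrow).mp
    simp
  have hiso : IsIso (Subobject.ofLE _ _ hle) := ⟨⟨Subobject.ofLE _ _ hge, e1, e2⟩⟩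
  have hg : g = factorThruImageSubobject (g ≫ S.arrow) ≫ Subobject.ofLE _ _ hle := by
    apply (cancel_mono S.arrow).mp
    simp
  rw [hg]
  infer_instance

/-- A morphism killed by the cokernel of the arrow of a subobject factors through it. -/
theorem le_of_comp_cokernel_eq_zero {B : V} (S D : Subobject B)
    (h : D.arrow ≫ cokernel.π S.arrow = 0) : D ≤ S :=
  Subobject.le_of_comm (Abelian.monoLift S.arrow D.arrow h) (Abelian.monoLift_comp _ _ _)

end Groth.Agent.Lib.Seat66.AbSub
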