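import Mathlib
import Groth.Agent.Lib.Helper28Normal

/-!
# Flatness over a regular ring of dimension `≤ 1` from associated primes (seat 66)

If `A` is Noetherian with all localizations at maximal ideals regular of dimension `≤ 1`, `B` is a
Noetherian `A`-algebra, and every associated prime of `B` contracts to a minimal prime of `A`,
then `B` is flat over `A`.
-/

set_option autoImplicit false
universe u
open scoped Pointwise

namespace Groth.Agent.Lib.Seat66.AssFlat

variable {A B : Type u} [CommRing A] [CommRing B] [Algebra A B]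

/-- An element of `B` not killed by the complement of `𝔪` is detected by an associated prime of
`B` contracting into `𝔪`. -/
theorem exists_associatedPrime [IsNoetherianRing B] (𝔪 : Ideal A) [𝔪.IsPrime] (a : A) (b : B)
    (hb : ∀ v ∈ 𝔪.primeCompl, v • b ≠ 0) (hab : a • b = 0) :
    ∃ 𝔮 ∈ associatedPrimes B B, a ∈ 𝔮.comap (algebraMap A B) ∧ 𝔮.comap (algebraMap A B) ≤ 𝔪 := by
  classical
  let Fam : Set (Ideal B) := {I | ∃ n : B, (∃ c : B, n = c * b) ∧
    (∀ v ∈ 𝔪.primeCompl, v • n ≠ 0) ∧ I = (⊥ : Submodule B B).colon {n}}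
  have hne : Fam.Nonempty := ⟨_, b, ⟨1, (one_mul b).symm⟩, hb, rfl⟩
  obtain ⟨I, ⟨n₀, ⟨c₀, hc₀⟩, hn₀, rfl⟩, hmax⟩ := set_has_maximal_iff_noetherian.mpr
    (inferInstance : IsNoetherian B B) Fam hne
  have hmem : ∀ (n x : B), x ∈ (⊥ : Submodule B B).colon {n} ↔ x * n = 0 := by
    intro n x
    rw [Submodule.mem_colon_singleton, Submodule.mem_bot, smul_eq_mul]
  have hmax' : ∀ n : B, (∃ c : B, n = c * b) → (∀ v ∈ 𝔪.primeCompl, v • n ≠ 0) →
      (∀ x : B, x * n₀ = 0 → x * n = 0) → ∀ x : B, x * n = 0 → x * n₀ = 0 := by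
    intro n hn1 hn2 hle x hx
    have hin : (⊥ : Submodule B B).colon {n} ∈ Fam := ⟨n, hn1, hn2, rfl⟩
    have hle' : (⊥ : Submodule B B).colon {n₀} ≤ (⊥ : Submodule B B).colon {n} := by
      intro z hz
      rw [hmem] at hz ⊢
      exact hle z hz
    have heq : (⊥ : Submodule B B).colon {n₀} = (⊥ : Submodule B B).colon {n} := by
      by_contra hne'
      exact hmax _ hin (lt_of_le_of_ne hle' hne')
    have : x ∈ (⊥ : Submodule B B).colon {n} := (hmem n x).mpr hx
    rw [← heq] at this
    exact (hmem n₀ x).mp this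
  -- saturation
  have hsat : ∀ (y : B) (v : A), v ∈ 𝔪.primeCompl → algebraMap A B v * y * n₀ = 0 →
      y * n₀ = 0 := by
    intro y v hv hvy
    apply hmax' (v • n₀) ⟨algebraMap A B v * c₀, by rw [hc₀, Algebra.smul_def, mul_assoc]⟩
    · intro w hw
      rw [smul_smul]
      exact hn₀ _ (𝔪.primeCompl.mul_mem hw hv)
    · intro x hx
      rw [Algebra.smul_def, mul_left_comm, hx, mul_zero]
    · rw [Algebra.smul_def, ← mul_assoc, mul_comm y]
      exact hvy
  have hn₀0 : n₀ ≠ 0 := by
    have := hn₀ 1 𝔪.primeCompl.one_mem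
    rwa [one_smul] at this
  have hprime : ((⊥ : Submodule B B).colon {n₀} : Ideal B).IsPrime := by
    refine ⟨?_, ?_⟩
    · intro htop
      have : (1 : B) ∈ (⊥ : Submodule B B).colon {n₀} := htop ▸ Submodule.mem_top
      rw [hmem, one_mul] at this
      exact hn₀0 this
    · intro x y hxy
      rw [hmem] at hxy
      by_contra hcon
      push Not at hcon
      obtain ⟨hx, hy⟩ := hcon
      rw [hmem] at hx hy
      apply hx
      apply hmax' (y * n₀) ⟨y * c₀, by rw [hc₀, mul_assoc]⟩
      · intro v hv hvn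
        apply hy
        apply hsat y v hv
        rw [mul_assoc, ← Algebra.smul_def]
        exact hvn
      · intro z hz
        rw [mul_left_comm, hz, mul_zero]
      · rw [← mul_assoc]
        exact hxy
  refine ⟨_, (isAssociatedPrime_iff (R := B) (M := B)).mpr ⟨hprime, n₀, rfl⟩, ?_, ?_⟩
  · rw [Ideal.mem_comap, hmem, hc₀, mul_left_comm, ← Algebra.smul_def, hab, mul_zero]
  · intro v hv
    by_contra hvm
    rw [Ideal.mem_comap, hmem, ← Algebra.smul_def] at hv
    exact hn₀ v hvm hv

/-- Over a ring whose localizations at maximal ideals are regular of dimension `≤ 1`, a Noetherian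
algebra all of whose associated primes contract to height-zero primes is flat. -/
theorem flat_of_associatedPrimes [IsNoetherianRing A] [IsNoetherianRing B]
    (hreg : ∀ (𝔪 : Ideal A) [𝔪.IsMaximal], IsRegularLocalRing (Localization.AtPrime 𝔪))
    (hdim : ∀ (𝔪 : Ideal A) [𝔪.IsMaximal], ringKrullDim (Localization.AtPrime 𝔪) ≤ 1)
    (hass : ∀ 𝔮 ∈ associatedPrimes B B, (𝔮.comap (algebraMap A B)).height = 0) :
    Module.Flat A B := by
  apply Module.flat_of_localized_maximal
  intro 𝔪 h𝔪
  have hR := hreg 𝔪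
  obtain ⟨hdom, hic⟩ :=
    Groth.Agent.Lib.Helper28.isDomain_and_isIntegrallyClosed_of_isRegularLocalRing_of_dim_le_one
      hR (hdim 𝔪)
  have hk : Ring.KrullDimLE 1 (Localization.AtPrime 𝔪) := by
    rw [Ring.krullDimLE_iff]
    exact_mod_cast hdim 𝔪
  have hd : Ring.DimensionLEOne (Localization.AtPrime 𝔪) :=
    ⟨fun {p} hp hpp => Ring.krullDimLE_one_iff_of_noZeroDivisors.mp hk p hp hpp⟩
  have hded : IsDedekindDomain (Localization.AtPrime 𝔪) :=
    { toIsDomain := hdom, toIsDedekindRing := { } }
  have htf : Module.IsTorsionFree (Localization.AtPrime 𝔪) (LocalizedModule 𝔪.primeCompl B) := by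
    refine Module.IsTorsionFree.of_smul_eq_zero fun r m hrm => ?_
    induction m using LocalizedModule.induction_on with
    | h b t =>
      obtain ⟨a, s, rfl⟩ := IsLocalization.exists_mk'_eq 𝔪.primeCompl r
      rw [← Localization.mk_eq_mk', LocalizedModule.mk_smul_mk, ← LocalizedModule.zero_mk 1,
        LocalizedModule.mk_eq] at hrm
      obtain ⟨u, hu⟩ := hrm
      rw [smul_zero, smul_zero, one_smul] at hu
      by_cases hm : LocalizedModule.mk b t = 0
      · exact Or.inr hm
      left
      have hb : ∀ v ∈ 𝔪.primeCompl, v • (u • b) ≠ 0 := by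
        intro v hv hvb
        apply hm
        rw [← LocalizedModule.zero_mk 1, LocalizedModule.mk_eq]
        refine ⟨⟨v, hv⟩ * u, ?_⟩
        rw [smul_zero, smul_zero, one_smul, mul_smul]
        exact hvb
      have hab : a • (u • b) = 0 := by
        rw [smul_comm]
        exact hu
      obtain ⟨𝔮, h𝔮, ha, hle⟩ := exists_associatedPrime 𝔪 a (u • b) hb hab
      have h𝔮p : 𝔮.IsPrime := h𝔮.isPrime
      have hdisj : Disjoint (𝔪.primeCompl : Set A) (𝔮.comap (algebraMap A B) : Set A) := by
        rw [Set.disjoint_left]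
        intro v hv hv'
        exact hv (hle hv')
      have hh := IsLocalization.height_map_of_disjoint (S := Localization.AtPrime 𝔪) 𝔪.primeCompl
        (𝔮.comap (algebraMap A B)) hdisj
      rw [hass 𝔮 h𝔮] at hh
      have hP : ((𝔮.comap (algebraMap A B)).map
          (algebraMap A (Localization.AtPrime 𝔪))).IsPrime :=
        IsLocalization.isPrime_of_isPrime_disjoint 𝔪.primeCompl _ _ inferInstance hdisj
      have hmin := Ideal.height_eq_zero_iff.mp hh
      have hbot : (𝔮.comap (algebraMap A B)).map (algebraMap A (Localization.AtPrime 𝔪)) = ⊥ := by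
        rw [IsDomain.minimalPrimes_eq_singleton_bot] at hmin
        exact hmin
      have ha0 : algebraMap A (Localization.AtPrime 𝔪) a = 0 := by
        have : algebraMap A (Localization.AtPrime 𝔪) a ∈
            (𝔮.comap (algebraMap A B)).map (algebraMap A (Localization.AtPrime 𝔪)) :=
          Ideal.mem_map_of_mem _ ha
        rwa [hbot] at this
      rw [IsLocalization.mk'_eq_mul_mk'_one, ha0, zero_mul]
  exact Module.Flat.trans A (Localization.AtPrime 𝔪) (LocalizedModule 𝔪.primeCompl B)

end Groth.Agent.Lib.Seat66.AssFlat
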