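import Mathlib
import Groth.Agent.Lib.Helper10CurveFlat
import Groth.Agent.Lib.Helper6SmRegSch
import Groth.Agent.Lib.Helper28Normal
import Groth.Agent.Lib.Helper4BirDimOne

/-!
# Birational morphisms of smooth curves are open immersions (seat 66)

* `surjective_of_valuationRing`: a local homomorphism out of a valuation ring `A`, into a ring `B`
  embedded in a field `L` that is a quotient of `Frac A` compatibly, is surjective.
* `isIso_stalkMap_of_valuationRing`: stalk maps of a birational morphism of integral schemes are
  isomorphisms at the points whose image has a valuation ring as local ring.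
* `injective_of_birational`: such a morphism from a separated scheme is injective.
* `isOpenImmersion_of_birational`: the final statement.
-/

set_option autoImplicit false
set_option backward.isDefEq.respectTransparency false
universe u
open CategoryTheory CategoryTheory.Limits AlgebraicGeometry TopologicalSpace

namespace Groth.Agent.Lib.Seat66.BirCurve

/-- A local homomorphism `α : A → B` out of a valuation ring, sitting in a commutative square with
`Frac A = K → L` surjective and `B → L` injective, is surjective. -/
theorem surjective_of_valuationRing {A B K L : Type*} [CommRing A] [IsDomain A] [ValuationRing A]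
    [CommRing B] [Field K] [Field L] [Algebra A K] [IsFractionRing A K]
    (α : A →+* B) [IsLocalHom α] (ιB : B →+* L) (hιB : Function.Injective ιB)
    (φ : K →+* L) (hφ : Function.Surjective φ)
    (hcomm : ∀ a, φ (algebraMap A K a) = ιB (α a)) : Function.Surjective α := by
  intro b
  obtain ⟨c, hc⟩ := hφ (ιB b)
  rcases ValuationRing.isInteger_or_isInteger A c with ⟨a, ha⟩ | ⟨a, ha⟩
  · exact ⟨a, hιB (by rw [← hcomm, ha, hc])⟩
  · by_cases hc0 : c = 0
    · refine ⟨0, hιB ?_⟩
      rw [map_zero, map_zero, ← hc, hc0, map_zero]
    · have h1 : ιB (α a * b) = ιB 1 := by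
        rw [map_mul, ← hcomm, ha, ← hc, ← map_mul, inv_mul_cancel₀ hc0, map_one, map_one]
      have h2 : α a * b = 1 := hιB h1
      have h3 : IsUnit (α a) := .of_mul_eq_one _ h2
      have h4 : IsUnit a := (isUnit_map_iff α a).mp h3
      obtain ⟨u, rfl⟩ := h4
      refine ⟨((u⁻¹ : Aˣ) : A), hιB ?_⟩
      rw [← hcomm, ← hc]
      congr 1
      have h5 : algebraMap A K (u : A) * algebraMap A K ((u⁻¹ : Aˣ) : A) = 1 := by
        rw [← map_mul, Units.mul_inv, map_one]
      rw [ha] at h5
      field_simp at h5
      exact h5.symm ▸ rfl

section Scheme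

variable {X Y : Scheme.{u}} [IsIntegral X] [IsIntegral Y] (f : X ⟶ Y)

/-- The comparison map `𝒪_{Y,y} ⟶ 𝒪_{X,x}` for `f x = y`. -/
noncomputable def stalkHom (x : X) (y : Y) (hxy : f x = y) :
    Y.presheaf.stalk y ⟶ X.presheaf.stalk x :=
  Y.presheaf.stalkSpecializes (specializes_of_eq hxy) ≫ f.stalkMap x

lemma stalkHom_comm (e : f (genericPoint X) = genericPoint Y) (x : X) (y : Y) (hxy : f x = y) :
    Y.presheaf.stalkSpecializes (genericPoint_specializes y) ≫
      (Y.presheaf.stalkSpecializes (specializes_of_eq e) ≫ f.stalkMap (genericPoint X)) =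
    stalkHom f x y hxy ≫ X.presheaf.stalkSpecializes (genericPoint_specializes x) := by
  subst hxy
  unfold stalkHom
  rw [Category.assoc, ← Scheme.Hom.stalkSpecializes_stalkMap f _ _ (genericPoint_specializes x),
    TopCat.Presheaf.stalkSpecializes_comp_assoc, TopCat.Presheaf.stalkSpecializes_comp_assoc]

instance isLocalHom_stalkHom (x : X) (y : Y) (hxy : f x = y) :
    IsLocalHom (stalkHom f x y hxy).hom := by
  subst hxy
  unfold stalkHom
  rw [CommRingCat.hom_comp]
  have h1 : IsLocalHom (f.stalkMap x).hom := inferInstance
  have h2 : IsLocalHom (Y.presheaf.stalkSpecializes (specializes_of_eq (rfl : f x = f x))).hom := by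
    have : IsIso (Y.presheaf.stalkSpecializes (specializes_of_eq (rfl : f x = f x))) := by
      rw [TopCat.Presheaf.stalkSpecializes_refl]; infer_instance
    exact isLocalHom_of_isIso _
  exact RingHom.isLocalHom_comp _ _

theorem isIso_stalkHom (e : f (genericPoint X) = genericPoint Y)
    (hbir : Function.Bijective
      (Y.presheaf.stalkSpecializes (specializes_of_eq e) ≫ f.stalkMap (genericPoint X)).hom)
    (x : X) (y : Y) (hxy : f x = y) [ValuationRing (Y.presheaf.stalk y)] :
    IsIso (stalkHom f x y hxy) := by
  have hcomm := stalkHom_comm f e x y hxy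
  have hsurj : Function.Surjective (stalkHom f x y hxy).hom := by
    refine surjective_of_valuationRing (K := Y.functionField) (L := X.functionField)
      (stalkHom f x y hxy).hom (algebraMap (X.presheaf.stalk x) X.functionField)
      (IsFractionRing.injective _ _)
      (Y.presheaf.stalkSpecializes (specializes_of_eq e) ≫ f.stalkMap (genericPoint X)).hom
      hbir.2 ?_
    intro a
    exact congr($(hcomm).hom a)
  have hinj : Function.Injective (stalkHom f x y hxy).hom := by
    have h1 : Function.Injective ((X.presheaf.stalkSpecializes (genericPoint_specializes x)).hom ∘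
        (stalkHom f x y hxy).hom) := by
      have : ((X.presheaf.stalkSpecializes (genericPoint_specializes x)).hom ∘
          (stalkHom f x y hxy).hom) =
          (Y.presheaf.stalkSpecializes (specializes_of_eq e) ≫ f.stalkMap (genericPoint X)).hom ∘
          (Y.presheaf.stalkSpecializes (genericPoint_specializes y)).hom := by
        funext a
        exact congr($(hcomm).hom a).symm
      rw [this]
      exact hbir.1.comp (IsFractionRing.injective (Y.presheaf.stalk y) Y.functionField)
    exact Function.Injective.of_comp h1
  exact (ConcreteCategory.isIso_iff_bijective _).mpr ⟨hinj, hsurj⟩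

end Scheme

lemma isDominant_SpecMap_of_injective {R S : CommRingCat.{u}} (φ : R ⟶ S)
    (h : Function.Injective φ.hom) : IsDominant (Spec.map φ) := by
  constructor
  have h1 : DenseRange (PrimeSpectrum.comap φ.hom) := by
    rw [PrimeSpectrum.denseRange_comap_iff_ker_le_nilRadical,
      (RingHom.injective_iff_ker_eq_bot _).mp h]
    exact bot_le
  exact h1

section Scheme2

variable {X Y : Scheme.{u}} [IsIntegral X] [IsIntegral Y] (f : X ⟶ Y)

/-- The lift `Spec 𝒪_{Y,y} ⟶ X` through a point `x` over `y`. -/
noncomputable def lift (x : X) (y : Y) (hxy : f x = y) [IsIso (stalkHom f x y hxy)] :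
    Spec (Y.presheaf.stalk y) ⟶ X :=
  Spec.map (inv (stalkHom f x y hxy)) ≫ X.fromSpecStalk x

lemma lift_closedPoint (x : X) (y : Y) (hxy : f x = y) [IsIso (stalkHom f x y hxy)] :
    lift f x y hxy (IsLocalRing.closedPoint (Y.presheaf.stalk y)) = x := by
  unfold lift
  rw [Scheme.Hom.comp_apply]
  have : IsLocalHom (inv (stalkHom f x y hxy)).hom := isLocalHom_of_isIso _
  rw [Spec_closedPoint, Scheme.fromSpecStalk_closedPoint]

lemma generic_lift (e : f (genericPoint X) = genericPoint Y) (x : X) (y : Y) (hxy : f x = y)
    [IsIso (stalkHom f x y hxy)] :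
    Spec.map (Y.presheaf.stalkSpecializes (specializes_of_eq e) ≫ f.stalkMap (genericPoint X)) ≫
      Spec.map (Y.presheaf.stalkSpecializes (genericPoint_specializes y)) ≫ lift f x y hxy =
    X.fromSpecStalk (genericPoint X) := by
  unfold lift
  rw [← Spec.map_comp_assoc, ← Spec.map_comp_assoc, stalkHom_comm f e x y hxy,
    IsIso.inv_hom_id_assoc, Scheme.SpecMap_stalkSpecializes_fromSpecStalk]

theorem injective_of_birational {S : Scheme.{u}} (s : X ⟶ S) [IsSeparated s]
    (e : f (genericPoint X) = genericPoint Y)
    (hbir : Function.Bijective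
      (Y.presheaf.stalkSpecializes (specializes_of_eq e) ≫ f.stalkMap (genericPoint X)).hom)
    (hval : ∀ y : Y, ValuationRing (Y.presheaf.stalk y)) [S.IsSeparated] :
    Function.Injective f := by
  intro x₁ x₂ h12
  have := hval (f x₂)
  have i1 := isIso_stalkHom f e hbir x₁ (f x₂) h12
  have i2 := isIso_stalkHom f e hbir x₂ (f x₂) rfl
  set φ := Y.presheaf.stalkSpecializes (specializes_of_eq e) ≫ f.stalkMap (genericPoint X)
    with hφ
  set ι := Y.presheaf.stalkSpecializes (genericPoint_specializes (f x₂)) with hι
  have hdom : IsDominant (Spec.map φ ≫ Spec.map ι) := by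
    rw [← Spec.map_comp]
    apply isDominant_SpecMap_of_injective
    rw [CommRingCat.hom_comp]
    exact hbir.1.comp (IsFractionRing.injective (Y.presheaf.stalk (f x₂)) Y.functionField)
  have hgen : (Spec.map φ ≫ Spec.map ι) ≫ lift f x₁ (f x₂) h12 =
      (Spec.map φ ≫ Spec.map ι) ≫ lift f x₂ (f x₂) rfl := by
    rw [Category.assoc, Category.assoc, generic_lift f e x₁ (f x₂) h12,
      generic_lift f e x₂ (f x₂) rfl]
  have hXsep : X.IsSeparated := by
    have : IsSeparated (s ≫ terminal.from S) := inferInstance
    have heq : s ≫ terminal.from S = terminal.from X := terminal.hom_ext _ _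
    rw [heq] at this
    exact ⟨this⟩
  have hl : lift f x₁ (f x₂) h12 = lift f x₂ (f x₂) rfl :=
    ext_of_isDominant (ι := Spec.map φ ≫ Spec.map ι) hgen
  rw [← lift_closedPoint f x₁ (f x₂) h12, hl, lift_closedPoint]

end Scheme2

/-- Local rings of a smooth scheme of dimension `≤ 1` over a field are valuation rings. -/
theorem valuationRing_stalk_of_smooth (k : Type u) [Field k] (Y : Scheme.{u}) [IsIntegral Y]
    (q : Y ⟶ Spec (CommRingCat.of k)) [Smooth q] (hdim : topologicalKrullDim Y ≤ 1) (y : Y) :
    ValuationRing (Y.presheaf.stalk y) := by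
  have : IsLocallyNoetherian Y := LocallyOfFiniteType.isLocallyNoetherian q
  have hreg := Groth.Agent.Lib.Helper6.SmRegSch.isRegularLocalRing_stalk_of_smooth_over_field k Y q y
  have hk : Ring.KrullDimLE 1 (Y.presheaf.stalk y) :=
    krullDimLE_of_coheight_le
      (Groth.Agent.Lib.Helper10.CurveFlat.coheight_le_of_topologicalKrullDim_le Y 1
        (by exact_mod_cast hdim) y)
  have hd : ringKrullDim (Y.presheaf.stalk y) ≤ 1 := by
    have := Ring.krullDimLE_iff.mp hk
    exact_mod_cast this
  obtain ⟨hdom, hic⟩ :=
    Groth.Agent.Lib.Helper28.isDomain_and_isIntegrallyClosed_of_isRegularLocalRing_of_dim_le_one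
      hreg hd
  have := hic
  exact Groth.Agent.Lib.Helper4.BirLocalIso.valuationRing_of_normal_dim_le_one _ hd

/-- A birational morphism over a field from a separated integral scheme locally of finite type to
an integral smooth scheme of dimension `≤ 1` is an open immersion. -/
theorem isOpenImmersion_of_birational (k : Type u) [Field k] {X Y : Scheme.{u}}
    [IsIntegral X] [IsIntegral Y]
    (p : X ⟶ Spec (CommRingCat.of k)) (q : Y ⟶ Spec (CommRingCat.of k))
    [IsSeparated p] [LocallyOfFiniteType p] [Smooth q] (hdim : topologicalKrullDim Y ≤ 1)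
    (f : X ⟶ Y) (hf : f ≫ q = p)
    (e : f (genericPoint X) = genericPoint Y)
    (hbir : Function.Bijective
      (Y.presheaf.stalkSpecializes (specializes_of_eq e) ≫ f.stalkMap (genericPoint X)).hom) :
    IsOpenImmersion f := by
  have hval : ∀ y : Y, ValuationRing (Y.presheaf.stalk y) :=
    valuationRing_stalk_of_smooth k Y q hdim
  have hiso : ∀ x : X, IsIso (f.stalkMap x) := by
    intro x
    have := hval (f x)
    have h := isIso_stalkHom f e hbir x (f x) rfl
    unfold stalkHom at h
    rw [TopCat.Presheaf.stalkSpecializes_refl, Category.id_comp] at h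
    exact h
  have hinj : Function.Injective f := injective_of_birational f p e hbir hval
  have : IsLocallyNoetherian Y := LocallyOfFiniteType.isLocallyNoetherian q
  have hlft : LocallyOfFiniteType f := by
    have : LocallyOfFiniteType (f ≫ q) := by rw [hf]; infer_instance
    exact locallyOfFiniteType_of_comp f q
  have hlfp : LocallyOfFinitePresentation f :=
    LocallyOfFinitePresentation.iff_locallyOfFiniteType.mpr hlft
  have hflat : Flat f := by
    rw [Flat.iff_flat_stalkMap]
    intro x
    exact RingHom.Flat.of_bijective (ConcreteCategory.bijective_of_isIso (f.stalkMap x))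
  have hopen : IsOpenMap f := f.isOpenMap
  exact IsOpenImmersion.of_isIso_stalkMap f
    (Topology.IsOpenEmbedding.of_continuous_injective_isOpenMap f.continuous hinj hopen)
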