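import Mathlib

/-!
# Birational schemes and mutually inverse dominant rational maps (seat 66)
-/

set_option autoImplicit false
universe u

namespace Groth.Agent.Lib.Seat66.Birat

open CategoryTheory AlgebraicGeometry AlgebraicGeometry.Scheme

variable {X Y Z : Scheme.{u}}

set_option backward.isDefEq.respectTransparency false in
set_option backward.defeqAttrib.useBackward true in
/-- Functor-of-points description of the composite of two partial maps on an open subset of the
domain of the composite. -/
theorem comp_hom_fac [PreirreducibleSpace X] [Nonempty Y] (f : X.PartialMap Y)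
    [IsDominant f.hom] (g : Y.PartialMap Z) (W : X.Opens) (hW : W ≤ (f.comp g).domain) :
    ∃ (hWf : W ≤ f.domain) (β : W.toScheme ⟶ g.domain.toScheme),
      X.homOfLE hWf ≫ f.hom = β ≫ g.domain.ι ∧ X.homOfLE hW ≫ (f.comp g).hom = β ≫ g.hom := by
  have hWf : W ≤ f.domain := hW.trans (f.domain.ι_image_le _)
  refine ⟨hWf, X.homOfLE hW ≫ (f.domain.ι.isoImage _).inv ≫ (f.hom ∣_ g.domain), ?_, ?_⟩
  · have h1 : X.homOfLE hW ≫ (f.domain.ι.isoImage (f.hom ⁻¹ᵁ g.domain)).inv ≫
        (f.hom ⁻¹ᵁ g.domain).ι = X.homOfLE hWf := by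
      rw [← cancel_mono f.domain.ι]
      simp
    simp only [Category.assoc, morphismRestrict_ι]
    rw [← h1]
    simp only [Category.assoc]
  · simp only [PartialMap.comp_hom, Category.assoc]

/-- A nonempty open subscheme of an irreducible scheme is dense. -/
theorem isDominant_of_isOpenImmersion {T : Scheme.{u}} [PreirreducibleSpace X] (f : T ⟶ X)
    [IsOpenImmersion f] [Nonempty T] : IsDominant f :=
  ⟨f.isOpenEmbedding.isOpen_range.dense (Set.range_nonempty _)⟩

set_option backward.isDefEq.respectTransparency false in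
set_option backward.defeqAttrib.useBackward true in
/-- Mutually inverse dominant rational maps between integral schemes induce an isomorphism of
dense open subschemes. -/
theorem birational_of_inverse [IsIntegral X] [IsIntegral Y] (f : X ⤏ Y) (g : Y ⤏ X)
    [f.IsDominant] [g.IsDominant] (hfg : f.comp g = RationalMap.id X)
    (hgf : g.comp f = RationalMap.id Y) : Scheme.Birational X Y := by
  have e1 : (f.representative.comp g.representative).equiv (PartialMap.id X) := by
    rw [← PartialMap.toRationalMap_eq_iff, ← RationalMap.comp_def, g.toRationalMap_representative]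
    exact hfg
  have e2 : (g.representative.comp f.representative).equiv (PartialMap.id Y) := by
    rw [← PartialMap.toRationalMap_eq_iff, ← RationalMap.comp_def, f.toRationalMap_representative]
    exact hgf
  obtain ⟨W, hWd, hWl, hWr, hWe⟩ := e1
  obtain ⟨W', hWd', hWl', hWr', hWe'⟩ := e2
  obtain ⟨hWf, β, hβ1, hβ2⟩ := comp_hom_fac f.representative g.representative W hWl
  obtain ⟨hWg', β', hβ1', hβ2'⟩ := comp_hom_fac g.representative f.representative W' hWl'
  have hβ3 : β ≫ g.representative.hom = W.ι := by
    rw [← hβ2]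
    simpa using hWe
  have hβ3' : β' ≫ f.representative.hom = W'.ι := by
    rw [← hβ2']
    simpa using hWe'
  -- the two open subschemes
  let T : W.toScheme.Opens := (β ≫ g.representative.domain.ι) ⁻¹ᵁ W'
  let T' : W'.toScheme.Opens := (β' ≫ f.representative.domain.ι) ⁻¹ᵁ W
  let j' : T.toScheme ⟶ W'.toScheme := (β ≫ g.representative.domain.ι) ∣_ W'
  let k' : T'.toScheme ⟶ W.toScheme := (β' ≫ f.representative.domain.ι) ∣_ W
  have hj' : j' ≫ W'.ι = T.ι ≫ β ≫ g.representative.domain.ι := morphismRestrict_ι _ _
  have hk' : k' ≫ W.ι = T'.ι ≫ β' ≫ f.representative.domain.ι := morphismRestrict_ι _ _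
  have h1 : j' ≫ Y.homOfLE hWg' = T.ι ≫ β := by
    rw [← cancel_mono g.representative.domain.ι, Category.assoc, Scheme.homOfLE_ι, hj',
      Category.assoc]
  have h1' : k' ≫ X.homOfLE hWf = T'.ι ≫ β' := by
    rw [← cancel_mono f.representative.domain.ι, Category.assoc, Scheme.homOfLE_ι, hk',
      Category.assoc]
  have h2 : T.ι ≫ W.ι = j' ≫ β' ≫ f.representative.domain.ι := by
    rw [← hβ1', ← Category.assoc, h1, Category.assoc, hβ3]
  have h2' : T'.ι ≫ W'.ι = k' ≫ β ≫ g.representative.domain.ι := by
    rw [← hβ1, ← Category.assoc, h1', Category.assoc, hβ3']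
  let φ : T.toScheme ⟶ T'.toScheme :=
    (isPullback_morphismRestrict (β' ≫ f.representative.domain.ι) W).lift T.ι j' h2
  let ψ : T'.toScheme ⟶ T.toScheme :=
    (isPullback_morphismRestrict (β ≫ g.representative.domain.ι) W').lift T'.ι k' h2'
  have hφ1 : φ ≫ k' = T.ι := IsPullback.lift_fst _ _ _ _
  have hφ2 : φ ≫ T'.ι = j' := IsPullback.lift_snd _ _ _ _
  have hψ1 : ψ ≫ j' = T'.ι := IsPullback.lift_fst _ _ _ _
  have hψ2 : ψ ≫ T.ι = k' := IsPullback.lift_snd _ _ _ _
  let e : T.toScheme ≅ T'.toScheme :=
    { hom := φ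
      inv := ψ
      hom_inv_id := by rw [← cancel_mono T.ι, Category.assoc, hψ2, hφ1, Category.id_comp]
      inv_hom_id := by rw [← cancel_mono T'.ι, Category.assoc, hφ2, hψ1, Category.id_comp] }
  -- nonemptiness
  have hdomβ : IsDominant (β ≫ g.representative.domain.ι) := by
    rw [← hβ1]
    have := Opens.isDominant_homOfLE hWd hWf
    infer_instance
  have hdomβ' : IsDominant (β' ≫ f.representative.domain.ι) := by
    rw [← hβ1']
    have := Opens.isDominant_homOfLE hWd' hWg'
    infer_instance
  have hT : Nonempty T.toScheme := by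
    obtain ⟨t, ht⟩ := hdomβ.denseRange.exists_mem_open W'.2 hWd'.nonempty
    exact ⟨⟨t, ht⟩⟩
  have hT' : Nonempty T'.toScheme := by
    obtain ⟨t, ht⟩ := hdomβ'.denseRange.exists_mem_open W.2 hWd.nonempty
    exact ⟨⟨t, ht⟩⟩
  have := isDominant_of_isOpenImmersion (T.ι ≫ W.ι)
  have := isDominant_of_isOpenImmersion (T'.ι ≫ W'.ι)
  have hTX : Scheme.Birational T.toScheme X := (T.ι ≫ W.ι).birational
  have hTY : Scheme.Birational T'.toScheme Y := (T'.ι ≫ W'.ι).birational
  have hTT' : Scheme.Birational T.toScheme T'.toScheme := ⟨PartialIso.ofIso e⟩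
  exact hTX.symm.trans (hTT'.trans hTY)

set_option backward.isDefEq.respectTransparency false in
set_option backward.defeqAttrib.useBackward true in
instance isDominant_toPartialMap_hom (φ : X.PartialIso Y) : IsDominant φ.toPartialMap.hom := by
  dsimp only [PartialIso.toPartialMap_hom]
  have := Opens.isDominant_ι φ.dense_target
  infer_instance

set_option backward.isDefEq.respectTransparency false in
set_option backward.defeqAttrib.useBackward true in
/-- A partial isomorphism followed by its inverse is the identity rational map. -/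
theorem comp_symm_equiv [PreirreducibleSpace X] [Nonempty Y] (φ : X.PartialIso Y) :
    (φ.toPartialMap.comp φ.symm.toPartialMap).equiv (PartialMap.id X) := by
  refine ⟨(φ.toPartialMap.comp φ.symm.toPartialMap).domain,
    (φ.toPartialMap.comp φ.symm.toPartialMap).dense_domain, le_rfl, le_top, ?_⟩
  have h1 : φ.toPartialMap.hom ∣_ φ.target =
      (φ.toPartialMap.hom ⁻¹ᵁ φ.target).ι ≫ φ.iso.hom := by
    rw [← cancel_mono φ.target.ι, morphismRestrict_ι, Category.assoc]
    rfl
  simp only [PartialMap.restrict_hom, PartialMap.comp_hom, PartialIso.toPartialMap_domain,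
    PartialIso.symm_source, PartialIso.toPartialMap_hom, PartialIso.symm_target,
    PartialIso.symm_iso, Iso.symm_hom, Hom.toPartialMap_hom, Hom.toPartialMap_domain]
  simp only [PartialIso.toPartialMap_hom] at h1
  rw [h1]
  simp

theorem exists_inverse_of_birational [IsIntegral X] [IsIntegral Y] (h : Scheme.Birational X Y) :
    ∃ (f : X ⤏ Y) (g : Y ⤏ X) (_ : f.IsDominant) (_ : g.IsDominant),
      f.comp g = Scheme.RationalMap.id X ∧ g.comp f = Scheme.RationalMap.id Y := by
  obtain ⟨φ⟩ := h
  refine ⟨φ.toRationalMap, φ.symm.toRationalMap, inferInstance, inferInstance, ?_, ?_⟩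
  · rw [RationalMap.toRationalMap_comp, PartialMap.toRationalMap_eq_iff]
    exact comp_symm_equiv φ
  · rw [RationalMap.toRationalMap_comp, PartialMap.toRationalMap_eq_iff]
    exact comp_symm_equiv φ.symm

end Groth.Agent.Lib.Seat66.Birat
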