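import Mathlib

/-!
# Chain rule for `MvPolynomial.pderiv` along `bind₁` (seat 66)
-/

set_option autoImplicit false
universe u

namespace Groth.Agent.Lib.Seat66.ChainRule

open MvPolynomial

variable {R : Type u} [CommRing R] {σ τ : Type*} [Fintype σ]

/-- Chain rule: the partial derivative of a substituted polynomial. -/
theorem pderiv_bind₁ (L : σ → MvPolynomial τ R) (j : τ) (p : MvPolynomial σ R) :
    pderiv j (bind₁ L p) = ∑ i, bind₁ L (pderiv i p) * pderiv j (L i) := by
  classical
  induction p using MvPolynomial.induction_on with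
  | C a => simp
  | add p q hp hq =>
    simp only [map_add, hp, hq, add_mul, Finset.sum_add_distrib]
  | mul_X p i0 hp =>
    have h1 : ∀ i, bind₁ L (pderiv i (p * X i0)) * pderiv j (L i) =
        L i0 * (bind₁ L (pderiv i p) * pderiv j (L i)) +
          bind₁ L p * (bind₁ L (pderiv i (X i0 : MvPolynomial σ R)) * pderiv j (L i)) := by
      intro i
      rw [pderiv_mul, map_add, map_mul, map_mul, bind₁_X_right]
      ring
    have h2 : ∑ i, bind₁ L (pderiv i (X i0 : MvPolynomial σ R)) * pderiv j (L i) =
        pderiv j (L i0) := by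
      rw [Finset.sum_eq_single i0]
      · rw [pderiv_X_self, map_one, one_mul]
      · intro b _ hb
        rw [pderiv_X_of_ne (Ne.symm hb), map_zero, zero_mul]
      · intro h; exact absurd (Finset.mem_univ _) h
    have key : ∑ i, bind₁ L (pderiv i (p * X i0)) * pderiv j (L i) =
        ∑ i, (L i0 * (bind₁ L (pderiv i p) * pderiv j (L i)) +
          bind₁ L p * (bind₁ L (pderiv i (X i0 : MvPolynomial σ R)) * pderiv j (L i))) :=
      Finset.sum_congr rfl (fun i _ => h1 i)
    rw [key, Finset.sum_add_distrib, ← Finset.mul_sum, ← Finset.mul_sum, h2, ← hp,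
      map_mul, bind₁_X_right, pderiv_mul]
    ring

end Groth.Agent.Lib.Seat66.ChainRule
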