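import Mathlib.AlgebraicGeometry.Morphisms.Separated
import Mathlib.AlgebraicGeometry.Morphisms.ClosedImmersion
import Mathlib.AlgebraicGeometry.PullbackCarrier
import Mathlib.AlgebraicGeometry.ResidueField

/-!
# The diagonal under base change, pointwise (helper66)

* `mem_range_diagonal_iff`: for `f` separated and `φ : Spec K ⟶ X ×_S X` with `K` a field, the
  image point of `φ` lies on the diagonal iff `φ ≫ fst = φ ≫ snd`.
* `bcMap f g : X' ×_{S'} X' ⟶ X ×_S X` for the base change `f' : X' = X ×_S S' ⟶ S'` of `f`.
* `mem_range_diagonal_bcMap_iff`: a point lies on the diagonal of `f'` iff its image lies on the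
  diagonal of `f`.
* `isPullback_bcMap`: `X' ×_{S'} X'` is the base change of `X ×_S X` along `g`.
-/

set_option autoImplicit false
set_option linter.style.haveILetI false
universe u

open AlgebraicGeometry CategoryTheory Limits

namespace Groth.Agent.Lib.Seat66.CharCycDiag

variable {X S : Scheme.{u}} (f : X ⟶ S)

theorem mem_range_diagonal_of_comp_eq {T : Scheme.{u}} (φ : T ⟶ pullback f f)
    (h : φ ≫ pullback.fst f f = φ ≫ pullback.snd f f) (t : T) :
    φ t ∈ Set.range (pullback.diagonal f) := by
  have h1 : φ = (φ ≫ pullback.fst f f) ≫ pullback.diagonal f := by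
    apply pullback.hom_ext
    · simp
    · simp [h]
  refine ⟨(φ ≫ pullback.fst f f) t, ?_⟩
  conv_rhs => rw [h1]
  rfl

theorem comp_eq_of_mem_range_diagonal [IsSeparated f] (K : Type u) [Field K]
    (φ : Spec (CommRingCat.of K) ⟶ pullback f f)
    (h : ∃ t, φ t ∈ Set.range (pullback.diagonal f)) :
    φ ≫ pullback.fst f f = φ ≫ pullback.snd f f := by
  obtain ⟨t, x, hx⟩ := h
  let a := pullback.fst φ (pullback.diagonal f)
  let b := pullback.snd φ (pullback.diagonal f)
  haveI : IsClosedImmersion a := inferInstanceAs (IsClosedImmersion (pullback.fst φ _))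
  haveI : Surjective a := by
    refine ⟨fun y => ?_⟩
    obtain ⟨z, hz, -⟩ := Scheme.Pullback.exists_preimage_pullback (f := φ)
      (g := pullback.diagonal f) t x hx.symm
    refine ⟨z, ?_⟩
    rw [hz]
    exact Subsingleton.elim (α := PrimeSpectrum K) _ _
  haveI : IsIso a := isIso_of_isClosedImmersion_of_surjective a
  have hc : a ≫ φ = b ≫ pullback.diagonal f := pullback.condition
  have h1 : φ = inv a ≫ b ≫ pullback.diagonal f := by
    rw [← hc, IsIso.inv_hom_id_assoc]
  rw [h1]
  simp

theorem mem_range_diagonal_iff [IsSeparated f] (K : Type u) [Field K]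
    (φ : Spec (CommRingCat.of K) ⟶ pullback f f) (t : Spec (CommRingCat.of K)) :
    φ t ∈ Set.range (pullback.diagonal f) ↔
      φ ≫ pullback.fst f f = φ ≫ pullback.snd f f :=
  ⟨fun h => comp_eq_of_mem_range_diagonal f K φ ⟨t, h⟩,
    fun h => mem_range_diagonal_of_comp_eq f φ h t⟩

variable {S' : Scheme.{u}} (g : S' ⟶ S)

/-- The canonical map `X' ×_{S'} X' ⟶ X ×_S X` where `X' = X ×_S S'`. -/
noncomputable def bcMap :
    pullback (pullback.snd f g) (pullback.snd f g) ⟶ pullback f f :=
  pullback.map (pullback.snd f g) (pullback.snd f g) f f (pullback.fst f g) (pullback.fst f g) g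
    pullback.condition.symm pullback.condition.symm

@[reassoc (attr := simp)]
theorem bcMap_fst : bcMap f g ≫ pullback.fst f f =
    pullback.fst (pullback.snd f g) (pullback.snd f g) ≫ pullback.fst f g :=
  pullback.lift_fst _ _ _

@[reassoc (attr := simp)]
theorem bcMap_snd : bcMap f g ≫ pullback.snd f f =
    pullback.snd (pullback.snd f g) (pullback.snd f g) ≫ pullback.fst f g :=
  pullback.lift_snd _ _ _

theorem bcMap_fst_apply (p : ↥(pullback (pullback.snd f g) (pullback.snd f g))) :
    pullback.fst f f (bcMap f g p) =
      pullback.fst f g (pullback.fst (pullback.snd f g) (pullback.snd f g) p) := by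
  rw [← Scheme.Hom.comp_apply, bcMap_fst]
  rfl

theorem bcMap_snd_apply (p : ↥(pullback (pullback.snd f g) (pullback.snd f g))) :
    pullback.snd f f (bcMap f g p) =
      pullback.fst f g (pullback.snd (pullback.snd f g) (pullback.snd f g) p) := by
  rw [← Scheme.Hom.comp_apply, bcMap_snd]
  rfl

theorem mem_range_diagonal_bcMap_iff [IsSeparated f]
    (p : ↥(pullback (pullback.snd f g) (pullback.snd f g))) :
    bcMap f g p ∈ Set.range (pullback.diagonal f) ↔
      p ∈ Set.range (pullback.diagonal (pullback.snd f g)) := by
  constructor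
  · intro h
    let φ : Spec ((pullback (pullback.snd f g) (pullback.snd f g)).residueField p) ⟶
        pullback (pullback.snd f g) (pullback.snd f g) :=
      (pullback (pullback.snd f g) (pullback.snd f g)).fromSpecResidueField p
    have hφ : φ (IsLocalRing.closedPoint _) = p := Scheme.fromSpecResidueField_apply _ _
    have h1 : (φ ≫ bcMap f g) (IsLocalRing.closedPoint _) ∈ Set.range (pullback.diagonal f) := by
      rw [Scheme.Hom.comp_apply, hφ]
      exact h
    have h2 := comp_eq_of_mem_range_diagonal f _ (φ ≫ bcMap f g) ⟨_, h1⟩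
    simp only [Category.assoc, bcMap_fst, bcMap_snd] at h2
    have h3 : φ ≫ pullback.fst (pullback.snd f g) (pullback.snd f g) =
        φ ≫ pullback.snd (pullback.snd f g) (pullback.snd f g) := by
      apply pullback.hom_ext
      · simp only [Category.assoc]
        exact h2
      · simp only [Category.assoc]
        rw [pullback.condition]
    have h4 := mem_range_diagonal_of_comp_eq (pullback.snd f g) φ h3 (IsLocalRing.closedPoint _)
    rwa [hφ] at h4
  · rintro ⟨x', rfl⟩
    refine ⟨pullback.fst f g x', ?_⟩
    have : pullback.diagonal (pullback.snd f g) ≫ bcMap f g =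
        pullback.fst f g ≫ pullback.diagonal f := by
      apply pullback.hom_ext <;> simp
    rw [← Scheme.Hom.comp_apply, ← Scheme.Hom.comp_apply, this]

/-- `X' ×_{S'} X'` is the base change of `X ×_S X` along `g`. -/
theorem isPullback_bcMap :
    IsPullback (bcMap f g)
      (pullback.fst (pullback.snd f g) (pullback.snd f g) ≫ pullback.snd f g)
      (pullback.fst f f ≫ f) g := by
  -- left square `P' → P` over `X' → X`
  have hX' : IsPullback (pullback.fst f g) (pullback.snd f g) f g := IsPullback.of_hasPullback f g
  have hP : IsPullback (pullback.snd f f) (pullback.fst f f) f f :=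
    (IsPullback.of_hasPullback f f).flip
  have hP' : IsPullback (pullback.snd (pullback.snd f g) (pullback.snd f g))
      (pullback.fst (pullback.snd f g) (pullback.snd f g)) (pullback.snd f g) (pullback.snd f g) :=
    (IsPullback.of_hasPullback _ _).flip
  -- outer rectangle
  have hout : IsPullback
      (pullback.snd (pullback.snd f g) (pullback.snd f g) ≫ pullback.fst f g)
      (pullback.fst (pullback.snd f g) (pullback.snd f g)) f (pullback.snd f g ≫ g) :=
    hP'.paste_horiz hX'
  have hout' : IsPullback (bcMap f g ≫ pullback.snd f f)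
      (pullback.fst (pullback.snd f g) (pullback.snd f g)) f (pullback.fst f g ≫ f) := by
    rw [bcMap_snd, pullback.condition]
    exact hout
  have hleft : IsPullback (bcMap f g) (pullback.fst (pullback.snd f g) (pullback.snd f g))
      (pullback.fst f f) (pullback.fst f g) :=
    IsPullback.of_right hout' (bcMap_fst f g) hP
  exact hleft.paste_vert hX'

end Groth.Agent.Lib.Seat66.CharCycDiag
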