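import Groth.Agent.Lib.Seat66CharCycFib
import Groth.Agent.Lib.Seat66CharCycDiag
import Groth.Agent.Lib.Helper3DimCons

/-!
# Dimensions of preimages under morphisms with fibres of constant dimension (helper66)

* `dim_fiber_eq_of_isPullback`: fibres of a base change have the dimension of the fibres of the
  original morphism.
* `exists_max_trdegNat`: on a quasi-compact scheme locally of finite type over a field the dimension
  of a nonempty locally closed subset is attained.
* `dim_preimage_eq_add`: if all fibres of `h : T' ⟶ T` have dimension `d`, then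
  `dim h⁻¹(L) = dim L + d` for `L` locally closed.
-/

set_option autoImplicit false
set_option linter.style.haveILetI false
universe u

open AlgebraicGeometry CategoryTheory Limits TopologicalSpace Topology

namespace Groth.Agent.Lib.Seat66.CharCycBC

open Groth.Agent.Lib.Helper4.VarDim Groth.Agent.Lib.Seat66.CharCycTop
  Groth.Agent.Lib.Seat66.CharCycBase Groth.Agent.Lib.Seat66.CharCycFib

theorem dim_fiber_eq_of_isPullback {P X Y Z : Scheme.{u}} {fst : P ⟶ X} {snd : P ⟶ Y}
    {f : X ⟶ Z} {g : Y ⟶ Z} [LocallyOfFiniteType f] (h : IsPullback fst snd f g) (y : Y) :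
    topologicalKrullDim (snd.fiber y) = topologicalKrullDim (f.fiber (g y)) := by
  have key := isPullback_fiberToSpecResidueField_of_isPullback h y
  haveI : LocallyOfFiniteType (f.fiberToSpecResidueField (g y)) :=
    MorphismProperty.pullback_snd _ _ inferInstance
  exact Groth.Agent.Lib.Helper3.DimCons.dim_eq_of_isPullback_onePoint
    (f.fiberToSpecResidueField (g y)) (snd.fiberToSpecResidueField y) _ _ key

variable (k : Type u) [Field k]

section One

variable {X : Scheme.{u}} [X.Over (Spec (CommRingCat.of k))]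
  [LocallyOfFiniteType (X ↘ Spec (CommRingCat.of k))]

omit [LocallyOfFiniteType (X ↘ Spec (CommRingCat.of k))] in
theorem dim_eq_bot_of_eq_empty (T : Set X) (hT : T = ∅) : topologicalKrullDim T = ⊥ := by
  subst hT
  haveI : IsEmpty ((∅ : Set X) : Type u) := Set.isEmpty_coe_sort.mpr rfl
  exact topologicalKrullDim_eq_bot_of_isEmpty

theorem exists_max_trdegNat [CompactSpace X] (T : Set X) (hT : IsLocallyClosed T)
    (hne : T.Nonempty) :
    ∃ t₀ ∈ T, topologicalKrullDim T = ((trdegNat k X t₀ : ℕ) : WithBot ℕ∞) ∧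
      ∀ t ∈ T, trdegNat k X t ≤ trdegNat k X t₀ := by
  obtain ⟨N, hN⟩ := exists_trdegNat_le k X
  have hbdd : BddAbove (trdegNat k X '' T) := ⟨N, by rintro _ ⟨x, -, rfl⟩; exact hN x⟩
  have hne' : (trdegNat k X '' T).Nonempty := hne.image _
  obtain ⟨t₀, ht₀, hy⟩ := Nat.sSup_mem hne' hbdd
  have hmax : ∀ t ∈ T, trdegNat k X t ≤ trdegNat k X t₀ := fun t ht => by
    rw [hy]
    exact le_csSup hbdd ⟨t, ht, rfl⟩
  refine ⟨t₀, ht₀, le_antisymm ?_ ?_, hmax⟩
  · refine topologicalKrullDim_le_of_isLocallyClosed k T hT _ fun t ht => ?_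
    exact_mod_cast hmax t ht
  · exact trdegNat_le_topologicalKrullDim_of_isLocallyClosed k X T hT t₀ ht₀

end One

section Two

variable {T' T : Scheme.{u}} [T'.Over (Spec (CommRingCat.of k))] [T.Over (Spec (CommRingCat.of k))]
  [LocallyOfFiniteType (T' ↘ Spec (CommRingCat.of k))]
  [LocallyOfFiniteType (T ↘ Spec (CommRingCat.of k))]
  (h : T' ⟶ T) [LocallyOfFiniteType h]
  (hk : h ≫ (T ↘ Spec (CommRingCat.of k)) = (T' ↘ Spec (CommRingCat.of k)))

include hk

/-- If all fibres of `h` have dimension `d`, preimages of locally closed sets gain `d` in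
dimension. -/
theorem dim_preimage_eq_add [CompactSpace T] (d : ℕ)
    (hd : ∀ t : T, topologicalKrullDim (h.fiber t) = d) (L : Set T) (hL : IsLocallyClosed L) :
    topologicalKrullDim (h ⁻¹' L : Set T') = topologicalKrullDim L + (d : WithBot ℕ∞) := by
  have hL' : IsLocallyClosed (h ⁻¹' L : Set T') := hL.preimage h.continuous
  by_cases hne : L.Nonempty
  · obtain ⟨t₀, ht₀, hdim, hmax⟩ := exists_max_trdegNat k L hL hne
    obtain ⟨p, hp1, hp2⟩ := exists_point_of_le_fiber_dim k h hk t₀ d (hd t₀).ge
    rw [hdim]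
    apply le_antisymm
    · have : ((trdegNat k T t₀ : ℕ) : WithBot ℕ∞) + (d : WithBot ℕ∞) =
          ((trdegNat k T t₀ + d : ℕ) : WithBot ℕ∞) := by push_cast; rfl
      rw [this]
      refine topologicalKrullDim_le_of_isLocallyClosed k _ hL' _ fun t' ht' => ?_
      obtain ⟨j, hj1, hj2⟩ := exists_le_fiber_dim k h hk t'
      rw [hd] at hj1
      have hj : j ≤ d := by exact_mod_cast hj1
      have := hmax (h t') ht'
      have h3 : trdegNat k T' t' ≤ trdegNat k T t₀ + d := by omega
      exact_mod_cast h3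
    · have hpL : p ∈ (h ⁻¹' L : Set T') := by
        change h p ∈ L
        rw [hp1]
        exact ht₀
      refine le_trans ?_ (trdegNat_le_topologicalKrullDim_of_isLocallyClosed k T' _ hL' p hpL)
      exact_mod_cast hp2
  · have hL0 : L = ∅ := Set.not_nonempty_iff_eq_empty.mp hne
    rw [dim_eq_bot_of_eq_empty L hL0, WithBot.bot_add]
    apply dim_eq_bot_of_eq_empty
    rw [hL0]
    rfl

theorem dim_eq_add [CompactSpace T] (d : ℕ)
    (hd : ∀ t : T, topologicalKrullDim (h.fiber t) = d) :
    topologicalKrullDim T' = topologicalKrullDim T + (d : WithBot ℕ∞) := by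
  have := dim_preimage_eq_add k h hk d hd Set.univ isClosed_univ.isLocallyClosed
  rwa [Set.preimage_univ, topologicalKrullDim_univ_eq, topologicalKrullDim_univ_eq] at this

end Two

section Arith

theorem add_add_le_iff (a b y z : WithBot ℕ∞) (d : ℕ) :
    (a + (d : WithBot ℕ∞)) + (b + (d : WithBot ℕ∞)) ≤
        (y + (d : WithBot ℕ∞)) + (z + (d : WithBot ℕ∞)) ↔ a + b ≤ y + z := by
  have e1 : (a + (d : WithBot ℕ∞)) + (b + (d : WithBot ℕ∞)) =
      ((d + d : ℕ) : WithBot ℕ∞) + (a + b) := by
    push_cast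
    abel
  have e2 : (y + (d : WithBot ℕ∞)) + (z + (d : WithBot ℕ∞)) =
      ((d + d : ℕ) : WithBot ℕ∞) + (y + z) := by
    push_cast
    abel
  rw [e1, e2]
  exact ⟨add_nat_le_cancel _, fun hh => add_le_add le_rfl hh⟩

end Arith

end Groth.Agent.Lib.Seat66.CharCycBC
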