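import Mathlib.Topology.Constructible
import Mathlib.Topology.NoetherianSpace
import Mathlib.Topology.Sober

/-!
# Constructible sets and generic points (helper66)

* `exists_open_dichotomy`: a constructible set either contains or misses a neighbourhood of `s`
  inside `closure {s}`.
* `mem_of_isConstructible_of_mem_closure`: a constructible set whose trace on `closure {s}` has `s`
  in its closure contains `s`.
* `isConstructible_of_isOpen`, `isConstructible_of_isClosed`, `isConstructible_of_isLocallyClosed`
  in Noetherian spaces.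
-/

set_option autoImplicit false

namespace Groth.Agent.Lib.Seat66.CharCycTop

open Topology TopologicalSpace

variable {α : Type*} [TopologicalSpace α]

theorem exists_open_dichotomy {C : Set α} (hC : IsConstructible C) (s : α) :
    ∃ U : Set α, IsOpen U ∧ s ∈ U ∧ (closure {s} ∩ U ⊆ C ∨ closure {s} ∩ U ⊆ Cᶜ) := by
  induction hC using IsConstructible.empty_union_induction with
  | open_retrocompact U hUo hUc =>
    by_cases hs : s ∈ U
    · exact ⟨U, hUo, hs, Or.inl Set.inter_subset_right⟩
    · refine ⟨Set.univ, isOpen_univ, trivial, Or.inr ?_⟩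
      rintro y ⟨hy, -⟩ hyU
      exact hs ((specializes_iff_mem_closure.mpr hy).mem_open hUo hyU)
  | union s₁ hs₁ s₂ hs₂ ih₁ ih₂ =>
    obtain ⟨U₁, hU₁, hsU₁, h₁⟩ := ih₁
    obtain ⟨U₂, hU₂, hsU₂, h₂⟩ := ih₂
    refine ⟨U₁ ∩ U₂, hU₁.inter hU₂, ⟨hsU₁, hsU₂⟩, ?_⟩
    rcases h₁ with h₁ | h₁
    · left
      intro y hy
      exact Or.inl (h₁ ⟨hy.1, hy.2.1⟩)
    · rcases h₂ with h₂ | h₂
      · left
        intro y hy
        exact Or.inr (h₂ ⟨hy.1, hy.2.2⟩)
      · right
        intro y hy hyc
        rcases hyc with h | h
        · exact h₁ ⟨hy.1, hy.2.1⟩ h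
        · exact h₂ ⟨hy.1, hy.2.2⟩ h
  | compl s₁ hs₁ ih =>
    obtain ⟨U, hU, hsU, h⟩ := ih
    refine ⟨U, hU, hsU, ?_⟩
    rcases h with h | h
    · right
      rwa [compl_compl]
    · left
      exact h

/-- A constructible set whose trace on `closure {s}` has `s` in its closure contains `s`. -/
theorem mem_of_isConstructible_of_mem_closure {C : Set α} (hC : IsConstructible C) (s : α)
    (h : s ∈ closure (C ∩ closure {s})) : s ∈ C := by
  obtain ⟨U, hU, hsU, h1 | h1⟩ := exists_open_dichotomy hC s
  · exact h1 ⟨subset_closure rfl, hsU⟩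
  · exfalso
    obtain ⟨y, hyU, hyC, hys⟩ := mem_closure_iff.mp h U hU hsU
    exact h1 ⟨hys, hyU⟩ hyC

/-- A constructible set which is dense in an irreducible closed set contains its generic point. -/
theorem mem_of_isConstructible_of_isGenericPoint {C T : Set α} (hC : IsConstructible C) (s : α)
    (hs : IsGenericPoint s T) (hd : T ⊆ closure (C ∩ T)) : s ∈ C := by
  refine mem_of_isConstructible_of_mem_closure hC s ?_
  rw [hs.def]
  exact hd hs.mem

variable [NoetherianSpace α]

theorem isConstructible_of_isOpen {U : Set α} (hU : IsOpen U) : IsConstructible U :=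
  IsRetrocompact.isConstructible hU fun _ _ _ => TopologicalSpace.NoetherianSpace.isCompact _

theorem isConstructible_of_isClosed {Z : Set α} (hZ : IsClosed Z) : IsConstructible Z := by
  rw [← isConstructible_compl]
  exact isConstructible_of_isOpen hZ.isOpen_compl

theorem isConstructible_of_isLocallyClosed {T : Set α} (hT : IsLocallyClosed T) :
    IsConstructible T := by
  obtain ⟨U, Z, hU, hZ, rfl⟩ := hT
  exact (isConstructible_of_isOpen hU).inter (isConstructible_of_isClosed hZ)

end Groth.Agent.Lib.Seat66.CharCycTop
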