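import Groth.Agent.Lib.Helper4VarDim13
import Groth.Agent.Lib.Seat66CharCycTop
import Mathlib.AlgebraicGeometry.Morphisms.FinitePresentation
import Mathlib.AlgebraicGeometry.Noetherian
import Mathlib.AlgebraicGeometry.PullbackCarrier
import Mathlib.AlgebraicGeometry.Morphisms.Separated

/-!
# Dimension bookkeeping for schemes of finite type over a field (helper66)

Glue between the `trdegNat` dimension theory of `Helper4VarDim*` and statements phrased with
`topologicalKrullDim` of subsets of fibre products.
-/

set_option autoImplicit false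
set_option linter.style.haveILetI false
universe u

open AlgebraicGeometry CategoryTheory Limits TopologicalSpace Topology

namespace Groth.Agent.Lib.Seat66.CharCycBase

open Groth.Agent.Lib.Helper4.VarDim Groth.Agent.Lib.Seat66.CharCycTop

section Arith

theorem add_nat_le_cancel {a b : WithBot ℕ∞} (n : ℕ)
    (h : (n : WithBot ℕ∞) + a ≤ (n : WithBot ℕ∞) + b) : a ≤ b := by
  induction a with
  | bot => exact bot_le
  | coe a =>
    induction b with
    | bot =>
      exfalso
      rw [WithBot.add_bot] at h
      have : (((n : ℕ∞) + a : ℕ∞) : WithBot ℕ∞) ≤ ⊥ := by exact_mod_cast h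
      exact WithBot.coe_ne_bot (le_bot_iff.mp this)
    | coe b =>
      have h' : (n : ℕ∞) + a ≤ (n : ℕ∞) + b := by exact_mod_cast h
      have h'' : a ≤ b := by
        rw [add_comm (n : ℕ∞) a, add_comm (n : ℕ∞) b] at h'
        exact (ENat.add_le_add_iff_right (ENat.natCast_ne_top n)).mp h'
      exact_mod_cast h''

end Arith

section Sch

variable (k : Type u) [Field k]

theorem isNoetherian_of_lft {X : Scheme.{u}} (q : X ⟶ Spec (CommRingCat.of k))
    [LocallyOfFiniteType q] [CompactSpace X] : IsNoetherian X := by
  haveI : IsLocallyNoetherian X := LocallyOfFiniteType.isLocallyNoetherian q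
  exact ⟨⟩

/-- A point of the fibre product with distinct projections is not on the diagonal. -/
theorem notMem_range_diagonal {X S : Scheme.{u}} (f : X ⟶ S) (p : ↥(pullback f f))
    (h : pullback.fst f f p ≠ pullback.snd f f p) : p ∉ Set.range (pullback.diagonal f) := by
  rintro ⟨x, rfl⟩
  apply h
  have h1 : pullback.fst f f (pullback.diagonal f x) = x := by
    rw [← Scheme.Hom.comp_apply, pullback.diagonal_fst]
    rfl
  have h2 : pullback.snd f f (pullback.diagonal f x) = x := by
    rw [← Scheme.Hom.comp_apply, pullback.diagonal_snd]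
    rfl
  rw [h1, h2]

/-- The "off-diagonal part of `Y ×_S Z`" is locally closed when `f` is separated. -/
theorem isLocallyClosed_offDiag {X S : Scheme.{u}} (f : X ⟶ S) [IsSeparated f] (Y Z : Set X)
    (hY : IsClosed Y) (hZ : IsClosed Z) :
    IsLocallyClosed {p : ↥(pullback f f) | pullback.fst f f p ∈ Y ∧ pullback.snd f f p ∈ Z ∧
      p ∉ Set.range (pullback.diagonal f)} := by
  have h1 : IsClosed ((pullback.fst f f) ⁻¹' Y) := hY.preimage (pullback.fst f f).continuous
  have h2 : IsClosed ((pullback.snd f f) ⁻¹' Z) := hZ.preimage (pullback.snd f f).continuous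
  have h3 : IsClosed (Set.range (pullback.diagonal f)) :=
    (pullback.diagonal f).isClosedEmbedding.isClosed_range
  have : {p : ↥(pullback f f) | pullback.fst f f p ∈ Y ∧ pullback.snd f f p ∈ Z ∧
      p ∉ Set.range (pullback.diagonal f)} =
      ((pullback.fst f f) ⁻¹' Y ∩ (pullback.snd f f) ⁻¹' Z) ∩
        (Set.range (pullback.diagonal f))ᶜ := by
    ext p
    simp only [Set.mem_ofPred_eq, Set.mem_inter_iff, Set.mem_preimage, Set.mem_compl_iff, and_assoc]
  rw [this]
  exact (h1.inter h2).isLocallyClosed.inter h3.isOpen_compl.isLocallyClosed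

variable {X : Scheme.{u}} [X.Over (Spec (CommRingCat.of k))]
  [LocallyOfFiniteType (X ↘ Spec (CommRingCat.of k))]

/-- The dimension of an irreducible closed subset is the transcendence degree of the residue field
at its generic point. -/
theorem topologicalKrullDim_eq_trdegNat_of_isGenericPoint (Y : Set X) (η : X)
    (hη : IsGenericPoint η Y) :
    topologicalKrullDim Y = ((trdegNat k X η : ℕ) : WithBot ℕ∞) := by
  rw [← hη.def]
  exact topologicalKrullDim_closure_singleton k X η

/-- Upper bound for the dimension of a locally closed subset by a bound on the `trdegNat`. -/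
theorem topologicalKrullDim_le_of_isLocallyClosed (T : Set X) (hT : IsLocallyClosed T)
    (d : WithBot ℕ∞) (hd : ∀ t ∈ T, ((trdegNat k X t : ℕ) : WithBot ℕ∞) ≤ d) :
    topologicalKrullDim T ≤ d := by
  haveI := quasiSober_of_isLocallyClosed T hT
  exact topologicalKrullDim_le_of_forall_trdegNat_le k X T d hd

end Sch

end Groth.Agent.Lib.Seat66.CharCycBase
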