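import Groth.Agent.Lib.Seat66CharCycBase

/-!
# Dimensions of subsets via transcendence degrees; fibres (helper66)

For schemes locally of finite type over a field `k` (with `trdegNat` from `Helper4VarDim6`):

* `dim_add_le_iff`: for `T` locally closed, `dim T + j ≤ n ↔ ∀ t ∈ T, trdeg κ(t) + j ≤ n`.
* `trdegNat_eq_of_isPreimmersion`: (pre)immersions preserve `trdegNat`.
* `exists_point_of_le_fiber_dim`: if `j ≤ dim π⁻¹(x)` there is `p` over `x` with
  `trdeg κ(x) + j ≤ trdeg κ(p)`.
* `exists_le_fiber_dim`: `trdeg κ(p) = trdeg κ(π p) + j` with `j ≤ dim π⁻¹(π p)`.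
* `trdegNat_le_of_forall_irreducibleComponents`.
-/

set_option autoImplicit false
set_option linter.style.haveILetI false
universe u

open AlgebraicGeometry CategoryTheory Limits TopologicalSpace Topology

namespace Groth.Agent.Lib.Seat66.CharCycFib

open Groth.Agent.Lib.Helper4.VarDim Groth.Agent.Lib.Seat66.CharCycTop
  Groth.Agent.Lib.Seat66.CharCycBase

variable (k : Type u) [Field k]

section One

variable {X : Scheme.{u}} [X.Over (Spec (CommRingCat.of k))]
  [LocallyOfFiniteType (X ↘ Spec (CommRingCat.of k))]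

theorem dim_add_le_iff (T : Set X) (hT : IsLocallyClosed T) (j n : ℕ) :
    topologicalKrullDim T + (j : WithBot ℕ∞) ≤ (n : WithBot ℕ∞) ↔
      ∀ t ∈ T, trdegNat k X t + j ≤ n := by
  constructor
  · intro h t ht
    have h1 := trdegNat_le_topologicalKrullDim_of_isLocallyClosed k X T hT t ht
    have h2 : ((trdegNat k X t : ℕ) : WithBot ℕ∞) + (j : WithBot ℕ∞) ≤ (n : WithBot ℕ∞) :=
      (add_le_add h1 le_rfl).trans h
    exact_mod_cast h2
  · intro h
    by_cases hj : j ≤ n
    · have h1 : topologicalKrullDim T ≤ ((n - j : ℕ) : WithBot ℕ∞) := by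
        refine topologicalKrullDim_le_of_isLocallyClosed k T hT _ fun t ht => ?_
        have := h t ht
        have h3 : trdegNat k X t ≤ n - j := by omega
        exact_mod_cast h3
      refine (add_le_add h1 le_rfl).trans (le_of_eq ?_)
      have h4 : (n - j) + j = n := by omega
      exact_mod_cast h4
    · have h1 : topologicalKrullDim T ≤ ⊥ := by
        refine topologicalKrullDim_le_of_isLocallyClosed k T hT _ fun t ht => ?_
        have := h t ht
        omega
      rw [le_bot_iff.mp h1, WithBot.bot_add]
      exact bot_le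

theorem dim_le_iff (T : Set X) (hT : IsLocallyClosed T) (n : ℕ) :
    topologicalKrullDim T ≤ (n : WithBot ℕ∞) ↔ ∀ t ∈ T, trdegNat k X t ≤ n := by
  have := dim_add_le_iff k T hT 0 n
  simpa using this

/-- If all irreducible components have dimension `n`, all residue fields have transcendence
degree at most `n`. -/
theorem trdegNat_le_of_forall_irreducibleComponents (n : ℕ)
    (hC : ∀ P ∈ irreducibleComponents (X : Type u), topologicalKrullDim P = n) (p : X) :
    trdegNat k X p ≤ n := by
  have hP := irreducibleComponent_mem_irreducibleComponents p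
  have h1 := trdegNat_le_topologicalKrullDim_of_isLocallyClosed k X (irreducibleComponent p)
    (isClosed_of_mem_irreducibleComponents _ hP).isLocallyClosed p mem_irreducibleComponent
  rw [hC _ hP] at h1
  exact_mod_cast h1

end One

section Two

variable {W X : Scheme.{u}} [W.Over (Spec (CommRingCat.of k))] [X.Over (Spec (CommRingCat.of k))]

attribute [local instance] Curv2.resAlgebra

theorem trdegNat_eq_of_isPreimmersion (ι : W ⟶ X) [IsPreimmersion ι]
    (hι : ι ≫ (X ↘ Spec (CommRingCat.of k)) = (W ↘ Spec (CommRingCat.of k))) (w : W) :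
    trdegNat k W w = trdegNat k X (ι w) := by
  have hb : Function.Bijective (residueFieldAlgHom k ι hι w) :=
    residueFieldMap_bijective_of_isPreimmersion ι w
  let e : X.residueField (ι w) ≃ₐ[k] W.residueField w :=
    AlgEquiv.ofBijective (residueFieldAlgHom k ι hι w) hb
  unfold trdegNat
  rw [e.trdeg_eq]

end Two

section Three

variable {C X : Scheme.{u}} [C.Over (Spec (CommRingCat.of k))] [X.Over (Spec (CommRingCat.of k))]
  [LocallyOfFiniteType (C ↘ Spec (CommRingCat.of k))]
  [LocallyOfFiniteType (X ↘ Spec (CommRingCat.of k))]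
  (π : C ⟶ X) [LocallyOfFiniteType π]
  (hπ : π ≫ (X ↘ Spec (CommRingCat.of k)) = (C ↘ Spec (CommRingCat.of k)))

include hπ

theorem exists_point_of_le_fiber_dim (x : X) (j : ℕ)
    (hj : (j : WithBot ℕ∞) ≤ topologicalKrullDim (π.fiber x)) :
    ∃ p : C, π p = x ∧ trdegNat k X x + j ≤ trdegNat k C p := by
  letI : (π.fiber x).Over (Spec (CommRingCat.of (X.residueField x))) :=
    ⟨π.fiberToSpecResidueField x⟩
  haveI : LocallyOfFiniteType ((π.fiber x) ↘ Spec (CommRingCat.of (X.residueField x))) :=
    locallyOfFiniteType_fiberToSpecResidueField π x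
  obtain ⟨z, hz⟩ := exists_le_rank_of_le_topologicalKrullDim
    (fun z : π.fiber x => trdegNat (X.residueField x) (π.fiber x) z)
    (fun t t' hsp hne => trdegNat_lt_of_specializes (X.residueField x) (π.fiber x) t t' hsp hne)
    j hj
  have hp : π (π.fiberι x z) = x := by
    have : π.fiberι x z ∈ Set.range (π.fiberι x) := ⟨z, rfl⟩
    rw [Scheme.Hom.range_fiberι] at this
    exact this
  refine ⟨π.fiberι x z, hp, ?_⟩
  have h1 := trdegNat_eq_add_fiber k π hπ x z (π.fiberι x z) rfl
  rw [hp] at h1
  omega

theorem exists_le_fiber_dim (p : C) :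
    ∃ j : ℕ, (j : WithBot ℕ∞) ≤ topologicalKrullDim (π.fiber (π p)) ∧
      trdegNat k C p = trdegNat k X (π p) + j := by
  letI : (π.fiber (π p)).Over (Spec (CommRingCat.of (X.residueField (π p)))) :=
    ⟨π.fiberToSpecResidueField (π p)⟩
  haveI : LocallyOfFiniteType
      ((π.fiber (π p)) ↘ Spec (CommRingCat.of (X.residueField (π p)))) :=
    locallyOfFiniteType_fiberToSpecResidueField π (π p)
  refine ⟨trdegNat (X.residueField (π p)) (π.fiber (π p)) (π.asFiber p),
    trdegNat_le_topologicalKrullDim _ _ _, ?_⟩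
  exact trdegNat_eq_add_fiber k π hπ (π p) (π.asFiber p) p (π.fiberι_asFiber p)

end Three

end Groth.Agent.Lib.Seat66.CharCycFib
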