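import Groth.Agent.Lib.Seat66CharCycFib
import Groth.Prelude.Def_RegImm
import Mathlib.AlgebraicGeometry.IdealSheaf.Basic

/-!
# Cutting by `c` equations drops the transcendence degree by at most `c` (helper66)

* `exists_specialization_vanishing`: iterated hypersurface sections (Krull) on a scheme locally of
  finite type over a field.
* `mem_range_iff_forall_notMem_basicOpen`: the range of an immersion which is closed over an affine
  open `U` with ideal generated by `rs` is the common zero set of `rs` in `U`.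
* subtype bookkeeping: `dim_image_val`, `isLocallyClosed_image_val`.
-/

set_option autoImplicit false
set_option linter.style.haveILetI false
universe u

open AlgebraicGeometry CategoryTheory Limits TopologicalSpace Topology

namespace Groth.Agent.Lib.Seat66.CharCycKrull

open Groth.Agent.Lib.Helper4.VarDim Groth.Agent.Lib.Seat66.CharCycTop
  Groth.Agent.Lib.Seat66.CharCycBase Groth.Agent.Lib.Seat66.CharCycFib

section Top

variable {α : Type*} [TopologicalSpace α]

theorem dim_image_val (A : Set α) (Q : Set ↥A) :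
    topologicalKrullDim ↥(Subtype.val '' Q) = topologicalKrullDim ↥Q := by
  have hemb : IsEmbedding (fun q : ↥Q => ((q : ↥A) : α)) :=
    IsEmbedding.subtypeVal.comp IsEmbedding.subtypeVal
  have hr : Set.range (fun q : ↥Q => ((q : ↥A) : α)) = Subtype.val '' Q := by
    ext x
    constructor
    · rintro ⟨q, rfl⟩
      exact ⟨q.1, q.2, rfl⟩
    · rintro ⟨a, ha, rfl⟩
      exact ⟨⟨a, ha⟩, rfl⟩
  have e : ↥Q ≃ₜ ↥(Subtype.val '' Q) :=
    hemb.toHomeomorph.trans (Homeomorph.setCongr hr)
  exact (IsHomeomorph.topologicalKrullDim_eq _ e.isHomeomorph).symm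

theorem isLocallyClosed_image_val (A : Set α) (hA : IsLocallyClosed A) (Q : Set ↥A)
    (hQ : IsClosed Q) : IsLocallyClosed (Subtype.val '' Q : Set α) := by
  obtain ⟨F, hF, rfl⟩ := isClosed_induced_iff.mp hQ
  have : (Subtype.val '' (Subtype.val ⁻¹' F : Set ↥A) : Set α) = A ∩ F := by
    rw [Subtype.image_preimage_coe]
  rw [this]
  exact hA.inter hF.isLocallyClosed

end Top

section Range

variable {W X : Scheme.{u}}

theorem mem_range_iff_forall_notMem_basicOpen (ι : W ⟶ X) [QuasiCompact ι] (U : X.affineOpens)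
    (hcl : IsClosedImmersion (ι ∣_ U.1)) (rs : List Γ(X, U.1))
    (hker : RingHom.ker (ι.app U.1).hom = Ideal.ofList rs) (x : X) (hx : x ∈ U.1) :
    x ∈ Set.range ι ↔ ∀ r ∈ rs, x ∉ X.basicOpen r := by
  have h1 : x ∈ ι.ker.support ↔ ∀ r ∈ rs, x ∉ X.basicOpen r := by
    rw [Scheme.IdealSheafData.mem_support_iff_of_mem hx, Scheme.Hom.ker_apply, hker, Ideal.ofList,
      Scheme.zeroLocus_span, Scheme.mem_zeroLocus_iff]
    exact Iff.rfl
  rw [← h1]
  have h2 : (ι.ker.support : Set X) = closure (Set.range ι) := by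
    rw [Scheme.Hom.support_ker]
  change _ ↔ x ∈ (ι.ker.support : Set X)
  rw [h2]
  refine ⟨fun h => subset_closure h, fun hcl' => ?_⟩
  by_contra hnot
  have hclosed : IsClosed (Subtype.val ⁻¹' Set.range ι : Set U.1) := by
    have := (ι ∣_ U.1).isClosedEmbedding.isClosed_range
    convert this using 1
    ext u
    constructor
    · rintro ⟨w, hw⟩
      have hwU : w ∈ ι ⁻¹ᵁ U.1 := by
        show ι w ∈ U.1
        rw [hw]
        exact u.2
      refine ⟨⟨w, hwU⟩, ?_⟩
      apply Subtype.ext
      rw [morphismRestrict_base_coe]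
      exact hw
    · rintro ⟨w, rfl⟩
      exact ⟨w.1, (morphismRestrict_base_coe ι U.1 w).symm⟩
  obtain ⟨O, hO, hOeq⟩ := isOpen_induced_iff.mp hclosed.isOpen_compl
  have hxO : x ∈ O := by
    have : (⟨x, hx⟩ : U.1) ∈ (Subtype.val ⁻¹' O : Set U.1) := by
      rw [hOeq]
      exact hnot
    exact this
  obtain ⟨y, ⟨hyO, hyU⟩, hyr⟩ := mem_closure_iff.mp hcl' (O ∩ U.1) (hO.inter U.1.isOpen) ⟨hxO, hx⟩
  have : (⟨y, hyU⟩ : U.1) ∈ (Subtype.val ⁻¹' O : Set U.1) := hyO
  rw [hOeq] at this
  exact this hyr

end Range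

section Krull

variable (k : Type u) [Field k] (C : Scheme.{u}) [C.Over (Spec (CommRingCat.of k))]
  [LocallyOfFiniteType (C ↘ Spec (CommRingCat.of k))]

/-- Iterated hypersurface sections: between `η ⤳ ξ` in an affine open on which the functions `as`
vanish at `ξ`, there is a point where all `as` vanish and whose residue field has transcendence
degree at least `trdeg κ(η) - length as`. -/
theorem exists_specialization_vanishing {U : C.Opens} (hU : IsAffineOpen U) (as : List Γ(C, U))
    (η ξ : C) (hη : η ∈ U) (hξ : ξ ∈ U) (h : η ⤳ ξ) (hv : ∀ a ∈ as, ξ ∉ C.basicOpen a) :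
    ∃ y : C, y ∈ U ∧ η ⤳ y ∧ y ⤳ ξ ∧ (∀ a ∈ as, y ∉ C.basicOpen a) ∧
      trdegNat k C η ≤ trdegNat k C y + as.length := by
  induction as with
  | nil => exact ⟨η, hη, specializes_rfl, h, by simp, by simp⟩
  | cons a as ih =>
    obtain ⟨y₀, hy₀U, hηy₀, hy₀ξ, hy₀v, hy₀d⟩ :=
      ih (fun b hb => hv b (List.mem_cons_of_mem _ hb))
    by_cases hay : y₀ ∈ C.basicOpen a
    · obtain ⟨y', hy'U, h1, h2, h3, h4⟩ := exists_specialization_notMem_basicOpen k C hU y₀ ξ
        hy₀U hξ hy₀ξ a (hv a List.mem_cons_self) hay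
      refine ⟨y', hy'U, hηy₀.trans h1, h2, ?_, ?_⟩
      · intro b hb
        rcases List.mem_cons.mp hb with rfl | hb
        · exact h3
        · exact fun hyb => hy₀v b hb (h1.mem_open (C.basicOpen b).isOpen hyb)
      · simp only [List.length_cons]
        omega
    · refine ⟨y₀, hy₀U, hηy₀, hy₀ξ, ?_, ?_⟩
      · intro b hb
        rcases List.mem_cons.mp hb with rfl | hb
        · exact hay
        · exact hy₀v b hb
      · simp only [List.length_cons]
        omega

end Krull

end Groth.Agent.Lib.Seat66.CharCycKrull
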