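import Mathlib
import Groth.Agent.Lib.Helper22DiscPurity

/-!
# Discriminant purity in codimension two (seat 66)

A finite flat morphism to a locally Noetherian scheme which is étale over an open containing all
points of codimension `≤ 1` is étale (Krull's principal ideal theorem for the discriminant).
-/

set_option autoImplicit false
set_option linter.style.haveILetI false
universe u

namespace Groth.Agent.Lib.Seat66.DiscDim
open AlgebraicGeometry CategoryTheory CategoryTheory.Limits
open Groth.Agent.Lib.Helper22.DiscPurity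

set_option backward.isDefEq.respectTransparency.types false in
theorem etale_app_of_free {X Y : Scheme.{u}} [IsLocallyNoetherian X] (π : Y ⟶ X) [IsFinite π]
    (U : X.Opens)
    (hU : ∀ x : X, x ∉ U → (2 : WithBot ℕ∞) ≤ ringKrullDim (X.presheaf.stalk x))
    [Etale (pullback.snd π U.ι)] (W : X.Opens) (hW : IsAffineOpen W)
    (hfree : @Module.Free Γ(X, W) Γ(Y, π ⁻¹ᵁ W) _ _ (π.app W).hom.toAlgebra.toModule) :
    (π.app W).hom.Etale := by
  letI : Algebra Γ(X, W) Γ(Y, π ⁻¹ᵁ W) := (π.app W).hom.toAlgebra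
  have hfin : Module.Finite Γ(X, W) Γ(Y, π ⁻¹ᵁ W) := π.finite_app W hW
  haveI : IsNoetherianRing Γ(X, W) := IsLocallyNoetherian.component_noetherian ⟨W, hW⟩
  classical
  let bas := Module.Free.chooseBasis Γ(X, W) Γ(Y, π ⁻¹ᵁ W)
  have hunit : IsUnit (Algebra.discr Γ(X, W) bas) := by
    by_contra hnu
    have hne : Ideal.span {Algebra.discr Γ(X, W) bas} ≠ ⊤ := by
      rwa [Ne, Ideal.span_singleton_eq_top]
    obtain ⟨p, hp⟩ := Ideal.nonempty_minimalPrimes hne
    haveI hpp : p.IsPrime := hp.1.1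
    have hdp : Algebra.discr Γ(X, W) bas ∈ p :=
      hp.1.2 (Ideal.subset_span (Set.mem_singleton _))
    have hht : p.height ≤ 1 :=
      Ideal.height_le_one_of_isPrincipal_of_mem_minimalPrimes _ p hp
    let q : PrimeSpectrum Γ(X, W) := ⟨p, hpp⟩
    have hxW : hW.fromSpec q ∈ W := by
      rw [← SetLike.mem_coe, ← hW.range_fromSpec]
      exact ⟨q, rfl⟩
    have hdim : ringKrullDim (X.presheaf.stalk (hW.fromSpec q)) =
        ((p.height : ℕ∞) : WithBot ℕ∞) := by
      have h := hW.isLocalization_stalk' q hxW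
      exact @IsLocalization.AtPrime.ringKrullDim_eq_height _ _ q.asIdeal _ _ _
        (TopCat.Presheaf.algebra_section_stalk X.presheaf ⟨hW.fromSpec q, hxW⟩) h
    have hxU : hW.fromSpec q ∈ U := by
      by_contra hx
      have h2 := hU _ hx
      rw [hdim] at h2
      have h3 : (2 : ℕ∞) ≤ p.height := by
        have h2' : (((2 : ℕ∞)) : WithBot ℕ∞) ≤ ((p.height : ℕ∞) : WithBot ℕ∞) := h2
        exact WithBot.coe_le_coe.mp h2'
      have h4 : (2 : ℕ∞) ≤ 1 := h3.trans hht
      exact absurd h4 (by decide)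
    obtain ⟨g, hgU, hxg⟩ := hW.exists_basicOpen_le (V := U) ⟨hW.fromSpec q, hxU⟩ hxW
    obtain ⟨u, n, hun⟩ := exists_mul_eq_pow π U W hW bas g hgU
    have hgn : g ^ n ∈ p := by
      rw [← hun]
      exact Ideal.mul_mem_right _ _ hdp
    have hgp : g ∈ p := hpp.mem_of_pow_mem n hgn
    have h1 : q ∈ hW.fromSpec ⁻¹ᵁ X.basicOpen g := hxg
    rw [hW.fromSpec_preimage_basicOpen] at h1
    exact h1 hgp
  have : Algebra.Etale Γ(X, W) Γ(Y, π ⁻¹ᵁ W) :=
    (Groth.Agent.Lib.Helper20.TraceEt.etale_iff_isUnit_discr bas).mpr hunit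
  exact this

set_option backward.isDefEq.respectTransparency.types false in
theorem etale_of_flat {X : Scheme.{u}} [IsLocallyNoetherian X] (U : X.Opens)
    (hU : ∀ x : X, x ∉ U → (2 : WithBot ℕ∞) ≤ ringKrullDim (X.presheaf.stalk x))
    {Y : Scheme.{u}} (π : Y ⟶ X) [IsFinite π] [Etale (pullback.snd π U.ι)] [Flat π] :
    Etale π := by
  apply IsZariskiLocalAtTarget.of_forall_exists_morphismRestrict (P := @Etale)
  intro x
  obtain ⟨W', hW', hxW', hfree⟩ := exists_affine_free π x
  exact ⟨W', hxW', etale_restrict_of_app π W' hW' (etale_app_of_free π U hU W' hW' hfree)⟩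

/-- the version with `π ∣_ U` étale -/
theorem etale_of_flat' {X : Scheme.{u}} [IsLocallyNoetherian X] (U : X.Opens)
    (hU : ∀ x : X, x ∉ U → (2 : WithBot ℕ∞) ≤ ringKrullDim (X.presheaf.stalk x))
    {Y : Scheme.{u}} (π : Y ⟶ X) [IsFinite π] [Etale (π ∣_ U)] [Flat π] :
    Etale π := by
  haveI : Etale (pullback.snd π U.ι) := by
    rw [← pullbackRestrictIsoRestrict_hom_morphismRestrict]
    infer_instance
  exact etale_of_flat U hU π

end Groth.Agent.Lib.Seat66.DiscDim
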