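import Mathlib
import Groth.Agent.Lib.Helper4VarDim8
import Groth.Agent.Lib.Seat66DiscDim
import Groth.Agent.Lib.Seat45Unram
import Groth.Agent.Lib.Seat45EtDim

/-!
# Purity of the branch locus for finite flat morphisms, pointwise form (seat 66)

* `exists_height_one_prime_mem`: in a Noetherian ring every prime of height `≥ 1` containing `d`
  contains a prime of height one containing `d`;
* `exists_etale_nbhd_of_codim_one`: a finite flat morphism to a locally Noetherian scheme which is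
  étale over an open containing all codimension one generizations of `x` (and `dim 𝒪_x ≥ 1`) is étale
  over a neighbourhood of `x`;
* `exists_etale_nbhd_of_unrSt`: the same with the hypothesis read on stalk maps of the source.
-/

set_option autoImplicit false
set_option linter.style.haveILetI false
universe u

namespace Groth.Agent.Lib.Seat66.CodimOne
open AlgebraicGeometry CategoryTheory CategoryTheory.Limits
open Groth.Agent.Lib.Helper22.DiscPurity Groth.Agent.Lib.Helper4.VarDim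
open Groth.Agent.Lib.Seat45.Unram


/-- Krull's principal ideal theorem, in between form. -/
theorem exists_prime_between_of_mem' {A : Type*} [CommRing A] [IsNoetherianRing A] (p q : Ideal A)
    [p.IsPrime] [q.IsPrime] (hpq : p ≤ q) (g : A) (hgq : g ∈ q) (hgp : g ∉ p) :
    ∃ q' : Ideal A, q'.IsPrime ∧ p ≤ q' ∧ q' ≤ q ∧ g ∈ q' ∧
      (q'.map (Ideal.Quotient.mk p)).height = 1 := by
  have hle : p ⊔ Ideal.span {g} ≤ q :=
    sup_le hpq ((Ideal.span_singleton_le_iff_mem _).mpr hgq)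
  obtain ⟨q', hq', hq'q⟩ := Ideal.exists_minimalPrimes_le hle
  haveI : q'.IsPrime := hq'.1.1
  have hpq' : p ≤ q' := le_sup_left.trans hq'.1.2
  have hgq' : g ∈ q' := hq'.1.2 (Ideal.mem_sup_right (Ideal.mem_span_singleton_self g))
  refine ⟨q', hq'.1.1, hpq', hq'q, hgq', ?_⟩
  have h1 : (q'.map (Ideal.Quotient.mk p)).height ≤ 1 :=
    Ideal.map_height_le_one_of_mem_minimalPrimes hq'
  have h0 : (q'.map (Ideal.Quotient.mk p)).height ≠ 0 := by
    rw [Ne, Ideal.height_eq_zero_iff_eq_bot]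
    intro hbot
    have : Ideal.Quotient.mk p g ∈ q'.map (Ideal.Quotient.mk p) := Ideal.mem_map_of_mem _ hgq'
    rw [hbot, Ideal.mem_bot, Ideal.Quotient.eq_zero_iff_mem] at this
    exact hgp this
  exact le_antisymm h1 (Order.one_le_iff_pos.mpr (pos_iff_ne_zero.mpr h0))

/-- In a Noetherian ring, given three primes `p₀ < p₁ < q` and `d ∈ q`, `d ∉ p₀`, there is a prime `q'` with
`p₀ < q' < q` and `d ∈ q'`. -/
theorem exists_prime_strictly_between {A : Type*} [CommRing A] [IsNoetherianRing A]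
    (p₀ p₁ q : Ideal A) [p₀.IsPrime] [p₁.IsPrime] [q.IsPrime] (h01 : p₀ < p₁) (h1q : p₁ < q)
    (d : A) (hdq : d ∈ q) (hd0 : d ∉ p₀) :
    ∃ q' : Ideal A, q'.IsPrime ∧ p₀ < q' ∧ q' < q ∧ d ∈ q' := by
  obtain ⟨q', hq'prime, h0q', hq'q, hdq', hht⟩ :=
    exists_prime_between_of_mem' p₀ q (h01.le.trans h1q.le) d hdq hd0
  refine ⟨q', hq'prime, lt_of_le_of_ne h0q' ?_, lt_of_le_of_ne hq'q ?_, hdq'⟩
  · rintro rfl
    exact hd0 hdq'
  · rintro rfl
    -- height of `q / p₀` is one, but `p₁ / p₀` is strictly in between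
    have hsurj : Function.Surjective (Ideal.Quotient.mk p₀) := Ideal.Quotient.mk_surjective
    have hker : RingHom.ker (Ideal.Quotient.mk p₀) = p₀ := Ideal.mk_ker
    haveI hP1 : (p₁.map (Ideal.Quotient.mk p₀)).IsPrime :=
      Ideal.map_isPrime_of_surjective hsurj (by rw [hker]; exact h01.le)
    haveI hQ : (q'.map (Ideal.Quotient.mk p₀)).IsPrime :=
      Ideal.map_isPrime_of_surjective hsurj (by rw [hker]; exact h0q')
    have hcm : ∀ I : Ideal A, p₀ ≤ I → (I.map (Ideal.Quotient.mk p₀)).comap (Ideal.Quotient.mk p₀) = I := by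
      intro I hI
      rw [Ideal.comap_map_of_surjective _ hsurj, ← RingHom.ker_eq_comap_bot, hker]
      exact sup_eq_left.mpr hI
    have hlt : p₁.map (Ideal.Quotient.mk p₀) < q'.map (Ideal.Quotient.mk p₀) := by
      refine lt_of_le_of_ne (Ideal.map_mono h1q.le) fun heq => ?_
      have := congrArg (Ideal.comap (Ideal.Quotient.mk p₀)) heq
      rw [hcm _ h01.le, hcm _ h0q'] at this
      exact h1q.ne this
    have h1 : (p₁.map (Ideal.Quotient.mk p₀)).height < 1 :=
      (Ideal.height_le_iff (n := 1)).mp (by rw [hht]; rfl) _ hP1 hlt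
    have h2 : (p₁.map (Ideal.Quotient.mk p₀)).height = 0 := by
      exact Order.lt_one_iff.mp h1
    rw [Ideal.height_eq_zero_iff_eq_bot] at h2
    have h3 := congrArg (Ideal.comap (Ideal.Quotient.mk p₀)) h2
    rw [hcm _ h01.le, ← RingHom.ker_eq_comap_bot, hker] at h3
    exact h01.ne h3.symm

/-- In a Noetherian ring, every prime of height `≥ 1` containing `d` contains a prime of height exactly one
containing `d`. -/
theorem exists_height_one_prime_mem {A : Type*} [CommRing A] [IsNoetherianRing A]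
    (d : A) : ∀ (n : ℕ) (q : Ideal A) [q.IsPrime], q.height = n → 1 ≤ n → d ∈ q →
      ∃ q₁ : Ideal A, q₁.IsPrime ∧ q₁ ≤ q ∧ d ∈ q₁ ∧ q₁.height = 1 := by
  intro n
  induction n using Nat.strong_induction_on with
  | _ n ih =>
    intro q hq hqn hn hdq
    by_cases h1 : n = 1
    · subst h1
      exact ⟨q, hq, le_rfl, hdq, by simpa using hqn⟩
    have hn2 : 2 ≤ n := by omega
    -- a prime `p₁ < q` of height `≥ 1`
    have hnot1 : ¬ q.height ≤ (1 : ℕ) := by
      rw [hqn]
      intro h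
      have : n ≤ 1 := by exact_mod_cast h
      omega
    rw [Ideal.height_le_iff] at hnot1
    push Not at hnot1
    obtain ⟨p₁, hp₁, hp₁q, hp₁ht⟩ := hnot1
    haveI := hp₁
    have hp₁fin : p₁.height < n := by
      rw [← hqn]
      exact Ideal.height_strict_mono_of_isPrime_of_isPrime hp₁q
    obtain ⟨m₁, hm₁⟩ := ENat.ne_top_iff_exists.mp (ne_top_of_lt hp₁fin)
    have hm₁n : m₁ < n := by
      rw [← hm₁] at hp₁fin
      exact_mod_cast hp₁fin
    have hm₁1 : 1 ≤ m₁ := by
      rw [← hm₁] at hp₁ht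
      exact_mod_cast hp₁ht
    by_cases hd1 : d ∈ p₁
    · obtain ⟨q₁, hq₁, hq₁p, hdq₁, hht⟩ := ih m₁ hm₁n p₁ hm₁.symm hm₁1 hd1
      exact ⟨q₁, hq₁, hq₁p.trans hp₁q.le, hdq₁, hht⟩
    -- a prime `p₀ < p₁`
    have hnot0 : ¬ p₁.height ≤ (0 : ℕ) := by
      rw [← hm₁]
      intro h
      have : m₁ ≤ 0 := by exact_mod_cast h
      omega
    rw [Ideal.height_le_iff] at hnot0
    push Not at hnot0
    obtain ⟨p₀, hp₀, hp₀p₁, -⟩ := hnot0
    haveI := hp₀
    have hd0 : d ∉ p₀ := fun h => hd1 (hp₀p₁.le h)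
    obtain ⟨q', hq', h0q', hq'q, hdq'⟩ :=
      exists_prime_strictly_between p₀ p₁ q hp₀p₁ hp₁q d hdq hd0
    haveI := hq'
    have hq'fin : q'.height < n := by
      rw [← hqn]
      exact Ideal.height_strict_mono_of_isPrime_of_isPrime hq'q
    obtain ⟨m', hm'⟩ := ENat.ne_top_iff_exists.mp (ne_top_of_lt hq'fin)
    have hm'n : m' < n := by
      rw [← hm'] at hq'fin
      exact_mod_cast hq'fin
    have hm'1 : 1 ≤ m' := by
      have := Ideal.height_add_one_le_of_lt_of_isPrime h0q'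
      rw [← hm'] at this
      have h1 : (1 : ℕ∞) ≤ (m' : ℕ∞) := le_trans (by simp) this
      exact_mod_cast h1
    obtain ⟨q₁, hq₁, hq₁p, hdq₁, hht⟩ := ih m' hm'n q' hm'.symm hm'1 hdq'
    exact ⟨q₁, hq₁, hq₁p.trans hq'q.le, hdq₁, hht⟩


theorem ringKrullDim_stalk_eq_height {X : Scheme.{u}} {W : X.Opens} (hW : IsAffineOpen W) (x : X)
    (hx : x ∈ W) : ringKrullDim (X.presheaf.stalk x) =
      (((hW.primeIdealOf ⟨x, hx⟩).asIdeal.height : ℕ∞) : WithBot ℕ∞) :=
  @IsLocalization.AtPrime.ringKrullDim_eq_height _ _ (hW.primeIdealOf ⟨x, hx⟩).asIdeal _ _ _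
    (TopCat.Presheaf.algebra_section_stalk X.presheaf ⟨x, hx⟩) (hW.isLocalization_stalk ⟨x, hx⟩)

set_option backward.isDefEq.respectTransparency.types false in
/-- If the discriminant of a basis of `Γ(Y, π⁻¹W)` over `Γ(X, W)` is `d`, then `π` is étale over `D(d)`. -/
theorem etale_app_basicOpen_discr {X Y : Scheme.{u}} (π : Y ⟶ X) [IsAffineHom π]
    (W : X.Opens) (hW : IsAffineOpen W) {ι : Type*} [Fintype ι] [DecidableEq ι] :
    letI : Algebra Γ(X, W) Γ(Y, π ⁻¹ᵁ W) := (π.app W).hom.toAlgebra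
    ∀ (bas : Module.Basis ι Γ(X, W) Γ(Y, π ⁻¹ᵁ W)),
      (π.app (X.basicOpen (Algebra.discr Γ(X, W) bas))).hom.Etale := by
  intro bas
  letI : Algebra Γ(X, W) Γ(Y, π ⁻¹ᵁ W) := (π.app W).hom.toAlgebra
  set g := Algebra.discr Γ(X, W) bas with hg
  letI iBB'' : Algebra Γ(Y, π ⁻¹ᵁ W) Γ(Y, π ⁻¹ᵁ X.basicOpen g) :=
    (Y.presheaf.map (homOfLE (π.preimage_mono (X.basicOpen_le g))).op).hom.toAlgebra
  letI iA''B'' : Algebra Γ(X, X.basicOpen g) Γ(Y, π ⁻¹ᵁ X.basicOpen g) :=
    (π.app (X.basicOpen g)).hom.toAlgebra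
  letI iAB'' : Algebra Γ(X, W) Γ(Y, π ⁻¹ᵁ X.basicOpen g) :=
    ((algebraMap Γ(X, X.basicOpen g) Γ(Y, π ⁻¹ᵁ X.basicOpen g)).comp
      (algebraMap Γ(X, W) Γ(X, X.basicOpen g))).toAlgebra
  haveI : IsScalarTower Γ(X, W) Γ(X, X.basicOpen g) Γ(Y, π ⁻¹ᵁ X.basicOpen g) :=
    IsScalarTower.of_algebraMap_eq (fun _ => rfl)
  haveI : IsScalarTower Γ(X, W) Γ(Y, π ⁻¹ᵁ W) Γ(Y, π ⁻¹ᵁ X.basicOpen g) :=
    IsScalarTower.of_algebraMap_eq (fun r => by
      exact congr($(π.naturality (homOfLE (X.basicOpen_le g)).op) r))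
  haveI : IsLocalization.Away g Γ(X, X.basicOpen g) := hW.isLocalization_basicOpen g
  haveI : IsLocalization (Algebra.algebraMapSubmonoid Γ(Y, π ⁻¹ᵁ W) (Submonoid.powers g))
      Γ(Y, π ⁻¹ᵁ X.basicOpen g) := by
    have := (hW.preimage π).isLocalization_of_eq_basicOpen (π.app W g)
      (homOfLE (π.preimage_mono (X.basicOpen_le g))) (Scheme.preimage_basicOpen π g)
    rw [Algebra.algebraMapSubmonoid_powers]
    exact this
  have hunit : IsUnit (Algebra.discr Γ(X, X.basicOpen g)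
      (bas.localizationLocalization Γ(X, X.basicOpen g) (Submonoid.powers g)
        Γ(Y, π ⁻¹ᵁ X.basicOpen g))) := by
    rw [Algebra.discr_localizationLocalization]
    exact IsLocalization.map_units _ (⟨g, Submonoid.mem_powers g⟩ : Submonoid.powers g)
  have : Algebra.Etale Γ(X, X.basicOpen g) Γ(Y, π ⁻¹ᵁ X.basicOpen g) :=
    (Groth.Agent.Lib.Helper20.TraceEt.etale_iff_isUnit_discr _).mpr hunit
  exact this

set_option backward.isDefEq.respectTransparency.types false in
/-- **Discriminant purity, pointwise**: a finite flat morphism to a locally Noetherian scheme which is étale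
over an open `U` containing all codimension one generizations of a point `x` with `dim 𝒪_x ≥ 1` is étale over
a neighbourhood of `x`. -/
theorem exists_etale_nbhd_of_codim_one {X Y : Scheme.{u}} [IsLocallyNoetherian X] (π : Y ⟶ X)
    [IsFinite π] [Flat π] (U : X.Opens) [Etale (pullback.snd π U.ι)] (x : X)
    (hdim : (1 : WithBot ℕ∞) ≤ ringKrullDim (X.presheaf.stalk x))
    (hU : ∀ x' : X, x' ⤳ x → ringKrullDim (X.presheaf.stalk x') = 1 → x' ∈ U) :
    ∃ W : X.Opens, x ∈ W ∧ Etale (π ∣_ W) := by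
  obtain ⟨W, hW, hxW, hfree⟩ := exists_affine_free π x
  letI : Algebra Γ(X, W) Γ(Y, π ⁻¹ᵁ W) := (π.app W).hom.toAlgebra
  haveI : IsNoetherianRing Γ(X, W) := IsLocallyNoetherian.component_noetherian ⟨W, hW⟩
  have hfin : Module.Finite Γ(X, W) Γ(Y, π ⁻¹ᵁ W) := π.finite_app W hW
  classical
  let bas := Module.Free.chooseBasis Γ(X, W) Γ(Y, π ⁻¹ᵁ W)
  set d := Algebra.discr Γ(X, W) bas with hd
  have hdx : d ∉ (hW.primeIdealOf ⟨x, hxW⟩).asIdeal := by
    intro hdp
    have hht := ringKrullDim_stalk_eq_height hW x hxW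
    rw [hht] at hdim
    have hht1 : (1 : ℕ∞) ≤ (hW.primeIdealOf ⟨x, hxW⟩).asIdeal.height := by
      have h' : (((1 : ℕ∞)) : WithBot ℕ∞) ≤
        (((hW.primeIdealOf ⟨x, hxW⟩).asIdeal.height : ℕ∞) : WithBot ℕ∞) := hdim
      exact WithBot.coe_le_coe.mp h'
    obtain ⟨n, hn⟩ := ENat.ne_top_iff_exists.mp
      (Ideal.height_ne_top_of_isPrime (I := (hW.primeIdealOf ⟨x, hxW⟩).asIdeal))
    have hn1 : 1 ≤ n := by
      rw [← hn] at hht1
      exact_mod_cast hht1
    obtain ⟨q, hqprime, hqp, hdq, hqht⟩ :=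
      exists_height_one_prime_mem d n (hW.primeIdealOf ⟨x, hxW⟩).asIdeal hn.symm hn1 hdp
    let q' : PrimeSpectrum Γ(X, W) := ⟨q, hqprime⟩
    have hx'W : hW.fromSpec q' ∈ W := fromSpec_mem hW q'
    have e : hW.primeIdealOf ⟨hW.fromSpec q', hx'W⟩ = q' := primeIdealOf_fromSpec hW q' hx'W
    have hsp : hW.fromSpec q' ⤳ x := by
      rw [← primeIdealOf_le_iff hW _ _ hx'W hxW, e]
      exact hqp
    have hdim' : ringKrullDim (X.presheaf.stalk (hW.fromSpec q')) = 1 := by
      rw [ringKrullDim_stalk_eq_height hW _ hx'W, e]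
      change ((q.height : ℕ∞) : WithBot ℕ∞) = 1
      rw [hqht]
      rfl
    have hx'U : hW.fromSpec q' ∈ U := hU _ hsp hdim'
    obtain ⟨g, hgU, hxg⟩ := hW.exists_basicOpen_le (V := U) ⟨hW.fromSpec q', hx'U⟩ hx'W
    obtain ⟨a, m, ham⟩ := exists_mul_eq_pow π U W hW bas g hgU
    have hgn : g ^ m ∈ q := by
      rw [← ham]
      exact Ideal.mul_mem_right _ _ hdq
    have hgq : g ∈ q := hqprime.mem_of_pow_mem m hgn
    have h1 : q' ∈ hW.fromSpec ⁻¹ᵁ X.basicOpen g := hxg
    rw [hW.fromSpec_preimage_basicOpen] at h1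
    exact h1 hgq
  refine ⟨X.basicOpen d, ?_, ?_⟩
  · by_contra hx
    exact hdx ((mem_primeIdealOf_iff_notMem_basicOpen hW x hxW d).mpr hx)
  · exact etale_restrict_of_app π _ (hW.basicOpen d) (etale_app_basicOpen_discr π W hW bas)

set_option backward.isDefEq.respectTransparency.types false in
/-- **Purity of the branch locus, finite flat pointwise form**: `h` finite flat over a locally Noetherian
scheme, `u` a point with `dim 𝒪_u ≥ 1`; if `h` is unramified at all points `v'` of codimension one whose image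
specializes to `u`, then `h` is étale over a neighbourhood of `u`. -/
theorem exists_etale_nbhd_of_unrSt {V U : Scheme.{u}} [IsLocallyNoetherian U] (h : V ⟶ U)
    [IsFinite h] [Flat h] (u : U)
    (hdim : (1 : WithBot ℕ∞) ≤ ringKrullDim (U.presheaf.stalk u))
    (hunr : ∀ v' : V, h v' ⤳ u → ringKrullDim (V.presheaf.stalk v') = 1 → UnrSt h v') :
    ∃ W : U.Opens, u ∈ W ∧ Etale (h ∣_ W) := by
  let Ram : Set V := {w | ¬ UnrSt h w}
  have hRam : IsClosed Ram := (isOpen_unrSt h).isClosed_compl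
  let E : U.Opens := ⟨(h '' Ram)ᶜ, (h.isClosedMap _ hRam).isOpen_compl⟩
  have hE : Etale (h ∣_ E) := by
    haveI : LocallyOfFinitePresentation (h ∣_ E) :=
      LocallyOfFinitePresentation.iff_locallyOfFiniteType.mpr inferInstance
    haveI : FormallyUnramified (h ∣_ E) := by
      refine HasRingHomProperty.of_stalkMap RingHom.FormallyUnramified.ofLocalizationPrime
        (fun w => ?_)
      have comm : (h ∣_ E) ≫ E.ι = (h ⁻¹ᵁ E).ι ≫ h := morphismRestrict_ι h E
      refine (unrSt_etale_local h (h ∣_ E) (h ⁻¹ᵁ E).ι E.ι comm w).mp ?_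
      by_contra hw
      have hwE : h ((h ⁻¹ᵁ E).ι w) ∈ E := w.2
      exact hwE ⟨_, hw, rfl⟩
    exact Etale.of_formallyUnramified_of_flat _
  haveI : Etale (pullback.snd h E.ι) := by
    rw [← pullbackRestrictIsoRestrict_hom_morphismRestrict]
    infer_instance
  refine exists_etale_nbhd_of_codim_one h E u hdim ?_
  intro u' hu' hdim'
  by_contra hnot
  have hmem : u' ∈ h '' Ram := not_not.mp hnot
  obtain ⟨v', hv'Ram, rfl⟩ := hmem
  refine hv'Ram (hunr v' hu' ?_)
  rw [Groth.Agent.Lib.Seat45.EtDim.ringKrullDim_stalk_eq_of_flat_of_lqf h v']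
  exact hdim'
end Groth.Agent.Lib.Seat66.CodimOne
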