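import Groth.Agent.Lib.Helper5RegImm2
import Groth.Agent.Lib.Seat66CharCycFib
import Groth.Agent.Lib.Seat45SmDim
import Groth.Agent.Lib.Helper3LocDimBC
import Groth.Agent.Lib.Helper6SmRegSch3
import Groth.Agent.S5341

/-!
# The diagonal of a smooth variety is a regular immersion of codimension `dim X` (seat 66)

* `exists_regular_ker_of_surjective_length`: the kernel of a surjection of regular local rings
  `A → B` is generated by a regular sequence of length `dim A - dim B`.
* `regAt_of_stalkReg_length`, `isRegularImmersionAt_of_stalkReg_length`: length-tracking versions of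
  the spreading-out lemmas of `Helper5RegImm`, `Helper5RegImm2`.
* `localDim_eq_of_irreducible`: the local dimension of an irreducible scheme locally of finite type
  over a field is its dimension, at every point.
* `isRegularImmersionOfCodim_diagonal`: for `X` integral and smooth over a perfect field, of
  dimension `n`, the diagonal `X → X ×ₖ X` is a regular immersion of codimension `n`.
-/

set_option autoImplicit false
set_option linter.style.haveILetI false
universe u

open AlgebraicGeometry CategoryTheory CategoryTheory.Limits RingTheory.Sequence TopologicalSpace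

namespace Groth.Agent.Lib.Seat66.DiagReg

open Groth.Agent.Lib.Helper5.RegSeq Groth.Agent.Lib.Helper5.RegImm

section Alg

/-- The kernel of a surjection of regular local rings `A → B` is generated by a regular sequence of
length `dim A - dim B`. -/
theorem exists_regular_ker_of_surjective_length {A B : Type u} [CommRing A] [IsRegularLocalRing A]
    [CommRing B] [IsRegularLocalRing B] (π : A →+* B) (hπ : Function.Surjective π) (a b : ℕ)
    (ha : ringKrullDim A = a) (hb : ringKrullDim B = b) :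
    ∃ rs : List A, rs.length + b = a ∧ IsRegular A rs ∧ RingHom.ker π = Ideal.ofList rs := by
  obtain ⟨rs, hreg, hker⟩ :=
    Groth.Agent.Lib.Helper5.RegImmAlg.exists_regular_ker_of_surjective π hπ
  refine ⟨rs, ?_, hreg, hker⟩
  have h1 := ringKrullDim_add_length_eq_ringKrullDim_of_isRegular rs hreg
  have h2 : ringKrullDim (A ⧸ Ideal.ofList rs) = b := by
    rw [← hb, ← hker]
    exact ringKrullDim_eq_of_ringEquiv (RingHom.quotientKerEquivOfSurjective hπ)
  rw [h2, ha] at h1
  have h3 : b + rs.length = a := by exact_mod_cast h1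
  omega

end Alg

section Spread

theorem regAt_of_stalkReg_length {Z W : Scheme.{u}} [IsLocallyNoetherian W] (φ : Z ⟶ W)
    [IsClosedImmersion φ] (z : Z) (rs : List (W.presheaf.stalk (φ z)))
    (hreg : IsRegular (W.presheaf.stalk (φ z)) rs)
    (hker : RingHom.ker (φ.stalkMap z).hom = Ideal.ofList rs) :
    ∃ (U : W.Opens) (hU : IsAffineOpen U), φ z ∈ U ∧ ∃ as : List Γ(W, U),
      as.length = rs.length ∧ IsRegular Γ(W, U) as ∧ φ.ker.ideal ⟨U, hU⟩ = Ideal.ofList as := by
  obtain ⟨U, hU, hz, as, has⟩ := exists_affine_lift W (φ z) rs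
  haveI : IsNoetherianRing Γ(W, U) := IsLocallyNoetherian.component_noetherian ⟨U, hU⟩
  letI alg := (W.presheaf.germ U (φ z) hz).hom.toAlgebra
  haveI loc : IsLocalization.AtPrime (W.presheaf.stalk (φ z))
      (hU.primeIdealOf ⟨φ z, hz⟩).asIdeal := hU.isLocalization_stalk ⟨φ z, hz⟩
  have hmapI : (φ.ker.ideal ⟨U, hU⟩).map (algebraMap Γ(W, U) (W.presheaf.stalk (φ z)))
      = (Ideal.ofList as).map (algebraMap Γ(W, U) (W.presheaf.stalk (φ z))) := by
    have h1 := ker_stalkMap_eq_map_ker φ z U hU hz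
    rw [hker, ← has, ← Ideal.map_ofList] at h1
    exact h1.symm
  obtain ⟨g₁, hg₁, H₁⟩ := exists_notMem_forall_map_le.{u, u} (hU.primeIdealOf ⟨φ z, hz⟩).asIdeal
    (W.presheaf.stalk (φ z)) (IsNoetherian.noetherian (φ.ker.ideal ⟨U, hU⟩)) hmapI.le
  obtain ⟨g₂, hg₂, H₂⟩ := exists_notMem_forall_map_le.{u, u} (hU.primeIdealOf ⟨φ z, hz⟩).asIdeal
    (W.presheaf.stalk (φ z)) (IsNoetherian.noetherian (Ideal.ofList as)) hmapI.ge
  have hregOn : RegOn ((⊥ : Ideal Γ(W, U)).map (algebraMap Γ(W, U) (W.presheaf.stalk (φ z))))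
      (as.map (algebraMap Γ(W, U) (W.presheaf.stalk (φ z)))) := by
    rw [Ideal.map_bot]
    have := (isWeaklyRegular_iff_regOn rs).mp hreg.toIsWeaklyRegular
    rw [← has] at this
    exact this
  obtain ⟨g₃, hg₃, H₃⟩ := exists_notMem_forall_regOn.{u, u} (hU.primeIdealOf ⟨φ z, hz⟩).asIdeal
    (W.presheaf.stalk (φ z)) as ⊥ hregOn
  obtain ⟨f, hf⟩ : ∃ f, f = g₁ * g₂ * g₃ := ⟨_, rfl⟩
  have hfp : f ∉ (hU.primeIdealOf ⟨φ z, hz⟩).asIdeal := by
    rw [hf]
    intro hmem
    rcases Ideal.IsPrime.mem_or_mem inferInstance hmem with h1 | h1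
    · rcases Ideal.IsPrime.mem_or_mem inferInstance h1 with h2 | h2
      · exact hg₁ h2
      · exact hg₂ h2
    · exact hg₃ h1
  have hV : IsAffineOpen (W.basicOpen f) := hU.basicOpen f
  have hzV : φ z ∈ W.basicOpen f := by
    rw [W.mem_basicOpen f (φ z) hz]
    exact (IsLocalization.AtPrime.isUnit_to_map_iff (W.presheaf.stalk (φ z))
      (hU.primeIdealOf ⟨φ z, hz⟩).asIdeal f).mpr hfp
  haveI : IsLocalization.Away f Γ(W, W.basicOpen f) := hU.isLocalization_basicOpen f
  have hfu : IsUnit (algebraMap Γ(W, U) Γ(W, W.basicOpen f) f) :=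
    IsLocalization.Away.algebraMap_isUnit f
  have hfu' : IsUnit (algebraMap Γ(W, U) Γ(W, W.basicOpen f) g₁ *
      algebraMap Γ(W, U) Γ(W, W.basicOpen f) g₂ * algebraMap Γ(W, U) Γ(W, W.basicOpen f) g₃) := by
    rw [← map_mul, ← map_mul, ← hf]
    exact hfu
  have hu₃ : IsUnit (algebraMap Γ(W, U) Γ(W, W.basicOpen f) g₃) := isUnit_of_mul_isUnit_right hfu'
  have hu₁₂ := isUnit_of_mul_isUnit_left hfu'
  have hu₁ : IsUnit (algebraMap Γ(W, U) Γ(W, W.basicOpen f) g₁) := isUnit_of_mul_isUnit_left hu₁₂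
  have hu₂ : IsUnit (algebraMap Γ(W, U) Γ(W, W.basicOpen f) g₂) := isUnit_of_mul_isUnit_right hu₁₂
  have hkerV : φ.ker.ideal ⟨W.basicOpen f, hV⟩
      = Ideal.ofList (as.map (algebraMap Γ(W, U) Γ(W, W.basicOpen f))) := by
    have h1 := φ.ker.map_ideal_basicOpen ⟨U, hU⟩ f
    have h2 : (φ.ker.ideal ⟨U, hU⟩).map (algebraMap Γ(W, U) Γ(W, W.basicOpen f))
        = (Ideal.ofList as).map (algebraMap Γ(W, U) Γ(W, W.basicOpen f)) :=
      le_antisymm (H₁ _ hu₁) (H₂ _ hu₂)
    rw [← Ideal.map_ofList, ← h2]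
    exact h1.symm
  have hw : IsWeaklyRegular Γ(W, W.basicOpen f)
      (as.map (algebraMap Γ(W, U) Γ(W, W.basicOpen f))) := by
    rw [isWeaklyRegular_iff_regOn]
    have := H₃ (Submonoid.powers f) Γ(W, W.basicOpen f) hu₃
    rw [Ideal.map_bot] at this
    exact this
  haveI : Nonempty ↥(φ ⁻¹ᵁ W.basicOpen f) := ⟨⟨z, hzV⟩⟩
  refine ⟨W.basicOpen f, hV, hzV, _, ?_, ⟨hw, ?_⟩, hkerV⟩
  · rw [List.length_map, ← has, List.length_map]
  · rw [smul_eq_mul, Ideal.mul_top, ← hkerV, Scheme.Hom.ker_apply]
    exact (RingHom.ker_ne_top _).symm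

theorem isRegularImmersionAt_of_stalkReg_length {Z X : Scheme.{u}} (i : Z ⟶ X) [IsImmersion i]
    [IsLocallyNoetherian X] (z : Z)
    (rs : List (i.coborderRange.toScheme.presheaf.stalk (i.liftCoborder z)))
    (hreg : IsRegular (i.coborderRange.toScheme.presheaf.stalk (i.liftCoborder z)) rs)
    (hker : RingHom.ker (i.liftCoborder.stalkMap z).hom = Ideal.ofList rs) :
    ∃ U : X.affineOpens, i z ∈ U.1 ∧ IsClosedImmersion (i ∣_ U.1) ∧
      ∃ as : List Γ(X, U.1), as.length = rs.length ∧ IsRegular Γ(X, U.1) as ∧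
        RingHom.ker (i.app U.1).hom = Ideal.ofList as := by
  obtain ⟨U', hU', hzU', as, hlen, hregas, hkeras⟩ :=
    regAt_of_stalkReg_length i.liftCoborder z rs hreg hker
  have hU : IsAffineOpen (i.coborderRange.ι ''ᵁ U') :=
    hU'.image_of_isOpenImmersion i.coborderRange.ι
  have hle : i.coborderRange.ι ''ᵁ U' ≤ i.coborderRange := by
    rintro _ ⟨x, _, rfl⟩
    exact x.2
  have hmem : i z ∈ i.coborderRange.ι ''ᵁ U' := by
    refine ⟨i.liftCoborder z, hzU', ?_⟩
    change (i.liftCoborder ≫ i.coborderRange.ι) z = i z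
    rw [i.liftCoborder_ι]
  refine ⟨⟨i.coborderRange.ι ''ᵁ U', hU⟩, hmem,
    isClosedImmersion_morphismRestrict_of_le_coborderRange i _ hle, as, hlen, hregas, ?_⟩
  rw [Scheme.Hom.ker_apply] at hkeras
  have hinj : Function.Injective
      (Z.presheaf.map (eqToHom (i.liftCoborder_preimage U')).op).hom :=
    (ConcreteCategory.bijective_of_isIso
      (Z.presheaf.map (eqToHom (i.liftCoborder_preimage U')).op)).1
  have e := liftCoborder_app (f := i) U'
  have hcomp : ∀ a : Γ(X, i.coborderRange.ι ''ᵁ U'), (i.liftCoborder.app U').hom a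
      = (Z.presheaf.map (eqToHom (i.liftCoborder_preimage U')).op).hom
        ((i.app (i.coborderRange.ι ''ᵁ U')).hom a) := by
    intro a
    exact congrArg (fun φ => φ.hom a) e
  have key : RingHom.ker (i.app (i.coborderRange.ι ''ᵁ U')).hom
      = RingHom.ker (i.liftCoborder.app U').hom := by
    apply le_antisymm
    · intro a ha
      rw [RingHom.mem_ker] at ha
      exact RingHom.mem_ker.mpr ((hcomp a).trans (by rw [ha, map_zero]))
    · intro a ha
      have ha' : (i.liftCoborder.app U').hom a = 0 := RingHom.mem_ker.mp ha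
      rw [RingHom.mem_ker]
      exact hinj ((hcomp a).symm.trans (ha'.trans (map_zero _).symm))
  exact key.trans hkeras

end Spread

section Dim

open Groth.Agent.Lib.Helper4.VarDim Groth.Agent.Lib.Seat66.CharCycFib

/-- The local dimension of an irreducible scheme locally of finite type over a field equals its
dimension at every point. -/
theorem localDim_eq_of_irreducible (k : Type u) [Field k] (X : Scheme.{u})
    [X.Over (Spec (CommRingCat.of k))]
    [LocallyOfFiniteType (X ↘ Spec (CommRingCat.of k))] [IrreducibleSpace X] (x : X) :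
    FlatMor.localDim X x = topologicalKrullDim X := by
  unfold FlatMor.localDim
  have h : ∀ U : {U : Opens X // x ∈ U},
      topologicalKrullDim (U.1 : Set X) = topologicalKrullDim X := fun U =>
    topologicalKrullDim_opens_eq_of_irreducible k X U.1 ⟨x, U.2⟩
  haveI : Nonempty {U : Opens X // x ∈ U} := ⟨⟨⊤, trivial⟩⟩
  simp_rw [h]
  exact iInf_const

/-- **The diagonal of a smooth variety of dimension `n` is a regular immersion of codimension
`n`.** -/
theorem isRegularImmersionOfCodim_diagonal (K : Type u) [Field K] [PerfectField K]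
    (X : Scheme.{u}) (f : X ⟶ Spec (CommRingCat.of K)) [Smooth f] [IsIntegral X] (n : ℕ)
    (hn : topologicalKrullDim X = n) :
    RegImm.IsRegularImmersionOfCodim RegImm.Kind.regular n (pullback.diagonal f) := by
  classical
  let W : Scheme.{u} := pullback f f
  let g : W ⟶ Spec (CommRingCat.of K) := pullback.fst f f ≫ f
  letI : X.Over (Spec (CommRingCat.of K)) := ⟨f⟩
  letI : W.Over (Spec (CommRingCat.of K)) := ⟨g⟩
  haveI : LocallyOfFiniteType (X ↘ Spec (CommRingCat.of K)) :=
    inferInstanceAs (LocallyOfFiniteType f)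
  haveI : Smooth g := inferInstanceAs (Smooth (pullback.fst f f ≫ f))
  haveI : LocallyOfFiniteType (W ↘ Spec (CommRingCat.of K)) :=
    inferInstanceAs (LocallyOfFiniteType g)
  haveI : IsLocallyNoetherian X := LocallyOfFiniteType.isLocallyNoetherian f
  haveI : IsLocallyNoetherian W := LocallyOfFiniteType.isLocallyNoetherian g
  have hregX : ∀ x : X, IsRegularLocalRing (X.presheaf.stalk x) := fun x =>
    (Groth.Agent.Lib.Helper6.SmRegSch3.mem_smoothLocus_iff_isRegularLocalRing K X f x).mp
      (by rw [f.smoothLocus_eq_top]; trivial)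
  have hregW : ∀ w : W, IsRegularLocalRing (W.presheaf.stalk w) := fun w =>
    (Groth.Agent.Lib.Helper6.SmRegSch3.mem_smoothLocus_iff_isRegularLocalRing K W g w).mp
      (by rw [g.smoothLocus_eq_top]; trivial)
  have hΔg : pullback.diagonal f ≫ (W ↘ Spec (CommRingCat.of K)) =
      (X ↘ Spec (CommRingCat.of K)) := by
    change pullback.diagonal f ≫ pullback.fst f f ≫ f = f
    rw [pullback.diagonal_fst_assoc]
  refine ⟨inferInstance, fun z => ?_⟩
  have hlocX : ∀ x : X, FlatMor.localDim X x = n := fun x =>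
    (localDim_eq_of_irreducible K X x).trans hn
  haveI : Subsingleton ↥(Spec (CommRingCat.of K)) :=
    inferInstanceAs (Subsingleton (PrimeSpectrum K))
  have hfibf : ∀ x : X, FlatMor.fibreDimAt f x = n := fun x =>
    (Groth.Agent.S5341.fibreDimAt_eq_localDim_of_subsingleton f x).trans (hlocX x)
  have hfibfst : ∀ w : W, FlatMor.fibreDimAt (pullback.fst f f) w = n := fun w => by
    rw [Groth.Agent.Lib.Helper3.LocDimBC.fibreDimAt_eq_of_isPullback f f (pullback.snd f f)
      (pullback.fst f f) (IsPullback.of_hasPullback f f).flip w]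
    exact hfibf _
  have hlocW : ∀ w : W, FlatMor.localDim W w = ((n + n : ℕ) : WithBot ℕ∞) := fun w => by
    rw [Groth.Agent.Lib.Seat45.SmDim.localDim_eq_add_of_smooth (pullback.fst f f) w, hlocX,
      hfibfst]
    push_cast
    rfl
  set Δ := pullback.diagonal f with hΔ
  obtain ⟨w, hw⟩ : ∃ w : W, w = (Δ.liftCoborder z).1 := ⟨_, rfl⟩
  have hwz : w = Δ z := by
    rw [hw]
    change (Δ.liftCoborder ≫ Δ.coborderRange.ι) z = Δ z
    rw [Δ.liftCoborder_ι]
  obtain ⟨bW, hbW⟩ := exists_ringKrullDim_stalk_eq K W w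
  obtain ⟨bX, hbX⟩ := exists_ringKrullDim_stalk_eq K X z
  have h1 := localDim_eq_add K W w (trdegNat K W w) bW (trdeg_eq_trdegNat K W w) hbW
  have h2 := localDim_eq_add K X z (trdegNat K X z) bX (trdeg_eq_trdegNat K X z) hbX
  have h3 : trdegNat K X z = trdegNat K W w := by
    rw [hwz]
    exact trdegNat_eq_of_isPreimmersion K Δ hΔg z
  rw [hlocW] at h1
  rw [hlocX] at h2
  have h1' : n + n = trdegNat K W w + bW := by exact_mod_cast h1
  have h2' : n = trdegNat K X z + bX := by exact_mod_cast h2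
  haveI : IsRegularLocalRing (X.presheaf.stalk z) := hregX z
  subst hw
  let e := (Δ.coborderRange.stalkIso (Δ.liftCoborder z)).symm.commRingCatIsoToRingEquiv
  haveI : IsRegularLocalRing (Δ.coborderRange.toScheme.presheaf.stalk (Δ.liftCoborder z)) :=
    @IsRegularLocalRing.of_ringEquiv _ _ (hregW (Δ.liftCoborder z).1) _ _ e
  have hdimA : ringKrullDim (Δ.coborderRange.toScheme.presheaf.stalk (Δ.liftCoborder z)) = bW := by
    rw [← hbW]
    exact (ringKrullDim_eq_of_ringEquiv e).symm
  obtain ⟨rs, hl, hreg, hker⟩ := exists_regular_ker_of_surjective_length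
    (Δ.liftCoborder.stalkMap z).hom (Δ.liftCoborder.stalkMap_surjective z) bW bX hdimA hbX
  obtain ⟨U, hU1, hU2, as, hlas, hregas, hkeras⟩ :=
    isRegularImmersionAt_of_stalkReg_length Δ z rs hreg hker
  exact ⟨U, hU1, hU2, as, by omega, hregas, hkeras⟩

end Dim

end Groth.Agent.Lib.Seat66.DiagReg
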