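import Mathlib

/-!
# `Ext` commutes with localization for finitely generated modules over a Noetherian ring (seat 66)
-/

set_option autoImplicit false
universe u
open CategoryTheory CategoryTheory.Abelian

namespace Groth.Agent.Lib.Seat66.ExtLoc

variable {R : Type u} [CommRing R] (S : Submonoid R)

/-- the localization functor -/
noncomputable abbrev L : ModuleCat.{u} R ⥤ ModuleCat.{u} (Localization S) :=
  ModuleCat.localizedModuleFunctor.{u} S

variable {S}

theorem map_mk {M N : ModuleCat.{u} R} (f : M ⟶ N) (m : M) :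
    (ModuleCat.localizedModuleMap S f).hom (M.localizedModuleMkLinearMap S m) =
      N.localizedModuleMkLinearMap S (f.hom m) := by
  change (IsLocalizedModule.mapExtendScalars S (M.localizedModuleMkLinearMap S)
    (N.localizedModuleMkLinearMap S) (Localization S) f.hom) _ = _
  rw [IsLocalizedModule.mapExtendScalars_apply_apply, IsLocalizedModule.map_apply]

theorem hom_ext_mk {M N : ModuleCat.{u} R} (g₁ g₂ : M.localizedModule S ⟶ N.localizedModule S)
    (h : ∀ m : M, g₁.hom (M.localizedModuleMkLinearMap S m) =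
      g₂.hom (M.localizedModuleMkLinearMap S m)) : g₁ = g₂ := by
  apply ModuleCat.hom_ext
  apply LinearMap.restrictScalars_injective R
  apply IsLocalizedModule.linearMap_ext S (M.localizedModuleMkLinearMap S)
    (N.localizedModuleMkLinearMap S)
  ext m
  exact h m

theorem map_smul' {M N : ModuleCat.{u} R} (r : R) (f : M ⟶ N) :
    ModuleCat.localizedModuleMap S (r • f) =
      algebraMap R (Localization S) r • ModuleCat.localizedModuleMap S f := by
  apply hom_ext_mk
  intro m
  rw [map_mk]
  change _ = algebraMap R (Localization S) r • (ModuleCat.localizedModuleMap S f).hom _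
  rw [map_mk, algebraMap_smul]
  change N.localizedModuleMkLinearMap S (r • f.hom m) = _
  rw [map_smul]

theorem L_map_smul {M N : ModuleCat.{u} R} (r : R) (f : M ⟶ N) :
    (L S).map (r • f) = algebraMap R (Localization S) r • (L S).map f :=
  map_smul' r f

variable (S)

theorem Φ_smul (M N : ModuleCat.{u} R) (i : ℕ) (r : R) (e : Ext M N i) :
    (L S).mapExtAddHom M N i (r • e) =
      algebraMap R (Localization S) r • (L S).mapExtAddHom M N i e := by
  rw [Functor.mapExtAddHom_apply, Functor.mapExtAddHom_apply, Ext.smul_eq_comp_mk₀,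
    Ext.mapExactFunctor_comp, Ext.mapExactFunctor_mk₀, L_map_smul, (L S).map_id,
    Ext.smul_eq_comp_mk₀]

theorem Φ_eq_zero_of_smul_eq_zero (M N : ModuleCat.{u} R) (i : ℕ) (e : Ext M N i) (s : S)
    (h : (s : R) • e = 0) : (L S).mapExtAddHom M N i e = 0 := by
  have h1 := Φ_smul S M N i (s : R) e
  rw [h, map_zero] at h1
  have hu : IsUnit (algebraMap R (Localization S) (s : R)) := IsLocalization.map_units _ s
  exact (hu.smul_eq_zero).mp h1.symm

/-- degree zero: surjectivity up to `S` -/
theorem surj₀ (M N : ModuleCat.{u} R) [Module.FinitePresentation R M]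
    (y : Ext ((L S).obj M) ((L S).obj N) 0) :
    ∃ (e : Ext M N 0) (s : S),
      algebraMap R (Localization S) (s : R) • y = (L S).mapExtAddHom M N 0 e := by
  obtain ⟨φ, rfl⟩ := (Ext.mk₀_bijective _ _).2 y
  let φ' : M.localizedModule S ⟶ N.localizedModule S := φ
  let g : M →ₗ[R] (N.localizedModule S) :=
    (φ'.hom.restrictScalars R) ∘ₗ (M.localizedModuleMkLinearMap S)
  obtain ⟨h, s, hs⟩ := Module.FinitePresentation.exists_lift_of_isLocalizedModule S
    (N.localizedModuleMkLinearMap S) g
  refine ⟨Ext.mk₀ (ModuleCat.ofHom h), s, ?_⟩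
  rw [Functor.mapExtAddHom_apply, Ext.mapExactFunctor_mk₀, ← Ext.mk₀_smul]
  congr 1
  symm
  apply hom_ext_mk
  intro m
  have h1 := LinearMap.congr_fun hs m
  change (ModuleCat.localizedModuleMap S (ModuleCat.ofHom h)).hom _ =
    algebraMap R (Localization S) (s : R) • φ'.hom _
  rw [map_mk, algebraMap_smul]
  exact h1

/-- degree zero: the kernel is the `S`-torsion -/
theorem ker₀ (M N : ModuleCat.{u} R) [Module.Finite R M] (e : Ext M N 0)
    (he : (L S).mapExtAddHom M N 0 e = 0) : ∃ s : S, (s : R) • e = 0 := by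
  obtain ⟨h, rfl⟩ := (Ext.mk₀_bijective _ _).2 e
  rw [Functor.mapExtAddHom_apply, Ext.mapExactFunctor_mk₀] at he
  have h0 : (L S).map h = 0 := by
    apply (Ext.mk₀_bijective _ _).1
    rw [he, Ext.mk₀_zero]
  have hcomp : (N.localizedModuleMkLinearMap S) ∘ₗ h.hom =
      (N.localizedModuleMkLinearMap S) ∘ₗ (0 : M →ₗ[R] N) := by
    ext m
    have h1 := map_mk (S := S) h m
    have h2 : ModuleCat.localizedModuleMap S h = 0 := h0
    rw [h2] at h1
    simp only [LinearMap.comp_apply, LinearMap.zero_apply, map_zero]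
    exact h1.symm
  obtain ⟨s, hs⟩ := Module.Finite.exists_smul_of_comp_eq_of_isLocalizedModule S
    (N.localizedModuleMkLinearMap S) h.hom 0 hcomp
  refine ⟨s, ?_⟩
  rw [← Ext.mk₀_smul]
  have : (s : R) • h = 0 := by
    apply ModuleCat.hom_ext
    rw [smul_zero] at hs
    exact hs
  rw [this, Ext.mk₀_zero]

/-- the localization statement for `Ext^i(M, N)` -/
def Good (M N : ModuleCat.{u} R) (i : ℕ) : Prop :=
  (∀ y : Ext ((L S).obj M) ((L S).obj N) i, ∃ (e : Ext M N i) (s : S),
      algebraMap R (Localization S) (s : R) • y = (L S).mapExtAddHom M N i e) ∧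
  (∀ e : Ext M N i, (L S).mapExtAddHom M N i e = 0 → ∃ s : S, (s : R) • e = 0)

theorem good_zero (M N : ModuleCat.{u} R) [Module.FinitePresentation R M] : Good S M N 0 :=
  ⟨surj₀ S M N, ker₀ S M N⟩

/-- dimension shifting -/
theorem good_succ (T : ShortComplex (ModuleCat.{u} R)) (hT : T.ShortExact) [Projective T.X₂]
    (N : ModuleCat.{u} R) (i : ℕ) (hK : Good S T.X₁ N i) (hP : Good S T.X₂ N i) :
    Good S T.X₃ N (i + 1) := by
  have hFT : (T.map (L S)).ShortExact := hT.map_of_exact (L S)
  have : Projective ((L S).obj T.X₂) := (L S).projective_obj _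
  have hcl : (hT.extClass).mapExactFunctor (L S) = hFT.extClass :=
    Ext.mapExactFunctor_extClass (L S) hT
  have h1i : 1 + i = i + 1 := add_comm 1 i
  refine ⟨fun y => ?_, fun e he => ?_⟩
  · -- surjectivity up to `S`
    have hy0 : (Ext.mk₀ (T.map (L S)).g).comp y (zero_add (i + 1)) = 0 :=
      Ext.eq_zero_of_projective (P := (L S).obj T.X₂) _
    obtain ⟨x₁, hx₁⟩ := Ext.contravariant_sequence_exact₃ hFT _ y hy0 h1i
    obtain ⟨e', s, hs⟩ := hK.1 x₁
    refine ⟨hT.extClass.comp e' h1i, s, ?_⟩
    rw [Functor.mapExtAddHom_apply, Ext.mapExactFunctor_comp, hcl]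
    rw [Functor.mapExtAddHom_apply] at hs
    rw [← hs, Ext.comp_smul]
    exact congrArg _ hx₁.symm
  · -- kernel
    have he0 : (Ext.mk₀ T.g).comp e (zero_add (i + 1)) = 0 :=
      Ext.eq_zero_of_projective (P := T.X₂) _
    obtain ⟨e', he'⟩ := Ext.contravariant_sequence_exact₃ hT _ e he0 h1i
    rw [Functor.mapExtAddHom_apply, ← he', Ext.mapExactFunctor_comp, hcl] at he
    obtain ⟨x₂, hx₂⟩ := Ext.contravariant_sequence_exact₁ hFT _ (e'.mapExactFunctor (L S)) h1i he
    obtain ⟨w, s, hs⟩ := hP.1 x₂
    rw [Functor.mapExtAddHom_apply] at hs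
    have hz : (L S).mapExtAddHom T.X₁ N i ((s : R) • e' - (Ext.mk₀ T.f).comp w (zero_add i)) = 0 := by
      rw [map_sub, Φ_smul, Functor.mapExtAddHom_apply, Functor.mapExtAddHom_apply,
        Ext.mapExactFunctor_comp, Ext.mapExactFunctor_mk₀, ← hs, Ext.comp_smul]
      change _ - algebraMap R (Localization S) (s : R) •
        (Ext.mk₀ (T.map (L S)).f).comp x₂ (zero_add i) = 0
      rw [hx₂]
      exact sub_self _
    obtain ⟨t, ht⟩ := hK.2 _ hz
    refine ⟨t * s, ?_⟩
    rw [smul_sub, sub_eq_zero] at ht
    rw [← he', Submonoid.coe_mul, mul_smul, ← Ext.comp_smul, ← Ext.comp_smul, ht, Ext.comp_smul,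
      hT.extClass_comp_assoc, smul_zero]

/-- `Ext` commutes with localization for finitely generated modules over a Noetherian ring. -/
theorem good_of_finite [IsNoetherianRing R] (N : ModuleCat.{u} R) (i : ℕ) :
    ∀ (M : ModuleCat.{u} R) [Module.Finite R M], Good S M N i := by
  induction i with
  | zero =>
    intro M _
    have : Module.FinitePresentation R M := Module.finitePresentation_of_finite R M
    exact good_zero S M N
  | succ i ih =>
    intro M _
    obtain ⟨n, π, hπ⟩ := Module.Finite.exists_fin' R M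
    have hT : π.shortComplexKer.ShortExact := LinearMap.shortExact_shortComplexKer hπ
    have h1 : Module.Finite R π.shortComplexKer.X₁ :=
      inferInstanceAs (Module.Finite R (LinearMap.ker π))
    have h2 : Module.Finite R π.shortComplexKer.X₂ :=
      inferInstanceAs (Module.Finite R (Fin n → R))
    have h3 : Projective π.shortComplexKer.X₂ :=
      (ModuleCat.of R (Fin n → R)).projective_of_categoryTheory_projective
    exact good_succ S π.shortComplexKer hT N i (ih _) (ih _)

end Groth.Agent.Lib.Seat66.ExtLoc
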