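import Mathlib
import Groth.Agent.Lib.Seat32FinFlatDeg
import Groth.Agent.Lib.Helper5MiracleSch
import Groth.Agent.Lib.Helper4VarDim13
import Groth.Agent.Lib.Helper5RLR3
import Groth.Agent.Lib.Helper4GenFinite4
import Groth.Agent.Lib.Helper7TopDim

/-!
# Degree of a finite flat morphism of integral schemes and cardinality of fibres (helper66)

* `dim_eq_trdegNat_genericPoint`: `dim X = trdeg_k K(X)` for an integral `k`-scheme lft over `k`.
* `trdegNat_eq_of_locallyQuasiFinite`: residue transcendence degrees are preserved by locally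
  quasi-finite `k`-morphisms.
* `flat_of_finite_of_regular`: a finite `k`-morphism of integral regular `k`-schemes mapping generic
  point to generic point is flat (miracle flatness).
* `finrank_eq_of_isFractionRing_of_comp`: `[L:K] = rank_A B` for compatible fraction fields.
* `finrank_app_eq_stalk`: on an affine chart, `rank_{Γ(X,V)} Γ(Y,π⁻¹V)` is the degree of function
  fields.
* `finrank_eq_of_app`: the rank function of a finite flat morphism read on an affine chart.
-/

set_option autoImplicit false
set_option linter.style.haveILetI false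
universe u

open AlgebraicGeometry CategoryTheory CategoryTheory.Limits TopologicalSpace IsLocalRing

namespace Groth.Agent.Lib.Seat66.FibDeg

open Groth.Agent.Lib.Helper4.VarDim

section Dim

variable (k : Type u) [Field k]

theorem dim_eq_trdegNat_genericPoint (X : Scheme.{u}) [X.Over (Spec (CommRingCat.of k))]
    [LocallyOfFiniteType (X ↘ Spec (CommRingCat.of k))] [IsIntegral X] :
    topologicalKrullDim X = ((trdegNat k X (genericPoint X) : ℕ) : WithBot ℕ∞) := by
  rw [← topologicalKrullDim_closure_singleton k X (genericPoint X)]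
  have h : closure ({genericPoint X} : Set X) = Set.univ := (genericPoint_spec X).def
  rw [h, topologicalKrullDim_univ_eq]

theorem trdegNat_eq_of_locallyQuasiFinite {X Y : Scheme.{u}} [X.Over (Spec (CommRingCat.of k))]
    [Y.Over (Spec (CommRingCat.of k))] (f : X ⟶ Y)
    (hf : f ≫ (Y ↘ Spec (CommRingCat.of k)) = (X ↘ Spec (CommRingCat.of k)))
    [LocallyOfFiniteType f] [LocallyQuasiFinite f] (x : X) :
    trdegNat k X x = trdegNat k Y (f x) := by
  have h1 := trdeg_add_trdeg_residueFieldMap k f hf x
  rw [trdeg_residueFieldMap_eq_zero_of_locallyQuasiFinite f x, add_zero] at h1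
  unfold trdegNat
  rw [h1]

/-- Miracle flatness for finite morphisms of regular integral `k`-schemes. -/
theorem flat_of_finite_of_regular {X Y : Scheme.{u}} [X.Over (Spec (CommRingCat.of k))]
    [Y.Over (Spec (CommRingCat.of k))] [IsIntegral X] [IsIntegral Y]
    [LocallyOfFiniteType (X ↘ Spec (CommRingCat.of k))]
    [LocallyOfFiniteType (Y ↘ Spec (CommRingCat.of k))]
    (hregX : ∀ x : X, IsRegularLocalRing (X.presheaf.stalk x))
    (hregY : ∀ y : Y, IsRegularLocalRing (Y.presheaf.stalk y))
    (π : Y ⟶ X) (hπ : π ≫ (X ↘ Spec (CommRingCat.of k)) = (Y ↘ Spec (CommRingCat.of k)))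
    [IsFinite π] (e : π (genericPoint Y) = genericPoint X) : Flat π := by
  haveI : LocallyOfFiniteType (π ≫ (X ↘ Spec (CommRingCat.of k))) := by rw [hπ]; infer_instance
  haveI : LocallyOfFiniteType π := locallyOfFiniteType_of_comp π (X ↘ Spec (CommRingCat.of k))
  set n := trdegNat k Y (genericPoint Y) with hn
  have hY : topologicalKrullDim Y = ((n : ℕ) : WithBot ℕ∞) := dim_eq_trdegNat_genericPoint k Y
  have hX : topologicalKrullDim X = ((n : ℕ) : WithBot ℕ∞) := by
    rw [dim_eq_trdegNat_genericPoint k X, ← e, ← trdegNat_eq_of_locallyQuasiFinite k π hπ]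
  refine Groth.Agent.Lib.Helper5.MiracleSch.flat_of_equidim k (X ↘ Spec (CommRingCat.of k)) π
    hregX (fun y => ?_) n n le_rfl ?_ ?_ ?_
  · haveI := hregY y
    exact Groth.Agent.Lib.Helper5.isCohenMacaulayLocalRing_of_isRegularLocalRing _
  · intro Z hZ
    rw [irreducibleComponents_eq_singleton] at hZ
    rw [Set.mem_singleton_iff.mp hZ, topologicalKrullDim_univ_eq, hY]
  · intro Z hZ
    rw [irreducibleComponents_eq_singleton] at hZ
    rw [Set.mem_singleton_iff.mp hZ, topologicalKrullDim_univ_eq, hX]
  · intro y Z hZ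
    haveI hdisc : DiscreteTopology (π ⁻¹' {y}) := (π.isDiscrete_preimage_singleton y).to_subtype
    have hne : Z.Nonempty := hZ.prop.nonempty
    haveI : Nonempty Z := hne.to_subtype
    rw [Nat.sub_self]
    exact le_antisymm (topologicalKrullDim_zero_of_discreteTopology Z)
      Groth.Agent.Lib.Helper7.TopDim.topologicalKrullDim_nonneg

end Dim

section Frac

theorem finrank_eq_of_isFractionRing_of_comp {A B K L : Type*} [CommRing A] [CommRing B]
    [CommRing K] [CommRing L] [Algebra A B] [Algebra A K] [Algebra B L] [IsFractionRing A K]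
    [IsFractionRing B L] (ψ : K →+* L)
    (h : ψ.comp (algebraMap A K) = (algebraMap B L).comp (algebraMap A B)) :
    (letI := ψ.toAlgebra; Module.finrank K L) = Module.finrank A B := by
  letI := ψ.toAlgebra
  letI : Algebra A L := ((algebraMap K L).comp (algebraMap A K)).toAlgebra
  haveI : IsScalarTower A K L := IsScalarTower.of_algebraMap_eq' rfl
  haveI : IsScalarTower A B L := IsScalarTower.of_algebraMap_eq' h
  exact IsFractionRing.finrank_eq A K B L

end Frac


section Rank

open Groth.Agent.Lib.Seat32.FinFlatDeg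

/-- flatness on affine charts of a finite flat morphism. -/
theorem flat_app {X Y : Scheme.{u}} (f : Y ⟶ X) [IsFinite f] [Flat f] {V : X.Opens}
    (hV : IsAffineOpen V) : (f.app V).hom.Flat := by
  haveI : IsAffine ((f ⁻¹ᵁ V : Y.Opens) : Scheme.{u}) := hV.preimage f
  haveI : IsAffine ((V : X.Opens) : Scheme.{u}) := hV
  exact (appTop_restrict_iff f RingHom.Flat.respectsIso V).mp (f ∣_ V).flat_appTop

/-- The rank function of a finite flat morphism can be read on an affine chart. -/
theorem finrank_eq_of_app {X Y : Scheme.{u}} (f : Y ⟶ X) [IsFinite f] [Flat f] {V : X.Opens}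
    (hV : IsAffineOpen V) (d : ℕ) (h : ∀ p, (f.app V).hom.finrank p = d) (y : X) (hy : y ∈ V) :
    f.finrank y = d := by
  haveI : IsAffine ((f ⁻¹ᵁ V : Y.Opens) : Scheme.{u}) := hV.preimage f
  haveI : IsAffine ((V : X.Opens) : Scheme.{u}) := hV
  have hfl : (f.app V).hom.Flat :=
    (appTop_restrict_iff f RingHom.Flat.respectsIso V).mp (f ∣_ V).flat_appTop
  have hfi : (f.app V).hom.Finite :=
    (appTop_restrict_iff f RingHom.finite_respectsIso V).mp (f ∣_ V).finite_appTop
  have hQ : RankQ d (f ∣_ V).appTop.hom :=
    (appTop_restrict_iff f (rankQ_respectsIso d) V).mpr ⟨hfi, hfl, h⟩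
  have h1 := Scheme.Hom.finrank_of_isPullback _ _ _ _ (isPullback_morphismRestrict f V).flip
    (⟨y, hy⟩ : V)
  have h2 : f.finrank (V.ι ⟨y, hy⟩) = f.finrank y := rfl
  rw [← h2, ← h1, finrank_eq_of_isAffine']
  exact hQ.2.2 _

/-- For a finite flat ring map of domains all ranks are the rank of the module. -/
theorem ringHom_finrank_eq_finrank {A B : Type u} [CommRing A] [CommRing B] [IsDomain A]
    [Algebra A B] [Module.Finite A B] [Module.Flat A B] (p : PrimeSpectrum A) :
    (algebraMap A B).finrank p = Module.finrank A B := by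
  rw [RingHom.finrank_algebraMap, Module.rankAtStalk_eq]
  exact Ideal.finrank_fiber_eq_finrank p.asIdeal

end Rank

section Restrict

/-- properties local on the target are inherited by restrictions to smaller opens. -/
theorem morphismRestrict_of_le {P : MorphismProperty Scheme.{u}} [IsZariskiLocalAtTarget P]
    {X Y : Scheme.{u}} (f : X ⟶ Y) {V W : Y.Opens} (hle : W ≤ V) (hP : P (f ∣_ V)) :
    P (f ∣_ W) := by
  have h1 : P (f ∣_ V ∣_ (V.ι ⁻¹ᵁ W)) := IsZariskiLocalAtTarget.restrict hP _
  have e1 := morphismRestrictRestrict f V (V.ι ⁻¹ᵁ W)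
  have hV : V.ι ''ᵁ (V.ι ⁻¹ᵁ W) = W := by
    rw [Scheme.Hom.image_preimage_eq_opensRange_inf, Scheme.Opens.opensRange_ι]
    exact inf_eq_right.mpr hle
  have e2 := morphismRestrictEq f hV
  exact (P.arrow_mk_iso_iff (e1 ≪≫ e2)).mp h1

end Restrict

section FunctionField

/-- the residue field at the generic point is the fraction field of any affine chart. -/
theorem isFractionRing_residueField {X : Scheme.{u}} [IsIntegral X] {U : X.Opens}
    (hU : IsAffineOpen U) (x : X) (hx : x ∈ U) (hgen : x = genericPoint X) :
    letI := (X.evaluation U x hx).hom.toAlgebra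
    IsFractionRing Γ(X, U) (X.residueField x) := by
  subst hgen
  haveI : Nonempty U := ⟨⟨_, hx⟩⟩
  letI := (X.evaluation U (genericPoint X) hx).hom.toAlgebra
  haveI := functionField_isFractionRing_of_isAffineOpen X U hU
  have hbij : Function.Bijective (X.residue (genericPoint X)).hom :=
    Groth.Agent.Lib.Helper4.GenFinite.residue_bijective_of_isField
      (Field.toIsField X.functionField)
  let e : X.functionField ≃ₐ[Γ(X, U)] X.residueField (genericPoint X) :=
    { RingEquiv.ofBijective (X.residue (genericPoint X)).hom hbij with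
      commutes' := fun a => rfl }
  exact IsLocalization.isLocalization_of_algEquiv _ e

/-- on an affine chart, the rank of sections is the degree of function fields (stalk form). -/
theorem finrank_app_eq_stalk {X Y : Scheme.{u}} [IsIntegral X] [IsIntegral Y] (π : Y ⟶ X)
    (e : π (genericPoint Y) = genericPoint X) {V : X.Opens} (hV : IsAffineOpen V)
    (hU : IsAffineOpen (π ⁻¹ᵁ V)) (hη : genericPoint X ∈ V) :
    (letI := (π.app V).hom.toAlgebra; Module.finrank Γ(X, V) Γ(Y, π ⁻¹ᵁ V)) =
      (letI := (X.presheaf.stalkSpecializes (specializes_of_eq e) ≫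
          π.stalkMap (genericPoint Y)).hom.toAlgebra;
        Module.finrank (X.presheaf.stalk (genericPoint X)) (Y.presheaf.stalk (genericPoint Y))) := by
  have hη' : genericPoint Y ∈ π ⁻¹ᵁ V := by
    change π (genericPoint Y) ∈ V
    rw [e]; exact hη
  haveI : Nonempty V := ⟨⟨_, hη⟩⟩
  haveI : Nonempty (π ⁻¹ᵁ V : Y.Opens) := ⟨⟨_, hη'⟩⟩
  letI := (π.app V).hom.toAlgebra
  haveI := functionField_isFractionRing_of_isAffineOpen X V hV
  haveI := functionField_isFractionRing_of_isAffineOpen Y (π ⁻¹ᵁ V) hU
  refine (finrank_eq_of_isFractionRing_of_comp (A := Γ(X, V)) (B := Γ(Y, π ⁻¹ᵁ V))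
    (K := X.functionField) (L := Y.functionField)
    (X.presheaf.stalkSpecializes (specializes_of_eq e) ≫ π.stalkMap (genericPoint Y)).hom ?_).symm
  have h1 : X.presheaf.germ V (genericPoint X) hη ≫
      X.presheaf.stalkSpecializes (specializes_of_eq e) ≫ π.stalkMap (genericPoint Y) =
      π.app V ≫ Y.presheaf.germ (π ⁻¹ᵁ V) (genericPoint Y) hη' := by
    rw [← Category.assoc, TopCat.Presheaf.germ_stalkSpecializes, Scheme.Hom.germ_stalkMap]
  exact congrArg CommRingCat.Hom.hom h1

/-- on an affine chart, the rank of sections is the degree of function fields (residue field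
form). -/
theorem finrank_app_eq_residueField {X Y : Scheme.{u}} [IsIntegral X] [IsIntegral Y] (f : X ⟶ Y)
    (e : f (genericPoint X) = genericPoint Y) {V : Y.Opens} (hV : IsAffineOpen V)
    (hU : IsAffineOpen (f ⁻¹ᵁ V)) (hη : genericPoint Y ∈ V) :
    (letI := (f.app V).hom.toAlgebra; Module.finrank Γ(Y, V) Γ(X, f ⁻¹ᵁ V)) =
      (letI := (f.residueFieldMap (genericPoint X)).hom.toAlgebra;
        Module.finrank (Y.residueField (f (genericPoint X))) (X.residueField (genericPoint X))) := by
  have hη' : f (genericPoint X) ∈ V := by rw [e]; exact hη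
  letI := (f.app V).hom.toAlgebra
  letI := (Y.evaluation V (f (genericPoint X)) hη').hom.toAlgebra
  letI := (X.evaluation (f ⁻¹ᵁ V) (genericPoint X) hη').hom.toAlgebra
  haveI := isFractionRing_residueField hV (f (genericPoint X)) hη' e
  haveI := isFractionRing_residueField hU (genericPoint X) hη' rfl
  refine (finrank_eq_of_isFractionRing_of_comp (A := Γ(Y, V)) (B := Γ(X, f ⁻¹ᵁ V))
    (K := Y.residueField (f (genericPoint X))) (L := X.residueField (genericPoint X))
    (f.residueFieldMap (genericPoint X)).hom ?_).symm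
  exact congrArg CommRingCat.Hom.hom (Scheme.evaluation_naturality f (genericPoint X) hη')

end FunctionField

section Unramified

attribute [local instance] Curv2.resAlgebra

/-- at a point where `π` is unramified, `O_q / 𝔪_{π q} O_q` has length one. -/
theorem length_quot_map_maximalIdeal_eq_one {X Y : Scheme.{u}} (π : Y ⟶ X)
    [LocallyOfFiniteType π] [FormallyUnramified π] (q : Y) :
    Module.length (Y.presheaf.stalk q) (Y.presheaf.stalk q ⧸
      Ideal.map (π.stalkMap q).hom (maximalIdeal (X.presheaf.stalk (π q)))) = 1 := by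
  algebraize [(π.stalkMap q).hom]
  haveI : IsLocalHom (algebraMap (X.presheaf.stalk (π q)) (Y.presheaf.stalk q)) :=
    inferInstanceAs <| IsLocalHom (π.stalkMap q).hom
  haveI : Algebra.EssFiniteType (X.presheaf.stalk (π q)) (Y.presheaf.stalk q) := by
    rw [← RingHom.essFiniteType_algebraMap, RingHom.algebraMap_toAlgebra]
    exact LocallyOfFiniteType.stalkMap π q
  haveI : Algebra.FormallyUnramified (X.presheaf.stalk (π q)) (Y.presheaf.stalk q) := by
    rw [← RingHom.formallyUnramified_algebraMap, RingHom.algebraMap_toAlgebra]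
    exact FormallyUnramified.stalkMap π q
  have h := Algebra.FormallyUnramified.map_maximalIdeal (R := X.presheaf.stalk (π q))
    (S := Y.presheaf.stalk q)
  rw [RingHom.algebraMap_toAlgebra] at h
  rw [h, Module.length_eq_one_iff, isSimpleModule_iff_isCoatom, ← Ideal.isMaximal_def]
  infer_instance

/-- over an algebraically closed field, residue degrees at points over closed points are one. -/
theorem residueDegree_eq_one_of_isClosed (k : Type u) [Field k] [IsAlgClosed k] {X Y : Scheme.{u}}
    [X.Over (Spec (CommRingCat.of k))] [LocallyOfFiniteType (X ↘ Spec (CommRingCat.of k))]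
    (π : Y ⟶ X) [IsFinite π] (q : Y) (hp : IsClosed ({π q} : Set X)) :
    π.residueDegree q = 1 := by
  letI := (π.residueFieldMap q).hom.toAlgebra
  have hpos : 0 < π.residueDegree q := Groth.Agent.Lib.Seat32.FinFlatDeg.residueDegree_pos π q
  haveI : Module.Finite (X.residueField (π q)) (Y.residueField q) :=
    Module.finite_of_finrank_pos hpos
  have htr := trdeg_eq_zero_of_isClosed k X (π q) hp
  haveI : Algebra.IsAlgebraic k (X.residueField (π q)) := trdeg_eq_zero_iff.mp htr
  have hbij : Function.Bijective (algebraMap k (X.residueField (π q))) :=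
    IsAlgClosed.algebraMap_bijective_of_isIntegral
  haveI : IsAlgClosed (X.residueField (π q)) :=
    IsAlgClosed.of_ringEquiv (k := k) (X.residueField (π q))
      (RingEquiv.ofBijective (algebraMap k (X.residueField (π q))) hbij)
  have hbij2 : Function.Bijective (algebraMap (X.residueField (π q)) (Y.residueField q)) :=
    IsAlgClosed.algebraMap_bijective_of_isIntegral
  unfold Scheme.Hom.residueDegree
  rw [← (LinearEquiv.ofBijective (Algebra.linearMap (X.residueField (π q)) (Y.residueField q))
    hbij2).finrank_eq]
  exact Module.finrank_self _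

end Unramified

end Groth.Agent.Lib.Seat66.FibDeg
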