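import Mathlib
import Groth.Agent.Lib.Seat66FibDeg
import Groth.Agent.Lib.Seat14GenFlatRed
import Groth.Agent.Lib.Seat46UBFField
import Groth.Agent.Lib.Helper4VarDim7
import Groth.Agent.S2080

/-!
# Generic degree of a dominant morphism of integral `k`-schemes of the same dimension (helper66)

* `preimage_genericPoint_eq`: the fibre over the generic point is the generic point.
* `exists_affine_finite_flat`: an affine open around the generic point of the target over which the
  morphism is finite and flat.
* `finrank_morphismRestrict_eq`: its rank there is the degree of function fields.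
* `isPullback_restrict`: the fibre of `f` over `y ∈ W` is the fibre of `f ∣_ W`.
* `finrank_eq_finrank_Γ`: rank of a finite scheme over a field is the dimension of global sections.
-/

set_option autoImplicit false
set_option linter.style.haveILetI false
universe u

open AlgebraicGeometry CategoryTheory CategoryTheory.Limits TopologicalSpace IsLocalRing

namespace Groth.Agent.Lib.Seat66.FibDegGen

open Groth.Agent.Lib.Helper4.VarDim Groth.Agent.Lib.Helper4.GenFinite Groth.Agent.Lib.Seat66.FibDeg
open Groth.Agent.Lib.Seat32.FinFlatDeg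

section Generic

variable (k : Type u) [Field k] {X Y : Scheme.{u}} [X.Over (Spec (CommRingCat.of k))]
  [Y.Over (Spec (CommRingCat.of k))]
  [LocallyOfFiniteType (X ↘ Spec (CommRingCat.of k))]
  [LocallyOfFiniteType (Y ↘ Spec (CommRingCat.of k))]
  [IsIntegral X] [IsIntegral Y]

theorem preimage_genericPoint_eq (f : X ⟶ Y) [IsDominant f]
    (hf : f ≫ (Y ↘ Spec (CommRingCat.of k)) = X ↘ Spec (CommRingCat.of k))
    (hdim : topologicalKrullDim X = topologicalKrullDim Y) :
    f ⁻¹' {genericPoint Y} = {genericPoint X} := by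
  have hgen := map_genericPoint_of_isDominant f
  apply Set.Subset.antisymm
  · intro x hx
    have hx' : f x = genericPoint Y := hx
    by_contra hne
    have hne' : genericPoint X ≠ x := fun h => hne (by rw [← h]; rfl)
    have hsp : genericPoint X ⤳ x := (genericPoint_spec X).specializes (Set.mem_univ x)
    have h1 := trdegNat_lt_of_specializes k X _ _ hsp hne'
    have h2 := trdegNat_le_of_hom k f hf x
    rw [hx'] at h2
    have h3 := dim_eq_trdegNat_genericPoint k X
    have h4 := dim_eq_trdegNat_genericPoint k Y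
    rw [hdim, h4] at h3
    have h5 : trdegNat k Y (genericPoint Y) = trdegNat k X (genericPoint X) := by
      exact_mod_cast h3
    omega
  · rintro x rfl
    exact hgen

theorem exists_affine_finite_flat [QuasiCompact (X ↘ Spec (CommRingCat.of k))]
    (f : X ⟶ Y) [IsDominant f]
    (hf : f ≫ (Y ↘ Spec (CommRingCat.of k)) = X ↘ Spec (CommRingCat.of k))
    (hdim : topologicalKrullDim X = topologicalKrullDim Y) :
    ∃ W : Y.Opens, IsAffineOpen W ∧ genericPoint Y ∈ W ∧ IsFinite (f ∣_ W) ∧ Flat (f ∣_ W) := by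
  haveI : LocallyOfFiniteType (f ≫ (Y ↘ Spec (CommRingCat.of k))) := by rw [hf]; infer_instance
  haveI : LocallyOfFiniteType f := locallyOfFiniteType_of_comp f (Y ↘ Spec (CommRingCat.of k))
  haveI : IsLocallyNoetherian X :=
    LocallyOfFiniteType.isLocallyNoetherian (X ↘ Spec (CommRingCat.of k))
  haveI : IsLocallyNoetherian Y :=
    LocallyOfFiniteType.isLocallyNoetherian (Y ↘ Spec (CommRingCat.of k))
  haveI : CompactSpace X :=
    QuasiCompact.compactSpace_of_compactSpace (X ↘ Spec (CommRingCat.of k))
  haveI : QuasiCompact f := quasiCompact_of_compactSpace f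
  haveI : QuasiSeparated f := QuasiSeparated.of_quasiSeparatedSpace f
  have hfib : (f ⁻¹' {genericPoint Y}).Finite := by
    rw [preimage_genericPoint_eq k f hf hdim]; exact Set.finite_singleton _
  have hη : closure {genericPoint Y} ∈ irreducibleComponents (Y : Type u) := by
    have h : closure ({genericPoint Y} : Set Y) = Set.univ := (genericPoint_spec Y).def
    rw [h, irreducibleComponents_eq_singleton]; rfl
  obtain ⟨V, hV, hηV, hVfin⟩ := (Groth.Agent.S2080.result f (genericPoint Y) hη).mp hfib
  obtain ⟨U₁, hU₁, hU₁flat, -⟩ := Groth.Agent.Lib.Seat14.GenFlatRed.generic_flatness f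
  have hηU₁ : genericPoint Y ∈ U₁ := by
    refine ((genericPoint_spec Y).mem_open_set_iff U₁.isOpen).mpr ?_
    obtain ⟨y, hy⟩ := hU₁.nonempty_iff.mpr inferInstance
    exact ⟨y, trivial, hy⟩
  obtain ⟨W, hW, hηW, hWle⟩ := exists_isAffineOpen_mem_and_subset (X := Y) (U := V ⊓ U₁)
    (x := genericPoint Y) ⟨hηV, hηU₁⟩
  exact ⟨W, hW, hηW, morphismRestrict_of_le (P := @IsFinite) f (hWle.trans inf_le_left) hVfin,
    morphismRestrict_of_le (P := @Flat) f (hWle.trans inf_le_right) hU₁flat⟩

end Generic

section Rank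

theorem finrank_morphismRestrict_eq {X Y : Scheme.{u}} [IsIntegral X] [IsIntegral Y] (f : X ⟶ Y)
    (e : f (genericPoint X) = genericPoint Y) {W : Y.Opens} (hW : IsAffineOpen W)
    (hη : genericPoint Y ∈ W) [IsFinite (f ∣_ W)] [Flat (f ∣_ W)] (w : W) :
    (f ∣_ W).finrank w =
      (letI := (f.residueFieldMap (genericPoint X)).hom.toAlgebra;
        Module.finrank (Y.residueField (f (genericPoint X))) (X.residueField (genericPoint X))) := by
  haveI : IsAffine ((W : Y.Opens) : Scheme.{u}) := hW
  haveI hU' : IsAffine ((f ⁻¹ᵁ W : X.Opens) : Scheme.{u}) := isAffine_of_isAffineHom (f ∣_ W)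
  have hU : IsAffineOpen (f ⁻¹ᵁ W) := hU'
  haveI : Nonempty W := ⟨⟨_, hη⟩⟩
  have hfl : (f.app W).hom.Flat :=
    (appTop_restrict_iff f RingHom.Flat.respectsIso W).mp (f ∣_ W).flat_appTop
  have hfi : (f.app W).hom.Finite :=
    (appTop_restrict_iff f RingHom.finite_respectsIso W).mp (f ∣_ W).finite_appTop
  set d := (letI := (f.residueFieldMap (genericPoint X)).hom.toAlgebra;
        Module.finrank (Y.residueField (f (genericPoint X))) (X.residueField (genericPoint X)))
    with hd
  have hQ : RankQ d (f ∣_ W).appTop.hom := by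
    refine (appTop_restrict_iff f (rankQ_respectsIso d) W).mpr ⟨hfi, hfl, fun p => ?_⟩
    letI := (f.app W).hom.toAlgebra
    haveI : Module.Finite Γ(Y, W) Γ(X, f ⁻¹ᵁ W) := hfi
    haveI : Module.Flat Γ(Y, W) Γ(X, f ⁻¹ᵁ W) := hfl
    have h1 := ringHom_finrank_eq_finrank (A := Γ(Y, W)) (B := Γ(X, f ⁻¹ᵁ W)) p
    rw [RingHom.algebraMap_toAlgebra] at h1
    rw [h1, finrank_app_eq_residueField f e hW hU hη]
  rw [finrank_eq_of_isAffine']
  exact hQ.2.2 _

end Rank

section Fibre

theorem isPullback_restrict {X Y : Scheme.{u}} (f : X ⟶ Y) (W : Y.Opens) (y : Y) (hy : y ∈ W) :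
    ∃ (fst' : pullback f (Y.fromSpecResidueField y) ⟶ (f ⁻¹ᵁ W).toScheme)
      (g' : Spec (Y.residueField y) ⟶ W.toScheme),
      IsPullback fst' (pullback.snd f (Y.fromSpecResidueField y)) (f ∣_ W) g' := by
  have hj : Set.range (Y.fromSpecResidueField y) ⊆ Set.range W.ι := by
    rw [Scheme.range_fromSpecResidueField, Scheme.Opens.range_ι]
    exact Set.singleton_subset_iff.mpr hy
  let g' := IsOpenImmersion.lift W.ι (Y.fromSpecResidueField y) hj
  have hg' : g' ≫ W.ι = Y.fromSpecResidueField y := IsOpenImmersion.lift_fac _ _ _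
  have hfst : Set.range (pullback.fst f (Y.fromSpecResidueField y)) ⊆
      Set.range (f ⁻¹ᵁ W).ι := by
    rintro _ ⟨z, rfl⟩
    rw [Scheme.Opens.range_ι]
    change f (pullback.fst f (Y.fromSpecResidueField y) z) ∈ W
    rw [← Scheme.Hom.comp_apply, pullback.condition, Scheme.Hom.comp_apply]
    have : (Y.fromSpecResidueField y) (pullback.snd f (Y.fromSpecResidueField y) z) ∈
        Set.range (Y.fromSpecResidueField y) := ⟨_, rfl⟩
    rw [Scheme.range_fromSpecResidueField] at this
    rw [Set.mem_singleton_iff.mp this]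
    exact hy
  let fst' := IsOpenImmersion.lift (f ⁻¹ᵁ W).ι (pullback.fst f (Y.fromSpecResidueField y)) hfst
  have hfst' : fst' ≫ (f ⁻¹ᵁ W).ι = pullback.fst f (Y.fromSpecResidueField y) :=
    IsOpenImmersion.lift_fac _ _ _
  refine ⟨fst', g', ?_⟩
  have hcomm : fst' ≫ (f ∣_ W) = pullback.snd f (Y.fromSpecResidueField y) ≫ g' := by
    rw [← cancel_mono W.ι, Category.assoc, Category.assoc, hg', morphismRestrict_ι,
      ← Category.assoc, hfst']
    exact pullback.condition
  refine IsPullback.of_right ?_ hcomm (isPullback_morphismRestrict f W).flip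
  rw [hfst', hg']
  exact IsPullback.of_hasPullback _ _

open Groth.Agent.Lib.Seat46.UBFField in
theorem finrank_eq_finrank_Γ {T : Scheme.{u}} {K : Type u} [Field K]
    (c : T ⟶ Spec (CommRingCat.of K)) [IsFinite c] (s : Spec (CommRingCat.of K)) :
    c.finrank s = (letI := (ringMap c).hom.toAlgebra; Module.finrank K Γ(T, ⊤)) := by
  obtain ⟨hT, hfin, hle⟩ := (isFinite_and_finrank_le_iff c (c.finrank s)).mp
    ⟨inferInstance, fun s' => by rw [Subsingleton.elim s' s]⟩
  refine le_antisymm ?_ hle
  exact ((isFinite_and_finrank_le_iff c _).mpr ⟨hT, hfin, le_rfl⟩).2 s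

end Fibre

end Groth.Agent.Lib.Seat66.FibDegGen
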