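import Mathlib
import Groth.Agent.Lib.Seat66FibDegGen
import Groth.Agent.Lib.Helper6SmRegSch2

/-!
# Fibre ranks of quasi-finite morphisms of regular varieties, part 1 (helper66)

* `map_eq_genericPoint_of_maximal`: flat morphisms map maximal points to the generic point.
* `dim_irreducibleComponent_of_flat_lqf`: a `k`-scheme flat and locally quasi-finite over an
  integral `k`-scheme of dimension `n` is equidimensional of dimension `n`.
* `flat_of_finite_of_etale`: miracle flatness for a finite morphism `V → U` with `V`, `U` étale over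
  regular integral `k`-schemes of the same dimension.
-/

set_option autoImplicit false
set_option linter.style.haveILetI false
universe u

open AlgebraicGeometry CategoryTheory CategoryTheory.Limits TopologicalSpace IsLocalRing

namespace Groth.Agent.Lib.Seat66.FibDegLe

open Groth.Agent.Lib.Helper4.VarDim Groth.Agent.Lib.Seat66.FibDeg

theorem map_eq_genericPoint_of_maximal {W Z : Scheme.{u}} [IrreducibleSpace Z] (g : W ⟶ Z)
    [Flat g] (ζ : W) (hζ : ∀ z : W, z ⤳ ζ → z = ζ) : g ζ = genericPoint Z := by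
  have hsp : genericPoint Z ⤳ g ζ := (genericPoint_spec Z).specializes (Set.mem_univ _)
  obtain ⟨ζ', hζ', hg⟩ := Flat.generalizingMap g hsp
  rw [hζ ζ' hζ'] at hg
  exact hg

section Dim

variable (k : Type u) [Field k]

theorem dim_irreducibleComponent_of_flat_lqf {W Z : Scheme.{u}} [W.Over (Spec (CommRingCat.of k))]
    [Z.Over (Spec (CommRingCat.of k))] [IsIntegral Z]
    [LocallyOfFiniteType (Z ↘ Spec (CommRingCat.of k))]
    [LocallyOfFiniteType (W ↘ Spec (CommRingCat.of k))] (g : W ⟶ Z)
    (hg : g ≫ (Z ↘ Spec (CommRingCat.of k)) = W ↘ Spec (CommRingCat.of k))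
    [Flat g] [LocallyOfFiniteType g] [LocallyQuasiFinite g] (n : ℕ)
    (hn : topologicalKrullDim Z = ((n : ℕ) : WithBot ℕ∞)) :
    ∀ T ∈ irreducibleComponents (W : Type u), topologicalKrullDim T = ((n : ℕ) : WithBot ℕ∞) := by
  intro T hT
  have hTirr : IsIrreducible T := hT.prop
  have hTcl : IsClosed T := isClosed_of_mem_irreducibleComponents T hT
  obtain ⟨ζ, hζ⟩ := QuasiSober.sober hTirr hTcl
  have hζT : closure ({ζ} : Set W) = T := hζ.def
  have hmax : ∀ z : W, z ⤳ ζ → z = ζ := by
    intro z hz
    have h1 : T ⊆ closure ({z} : Set W) := by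
      rw [← hζT]
      exact closure_minimal (Set.singleton_subset_iff.mpr hz.mem_closure) isClosed_closure
    have h2 : closure ({z} : Set W) = T :=
      (hT.eq_of_ge isIrreducible_singleton.closure h1)
    have h3 : z ∈ closure ({ζ} : Set W) := by
      rw [hζT, ← h2]; exact subset_closure rfl
    exact ((specializes_iff_mem_closure.mpr h3).antisymm hz).eq.symm
  have hgen := map_eq_genericPoint_of_maximal g ζ hmax
  rw [← hζT, topologicalKrullDim_closure_singleton k W ζ,
    trdegNat_eq_of_locallyQuasiFinite k g hg ζ, hgen, ← dim_eq_trdegNat_genericPoint k Z, hn]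

end Dim

section Flat

variable (k : Type u) [Field k]

/-- Miracle flatness after étale localisation: if `X`, `Y` are regular integral `k`-schemes of the
same dimension, `f : X ⟶ Y` a `k`-morphism, `g : U ⟶ Y` étale and `V` an open of `X ×_Y U` finite
over `U`, then `V` is flat over `U`. -/
theorem flat_of_finite_of_etale {X Y : Scheme.{u}} [X.Over (Spec (CommRingCat.of k))]
    [Y.Over (Spec (CommRingCat.of k))] [IsIntegral X] [IsIntegral Y]
    [LocallyOfFiniteType (X ↘ Spec (CommRingCat.of k))]
    [LocallyOfFiniteType (Y ↘ Spec (CommRingCat.of k))]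
    (f : X ⟶ Y) (hf : f ≫ (Y ↘ Spec (CommRingCat.of k)) = X ↘ Spec (CommRingCat.of k))
    (hdim : topologicalKrullDim X = topologicalKrullDim Y)
    (hX : ∀ x : X, IsRegularLocalRing (X.presheaf.stalk x))
    (hY : ∀ y : Y, IsRegularLocalRing (Y.presheaf.stalk y))
    {U : Scheme.{u}} (g : U ⟶ Y) [Etale g] (V : (pullback f g).Opens)
    [IsFinite (V.ι ≫ pullback.snd f g)] : Flat (V.ι ≫ pullback.snd f g) := by
  set h := V.ι ≫ pullback.snd f g with hh
  set a := V.ι ≫ pullback.fst f g with ha
  haveI : Etale a := by rw [ha]; infer_instance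
  letI : U.Over (Spec (CommRingCat.of k)) := ⟨g ≫ (Y ↘ Spec (CommRingCat.of k))⟩
  letI : (V : Scheme.{u}).Over (Spec (CommRingCat.of k)) :=
    ⟨a ≫ (X ↘ Spec (CommRingCat.of k))⟩
  haveI : LocallyOfFiniteType (U ↘ Spec (CommRingCat.of k)) :=
    inferInstanceAs (LocallyOfFiniteType (g ≫ (Y ↘ Spec (CommRingCat.of k))))
  haveI : LocallyOfFiniteType ((V : Scheme.{u}) ↘ Spec (CommRingCat.of k)) :=
    inferInstanceAs (LocallyOfFiniteType (a ≫ (X ↘ Spec (CommRingCat.of k))))
  have hcomm : h ≫ (U ↘ Spec (CommRingCat.of k)) = (V : Scheme.{u}) ↘ Spec (CommRingCat.of k) := by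
    change (V.ι ≫ pullback.snd f g) ≫ g ≫ (Y ↘ Spec (CommRingCat.of k)) =
      (V.ι ≫ pullback.fst f g) ≫ (X ↘ Spec (CommRingCat.of k))
    rw [← hf]
    simp only [Category.assoc]
    rw [← pullback.condition_assoc]
  haveI : LocallyOfFiniteType (h ≫ (U ↘ Spec (CommRingCat.of k))) := by
    rw [hcomm]; infer_instance
  haveI : LocallyQuasiFinite g := locallyQuasiFinite_of_formallyUnramified g
  haveI : LocallyQuasiFinite a := locallyQuasiFinite_of_formallyUnramified a
  set n := trdegNat k X (genericPoint X) with hn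
  have hXn : topologicalKrullDim X = ((n : ℕ) : WithBot ℕ∞) := dim_eq_trdegNat_genericPoint k X
  have hYn : topologicalKrullDim Y = ((n : ℕ) : WithBot ℕ∞) := by rw [← hdim, hXn]
  refine Groth.Agent.Lib.Helper5.MiracleSch.flat_of_equidim k (U ↘ Spec (CommRingCat.of k)) h
    (fun u' => ?_) (fun v => ?_) n n le_rfl ?_ ?_ ?_
  · exact (Groth.Agent.Lib.Helper6.SmRegSch2.isRegularLocalRing_stalk_iff_of_smooth g u').mpr
      (hY _)
  · haveI : IsRegularLocalRing ((V : Scheme.{u}).presheaf.stalk v) :=
      (Groth.Agent.Lib.Helper6.SmRegSch2.isRegularLocalRing_stalk_iff_of_smooth a v).mpr (hX _)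
    exact Groth.Agent.Lib.Helper5.isCohenMacaulayLocalRing_of_isRegularLocalRing _
  · exact dim_irreducibleComponent_of_flat_lqf k a rfl n hXn
  · exact dim_irreducibleComponent_of_flat_lqf k g rfl n hYn
  · intro y Z hZ
    haveI hdisc : DiscreteTopology (h ⁻¹' {y}) := (h.isDiscrete_preimage_singleton y).to_subtype
    have hne : Z.Nonempty := hZ.prop.nonempty
    haveI : Nonempty Z := hne.to_subtype
    rw [Nat.sub_self]
    exact le_antisymm (topologicalKrullDim_zero_of_discreteTopology Z)
      Groth.Agent.Lib.Helper7.TopDim.topologicalKrullDim_nonneg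

end Flat

end Groth.Agent.Lib.Seat66.FibDegLe
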