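import Mathlib
import Groth.Agent.Lib.Seat66FibDegLe
import Groth.Agent.S9762
import Groth.Agent.S14041

/-!
# Fibre ranks of quasi-finite morphisms of regular varieties, part 2 (helper66)

Comparison of ranks of fibres of an open part `V` of a scheme `P` over `U`.
-/

set_option autoImplicit false
set_option linter.style.haveILetI false
universe u

open AlgebraicGeometry CategoryTheory CategoryTheory.Limits TopologicalSpace IsLocalRing

namespace Groth.Agent.Lib.Seat66.FibDegLe

open Groth.Agent.Lib.Seat66.FibDegGen Groth.Agent.Lib.Seat46.UBFField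

/-- rank comparison for schemes finite over a field along a morphism surjective on global
sections. -/
theorem finrank_le_of_appTop_surjective {T T' : Scheme.{u}} {K : Type u} [Field K]
    (c : T ⟶ Spec (CommRingCat.of K)) (c' : T' ⟶ Spec (CommRingCat.of K)) [IsFinite c]
    [IsFinite c'] (χ : T ⟶ T') (hχ : χ ≫ c' = c) (hsurj : Function.Surjective χ.appTop.hom)
    (s : Spec (CommRingCat.of K)) : c.finrank s ≤ c'.finrank s := by
  rw [finrank_eq_finrank_Γ c s, finrank_eq_finrank_Γ c' s]
  obtain ⟨-, hfin', -⟩ := (isFinite_and_finrank_le_iff c' (c'.finrank s)).mp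
    ⟨inferInstance, fun s' => by rw [Subsingleton.elim s' s]⟩
  letI := (ringMap c).hom.toAlgebra
  letI := (ringMap c').hom.toAlgebra
  haveI : Module.Finite K Γ(T', ⊤) := hfin'
  have hcomp : ringMap c = ringMap c' ≫ χ.appTop := by rw [← hχ, ringMap_comp]
  let L : Γ(T', ⊤) →ₗ[K] Γ(T, ⊤) :=
    { toFun := χ.appTop.hom
      map_add' := map_add _
      map_smul' := fun a x => by
        simp only [Algebra.smul_def, map_mul, RingHom.id_apply]
        congr 1
        exact (congrArg (fun φ => φ.hom a) hcomp).symm }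
  exact LinearMap.finrank_le_finrank_of_surjective (f := L) hsurj

section Fibres

variable {P U : Scheme.{u}} (p : P ⟶ U) (V : P.Opens)

/-- the map from the fibre of `V` to the fibre of `P`. -/
noncomputable def fibreIncl (t : U) : (V.ι ≫ p).fiber t ⟶ p.fiber t :=
  pullback.lift ((V.ι ≫ p).fiberι t ≫ V.ι) ((V.ι ≫ p).fiberToSpecResidueField t)
    (by rw [Category.assoc]; exact (V.ι ≫ p).fiber_fac t)

@[reassoc]
theorem fibreIncl_fiberι (t : U) :
    fibreIncl p V t ≫ p.fiberι t = (V.ι ≫ p).fiberι t ≫ V.ι := pullback.lift_fst _ _ _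

@[reassoc]
theorem fibreIncl_toSpec (t : U) :
    fibreIncl p V t ≫ p.fiberToSpecResidueField t = (V.ι ≫ p).fiberToSpecResidueField t :=
  pullback.lift_snd _ _ _

theorem isPullback_fibreIncl (t : U) :
    IsPullback ((V.ι ≫ p).fiberι t) (fibreIncl p V t) V.ι (p.fiberι t) := by
  have hbot : IsPullback (p.fiberι t) (p.fiberToSpecResidueField t) p
      (U.fromSpecResidueField t) := IsPullback.of_hasPullback p (U.fromSpecResidueField t)
  have htot : IsPullback ((V.ι ≫ p).fiberι t) ((V.ι ≫ p).fiberToSpecResidueField t) (V.ι ≫ p)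
      (U.fromSpecResidueField t) :=
    IsPullback.of_hasPullback (V.ι ≫ p) (U.fromSpecResidueField t)
  refine IsPullback.of_bot ?_ (fibreIncl_fiberι p V t).symm hbot
  rw [fibreIncl_toSpec]
  exact htot

/-- if `V` is clopen, the rank of the fibre of `V` is at most that of `P`. -/
theorem finrank_fibre_le_of_isClopen (hV : IsClopen (V : Set P)) (t : U)
    [IsFinite (p.fiberToSpecResidueField t)] [IsFinite ((V.ι ≫ p).fiberToSpecResidueField t)]
    (s : Spec (U.residueField t)) :
    ((V.ι ≫ p).fiberToSpecResidueField t).finrank s ≤ (p.fiberToSpecResidueField t).finrank s := by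
  haveI : IsClosedImmersion V.ι := IsClosedImmersion.of_isPreimmersion V.ι (by
    rw [Scheme.Opens.range_ι]; exact hV.1)
  haveI : IsClosedImmersion (fibreIncl p V t) :=
    MorphismProperty.of_isPullback (isPullback_fibreIncl p V t) ‹IsClosedImmersion V.ι›
  haveI : IsAffine (p.fiber t) := isAffine_of_isAffineHom (p.fiberToSpecResidueField t)
  exact finrank_le_of_appTop_surjective (K := U.residueField t) _ _ (fibreIncl p V t)
    (fibreIncl_toSpec p V t)
    (IsClosedImmersion.isAffine_surjective_of_isAffine (fibreIncl p V t)).2 s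

/-- if `V` contains the whole fibre over `t`, the rank of the fibre of `P` is at most that of
`V`. -/
theorem finrank_fibre_le_of_subset (t : U) (hsub : ∀ w : p.fiber t, p.fiberι t w ∈ V)
    [IsFinite (p.fiberToSpecResidueField t)] [IsFinite ((V.ι ≫ p).fiberToSpecResidueField t)]
    (s : Spec (U.residueField t)) :
    (p.fiberToSpecResidueField t).finrank s ≤ ((V.ι ≫ p).fiberToSpecResidueField t).finrank s := by
  have hrange : Set.range (p.fiberι t) ⊆ Set.range V.ι := by
    rintro _ ⟨w, rfl⟩
    rw [Scheme.Opens.range_ι]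
    exact hsub w
  let ℓ := IsOpenImmersion.lift V.ι (p.fiberι t) hrange
  have hℓ : ℓ ≫ V.ι = p.fiberι t := IsOpenImmersion.lift_fac _ _ _
  let χ : p.fiber t ⟶ (V.ι ≫ p).fiber t :=
    pullback.lift ℓ (p.fiberToSpecResidueField t)
      (by rw [← Category.assoc, hℓ]; exact p.fiber_fac t)
  have hχ1 : χ ≫ (V.ι ≫ p).fiberι t = ℓ := pullback.lift_fst _ _ _
  have hχ2 : χ ≫ (V.ι ≫ p).fiberToSpecResidueField t = p.fiberToSpecResidueField t :=
    pullback.lift_snd _ _ _
  have hid : χ ≫ fibreIncl p V t = 𝟙 _ := by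
    apply pullback.hom_ext
    · change (χ ≫ fibreIncl p V t) ≫ p.fiberι t = 𝟙 _ ≫ p.fiberι t
      rw [Category.assoc, fibreIncl_fiberι, ← Category.assoc, hχ1, hℓ, Category.id_comp]
    · change (χ ≫ fibreIncl p V t) ≫ p.fiberToSpecResidueField t =
        𝟙 _ ≫ p.fiberToSpecResidueField t
      rw [Category.assoc, fibreIncl_toSpec, hχ2, Category.id_comp]
  refine finrank_le_of_appTop_surjective (K := U.residueField t) _ _ χ hχ2 ?_ s
  have h1 : (fibreIncl p V t).appTop ≫ χ.appTop = 𝟙 _ := by
    rw [← Scheme.Hom.comp_appTop, hid]; rfl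
  intro x
  exact ⟨(fibreIncl p V t).appTop.hom x, congrArg (fun φ => φ.hom x) h1⟩

end Fibres

end Groth.Agent.Lib.Seat66.FibDegLe
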