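import Mathlib
import Groth.Agent.Lib.Seat66FibDegLe2

/-!
# Fibre ranks of quasi-finite morphisms of regular varieties, part 3 (helper66)

`fibre_finrank_le`: for a dominant separated `k`-morphism `f : X ⟶ Y` of regular integral `k`-schemes
of finite type of the same dimension, the rank of every finite fibre is at most the degree of the
function field extension.
-/

set_option autoImplicit false
set_option linter.style.haveILetI false
universe u

open AlgebraicGeometry CategoryTheory CategoryTheory.Limits TopologicalSpace IsLocalRing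

namespace Groth.Agent.Lib.Seat66.FibDegLe

open Groth.Agent.Lib.Seat66.FibDegGen Groth.Agent.Lib.Seat46.UBFField
open Groth.Agent.Lib.Helper4.VarDim Groth.Agent.Lib.Helper4.GenFinite

/-- rank of a scheme-theoretic fibre of a finite flat morphism. -/
theorem finrank_fiberToSpec {X Y : Scheme.{u}} (h : X ⟶ Y) [IsFinite h] [Flat h] (t : Y)
    (s : Spec (Y.residueField t)) :
    (h.fiberToSpecResidueField t).finrank s = h.finrank t := by
  have h1 := Scheme.Hom.finrank_of_isPullback (h.fiberι t) (h.fiberToSpecResidueField t) h
    (Y.fromSpecResidueField t) (IsPullback.of_hasPullback _ _) s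
  rw [Scheme.fromSpecResidueField_apply] at h1
  exact h1

theorem fibre_finrank_le (k : Type u) [Field k] {X Y : Scheme.{u}}
    [X.Over (Spec (CommRingCat.of k))] [Y.Over (Spec (CommRingCat.of k))]
    [LocallyOfFiniteType (X ↘ Spec (CommRingCat.of k))] [QuasiCompact (X ↘ Spec (CommRingCat.of k))]
    [LocallyOfFiniteType (Y ↘ Spec (CommRingCat.of k))] [QuasiCompact (Y ↘ Spec (CommRingCat.of k))]
    [IsIntegral X] [IsIntegral Y] (f : X ⟶ Y) [IsDominant f]
    (hf : f ≫ (Y ↘ Spec (CommRingCat.of k)) = X ↘ Spec (CommRingCat.of k))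
    (hdim : topologicalKrullDim ↥X = topologicalKrullDim ↥Y)
    [IsSeparated f] (hX : ∀ x : X, IsRegularLocalRing (X.presheaf.stalk x))
    (hY : ∀ y : Y, IsRegularLocalRing (Y.presheaf.stalk y)) (y : Y)
    (hy : IsFinite (f.fiberToSpecResidueField y)) (s : Spec (Y.residueField y)) :
    (f.fiberToSpecResidueField y).finrank s ≤
      (letI := (f.residueFieldMap (genericPoint ↥X)).hom.toAlgebra;
          Module.finrank (Y.residueField (f.base (genericPoint ↥X)))
            (X.residueField (genericPoint ↥X))) := by
  haveI : LocallyOfFiniteType (f ≫ (Y ↘ Spec (CommRingCat.of k))) := by rw [hf]; infer_instance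
  haveI : LocallyOfFiniteType f := locallyOfFiniteType_of_comp f (Y ↘ Spec (CommRingCat.of k))
  haveI : IsLocallyNoetherian Y :=
    LocallyOfFiniteType.isLocallyNoetherian (Y ↘ Spec (CommRingCat.of k))
  haveI := hy
  obtain ⟨hfinT, hdiscT⟩ := finite_discrete_of_isFinite (K := Y.residueField y)
    (f.fiberToSpecResidueField y)
  have hfin : {x : f.fiber y | IsOpen ({x} : Set (f.fiber y))}.Finite := Set.toFinite _
  obtain ⟨U, g, u, hnb, V, hVclopen, hVfin, hVout⟩ := Groth.Agent.S9762.result f y hfin
  haveI := hnb.etale
  have hgu : g u = y := hnb.base_eq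
  subst hgu
  set p := pullback.snd f g with hp
  set h := V.ι ≫ p with hh
  haveI : IsFinite h := hVfin
  haveI : Flat h := flat_of_finite_of_etale k f hf hdim hX hY g V
  haveI : IsLocallyNoetherian U := by
    haveI : LocallyOfFiniteType (g ≫ (Y ↘ Spec (CommRingCat.of k))) := inferInstance
    exact LocallyOfFiniteType.isLocallyNoetherian (g ≫ (Y ↘ Spec (CommRingCat.of k)))
  haveI : LocallyOfFinitePresentation h :=
    LocallyOfFinitePresentation.iff_locallyOfFiniteType.mpr inferInstance
  -- the fibre over `u`
  have hpb := isPullback_fiberToSpecResidueField_of_isPullback (IsPullback.of_hasPullback f g) u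
  haveI hy' : IsFinite (f.fiberToSpecResidueField (g u)) := hy
  haveI hpfin : IsFinite (p.fiberToSpecResidueField u) := MorphismProperty.of_isPullback hpb hy
  obtain ⟨-, hdiscP⟩ := finite_discrete_of_isFinite (K := U.residueField u)
    (p.fiberToSpecResidueField u)
  have hsub : ∀ w : p.fiber u, p.fiberι u w ∈ V := by
    intro w
    by_contra hw
    exact hVout w hw (isOpen_discrete _)
  haveI : IsFinite (h.fiberToSpecResidueField u) :=
    inferInstanceAs (IsFinite (pullback.snd h (U.fromSpecResidueField u)))
  let su : Spec (U.residueField u) := IsLocalRing.closedPoint (U.residueField u)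
  have e1 : (p.fiberToSpecResidueField u).finrank su =
      (f.fiberToSpecResidueField (g u)).finrank (Spec.map (g.residueFieldMap u) su) := by
    refine @Scheme.Hom.finrank_of_isPullback _ _ _ _ _ _ _ _ hpb ?_ ?_ su
    · infer_instance
    · exact hy
  have e1' : (f.fiberToSpecResidueField (g u)).finrank s =
      (p.fiberToSpecResidueField u).finrank su := by
    rw [e1, Subsingleton.elim s (Spec.map (g.residueFieldMap u) su)]
  have e2 := finrank_fibre_le_of_subset p V u hsub su
  have e3 := finrank_fiberToSpec h u su
  -- the generic point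
  obtain ⟨η', hη'comp, hη'sp⟩ := exists_generic_specializes u
  have hmax : ∀ z : U, z ⤳ η' → z = η' := fun z hz => eq_of_specializes_generic η' z hη'comp hz
  have hgη' : g η' = genericPoint Y := map_eq_genericPoint_of_maximal g η' hmax
  have e4 : h.finrank η' = h.finrank u := by
    have hlc := Scheme.Hom.isLocallyConstant_finrank h
    have hopen : IsOpen {z : U | h.finrank z = h.finrank u} := hlc.isOpen_fiber _
    exact hη'sp.mem_open hopen rfl
  haveI : IsFinite (h.fiberToSpecResidueField η') :=
    inferInstanceAs (IsFinite (pullback.snd h (U.fromSpecResidueField η')))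
  let sη : Spec (U.residueField η') := IsLocalRing.closedPoint (U.residueField η')
  have e5 := finrank_fiberToSpec h η' sη
  obtain ⟨-, UY, ⟨⟨y₀, hy₀⟩⟩, hUY⟩ := Groth.Agent.S14041.result k f hf hdim
  have hmem : g η' ∈ UY := by
    rw [hgη']
    exact ((genericPoint_spec Y).mem_open_set_iff UY.isOpen).mpr ⟨y₀, trivial, hy₀⟩
  obtain ⟨hfinη, hrkη⟩ := hUY (g η') hmem
  have hpb' := isPullback_fiberToSpecResidueField_of_isPullback (IsPullback.of_hasPullback f g) η'
  haveI hfinη' : IsFinite (f.fiberToSpecResidueField (g η')) := hfinη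
  haveI : IsFinite (p.fiberToSpecResidueField η') := MorphismProperty.of_isPullback hpb' hfinη
  have e6 := finrank_fibre_le_of_isClopen p V hVclopen η' sη
  have e7 : (p.fiberToSpecResidueField η').finrank sη =
      (f.fiberToSpecResidueField (g η')).finrank (Spec.map (g.residueFieldMap η') sη) := by
    refine @Scheme.Hom.finrank_of_isPullback _ _ _ _ _ _ _ _ hpb' ?_ ?_ sη
    · infer_instance
    · exact hfinη
  have e8 := finrank_eq_finrank_Γ (K := Y.residueField (g η'))
    (f.fiberToSpecResidueField (g η')) (Spec.map (g.residueFieldMap η') sη)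
  rw [e1']
  calc (p.fiberToSpecResidueField u).finrank su
      ≤ (h.fiberToSpecResidueField u).finrank su := e2
    _ = h.finrank η' := by rw [e3, e4]
    _ = (h.fiberToSpecResidueField η').finrank sη := e5.symm
    _ ≤ (p.fiberToSpecResidueField η').finrank sη := e6
    _ = _ := by rw [e7, e8]; exact hrkη

end Groth.Agent.Lib.Seat66.FibDegLe
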