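import Mathlib.CategoryTheory.Abelian.Refinements
import Mathlib.CategoryTheory.Abelian.Basic
import Mathlib.Data.Int.GCD
import Mathlib.Algebra.Order.Group.Nat
import Mathlib.Tactic

/-!
# Torsion element calculus in an abelian category (seat 66)

Generalized elements `x : Z ⟶ A` of an object `A` of an abelian category, up to refinement
(precomposition with epimorphisms). We say `InSum t n x` when, up to refinement,
`x = z + n • a` with `t • z = 0`, i.e. "`x ∈ A[t] + nA`".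

The main result `inSum_of_torsion` says: if the "stabilisation" property `Stab n t A` holds for all
positive multiples `t` of `t₀`, then every torsion generalized element of `A` lies in
`A[t₀] + nA`.
-/

set_option autoImplicit false
universe v u

namespace Groth.Agent.Lib.Seat66.IndCofA

open CategoryTheory CategoryTheory.Limits

variable {𝒜 : Type u} [Category.{v} 𝒜] [Abelian 𝒜] {A : 𝒜}

/-- `x ∈ A[t] + nA` up to refinement. -/
def InSum (t n : ℕ) {Z : 𝒜} (x : Z ⟶ A) : Prop :=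
  ∃ (Z' : 𝒜) (π : Z' ⟶ Z) (_ : Epi π) (z a : Z' ⟶ A), t • z = 0 ∧ π ≫ x = z + n • a

theorem InSum.precomp {t n : ℕ} {Z W : 𝒜} {x : Z ⟶ A} (h : InSum t n x) (g : W ⟶ Z) :
    InSum t n (g ≫ x) := by
  obtain ⟨Z', π, hπ, z, a, hz, h⟩ := h
  refine ⟨pullback g π, pullback.fst g π, inferInstance, pullback.snd g π ≫ z,
    pullback.snd g π ≫ a, ?_, ?_⟩
  · rw [← Preadditive.comp_nsmul, hz, comp_zero]
  · rw [← Category.assoc, pullback.condition, Category.assoc, h, Preadditive.comp_add,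
      Preadditive.comp_nsmul]

theorem InSum.of_refine {t n : ℕ} {Z Z' : 𝒜} {x : Z ⟶ A} (π : Z' ⟶ Z) [Epi π]
    (h : InSum t n (π ≫ x)) : InSum t n x := by
  obtain ⟨Z'', π', hπ', z, a, hz, h⟩ := h
  exact ⟨Z'', π' ≫ π, epi_comp _ _, z, a, hz, by rw [Category.assoc, h]⟩

theorem InSum.add {t n : ℕ} {Z : 𝒜} {x x' : Z ⟶ A} (h : InSum t n x) (h' : InSum t n x') :
    InSum t n (x + x') := by
  obtain ⟨Z₁, π₁, hπ₁, z₁, a₁, hz₁, h₁⟩ := h
  obtain ⟨Z₂, π₂, hπ₂, z₂, a₂, hz₂, h₂⟩ := h'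
  refine ⟨pullback π₁ π₂, pullback.fst π₁ π₂ ≫ π₁, epi_comp _ _,
    pullback.fst π₁ π₂ ≫ z₁ + pullback.snd π₁ π₂ ≫ z₂,
    pullback.fst π₁ π₂ ≫ a₁ + pullback.snd π₁ π₂ ≫ a₂, ?_, ?_⟩
  · rw [smul_add, ← Preadditive.comp_nsmul, ← Preadditive.comp_nsmul, hz₁, hz₂, comp_zero,
      comp_zero, add_zero]
  · rw [Preadditive.comp_add, Category.assoc, h₁]
    have : (pullback.fst π₁ π₂ ≫ π₁) ≫ x' = pullback.snd π₁ π₂ ≫ (z₂ + n • a₂) := by
      rw [pullback.condition, Category.assoc, h₂]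
    rw [this]
    simp only [Preadditive.comp_add, Preadditive.comp_nsmul, smul_add]
    abel

theorem InSum.of_tors {t n : ℕ} {Z : 𝒜} {x : Z ⟶ A} (h : t • x = 0) : InSum t n x :=
  ⟨Z, 𝟙 Z, inferInstance, x, 0, h, by simp⟩

theorem InSum.of_mul {t n : ℕ} {Z : 𝒜} (a : Z ⟶ A) : InSum t n (n • a) :=
  ⟨Z, 𝟙 Z, inferInstance, 0, a, by simp, by simp⟩

/-- The stabilisation property: `t • A[n t] ⊆ (t n) • A[n (t n)]` up to refinement. -/
def Stab (n t : ℕ) (A : 𝒜) : Prop :=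
  ∀ ⦃Z : 𝒜⦄ (x : Z ⟶ A), (n * t) • x = 0 →
    ∃ (Z' : 𝒜) (π : Z' ⟶ Z) (_ : Epi π) (y : Z' ⟶ A),
      (n * (t * n)) • y = 0 ∧ t • (π ≫ x) = (t * n) • y

theorem Stab.step {n t : ℕ} (h : Stab n t A) {Z : 𝒜} (x : Z ⟶ A) (hx : (n * t) • x = 0) :
    ∃ (Z' : 𝒜) (π : Z' ⟶ Z) (_ : Epi π) (z y : Z' ⟶ A),
      t • z = 0 ∧ π ≫ x = z + n • y := by
  obtain ⟨Z', π, hπ, y, -, hy⟩ := h x hx
  refine ⟨Z', π, hπ, π ≫ x - n • y, y, ?_, by abel⟩
  rw [smul_sub, hy, ← mul_nsmul, mul_comm n t, sub_self]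

/-- `A[n^k t₀] ⊆ A[t₀] + nA`. -/
theorem inSum_of_pow {n t₀ : ℕ} (hn : 0 < n) (ht₀ : 0 < t₀)
    (hstab : ∀ t : ℕ, t₀ ∣ t → 0 < t → Stab n t A) (k : ℕ) :
    ∀ ⦃Z : 𝒜⦄ (x : Z ⟶ A), (n ^ k * t₀) • x = 0 → InSum t₀ n x := by
  induction k with
  | zero =>
    intro Z x hx
    rw [pow_zero, one_mul] at hx
    exact InSum.of_tors hx
  | succ k ih =>
    intro Z x hx
    have hx' : (n * (n ^ k * t₀)) • x = 0 := by
      rw [← mul_assoc, ← pow_succ']; exact hx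
    obtain ⟨Z', π, hπ, z, y, hz, hxy⟩ :=
      (hstab (n ^ k * t₀) (Dvd.intro_left _ rfl) (Nat.mul_pos (pow_pos hn k) ht₀)).step x hx'
    apply InSum.of_refine π
    rw [hxy]
    exact (ih z hz).add (InSum.of_mul y)

/-- Decomposition of a positive integer `s` as `s₁ * s₂` with `s₁ ∣ n ^ k` and `s₂` coprime to
`n`. -/
theorem exists_decomp (n : ℕ) : ∀ s : ℕ, 0 < s →
    ∃ s₁ s₂ k : ℕ, s = s₁ * s₂ ∧ s₁ ∣ n ^ k ∧ Nat.Coprime s₂ n := by
  intro s
  induction s using Nat.strong_induction_on with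
  | _ s ih =>
    intro hs
    by_cases hg : Nat.gcd s n = 1
    · exact ⟨1, s, 0, by simp, by simp, hg⟩
    · have hgpos : 0 < Nat.gcd s n := Nat.gcd_pos_of_pos_left n hs
      have hg2 : 1 < Nat.gcd s n := by omega
      obtain ⟨s', hs'⟩ := Nat.gcd_dvd_left s n
      have hs'pos : 0 < s' := by
        rcases Nat.eq_zero_or_pos s' with h | h
        · rw [h, mul_zero] at hs'; omega
        · exact h
      have hlt : s' < s := by
        calc s' = 1 * s' := (one_mul _).symm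
          _ < Nat.gcd s n * s' := Nat.mul_lt_mul_of_pos_right hg2 hs'pos
          _ = s := hs'.symm
      obtain ⟨s₁, s₂, k, h1, h2, h3⟩ := ih s' hlt hs'pos
      refine ⟨Nat.gcd s n * s₁, s₂, k + 1, ?_, ?_, h3⟩
      · rw [mul_assoc, ← h1]; exact hs'
      · rw [pow_succ']
        exact Nat.mul_dvd_mul (Nat.gcd_dvd_right s n) h2

/-- Every torsion generalized element lies in `A[t₀] + nA`, provided the stabilisation property
holds for all positive multiples of `t₀`. -/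
theorem inSum_of_torsion {n t₀ : ℕ} (hn : 0 < n) (ht₀ : 0 < t₀)
    (hstab : ∀ t : ℕ, t₀ ∣ t → 0 < t → Stab n t A) {s : ℕ} (hs : 0 < s)
    {Z : 𝒜} (x : Z ⟶ A) (hx : s • x = 0) : InSum t₀ n x := by
  obtain ⟨s₁, s₂, k, rfl, hs₁, hcop⟩ := exists_decomp n s hs
  have hcop12 : Nat.Coprime s₁ s₂ :=
    Nat.Coprime.coprime_dvd_left hs₁ (Nat.Coprime.pow_left k hcop.symm)
  -- Bezout
  have hb : (1 : ℤ) = (s₁ : ℤ) * Nat.gcdA s₁ s₂ + (s₂ : ℤ) * Nat.gcdB s₁ s₂ := by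
    have := Nat.gcd_eq_gcd_ab s₁ s₂
    rw [hcop12] at this
    exact_mod_cast this
  have hb' : (1 : ℤ) = (s₂ : ℤ) * Nat.gcdA s₂ n + (n : ℤ) * Nat.gcdB s₂ n := by
    have := Nat.gcd_eq_gcd_ab s₂ n
    rw [hcop] at this
    exact_mod_cast this
  have hxz : ((s₁ : ℤ) * (s₂ : ℤ)) • x = 0 := by
    have : (((s₁ * s₂ : ℕ) : ℤ)) • x = 0 := by rw [natCast_zsmul]; exact hx
    rwa [Nat.cast_mul] at this
  set u := Nat.gcdA s₁ s₂
  set v := Nat.gcdB s₁ s₂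
  set u' := Nat.gcdA s₂ n
  set v' := Nat.gcdB s₂ n
  have hdecomp : x = ((s₂ : ℤ) * v) • x + ((s₁ : ℤ) * u) • x := by
    rw [← add_smul, add_comm, ← hb, one_smul]
  rw [hdecomp]
  apply InSum.add
  · -- killed by `s₁`, hence by `n ^ k * t₀`
    apply inSum_of_pow hn ht₀ hstab k
    obtain ⟨c, hc⟩ := hs₁
    rw [← natCast_zsmul, smul_smul]
    have : ((n ^ k * t₀ : ℕ) : ℤ) * ((s₂ : ℤ) * v) = ((c * t₀ : ℕ) : ℤ) * v * ((s₁ : ℤ) * s₂) := by
      rw [hc]; push_cast; ring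
    rw [this, mul_smul, hxz, smul_zero]
  · -- killed by `s₂`, coprime to `n`
    have h2 : (s₂ : ℤ) • (((s₁ : ℤ) * u) • x) = 0 := by
      rw [smul_smul]
      have : (s₂ : ℤ) * ((s₁ : ℤ) * u) = u * ((s₁ : ℤ) * s₂) := by ring
      rw [this, mul_smul, hxz, smul_zero]
    have h3 : ((s₁ : ℤ) * u) • x = n • (v' • (((s₁ : ℤ) * u) • x)) := by
      conv_lhs => rw [← one_smul ℤ (((s₁ : ℤ) * u) • x), hb', add_smul]
      rw [mul_comm (s₂ : ℤ) u', mul_smul, h2, smul_zero, zero_add, mul_smul, natCast_zsmul]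
    rw [h3]
    exact InSum.of_mul _

end Groth.Agent.Lib.Seat66.IndCofA
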