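import Mathlib.CategoryTheory.Abelian.Indization
import Mathlib.CategoryTheory.Generator.Indization
import Mathlib.CategoryTheory.Subobject.ArtinianObject
import Mathlib.CategoryTheory.Subobject.Limits
import Mathlib.CategoryTheory.Limits.Preserves.Shapes.Kernels
import Groth.Agent.Lib.Seat66IndCofA
import Groth.Agent.Lib.Seat66AbSub

/-!
# Ind-objects of cofinite type: basic facts (seat 66)

`C` is a small abelian category. We collect facts on `Ind C`:
* `Ind.yoneda` is additive; its essential image is closed under kernels and cokernels of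
  morphisms between objects of the essential image;
* morphisms out of representables into any ind-object are torsion if the representing object is;
* a morphism vanishing on all maps from representables is zero;
* the Artinian stabilisation property `IndCofA.Stab`.
-/

set_option autoImplicit false
universe v

namespace Groth.Agent.Lib.Seat66.IndCofB

open CategoryTheory CategoryTheory.Limits Groth.Agent.Lib.Seat66

variable {C : Type v} [SmallCategory C] [Abelian C]

instance yoneda_additive : (Ind.yoneda (C := C)).Additive :=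
  Functor.additive_of_preserves_binary_products _

/-- The essential image of `Ind.yoneda` is closed under cokernels. -/
theorem essImage_cokernel {P Q : Ind C} (hP : (Ind.yoneda (C := C)).essImage P)
    (hQ : (Ind.yoneda (C := C)).essImage Q) (f : P ⟶ Q) :
    (Ind.yoneda (C := C)).essImage (cokernel f) := by
  obtain ⟨X, ⟨eX⟩⟩ := hP
  obtain ⟨Y, ⟨eY⟩⟩ := hQ
  let g : X ⟶ Y := Ind.yoneda.preimage (eX.hom ≫ f ≫ eY.inv)
  have hg : Ind.yoneda.map g = eX.hom ≫ f ≫ eY.inv := Functor.map_preimage _ _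
  refine ⟨cokernel g, ⟨(PreservesCokernel.iso Ind.yoneda g) ≪≫
    cokernel.mapIso (Ind.yoneda.map g) f eX eY ?_⟩⟩
  rw [hg]; simp

/-- The essential image of `Ind.yoneda` is closed under kernels. -/
theorem essImage_kernel {P Q : Ind C} (hP : (Ind.yoneda (C := C)).essImage P)
    (hQ : (Ind.yoneda (C := C)).essImage Q) (f : P ⟶ Q) :
    (Ind.yoneda (C := C)).essImage (kernel f) := by
  obtain ⟨X, ⟨eX⟩⟩ := hP
  obtain ⟨Y, ⟨eY⟩⟩ := hQ
  let g : X ⟶ Y := Ind.yoneda.preimage (eX.hom ≫ f ≫ eY.inv)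
  have hg : Ind.yoneda.map g = eX.hom ≫ f ≫ eY.inv := Functor.map_preimage _ _
  refine ⟨kernel g, ⟨(PreservesKernel.iso Ind.yoneda g) ≪≫
    kernel.mapIso (Ind.yoneda.map g) f eX eY ?_⟩⟩
  rw [hg]; simp

/-- If `Q` is a cokernel of a morphism between objects of the essential image, then `Q` is in the
essential image. -/
theorem essImage_of_isColimit {P Q : Ind C} (hP : (Ind.yoneda (C := C)).essImage P)
    (hQ : (Ind.yoneda (C := C)).essImage Q) {f : P ⟶ Q} (c : CokernelCofork f)
    (hc : IsColimit c) : (Ind.yoneda (C := C)).essImage c.pt :=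
  Functor.essImage.ofIso
    (IsColimit.coconePointUniqueUpToIso (cokernelIsCokernel f) hc) (essImage_cokernel hP hQ f)

/-- Maps from a torsion representable are torsion. -/
theorem nsmul_eq_zero_of_yoneda {X : C} {s : ℕ} (hs : s • 𝟙 X = 0) {A : Ind C}
    (g : Ind.yoneda.obj X ⟶ A) : s • g = 0 := by
  have : s • g = Ind.yoneda.map (s • 𝟙 X) ≫ g := by
    rw [Functor.map_nsmul, CategoryTheory.Functor.map_id, Preadditive.nsmul_comp, Category.id_comp]
  rw [this, hs, Functor.map_zero, zero_comp]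

/-- A morphism vanishing on all maps from representables is zero. -/
theorem eq_zero_of_forall_yoneda {A B : Ind C} (f : A ⟶ B)
    (h : ∀ (X : C) (g : Ind.yoneda.obj X ⟶ A), g ≫ f = 0) : f = 0 := by
  apply Ind.isSeparating_range_yoneda (C := C) f 0
  rintro G ⟨X⟩ g
  rw [h X g, comp_zero]

section Stab

variable (hart : ∀ X : C, IsArtinianObject X) (A : Ind C)
  (hA : ∀ m : ℕ, 0 < m → (Ind.yoneda (C := C)).essImage (kernel (m • 𝟙 A)))
  (n : ℕ) (hn : 0 < n)

/-- The map `A[n t] ⟶ A[n]` induced by multiplication by `t`. -/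
noncomputable def mulMap (t : ℕ) : kernel ((n * t) • 𝟙 A) ⟶ kernel (n • 𝟙 A) :=
  kernel.lift (n • 𝟙 A) (kernel.ι ((n * t) • 𝟙 A) ≫ (t • 𝟙 A)) (by
    have : (t • 𝟙 A) ≫ (n • 𝟙 A) = (n * t) • 𝟙 A := by
      rw [Preadditive.nsmul_comp, Preadditive.comp_nsmul, Category.id_comp, ← mul_nsmul, mul_comm]
    rw [Category.assoc, this, kernel.condition])

@[reassoc (attr := simp)]
theorem mulMap_ι (t : ℕ) :
    mulMap A n t ≫ kernel.ι (n • 𝟙 A) = kernel.ι ((n * t) • 𝟙 A) ≫ (t • 𝟙 A) :=
  kernel.lift_ι _ _ _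

/-- The transition map `A[n (t c)] ⟶ A[n t]` induced by multiplication by `c`. -/
noncomputable def transMap (t c : ℕ) :
    kernel ((n * (t * c)) • 𝟙 A) ⟶ kernel ((n * t) • 𝟙 A) :=
  kernel.lift ((n * t) • 𝟙 A) (kernel.ι ((n * (t * c)) • 𝟙 A) ≫ (c • 𝟙 A)) (by
    have : (c • 𝟙 A) ≫ ((n * t) • 𝟙 A) = (n * (t * c)) • 𝟙 A := by
      rw [Preadditive.nsmul_comp, Preadditive.comp_nsmul, Category.id_comp, ← mul_nsmul]
      congr 1; ring
    rw [Category.assoc, this, kernel.condition])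

@[reassoc]
theorem transMap_mulMap (t c : ℕ) :
    transMap A n t c ≫ mulMap A n t = mulMap A n (t * c) := by
  apply (cancel_mono (kernel.ι (n • 𝟙 A))).mp
  rw [Category.assoc, mulMap_ι, mulMap_ι, transMap, kernel.lift_ι_assoc, Category.assoc]
  congr 1
  rw [Preadditive.nsmul_comp, Preadditive.comp_nsmul, Category.id_comp, ← mul_nsmul]

include hart hA hn in
/-- The Artinian property gives the stabilisation property for all multiples of some `t₀`. -/
theorem exists_stab :
    ∃ t₀ : ℕ, 0 < t₀ ∧ ∀ t : ℕ, t₀ ∣ t → 0 < t → IndCofA.Stab n t A := by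
  classical
  have hpos : ∀ t : ℕ, 0 < t → 0 < n * t := fun t ht => Nat.mul_pos hn ht
  let X : C := (hA n hn).witness
  let e : Ind.yoneda.obj X ≅ kernel (n • 𝟙 A) := (hA n hn).getIso
  let Xt : ∀ t : ℕ, 0 < t → C := fun t ht => (hA (n * t) (hpos t ht)).witness
  let et : ∀ (t : ℕ) (ht : 0 < t), Ind.yoneda.obj (Xt t ht) ≅ kernel ((n * t) • 𝟙 A) :=
    fun t ht => (hA _ (hpos t ht)).getIso
  let φ : ∀ (t : ℕ) (ht : 0 < t), Xt t ht ⟶ X :=
    fun t ht => Ind.yoneda.preimage ((et t ht).hom ≫ mulMap A n t ≫ e.inv)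
  have hφ : ∀ t ht, Ind.yoneda.map (φ t ht) = (et t ht).hom ≫ mulMap A n t ≫ e.inv :=
    fun t ht => Functor.map_preimage _ _
  let D : ∀ (t : ℕ) (_ : 0 < t), Subobject X := fun t ht => imageSubobject (φ t ht)
  let 𝒮 : Set (Subobject X) := {S | ∃ (t : ℕ) (ht : 0 < t), S = D t ht}
  have h𝒮 : 𝒮.Nonempty := ⟨D 1 Nat.one_pos, 1, Nat.one_pos, rfl⟩
  have := hart X
  obtain ⟨S₀, ⟨t₀, ht₀, rfl⟩, hmin⟩ := (wellFounded_lt (α := Subobject X)).has_min 𝒮 h𝒮
  refine ⟨t₀, ht₀, ?_⟩
  have hmono : ∀ (t : ℕ) (ht : 0 < t) (c : ℕ) (hc : 0 < t * c), D (t * c) hc ≤ D t ht := by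
    intro t ht c hc
    let ψ : Xt (t * c) hc ⟶ Xt t ht :=
      Ind.yoneda.preimage ((et (t * c) hc).hom ≫ transMap A n t c ≫ (et t ht).inv)
    have hψ : φ (t * c) hc = ψ ≫ φ t ht := by
      apply Ind.yoneda.map_injective
      rw [Functor.map_comp, hφ _ hc, hφ _ ht, Functor.map_preimage]
      simp only [Category.assoc, Iso.inv_hom_id_assoc]
      rw [← transMap_mulMap_assoc]
    show imageSubobject (φ (t * c) hc) ≤ imageSubobject (φ t ht)
    rw [AbSub.imageSubobject_congr hψ]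
    exact imageSubobject_comp_le _ _
  have heq : ∀ (t : ℕ) (ht : 0 < t), t₀ ∣ t → D t ht = D t₀ ht₀ := by
    intro t ht hdvd
    obtain ⟨c, rfl⟩ := hdvd
    have hle := hmono t₀ ht₀ c ht
    by_contra hne
    exact hmin _ ⟨_, ht, rfl⟩ (lt_of_le_of_ne hle hne)
  intro t hdvd ht Z x hx
  have htn : 0 < t * n := Nat.mul_pos ht hn
  have hD : D t ht ≤ D (t * n) htn := by
    rw [heq t ht hdvd, heq (t * n) htn (Dvd.dvd.mul_right hdvd n)]
  have h0 : φ t ht ≫ cokernel.π (φ (t * n) htn) = 0 := by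
    have h1 : (imageSubobject (φ (t * n) htn)).arrow ≫ cokernel.π (φ (t * n) htn) = 0 :=
      imageSubobject_arrow_comp_eq_zero (cokernel.condition _)
    have h2 : φ t ht = factorThruImageSubobject (φ t ht) ≫ Subobject.ofLE _ _ hD ≫
        (imageSubobject (φ (t * n) htn)).arrow := by
      rw [Subobject.ofLE_arrow, imageSubobject_arrow_comp]
    rw [h2, Category.assoc, Category.assoc, h1, comp_zero, comp_zero]
  let c : CokernelCofork (φ (t * n) htn) :=
    CokernelCofork.ofπ (cokernel.π _) (cokernel.condition _)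
  have hc : IsColimit c := cokernelIsCokernel _
  have hc' : IsColimit (c.map Ind.yoneda) := CokernelCofork.mapIsColimit c hc Ind.yoneda
  let xt : Z ⟶ kernel ((n * t) • 𝟙 A) := kernel.lift _ x (by
    rw [Preadditive.comp_nsmul, Category.comp_id]; exact hx)
  have hxt : xt ≫ kernel.ι _ = x := kernel.lift_ι _ _ _
  let w : Z ⟶ Ind.yoneda.obj X := xt ≫ (et t ht).inv ≫ Ind.yoneda.map (φ t ht)
  have hw : w ≫ (c.map Ind.yoneda).π = 0 := by
    show (xt ≫ (et t ht).inv ≫ Ind.yoneda.map (φ t ht)) ≫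
      Ind.yoneda.map (cokernel.π (φ (t * n) htn)) = 0
    rw [Category.assoc, Category.assoc, ← Functor.map_comp, h0, Functor.map_zero, comp_zero,
      comp_zero]
  obtain ⟨Z', π, hπ, v, hv⟩ :=
    (CokernelCofork.IsColimit.comp_π_eq_zero_iff_up_to_refinements hc' w).mp hw
  have hv' : π ≫ xt ≫ mulMap A n t = v ≫ (et (t * n) htn).hom ≫ mulMap A n (t * n) := by
    apply (cancel_mono e.inv).mp
    have : π ≫ w = v ≫ Ind.yoneda.map (φ (t * n) htn) := hv
    rw [hφ _ htn] at this
    simp only [w, hφ _ ht, Category.assoc, Iso.inv_hom_id_assoc] at this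
    simpa only [Category.assoc] using this
  refine ⟨Z', π, hπ, v ≫ (et (t * n) htn).hom ≫ kernel.ι _, ?_, ?_⟩
  · rw [← Category.comp_id (v ≫ (et (t * n) htn).hom ≫ kernel.ι _), ← Preadditive.comp_nsmul,
      Category.assoc, Category.assoc, kernel.condition, comp_zero, comp_zero]
  · have h3 := congrArg (· ≫ kernel.ι (n • 𝟙 A)) hv'
    simp only [Category.assoc, mulMap_ι] at h3
    rw [← hxt]
    have h4 : t • (π ≫ xt ≫ kernel.ι ((n * t) • 𝟙 A)) =
        π ≫ xt ≫ kernel.ι ((n * t) • 𝟙 A) ≫ (t • 𝟙 A) := by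
      simp only [Preadditive.comp_nsmul, Category.comp_id]
    have h5 : (t * n) • (v ≫ (et (t * n) htn).hom ≫ kernel.ι ((n * (t * n)) • 𝟙 A)) =
        v ≫ (et (t * n) htn).hom ≫ kernel.ι ((n * (t * n)) • 𝟙 A) ≫ ((t * n) • 𝟙 A) := by
      simp only [Preadditive.comp_nsmul, Category.comp_id]
    rw [h4, h5, h3]

end Stab

end Groth.Agent.Lib.Seat66.IndCofB
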