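import Groth.Agent.Lib.Seat66IndCofB

/-!
# Ind-objects of cofinite type: `A / nA` lies in `C` (seat 66)
-/

set_option autoImplicit false
universe v

namespace Groth.Agent.Lib.Seat66.IndCofC

open CategoryTheory CategoryTheory.Limits Groth.Agent.Lib.Seat66 Groth.Agent.Lib.Seat66.IndCofB

variable {C : Type v} [SmallCategory C] [Abelian C]

section

variable (A : Ind C)

/-- The map `A[a b] ⟶ A[a]` induced by multiplication by `b`. -/
noncomputable def torsMul (a b : ℕ) : kernel ((a * b) • 𝟙 A) ⟶ kernel (a • 𝟙 A) :=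
  kernel.lift (a • 𝟙 A) (kernel.ι ((a * b) • 𝟙 A) ≫ (b • 𝟙 A)) (by
    have : (b • 𝟙 A) ≫ (a • 𝟙 A) = (a * b) • 𝟙 A := by
      rw [Preadditive.nsmul_comp, Preadditive.comp_nsmul, Category.id_comp, ← mul_nsmul, mul_comm]
    rw [Category.assoc, this, kernel.condition])

@[reassoc (attr := simp)]
theorem torsMul_ι (a b : ℕ) :
    torsMul A a b ≫ kernel.ι (a • 𝟙 A) = kernel.ι ((a * b) • 𝟙 A) ≫ (b • 𝟙 A) :=
  kernel.lift_ι _ _ _

/-- The composite `A[t] ⟶ A ⟶ A / nA`. -/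
noncomputable def torsToQuot (t n : ℕ) : kernel (t • 𝟙 A) ⟶ cokernel (n • 𝟙 A) :=
  kernel.ι (t • 𝟙 A) ≫ cokernel.π (n • 𝟙 A)

theorem torsMul_torsToQuot (t n : ℕ) : torsMul A t n ≫ torsToQuot A t n = 0 := by
  rw [torsToQuot, torsMul_ι_assoc, cokernel.condition, comp_zero]

/-- The sequence `A[t n] ⟶ A[t] ⟶ A / nA` is exact. -/
theorem exact_torsMul_torsToQuot (t n : ℕ) :
    (ShortComplex.mk (torsMul A t n) (torsToQuot A t n) (torsMul_torsToQuot A t n)).Exact := by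
  rw [ShortComplex.exact_iff_exact_up_to_refinements]
  intro Z x₂ hx₂
  dsimp at x₂ hx₂
  have h1 : (x₂ ≫ kernel.ι (t • 𝟙 A)) ≫ cokernel.π (n • 𝟙 A) = 0 := by
    rw [Category.assoc]; exact hx₂
  obtain ⟨Z', π, hπ, a, ha⟩ :=
    (CokernelCofork.IsColimit.comp_π_eq_zero_iff_up_to_refinements
      (cokernelIsCokernel (n • 𝟙 A)) (x₂ ≫ kernel.ι (t • 𝟙 A))).mp h1
  have ha0 : a ≫ ((t * n) • 𝟙 A) = 0 := by
    have : ((t * n) • 𝟙 A) = (n • 𝟙 A) ≫ (t • 𝟙 A) := by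
      rw [Preadditive.nsmul_comp, Preadditive.comp_nsmul, Category.id_comp, ← mul_nsmul, mul_comm]
    rw [this, ← Category.assoc, ← ha, Category.assoc, Category.assoc, kernel.condition, comp_zero,
      comp_zero]
  refine ⟨Z', π, hπ, kernel.lift _ a ha0, ?_⟩
  dsimp
  apply (cancel_mono (kernel.ι (t • 𝟙 A))).mp
  rw [Category.assoc, Category.assoc, torsMul_ι, kernel.lift_ι_assoc, ha]

/-- If every map from a representable lies in `A[t] + nA`, then `A[t] ⟶ A / nA` is an epimorphism. -/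
theorem epi_torsToQuot_of_inSum (t n : ℕ)
    (h : ∀ (X : C) (g : Ind.yoneda.obj X ⟶ A), IndCofA.InSum t n g) :
    Epi (torsToQuot A t n) := by
  apply Abelian.epi_of_cokernel_π_eq_zero
  apply (cancel_epi (cokernel.π (n • 𝟙 A))).mp
  rw [comp_zero]
  apply eq_zero_of_forall_yoneda
  intro X g
  obtain ⟨Z', π, hπ, z, a, hz, hg⟩ := h X g
  apply (cancel_epi π).mp
  rw [comp_zero, ← Category.assoc, hg, Preadditive.add_comp]
  have hz0 : z ≫ (t • 𝟙 A) = 0 := by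
    rw [Preadditive.comp_nsmul, Category.comp_id]; exact hz
  have h1 : z ≫ cokernel.π (n • 𝟙 A) ≫ cokernel.π (torsToQuot A t n) = 0 := by
    have : z = kernel.lift (t • 𝟙 A) z hz0 ≫ kernel.ι (t • 𝟙 A) := (kernel.lift_ι _ _ _).symm
    rw [this, Category.assoc]
    have h2 : kernel.ι (t • 𝟙 A) ≫ cokernel.π (n • 𝟙 A) ≫ cokernel.π (torsToQuot A t n) =
        torsToQuot A t n ≫ cokernel.π (torsToQuot A t n) := by
      rw [torsToQuot, Category.assoc]
    rw [h2, cokernel.condition, comp_zero]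
  have h3 : (n • a) ≫ cokernel.π (n • 𝟙 A) ≫ cokernel.π (torsToQuot A t n) = 0 := by
    have : n • a = a ≫ (n • 𝟙 A) := by rw [Preadditive.comp_nsmul, Category.comp_id]
    rw [this, Category.assoc, cokernel.condition_assoc, zero_comp, comp_zero]
  rw [h1, h3, add_zero]

end

section Main

variable (hart : ∀ X : C, IsArtinianObject X)
  (htor : ∀ X : C, ∃ n : ℕ, 0 < n ∧ n • 𝟙 X = 0)
  (A : Ind C)
  (hA : ∀ m : ℕ, 0 < m → (Ind.yoneda (C := C)).essImage (kernel (m • 𝟙 A)))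
  (n : ℕ) (hn : 0 < n)

include hart htor hA hn in
/-- There is `t₀ > 0` with `A = A[t₀] + nA`. -/
theorem exists_inSum : ∃ t₀ : ℕ, 0 < t₀ ∧
    ∀ (X : C) (g : Ind.yoneda.obj X ⟶ A), IndCofA.InSum t₀ n g := by
  obtain ⟨t₀, ht₀, hstab⟩ := exists_stab hart A hA n hn
  refine ⟨t₀, ht₀, fun X g => ?_⟩
  obtain ⟨s, hs, hsX⟩ := htor X
  exact IndCofA.inSum_of_torsion hn ht₀ hstab hs g (nsmul_eq_zero_of_yoneda hsX g)

include hart htor hA hn in
/-- There is `t₀ > 0` such that `A[t₀] ⟶ A / nA` is an epimorphism. -/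
theorem exists_epi_torsToQuot : ∃ t₀ : ℕ, 0 < t₀ ∧ Epi (torsToQuot A t₀ n) := by
  obtain ⟨t₀, ht₀, h⟩ := exists_inSum hart htor A hA n hn
  exact ⟨t₀, ht₀, epi_torsToQuot_of_inSum A t₀ n h⟩

include hart htor hA hn in
/-- `A / nA` lies in the essential image of `C`. -/
theorem essImage_cokernel_nsmul : (Ind.yoneda (C := C)).essImage (cokernel (n • 𝟙 A)) := by
  obtain ⟨t₀, ht₀, hepi⟩ := exists_epi_torsToQuot hart htor A hA n hn
  have hex := exact_torsMul_torsToQuot A t₀ n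
  have hc : IsColimit (CokernelCofork.ofπ (torsToQuot A t₀ n) (torsMul_torsToQuot A t₀ n)) :=
    hex.gIsCokernel
  exact essImage_of_isColimit (hA (t₀ * n) (Nat.mul_pos ht₀ hn)) (hA t₀ ht₀) _ hc

end Main

end Groth.Agent.Lib.Seat66.IndCofC
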