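import Groth.Agent.Lib.Seat66IndCofP

/-!
# Ind-objects of cofinite type: stabilisation of `p^n A` (seat 66)
-/

set_option autoImplicit false
universe v u

namespace Groth.Agent.Lib.Seat66.IndCofD

open CategoryTheory CategoryTheory.Limits Groth.Agent.Lib.Seat66

section Abelian

variable {𝒜 : Type u} [Category.{v} 𝒜] [Abelian 𝒜]

/-- If `f` is killed by the cokernel of `g` then the image of `f` is contained in that of `g`. -/
theorem imageSubobject_le_of_comp_cokernel_π_eq_zero {X Y B : 𝒜} (f : X ⟶ B) (g : Y ⟶ B)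
    (h : f ≫ cokernel.π g = 0) : imageSubobject f ≤ imageSubobject g := by
  apply AbSub.le_of_comp_cokernel_eq_zero
  apply imageSubobject_arrow_comp_eq_zero
  -- `cokernel.π (imageSubobject g).arrow` factors through `cokernel.π g`
  have h1 : g ≫ cokernel.π (imageSubobject g).arrow = 0 := by
    have h2 : g ≫ cokernel.π (imageSubobject g).arrow =
        factorThruImageSubobject g ≫ (imageSubobject g).arrow ≫
          cokernel.π (imageSubobject g).arrow := by
      rw [← Category.assoc, imageSubobject_arrow_comp]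
    rw [h2, cokernel.condition, comp_zero]
  rw [← cokernel.π_desc g _ h1, ← Category.assoc, h, zero_comp]

variable (A : 𝒜) (p : ℕ)

/-- `p^c A ⊆ p^n A`, expressed by a vanishing. -/
def V (c n : ℕ) : Prop := ((p ^ c) • 𝟙 A) ≫ cokernel.π ((p ^ n) • 𝟙 A) = 0

variable {A p}

theorem V.refine {c n : ℕ} (h : V A p c n) {Z : 𝒜} (x : Z ⟶ A) :
    ∃ (Z' : 𝒜) (π : Z' ⟶ Z) (_ : Epi π) (a : Z' ⟶ A), π ≫ ((p ^ c) • x) = (p ^ n) • a := by
  have h1 : (x ≫ ((p ^ c) • 𝟙 A)) ≫ cokernel.π ((p ^ n) • 𝟙 A) = 0 := by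
    rw [Category.assoc, h, comp_zero]
  obtain ⟨Z', π, hπ, a, ha⟩ :=
    (CokernelCofork.IsColimit.comp_π_eq_zero_iff_up_to_refinements
      (cokernelIsCokernel ((p ^ n) • 𝟙 A)) (x ≫ ((p ^ c) • 𝟙 A))).mp h1
  refine ⟨Z', π, hπ, a, ?_⟩
  simpa only [Preadditive.comp_nsmul, Category.comp_id] using ha

theorem V.of_refine {c n : ℕ}
    (h : ∃ (Z' : 𝒜) (π : Z' ⟶ A) (_ : Epi π) (a : Z' ⟶ A), π ≫ ((p ^ c) • 𝟙 A) = (p ^ n) • a) :
    V A p c n := by
  obtain ⟨Z', π, hπ, a, ha⟩ := h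
  apply (cancel_epi π).mp
  have : (p ^ n) • a = a ≫ ((p ^ n) • 𝟙 A) := by rw [Preadditive.comp_nsmul, Category.comp_id]
  rw [comp_zero, ← Category.assoc, ha, this, Category.assoc, cokernel.condition, comp_zero]

theorem V.succ {c n : ℕ} (h1 : V A p c (c + 1)) (hn : V A p c n) : V A p c (n + 1) := by
  apply V.of_refine
  obtain ⟨Z₁, π₁, hπ₁, a₁, ha₁⟩ := h1.refine (𝟙 A)
  obtain ⟨Z₂, π₂, hπ₂, a₂, ha₂⟩ := hn.refine a₁
  refine ⟨Z₂, π₂ ≫ π₁, epi_comp _ _, a₂, ?_⟩
  rw [Category.assoc, ha₁, pow_succ, mul_nsmul, Preadditive.comp_nsmul, ha₂, ← mul_nsmul,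
    ← pow_succ]

theorem V.self (c : ℕ) : V A p c c := cokernel.condition _

theorem V.of_le {c n : ℕ} (h1 : V A p c (c + 1)) (hcn : c ≤ n) : V A p c n := by
  induction n, hcn using Nat.le_induction with
  | base => exact V.self c
  | succ n _ ih => exact V.succ h1 ih

/-- If `p^c A ⊆ p^(c+1) A` then the images of `p^n` are constant for `n ≥ c`. -/
theorem imageSubobject_eq_of_V {c : ℕ} (h1 : V A p c (c + 1)) (n : ℕ) (hcn : c ≤ n) :
    imageSubobject ((p ^ n) • 𝟙 A) = imageSubobject ((p ^ c) • 𝟙 A) := by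
  apply le_antisymm
  · obtain ⟨d, rfl⟩ := Nat.exists_eq_add_of_le hcn
    have : (p ^ (c + d)) • 𝟙 A = ((p ^ d) • 𝟙 A) ≫ ((p ^ c) • 𝟙 A) := by
      rw [Preadditive.nsmul_comp, Preadditive.comp_nsmul, Category.id_comp, ← mul_nsmul,
        ← pow_add]
    rw [AbSub.imageSubobject_congr this]
    exact imageSubobject_comp_le _ _
  · exact imageSubobject_le_of_comp_cokernel_π_eq_zero _ _ (V.of_le h1 hcn)

end Abelian

section Ind

open Groth.Agent.Lib.Seat66.IndCofB Groth.Agent.Lib.Seat66.IndCofC Groth.Agent.Lib.Seat66.IndCofP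

variable {C : Type v} [SmallCategory C] [Abelian C]
  (hart : ∀ X : C, IsArtinianObject X) (p : ℕ) (hp : p.Prime)
  (htor : ∀ X : C, ∃ n : ℕ, (p ^ n) • 𝟙 X = 0)
  (A : Ind C) (hA : ∀ n : ℕ, (Ind.yoneda (C := C)).essImage (kernel ((p ^ n) • 𝟙 A)))

include hart hp htor hA in
/-- For an ind-object of cofinite type, `p^c A ⊆ p^(c+1) A` for some `c`. -/
theorem exists_V : ∃ c : ℕ, V A p c (c + 1) := by
  obtain ⟨t₀, ht₀, h⟩ := exists_inSum hart (htor_general p hp htor) A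
    (essImage_kernel_nsmul p hp htor A hA) p hp.pos
  obtain ⟨c, b, hb, rfl⟩ := Nat.exists_eq_pow_mul_and_not_dvd ht₀.ne' p hp.ne_one
  refine ⟨c, ?_⟩
  apply eq_zero_of_forall_yoneda
  intro X g
  obtain ⟨Z', π, hπ, z, a, hz, hg⟩ := h X g
  have hz0 : (p ^ c) • z = 0 := by
    apply eq_zero_of_nsmul_eq_zero p hp htor _ hb
    rw [← mul_nsmul]; exact hz
  apply (cancel_epi π).mp
  have h1 : π ≫ g ≫ ((p ^ c) • 𝟙 A) = a ≫ ((p ^ (c + 1)) • 𝟙 A) := by
    rw [← Category.assoc, hg]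
    simp only [Preadditive.comp_nsmul, Category.comp_id, smul_add, hz0, zero_add]
    rw [← mul_nsmul, pow_succ']
  rw [comp_zero, ← Category.assoc, ← Category.assoc, Category.assoc π, h1, Category.assoc,
    cokernel.condition, comp_zero]

include hart hp htor hA in
/-- For an ind-object of cofinite type, the subobjects `p^n A` are eventually constant. -/
theorem exists_stable_image : ∃ N : ℕ, ∀ n : ℕ, N ≤ n →
    imageSubobject ((p ^ n) • 𝟙 A) = imageSubobject ((p ^ N) • 𝟙 A) := by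
  obtain ⟨c, hc⟩ := exists_V hart p hp htor A hA
  exact ⟨c, fun n hn => imageSubobject_eq_of_V hc n hn⟩

end Ind

end Groth.Agent.Lib.Seat66.IndCofD
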