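import Groth.Agent.Lib.Seat66IndCofA
import Mathlib.Algebra.Homology.ShortComplex.ShortExact

/-!
# Torsion of a quotient (seat 66)

Let `0 ⟶ A' ⟶ A ⟶ A'' ⟶ 0` be a short exact sequence in an abelian category and `t, n` natural
numbers such that every generalized element of `A'` lies in `A'[t] + nA'` (up to refinement).
Then `A''[n]` is the cokernel of a morphism `A'[t n] ⟶ P`, where
`P = ker (A[t n] ⟶ A[t] ⟶ A[t] / A'[t])`.
-/

set_option autoImplicit false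
universe v u

namespace Groth.Agent.Lib.Seat66.IndCofE

open CategoryTheory CategoryTheory.Limits Groth.Agent.Lib.Seat66

variable {𝒜 : Type u} [Category.{v} 𝒜] [Abelian 𝒜]

/-- The map induced on `s`-torsion. -/
noncomputable def torsMap {A B : 𝒜} (f : A ⟶ B) (s : ℕ) :
    kernel (s • 𝟙 A) ⟶ kernel (s • 𝟙 B) :=
  kernel.lift _ (kernel.ι _ ≫ f) (by
    have : f ≫ (s • 𝟙 B) = (s • 𝟙 A) ≫ f := by
      rw [Preadditive.nsmul_comp, Preadditive.comp_nsmul, Category.id_comp, Category.comp_id]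
    rw [Category.assoc, this, kernel.condition_assoc, zero_comp])

@[reassoc (attr := simp)]
theorem torsMap_ι {A B : 𝒜} (f : A ⟶ B) (s : ℕ) :
    torsMap f s ≫ kernel.ι (s • 𝟙 B) = kernel.ι (s • 𝟙 A) ≫ f :=
  kernel.lift_ι _ _ _

/-- The map `A[a b] ⟶ A[a]` induced by multiplication by `b`. -/
noncomputable def tMul (A : 𝒜) (a b : ℕ) : kernel ((a * b) • 𝟙 A) ⟶ kernel (a • 𝟙 A) :=
  kernel.lift (a • 𝟙 A) (kernel.ι ((a * b) • 𝟙 A) ≫ (b • 𝟙 A)) (by
    have : (b • 𝟙 A) ≫ (a • 𝟙 A) = (a * b) • 𝟙 A := by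
      rw [Preadditive.nsmul_comp, Preadditive.comp_nsmul, Category.id_comp, ← mul_nsmul, mul_comm]
    rw [Category.assoc, this, kernel.condition])

@[reassoc (attr := simp)]
theorem tMul_ι (A : 𝒜) (a b : ℕ) :
    tMul A a b ≫ kernel.ι (a • 𝟙 A) = kernel.ι ((a * b) • 𝟙 A) ≫ (b • 𝟙 A) :=
  kernel.lift_ι _ _ _

@[reassoc]
theorem torsMap_tMul {A B : 𝒜} (f : A ⟶ B) (a b : ℕ) :
    torsMap f (a * b) ≫ tMul B a b = tMul A a b ≫ torsMap f a := by
  apply (cancel_mono (kernel.ι (a • 𝟙 B))).mp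
  simp only [Category.assoc, tMul_ι, torsMap_ι, torsMap_ι_assoc, tMul_ι_assoc]
  rw [Preadditive.nsmul_comp, Preadditive.comp_nsmul, Category.id_comp, Category.comp_id]

section

variable {A' A A'' : 𝒜} (i : A' ⟶ A) (q : A ⟶ A'') (w : i ≫ q = 0) (t n : ℕ)

/-- The object `P = ker (A[t n] ⟶ A[t] ⟶ A[t] / A'[t])`. -/
noncomputable abbrev P : 𝒜 := kernel (tMul A t n ≫ cokernel.π (torsMap i t))

/-- The inclusion `P ⟶ A`. -/
noncomputable def Pι : P i t n ⟶ A :=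
  kernel.ι (tMul A t n ≫ cokernel.π (torsMap i t)) ≫ kernel.ι ((t * n) • 𝟙 A)

instance : Mono (Pι i t n) := by
  dsimp only [Pι]; infer_instance

/-- For a generalized element of `P`, `n • x` comes from `A'` up to refinement. -/
theorem exists_lift_nsmul {Z : 𝒜} (x : Z ⟶ P i t n) :
    ∃ (Z' : 𝒜) (π : Z' ⟶ Z) (_ : Epi π) (c : Z' ⟶ A'), π ≫ (n • (x ≫ Pι i t n)) = c ≫ i := by
  have h1 : (x ≫ kernel.ι (tMul A t n ≫ cokernel.π (torsMap i t)) ≫ tMul A t n) ≫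
      cokernel.π (torsMap i t) = 0 := by
    rw [Category.assoc, Category.assoc, kernel.condition, comp_zero]
  obtain ⟨Z', π, hπ, c, hc⟩ :=
    (CokernelCofork.IsColimit.comp_π_eq_zero_iff_up_to_refinements
      (cokernelIsCokernel (torsMap i t)) _).mp h1
  refine ⟨Z', π, hπ, c ≫ kernel.ι (t • 𝟙 A'), ?_⟩
  have h2 := congrArg (· ≫ kernel.ι (t • 𝟙 A)) hc
  simp only [Category.assoc, tMul_ι, torsMap_ι] at h2
  rw [Category.assoc, ← h2]
  simp only [Pι, Preadditive.comp_nsmul, Category.comp_id, Category.assoc]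

include w in
/-- The map `P ⟶ A''[n]`. -/
theorem Pι_q_nsmul : (Pι i t n ≫ q) ≫ (n • 𝟙 A'') = 0 := by
  obtain ⟨Z', π, hπ, c, hc⟩ := exists_lift_nsmul i t n (𝟙 (P i t n))
  apply (cancel_epi π).mp
  rw [Category.id_comp] at hc
  have : π ≫ (Pι i t n ≫ q) ≫ (n • 𝟙 A'') = (π ≫ (n • Pι i t n)) ≫ q := by
    simp only [Preadditive.comp_nsmul, Preadditive.nsmul_comp, Category.comp_id, Category.assoc]
  rw [this, hc, Category.assoc, w, comp_zero, comp_zero]

/-- The map `ρ : P ⟶ A''[n]`. -/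
noncomputable def ρ : P i t n ⟶ kernel (n • 𝟙 A'') :=
  kernel.lift _ (Pι i t n ≫ q) (Pι_q_nsmul i q w t n)

@[reassoc (attr := simp)]
theorem ρ_ι : ρ i q w t n ≫ kernel.ι (n • 𝟙 A'') = Pι i t n ≫ q := kernel.lift_ι _ _ _

/-- The map `r : A'[t n] ⟶ P`. -/
noncomputable def r : kernel ((t * n) • 𝟙 A') ⟶ P i t n :=
  kernel.lift _ (torsMap i (t * n)) (by
    rw [torsMap_tMul_assoc, cokernel.condition, comp_zero])

@[reassoc (attr := simp)]
theorem r_Pι : r i t n ≫ Pι i t n = kernel.ι ((t * n) • 𝟙 A') ≫ i := by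
  simp only [r, Pι, kernel.lift_ι_assoc, torsMap_ι]

include w in
theorem r_ρ : r i t n ≫ ρ i q w t n = 0 := by
  apply (cancel_mono (kernel.ι (n • 𝟙 A''))).mp
  rw [Category.assoc, ρ_ι, r_Pι_assoc, w, comp_zero, zero_comp]

variable [Mono i] (hex : (ShortComplex.mk i q w).Exact)

include hex in
/-- Exactness of `A'[t n] ⟶ P ⟶ A''[n]`. -/
theorem exact_r_ρ : (ShortComplex.mk (r i t n) (ρ i q w t n) (r_ρ i q w t n)).Exact := by
  rw [ShortComplex.exact_iff_exact_up_to_refinements]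
  intro Z x₂ hx₂
  dsimp at x₂ hx₂
  have h1 : (x₂ ≫ Pι i t n) ≫ q = 0 := by
    have := congrArg (· ≫ kernel.ι (n • 𝟙 A'')) hx₂
    simpa only [Category.assoc, ρ_ι, zero_comp] using this
  obtain ⟨Z', π, hπ, c, hc⟩ := hex.exact_up_to_refinements (x₂ ≫ Pι i t n) h1
  dsimp at c hc
  have hc0 : c ≫ ((t * n) • 𝟙 A') = 0 := by
    apply (cancel_mono i).mp
    have h2 : (c ≫ ((t * n) • 𝟙 A')) ≫ i = (c ≫ i) ≫ ((t * n) • 𝟙 A) := by
      simp only [Preadditive.comp_nsmul, Preadditive.nsmul_comp, Category.comp_id, Category.assoc]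
    rw [h2, ← hc, zero_comp]
    simp only [Pι, Category.assoc, kernel.condition, comp_zero]
  refine ⟨Z', π, hπ, kernel.lift _ c hc0, ?_⟩
  dsimp
  apply (cancel_mono (Pι i t n)).mp
  rw [Category.assoc, Category.assoc, r_Pι, kernel.lift_ι_assoc, hc]

variable [Epi q]

include hex in
/-- If every generalized element of `A'` lies in `A'[t] + nA'`, then `ρ` is an epimorphism. -/
theorem epi_ρ (H : ∀ ⦃Z : 𝒜⦄ (c : Z ⟶ A'), IndCofA.InSum t n c) : Epi (ρ i q w t n) := by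
  rw [epi_iff_surjective_up_to_refinements]
  intro Z y
  -- lift `y` to `A`
  obtain ⟨Z₁, π₁, hπ₁, b, hb⟩ := surjective_up_to_refinements_of_epi q (y ≫ kernel.ι (n • 𝟙 A''))
  -- `n • b` comes from `A'`
  have h1 : (n • b) ≫ q = 0 := by
    rw [Preadditive.nsmul_comp, ← hb]
    have : n • (π₁ ≫ y ≫ kernel.ι (n • 𝟙 A'')) = π₁ ≫ y ≫ kernel.ι (n • 𝟙 A'') ≫ (n • 𝟙 A'') := by
      simp only [Preadditive.comp_nsmul, Category.comp_id]
    rw [this, kernel.condition, comp_zero, comp_zero]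
  obtain ⟨Z₂, π₂, hπ₂, c, hc⟩ := hex.exact_up_to_refinements (n • b) h1
  dsimp at c hc
  obtain ⟨Z₃, π₃, hπ₃, z, c', hz, hzc⟩ := H c
  -- the corrected lift
  let b' : Z₃ ⟶ A := π₃ ≫ π₂ ≫ b - c' ≫ i
  have hb' : n • b' = z ≫ i := by
    have e1 : n • (π₃ ≫ π₂ ≫ b) = π₃ ≫ (π₂ ≫ (n • b)) := by
      simp only [Preadditive.comp_nsmul]
    have e2 : n • (c' ≫ i) = (n • c') ≫ i := by rw [Preadditive.nsmul_comp]
    rw [smul_sub, e1, hc, ← Category.assoc, hzc, e2, Preadditive.add_comp]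
    abel
  have hb'0 : b' ≫ ((t * n) • 𝟙 A) = 0 := by
    rw [Preadditive.comp_nsmul, Category.comp_id, mul_comm, mul_nsmul, hb', ← Preadditive.nsmul_comp,
      hz, zero_comp]
  have hz0 : z ≫ (t • 𝟙 A') = 0 := by
    rw [Preadditive.comp_nsmul, Category.comp_id]; exact hz
  have hP : kernel.lift _ b' hb'0 ≫ tMul A t n ≫ cokernel.π (torsMap i t) = 0 := by
    have h2 : kernel.lift _ b' hb'0 ≫ tMul A t n = kernel.lift _ z hz0 ≫ torsMap i t := by
      apply (cancel_mono (kernel.ι (t • 𝟙 A))).mp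
      simp only [Category.assoc, tMul_ι, torsMap_ι, kernel.lift_ι_assoc]
      rw [← hb', Preadditive.comp_nsmul, Category.comp_id]
    rw [← Category.assoc, h2, Category.assoc, cokernel.condition, comp_zero]
  refine ⟨Z₃, π₃ ≫ π₂ ≫ π₁, epi_comp' hπ₃ (epi_comp' hπ₂ hπ₁), kernel.lift _ _ hP, ?_⟩
  apply (cancel_mono (kernel.ι (n • 𝟙 A''))).mp
  simp only [Category.assoc, ρ_ι]
  have h3 : kernel.lift _ (kernel.lift _ b' hb'0) hP ≫ Pι i t n = b' := by
    simp only [Pι, kernel.lift_ι_assoc, kernel.lift_ι]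
  rw [reassoc_of% h3, hb]
  simp only [b', Preadditive.sub_comp, Category.assoc, w, comp_zero, sub_zero]

end

end Groth.Agent.Lib.Seat66.IndCofE
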