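import Groth.Agent.Lib.Seat66IndCofC
import Groth.Agent.Lib.Seat66IndCofE

/-!
# Ind-objects of cofinite type form an abelian subcategory (seat 66)

Kernels, images and cokernels of morphisms between ind-objects of cofinite type are of
cofinite type.
-/

set_option autoImplicit false
universe v

namespace Groth.Agent.Lib.Seat66.IndCofF

open CategoryTheory CategoryTheory.Limits Groth.Agent.Lib.Seat66 Groth.Agent.Lib.Seat66.IndCofB
  Groth.Agent.Lib.Seat66.IndCofC Groth.Agent.Lib.Seat66.IndCofE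

variable {C : Type v} [SmallCategory C] [Abelian C]

/-- If `A[t] ⟶ A / nA` is an epimorphism then every generalized element of `A` lies in
`A[t] + nA`. -/
theorem inSum_of_epi_torsToQuot (A : Ind C) (t n : ℕ) (hepi : Epi (torsToQuot A t n))
    ⦃Z : Ind C⦄ (c : Z ⟶ A) : IndCofA.InSum t n c := by
  obtain ⟨Z₁, π₁, hπ₁, z, hz⟩ :=
    surjective_up_to_refinements_of_epi (torsToQuot A t n) (c ≫ cokernel.π (n • 𝟙 A))
  have h1 : (π₁ ≫ c - z ≫ kernel.ι (t • 𝟙 A)) ≫ cokernel.π (n • 𝟙 A) = 0 := by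
    rw [Preadditive.sub_comp, Category.assoc, hz, torsToQuot, Category.assoc, sub_self]
  obtain ⟨Z₂, π₂, hπ₂, a, ha⟩ :=
    (CokernelCofork.IsColimit.comp_π_eq_zero_iff_up_to_refinements
      (cokernelIsCokernel (n • 𝟙 A)) _).mp h1
  refine ⟨Z₂, π₂ ≫ π₁, epi_comp' hπ₂ hπ₁, π₂ ≫ z ≫ kernel.ι (t • 𝟙 A), a, ?_, ?_⟩
  · have : t • (π₂ ≫ z ≫ kernel.ι (t • 𝟙 A)) = π₂ ≫ z ≫ kernel.ι (t • 𝟙 A) ≫ (t • 𝟙 A) := by
      simp only [Preadditive.comp_nsmul, Category.comp_id]
    rw [this, kernel.condition, comp_zero, comp_zero]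
  · have h2 : n • a = a ≫ (n • 𝟙 A) := by rw [Preadditive.comp_nsmul, Category.comp_id]
    rw [h2, ← ha, Preadditive.comp_sub, Category.assoc]
    abel

section

variable (hart : ∀ X : C, IsArtinianObject X)
  (htor : ∀ X : C, ∃ n : ℕ, 0 < n ∧ n • 𝟙 X = 0)

include hart htor in
/-- In a short exact sequence `0 ⟶ A' ⟶ A ⟶ A'' ⟶ 0` with `A'` and `A` of cofinite type, `A''`
is of cofinite type. -/
theorem essImage_kernel_nsmul_of_shortExact {A' A A'' : Ind C} (i : A' ⟶ A) (q : A ⟶ A'')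
    (w : i ≫ q = 0) [Mono i] [Epi q] (hex : (ShortComplex.mk i q w).Exact)
    (hA' : ∀ m : ℕ, 0 < m → (Ind.yoneda (C := C)).essImage (kernel (m • 𝟙 A')))
    (hA : ∀ m : ℕ, 0 < m → (Ind.yoneda (C := C)).essImage (kernel (m • 𝟙 A)))
    (n : ℕ) (hn : 0 < n) : (Ind.yoneda (C := C)).essImage (kernel (n • 𝟙 A'')) := by
  obtain ⟨t, ht, hepi⟩ := exists_epi_torsToQuot hart htor A' hA' n hn
  have H := inSum_of_epi_torsToQuot A' t n hepi
  have htn : 0 < t * n := Nat.mul_pos ht hn
  have hP : (Ind.yoneda (C := C)).essImage (P i t n) :=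
    essImage_kernel (hA (t * n) htn) (essImage_cokernel (hA' t ht) (hA t ht) (torsMap i t)) _
  have hR := hA' (t * n) htn
  have := epi_ρ i q w t n hex H
  exact essImage_of_isColimit hR hP (CokernelCofork.ofπ (ρ i q w t n) (r_ρ i q w t n))
    (exact_r_ρ i q w t n hex).gIsCokernel

/-- The `n`-torsion of a kernel is the kernel on `n`-torsion. -/
theorem essImage_kernel_nsmul_kernel {A B : Ind C} (f : A ⟶ B) (n : ℕ)
    (hA : (Ind.yoneda (C := C)).essImage (kernel (n • 𝟙 A)))
    (hB : (Ind.yoneda (C := C)).essImage (kernel (n • 𝟙 B))) :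
    (Ind.yoneda (C := C)).essImage (kernel (n • 𝟙 (kernel f))) := by
  refine Functor.essImage.ofIso ?_ (essImage_kernel hA hB (torsMap f n))
  have h1 : torsMap (kernel.ι f) n ≫ torsMap f n = 0 := by
    apply (cancel_mono (kernel.ι (n • 𝟙 B))).mp
    simp only [Category.assoc, torsMap_ι, torsMap_ι_assoc, kernel.condition, comp_zero, zero_comp]
  have h2 : (kernel.ι (torsMap f n) ≫ kernel.ι (n • 𝟙 A)) ≫ f = 0 := by
    rw [Category.assoc, ← torsMap_ι, kernel.condition_assoc, zero_comp]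
  have h3 : kernel.lift f _ h2 ≫ (n • 𝟙 (kernel f)) = 0 := by
    apply (cancel_mono (kernel.ι f)).mp
    have : (kernel.lift f _ h2 ≫ (n • 𝟙 (kernel f))) ≫ kernel.ι f =
        (kernel.lift f _ h2 ≫ kernel.ι f) ≫ (n • 𝟙 A) := by
      simp only [Preadditive.comp_nsmul, Preadditive.nsmul_comp, Category.comp_id, Category.assoc]
    rw [this, kernel.lift_ι, Category.assoc, kernel.condition, comp_zero, zero_comp]
  exact
    { hom := kernel.lift _ (kernel.lift f _ h2) h3
      inv := kernel.lift _ (torsMap (kernel.ι f) n) h1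
      hom_inv_id := by
        apply (cancel_mono (kernel.ι (torsMap f n))).mp
        apply (cancel_mono (kernel.ι (n • 𝟙 A))).mp
        simp only [Category.assoc, kernel.lift_ι, kernel.lift_ι_assoc, torsMap_ι, Category.id_comp]
      inv_hom_id := by
        apply (cancel_mono (kernel.ι (n • 𝟙 (kernel f)))).mp
        apply (cancel_mono (kernel.ι f)).mp
        simp only [Category.assoc, kernel.lift_ι, kernel.lift_ι_assoc, torsMap_ι, Category.id_comp] }

include hart htor in
/-- Kernels and cokernels of morphisms between ind-objects of cofinite type are of cofinite type. -/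
theorem kernel_cokernel_cofinite (A B : Ind C)
    (hA : ∀ n : ℕ, 0 < n → (Ind.yoneda (C := C)).essImage (kernel (n • 𝟙 A)))
    (hB : ∀ n : ℕ, 0 < n → (Ind.yoneda (C := C)).essImage (kernel (n • 𝟙 B))) (f : A ⟶ B) :
    (∀ n : ℕ, 0 < n → (Ind.yoneda (C := C)).essImage (kernel (n • 𝟙 (kernel f)))) ∧
      (∀ n : ℕ, 0 < n → (Ind.yoneda (C := C)).essImage (kernel (n • 𝟙 (cokernel f)))) := by
  have hK : ∀ n : ℕ, 0 < n → (Ind.yoneda (C := C)).essImage (kernel (n • 𝟙 (kernel f))) :=
    fun n hn => essImage_kernel_nsmul_kernel f n (hA n hn) (hB n hn)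
  refine ⟨hK, ?_⟩
  -- the image is of cofinite type
  have w1 : kernel.ι f ≫ Abelian.factorThruImage f = 0 := by
    apply (cancel_mono (Abelian.image.ι f)).mp
    rw [Category.assoc, Abelian.image.fac, kernel.condition, zero_comp]
  have hex1 : (ShortComplex.mk (kernel.ι f) (Abelian.factorThruImage f) w1).Exact := by
    rw [ShortComplex.exact_iff_exact_up_to_refinements]
    intro Z x₂ hx₂
    dsimp at x₂ hx₂
    have h0 : x₂ ≫ f = 0 := by
      rw [← Abelian.image.fac f, ← Category.assoc, hx₂, zero_comp]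
    exact ⟨Z, 𝟙 Z, inferInstance, kernel.lift f x₂ h0, by simp⟩
  have hI : ∀ n : ℕ, 0 < n →
      (Ind.yoneda (C := C)).essImage (kernel (n • 𝟙 (Abelian.image f))) :=
    fun n hn => essImage_kernel_nsmul_of_shortExact hart htor _ _ w1 hex1 hK hA n hn
  have w2 : Abelian.image.ι f ≫ cokernel.π f = 0 := kernel.condition _
  have hex2 : (ShortComplex.mk (Abelian.image.ι f) (cokernel.π f) w2).Exact :=
    ShortComplex.exact_of_f_is_kernel _ (kernelIsKernel (cokernel.π f))
  exact fun n hn => essImage_kernel_nsmul_of_shortExact hart htor _ _ w2 hex2 hI hB n hn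

end

end Groth.Agent.Lib.Seat66.IndCofF
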