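import Groth.Agent.Lib.Seat66IndCofC
import Mathlib.Data.Nat.Factorization.Basic

/-!
# Ind-objects of cofinite type: the `p`-primary case (seat 66)

Reduction of the `p`-power hypotheses to the hypotheses for all positive integers.
-/

set_option autoImplicit false
universe v

namespace Groth.Agent.Lib.Seat66.IndCofP

open CategoryTheory CategoryTheory.Limits Groth.Agent.Lib.Seat66 Groth.Agent.Lib.Seat66.IndCofB
  Groth.Agent.Lib.Seat66.IndCofC

variable {C : Type v} [SmallCategory C] [Abelian C]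

section

variable (p : ℕ) (hp : p.Prime) (htor : ∀ X : C, ∃ n : ℕ, (p ^ n) • 𝟙 X = 0)

include hp htor in
theorem htor_general : ∀ X : C, ∃ n : ℕ, 0 < n ∧ n • 𝟙 X = 0 := fun X =>
  let ⟨k, hk⟩ := htor X
  ⟨p ^ k, pow_pos hp.pos k, hk⟩

/-- Bezout: a morphism killed by two coprime integers is zero. -/
theorem eq_zero_of_coprime {𝒜 : Type*} [Category 𝒜] [Preadditive 𝒜] {Z A : 𝒜} (h : Z ⟶ A)
    {a b : ℕ} (hab : Nat.Coprime a b) (ha : a • h = 0) (hb : b • h = 0) : h = 0 := by
  have hbz : (1 : ℤ) = (a : ℤ) * Nat.gcdA a b + (b : ℤ) * Nat.gcdB a b := by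
    have := Nat.gcd_eq_gcd_ab a b
    rw [hab] at this
    exact_mod_cast this
  have ha' : (a : ℤ) • h = 0 := by rw [natCast_zsmul]; exact ha
  have hb' : (b : ℤ) • h = 0 := by rw [natCast_zsmul]; exact hb
  calc h = (1 : ℤ) • h := (one_smul _ _).symm
    _ = ((a : ℤ) * Nat.gcdA a b + (b : ℤ) * Nat.gcdB a b) • h := by rw [← hbz]
    _ = 0 := by
      rw [add_smul, mul_comm (a : ℤ), mul_comm (b : ℤ), mul_smul, mul_smul, ha', hb', smul_zero,
        smul_zero, add_zero]

include hp htor in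
/-- An ind-object has no torsion prime to `p`. -/
theorem eq_zero_of_nsmul_eq_zero {K A : Ind C} (k : K ⟶ A) {b : ℕ} (hb : ¬ p ∣ b)
    (hk : b • k = 0) : k = 0 := by
  -- test on maps from representables into `K`
  have key : ∀ (X : C) (g : Ind.yoneda.obj X ⟶ K), g ≫ k = 0 := by
    intro X g
    obtain ⟨c, hc⟩ := htor X
    have h1 : (p ^ c) • (g ≫ k) = 0 := by
      rw [← Preadditive.nsmul_comp, nsmul_eq_zero_of_yoneda hc g, zero_comp]
    have h2 : b • (g ≫ k) = 0 := by
      rw [← Preadditive.comp_nsmul, hk, comp_zero]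
    have hcop : Nat.Coprime (p ^ c) b :=
      Nat.Coprime.pow_left c ((Nat.Prime.coprime_iff_not_dvd hp).mpr hb)
    exact eq_zero_of_coprime _ hcop h1 h2
  exact eq_zero_of_forall_yoneda k key

include hp htor in
/-- `A[p^a b] ≅ A[p^a]` for `b` prime to `p`. -/
theorem essImage_kernel_nsmul (A : Ind C)
    (hA : ∀ n : ℕ, (Ind.yoneda (C := C)).essImage (kernel ((p ^ n) • 𝟙 A))) :
    ∀ m : ℕ, 0 < m → (Ind.yoneda (C := C)).essImage (kernel (m • 𝟙 A)) := by
  intro m hm
  obtain ⟨a, b, hb, rfl⟩ := Nat.exists_eq_pow_mul_and_not_dvd hm.ne' p hp.ne_one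
  have h1 : kernel.ι ((p ^ a * b) • 𝟙 A) ≫ ((p ^ a) • 𝟙 A) = 0 := by
    apply eq_zero_of_nsmul_eq_zero p hp htor _ hb
    have h0 := kernel.condition ((p ^ a * b) • 𝟙 A)
    simp only [Preadditive.comp_nsmul, Category.comp_id] at h0 ⊢
    rw [← mul_nsmul]; exact h0
  have h2 : kernel.ι ((p ^ a) • 𝟙 A) ≫ ((p ^ a * b) • 𝟙 A) = 0 := by
    have h0 := kernel.condition ((p ^ a) • 𝟙 A)
    simp only [Preadditive.comp_nsmul, Category.comp_id] at h0 ⊢
    rw [mul_nsmul, h0, smul_zero]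
  refine Functor.essImage.ofIso ?_ (hA a)
  exact
    { hom := kernel.lift _ (kernel.ι _) h2
      inv := kernel.lift _ (kernel.ι _) h1
      hom_inv_id := by
        apply (cancel_mono (kernel.ι _)).mp
        simp
      inv_hom_id := by
        apply (cancel_mono (kernel.ι _)).mp
        simp }

end

end Groth.Agent.Lib.Seat66.IndCofP
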