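import Groth.Agent.Lib.Seat66IndCofF
import Groth.Agent.Lib.Seat66IndCofP
import Groth.Agent.Lib.Seat66AbSub

/-!
# Ind-objects of cofinite type: images and the divisible part (seat 66)
-/

set_option autoImplicit false
universe v u

namespace Groth.Agent.Lib.Seat66.IndCofG

open CategoryTheory CategoryTheory.Limits Groth.Agent.Lib.Seat66 Groth.Agent.Lib.Seat66.IndCofB
  Groth.Agent.Lib.Seat66.IndCofC Groth.Agent.Lib.Seat66.IndCofE Groth.Agent.Lib.Seat66.IndCofF
  Groth.Agent.Lib.Seat66.AbSub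

section General

variable {V : Type u} [Category.{v} V] [Abelian V]

/-- The sequence `ker f ⟶ A ⟶ im f` is exact. -/
theorem exact_kernel_factorThruImageSubobject {A B : V} (f : A ⟶ B) :
    (ShortComplex.mk (kernel.ι f) (factorThruImageSubobject f) (by
      apply (cancel_mono (imageSubobject f).arrow).mp
      rw [Category.assoc, imageSubobject_arrow_comp, kernel.condition, zero_comp])).Exact := by
  rw [ShortComplex.exact_iff_exact_up_to_refinements]
  intro Z x₂ hx₂
  dsimp at x₂ hx₂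
  have h0 : x₂ ≫ f = 0 := by
    rw [← imageSubobject_arrow_comp f, ← Category.assoc, hx₂, zero_comp]
  exact ⟨Z, 𝟙 Z, inferInstance, kernel.lift f x₂ h0, by simp⟩

theorem pow_succ_nsmul_id (p k : ℕ) (D : V) :
    (p ^ (k + 1)) • 𝟙 D = ((p ^ k) • 𝟙 D) ≫ (p • 𝟙 D) := by
  rw [Preadditive.nsmul_comp, Preadditive.comp_nsmul, Category.id_comp, ← mul_nsmul, pow_succ,
    mul_comm]

theorem epi_pow_nsmul_id (p : ℕ) (D : V) (h : Epi (p • 𝟙 D)) (k : ℕ) : Epi ((p ^ k) • 𝟙 D) := by
  induction k with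
  | zero => rw [pow_zero, one_smul]; infer_instance
  | succ k ih => rw [pow_succ_nsmul_id]; exact epi_comp' ih h

/-- A subobject on which `n` is an epimorphism lies in `n B`. -/
theorem le_imageSubobject_nsmul_of_epi {B : V} (D : Subobject B) (n : ℕ)
    (h : Epi (n • 𝟙 (D : V))) : D ≤ imageSubobject (n • 𝟙 B) := by
  have h1 : imageSubobject ((n • 𝟙 (D : V)) ≫ D.arrow) = D := by
    rw [imageSubobject_epi_comp, imageSubobject_arrow_eq]
  have h2 : (n • 𝟙 (D : V)) ≫ D.arrow = D.arrow ≫ (n • 𝟙 B) := by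
    rw [Preadditive.nsmul_comp, Preadditive.comp_nsmul, Category.id_comp, Category.comp_id]
  calc D = imageSubobject ((n • 𝟙 (D : V)) ≫ D.arrow) := h1.symm
    _ = imageSubobject (D.arrow ≫ (n • 𝟙 B)) := imageSubobject_congr h2
    _ ≤ imageSubobject (n • 𝟙 B) := imageSubobject_comp_le _ _

/-- If `m B = m k B` then `k` is an epimorphism of `m B`. -/
theorem epi_nsmul_imageSubobject {B : V} (m k : ℕ)
    (h : imageSubobject ((m * k) • 𝟙 B) = imageSubobject (m • 𝟙 B)) :
    Epi (k • 𝟙 ((imageSubobject (m • 𝟙 B) : Subobject B) : V)) := by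
  apply epi_of_imageSubobject_comp_arrow_eq (imageSubobject (m • 𝟙 B))
  have h1 : factorThruImageSubobject (m • 𝟙 B) ≫
      ((k • 𝟙 ((imageSubobject (m • 𝟙 B) : Subobject B) : V)) ≫
        (imageSubobject (m • 𝟙 B)).arrow) = (m * k) • 𝟙 B := by
    rw [Preadditive.nsmul_comp, Preadditive.comp_nsmul, Category.id_comp,
      imageSubobject_arrow_comp, ← mul_nsmul]
  rw [← imageSubobject_congr h1, imageSubobject_epi_comp] at h
  exact h

/-- A morphism killed by `n` on the target kills `n B`. -/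
theorem imageSubobject_nsmul_arrow_comp_eq_zero {B Q : V} (q : B ⟶ Q) (n : ℕ)
    (h : n • 𝟙 Q = 0) : (imageSubobject (n • 𝟙 B)).arrow ≫ q = 0 := by
  apply (cancel_epi (factorThruImageSubobject (n • 𝟙 B))).mp
  rw [← Category.assoc, imageSubobject_arrow_comp, comp_zero]
  have : (n • 𝟙 B) ≫ q = q ≫ (n • 𝟙 Q) := by
    rw [Preadditive.nsmul_comp, Preadditive.comp_nsmul, Category.id_comp, Category.comp_id]
  rw [this, h, comp_zero]

theorem arrow_comp_eq_zero_of_eq {B Q : V} (q : B ⟶ Q) {S T : Subobject B} (h : S = T)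
    (hS : S.arrow ≫ q = 0) : T.arrow ≫ q = 0 := by
  subst h; exact hS

end General

variable {C : Type v} [SmallCategory C] [Abelian C]

section

variable (hart : ∀ X : C, IsArtinianObject X)
  (htor : ∀ X : C, ∃ n : ℕ, 0 < n ∧ n • 𝟙 X = 0)

include hart htor in
/-- The image of a morphism from an ind-object of cofinite type is of cofinite type. -/
theorem essImage_kernel_nsmul_imageSubobject {A B : Ind C} (f : A ⟶ B)
    (hA : ∀ n : ℕ, 0 < n → (Ind.yoneda (C := C)).essImage (kernel (n • 𝟙 A)))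
    (hB : ∀ n : ℕ, 0 < n → (Ind.yoneda (C := C)).essImage (kernel (n • 𝟙 B)))
    (n : ℕ) (hn : 0 < n) :
    (Ind.yoneda (C := C)).essImage
      (kernel (n • 𝟙 ((imageSubobject f : Subobject B) : Ind C))) := by
  have hK : ∀ n : ℕ, 0 < n → (Ind.yoneda (C := C)).essImage (kernel (n • 𝟙 (kernel f))) :=
    fun n hn => essImage_kernel_nsmul_kernel f n (hA n hn) (hB n hn)
  exact essImage_kernel_nsmul_of_shortExact hart htor _ _ _
    (exact_kernel_factorThruImageSubobject f) hK hA n hn

end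

end Groth.Agent.Lib.Seat66.IndCofG
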