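import Groth.Agent.Lib.Seat66IndCofG
import Mathlib.CategoryTheory.Subobject.ArtinianObject

/-!
# Chains of subobjects of ind-objects lying in the essential image (seat 66)
-/

set_option autoImplicit false
universe v u

namespace Groth.Agent.Lib.Seat66.IndCofH

open CategoryTheory CategoryTheory.Limits Groth.Agent.Lib.Seat66 Groth.Agent.Lib.Seat66.IndCofB
  Groth.Agent.Lib.Seat66.AbSub

variable {C : Type v} [SmallCategory C] [Abelian C]

/-- A decreasing chain of subobjects of an ind-object, each lying in the essential image of an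
Artinian category, is eventually constant. -/
theorem chain_stabilizes_of_essImage (hart : ∀ X : C, IsArtinianObject X) {B : Ind C}
    (T : ℕ → Subobject B) (hT : Antitone T)
    (hess : ∀ m : ℕ, (Ind.yoneda (C := C)).essImage ((T m : Subobject B) : Ind C)) :
    ∃ M : ℕ, ∀ m : ℕ, M ≤ m → T m = T M := by
  choose X he using hess
  have e : ∀ m, Ind.yoneda.obj (X m) ≅ ((T m : Subobject B) : Ind C) := fun m => (he m).some
  have hle0 : ∀ m, T m ≤ T 0 := fun m => hT (Nat.zero_le m)
  let φ : ∀ m, X m ⟶ X 0 := fun m =>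
    (Ind.yoneda (C := C)).preimage ((e m).hom ≫ Subobject.ofLE (T m) (T 0) (hle0 m) ≫ (e 0).inv)
  have hφ : ∀ m, (Ind.yoneda (C := C)).map (φ m) =
      (e m).hom ≫ Subobject.ofLE (T m) (T 0) (hle0 m) ≫ (e 0).inv := fun m =>
    Functor.map_preimage _ _
  have hmono : ∀ m, Mono (φ m) := by
    intro m
    apply (Ind.yoneda (C := C)).mono_of_mono_map
    rw [hφ]
    infer_instance
  let U : ℕ → Subobject (X 0) := fun m => Subobject.mk (φ m)
  have hU : Antitone U := by
    intro m m' hmm'
    let ψ : X m' ⟶ X m := (Ind.yoneda (C := C)).preimage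
      ((e m').hom ≫ Subobject.ofLE (T m') (T m) (hT hmm') ≫ (e m).inv)
    have hψ : ψ ≫ φ m = φ m' := by
      apply (Ind.yoneda (C := C)).map_injective
      rw [Functor.map_comp, hφ, hφ, Functor.map_preimage]
      simp only [Category.assoc, Iso.inv_hom_id_assoc, Subobject.ofLE_comp_ofLE_assoc]
    exact Subobject.mk_le_mk_of_comm ψ hψ
  have := hart (X 0)
  obtain ⟨M, hM⟩ := antitone_chain_condition_of_isArtinianObject
    (⟨fun m => OrderDual.toDual (U m), fun a b hab => hU hab⟩ : ℕ →o (Subobject (X 0))ᵒᵈ)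
  refine ⟨M, fun m hm => le_antisymm (hT hm) ?_⟩
  have hUm : U M = U m := congrArg OrderDual.ofDual (hM m hm)
  have hle : Subobject.mk (φ M) ≤ Subobject.mk (φ m) := le_of_eq hUm
  let χ : X M ⟶ X m := Subobject.ofMkLEMk (φ M) (φ m) hle
  have hχ : χ ≫ φ m = φ M := Subobject.ofMkLEMk_comp hle
  have h1 := congrArg (Ind.yoneda (C := C)).map hχ
  rw [Functor.map_comp, hφ, hφ] at h1
  have h2 : (Ind.yoneda (C := C)).map χ ≫ (e m).hom ≫ Subobject.ofLE (T m) (T 0) (hle0 m) =
      (e M).hom ≫ Subobject.ofLE (T M) (T 0) (hle0 M) := by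
    apply (cancel_mono (e 0).inv).mp
    simpa only [Category.assoc] using h1
  refine Subobject.le_of_comm ((e M).inv ≫ (Ind.yoneda (C := C)).map χ ≫ (e m).hom) ?_
  have h3 := congrArg (fun k => k ≫ (T 0).arrow) h2
  simp only [Category.assoc, Subobject.ofLE_arrow] at h3
  rw [Category.assoc, Category.assoc, h3, Iso.inv_hom_id_assoc]

end Groth.Agent.Lib.Seat66.IndCofH
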