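import Groth.Agent.Lib.Seat66IndCofH
import Groth.Agent.Lib.Seat66IndCofD

/-!
# The category of ind-objects of cofinite type is Artinian (seat 66)
-/

set_option autoImplicit false
universe v u

namespace Groth.Agent.Lib.Seat66.IndCofI

open CategoryTheory CategoryTheory.Limits Groth.Agent.Lib.Seat66 Groth.Agent.Lib.Seat66.IndCofB
  Groth.Agent.Lib.Seat66.AbSub Groth.Agent.Lib.Seat66.IndCofG

section General

variable {V : Type u} [Category.{v} V] [Abelian V] {B : V}

/-- `n S` as a subobject of `B`. -/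
noncomputable abbrev mulSub (n : ℕ) (S : Subobject B) : Subobject B :=
  imageSubobject (S.arrow ≫ (n • 𝟙 B))

theorem arrow_nsmul (n : ℕ) (S : Subobject B) :
    S.arrow ≫ (n • 𝟙 B) = (n • 𝟙 (S : V)) ≫ S.arrow := by
  rw [Preadditive.nsmul_comp, Preadditive.comp_nsmul, Category.id_comp, Category.comp_id]

theorem mulSub_le (n : ℕ) (S : Subobject B) : mulSub n S ≤ S :=
  imageSubobject_le _ (n • 𝟙 (S : V)) (arrow_nsmul n S).symm

theorem le_mulSub_of_epi (n : ℕ) (S D : Subobject B) (hDS : D ≤ S)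
    (h : Epi (n • 𝟙 (D : V))) : D ≤ mulSub n S := by
  have h1 : imageSubobject ((n • 𝟙 (D : V)) ≫ D.arrow) = D := by
    rw [imageSubobject_epi_comp, imageSubobject_arrow_eq]
  have h2 : (n • 𝟙 (D : V)) ≫ D.arrow = Subobject.ofLE D S hDS ≫ (S.arrow ≫ (n • 𝟙 B)) := by
    rw [← arrow_nsmul, ← Category.assoc, Subobject.ofLE_arrow]
  calc D = imageSubobject ((n • 𝟙 (D : V)) ≫ D.arrow) := h1.symm
    _ = imageSubobject (Subobject.ofLE D S hDS ≫ (S.arrow ≫ (n • 𝟙 B))) :=
      imageSubobject_congr h2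
    _ ≤ mulSub n S := imageSubobject_comp_le _ _

theorem imageSubobject_arrow_comp_congr (S : Subobject B) {X Y : Subobject (S : V)}
    (h : X = Y) : imageSubobject (X.arrow ≫ S.arrow) = imageSubobject (Y.arrow ≫ S.arrow) := by
  subst h; rfl

theorem mulSub_eq_imageSubobject (n : ℕ) (S : Subobject B) :
    mulSub n S = imageSubobject ((imageSubobject (n • 𝟙 (S : V))).arrow ≫ S.arrow) := by
  have h1 : S.arrow ≫ (n • 𝟙 B) = factorThruImageSubobject (n • 𝟙 (S : V)) ≫
      ((imageSubobject (n • 𝟙 (S : V))).arrow ≫ S.arrow) := by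
    rw [← Category.assoc, imageSubobject_arrow_comp, arrow_nsmul]
  rw [mulSub, imageSubobject_congr h1, imageSubobject_epi_comp]

theorem mulSub_eq_of_imageSubobject_eq (a b : ℕ) (S : Subobject B)
    (h : imageSubobject (a • 𝟙 (S : V)) = imageSubobject (b • 𝟙 (S : V))) :
    mulSub a S = mulSub b S := by
  rw [mulSub_eq_imageSubobject, mulSub_eq_imageSubobject]
  exact imageSubobject_arrow_comp_congr S h

theorem epi_nsmul_mulSub (m k : ℕ) (S : Subobject B) (h : mulSub (m * k) S = mulSub m S) :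
    Epi (k • 𝟙 ((mulSub m S : Subobject B) : V)) := by
  have h1 : (factorThruImageSubobject (S.arrow ≫ (m • 𝟙 B)) ≫
      (k • 𝟙 ((mulSub m S : Subobject B) : V))) ≫ (mulSub m S).arrow =
      S.arrow ≫ ((m * k) • 𝟙 B) := by
    have h2 : (S.arrow ≫ (m • 𝟙 B)) ≫ (k • 𝟙 B) = S.arrow ≫ ((m * k) • 𝟙 B) := by
      simp only [Preadditive.comp_nsmul, Category.comp_id, mul_nsmul]
    rw [Category.assoc, ← arrow_nsmul, ← Category.assoc, imageSubobject_arrow_comp, h2]
  have : Epi (factorThruImageSubobject (S.arrow ≫ (m • 𝟙 B)) ≫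
      (k • 𝟙 ((mulSub m S : Subobject B) : V))) := by
    apply epi_of_imageSubobject_comp_arrow_eq (mulSub m S)
    rw [imageSubobject_congr h1]; exact h
  exact epi_of_epi (factorThruImageSubobject (S.arrow ≫ (m • 𝟙 B))) _

/-- The `p`-torsion of a subobject, as a subobject of `B`. -/
noncomputable abbrev tors (p : ℕ) (D : Subobject B) : Subobject B :=
  imageSubobject (kernel.ι (p • 𝟙 (D : V)) ≫ D.arrow)

theorem tors_mono (p : ℕ) {D' D : Subobject B} (h : D' ≤ D) : tors p D' ≤ tors p D := by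
  have h0 : (kernel.ι (p • 𝟙 (D' : V)) ≫ Subobject.ofLE D' D h) ≫ (p • 𝟙 (D : V)) = 0 := by
    have hc := kernel.condition (p • 𝟙 (D' : V))
    simp only [Preadditive.comp_nsmul, Category.comp_id] at hc ⊢
    rw [← Preadditive.nsmul_comp, hc, zero_comp]
  have h1 : kernel.ι (p • 𝟙 (D' : V)) ≫ D'.arrow =
      kernel.lift _ _ h0 ≫ (kernel.ι (p • 𝟙 (D : V)) ≫ D.arrow) := by
    rw [← Category.assoc, kernel.lift_ι, Category.assoc, Subobject.ofLE_arrow]
  rw [tors, imageSubobject_congr h1]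
  exact imageSubobject_comp_le _ _

/-- The underlying object of the `p`-torsion subobject. -/
noncomputable def torsIso (p : ℕ) (D : Subobject B) :
    ((tors p D : Subobject B) : V) ≅ kernel (p • 𝟙 (D : V)) :=
  imageSubobjectIso _ ≪≫ imageMonoIsoSource _

/-- Two nested subobjects, the smaller one divisible, with the same `p`-torsion, have the same
`p`-power torsion generalized elements. -/
theorem comp_cokernel_eq_zero_of_tors_le (p : ℕ) (D D' : Subobject B) (hle : D' ≤ D)
    (hdiv : Epi (p • 𝟙 (D' : V))) (ht : tors p D ≤ tors p D') :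
    ∀ (k : ℕ) (Z : V) (g : Z ⟶ (D : V)), (p ^ k) • g = 0 →
      g ≫ D.arrow ≫ cokernel.π D'.arrow = 0 := by
  intro k
  induction k with
  | zero =>
    intro Z g hg
    rw [pow_zero, one_smul] at hg
    rw [hg, zero_comp]
  | succ k ih =>
    intro Z g hg
    have hp0 : ((p ^ k) • g) ≫ (p • 𝟙 (D : V)) = 0 := by
      rw [Preadditive.comp_nsmul, Category.comp_id, ← mul_nsmul, ← pow_succ]
      exact hg
    let h' : Z ⟶ kernel (p • 𝟙 (D : V)) := kernel.lift _ ((p ^ k) • g) hp0
    have hh' : h' ≫ kernel.ι (p • 𝟙 (D : V)) = (p ^ k) • g := kernel.lift_ι _ _ _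
    let u : Z ⟶ ((tors p D' : Subobject B) : V) :=
      h' ≫ factorThruImageSubobject (kernel.ι (p • 𝟙 (D : V)) ≫ D.arrow) ≫
        Subobject.ofLE _ _ ht
    obtain ⟨Z₁, π₁, hπ₁, x, hx⟩ := surjective_up_to_refinements_of_epi
      (factorThruImageSubobject (kernel.ι (p • 𝟙 (D' : V)) ≫ D'.arrow)) u
    have e1 : π₁ ≫ ((p ^ k) • g) ≫ D.arrow =
        (x ≫ kernel.ι (p • 𝟙 (D' : V))) ≫ D'.arrow := by
      have h2 := congrArg (fun t => t ≫ (tors p D').arrow) hx
      simp only [u, Category.assoc, Subobject.ofLE_arrow, imageSubobject_arrow_comp] at h2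
      rw [← hh', Category.assoc, h2, Category.assoc]
    have hk := epi_pow_nsmul_id p (D' : V) hdiv k
    obtain ⟨Z₂, π₂, hπ₂, d'', hd''⟩ := surjective_up_to_refinements_of_epi
      ((p ^ k) • 𝟙 (D' : V)) (x ≫ kernel.ι (p • 𝟙 (D' : V)))
    have e2 : π₁ ≫ ((p ^ k) • g) = (x ≫ kernel.ι (p • 𝟙 (D' : V))) ≫ Subobject.ofLE D' D hle := by
      apply (cancel_mono D.arrow).mp
      rw [Category.assoc, Category.assoc, Subobject.ofLE_arrow, e1, Category.assoc]
    have hg₂ : (p ^ k) • (π₂ ≫ π₁ ≫ g - d'' ≫ Subobject.ofLE D' D hle) = 0 := by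
      have h3 : (p ^ k) • (d'' ≫ Subobject.ofLE D' D hle) =
          (d'' ≫ ((p ^ k) • 𝟙 (D' : V))) ≫ Subobject.ofLE D' D hle := by
        simp only [Preadditive.comp_nsmul, Preadditive.nsmul_comp, Category.comp_id]
      have h4 : (p ^ k) • (π₂ ≫ π₁ ≫ g) = π₂ ≫ π₁ ≫ ((p ^ k) • g) := by
        simp only [Preadditive.comp_nsmul]
      rw [smul_sub, h3, h4, ← hd'', e2]
      simp only [Category.assoc, sub_self]
    have h5 := ih Z₂ _ hg₂
    have h6 : (d'' ≫ Subobject.ofLE D' D hle) ≫ D.arrow ≫ cokernel.π D'.arrow = 0 := by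
      rw [Category.assoc, ← Category.assoc (Subobject.ofLE D' D hle), Subobject.ofLE_arrow,
        cokernel.condition, comp_zero]
    have := epi_comp' hπ₂ hπ₁
    apply (cancel_epi (π₂ ≫ π₁)).mp
    rw [comp_zero]
    rw [Preadditive.sub_comp, h6, sub_zero] at h5
    simpa only [Category.assoc] using h5

/-- If `D ≤ S` and the image of `S'` in `B / D` lies in the image of `S` then `S' ≤ S`. -/
theorem le_of_image_le (D S S' : Subobject B) (hDS : D ≤ S)
    (h : imageSubobject (S'.arrow ≫ cokernel.π D.arrow) ≤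
      imageSubobject (S.arrow ≫ cokernel.π D.arrow)) : S' ≤ S := by
  apply le_of_comp_cokernel_eq_zero
  obtain ⟨Z₁, π₁, hπ₁, x, hx⟩ := surjective_up_to_refinements_of_epi
    (factorThruImageSubobject (S.arrow ≫ cokernel.π D.arrow))
    (factorThruImageSubobject (S'.arrow ≫ cokernel.π D.arrow) ≫ Subobject.ofLE _ _ h)
  have e1 : π₁ ≫ S'.arrow ≫ cokernel.π D.arrow = x ≫ S.arrow ≫ cokernel.π D.arrow := by
    have h2 := congrArg (fun t => t ≫ (imageSubobject (S.arrow ≫ cokernel.π D.arrow)).arrow) hx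
    simpa only [Category.assoc, Subobject.ofLE_arrow, imageSubobject_arrow_comp] using h2
  have e2 : (π₁ ≫ S'.arrow - x ≫ S.arrow) ≫ cokernel.π D.arrow = 0 := by
    rw [Preadditive.sub_comp, Category.assoc, Category.assoc, e1, sub_self]
  have e3 : π₁ ≫ S'.arrow =
      (x + Abelian.monoLift D.arrow _ e2 ≫ Subobject.ofLE D S hDS) ≫ S.arrow := by
    rw [Preadditive.add_comp, Category.assoc, Subobject.ofLE_arrow, Abelian.monoLift_comp]
    abel
  apply (cancel_epi π₁).mp
  rw [comp_zero, ← Category.assoc, e3, Category.assoc, cokernel.condition, comp_zero]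

theorem nsmul_comp_factorThru_eq_zero (n : ℕ) (S : Subobject B) :
    (n • 𝟙 (S : V)) ≫
      factorThruImageSubobject (S.arrow ≫ cokernel.π (mulSub n S).arrow) = 0 := by
  apply (cancel_mono (imageSubobject (S.arrow ≫ cokernel.π (mulSub n S).arrow)).arrow).mp
  rw [Category.assoc, imageSubobject_arrow_comp, zero_comp, ← Category.assoc, ← arrow_nsmul,
    ← imageSubobject_arrow_comp (S.arrow ≫ (n • 𝟙 B)), Category.assoc, cokernel.condition,
    comp_zero]

/-- `S ⟶ S ⟶ S / n S ⟶ 0` is exact, where `S / n S` is realized as the image of `S` in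
`B / n S`. -/
theorem exact_nsmul_factorThru (n : ℕ) (S : Subobject B) :
    (ShortComplex.mk (n • 𝟙 (S : V))
      (factorThruImageSubobject (S.arrow ≫ cokernel.π (mulSub n S).arrow))
      (nsmul_comp_factorThru_eq_zero n S)).Exact := by
  rw [ShortComplex.exact_iff_exact_up_to_refinements]
  intro Z x₂ hx₂
  dsimp at x₂ hx₂
  have h0 : (x₂ ≫ S.arrow) ≫ cokernel.π (mulSub n S).arrow = 0 := by
    rw [Category.assoc, ← imageSubobject_arrow_comp (S.arrow ≫ cokernel.π (mulSub n S).arrow),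
      ← Category.assoc, hx₂, zero_comp]
  obtain ⟨Z₁, π₁, hπ₁, y, hy⟩ := surjective_up_to_refinements_of_epi
    (factorThruImageSubobject (S.arrow ≫ (n • 𝟙 B)))
    (Abelian.monoLift (mulSub n S).arrow _ h0)
  refine ⟨Z₁, π₁, hπ₁, y, ?_⟩
  dsimp
  apply (cancel_mono S.arrow).mp
  have h1 := congrArg (fun t => t ≫ (mulSub n S).arrow) hy
  simp only [Category.assoc, Abelian.monoLift_comp, imageSubobject_arrow_comp] at h1
  rw [Category.assoc, h1, Category.assoc, arrow_nsmul]

/-- The image of `S` in `B / n S` is `S / n S`. -/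
noncomputable def imageIsoCokernel (n : ℕ) (S : Subobject B) :
    cokernel (n • 𝟙 (S : V)) ≅
      ((imageSubobject (S.arrow ≫ cokernel.π (mulSub n S).arrow) : Subobject _) : V) :=
  IsColimit.coconePointUniqueUpToIso (cokernelIsCokernel (n • 𝟙 (S : V)))
    (exact_nsmul_factorThru n S).gIsCokernel

end General

section Ind

variable {C : Type v} [SmallCategory C] [Abelian C]
  (hart : ∀ X : C, IsArtinianObject X) (p : ℕ) (hp : p.Prime)
  (htor : ∀ X : C, ∃ n : ℕ, (p ^ n) • 𝟙 X = 0)

include htor in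
/-- Nested subobjects of an ind-object, the smaller one divisible, with the same `p`-torsion, are
equal. -/
theorem le_of_tors_le {A : Ind C} (D D' : Subobject A) (hle : D' ≤ D)
    (hdiv : Epi (p • 𝟙 ((D' : Subobject A) : Ind C))) (ht : tors p D ≤ tors p D') : D ≤ D' := by
  apply le_of_comp_cokernel_eq_zero
  apply eq_zero_of_forall_yoneda
  intro X g
  obtain ⟨k, hk⟩ := htor X
  exact comp_cokernel_eq_zero_of_tors_le p D D' hle hdiv ht k _ g (nsmul_eq_zero_of_yoneda hk g)

include hart hp htor in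
/-- The category of ind-objects of cofinite type is Artinian. -/
theorem chain_stabilizes (A : Ind C)
    (hA : ∀ n : ℕ, (Ind.yoneda (C := C)).essImage (kernel ((p ^ n) • 𝟙 A)))
    (S : ℕ → Subobject A) (hS : Antitone S)
    (hcof : ∀ m n : ℕ, (Ind.yoneda (C := C)).essImage
      (kernel ((p ^ n) • 𝟙 ((S m : Subobject A) : Ind C)))) :
    ∃ N : ℕ, ∀ m : ℕ, N ≤ m → S m = S N := by
  have htorg := IndCofP.htor_general p hp htor
  have hAg := IndCofP.essImage_kernel_nsmul p hp htor A hA
  have hcofg := fun m => IndCofP.essImage_kernel_nsmul p hp htor _ (hcof m)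
  -- the stabilization indices
  have hex : ∀ m : ℕ, ∃ N : ℕ, ∀ n : ℕ, N ≤ n → mulSub (p ^ n) (S m) = mulSub (p ^ N) (S m) := by
    intro m
    obtain ⟨N, hN⟩ := IndCofD.exists_stable_image hart p hp htor _ (hcof m)
    exact ⟨N, fun n hn => mulSub_eq_of_imageSubobject_eq _ _ _ (hN n hn)⟩
  choose N hN using hex
  -- the divisible parts
  let D : ℕ → Subobject A := fun m => mulSub (p ^ N m) (S m)
  have hDS : ∀ m, D m ≤ S m := fun m => mulSub_le _ _
  have hdiv : ∀ m, Epi (p • 𝟙 ((D m : Subobject A) : Ind C)) := by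
    intro m
    apply epi_nsmul_mulSub (p ^ N m) p (S m)
    rw [← pow_succ]
    exact hN m (N m + 1) (Nat.le_succ _)
  have hDanti : Antitone D := by
    intro m m' hmm'
    exact le_mulSub_of_epi (p ^ N m) (S m) (D m') ((hDS m').trans (hS hmm'))
      (epi_pow_nsmul_id p _ (hdiv m') (N m))
  have hDcof : ∀ m, (Ind.yoneda (C := C)).essImage
      (kernel (p • 𝟙 ((D m : Subobject A) : Ind C))) := fun m =>
    essImage_kernel_nsmul_imageSubobject hart htorg ((S m).arrow ≫ ((p ^ N m) • 𝟙 A))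
      (hcofg m) hAg p hp.pos
  -- their `p`-torsion stabilizes
  obtain ⟨M, hM⟩ := IndCofH.chain_stabilizes_of_essImage hart (fun m => tors p (D m))
    (fun m m' hmm' => tors_mono p (hDanti hmm'))
    (fun m => Functor.essImage.ofIso (torsIso p (D m)).symm (hDcof m))
  have hDeq : ∀ m, M ≤ m → D m = D M := fun m hm =>
    le_antisymm (hDanti hm)
      (le_of_tors_le p htor (D M) (D m) (hDanti hm) (hdiv m) (le_of_eq (hM m hm).symm))
  -- the images in the quotient by the divisible part
  have hQess : ∀ k : ℕ, (Ind.yoneda (C := C)).essImage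
      ((imageSubobject ((S (M + k)).arrow ≫ cokernel.π (D M).arrow) : Subobject _) : Ind C) := by
    intro k
    have h1 := IndCofC.essImage_cokernel_nsmul hart htorg _ (hcofg (M + k)) (p ^ N (M + k))
      (pow_pos hp.pos _)
    have h2 := Functor.essImage.ofIso (imageIsoCokernel (p ^ N (M + k)) (S (M + k))) h1
    have h3 : mulSub (p ^ N (M + k)) (S (M + k)) = D M := hDeq (M + k) (Nat.le_add_right M k)
    rw [h3] at h2
    exact h2
  obtain ⟨M', hM'⟩ := IndCofH.chain_stabilizes_of_essImage hart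
    (fun k => imageSubobject ((S (M + k)).arrow ≫ cokernel.π (D M).arrow))
    (by
      intro k k' hkk'
      have hle : S (M + k') ≤ S (M + k) := hS (Nat.add_le_add_left hkk' M)
      have h1 : (S (M + k')).arrow ≫ cokernel.π (D M).arrow =
          Subobject.ofLE _ _ hle ≫ ((S (M + k)).arrow ≫ cokernel.π (D M).arrow) := by
        rw [← Category.assoc, Subobject.ofLE_arrow]
      dsimp only
      rw [imageSubobject_congr h1]
      exact imageSubobject_comp_le _ _) hQess
  refine ⟨M + M', fun m hm => le_antisymm (hS hm) ?_⟩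
  obtain ⟨k, rfl⟩ : ∃ k, m = M + k := ⟨m - M, by omega⟩
  have hk : M' ≤ k := by omega
  have hDle : D M ≤ S (M + k) := by
    rw [← hDeq (M + k) (Nat.le_add_right M k)]
    exact hDS _
  exact le_of_image_le (D M) (S (M + k)) (S (M + M')) hDle (le_of_eq (hM' k hk).symm)

end Ind

end Groth.Agent.Lib.Seat66.IndCofI
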