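import Groth.Prelude.Def_IntMult
import Groth.Agent.Lib.Helper5RegImm
import Groth.Agent.Lib.Seat66DiagReg

/-!
# Local rings of closed subvarieties inside the local ring of the ambient variety (seat 66)

Tools for the Tor-formula intersection multiplicity `IntMult.mult`:
* `stalkIdeal_eq_ker`: `IntMult.stalkIdeal I (ι z)` is the kernel of the stalk map of the closed
  immersion `ι : V(I) → X` at `z`.
* `fromSpecStalk_mem_support`: a prime of `O_{X,ξ}` containing the stalk ideal gives a point of the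
  support.
* `ringKrullDim_quot_sup_eq_zero`: at a point `ξ` of `V ∩ W` maximal under specialization,
  `O_{X,ξ}/(I_W + I_V)` has dimension `0`.
* `stalkIdeal_isPrime_and_dim`: for an integral closed subscheme of dimension `r` of a scheme locally
  of finite type over a field, the stalk ideal is prime and `dim O_ξ/I_ξ + trdeg κ(ξ) = r`.
* `exists_dim_stalk`, `trdegNat_le_of_properInt`.
-/

set_option autoImplicit false
set_option linter.style.haveILetI false
universe u

open AlgebraicGeometry CategoryTheory TopologicalSpace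

namespace Groth.Agent.Lib.Seat66.IntMultLocal

open Groth.Agent.Lib.Helper4.VarDim Groth.Agent.Lib.Seat66.CharCycFib
  Groth.Agent.Lib.Seat66.CharCycBase Groth.Agent.Lib.Seat66.DiagReg
  Groth.Agent.Lib.Helper5.RegImm

section General

variable {X : Scheme.{u}}

theorem stalkIdeal_eq_ker (I : X.IdealSheafData) (z : I.subscheme) :
    IntMult.stalkIdeal I (I.subschemeι z) = RingHom.ker (I.subschemeι.stalkMap z).hom := by
  unfold IntMult.stalkIdeal
  apply le_antisymm
  · refine iSup₂_le fun U hx => ?_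
    rw [ker_stalkMap_eq_map_ker I.subschemeι z U.1 U.2 hx, I.ker_subschemeι]
  · obtain ⟨U, hU, hx, -⟩ :=
      exists_isAffineOpen_mem_and_subset (x := I.subschemeι z) (U := ⊤) trivial
    rw [ker_stalkMap_eq_map_ker I.subschemeι z U hU hx, I.ker_subschemeι]
    exact le_iSup₂_of_le (f := fun (U : X.affineOpens) (hx : I.subschemeι z ∈ (U : X.Opens)) =>
      (I.ideal U).map (X.presheaf.germ U (I.subschemeι z) hx).hom) ⟨U, hU⟩ hx le_rfl

theorem fromSpecStalk_mem_support (I : X.IdealSheafData) (ξ : X)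
    (P : PrimeSpectrum (X.presheaf.stalk ξ)) (hP : IntMult.stalkIdeal I ξ ≤ P.asIdeal) :
    X.fromSpecStalk ξ P ∈ I.support := by
  obtain ⟨U, hU, hξU, -⟩ := exists_isAffineOpen_mem_and_subset (x := ξ) (U := ⊤) trivial
  rw [← hU.fromSpecStalk_eq_fromSpecStalk hξU]
  have hq : (Spec.map (X.presheaf.germ U ξ hξU)) P ∈
      PrimeSpectrum.zeroLocus (I.ideal ⟨U, hU⟩ : Set Γ(X, U)) := by
    intro a ha
    change (X.presheaf.germ U ξ hξU).hom a ∈ P.asIdeal
    apply hP
    unfold IntMult.stalkIdeal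
    exact le_iSup₂_of_le (f := fun (U : X.affineOpens) (hx : ξ ∈ (U : X.Opens)) =>
      (I.ideal U).map (X.presheaf.germ U ξ hx).hom) ⟨U, hU⟩ hξU le_rfl
      (Ideal.mem_map_of_mem _ ha)
  have h2 : hU.fromSpec ((Spec.map (X.presheaf.germ U ξ hξU)) P) ∈
      X.zeroLocus (U := U) (I.ideal ⟨U, hU⟩ : Set Γ(X, U)) ∩ U := by
    rw [← hU.fromSpec_image_zeroLocus]
    exact ⟨_, hq, rfl⟩
  have h3 := (I.coe_support_inter ⟨U, hU⟩).ge h2
  exact h3.1

theorem stalkIdeal_le_maximalIdeal (I : X.IdealSheafData) (ξ : X) (hξ : ξ ∈ I.support) :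
    IntMult.stalkIdeal I ξ ≤ IsLocalRing.maximalIdeal (X.presheaf.stalk ξ) := by
  have : ξ ∈ Set.range I.subschemeι := by rw [I.range_subschemeι]; exact hξ
  obtain ⟨z, rfl⟩ := this
  rw [stalkIdeal_eq_ker]
  exact IsLocalRing.le_maximalIdeal (RingHom.ker_ne_top _)

theorem eq_closedPoint_of_le (IV IW : X.IdealSheafData) (ξ : X)
    (hmax : ∀ ξ' : X, ξ' ∈ IV.support → ξ' ∈ IW.support → ξ' ⤳ ξ → ξ' = ξ)
    (P : PrimeSpectrum (X.presheaf.stalk ξ))
    (hP : IntMult.stalkIdeal IW ξ ⊔ IntMult.stalkIdeal IV ξ ≤ P.asIdeal) :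
    P = IsLocalRing.closedPoint (X.presheaf.stalk ξ) := by
  have hV := fromSpecStalk_mem_support IV ξ P (le_sup_right.trans hP)
  have hW := fromSpecStalk_mem_support IW ξ P (le_sup_left.trans hP)
  have hsp : X.fromSpecStalk ξ P ⤳ ξ := (X.range_fromSpecStalk (x := ξ)).le ⟨P, rfl⟩
  have h1 := hmax _ hV hW hsp
  have h2 : X.fromSpecStalk ξ P = X.fromSpecStalk ξ (IsLocalRing.closedPoint _) :=
    h1.trans Scheme.fromSpecStalk_closedPoint.symm
  exact (X.fromSpecStalk ξ).isEmbedding.injective h2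

theorem ringKrullDim_quot_sup_eq_zero (IV IW : X.IdealSheafData) (ξ : X)
    (hξV : ξ ∈ IV.support) (hξW : ξ ∈ IW.support)
    (hmax : ∀ ξ' : X, ξ' ∈ IV.support → ξ' ∈ IW.support → ξ' ⤳ ξ → ξ' = ξ) :
    ringKrullDim (X.presheaf.stalk ξ ⧸ (IntMult.stalkIdeal IW ξ ⊔ IntMult.stalkIdeal IV ξ)) = 0 := by
  rw [ringKrullDim_quotient]
  haveI : Nonempty (PrimeSpectrum.zeroLocus (R := X.presheaf.stalk ξ)
      (IntMult.stalkIdeal IW ξ ⊔ IntMult.stalkIdeal IV ξ : Ideal (X.presheaf.stalk ξ))) := by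
    refine ⟨⟨IsLocalRing.closedPoint _, ?_⟩⟩
    rw [PrimeSpectrum.mem_zeroLocus, SetLike.coe_subset_coe]
    exact sup_le (stalkIdeal_le_maximalIdeal IW ξ hξW) (stalkIdeal_le_maximalIdeal IV ξ hξV)
  haveI : Subsingleton (PrimeSpectrum.zeroLocus (R := X.presheaf.stalk ξ)
      (IntMult.stalkIdeal IW ξ ⊔ IntMult.stalkIdeal IV ξ : Ideal (X.presheaf.stalk ξ))) := by
    refine ⟨fun a b => Subtype.ext ?_⟩
    have ha := eq_closedPoint_of_le IV IW ξ hmax a.1
      (by have := a.2; rwa [PrimeSpectrum.mem_zeroLocus, SetLike.coe_subset_coe] at this)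
    have hb := eq_closedPoint_of_le IV IW ξ hmax b.1
      (by have := b.2; rwa [PrimeSpectrum.mem_zeroLocus, SetLike.coe_subset_coe] at this)
    rw [ha, hb]
  exact Order.krullDim_eq_zero

end General

section OverField

variable (K : Type u) [Field K] (X : Scheme.{u}) [X.Over (Spec (CommRingCat.of K))]
  [LocallyOfFiniteType (X ↘ Spec (CommRingCat.of K))]

theorem exists_dim_stalk_subscheme (I : X.IdealSheafData) [IsIntegral I.subscheme] (r : ℕ)
    (hr : topologicalKrullDim I.support = r) (z : I.subscheme) :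
    ∃ b : ℕ, ringKrullDim (I.subscheme.presheaf.stalk z) = b ∧
      b + trdegNat K X (I.subschemeι z) = r := by
  letI : I.subscheme.Over (Spec (CommRingCat.of K)) :=
    ⟨I.subschemeι ≫ (X ↘ Spec (CommRingCat.of K))⟩
  haveI : LocallyOfFiniteType (I.subscheme ↘ Spec (CommRingCat.of K)) :=
    inferInstanceAs (LocallyOfFiniteType (I.subschemeι ≫ (X ↘ Spec (CommRingCat.of K))))
  have hdim : topologicalKrullDim I.subscheme = r := by
    rw [← hr]
    rfl
  obtain ⟨b, hb⟩ := exists_ringKrullDim_stalk_eq K I.subscheme z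
  have h1 := localDim_eq_add K I.subscheme z (trdegNat K I.subscheme z) b
    (trdeg_eq_trdegNat K I.subscheme z) hb
  rw [localDim_eq_of_irreducible K I.subscheme z, hdim] at h1
  have h2 : trdegNat K I.subscheme z = trdegNat K X (I.subschemeι z) :=
    trdegNat_eq_of_isPreimmersion K I.subschemeι rfl z
  refine ⟨b, hb, ?_⟩
  have h3 : r = trdegNat K I.subscheme z + b := by exact_mod_cast h1
  omega

theorem stalkIdeal_isPrime_and_dim (I : X.IdealSheafData) [IsIntegral I.subscheme] (r : ℕ)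
    (hr : topologicalKrullDim I.support = r) (ξ : X) (hξ : ξ ∈ I.support) :
    (IntMult.stalkIdeal I ξ).IsPrime ∧ ∃ b : ℕ,
      ringKrullDim (X.presheaf.stalk ξ ⧸ IntMult.stalkIdeal I ξ) = b ∧
        b + trdegNat K X ξ = r := by
  have : ξ ∈ Set.range I.subschemeι := by rw [I.range_subschemeι]; exact hξ
  obtain ⟨z, rfl⟩ := this
  rw [stalkIdeal_eq_ker]
  haveI : IsDomain (I.subscheme.presheaf.stalk z) := inferInstance
  refine ⟨RingHom.ker_isPrime _, ?_⟩
  obtain ⟨b, hb, hbt⟩ := exists_dim_stalk_subscheme K X I r hr z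
  refine ⟨b, ?_, hbt⟩
  rw [← hb]
  exact ringKrullDim_eq_of_ringEquiv
    (RingHom.quotientKerEquivOfSurjective (I.subschemeι.stalkMap_surjective z))

theorem exists_dim_stalk [IrreducibleSpace X] (n : ℕ) (hn : topologicalKrullDim X = n) (ξ : X) :
    ∃ b : ℕ, ringKrullDim (X.presheaf.stalk ξ) = b ∧ b + trdegNat K X ξ = n := by
  obtain ⟨b, hb⟩ := exists_ringKrullDim_stalk_eq K X ξ
  have h1 := localDim_eq_add K X ξ (trdegNat K X ξ) b (trdeg_eq_trdegNat K X ξ) hb
  rw [localDim_eq_of_irreducible K X ξ, hn] at h1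
  refine ⟨b, hb, ?_⟩
  have h3 : n = trdegNat K X ξ + b := by exact_mod_cast h1
  omega

theorem trdegNat_le_of_properInt (IV IW : X.IdealSheafData) (n r s : ℕ)
    (hprop : IntMult.ProperInt (IV.support : Set X) (IW.support : Set X) n r s) (ξ : X)
    (hξV : ξ ∈ IV.support) (hξW : ξ ∈ IW.support) :
    n ≤ r + s ∧ trdegNat K X ξ ≤ r + s - n := by
  obtain ⟨h1, h2⟩ := hprop ⟨ξ, hξV, hξW⟩
  refine ⟨h1, ?_⟩
  have hcl : IsClosed ((IV.support : Set X) ∩ (IW.support : Set X)) :=
    IV.support.isClosed.inter IW.support.isClosed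
  have h3 := trdegNat_le_topologicalKrullDim_of_isLocallyClosed K X _ hcl.isLocallyClosed ξ
    ⟨hξV, hξW⟩
  exact_mod_cast h3.trans h2

end OverField

end Groth.Agent.Lib.Seat66.IntMultLocal
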