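import Groth.Agent.Lib.Seat66TorSymm
import Groth.Agent.Lib.Seat66IntMultLocal
import Groth.Agent.Lib.Helper5CM2
import Groth.Agent.Lib.Seat11FibRing
import Groth.Agent.Lib.Helper5RegImmAlg

/-!
# Intersection multiplicity against a complete intersection (seat 66)

* `mult_eq_length_of_cartier`: if `V` is cut out at `ξ` by one nonzerodivisor `g`, then
  `e(X, V·W, Z) = length O_{X,ξ}/(I_W + (g))`.
* `mult_eq_length_of_regular`: if `V` is cut out at `ξ` by a regular sequence and `O_{W,ξ}` is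
  Cohen–Macaulay, then `e(X, V·W, Z) = length O_{X,ξ}/(I_W + I_V)`.
-/

set_option autoImplicit false
set_option linter.style.haveILetI false
universe u

open AlgebraicGeometry CategoryTheory TopologicalSpace RingTheory.Sequence

namespace Groth.Agent.Lib.Seat66.IntMultMain

open Groth.Agent.Lib.Helper4.VarDim Groth.Agent.Lib.Seat66.IntMultLocal
  Groth.Agent.Lib.Seat66.TorSymm Groth.Agent.Lib.Helper5

section Alg

variable {O : Type u} [CommRing O] [IsLocalRing O] [IsNoetherianRing O]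

theorem isCohenMacaulayModule_quotient (I : Ideal O)
    (h : LocCoh.IsCohenMacaulayLocalRing (O ⧸ I)) : LocCoh.IsCohenMacaulayModule O (O ⧸ I) := by
  unfold LocCoh.IsCohenMacaulayModule
  have hs : Function.Surjective (algebraMap O (O ⧸ I)) := Ideal.Quotient.mk_surjective
  haveI := h.toIsLocalRing
  haveI : IsNoetherianRing (O ⧸ I) := inferInstance
  rw [← Groth.Agent.Lib.Seat11.FibRing.supportDim_eq_of_surjective hs (O ⧸ I),
    ← Groth.Agent.Lib.Seat11.FibRing.depth_eq_of_surjective hs (O ⧸ I)]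
  exact h.supportDim_eq_depth

theorem isWeaklyRegular_quotient_of_cm (I : Ideal O) (l : List O)
    (hl : ∀ x ∈ l, x ∈ IsLocalRing.maximalIdeal O)
    (hCM : LocCoh.IsCohenMacaulayLocalRing (O ⧸ I))
    (h0 : ringKrullDim (O ⧸ (I ⊔ Ideal.ofList l)) = 0)
    (hdim : ringKrullDim (O ⧸ I) = l.length) :
    IsWeaklyRegular (O ⧸ I) l := by
  have hM := isCohenMacaulayModule_quotient I hCM
  rw [(isWeaklyRegular_iff_of_isCohenMacaulayModule l (O ⧸ I) hM hl).1]
  rw [Module.supportDim_eq_of_equiv (quotQuotEquiv I (Ideal.ofList l)),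
    Module.supportDim_quotient_eq_ringKrullDim, Module.supportDim_quotient_eq_ringKrullDim, h0,
    hdim, zero_add]

theorem ringKrullDim_quotient_le (I : Ideal O) (hI : I ≠ ⊤) (c : ℕ) (g : Fin c → O)
    (hg : ∀ i, g i ∈ IsLocalRing.maximalIdeal O)
    (h0 : ringKrullDim (O ⧸ (I ⊔ Ideal.span (Set.range g))) = 0) :
    ringKrullDim (O ⧸ I) ≤ c := by
  classical
  haveI : Nontrivial (O ⧸ I) := Ideal.Quotient.nontrivial_iff.mpr hI
  let s : Finset (O ⧸ I) := Finset.univ.image (fun i => Ideal.Quotient.mk I (g i))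
  have hs : (s : Set (O ⧸ I)) ⊆ Ring.jacobson (O ⧸ I) := by
    intro x hx
    rw [IsLocalRing.ringJacobson_eq_maximalIdeal]
    simp only [s, Finset.coe_image, Finset.coe_univ, Set.image_univ, Set.mem_range] at hx
    obtain ⟨i, rfl⟩ := hx
    rw [SetLike.mem_coe, IsLocalRing.mem_maximalIdeal, mem_nonunits_iff]
    intro hu
    have h1 := hg i
    rw [IsLocalRing.mem_maximalIdeal, mem_nonunits_iff] at h1
    have hloc : IsLocalHom (Ideal.Quotient.mk I) :=
      Function.Surjective.isLocalHom _ Ideal.Quotient.mk_surjective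
    exact h1 (hloc.map_nonunit _ hu)
  have h1 := ringKrullDim_le_ringKrullDim_quotient_add_card s hs
  have h2 : Ideal.span (s : Set (O ⧸ I)) =
      (Ideal.span (Set.range g)).map (Ideal.Quotient.mk I) := by
    rw [Ideal.map_span]
    congr 1
    ext x
    simp [s]
  have e : ((O ⧸ I) ⧸ Ideal.span (s : Set (O ⧸ I))) ≃+* O ⧸ (I ⊔ Ideal.span (Set.range g)) :=
    (Ideal.quotEquivOfEq h2).trans (DoubleQuot.quotQuotEquivQuotSup I _)
  rw [ringKrullDim_eq_of_ringEquiv e, h0, zero_add] at h1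
  refine h1.trans ?_
  have h3 : s.card ≤ c := Finset.card_image_le.trans (by simp)
  exact_mod_cast h3

end Alg

section Main

variable (K : Type u) [Field K] (X : Scheme.{u}) (f : X ⟶ Spec (CommRingCat.of K))
  [LocallyOfFiniteType f] [IsIntegral X] (IV IW : X.IdealSheafData) [IsIntegral IV.subscheme]
  [IsIntegral IW.subscheme] (n r s : ℕ) (hn : topologicalKrullDim X = n)
  (hr : topologicalKrullDim IV.support = r) (hs : topologicalKrullDim IW.support = s)
  (hprop : IntMult.ProperInt (IV.support : Set X) (IW.support : Set X) n r s) (ξ : X)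
  (hξV : ξ ∈ IV.support) (hξW : ξ ∈ IW.support)
  (hmax : ∀ ξ' : X, ξ' ∈ IV.support → ξ' ∈ IW.support → ξ' ⤳ ξ → ξ' = ξ)

include K f hn hr hs hprop hξV hξW hmax in
theorem mult_eq_length_of_cartier (g : ↑(X.presheaf.stalk ξ))
    (hg : IntMult.stalkIdeal IV ξ = Ideal.span {g})
    (hreg : IsSMulRegular (↑(X.presheaf.stalk ξ)) g) :
    (IntMult.mult IV IW ξ : ℤ) = (Module.length (X.presheaf.stalk ξ)
      (↑(X.presheaf.stalk ξ) ⧸ (IntMult.stalkIdeal IW ξ ⊔ Ideal.span {g}))).toNat := by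
  letI : X.Over (Spec (CommRingCat.of K)) := ⟨f⟩
  haveI : LocallyOfFiniteType (X ↘ Spec (CommRingCat.of K)) :=
    inferInstanceAs (LocallyOfFiniteType f)
  haveI : IsLocallyNoetherian X := LocallyOfFiniteType.isLocallyNoetherian f
  obtain ⟨hVp, bV, hbV, hbVt⟩ := stalkIdeal_isPrime_and_dim K X IV r hr ξ hξV
  obtain ⟨hWp, bW, hbW, hbWt⟩ := stalkIdeal_isPrime_and_dim K X IW s hs ξ hξW
  obtain ⟨bX, hbX, hbXt⟩ := exists_dim_stalk K X n hn ξ
  obtain ⟨hnrs, ht⟩ := trdegNat_le_of_properInt K X IV IW n r s hprop ξ hξV hξW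
  have h0 := ringKrullDim_quot_sup_eq_zero IV IW ξ hξV hξW hmax
  have hgm : g ∈ IsLocalRing.maximalIdeal (X.presheaf.stalk ξ) :=
    stalkIdeal_le_maximalIdeal IV ξ hξV (hg ▸ Ideal.subset_span rfl)
  have hc : bV + 1 = bX := by
    have h1 := ringKrullDim_quotient_span_singleton_succ_eq_ringKrullDim hreg hgm
    rw [← hg, hbV, hbX] at h1
    exact_mod_cast h1
  have hgW : g ∉ IntMult.stalkIdeal IW ξ := by
    intro hmem
    have h1 : IntMult.stalkIdeal IW ξ ⊔ IntMult.stalkIdeal IV ξ = IntMult.stalkIdeal IW ξ := by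
      rw [sup_eq_left, hg, Ideal.span_le]
      intro x hx
      rw [Set.mem_singleton_iff.mp hx]
      exact hmem
    rw [h1, hbW] at h0
    have h2 : bW = 0 := by exact_mod_cast h0
    omega
  have hMreg : IsSMulRegular (↑(X.presheaf.stalk ξ) ⧸ IntMult.stalkIdeal IW ξ) g := by
    intro x y hxy
    have h1 : Ideal.Quotient.mk (IntMult.stalkIdeal IW ξ) g * x =
        Ideal.Quotient.mk (IntMult.stalkIdeal IW ξ) g * y := by
      simpa [Algebra.smul_def] using hxy
    exact mul_left_cancel₀ (by rwa [Ne, Ideal.Quotient.eq_zero_iff_mem]) h1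
  have hM : IsWeaklyRegular (↑(X.presheaf.stalk ξ) ⧸ IntMult.stalkIdeal IW ξ) [g] :=
    (isWeaklyRegular_cons_iff _ g []).mpr ⟨hMreg, IsWeaklyRegular.nil _ _⟩
  have hA : IsWeaklyRegular (↑(X.presheaf.stalk ξ)) [g] :=
    (isWeaklyRegular_cons_iff _ g []).mpr ⟨hreg, IsWeaklyRegular.nil _ _⟩
  unfold IntMult.mult
  rw [hg, ← Ideal.ofList_singleton g]
  exact intMult_chi_quot_quot (IntMult.stalkIdeal IW ξ) [g] hA hM

include K f hn hr hs hprop hξV hξW hmax in
theorem mult_eq_length_of_regular (c : ℕ) (g : Fin c → ↑(X.presheaf.stalk ξ))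
    (hg : IntMult.stalkIdeal IV ξ = Ideal.span (Set.range g))
    (hreg : RingTheory.Sequence.IsRegular (↑(X.presheaf.stalk ξ)) (List.ofFn g))
    (hW : LocCoh.IsCohenMacaulayLocalRing (↑(X.presheaf.stalk ξ) ⧸ IntMult.stalkIdeal IW ξ)) :
    (IntMult.mult IV IW ξ : ℤ) = (Module.length (X.presheaf.stalk ξ)
      (↑(X.presheaf.stalk ξ) ⧸ (IntMult.stalkIdeal IW ξ ⊔ IntMult.stalkIdeal IV ξ))).toNat := by
  letI : X.Over (Spec (CommRingCat.of K)) := ⟨f⟩
  haveI : LocallyOfFiniteType (X ↘ Spec (CommRingCat.of K)) :=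
    inferInstanceAs (LocallyOfFiniteType f)
  haveI : IsLocallyNoetherian X := LocallyOfFiniteType.isLocallyNoetherian f
  obtain ⟨hVp, bV, hbV, hbVt⟩ := stalkIdeal_isPrime_and_dim K X IV r hr ξ hξV
  obtain ⟨hWp, bW, hbW, hbWt⟩ := stalkIdeal_isPrime_and_dim K X IW s hs ξ hξW
  obtain ⟨bX, hbX, hbXt⟩ := exists_dim_stalk K X n hn ξ
  obtain ⟨hnrs, ht⟩ := trdegNat_le_of_properInt K X IV IW n r s hprop ξ hξV hξW
  have h0 := ringKrullDim_quot_sup_eq_zero IV IW ξ hξV hξW hmax
  have hofn : Ideal.ofList (List.ofFn g) = Ideal.span (Set.range g) :=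
    Groth.Agent.Lib.Helper5.RegImmAlg.ofList_ofFn c g
  have hc : bV + c = bX := by
    have h1 := ringKrullDim_add_length_eq_ringKrullDim_of_isRegular (List.ofFn g) hreg
    rw [hofn, ← hg, hbV, hbX, List.length_ofFn] at h1
    exact_mod_cast h1
  have hgm : ∀ i, g i ∈ IsLocalRing.maximalIdeal (X.presheaf.stalk ξ) := fun i =>
    stalkIdeal_le_maximalIdeal IV ξ hξV (hg ▸ Ideal.subset_span ⟨i, rfl⟩)
  have hK : bW ≤ c := by
    have h1 := ringKrullDim_quotient_le (IntMult.stalkIdeal IW ξ) hWp.ne_top c g hgm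
      (by rw [← hg]; exact h0)
    rw [hbW] at h1
    exact_mod_cast h1
  have hbWc : bW = c := by omega
  have hM : IsWeaklyRegular (↑(X.presheaf.stalk ξ) ⧸ IntMult.stalkIdeal IW ξ) (List.ofFn g) := by
    refine isWeaklyRegular_quotient_of_cm (IntMult.stalkIdeal IW ξ) (List.ofFn g) ?_ hW
      (by rw [hofn, ← hg]; exact h0) (by rw [hbW, List.length_ofFn, hbWc])
    intro x hx
    obtain ⟨i, rfl⟩ := (List.mem_ofFn' g x).mp hx
    exact hgm i
  unfold IntMult.mult
  rw [hg, ← hofn]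
  exact intMult_chi_quot_quot (IntMult.stalkIdeal IW ξ) (List.ofFn g) hreg.toIsWeaklyRegular hM

end Main

end Groth.Agent.Lib.Seat66.IntMultMain
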