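import Mathlib
import Groth.Agent.Lib.Helper10ML

/-!
# Inverse systems of Artinian modules indexed by `ℕ` (seat 66)

* `artinian_isMittagLeffler`: an `ℕᵒᵖ`-system of Artinian modules is Mittag-Leffler.
* `exists_section_of_torsor_artinian`: compatible choices in torsors under the images of an
  Artinian system.
* `limit_ext'`, `exists_limit_of_compatible`: elements of limits of module systems.
-/

set_option autoImplicit false
universe u
open CategoryTheory CategoryTheory.Limits Opposite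

namespace Groth.Agent.Lib.Seat66.LimTensor

variable {R : Type u} [CommRing R]

/-- An inverse system of Artinian modules is Mittag-Leffler. -/
theorem artinian_isMittagLeffler (G : ℕᵒᵖ ⥤ ModuleCat.{u} R)
    (h : ∀ n, IsArtinian R (G.obj n)) :
    ((G ⋙ forget₂ (ModuleCat.{u} R) AddCommGrpCat.{u}) ⋙
      forget AddCommGrpCat.{u}).IsMittagLeffler := by
  rw [Groth.Agent.Lib.Helper10.isMittagLeffler_nat_iff]
  intro n
  have := h (op n)
  let f : ℕ →o (Submodule R (G.obj (op n)))ᵒᵈ :=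
    { toFun := fun k => OrderDual.toDual
        (LinearMap.range (G.map (homOfLE (Nat.le_add_right n k)).op).hom)
      monotone' := by
        intro k k' hkk'
        change LinearMap.range (G.map (homOfLE (Nat.le_add_right n k')).op).hom ≤
          LinearMap.range (G.map (homOfLE (Nat.le_add_right n k)).op).hom
        rintro _ ⟨x, rfl⟩
        have e : (homOfLE (Nat.le_add_right n k')).op =
            (homOfLE (Nat.add_le_add_left hkk' n)).op ≫ (homOfLE (Nat.le_add_right n k)).op :=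
          Subsingleton.elim _ _
        rw [e, G.map_comp]
        exact ⟨_, rfl⟩ }
  obtain ⟨k₀, hk₀⟩ := IsArtinian.monotone_stabilizes f
  refine ⟨n + k₀, Nat.le_add_right n k₀, ?_⟩
  intro l hl x
  obtain ⟨k, rfl⟩ : ∃ k, l = n + k := ⟨l - n, by omega⟩
  have hk : k₀ ≤ k := by omega
  have h1 := hk₀ k hk
  have h2 : (G.map (homOfLE (Nat.le_add_right n k₀)).op).hom x ∈
      LinearMap.range (G.map (homOfLE (Nat.le_add_right n k₀)).op).hom := ⟨x, rfl⟩
  have h3 : LinearMap.range (G.map (homOfLE (Nat.le_add_right n k₀)).op).hom =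
      LinearMap.range (G.map (homOfLE (Nat.le_add_right n k)).op).hom :=
    congrArg OrderDual.ofDual h1
  rw [h3] at h2
  obtain ⟨z, hz⟩ := h2
  exact ⟨z, hz⟩

/-- Compatible choice of elements in torsors under the images of an Artinian system. -/
theorem exists_section_of_torsor_artinian {A B : ℕᵒᵖ ⥤ ModuleCat.{u} R} (α : A ⟶ B)
    (hA : ∀ n, IsArtinian R (A.obj n))
    (E : ∀ i : ℕᵒᵖ, Set (B.obj i))
    (hmap : ∀ ⦃i j : ℕᵒᵖ⦄ (f : i ⟶ j) (x : B.obj i), x ∈ E i → (B.map f).hom x ∈ E j)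
    (hne : ∀ i, (E i).Nonempty)
    (hsub : ∀ (i : ℕᵒᵖ) (x y : B.obj i), x ∈ E i → y ∈ E i →
      ∃ z : A.obj i, (α.app i).hom z = x - y)
    (hadd : ∀ (i : ℕᵒᵖ) (x : B.obj i) (z : A.obj i), x ∈ E i → x + (α.app i).hom z ∈ E i) :
    ∃ s : ∀ i : ℕᵒᵖ, B.obj i, (∀ ⦃i j : ℕᵒᵖ⦄ (f : i ⟶ j), (B.map f).hom (s i) = s j) ∧
      ∀ i, s i ∈ E i := by
  obtain ⟨s, hs⟩ := Groth.Agent.Lib.Helper10.exists_section_of_torsor
    (ι := ℕ) Groth.Agent.Lib.Helper10.nat_hcof
    (A := A ⋙ forget₂ (ModuleCat.{u} R) AddCommGrpCat.{u})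
    (B := B ⋙ forget₂ (ModuleCat.{u} R) AddCommGrpCat.{u})
    (Functor.whiskerRight α (forget₂ (ModuleCat.{u} R) AddCommGrpCat.{u}))
    (artinian_isMittagLeffler A hA) E hmap hne hsub hadd
  exact ⟨s.1, fun i j f => s.2 f, hs⟩

section Limit

variable (G : ℕᵒᵖ ⥤ ModuleCat.{u} R)

/-- Elements of a limit of modules are the compatible families. -/
noncomputable def limitEquivSections :
    (limit G : ModuleCat.{u} R) ≃ (G ⋙ forget (ModuleCat.{u} R)).sections :=
  Types.isLimitEquivSections (isLimitOfPreserves (forget (ModuleCat.{u} R)) (limit.isLimit G))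

theorem limit_ext' (x y : (limit G : ModuleCat.{u} R))
    (h : ∀ n, (limit.π G n).hom x = (limit.π G n).hom y) : x = y := by
  apply (limitEquivSections G).injective
  apply Subtype.ext
  funext n
  exact h n

theorem exists_limit_of_compatible (s : ∀ i : ℕᵒᵖ, G.obj i)
    (hs : ∀ ⦃i j : ℕᵒᵖ⦄ (f : i ⟶ j), (G.map f).hom (s i) = s j) :
    ∃ x : (limit G : ModuleCat.{u} R), ∀ n, (limit.π G n).hom x = s n := by
  refine ⟨(limitEquivSections G).symm ⟨s, fun f => hs f⟩, fun n => ?_⟩
  exact Types.isLimitEquivSections_symm_apply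
    (isLimitOfPreserves (forget (ModuleCat.{u} R)) (limit.isLimit G)) ⟨s, fun f => hs f⟩ n

theorem limit_π_compatible (x : (limit G : ModuleCat.{u} R)) ⦃i j : ℕᵒᵖ⦄ (f : i ⟶ j) :
    (G.map f).hom ((limit.π G i).hom x) = (limit.π G j).hom x := by
  rw [← limit.w G f]
  rfl

end Limit

end Groth.Agent.Lib.Seat66.LimTensor
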