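import Mathlib
import Groth.Agent.Lib.Seat66LimTensorA

/-!
# `lim` commutes with `⊗ N` for systems of finite length modules and `N` finitely presented
-/

set_option autoImplicit false
universe u
open CategoryTheory CategoryTheory.Limits Opposite MonoidalCategory TensorProduct

namespace Groth.Agent.Lib.Seat66.LimTensor

variable {R : Type u} [CommRing R]

section Pi

variable {ι : Type*} [Fintype ι] [DecidableEq ι]

theorem piScalarRight_rTensor {X X' : Type*} [AddCommGroup X] [Module R X] [AddCommGroup X']
    [Module R X'] (f : X →ₗ[R] X') (w : X ⊗[R] (ι → R)) (j : ι) :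
    TensorProduct.piScalarRight R R X' ι (LinearMap.rTensor (ι → R) f w) j =
      f (TensorProduct.piScalarRight R R X ι w j) := by
  induction w using TensorProduct.induction_on with
  | zero => simp
  | tmul x g => simp [TensorProduct.piScalarRight_apply, TensorProduct.piScalarRightHom_tmul]
  | add x y hx hy => simp only [map_add, Pi.add_apply, hx, hy]

end Pi

section Kernel

variable {A B : ℕᵒᵖ ⥤ ModuleCat.{u} R}

/-- The kernel system of a morphism of systems of modules, built by hand. -/
def kerFun (β : A ⟶ B) : ℕᵒᵖ ⥤ ModuleCat.{u} R where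
  obj n := ModuleCat.of R (LinearMap.ker (β.app n).hom)
  map {i j} f := ModuleCat.ofHom ((A.map f).hom.restrict
    (p := LinearMap.ker (β.app i).hom) (q := LinearMap.ker (β.app j).hom) (fun x hx => by
      rw [LinearMap.mem_ker] at hx ⊢
      have h := congr($(β.naturality f).hom x)
      simp only [ModuleCat.hom_comp, LinearMap.comp_apply] at h
      rw [h, hx, map_zero]))
  map_id n := by
    ext x
    simp
  map_comp f g := by
    ext x
    simp

/-- The inclusion of the kernel system. -/
def kerι (β : A ⟶ B) : kerFun β ⟶ A where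
  app n := ModuleCat.ofHom (Submodule.subtype _)
  naturality i j f := by
    ext x
    rfl

end Kernel

section Tensor

variable (M : ℕᵒᵖ ⥤ ModuleCat.{u} R)

/-- The system `M_n ⊗ P`. -/
abbrev T (P : ModuleCat.{u} R) : ℕᵒᵖ ⥤ ModuleCat.{u} R := M ⋙ tensorRight P

/-- The morphism of systems induced by `g : P ⟶ P'`. -/
def αT {P P' : ModuleCat.{u} R} (g : P ⟶ P') : T M P ⟶ T M P' where
  app n := M.obj n ◁ g
  naturality i j f := (whisker_exchange (M.map f) g).symm

theorem αT_app_hom {P P' : ModuleCat.{u} R} (g : P ⟶ P') (n : ℕᵒᵖ) :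
    ((αT M g).app n).hom = LinearMap.lTensor (M.obj n) g.hom := rfl

theorem T_map_hom (P : ModuleCat.{u} R) {i j : ℕᵒᵖ} (f : i ⟶ j) :
    ((T M P).map f).hom = LinearMap.rTensor P (M.map f).hom := rfl

/-- The comparison map. -/
noncomputable abbrev Φ (P : ModuleCat.{u} R) :
    (tensorRight P).obj (limit M) ⟶ limit (T M P) := limit.post M (tensorRight P)

theorem π_Φ (P : ModuleCat.{u} R) (n : ℕᵒᵖ) (z : (limit M : ModuleCat.{u} R) ⊗[R] P) :
    (limit.π (T M P) n).hom ((Φ M P).hom z) = LinearMap.rTensor P (limit.π M n).hom z := by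
  have h := limit.post_π M (tensorRight P) n
  exact congr($(h).hom z)

theorem rTensor_π_compatible (P : ModuleCat.{u} R) (z : (limit M : ModuleCat.{u} R) ⊗[R] P)
    ⦃i j : ℕᵒᵖ⦄ (f : i ⟶ j) :
    LinearMap.rTensor P (M.map f).hom (LinearMap.rTensor P (limit.π M i).hom z) =
      LinearMap.rTensor P (limit.π M j).hom z := by
  rw [← LinearMap.comp_apply, ← LinearMap.rTensor_comp, ← ModuleCat.hom_comp, limit.w]

variable {ι : Type} [Fintype ι] [DecidableEq ι]

/-- Free case, injectivity. -/
theorem free_inj (z : (limit M : ModuleCat.{u} R) ⊗[R] (ι → R))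
    (h : ∀ n, LinearMap.rTensor (ι → R) (limit.π M n).hom z = 0) : z = 0 := by
  apply (TensorProduct.piScalarRight R R _ ι).injective
  rw [map_zero]
  funext j
  apply limit_ext' M
  intro n
  rw [← piScalarRight_rTensor, h n]
  simp

/-- Free case, surjectivity. -/
theorem free_surj (y : ∀ n : ℕᵒᵖ, (M.obj n) ⊗[R] (ι → R))
    (hy : ∀ ⦃i j : ℕᵒᵖ⦄ (f : i ⟶ j), LinearMap.rTensor (ι → R) (M.map f).hom (y i) = y j) :
    ∃ z : (limit M : ModuleCat.{u} R) ⊗[R] (ι → R),
      ∀ n, LinearMap.rTensor (ι → R) (limit.π M n).hom z = y n := by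
  have hex : ∀ j : ι, ∃ x : (limit M : ModuleCat.{u} R),
      ∀ n, (limit.π M n).hom x = TensorProduct.piScalarRight R R _ ι (y n) j := by
    intro j
    apply exists_limit_of_compatible M
    intro i k f
    rw [← piScalarRight_rTensor, hy f]
  choose ℓ hℓ using hex
  refine ⟨(TensorProduct.piScalarRight R R _ ι).symm ℓ, fun n => ?_⟩
  apply (TensorProduct.piScalarRight R R _ ι).injective
  funext j
  rw [piScalarRight_rTensor, LinearEquiv.apply_symm_apply, hℓ]

end Tensor

end Groth.Agent.Lib.Seat66.LimTensor
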