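import Mathlib
import Groth.Agent.Lib.Seat66LimTensorB

/-!
# `lim` commutes with `⊗ N`: the main theorem (seat 66)
-/

set_option autoImplicit false
universe u
open CategoryTheory CategoryTheory.Limits Opposite MonoidalCategory TensorProduct

namespace Groth.Agent.Lib.Seat66.LimTensor

variable {R : Type u} [CommRing R] (M : ℕᵒᵖ ⥤ ModuleCat.{u} R)

theorem isArtinian_tensor_pi (X : Type u) [AddCommGroup X] [Module R X] [IsArtinian R X]
    (a : ℕ) : IsArtinian R (X ⊗[R] (Fin a → R)) :=
  isArtinian_of_linearEquiv (TensorProduct.piScalarRight R R X (Fin a)).symm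

variable {N : Type u} [AddCommGroup N] [Module R N]

/-- Core statement in terms of a finite presentation `R^a → R^b → N → 0`. -/
theorem Φ_bijective_of_presentation (hM : ∀ n : ℕᵒᵖ, IsArtinian R (M.obj n)) {a b : ℕ}
    (q : (Fin a → R) →ₗ[R] (Fin b → R)) (p : (Fin b → R) →ₗ[R] N)
    (hqp : Function.Exact q p) (hp : Function.Surjective p) :
    Function.Bijective (Φ M (ModuleCat.of R N)).hom := by
  have hexact : ∀ X : Type u, ∀ [AddCommGroup X] [Module R X],
      Function.Exact (LinearMap.lTensor X q) (LinearMap.lTensor X p) := fun X _ _ =>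
    lTensor_exact X hqp hp
  have hsurj : ∀ X : Type u, ∀ [AddCommGroup X] [Module R X],
      Function.Surjective (LinearMap.lTensor X p) := fun X _ _ =>
    LinearMap.lTensor_surjective X hp
  constructor
  · -- injectivity
    rw [injective_iff_map_eq_zero]
    intro z hz
    have hz' : ∀ n, LinearMap.rTensor N (limit.π M n).hom z = 0 := by
      intro n
      rw [← π_Φ M (ModuleCat.of R N) n z, hz, map_zero]
    obtain ⟨zt, rfl⟩ := hsurj (limit M : ModuleCat.{u} R) z
    -- the family `s n = (π_n ⊗ 1) zt`
    set s : ∀ n : ℕᵒᵖ, (M.obj n) ⊗[R] (Fin b → R) := fun n =>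
      LinearMap.rTensor (Fin b → R) (limit.π M n).hom zt with hs
    have hs0 : ∀ n, LinearMap.lTensor (M.obj n) p (s n) = 0 := by
      intro n
      have := hz' n
      rw [← LinearMap.comp_apply, LinearMap.rTensor_comp_lTensor,
        ← LinearMap.lTensor_comp_rTensor, LinearMap.comp_apply] at this
      exact this
    have hA : ∀ n, IsArtinian R ((kerFun (αT M (ModuleCat.ofHom q))).obj n) := by
      intro n
      have := hM n
      have h1 : IsArtinian R ((M.obj n) ⊗[R] (Fin a → R)) :=
        isArtinian_tensor_pi (R := R) (M.obj n) a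
      exact isArtinian_submodule' (M := (M.obj n) ⊗[R] (Fin a → R))
        (LinearMap.ker (LinearMap.lTensor (M.obj n) q))
    obtain ⟨w, hw1, hw2⟩ := exists_section_of_torsor_artinian
      (A := kerFun (αT M (ModuleCat.ofHom q))) (B := T M (ModuleCat.of R (Fin a → R)))
      (kerι (αT M (ModuleCat.ofHom q))) hA
      (fun n => {w | LinearMap.lTensor (M.obj n) q w = s n})
      (by
        intro i j f x hx
        change LinearMap.lTensor (M.obj j) q (LinearMap.rTensor (Fin a → R) (M.map f).hom x) = s j
        rw [← LinearMap.comp_apply, LinearMap.lTensor_comp_rTensor,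
          ← LinearMap.rTensor_comp_lTensor, LinearMap.comp_apply]
        rw [Set.mem_ofPred_eq] at hx
        rw [hx]
        exact rTensor_π_compatible M (ModuleCat.of R (Fin b → R)) zt f)
      (by
        intro n
        obtain ⟨x, hx⟩ := (hexact (M.obj n) (s n)).mp (hs0 n)
        exact ⟨x, hx⟩)
      (by
        intro n x y hx hy
        rw [Set.mem_ofPred_eq] at hx hy
        have hker : x - y ∈ LinearMap.ker (LinearMap.lTensor (M.obj n) q) := by
          rw [LinearMap.mem_ker, map_sub, hx, hy, sub_self]
        exact ⟨⟨x - y, hker⟩, rfl⟩)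
      (by
        intro n x z hx
        rw [Set.mem_ofPred_eq] at hx ⊢
        have hz : LinearMap.lTensor (M.obj n) q z.1 = 0 := z.2
        change LinearMap.lTensor (M.obj n) q (x + z.1) = s n
        rw [map_add, hx, hz, add_zero])
    obtain ⟨zh, hzh⟩ := free_surj M w (fun i j f => hw1 f)
    have hzt : LinearMap.lTensor (limit M : ModuleCat.{u} R) q zh = zt := by
      rw [← sub_eq_zero]
      apply free_inj M
      intro n
      rw [map_sub, ← LinearMap.comp_apply, LinearMap.rTensor_comp_lTensor,
        ← LinearMap.lTensor_comp_rTensor, LinearMap.comp_apply, hzh n, hw2 n, sub_self]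
    rw [← hzt, ← LinearMap.comp_apply, ← LinearMap.lTensor_comp]
    have hpq : p ∘ₗ q = 0 := by
      ext x
      exact hqp.apply_apply_eq_zero _
    rw [hpq, LinearMap.lTensor_zero, LinearMap.zero_apply]
  · -- surjectivity
    intro y
    set yn : ∀ n : ℕᵒᵖ, (M.obj n) ⊗[R] N := fun n => (limit.π (T M (ModuleCat.of R N)) n).hom y
      with hyn
    have hycomp : ∀ ⦃i j : ℕᵒᵖ⦄ (f : i ⟶ j),
        LinearMap.rTensor N (M.map f).hom (yn i) = yn j := fun i j f =>
      limit_π_compatible (T M (ModuleCat.of R N)) y f
    have hA : ∀ n, IsArtinian R ((T M (ModuleCat.of R (Fin a → R))).obj n) := by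
      intro n
      have := hM n
      exact isArtinian_tensor_pi (R := R) (M.obj n) a
    obtain ⟨w, hw1, hw2⟩ := exists_section_of_torsor_artinian
      (A := T M (ModuleCat.of R (Fin a → R))) (B := T M (ModuleCat.of R (Fin b → R)))
      (αT M (ModuleCat.ofHom q)) hA
      (fun n => {w | LinearMap.lTensor (M.obj n) p w = yn n})
      (by
        intro i j f x hx
        change LinearMap.lTensor (M.obj j) p (LinearMap.rTensor (Fin b → R) (M.map f).hom x) = yn j
        rw [← LinearMap.comp_apply, LinearMap.lTensor_comp_rTensor,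
          ← LinearMap.rTensor_comp_lTensor, LinearMap.comp_apply]
        rw [Set.mem_ofPred_eq] at hx
        rw [hx]
        exact hycomp f)
      (by
        intro n
        obtain ⟨x, hx⟩ := hsurj (M.obj n) (yn n)
        exact ⟨x, hx⟩)
      (by
        intro n x y' hx hy
        rw [Set.mem_ofPred_eq] at hx hy
        have h0 : LinearMap.lTensor (M.obj n) p (x - y') = 0 := by
          rw [map_sub, hx, hy, sub_self]
        obtain ⟨z, hz⟩ := (hexact (M.obj n) (x - y')).mp h0
        exact ⟨z, hz⟩)
      (by
        intro n x z hx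
        rw [Set.mem_ofPred_eq] at hx ⊢
        let x' : (M.obj n) ⊗[R] (Fin b → R) := x
        change LinearMap.lTensor (M.obj n) p (x' + LinearMap.lTensor (M.obj n) q z) = yn n
        rw [map_add, hx, (hexact (M.obj n)).apply_apply_eq_zero, add_zero])
    obtain ⟨zt, hzt⟩ := free_surj M w (fun i j f => hw1 f)
    refine ⟨LinearMap.lTensor (limit M : ModuleCat.{u} R) p zt, ?_⟩
    apply limit_ext' (T M (ModuleCat.of R N))
    intro n
    rw [π_Φ]
    change LinearMap.rTensor N (limit.π M n).hom (LinearMap.lTensor _ p zt) = yn n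
    rw [← LinearMap.comp_apply, LinearMap.rTensor_comp_lTensor,
      ← LinearMap.lTensor_comp_rTensor, LinearMap.comp_apply, hzt n]
    exact hw2 n

/-- `lim` commutes with `⊗ N` for `N` finitely presented and `M_n` of finite length. -/
theorem isIso_limit_post_tensorRight (hM : ∀ n : ℕᵒᵖ, IsFiniteLength R (M.obj n))
    [Module.FinitePresentation R N] :
    IsIso (limit.post M (tensorRight (ModuleCat.of R N))) := by
  have hart : ∀ n : ℕᵒᵖ, IsArtinian R (M.obj n) := fun n =>
    (isFiniteLength_iff_isNoetherian_isArtinian.mp (hM n)).2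
  obtain ⟨b, p, hp⟩ := Module.Finite.exists_fin' R N
  have hfg : (LinearMap.ker p).FG := Module.FinitePresentation.fg_ker p hp
  obtain ⟨a, g, hg⟩ := Submodule.fg_iff_exists_fin_generating_family.mp hfg
  let q : (Fin a → R) →ₗ[R] (Fin b → R) := Fintype.linearCombination R g
  have hq : LinearMap.range q = LinearMap.ker p := by
    rw [Fintype.range_linearCombination, hg]
  have hqp : Function.Exact q p := by
    rw [LinearMap.exact_iff, hq]
  have hbij := Φ_bijective_of_presentation M hart q p hqp hp
  exact (ConcreteCategory.isIso_iff_bijective _).mpr hbij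

end Groth.Agent.Lib.Seat66.LimTensor
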