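import Mathlib
import Groth.Prelude.Def_Coh
import Groth.Prelude.Def_CohB1
import Groth.Agent.Lib.Helper23FinTypeLocal
import Groth.Agent.Lib.Helper23Serre
import Groth.Agent.Lib.Helper20StalkExact
import Groth.Agent.Lib.Helper23QCohAbelian
import Groth.Agent.Lib.Helper10ML

/-!
# Mittag-Leffler systems of quasi-coherent modules: the image of the limit (seat 66)

For an `ℕᵒᵖ`-system `G` of quasi-coherent modules on a scheme which is Mittag-Leffler (stable
images), the image of `lim G ⟶ G e` is the stable image of `G d ⟶ G e`.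
-/

set_option autoImplicit false
set_option backward.isDefEq.respectTransparency false
set_option linter.style.haveILetI false
universe u
open CategoryTheory CategoryTheory.Limits AlgebraicGeometry TopologicalSpace Opposite

namespace Groth.Agent.Lib.Seat66.MLSupp

open Groth.Agent.Lib.Helper23.QCohLocal Groth.Agent.Lib.Helper23.FinType
  Groth.Agent.Lib.Helper20.StalkExact

variable {X : Scheme.{u}}

/-- the image of a morphism of quasi-coherent modules is quasi-coherent -/
theorem isQuasicoherent_image {A B : X.Modules} [A.IsQuasicoherent] [B.IsQuasicoherent]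
    (φ : A ⟶ B) : (image φ).IsQuasicoherent := by
  haveI : (kernel φ).IsQuasicoherent := isQuasicoherent_kernel φ
  haveI : (Abelian.coimage φ).IsQuasicoherent := isQuasicoherent_cokernel (kernel.ι φ)
  exact (SheafOfModules.isQuasicoherent X.ringCatSheaf).prop_of_iso
    (Abelian.coimageIsoImage' φ) inferInstance

/-- equal image subobjects have equal ranges on sections over affine opens -/
theorem exists_app_eq_of_imageSubobject_eq {A A' B : X.Modules} [A.IsQuasicoherent]
    [A'.IsQuasicoherent] [B.IsQuasicoherent] (φ : A ⟶ B) (φ' : A' ⟶ B)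
    (h : imageSubobject φ = imageSubobject φ') {V : X.Opens} (hV : IsAffineOpen V)
    (x : Γ(A, V)) : ∃ z : Γ(A', V), φ'.app V z = φ.app V x := by
  haveI : (image φ').IsQuasicoherent := isQuasicoherent_image φ'
  let e : image φ ≅ image φ' := Subobject.isoOfMkEqMk (image.ι φ) (image.ι φ') h
  have he : e.hom ≫ image.ι φ' = image.ι φ := Subobject.ofMkLEMk_comp h.le
  obtain ⟨z, hz⟩ := surjective_app_of_epi (factorThruImage φ') hV
    (e.hom.app V ((factorThruImage φ).app V x))
  refine ⟨z, ?_⟩
  have h1 : φ'.app V z = (image.ι φ').app V ((factorThruImage φ').app V z) := by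
    rw [← ConcreteCategory.comp_apply, ← Scheme.Modules.Hom.comp_app, image.fac]
  rw [h1, hz, ← ConcreteCategory.comp_apply, ← Scheme.Modules.Hom.comp_app, he,
    ← ConcreteCategory.comp_apply, ← Scheme.Modules.Hom.comp_app, image.fac]

section System

variable (G : ℕᵒᵖ ⥤ X.Modules)

/-- the system of sections over `V` -/
noncomputable abbrev secSys (V : X.Opens) : ℕᵒᵖ ⥤ Ab.{u} := G ⋙ secF V

variable (hQ : ∀ n : ℕᵒᵖ, (G.obj n).IsQuasicoherent)
  (hML : ∀ e : ℕ, ∃ (d : ℕ) (hd : e ≤ d), ∀ (d' : ℕ) (hd' : d ≤ d'),
      imageSubobject (G.map (homOfLE (hd.trans hd')).op) = imageSubobject (G.map (homOfLE hd).op))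

include hQ hML in
theorem secSys_isMittagLeffler {V : X.Opens} (hV : IsAffineOpen V) :
    (secSys G V ⋙ forget AddCommGrpCat.{u}).IsMittagLeffler := by
  rw [Groth.Agent.Lib.Helper10.isMittagLeffler_nat_iff]
  intro n
  obtain ⟨d, hd, hst⟩ := hML n
  refine ⟨d, hd, fun l hl x => ?_⟩
  haveI := hQ (op d)
  haveI := hQ (op l)
  haveI := hQ (op n)
  exact exists_app_eq_of_imageSubobject_eq (G.map (homOfLE hd).op)
    (G.map (homOfLE (hd.trans hl)).op) (hst l hl).symm hV x

include hQ hML in
/-- over an affine open, sections of `G e` in the stable image lift to the limit -/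
theorem exists_limit_section {V : X.Opens} (hV : IsAffineOpen V) (e d : ℕ) (hd : e ≤ d)
    (hst : ∀ (d' : ℕ) (hd' : d ≤ d'),
      imageSubobject (G.map (homOfLE (hd.trans hd')).op) = imageSubobject (G.map (homOfLE hd).op))
    (u : Γ(G.obj (op d), V)) :
    ∃ s : Γ(limit G, V), (limit.π G (op e)).app V s = (G.map (homOfLE hd).op).app V u := by
  have hF := secSys_isMittagLeffler G hQ hML hV
  have hmem : (G.map (homOfLE hd).op).app V u ∈ (limit.π (secSys G V) (op e)).hom.range := by
    rw [Groth.Agent.Lib.Helper10.mem_range_limit_π_iff_nat (secSys G V) hF e]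
    intro k hk
    -- go up to `l = max k d`
    have hkl : k ≤ max k d := le_max_left _ _
    have hdl : d ≤ max k d := le_max_right _ _
    haveI := hQ (op d)
    haveI := hQ (op (max k d))
    haveI := hQ (op e)
    obtain ⟨z, hz⟩ := exists_app_eq_of_imageSubobject_eq (G.map (homOfLE hd).op)
      (G.map (homOfLE (hd.trans hdl)).op) (hst _ hdl).symm hV u
    refine ⟨(G.map (homOfLE hkl).op).app V z, ?_⟩
    have e1 : (homOfLE (hd.trans hdl)).op = (homOfLE hkl).op ≫ (homOfLE hk).op :=
      Subsingleton.elim _ _
    rw [e1, G.map_comp] at hz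
    exact hz
  obtain ⟨w, hw⟩ := hmem
  haveI : PreservesLimitsOfSize.{0, 0} (secF V) :=
    preservesSmallestLimits_of_preservesLimits (secF V)
  let ι := preservesLimitIso (secF V) G
  refine ⟨ι.inv w, ?_⟩
  have h1 : ι.inv ≫ (secF V).map (limit.π G (op e)) = limit.π (secSys G V) (op e) :=
    preservesLimitIso_inv_π (secF V) G (op e)
  have h2 : (limit.π G (op e)).app V (ι.inv w) = (limit.π (secSys G V) (op e)).hom w := by
    rw [← h1]
    rfl
  exact h2.trans hw

include hQ hML in
/-- the stable image is the image of the projection from the limit -/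
theorem nonempty_image_iso (e d : ℕ) (hd : e ≤ d)
    (hst : ∀ (d' : ℕ) (hd' : d ≤ d'),
      imageSubobject (G.map (homOfLE (hd.trans hd')).op) = imageSubobject (G.map (homOfLE hd).op)) :
    Nonempty (image (G.map (homOfLE hd).op) ≅ image (limit.π G (op e))) := by
  haveI := hQ (op d)
  haveI := hQ (op e)
  let φ := G.map (homOfLE hd).op
  haveI : (image φ).IsQuasicoherent := isQuasicoherent_image φ
  let ψ : limit G ⟶ image φ := limit.π G (op d) ≫ factorThruImage φ
  have hψ : ψ ≫ image.ι φ = limit.π G (op e) := by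
    rw [Category.assoc, image.fac]
    exact limit.w G (homOfLE hd).op
  haveI : Epi ψ := by
    apply Groth.Agent.Lib.Helper23.Serre.epi_of_locally_surjective
    intro V t x hx
    obtain ⟨_, ⟨V', hV', rfl⟩, hxV', hle⟩ :=
      X.isBasis_affineOpens.exists_subset_of_mem_open hx V.isOpen
    have hle' : V' ≤ V := hle
    refine ⟨V', hle', hxV', ?_⟩
    set t' := (image φ).presheaf.map (homOfLE hle').op t with ht'
    obtain ⟨u, hu⟩ := surjective_app_of_epi (factorThruImage φ) hV' t'
    obtain ⟨s, hs⟩ := exists_limit_section G hQ hML hV' e d hd hst u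
    refine ⟨s, ?_⟩
    apply injective_app_of_mono (image.ι φ) V'
    rw [← ConcreteCategory.comp_apply, ← Scheme.Modules.Hom.comp_app, hψ, hs, ← hu,
      ← ConcreteCategory.comp_apply, ← Scheme.Modules.Hom.comp_app, image.fac]
  haveI : StrongEpi ψ := strongEpi_of_epi ψ
  exact ⟨image.isoStrongEpiMono ψ (image.ι φ) hψ⟩

end System

/-- supports are invariant under isomorphism -/
theorem support_eq_of_iso {M N : X.Modules} (e : M ≅ N) : CohB1.support M = CohB1.support N := by
  ext x
  let i := (TopCat.Presheaf.stalkFunctor Ab.{u} x).mapIso ((Scheme.Modules.toPresheaf X).mapIso e)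
  have hiff : Subsingleton (M.presheaf.stalk x) ↔ Subsingleton (N.presheaf.stalk x) := by
    constructor
    · intro h
      exact @Equiv.subsingleton _ _ (i.symm.addCommGroupIsoToAddEquiv.toEquiv) h
    · intro h
      exact @Equiv.subsingleton _ _ (i.addCommGroupIsoToAddEquiv.toEquiv) h
  exact not_congr hiff

end Groth.Agent.Lib.Seat66.MLSupp
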