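import Mathlib.AlgebraicGeometry.Modules.Sheaf

/-!
# Pasting of base change maps for `𝒪`-modules (seat 66)

Compatibility of units and transposes of the pullback–pushforward adjunctions of scheme modules
with composition of morphisms.
-/

set_option autoImplicit false
set_option backward.isDefEq.respectTransparency false
set_option backward.defeqAttrib.useBackward true
universe u
open CategoryTheory AlgebraicGeometry Scheme.Modules

namespace Groth.Agent.Lib.Seat66.Mates

variable {X Y Z : Scheme.{u}} (f : X ⟶ Y) (g : Y ⟶ Z)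

lemma unit_comp_aux (L : Z.Modules) :
    ((pullbackPushforwardAdjunction g).comp (pullbackPushforwardAdjunction f)).unit.app L ≫
      (pushforwardComp f g).hom.app _ =
    (pullbackPushforwardAdjunction (f ≫ g)).unit.app L ≫
      (pushforward (f ≫ g)).map ((pullbackComp f g).inv.app L) := by
  have := unit_conjugateEquiv
    ((pullbackPushforwardAdjunction g).comp (pullbackPushforwardAdjunction f))
    (pullbackPushforwardAdjunction (f ≫ g)) (pullbackComp f g).inv L
  rw [conjugateEquiv_pullbackComp_inv] at this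
  exact this

lemma homEquiv_comp_eq (A : Z.Modules) (B : X.Modules)
    (h : (pullback f).obj ((pullback g).obj A) ⟶ B) :
    (pullbackPushforwardAdjunction (f ≫ g)).homEquiv A B ((pullbackComp f g).inv.app A ≫ h) =
      (pullbackPushforwardAdjunction g).homEquiv _ _
        ((pullbackPushforwardAdjunction f).homEquiv _ _ h) ≫ (pushforwardComp f g).hom.app B := by
  have h1 := unit_comp_aux f g A
  rw [Adjunction.homEquiv_unit, Functor.map_comp, ← Category.assoc, ← h1]
  rw [Adjunction.homEquiv_unit, Adjunction.homEquiv_unit]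
  simp only [Adjunction.comp_unit_app, Functor.map_comp, Category.assoc, Functor.comp_obj]
  congr 2

lemma unit_comp_eq (L : Z.Modules) :
    (pullbackPushforwardAdjunction (f ≫ g)).unit.app L =
      (pullbackPushforwardAdjunction g).unit.app L ≫
        (pushforward g).map ((pullbackPushforwardAdjunction f).unit.app ((pullback g).obj L)) ≫
        (pushforwardComp f g).hom.app _ ≫
        (pushforward (f ≫ g)).map ((pullbackComp f g).hom.app L) := by
  have h1 := unit_comp_aux f g L
  have h2 : (pullbackPushforwardAdjunction (f ≫ g)).unit.app L =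
      (((pullbackPushforwardAdjunction g).comp (pullbackPushforwardAdjunction f)).unit.app L ≫
      (pushforwardComp f g).hom.app _) ≫
      (pushforward (f ≫ g)).map ((pullbackComp f g).hom.app L) := by
    rw [h1, Category.assoc, ← Functor.map_comp, Iso.inv_hom_id_app,
      CategoryTheory.Functor.map_id]
    exact (Category.comp_id _).symm
  rw [h2]
  simp only [Adjunction.comp_unit_app, Category.assoc, Functor.comp_obj]

lemma app_eqToHom_aux {X Y : Scheme.{u}} (f : X ⟶ Y) {M₂ : Y.Modules} {M₁ M₃ : X.Modules}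
    (υ : M₂ ⟶ (pushforward f).obj M₁) (c : M₁ ⟶ M₃) {A B : Y.Opens} {C : X.Opens}
    (hAB : A = B) (hC : f ⁻¹ᵁ B = C) (e₀ : Opposite.op (f ⁻¹ᵁ A) ⟶ Opposite.op C)
    (e₁ : Opposite.op A ⟶ Opposite.op B) (e₂ : Opposite.op (f ⁻¹ᵁ B) ⟶ Opposite.op C)
    (x : Γ(M₂, A)) :
    M₃.presheaf.map e₀ (c.app _ (υ.app A x)) =
      c.app C (M₁.presheaf.map e₂ (υ.app B (M₂.presheaf.map e₁ x))) := by
  subst hAB
  subst hC
  obtain rfl : e₀ = 𝟙 _ := Subsingleton.elim _ _
  obtain rfl : e₁ = 𝟙 _ := Subsingleton.elim _ _
  obtain rfl : e₂ = 𝟙 _ := Subsingleton.elim _ _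
  simp

theorem baseChange_pasting {X Y Z U V W : Scheme.{u}} (f : X ⟶ Y) (g : Y ⟶ Z)
    (ξ : X ⟶ U) (η : Y ⟶ V) (ζ : Z ⟶ W) (φ : U ⟶ V) (ψ : V ⟶ W)
    (h₁ : f ≫ η = ξ ≫ φ) (h₂ : g ≫ ζ = η ≫ ψ) (hw : (f ≫ g) ≫ ζ = ξ ≫ (φ ≫ ψ)) (L : Z.Modules) :
    (pullbackComp φ ψ).hom.app ((pushforward ζ).obj L) ≫
        (((pullbackPushforwardAdjunction (φ ≫ ψ)).homEquiv ((pushforward ζ).obj L)
            ((pushforward ξ).obj ((pullback (f ≫ g)).obj L))).symm
          ((pushforward ζ).map ((pullbackPushforwardAdjunction (f ≫ g)).unit.app L) ≫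
            (pushforwardComp (f ≫ g) ζ).hom.app ((pullback (f ≫ g)).obj L) ≫
            (pushforwardCongr hw).hom.app ((pullback (f ≫ g)).obj L) ≫
            (pushforwardComp ξ (φ ≫ ψ)).inv.app ((pullback (f ≫ g)).obj L))) =
      (pullback φ).map (((pullbackPushforwardAdjunction ψ).homEquiv ((pushforward ζ).obj L)
            ((pushforward η).obj ((pullback g).obj L))).symm
          ((pushforward ζ).map ((pullbackPushforwardAdjunction g).unit.app L) ≫
            (pushforwardComp g ζ).hom.app ((pullback g).obj L) ≫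
            (pushforwardCongr h₂).hom.app ((pullback g).obj L) ≫
            (pushforwardComp η ψ).inv.app ((pullback g).obj L))) ≫
        (((pullbackPushforwardAdjunction φ).homEquiv ((pushforward η).obj ((pullback g).obj L))
            ((pushforward ξ).obj ((pullback f).obj ((pullback g).obj L)))).symm
          ((pushforward η).map ((pullbackPushforwardAdjunction f).unit.app ((pullback g).obj L)) ≫
            (pushforwardComp f η).hom.app ((pullback f).obj ((pullback g).obj L)) ≫
            (pushforwardCongr h₁).hom.app ((pullback f).obj ((pullback g).obj L)) ≫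
            (pushforwardComp ξ φ).inv.app ((pullback f).obj ((pullback g).obj L)))) ≫
        (pushforward ξ).map ((pullbackComp f g).hom.app L) := by
  rw [← cancel_epi ((pullbackComp φ ψ).inv.app ((pushforward ζ).obj L)),
    Iso.inv_hom_id_app_assoc]
  apply ((pullbackPushforwardAdjunction (φ ≫ ψ)).homEquiv _ _).injective
  rw [Equiv.apply_symm_apply]
  erw [homEquiv_comp_eq φ ψ]
  rw [Adjunction.homEquiv_naturality_left]
  simp only [Adjunction.homEquiv_naturality_right, Equiv.apply_symm_apply]
  rw [unit_comp_eq f g L]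
  ext W
  simp
  exact app_eqToHom_aux f _ _ (by rw [← Scheme.Hom.comp_preimage, h₂]; rfl)
    (by rw [← Scheme.Hom.comp_preimage, h₁]; rfl) _ _ _ _

end Groth.Agent.Lib.Seat66.Mates
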