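import Mathlib

/-!
# Schubert conditions and vanishing of Plücker minors (seat 66)
-/

set_option autoImplicit false
universe u
open Matrix Module

namespace Groth.Agent.Lib.Seat66.Schubert

variable {K : Type u} [Field K] {n d : ℕ}

/-- Forward direction: if `W ∩ U` has dimension `> i`, where vectors of `U` vanish at the
coordinates `≥ D`, then every minor on increasing columns `J` with `J i ≥ D` vanishes. -/
theorem det_eq_zero_of_finrank (A : Matrix (Fin d) (Fin n) K) (U : Submodule K (Fin n → K))
    (D : ℕ) (hU : ∀ v ∈ U, ∀ l : Fin n, D ≤ (l : ℕ) → v l = 0) (i : Fin d)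
    (hdim : (i : ℕ) + 1 ≤
      finrank K ↥(Submodule.span K (Set.range fun r : Fin d => A r) ⊓ U))
    (J : Fin d → Fin n) (hJ : StrictMono J) (hJi : D ≤ (J i : ℕ)) :
    (A.submatrix id J).det = 0 := by
  set W := Submodule.span K (Set.range fun r : Fin d => A r) with hW
  let π : ↥(W ⊓ U) →ₗ[K] (Fin (i : ℕ) → K) :=
    { toFun := fun w m => (w : Fin n → K) (J (Fin.castLE i.2.le m))
      map_add' := fun _ _ => rfl
      map_smul' := fun _ _ => rfl }
  have hlt : finrank K (Fin (i : ℕ) → K) < finrank K ↥(W ⊓ U) := by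
    rw [Module.finrank_fin_fun]; omega
  have hker := LinearMap.ker_ne_bot_of_finrank_lt (f := π) hlt
  obtain ⟨w, hwker, hw0⟩ := Submodule.exists_mem_ne_zero_of_ne_bot hker
  obtain ⟨c, hc⟩ := (Submodule.mem_span_range_iff_exists_fun K).mp w.2.1
  have hwJ : ∀ m : Fin d, (w : Fin n → K) (J m) = 0 := by
    intro m
    by_cases hm : (m : ℕ) < (i : ℕ)
    · have := congrFun (LinearMap.mem_ker.mp hwker) ⟨m, hm⟩
      exact this
    · apply hU _ w.2.2
      have : J i ≤ J m := hJ.monotone (by rw [Fin.le_def]; omega)
      have : (J i : ℕ) ≤ (J m : ℕ) := this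
      omega
  apply Matrix.exists_vecMul_eq_zero_iff.mp
  refine ⟨c, ?_, ?_⟩
  · rintro rfl
    apply hw0
    ext l
    have := congrFun hc l
    simpa using this.symm
  · ext m
    have := congrFun hc (J m)
    rw [hwJ m] at this
    simp only [Finset.sum_apply, Pi.smul_apply, smul_eq_mul] at this
    simpa [Matrix.vecMul, dotProduct] using this

/-- Counting lemma: if the columns indexed by `t` lie in the span of the columns indexed by the
finite set `s`, then `d ≤ dim (W ∩ U) + |s|` where `U ⊇ {v | v = 0 on t}`. -/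
theorem le_finrank_add_card (A : Matrix (Fin d) (Fin n) K)
    (hA : LinearIndependent K (fun i : Fin d => A i))
    (s : Finset (Fin n)) (t : Set (Fin n))
    (hspan : ∀ l ∈ t, (fun r => A r l) ∈
      Submodule.span K ((fun (l : Fin n) (r : Fin d) => A r l) '' (s : Set (Fin n))))
    (U : Submodule K (Fin n → K)) (hU : ∀ v : Fin n → K, (∀ l ∈ t, v l = 0) → v ∈ U) :
    d ≤ finrank K ↥(Submodule.span K (Set.range fun r : Fin d => A r) ⊓ U) + s.card := by
  set W := Submodule.span K (Set.range fun r : Fin d => A r) with hW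
  let θ : (Fin d → K) →ₗ[K] (s → K) :=
    { toFun := fun c l => (c ᵥ* A) l
      map_add' := fun x y => by funext l; simp [Matrix.add_vecMul]
      map_smul' := fun a x => by funext l; simp [Matrix.smul_vecMul] }
  have h1 := LinearMap.finrank_range_add_finrank_ker θ
  rw [Module.finrank_fin_fun] at h1
  have h2 : finrank K (LinearMap.range θ) ≤ s.card := by
    have := (LinearMap.range θ).finrank_le
    rwa [Module.finrank_fintype_fun_eq_card, Fintype.card_coe] at this
  have hinj : Function.Injective A.vecMulLinear := by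
    rw [Matrix.coe_vecMulLinear]
    exact Matrix.vecMul_injective_iff.mpr hA
  have hmaps : ∀ c ∈ LinearMap.ker θ, A.vecMulLinear c ∈ W ⊓ U := by
    intro c hc
    refine ⟨?_, ?_⟩
    · have : A.vecMulLinear c ∈ LinearMap.range A.vecMulLinear := ⟨c, rfl⟩
      rw [_root_.range_vecMulLinear] at this
      exact this
    · apply hU
      intro l hl
      have hc' : ∀ l' ∈ s, c ⬝ᵥ (fun r => A r l') = 0 := by
        intro l' hl'
        exact congrFun (LinearMap.mem_ker.mp hc) ⟨l', hl'⟩
      have : ∀ u ∈ Submodule.span K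
          ((fun (l : Fin n) (r : Fin d) => A r l) '' (s : Set (Fin n))), c ⬝ᵥ u = 0 := by
        intro u hu
        induction hu using Submodule.span_induction with
        | mem x hx =>
          obtain ⟨l', hl', rfl⟩ := hx
          exact hc' l' hl'
        | zero => simp
        | add x y _ _ hx hy => rw [dotProduct_add, hx, hy, add_zero]
        | smul a x _ hx => rw [dotProduct_smul, hx, smul_zero]
      exact this _ (hspan l hl)
  have h3 : finrank K (LinearMap.ker θ) ≤ finrank K ↥(W ⊓ U) :=
    LinearMap.finrank_le_finrank_of_injective (f := A.vecMulLinear.restrict hmaps)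
      (fun x y hxy => Subtype.ext (hinj (congrArg Subtype.val hxy)))
  omega

open Classical in
/-- Backward direction: if `dim (W ∩ U) ≤ i`, where `U` contains all vectors vanishing at the
coordinates `≥ D`, there is a nonvanishing minor on increasing columns `J` with `J i ≥ D`. -/
theorem exists_minor_ne_zero (A : Matrix (Fin d) (Fin n) K)
    (hA : LinearIndependent K (fun i : Fin d => A i))
    (U : Submodule K (Fin n → K)) (D : ℕ)
    (hU : ∀ v : Fin n → K, (∀ l : Fin n, D ≤ (l : ℕ) → v l = 0) → v ∈ U) (i : Fin d)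
    (hdim : finrank K ↥(Submodule.span K (Set.range fun r : Fin d => A r) ⊓ U) ≤ (i : ℕ)) :
    ∃ J : Fin d → Fin n, StrictMono J ∧ D ≤ (J i : ℕ) ∧ (A.submatrix id J).det ≠ 0 := by
  set v : Fin n → (Fin d → K) := fun l r => A r l with hv
  set T : Set (Fin n) := {l | D ≤ (l : ℕ)} with hT
  have hs0 : LinearIndepOn K v (∅ : Set (Fin n)) := linearIndepOn_empty K v
  set s₀ : Set (Fin n) := hs0.extend (Set.empty_subset T) with hs₀
  have hs₀T : s₀ ⊆ T := hs0.extend_subset _
  have hs₀i : LinearIndepOn K v s₀ := hs0.linearIndepOn_extend _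
  have hs₀span : v '' T ⊆ Submodule.span K (v '' s₀) := hs0.image_subset_span_image_extend _
  set S : Set (Fin n) := hs₀i.extend (Set.subset_univ s₀) with hS
  have hs₀S : s₀ ⊆ S := hs₀i.subset_extend _
  have hSi : LinearIndepOn K v S := hs₀i.linearIndepOn_extend _
  have hSspan : v '' Set.univ ⊆ Submodule.span K (v '' S) :=
    hs₀i.image_subset_span_image_extend _
  -- cardinalities
  have hc1 : d ≤ finrank K ↥(Submodule.span K (Set.range fun r : Fin d => A r) ⊓ U) +
      s₀.toFinset.card := by
    apply le_finrank_add_card A hA s₀.toFinset T _ U hU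
    intro l hl
    rw [Set.coe_toFinset]
    exact hs₀span ⟨l, hl, rfl⟩
  have hc2 : d ≤ S.toFinset.card := by
    have := le_finrank_add_card A hA S.toFinset Set.univ (by
      intro l hl
      rw [Set.coe_toFinset]
      exact hSspan ⟨l, hl, rfl⟩) ⊥ (by
      intro w hw
      rw [Submodule.mem_bot]
      funext l
      exact hw l trivial)
    rwa [inf_bot_eq, finrank_bot, zero_add] at this
  have hc3 : S.toFinset.card ≤ d := by
    have := hSi.linearIndependent.fintype_card_le_finrank
    rwa [Module.finrank_fin_fun, ← Set.toFinset_card] at this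
  have hcard : S.toFinset.card = d := le_antisymm hc3 hc2
  refine ⟨S.toFinset.orderEmbOfFin hcard, (S.toFinset.orderEmbOfFin hcard).strictMono, ?_, ?_⟩
  · by_contra hlt
    rw [not_le] at hlt
    have hsub : s₀.toFinset ⊆ (Finset.Ioi i).image (S.toFinset.orderEmbOfFin hcard) := by
      intro l hl
      have hlS : l ∈ S.toFinset := Set.mem_toFinset.mpr (hs₀S (Set.mem_toFinset.mp hl))
      have hlT : D ≤ (l : ℕ) := hs₀T (Set.mem_toFinset.mp hl)
      have : l ∈ Set.range (S.toFinset.orderEmbOfFin hcard) := by
        rw [Finset.range_orderEmbOfFin]; exact hlS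
      obtain ⟨m, rfl⟩ := this
      rw [Finset.mem_image]
      refine ⟨m, ?_, rfl⟩
      rw [Finset.mem_Ioi]
      by_contra hmi
      have hmi' : m ≤ i := not_lt.mp hmi
      have h1 : S.toFinset.orderEmbOfFin hcard m ≤ S.toFinset.orderEmbOfFin hcard i :=
        (S.toFinset.orderEmbOfFin hcard).monotone hmi'
      have h2 : ((S.toFinset.orderEmbOfFin hcard m : Fin n) : ℕ) ≤
          ((S.toFinset.orderEmbOfFin hcard i : Fin n) : ℕ) := h1
      omega
    have hle : s₀.toFinset.card ≤ (Finset.Ioi i).card :=
      (Finset.card_le_card hsub).trans Finset.card_image_le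
    rw [Fin.card_Ioi] at hle
    have := i.2
    omega
  · have hli : LinearIndependent K (v ∘ (S.toFinset.orderEmbOfFin hcard)) := by
      have hmem : ∀ m, S.toFinset.orderEmbOfFin hcard m ∈ S := fun m =>
        Set.mem_toFinset.mp (Finset.orderEmbOfFin_mem _ hcard m)
      have := hSi.linearIndependent.comp (fun m => (⟨S.toFinset.orderEmbOfFin hcard m, hmem m⟩ : S))
        (fun a b hab => (S.toFinset.orderEmbOfFin hcard).injective
          (congrArg (fun x : S => (x : Fin n)) hab))
      exact this
    have hunit : IsUnit (A.submatrix id (S.toFinset.orderEmbOfFin hcard))ᵀ := by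
      rw [← Matrix.linearIndependent_rows_iff_isUnit]
      exact hli
    rw [Matrix.isUnit_transpose, Matrix.isUnit_iff_isUnit_det] at hunit
    exact hunit.ne_zero

end Groth.Agent.Lib.Seat66.Schubert
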