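import Mathlib
import Groth.Agent.Lib.Helper3SmDim
import Groth.Agent.Lib.Helper4VarDim5
import Groth.Agent.Lib.Helper4VarDim6
import Groth.Agent.Lib.Helper4VarDim10
import Groth.Agent.Lib.Helper4FibDimL
import Groth.Agent.Lib.Seat64FibGen
import Groth.Agent.Lib.Seat45EtDim

/-!
# Codimension of a smooth closed subscheme of a smooth scheme, fibrewise and globally (seat 66)

* `fibreDimAt_eq_add`: for `g` locally of finite type, the local dimension of the fibre at `z` is
  `dim closure{z} ∩ fibre + dim 𝒪_{fibre, z}`.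
* `exists_stalk_dim_le_fiberStalk_dim`: `f : X ⟶ S` smooth, `i : Y ⟶ X` a closed immersion with `i ≫ f` smooth,
  `S` locally Noetherian: for every `y₀ : Y` there is `y' : Y` with `dim 𝒪_{X, i y'} ≤ dim 𝒪_{X_s, i y₀}`.
-/

set_option autoImplicit false
set_option linter.style.haveILetI false
universe u

namespace Groth.Agent.Lib.Seat66.SmCodim
open AlgebraicGeometry CategoryTheory CategoryTheory.Limits TopologicalSpace
open Groth.Agent.Lib.Helper4.VarDim

theorem topologicalKrullDim_congr_set {α : Type*} [TopologicalSpace α] {s t : Set α} (h : s = t) :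
    topologicalKrullDim ↥s = topologicalKrullDim ↥t := by
  subst h; rfl

theorem topologicalKrullDim_image_of_isEmbedding {α β : Type*} [TopologicalSpace α]
    [TopologicalSpace β] {j : α → β} (hj : Topology.IsEmbedding j) (T : Set α) :
    topologicalKrullDim ↥(j '' T) = topologicalKrullDim ↥T := by
  have hemb : Topology.IsEmbedding (fun t : T => j t.1) :=
    hj.comp Topology.IsEmbedding.subtypeVal
  have h1 := IsHomeomorph.topologicalKrullDim_eq _ hemb.toHomeomorph.isHomeomorph
  have h2 : Set.range (fun t : T => j t.1) = j '' T := by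
    ext b
    simp
  rw [← topologicalKrullDim_congr_set h2]
  exact h1.symm

attribute [local instance] sectionsAlgebra Curv2.resAlgebra in
/-- For `g` locally of finite type, the local dimension of the fibre at `z` is the sum of the dimension of
the closure of `z` in its fibre and the dimension of the local ring of the fibre at `z`. -/
theorem fibreDimAt_eq_add {Z S : Scheme.{u}} (g : Z ⟶ S) [LocallyOfFiniteType g] (z : Z) :
    ∃ e c : ℕ, topologicalKrullDim ↥(closure ({z} : Set Z) ∩ g ⁻¹' {g z}) = (e : WithBot ℕ∞) ∧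
      ringKrullDim ((g.fiber (g z)).presheaf.stalk (g.asFiber z)) = (c : WithBot ℕ∞) ∧
      FlatMor.fibreDimAt g z = ((e + c : ℕ) : WithBot ℕ∞) := by
  letI : (g.fiber (g z)).Over (Spec (CommRingCat.of (S.residueField (g z)))) :=
    ⟨g.fiberToSpecResidueField (g z)⟩
  haveI : LocallyOfFiniteType ((g.fiber (g z)) ↘ Spec (CommRingCat.of (S.residueField (g z)))) :=
    locallyOfFiniteType_fiberToSpecResidueField g (g z)
  obtain ⟨c, hc⟩ := exists_ringKrullDim_stalk_eq (S.residueField (g z)) (g.fiber (g z)) (g.asFiber z)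
  have ha := trdeg_eq_trdegNat (S.residueField (g z)) (g.fiber (g z)) (g.asFiber z)
  have hloc := localDim_eq_add (S.residueField (g z)) (g.fiber (g z)) (g.asFiber z)
    (trdegNat (S.residueField (g z)) (g.fiber (g z)) (g.asFiber z)) c ha hc
  have hcl := topologicalKrullDim_closure_singleton (S.residueField (g z)) (g.fiber (g z))
    (g.asFiber z)
  refine ⟨trdegNat (S.residueField (g z)) (g.fiber (g z)) (g.asFiber z), c, ?_, hc, hloc⟩
  rw [← hcl]
  have hset : closure ({z} : Set Z) ∩ g ⁻¹' {g z} =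
      (g.fiberι (g z)) '' closure ({g.asFiber z} : Set (g.fiber (g z))) := by
    rw [(g.fiberι (g z)).isEmbedding.isInducing.closure_eq_preimage_closure_image,
      Set.image_singleton, g.fiberι_asFiber, Set.image_preimage_eq_inter_range, g.range_fiberι]
  rw [topologicalKrullDim_congr_set hset]
  exact topologicalKrullDim_image_of_isEmbedding (g.fiberι (g z)).isEmbedding _

/-- At a point which is maximal in its fibre, the local ring of the fibre has dimension zero. -/
theorem ringKrullDim_fiberStalk_eq_zero_of_maximal {Z S : Scheme.{u}} (g : Z ⟶ S) (z : Z)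
    (hmax : ∀ y : Z, g y = g z → y ⤳ z → y = z) :
    ringKrullDim ((g.fiber (g z)).presheaf.stalk (g.asFiber z)) = 0 := by
  apply le_antisymm
  · apply Groth.Agent.Lib.Seat64.FibGen.ringKrullDim_stalk_le_zero
    intro w' hw'
    have h1 : g.fiberι (g z) w' ⤳ g.fiberι (g z) (g.asFiber z) :=
      hw'.map (g.fiberι (g z)).continuous
    rw [g.fiberι_asFiber z] at h1
    have h2 : g (g.fiberι (g z) w') = g z := (g.fiberHomeo (g z) w').2
    have h3 := hmax _ h2 h1
    apply (g.fiberι (g z)).isEmbedding.injective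
    rw [h3, g.fiberι_asFiber]
  · exact ringKrullDim_nonneg_of_nontrivial

/-- The closure of a point in its fibre is the same for `i ≫ f` at `y` and for `f` at `i y`, for `i` a
closed immersion. -/
theorem dim_closure_inter_fibre_eq {X Y S : Scheme.{u}} (f : X ⟶ S) (i : Y ⟶ X)
    [IsClosedImmersion i] (y : Y) :
    topologicalKrullDim ↥(closure ({y} : Set Y) ∩ (i ≫ f) ⁻¹' {(i ≫ f) y}) =
      topologicalKrullDim ↥(closure ({i y} : Set X) ∩ f ⁻¹' {f (i y)}) := by
  have hemb : Topology.IsClosedEmbedding i := i.isClosedEmbedding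
  rw [← topologicalKrullDim_image_of_isEmbedding hemb.isEmbedding]
  apply topologicalKrullDim_congr_set
  have h1 : ((i ≫ f) ⁻¹' {(i ≫ f) y} : Set Y) = i ⁻¹' (f ⁻¹' {f (i y)}) := by
    ext t
    simp
  rw [h1, Set.image_inter_preimage, ← hemb.closure_image_eq, Set.image_singleton]

/-- The fibre dimension of a smooth morphism is a natural number, constant along generizations. -/
theorem exists_fibreDimAt_eq_of_smooth {Z S : Scheme.{u}} (g : Z ⟶ S) [Smooth g] (z : Z) :
    ∃ n : ℕ, ∀ z' : Z, z' ⤳ z → FlatMor.fibreDimAt g z' = (n : WithBot ℕ∞) := by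
  obtain ⟨U, hU, V, hV, hz, e, hg⟩ := Smooth.exists_isStandardSmooth g z
  obtain ⟨n, hn⟩ := Groth.Agent.Lib.Helper3.SmDim.exists_relDim_of_isStandardSmooth _ hg
  exact ⟨n, fun z' hz' => Groth.Agent.Lib.Helper3.SmDim.fibreDimAt_eq_of_chart g n z' hU hV
    (hz'.mem_open V.2 hz) e hn⟩

/-- For flat `h`, every point has a generization lying over a point of the base with zero-dimensional
local ring and which is maximal in its fibre. -/
theorem exists_generic_in_generic_fibre {Y S : Scheme.{u}} (h : Y ⟶ S) [Flat h] (y₀ : Y) :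
    ∃ y' : Y, y' ⤳ y₀ ∧ ringKrullDim (S.presheaf.stalk (h y')) = 0 ∧
      ∀ z : Y, h z = h y' → z ⤳ y' → z = y' := by
  obtain ⟨s', hs', hdim⟩ :=
    Groth.Agent.Lib.Seat45.EtDim.exists_specializes_ringKrullDim_stalk_eq_zero S (h y₀)
  obtain ⟨y'', hy''sp, hy''⟩ := (Flat.generalizingMap h) hs'
  have hmem : y'' ∈ Set.range (h.fiberι s') := by
    rw [h.range_fiberι]
    exact hy''
  obtain ⟨w'', hw''⟩ := hmem
  obtain ⟨w', hw'gen, hw'sp⟩ := exists_generic_specializes w''
  have hfib : h (h.fiberι s' w') = s' := (h.fiberHomeo s' w').2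
  refine ⟨h.fiberι s' w', ?_, ?_, ?_⟩
  · have h1 : h.fiberι s' w' ⤳ h.fiberι s' w'' := hw'sp.map (h.fiberι s').continuous
    rw [hw''] at h1
    exact h1.trans hy''sp
  · rw [hfib]
    exact hdim
  · intro z hz hzsp
    have hz' : h z = s' := hz.trans hfib
    have hmemz : z ∈ Set.range (h.fiberι s') := by
      rw [h.range_fiberι]
      exact hz'
    obtain ⟨wz, rfl⟩ := hmemz
    have h2 : wz ⤳ w' := (h.fiberι s').isEmbedding.isInducing.specializes_iff.mp hzsp
    rw [eq_of_specializes_generic w' wz hw'gen h2]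

/-- **Key step**: for `f` smooth, `i` a closed immersion with `i ≫ f` smooth, every point `y₀` of `Y` has a
generization `y'` in `Y` with `dim 𝒪_{X, i y'} ≤ dim 𝒪_{X_s, i y₀}`. -/
theorem exists_stalk_dim_le_fiberStalk_dim {X Y S : Scheme.{u}} [IsLocallyNoetherian S]
    (f : X ⟶ S) [Smooth f] (i : Y ⟶ X) [IsClosedImmersion i] [Smooth (i ≫ f)] (y₀ : Y) :
    ∃ y' : Y, ringKrullDim (X.presheaf.stalk (i y')) ≤
      ringKrullDim ((f.fiber (f (i y₀))).presheaf.stalk (f.asFiber (i y₀))) := by
  obtain ⟨y', hsp, hdimS, hmax⟩ := exists_generic_in_generic_fibre (i ≫ f) y₀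
  refine ⟨y', ?_⟩
  have hspX : i y' ⤳ i y₀ := hsp.map i.continuous
  obtain ⟨na, hna⟩ := exists_fibreDimAt_eq_of_smooth f (i y₀)
  obtain ⟨nb, hnb⟩ := exists_fibreDimAt_eq_of_smooth (i ≫ f) y₀
  obtain ⟨e₀, c₀, he₀, hc₀, hloc₀⟩ := fibreDimAt_eq_add f (i y₀)
  obtain ⟨e₀', c₀', he₀', hc₀', hloc₀'⟩ := fibreDimAt_eq_add (i ≫ f) y₀
  obtain ⟨e₁, c₁, he₁, hc₁, hloc₁⟩ := fibreDimAt_eq_add f (i y')
  obtain ⟨e₁', c₁', he₁', hc₁', hloc₁'⟩ := fibreDimAt_eq_add (i ≫ f) y'
  -- numerical relations
  have r1 : na = e₀ + c₀ := by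
    have := (hna _ specializes_rfl).symm.trans hloc₀
    exact_mod_cast this
  have r2 : nb = e₀' + c₀' := by
    have := (hnb _ specializes_rfl).symm.trans hloc₀'
    exact_mod_cast this
  have r3 : na = e₁ + c₁ := by
    have := (hna _ hspX).symm.trans hloc₁
    exact_mod_cast this
  have r4 : nb = e₁' + c₁' := by
    have := (hnb _ hsp).symm.trans hloc₁'
    exact_mod_cast this
  have r5 : e₀' = e₀ := by
    have := he₀'.symm.trans ((dim_closure_inter_fibre_eq f i y₀).trans he₀)
    exact_mod_cast this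
  have r6 : e₁' = e₁ := by
    have := he₁'.symm.trans ((dim_closure_inter_fibre_eq f i y').trans he₁)
    exact_mod_cast this
  have r7 : c₁' = 0 := by
    have := hc₁'.symm.trans (ringKrullDim_fiberStalk_eq_zero_of_maximal (i ≫ f) y' hmax)
    exact_mod_cast this
  have hle : c₁ ≤ c₀ := by omega
  -- dimension inequality
  have h6 := Groth.Agent.Lib.Helper4.FibDim.ringKrullDim_stalk_le_add_fiber f (f (i y')) (f.asFiber (i y'))
  rw [f.fiberι_asFiber (i y')] at h6
  have hdimS' : ringKrullDim (S.presheaf.stalk (f (i y'))) = 0 := hdimS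
  rw [hdimS', zero_add, hc₁] at h6
  rw [hc₀]
  exact h6.trans (by exact_mod_cast hle)

end Groth.Agent.Lib.Seat66.SmCodim
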