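import Mathlib

/-!
# Sheaves on the small étale site: Zariski sheaves satisfying the sheaf condition for surjective
maps of affines (seat 66)
-/

set_option autoImplicit false
set_option backward.isDefEq.respectTransparency false
set_option backward.defeqAttrib.useBackward true
universe u w

namespace Groth.Agent.Lib.Seat66.SmallEt

open CategoryTheory Limits AlgebraicGeometry

variable {X : Scheme.{u}}

/-- Pointwise criterion for covering sieves of the small sites on `X.Etale`. -/
theorem mem_small_iff (P : MorphismProperty Scheme.{u}) [P.IsStableUnderBaseChange]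
    [P.IsMultiplicative] [P.RespectsIso] (hP : P ≤ @Etale) (U : X.Etale) (R : Sieve U) :
    R ∈ X.smallGrothendieckTopology (P := P) (Q := @Etale) U ↔
      ∀ x : U.left, ∃ (Y : X.Etale) (f : Y ⟶ U) (y : Y.left),
        R f ∧ P f.left ∧ f.left y = x := by
  rw [Scheme.smallGrothendieckTopology_eq_toGrothendieck_smallPretopology X hP]
  exact Scheme.mem_toGrothendieck_smallPretopology U R

theorem mem_smallEtale_iff (U : X.Etale) (R : Sieve U) :
    R ∈ X.smallEtaleTopology U ↔
      ∀ x : U.left, ∃ (Y : X.Etale) (f : Y ⟶ U) (y : Y.left), R f ∧ f.left y = x := by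
  refine (mem_small_iff (X := X) @Etale le_rfl U R).trans ?_
  constructor
  · intro h x
    obtain ⟨Y, f, y, h1, -, h3⟩ := h x
    exact ⟨Y, f, y, h1, h3⟩
  · intro h x
    obtain ⟨Y, f, y, h1, h3⟩ := h x
    exact ⟨Y, f, y, h1, inferInstance, h3⟩

theorem isOpenImmersion_le_etale : @IsOpenImmersion ≤ @Etale := by
  intro A B f hf
  infer_instance

theorem mem_smallZariski_iff (U : X.Etale) (R : Sieve U) :
    R ∈ X.smallGrothendieckTopology (P := @IsOpenImmersion) (Q := @Etale) U ↔
      ∀ x : U.left, ∃ (Y : X.Etale) (f : Y ⟶ U) (y : Y.left),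
        R f ∧ IsOpenImmersion f.left ∧ f.left y = x :=
  mem_small_iff (X := X) @IsOpenImmersion isOpenImmersion_le_etale U R

/-- An open subscheme of an étale `X`-scheme, as an étale `X`-scheme. -/
noncomputable abbrev opn (U : X.Etale) (W : U.left.Opens) : X.Etale :=
  Scheme.Etale.mk (W.ι ≫ U.hom)

/-- The inclusion of an open subscheme. -/
noncomputable abbrev opnι (U : X.Etale) (W : U.left.Opens) : opn U W ⟶ U :=
  MorphismProperty.Over.homMk W.ι rfl trivial

/-- The small Zariski topology on `X.Etale`. -/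
noncomputable abbrev zar (X : Scheme.{u}) : GrothendieckTopology X.Etale :=
  X.smallGrothendieckTopology (P := @IsOpenImmersion) (Q := @Etale)

/-- A sieve containing the inclusions of an open cover is a small Zariski covering. -/
theorem mem_zar_of_opens (U : X.Etale) (R : Sieve U)
    (h : ∀ x : U.left, ∃ W : U.left.Opens, x ∈ W ∧ R (opnι U W)) : R ∈ zar X U := by
  refine (mem_smallZariski_iff U R).mpr ?_
  intro x
  obtain ⟨W, hxW, hR⟩ := h x
  exact ⟨opn U W, opnι U W, ⟨x, hxW⟩, hR, inferInstanceAs (IsOpenImmersion W.ι), rfl⟩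

theorem opn_hom (U : X.Etale) (W : U.left.Opens) : (opn U W).hom = W.ι ≫ U.hom := rfl

theorem opnι_left (U : X.Etale) (W : U.left.Opens) : (opnι U W).left = W.ι := rfl

instance (U : X.Etale) (W : U.left.Opens) : Mono (opnι U W) := by
  constructor
  intro Z g h hgh
  apply MorphismProperty.Over.Hom.ext
  have h1 : g.left ≫ W.ι = h.left ≫ W.ι := congrArg (fun k => k.left) hgh
  exact (cancel_mono W.ι).mp h1

/-- A morphism landing in an open subscheme factors through it. -/
noncomputable def opnLift {U Z : X.Etale} (g : Z ⟶ U) (W : U.left.Opens)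
    (h : ∀ z : Z.left, g.left z ∈ W) : Z ⟶ opn U W :=
  MorphismProperty.Over.homMk
    (IsOpenImmersion.lift W.ι g.left (by
      rintro _ ⟨z, rfl⟩
      exact ⟨⟨g.left z, h z⟩, rfl⟩))
    (by
      rw [opn_hom, ← Category.assoc, IsOpenImmersion.lift_fac]
      exact MorphismProperty.Over.w g) trivial

@[reassoc (attr := simp)]
theorem opnLift_ι {U Z : X.Etale} (g : Z ⟶ U) (W : U.left.Opens)
    (h : ∀ z : Z.left, g.left z ∈ W) : opnLift g W h ≫ opnι U W = g := by
  apply MorphismProperty.Over.Hom.ext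
  exact IsOpenImmersion.lift_fac _ _ _

/-- The inclusion between open subschemes. -/
noncomputable def opnLE (U : X.Etale) {W W' : U.left.Opens} (h : W ≤ W') : opn U W ⟶ opn U W' :=
  opnLift (opnι U W) W' (fun z => h z.2)

@[reassoc (attr := simp)]
theorem opnLE_ι (U : X.Etale) {W W' : U.left.Opens} (h : W ≤ W') :
    opnLE U h ≫ opnι U W' = opnι U W := opnLift_ι _ _ _

/-- The 1-hypercover of an étale `X`-scheme by its affine opens. -/
noncomputable def affineHypercover (Y : X.Etale) : (zar X).OneHypercover Y where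
  I₀ := Y.left.affineOpens
  X a := opn Y a.1
  f a := opnι Y a.1
  I₁ a b := {c : Y.left.affineOpens // c.1 ≤ a.1 ⊓ b.1}
  Y a b c := opn Y c.1.1
  p₁ a b c := opnLE Y (c.2.trans inf_le_left)
  p₂ a b c := opnLE Y (c.2.trans inf_le_right)
  w a b c := by rw [opnLE_ι, opnLE_ι]
  mem₀ := by
    apply mem_zar_of_opens
    intro y
    obtain ⟨W, hW, hyW, -⟩ := TopologicalSpace.Opens.isBasis_iff_nbhd.mp
      Y.left.isBasis_affineOpens (show y ∈ (⊤ : Y.left.Opens) from trivial)
    exact ⟨W, hyW, Sieve.ofArrows_mk _ _ (⟨W, hW⟩ : Y.left.affineOpens)⟩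
  mem₁ a b W p₁ p₂ w := by
    apply mem_zar_of_opens
    intro x
    have hya : (p₁ ≫ opnι Y a.1).left x ∈ a.1 := (p₁.left x).2
    have hyb : (p₁ ≫ opnι Y a.1).left x ∈ b.1 := by
      rw [w]; exact (p₂.left x).2
    obtain ⟨c', hc, hyc, hcab⟩ := TopologicalSpace.Opens.isBasis_iff_nbhd.mp
      Y.left.isBasis_affineOpens
      (show (p₁ ≫ opnι Y a.1).left x ∈ a.1 ⊓ b.1 from ⟨hya, hyb⟩)
    let c : Y.left.Opens := c'
    refine ⟨(p₁ ≫ opnι Y a.1).left ⁻¹ᵁ c, hyc, ⟨⟨c, hc⟩, hcab⟩,
      opnLift (opnι W _ ≫ p₁ ≫ opnι Y a.1) c (fun z => z.2), ?_, ?_⟩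
    · rw [← cancel_mono (opnι Y a.1), Category.assoc, Category.assoc, opnLE_ι, opnLift_ι]
    · rw [← cancel_mono (opnι Y b.1), Category.assoc, Category.assoc, opnLE_ι, opnLift_ι, w]

section Sheaf

variable (F : X.Etaleᵒᵖ ⥤ Type w) (hzar : Presieve.IsSheaf (zar X) F)
  (haff : ∀ (U V : X.Etale) [IsAffine U.left] [IsAffine V.left] (f : V ⟶ U) [Surjective f.left],
    Presieve.IsSheafFor F (Presieve.singleton f))

include hzar in
theorem zar_le_finest : zar X ≤ Sheaf.finestTopologySingle F := by
  intro U R hR Y f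
  exact hzar _ ((zar X).pullback_stable f hR)

include haff in
theorem isSheafFor_pullback_of_affine {T W Y' : X.Etale} [IsAffine T.left] [IsAffine W.left]
    [IsAffine Y'.left] (Ψ : W ⟶ T) [Surjective Ψ.left] (h' : Y' ⟶ T) :
    Presieve.IsSheafFor F ((Sieve.generate (Presieve.singleton Ψ)).pullback h').arrows := by
  rw [← Sieve.pullbackArrows_comm, Presieve.pullback_singleton,
    ← Presieve.isSheafFor_iff_generate]
  have hpb : IsPullback (pullback.fst Ψ h').left (pullback.snd Ψ h').left Ψ.left h'.left :=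
    (IsPullback.of_hasPullback Ψ h').map (Scheme.Etale.forget X ⋙ Over.forget X)
  have : IsAffine (pullback Ψ h').left := IsAffine.of_isIso hpb.isoPullback.hom
  have : Surjective (pullback.snd Ψ h').left :=
    MorphismProperty.of_isPullback hpb (inferInstanceAs (Surjective Ψ.left))
  exact haff _ _ _

include hzar haff in
theorem generate_singleton_mem_finest {T W : X.Etale} [IsAffine T.left] [IsAffine W.left]
    (Ψ : W ⟶ T) [Surjective Ψ.left] :
    Sieve.generate (Presieve.singleton Ψ) ∈ Sheaf.finestTopologySingle F T := by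
  intro Y h
  refine (affineHypercover Y).isSheafFor_sieve_of_pullback hzar (fun a => ?_) (fun a b c => ?_)
  · rw [← Sieve.pullback_comp]
    have : IsAffine ((affineHypercover Y).X a).left := (a.2 : IsAffineOpen a.1)
    exact isSheafFor_pullback_of_affine F haff Ψ _
  · rw [← Sieve.pullback_comp]
    have : IsAffine ((affineHypercover Y).Y c).left := (c.1.2 : IsAffineOpen c.1.1)
    exact (isSheafFor_pullback_of_affine F haff Ψ _).isSeparatedFor

include hzar haff in
theorem mem_finest_of_affine {T : X.Etale} [IsAffine T.left] {R : Sieve T}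
    (hR : R ∈ X.smallEtaleTopology T) : R ∈ Sheaf.finestTopologySingle F T := by
  rw [mem_smallEtale_iff] at hR
  choose Yx fx yx hRx hyx using hR
  have hA : ∀ x : T.left, ∃ A : (Yx x).left.Opens, IsAffineOpen A ∧ yx x ∈ A := fun x => by
    obtain ⟨A, hA, hy, -⟩ := TopologicalSpace.Opens.isBasis_iff_nbhd.mp
      (Yx x).left.isBasis_affineOpens (show yx x ∈ (⊤ : (Yx x).left.Opens) from trivial)
    exact ⟨A, hA, hy⟩
  choose A hAaff hyA using hA
  let O : T.left → T.left.Opens := fun x =>
    ⟨(fx x).left '' (A x : Set (Yx x).left), (fx x).left.isOpenMap _ (A x).isOpen⟩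
  have hxO : ∀ x, x ∈ O x := fun x => ⟨yx x, hyA x, hyx x⟩
  have hcov : TopologicalSpace.IsOpenCover O := by
    rw [TopologicalSpace.IsOpenCover, eq_top_iff]
    intro x _
    exact TopologicalSpace.Opens.mem_iSup.mpr ⟨x, hxO x⟩
  obtain ⟨t, ht⟩ := hcov.exists_finite_of_compactSpace
  let V : t → X.Etale := fun k => opn (Yx k.1) (A k.1)
  let v : ∀ k, V k ⟶ T := fun k => opnι (Yx k.1) (A k.1) ≫ fx k.1
  have hvR : ∀ k, R (v k) := fun k => R.downward_closed (hRx k.1) _
  have hEt : Etale (Limits.Sigma.desc fun k => (V k).hom) :=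
    IsZariskiLocalAtSource.sigmaDesc (fun k => (V k).prop)
  let W : X.Etale := Scheme.Etale.mk (Limits.Sigma.desc fun k => (V k).hom)
  have hΨw : (Limits.Sigma.desc fun k => (v k).left) ≫ T.hom = W.hom := by
    apply Sigma.hom_ext
    intro k
    simp only [Sigma.ι_desc_assoc, W, MorphismProperty.Over.mk_hom, Sigma.ι_desc]
    exact MorphismProperty.Over.w (v k)
  let Ψ : W ⟶ T := MorphismProperty.Over.homMk (Limits.Sigma.desc fun k => (v k).left) hΨw trivial
  have hWaff : IsAffine W.left := by
    have : ∀ k, IsAffine (V k).left := fun k => hAaff k.1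
    exact inferInstanceAs (IsAffine (∐ fun k => (V k).left))
  have hΨs : Surjective Ψ.left := by
    constructor
    intro x
    have hx : x ∈ (⨆ k : t, O k.1 : T.left.Opens) := by
      rw [ht.iSup_eq_top]; trivial
    obtain ⟨k, z, hz, rfl⟩ := TopologicalSpace.Opens.mem_iSup.mp hx
    refine ⟨Sigma.ι (fun k => (V k).left) k ⟨z, hz⟩, ?_⟩
    change (Sigma.ι (fun k => (V k).left) k ≫ Limits.Sigma.desc fun k => (v k).left) ⟨z, hz⟩ = _
    rw [Sigma.ι_desc]
    rfl
  have h1 := generate_singleton_mem_finest F hzar haff Ψ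
  have hιw : ∀ k, Sigma.ι (fun k => (V k).left) k ≫ W.hom = (V k).hom := fun k => by
    simp [W]
  let ιk : ∀ k, V k ⟶ W := fun k =>
    MorphismProperty.Over.homMk (Sigma.ι (fun k => (V k).left) k) (hιw k) trivial
  have hιΨ : ∀ k, ιk k ≫ Ψ = v k := fun k => by
    apply MorphismProperty.Over.Hom.ext
    change Sigma.ι (fun k => (V k).left) k ≫ (Limits.Sigma.desc fun k => (v k).left) = _
    rw [Sigma.ι_desc]
  have h2 : (Sieve.generate (Presieve.ofArrows V v)).pullback Ψ ∈
      Sheaf.finestTopologySingle F W := by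
    apply zar_le_finest F hzar
    refine (mem_smallZariski_iff _ _).mpr (fun w => ?_)
    obtain ⟨k, z, hz⟩ := (sigmaOpenCover (fun k => (V k).left)).exists_eq w
    refine ⟨V k, ιk k, z, ?_, inferInstanceAs (IsOpenImmersion (Sigma.ι _ k)), hz⟩
    change (Sieve.generate (Presieve.ofArrows V v)) (ιk k ≫ Ψ)
    rw [hιΨ]
    exact Sieve.le_generate _ _ _ (Presieve.ofArrows.mk k)
  have h3 : Sieve.generate (Presieve.ofArrows V v) ∈ Sheaf.finestTopologySingle F T := by
    refine (Sheaf.finestTopologySingle F).transitive h1 _ (fun Y f hf => ?_)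
    obtain ⟨Z, a, b, hb, rfl⟩ := hf
    cases hb
    rw [Sieve.pullback_comp]
    exact (Sheaf.finestTopologySingle F).pullback_stable a h2
  refine (Sheaf.finestTopologySingle F).superset_covering ?_ h3
  rw [Sieve.generate_le_iff]
  rintro _ _ ⟨k⟩
  exact hvR k

include hzar haff in
theorem smallEtale_le_finest : X.smallEtaleTopology ≤ Sheaf.finestTopologySingle F := by
  intro U R hR
  have hZ : Sieve.ofArrows (fun a : U.left.affineOpens => opn U a.1) (fun a => opnι U a.1) ∈
      Sheaf.finestTopologySingle F U := zar_le_finest F hzar _ (affineHypercover U).mem₀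
  refine (Sheaf.finestTopologySingle F).transitive hZ R (fun Y f hf => ?_)
  obtain ⟨Z, a, b, ⟨i⟩, rfl⟩ := hf
  rw [Sieve.pullback_comp]
  apply (Sheaf.finestTopologySingle F).pullback_stable
  have : IsAffine (opn U i.1).left := (i.2 : IsAffineOpen i.1)
  exact mem_finest_of_affine F hzar haff (X.smallEtaleTopology.pullback_stable _ hR)

end Sheaf

/-- A presheaf on the small étale site is a sheaf iff it is a Zariski sheaf and satisfies the sheaf
condition for surjective morphisms of affine étale `X`-schemes. -/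
theorem isSheaf_smallEtale_iff (F : X.Etaleᵒᵖ ⥤ Type w) :
    Presieve.IsSheaf X.smallEtaleTopology F ↔
      Presieve.IsSheaf (zar X) F ∧
        ∀ (U V : X.Etale) [IsAffine U.left] [IsAffine V.left] (f : V ⟶ U) [Surjective f.left],
          Presieve.IsSheafFor F (Presieve.singleton f) := by
  constructor
  · intro hF
    refine ⟨?_, ?_⟩
    · intro U R hR
      apply hF
      have hR' := (mem_smallZariski_iff U R).mp hR
      rw [mem_smallEtale_iff]
      intro x
      obtain ⟨Y, f, y, h1, -, h3⟩ := hR' x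
      exact ⟨Y, f, y, h1, h3⟩
    · intro U V _ _ f _
      rw [Presieve.isSheafFor_iff_generate]
      apply hF
      rw [mem_smallEtale_iff]
      intro x
      obtain ⟨y, hy⟩ := f.left.surjective x
      exact ⟨V, f, y, Sieve.le_generate _ _ _ (Presieve.singleton.mk), hy⟩
  · rintro ⟨hzar, haff⟩ U R hR
    have := smallEtale_le_finest F hzar haff _ hR U (𝟙 U)
    rwa [Sieve.pullback_id] at this

end Groth.Agent.Lib.Seat66.SmallEt
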