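import Mathlib
import Groth.Prelude.Def_W4c1gvcharpAbut

/-!
# Vanishing of a morphism of abutments from vanishing on a line of `E₂` (seat 66)
-/

set_option autoImplicit false
universe v u
open CategoryTheory CategoryTheory.Limits

namespace Groth.Agent.Lib.Seat66.SpSeqAbut

variable {C : Type u} [Category.{v} C] [Abelian C]

section Pages

variable {r₀ : ℤ}

/-- Zero objects propagate to later pages. -/
theorem isZero_page_of_isZero (E : CohomologicalSpectralSequence C r₀) (pq : ℤ × ℤ) (r : ℤ)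
    (hr : r₀ ≤ r) (hz : IsZero ((E.page r hr).X pq)) (r' : ℤ) (hrr' : r ≤ r') (hr' : r₀ ≤ r') :
    IsZero ((E.page r' hr').X pq) := by
  obtain ⟨k, rfl⟩ := Int.le.dest hrr'
  induction k with
  | zero =>
    exact IsZero.of_iso hz (E.pageXIsoOfEq pq (r + ((0 : ℕ) : ℤ)) r (by simp) hr')
  | succ k ih =>
    have hk : r₀ ≤ r + (k : ℤ) := by omega
    have h1 := ih (by omega) hk
    have h2 : IsZero ((E.page (r + (k : ℤ)) hk).homology pq) := by
      have : ((E.page (r + (k : ℤ)) hk).sc pq).Exact :=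
        ShortComplex.exact_of_isZero_X₂ _ h1
      exact (ShortComplex.exact_iff_isZero_homology _).mp this
    exact IsZero.of_iso h2
      (E.iso (r + (k : ℤ)) (r + ((k + 1 : ℕ) : ℤ)) pq (by push_cast; ring) hk).symm

/-- Vanishing of a component of a morphism of spectral sequences propagates to later pages. -/
theorem hom_f_eq_zero {E E' : CohomologicalSpectralSequence C r₀} (φ : E ⟶ E') (pq : ℤ × ℤ)
    (r : ℤ) (hr : r₀ ≤ r) (hz : (φ.hom r hr).f pq = 0) (r' : ℤ) (hrr' : r ≤ r') (hr' : r₀ ≤ r') :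
    (φ.hom r' hr').f pq = 0 := by
  obtain ⟨k, rfl⟩ := Int.le.dest hrr'
  induction k with
  | zero =>
    have h : r + ((0 : ℕ) : ℤ) = r := by simp
    revert hr'
    rw [h]
    intro _
    exact hz
  | succ k ih =>
    have hk : r₀ ≤ r + (k : ℤ) := by omega
    have h1 := ih (by omega) hk
    have h2 : HomologicalComplex.homologyMap (φ.hom (r + (k : ℤ)) hk) pq = 0 := by
      rw [← cancel_epi ((E.page (r + (k : ℤ)) hk).homologyπ pq),
        HomologicalComplex.homologyπ_naturality, comp_zero]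
      have h3 : HomologicalComplex.cyclesMap (φ.hom (r + (k : ℤ)) hk) pq = 0 := by
        rw [← cancel_mono ((E'.page (r + (k : ℤ)) hk).iCycles pq),
          HomologicalComplex.cyclesMap_i, h1, comp_zero, zero_comp]
      rw [h3, zero_comp]
    have h4 := φ.comm (r + (k : ℤ)) (r + ((k + 1 : ℕ) : ℤ)) pq (by push_cast; ring) hk
    rw [h2, zero_comp] at h4
    have h5 := congrArg (fun m => (E.iso (r + (k : ℤ)) (r + ((k + 1 : ℕ) : ℤ)) pq
      (by push_cast; ring) hk).inv ≫ m) h4
    simp only [comp_zero, Iso.inv_hom_id_assoc] at h5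
    exact h5.symm

end Pages

section Fil

open SpSeq

/-- If `gr^p` vanishes then `F^{p+1} = F^p`. -/
theorem fil_succ_eq_of_isZero_gr (K : FilObj C) (p : ℤ) (h : IsZero (K.gr p)) :
    K.fil (p + 1) = K.fil p := by
  apply le_antisymm (K.anti (Int.le_add_one le_rfl))
  have hepi : Epi (K.stepLE (Int.le_add_one (le_refl p))) := by
    apply Abelian.epi_of_cokernel_π_eq_zero
    exact h.eq_of_tgt _ _
  have hiso : IsIso (K.stepLE (Int.le_add_one (le_refl p))) := isIso_of_mono_of_epi _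
  refine Subobject.le_of_comm (inv (K.stepLE (Int.le_add_one (le_refl p)))) ?_
  rw [IsIso.inv_comp_eq, Subobject.ofLE_arrow]

theorem fil_eq_of_isZero_gr (K : FilObj C) (lo hi : ℤ) (hle : lo ≤ hi)
    (h : ∀ i, lo ≤ i → i < hi → IsZero (K.gr i)) : K.fil hi = K.fil lo := by
  induction hi, hle using Int.leInduction with
  | base => rfl
  | succ m hm ih =>
    rw [fil_succ_eq_of_isZero_gr K m (h m hm (by omega))]
    exact ih (fun i h1 h2 => h i h1 (by omega))

end Fil

section Abut

open SpSeq SpSeqMor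

variable {r₀ : ℤ} {E E' : CohomologicalSpectralSequence C r₀} {H H' : ℤ → C}

theorem isZero_gr (a : Abutment E H) (p q n : ℤ) (hn : p + q = n)
    (hz : IsZero ((E.page r₀ le_rfl).X (p, q))) : IsZero ((a.filObj n).gr p) := by
  subst hn
  exact IsZero.of_iso
    (isZero_page_of_isZero E (p, q) r₀ le_rfl hz (a.rk (p, q)) (a.stat (p, q)).1 (a.stat (p, q)).1)
    (a.β (p, q)).symm

theorem gr_eq_zero {φ : E ⟶ E'} {a : Abutment E H} {a' : Abutment E' H'} (f : AbutHom φ a a')
    (p q n : ℤ) (hn : p + q = n) (hφ : (φ.hom r₀ le_rfl).f (p, q) = 0) :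
    (f.fil n).gr p = 0 := by
  subst hn
  have h1 := (a.stat (p, q)).1
  have h2 := (a'.stat (p, q)).1
  have hkk : a.rk (p, q) + ((a'.rk (p, q) - r₀).toNat : ℤ) =
      a'.rk (p, q) + ((a.rk (p, q) - r₀).toNat : ℤ) := by
    rw [Int.toNat_of_nonneg (by omega), Int.toNat_of_nonneg (by omega)]; ring
  have hc := f.comm (p, q) _ _ hkk
  rw [hom_f_eq_zero φ (p, q) r₀ le_rfl hφ _ (by omega) _] at hc
  simp only [zero_comp, comp_zero] at hc
  exact (cancel_epi (a.β (p, q)).hom).mp (hc.trans comp_zero.symm)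

/-- The main vanishing statement. -/
theorem abutHom_eq_zero {φ : E ⟶ E'} {a : Abutment E H} {a' : Abutment E' H'}
    (f : AbutHom φ a a') (l a₀ : ℤ) (ha : a.IsFinite l) (ha' : a'.IsFinite l)
    (hE : ∀ i : ℤ, i < a₀ → IsZero ((E.page r₀ le_rfl).X (i, l - i)))
    (hE' : ∀ i : ℤ, a₀ < i → IsZero ((E'.page r₀ le_rfl).X (i, l - i)))
    (hφ : (φ.hom r₀ le_rfl).f (a₀, l - a₀) = 0) : f.hom l = 0 := by
  set K := a.filObj l with hK
  set L := a'.filObj l with hL
  -- `F^{a₀} H = ⊤`
  have hKtop : K.fil a₀ = ⊤ := by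
    obtain ⟨⟨t, ht⟩, -⟩ := ha
    rcases le_total t a₀ with h | h
    · rw [fil_eq_of_isZero_gr K t a₀ h
        (fun i _ h2 => isZero_gr a i (l - i) l (by ring) (hE i h2))]
      exact ht
    · exact top_le_iff.mp (ht ▸ K.anti h)
  -- `F^{a₀+1} H' = ⊥`
  have hLbot : L.fil (a₀ + 1) = ⊥ := by
    obtain ⟨-, ⟨b, hb⟩⟩ := ha'
    rcases le_total (a₀ + 1) b with h | h
    · rw [← fil_eq_of_isZero_gr L (a₀ + 1) b h
        (fun i h1 _ => isZero_gr a' i (l - i) l (by ring) (hE' i (by omega)))]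
      exact hb
    · exact le_bot_iff.mp (hb ▸ L.anti h)
  have hgr : (f.fil l).gr a₀ = 0 := gr_eq_zero f a₀ (l - a₀) l (by ring) hφ
  have hstep : L.stepLE (Int.le_add_one (le_refl a₀)) = 0 := by
    rw [← cancel_mono (L.fil a₀).arrow, Subobject.ofLE_arrow, zero_comp]
    have : ∀ S : Subobject L.obj, S = ⊥ → S.arrow = 0 := by
      rintro S rfl
      exact Subobject.bot_arrow
    exact this _ hLbot
  have hmono : Mono (cokernel.π (L.stepLE (Int.le_add_one (le_refl a₀)))) := by
    rw [hstep]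
    infer_instance
  have hlift : (f.fil l).lift a₀ = 0 := by
    rw [← cancel_mono (cokernel.π (L.stepLE (Int.le_add_one (le_refl a₀)))), zero_comp]
    have : cokernel.π (K.stepLE (Int.le_add_one (le_refl a₀))) ≫ (f.fil l).gr a₀ =
        (f.fil l).lift a₀ ≫ cokernel.π (L.stepLE (Int.le_add_one (le_refl a₀))) := by
      unfold FilLift.gr
      exact cokernel.π_desc _ _ _
    rw [← this, hgr]
    exact comp_zero
  have hiso : IsIso (K.fil a₀).arrow := (Subobject.isIso_arrow_iff_eq_top _).mpr hKtop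
  have := (f.fil l).lift_arrow a₀
  rw [hlift, zero_comp] at this
  exact (cancel_epi (K.fil a₀).arrow).mp (this.symm.trans comp_zero.symm)

end Abut

end Groth.Agent.Lib.Seat66.SpSeqAbut
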