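import Mathlib

/-!
# The Grothendieck topology generated by affine-local finite coverings in a class of morphisms
(seat 66)
-/

set_option autoImplicit false
universe u

namespace Groth.Agent.Lib.Seat66.Topo

open CategoryTheory CategoryTheory.Limits AlgebraicGeometry

/-- Finite coproducts of schemes are universal: the base change of `∐ V_j ⟶ U` along
`g : U' ⟶ U` is `∐ (U' ×_U V_j) ⟶ U'`. -/
theorem sigmaDesc_fst_of_sigmaDesc (C : MorphismProperty Scheme.{u}) [C.IsStableUnderBaseChange]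
    {κ : Type u} [Finite κ] {U U' : Scheme.{u}} (V : κ → Scheme.{u}) (ψ : ∀ j, V j ⟶ U)
    (g : U' ⟶ U) (h : C (Sigma.desc ψ)) :
    C (Sigma.desc fun j => pullback.fst g (ψ j)) := by
  have hau : IsUniversalColimit (Cofan.mk (∐ V) (Sigma.ι V)) :=
    FinitaryPreExtensive.isUniversal_finiteCoproducts (coproductIsCoproduct V)
  have hpb := IsUniversalColimit.isPullback_of_isColimit_left hau ψ (Sigma.desc ψ) g
    (fun j => pullback.fst g (ψ j)) (fun j => pullback.snd g (ψ j))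
    (fun j => IsPullback.of_hasPullback g (ψ j))
    (d := Cofan.mk (∐ fun j => pullback g (ψ j)) (Sigma.ι _))
    (coproductIsCoproduct _) (by intro i; simp)
  have h2 := C.of_isPullback hpb.flip h
  have h3 : (Sigma.desc fun j => pullback.fst g (ψ j)) =
      Cofan.IsColimit.desc (coproductIsCoproduct fun j => pullback g (ψ j))
        fun j => pullback.fst g (ψ j) := by
    apply Sigma.hom_ext
    intro j
    simp [Cofan.IsColimit.desc, coproductIsCoproduct, Sigma.ι]
  rw [h3]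
  exact h2

variable {S : Scheme.{u}} (C : MorphismProperty Scheme.{u})

/-- A finite covering datum, in the class `C`, of the scheme `U` over `X` by affine `S`-schemes
belonging to the sieve `R`. -/
def LC {X : Over S} (R : Sieve X) (U : Scheme.{u}) (u : U ⟶ X.left) : Prop :=
  ∃ (κ : Type u) (_ : Finite κ) (V : κ → Over S) (φ : ∀ j, V j ⟶ X)
    (ψ : ∀ j, (V j).left ⟶ U),
    (∀ j, IsAffine (V j).left) ∧ (∀ j, R.arrows (φ j)) ∧ (∀ j, ψ j ≫ u = (φ j).left) ∧
      C (Limits.Sigma.desc ψ)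

variable {C}

/-- Base change of a covering datum along a morphism of affine schemes. -/
theorem LC.baseChange [C.IsStableUnderBaseChange] {X : Over S} {R : Sieve X} {U U' : Scheme.{u}}
    [IsAffine U] [IsAffine U'] {u : U ⟶ X.left} (h : LC C R U u) (g : U' ⟶ U) :
    LC C R U' (g ≫ u) := by
  obtain ⟨κ, hκ, V, φ, ψ, hV, hR, hψ, hC⟩ := h
  refine ⟨κ, hκ, fun j => Over.mk (pullback.snd g (ψ j) ≫ (V j).hom),
    fun j => (Over.homMk (pullback.snd g (ψ j)) : Over.mk (pullback.snd g (ψ j) ≫ (V j).hom) ⟶ V j)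
      ≫ φ j,
    fun j => pullback.fst g (ψ j), ?_, ?_, ?_, ?_⟩
  · intro j
    have := hV j
    dsimp
    infer_instance
  · intro j
    exact R.downward_closed (hR j) _
  · intro j
    dsimp
    rw [← hψ j, pullback.condition_assoc]
    rfl
  · exact sigmaDesc_fst_of_sigmaDesc C (fun j => (V j).left) ψ g hC

/-- A covering datum for a pulled back sieve is a covering datum for the sieve. -/
theorem LC.of_pullback {X Y : Over S} {R : Sieve X} (f : Y ⟶ X) {U : Scheme.{u}}
    {u : U ⟶ Y.left} (h : LC C (R.pullback f) U u) : LC C R U (u ≫ f.left) := by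
  obtain ⟨κ, hκ, V, φ, ψ, hV, hR, hψ, hC⟩ := h
  refine ⟨κ, hκ, V, fun j => φ j ≫ f, ψ, hV, fun j => hR j, fun j => ?_, hC⟩
  rw [← Category.assoc, hψ j]
  rfl

/-- A covering datum for a sieve over a morphism is a covering datum for the pulled back sieve. -/
theorem LC.to_pullback {X Y : Over S} {R : Sieve X} (f : Y ⟶ X) {U : Scheme.{u}}
    {u : U ⟶ Y.left} (h : LC C R U (u ≫ f.left)) : LC C (R.pullback f) U u := by
  obtain ⟨κ, hκ, V, φ, ψ, hV, hR, hψ, hC⟩ := h
  have hw : ∀ j, (ψ j ≫ u) ≫ Y.hom = (V j).hom := by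
    intro j
    rw [← Over.w f, ← Over.w (φ j), ← hψ j]
    simp only [Category.assoc]
  refine ⟨κ, hκ, V, fun j => Over.homMk (ψ j ≫ u) (hw j), ψ, hV, fun j => ?_, fun j => ?_, hC⟩
  · have : (Over.homMk (ψ j ≫ u) (hw j) : V j ⟶ Y) ≫ f = φ j := by
      apply Over.OverMorphism.ext
      simp [hψ j]
    change R.arrows ((Over.homMk (ψ j ≫ u) (hw j) : V j ⟶ Y) ≫ f)
    rw [this]
    exact hR j
  · rfl

section Comp

variable [C.IsStableUnderComposition] [C.IsStableUnderBaseChange]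
  (hcoprod : ∀ (κ : Type u) [Finite κ] (A B : κ → Scheme.{u}) (f : ∀ j, A j ⟶ B j),
    (∀ j, C (f j)) → C (Limits.Sigma.map f))

include hcoprod in
/-- Composition of covering data. -/
theorem LC.comp {X : Over S} {R : Sieve X} {U : Scheme.{u}} {u : U ⟶ X.left}
    {K : Type u} [Finite K] (W : K → Scheme.{u}) (w : ∀ k, W k ⟶ U)
    (hw : C (Limits.Sigma.desc w)) (h : ∀ k, LC C R (W k) (w k ≫ u)) : LC C R U u := by
  choose κ hκ V φ ψ hV hR hψ hC using h
  refine ⟨Σ k, κ k, inferInstance, fun p => V p.1 p.2, fun p => φ p.1 p.2,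
    fun p => ψ p.1 p.2 ≫ w p.1, fun p => hV p.1 p.2, fun p => hR p.1 p.2, fun p => ?_, ?_⟩
  · rw [Category.assoc, hψ]
  · have h1 : C (Limits.Sigma.map fun k => Limits.Sigma.desc (ψ k)) :=
      hcoprod K _ _ _ hC
    have h2 : (Limits.Sigma.desc fun p : Σ k, κ k => ψ p.1 p.2 ≫ w p.1) =
        (sigmaSigmaIso κ (fun k j => (V k j).left)).inv ≫
          (Limits.Sigma.map fun k => Limits.Sigma.desc (ψ k)) ≫ Limits.Sigma.desc w := by
      apply Sigma.hom_ext
      rintro ⟨k, j⟩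
      simp
    rw [h2, C.cancel_left_of_respectsIso]
    exact C.comp_mem _ _ h1 hw

/-- The covering sieves of the topology. -/
def Cov (C : MorphismProperty Scheme.{u}) (X : Over S) (R : Sieve X) : Prop :=
  ∃ (ι : Type u) (U : ι → X.left.Opens), (∀ i, IsAffineOpen (U i)) ∧ ⨆ i, U i = ⊤ ∧
    ∀ i, LC C R (U i) (U i).ι

variable (haff : ∀ (U : Scheme.{u}) [IsAffine U] (κ : Type u) [Finite κ] (V : κ → U.Opens),
    (∀ j, IsAffineOpen (V j)) → ⨆ j, V j = ⊤ → C (Limits.Sigma.desc fun j => (V j).ι))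

include hcoprod haff in
/-- A covering sieve admits a covering datum over every affine scheme mapping to `X`. -/
theorem LC.of_cov {X : Over S} {R : Sieve X} (h : Cov C X R) (U : Scheme.{u}) [IsAffine U]
    (u : U ⟶ X.left) : LC C R U u := by
  obtain ⟨ι, Ui, hUi, hcov, hloc⟩ := h
  let I := {W : U.Opens // IsAffineOpen W ∧ ∃ i, W ≤ u ⁻¹ᵁ Ui i}
  have hcover : (Set.univ : Set U) ⊆ ⋃ W : I, (W.1 : Set U) := by
    intro x _
    have hx : u x ∈ (⨆ i, Ui i : X.left.Opens) := by rw [hcov]; trivial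
    obtain ⟨i, hi⟩ := TopologicalSpace.Opens.mem_iSup.mp hx
    obtain ⟨W, hW, hxW, hWle⟩ := TopologicalSpace.Opens.isBasis_iff_nbhd.mp U.isBasis_affineOpens
      (show x ∈ u ⁻¹ᵁ Ui i from hi)
    exact Set.mem_iUnion.mpr ⟨⟨W, hW, i, hWle⟩, hxW⟩
  obtain ⟨t, ht⟩ := isCompact_univ.elim_finite_subcover (fun W : I => (W.1 : Set U))
    (fun W => W.1.2) hcover
  refine LC.comp hcoprod (K := t) (fun k => (k.1.1 : U.Opens).toScheme) (fun k => (k.1.1).ι) ?_ ?_
  · apply haff U t (fun k => k.1.1) (fun k => k.1.2.1)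
    rw [eq_top_iff]
    intro x _
    obtain ⟨W, hW⟩ := Set.mem_iUnion.mp (ht (Set.mem_univ x))
    obtain ⟨hWt, hxW⟩ := Set.mem_iUnion.mp hW
    exact TopologicalSpace.Opens.mem_iSup.mpr ⟨⟨W, hWt⟩, hxW⟩
  · intro k
    obtain ⟨i, hi⟩ := k.1.2.2
    have : IsAffine (Ui i).toScheme := hUi i
    have : IsAffine (k.1.1 : U.Opens).toScheme := k.1.2.1
    have hrange : Set.range ((k.1.1 : U.Opens).ι ≫ u) ⊆ Set.range (Ui i).ι := by
      rintro _ ⟨w, rfl⟩
      rw [Scheme.Opens.range_ι]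
      exact hi w.2
    have hg : IsOpenImmersion.lift (Ui i).ι ((k.1.1 : U.Opens).ι ≫ u) hrange ≫ (Ui i).ι =
        (k.1.1 : U.Opens).ι ≫ u := IsOpenImmersion.lift_fac _ _ _
    have := (hloc i).baseChange (IsOpenImmersion.lift (Ui i).ι ((k.1.1 : U.Opens).ι ≫ u) hrange)
    rwa [hg] at this

omit [C.IsStableUnderComposition] [C.IsStableUnderBaseChange] in
include haff in
theorem cov_top (X : Over S) : Cov C X ⊤ := by
  refine ⟨X.left.affineOpens, fun U => U.1, fun U => U.2, iSup_affineOpens_eq_top _, fun U => ?_⟩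
  have : IsAffine (U.1 : X.left.Opens).toScheme := U.2
  refine ⟨PUnit, inferInstance,
    fun _ => Over.mk ((⊤ : (U.1 : X.left.Opens).toScheme.Opens).ι ≫ (U.1 : X.left.Opens).ι ≫ X.hom),
    fun _ => Over.homMk ((⊤ : (U.1 : X.left.Opens).toScheme.Opens).ι ≫ (U.1 : X.left.Opens).ι),
    fun _ => (⊤ : (U.1 : X.left.Opens).toScheme.Opens).ι, ?_, fun _ => trivial, fun _ => rfl, ?_⟩
  · intro _
    exact isAffineOpen_top _
  · exact haff _ PUnit (fun _ => ⊤) (fun _ => isAffineOpen_top _) (by simp)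

include hcoprod haff in
theorem cov_pullback {X Y : Over S} (f : Y ⟶ X) {R : Sieve X} (h : Cov C X R) :
    Cov C Y (R.pullback f) := by
  refine ⟨Y.left.affineOpens, fun U => U.1, fun U => U.2, iSup_affineOpens_eq_top _, fun U => ?_⟩
  have : IsAffine (U.1 : Y.left.Opens).toScheme := U.2
  exact LC.to_pullback f (LC.of_cov hcoprod haff h _ _)

include hcoprod haff in
theorem cov_trans {X : Over S} {R₀ R : Sieve X} (h₀ : Cov C X R₀)
    (h : ∀ ⦃Y⦄ ⦃f : Y ⟶ X⦄, R₀.arrows f → Cov C Y (R.pullback f)) : Cov C X R := by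
  obtain ⟨ι, Ui, hUi, hcov, hloc⟩ := h₀
  refine ⟨ι, Ui, hUi, hcov, fun i => ?_⟩
  obtain ⟨κ, hκ, V, φ, ψ, hV, hR, hψ, hC⟩ := hloc i
  refine LC.comp hcoprod (fun j => (V j).left) ψ hC (fun j => ?_)
  have := hV j
  have h1 := LC.of_cov hcoprod haff (h (hR j)) (V j).left (𝟙 _)
  have h2 := LC.of_pullback (φ j) h1
  rwa [Category.id_comp, ← hψ j] at h2

/-- The Grothendieck topology. -/
def topology : GrothendieckTopology (Over S) where
  sieves X := {R | Cov C X R}
  top_mem' X := cov_top haff X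
  pullback_stable' _ _ _ f h := cov_pullback hcoprod haff f h
  transitive' _ _ h₀ _ h := cov_trans hcoprod haff h₀ h

end Comp

end Groth.Agent.Lib.Seat66.Topo
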