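import Groth.Agent.Lib.Seat66Topo

/-!
# Sheaves for the topology of affine-local finite coverings in a class of morphisms (seat 66)
-/

set_option autoImplicit false
universe v u

namespace Groth.Agent.Lib.Seat66.TopoSheaf

open CategoryTheory CategoryTheory.Limits AlgebraicGeometry Groth.Agent.Lib.Seat66.Topo

variable {S : Scheme.{u}}

/-- A sieve containing the inclusions of the members of an open cover is a Zariski covering. -/
theorem mem_zariski_over_of_opens {X : Over S} (R : Sieve X) {ι : Type u} (U : ι → X.left.Opens)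
    (hU : ⨆ i, U i = ⊤)
    (h : ∀ i, R.arrows (Over.homMk (U i).ι : Over.mk ((U i).ι ≫ X.hom) ⟶ X)) :
    R ∈ Scheme.zariskiTopology.over S X := by
  rw [GrothendieckTopology.mem_over_iff, Scheme.mem_grothendieckTopology_iff]
  refine ⟨X.left.openCoverOfIsOpenCover U hU, ?_⟩
  rintro _ _ ⟨i⟩
  rw [Sieve.overEquiv_iff]
  exact h i

/-- A sieve on a coproduct containing the coprojections is a Zariski covering. -/
theorem mem_zariski_over_of_sigma {κ : Type u} (V : κ → Scheme.{u}) (q : ∐ V ⟶ S)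
    (R : Sieve (Over.mk q))
    (h : ∀ j, R.arrows (Over.homMk (Sigma.ι V j) : Over.mk (Sigma.ι V j ≫ q) ⟶ Over.mk q)) :
    R ∈ Scheme.zariskiTopology.over S (Over.mk q) := by
  rw [GrothendieckTopology.mem_over_iff, Scheme.mem_grothendieckTopology_iff]
  refine ⟨AlgebraicGeometry.sigmaOpenCover V, ?_⟩
  rintro _ _ ⟨j⟩
  rw [Sieve.overEquiv_iff]
  exact h j

section Finest

variable {C : MorphismProperty Scheme.{u}} [C.IsStableUnderBaseChange]
  (F : (Over S)ᵒᵖ ⥤ Type v)
  (hzar : Presieve.IsSheaf (Scheme.zariskiTopology.over S) F)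
  (hC : ∀ (X X' : Over S) (f : X' ⟶ X), C f.left → Presieve.IsSheafFor F (Presieve.singleton f))

include hzar in
omit [C.IsStableUnderBaseChange] in
theorem zariski_le_finest : Scheme.zariskiTopology.over S ≤ Sheaf.finestTopologySingle F := by
  intro X R hR Y f
  exact hzar _ ((Scheme.zariskiTopology.over S).pullback_stable f hR)

include hC in
theorem generate_singleton_mem_finest {X X' : Over S} (f : X' ⟶ X) (hf : C f.left) :
    Sieve.generate (Presieve.singleton f) ∈ Sheaf.finestTopologySingle F X := by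
  intro Y h
  rw [← Sieve.pullbackArrows_comm, Presieve.pullback_singleton, ← Presieve.isSheafFor_iff_generate]
  apply hC
  have hpb : IsPullback (pullback.fst f h).left (pullback.snd f h).left f.left h.left :=
    (IsPullback.of_hasPullback f h).map (Over.forget S)
  exact C.of_isPullback hpb hf

include hzar hC in
theorem mem_finest_of_LC {X : Over S} {R : Sieve X} (U : X.left.Opens) (h : LC C R U U.ι) :
    R.pullback (Over.homMk U.ι : Over.mk (U.ι ≫ X.hom) ⟶ X) ∈
      Sheaf.finestTopologySingle F (Over.mk (U.ι ≫ X.hom)) := by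
  obtain ⟨κ, hκ, V, φ, ψ, hV, hR, hψ, hCψ⟩ := h
  have hw : ∀ j, ψ j ≫ (U.ι ≫ X.hom) = (V j).hom := by
    intro j
    rw [← Over.w (φ j), ← hψ j, Category.assoc]
  let ψ' : ∀ j, V j ⟶ Over.mk (U.ι ≫ X.hom) := fun j => Over.homMk (ψ j) (hw j)
  have hψ' : ∀ j, ψ' j ≫ (Over.homMk U.ι : Over.mk (U.ι ≫ X.hom) ⟶ X) = φ j := by
    intro j
    apply Over.OverMorphism.ext
    simp [ψ', hψ j]
  let Ψ : Over.mk (Limits.Sigma.desc ψ ≫ (U.ι ≫ X.hom)) ⟶ Over.mk (U.ι ≫ X.hom) :=
    Over.homMk (Limits.Sigma.desc ψ)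
  have h1 : Sieve.generate (Presieve.singleton Ψ) ∈
      Sheaf.finestTopologySingle F (Over.mk (U.ι ≫ X.hom)) :=
    generate_singleton_mem_finest F hC Ψ hCψ
  have h2 : (Sieve.generate (Presieve.ofArrows V ψ')).pullback Ψ ∈
      Sheaf.finestTopologySingle F (Over.mk (Limits.Sigma.desc ψ ≫ (U.ι ≫ X.hom))) := by
    apply zariski_le_finest F hzar
    apply mem_zariski_over_of_sigma (fun j => (V j).left) (Limits.Sigma.desc ψ ≫ (U.ι ≫ X.hom))
    intro j
    have hw' : 𝟙 (V j).left ≫ (V j).hom =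
        (Over.mk (Sigma.ι (fun j => (V j).left) j ≫ Limits.Sigma.desc ψ ≫ (U.ι ≫ X.hom))).hom := by
      simp [hw j]
    refine ⟨V j, Over.homMk (𝟙 _) hw', ψ' j, ⟨j⟩, ?_⟩
    apply Over.OverMorphism.ext
    simp [ψ', Ψ]
  have h3 : Sieve.generate (Presieve.ofArrows V ψ') ∈
      Sheaf.finestTopologySingle F (Over.mk (U.ι ≫ X.hom)) := by
    refine (Sheaf.finestTopologySingle F).transitive h1 _ (fun Y f hf => ?_)
    obtain ⟨W, a, b, hb, rfl⟩ := hf
    cases hb
    rw [Sieve.pullback_comp]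
    exact (Sheaf.finestTopologySingle F).pullback_stable a h2
  refine (Sheaf.finestTopologySingle F).superset_covering ?_ h3
  rw [Sieve.generate_le_iff]
  rintro _ _ ⟨j⟩
  change R.arrows (ψ' j ≫ (Over.homMk U.ι : Over.mk (U.ι ≫ X.hom) ⟶ X))
  rw [hψ']
  exact hR j

include hzar hC in
theorem mem_finest_of_cov {X : Over S} {R : Sieve X} (h : Cov C X R) :
    R ∈ Sheaf.finestTopologySingle F X := by
  obtain ⟨ι, U, hU, hcov, hloc⟩ := h
  have hZ : Sieve.generate (Presieve.ofArrows (fun i => Over.mk ((U i).ι ≫ X.hom))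
      (fun i => (Over.homMk (U i).ι : Over.mk ((U i).ι ≫ X.hom) ⟶ X))) ∈
      Sheaf.finestTopologySingle F X :=
    zariski_le_finest F hzar _ (mem_zariski_over_of_opens _ U hcov
      (fun i => Sieve.le_generate _ _ _ (Presieve.ofArrows.mk i)))
  refine (Sheaf.finestTopologySingle F).transitive hZ R (fun Y f hf => ?_)
  obtain ⟨W, a, b, ⟨i⟩, rfl⟩ := hf
  rw [Sieve.pullback_comp]
  exact (Sheaf.finestTopologySingle F).pullback_stable a (mem_finest_of_LC F hzar hC (U i) (hloc i))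

include hzar hC in
/-- A Zariski sheaf satisfying the sheaf condition for single `C`-morphisms satisfies the sheaf
condition for every covering sieve. -/
theorem isSheafFor_of_cov {X : Over S} {R : Sieve X} (h : Cov C X R) :
    Presieve.IsSheafFor F (R : Presieve X) := by
  have := mem_finest_of_cov F hzar hC h X (𝟙 X)
  rwa [Sieve.pullback_id] at this

end Finest

section Converse

variable {C : MorphismProperty Scheme.{u}}

/-- If an open immersion `g` belongs to a sieve, so does every open subscheme of its range. -/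
theorem arrows_top_of_le {X : Over S} (R : Sieve X) (U : X.left.Opens) {T : Scheme.{u}}
    (g : T ⟶ X.left) [IsOpenImmersion g] (hi : U ≤ g.opensRange)
    (hR : R.arrows (Over.homMk g : Over.mk (g ≫ X.hom) ⟶ X)) :
    R.arrows (Over.homMk ((⊤ : U.toScheme.Opens).ι ≫ U.ι) :
      Over.mk ((⊤ : U.toScheme.Opens).ι ≫ U.ι ≫ X.hom) ⟶ X) := by
  have hrange : Set.range ((⊤ : U.toScheme.Opens).ι ≫ U.ι) ⊆ Set.range g := by
    rintro _ ⟨w, rfl⟩
    exact hi (w.1.2)
  have hl : IsOpenImmersion.lift g _ hrange ≫ g = (⊤ : U.toScheme.Opens).ι ≫ U.ι :=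
    IsOpenImmersion.lift_fac _ _ _
  have hw : IsOpenImmersion.lift g _ hrange ≫ (Over.mk (g ≫ X.hom)).hom =
      (Over.mk ((⊤ : U.toScheme.Opens).ι ≫ U.ι ≫ X.hom)).hom := by
    simp [reassoc_of% hl]
  have heq : (Over.homMk ((⊤ : U.toScheme.Opens).ι ≫ U.ι) :
      Over.mk ((⊤ : U.toScheme.Opens).ι ≫ U.ι ≫ X.hom) ⟶ X) =
      (Over.homMk (IsOpenImmersion.lift g _ hrange) hw :
        Over.mk ((⊤ : U.toScheme.Opens).ι ≫ U.ι ≫ X.hom) ⟶ Over.mk (g ≫ X.hom)) ≫
        (Over.homMk g : Over.mk (g ≫ X.hom) ⟶ X) := by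
    apply Over.OverMorphism.ext
    simp [hl]
  rw [heq]
  exact R.downward_closed hR _

/-- Zariski covering sieves are covering. -/
theorem cov_of_mem_zariski
    (haff : ∀ (U : Scheme.{u}) [IsAffine U] (κ : Type u) [Finite κ] (V : κ → U.Opens),
      (∀ j, IsAffineOpen (V j)) → ⨆ j, V j = ⊤ → C (Limits.Sigma.desc fun j => (V j).ι))
    {X : Over S} {R : Sieve X} (h : R ∈ Scheme.zariskiTopology.over S X) : Cov C X R := by
  rw [GrothendieckTopology.mem_over_iff, Scheme.mem_grothendieckTopology_iff] at h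
  obtain ⟨𝒰, h𝒰⟩ := h
  refine ⟨{U : X.left.Opens // IsAffineOpen U ∧ ∃ i, U ≤ (𝒰.f i).opensRange}, fun U => U.1,
    fun U => U.2.1, ?_, fun U => ?_⟩
  · rw [eq_top_iff]
    intro x _
    obtain ⟨i, y, hy⟩ := 𝒰.exists_eq x
    obtain ⟨W, hW, hxW, hWle⟩ := TopologicalSpace.Opens.isBasis_iff_nbhd.mp
      X.left.isBasis_affineOpens (show x ∈ (𝒰.f i).opensRange from ⟨y, hy⟩)
    exact TopologicalSpace.Opens.mem_iSup.mpr ⟨⟨W, hW, i, hWle⟩, hxW⟩
  · obtain ⟨i, hi⟩ := U.2.2
    have : IsAffine (U.1 : X.left.Opens).toScheme := U.2.1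
    refine ⟨PUnit, inferInstance,
      fun _ => Over.mk ((⊤ : (U.1 : X.left.Opens).toScheme.Opens).ι ≫
        (U.1 : X.left.Opens).ι ≫ X.hom),
      fun _ => Over.homMk ((⊤ : (U.1 : X.left.Opens).toScheme.Opens).ι ≫ (U.1 : X.left.Opens).ι),
      fun _ => (⊤ : (U.1 : X.left.Opens).toScheme.Opens).ι, fun _ => isAffineOpen_top _,
      fun _ => ?_, fun _ => rfl,
      haff _ PUnit (fun _ => ⊤) (fun _ => isAffineOpen_top _) (by simp)⟩
    exact arrows_top_of_le R U.1 (𝒰.f i) hi ((Sieve.overEquiv_iff _ _).mp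
      (h𝒰 _ _ (Presieve.ofArrows.mk i)))

/-- The sieve generated by a morphism in `C` is covering. -/
theorem cov_generate_singleton [C.IsStableUnderBaseChange]
    (hqc : ∀ {A B : Scheme.{u}} (f : A ⟶ B), C f → QuasiCompact f)
    (hres : ∀ (W X' : Scheme.{u}) [IsAffine W] (f : X' ⟶ W), C f →
      ∀ (κ : Type u) [Finite κ] (A : κ → X'.Opens), (∀ l, IsAffineOpen (A l)) → ⨆ l, A l = ⊤ →
        C (Limits.Sigma.desc fun l => (A l).ι ≫ f))
    {X X' : Over S} (f : X' ⟶ X) (hf : C f.left) :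
    Cov C X (Sieve.generate (Presieve.singleton f)) := by
  refine ⟨X.left.affineOpens, fun U => U.1, fun U => U.2, iSup_affineOpens_eq_top _, fun U => ?_⟩
  have : IsAffine (U.1 : X.left.Opens).toScheme := U.2
  have hfU : C (f.left ∣_ U.1) :=
    C.of_isPullback (isPullback_morphismRestrict f.left U.1).flip hf
  have : QuasiCompact (f.left ∣_ U.1) := hqc _ hfU
  have : CompactSpace ↥(f.left ⁻¹ᵁ U.1).toScheme :=
    QuasiCompact.compactSpace_of_compactSpace (f.left ∣_ U.1)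
  obtain ⟨t, ht⟩ := TopologicalSpace.IsOpenCover.exists_finite_of_compactSpace
    (u := fun A : (f.left ⁻¹ᵁ U.1).toScheme.affineOpens => A.1)
    (iSup_affineOpens_eq_top (f.left ⁻¹ᵁ U.1).toScheme)
  refine ⟨t, inferInstance,
    fun l => Over.mk ((l.1.1).ι ≫ (f.left ⁻¹ᵁ U.1).ι ≫ X'.hom),
    fun l => (Over.homMk ((l.1.1).ι ≫ (f.left ⁻¹ᵁ U.1).ι) :
      Over.mk ((l.1.1).ι ≫ (f.left ⁻¹ᵁ U.1).ι ≫ X'.hom) ⟶ X') ≫ f,
    fun l => (l.1.1).ι ≫ f.left ∣_ U.1, fun l => l.1.2, fun l => ?_, fun l => ?_, ?_⟩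
  · exact Sieve.downward_closed _ (Sieve.le_generate _ _ _ (Presieve.singleton.mk)) _
  · simp [morphismRestrict_ι]
  · exact hres _ _ (f.left ∣_ U.1) hfU t (fun l => l.1.1) (fun l => l.1.2) ht

end Converse

end Groth.Agent.Lib.Seat66.TopoSheaf
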