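import Mathlib
import Groth.Agent.Lib.Seat45Unram

/-!
# Unramified morphisms and geometric fibres (seat 66)

A morphism locally of finite type is formally unramified iff its geometric fibres are reduced and
discrete.
-/

set_option autoImplicit false
set_option linter.style.haveILetI false
universe u
open CategoryTheory CategoryTheory.Limits AlgebraicGeometry

namespace Groth.Agent.Lib.Seat66.UnramFib

open Groth.Agent.Lib.Seat45.Unram

/-- a reduced Artinian algebra of finite type over an algebraically closed field is unramified -/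
theorem formallyUnramified_of_artinian_reduced (K A : Type u) [Field K] [IsAlgClosed K] [CommRing A]
    [Algebra K A] [Algebra.FiniteType K A] [IsArtinianRing A] [IsReduced A] :
    Algebra.FormallyUnramified K A := by
  have h (I : MaximalSpectrum A) : Algebra.FormallyUnramified K (A ⧸ I.asIdeal) := by
    letI : Field (A ⧸ I.asIdeal) := Ideal.Quotient.field I.asIdeal
    haveI : Module.Finite K (A ⧸ I.asIdeal) := finite_of_finite_type_of_isJacobsonRing K _
    haveI : Algebra.IsSeparable K (A ⧸ I.asIdeal) := inferInstance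
    exact Algebra.FormallyUnramified.of_isSeparable K _
  have h2 : Algebra.FormallyUnramified K (∀ I : MaximalSpectrum A, A ⧸ I.asIdeal) :=
    (Algebra.FormallyUnramified.pi_iff _).mpr h
  exact Algebra.FormallyUnramified.of_equiv ((IsArtinianRing.equivPi A).restrictScalars K).symm

/-- a morphism from an affine scheme to `Spec R` is `Spec.map` of a ring map, up to `toSpecΓ` -/
theorem eq_toSpecΓ_comp {W : Scheme.{u}} {R : CommRingCat.{u}} (g : W ⟶ Spec R) :
    g = W.toSpecΓ ≫ Spec.map ((Scheme.ΓSpecIso R).inv ≫ g.appTop) := by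
  rw [Spec.map_comp, ← Scheme.toSpecΓ_naturality_assoc, toSpecΓ_SpecMap_ΓSpecIso_inv,
    Category.comp_id]

/-- transfer of a ring-hom property along `eq_toSpecΓ_comp` -/
theorem prop_iff_of_isAffine {P : MorphismProperty Scheme.{u}}
    {Q : ∀ {R S : Type u} [CommRing R] [CommRing S], (R →+* S) → Prop}
    [HasRingHomProperty P Q] {W : Scheme.{u}} [IsAffine W] {R : CommRingCat.{u}}
    (g : W ⟶ Spec R) : P g ↔ Q ((Scheme.ΓSpecIso R).inv ≫ g.appTop).hom := by
  conv_lhs => rw [eq_toSpecΓ_comp g]
  haveI : IsIso W.toSpecΓ := inferInstance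
  rw [MorphismProperty.cancel_left_of_respectsIso (P := P), HasRingHomProperty.Spec_iff (P := P)]

/-- a scheme locally of finite type over an algebraically closed field which is reduced and
discrete is unramified over the field -/
theorem formallyUnramified_of_isReduced_of_discrete {K : Type u} [Field K] [IsAlgClosed K]
    {Z : Scheme.{u}} (p : Z ⟶ Spec (CommRingCat.of K)) [LocallyOfFiniteType p] [IsReduced Z]
    [DiscreteTopology Z] : FormallyUnramified p := by
  let 𝒰 := Z.affineCover
  apply IsZariskiLocalAtSource.of_openCover (P := @FormallyUnramified) 𝒰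
  intro i
  haveI : IsLocallyArtinian Z := inferInstance
  haveI : IsLocallyArtinian (𝒰.X i) := inferInstance
  haveI : IsReduced (𝒰.X i) := inferInstance
  haveI : IsAffine (𝒰.X i) := inferInstance
  have hft : LocallyOfFiniteType (𝒰.f i ≫ p) := inferInstance
  rw [prop_iff_of_isAffine (P := @LocallyOfFiniteType)] at hft
  rw [prop_iff_of_isAffine (P := @FormallyUnramified)]
  set φ := (Scheme.ΓSpecIso (CommRingCat.of K)).inv ≫ (𝒰.f i ≫ p).appTop with hφ
  letI : Algebra K Γ(𝒰.X i, ⊤) := φ.hom.toAlgebra
  haveI : Algebra.FiniteType K Γ(𝒰.X i, ⊤) := hft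
  haveI : IsArtinianRing Γ(𝒰.X i, ⊤) := inferInstance
  haveI : _root_.IsReduced Γ(𝒰.X i, ⊤) := inferInstance
  have := formallyUnramified_of_artinian_reduced K Γ(𝒰.X i, ⊤)
  exact this

/-- a scheme locally of finite type and unramified over a field is reduced and discrete -/
theorem isReduced_and_discrete_of_formallyUnramified {K : Type u} [Field K]
    {Z : Scheme.{u}} (p : Z ⟶ Spec (CommRingCat.of K)) [LocallyOfFiniteType p]
    [FormallyUnramified p] : IsReduced Z ∧ DiscreteTopology Z := by
  let 𝒰 := Z.affineCover
  have key : ∀ i, IsReduced (𝒰.X i) ∧ DiscreteTopology (𝒰.X i) := by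
    intro i
    haveI : IsAffine (𝒰.X i) := inferInstance
    have hft : LocallyOfFiniteType (𝒰.f i ≫ p) := inferInstance
    have hun : FormallyUnramified (𝒰.f i ≫ p) :=
      IsZariskiLocalAtSource.comp (P := @FormallyUnramified) inferInstance _
    rw [prop_iff_of_isAffine (P := @LocallyOfFiniteType)] at hft
    rw [prop_iff_of_isAffine (P := @FormallyUnramified)] at hun
    set φ := (Scheme.ΓSpecIso (CommRingCat.of K)).inv ≫ (𝒰.f i ≫ p).appTop with hφ
    letI : Algebra K Γ(𝒰.X i, ⊤) := φ.hom.toAlgebra
    haveI : Algebra.FiniteType K Γ(𝒰.X i, ⊤) := hft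
    haveI : Algebra.FormallyUnramified K Γ(𝒰.X i, ⊤) := hun
    haveI : _root_.IsReduced Γ(𝒰.X i, ⊤) := Algebra.FormallyUnramified.isReduced_of_field K _
    haveI : Module.Finite K Γ(𝒰.X i, ⊤) := Algebra.FormallyUnramified.finite_of_free K _
    haveI : IsArtinianRing Γ(𝒰.X i, ⊤) := isArtinian_of_tower K inferInstance
    haveI : IsReduced (𝒰.X i) := isReduced_of_isAffine_isReduced (𝒰.X i)
    haveI : IsArtinianScheme (Spec Γ(𝒰.X i, ⊤)) := inferInstance
    haveI : DiscreteTopology (Spec Γ(𝒰.X i, ⊤)) := inferInstance
    exact ⟨inferInstance, (𝒰.X i).isoSpec.hom.homeomorph.isEmbedding.discreteTopology⟩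
  refine ⟨?_, ?_⟩
  · haveI := fun i => (key i).1
    exact IsReduced.of_openCover _ 𝒰
  · rw [discreteTopology_iff_isOpen_singleton]
    intro x
    obtain ⟨i, y, rfl⟩ := 𝒰.exists_eq x
    haveI := (key i).2
    have : IsOpen ((𝒰.f i) '' {y}) := (𝒰.f i).isOpenEmbedding.isOpenMap _ (isOpen_discrete _)
    rwa [Set.image_singleton] at this

/-- unramified iff geometric fibres are reduced and discrete -/
theorem formallyUnramified_iff {X S : Scheme.{u}} (f : X ⟶ S) [LocallyOfFiniteType f] :
    FormallyUnramified f ↔
      ∀ (K : Type u) [Field K] [IsAlgClosed K] (s : Spec (CommRingCat.of K) ⟶ S),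
        IsReduced (pullback f s) ∧ DiscreteTopology ↥(pullback f s) := by
  constructor
  · intro hf K _ _ s
    haveI : FormallyUnramified (pullback.snd f s) :=
      MorphismProperty.pullback_snd (P := @FormallyUnramified) f s hf
    exact isReduced_and_discrete_of_formallyUnramified (pullback.snd f s)
  · intro h
    have key : ∀ x : X, UnrSt f x := by
      intro x
      let K := AlgebraicClosure (S.residueField (f x))
      let s : Spec (CommRingCat.of K) ⟶ S :=
        Spec.map (CommRingCat.ofHom (algebraMap (S.residueField (f x)) K)) ≫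
          S.fromSpecResidueField (f x)
      obtain ⟨hred, hdisc⟩ := h K s
      let t : Spec (CommRingCat.of K) := IsLocalRing.closedPoint K
      have ht : s t = f x := by
        change (S.fromSpecResidueField (f x)) _ = f x
        exact Scheme.fromSpecResidueField_apply _ _
      obtain ⟨x', hx'1, hx'2⟩ := Scheme.Pullback.exists_preimage_pullback x t ht.symm
      haveI : FormallyUnramified (pullback.snd f s) :=
        formallyUnramified_of_isReduced_of_discrete _
      have H : UnrSt (pullback.snd f s) x' := FormallyUnramified.stalkMap _ x'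
      have := unrSt_of_isPullback (IsPullback.of_hasPullback f s) x' H
      rwa [hx'1] at this
    choose W hW1 hW2 hW3 using fun x => (nbhd_iff_unrSt f x).mpr (key x)
    refine (IsZariskiLocalAtSource.iff_of_iSup_eq_top (P := @FormallyUnramified) W ?_).2 hW3
    exact top_le_iff.1 fun u _ => TopologicalSpace.Opens.mem_iSup.2 ⟨u, hW1 u⟩

end Groth.Agent.Lib.Seat66.UnramFib
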