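import Mathlib
import Groth.Prelude.Def_MoreMor
import Groth.Agent.Lib.Helper2Weight3
import Groth.Agent.Lib.Seat32FinFlatDeg
import Groth.Agent.Lib.Seat32PullComp
import Groth.Agent.Lib.Seat66FibDeg
import Groth.Agent.Lib.Seat45EtDim

/-!
# The weighting `length · inseparable degree` of a flat locally quasi-finite morphism (seat 66)

`len π x = length(𝒪_x / 𝔪_{π x} 𝒪_x)`, `insd π x = [κ(x):κ(π x)]_i`, `wt = len · insd`.
* `len_square`, `insd_square`, `wt_square`: invariance in commutative squares with étale horizontal maps;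
* `fibreIntegral_wt`: for `π` finite flat of finite presentation, the fibre integral of `wt π` is the rank;
* `isWeighting_wt`, `wt_pos`.
-/

set_option autoImplicit false
set_option linter.style.haveILetI false
universe u

namespace Groth.Agent.Lib.Seat66.WeightLen
open AlgebraicGeometry CategoryTheory CategoryTheory.Limits IsLocalRing
open Groth.Agent.Lib.Helper2.Weight

/-- length of the local ring of the fibre at `x`. -/
noncomputable def len {U V : Scheme.{u}} (π : U ⟶ V) (x : U) : ℕ :=
  (Module.length (U.presheaf.stalk x) (U.presheaf.stalk x ⧸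
    Ideal.map (π.stalkMap x).hom (maximalIdeal (V.presheaf.stalk (π x))))).toNat

/-- inseparable degree of the residue field extension at `x`. -/
noncomputable def insd {U V : Scheme.{u}} (π : U ⟶ V) (x : U) : ℕ :=
  letI := (π.residueFieldMap x).hom.toAlgebra
  Field.finInsepDegree (V.residueField (π x)) (U.residueField x)

/-- the weight `length · [κ(x):κ(π x)]_i`. -/
noncomputable def wt {U V : Scheme.{u}} (π : U ⟶ V) (x : U) : ℤ := (len π x : ℤ) * (insd π x : ℤ)

theorem len_congr {U V : Scheme.{u}} {φ ψ : U ⟶ V} (h : φ = ψ) (x : U) : len φ x = len ψ x := by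
  subst h; rfl

theorem insd_congr {U V : Scheme.{u}} {φ ψ : U ⟶ V} (h : φ = ψ) (x : U) : insd φ x = insd ψ x := by
  subst h; rfl

theorem len_comp {T Y' B : Scheme.{u}} (φ : T ⟶ Y') (γ : Y' ⟶ B) [Flat φ] (x : T) :
    len (φ ≫ γ) x = len γ (φ x) * len φ x := by
  unfold len
  rw [Groth.Agent.Lib.Seat32.PullComp.length_stalk_comp, ENat.toNat_mul]

theorem len_eq_one {U V : Scheme.{u}} (π : U ⟶ V) [LocallyOfFiniteType π] [FormallyUnramified π]
    (x : U) : len π x = 1 := by
  unfold len
  rw [Groth.Agent.Lib.Seat66.FibDeg.length_quot_map_maximalIdeal_eq_one]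
  rfl

theorem insd_comp {T Y' B : Scheme.{u}} (φ : T ⟶ Y') (γ : Y' ⟶ B) [LocallyQuasiFinite γ] (x : T) :
    insd (φ ≫ γ) x = insd γ (φ x) * insd φ x := by
  unfold insd
  letI a1 : Algebra (B.residueField (γ (φ x))) (Y'.residueField (φ x)) :=
    (γ.residueFieldMap (φ x)).hom.toAlgebra
  letI a2 : Algebra (Y'.residueField (φ x)) (T.residueField x) :=
    (φ.residueFieldMap x).hom.toAlgebra
  letI a3 : Algebra (B.residueField (γ (φ x))) (T.residueField x) :=
    ((φ ≫ γ).residueFieldMap x).hom.toAlgebra
  haveI : IsScalarTower (B.residueField (γ (φ x))) (Y'.residueField (φ x)) (T.residueField x) := by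
    refine IsScalarTower.of_algebraMap_eq (fun r => ?_)
    change ((φ ≫ γ).residueFieldMap x).hom r =
      (φ.residueFieldMap x).hom ((γ.residueFieldMap (φ x)).hom r)
    rw [Scheme.residueFieldMap_comp]
    rfl
  haveI : Module.Finite (B.residueField (γ (φ x))) (Y'.residueField (φ x)) := finite_residue γ (φ x)
  exact (Field.finInsepDegree_mul_finInsepDegree_of_isAlgebraic (B.residueField (γ (φ x)))
    (Y'.residueField (φ x)) (T.residueField x)).symm

theorem isSeparable_residueFieldMap {U V : Scheme.{u}} (π : U ⟶ V) [LocallyOfFiniteType π]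
    [FormallyUnramified π] (x : U) :
    letI := (π.residueFieldMap x).hom.toAlgebra
    Algebra.IsSeparable (V.residueField (π x)) (U.residueField x) := by
  algebraize [(π.stalkMap x).hom]
  haveI : IsLocalHom (algebraMap (V.presheaf.stalk (π x)) (U.presheaf.stalk x)) :=
    inferInstanceAs <| IsLocalHom (π.stalkMap x).hom
  haveI : Algebra.EssFiniteType (V.presheaf.stalk (π x)) (U.presheaf.stalk x) := by
    rw [← RingHom.essFiniteType_algebraMap, RingHom.algebraMap_toAlgebra]
    exact LocallyOfFiniteType.stalkMap π x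
  haveI : Algebra.FormallyUnramified (V.presheaf.stalk (π x)) (U.presheaf.stalk x) := by
    rw [← RingHom.formallyUnramified_algebraMap, RingHom.algebraMap_toAlgebra]
    exact FormallyUnramified.stalkMap π x
  have h : Algebra.IsSeparable (IsLocalRing.ResidueField (V.presheaf.stalk (π x)))
      (IsLocalRing.ResidueField (U.presheaf.stalk x)) := inferInstance
  have halg : (π.residueFieldMap x).hom.toAlgebra =
      (inferInstance : Algebra (IsLocalRing.ResidueField (V.presheaf.stalk (π x)))
        (IsLocalRing.ResidueField (U.presheaf.stalk x))) := by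
    refine Algebra.algebra_ext _ _ fun y ↦ ?_
    obtain ⟨y, rfl⟩ := IsLocalRing.residue_surjective y
    rfl
  change @Algebra.IsSeparable (V.residueField (π x)) (U.residueField x) _ _
    (π.residueFieldMap x).hom.toAlgebra
  rw [halg]
  exact h

theorem insd_eq_one {U V : Scheme.{u}} (π : U ⟶ V) [LocallyOfFiniteType π] [FormallyUnramified π]
    (x : U) : insd π x = 1 := by
  unfold insd
  letI := (π.residueFieldMap x).hom.toAlgebra
  haveI := isSeparable_residueFieldMap π x
  exact Algebra.IsSeparable.finInsepDegree_eq _ _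

/-- invariance of `len` in a commutative square with étale horizontal maps. -/
theorem len_square {U U' V V' : Scheme.{u}} (π : U ⟶ V) (π' : U' ⟶ V') (a : U' ⟶ U) (b : V' ⟶ V)
    [Etale a] [Etale b] [Flat π'] (comm : π' ≫ b = a ≫ π) (u' : U') :
    len π (a u') = len π' u' := by
  have h1 := len_comp a π u'
  have h2 := len_comp π' b u'
  rw [len_eq_one a u', mul_one] at h1
  rw [len_eq_one b (π' u'), one_mul] at h2
  rw [← h1, ← h2]
  exact (len_congr comm u').symm

/-- invariance of `insd` in a commutative square with étale horizontal maps. -/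
theorem insd_square {U U' V V' : Scheme.{u}} (π : U ⟶ V) (π' : U' ⟶ V') (a : U' ⟶ U) (b : V' ⟶ V)
    [Etale a] [Etale b] [LocallyQuasiFinite π] (comm : π' ≫ b = a ≫ π) (u' : U') :
    insd π (a u') = insd π' u' := by
  haveI : LocallyQuasiFinite b := Groth.Agent.Lib.Seat45.EtDim.locallyQuasiFinite_of_etale b
  have h1 := insd_comp a π u'
  have h2 := insd_comp π' b u'
  rw [insd_eq_one a u', mul_one] at h1
  rw [insd_eq_one b (π' u'), one_mul] at h2
  rw [← h1, ← h2]
  exact (insd_congr comm u').symm

theorem wt_square {U U' V V' : Scheme.{u}} (π : U ⟶ V) (π' : U' ⟶ V') (a : U' ⟶ U) (b : V' ⟶ V)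
    [Etale a] [Etale b] [Flat π'] [LocallyQuasiFinite π] (comm : π' ≫ b = a ≫ π) (u' : U') :
    wt π (a u') = wt π' u' := by
  unfold wt
  rw [len_square π π' a b comm u', insd_square π π' a b comm u']



set_option backward.inferInstanceAs.wrap.data false in
/-- ring form: for a quasi-finite local homomorphism `R → B`, `B ⧸ 𝔪_R B` has finite positive length. -/
theorem length_quot_pos_ne_top {R B : Type*} [CommRing R] [CommRing B] [IsLocalRing R] [IsLocalRing B]
    [Algebra R B] [IsLocalHom (algebraMap R B)] [Algebra.QuasiFinite R B] :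
    0 < (Module.length B (B ⧸ Ideal.map (algebraMap R B) (maximalIdeal R))).toNat := by
  let mR := (maximalIdeal R).map (algebraMap R B)
  have hmR : mR ≤ maximalIdeal B := ((local_hom_TFAE (algebraMap R B)).out 0 2 rfl rfl).mp ‹_›
  letI : Algebra (ResidueField R) (B ⧸ mR) := (inferInstanceAs <| Algebra (R ⧸ _) _)
  haveI : IsScalarTower R (ResidueField R) (B ⧸ mR) :=
    (inferInstanceAs <| IsScalarTower R (R ⧸ _) _)
  haveI : Algebra.QuasiFinite (ResidueField R) (B ⧸ mR) := .of_restrictScalars R _ _
  haveI : Module.Finite (ResidueField R) (B ⧸ mR) := .of_quasiFinite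
  haveI : IsArtinianRing (B ⧸ mR) := isArtinian_of_tower (ResidueField R) inferInstance
  haveI : Nontrivial (B ⧸ mR) :=
    Ideal.Quotient.nontrivial_iff.mpr <| ne_top_of_le_ne_top (maximalIdeal.isMaximal B).ne_top hmR
  have h1 : Module.length B (B ⧸ mR) = Module.length (B ⧸ mR) (B ⧸ mR) :=
    Module.length_eq_of_surjective Ideal.Quotient.mk_surjective
  have h2 : Module.length (B ⧸ mR) (B ⧸ mR) ≠ ⊤ := Module.length_ne_top
  have h3 : 0 < Module.length (B ⧸ mR) (B ⧸ mR) := Module.length_pos
  change 0 < (Module.length B (B ⧸ mR)).toNat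
  rw [h1]
  obtain ⟨n, hn⟩ := ENat.ne_top_iff_exists.mp h2
  rw [← hn] at h3 ⊢
  rw [ENat.toNat_natCast]
  exact_mod_cast h3

theorem len_pos {X Y : Scheme.{u}} (f : X ⟶ Y) (x : X) (hx : f.QuasiFiniteAt x) : 0 < len f x := by
  unfold len
  algebraize [(f.stalkMap x).hom]
  haveI : IsLocalHom (algebraMap (Y.presheaf.stalk (f x)) (X.presheaf.stalk x)) :=
    inferInstanceAs <| IsLocalHom (f.stalkMap x).hom
  haveI hq : Algebra.QuasiFinite (Y.presheaf.stalk (f x)) (X.presheaf.stalk x) := by
    rw [← RingHom.quasiFinite_algebraMap, RingHom.algebraMap_toAlgebra]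
    exact hx
  exact length_quot_pos_ne_top (R := Y.presheaf.stalk (f x)) (B := X.presheaf.stalk x)

theorem insd_pos {X Y : Scheme.{u}} (f : X ⟶ Y) [LocallyQuasiFinite f] (x : X) : 0 < insd f x := by
  unfold insd
  letI := (f.residueFieldMap x).hom.toAlgebra
  haveI : Module.Finite (Y.residueField (f x)) (X.residueField x) := finite_residue f x
  have h := Field.finSepDegree_mul_finInsepDegree (Y.residueField (f x)) (X.residueField x)
  have hpos : 0 < Module.finrank (Y.residueField (f x)) (X.residueField x) := Module.finrank_pos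
  rw [← h] at hpos
  exact Nat.pos_of_ne_zero (fun h0 => by rw [h0, mul_zero] at hpos; exact lt_irrefl _ hpos)

theorem wt_pos {X Y : Scheme.{u}} (f : X ⟶ Y) [LocallyQuasiFinite f] (x : X) : 0 < wt f x := by
  unfold wt
  have h1 := len_pos f x (f.quasiFiniteAt x)
  have h2 := insd_pos f x
  positivity

/-- finite flat of constant rank `d`: the fibre integral of `wt` is `d`. -/
theorem fibreIntegral_wt_of_const {U V : Scheme.{u}} (π : U ⟶ V) [IsFinite π] [Flat π] (d : ℕ)
    (hd : ∀ y : V, π.finrank y = d) (v : V) : MoreMor.fibreIntegral π (wt π) v = (d : ℤ) := by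
  obtain ⟨_, ⟨V₀, hV₀, rfl⟩, hvV₀, -⟩ :=
    V.isBasis_affineOpens.exists_subset_of_mem_open (Set.mem_univ v) isOpen_univ
  have key := Groth.Agent.Lib.Seat32.FinFlatDeg.finsum_fibre π hV₀ d hd v hvV₀
  have hfin : (π ⁻¹' {v}).Finite := Scheme.Hom.finite_preimage_singleton π v
  rw [fibreIntegral_eq]
  have hterm : ∀ x : U, wt π x * (sd π x : ℤ) = ((len π x * π.residueDegree x : ℕ) : ℤ) := by
    intro x
    unfold wt sd insd Scheme.Hom.residueDegree
    letI := (π.residueFieldMap x).hom.toAlgebra
    have h := Field.finSepDegree_mul_finInsepDegree (V.residueField (π x)) (U.residueField x)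
    rw [← h]
    push_cast
    ring
  simp_rw [hterm]
  rw [← key, Nat.cast_finsum_mem hfin]
  exact finsum_set_coe_eq_finsum_mem (s := π ⁻¹' {v})
    (f := fun x : U => ((len π x * π.residueDegree x : ℕ) : ℤ))

/-- **The fibre integral of `length · [κ:κ]_i` along a finite locally free morphism is its rank.** -/
theorem fibreIntegral_wt {U V : Scheme.{u}} (π : U ⟶ V) [IsFinite π] [Flat π]
    [LocallyOfFinitePresentation π] (v : V) :
    MoreMor.fibreIntegral π (wt π) v = (π.finrank v : ℤ) := by
  have hlc := Scheme.Hom.isLocallyConstant_finrank π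
  let W : V.Opens := ⟨{v' | π.finrank v' = π.finrank v}, hlc.isOpen_fiber (π.finrank v)⟩
  have hvW : v ∈ W := rfl
  have hc : IsPullback (π ⁻¹ᵁ W).ι (π ∣_ W) π W.ι := (isPullback_morphismRestrict π W).flip
  have hfin : (π ⁻¹' {W.ι ⟨v, hvW⟩}).Finite := Scheme.Hom.finite_preimage_singleton π _
  have h1 := (fibreIntegral_baseChange' π (π ∣_ W) (π ⁻¹ᵁ W).ι W.ι hc (wt π) ⟨v, hvW⟩ hfin).1
  have h2 : wt π ∘ (π ⁻¹ᵁ W).ι = wt (π ∣_ W) := by
    funext x
    exact wt_square π (π ∣_ W) (π ⁻¹ᵁ W).ι W.ι (morphismRestrict_ι π W) x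
  rw [h2] at h1
  have h3 : W.ι ⟨v, hvW⟩ = v := rfl
  rw [h3] at h1
  rw [← h1]
  apply fibreIntegral_wt_of_const
  intro y
  rw [Scheme.Hom.finrank_of_isPullback _ _ _ _ hc y]
  exact y.2

/-- **`length · [κ:κ]_i` is a weighting of a flat, locally quasi-finite morphism of finite presentation.** -/
theorem isWeighting_wt {X Y : Scheme.{u}} (f : X ⟶ Y) [LocallyQuasiFinite f] [Flat f]
    [LocallyOfFinitePresentation f] : MoreMor.IsWeighting f (wt f) := by
  intro V g _ U hfin
  haveI := hfin
  have hw : (fun u => wt f (pullback.fst f g (U.ι u))) = wt (U.ι ≫ pullback.snd f g) := by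
    funext u
    exact wt_square f (U.ι ≫ pullback.snd f g) (U.ι ≫ pullback.fst f g) g
      (by rw [Category.assoc, Category.assoc, pullback.condition]) u
  rw [hw]
  have hfi : MoreMor.fibreIntegral (U.ι ≫ pullback.snd f g) (wt (U.ι ≫ pullback.snd f g)) =
      fun v => ((U.ι ≫ pullback.snd f g).finrank v : ℤ) :=
    funext (fibreIntegral_wt (U.ι ≫ pullback.snd f g))
  rw [hfi]
  exact (Scheme.Hom.isLocallyConstant_finrank (U.ι ≫ pullback.snd f g)).comp _

end Groth.Agent.Lib.Seat66.WeightLen
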