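import Mathlib

/-!
# The irrelevant ideal of a `ℤ`-graded algebra concentrated in degrees `≥ 0` (seat 91)

For a `ℤ`-graded `k`-algebra `R` with `R_n = 0` for `n < 0` and `R_0 = k·1` (`k` a field):
* `irr 𝒜` — the ideal generated by the elements of positive degree; it is maximal
  (`irr_isMaximal`) and contains every proper homogeneous ideal (`le_irr_of_isHomogeneous`);
* minimal primes over a homogeneous ideal are homogeneous (`isHomogeneous_of_mem_minimalPrimes`);
* annihilators of homogeneous elements / of graded modules are homogeneous.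

Namespace `Groth.Agent.Lib.Seat91.GrIrr`.
-/

set_option autoImplicit false
set_option linter.unusedSectionVars false

open DirectSum

namespace Groth.Agent.Lib.Seat91.GrIrr

section minimal

variable {ι A σ : Type*} [CommRing A] [AddCommMonoid ι] [LinearOrder ι] [IsOrderedCancelAddMonoid ι]
  [SetLike σ A] [AddSubmonoidClass σ A] (𝒜 : ι → σ) [GradedRing 𝒜]

/-- Minimal primes over a homogeneous ideal are homogeneous. -/
theorem isHomogeneous_of_mem_minimalPrimes {J P : Ideal A} (hJ : J.IsHomogeneous 𝒜)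
    (hP : P ∈ J.minimalPrimes) : P.IsHomogeneous 𝒜 := by
  have hprime : P.IsPrime := hP.1.1
  have h1 : ((P.homogeneousCore 𝒜).toIdeal).IsPrime := Ideal.IsPrime.homogeneousCore hprime
  have h2 : J ≤ (P.homogeneousCore 𝒜).toIdeal := by
    rw [← hJ.toIdeal_homogeneousCore_eq_self]
    exact Ideal.homogeneousCore_mono _ hP.1.2
  have h3 := Ideal.toIdeal_homogeneousCore_le 𝒜 P
  have h4 : P ≤ (P.homogeneousCore 𝒜).toIdeal := hP.2 ⟨h1, h2⟩ h3
  have h5 : (P.homogeneousCore 𝒜).toIdeal = P := le_antisymm h3 h4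
  rw [← h5]
  exact (P.homogeneousCore 𝒜).isHomogeneous

end minimal

section irr

variable {k R : Type*} [Field k] [CommRing R] [Algebra k R]
  (𝒜 : ℤ → Submodule k R) [GradedAlgebra 𝒜]

/-- the irrelevant ideal: generated by the elements of positive degree -/
def irr : Ideal R := Ideal.span (⋃ n ∈ Set.Ioi (0 : ℤ), (𝒜 n : Set R))

theorem mem_irr_of_mem {n : ℤ} (hn : 0 < n) {a : R} (ha : a ∈ 𝒜 n) : a ∈ irr 𝒜 :=
  Ideal.subset_span (Set.mem_biUnion (Set.mem_Ioi.2 hn) ha)

theorem irr_isHomogeneous : (irr 𝒜).IsHomogeneous 𝒜 := by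
  apply Ideal.homogeneous_span
  intro a ha
  simp only [Set.mem_iUnion] at ha
  obtain ⟨n, _, ha⟩ := ha
  exact ⟨n, ha⟩

variable (hpos : ∀ n : ℤ, n < 0 → 𝒜 n = ⊥)

include hpos in
theorem decompose_zero_mul_of_decompose_zero {a : R} (ha : (decompose 𝒜 a 0 : R) = 0) (c : R) :
    (decompose 𝒜 (c * a) 0 : R) = 0 := by
  classical
  induction c using DirectSum.Decomposition.inductionOn 𝒜 with
  | zero => simp
  | @homogeneous i c =>
    have h1 : (decompose 𝒜 ((c : R) * a) (i + (-i)) : R) = (c : R) * (decompose 𝒜 a (-i) : R) :=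
      DirectSum.coe_decompose_mul_add_of_left_mem 𝒜 c.2
    rw [add_neg_cancel] at h1
    rw [h1]
    rcases lt_trichotomy i 0 with hi | hi | hi
    · have : (c : R) ∈ (⊥ : Submodule k R) := by rw [← hpos i hi]; exact c.2
      rw [(Submodule.mem_bot k).1 this, zero_mul]
    · subst hi
      rw [neg_zero, ha, mul_zero]
    · have : (decompose 𝒜 a (-i) : R) ∈ (⊥ : Submodule k R) := by
        rw [← hpos (-i) (by omega)]; exact SetLike.coe_mem _
      rw [(Submodule.mem_bot k).1 this, mul_zero]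
  | add c c' hc hc' =>
    rw [add_mul, decompose_add, DirectSum.add_apply, Submodule.coe_add, hc, hc', add_zero]

include hpos in
theorem decompose_zero_of_mem_irr {a : R} (ha : a ∈ irr 𝒜) : (decompose 𝒜 a 0 : R) = 0 := by
  classical
  unfold irr at ha
  induction ha using Submodule.span_induction with
  | mem x hx =>
    simp only [Set.mem_iUnion] at hx
    obtain ⟨n, hn, hx⟩ := hx
    rw [DirectSum.decompose_of_mem_ne 𝒜 hx (ne_of_gt (Set.mem_Ioi.1 hn))]
  | zero => simp
  | add x y _ _ hx hy =>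
    rw [decompose_add, DirectSum.add_apply, Submodule.coe_add, hx, hy, add_zero]
  | smul c x _ hx =>
    rw [smul_eq_mul]
    exact decompose_zero_mul_of_decompose_zero 𝒜 hpos hx c

include hpos in
theorem one_notMem_irr [Nontrivial R] : (1 : R) ∉ irr 𝒜 := by
  intro h
  have := decompose_zero_of_mem_irr 𝒜 hpos h
  rw [DirectSum.decompose_of_mem_same 𝒜 (SetLike.GradedOne.one_mem)] at this
  exact one_ne_zero this

include hpos in
theorem sub_decompose_zero_mem_irr (a : R) : a - (decompose 𝒜 a 0 : R) ∈ irr 𝒜 := by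
  classical
  have h : ∀ n : ℤ, n ≠ 0 → (decompose 𝒜 a n : R) ∈ irr 𝒜 := by
    intro n hn
    rcases lt_or_gt_of_ne hn with h | h
    · have : (decompose 𝒜 a n : R) ∈ (⊥ : Submodule k R) := by
        rw [← hpos n h]; exact SetLike.coe_mem _
      rw [(Submodule.mem_bot k).1 this]
      exact Ideal.zero_mem _
    · exact mem_irr_of_mem 𝒜 h (SetLike.coe_mem _)
  nth_rewrite 1 [← DirectSum.sum_support_decompose 𝒜 a]
  by_cases h0 : (0 : ℤ) ∈ (decompose 𝒜 a).support
  · rw [← Finset.add_sum_erase _ _ h0, add_sub_cancel_left]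
    exact Ideal.sum_mem _ fun n hn => h n (Finset.mem_erase.1 hn).1
  · have : ((decompose 𝒜 a 0 : 𝒜 0) : R) = 0 := by
      rw [DFinsupp.notMem_support_iff.1 h0]; rfl
    rw [this, sub_zero]
    exact Ideal.sum_mem _ fun n hn => h n (fun hn0 => h0 (hn0 ▸ hn))

variable (h0 : 𝒜 0 = Submodule.span k {(1 : R)})

include h0 in
theorem exists_decompose_zero_eq (a : R) : ∃ c : k, (decompose 𝒜 a 0 : R) = algebraMap k R c := by
  have h2 : ((decompose 𝒜 a 0 : 𝒜 0) : R) ∈ Submodule.span k {(1 : R)} := by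
    rw [← h0]; exact SetLike.coe_mem _
  obtain ⟨c, hc⟩ := Submodule.mem_span_singleton.1 h2
  exact ⟨c, by rw [← hc, Algebra.smul_def, mul_one]⟩

include hpos h0 in
theorem irr_isMaximal [Nontrivial R] : (irr 𝒜).IsMaximal := by
  rw [Ideal.isMaximal_iff]
  refine ⟨one_notMem_irr 𝒜 hpos, ?_⟩
  intro J x hJ hx hxJ
  have hmem := sub_decompose_zero_mem_irr 𝒜 hpos x
  have h1 : (decompose 𝒜 x 0 : R) ∈ J := by
    have := J.sub_mem hxJ (hJ hmem)
    rwa [sub_sub_cancel] at this
  obtain ⟨c, hc⟩ := exists_decompose_zero_eq 𝒜 h0 x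
  have hc0 : c ≠ 0 := by
    rintro rfl
    rw [map_zero] at hc
    apply hx
    have := hmem
    rwa [hc, sub_zero] at this
  have : (1 : R) = algebraMap k R c⁻¹ * (decompose 𝒜 x 0 : R) := by
    rw [hc, ← map_mul, inv_mul_cancel₀ hc0, map_one]
  rw [this]
  exact Ideal.mul_mem_left _ _ h1

include hpos h0 in
/-- a proper homogeneous ideal lies in the irrelevant ideal -/
theorem le_irr_of_isHomogeneous {J : Ideal R} (hJ : J.IsHomogeneous 𝒜) (hne : J ≠ ⊤) :
    J ≤ irr 𝒜 := by
  intro a ha
  have h1 : (decompose 𝒜 a 0 : R) ∈ J := hJ 0 ha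
  obtain ⟨c, hc⟩ := exists_decompose_zero_eq 𝒜 h0 a
  have hc0 : c = 0 := by
    by_contra hc0
    apply hne
    rw [Ideal.eq_top_iff_one]
    have : (1 : R) = algebraMap k R c⁻¹ * (decompose 𝒜 a 0 : R) := by
      rw [hc, ← map_mul, inv_mul_cancel₀ hc0, map_one]
    rw [this]
    exact Ideal.mul_mem_left _ _ h1
  have := sub_decompose_zero_mem_irr 𝒜 hpos a
  rwa [hc, hc0, map_zero, sub_zero] at this

end irr

section ann

variable {k R M : Type*} [CommRing k] [CommRing R] [Algebra k R]
  (𝒜 : ℤ → Submodule k R) [GradedAlgebra 𝒜]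
  [AddCommGroup M] [Module R M] (ℳ : ℤ → AddSubgroup M) [DirectSum.Decomposition ℳ]
  [SetLike.GradedSMul 𝒜 ℳ]

theorem smul_mem_add {i j : ℤ} {a : R} (ha : a ∈ 𝒜 i) {m : M} (hm : m ∈ ℳ j) :
    a • m ∈ ℳ (i + j) := by
  have := SetLike.GradedSMul.smul_mem ha hm
  rwa [vadd_eq_add] at this

/-- for homogeneous `x`, the components of `a • x` are the `a_i • x` -/
theorem decompose_smul_of_mem {n : ℤ} {x : M} (hx : x ∈ ℳ n) (a : R) (i : ℤ) :
    ((decompose ℳ (a • x) (i + n) : ℳ (i + n)) : M) = (decompose 𝒜 a i : R) • x := by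
  classical
  induction a using DirectSum.Decomposition.inductionOn 𝒜 with
  | zero => simp
  | @homogeneous j c =>
    by_cases hji : j = i
    · subst hji
      rw [DirectSum.decompose_of_mem_same ℳ (smul_mem_add 𝒜 ℳ c.2 hx),
        DirectSum.decompose_of_mem_same 𝒜 c.2]
    · have hne : j + n ≠ i + n := fun h => hji (add_right_cancel h)
      rw [DirectSum.decompose_of_mem_ne ℳ (smul_mem_add 𝒜 ℳ c.2 hx) hne,
        DirectSum.decompose_of_mem_ne 𝒜 c.2 hji, zero_smul]
  | add c c' hc hc' =>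
    rw [add_smul, decompose_add, DirectSum.add_apply, AddSubgroup.coe_add, hc, hc', decompose_add,
      DirectSum.add_apply, Submodule.coe_add, add_smul]

/-- the annihilator of a homogeneous element is a homogeneous ideal -/
theorem isHomogeneous_annihilator_span_singleton {n : ℤ} {x : M} (hx : x ∈ ℳ n) :
    ((Submodule.span R {x}).annihilator).IsHomogeneous 𝒜 := by
  intro i a ha
  rw [Submodule.mem_annihilator_span_singleton] at ha ⊢
  rw [← decompose_smul_of_mem 𝒜 ℳ hx a i, ha]
  simp

include ℳ in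
/-- the annihilator of a graded module is a homogeneous ideal -/
theorem isHomogeneous_annihilator : (Module.annihilator R M).IsHomogeneous 𝒜 := by
  classical
  intro i a ha
  rw [Module.mem_annihilator] at ha ⊢
  intro m
  rw [← DirectSum.sum_support_decompose ℳ m, Finset.smul_sum]
  refine Finset.sum_eq_zero fun j _ => ?_
  have h1 : a ∈ (Submodule.span R {((decompose ℳ m j : ℳ j) : M)}).annihilator := by
    rw [Submodule.mem_annihilator_span_singleton]
    exact ha _
  have h2 := isHomogeneous_annihilator_span_singleton 𝒜 ℳ (SetLike.coe_mem (decompose ℳ m j)) i h1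
  rwa [Submodule.mem_annihilator_span_singleton] at h2

end ann

end Groth.Agent.Lib.Seat91.GrIrr
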