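import Groth.Agent.Lib.Helper28DepthCM
import Groth.Agent.Lib.Seat91GrIrr

/-!
# The Hilbert function of a standard graded Cohen–Macaulay ring is nondecreasing (seat 91)

`R` a Noetherian `ℤ`-graded algebra over a field `k`, `R_n = 0` for `n < 0`, `R_0 = k`, generated in
degree one, Cohen–Macaulay of dimension `≥ 1`.  Then `dim_k R_n ≤ dim_k R_{n+1}` for all `n`
(`finrank_le_succ`), for ANY field `k` (no infinite-field hypothesis): depth `≥ 1` at the irrelevant
ideal gives "no socle" (`eq_zero_of_irr_mul_eq_zero`); by McCoy's theorem the generic linear form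
`∑ x_i X^i ∈ R[X]` is a nonzerodivisor, and multiplication by it injects
`(R_n)^d` into `(R_{n+1})^{d+m}` for all `d`.

Namespace `Groth.Agent.Lib.Seat91.HilbMono`.
-/

set_option autoImplicit false
set_option linter.unusedSectionVars false
set_option linter.style.haveILetI false
universe u

open DirectSum Polynomial Groth.Agent.Lib.Seat91.GrIrr

namespace Groth.Agent.Lib.Seat91.HilbMono

section pieces

variable {k R : Type*} [Field k] [CommRing R] [Algebra k R]
  (𝒜 : ℤ → Submodule k R) [GradedAlgebra 𝒜]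

/-- the pieces of a Noetherian graded algebra with `R_0 = k` are finite-dimensional -/
theorem finite_piece [IsNoetherianRing R] (h0 : 𝒜 0 = Submodule.span k {(1 : R)}) (n : ℤ) :
    Module.Finite k (𝒜 n) := by
  classical
  have hfg : (Ideal.span (𝒜 n : Set R)).FG := IsNoetherian.noetherian _
  obtain ⟨t, htn, hspan⟩ := (Submodule.fg_span_iff_fg_span_finset_subset (𝒜 n : Set R)).1 hfg
  have key : (𝒜 n) ≤ Submodule.span k (t : Set R) := by
    intro b hb
    have hb' : b ∈ Submodule.span R (t : Set R) := by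
      rw [← hspan]; exact Submodule.subset_span hb
    obtain ⟨f, -, hf⟩ := Submodule.mem_span_finset.1 hb'
    have h1 : b = ∑ a ∈ t, ((decompose 𝒜 (f a) 0 : 𝒜 0) : R) * a := by
      have hbn : ((decompose 𝒜 b n : 𝒜 n) : R) = b := decompose_of_mem_same 𝒜 hb
      rw [← hbn, ← hf, decompose_sum, DFinsupp.finsetSum_apply, AddSubmonoidClass.coe_finsetSum]
      refine Finset.sum_congr rfl fun a ha => ?_
      have ha' : a ∈ 𝒜 n := htn ha
      have := DirectSum.coe_decompose_mul_add_of_right_mem 𝒜 (a := f a) (i := 0) ha'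
      rwa [zero_add] at this
    rw [h1]
    refine Submodule.sum_mem _ fun a ha => ?_
    obtain ⟨c, hc⟩ := exists_decompose_zero_eq 𝒜 h0 (f a)
    rw [hc, ← Algebra.smul_def]
    exact Submodule.smul_mem _ _ (Submodule.subset_span ha)
  have heq : (𝒜 n) = Submodule.span k (t : Set R) :=
    le_antisymm key (Submodule.span_le.2 htn)
  rw [heq]
  exact Module.Finite.span_of_finite k t.finite_toSet

end pieces

section coeff

variable {R : Type*} [CommRing R]

theorem coeff_sum_monomial (N : ℕ) (g : Fin N → R) (a : ℕ) :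
    (∑ i : Fin N, monomial (i : ℕ) (g i)).coeff a = if h : a < N then g ⟨a, h⟩ else 0 := by
  classical
  rw [Polynomial.finsetSum_coeff]
  simp only [coeff_monomial]
  split_ifs with h
  · rw [Finset.sum_eq_single (⟨a, h⟩ : Fin N)]
    · simp
    · intro i _ hi
      rw [if_neg]
      intro hia
      exact hi (Fin.ext hia)
    · intro hh
      exact absurd (Finset.mem_univ _) hh
  · refine Finset.sum_eq_zero fun i _ => ?_
    rw [if_neg]
    intro hia
    exact h (hia ▸ i.2)

end coeff

section main

variable {k R : Type u} [Field k] [CommRing R] [Algebra k R]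
  (𝒜 : ℤ → Submodule k R) [GradedAlgebra 𝒜]
  (hpos : ∀ n : ℤ, n < 0 → 𝒜 n = ⊥) (h0 : 𝒜 0 = Submodule.span k {(1 : R)})

include hpos h0 in
/-- in dimension `≥ 1` the irrelevant ideal is not a minimal prime -/
theorem irr_notMem_minimalPrimes [Nontrivial R] (h1 : 1 ≤ ringKrullDim R) :
    irr 𝒜 ∉ minimalPrimes R := by
  intro hmin
  have hmax : (irr 𝒜).IsMaximal := irr_isMaximal 𝒜 hpos h0
  have hnot : ¬ Ring.KrullDimLE 0 R := by
    rw [Ring.krullDimLE_iff]
    intro h
    have := h1.trans h
    exact absurd this (by decide)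
  rw [Ring.krullDimLE_zero_iff] at hnot
  push Not at hnot
  obtain ⟨p, hp, hpmax⟩ := hnot
  obtain ⟨q, hq, hqp⟩ := Ideal.exists_minimalPrimes_le (bot_le : (⊥ : Ideal R) ≤ p)
  have hqprime : q.IsPrime := hq.1.1
  have hqhom : q.IsHomogeneous 𝒜 :=
    isHomogeneous_of_mem_minimalPrimes 𝒜 (Ideal.IsHomogeneous.bot 𝒜) hq
  have hqirr : q ≤ irr 𝒜 := le_irr_of_isHomogeneous 𝒜 hpos h0 hqhom hqprime.ne_top
  have hirrq : irr 𝒜 ≤ q := hmin.2 ⟨hqprime, bot_le⟩ hqirr
  have hirrp : irr 𝒜 ≤ p := hirrq.trans hqp
  have : irr 𝒜 = p := hmax.eq_of_le hp.ne_top hirrp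
  exact hpmax (this ▸ hmax)

include hpos h0 in
/-- **no socle**: in a graded Cohen–Macaulay ring of dimension `≥ 1`, an element killed by the
irrelevant ideal is zero -/
theorem eq_zero_of_irr_mul_eq_zero [Nontrivial R] [hCM : LocCoh.IsCohenMacaulayRing R]
    (h1 : 1 ≤ ringKrullDim R) {r : R} (hr : ∀ a ∈ irr 𝒜, a * r = 0) : r = 0 := by
  have hmax : (irr 𝒜).IsMaximal := irr_isMaximal 𝒜 hpos h0
  haveI hprime : (irr 𝒜).IsPrime := hmax.isPrime
  have hA : LocCoh.IsCohenMacaulayLocalRing (Localization.AtPrime (irr 𝒜)) :=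
    hCM.isCohenMacaulayLocalRing_localization (irr 𝒜)
  have hdim : Module.supportDim (Localization.AtPrime (irr 𝒜)) (Localization.AtPrime (irr 𝒜)) =
      (((irr 𝒜).height : ℕ∞) : WithBot ℕ∞) := by
    rw [Module.supportDim_self_eq_ringKrullDim,
      IsLocalization.AtPrime.ringKrullDim_eq_height (irr 𝒜) (Localization.AtPrime (irr 𝒜))]
  have hht : 1 ≤ (irr 𝒜).height := by
    rw [Order.one_le_iff_pos, pos_iff_ne_zero, Ne, Ideal.height_eq_zero_iff]
    exact irr_notMem_minimalPrimes 𝒜 hpos h0 h1
  have hdepth : 1 ≤ LocCoh.depth (Localization.AtPrime (irr 𝒜)) (Localization.AtPrime (irr 𝒜)) := by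
    have h2 := hA.supportDim_eq_depth
    rw [hdim] at h2
    have h3 : (irr 𝒜).height =
        LocCoh.depth (Localization.AtPrime (irr 𝒜)) (Localization.AtPrime (irr 𝒜)) :=
      WithBot.coe_injective h2
    rw [← h3]
    exact hht
  obtain ⟨u, hu, hreg⟩ := (Groth.Agent.Lib.Helper28.one_le_idealDepth_iff
    (Groth.Agent.Lib.Helper28.maximalIdeal_smul_top_ne_top)).mp hdepth
  obtain ⟨a, s, rfl⟩ := IsLocalization.exists_mk'_eq (irr 𝒜).primeCompl u
  have ha : a ∈ irr 𝒜 :=
    (IsLocalization.AtPrime.mk'_mem_maximal_iff (Localization.AtPrime (irr 𝒜)) (irr 𝒜) a s).1 hu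
  -- `u * (r s / 1) = 0`
  have h2 : IsLocalization.mk' (Localization.AtPrime (irr 𝒜)) a s *
      algebraMap R (Localization.AtPrime (irr 𝒜)) (r * s) = 0 := by
    rw [map_mul, mul_comm (algebraMap R _ r), ← mul_assoc, IsLocalization.mk'_spec, ← map_mul, hr a ha,
      map_zero]
  have h3 : algebraMap R (Localization.AtPrime (irr 𝒜)) (r * s) = 0 := by
    apply hreg
    show IsLocalization.mk' (Localization.AtPrime (irr 𝒜)) a s • _ =
      IsLocalization.mk' (Localization.AtPrime (irr 𝒜)) a s • (0 : Localization.AtPrime (irr 𝒜))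
    rw [smul_eq_mul, smul_eq_mul, h2, mul_zero]
  obtain ⟨s', hs'⟩ := (IsLocalization.map_eq_zero_iff (irr 𝒜).primeCompl
    (Localization.AtPrime (irr 𝒜)) (r * s)).1 h3
  -- `σ r = 0` with `σ ∉ 𝔪`
  set σ : R := s' * s with hσ
  have hσr : σ * r = 0 := by
    rw [hσ, mul_assoc, mul_comm (s : R) r]; exact hs'
  have hσm : σ ∉ irr 𝒜 := by
    intro h
    rcases hprime.mem_or_mem h with h' | h'
    · exact s'.2 h'
    · exact s.2 h'
  have hmem := sub_decompose_zero_mem_irr 𝒜 hpos σ
  obtain ⟨c, hc⟩ := exists_decompose_zero_eq 𝒜 h0 σ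
  have hc0 : c ≠ 0 := by
    rintro rfl
    rw [map_zero] at hc
    apply hσm
    have := hmem
    rwa [hc, sub_zero] at this
  have h4 : algebraMap k R c * r = 0 := by
    have h5 := hr _ hmem
    rw [sub_mul, hσr, zero_sub, neg_eq_zero, hc] at h5
    exact h5
  have : r = algebraMap k R c⁻¹ * (algebraMap k R c * r) := by
    rw [← mul_assoc, ← map_mul, inv_mul_cancel₀ hc0, map_one, one_mul]
  rw [this, h4, mul_zero]

include hpos h0 in
/-- **the Hilbert function of a standard graded CM ring of positive dimension is nondecreasing** -/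
theorem finrank_le_succ [Nontrivial R] [hCM : LocCoh.IsCohenMacaulayRing R]
    (hstd : irr 𝒜 = Ideal.span ((𝒜 1 : Submodule k R) : Set R))
    (h1 : 1 ≤ ringKrullDim R) (n : ℤ) :
    Module.finrank k (𝒜 n) ≤ Module.finrank k (𝒜 (n + 1)) := by
  classical
  haveI : ∀ j, Module.Finite k (𝒜 j) := fun j => finite_piece 𝒜 h0 j
  obtain ⟨m, x, hx⟩ := Module.Finite.exists_fin (R := k) (M := 𝒜 1)
  set P : R[X] := ∑ i : Fin m, monomial (i : ℕ) ((x i : 𝒜 1) : R) with hP
  have hPcoeff : ∀ a : ℕ, P.coeff a = if h : a < m then ((x ⟨a, h⟩ : 𝒜 1) : R) else 0 :=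
    fun a => coeff_sum_monomial m (fun i => ((x i : 𝒜 1) : R)) a
  have hPmem : ∀ a : ℕ, P.coeff a ∈ 𝒜 1 := by
    intro a
    rw [hPcoeff]
    split_ifs
    · exact SetLike.coe_mem _
    · exact zero_mem _
  -- `P` is a nonzerodivisor (McCoy)
  have hPreg : P ∈ nonZeroDivisors R[X] := by
    rw [Polynomial.mem_nonZeroDivisors_iff]
    intro a ha
    apply eq_zero_of_irr_mul_eq_zero 𝒜 hpos h0 h1
    have hxa : ∀ i : Fin m, ((x i : 𝒜 1) : R) * a = 0 := by
      intro i
      have := congrArg (fun q : R[X] => q.coeff (i : ℕ)) ha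
      simp only [coeff_smul, coeff_zero, smul_eq_mul] at this
      rw [hPcoeff, dif_pos i.2] at this
      rw [mul_comm]
      exact this
    have h𝒜1 : ∀ b ∈ 𝒜 1, b * a = 0 := by
      intro b hb
      have hb' : (⟨b, hb⟩ : 𝒜 1) ∈ Submodule.span k (Set.range x) := by rw [hx]; trivial
      have hgen : ∀ y : 𝒜 1, y ∈ Submodule.span k (Set.range x) → (y : R) * a = 0 := by
        intro y hy
        induction hy using Submodule.span_induction with
        | mem z hz =>
          obtain ⟨i, rfl⟩ := hz
          exact hxa i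
        | zero => simp
        | add z w _ _ hz hw => rw [Submodule.coe_add, add_mul, hz, hw, add_zero]
        | smul c z _ hz => rw [Submodule.coe_smul, smul_mul_assoc, hz, smul_zero]
      exact hgen ⟨b, hb⟩ hb'
    intro b hb
    rw [hstd] at hb
    induction hb using Submodule.span_induction with
    | mem z hz => exact h𝒜1 z hz
    | zero => simp
    | add z w _ _ hz hw => rw [add_mul, hz, hw, add_zero]
    | smul c z _ hz => rw [smul_eq_mul, mul_assoc, hz, mul_zero]
  -- the dimension count
  have hcount : ∀ d : ℕ, d * Module.finrank k (𝒜 n) ≤ (d + m) * Module.finrank k (𝒜 (n + 1)) := by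
    intro d
    -- `Q f = ∑ f_l X^l`
    let Q : (Fin d → 𝒜 n) →ₗ[k] R[X] :=
      { toFun := fun f => ∑ l : Fin d, monomial (l : ℕ) ((f l : 𝒜 n) : R)
        map_add' := fun f g => by
          simp only [Pi.add_apply, Submodule.coe_add, map_add, Finset.sum_add_distrib]
        map_smul' := fun c f => by
          simp only [Pi.smul_apply, Submodule.coe_smul, RingHom.id_apply, Finset.smul_sum]
          refine Finset.sum_congr rfl fun l _ => ?_
          rw [Polynomial.smul_monomial] }
    have hQcoeff : ∀ (f : Fin d → 𝒜 n) (b : ℕ),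
        (Q f).coeff b = if h : b < d then ((f ⟨b, h⟩ : 𝒜 n) : R) else 0 :=
      fun f b => coeff_sum_monomial d (fun l => ((f l : 𝒜 n) : R)) b
    have hmem : ∀ (f : Fin d → 𝒜 n) (j : ℕ), (P * Q f).coeff j ∈ 𝒜 (n + 1) := by
      intro f j
      rw [coeff_mul]
      refine Submodule.sum_mem _ fun ab _ => ?_
      have h2 : (Q f).coeff ab.2 ∈ 𝒜 n := by
        rw [hQcoeff]
        split_ifs
        · exact SetLike.coe_mem _
        · exact zero_mem _
      have := SetLike.mul_mem_graded (hPmem ab.1) h2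
      rwa [add_comm] at this
    let Ψ : (Fin d → 𝒜 n) →ₗ[k] (Fin (d + m) → 𝒜 (n + 1)) :=
      { toFun := fun f j => ⟨(P * Q f).coeff j, hmem f j⟩
        map_add' := fun f g => by
          funext j
          apply Subtype.ext
          simp only [map_add, mul_add, coeff_add, Pi.add_apply, Submodule.coe_add]
        map_smul' := fun c f => by
          funext j
          apply Subtype.ext
          simp only [map_smul, mul_smul_comm, coeff_smul, RingHom.id_apply, Pi.smul_apply,
            Submodule.coe_smul] }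
    have hΨinj : Function.Injective Ψ := by
      rw [injective_iff_map_eq_zero]
      intro f hf
      have hPQ : P * Q f = 0 := by
        ext j
        rw [coeff_zero]
        by_cases hj : j < d + m
        · have := congrFun hf ⟨j, hj⟩
          exact congrArg Subtype.val this
        · rw [coeff_mul]
          refine Finset.sum_eq_zero fun ab hab => ?_
          have hsum : ab.1 + ab.2 = j := Finset.HasAntidiagonal.mem_antidiagonal.1 hab
          by_cases h1 : ab.1 < m
          · have h2 : ¬ ab.2 < d := by omega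
            rw [hQcoeff, dif_neg h2, mul_zero]
          · rw [hPcoeff, dif_neg h1, zero_mul]
      have hQ0 : Q f = 0 := (mul_left_mem_nonZeroDivisors_eq_zero_iff hPreg).1 hPQ
      funext l
      apply Subtype.ext
      have := congrArg (fun q : R[X] => q.coeff (l : ℕ)) hQ0
      simp only [coeff_zero] at this
      rw [hQcoeff, dif_pos l.2] at this
      exact this
    have h2 := LinearMap.finrank_le_finrank_of_injective hΨinj
    rw [Module.finrank_pi_fintype, Module.finrank_pi_fintype] at h2
    simpa using h2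
  -- conclude
  by_contra hlt
  rw [not_le] at hlt
  set h' := Module.finrank k (𝒜 (n + 1)) with hh'
  have := hcount (m * h' + 1)
  have h3 : (m * h' + 1) * (h' + 1) ≤ (m * h' + 1) * Module.finrank k (𝒜 n) :=
    Nat.mul_le_mul_left _ hlt
  nlinarith [this, h3]

end main

end Groth.Agent.Lib.Seat91.HilbMono
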