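import Groth.Agent.Lib.Seat97HilbStd
import Groth.Agent.Lib.Helper4HilbFunB
import Mathlib

/-!
# Seat97: growth of the Hilbert function of a finite graded module

`R` a standard graded `k`-algebra presented by `x` (`IsStd 𝒜 x`), `M` a finite graded `R`-module
with pieces `ℳ : ℤ → Submodule k M`.

* `finite_piece`: the pieces `M_j` are finite dimensional;
* `exists_finrank_le`: `dim M ≤ d + 1` ⇒ `dim_k M_j ≤ C ((j + b)⁺ + 1)^d`;
* `exists_finrank_eq_zero`: `dim M ≤ 0` ⇒ `M_j = 0` for `j ≫ 0`;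
* `exists_choose_le_finrank`: `dim M = d` ⇒ `C(d + m - 1, m) ≤ dim_k M_{m + a}` for some shift `a`.
-/

set_option autoImplicit false
set_option linter.unusedSectionVars false
set_option linter.style.haveILetI false

universe u

namespace Groth.Agent.Lib.Seat97.HilbMod

open MvPolynomial
open Groth.Agent.Lib.Seat97.SegreFin Groth.Agent.Lib.Seat97.HilbStd
open Groth.Agent.Lib.Helper4.HilbFun

section LinAlg

variable {k : Type*} [Field k] {V W : Type*} [AddCommGroup V] [Module k V] [AddCommGroup W]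
  [Module k W]

theorem finrank_eq_map_add (f : V →ₗ[k] W) (U : Submodule k V) [Module.Finite k U] :
    Module.finrank k U =
      Module.finrank k (U.map f) + Module.finrank k ↥(LinearMap.ker f ⊓ U) := by
  have h := LinearMap.finrank_range_add_finrank_ker (f ∘ₗ U.subtype)
  have h1 : LinearMap.range (f ∘ₗ U.subtype) = U.map f := by
    rw [LinearMap.range_comp, Submodule.range_subtype]
  have h2 : Module.finrank k ↥(LinearMap.ker (f ∘ₗ U.subtype)) =
      Module.finrank k ↥(LinearMap.ker f ⊓ U) := by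
    rw [← Submodule.finrank_map_subtype_eq U (LinearMap.ker (f ∘ₗ U.subtype)), LinearMap.ker_comp,
      Submodule.map_comap_subtype, inf_comm]
  rw [← h2, ← h1]
  exact h.symm

theorem finrank_finset_sup_le {ι : Type*} (s : Finset ι) (f : ι → Submodule k V)
    (hf : ∀ i, Module.Finite k (f i)) :
    Module.Finite k ↥(s.sup f) ∧ Module.finrank k ↥(s.sup f) ≤ ∑ i ∈ s, Module.finrank k (f i) := by
  classical
  induction s using Finset.induction_on with
  | empty =>
    rw [Finset.sup_empty]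
    refine ⟨inferInstance, ?_⟩
    simp
  | insert a s ha ih =>
    obtain ⟨h1, h2⟩ := ih
    haveI := hf a
    rw [Finset.sup_insert, Finset.sum_insert ha]
    refine ⟨inferInstance, ?_⟩
    exact (Submodule.finrank_add_le_finrank_add_finrank _ _).trans (by omega)

end LinAlg

variable {k : Type u} [Field k] {R : Type u} [CommRing R] [Algebra k R]
  (𝒜 : ℤ → Submodule k R) [GradedAlgebra 𝒜]
  {M : Type u} [AddCommGroup M] [Module R M] [Module k M] [IsScalarTower k R M]
  (ℳ : ℤ → Submodule k M) [DirectSum.Decomposition ℳ] [SetLike.GradedSMul 𝒜 ℳ]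
  {n : ℕ} (x : Fin (n + 1) → R)

/-- `r ↦ r • y` as a `k`-linear map. -/
noncomputable def smulY (y : M) : R →ₗ[k] M :=
  (LinearMap.toSpanSingleton R M y).restrictScalars k

theorem smulY_apply (y : M) (r : R) : smulY (k := k) y r = r • y := rfl

/-- `R_c • y`. -/
noncomputable def orb (y : M) (c : ℤ) : Submodule k M := (𝒜 c).map (smulY y)

/-- `f ↦ f(x) • y`. -/
noncomputable def lamY (y : M) : MvPolynomial (Fin (n + 1)) k →ₗ[k] M :=
  smulY y ∘ₗ (aeval x : MvPolynomial (Fin (n + 1)) k →ₐ[k] R).toLinearMap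

theorem lamY_apply (y : M) (f : MvPolynomial (Fin (n + 1)) k) :
    lamY x y f = aeval x f • y := rfl

/-- the annihilator of `y` pulled back to the polynomial ring. -/
noncomputable def IY (y : M) : Ideal (MvPolynomial (Fin (n + 1)) k) :=
  ((R ∙ y).annihilator).comap (aeval x : MvPolynomial (Fin (n + 1)) k →ₐ[k] R)

theorem mem_IY {y : M} {f : MvPolynomial (Fin (n + 1)) k} :
    f ∈ IY x y ↔ aeval x f • y = 0 := by
  rw [IY, Ideal.mem_comap, Submodule.mem_annihilator_span_singleton]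

theorem ker_lamY (y : M) : LinearMap.ker (lamY x y) = (IY x y).restrictScalars k := by
  ext f
  rw [LinearMap.mem_ker, lamY_apply, Submodule.restrictScalars_mem, mem_IY]

theorem orb_natCast (h : IsStd 𝒜 x) (y : M) (m : ℕ) :
    orb 𝒜 y (m : ℤ) = (homogeneousSubmodule (Fin (n + 1)) k m).map (lamY x y) := by
  rw [orb, ← h.map_eq m, lamY, Submodule.map_comp]

theorem orb_neg (h : IsStd 𝒜 x) (y : M) {c : ℤ} (hc : c < 0) : orb 𝒜 y c = ⊥ := by
  rw [orb, h.neg c hc, Submodule.map_bot]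

theorem finrank_orb (h : IsStd 𝒜 x) (y : M) (m : ℕ) :
    Module.finrank k (orb 𝒜 y (m : ℤ)) = hilb (IY (k := k) x y) m := by
  rw [orb_natCast 𝒜 x h]
  have h1 := finrank_eq_hilb_add (IY (k := k) x y) m
  have h2 := finrank_eq_map_add (lamY x y) (homogeneousSubmodule (Fin (n + 1)) k m)
  rw [ker_lamY] at h2
  omega

theorem orb_finite (h : IsStd 𝒜 x) (y : M) (c : ℤ) : Module.Finite k (orb 𝒜 y c) := by
  rcases lt_or_ge c 0 with hc | hc
  · rw [orb_neg 𝒜 x h y hc]
    infer_instance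
  · obtain ⟨m, rfl⟩ := Int.eq_ofNat_of_zero_le hc
    rw [orb_natCast 𝒜 x h]
    exact Module.Finite.map _ _

theorem finrank_orb_of_neg (h : IsStd 𝒜 x) (y : M) {c : ℤ} (hc : c < 0) :
    Module.finrank k (orb 𝒜 y c) = 0 := by
  rw [orb_neg 𝒜 x h y hc]
  simp

theorem orb_le {y : M} {a : ℤ} (hy : y ∈ ℳ a) (c : ℤ) : orb 𝒜 y c ≤ ℳ (c + a) := by
  rintro _ ⟨r, hr, rfl⟩
  exact smul_mem_add 𝒜 ℳ hr hy

theorem projL_aeval (hx : ∀ i, x i ∈ 𝒜 1) (f : MvPolynomial (Fin (n + 1)) k) (i : ℕ) :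
    projL 𝒜 (i : ℤ) (aeval x f) = aeval x (homogeneousComponent i f) := by
  have hmem : ∀ j : ℕ, aeval x (homogeneousComponent j f) ∈ 𝒜 (j : ℤ) := fun j =>
    aeval_mem_of_isHomogeneous 𝒜 hx (homogeneousComponent_isHomogeneous j f)
  conv_lhs => rw [← sum_homogeneousComponent f, map_sum, map_sum]
  by_cases hi : i ∈ Finset.range (f.totalDegree + 1)
  · rw [Finset.sum_eq_single_of_mem i hi]
    · exact projL_of_mem_same 𝒜 (hmem i)
    · intro j _ hji
      exact projL_of_mem_ne 𝒜 (hmem j) (by exact_mod_cast hji)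
  · have hz : homogeneousComponent i f = 0 := by
      apply homogeneousComponent_eq_zero
      rw [Finset.mem_range] at hi
      omega
    rw [hz, map_zero]
    refine Finset.sum_eq_zero fun j hj => ?_
    refine projL_of_mem_ne 𝒜 (hmem j) ?_
    intro hji
    apply hi
    have : j = i := by exact_mod_cast hji
    rwa [← this]

theorem IY_isHomogeneous (h : IsStd 𝒜 x) {y : M} {a : ℤ} (hy : y ∈ ℳ a) :
    (IY x y).IsHomogeneous (CohB1.polyGrading n k) := by
  intro i f hf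
  rw [mem_IY] at hf
  have h1 : ((DirectSum.decompose (CohB1.polyGrading n k) f) i : MvPolynomial (Fin (n + 1)) k) =
      homogeneousComponent i f := MvPolynomial.decomposition.decompose'_apply f i
  rw [h1, mem_IY, ← projL_aeval 𝒜 x h.mem, ← projL_smul 𝒜 ℳ hy, hf, map_zero]

theorem exists_homogeneous_generators [Module.Finite R M] :
    ∃ (G : Finset (M × ℤ)), (∀ p ∈ G, p.1 ∈ ℳ p.2) ∧
      Submodule.span R (Set.range fun p : G => (p : M × ℤ).1) = ⊤ := by
  classical
  obtain ⟨F, hF⟩ := (Module.Finite.fg_top : (⊤ : Submodule R M).FG)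
  refine ⟨F.biUnion fun f => (DirectSum.decompose ℳ f).support.image fun j => (projL ℳ j f, j),
    ?_, ?_⟩
  · intro p hp
    rw [Finset.mem_biUnion] at hp
    obtain ⟨f, -, hp⟩ := hp
    rw [Finset.mem_image] at hp
    obtain ⟨j, -, rfl⟩ := hp
    exact projL_mem ℳ j f
  · rw [eq_top_iff, ← hF, Submodule.span_le]
    intro f hf
    rw [← DirectSum.sum_support_decompose ℳ f]
    refine Submodule.sum_mem _ fun j hj => ?_
    refine Submodule.subset_span ⟨⟨(projL ℳ j f, j), ?_⟩, rfl⟩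
    rw [Finset.mem_biUnion]
    exact ⟨f, hf, Finset.mem_image.2 ⟨j, hj, rfl⟩⟩

section Gens

variable {ι : Type*} [Fintype ι] (y : ι → M) (a : ι → ℤ)

theorem piece_le_iSup_orb (hy : ∀ i, y i ∈ ℳ (a i))
    (hspan : Submodule.span R (Set.range y) = ⊤) (j : ℤ) :
    ℳ j ≤ ⨆ i, orb 𝒜 (y i) (j - a i) := by
  intro u hu
  have hu' : u ∈ Submodule.span R (Set.range y) := by rw [hspan]; trivial
  obtain ⟨c, rfl⟩ := (Submodule.mem_span_range_iff_exists_fun R).1 hu'
  rw [← projL_of_mem_same ℳ hu, map_sum]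
  refine Submodule.sum_mem _ fun i _ => ?_
  have e := projL_smul 𝒜 ℳ (hy i) (j - a i) (c i)
  rw [sub_add_cancel] at e
  rw [e]
  exact Submodule.mem_iSup_of_mem i ⟨projL 𝒜 (j - a i) (c i), projL_mem _ _ _, rfl⟩

theorem finrank_piece_le (h : IsStd 𝒜 x) (hy : ∀ i, y i ∈ ℳ (a i))
    (hspan : Submodule.span R (Set.range y) = ⊤) (j : ℤ) :
    Module.Finite k (ℳ j) ∧
      Module.finrank k (ℳ j) ≤ ∑ i, Module.finrank k (orb 𝒜 (y i) (j - a i)) := by
  obtain ⟨h1, h2⟩ := finrank_finset_sup_le (k := k) Finset.univ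
    (fun i => orb 𝒜 (y i) (j - a i)) (fun i => orb_finite 𝒜 x h _ _)
  have hle : ℳ j ≤ Finset.univ.sup fun i => orb 𝒜 (y i) (j - a i) := by
    rw [Finset.sup_univ_eq_iSup]
    exact piece_le_iSup_orb 𝒜 ℳ y a hy hspan j
  exact ⟨Submodule.finiteDimensional_of_le hle, (Submodule.finrank_mono hle).trans h2⟩

end Gens

section Dim

theorem dim_IY (h : IsStd 𝒜 x) (y : M) :
    ringKrullDim (MvPolynomial (Fin (n + 1)) k ⧸ IY x y) =
      ringKrullDim (R ⧸ (R ∙ y).annihilator) := by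
  have hs : Function.Surjective
      ((aeval x : MvPolynomial (Fin (n + 1)) k →ₐ[k] R) : MvPolynomial (Fin (n + 1)) k →+* R) :=
    h.aeval_surjective
  exact ringKrullDim_eq_of_ringEquiv (RingEquiv.ofBijective
    (Ideal.quotientMap ((R ∙ y).annihilator)
      ((aeval x : MvPolynomial (Fin (n + 1)) k →ₐ[k] R) : MvPolynomial (Fin (n + 1)) k →+* R)
      le_rfl) ⟨Ideal.quotientMap_injective, Ideal.quotientMap_surjective hs⟩)

theorem dim_quot_ann_le (y : M) :
    ringKrullDim (R ⧸ (R ∙ y).annihilator) ≤ Module.supportDim R M := by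
  rw [ringKrullDim_quotient]
  exact Order.krullDim_le_of_strictMono
    (fun p => (⟨p.1, Module.mem_support_iff_exists_annihilator.2 ⟨y, p.2⟩⟩ : Module.support R M))
    (fun {_ _} lt => lt)

theorem exists_le_dim_quot_ann {ι : Type*} (y : ι → M)
    (hspan : Submodule.span R (Set.range y) = ⊤) (d : ℕ)
    (hd : (d : WithBot ℕ∞) ≤ Module.supportDim R M) :
    ∃ i, (d : WithBot ℕ∞) ≤ ringKrullDim (R ⧸ (R ∙ y i).annihilator) := by
  obtain ⟨l, hl⟩ := Order.le_krullDim_iff.mp hd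
  obtain ⟨_, ⟨i, rfl⟩, hi⟩ := (Module.mem_support_iff_of_span_eq_top hspan).1 l.head.2
  refine ⟨i, ?_⟩
  rw [ringKrullDim_quotient]
  refine Order.le_krullDim_iff.mpr ⟨LTSeries.mk l.length
    (fun t => ⟨(l t).1, fun r hr => (LTSeries.head_le l t : l.head ≤ l t) (hi hr)⟩) ?_, hl⟩
  intro s t hst
  exact l.strictMono hst

end Dim

section Main

variable [Module.Finite R M]

theorem finite_piece (h : IsStd 𝒜 x) (j : ℤ) : Module.Finite k (ℳ j) := by
  obtain ⟨G, hG, hspan⟩ := exists_homogeneous_generators (R := R) ℳ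
  exact (finrank_piece_le 𝒜 ℳ x (fun p : G => (p : M × ℤ).1) (fun p : G => (p : M × ℤ).2) h
    (fun p => hG p p.2) hspan j).1

/-- **Upper bound**. -/
theorem exists_finrank_le (h : IsStd 𝒜 x) (d : ℕ)
    (hd : Module.supportDim R M ≤ ((d + 1 : ℕ) : WithBot ℕ∞)) :
    ∃ C b : ℕ, ∀ j : ℤ, Module.finrank k (ℳ j) ≤ C * ((j + b).toNat + 1) ^ d := by
  classical
  obtain ⟨G, hG, hspan⟩ := exists_homogeneous_generators (R := R) ℳ
  have hC : ∀ p : G, ∃ C : ℕ, ∀ m : ℕ, hilb (IY (k := k) x (p : M × ℤ).1) m ≤ C * (m + 1) ^ d := by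
    intro p
    refine exists_hilb_le k n d _ (IY_isHomogeneous 𝒜 ℳ x h (hG p p.2)) ?_
    rw [dim_IY 𝒜 x h]
    exact (dim_quot_ann_le _).trans hd
  choose C hC using hC
  refine ⟨∑ p, C p, ∑ p : G, ((p : M × ℤ).2).natAbs, fun j => ?_⟩
  refine (finrank_piece_le 𝒜 ℳ x (fun p : G => (p : M × ℤ).1) (fun p : G => (p : M × ℤ).2) h
    (fun p => hG p p.2) hspan j).2.trans ?_
  rw [Finset.sum_mul]
  refine Finset.sum_le_sum fun p _ => ?_
  have hb : ((p : M × ℤ).2).natAbs ≤ ∑ p : G, ((p : M × ℤ).2).natAbs :=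
    Finset.single_le_sum (f := fun p : G => ((p : M × ℤ).2).natAbs) (fun _ _ => Nat.zero_le _)
      (Finset.mem_univ p)
  rcases lt_or_ge (j - (p : M × ℤ).2) 0 with hc | hc
  · rw [finrank_orb_of_neg 𝒜 x h _ hc]
    exact Nat.zero_le _
  · obtain ⟨m, hm⟩ := Int.eq_ofNat_of_zero_le hc
    rw [hm, finrank_orb 𝒜 x h]
    refine (hC p m).trans (Nat.mul_le_mul_left _ (Nat.pow_le_pow_left ?_ d))
    omega

/-- **Vanishing in large degrees for dimension `≤ 0`**. -/
theorem exists_finrank_eq_zero (h : IsStd 𝒜 x) (hd : Module.supportDim R M ≤ 0) :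
    ∃ b : ℤ, ∀ j : ℤ, b ≤ j → Module.finrank k (ℳ j) = 0 := by
  classical
  obtain ⟨G, hG, hspan⟩ := exists_homogeneous_generators (R := R) ℳ
  have hN : ∀ p : G, ∃ N : ℕ, ∀ m : ℕ, N ≤ m → hilb (IY (k := k) x (p : M × ℤ).1) m = 0 := by
    intro p
    refine hilb_eq_zero_of_dim_le_zero k n _ (IY_isHomogeneous 𝒜 ℳ x h (hG p p.2)) ?_
    rw [dim_IY 𝒜 x h]
    exact (dim_quot_ann_le _).trans hd
  choose N hN using hN
  refine ⟨((∑ p : G, (((p : M × ℤ).2).natAbs + N p) : ℕ) : ℤ), fun j hj => ?_⟩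
  have h1 := (finrank_piece_le 𝒜 ℳ x (fun p : G => (p : M × ℤ).1) (fun p : G => (p : M × ℤ).2) h
    (fun p => hG p p.2) hspan j).2
  rw [Finset.sum_eq_zero] at h1
  · omega
  · intro p _
    have hb : ((p : M × ℤ).2).natAbs + N p ≤ ∑ p : G, (((p : M × ℤ).2).natAbs + N p) :=
      Finset.single_le_sum (f := fun p : G => ((p : M × ℤ).2).natAbs + N p)
        (fun _ _ => Nat.zero_le _) (Finset.mem_univ p)
    have hc : 0 ≤ j - (p : M × ℤ).2 := by omega
    obtain ⟨m, hm⟩ := Int.eq_ofNat_of_zero_le hc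
    rw [hm, finrank_orb 𝒜 x h]
    apply hN p m
    omega

/-- **Lower bound**. -/
theorem exists_choose_le_finrank (h : IsStd 𝒜 x) (d : ℕ)
    (hd : Module.supportDim R M = (d : WithBot ℕ∞)) :
    ∃ a : ℤ, ∀ m : ℕ, (d + m - 1).choose m ≤ Module.finrank k (ℳ ((m : ℤ) + a)) := by
  classical
  obtain ⟨G, hG, hspan⟩ := exists_homogeneous_generators (R := R) ℳ
  obtain ⟨p, hp⟩ := exists_le_dim_quot_ann (fun p : G => (p : M × ℤ).1) hspan d hd.ge
  have hdim : ringKrullDim (MvPolynomial (Fin (n + 1)) k ⧸ IY (k := k) x (p : M × ℤ).1) = d := by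
    rw [dim_IY 𝒜 x h]
    exact le_antisymm ((dim_quot_ann_le _).trans hd.le) hp
  refine ⟨(p : M × ℤ).2, fun m => ?_⟩
  haveI := finite_piece 𝒜 ℳ x h ((m : ℤ) + (p : M × ℤ).2)
  calc (d + m - 1).choose m ≤ hilb (IY (k := k) x (p : M × ℤ).1) m := choose_le_hilb _ d hdim m
    _ = Module.finrank k (orb 𝒜 (p : M × ℤ).1 (m : ℤ)) := (finrank_orb 𝒜 x h _ m).symm
    _ ≤ _ := Submodule.finrank_mono (orb_le 𝒜 ℳ (hG p p.2) m)

/-- polynomial form of the lower bound, uniform in the shift. -/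
theorem exists_pow_le_finrank (h : IsStd 𝒜 x) (d : ℕ)
    (hd : Module.supportDim R M = ((d + 1 : ℕ) : WithBot ℕ∞)) :
    ∃ a : ℤ, ∀ a' : ℤ, a ≤ a' → ∀ m : ℕ,
      (m + 1) ^ d ≤ d.factorial * Module.finrank k (ℳ ((m : ℤ) + a')) := by
  obtain ⟨a, ha⟩ := exists_choose_le_finrank 𝒜 ℳ x h (d + 1) hd
  refine ⟨a, fun a' haa' m => ?_⟩
  obtain ⟨s, hs⟩ := Int.eq_ofNat_of_zero_le (sub_nonneg.2 haa')
  have e : (m : ℤ) + a' = ((m + s : ℕ) : ℤ) + a := by push_cast; omega
  rw [e]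
  have h1 := ha (m + s)
  have h2 : (m + 1) ^ d ≤ d.factorial * (d + (m + s)).choose d := by
    have h3 := Nat.pow_sub_le_descFactorial (d + (m + s)) d
    rw [Nat.descFactorial_eq_factorial_mul_choose] at h3
    exact le_trans (Nat.pow_le_pow_left (by omega) d) h3
  have h3 : (d + 1 + (m + s) - 1).choose (m + s) = (d + (m + s)).choose d := by
    have e2 : d + 1 + (m + s) - 1 = d + (m + s) := by omega
    rw [e2]
    exact (Nat.choose_symm_add).symm
  rw [h3] at h1
  exact h2.trans (Nat.mul_le_mul_left _ h1)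

/-- pieces vanish in very negative degrees. -/
theorem exists_finrank_eq_zero_of_lt (h : IsStd 𝒜 x) :
    ∃ b : ℤ, ∀ j : ℤ, j < b → Module.finrank k (ℳ j) = 0 := by
  classical
  obtain ⟨G, hG, hspan⟩ := exists_homogeneous_generators (R := R) ℳ
  refine ⟨-((∑ p : G, ((p : M × ℤ).2).natAbs : ℕ) : ℤ), fun j hj => ?_⟩
  have h1 := (finrank_piece_le 𝒜 ℳ x (fun p : G => (p : M × ℤ).1) (fun p : G => (p : M × ℤ).2) h
    (fun p => hG p p.2) hspan j).2
  rw [Finset.sum_eq_zero] at h1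
  · omega
  · intro p _
    apply finrank_orb_of_neg 𝒜 x h
    have hb : ((p : M × ℤ).2).natAbs ≤ ∑ p : G, ((p : M × ℤ).2).natAbs :=
      Finset.single_le_sum (f := fun p : G => ((p : M × ℤ).2).natAbs) (fun _ _ => Nat.zero_le _)
        (Finset.mem_univ p)
    omega

include ℳ in
/-- a graded module of dimension `≤ 0` is finite dimensional over `k`. -/
theorem finite_of_supportDim_le_zero (h : IsStd 𝒜 x) (hd : Module.supportDim R M ≤ 0) :
    Module.Finite k M := by
  classical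
  obtain ⟨b, hb⟩ := exists_finrank_eq_zero 𝒜 ℳ x h hd
  obtain ⟨b', hb'⟩ := exists_finrank_eq_zero_of_lt 𝒜 ℳ x h
  have hbot : ∀ j, j ∉ Finset.Ico b' b → ℳ j = ⊥ := by
    intro j hj
    haveI := finite_piece 𝒜 ℳ x h j
    apply Submodule.finrank_eq_zero.1
    rw [Finset.mem_Ico, not_and_or, not_le, not_lt] at hj
    rcases hj with hj | hj
    exacts [hb' j hj, hb j hj]
  have htop : (⊤ : Submodule k M) = (Finset.Ico b' b).sup ℳ := by
    rw [← (DirectSum.Decomposition.isInternal ℳ).submodule_iSup_eq_top]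
    apply le_antisymm
    · refine iSup_le fun j => ?_
      by_cases hj : j ∈ Finset.Ico b' b
      · exact Finset.le_sup hj
      · rw [hbot j hj]; exact bot_le
    · exact Finset.sup_le fun j _ => le_iSup ℳ j
  have hfin := (finrank_finset_sup_le (k := k) (Finset.Ico b' b) ℳ
    (fun j => finite_piece 𝒜 ℳ x h j)).1
  rw [← htop] at hfin
  exact Module.finite_def.2 (Module.Finite.iff_fg.1 hfin)

end Main

end Groth.Agent.Lib.Seat97.HilbMod
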