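import Mathlib
import Groth.Agent.Lib.Seat97HilbMod
import Groth.Agent.Lib.Seat91HilbMono
import Groth.Agent.Lib.Helper5HilbertSerre
import Groth.Agent.Lib.Helper5HilbertSamuel
import Groth.Agent.Lib.Helper4HilbFunC
import Groth.Agent.Lib.Helper4HilbFunD

/-!
# Seat67: the Hilbert polynomial of a standard graded algebra over a field

`R` a Noetherian standard graded `k`-algebra presented by `x` (`IsStd 𝒜 x`).

* `exists_hilbPoly`: there is `P ∈ ℚ[X]` with `P(m) = dim_k R_m` for all large naturals `m`;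
* `natDegree_le_of_dim_le`: `dim R ≤ d + 1` ⇒ `deg P ≤ d`;
* `eq_zero_of_dim_le_zero`: `dim R ≤ 0` ⇒ `P = 0`;
* `eq_P0`: a polynomial of degree `≤ d` with `P(0) = 1` and roots `-1, …, -d` is the binomial
  polynomial `P0 d` (`m ↦ C(d + m, m)`);
* `P0_eval_neg`, `P0_eval_neg_succ_ne_zero`: the values of `P0 d` at `-1, …, -d` and at `-(d+1)`.
-/

set_option autoImplicit false
set_option linter.unusedSectionVars false
set_option linter.style.haveILetI false

universe u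

namespace Groth.Agent.Lib.Seat67.HilbPoly

open Polynomial
open Groth.Agent.Lib.Seat97.HilbStd Groth.Agent.Lib.Seat97.HilbMod
open Groth.Agent.Lib.Helper4.HilbFun

section Std

variable {k : Type u} [Field k] {R : Type u} [CommRing R] [Algebra k R]
  (𝒜 : ℤ → Submodule k R) [GradedAlgebra 𝒜] {n : ℕ} {x : Fin (n + 1) → R}

theorem adjoin_eq_top (h : IsStd 𝒜 x) : Algebra.adjoin k (Set.range x) = ⊤ := by
  rw [Algebra.adjoin_range_eq_range_aeval]
  exact (AlgHom.range_eq_top _).2 h.aeval_surjective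

theorem grHyp (h : IsStd 𝒜 x) :
    Groth.Agent.Lib.Helper5.HilbertSerre.GrHyp k R x R (fun m : ℕ => 𝒜 (m : ℤ)) (n + 1) where
  smul_mem i m v hv := by
    have h1 : x i * v ∈ 𝒜 (1 + (m : ℤ)) := SetLike.mul_mem_graded (h.mem i) hv
    have e : ((m + 1 : ℕ) : ℤ) = 1 + (m : ℤ) := by push_cast; ring
    rw [smul_eq_mul, e]
    exact h1
  indep := by
    have h1 : iSupIndep 𝒜 := (DirectSum.Decomposition.isInternal 𝒜).submodule_iSupIndep
    exact h1.comp (f := fun m : ℕ => (m : ℤ)) Nat.cast_injective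
  top := by
    have h1 : iSup 𝒜 = ⊤ := (DirectSum.Decomposition.isInternal 𝒜).submodule_iSup_eq_top
    rw [eq_top_iff, ← h1]
    refine iSup_le fun j => ?_
    rcases lt_or_ge j 0 with hj | hj
    · rw [h.neg j hj]
      exact bot_le
    · obtain ⟨m, rfl⟩ := Int.eq_ofNat_of_zero_le hj
      exact le_iSup (fun m : ℕ => 𝒜 (m : ℤ)) m
  kill i hi := absurd i.2 (by omega)
  hmax p hp _ := by
    have : p = ⊥ := Ideal.eq_bot_of_prime p
    rw [this]
    exact Ideal.bot_isMaximal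

variable [IsNoetherianRing R]

theorem length_toNat_eq_finrank (h : IsStd 𝒜 x) (j : ℤ) :
    (Module.length k (𝒜 j)).toNat = Module.finrank k (𝒜 j) := by
  haveI : Module.Finite k (𝒜 j) := finite_piece 𝒜 𝒜 x h j
  rw [Module.length_eq_finrank]
  rfl

/-- **The Hilbert polynomial** of a standard graded algebra over a field. -/
theorem exists_hilbPoly (h : IsStd 𝒜 x) :
    ∃ (P : ℚ[X]) (N : ℕ), ∀ m : ℕ, N ≤ m →
      P.eval (m : ℚ) = (Module.finrank k (𝒜 (m : ℤ)) : ℚ) := by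
  obtain ⟨-, hpoly⟩ := Groth.Agent.Lib.Helper5.HilbertSerre.main (A₀ := k) (S := R) (x := x)
    (adjoin_eq_top 𝒜 h) (n + 1) le_rfl R (fun m : ℕ => 𝒜 (m : ℤ)) (grHyp 𝒜 h)
  obtain ⟨c, N, hc⟩ := (Groth.Agent.Lib.Helper5.PolyLike.isPolyLike_iff (n + 1) _).1 hpoly
  refine ⟨∑ i ∈ Finset.range (n + 1), (c i : ℚ) • Polynomial.preHilbertPoly ℚ i 0, N,
    fun m hm => ?_⟩
  rw [Groth.Agent.Lib.Helper5.HilbertSamuel.eval_sum_preHilbertPoly, ← hc m hm,
    length_toNat_eq_finrank 𝒜 h]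
  push_cast
  rfl

/-- `dim R ≤ d + 1` ⇒ the Hilbert polynomial has degree `≤ d`. -/
theorem natDegree_le_of_dim_le (h : IsStd 𝒜 x) (d : ℕ)
    (hd : ringKrullDim R ≤ ((d + 1 : ℕ) : WithBot ℕ∞)) (P : ℚ[X]) (N : ℕ)
    (hP : ∀ m : ℕ, N ≤ m → P.eval (m : ℚ) = (Module.finrank k (𝒜 (m : ℤ)) : ℚ)) :
    P.natDegree ≤ d := by
  have hd' : Module.supportDim R R ≤ ((d + 1 : ℕ) : WithBot ℕ∞) := by
    rw [Module.supportDim_self_eq_ringKrullDim]
    exact hd
  obtain ⟨C, b, hCb⟩ := exists_finrank_le 𝒜 𝒜 x h d hd'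
  refine natDegree_le_of_abs_eval_le P d ((C : ℚ) * ((b : ℚ) + 1) ^ d) N fun m hm => ?_
  rw [hP m hm, abs_of_nonneg (by positivity)]
  have h1 := hCb (m : ℤ)
  have h2 : ((m : ℤ) + (b : ℤ)).toNat = m + b := by
    have : ((m : ℤ) + (b : ℤ)) = ((m + b : ℕ) : ℤ) := by push_cast; rfl
    rw [this, Int.toNat_natCast]
  rw [h2] at h1
  have h3 : ((Module.finrank k (𝒜 (m : ℤ)) : ℕ) : ℚ) ≤ (C : ℚ) * (((m + b + 1 : ℕ) : ℚ)) ^ d := by
    exact_mod_cast h1
  refine h3.trans ?_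
  rw [mul_assoc, ← mul_pow]
  refine mul_le_mul_of_nonneg_left (pow_le_pow_left₀ (by positivity) ?_ d) (by positivity)
  push_cast
  have hm0 : (0 : ℚ) ≤ (m : ℚ) := by positivity
  have hb0 : (0 : ℚ) ≤ (b : ℚ) := by positivity
  nlinarith [mul_nonneg hm0 hb0]

/-- `dim R ≤ 0` ⇒ the Hilbert polynomial vanishes. -/
theorem eq_zero_of_dim_le_zero (h : IsStd 𝒜 x) (hd : ringKrullDim R ≤ 0) (P : ℚ[X]) (N : ℕ)
    (hP : ∀ m : ℕ, N ≤ m → P.eval (m : ℚ) = (Module.finrank k (𝒜 (m : ℤ)) : ℚ)) :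
    P = 0 := by
  have hd' : Module.supportDim R R ≤ 0 := by
    rw [Module.supportDim_self_eq_ringKrullDim]
    exact hd
  obtain ⟨b, hb⟩ := exists_finrank_eq_zero 𝒜 𝒜 x h hd'
  apply Polynomial.eq_zero_of_infinite_isRoot
  have hsub : ((fun m : ℕ => (m : ℚ)) '' Set.Ici (max N b.toNat)) ⊆ {t | P.IsRoot t} := by
    rintro _ ⟨m, hm, rfl⟩
    have hm' : max N b.toNat ≤ m := hm
    have h1 : N ≤ m := (le_max_left _ _).trans hm'
    have h2 : b ≤ (m : ℤ) := by
      have := (le_max_right N b.toNat).trans hm'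
      omega
    show P.eval (m : ℚ) = 0
    rw [hP m h1, hb (m : ℤ) h2]
    rfl
  refine Set.Infinite.mono hsub ?_
  exact (Set.Ici_infinite _).image (Nat.cast_injective.injOn)

end Std

section Binom

/-- the binomial polynomial vanishes at `-1, …, -d`. -/
theorem P0_eval_neg (d j : ℕ) (h1 : 1 ≤ j) (hj : j ≤ d) : (P0 d).eval (-(j : ℚ)) = 0 := by
  unfold P0
  rw [eval_mul, eval_C, eval_comp, eval_add, eval_X, eval_one]
  have key : ∀ (e : ℕ) (y : ℚ), (∃ i : ℕ, i < e ∧ y + (i : ℚ) = 0) →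
      (ascPochhammer ℚ e).eval y = 0 := by
    intro e
    induction e with
    | zero =>
      rintro y ⟨i, hi, -⟩
      omega
    | succ e ih =>
      rintro y ⟨i, hi, hy⟩
      rw [ascPochhammer_succ_eval]
      rcases Nat.lt_succ_iff_lt_or_eq.1 hi with hi' | rfl
      · rw [ih y ⟨i, hi', hy⟩, zero_mul]
      · rw [hy, mul_zero]
  rw [key d _ ⟨j - 1, by omega, ?_⟩, mul_zero]
  have : ((j - 1 : ℕ) : ℚ) = (j : ℚ) - 1 := by
    rw [Nat.cast_sub h1]
    simp
  rw [this]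
  ring

theorem P0_eval_zero (d : ℕ) : (P0 d).eval 0 = 1 := by
  have h := P0_eval d 0
  simpa using h

theorem P0_ne_zero (d : ℕ) : P0 d ≠ 0 := by
  intro h
  have := P0_eval_zero d
  rw [h, eval_zero] at this
  exact zero_ne_one this

/-- the finite set `{0, -1, …, -d}` of rationals. -/
noncomputable def negs (d : ℕ) : Finset ℚ := (Finset.range (d + 1)).image fun j : ℕ => -(j : ℚ)

theorem card_negs (d : ℕ) : (negs d).card = d + 1 := by
  unfold negs
  rw [Finset.card_image_of_injective, Finset.card_range]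
  intro a b hab
  have : (a : ℚ) = (b : ℚ) := neg_injective hab
  exact_mod_cast this

/-- a polynomial of degree `≤ d` with the values of `P0 d` at `0, -1, …, -d` is `P0 d`. -/
theorem eq_P0 (P : ℚ[X]) (d : ℕ) (hdeg : P.natDegree ≤ d) (h0 : P.eval 0 = 1)
    (hroots : ∀ j : ℕ, 1 ≤ j → j ≤ d → P.eval (-(j : ℚ)) = 0) : P = P0 d := by
  rw [← sub_eq_zero]
  apply Polynomial.eq_zero_of_natDegree_lt_card_of_eval_eq_zero' (P - P0 d) (negs d)
  · intro t ht
    unfold negs at ht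
    obtain ⟨j, hj, rfl⟩ := Finset.mem_image.1 ht
    have hj' : j ≤ d := Nat.lt_succ_iff.1 (Finset.mem_range.1 hj)
    rw [eval_sub]
    rcases Nat.eq_zero_or_pos j with rfl | hpos
    · simp [h0, P0_eval_zero]
    · rw [hroots j hpos hj', P0_eval_neg d j hpos hj', sub_zero]
  · rw [card_negs]
    refine lt_of_le_of_lt (natDegree_sub_le _ _) ?_
    rw [P0_natDegree]
    exact Nat.lt_succ_of_le (max_le hdeg le_rfl)

/-- `P0 d` does not vanish at `-(d + 1)`. -/
theorem P0_eval_neg_succ_ne_zero (d : ℕ) : (P0 d).eval (-((d + 1 : ℕ) : ℚ)) ≠ 0 := by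
  intro hz
  apply P0_ne_zero d
  apply Polynomial.eq_zero_of_natDegree_lt_card_of_eval_eq_zero' (P0 d)
    (insert (-((d + 1 : ℕ) : ℚ)) ((Finset.Icc 1 d).image fun j : ℕ => -(j : ℚ)))
  · intro t ht
    rcases Finset.mem_insert.1 ht with rfl | ht
    · exact hz
    · obtain ⟨j, hj, rfl⟩ := Finset.mem_image.1 ht
      rw [Finset.mem_Icc] at hj
      exact P0_eval_neg d j hj.1 hj.2
  · rw [P0_natDegree, Finset.card_insert_of_notMem, Finset.card_image_of_injective]
    · simp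
    · intro a b hab
      have : (a : ℚ) = (b : ℚ) := neg_injective hab
      exact_mod_cast this
    · intro hmem
      obtain ⟨j, hj, hjeq⟩ := Finset.mem_image.1 hmem
      rw [Finset.mem_Icc] at hj
      have : (j : ℚ) = ((d + 1 : ℕ) : ℚ) := neg_injective hjeq
      have : j = d + 1 := by exact_mod_cast this
      omega

/-- two polynomials agreeing at all large naturals are equal. -/
theorem eq_of_eval_eq (P Q : ℚ[X]) (N : ℕ) (h : ∀ m : ℕ, N ≤ m → P.eval (m : ℚ) = Q.eval (m : ℚ)) :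
    P = Q := by
  rw [← sub_eq_zero]
  apply Polynomial.eq_zero_of_infinite_isRoot
  have hsub : ((fun m : ℕ => (m : ℚ)) '' Set.Ici N) ⊆ {t | (P - Q).IsRoot t} := by
    rintro _ ⟨m, hm, rfl⟩
    show (P - Q).eval (m : ℚ) = 0
    rw [eval_sub, h m hm, sub_self]
  exact Set.Infinite.mono hsub ((Set.Ici_infinite _).image (Nat.cast_injective.injOn))

end Binom

end Groth.Agent.Lib.Seat67.HilbPoly
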