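import Groth.Agent.Lib.Seat97SegreFin
import Mathlib

/-!
# Seat97: standard graded algebras over a field

A `ℤ`-graded `k`-algebra `R` (pieces `𝒜`) is presented by a polynomial ring
`k[X_0..X_n] → R`, `X_i ↦ x_i ∈ R_1`, carrying forms of degree `m` onto `R_m` (`IsStd 𝒜 x`),
as soon as `R_j = 0` for `j < 0`, `R_0 = k`, `R_+` is generated by `R_1` and `R_1` is finite
dimensional.
-/

set_option autoImplicit false
set_option linter.unusedSectionVars false
set_option linter.style.haveILetI false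

universe u

namespace Groth.Agent.Lib.Seat97.HilbStd

open MvPolynomial
open Groth.Agent.Lib.Seat97.SegreFin

variable {k : Type u} [Field k] {R : Type u} [CommRing R] [Algebra k R]
  (𝒜 : ℤ → Submodule k R) [GradedAlgebra 𝒜]

/-- `x_0, …, x_n ∈ R_1` present `R` as a standard graded algebra. -/
structure IsStd {n : ℕ} (x : Fin (n + 1) → R) : Prop where
  mem : ∀ i, x i ∈ 𝒜 1
  neg : ∀ j : ℤ, j < 0 → 𝒜 j = ⊥
  map_eq : ∀ m : ℕ, (homogeneousSubmodule (Fin (n + 1)) k m).map
    (aeval x : MvPolynomial (Fin (n + 1)) k →ₐ[k] R).toLinearMap = 𝒜 (m : ℤ)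

theorem aeval_mem_of_isHomogeneous {n : ℕ} {x : Fin (n + 1) → R} (hx : ∀ i, x i ∈ 𝒜 1)
    {m : ℕ} {f : MvPolynomial (Fin (n + 1)) k} (hf : f.IsHomogeneous m) :
    aeval x f ∈ 𝒜 (m : ℤ) := by
  rw [← support_sum_monomial_coeff f, map_sum]
  refine sum_mem fun s hs => ?_
  rw [aeval_monomial, ← Algebra.smul_def]
  refine Submodule.smul_mem _ _ ?_
  have hdeg : Finsupp.weight 1 s = m := hf (mem_support_iff.1 hs)
  rw [Finsupp.prod_fintype _ _ (fun i => pow_zero _)]
  have h := SetLike.prod_pow_mem_graded 𝒜 (fun _ : Fin (n + 1) => (1 : ℤ)) x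
    (F := Finset.univ) (fun i => s i) (fun i _ => hx i)
  have e : ∑ i : Fin (n + 1), s i • (1 : ℤ) = (m : ℤ) := by
    rw [← hdeg, Finsupp.weight_apply, Finsupp.sum_fintype _ _ (fun i => by simp)]
    simp
  rwa [e] at h

/-- a degree argument: an element of `R_{m+1}` in the ideal generated by `F ⊆ R_1` is a
combination of elements of `F` with coefficients in `R_m`. -/
theorem mem_span_mul_of_mem_ideal_span {F : Set R} (hF : F ⊆ (𝒜 1 : Set R)) {m : ℤ} {r : R}
    (hr : r ∈ 𝒜 (m + 1)) (hrF : r ∈ Ideal.span F) :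
    r ∈ Submodule.span k {z | ∃ c ∈ 𝒜 m, ∃ f ∈ F, z = c * f} := by
  rw [Ideal.span, Submodule.mem_span_iff_exists_finset_subset] at hrF
  obtain ⟨c, t, htF, -, hsum⟩ := hrF
  have h1 : r = projL 𝒜 (m + 1) r := (projL_of_mem_same 𝒜 hr).symm
  rw [h1, ← hsum, map_sum]
  refine sum_mem fun f hf => ?_
  have hf1 : f ∈ 𝒜 1 := hF (htF hf)
  rw [smul_eq_mul, projL_apply, DirectSum.coe_decompose_mul_add_of_right_mem 𝒜 hf1]
  exact Submodule.subset_span ⟨_, SetLike.coe_mem _, f, htF hf, rfl⟩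

theorem isStd_of_span {n : ℕ} (x : Fin (n + 1) → R) (hx : ∀ i, x i ∈ 𝒜 1)
    (hpos : ∀ j : ℤ, j < 0 → 𝒜 j = ⊥) (h0 : 𝒜 0 = Submodule.span k {(1 : R)})
    (hirr : ∀ j : ℤ, 0 < j → ∀ r ∈ 𝒜 j, r ∈ Ideal.span (Set.range x)) : IsStd 𝒜 x := by
  refine ⟨hx, hpos, ?_⟩
  intro m
  induction m with
  | zero =>
    rw [homogeneousSubmodule_zero, Nat.cast_zero, h0, Submodule.one_eq_span, Submodule.map_span,
      Set.image_singleton]
    simp
  | succ m ih =>
    apply le_antisymm
    · rintro _ ⟨f, hf, rfl⟩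
      exact aeval_mem_of_isHomogeneous 𝒜 hx ((mem_homogeneousSubmodule _ _).1 hf)
    · intro r hr
      have hr' : r ∈ 𝒜 ((m : ℤ) + 1) := by exact_mod_cast hr
      have h1 := mem_span_mul_of_mem_ideal_span 𝒜 (F := Set.range x)
        (by rintro _ ⟨i, rfl⟩; exact hx i) hr' (hirr _ (by positivity) r hr)
      refine Submodule.span_le.2 ?_ h1
      rintro _ ⟨c, hc, _, ⟨i, rfl⟩, rfl⟩
      rw [← ih] at hc
      obtain ⟨g, hg, rfl⟩ := hc
      refine ⟨g * X i, ?_, ?_⟩
      · exact (mem_homogeneousSubmodule _ _).2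
          (((mem_homogeneousSubmodule _ _).1 hg).mul (isHomogeneous_X k i))
      · simp

/-- existence of a standard presentation. -/
theorem exists_isStd (hpos : ∀ j : ℤ, j < 0 → 𝒜 j = ⊥) (h0 : 𝒜 0 = Submodule.span k {(1 : R)})
    (hirr : Ideal.span (⋃ j ∈ Set.Ioi (0 : ℤ), (𝒜 j : Set R)) =
      Ideal.span ((𝒜 1 : Submodule k R) : Set R)) [Module.Finite k (𝒜 1)] :
    ∃ (n : ℕ) (x : Fin (n + 1) → R), IsStd 𝒜 x := by
  classical
  let r := Module.finrank k (𝒜 1)
  let b := Module.finBasis k (𝒜 1)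
  let x : Fin (r + 1) → R := fun i => if h : (i : ℕ) < r then (b ⟨i, h⟩ : R) else 0
  have hx : ∀ i, x i ∈ 𝒜 1 := by
    intro i
    dsimp only [x]
    split_ifs
    · exact SetLike.coe_mem _
    · exact zero_mem _
  have hspan : (𝒜 1 : Set R) ⊆ Ideal.span (Set.range x) := by
    intro y hy
    have h1 : (⟨y, hy⟩ : 𝒜 1) ∈ Submodule.span k (Set.range b) := by
      rw [b.span_eq]; trivial
    have h2 : y ∈ Submodule.span k (Set.range x) := by
      have h3 := Submodule.apply_mem_span_image_of_mem_span (𝒜 1).subtype h1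
      refine Submodule.span_mono ?_ h3
      rintro _ ⟨_, ⟨i, rfl⟩, rfl⟩
      refine ⟨⟨i, by omega⟩, ?_⟩
      dsimp only [x]
      rw [dif_pos i.2]
      rfl
    have h4 : Submodule.span k (Set.range x) ≤ (Ideal.span (Set.range x)).restrictScalars k :=
      Submodule.span_le.2 fun z hz => Ideal.subset_span hz
    exact h4 h2
  refine ⟨r, x, isStd_of_span 𝒜 x hx hpos h0 ?_⟩
  intro j hj y hy
  have h1 : y ∈ Ideal.span (⋃ j ∈ Set.Ioi (0 : ℤ), (𝒜 j : Set R)) :=
    Ideal.subset_span (Set.mem_biUnion (Set.mem_Ioi.2 hj) hy)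
  rw [hirr] at h1
  exact (Ideal.span_le.2 hspan) h1

theorem IsStd.aeval_surjective {n : ℕ} {x : Fin (n + 1) → R} (h : IsStd 𝒜 x) :
    Function.Surjective (aeval x : MvPolynomial (Fin (n + 1)) k →ₐ[k] R) := by
  intro r
  induction r using DirectSum.Decomposition.inductionOn 𝒜 with
  | zero => exact ⟨0, map_zero _⟩
  | add a b ha hb =>
    obtain ⟨f, rfl⟩ := ha
    obtain ⟨g, rfl⟩ := hb
    exact ⟨f + g, map_add _ _ _⟩
  | homogeneous a =>
    rename_i j
    obtain ⟨a, ha⟩ := a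
    change ∃ f, (aeval x) f = a
    rcases lt_or_ge j 0 with hj | hj
    · have : a = 0 := by
        rw [h.neg j hj] at ha
        exact (Submodule.mem_bot k).1 ha
      exact ⟨0, by rw [this, map_zero]⟩
    · obtain ⟨m, rfl⟩ := Int.eq_ofNat_of_zero_le hj
      rw [← h.map_eq m] at ha
      obtain ⟨f, -, hf⟩ := ha
      exact ⟨f, hf⟩

/-- `R_1` is finite dimensional for a graded algebra of finite type with `R_0 = k`, `R_+`
generated in degree one. -/
theorem finite_piece_one (h0 : 𝒜 0 = Submodule.span k {(1 : R)})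
    [Algebra.FiniteType k R] : Module.Finite k (𝒜 1) := by
  classical
  haveI : IsNoetherianRing R := Algebra.FiniteType.isNoetherianRing k R
  have hfg : (Submodule.span R ((𝒜 1 : Submodule k R) : Set R)).FG := IsNoetherian.noetherian _
  rw [Submodule.fg_span_iff_fg_span_finset_subset] at hfg
  obtain ⟨F, hF1, hF⟩ := hfg
  have hle : 𝒜 1 ≤ Submodule.span k (F : Set R) := by
    intro r hr
    have hr' : r ∈ 𝒜 ((0 : ℤ) + 1) := by simpa using hr
    have h1 : r ∈ Ideal.span (F : Set R) := by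
      rw [Ideal.span, ← hF]
      exact Submodule.subset_span hr
    have h2 := mem_span_mul_of_mem_ideal_span 𝒜 hF1 hr' h1
    refine Submodule.span_le.2 ?_ h2
    rintro _ ⟨c, hc, f, hf, rfl⟩
    rw [h0] at hc
    obtain ⟨a, rfl⟩ := Submodule.mem_span_singleton.1 hc
    rw [smul_mul_assoc, one_mul]
    exact Submodule.smul_mem _ _ (Submodule.subset_span hf)
  haveI : Module.Finite k (Submodule.span k (F : Set R)) :=
    Module.Finite.span_of_finite k (Finset.finite_toSet F)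
  exact Submodule.finiteDimensional_of_le hle

end Groth.Agent.Lib.Seat97.HilbStd
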