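import Mathlib
import Groth.Agent.Lib.Seat97HilbStd
import Groth.Agent.Lib.Seat91HilbMono
import Groth.Agent.Lib.Helper24CIHilb

/-!
# Seat67: a standard graded algebra of dimension `dim_k R_1` is a polynomial ring

`R` a Noetherian `ℤ`-graded `k`-algebra with `R_j = 0` for `j < 0`, `R_0 = k`, `R_+` generated by
`R_1`.

* `aeval_surjective_of_span`: a finite family spanning `R_1` generates `R` as a `k`-algebra;
* `aeval_injective_of_dim`: a surjection `k[X_1..X_s] → R` with `dim R = s` is injective;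
* `le_finrank_one`: `dim R ≤ dim_k R_1`;
* `exists_bijective`: if `dim_k R_1 = dim R = r` then `R ≅ k[X_1..X_r]` via a basis of `R_1`;
* `finrank_piece_of_injective`: in that case `dim_k R_m = C(d + m, m)` (`r = d + 1`).
-/

set_option autoImplicit false
set_option linter.unusedSectionVars false
set_option linter.style.haveILetI false

universe u

namespace Groth.Agent.Lib.Seat67.StdPoly

open MvPolynomial
open Groth.Agent.Lib.Seat97.HilbStd

variable {k : Type u} [Field k] {R : Type u} [CommRing R] [Algebra k R]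
  (𝒜 : ℤ → Submodule k R) [GradedAlgebra 𝒜]

theorem span_le_ideal_span (T : Set R) :
    (Submodule.span k T : Set R) ⊆ (Ideal.span T : Set R) := by
  intro z hz
  have h4 : Submodule.span k T ≤ (Ideal.span T).restrictScalars k :=
    Submodule.span_le.2 fun z hz => Ideal.subset_span hz
  exact h4 hz

/-- a finite family spanning `R_1` generates `R`. -/
theorem aeval_surjective_of_span {s : ℕ} (x : Fin s → R) (hx : ∀ i, x i ∈ 𝒜 1)
    (hpos : ∀ j : ℤ, j < 0 → 𝒜 j = ⊥) (h0 : 𝒜 0 = Submodule.span k {(1 : R)})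
    (hirr : Ideal.span (⋃ j ∈ Set.Ioi (0 : ℤ), (𝒜 j : Set R)) =
      Ideal.span ((𝒜 1 : Submodule k R) : Set R))
    (hspan : 𝒜 1 ≤ Submodule.span k (Set.range x)) :
    Function.Surjective (aeval x : MvPolynomial (Fin s) k →ₐ[k] R) := by
  have hx' : ∀ i, (Fin.cons 0 x : Fin (s + 1) → R) i ∈ 𝒜 1 := by
    intro i
    refine Fin.cases ?_ (fun j => ?_) i
    · rw [Fin.cons_zero]
      exact zero_mem _
    · rw [Fin.cons_succ]
      exact hx j
  have hstd : IsStd 𝒜 (Fin.cons 0 x : Fin (s + 1) → R) := by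
    refine isStd_of_span 𝒜 _ hx' hpos h0 ?_
    intro j hj y hy
    have h1 : y ∈ Ideal.span (⋃ j ∈ Set.Ioi (0 : ℤ), (𝒜 j : Set R)) :=
      Ideal.subset_span (Set.mem_biUnion (Set.mem_Ioi.2 hj) hy)
    rw [hirr] at h1
    refine (Ideal.span_le.2 ?_) h1
    intro z hz
    have hz' : z ∈ Submodule.span k (Set.range x) := hspan hz
    have h5 : z ∈ Ideal.span (Set.range x) := span_le_ideal_span _ hz'
    refine Ideal.span_mono ?_ h5
    rintro _ ⟨i, rfl⟩
    exact ⟨i.succ, by rw [Fin.cons_succ]⟩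
  have hsurj := hstd.aeval_surjective
  have h2 : Algebra.adjoin k (Set.range (Fin.cons 0 x : Fin (s + 1) → R)) = ⊤ := by
    rw [Algebra.adjoin_range_eq_range_aeval]
    exact (AlgHom.range_eq_top _).2 hsurj
  have h3 : Algebra.adjoin k (Set.range x) = ⊤ := by
    rw [eq_top_iff, ← h2]
    apply Algebra.adjoin_le
    rintro _ ⟨i, rfl⟩
    refine Fin.cases ?_ (fun j => ?_) i
    · rw [Fin.cons_zero]
      exact zero_mem _
    · rw [Fin.cons_succ]
      exact Algebra.subset_adjoin ⟨j, rfl⟩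
  rw [Algebra.adjoin_range_eq_range_aeval] at h3
  exact (AlgHom.range_eq_top _).1 h3

/-- a surjection from a polynomial ring in `dim R` variables is injective. -/
theorem aeval_injective_of_dim {s : ℕ} (x : Fin s → R)
    (hsurj : Function.Surjective (aeval x : MvPolynomial (Fin s) k →ₐ[k] R))
    (hdim : ringKrullDim R = (s : WithBot ℕ∞)) :
    Function.Injective (aeval x : MvPolynomial (Fin s) k →ₐ[k] R) := by
  rw [injective_iff_map_eq_zero]
  intro f hf
  by_contra hne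
  have hnz : f ∈ nonZeroDivisors (MvPolynomial (Fin s) k) := mem_nonZeroDivisors_of_ne_zero hne
  have h1 := ringKrullDim_quotient_succ_le_of_nonZeroDivisor hnz
  have hdimA : ringKrullDim (MvPolynomial (Fin s) k) = (s : WithBot ℕ∞) := by
    rw [MvPolynomial.ringKrullDim_of_isNoetherianRing, ringKrullDim_eq_zero_of_field, zero_add,
      Nat.card_eq_fintype_card, Fintype.card_fin]
  let g : MvPolynomial (Fin s) k ⧸ Ideal.span {f} →+* R :=
    Ideal.Quotient.lift (Ideal.span {f}) (aeval x : MvPolynomial (Fin s) k →ₐ[k] R).toRingHom (by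
      intro a ha
      obtain ⟨c, rfl⟩ := Ideal.mem_span_singleton'.1 ha
      show (aeval x) (c * f) = 0
      rw [map_mul, hf, mul_zero])
  have hg : Function.Surjective g := Ideal.Quotient.lift_surjective_of_surjective _ _ hsurj
  have h2 := ringKrullDim_le_of_surjective g hg
  rw [hdim] at h2
  rw [hdimA] at h1
  have h3 : (s : WithBot ℕ∞) + 1 ≤ (s : WithBot ℕ∞) := (add_le_add_left h2 1).trans h1
  have h4 : ((s + 1 : ℕ) : WithBot ℕ∞) ≤ ((s : ℕ) : WithBot ℕ∞) := by
    push_cast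
    exact h3
  have h5 : s + 1 ≤ s := by exact_mod_cast h4
  omega

variable [IsNoetherianRing R]

theorem exists_span_eq (h0 : 𝒜 0 = Submodule.span k {(1 : R)}) (s : ℕ)
    (h1 : Module.finrank k (𝒜 1) = s) :
    ∃ x : Fin s → R, (∀ i, x i ∈ 𝒜 1) ∧ 𝒜 1 ≤ Submodule.span k (Set.range x) := by
  haveI : Module.Finite k (𝒜 1) := Groth.Agent.Lib.Seat91.HilbMono.finite_piece 𝒜 h0 1
  let b := Module.finBasisOfFinrankEq k (𝒜 1) h1
  refine ⟨fun i => (b i : R), fun i => SetLike.coe_mem _, ?_⟩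
  intro y hy
  have h2 : (⟨y, hy⟩ : 𝒜 1) ∈ Submodule.span k (Set.range b) := by
    rw [b.span_eq]; trivial
  have h3 := Submodule.apply_mem_span_image_of_mem_span (𝒜 1).subtype h2
  refine Submodule.span_mono ?_ h3
  rintro _ ⟨_, ⟨i, rfl⟩, rfl⟩
  exact ⟨i, rfl⟩

/-- `dim R ≤ dim_k R_1`. -/
theorem le_finrank_one (hpos : ∀ j : ℤ, j < 0 → 𝒜 j = ⊥) (h0 : 𝒜 0 = Submodule.span k {(1 : R)})
    (hirr : Ideal.span (⋃ j ∈ Set.Ioi (0 : ℤ), (𝒜 j : Set R)) =
      Ideal.span ((𝒜 1 : Submodule k R) : Set R)) :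
    ringKrullDim R ≤ ((Module.finrank k (𝒜 1) : ℕ) : WithBot ℕ∞) := by
  obtain ⟨x, hx, hspan⟩ := exists_span_eq 𝒜 h0 _ rfl
  have hsurj := aeval_surjective_of_span 𝒜 x hx hpos h0 hirr hspan
  have h2 := ringKrullDim_le_of_surjective
    ((aeval x : MvPolynomial (Fin (Module.finrank k (𝒜 1))) k →ₐ[k] R) :
      MvPolynomial (Fin (Module.finrank k (𝒜 1))) k →+* R) hsurj
  refine h2.trans (le_of_eq ?_)
  rw [MvPolynomial.ringKrullDim_of_isNoetherianRing, ringKrullDim_eq_zero_of_field, zero_add,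
    Nat.card_eq_fintype_card, Fintype.card_fin]

/-- if `dim_k R_1 = dim R = r`, a basis of `R_1` identifies `R` with the polynomial ring. -/
theorem exists_bijective (hpos : ∀ j : ℤ, j < 0 → 𝒜 j = ⊥)
    (h0 : 𝒜 0 = Submodule.span k {(1 : R)})
    (hirr : Ideal.span (⋃ j ∈ Set.Ioi (0 : ℤ), (𝒜 j : Set R)) =
      Ideal.span ((𝒜 1 : Submodule k R) : Set R))
    (r : ℕ) (hr : ringKrullDim R = (r : WithBot ℕ∞)) (h1 : Module.finrank k (𝒜 1) = r) :
    ∃ x : Fin r → R, (∀ i, x i ∈ 𝒜 1) ∧ 𝒜 1 ≤ Submodule.span k (Set.range x) ∧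
      Function.Bijective (aeval x : MvPolynomial (Fin r) k →ₐ[k] R) := by
  obtain ⟨x, hx, hspan⟩ := exists_span_eq 𝒜 h0 r h1
  have hsurj := aeval_surjective_of_span 𝒜 x hx hpos h0 hirr hspan
  exact ⟨x, hx, hspan, aeval_injective_of_dim x hsurj hr, hsurj⟩

/-- a family of `d + 1` elements spanning `R_1` is a standard presentation. -/
theorem isStd_of_span' {d : ℕ} (x : Fin (d + 1) → R) (hx : ∀ i, x i ∈ 𝒜 1)
    (hpos : ∀ j : ℤ, j < 0 → 𝒜 j = ⊥) (h0 : 𝒜 0 = Submodule.span k {(1 : R)})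
    (hirr : Ideal.span (⋃ j ∈ Set.Ioi (0 : ℤ), (𝒜 j : Set R)) =
      Ideal.span ((𝒜 1 : Submodule k R) : Set R))
    (hspan : 𝒜 1 ≤ Submodule.span k (Set.range x)) : IsStd 𝒜 x := by
  refine isStd_of_span 𝒜 x hx hpos h0 ?_
  intro j hj y hy
  have h1 : y ∈ Ideal.span (⋃ j ∈ Set.Ioi (0 : ℤ), (𝒜 j : Set R)) :=
    Ideal.subset_span (Set.mem_biUnion (Set.mem_Ioi.2 hj) hy)
  rw [hirr] at h1
  refine (Ideal.span_le.2 ?_) h1
  intro z hz
  exact span_le_ideal_span _ (hspan hz)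

omit [IsNoetherianRing R] in
/-- the Hilbert function of a polynomial ring. -/
theorem finrank_piece_of_injective {d : ℕ} {x : Fin (d + 1) → R} (h : IsStd 𝒜 x)
    (hinj : Function.Injective (aeval x : MvPolynomial (Fin (d + 1)) k →ₐ[k] R)) (m : ℕ) :
    Module.finrank k (𝒜 (m : ℤ)) = (d + m).choose m := by
  rw [← h.map_eq m]
  have e := Submodule.equivMapOfInjective
    (aeval x : MvPolynomial (Fin (d + 1)) k →ₐ[k] R).toLinearMap hinj
    (homogeneousSubmodule (Fin (d + 1)) k m)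
  rw [← e.finrank_eq, Groth.Agent.Lib.Helper24CIHilb.finrank_homog k (d + 1) m]
  congr 1
  omega

end Groth.Agent.Lib.Seat67.StdPoly
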