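import Mathlib
import Groth.Agent.Lib.Seat91GrIrr

/-!
# Seat67: the embedding dimension at the vertex of a positively graded algebra

`R` a `ℤ`-graded `k`-algebra with `R_j = 0` for `j < 0` and `R_0 = k`, `p = R_+` its irrelevant
(maximal) ideal.

* `decompose_one_of_mem_sq`: elements of `p ^ 2` have no component of degree one;
* `finrank_one_le_spanFinrank`: `dim_k R_1 ≤ μ(p R_p)` (number of generators of the maximal ideal of
  the localization at `p`).
-/

set_option autoImplicit false
set_option linter.unusedSectionVars false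
set_option linter.style.haveILetI false

universe u

namespace Groth.Agent.Lib.Seat67.StdReg

open DirectSum
open Groth.Agent.Lib.Seat91.GrIrr

variable {k : Type u} [Field k] {R : Type u} [CommRing R] [Algebra k R]
  (𝒜 : ℤ → Submodule k R) [GradedAlgebra 𝒜]
  (hpos : ∀ j : ℤ, j < 0 → 𝒜 j = ⊥)

include hpos in
theorem decompose_nonpos_of_mem_irr {a : R} (ha : a ∈ irr 𝒜) {i : ℤ} (hi : i ≤ 0) :
    (decompose 𝒜 a i : R) = 0 := by
  rcases lt_or_eq_of_le hi with h | rfl
  · have : (decompose 𝒜 a i : R) ∈ (⊥ : Submodule k R) := by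
      rw [← hpos i h]; exact SetLike.coe_mem _
    exact (Submodule.mem_bot k).1 this
  · exact decompose_zero_of_mem_irr 𝒜 hpos ha

include hpos in
theorem decompose_one_mul {a b : R} (ha : a ∈ irr 𝒜) (hb : b ∈ irr 𝒜) :
    (decompose 𝒜 (a * b) 1 : R) = 0 := by
  classical
  rw [DirectSum.decompose_mul, DirectSum.coe_mul_apply]
  refine Finset.sum_eq_zero fun ij hij => ?_
  rw [Finset.mem_filter] at hij
  have hsum : ij.1 + ij.2 = 1 := hij.2
  rcases le_or_gt ij.1 0 with h | h
  · rw [decompose_nonpos_of_mem_irr 𝒜 hpos ha h, zero_mul]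
  · have h2 : ij.2 ≤ 0 := by omega
    rw [decompose_nonpos_of_mem_irr 𝒜 hpos hb h2, mul_zero]

include hpos in
/-- elements of `(R_+)^2` have no component of degree one. -/
theorem decompose_one_of_mem_sq {z : R} (hz : z ∈ irr 𝒜 ^ 2) : (decompose 𝒜 z 1 : R) = 0 := by
  rw [pow_two] at hz
  refine Submodule.smul_induction_on hz ?_ ?_
  · intro a ha b hb
    exact decompose_one_mul 𝒜 hpos ha hb
  · intro x y hx hy
    rw [decompose_add, DirectSum.add_apply, Submodule.coe_add, hx, hy, add_zero]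

include hpos in
theorem eq_zero_of_mem_one_of_mem_sq {z : R} (h1 : z ∈ 𝒜 1) (hz : z ∈ irr 𝒜 ^ 2) : z = 0 := by
  rw [← DirectSum.decompose_of_mem_same 𝒜 h1]
  exact decompose_one_of_mem_sq 𝒜 hpos hz

variable (h0 : 𝒜 0 = Submodule.span k {(1 : R)})

section Main

open IsLocalization IsLocalization.AtPrime

variable (p : Ideal R) [hpmax : p.IsMaximal] (hp : p = irr 𝒜)

include hpos h0 hp in
/-- `dim_k R_1` is at most the number of generators of the maximal ideal of `R_p`, `p = R_+`. -/
theorem finrank_one_le_spanFinrank [IsNoetherianRing R] [Module.Finite k (𝒜 1)] :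
    Module.finrank k (𝒜 1) ≤
      (IsLocalRing.maximalIdeal (Localization.AtPrime p)).spanFinrank := by
  classical
  set S := Localization.AtPrime p with hS
  set mS := IsLocalRing.maximalIdeal S with hmS
  have hfg : (mS : Submodule S S).FG := IsNoetherian.noetherian _
  obtain ⟨gs, hcard, hspan⟩ := Submodule.FG.exists_span_finset_card_eq_spanFinrank hfg
  -- the ring map `S → R / p^2`
  let ψ : S →+* R ⧸ p ^ 2 :=
    ((equivQuotMaximalIdealPow p S 2).symm : (S ⧸ mS ^ 2) →+* R ⧸ p ^ 2).comp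
      (Ideal.Quotient.mk (mS ^ 2))
  have hψ : ∀ a : R, ψ (algebraMap R S a) = Ideal.Quotient.mk (p ^ 2) a := by
    intro a
    show (equivQuotMaximalIdealPow p S 2).symm (Ideal.Quotient.mk (mS ^ 2) (algebraMap R S a)) = _
    rw [AlgEquiv.symm_apply_eq, equivQuotMaximalIdealPow_apply_mk]
  -- `ψ` maps the maximal ideal into the image of `p`
  have hψm : ∀ t : S, t ∈ mS → ∃ b : R, b ∈ p ∧ ψ t = Ideal.Quotient.mk (p ^ 2) b := by
    intro t ht
    obtain ⟨a, u, rfl⟩ := IsLocalization.exists_mk'_eq p.primeCompl t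
    have ha : a ∈ p := (IsLocalization.AtPrime.mk'_mem_maximal_iff S p a u).1 ht
    have hu : IsUnit (Ideal.Quotient.mk (p ^ 2) (u : R)) :=
      Ideal.Quotient.isUnit_mk_pow_of_notMem _ (Ideal.mem_primeCompl_iff.mp u.prop)
    have hmul : ψ (IsLocalization.mk' S a u) * Ideal.Quotient.mk (p ^ 2) (u : R) =
        Ideal.Quotient.mk (p ^ 2) a := by
      rw [← hψ (u : R), ← map_mul, IsLocalization.mk'_spec, hψ]
    obtain ⟨v, hv⟩ := hu
    obtain ⟨w, hw⟩ := Ideal.Quotient.mk_surjective (I := p ^ 2) ((v⁻¹ : (R ⧸ p ^ 2)ˣ) : R ⧸ p ^ 2)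
    refine ⟨a * w, Ideal.mul_mem_right _ _ ha, ?_⟩
    rw [map_mul, hw, ← hmul, ← hv, mul_assoc, Units.mul_inv, mul_one]
  -- the finite-dimensional space spanned by the images of the generators
  let W : Submodule k (R ⧸ p ^ 2) := Submodule.span k ((gs.image ψ : Finset (R ⧸ p ^ 2)) : Set _)
  have hWcard : Module.finrank k W ≤ gs.card :=
    (finrank_span_finset_le_card _).trans Finset.card_image_le
  -- the map `R_1 → R / p^2`
  let lam : 𝒜 1 →ₗ[k] R ⧸ p ^ 2 :=
    (Ideal.Quotient.mkₐ k (p ^ 2)).toLinearMap.comp (𝒜 1).subtype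
  have hlam : ∀ v : 𝒜 1, lam v = Ideal.Quotient.mk (p ^ 2) (v : R) := fun _ => rfl
  have hinj : Function.Injective lam := by
    rw [injective_iff_map_eq_zero]
    intro v hv
    rw [hlam, Ideal.Quotient.eq_zero_iff_mem, hp] at hv
    exact Subtype.ext (eq_zero_of_mem_one_of_mem_sq 𝒜 hpos v.2 hv)
  have hrange : LinearMap.range lam ≤ W := by
    rintro _ ⟨v, rfl⟩
    rw [hlam]
    have hvp : (v : R) ∈ p := by
      rw [hp]
      exact mem_irr_of_mem 𝒜 one_pos v.2
    have hvm : algebraMap R S (v : R) ∈ mS :=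
      (IsLocalization.AtPrime.to_map_mem_maximal_iff S p (v : R)).2 hvp
    rw [← hspan] at hvm
    obtain ⟨c, hc⟩ := Submodule.mem_span_finset'.1 hvm
    rw [← hψ, ← hc, map_sum]
    refine Submodule.sum_mem _ fun t _ => ?_
    rw [smul_eq_mul, map_mul]
    obtain ⟨a, ha⟩ := Ideal.Quotient.mk_surjective (I := p ^ 2) (ψ (c t))
    obtain ⟨l, hl⟩ := exists_decompose_zero_eq 𝒜 h0 a
    have ha' : a - algebraMap k R l ∈ p := by
      rw [hp, ← hl]
      exact sub_decompose_zero_mem_irr 𝒜 hpos a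
    have htm : (t : S) ∈ mS := by
      rw [← hspan]
      exact Submodule.subset_span t.2
    obtain ⟨b, hb, hbt⟩ := hψm t htm
    have hzero : Ideal.Quotient.mk (p ^ 2) ((a - algebraMap k R l) * b) = 0 := by
      rw [Ideal.Quotient.eq_zero_iff_mem, pow_two]
      exact Ideal.mul_mem_mul ha' hb
    have e : ψ (c t) * ψ (t : S) = l • ψ (t : S) := by
      rw [← ha, hbt, Algebra.smul_def, ← map_mul]
      have e1 : algebraMap k (R ⧸ p ^ 2) l = Ideal.Quotient.mk (p ^ 2) (algebraMap k R l) := rfl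
      rw [e1, ← map_mul, ← sub_eq_zero, ← map_sub, ← sub_mul]
      exact hzero
    rw [e]
    refine Submodule.smul_mem _ _ (Submodule.subset_span ?_)
    exact Finset.mem_coe.2 (Finset.mem_image_of_mem ψ t.2)
  haveI : Module.Finite k W := Module.Finite.span_of_finite k (Finset.finite_toSet _)
  calc Module.finrank k (𝒜 1) = Module.finrank k (LinearMap.range lam) :=
        (LinearMap.finrank_range_of_inj hinj).symm
    _ ≤ Module.finrank k W := Submodule.finrank_mono hrange
    _ ≤ gs.card := hWcard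
    _ = mS.spanFinrank := hcard

end Main

end Groth.Agent.Lib.Seat67.StdReg
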