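import Mathlib
import Groth.Agent.Lib.Seat67HilbPoly
import Groth.Agent.Lib.Seat67StdPoly
import Groth.Agent.Lib.Seat67StdReg

/-!
# Seat67: Hilbert function characterisation of polynomial rings among standard graded algebras

`R` a Noetherian standard graded algebra over a field `k = R_0` of dimension `r`, `H(n) = dim_k R_n`
and `P` its Hilbert polynomial.

* `nonempty_ringEquiv_of_eval_eq`: if `P(n) = H(n)` for all `n > -r` then `R ≅ k[X_1..X_r]`;
* `eval_eq_of_isRegularRing`: if `R` is a regular ring then `P(n) = H(n)` for all `n > -r` and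
  `P(-r) ≠ H(-r)`.
-/

set_option autoImplicit false
set_option linter.unusedSectionVars false
set_option linter.style.haveILetI false

universe u

namespace Groth.Agent.Lib.Seat67.AInvPure

open Polynomial
open Groth.Agent.Lib.Seat97.HilbStd Groth.Agent.Lib.Seat97.HilbMod
open Groth.Agent.Lib.Helper4.HilbFun
open Groth.Agent.Lib.Seat67.HilbPoly Groth.Agent.Lib.Seat67.StdPoly Groth.Agent.Lib.Seat67.StdReg
open Groth.Agent.Lib.Seat91.GrIrr

variable {k : Type u} [Field k] {R : Type u} [CommRing R] [Algebra k R]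
  (𝒜 : ℤ → Submodule k R) [GradedAlgebra 𝒜] [IsNoetherianRing R] [Nontrivial R]
  (hpos : ∀ j : ℤ, j < 0 → 𝒜 j = ⊥) (h0 : 𝒜 0 = Submodule.span k {(1 : R)})
  (hirr : Ideal.span (⋃ j ∈ Set.Ioi (0 : ℤ), (𝒜 j : Set R)) =
    Ideal.span ((𝒜 1 : Submodule k R) : Set R))
  (r : ℕ) (hr : ringKrullDim R = (r : WithBot ℕ∞))
  (P : ℚ[X]) (N : ℕ)
  (hP : ∀ m : ℕ, N ≤ m → P.eval (m : ℚ) = (Module.finrank k (𝒜 (m : ℤ)) : ℚ))

include h0 in
theorem finrank_zero : Module.finrank k (𝒜 0) = 1 := by
  rw [h0]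
  exact finrank_span_singleton one_ne_zero

include hpos in
theorem finrank_neg {j : ℤ} (hj : j < 0) : Module.finrank k (𝒜 j) = 0 := by
  rw [hpos j hj]
  exact finrank_bot k R

include hpos h0 hirr in
theorem exists_std : ∃ (n : ℕ) (x : Fin (n + 1) → R), IsStd 𝒜 x := by
  haveI : Module.Finite k (𝒜 1) := Groth.Agent.Lib.Seat91.HilbMono.finite_piece 𝒜 h0 1
  exact exists_isStd 𝒜 hpos h0 hirr

include hpos h0 hirr hr hP in
/-- if the Hilbert polynomial agrees with the Hilbert function in all degrees `> -dim R`, then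
`R` is a polynomial ring. -/
theorem nonempty_ringEquiv_of_eval_eq
    (hev : ∀ j : ℤ, -(r : ℤ) < j → P.eval (j : ℚ) = (Module.finrank k (𝒜 j) : ℚ)) :
    Nonempty (R ≃+* MvPolynomial (Fin r) k) := by
  obtain ⟨n, x, hx⟩ := exists_std 𝒜 hpos h0 hirr
  have h1 : Module.finrank k (𝒜 1) = r := by
    rcases r with _ | d
    · have hP0 : P = 0 := eq_zero_of_dim_le_zero 𝒜 hx (by rw [hr]; rfl) P N hP
      have := hev 1 (by norm_num)
      rw [hP0, eval_zero] at this
      exact_mod_cast this.symm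
    · have hdeg : P.natDegree ≤ d := natDegree_le_of_dim_le 𝒜 hx d (le_of_eq hr) P N hP
      have hPeq : P = P0 d := by
        refine eq_P0 P d hdeg ?_ ?_
        · have := hev 0 (by push_cast; omega)
          rw [finrank_zero 𝒜 h0] at this
          simpa using this
        · intro j hj1 hjd
          have := hev (-(j : ℤ)) (by push_cast; omega)
          rw [finrank_neg 𝒜 hpos (by omega)] at this
          simpa using this
      have := hev 1 (by push_cast; omega)
      rw [hPeq] at this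
      have h2 := P0_eval d 1
      simp only [Nat.cast_one] at h2
      have h3 : ((1 : ℤ) : ℚ) = 1 := by norm_num
      rw [h3, h2, Nat.choose_one_right] at this
      exact_mod_cast this.symm
  obtain ⟨y, -, -, hbij⟩ := exists_bijective 𝒜 hpos h0 hirr r hr h1
  exact ⟨(RingEquiv.ofBijective
    ((MvPolynomial.aeval y : MvPolynomial (Fin r) k →ₐ[k] R) : MvPolynomial (Fin r) k →+* R)
    hbij).symm⟩

include hpos h0 hirr hr in
/-- for a regular ring, `dim_k R_1 = dim R`. -/
theorem finrank_one_eq_of_isRegularRing [IsRegularRing R] : Module.finrank k (𝒜 1) = r := by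
  haveI : Module.Finite k (𝒜 1) := Groth.Agent.Lib.Seat91.HilbMono.finite_piece 𝒜 h0 1
  haveI hmax : (irr 𝒜).IsMaximal := irr_isMaximal 𝒜 hpos h0
  have hle := finrank_one_le_spanFinrank 𝒜 hpos h0 (irr 𝒜) rfl
  have hreg : IsRegularLocalRing (Localization.AtPrime (irr 𝒜)) := inferInstance
  have h1 := hreg.spanFinrank_maximalIdeal
  have h2 : ringKrullDim (Localization.AtPrime (irr 𝒜)) ≤ (r : WithBot ℕ∞) := by
    rw [IsLocalization.AtPrime.ringKrullDim_eq_height (irr 𝒜) (Localization.AtPrime (irr 𝒜)),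
      ← hr]
    exact Ideal.height_le_ringKrullDim_of_isPrime
  rw [← h1] at h2
  have h3 : (IsLocalRing.maximalIdeal (Localization.AtPrime (irr 𝒜))).spanFinrank ≤ r := by
    exact_mod_cast h2
  have h4 := le_finrank_one 𝒜 hpos h0 hirr
  rw [hr] at h4
  have h5 : r ≤ Module.finrank k (𝒜 1) := by exact_mod_cast h4
  omega

include hpos h0 hirr hr hP in
/-- for a regular standard graded algebra of dimension `r`, `P(n) = H(n)` exactly for `n > -r`
(and not for `n = -r`). -/
theorem eval_eq_of_isRegularRing [IsRegularRing R] :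
    (∀ j : ℤ, -(r : ℤ) < j → P.eval (j : ℚ) = (Module.finrank k (𝒜 j) : ℚ)) ∧
      P.eval ((-(r : ℤ) : ℤ) : ℚ) ≠ (Module.finrank k (𝒜 (-(r : ℤ))) : ℚ) := by
  have h1 := finrank_one_eq_of_isRegularRing 𝒜 hpos h0 hirr r hr
  obtain ⟨n, x, hx⟩ := exists_std 𝒜 hpos h0 hirr
  obtain ⟨y, hy, hyspan, hbij⟩ := exists_bijective 𝒜 hpos h0 hirr r hr h1
  rcases r with _ | d
  · have hP0 : P = 0 := eq_zero_of_dim_le_zero 𝒜 hx (by rw [hr]; rfl) P N hP
    haveI : Module.Finite k (𝒜 1) := Groth.Agent.Lib.Seat91.HilbMono.finite_piece 𝒜 h0 1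
    have hbot : 𝒜 1 = ⊥ := Submodule.finrank_eq_zero.1 h1
    have hirr0 : irr 𝒜 = ⊥ := by
      unfold irr
      rw [hirr, hbot]
      simp
    refine ⟨fun j hj => ?_, ?_⟩
    · have hj' : 0 < j := by simpa using hj
      have hAj : 𝒜 j = ⊥ := by
        rw [eq_bot_iff]
        intro a ha
        have : a ∈ irr 𝒜 := mem_irr_of_mem 𝒜 hj' ha
        rw [hirr0] at this
        exact (Submodule.mem_bot k).2 ((Submodule.mem_bot R).1 this)
      rw [hP0, eval_zero, hAj, finrank_bot]
      simp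
    · rw [hP0, eval_zero]
      have e : (-((0 : ℕ) : ℤ)) = 0 := by simp
      rw [e, finrank_zero 𝒜 h0]
      norm_num
  · have hstd : IsStd 𝒜 y := isStd_of_span' 𝒜 y hy hpos h0 hirr hyspan
    have hH : ∀ m : ℕ, (Module.finrank k (𝒜 (m : ℤ)) : ℚ) = (P0 d).eval (m : ℚ) := by
      intro m
      rw [finrank_piece_of_injective 𝒜 hstd hbij.1 m, P0_eval]
    have hPeq : P = P0 d := by
      refine eq_of_eval_eq P (P0 d) N fun m hm => ?_
      rw [hP m hm, hH m]
    refine ⟨fun j hj => ?_, ?_⟩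
    · rcases lt_or_ge j 0 with hj0 | hj0
      · obtain ⟨i, hi⟩ : ∃ i : ℕ, j = -(i : ℤ) := ⟨j.natAbs, by omega⟩
        subst hi
        have hi1 : 1 ≤ i := by omega
        have hid : i ≤ d := by push_cast at hj; omega
        rw [hPeq, finrank_neg 𝒜 hpos hj0]
        have := P0_eval_neg d i hi1 hid
        push_cast
        rw [this]
      · obtain ⟨m, rfl⟩ := Int.eq_ofNat_of_zero_le hj0
        rw [hH m, hPeq]
        norm_num
    · rw [hPeq, finrank_neg 𝒜 hpos (by push_cast; omega)]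
      have := P0_eval_neg_succ_ne_zero d
      push_cast at this ⊢
      exact this

end Groth.Agent.Lib.Seat67.AInvPure
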