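import Groth.Agent.Lib.Helper5GrLoc
import Groth.Agent.Lib.Helper5CMLocusOpen
import Groth.Agent.Lib.Helper28CMFib1

set_option autoImplicit false

/-!
# Graded local–global principle for Cohen–Macaulayness (seat 67)

* `zgr 𝒜`: an `ℕ`-grading regarded as a `ℤ`-grading (by additive subgroups).
* `qgr ℬ J`: the quotient grading on `A ⧸ J` for a homogeneous ideal `J`.
* `isCohenMacaulayRing_of_forall_homogeneous_int`: a Noetherian `ℤ`-graded ring which is
  Cohen–Macaulay at all homogeneous primes is Cohen–Macaulay.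
-/

universe u v

open DirectSum

namespace Groth.Agent.Lib.Seat67.GrCM

section Zgr

variable {A : Type u} [CommRing A] {σ : Type v} [SetLike σ A] [AddSubgroupClass σ A]
  (𝒜 : ℕ → σ)

/-- An `ℕ`-grading regarded as a `ℤ`-grading. -/
def zgr : ℤ → AddSubgroup A
  | Int.ofNat n => AddSubgroup.ofClass (𝒜 n)
  | Int.negSucc _ => ⊥

theorem mem_zgr_natCast {n : ℕ} {a : A} : a ∈ zgr 𝒜 (n : ℤ) ↔ a ∈ 𝒜 n := Iff.rfl

theorem mem_zgr_negSucc {n : ℕ} {a : A} : a ∈ zgr 𝒜 (Int.negSucc n) ↔ a = 0 :=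
  AddSubgroup.mem_bot

variable [GradedRing 𝒜]

instance : SetLike.GradedMonoid (zgr 𝒜) where
  one_mem := (SetLike.GradedOne.one_mem : (1 : A) ∈ 𝒜 0)
  mul_mem := by
    rintro (i | i) (j | j) a b ha hb
    · exact (SetLike.mul_mem_graded (A := 𝒜) ha hb : a * b ∈ 𝒜 (i + j))
    · rw [(mem_zgr_negSucc 𝒜).mp hb, mul_zero]; exact zero_mem _
    · rw [(mem_zgr_negSucc 𝒜).mp ha, zero_mul]; exact zero_mem _
    · rw [(mem_zgr_negSucc 𝒜).mp ha, zero_mul]; exact zero_mem _

/-- The comparison map on direct sums. -/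
def zmap : (⨁ n, 𝒜 n) →+ ⨁ i, zgr 𝒜 i :=
  DirectSum.toAddMonoid fun n =>
    (DirectSum.of (fun i => zgr 𝒜 i) (n : ℤ)).comp
      ({ toFun := fun x => ⟨x.1, x.2⟩
         map_zero' := rfl
         map_add' := fun _ _ => rfl } : 𝒜 n →+ zgr 𝒜 (n : ℤ))

theorem zmap_of (n : ℕ) (x : 𝒜 n) :
    zmap 𝒜 (DirectSum.of (fun n => 𝒜 n) n x) =
      DirectSum.of (fun i => zgr 𝒜 i) (n : ℤ) ⟨x.1, x.2⟩ := by
  unfold zmap
  rw [DirectSum.toAddMonoid_of]
  rfl

theorem coe_comp_zmap :
    (DirectSum.coeAddMonoidHom (zgr 𝒜)).comp (zmap 𝒜) = DirectSum.coeAddMonoidHom 𝒜 := by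
  apply DirectSum.addHom_ext
  intro n x
  rw [AddMonoidHom.comp_apply, zmap_of, DirectSum.coeAddMonoidHom_of, DirectSum.coeAddMonoidHom_of]

instance : DirectSum.Decomposition (zgr 𝒜) :=
  DirectSum.Decomposition.ofAddHom (zgr 𝒜)
    ((zmap 𝒜).comp (DirectSum.decomposeAddEquiv 𝒜).toAddMonoidHom)
    (by
      rw [← AddMonoidHom.comp_assoc, coe_comp_zmap]
      ext a
      simp only [AddMonoidHom.comp_apply, AddMonoidHom.id_apply]
      exact (DirectSum.decompose 𝒜).left_inv a)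
    (by
      apply DirectSum.addHom_ext
      rintro (n | n) ⟨x, hx⟩
      · simp only [AddMonoidHom.comp_apply, DirectSum.coeAddMonoidHom_of, AddMonoidHom.id_apply]
        change zmap 𝒜 (DirectSum.decompose 𝒜 x) = _
        rw [DirectSum.decompose_of_mem 𝒜 (hx : x ∈ 𝒜 n), zmap_of]
        rfl
      · have h0 : x = 0 := (mem_zgr_negSucc 𝒜).mp hx
        subst h0
        have : (⟨0, hx⟩ : zgr 𝒜 (Int.negSucc n)) = 0 := rfl
        rw [this, map_zero, map_zero, map_zero])

instance : GradedRing (zgr 𝒜) where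

theorem decompose_zgr (a : A) :
    DirectSum.decompose (zgr 𝒜) a = zmap 𝒜 (DirectSum.decompose 𝒜 a) := rfl

theorem zmap_apply_natCast (x : ⨁ n, 𝒜 n) (n : ℕ) : ((zmap 𝒜 x (n : ℤ) : zgr 𝒜 (n : ℤ)) : A) = x n := by
  classical
  induction x using DirectSum.induction_on with
  | zero => simp
  | of m y =>
    rw [zmap_of]
    by_cases h : m = n
    · subst h
      rw [DirectSum.of_eq_same, DirectSum.of_eq_same]
    · rw [DirectSum.of_eq_of_ne _ _ _ (by exact_mod_cast Ne.symm h),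
        DirectSum.of_eq_of_ne _ _ _ (Ne.symm h)]
      rfl
  | add x y hx hy =>
    rw [map_add, DirectSum.add_apply, DirectSum.add_apply, AddSubgroup.coe_add, hx, hy]
    rfl

theorem decompose_zgr_natCast (a : A) (n : ℕ) :
    (DirectSum.decompose (zgr 𝒜) a (n : ℤ) : A) = DirectSum.decompose 𝒜 a n := by
  rw [decompose_zgr, zmap_apply_natCast]

theorem decompose_zgr_negSucc (a : A) (n : ℕ) :
    (DirectSum.decompose (zgr 𝒜) a (Int.negSucc n) : A) = 0 :=
  (mem_zgr_negSucc 𝒜).mp (DirectSum.decompose (zgr 𝒜) a (Int.negSucc n)).2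

theorem isHomogeneous_zgr_iff (I : Ideal A) : I.IsHomogeneous (zgr 𝒜) ↔ I.IsHomogeneous 𝒜 := by
  constructor
  · intro h n r hr
    rw [← decompose_zgr_natCast]
    exact h (n : ℤ) hr
  · rintro h (n | n) r hr
    · change (DirectSum.decompose (zgr 𝒜) r (n : ℤ) : A) ∈ I
      rw [decompose_zgr_natCast]
      exact h n hr
    · rw [decompose_zgr_negSucc]
      exact zero_mem _

end Zgr

section Quot

variable {ι : Type*} [DecidableEq ι] [AddMonoid ι] {A : Type u} [CommRing A]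
  (ℬ : ι → AddSubgroup A) [GradedRing ℬ] (J : Ideal A)

/-- The quotient grading on `A ⧸ J`. -/
def qgr (i : ι) : AddSubgroup (A ⧸ J) := (ℬ i).map (Ideal.Quotient.mk J).toAddMonoidHom

theorem mem_qgr (i : ι) (b : A ⧸ J) : b ∈ qgr ℬ J i ↔ ∃ a ∈ ℬ i, Ideal.Quotient.mk J a = b :=
  Iff.rfl

theorem mk_mem_qgr {i : ι} {a : A} (ha : a ∈ ℬ i) : Ideal.Quotient.mk J a ∈ qgr ℬ J i :=
  ⟨a, ha, rfl⟩

instance : SetLike.GradedMonoid (qgr ℬ J) where
  one_mem := ⟨1, SetLike.GradedOne.one_mem, map_one (Ideal.Quotient.mk J)⟩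
  mul_mem := by
    rintro i j _ _ ⟨a, ha, rfl⟩ ⟨b, hb, rfl⟩
    exact ⟨a * b, SetLike.mul_mem_graded ha hb, map_mul (Ideal.Quotient.mk J) a b⟩

theorem isInternal_qgr (hJ : J.IsHomogeneous ℬ) : DirectSum.IsInternal (qgr ℬ J) := by
  classical
  constructor
  · rw [injective_iff_map_eq_zero]
    intro z hz
    have hch : ∀ n, ∃ a ∈ ℬ n, Ideal.Quotient.mk J a = (z n : A ⧸ J) := fun n => (z n).2
    choose a ha hza using hch
    have h1 : z = ∑ n ∈ z.support, DirectSum.of (fun n => qgr ℬ J n) n (z n) :=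
      (DirectSum.sum_support_of z).symm
    have h2 : Ideal.Quotient.mk J (∑ n ∈ z.support, a n) = 0 := by
      rw [map_sum, ← hz]
      conv_rhs => rw [h1]
      rw [map_sum]
      refine Finset.sum_congr rfl fun n _ => ?_
      rw [DirectSum.coeAddMonoidHom_of, hza]
    rw [Ideal.Quotient.eq_zero_iff_mem] at h2
    have h3 : ∀ n ∈ z.support, a n ∈ J := by
      intro n hn
      have := hJ n h2
      rw [DirectSum.decompose_sum, DFinsupp.finsetSum_apply, AddSubmonoidClass.coe_finsetSum,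
        Finset.sum_eq_single n] at this
      · rwa [DirectSum.decompose_of_mem_same ℬ (ha n)] at this
      · intro m _ hmn
        rw [DirectSum.decompose_of_mem_ne ℬ (ha m) hmn]
      · intro h; exact absurd hn h
    rw [h1]
    refine Finset.sum_eq_zero fun n hn => ?_
    have : z n = 0 := by
      apply Subtype.ext
      rw [← hza, Ideal.Quotient.eq_zero_iff_mem.2 (h3 n hn)]
      rfl
    rw [this, map_zero]
  · intro b
    obtain ⟨a, rfl⟩ := Ideal.Quotient.mk_surjective b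
    refine ⟨∑ n ∈ (DirectSum.decompose ℬ a).support,
      DirectSum.of (fun n => qgr ℬ J n) n
        ⟨Ideal.Quotient.mk J (DirectSum.decompose ℬ a n : A),
          mk_mem_qgr ℬ J (DirectSum.decompose ℬ a n).2⟩, ?_⟩
    rw [map_sum]
    simp only [DirectSum.coeAddMonoidHom_of]
    rw [← map_sum, DirectSum.sum_support_decompose ℬ a]

/-- The graded ring structure on the quotient by a homogeneous ideal. -/
@[instance_reducible]
noncomputable def gradedRingQuot (hJ : J.IsHomogeneous ℬ) : GradedRing (qgr ℬ J) :=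
  { (inferInstance : SetLike.GradedMonoid (qgr ℬ J)) with
    toDecomposition := (isInternal_qgr ℬ J hJ).chooseDecomposition }

/-- The preimage in `A` of a homogeneous ideal of `A ⧸ J` is homogeneous. -/
theorem isHomogeneous_comap_mk (hJ : J.IsHomogeneous ℬ) (q : Ideal (A ⧸ J))
    (hq : letI := gradedRingQuot ℬ J hJ; q.IsHomogeneous (qgr ℬ J)) :
    (q.comap (Ideal.Quotient.mk J)).IsHomogeneous ℬ := by
  letI := gradedRingQuot ℬ J hJ
  let f : ℬ →+*ᵍ qgr ℬ J :=
    { Ideal.Quotient.mk J with map_mem := fun hx => mk_mem_qgr ℬ J hx }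
  exact (HomogeneousIdeal.comap f ⟨q, hq⟩).isHomogeneous

end Quot

section Main

open Groth.Agent.Lib.Helper5.GenDepth Groth.Agent.Lib.Helper5.CMLocusOpen

variable {R : Type u} [CommRing R] [IsNoetherianRing R] (𝒜 : ℤ → AddSubgroup R) [GradedRing 𝒜]

/-- **Graded local–global principle**: a Noetherian `ℤ`-graded ring which is Cohen–Macaulay at all
homogeneous primes is Cohen–Macaulay. -/
theorem isCohenMacaulayRing_of_forall_homogeneous_int
    (h : ∀ (q : Ideal R) [q.IsPrime], q.IsHomogeneous 𝒜 →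
      LocCoh.IsCohenMacaulayLocalRing (Localization.AtPrime q)) :
    LocCoh.IsCohenMacaulayRing R := by
  refine { isCohenMacaulayLocalRing_localization := fun p hp => ?_ }
  haveI hcore : (Ideal.homogeneousCore 𝒜 p).toIdeal.IsPrime := Ideal.IsPrime.homogeneousCore hp
  have hle : (Ideal.homogeneousCore 𝒜 p).toIdeal ≤ p := Ideal.toIdeal_homogeneousCore_le 𝒜 p
  have hprime : (p.map (Ideal.Quotient.mk (Ideal.homogeneousCore 𝒜 p).toIdeal)).IsPrime := by
    apply Ideal.map_isPrime_of_surjective Ideal.Quotient.mk_surjective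
    rw [Ideal.mk_ker]
    exact hle
  have hfin : (p.map (Ideal.Quotient.mk (Ideal.homogeneousCore 𝒜 p).toIdeal)).height ≠ ⊤ :=
    Ideal.height_ne_top hprime.ne_top
  obtain ⟨d, hd⟩ := ENat.ne_top_iff_exists.mp hfin
  obtain ⟨h1, h2⟩ := Groth.Agent.Lib.Helper5.GrLoc.main 𝒜 p R 𝒜 d hd.symm
  have hnt : Nontrivial (LocalizedModule p.primeCompl R) := by
    rw [← Module.mem_support_iff (p := ⟨p, hp⟩), Module.support_eq_zeroLocus]
    have hann : Module.annihilator R R = ⊥ := by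
      rw [eq_bot_iff]
      intro a ha
      rw [Module.mem_annihilator] at ha
      simpa using ha 1
    simp [hann]
  have hcm := h _ (Ideal.homogeneousCore 𝒜 p).isHomogeneous
  rw [cm_iff_codepth_zero] at hcm ⊢
  rw [h1, h2 hnt]
  simp only [Nat.cast_zero, add_zero] at hcm ⊢
  push_cast
  exact add_le_add_left hcm _

end Main

section Cone

open Groth.Agent.Lib.Helper28.CMFib

variable {K : Type u} [Field K] {A : Type v} [CommRing A] [Algebra K A] [IsNoetherianRing A]
  (𝒜 : ℕ → Submodule K A) [GradedAlgebra 𝒜]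

/-- A proper homogeneous ideal of a graded algebra with degree-zero part a field is contained in
the irrelevant ideal. -/
theorem le_irrelevant_of_isHomogeneous (h0 : ∀ a ∈ 𝒜 0, ∃ c : K, algebraMap K A c = a)
    {Q : Ideal A} (hQ : Q.IsHomogeneous 𝒜) (hne : Q ≠ ⊤) :
    Q ≤ (HomogeneousIdeal.irrelevant 𝒜).toIdeal := by
  intro a ha
  rw [HomogeneousIdeal.mem_iff, HomogeneousIdeal.mem_irrelevant_iff, GradedRing.proj_apply]
  have h1 : (DirectSum.decompose 𝒜 a 0 : A) ∈ Q := hQ 0 ha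
  obtain ⟨c, hc⟩ := h0 _ (DirectSum.decompose 𝒜 a 0).2
  by_contra hne0
  have hc0 : c ≠ 0 := by
    rintro rfl
    rw [map_zero] at hc
    exact hne0 hc.symm
  apply hne
  rw [Ideal.eq_top_iff_one]
  have : (1 : A) = algebraMap K A c⁻¹ * (DirectSum.decompose 𝒜 a 0 : A) := by
    rw [← hc, ← map_mul, inv_mul_cancel₀ hc0, map_one]
  rw [this]
  exact Ideal.mul_mem_left _ _ h1

/-- **A cone is Cohen–Macaulay iff it is so at its vertex.** -/
theorem isCohenMacaulayRing_quotient_of_vertex (h0 : ∀ a ∈ 𝒜 0, ∃ c : K, algebraMap K A c = a)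
    (J : Ideal A) (hJ : J.IsHomogeneous 𝒜)
    [hm : ((HomogeneousIdeal.irrelevant 𝒜).toIdeal.map (Ideal.Quotient.mk J)).IsPrime]
    (hCM : LocCoh.IsCohenMacaulayLocalRing (Localization.AtPrime
      ((HomogeneousIdeal.irrelevant 𝒜).toIdeal.map (Ideal.Quotient.mk J)))) :
    LocCoh.IsCohenMacaulayRing (A ⧸ J) := by
  have hJℤ : J.IsHomogeneous (zgr 𝒜) := (isHomogeneous_zgr_iff 𝒜 J).mpr hJ
  letI := gradedRingQuot (zgr 𝒜) J hJℤ
  apply isCohenMacaulayRing_of_forall_homogeneous_int (qgr (zgr 𝒜) J)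
  intro q hq hqh
  have hQh : (q.comap (Ideal.Quotient.mk J)).IsHomogeneous 𝒜 :=
    (isHomogeneous_zgr_iff 𝒜 _).mp (isHomogeneous_comap_mk (zgr 𝒜) J hJℤ q hqh)
  have hQne : q.comap (Ideal.Quotient.mk J) ≠ ⊤ := (Ideal.comap_isPrime _ q).ne_top
  have hle : q ≤ (HomogeneousIdeal.irrelevant 𝒜).toIdeal.map (Ideal.Quotient.mk J) := by
    rw [← Ideal.map_comap_of_surjective _ Ideal.Quotient.mk_surjective q]
    exact Ideal.map_mono (le_irrelevant_of_isHomogeneous 𝒜 h0 hQh hQne)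
  exact isCohenMacaulayLocalRing_localization_of_le q _ hle hCM

end Cone

end Groth.Agent.Lib.Seat67.GrCM
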