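import Mathlib
import Groth.Prelude.Def_GrLC

/-!
# Positively ℤ-graded *local rings: the *maximal ideal is a maximal ideal

For a ℤ-graded ring `R` with `R_n = 0` for `n < 0` and a homogeneous ideal `m` that is a coatom of
the lattice of homogeneous ideals, `m.toIdeal` is a maximal ideal of `R`; it contains every
homogeneous element of positive degree.
-/

set_option autoImplicit false
universe u

open DirectSum

namespace Groth.Agent.Lib.Seat86.StarLocal

variable {R : Type u} [CommRing R] (𝒜 : ℤ → AddSubgroup R) [GradedRing 𝒜]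

/-- The homogeneous ideal generated by one homogeneous element. -/
def spanHom {n : ℤ} {y : R} (hy : y ∈ 𝒜 n) : HomogeneousIdeal 𝒜 :=
  ⟨Ideal.span {y}, Ideal.homogeneous_span 𝒜 {y} (by
    intro x hx
    rw [Set.mem_singleton_iff] at hx
    subst hx
    exact ⟨n, hy⟩)⟩

theorem toIdeal_spanHom {n : ℤ} {y : R} (hy : y ∈ 𝒜 n) :
    (spanHom 𝒜 hy).toIdeal = Ideal.span {y} := rfl

variable {𝒜}

theorem coe_eq_zero_of_neg (hpos : ∀ n : ℤ, n < 0 → 𝒜 n = ⊥) {i : ℤ} (hi : i < 0) (z : 𝒜 i) :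
    (z : R) = 0 := by
  have h : (z : R) ∈ 𝒜 i := z.2
  generalize (z : R) = w at h
  rw [hpos i hi] at h
  exact h

/-- A homogeneous element outside a coatom `m` generates the unit ideal together with `m`. -/
theorem sup_span_eq_top_of_isCoatom {m : HomogeneousIdeal 𝒜} (hm : IsCoatom m) {n : ℤ} {y : R}
    (hy : y ∈ 𝒜 n) (hym : y ∉ m.toIdeal) : m.toIdeal ⊔ Ideal.span {y} = ⊤ := by
  have hlt : m < m ⊔ spanHom 𝒜 hy := by
    refine lt_of_le_of_ne le_sup_left ?_
    intro h
    apply hym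
    have h1 : spanHom 𝒜 hy ≤ m := by
      rw [h]
      exact le_sup_right
    have h2 : (spanHom 𝒜 hy).toIdeal ≤ m.toIdeal := h1
    rw [toIdeal_spanHom] at h2
    exact h2 (Ideal.subset_span rfl)
  have htop := hm.2 _ hlt
  have := congrArg HomogeneousIdeal.toIdeal htop
  rw [HomogeneousIdeal.toIdeal_sup, HomogeneousIdeal.toIdeal_top, toIdeal_spanHom] at this
  exact this

/-- In a positively graded ring, a coatom of the lattice of homogeneous ideals contains all
homogeneous elements of positive degree. -/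
theorem mem_of_pos {m : HomogeneousIdeal 𝒜} (hm : IsCoatom m)
    (hpos : ∀ n : ℤ, n < 0 → 𝒜 n = ⊥) {n : ℤ} (hn : 0 < n) {y : R} (hy : y ∈ 𝒜 n) :
    y ∈ m.toIdeal := by
  by_contra hym
  have htop := sup_span_eq_top_of_isCoatom hm hy hym
  have h1 : (1 : R) ∈ m.toIdeal ⊔ Ideal.span {y} := by
    rw [htop]
    exact Submodule.mem_top
  obtain ⟨a, ha, b, hb, hab⟩ := Submodule.mem_sup.mp h1
  obtain ⟨r, rfl⟩ := Ideal.mem_span_singleton'.mp hb
  -- take degree-zero components
  have h0 : ((decompose 𝒜 (1 : R)) 0 : R) = 1 :=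
    decompose_of_mem_same 𝒜 (SetLike.GradedOne.one_mem (A := 𝒜))
  have hry : ((decompose 𝒜 (r * y)) 0 : R) = 0 := by
    have := coe_decompose_mul_add_of_right_mem 𝒜 (i := -n) (a := r) hy
    rw [neg_add_cancel] at this
    rw [this]
    rw [coe_eq_zero_of_neg hpos (by omega) (decompose 𝒜 r (-n)), zero_mul]
  have ha0 : ((decompose 𝒜 a) 0 : R) ∈ m.toIdeal := m.isHomogeneous 0 ha
  have : (1 : R) = ((decompose 𝒜 a) 0 : R) := by
    rw [← h0, ← hab, decompose_add, DirectSum.add_apply, AddMemClass.coe_add, hry, add_zero]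
  apply (HomogeneousIdeal.toIdeal_injective.ne hm.1)
  rw [HomogeneousIdeal.toIdeal_top, Ideal.eq_top_iff_one, this]
  exact ha0

/-- In a positively graded ring, the difference between an element and its degree-zero
component lies in any coatom of the lattice of homogeneous ideals. -/
theorem sub_proj_zero_mem {m : HomogeneousIdeal 𝒜} (hm : IsCoatom m)
    (hpos : ∀ n : ℤ, n < 0 → 𝒜 n = ⊥) (x : R) :
    x - ((decompose 𝒜 x) 0 : R) ∈ m.toIdeal := by
  classical
  have hx : x = ∑ i ∈ (decompose 𝒜 x).support, ((decompose 𝒜 x) i : R) :=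
    (sum_support_decompose 𝒜 x).symm
  by_cases h0 : (0 : ℤ) ∈ (decompose 𝒜 x).support
  · have := Finset.add_sum_erase (decompose 𝒜 x).support (fun i => ((decompose 𝒜 x) i : R)) h0
    have hx' : x - ((decompose 𝒜 x) 0 : R) =
        ∑ i ∈ (decompose 𝒜 x).support.erase 0, ((decompose 𝒜 x) i : R) := by
      rw [sub_eq_iff_eq_add, add_comm, this]
      exact hx
    rw [hx']
    refine Ideal.sum_mem _ fun i hi => ?_
    have hi0 : i ≠ 0 := (Finset.mem_erase.mp hi).1
    rcases lt_or_gt_of_ne hi0 with hlt | hgt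
    · rw [coe_eq_zero_of_neg hpos hlt (decompose 𝒜 x i)]
      exact zero_mem _
    · exact mem_of_pos hm hpos hgt (decompose 𝒜 x i).2
  · have hz : ((decompose 𝒜 x) 0 : R) = 0 := by
      rw [DFinsupp.notMem_support_iff] at h0
      rw [h0]
      rfl
    rw [hz, sub_zero]
    nth_rewrite 1 [hx]
    refine Ideal.sum_mem _ fun i hi => ?_
    have hi0 : i ≠ 0 := fun h => h0 (h ▸ hi)
    rcases lt_or_gt_of_ne hi0 with hlt | hgt
    · rw [coe_eq_zero_of_neg hpos hlt (decompose 𝒜 x i)]
      exact zero_mem _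
    · exact mem_of_pos hm hpos hgt (decompose 𝒜 x i).2

/-- In a positively ℤ-graded ring a *maximal ideal is a maximal ideal. -/
theorem isMaximal_of_isCoatom {m : HomogeneousIdeal 𝒜} (hm : IsCoatom m)
    (hpos : ∀ n : ℤ, n < 0 → 𝒜 n = ⊥) : m.toIdeal.IsMaximal := by
  rw [Ideal.isMaximal_iff]
  refine ⟨?_, ?_⟩
  · intro h1
    apply (HomogeneousIdeal.toIdeal_injective.ne hm.1)
    rw [HomogeneousIdeal.toIdeal_top, Ideal.eq_top_iff_one]
    exact h1
  · intro J x hmJ hxm hxJ
    have hsub := sub_proj_zero_mem hm hpos x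
    have hx0m : ((decompose 𝒜 x) 0 : R) ∉ m.toIdeal := by
      intro h
      apply hxm
      have := add_mem hsub h
      rwa [sub_add_cancel] at this
    have hx0J : ((decompose 𝒜 x) 0 : R) ∈ J := by
      have := sub_mem hxJ (hmJ hsub)
      rwa [sub_sub_cancel] at this
    have htop := sup_span_eq_top_of_isCoatom hm (decompose 𝒜 x 0).2 hx0m
    have hle : m.toIdeal ⊔ Ideal.span {((decompose 𝒜 x) 0 : R)} ≤ J :=
      sup_le hmJ ((Ideal.span_singleton_le_iff_mem J).mpr hx0J)
    rw [htop] at hle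
    exact hle Submodule.mem_top

theorem isMaximal_of_isStarLocal {m : HomogeneousIdeal 𝒜} (hm : GrLC.IsStarLocal 𝒜 m)
    (hpos : ∀ n : ℤ, n < 0 → 𝒜 n = ⊥) : m.toIdeal.IsMaximal :=
  isMaximal_of_isCoatom hm.1 hpos

end Groth.Agent.Lib.Seat86.StarLocal
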