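import Mathlib
import Groth.Agent.Lib.Seat67GrCM
import Groth.Agent.Lib.Helper5GrLoc
import Groth.Agent.Lib.Helper5CodepthOpen
import Groth.Agent.Lib.Seat86StarLocal

/-!
# Heights of primes in `ℤ`-graded Noetherian rings (seat 97)

* `height_le_one_of_no_homogeneous` : in a Noetherian `ℤ`-graded domain, a prime ideal containing
  no nonzero homogeneous element has height at most one (Euclidean division by an element of
  minimal width + Krull's principal ideal theorem after inverting the homogeneous elements);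
* `height_le_height_core_add_one` : `ht p ≤ ht p* + 1` for every prime of a Noetherian `ℤ`-graded ring;
* `le_of_isStarLocal` : in a Noetherian *local ring every proper homogeneous ideal lies in the
  *maximal ideal;
* `ringKrullDim_eq_height_of_isStarLocal` : for a Noetherian positively graded *local ring,
  `dim R = ht m`.

Namespace `Groth.Agent.Lib.Seat97.GrHeight`.
-/

set_option autoImplicit false
set_option linter.unusedSectionVars false
set_option linter.style.haveILetI false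
universe u

open DirectSum

namespace Groth.Agent.Lib.Seat97.GrHeight

section Domain

variable {D : Type u} [CommRing D] [IsDomain D] (𝒟 : ℤ → AddSubgroup D) [GradedRing 𝒟]

/-- The component of degree `n`. -/
def cp (a : D) (n : ℤ) : D := ((decompose 𝒟 a n : 𝒟 n) : D)

theorem cp_mem (a : D) (n : ℤ) : cp 𝒟 a n ∈ 𝒟 n := SetLike.coe_mem _

theorem cp_sub (a b : D) (n : ℤ) : cp 𝒟 (a - b) n = cp 𝒟 a n - cp 𝒟 b n := by
  unfold cp
  rw [decompose_sub, DirectSum.sub_apply, AddSubgroupClass.coe_sub]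

theorem cp_mul_left {i : ℤ} {s : D} (hs : s ∈ 𝒟 i) (b : D) (N : ℤ) :
    cp 𝒟 (s * b) N = s * cp 𝒟 b (N - i) := by
  have h := DirectSum.coe_decompose_mul_add_of_left_mem 𝒟 (i := i) (j := N - i) (b := b) hs
  rw [add_sub_cancel] at h
  exact h

theorem eq_zero_of_cp_eq_zero (a : D) (h : ∀ n, cp 𝒟 a n = 0) : a = 0 := by
  classical
  rw [← DirectSum.sum_support_decompose 𝒟 a]
  exact Finset.sum_eq_zero fun n _ => h n

/-- `u` is the top degree of `a`. -/
def IsTop (a : D) (u : ℤ) : Prop := cp 𝒟 a u ≠ 0 ∧ ∀ n, u < n → cp 𝒟 a n = 0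

/-- `l` is the bottom degree of `a`. -/
def IsBot (a : D) (l : ℤ) : Prop := cp 𝒟 a l ≠ 0 ∧ ∀ n, n < l → cp 𝒟 a n = 0

theorem mem_support_iff (a : D) (n : ℤ) [∀ (i : ℤ) (x : 𝒟 i), Decidable (x ≠ 0)] :
    n ∈ (decompose 𝒟 a).support ↔ cp 𝒟 a n ≠ 0 := by
  rw [DFinsupp.mem_support_iff]
  unfold cp
  constructor
  · intro h h'
    exact h (Subtype.ext h')
  · intro h h'
    exact h (by rw [h']; rfl)

theorem exists_isTop {a : D} (ha : a ≠ 0) : ∃ u, IsTop 𝒟 a u := by
  classical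
  have hne : (decompose 𝒟 a).support.Nonempty := by
    by_contra hcon
    rw [Finset.not_nonempty_iff_eq_empty] at hcon
    apply ha
    apply eq_zero_of_cp_eq_zero 𝒟
    intro n
    by_contra hn
    have := (mem_support_iff 𝒟 a n).mpr hn
    rw [hcon] at this
    exact absurd this (Finset.notMem_empty n)
  refine ⟨(decompose 𝒟 a).support.max' hne, (mem_support_iff 𝒟 a _).mp (Finset.max'_mem _ hne), ?_⟩
  intro n hn
  by_contra hcon
  have := Finset.le_max' _ n ((mem_support_iff 𝒟 a n).mpr hcon)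
  exact absurd hn (not_lt.mpr this)

theorem exists_isBot {a : D} (ha : a ≠ 0) : ∃ l, IsBot 𝒟 a l := by
  classical
  have hne : (decompose 𝒟 a).support.Nonempty := by
    by_contra hcon
    rw [Finset.not_nonempty_iff_eq_empty] at hcon
    apply ha
    apply eq_zero_of_cp_eq_zero 𝒟
    intro n
    by_contra hn
    have := (mem_support_iff 𝒟 a n).mpr hn
    rw [hcon] at this
    exact absurd this (Finset.notMem_empty n)
  refine ⟨(decompose 𝒟 a).support.min' hne, (mem_support_iff 𝒟 a _).mp (Finset.min'_mem _ hne), ?_⟩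
  intro n hn
  by_contra hcon
  have := Finset.min'_le _ n ((mem_support_iff 𝒟 a n).mpr hcon)
  exact absurd hn (not_lt.mpr this)

theorem bot_le_top {a : D} {l u : ℤ} (hl : IsBot 𝒟 a l) (hu : IsTop 𝒟 a u) : l ≤ u := by
  by_contra h
  rw [not_le] at h
  exact hl.1 (hu.2 l h)

variable (P : Ideal D)

/-- Euclidean division: modulo an element `f` of `P` of minimal width, every element of `P` becomes
a multiple of `f` after multiplication by a nonzero homogeneous element. -/
theorem exists_homogeneous_mul_dvd (f : D) (hfP : f ∈ P) (l u : ℤ) (hl : IsBot 𝒟 f l)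
    (hu : IsTop 𝒟 f u)
    (hmin : ∀ g ∈ P, g ≠ 0 → ∀ l' u', IsBot 𝒟 g l' → IsTop 𝒟 g u' → u - l ≤ u' - l') :
    ∀ (w : ℕ) (g : D), g ∈ P → g ≠ 0 → ∀ l' u', IsBot 𝒟 g l' → IsTop 𝒟 g u' →
      (u' - l').toNat = w → ∃ s : D, s ≠ 0 ∧ (∃ n, s ∈ 𝒟 n) ∧ f ∣ s * g := by
  intro w
  induction w using Nat.strong_induction_on with
  | _ w ih =>
    intro g hgP hg0 l' u' hl' hu' hw
    have hwid := hmin g hgP hg0 l' u' hl' hu'
    have hfu : cp 𝒟 f u ∈ 𝒟 u := cp_mem 𝒟 f u
    have hgu : cp 𝒟 g u' ∈ 𝒟 u' := cp_mem 𝒟 g u'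
    set g' : D := cp 𝒟 f u * g - cp 𝒟 g u' * f with hg'
    have hcp : ∀ N, cp 𝒟 g' N = cp 𝒟 f u * cp 𝒟 g (N - u) - cp 𝒟 g u' * cp 𝒟 f (N - u') := by
      intro N
      rw [hg', cp_sub, cp_mul_left 𝒟 hfu, cp_mul_left 𝒟 hgu]
    have hhigh : ∀ N, u + u' ≤ N → cp 𝒟 g' N = 0 := by
      intro N hN
      rw [hcp]
      rcases eq_or_lt_of_le hN with h | h
      · have h1 : N - u = u' := by omega
        have h2 : N - u' = u := by omega
        rw [h1, h2, mul_comm, sub_self]
      · rw [hu'.2 (N - u) (by omega), hu.2 (N - u') (by omega), mul_zero, mul_zero, sub_zero]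
    have hlow : ∀ N, N < u + l' → cp 𝒟 g' N = 0 := by
      intro N hN
      rw [hcp, hl'.2 (N - u) (by omega), hl.2 (N - u') (by omega), mul_zero, mul_zero, sub_zero]
    have hfu0 : cp 𝒟 f u ≠ 0 := hu.1
    by_cases hg'0 : g' = 0
    · refine ⟨cp 𝒟 f u, hfu0, ⟨u, hfu⟩, ?_⟩
      have : cp 𝒟 f u * g = cp 𝒟 g u' * f := sub_eq_zero.mp hg'0
      rw [this]
      exact Dvd.intro_left _ rfl
    · obtain ⟨l'', hl''⟩ := exists_isBot 𝒟 hg'0
      obtain ⟨u'', hu''⟩ := exists_isTop 𝒟 hg'0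
      have h1 : u + l' ≤ l'' := by
        by_contra h
        rw [not_le] at h
        exact hl''.1 (hlow l'' h)
      have h2 : u'' < u + u' := by
        by_contra h
        rw [not_lt] at h
        exact hu''.1 (hhigh u'' h)
      have h3 := bot_le_top 𝒟 hl'' hu''
      have hg'P : g' ∈ P := P.sub_mem (P.mul_mem_left _ hgP) (P.mul_mem_left _ hfP)
      have hlt : (u'' - l'').toNat < w := by
        rw [← hw]
        omega
      obtain ⟨s', hs'0, ⟨n', hs'n⟩, hdvd⟩ := ih _ hlt g' hg'P hg'0 l'' u'' hl'' hu'' rfl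
      refine ⟨s' * cp 𝒟 f u, mul_ne_zero hs'0 hfu0, ⟨n' + u, SetLike.mul_mem_graded hs'n hfu⟩, ?_⟩
      have h4 : s' * cp 𝒟 f u * g = s' * g' + s' * cp 𝒟 g u' * f := by
        rw [hg']
        ring
      rw [h4]
      exact dvd_add hdvd (Dvd.intro_left _ rfl)

/-- An element of minimal width among the nonzero elements of a nonzero ideal. -/
theorem exists_min_width (hP : P ≠ ⊥) :
    ∃ f ∈ P, f ≠ 0 ∧ ∃ l u, IsBot 𝒟 f l ∧ IsTop 𝒟 f u ∧
      ∀ g ∈ P, g ≠ 0 → ∀ l' u', IsBot 𝒟 g l' → IsTop 𝒟 g u' → u - l ≤ u' - l' := by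
  classical
  obtain ⟨g₀, hg₀P, hg₀⟩ := Submodule.exists_mem_ne_zero_of_ne_bot hP
  obtain ⟨l₀, hl₀⟩ := exists_isBot 𝒟 hg₀
  obtain ⟨u₀, hu₀⟩ := exists_isTop 𝒟 hg₀
  have hex : ∃ w : ℕ, ∃ g ∈ P, g ≠ 0 ∧ ∃ l u, IsBot 𝒟 g l ∧ IsTop 𝒟 g u ∧ (u - l).toNat = w :=
    ⟨_, g₀, hg₀P, hg₀, l₀, u₀, hl₀, hu₀, rfl⟩
  obtain ⟨f, hfP, hf0, l, u, hl, hu, hw⟩ := Nat.find_spec hex
  refine ⟨f, hfP, hf0, l, u, hl, hu, ?_⟩
  intro g hgP hg0 l' u' hl' hu'
  have hmin := Nat.find_min' hex ⟨g, hgP, hg0, l', u', hl', hu', rfl⟩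
  rw [← hw] at hmin
  have h1 := bot_le_top 𝒟 hl hu
  have h2 := bot_le_top 𝒟 hl' hu'
  omega

variable [IsNoetherianRing D]

/-- In a Noetherian `ℤ`-graded domain, a prime ideal without nonzero homogeneous elements has height
at most one. -/
theorem height_le_one_of_no_homogeneous [hprime : P.IsPrime]
    (hhom : ∀ (n : ℤ) (a : D), a ∈ 𝒟 n → a ∈ P → a = 0) : P.height ≤ 1 := by
  classical
  by_cases hP : P = ⊥
  · rw [hP, Ideal.height_bot]
    exact zero_le
  obtain ⟨f, hfP, hf0, l, u, hl, hu, hmin⟩ := exists_min_width 𝒟 P hP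
  -- the multiplicative set of nonzero homogeneous elements
  let T : Submonoid D :=
    { carrier := {s | s ≠ 0 ∧ ∃ n, s ∈ 𝒟 n}
      one_mem' := ⟨one_ne_zero, 0, SetLike.GradedOne.one_mem⟩
      mul_mem' := by
        rintro a b ⟨ha, n, han⟩ ⟨hb, k, hbk⟩
        exact ⟨mul_ne_zero ha hb, n + k, SetLike.mul_mem_graded han hbk⟩ }
  have hdisj : Disjoint (T : Set D) (P : Set D) := by
    rw [Set.disjoint_left]
    rintro s ⟨hs0, n, hsn⟩ hsP
    exact hs0 (hhom n s hsn hsP)
  have hht := IsLocalization.height_map_of_disjoint (S := Localization T) T P hdisj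
  have hprime' : (P.map (algebraMap D (Localization T))).IsPrime :=
    IsLocalization.isPrime_of_isPrime_disjoint T (Localization T) P hprime hdisj
  have hprinc : P.map (algebraMap D (Localization T)) =
      Ideal.span {algebraMap D (Localization T) f} := by
    apply le_antisymm
    · rw [Ideal.map_le_iff_le_comap]
      intro g hgP
      rw [Ideal.mem_comap]
      by_cases hg0 : g = 0
      · rw [hg0, map_zero]; exact zero_mem _
      obtain ⟨l', hl'⟩ := exists_isBot 𝒟 hg0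
      obtain ⟨u', hu'⟩ := exists_isTop 𝒟 hg0
      obtain ⟨s, hs0, hsn, c, hc⟩ := exists_homogeneous_mul_dvd 𝒟 P f hfP l u hl hu hmin _ g hgP hg0
        l' u' hl' hu' rfl
      have hsT : s ∈ T := ⟨hs0, hsn⟩
      have hunit : IsUnit (algebraMap D (Localization T) s) :=
        IsLocalization.map_units (Localization T) ⟨s, hsT⟩
      have h1 : algebraMap D (Localization T) s * algebraMap D (Localization T) g ∈
          Ideal.span {algebraMap D (Localization T) f} := by
        rw [← map_mul, hc, map_mul]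
        exact Ideal.mul_mem_right _ _ (Ideal.subset_span rfl)
      exact (Ideal.unit_mul_mem_iff_mem _ hunit).mp h1
    · rw [Ideal.span_le, Set.singleton_subset_iff]
      exact Ideal.mem_map_of_mem _ hfP
  rw [← hht]
  haveI : (Ideal.span {algebraMap D (Localization T) f}).IsPrincipal := ⟨⟨_, rfl⟩⟩
  refine Ideal.height_le_one_of_isPrincipal_of_mem_minimalPrimes
    (Ideal.span {algebraMap D (Localization T) f}) _ ?_
  rw [hprinc]
  haveI : (Ideal.span {algebraMap D (Localization T) f}).IsPrime := hprinc ▸ hprime'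
  exact ⟨⟨inferInstance, le_rfl⟩, fun q hq _ => hq.2⟩

end Domain


section Core

open Groth.Agent.Lib.Seat67.GrCM

variable {R : Type u} [CommRing R] [IsNoetherianRing R] (𝒜 : ℤ → AddSubgroup R) [GradedRing 𝒜]

/-- `ht p = ht p* + ht (p/p*)` (the argument of helper67's S7720, which needs no domain
hypothesis). -/
theorem height_eq_height_core_add (p : Ideal R) [hp : p.IsPrime] :
    p.height = (p.homogeneousCore 𝒜).toIdeal.height +
      (p.map (Ideal.Quotient.mk (p.homogeneousCore 𝒜).toIdeal)).height := by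
  haveI hcore : (Ideal.homogeneousCore 𝒜 p).toIdeal.IsPrime := Ideal.IsPrime.homogeneousCore hp
  have hle : (Ideal.homogeneousCore 𝒜 p).toIdeal ≤ p := Ideal.toIdeal_homogeneousCore_le 𝒜 p
  have hprime : (p.map (Ideal.Quotient.mk (Ideal.homogeneousCore 𝒜 p).toIdeal)).IsPrime := by
    apply Ideal.map_isPrime_of_surjective Ideal.Quotient.mk_surjective
    rw [Ideal.mk_ker]
    exact hle
  have hfin : (p.map (Ideal.Quotient.mk (Ideal.homogeneousCore 𝒜 p).toIdeal)).height ≠ ⊤ :=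
    Ideal.height_ne_top hprime.ne_top
  obtain ⟨d, hd⟩ := ENat.ne_top_iff_exists.mp hfin
  obtain ⟨-, h2⟩ := Groth.Agent.Lib.Helper5.GrLoc.main 𝒜 p R 𝒜 d hd.symm
  have hnt : Nontrivial (LocalizedModule p.primeCompl R) := by
    rw [← Module.mem_support_iff (p := ⟨p, inferInstance⟩)]
    exact Groth.Agent.Lib.Helper5.CodepthOpen.mem_support_self p
  have h3 := h2 hnt
  rw [(Groth.Agent.Lib.Helper5.CodepthOpen.dep_dm_self p).2,
    (Groth.Agent.Lib.Helper5.CodepthOpen.dep_dm_self (Ideal.homogeneousCore 𝒜 p).toIdeal).2,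
    Module.supportDim_self_eq_ringKrullDim, Module.supportDim_self_eq_ringKrullDim,
    IsLocalization.AtPrime.ringKrullDim_eq_height p,
    IsLocalization.AtPrime.ringKrullDim_eq_height (Ideal.homogeneousCore 𝒜 p).toIdeal,
    ← WithBot.coe_add] at h3
  rw [WithBot.coe_injective h3, ← hd]

/-- The image of `p` in `R/p*` has height at most one. -/
theorem height_map_core_le_one (p : Ideal R) [hp : p.IsPrime] :
    (p.map (Ideal.Quotient.mk (p.homogeneousCore 𝒜).toIdeal)).height ≤ 1 := by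
  haveI hcore : (Ideal.homogeneousCore 𝒜 p).toIdeal.IsPrime := Ideal.IsPrime.homogeneousCore hp
  have hle : (Ideal.homogeneousCore 𝒜 p).toIdeal ≤ p := Ideal.toIdeal_homogeneousCore_le 𝒜 p
  have hqhom : (Ideal.homogeneousCore 𝒜 p).toIdeal.IsHomogeneous 𝒜 :=
    (Ideal.homogeneousCore 𝒜 p).isHomogeneous
  letI : GradedRing (qgr 𝒜 (Ideal.homogeneousCore 𝒜 p).toIdeal) :=
    gradedRingQuot 𝒜 (Ideal.homogeneousCore 𝒜 p).toIdeal hqhom
  haveI hprime : (p.map (Ideal.Quotient.mk (Ideal.homogeneousCore 𝒜 p).toIdeal)).IsPrime := by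
    apply Ideal.map_isPrime_of_surjective Ideal.Quotient.mk_surjective
    rw [Ideal.mk_ker]
    exact hle
  haveI : IsDomain (R ⧸ (Ideal.homogeneousCore 𝒜 p).toIdeal) := Ideal.Quotient.isDomain _
  apply height_le_one_of_no_homogeneous (qgr 𝒜 (Ideal.homogeneousCore 𝒜 p).toIdeal)
  rintro n _ ⟨a, ha, rfl⟩ hmem
  have ha' : a ∈ (p.map (Ideal.Quotient.mk (Ideal.homogeneousCore 𝒜 p).toIdeal)).comap
      (Ideal.Quotient.mk (Ideal.homogeneousCore 𝒜 p).toIdeal) := hmem
  rw [Ideal.comap_map_of_surjective _ Ideal.Quotient.mk_surjective, ← RingHom.ker_eq_comap_bot,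
    Ideal.mk_ker, sup_eq_left.mpr hle] at ha'
  have hcore_mem : a ∈ (Ideal.homogeneousCore 𝒜 p).toIdeal :=
    Ideal.mem_homogeneousCore_of_homogeneous_of_mem ⟨n, ha⟩ ha'
  exact Ideal.Quotient.eq_zero_iff_mem.mpr hcore_mem

/-- `ht p ≤ ht p* + 1` for every prime of a Noetherian `ℤ`-graded ring. -/
theorem height_le_height_core_add_one (p : Ideal R) [hp : p.IsPrime] :
    p.height ≤ (p.homogeneousCore 𝒜).toIdeal.height + 1 := by
  rw [height_eq_height_core_add 𝒜 p]
  exact add_le_add_right (height_map_core_le_one 𝒜 p) _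

/-- In a Noetherian *local ring every proper homogeneous ideal lies in the *maximal ideal. -/
theorem le_of_isStarLocal {m : HomogeneousIdeal 𝒜} (hm : GrLC.IsStarLocal 𝒜 m) (J : Ideal R)
    (hJ : J.IsHomogeneous 𝒜) (hne : J ≠ ⊤) : J ≤ m.toIdeal := by
  let S : Set (Ideal R) := {J' | J ≤ J' ∧ J'.IsHomogeneous 𝒜 ∧ J' ≠ ⊤}
  have hS : S.Nonempty := ⟨J, le_rfl, hJ, hne⟩
  obtain ⟨M, ⟨hJM, hMhom, hMne⟩, hmax⟩ :=
    (set_has_maximal_iff_noetherian (R := R) (M := R)).mpr inferInstance S hS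
  have hco : IsCoatom (⟨M, hMhom⟩ : HomogeneousIdeal 𝒜) := by
    constructor
    · intro h
      apply hMne
      have := congrArg HomogeneousIdeal.toIdeal h
      rw [HomogeneousIdeal.toIdeal_top] at this
      exact this
    · intro (b : HomogeneousIdeal 𝒜) hb
      by_contra hbne
      have hMb : M ≤ HomogeneousIdeal.toIdeal b := fun z hz => (le_of_lt hb) hz
      have hbS : HomogeneousIdeal.toIdeal b ∈ S := by
        refine ⟨hJM.trans hMb, HomogeneousIdeal.isHomogeneous b, fun h => hbne ?_⟩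
        apply HomogeneousIdeal.toIdeal_injective
        rw [h, HomogeneousIdeal.toIdeal_top]
      apply hmax (HomogeneousIdeal.toIdeal b) hbS
      refine lt_of_le_of_ne hMb fun h => ?_
      have : (⟨M, hMhom⟩ : HomogeneousIdeal 𝒜) = b := HomogeneousIdeal.toIdeal_injective h
      exact (ne_of_lt hb) this
  have h := hm.2 _ hco
  rw [← h]
  exact hJM

/-- For a Noetherian positively graded *local ring, `dim R = ht m`. -/
theorem ringKrullDim_eq_height_of_isStarLocal (hpos : ∀ n : ℤ, n < 0 → 𝒜 n = ⊥)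
    {m : HomogeneousIdeal 𝒜} (hm : GrLC.IsStarLocal 𝒜 m) :
    ringKrullDim R = ((m.toIdeal.height : ℕ∞) : WithBot ℕ∞) := by
  haveI hmax : m.toIdeal.IsMaximal :=
    Groth.Agent.Lib.Seat86.StarLocal.isMaximal_of_isStarLocal hm hpos
  apply le_antisymm
  · rw [ringKrullDim_le_iff_isMaximal_height_le]
    intro 𝔫 h𝔫
    rw [WithBot.coe_le_coe]
    haveI h𝔫p : 𝔫.IsPrime := h𝔫.isPrime
    haveI hcore : (Ideal.homogeneousCore 𝒜 𝔫).toIdeal.IsPrime :=
      Ideal.IsPrime.homogeneousCore h𝔫p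
    have hcle : (Ideal.homogeneousCore 𝒜 𝔫).toIdeal ≤ m.toIdeal :=
      le_of_isStarLocal 𝒜 hm _ (Ideal.homogeneousCore 𝒜 𝔫).isHomogeneous hcore.ne_top
    by_cases heq : (Ideal.homogeneousCore 𝒜 𝔫).toIdeal = m.toIdeal
    · have h1 : m.toIdeal ≤ 𝔫 := heq ▸ Ideal.toIdeal_homogeneousCore_le 𝒜 𝔫
      have h2 : m.toIdeal = 𝔫 := hmax.eq_of_le h𝔫.ne_top h1
      rw [h2]
    · have hlt : (Ideal.homogeneousCore 𝒜 𝔫).toIdeal < m.toIdeal := lt_of_le_of_ne hcle heq
      haveI : m.toIdeal.IsPrime := hmax.isPrime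
      exact (height_le_height_core_add_one 𝒜 𝔫).trans
        (Ideal.height_add_one_le_of_lt_of_isPrime hlt)
  · exact Ideal.height_le_ringKrullDim_of_ne_top hmax.ne_top

end Core

end Groth.Agent.Lib.Seat97.GrHeight
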