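import Mathlib
import Groth.Prelude.Def_GrLC
import Groth.Agent.Lib.Seat97GrHeight

/-!
# Seat67: the degree zero part of a Noetherian *local ring is a local ring

For a Noetherian `ℤ`-graded ring `R` which is *local with *maximal ideal `m`, an element of `R_0`
is a unit of `R_0` iff it does not lie in `m`; hence `R_0` is a local ring (`isLocalRing_deg0`).
-/

set_option autoImplicit false
universe u

open DirectSum

namespace Groth.Agent.Lib.Seat67.Deg0Local

variable {R : Type u} [CommRing R] (𝒜 : ℤ → AddSubgroup R) [GradedRing 𝒜]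

theorem nontrivial_of_isStarLocal {m : HomogeneousIdeal 𝒜} (hm : GrLC.IsStarLocal 𝒜 m) :
    Nontrivial R := by
  by_contra h
  rw [not_nontrivial_iff_subsingleton] at h
  apply hm.1.1
  apply HomogeneousIdeal.toIdeal_injective
  exact Subsingleton.elim _ _

variable [IsNoetherianRing R]

theorem mem_of_not_isUnit {m : HomogeneousIdeal 𝒜} (hm : GrLC.IsStarLocal 𝒜 m)
    (a : GrLC.deg0 𝒜) (ha : ¬ IsUnit a) : (a : R) ∈ m.toIdeal := by
  classical
  have ha0 : (a : R) ∈ 𝒜 0 := a.2
  have hhom : (Ideal.span {(a : R)}).IsHomogeneous 𝒜 := by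
    apply Ideal.homogeneous_span
    intro x hx
    rw [Set.mem_singleton_iff] at hx
    subst hx
    exact ⟨0, ha0⟩
  have hne : Ideal.span {(a : R)} ≠ ⊤ := by
    intro htop
    apply ha
    have h1 : (1 : R) ∈ Ideal.span {(a : R)} := by rw [htop]; trivial
    obtain ⟨b, hb⟩ := Ideal.mem_span_singleton'.1 h1
    have h2 := DirectSum.coe_decompose_mul_add_of_right_mem 𝒜 (a := b) (i := 0) ha0
    rw [add_zero, hb, DirectSum.decompose_of_mem_same 𝒜 (SetLike.GradedOne.one_mem)] at h2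
    let b0 : GrLC.deg0 𝒜 := ⟨(decompose 𝒜 b 0 : R), SetLike.coe_mem _⟩
    refine IsUnit.of_mul_eq_one b0 ?_
    apply Subtype.ext
    show (a : R) * (decompose 𝒜 b 0 : R) = 1
    rw [mul_comm]
    exact h2.symm
  exact Groth.Agent.Lib.Seat97.GrHeight.le_of_isStarLocal 𝒜 hm _ hhom hne
    (Ideal.subset_span rfl)

theorem not_isUnit_of_mem {m : HomogeneousIdeal 𝒜} (hm : GrLC.IsStarLocal 𝒜 m)
    (a : GrLC.deg0 𝒜) (ha : (a : R) ∈ m.toIdeal) : ¬ IsUnit a := by
  intro hu
  obtain ⟨b, hb⟩ := hu.exists_right_inv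
  apply hm.1.1
  apply HomogeneousIdeal.toIdeal_injective
  rw [HomogeneousIdeal.toIdeal_top, Ideal.eq_top_iff_one]
  have h1 : (a : R) * (b : R) = 1 := congrArg Subtype.val hb
  rw [← h1]
  exact Ideal.mul_mem_right _ _ ha

/-- the degree zero part of a Noetherian *local ring is local. -/
theorem isLocalRing_deg0 {m : HomogeneousIdeal 𝒜} (hm : GrLC.IsStarLocal 𝒜 m) :
    IsLocalRing (GrLC.deg0 𝒜) := by
  haveI : Nontrivial R := nontrivial_of_isStarLocal 𝒜 hm
  haveI : Nontrivial (GrLC.deg0 𝒜) := inferInstance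
  refine IsLocalRing.of_nonunits_add fun a b ha hb => ?_
  have ha' := mem_of_not_isUnit 𝒜 hm a ha
  have hb' := mem_of_not_isUnit 𝒜 hm b hb
  exact not_isUnit_of_mem 𝒜 hm (a + b) (Ideal.add_mem _ ha' hb')

end Groth.Agent.Lib.Seat67.Deg0Local
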