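import Groth.Agent.Lib.Seat67QuotRegCM
import Groth.Agent.Lib.Helper28FGDim

/-!
# Dehomogenization of a `ℤ`-graded domain at a degree one element

For a `ℤ`-graded domain `A` and `0 ≠ x ∈ A₁`, the quotient `A/(x - 1)` is a domain; it is
integrally closed if `A` is; plus general dimension/CM transfer lemmas for quotients by
a regular element.
-/
set_option autoImplicit false
universe u
open DirectSum Polynomial

namespace Groth.Agent.Lib.Seat67.Dehomog
open Groth.Agent.Lib.Helper28

section Graded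

variable {A : Type u} [CommRing A] (𝒜 : ℤ → AddSubgroup A) [GradedRing 𝒜] {x : A}

/-- The `j`-th component of `(x - 1) * c` for `x` of degree one. -/
theorem coe_decompose_sub_one_mul (hx : x ∈ 𝒜 1) (c : A) (j : ℤ) :
    (decompose 𝒜 ((x - 1) * c) j : A) =
      x * (decompose 𝒜 c (j - 1) : A) - (decompose 𝒜 c j : A) := by
  rw [sub_mul, one_mul, decompose_sub, DirectSum.sub_apply, AddSubgroup.coe_sub]
  congr 1
  have := coe_decompose_mul_add_of_left_mem 𝒜 (i := 1) (j := j - 1) (b := c) hx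
  rwa [add_sub_cancel] at this

/-- **Key lemma**: in a `ℤ`-graded domain with `x` of degree one nonzero, the ideal `(x - 1)`
contains no nonzero homogeneous element. -/
theorem eq_zero_of_mem_of_mem_span [IsDomain A] (hx : x ∈ 𝒜 1) (hx0 : x ≠ 0) {e : ℤ} {a : A}
    (ha : a ∈ 𝒜 e) (hmem : a ∈ Ideal.span {x - 1}) : a = 0 := by
  classical
  obtain ⟨c, rfl⟩ := Ideal.mem_span_singleton'.mp hmem
  by_contra hne
  have hc : c ≠ 0 := by
    rintro rfl
    exact hne (zero_mul _)
  have hsupp : ((decompose 𝒜 c).support).Nonempty := by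
    rw [Finset.nonempty_iff_ne_empty]
    intro hempty
    apply hc
    have : decompose 𝒜 c = 0 := DFinsupp.support_eq_empty.mp hempty
    exact (decompose 𝒜).injective (by rw [this, decompose_zero])
  rw [mul_comm] at ha hne
  have hcomp : ∀ j : ℤ, j ≠ e → x * (decompose 𝒜 c (j - 1) : A) = (decompose 𝒜 c j : A) := by
    intro j hj
    have h1 := coe_decompose_sub_one_mul 𝒜 hx c j
    rw [decompose_of_mem_ne 𝒜 ha (Ne.symm hj)] at h1
    exact sub_eq_zero.mp h1.symm
  set j1 := (decompose 𝒜 c).support.max' hsupp with hj1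
  set j0 := (decompose 𝒜 c).support.min' hsupp with hj0
  have hj1mem : j1 ∈ (decompose 𝒜 c).support := Finset.max'_mem _ _
  have hj0mem : j0 ∈ (decompose 𝒜 c).support := Finset.min'_mem _ _
  have hj1ne : (decompose 𝒜 c j1 : A) ≠ 0 := by
    intro h
    exact (DFinsupp.mem_support_iff.mp hj1mem) (Subtype.ext h)
  have hj0ne : (decompose 𝒜 c j0 : A) ≠ 0 := by
    intro h
    exact (DFinsupp.mem_support_iff.mp hj0mem) (Subtype.ext h)
  -- the top: `j1 + 1 = e`
  have htop : j1 + 1 = e := by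
    by_contra hne'
    have h1 := hcomp (j1 + 1) hne'
    rw [add_sub_cancel_right] at h1
    have hzero : (decompose 𝒜 c (j1 + 1) : A) = 0 := by
      by_contra hnz
      have hmem' : j1 + 1 ∈ (decompose 𝒜 c).support :=
        DFinsupp.mem_support_iff.mpr (fun h => hnz (by rw [h]; rfl))
      have := Finset.le_max' _ _ hmem'
      omega
    rw [hzero] at h1
    rcases mul_eq_zero.mp h1 with h | h
    · exact hx0 h
    · exact hj1ne h
  -- the bottom: `j0 = e`
  have hbot : j0 = e := by
    by_contra hne'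
    have h1 := hcomp j0 hne'
    have hzero : (decompose 𝒜 c (j0 - 1) : A) = 0 := by
      by_contra hnz
      have hmem' : j0 - 1 ∈ (decompose 𝒜 c).support :=
        DFinsupp.mem_support_iff.mpr (fun h => hnz (by rw [h]; rfl))
      have := Finset.min'_le _ _ hmem'
      omega
    rw [hzero, mul_zero] at h1
    exact hj0ne h1.symm
  have hle : j0 ≤ j1 := Finset.min'_le _ _ hj1mem
  omega

theorem pow_sub_one_mem (x : A) (k : ℕ) : x ^ k - 1 ∈ Ideal.span {x - 1} := by
  rw [Ideal.mem_span_singleton]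
  simpa using sub_dvd_pow_sub_pow x 1 k

theorem pow_mem (hx : x ∈ 𝒜 1) (k : ℕ) : x ^ k ∈ 𝒜 (k : ℤ) := by
  have := SetLike.pow_mem_graded k hx
  simpa using this

/-- Raising the degree of a homogeneous representative. -/
theorem raise (hx : x ∈ 𝒜 1) {a a' : A} {M : ℤ} (ha' : a' ∈ 𝒜 M)
    (h : a - a' ∈ Ideal.span {x - 1}) (k : ℕ) :
    a' * x ^ k ∈ 𝒜 (M + k) ∧ a - a' * x ^ k ∈ Ideal.span {x - 1} := by
  refine ⟨SetLike.mul_mem_graded ha' (pow_mem 𝒜 hx k), ?_⟩
  have : a - a' * x ^ k = (a - a') - a' * (x ^ k - 1) := by ring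
  rw [this]
  exact Ideal.sub_mem _ h (Ideal.mul_mem_left _ _ (pow_sub_one_mem x k))

/-- Every element is congruent modulo `x - 1` to a homogeneous element, of any large degree. -/
theorem exists_homogeneous (hx : x ∈ 𝒜 1) (a : A) :
    ∃ M : ℤ, ∀ N : ℤ, M ≤ N → ∃ a' : A, a' ∈ 𝒜 N ∧ a - a' ∈ Ideal.span {x - 1} := by
  induction a using DirectSum.Decomposition.inductionOn 𝒜 with
  | zero => exact ⟨0, fun N _ => ⟨0, zero_mem _, by simp⟩⟩
  | homogeneous a =>
    rename_i i
    refine ⟨i, fun N hN => ?_⟩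
    obtain ⟨k, hk⟩ := Int.eq_ofNat_of_zero_le (sub_nonneg.mpr hN)
    have h := raise 𝒜 hx a.2 (by simp : (a : A) - a ∈ Ideal.span {x - 1}) k
    rw [← hk, add_sub_cancel] at h
    exact ⟨_, h.1, h.2⟩
  | add a b iha ihb =>
    obtain ⟨M1, h1⟩ := iha
    obtain ⟨M2, h2⟩ := ihb
    refine ⟨max M1 M2, fun N hN => ?_⟩
    obtain ⟨a', ha', ha''⟩ := h1 N (le_trans (le_max_left _ _) hN)
    obtain ⟨b', hb', hb''⟩ := h2 N (le_trans (le_max_right _ _) hN)
    refine ⟨a' + b', add_mem ha' hb', ?_⟩
    have : a + b - (a' + b') = (a - a') + (b - b') := by ring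
    rw [this]
    exact Ideal.add_mem _ ha'' hb''

/-- In a `ℤ`-graded domain with `x ≠ 0` of degree one, `(x - 1)` is a prime ideal. -/
theorem span_sub_one_isPrime [IsDomain A] (hx : x ∈ 𝒜 1) (hx0 : x ≠ 0) :
    (Ideal.span {x - 1}).IsPrime := by
  refine ⟨?_, ?_⟩
  · intro htop
    have h1 : (1 : A) ∈ Ideal.span {x - 1} := by rw [htop]; trivial
    exact one_ne_zero (eq_zero_of_mem_of_mem_span 𝒜 hx hx0 SetLike.GradedOne.one_mem h1)
  · intro a b hab
    obtain ⟨M1, h1⟩ := exists_homogeneous 𝒜 hx a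
    obtain ⟨M2, h2⟩ := exists_homogeneous 𝒜 hx b
    obtain ⟨a', ha', ha''⟩ := h1 M1 le_rfl
    obtain ⟨b', hb', hb''⟩ := h2 M2 le_rfl
    have hmem : a' * b' ∈ Ideal.span {x - 1} := by
      have : a' * b' = a * b - (a - a') * b - a' * (b - b') := by ring
      rw [this]
      exact Ideal.sub_mem _ (Ideal.sub_mem _ hab (Ideal.mul_mem_right _ _ ha''))
        (Ideal.mul_mem_left _ _ hb'')
    have hzero := eq_zero_of_mem_of_mem_span 𝒜 hx hx0 (SetLike.mul_mem_graded ha' hb') hmem
    rcases mul_eq_zero.mp hzero with h | h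
    · left
      rw [h, sub_zero] at ha''
      exact ha''
    · right
      rw [h, sub_zero] at hb''
      exact hb''

theorem mk_pow_eq_one (x : A) (k : ℕ) : Ideal.Quotient.mk (Ideal.span {x - 1}) (x ^ k) = 1 := by
  have := Ideal.Quotient.eq_zero_iff_mem.mpr (pow_sub_one_mem x k)
  rwa [map_sub, map_one, sub_eq_zero] at this

theorem mem_of_eq {a : A} {i j : ℤ} (h : a ∈ 𝒜 i) (hij : i = j) : a ∈ 𝒜 j := hij ▸ h

/-- Homogeneous lifts of natural-number degree. -/
theorem exists_lift (hx : x ∈ 𝒜 1) (y : A ⧸ Ideal.span {x - 1}) :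
    ∃ M : ℕ, ∀ N : ℕ, M ≤ N → ∃ a' : A, a' ∈ 𝒜 (N : ℤ) ∧
      Ideal.Quotient.mk (Ideal.span {x - 1}) a' = y := by
  obtain ⟨a, rfl⟩ := Ideal.Quotient.mk_surjective y
  obtain ⟨M, hM⟩ := exists_homogeneous 𝒜 hx a
  refine ⟨M.toNat, fun N hN => ?_⟩
  obtain ⟨a', ha', h⟩ := hM N (by omega)
  refine ⟨a', ha', ?_⟩
  rw [← sub_eq_zero, ← map_sub, Ideal.Quotient.eq_zero_iff_mem, ← Ideal.neg_mem_iff]
  simpa using h

/-- The dehomogenization `A/(x - 1)` of an integrally closed graded domain is integrally closed. -/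
theorem isIntegrallyClosed_quotient [IsDomain A] [IsIntegrallyClosed A] (hx : x ∈ 𝒜 1)
    (hx0 : x ≠ 0) [IsDomain (A ⧸ Ideal.span {x - 1})] :
    IsIntegrallyClosed (A ⧸ Ideal.span {x - 1}) := by
  classical
  rw [isIntegrallyClosed_iff (FractionRing (A ⧸ Ideal.span {x - 1}))]
  intro z hz
  obtain ⟨abar, bbar, hbbar, rfl⟩ := IsFractionRing.div_surjective (A := A ⧸ Ideal.span {x - 1}) z
  have hinj : Function.Injective (algebraMap (A ⧸ Ideal.span {x - 1})
      (FractionRing (A ⧸ Ideal.span {x - 1}))) := IsFractionRing.injective _ _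
  obtain ⟨p, hp, hroot⟩ := hz
  have h0 := scaleRoots_eval₂_eq_zero_of_eval₂_div_eq_zero hinj hroot hbbar
  rw [eval₂_at_apply] at h0
  have h1 : eval abar (scaleRoots p bbar) = 0 := hinj (by rw [h0, map_zero])
  rw [eval_eq_sum_range, natDegree_scaleRoots, Finset.sum_range_succ, coeff_scaleRoots_natDegree,
    hp.leadingCoeff, one_mul] at h1
  set N := p.natDegree with hN
  -- lifts
  obtain ⟨Ma, hMa⟩ := exists_lift 𝒜 hx abar
  obtain ⟨Mb, hMb⟩ := exists_lift 𝒜 hx bbar
  set k := max Ma Mb with hk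
  obtain ⟨a, ha, haa⟩ := hMa k (le_max_left _ _)
  obtain ⟨b, hb, hbb⟩ := hMb k (le_max_right _ _)
  choose Mc hMc using fun i : ℕ => exists_lift 𝒜 hx (p.coeff i)
  set e := (Finset.range N).sup Mc with he
  have hc : ∀ i : ℕ, ∃ c : A, i < N → c ∈ 𝒜 (e : ℤ) ∧
      Ideal.Quotient.mk (Ideal.span {x - 1}) c = p.coeff i := by
    intro i
    by_cases hi : i < N
    · obtain ⟨c, hc1, hc2⟩ := hMc i e (Finset.le_sup (f := Mc) (Finset.mem_range.mpr hi))
      exact ⟨c, fun _ => ⟨hc1, hc2⟩⟩
    · exact ⟨0, fun h => absurd h hi⟩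
  choose c hc using hc
  -- the homogeneous relation
  set H : A := x ^ e * a ^ N + ∑ i ∈ Finset.range N, c i * b ^ (N - i) * a ^ i with hH
  have hHmem : H ∈ 𝒜 ((e : ℤ) + N * k) := by
    apply add_mem
    · refine mem_of_eq 𝒜 (SetLike.mul_mem_graded (pow_mem 𝒜 hx e) (SetLike.pow_mem_graded N ha)) ?_
      simp
    · refine sum_mem fun i hi => ?_
      have hi' : i < N := Finset.mem_range.mp hi
      refine mem_of_eq 𝒜 (SetLike.mul_mem_graded (SetLike.mul_mem_graded (hc i hi').1
        (SetLike.pow_mem_graded (N - i) hb)) (SetLike.pow_mem_graded i ha)) ?_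
      simp only [nsmul_eq_mul]
      rw [Nat.cast_sub hi'.le]
      ring
  have hHzero : H = 0 := by
    apply eq_zero_of_mem_of_mem_span 𝒜 hx hx0 hHmem
    rw [← Ideal.Quotient.eq_zero_iff_mem, hH, map_add, map_mul, mk_pow_eq_one,
      one_mul, map_pow, map_sum, haa, ← h1, add_comm]
    congr 1
    apply Finset.sum_congr rfl
    intro i hi
    have hi' : i < N := Finset.mem_range.mp hi
    rw [map_mul, map_mul, map_pow, map_pow, (hc i hi').2, haa, hbb, coeff_scaleRoots]
  -- `N ≥ 1`
  have hNpos : 0 < N := by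
    rcases Nat.eq_zero_or_pos N with h | h
    · exfalso
      rw [hH, h] at hHzero
      simp only [pow_zero, mul_one, Finset.range_zero, Finset.sum_empty, add_zero] at hHzero
      exact hx0 (eq_zero_of_pow_eq_zero hHzero)
    · exact h
  have hb0 : b ≠ 0 := by
    rintro rfl
    rw [map_zero] at hbb
    exact (nonZeroDivisors.ne_zero hbbar) hbb.symm
  -- integrality of `x ^ e * a / b` over `A`
  set f := algebraMap A (FractionRing A) with hf
  have hfinj : Function.Injective f := IsFractionRing.injective A (FractionRing A)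
  have hfb : f b ≠ 0 := fun h => hb0 (hfinj (by rw [h, map_zero]))
  set w : FractionRing A := f (x ^ e * a) / f b with hw
  have hwb : f b * w = f (x ^ e * a) := by rw [hw]; field_simp
  have hint : IsIntegral A w := by
    refine ⟨X ^ N + ∑ i : Fin N, C (c i * x ^ (e * (N - 1 - i))) * X ^ (i : ℕ),
      monic_X_pow_add (degree_sum_fin_lt _), ?_⟩
    apply mul_left_cancel₀ (pow_ne_zero N hfb)
    rw [mul_zero]
    simp only [eval₂_add, eval₂_pow, eval₂_X, eval₂_finsetSum, eval₂_mul, eval₂_C]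
    rw [mul_add, ← mul_pow, hwb, Finset.mul_sum]
    have hterm : ∀ i : Fin N, f b ^ N * (f (c i * x ^ (e * (N - 1 - i))) * w ^ (i : ℕ)) =
        f (x ^ (e * (N - 1)) * (c i * b ^ (N - i) * a ^ (i : ℕ))) := by
      intro i
      have hi : (i : ℕ) < N := i.2
      have h1 : f b ^ N = f b ^ (N - i) * f b ^ (i : ℕ) := by
        rw [← pow_add]; congr 1; omega
      rw [h1]
      have h2 : f b ^ (N - i) * f b ^ (i : ℕ) * (f (c i * x ^ (e * (N - 1 - i))) * w ^ (i : ℕ)) =
          f b ^ (N - i) * f (c i * x ^ (e * (N - 1 - i))) * (f b * w) ^ (i : ℕ) := by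
        rw [mul_pow]; ring
      rw [h2, hwb]
      simp only [← map_pow, ← map_mul]
      congr 1
      have h3 : e * (N - 1) = e * (N - 1 - i) + e * i := by
        rw [← Nat.mul_add]; congr 1; omega
      rw [h3, pow_add, mul_pow, ← pow_mul]
      ring
    rw [Finset.sum_congr rfl (fun i _ => hterm i), ← map_sum, ← map_pow, ← map_add]
    have : (x ^ e * a) ^ N + ∑ i : Fin N, x ^ (e * (N - 1)) * (c i * b ^ (N - i) * a ^ (i : ℕ)) =
        x ^ (e * (N - 1)) * H := by
      rw [hH, mul_add, Finset.mul_sum, Finset.sum_range]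
      congr 1
      have h4 : e * N = e * (N - 1) + e := by
        obtain ⟨N', hN'⟩ : ∃ N', N = N' + 1 := ⟨N - 1, by omega⟩
        rw [hN']
        simp [Nat.mul_succ]
      rw [mul_pow, ← pow_mul, h4, pow_add]
      ring
    rw [this, hHzero, mul_zero, map_zero]
  obtain ⟨w0, hw0⟩ := IsIntegrallyClosed.isIntegral_iff.mp hint
  have hw0b : w0 * b = x ^ e * a := by
    apply hfinj
    rw [map_mul, hw0, mul_comm, hwb]
  -- the component of degree `e`
  have hcomp : (decompose 𝒜 w0 (e : ℤ) : A) * b = x ^ e * a := by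
    have h1 := coe_decompose_mul_add_of_right_mem 𝒜 (i := (e : ℤ)) (j := (k : ℤ)) (a := w0) hb
    rw [hw0b] at h1
    rw [← h1]
    exact decompose_of_mem_same 𝒜 (SetLike.mul_mem_graded (pow_mem 𝒜 hx e) ha)
  refine ⟨Ideal.Quotient.mk _ (decompose 𝒜 w0 (e : ℤ) : A), ?_⟩
  have hbbar0 : algebraMap (A ⧸ Ideal.span {x - 1})
      (FractionRing (A ⧸ Ideal.span {x - 1})) bbar ≠ 0 := by
    intro h
    exact (nonZeroDivisors.ne_zero hbbar) (hinj (by rw [h, map_zero]))
  rw [eq_div_iff hbbar0, ← map_mul, ← hbb, ← haa, ← map_mul, hcomp, map_mul, mk_pow_eq_one, one_mul]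

/-- `x - 1 ≠ 0` for `x` of degree one in a nontrivial graded ring. -/
theorem sub_one_ne_zero [Nontrivial A] (hx : x ∈ 𝒜 1) : x - 1 ≠ 0 := by
  intro h
  have hx1 : x = 1 := sub_eq_zero.mp h
  have h1 : (DirectSum.decompose 𝒜 x 0 : A) = 0 :=
    DirectSum.decompose_of_mem_ne 𝒜 hx (by norm_num)
  have h2 : (DirectSum.decompose 𝒜 (1 : A) 0 : A) = 1 :=
    DirectSum.decompose_of_mem_same 𝒜 SetLike.GradedOne.one_mem
  rw [hx1, h2] at h1
  exact one_ne_zero h1

end Graded

section Height

variable {R : Type u} [CommRing R] [IsNoetherianRing R]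

/-- Height of a prime of `R/(x)` versus its preimage, for `x` regular. -/
theorem height_comap_eq_height_add_one (x : R) (hreg : IsSMulRegular R x)
    (Q : Ideal (R ⧸ Ideal.span {x})) [Q.IsPrime] :
    (Q.comap (Ideal.Quotient.mk (Ideal.span {x}))).height = Q.height + 1 := by
  have hpp : (Q.comap (Ideal.Quotient.mk (Ideal.span ({x} : Set R)))).IsPrime :=
    Ideal.comap_isPrime _ _
  set p : Ideal R := Q.comap (Ideal.Quotient.mk (Ideal.span ({x} : Set R))) with hp
  set y : Localization.AtPrime p := algebraMap R (Localization.AtPrime p) x with hy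
  have hxp : x ∈ p := by
    rw [hp, Ideal.mem_comap, Ideal.Quotient.eq_zero_iff_mem.mpr (Ideal.mem_span_singleton_self x)]
    exact Q.zero_mem
  have hym : y ∈ IsLocalRing.maximalIdeal (Localization.AtPrime p) := by
    rw [← Localization.AtPrime.map_eq_maximalIdeal]
    exact Ideal.mem_map_of_mem _ hxp
  have hyreg : IsSMulRegular (Localization.AtPrime p) y := IsSMulRegular.of_flat hreg
  have hmapI : (Ideal.span ({x} : Set R)).map (algebraMap R (Localization.AtPrime p)) =
      Ideal.span {y} := by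
    rw [Ideal.map_span, Set.image_singleton]
  let e1 : Localization.AtPrime Q ≃+*
      (Localization.AtPrime p ⧸
        (Ideal.span ({x} : Set R)).map (algebraMap R (Localization.AtPrime p))) :=
    localizationQuotientEquiv (Ideal.span ({x} : Set R)) Q
  let e2 : (Localization.AtPrime p ⧸
      (Ideal.span ({x} : Set R)).map (algebraMap R (Localization.AtPrime p))) ≃+*
      (Localization.AtPrime p ⧸ Ideal.span {y}) := Ideal.quotEquivOfEq hmapI
  let e := e1.trans e2
  have h2 := ringKrullDim_quotient_span_singleton_succ_eq_ringKrullDim hyreg hym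
  rw [← ringKrullDim_eq_of_ringEquiv e,
    IsLocalization.AtPrime.ringKrullDim_eq_height Q (Localization.AtPrime Q),
    IsLocalization.AtPrime.ringKrullDim_eq_height p (Localization.AtPrime p)] at h2
  have : ((Q.height + 1 : ℕ∞) : WithBot ℕ∞) = ((p.height : ℕ∞) : WithBot ℕ∞) := by
    rw [← h2]; rfl
  exact (WithBot.coe_injective this).symm

end Height

section Dim

variable (k : Type u) [Field k] {A : Type u} [CommRing A] [IsDomain A] [Algebra k A]
  [Algebra.FiniteType k A]
include k

/-- In a finite type domain over a field, every maximal ideal has height the dimension. -/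
theorem height_eq_ringKrullDim_of_isMaximal (M : Ideal A) [hM : M.IsMaximal] :
    ((M.height : ℕ∞) : WithBot ℕ∞) = ringKrullDim A := by
  have hbot : (⊥ : Ideal A).IsPrime := Ideal.isPrime_bot
  let e : A ≃+* A ⧸ (⊥ : Ideal A) := (RingEquiv.quotientBot A).symm
  have hM' : (M.comap (e.symm : (A ⧸ (⊥ : Ideal A)) →+* A)).IsMaximal :=
    Ideal.comap_isMaximal_of_surjective _ e.symm.surjective
  have h1 := height_eq_ringKrullDim_quotient_of_isMaximal_of_finiteType k A ⊥
    (M.comap (e.symm : (A ⧸ (⊥ : Ideal A)) →+* A))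
  rw [← ringKrullDim_eq_of_ringEquiv e] at h1
  rw [← h1]
  congr 1
  exact (e.symm.height_comap M).symm

/-- For a regular element `x` of a finite type domain over a field with `(x)` prime:
`dim A/(x) + 1 = dim A`. -/
theorem ringKrullDim_quotient_add_one (x : A) (hx0 : x ≠ 0) [hp : (Ideal.span {x}).IsPrime] :
    ringKrullDim (A ⧸ Ideal.span {x}) + 1 = ringKrullDim A := by
  have hN : IsNoetherianRing A := Algebra.FiniteType.isNoetherianRing k A
  have hnt : Nontrivial (A ⧸ Ideal.span {x}) := Ideal.Quotient.nontrivial_iff.mpr hp.ne_top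
  obtain ⟨Mbar, hMbar⟩ := Ideal.exists_maximal (A ⧸ Ideal.span {x})
  have hMbarp : Mbar.IsPrime := hMbar.isPrime
  have h1 := height_eq_ringKrullDim_quotient_of_isMaximal_of_finiteType k A (Ideal.span {x}) Mbar
  have hMmax : (Mbar.comap (Ideal.Quotient.mk (Ideal.span {x}))).IsMaximal :=
    Ideal.comap_isMaximal_of_surjective _ Ideal.Quotient.mk_surjective
  have h2 := height_eq_ringKrullDim_of_isMaximal k (Mbar.comap (Ideal.Quotient.mk (Ideal.span {x})))
  have hreg : IsSMulRegular A x := by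
    intro a b hab
    exact mul_left_cancel₀ hx0 hab
  have h3 := height_comap_eq_height_add_one x hreg Mbar
  rw [← h1, ← h2, h3]
  rfl

end Dim

section CM

variable {R : Type u} [CommRing R]

/-- The quotient of a Cohen–Macaulay ring by a regular element is Cohen–Macaulay. -/
theorem isCohenMacaulayRing_quotient_of_isSMulRegular [hR : LocCoh.IsCohenMacaulayRing R] (x : R)
    (hreg : IsSMulRegular R x) : LocCoh.IsCohenMacaulayRing (R ⧸ Ideal.span {x}) := by
  have hN : IsNoetherianRing R := inferInstance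
  refine { isCohenMacaulayLocalRing_localization := fun Q hQ => ?_ }
  rw [Groth.Agent.Lib.Seat67.QuotRegCM.isCohenMacaulayLocalRing_localization_quotient_iff x hreg Q]
  exact hR.isCohenMacaulayLocalRing_localization _

end CM

end Groth.Agent.Lib.Seat67.Dehomog
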