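import Groth.Agent.Lib.Seat67GrInter

set_option autoImplicit false

/-!
# Hyperplane sections of cones and Cohen–Macaulayness (seat 67)
-/

universe u v

namespace Groth.Agent.Lib.Seat67.GrHyper

open scoped Pointwise
open Groth.Agent.Lib.Helper28 Groth.Agent.Lib.Seat67.GrCM Groth.Agent.Lib.Seat67.GrVertex
  Groth.Agent.Lib.Seat67.GrInter

variable {K : Type u} [Field K] {A : Type v} [CommRing A] [Algebra K A] [IsNoetherianRing A]
  (𝒜 : ℕ → Submodule K A) [GradedAlgebra 𝒜]

/-- `A/L` is a Cohen–Macaulay ring of Krull dimension `e`. -/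
def Good (L : Ideal A) (e : ℕ) : Prop :=
  LocCoh.IsCohenMacaulayRing (A ⧸ L) ∧ ringKrullDim (A ⧸ L) = (e : WithBot ℕ∞)

theorem Good.ne_top {L : Ideal A} {e : ℕ} (h : Good L e) : L ≠ ⊤ := ne_top_of_ringKrullDim_eq h.2

theorem isMaximal_map_irrelevant [Nontrivial A] (h0 : ∀ a ∈ 𝒜 0, ∃ c : K, algebraMap K A c = a)
    (L : Ideal A) (hL : L.IsHomogeneous 𝒜) (hLne : L ≠ ⊤) :
    ((HomogeneousIdeal.irrelevant 𝒜).toIdeal.map (Ideal.Quotient.mk L)).IsMaximal := by
  have hmax := irrelevant_isMaximal 𝒜 h0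
  have hLm : L ≤ (HomogeneousIdeal.irrelevant 𝒜).toIdeal :=
    le_irrelevant_of_isHomogeneous 𝒜 h0 hL hLne
  exact Ideal.IsMaximal.map_of_surjective_of_ker_le Ideal.Quotient.mk_surjective
    (by rwa [Ideal.mk_ker])

/-- From the vertex to the whole cone. -/
theorem good_of_vertex [Nontrivial A] (h0 : ∀ a ∈ 𝒜 0, ∃ c : K, algebraMap K A c = a)
    (L : Ideal A) (hL : L.IsHomogeneous 𝒜) (hLne : L ≠ ⊤) (e : ℕ)
    [hm : ((HomogeneousIdeal.irrelevant 𝒜).toIdeal.map (Ideal.Quotient.mk L)).IsPrime]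
    (hCM : LocCoh.IsCohenMacaulayLocalRing (Localization.AtPrime
      ((HomogeneousIdeal.irrelevant 𝒜).toIdeal.map (Ideal.Quotient.mk L))))
    (hdim : ringKrullDim (Localization.AtPrime
      ((HomogeneousIdeal.irrelevant 𝒜).toIdeal.map (Ideal.Quotient.mk L))) = (e : WithBot ℕ∞)) :
    Good L e := by
  have h1 := isCohenMacaulayRing_quotient_of_vertex 𝒜 h0 L hL hCM
  refine ⟨h1, ?_⟩
  rw [← height_irrelevant_map_eq_ringKrullDim 𝒜 h0 L hL hLne h1, ← hdim,
    IsLocalization.AtPrime.ringKrullDim_eq_height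
      ((HomogeneousIdeal.irrelevant 𝒜).toIdeal.map (Ideal.Quotient.mk L))]

/-- Union of two cones. -/
theorem good_inf (h0 : ∀ a ∈ 𝒜 0, ∃ c : K, algebraMap K A c = a)
    (I J : Ideal A) (hI : I.IsHomogeneous 𝒜) (hJ : J.IsHomogeneous 𝒜) (e : ℕ) (he : 1 ≤ e)
    (gI : Good I e) (gJ : Good J e) (gIJ : Good (I ⊔ J) (e - 1)) : Good (I ⊓ J) e := by
  have hntA : Nontrivial A := by
    by_contra hcon
    rw [not_nontrivial_iff_subsingleton] at hcon
    exact gI.ne_top (Subsingleton.elim _ _)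
  have hne : I ⊓ J ≠ ⊤ := fun h => gI.ne_top (top_le_iff.mp (h ▸ inf_le_left))
  have hm := (isMaximal_map_irrelevant 𝒜 h0 (I ⊓ J) (hI.inf hJ) hne).isPrime
  obtain ⟨h1, h2⟩ := isCohenMacaulay_inf_at_vertex 𝒜 h0 I J hI hJ e he gI.1 gJ.1 gIJ.1 gI.2 gJ.2
    gIJ.2
  exact good_of_vertex 𝒜 h0 (I ⊓ J) (hI.inf hJ) hne e h1 h2

/-- The quotient of `A/P` by `x`, as an `A`-module. -/
noncomputable def quotEquiv (P : Ideal A) (x : A) :
    QuotSMulTop x (A ⧸ P) ≃ₗ[A] A ⧸ (P ⊔ Ideal.span {x}) := by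
  have h : (x • (⊤ : Submodule A (A ⧸ P))) =
      Submodule.map (Submodule.mkQ P) (P ⊔ Ideal.span {x} : Submodule A A) := by
    rw [Submodule.map_sup, Submodule.mkQ_map_self, bot_sup_eq, Ideal.span, Submodule.map_span,
      Set.image_singleton, ← Submodule.ideal_span_singleton_smul x (⊤ : Submodule A (A ⧸ P))]
    apply le_antisymm
    · rw [Submodule.smul_le]
      intro r hr n _
      obtain ⟨a, rfl⟩ := Ideal.mem_span_singleton'.mp hr
      obtain ⟨b, rfl⟩ := Ideal.Quotient.mk_surjective n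
      have : (a * x) • (Ideal.Quotient.mk P b) = (a * b) • (Submodule.mkQ P x) := by
        show Ideal.Quotient.mk P ((a * x) • b) = Ideal.Quotient.mk P ((a * b) • x)
        congr 1
        simp only [smul_eq_mul]; ring
      rw [this]
      exact Submodule.smul_mem _ _ (Submodule.subset_span rfl)
    · rw [Submodule.span_le, Set.singleton_subset_iff]
      have : Submodule.mkQ P x = x • (Ideal.Quotient.mk P 1) := by
        show Ideal.Quotient.mk P x = Ideal.Quotient.mk P (x • 1)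
        simp
      rw [this]
      exact Submodule.smul_mem_smul (Ideal.subset_span rfl) Submodule.mem_top
  exact (Submodule.quotEquivOfEq _ _ h).trans
    (Submodule.quotientQuotientEquivQuotient (P : Submodule A A) (P ⊔ Ideal.span {x}) le_sup_left)

/-- **Hyperplane sections**: if `x` in the irrelevant ideal is regular on `A/P` and `A/(P + x)` is
Cohen–Macaulay of dimension `e - 1`, then `A/P` is Cohen–Macaulay of dimension `e`. -/
theorem good_of_hyperplane (h0 : ∀ a ∈ 𝒜 0, ∃ c : K, algebraMap K A c = a)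
    (P : Ideal A) (hP : P.IsHomogeneous 𝒜) (x : A)
    (hx : x ∈ (HomogeneousIdeal.irrelevant 𝒜).toIdeal)
    (hPx : (P ⊔ Ideal.span {x}).IsHomogeneous 𝒜)
    (hreg : IsSMulRegular (A ⧸ P) x) (e : ℕ) (he : 1 ≤ e)
    (g : Good (P ⊔ Ideal.span {x}) (e - 1)) : Good P e := by
  have hne' : P ⊔ Ideal.span {x} ≠ ⊤ := g.ne_top
  have hPne : P ≠ ⊤ := fun h => hne' (by rw [h, top_sup_eq])
  have hntA : Nontrivial A := by
    by_contra hcon
    rw [not_nontrivial_iff_subsingleton] at hcon
    exact hPne (Subsingleton.elim _ _)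
  set m := (HomogeneousIdeal.irrelevant 𝒜).toIdeal with hmdef
  have hmaxP := isMaximal_map_irrelevant 𝒜 h0 P hP hPne
  have hmaxPx := isMaximal_map_irrelevant 𝒜 h0 _ hPx hne'
  have hm : (m.map (Ideal.Quotient.mk P)).IsPrime := hmaxP.isPrime
  have d3 : LocCoh.idealDepth m (A ⧸ (P ⊔ Ideal.span {x})) = ((e - 1 : ℕ) : ℕ∞) := by
    rw [idealDepth_quotient_eq_height m _ g.1 hmaxPx.ne_top]
    have := height_irrelevant_map_eq_ringKrullDim 𝒜 h0 _ hPx hne' g.1
    rw [g.2] at this
    exact WithBot.coe_injective this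
  have hmM : m • (⊤ : Submodule A (A ⧸ P)) ≠ ⊤ := by
    intro h
    apply hmaxP.ne_top
    rw [Ideal.eq_top_iff_one]
    have h1 : (1 : A ⧸ P) ∈ m • (⊤ : Submodule A (A ⧸ P)) := by rw [h]; trivial
    have h2 : m • (⊤ : Submodule A (A ⧸ P)) ≤
        (m.map (Ideal.Quotient.mk P)).restrictScalars A := by
      rw [Submodule.smul_le]
      intro r hr n _
      show r • n ∈ m.map (Ideal.Quotient.mk P)
      rw [Algebra.smul_def]
      exact Ideal.mul_mem_right _ _ (Ideal.mem_map_of_mem _ hr)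
    exact h2 h1
  have d5 : LocCoh.idealDepth m (A ⧸ P) = (e : ℕ∞) := by
    rw [← idealDepth_quotSMulTop_add_one m (A ⧸ P) hmM x hx hreg,
      idealDepth_congr (quotEquiv P x) m, d3]
    have : e - 1 + 1 = e := by omega
    exact_mod_cast this
  have d6 : (e : ℕ∞) ≤ LocCoh.depth
      (Localization.AtPrime (m.map (Ideal.Quotient.mk P)))
      (Localization.AtPrime (m.map (Ideal.Quotient.mk P))) := by
    rw [idealDepth_restrictScalars_eq_idealDepth_map (B := A ⧸ P) m (A ⧸ P),
      Ideal.Quotient.algebraMap_eq] at d5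
    rw [← depth_localizedModule_self, ← d5]
    exact idealDepth_le_depth_localization _ (A ⧸ P) le_rfl
  have hNB : IsNoetherianRing (Localization.AtPrime (m.map (Ideal.Quotient.mk P))) :=
    IsLocalization.isNoetherianRing (m.map (Ideal.Quotient.mk P)).primeCompl _ inferInstance
  have d7 : ringKrullDim (Localization.AtPrime (m.map (Ideal.Quotient.mk P))) ≤
      (e : WithBot ℕ∞) := by
    rw [IsLocalization.AtPrime.ringKrullDim_eq_height (m.map (Ideal.Quotient.mk P))]
    have hmem : Ideal.Quotient.mk P x ∈ m.map (Ideal.Quotient.mk P) := Ideal.mem_map_of_mem _ hx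
    refine (Ideal.height_le_ringKrullDim_quotient_add_one hmem).trans ?_
    have hiso : ((A ⧸ P) ⧸ Ideal.span {Ideal.Quotient.mk P x}) ≃+* A ⧸ (P ⊔ Ideal.span {x}) := by
      have : (Ideal.span {x}).map (Ideal.Quotient.mk P) = Ideal.span {Ideal.Quotient.mk P x} := by
        rw [Ideal.map_span, Set.image_singleton]
      rw [← this]
      exact DoubleQuot.quotQuotEquivQuotSup P (Ideal.span {x})
    rw [ringKrullDim_eq_of_ringEquiv hiso, g.2]
    have : e - 1 + 1 = e := by omega
    exact_mod_cast this.le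
  have d8 := depth_le_supportDim
    (R := Localization.AtPrime (m.map (Ideal.Quotient.mk P)))
    (M := Localization.AtPrime (m.map (Ideal.Quotient.mk P)))
  rw [Module.supportDim_self_eq_ringKrullDim] at d8
  have d9 : LocCoh.depth (Localization.AtPrime (m.map (Ideal.Quotient.mk P)))
      (Localization.AtPrime (m.map (Ideal.Quotient.mk P))) = (e : ℕ∞) := by
    refine le_antisymm ?_ d6
    have := d8.trans d7
    exact_mod_cast this
  have d10 : ringKrullDim (Localization.AtPrime (m.map (Ideal.Quotient.mk P))) =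
      (e : WithBot ℕ∞) := by
    refine le_antisymm d7 ?_
    rw [d9] at d8
    exact_mod_cast d8
  refine good_of_vertex 𝒜 h0 P hP hPne e { supportDim_eq_depth := ?_ } d10
  rw [Module.supportDim_self_eq_ringKrullDim, d10, d9]
  rfl

end Groth.Agent.Lib.Seat67.GrHyper
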