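import Mathlib
import Groth.Prelude.Def_W4bk4grassmannianPl

/-!
# Combinatorics of the poset I(d,n) (seat 67): codeg is strictly monotone and modular; two distinct
Schubert divisors of `w` meet in a divisor of each.
-/

set_option autoImplicit false

namespace Groth.Agent.Lib.Seat67.SchubComb

open W4bk4grassmannian

variable {d n : ℕ}

theorem le_iff (a b : Idx d n) : a ≤ b ↔ ∀ t, a.1 t ≤ b.1 t := Iff.rfl

theorem val_ge (w : Idx d n) (t : Fin d) : t.val ≤ (w.1 t).val := by
  obtain ⟨t, ht⟩ := t
  induction t with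
  | zero => exact Nat.zero_le _
  | succ k ih =>
    have h1 := ih (by omega)
    have h2 : w.1 ⟨k, by omega⟩ < w.1 ⟨k + 1, ht⟩ := w.2 (by simp [Fin.lt_def])
    have h3 : (w.1 ⟨k, by omega⟩).val < (w.1 ⟨k + 1, ht⟩).val := h2
    simp only at h1 ⊢
    omega

/-- sum of the entries -/
def sv (w : Idx d n) : ℕ := Finset.univ.sum fun t : Fin d => (w.1 t).val

theorem codeg_add (w : Idx d n) : codeg w + (Finset.univ.sum fun t : Fin d => t.val) = sv w := by
  unfold codeg sv
  rw [← Finset.sum_add_distrib]
  exact Finset.sum_congr rfl (fun t _ => Nat.sub_add_cancel (val_ge w t))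

theorem sv_mono {a b : Idx d n} (h : a ≤ b) : sv a ≤ sv b :=
  Finset.sum_le_sum (fun t _ => h t)

theorem sv_strictMono {a b : Idx d n} (h : a < b) : sv a < sv b := by
  have hle : a ≤ b := le_of_lt h
  have hne : ¬ b ≤ a := not_le_of_gt h
  rw [le_iff] at hne
  simp only [not_forall, not_le] at hne
  obtain ⟨t, ht⟩ := hne
  exact Finset.sum_lt_sum (fun t _ => hle t) ⟨t, Finset.mem_univ t, ht⟩

theorem codeg_mono {a b : Idx d n} (h : a ≤ b) : codeg a ≤ codeg b := by
  have := sv_mono h
  rw [← codeg_add a, ← codeg_add b] at this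
  omega

theorem codeg_strictMono {a b : Idx d n} (h : a < b) : codeg a < codeg b := by
  have := sv_strictMono h
  rw [← codeg_add a, ← codeg_add b] at this
  omega

theorem sv_inf_add_sup (a b : Idx d n) :
    sv (W4bk4grassmannian.inf a b) + sv (W4bk4grassmannian.sup a b) = sv a + sv b := by
  unfold sv
  rw [← Finset.sum_add_distrib, ← Finset.sum_add_distrib]
  refine Finset.sum_congr rfl (fun t _ => ?_)
  simp only [W4bk4grassmannian.inf, W4bk4grassmannian.sup]
  rcases le_total (a.1 t) (b.1 t) with h | h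
  · rw [min_eq_left h, max_eq_right h]
  · rw [min_eq_right h, max_eq_left h, add_comm]

theorem codeg_inf_add_sup (a b : Idx d n) :
    codeg (W4bk4grassmannian.inf a b) + codeg (W4bk4grassmannian.sup a b) = codeg a + codeg b := by
  have := sv_inf_add_sup a b
  rw [← codeg_add a, ← codeg_add b, ← codeg_add (W4bk4grassmannian.inf a b),
    ← codeg_add (W4bk4grassmannian.sup a b)] at this
  omega

theorem idxInf_le_left (a b : Idx d n) : W4bk4grassmannian.inf a b ≤ a := fun t => min_le_left _ _
theorem idxInf_le_right (a b : Idx d n) : W4bk4grassmannian.inf a b ≤ b := fun t => min_le_right _ _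
theorem le_idxSup_left (a b : Idx d n) : a ≤ W4bk4grassmannian.sup a b := fun t => le_max_left _ _
theorem le_idxSup_right (a b : Idx d n) : b ≤ W4bk4grassmannian.sup a b := fun t => le_max_right _ _
theorem idxSup_le {a b c : Idx d n} (ha : a ≤ c) (hb : b ≤ c) : W4bk4grassmannian.sup a b ≤ c :=
  fun t => max_le (ha t) (hb t)
theorem le_idxInf {a b c : Idx d n} (ha : c ≤ a) (hb : c ≤ b) : c ≤ W4bk4grassmannian.inf a b :=
  fun t => le_min (ha t) (hb t)

/-- Two distinct divisors of `w` meet in a divisor of the second. -/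
theorem inf_mem_divisors {w φ a : Idx d n} (hφ : φ ∈ divisors w) (ha : a ∈ divisors w)
    (hne : φ ≠ a) : W4bk4grassmannian.inf φ a ∈ divisors a := by
  obtain ⟨hφw, hφc⟩ := hφ
  obtain ⟨haw, hac⟩ := ha
  -- sup φ a = has codeg of w
  have h1 : φ < W4bk4grassmannian.sup φ a := by
    refine lt_of_le_of_ne (le_idxSup_left φ a) (fun h => ?_)
    have h2 : a ≤ φ := by rw [h]; exact le_idxSup_right φ a
    rcases eq_or_lt_of_le h2 with h3 | h3
    · exact hne h3.symm
    · have := codeg_strictMono h3
      omega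
  have h2 : W4bk4grassmannian.sup φ a ≤ w := idxSup_le (le_of_lt hφw) (le_of_lt haw)
  have h3 := codeg_strictMono h1
  have h4 := codeg_mono h2
  have h5 := codeg_inf_add_sup φ a
  have hc : codeg (W4bk4grassmannian.inf φ a) + 1 = codeg a := by omega
  refine ⟨lt_of_le_of_ne (idxInf_le_right φ a) (fun h => ?_), hc⟩
  rw [h] at hc
  omega

end Groth.Agent.Lib.Seat67.SchubComb
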