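import Groth.Agent.Lib.Seat50StdMon
import Groth.Agent.Lib.Seat50SchubertPrime
import Groth.Agent.Lib.Seat67GrHyper
import Groth.Agent.Lib.Seat67SchubComb
import Groth.Agent.Lib.Helper28Unmixed
import Groth.Agent.Lib.Helper28PolyCM

set_option autoImplicit false

/-!
# Schubert varieties are arithmetically Cohen–Macaulay (seat 67)
-/

universe u

namespace Groth.Agent.Lib.Seat67.SchubCM

open W4bk4grassmannian MvPolynomial Groth.Agent.Lib.Seat50.StdMon Groth.Agent.Lib.Seat50.StdIndep
  Groth.Agent.Lib.Seat67.GrHyper Groth.Agent.Lib.Seat67.SchubComb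

variable (K : Type u) [Field K] {d n : ℕ}

attribute [local instance] MvPolynomial.gradedAlgebra

section Homog

theorem h0 : ∀ a ∈ homogeneousSubmodule (Idx d n) K 0, ∃ c : K,
    algebraMap K (PlRing K d n) c = a := by
  intro a ha
  rw [homogeneousSubmodule_zero, Submodule.mem_one] at ha
  exact ha

theorem coord_isHomogeneous (a : Fin d → Fin n) : (coord K d n a).IsHomogeneous 1 := by
  unfold coord
  split_ifs with h
  · have h1 : ((-1 : PlRing K d n) ^ invCount d n a).IsHomogeneous 0 := by
      have : ((-1 : PlRing K d n)).IsHomogeneous 0 := by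
        have := (isHomogeneous_one (Idx d n) K).neg
        exact this
      simpa using this.pow (invCount d n a)
    simpa using h1.mul (isHomogeneous_X K (sortIdx d n a h))
  · exact isHomogeneous_zero _ _ _

theorem shuffleRel_isHomogeneous (i j : Idx d n) (r : Fin d) :
    (shuffleRel K i j r).IsHomogeneous 2 := by
  unfold shuffleRel
  apply IsHomogeneous.sum
  intro A _
  unfold shuffleTerm
  split_ifs with hA
  · have h1 : ((-1 : PlRing K d n) ^ shuffleSign r A).IsHomogeneous 0 := by
      have : ((-1 : PlRing K d n)).IsHomogeneous 0 := (isHomogeneous_one (Idx d n) K).neg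
      simpa using this.pow (shuffleSign r A)
    simpa using (h1.mul (coord_isHomogeneous K _)).mul (coord_isHomogeneous K _)
  · exact isHomogeneous_zero _ _ _

theorem plIdeal_isHomogeneous (τ : Idx d n) :
    (plIdeal K τ).IsHomogeneous (homogeneousSubmodule (Idx d n) K) := by
  apply Ideal.homogeneous_span
  rintro f (⟨i, j, r, -, rfl⟩ | ⟨φ, -, rfl⟩)
  · exact ⟨2, shuffleRel_isHomogeneous K i j r⟩
  · exact ⟨1, isHomogeneous_X K φ⟩

variable [Infinite K]

theorem schubert_isHomogeneous (hd : 0 < d) (τ : Idx d n) :
    (schubertVanishing K d n τ).IsHomogeneous (homogeneousSubmodule (Idx d n) K) := by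
  rw [← plIdeal_eq K hd τ]
  exact plIdeal_isHomogeneous K τ

end Homog

section Base

/-- A proper ideal containing all the variables has quotient `K`: Cohen–Macaulay of dimension `0`. -/
theorem good_of_vars (L : Ideal (PlRing K d n)) (hL : L ≠ ⊤) (hX : ∀ φ : Idx d n, X φ ∈ L) :
    Good (A := PlRing K d n) L 0 := by
  have hsurj : Function.Surjective (algebraMap K (PlRing K d n ⧸ L)) := by
    intro y
    obtain ⟨f, rfl⟩ := Ideal.Quotient.mk_surjective y
    refine ⟨constantCoeff f, ?_⟩
    rw [IsScalarTower.algebraMap_apply K (PlRing K d n) (PlRing K d n ⧸ L),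
      Ideal.Quotient.algebraMap_eq, MvPolynomial.algebraMap_eq]
    symm
    rw [Ideal.Quotient.eq]
    induction f using MvPolynomial.induction_on with
    | C a => simp
    | add p q hp hq =>
      have : p + q - C (constantCoeff (p + q)) =
          (p - C (constantCoeff p)) + (q - C (constantCoeff q)) := by
        rw [map_add, map_add]; ring
      rw [this]
      exact L.add_mem hp hq
    | mul_X p i _ =>
      rw [map_mul, constantCoeff_X, mul_zero, map_zero, sub_zero]
      exact L.mul_mem_left _ (hX i)
  have : Nontrivial (PlRing K d n ⧸ L) := Ideal.Quotient.nontrivial_iff.mpr hL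
  have hinj : Function.Injective (algebraMap K (PlRing K d n ⧸ L)) :=
    (algebraMap K (PlRing K d n ⧸ L)).injective
  let e : K ≃+* (PlRing K d n ⧸ L) := RingEquiv.ofBijective _ ⟨hinj, hsurj⟩
  have := Groth.Agent.Lib.Helper28.isCohenMacaulayRing_of_field K
  refine ⟨Groth.Agent.Lib.Helper28.isCohenMacaulayRing_of_ringEquiv e, ?_⟩
  rw [← ringKrullDim_eq_of_ringEquiv e, ringKrullDim_eq_zero_of_field]
  rfl

/-- Evaluation at the zero matrix kills the Schubert ideals and the variables. -/
theorem schubert_sup_ne_top (hd : 0 < d) (w : Idx d n) (L : Ideal (PlRing K d n))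
    (hL : L ≤ schubertVanishing K d n w ⊔ Ideal.span (Set.range (X : Idx d n → PlRing K d n))) :
    L ≠ ⊤ := by
  intro h
  rw [h, top_le_iff] at hL
  have hle : schubertVanishing K d n w ⊔ Ideal.span (Set.range (X : Idx d n → PlRing K d n)) ≤
      RingHom.ker (evalMinors K d n 0).toRingHom := by
    apply sup_le
    · refine (iInf_le _ (0 : Matrix (Fin n) (Fin d) K)).trans (iInf_le _ ?_)
      intro φ _
      have : Nonempty (Fin d) := ⟨⟨0, hd⟩⟩
      exact Matrix.det_eq_zero_of_row_eq_zero (Classical.arbitrary _) (fun j => rfl)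
    · rw [Ideal.span_le]
      rintro _ ⟨φ, rfl⟩
      rw [SetLike.mem_coe, RingHom.mem_ker]
      have : Nonempty (Fin d) := ⟨⟨0, hd⟩⟩
      simp only [evalMinors, AlgHom.toRingHom_eq_coe, RingHom.coe_coe, aeval_X]
      exact Matrix.det_eq_zero_of_row_eq_zero (Classical.arbitrary _) (fun j => rfl)
  rw [hL, top_le_iff] at hle
  exact (RingHom.ker_ne_top _) hle

end Base

section Distrib

variable [Infinite K]

/-- Distributivity from standard monomial theory:
`J(a) + ⋂_{φ ∈ F} J(φ) = ⋂_{φ ∈ F} J(φ ∧ a)`. -/
theorem schubert_sup_iInf (hd : 0 < d) (a : Idx d n) (F : Finset (Idx d n)) :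
    schubertVanishing K d n a ⊔ ⨅ φ ∈ F, schubertVanishing K d n φ =
      ⨅ φ ∈ F, schubertVanishing K d n (W4bk4grassmannian.inf φ a) := by
  apply le_antisymm
  · apply _root_.sup_le
    · exact le_iInf₂ fun φ _ => schubert_anti K (idxInf_le_right φ a)
    · exact le_iInf₂ fun φ hφ => (iInf₂_le φ hφ).trans (schubert_anti K (idxInf_le_left φ a))
  · intro f hf
    obtain ⟨c, hc⟩ := exists_rep K f
    have htop : plIdealTop K (d := d) (n := n) ≤ schubertVanishing K d n a := plIdealTop_le K a
    have hcomb : comb K c ∈ ⨅ φ ∈ F, schubertVanishing K d n (W4bk4grassmannian.inf φ a) := by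
      have : comb K c = f - (f - comb K c) := by ring
      rw [this]
      refine Ideal.sub_mem _ hf ?_
      rw [Ideal.mem_iInf]
      intro φ
      rw [Ideal.mem_iInf]
      intro _
      exact plIdealTop_le K _ hc
    have hmem : comb K c ∈ schubertVanishing K d n a ⊔ ⨅ φ ∈ F, schubertVanishing K d n φ := by
      apply comb_mem_of_support
      intro ch hch
      by_cases hb : ∀ k, ch.2.1 k ≤ a
      · -- bounded by `a`: then not bounded by any `φ ∈ F`
        apply Ideal.mem_sup_right
        rw [Ideal.mem_iInf]
        intro φ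
        rw [Ideal.mem_iInf]
        intro hφ
        apply plIdeal_le K φ
        apply chainMon_mem_plIdeal K φ ch.2.1
        intro hbφ
        have h1 : comb K c ∈ schubertVanishing K d n (W4bk4grassmannian.inf φ a) := by
          have := hcomb
          rw [Ideal.mem_iInf] at this
          have := this φ
          rw [Ideal.mem_iInf] at this
          exact this hφ
        have h2 := coeff_eq_zero_of_mem K hd (W4bk4grassmannian.inf φ a) c h1 ch
          (fun k => le_idxInf (hbφ k) (hb k))
        exact (Finsupp.mem_support_iff.mp hch) h2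
      · apply Ideal.mem_sup_left
        exact plIdeal_le K a (chainMon_mem_plIdeal K a ch.2.1 hb)
    have : f = (f - comb K c) + comb K c := by ring
    rw [this]
    exact Ideal.add_mem _ (Ideal.mem_sup_left (htop hc)) hmem

end Distrib

section Main

/-- The minimal element of `I(d,n)`. -/
def wmin (w : Idx d n) : Idx d n :=
  ⟨fun t => ⟨t.val, lt_of_le_of_lt (val_ge w t) (w.1 t).isLt⟩, fun _ _ h => h⟩

theorem wmin_le (w v : Idx d n) : wmin w ≤ v := fun t => val_ge v t

theorem codeg_wmin (w : Idx d n) : codeg (wmin w) = 0 := by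
  unfold codeg wmin
  simp

theorem X_mem_irrelevant (w : Idx d n) :
    (X w : PlRing K d n) ∈
      (HomogeneousIdeal.irrelevant (homogeneousSubmodule (Idx d n) K)).toIdeal := by
  rw [HomogeneousIdeal.mem_iff, HomogeneousIdeal.mem_irrelevant_iff, GradedRing.proj_apply]
  change ((MvPolynomial.decomposition.decompose' (X w : PlRing K d n) 0 : PlRing K d n)) = 0
  rw [MvPolynomial.decomposition.decompose'_apply, MvPolynomial.homogeneousComponent_zero]
  simp

theorem span_X_isHomogeneous (w : Idx d n) :
    (Ideal.span {(X w : PlRing K d n)}).IsHomogeneous (homogeneousSubmodule (Idx d n) K) := by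
  apply Ideal.homogeneous_span
  rintro f rfl
  exact ⟨1, isHomogeneous_X K w⟩

variable [Infinite K]

theorem isSMulRegular_X (hd : 0 < d) (w : Idx d n) :
    IsSMulRegular (PlRing K d n ⧸ schubertVanishing K d n w) (X w : PlRing K d n) := by
  have := Groth.Agent.Lib.Seat50.SchubertPrime.schubert_isPrime K hd w
  intro a b hab
  have hne : Ideal.Quotient.mk (schubertVanishing K d n w) (X w) ≠ 0 := by
    rw [Ne, Ideal.Quotient.eq_zero_iff_mem]
    exact Groth.Agent.Lib.Seat50.SchubertPrime.X_notMem_schubert K hd w w le_rfl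
  have h1 : Ideal.Quotient.mk (schubertVanishing K d n w) (X w) * a =
      Ideal.Quotient.mk (schubertVanishing K d n w) (X w) * b := hab
  exact mul_left_cancel₀ hne h1

/-- **Main induction**: Schubert varieties and unions of Schubert divisors are arithmetically
Cohen–Macaulay of the expected dimension. -/
theorem main (hd : 0 < d) : ∀ N : ℕ,
    (∀ w : Idx d n, codeg w = N → Good (A := PlRing K d n) (schubertVanishing K d n w) (N + 1)) ∧
    (∀ w : Idx d n, codeg w = N + 1 → ∀ F : Finset (Idx d n), F.Nonempty →
      (∀ φ ∈ F, φ ∈ divisors w) →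
      Good (A := PlRing K d n) (⨅ φ ∈ F, schubertVanishing K d n φ) (N + 1)) := by
  classical
  intro N
  induction N using Nat.strong_induction_on with
  | _ N ih =>
  have hA : ∀ w : Idx d n, codeg w = N →
      Good (A := PlRing K d n) (schubertVanishing K d n w) (N + 1) := by
    intro w hw
    have hhomw := schubert_isHomogeneous K hd w
    have hPx : (schubertVanishing K d n w ⊔ Ideal.span {(X w : PlRing K d n)}).IsHomogeneous
        (homogeneousSubmodule (Idx d n) K) := hhomw.sup (span_X_isHomogeneous K w)
    apply good_of_hyperplane (homogeneousSubmodule (Idx d n) K) (h0 K) _ hhomw (X w)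
      (X_mem_irrelevant K w) hPx (isSMulRegular_X K hd w) (N + 1) (Nat.succ_le_succ (Nat.zero_le N))
    rw [Nat.add_sub_cancel]
    by_cases hex : ∃ φ : Idx d n, φ < w
    · -- positive dimension: the hyperplane section is the union of the divisors
      obtain ⟨θ, hθ⟩ := hex
      have hNpos : 1 ≤ N := by
        have := codeg_strictMono hθ
        omega
      obtain ⟨M, rfl⟩ : ∃ M, N = M + 1 := ⟨N - 1, by omega⟩
      rw [schubert_sup_X K hd w ⟨θ, hθ⟩]
      set F : Finset (Idx d n) := Finset.univ.filter (fun φ => φ ∈ divisors w) with hF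
      have hFne : F.Nonempty := by
        obtain ⟨φ, hφ, -⟩ := exists_divisor θ w hθ
        exact ⟨φ, by rw [hF, Finset.mem_filter]; exact ⟨Finset.mem_univ _, hφ⟩⟩
      have hconv : (⨅ φ ∈ divisors w, schubertVanishing K d n φ) =
          ⨅ φ ∈ F, schubertVanishing K d n φ := by
        apply le_antisymm
        · exact le_iInf₂ fun φ hφ => iInf₂_le φ (by
            rw [hF, Finset.mem_filter] at hφ; exact hφ.2)
        · exact le_iInf₂ fun φ hφ => iInf₂_le φ (by
            rw [hF, Finset.mem_filter]; exact ⟨Finset.mem_univ _, hφ⟩)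
      rw [hconv]
      exact (ih M (Nat.lt_succ_self M)).2 w hw F hFne (fun φ hφ => by
        rw [hF, Finset.mem_filter] at hφ; exact hφ.2)
    · -- the point: the hyperplane section is the vertex
      have hmin : w = wmin w := by
        by_contra hne
        exact hex ⟨wmin w, lt_of_le_of_ne (wmin_le w w) (fun h => hne h.symm)⟩
      have hN0 : N = 0 := by rw [← hw, hmin, codeg_wmin]
      subst hN0
      apply good_of_vars
      · apply schubert_sup_ne_top K hd w
        apply sup_le_sup_left
        apply Ideal.span_mono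
        rintro _ rfl
        exact ⟨w, rfl⟩
      · intro φ
        by_cases hφ : φ ≤ w
        · have : φ = w := by
            by_contra hne
            exact hex ⟨φ, lt_of_le_of_ne hφ hne⟩
          rw [this]
          exact Ideal.mem_sup_right (Ideal.subset_span rfl)
        · exact Ideal.mem_sup_left (X_mem_schubert K w φ hφ)
  refine ⟨hA, ?_⟩
  intro w hw F hFne hFdiv
  induction hFne using Finset.Nonempty.cons_induction with
  | singleton a =>
    have ha : a ∈ divisors w := hFdiv a (Finset.mem_singleton_self a)
    have hca : codeg a = N := by have := ha.2; omega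
    simpa using hA a hca
  | cons a F haF hFne ihF =>
    have ha : a ∈ divisors w := hFdiv a (Finset.mem_cons_self a F)
    have hca : codeg a = N := by have := ha.2; omega
    have hFdiv' : ∀ φ ∈ F, φ ∈ divisors w := fun φ hφ => hFdiv φ (Finset.mem_cons_of_mem hφ)
    have gI := ihF hFdiv'
    have gJ := hA a hca
    rw [Finset.cons_eq_insert, Finset.iInf_insert]
    have hhomI : (⨅ φ ∈ F, schubertVanishing K d n φ).IsHomogeneous
        (homogeneousSubmodule (Idx d n) K) :=
      Ideal.IsHomogeneous.iInf₂ (fun φ _ => schubert_isHomogeneous K hd φ)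
    apply good_inf (homogeneousSubmodule (Idx d n) K) (h0 K) _ _ (schubert_isHomogeneous K hd a)
      hhomI (N + 1) (Nat.succ_le_succ (Nat.zero_le N)) gJ gI
    rw [Nat.add_sub_cancel, schubert_sup_iInf K hd a F]
    -- the intersections are divisors of `a`
    obtain ⟨b, hb⟩ := hFne
    have hba : b ≠ a := fun h => haF (h ▸ hb)
    have hdiv : ∀ φ ∈ F, W4bk4grassmannian.inf φ a ∈ divisors a := fun φ hφ =>
      inf_mem_divisors (hFdiv' φ hφ) ha (fun h => haF (h ▸ hφ))
    have hNpos : 1 ≤ N := by
      have := (hdiv b hb).2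
      omega
    obtain ⟨M, rfl⟩ : ∃ M, N = M + 1 := ⟨N - 1, by omega⟩
    have hconv : (⨅ φ ∈ F, schubertVanishing K d n (W4bk4grassmannian.inf φ a)) =
        ⨅ ψ ∈ F.image (fun φ => W4bk4grassmannian.inf φ a), schubertVanishing K d n ψ := by
      rw [Finset.iInf_finset_image]
    rw [hconv]
    apply (ih M (Nat.lt_succ_self M)).2 a hca _ (Finset.Nonempty.image ⟨b, hb⟩ _)
    intro ψ hψ
    obtain ⟨φ, hφ, rfl⟩ := Finset.mem_image.mp hψ
    exact hdiv φ hφ

end Main

end Groth.Agent.Lib.Seat67.SchubCM
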