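import Groth.Agent.Lib.Seat67Dehomog
import Groth.Agent.Lib.Seat67SchubCM
import Groth.Agent.Lib.Seat50SchubertCell
import Groth.Agent.Lib.Helper28PolyCM
import Groth.Agent.S11258
import Groth.Agent.S11255
import Groth.Agent.Lib.Seat50SFT

set_option autoImplicit false
set_option linter.style.haveILetI false

/-!
# Affine charts of Schubert varieties as dehomogenizations (seat 67)

`dehomog_schubert`: for `θ ≤ τ`, `PlRing ⧸ (I(X(τ)) ⊔ (X θ - 1))` is a normal Cohen–Macaulay
domain of dimension `codeg τ`.  `codeg_phi`: the value of `codeg` at the determinantal index.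
-/
universe u

namespace Groth.Agent.Lib.Seat67.DehomogSchub

open W4bk4grassmannian MvPolynomial Groth.Agent.Lib.Seat67.GrCM Groth.Agent.Lib.Seat67.Dehomog
  Groth.Agent.Lib.Helper28

attribute [local instance] MvPolynomial.gradedAlgebra


variable (K : Type u) [Field K] [IsAlgClosed K] {d n : ℕ}

/-- The affine open `X θ ≠ 0` of a Schubert variety, as the dehomogenization of the Schubert
cone: a normal Cohen–Macaulay domain of dimension `codeg τ`. -/
theorem dehomog_schubert (hd : 0 < d) (hdn : d < n) (τ θ : Idx d n) (hθ : θ ≤ τ) :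
    IsDomain (PlRing K d n ⧸ (schubertVanishing K d n τ ⊔ Ideal.span {X θ - 1})) ∧
    IsIntegrallyClosed (PlRing K d n ⧸ (schubertVanishing K d n τ ⊔ Ideal.span {X θ - 1})) ∧
    LocCoh.IsCohenMacaulayRing
      (PlRing K d n ⧸ (schubertVanishing K d n τ ⊔ Ideal.span {X θ - 1})) ∧
    ringKrullDim (PlRing K d n ⧸ (schubertVanishing K d n τ ⊔ Ideal.span {X θ - 1})) =
      ((codeg τ : ℕ) : WithBot ℕ∞) := by
  set J := schubertVanishing K d n τ with hJdef
  have hJ : J.IsHomogeneous (homogeneousSubmodule (Idx d n) K) :=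
    Groth.Agent.Lib.Seat67.SchubCM.schubert_isHomogeneous K hd τ
  have hJℤ : J.IsHomogeneous (zgr (homogeneousSubmodule (Idx d n) K)) :=
    (isHomogeneous_zgr_iff _ J).mpr hJ
  letI := gradedRingQuot (zgr (homogeneousSubmodule (Idx d n) K)) J hJℤ
  haveI hdom : IsDomain (PlRing K d n ⧸ J) :=
    Groth.Agent.Lib.Seat50.SchubertCell.isDomain_schubert K hd τ
  haveI hnormal : IsIntegrallyClosed (PlRing K d n ⧸ J) :=
    Groth.Agent.Lib.Seat50.SchubertCell.isIntegrallyClosed_schubert K hd hdn τ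
  haveI hCM : LocCoh.IsCohenMacaulayRing (PlRing K d n ⧸ J) :=
    Groth.Agent.S11258.result K d n hd hdn τ
  have hdim : ringKrullDim (PlRing K d n ⧸ J) = ((codeg τ + 1 : ℕ) : WithBot ℕ∞) :=
    Groth.Agent.S11255.result K d n hd hdn τ
  set x : PlRing K d n ⧸ J := Ideal.Quotient.mk J (X θ) with hxdef
  have hx : x ∈ qgr (zgr (homogeneousSubmodule (Idx d n) K)) J 1 := by
    apply mk_mem_qgr
    exact (mem_zgr_natCast (homogeneousSubmodule (Idx d n) K) (n := 1)).mpr
      (isHomogeneous_X K θ)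
  have hx0 : x ≠ 0 := by
    intro h
    rw [hxdef, Ideal.Quotient.eq_zero_iff_mem] at h
    exact Groth.Agent.Lib.Seat50.SchubertPrime.X_notMem_schubert K hd τ θ hθ h
  haveI hprime : (Ideal.span {x - 1}).IsPrime := span_sub_one_isPrime _ hx hx0
  haveI hdomQ : IsDomain ((PlRing K d n ⧸ J) ⧸ Ideal.span {x - 1}) := Ideal.Quotient.isDomain _
  have hne : x - 1 ≠ 0 := sub_one_ne_zero _ hx
  have hreg : IsSMulRegular (PlRing K d n ⧸ J) (x - 1) := by
    intro a b hab
    exact mul_left_cancel₀ hne hab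
  have hnormQ : IsIntegrallyClosed ((PlRing K d n ⧸ J) ⧸ Ideal.span {x - 1}) :=
    isIntegrallyClosed_quotient _ hx hx0
  haveI hCMQ : LocCoh.IsCohenMacaulayRing ((PlRing K d n ⧸ J) ⧸ Ideal.span {x - 1}) :=
    isCohenMacaulayRing_quotient_of_isSMulRegular (x - 1) hreg
  have hdimQ : ringKrullDim ((PlRing K d n ⧸ J) ⧸ Ideal.span {x - 1}) =
      ((codeg τ : ℕ) : WithBot ℕ∞) := by
    have h1 := ringKrullDim_quotient_add_one K (x - 1) hne
    rw [hdim] at h1
    apply Groth.Agent.Lib.Seat67.QuotRegCM.withBot_add_one_cancel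
    rw [h1]
    push_cast
    rfl
  -- identification
  have hmap : (Ideal.span {X θ - 1} : Ideal (PlRing K d n)).map (Ideal.Quotient.mk J) =
      Ideal.span {x - 1} := by
    rw [Ideal.map_span, Set.image_singleton, map_sub, map_one]
  let e : ((PlRing K d n ⧸ J) ⧸ Ideal.span {x - 1}) ≃+*
      (PlRing K d n ⧸ (J ⊔ Ideal.span {X θ - 1})) :=
    (Ideal.quotEquivOfEq hmap.symm).trans (DoubleQuot.quotQuotEquivQuotSup J (Ideal.span {X θ - 1}))
  refine ⟨?_, ?_, ?_, ?_⟩
  · exact e.symm.toMulEquiv.isDomain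
  · exact IsIntegrallyClosed.of_equiv (R := (PlRing K d n ⧸ J) ⧸ Ideal.span {x - 1}) e
  · exact isCohenMacaulayRing_of_ringEquiv (R := (PlRing K d n ⧸ J) ⧸ Ideal.span {x - 1}) e
  · rw [← ringKrullDim_eq_of_ringEquiv (R := (PlRing K d n ⧸ J) ⧸ Ideal.span {x - 1}) e]
    exact hdimQ

open Groth.Agent.Lib.Seat50.SFT in
theorem codeg_phi (d r n : ℕ) (hnd : n + 1 ≤ d) (hnr : n + 1 ≤ r) :
    codeg (phi d r n hnd hnr) = n * (d + r - n) := by
  unfold codeg
  have h : ∀ t : Fin d, ((phi d r n hnd hnr).1 t).val - t.val =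
      if t.val < d - n then n else r := by
    intro t
    by_cases ht : t.val + (n + 1) ≤ d
    · rw [phi_val_of_le d r n hnd hnr t ht, if_pos (by omega)]
      omega
    · rw [phi_val_of_not_le d r n hnd hnr t ht, if_neg (by omega)]
      omega
  rw [Finset.sum_congr rfl (fun t _ => h t)]
  rw [Fin.sum_univ_eq_sum_range (fun i => if i < d - n then n else r) d]
  rw [Finset.sum_ite]
  simp only [Finset.sum_const, smul_eq_mul]
  have h1 : (Finset.range d).filter (fun i => i < d - n) = Finset.range (d - n) := by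
    ext i
    simp only [Finset.mem_filter, Finset.mem_range]
    omega
  have h2 : ((Finset.range d).filter (fun i => ¬ i < d - n)).card = n := by
    have := Finset.card_filter_add_card_filter_not (s := Finset.range d) (fun i => i < d - n)
    rw [h1, Finset.card_range, Finset.card_range] at this
    omega
  rw [h1, h2, Finset.card_range]
  have : d + r - n = (d - n) + r := by omega
  rw [this, Nat.mul_add]
  ring

end Groth.Agent.Lib.Seat67.DehomogSchub
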