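import Mathlib
import Groth.Prelude.Def_CAlgX

set_option autoImplicit false
set_option linter.unusedSectionVars false
universe u v

namespace Groth.Agent.Lib.Seat67.DetDeriv

open Matrix

section Leibniz

variable {k : Type*} {R : Type*} {Ω : Type*} [CommRing k] [CommRing R] [Algebra k R]
  [AddCommGroup Ω] [Module k Ω] [Module R Ω] [IsScalarTower k R Ω] (D : Derivation k R Ω)

/-- Leibniz rule for a finite product. -/
theorem leibniz_prod {ι : Type*} [DecidableEq ι] (s : Finset ι) (f : ι → R) :
    D (∏ i ∈ s, f i) = ∑ i ∈ s, (∏ j ∈ s.erase i, f j) • D (f i) := by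
  induction s using Finset.induction_on with
  | empty => simp
  | insert a s ha ih =>
    rw [Finset.prod_insert ha, D.leibniz, ih, Finset.sum_insert ha, Finset.erase_insert ha,
      Finset.smul_sum, add_comm]
    congr 1
    apply Finset.sum_congr rfl
    intro i hi
    have hia : i ≠ a := fun h => ha (h ▸ hi)
    rw [Finset.erase_insert_of_ne (Ne.symm hia), Finset.prod_insert, mul_smul]
    intro h
    exact ha (Finset.mem_of_mem_erase h)

variable {n : Type*} [Fintype n] [DecidableEq n]

theorem prod_updateRow_single (N : Matrix n n R) (σ : Equiv.Perm n) (a i : n) :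
    ∏ j, (N.updateRow a (Pi.single i 1)) (σ j) j =
      if σ i = a then ∏ j ∈ Finset.univ.erase i, N (σ j) j else 0 := by
  split_ifs with h
  · rw [← Finset.mul_prod_erase Finset.univ _ (Finset.mem_univ i)]
    rw [h, Matrix.updateRow_self, Pi.single_eq_same, one_mul]
    apply Finset.prod_congr rfl
    intro j hj
    have hji : j ≠ i := Finset.ne_of_mem_erase hj
    have : σ j ≠ a := fun h' => hji (σ.injective (h'.trans h.symm))
    rw [Matrix.updateRow_ne this]
  · apply Finset.prod_eq_zero (Finset.mem_univ (σ.symm a))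
    rw [Equiv.apply_symm_apply, Matrix.updateRow_self, Pi.single_eq_of_ne]
    intro h'
    apply h
    rw [← h', Equiv.apply_symm_apply]

/-- **Jacobi's formula** for a derivation applied to a determinant. -/
theorem derivation_det (N : Matrix n n R) :
    D N.det = ∑ i, ∑ a, N.adjugate i a • D (N a i) := by
  classical
  rw [Matrix.det_apply, map_sum]
  have h1 : ∀ σ : Equiv.Perm n, D (Equiv.Perm.sign σ • ∏ i, N (σ i) i) =
      ∑ i, ∑ a, (Equiv.Perm.sign σ • if σ i = a then ∏ j ∈ Finset.univ.erase i, N (σ j) j else 0) •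
        D (N a i) := by
    intro σ
    rw [Units.smul_def, map_zsmul, leibniz_prod, Finset.smul_sum]
    apply Finset.sum_congr rfl
    intro i _
    rw [Finset.sum_eq_single (σ i)]
    · rw [if_pos rfl, Units.smul_def, smul_assoc]
    · intro b _ hb
      rw [if_neg (Ne.symm hb), smul_zero, zero_smul]
    · intro h; exact absurd (Finset.mem_univ _) h
  rw [Finset.sum_congr rfl (fun σ _ => h1 σ), Finset.sum_comm]
  apply Finset.sum_congr rfl
  intro i _
  rw [Finset.sum_comm]
  apply Finset.sum_congr rfl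
  intro a _
  rw [← Finset.sum_smul]
  congr 1
  rw [Matrix.adjugate_apply, Matrix.det_apply]
  apply Finset.sum_congr rfl
  intro σ _
  rw [prod_updateRow_single]

end Leibniz

section Minors

variable {R : Type u} [CommRing R] {m n : Type} [Fintype m] [Fintype n]

theorem det_submatrix_mem (M : Matrix m n R) {t : ℕ} (f : Fin t → m) (g : Fin t → n) :
    (M.submatrix f g).det ∈ CAlgX.minorIdeal M t :=
  Ideal.subset_span ⟨(f, g), rfl⟩

theorem minorIdeal_submatrix_le (M : Matrix m n R) {s : ℕ} (f : Fin s → m) (g : Fin s → n)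
    (t : ℕ) : CAlgX.minorIdeal (M.submatrix f g) t ≤ CAlgX.minorIdeal M t := by
  unfold CAlgX.minorIdeal
  rw [Ideal.span_le]
  rintro _ ⟨⟨f', g'⟩, rfl⟩
  exact Ideal.subset_span ⟨(f ∘ f', g ∘ g'), rfl⟩

theorem minorIdeal_succ_le (M : Matrix m n R) (t : ℕ) :
    CAlgX.minorIdeal M (t + 1) ≤ CAlgX.minorIdeal M t := by
  unfold CAlgX.minorIdeal
  rw [Ideal.span_le]
  rintro _ ⟨⟨f, g⟩, rfl⟩
  simp only
  rw [Matrix.det_succ_row_zero]
  refine Ideal.sum_mem _ fun j _ => ?_
  apply Ideal.mul_mem_left
  exact Ideal.subset_span ⟨(f ∘ Fin.succ, g ∘ j.succAbove), rfl⟩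

theorem adjugate_mem_minorIdeal {t : ℕ} (N : Matrix (Fin (t + 1)) (Fin (t + 1)) R)
    (i a : Fin (t + 1)) : N.adjugate i a ∈ CAlgX.minorIdeal N t := by
  rw [Matrix.adjugate_fin_succ_eq_det_submatrix]
  exact Ideal.mul_mem_left _ _ (det_submatrix_mem N _ _)

variable {k : Type*} {Ω : Type*} [CommRing k] [Algebra k R]
  [AddCommGroup Ω] [Module k Ω] [Module R Ω] [IsScalarTower k R Ω] (D : Derivation k R Ω)

theorem derivation_det_submatrix_mem (M : Matrix m n R) {t : ℕ} (f : Fin (t + 1) → m)
    (g : Fin (t + 1) → n) :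
    D (M.submatrix f g).det ∈ (CAlgX.minorIdeal M t) • (⊤ : Submodule R Ω) := by
  rw [derivation_det]
  refine Submodule.sum_mem _ fun i _ => Submodule.sum_mem _ fun a _ => ?_
  exact Submodule.smul_mem_smul
    (minorIdeal_submatrix_le M f g t (adjugate_mem_minorIdeal _ i a)) Submodule.mem_top

/-- A derivation maps the ideal of `(t+1)`-minors into `I_t • Ω`. -/
theorem derivation_mem_of_mem_minorIdeal (M : Matrix m n R) (t : ℕ) {x : R}
    (hx : x ∈ CAlgX.minorIdeal M (t + 1)) :
    D x ∈ (CAlgX.minorIdeal M t) • (⊤ : Submodule R Ω) := by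
  unfold CAlgX.minorIdeal at hx
  induction hx using Submodule.span_induction with
  | mem x hx =>
    obtain ⟨⟨f, g⟩, rfl⟩ := hx
    exact derivation_det_submatrix_mem D M f g
  | zero => rw [map_zero]; exact zero_mem _
  | add x y _ _ hx hy => rw [map_add]; exact add_mem hx hy
  | smul a x hx ih =>
    rw [smul_eq_mul, D.leibniz]
    refine add_mem (Submodule.smul_mem _ _ ih) ?_
    exact Submodule.smul_mem_smul (minorIdeal_succ_le M t hx) Submodule.mem_top

end Minors

end Groth.Agent.Lib.Seat67.DetDeriv
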