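import Mathlib

set_option autoImplicit false
universe u

namespace Groth.Agent.Lib.Seat67.ExtPres

open CategoryTheory Abelian

variable {R : Type u} [CommRing R] {M : Type u} [AddCommGroup M] [Module R M]

/-- If `M` has a presentation `0 → R --v--> Rⁿ --φ--> M → 0`, then `Ext²(M, R) = 0` and
`Ext¹(M, R) ≅ R/(v_1, …, v_n)`. -/
theorem ext_of_presentation {n : ℕ} (v : Fin n → R) (φ : (Fin n → R) →ₗ[R] M)
    (hφ : Function.Surjective φ) (hker : LinearMap.ker φ = Submodule.span R {v})
    (hinj : ∀ c : R, c • v = 0 → c = 0) :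
    Subsingleton (Ext (ModuleCat.of R M) (ModuleCat.of R R) 2) ∧
      Nonempty (Ext (ModuleCat.of R M) (ModuleCat.of R R) 1 ≃ₗ[R]
        (R ⧸ Ideal.span (Set.range v))) := by
  let ι : R →ₗ[R] (Fin n → R) := LinearMap.toSpanSingleton R _ v
  have hι : ∀ c, ι c = c • v := fun c => rfl
  have hv : φ v = 0 := by
    have : v ∈ LinearMap.ker φ := by rw [hker]; exact Submodule.subset_span rfl
    exact this
  let SC : ShortComplex (ModuleCat.{u} R) :=
    ShortComplex.mk (ModuleCat.ofHom ι) (ModuleCat.ofHom φ) (by
      apply ModuleCat.hom_ext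
      apply LinearMap.ext
      intro c
      change φ (ι c) = 0
      rw [hι, map_smul, hv, smul_zero])
  have hSC : SC.ShortExact :=
    ShortComplex.ShortExact.mk'
      ((ShortComplex.moduleCat_exact_iff _).mpr fun z hz => by
        have hz' : z ∈ LinearMap.ker φ := hz
        rw [hker, Submodule.mem_span_singleton] at hz'
        obtain ⟨c, hc⟩ := hz'
        exact ⟨c, hc⟩)
      ((ModuleCat.mono_iff_injective _).mpr (by
        intro c1 c2 h
        have h' : ι c1 = ι c2 := h
        rw [hι, hι] at h'
        have := hinj (c1 - c2) (by rw [sub_smul, h', sub_self])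
        exact sub_eq_zero.mp this))
      ((ModuleCat.epi_iff_surjective _).mpr hφ)
  have hP1 : Projective (ModuleCat.of R (Fin n → R)) :=
    (IsProjective.iff_projective _).mp inferInstance
  have hP0 : Projective (ModuleCat.of R R) :=
    (IsProjective.iff_projective _).mp inferInstance
  have : Projective SC.X₂ := hP1
  have : Projective SC.X₁ := hP0
  refine ⟨⟨fun x y => ?_⟩, ?_⟩
  · have hz : ∀ x : Ext (ModuleCat.of R M) (ModuleCat.of R R) 2, x = 0 := by
      intro x
      obtain ⟨x1, hx1⟩ := Ext.contravariant_sequence_exact₃ hSC (ModuleCat.of R R) x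
        (Ext.eq_zero_of_projective _) (show 1 + 1 = 2 by rfl)
      rw [← hx1, Ext.eq_zero_of_projective x1, Ext.comp_zero]
    rw [hz x, hz y]
  · let e₀ : Ext (ModuleCat.of R M) (ModuleCat.of R R) 1 := hSC.extClass
    let L : R →ₗ[R] Ext (ModuleCat.of R M) (ModuleCat.of R R) 1 := LinearMap.toSpanSingleton R _ e₀
    have hL : ∀ c, L c = c • e₀ := fun c => rfl
    have hcomp : ∀ c : R, hSC.extClass.comp (Ext.mk₀ (c • 𝟙 (ModuleCat.of R R))) (add_zero 1) =
        c • e₀ := by
      intro c
      rw [Ext.mk₀_smul, Ext.comp_smul, Ext.comp_mk₀_id]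
    have hLsurj : Function.Surjective L := by
      intro x
      obtain ⟨x1, hx1⟩ := Ext.contravariant_sequence_exact₃ hSC (ModuleCat.of R R) x
        (Ext.eq_zero_of_projective _) (show 1 + 0 = 1 by rfl)
      obtain ⟨g, rfl⟩ := (Ext.mk₀_bijective _ _).2 x1
      refine ⟨g.hom (1 : R), ?_⟩
      rw [hL, ← hcomp, ← hx1]
      congr 2
      apply ModuleCat.hom_ext
      apply LinearMap.ext
      intro r
      change (g.hom (1 : R)) • r = g.hom r
      rw [smul_eq_mul, mul_comm, ← smul_eq_mul, ← map_smul, smul_eq_mul, mul_one]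
    have hLker : LinearMap.ker L = Ideal.span (Set.range v) := by
      ext c
      rw [LinearMap.mem_ker, hL, ← hcomp]
      constructor
      · intro h0
        obtain ⟨x2, hx2⟩ := Ext.contravariant_sequence_exact₁ hSC (ModuleCat.of R R)
          (Ext.mk₀ (c • 𝟙 (ModuleCat.of R R))) (show 1 + 0 = 1 by rfl) h0
        obtain ⟨g', rfl⟩ := (Ext.mk₀_bijective _ _).2 x2
        rw [Ext.mk₀_comp_mk₀] at hx2
        have h1 := (Ext.mk₀_bijective _ _).1 hx2
        have h2 : g'.hom v = c := by
          have := congrArg (fun t => t.hom (1 : R)) h1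
          simp only at this
          change g'.hom (ι 1) = c • (1 : R) at this
          rw [hι, one_smul, smul_eq_mul, mul_one] at this
          exact this
        rw [← h2]
        have hvsum : v = ∑ i, v i • (Pi.single i (1 : R) : Fin n → R) := by
          ext j
          simp [Finset.sum_apply, Pi.single_apply]
        have hgv : g'.hom v = ∑ i, v i * g'.hom (Pi.single i (1 : R) : Fin n → R) := by
          conv_lhs => rw [hvsum]
          rw [map_sum]
          refine Finset.sum_congr rfl fun i _ => ?_
          rw [map_smul, smul_eq_mul]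
        rw [hgv]
        refine Ideal.sum_mem _ fun i _ => ?_
        exact Ideal.mul_mem_right _ _ (Ideal.subset_span ⟨i, rfl⟩)
      · intro hc
        have hc' : c ∈ Submodule.span R (Set.range v) := hc
        rw [Submodule.mem_span_range_iff_exists_fun] at hc'
        obtain ⟨a, ha⟩ := hc'
        let g' : (Fin n → R) →ₗ[R] R := ∑ i, a i • LinearMap.proj i
        have hg' : ModuleCat.ofHom ι ≫ ModuleCat.ofHom g' = c • 𝟙 (ModuleCat.of R R) := by
          apply ModuleCat.hom_ext
          apply LinearMap.ext
          intro r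
          change g' (ι r) = c • r
          rw [hι, map_smul]
          have : g' v = c := by
            rw [← ha]
            simp [g', LinearMap.sum_apply]
          rw [this, smul_eq_mul, smul_eq_mul, mul_comm]
        rw [← hg', ← Ext.mk₀_comp_mk₀, ← Ext.comp_assoc_of_third_deg_zero]
        · have := hSC.extClass_comp
          change hSC.extClass.comp (Ext.mk₀ (ModuleCat.ofHom ι)) _ = 0 at this
          rw [this, Ext.zero_comp]
    refine ⟨LinearEquiv.symm ?_⟩
    exact (Submodule.quotEquivOfEq _ _ hLker.symm).trans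
      (L.quotKerEquivOfSurjective hLsurj)

end Groth.Agent.Lib.Seat67.ExtPres
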