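import Groth.Agent.Lib.Helper28SkLift
import Groth.Agent.Lib.Helper28PolyCM
import Groth.Agent.Lib.Helper28CMFib1

/-!
# Cohen–Macaulayness and quotients by a regular element (seat 67)

* `isCohenMacaulayLocalRing_quotient_span_singleton_iff`: for a Noetherian local ring `R` and a
  regular element `x` of the maximal ideal, `R/(x)` is Cohen–Macaulay iff `R` is.
* `isCohenMacaulayLocalRing_localization_quotient_iff`: for a Noetherian ring `R`, a regular
  element `x` and a prime `Q` of `R/(x)`: `(R/(x))_Q` is CM iff `R_q` is, `q` the preimage of `Q`.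
-/

set_option autoImplicit false
universe u

namespace Groth.Agent.Lib.Seat67.QuotRegCM

open Groth.Agent.Lib.Helper28

section Local

variable {R : Type u} [CommRing R] [IsNoetherianRing R] [IsLocalRing R]

theorem withBot_add_one_cancel {a b : WithBot ℕ∞} (h : a + 1 = b + 1) : a = b := by
  induction a using WithBot.recBotCoe with
  | bot =>
    induction b using WithBot.recBotCoe with
    | bot => rfl
    | coe b =>
      rw [← WithBot.coe_one, ← WithBot.coe_add] at h
      exact absurd h.symm WithBot.coe_ne_bot
  | coe a =>
    induction b using WithBot.recBotCoe with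
    | bot =>
      rw [← WithBot.coe_one, ← WithBot.coe_add] at h
      exact absurd h WithBot.coe_ne_bot
    | coe b =>
      have h' : ((a + 1 : ℕ∞) : WithBot ℕ∞) = ((b + 1 : ℕ∞) : WithBot ℕ∞) := by
        push_cast; exact h
      have h'' := WithBot.coe_injective h'
      rw [(ENat.add_left_injective_of_ne_top ENat.one_ne_top).eq_iff] at h''
      rw [h'']

/-- For a regular element `x` of the maximal ideal of a Noetherian local ring `R`, the quotient
`R/(x)` is Cohen–Macaulay iff `R` is. -/
theorem isCohenMacaulayLocalRing_quotient_span_singleton_iff (x : R)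
    (hx : x ∈ IsLocalRing.maximalIdeal R) (hreg : IsSMulRegular R x) :
    LocCoh.IsCohenMacaulayLocalRing (R ⧸ Ideal.span {x}) ↔ LocCoh.IsCohenMacaulayLocalRing R := by
  have hne : Ideal.span {x} ≠ ⊤ := by
    intro h
    have : Ideal.span {x} ≤ IsLocalRing.maximalIdeal R :=
      (Ideal.span_singleton_le_iff_mem _).mpr hx
    rw [h] at this
    exact (IsLocalRing.maximalIdeal.isMaximal R).ne_top (top_le_iff.mp this)
  have hloc : IsLocalRing (R ⧸ Ideal.span {x}) := Groth.Agent.Lib.Helper5.isLocalRing_quotient hne
  have h1 := depth_quotient_span_singleton_add_one x hx hreg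
  have h2 := ringKrullDim_quotient_span_singleton_succ_eq_ringKrullDim hreg hx
  constructor
  · intro h
    refine { supportDim_eq_depth := ?_ }
    have h3 := h.supportDim_eq_depth
    rw [Module.supportDim_self_eq_ringKrullDim] at h3 ⊢
    rw [← h2, ← h1, h3]
    push_cast
    rfl
  · intro h
    refine { supportDim_eq_depth := ?_ }
    have h3 := h.supportDim_eq_depth
    rw [Module.supportDim_self_eq_ringKrullDim] at h3 ⊢
    rw [← h2, ← h1] at h3
    push_cast at h3
    exact withBot_add_one_cancel h3

end Local

section Global

variable {R : Type u} [CommRing R] [IsNoetherianRing R]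

/-- For a regular element `x` of a Noetherian ring `R` and a prime `Q` of `R/(x)` with preimage
`q` in `R`: `(R/(x))_Q` is Cohen–Macaulay iff `R_q` is. -/
theorem isCohenMacaulayLocalRing_localization_quotient_iff (x : R) (hreg : IsSMulRegular R x)
    (Q : Ideal (R ⧸ Ideal.span {x})) [Q.IsPrime] :
    LocCoh.IsCohenMacaulayLocalRing (Localization.AtPrime Q) ↔
      LocCoh.IsCohenMacaulayLocalRing
        (Localization.AtPrime (Q.comap (Ideal.Quotient.mk (Ideal.span {x})))) := by
  have hpp : (Q.comap (Ideal.Quotient.mk (Ideal.span ({x} : Set R)))).IsPrime :=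
    Ideal.comap_isPrime _ _
  set p : Ideal R := Q.comap (Ideal.Quotient.mk (Ideal.span ({x} : Set R))) with hp
  set y : Localization.AtPrime p := algebraMap R (Localization.AtPrime p) x with hy
  have hxp : x ∈ p := by
    rw [hp, Ideal.mem_comap, Ideal.Quotient.eq_zero_iff_mem.mpr (Ideal.mem_span_singleton_self x)]
    exact Q.zero_mem
  have hym : y ∈ IsLocalRing.maximalIdeal (Localization.AtPrime p) := by
    rw [← Localization.AtPrime.map_eq_maximalIdeal]
    exact Ideal.mem_map_of_mem _ hxp
  have hyreg : IsSMulRegular (Localization.AtPrime p) y := IsSMulRegular.of_flat hreg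
  have hmapI : (Ideal.span ({x} : Set R)).map (algebraMap R (Localization.AtPrime p)) =
      Ideal.span {y} := by
    rw [Ideal.map_span, Set.image_singleton]
  let e1 : Localization.AtPrime Q ≃+*
      (Localization.AtPrime p ⧸
        (Ideal.span ({x} : Set R)).map (algebraMap R (Localization.AtPrime p))) :=
    localizationQuotientEquiv (Ideal.span ({x} : Set R)) Q
  let e2 : (Localization.AtPrime p ⧸
      (Ideal.span ({x} : Set R)).map (algebraMap R (Localization.AtPrime p))) ≃+*
      (Localization.AtPrime p ⧸ Ideal.span {y}) := Ideal.quotEquivOfEq hmapI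
  let e := e1.trans e2
  rw [← isCohenMacaulayLocalRing_quotient_span_singleton_iff y hym hyreg]
  constructor
  · intro h
    exact isCohenMacaulayLocalRing_of_ringEquiv e
  · intro h
    exact isCohenMacaulayLocalRing_of_ringEquiv e.symm

end Global


section Surj
variable {R : Type u} [CommRing R] [IsNoetherianRing R] {G : Type u} [CommRing G]

/-- For a surjection `φ : R → G` with kernel generated by a regular element `x` and a prime `p` of
`G` : `G_p` is Cohen–Macaulay iff `R_{φ⁻¹ p}` is. -/
theorem isCohenMacaulayLocalRing_localization_iff_of_ker_eq_span (φ : R →+* G)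
    (hφ : Function.Surjective φ) (x : R) (hker : RingHom.ker φ = Ideal.span {x})
    (hreg : IsSMulRegular R x) (p : Ideal G) [p.IsPrime] :
    LocCoh.IsCohenMacaulayLocalRing (Localization.AtPrime p) ↔
      LocCoh.IsCohenMacaulayLocalRing (Localization.AtPrime (p.comap φ)) := by
  let e : (R ⧸ Ideal.span {x}) ≃+* G :=
    (Ideal.quotEquivOfEq hker.symm).trans (RingHom.quotientKerEquivOfSurjective hφ)
  have he : ∀ r : R, e (Ideal.Quotient.mk _ r) = φ r := fun r => rfl
  have hp' : (p.comap (e : (R ⧸ Ideal.span {x}) →+* G)).IsPrime := Ideal.comap_isPrime _ _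
  have hcomap : (p.comap (e : (R ⧸ Ideal.span {x}) →+* G)).comap
      (Ideal.Quotient.mk (Ideal.span {x})) = p.comap φ := by
    ext r
    simp only [Ideal.mem_comap]
    rw [RingEquiv.coe_toRingHom, he]
  have h1 := isCohenMacaulayLocalRing_localization_quotient_iff x hreg
    (p.comap (e : (R ⧸ Ideal.span {x}) →+* G))
  have key : ∀ (P : Ideal R) [P.IsPrime], P = p.comap φ →
      (LocCoh.IsCohenMacaulayLocalRing (Localization.AtPrime P) ↔
      LocCoh.IsCohenMacaulayLocalRing (Localization.AtPrime (p.comap φ))) := by
    intro P _ hP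
    subst hP
    exact Iff.rfl
  rw [← key _ hcomap, ← h1]
  constructor
  · intro h
    exact isCohenMacaulayLocalRing_of_ringEquiv
      (Localization.localRingEquiv (p.comap (e : (R ⧸ Ideal.span {x}) →+* G)) p e rfl).symm
  · intro h
    exact isCohenMacaulayLocalRing_of_ringEquiv
      (Localization.localRingEquiv (p.comap (e : (R ⧸ Ideal.span {x}) →+* G)) p e rfl)

end Surj

section LocEquiv

variable {S : Type u} [CommRing S] (M : Submonoid S) (T : Type u) [CommRing T] [Algebra S T]
  [IsLocalization M T]

/-- Localizing a localization at an extended prime. -/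
theorem nonempty_localization_map_equiv (p : Ideal S) [hp : p.IsPrime]
    (hd : Disjoint (M : Set S) (p : Set S)) [hP : (p.map (algebraMap S T)).IsPrime] :
    Nonempty (Localization.AtPrime (p.map (algebraMap S T)) ≃+* Localization.AtPrime p) := by
  have hc : (p.map (algebraMap S T)).comap (algebraMap S T) = p :=
    IsLocalization.under_map_of_isPrime_disjoint M T hp hd
  have h2 := IsLocalization.isLocalization_isLocalization_atPrime_isLocalization (M := M)
    (Localization.AtPrime (p.map (algebraMap S T))) (p.map (algebraMap S T))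
  have key : ∀ (p' : Ideal S) [p'.IsPrime], p' = p →
      IsLocalization.AtPrime (Localization.AtPrime (p.map (algebraMap S T))) p' →
      Nonempty (Localization.AtPrime (p.map (algebraMap S T)) ≃+* Localization.AtPrime p) := by
    intro p' hp' he h3
    subst he
    exact ⟨(IsLocalization.algEquiv p'.primeCompl
      (Localization.AtPrime (p'.map (algebraMap S T))) (Localization.AtPrime p')).toRingEquiv⟩
  exact key _ hc h2

theorem isCohenMacaulayLocalRing_localization_map_iff (p : Ideal S) [hp : p.IsPrime]
    (hd : Disjoint (M : Set S) (p : Set S)) [hP : (p.map (algebraMap S T)).IsPrime] :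
    LocCoh.IsCohenMacaulayLocalRing (Localization.AtPrime (p.map (algebraMap S T))) ↔
      LocCoh.IsCohenMacaulayLocalRing (Localization.AtPrime p) := by
  obtain ⟨e⟩ := nonempty_localization_map_equiv M T p hd
  exact ⟨fun h => isCohenMacaulayLocalRing_of_ringEquiv e,
    fun h => isCohenMacaulayLocalRing_of_ringEquiv e.symm⟩

end LocEquiv

section Poly

open Polynomial

/-- Pointwise version of "polynomial rings over Cohen–Macaulay rings are Cohen–Macaulay". -/
theorem isCohenMacaulayLocalRing_polynomial_atPrime {A : Type u} [CommRing A] [IsNoetherianRing A]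
    (Q : Ideal A[X]) [Q.IsPrime]
    (hA : LocCoh.IsCohenMacaulayLocalRing (Localization.AtPrime (Q.comap (algebraMap A A[X])))) :
    LocCoh.IsCohenMacaulayLocalRing (Localization.AtPrime Q) := by
  have hloc : IsLocalRing (EGA4.FibLocRing A A[X] Q) := isLocalRing_fibLocRing (A := A) Q
  have hdom : IsDomain (EGA4.FibLocRing A A[X] Q) := isDomain_fibLocRing_polynomial Q
  exact isCohenMacaulayLocalRing_localization_of_fibLocRing (A := A) Q hA
    (depth_self_eq_ringKrullDim_of_isDomain_of_le_one (ringKrullDim_fibLocRing_polynomial_le_one Q))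

end Poly

end Groth.Agent.Lib.Seat67.QuotRegCM
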