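import Groth.Prelude.Def_Rees2
import Groth.Prelude.Def_AssocGr2
import Groth.Agent.Lib.Seat67GrCM
import Groth.Agent.Lib.Seat67QuotRegCM

/-!
# The extended Rees algebra of a filtration of ideals (seat 67)

* `sgr ℳ`: a grading by submodules regarded as a grading by additive subgroups.
* `isSMulRegular_u`: `u = T⁻¹` is a nonzerodivisor of the extended Rees algebra.
* `finiteType_extRees`, `isNoetherianRing_extRees`.
* `sup_span_u_ne_top`: over a local ring, a proper homogeneous ideal of the extended Rees algebra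
  together with `u` generates a proper ideal (if `F 1 ≠ ⊤`).
-/

set_option autoImplicit false
universe u v w

open DirectSum

namespace Groth.Agent.Lib.Seat67.ExtRees

section ToAddSubgroup

variable {ι : Type w} [DecidableEq ι] [AddMonoid ι] {R : Type v} {A : Type u} [CommRing R]
  [CommRing A] [Algebra R A] (ℳ : ι → Submodule R A)

/-- A grading by submodules regarded as a grading by additive subgroups. -/
def sgr (i : ι) : AddSubgroup A := (ℳ i).toAddSubgroup

theorem mem_sgr {i : ι} {a : A} : a ∈ sgr ℳ i ↔ a ∈ ℳ i := Iff.rfl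

variable [GradedAlgebra ℳ]

instance : SetLike.GradedMonoid (sgr ℳ) where
  one_mem := (SetLike.GradedOne.one_mem : (1 : A) ∈ ℳ 0)
  mul_mem := fun {i j a b} ha hb => (SetLike.mul_mem_graded (A := ℳ) ha hb : a * b ∈ ℳ (i + j))

/-- The comparison map on direct sums. -/
def smap : (⨁ i, ℳ i) →+ ⨁ i, sgr ℳ i :=
  DirectSum.toAddMonoid fun i =>
    (DirectSum.of (fun i => sgr ℳ i) i).comp
      ({ toFun := fun x => ⟨x.1, x.2⟩
         map_zero' := rfl
         map_add' := fun _ _ => rfl } : ℳ i →+ sgr ℳ i)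

theorem smap_of (i : ι) (x : ℳ i) :
    smap ℳ (DirectSum.of (fun i => ℳ i) i x) = DirectSum.of (fun i => sgr ℳ i) i ⟨x.1, x.2⟩ := by
  unfold smap
  rw [DirectSum.toAddMonoid_of]
  rfl

theorem coe_comp_smap :
    (DirectSum.coeAddMonoidHom (sgr ℳ)).comp (smap ℳ) = DirectSum.coeAddMonoidHom ℳ := by
  apply DirectSum.addHom_ext
  intro n x
  rw [AddMonoidHom.comp_apply, smap_of, DirectSum.coeAddMonoidHom_of, DirectSum.coeAddMonoidHom_of]

instance : DirectSum.Decomposition (sgr ℳ) :=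
  DirectSum.Decomposition.ofAddHom (sgr ℳ)
    ((smap ℳ).comp (DirectSum.decomposeAddEquiv ℳ).toAddMonoidHom)
    (by
      rw [← AddMonoidHom.comp_assoc, coe_comp_smap]
      ext a
      simp only [AddMonoidHom.comp_apply, AddMonoidHom.id_apply]
      exact (DirectSum.decompose ℳ).left_inv a)
    (by
      apply DirectSum.addHom_ext
      rintro n ⟨x, hx⟩
      simp only [AddMonoidHom.comp_apply, DirectSum.coeAddMonoidHom_of, AddMonoidHom.id_apply]
      change smap ℳ (DirectSum.decompose ℳ x) = _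
      rw [DirectSum.decompose_of_mem ℳ (hx : x ∈ ℳ n), smap_of])

instance : GradedRing (sgr ℳ) where

theorem decompose_sgr (a : A) :
    DirectSum.decompose (sgr ℳ) a = smap ℳ (DirectSum.decompose ℳ a) := rfl

theorem smap_apply (x : ⨁ i, ℳ i) (i : ι) : ((smap ℳ x i : sgr ℳ i) : A) = x i := by
  classical
  induction x using DirectSum.induction_on with
  | zero => simp
  | of m y =>
    rw [smap_of]
    by_cases h : m = i
    · subst h
      rw [DirectSum.of_eq_same, DirectSum.of_eq_same]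
    · rw [DirectSum.of_eq_of_ne _ _ _ (Ne.symm h), DirectSum.of_eq_of_ne _ _ _ (Ne.symm h)]
      rfl
  | add x y hx hy =>
    rw [map_add, DirectSum.add_apply, DirectSum.add_apply, AddSubgroup.coe_add, hx, hy]
    rfl

theorem decompose_sgr_coe (a : A) (i : ι) :
    (DirectSum.decompose (sgr ℳ) a i : A) = DirectSum.decompose ℳ a i := by
  rw [decompose_sgr, smap_apply]

theorem isHomogeneous_sgr_iff (I : Ideal A) : I.IsHomogeneous (sgr ℳ) ↔ I.IsHomogeneous ℳ := by
  constructor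
  · intro h i a ha
    have := h i ha
    rwa [decompose_sgr_coe] at this
  · intro h i a ha
    rw [decompose_sgr_coe]
    exact h i ha

end ToAddSubgroup

section ExtRees

open Polynomial LaurentPolynomial AssocGr

variable {A : Type u} [CommRing A] (𝓕 : FiltBl.IdealFiltration A)

/-- `u = T⁻¹` is a nonzerodivisor of the extended Rees algebra. -/
theorem isSMulRegular_u : IsSMulRegular 𝓕.extRees 𝓕.u := by
  intro a b hab
  simp only [smul_eq_mul] at hab
  have h1 : ((𝓕.u * a : 𝓕.extRees) : A[T;T⁻¹]) = ((𝓕.u * b : 𝓕.extRees) : A[T;T⁻¹]) := by rw [hab]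
  rw [Subalgebra.coe_mul, Subalgebra.coe_mul, coe_u] at h1
  apply Subtype.ext
  have h2 := congrArg (fun z => T 1 * z) h1
  simp only [← mul_assoc, ← T_add] at h2
  simpa using h2

/-- The coefficient of `u * x`. -/
theorem coeff_u_mul (x : 𝓕.extRees) (z : ℤ) :
    ((𝓕.u * x : 𝓕.extRees) : A[T;T⁻¹]).coeff z = (x : A[T;T⁻¹]).coeff (z + 1) := by
  rw [Subalgebra.coe_mul, coe_u, LaurentPolynomial.T]
  have := AddMonoidAlgebra.coeff_single_mul_add (x : A[T;T⁻¹]) (1 : A) (-1 : ℤ) (z + 1)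
  rw [one_mul] at this
  rw [← this]
  congr 2
  ring

/-- A term of negative degree is a multiple of a power of `u`. -/
theorem termL_eq_smul_u_pow (x : 𝓕.extRees) {z : ℤ} (hz : z ≤ 0) :
    termL 𝓕 x z = (x : A[T;T⁻¹]).coeff z • 𝓕.u ^ (-z).toNat := by
  apply Subtype.ext
  rw [coe_termL, Subalgebra.coe_smul, Subalgebra.coe_pow, coe_u, T_pow, T,
    AddMonoidAlgebra.smul_single, smul_eq_mul, mul_one]
  congr 1
  rw [Int.toNat_of_nonneg (by omega)]
  ring

/-- The extended Rees algebra is generated by the Rees algebra and `u`. -/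
theorem aevalTower_surjective :
    Function.Surjective (Polynomial.aevalTower (toExt 𝓕) 𝓕.u) := by
  intro x
  suffices h : x ∈ (Polynomial.aevalTower (toExt 𝓕) 𝓕.u).range by
    rwa [AlgHom.mem_range] at h
  rw [← sum_termL 𝓕 x]
  refine Subalgebra.sum_mem _ fun z _ => ?_
  by_cases hz : 0 ≤ z
  · rw [termL_eq_toExt 𝓕 x hz]
    exact ⟨Polynomial.C _, Polynomial.aevalTower_C _ _ _⟩
  · rw [termL_eq_smul_u_pow 𝓕 x (by omega)]
    refine Subalgebra.smul_mem _ (Subalgebra.pow_mem _ ?_ _) _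
    exact ⟨Polynomial.X, Polynomial.aevalTower_X _ _⟩

theorem finiteType_extRees (hfg : Algebra.FiniteType A 𝓕.rees) :
    Algebra.FiniteType A 𝓕.extRees := by
  have h1 : Algebra.FiniteType A (Polynomial 𝓕.rees) :=
    Algebra.FiniteType.trans hfg inferInstance
  exact Algebra.FiniteType.of_surjective (Polynomial.aevalTower (toExt 𝓕) 𝓕.u)
    (aevalTower_surjective 𝓕)

theorem isNoetherianRing_extRees [IsNoetherianRing A] (hfg : Algebra.FiniteType A 𝓕.rees) :
    IsNoetherianRing 𝓕.extRees :=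
  Algebra.FiniteType.isNoetherianRing A _ (h := finiteType_extRees 𝓕 hfg)


theorem decompose_eq_lcomp (x : 𝓕.extRees) (z : ℤ) :
    DirectSum.decompose (Rees.ldeg 𝓕.extRees) x z = Rees.lcomp 𝓕.extRees z x := by
  classical
  change (Rees.ldecompAux 𝓕.extRees x) z = _
  unfold Rees.ldecompAux
  rw [DirectSum.sum_apply]
  by_cases hz : z ∈ (x : A[T;T⁻¹]).coeff.support
  · rw [Finset.sum_eq_single z]
    · rw [DirectSum.lof_eq_of, DirectSum.of_eq_same]
    · intro b _ hb
      rw [DirectSum.lof_eq_of, DirectSum.of_eq_of_ne _ _ _ (Ne.symm hb)]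
    · intro h; exact absurd hz h
  · rw [Finset.sum_eq_zero]
    · have hm' : (x : A[T;T⁻¹]).coeff z = 0 := by simpa [Finsupp.mem_support_iff] using hz
      symm
      exact Subtype.ext <| Subtype.ext <| by simp [Rees.coe_coe_lcomp, hm']
    · intro b hb
      have : b ≠ z := fun h => hz (h ▸ hb)
      rw [DirectSum.lof_eq_of, DirectSum.of_eq_of_ne _ _ _ (Ne.symm this)]

theorem coe_decompose (x : 𝓕.extRees) (z : ℤ) :
    ((DirectSum.decompose (Rees.ldeg 𝓕.extRees) x z : 𝓕.extRees) : A[T;T⁻¹]) =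
      AddMonoidAlgebra.single z ((x : A[T;T⁻¹]).coeff z) := by
  rw [decompose_eq_lcomp, Rees.coe_coe_lcomp]

theorem decompose_zero_eq_algebraMap (x : 𝓕.extRees) :
    (DirectSum.decompose (Rees.ldeg 𝓕.extRees) x 0 : 𝓕.extRees) =
      algebraMap A 𝓕.extRees ((x : A[T;T⁻¹]).coeff 0) := by
  apply Subtype.ext
  rw [coe_decompose]
  rfl

theorem F_one_ne_top [Nontrivial A] (hsep : ⨅ n, 𝓕.F n = ⊥) : 𝓕.F 1 ≠ ⊤ := by
  intro h1
  have hall : ∀ n, 𝓕.F n = ⊤ := by
    intro n
    induction n with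
    | zero => exact 𝓕.zero_eq
    | succ n ih =>
      rw [eq_top_iff]
      calc (⊤ : Ideal A) = 𝓕.F n * 𝓕.F 1 := by rw [ih, h1, Ideal.mul_top]
        _ ≤ 𝓕.F (n + 1) := 𝓕.mul_le n 1
  have : (⨅ n, 𝓕.F n) = ⊤ := by simp [hall]
  rw [hsep] at this
  exact bot_ne_top this

/-- Over a local ring, a proper homogeneous ideal of the extended Rees algebra together with `u`
generates a proper ideal. -/
theorem sup_span_u_ne_top [IsLocalRing A] (hF1 : 𝓕.F 1 ≠ ⊤) (P : Ideal 𝓕.extRees)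
    (hP : P.IsHomogeneous (Rees.ldeg 𝓕.extRees)) (hne : P ≠ ⊤) :
    P ⊔ Ideal.span {𝓕.u} ≠ ⊤ := by
  intro htop
  have h1 : (1 : 𝓕.extRees) ∈ P ⊔ Ideal.span {𝓕.u} := by rw [htop]; trivial
  obtain ⟨p, hp, q, hq, hpq⟩ := Submodule.mem_sup.mp h1
  obtain ⟨r, rfl⟩ := Ideal.mem_span_singleton'.mp hq
  -- degree-0 coefficients
  have hc : (p : A[T;T⁻¹]).coeff 0 + (r : A[T;T⁻¹]).coeff 1 = 1 := by
    have := congrArg (fun y : 𝓕.extRees => (y : A[T;T⁻¹]).coeff 0) hpq
    simp only [Subalgebra.coe_add, AddMonoidAlgebra.coeff_add, Finsupp.add_apply] at this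
    rw [mul_comm, coeff_u_mul, zero_add] at this
    rw [this, Subalgebra.coe_one]
    rw [← LaurentPolynomial.T_zero, LaurentPolynomial.T_apply]
    simp
  have hr1 : (r : A[T;T⁻¹]).coeff 1 ∈ IsLocalRing.maximalIdeal A := by
    have h := r.2 1
    have hle : 𝓕.F 1 ≤ IsLocalRing.maximalIdeal A := IsLocalRing.le_maximalIdeal hF1
    exact hle (by simpa using h)
  have hp0 : IsUnit ((p : A[T;T⁻¹]).coeff 0) := by
    by_contra hnu
    have hm : (p : A[T;T⁻¹]).coeff 0 ∈ IsLocalRing.maximalIdeal A :=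
      (IsLocalRing.mem_maximalIdeal _).mpr hnu
    have := Ideal.add_mem _ hm hr1
    rw [hc] at this
    exact (IsLocalRing.maximalIdeal.isMaximal A).ne_top ((Ideal.eq_top_iff_one _).mpr this)
  apply hne
  have hmem : (DirectSum.decompose (Rees.ldeg 𝓕.extRees) p 0 : 𝓕.extRees) ∈ P := hP 0 hp
  rw [decompose_zero_eq_algebraMap] at hmem
  exact Ideal.eq_top_of_isUnit_mem _ hmem (hp0.map (algebraMap A 𝓕.extRees))



/-- Evaluation at `T = 1` on the extended Rees algebra. -/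
noncomputable def ε : 𝓕.extRees →+* A :=
  (LaurentPolynomial.eval₂ (RingHom.id A) 1).comp 𝓕.extRees.val.toRingHom

theorem ε_algebraMap (a : A) : ε 𝓕 (algebraMap A 𝓕.extRees a) = a := by
  change LaurentPolynomial.eval₂ (RingHom.id A) 1 (LaurentPolynomial.C a) = a
  rw [LaurentPolynomial.eval₂_C]
  rfl

theorem ε_surjective : Function.Surjective (ε 𝓕) := fun a => ⟨_, ε_algebraMap 𝓕 a⟩

theorem ε_u : ε 𝓕 𝓕.u = 1 := by
  change LaurentPolynomial.eval₂ (RingHom.id A) 1 (T (-1)) = 1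
  rw [LaurentPolynomial.eval₂_T]
  simp

theorem ε_termL (x : 𝓕.extRees) (z : ℤ) : ε 𝓕 (termL 𝓕 x z) = (x : A[T;T⁻¹]).coeff z := by
  change LaurentPolynomial.eval₂ (RingHom.id A) 1 (AddMonoidAlgebra.single z _) = _
  rw [single_eq_C_mul_T, LaurentPolynomial.eval₂_C_mul_T]
  simp

/-- A term of positive degree times the right power of `u` is a constant. -/
theorem termL_mul_u_pow (x : 𝓕.extRees) {z : ℤ} (hz : 0 ≤ z) :
    termL 𝓕 x z * 𝓕.u ^ z.toNat = algebraMap A 𝓕.extRees ((x : A[T;T⁻¹]).coeff z) := by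
  apply Subtype.ext
  rw [Subalgebra.coe_mul, coe_termL, Subalgebra.coe_pow, coe_u, T_pow, T,
    AddMonoidAlgebra.single_mul_single, mul_one]
  change _ = LaurentPolynomial.C _
  rw [← single_eq_C]
  congr 1
  rw [Int.toNat_of_nonneg hz]
  ring

theorem mk_eq_mk_algebraMap_ε (x : 𝓕.extRees) :
    Ideal.Quotient.mk (Ideal.span {1 - 𝓕.u}) x =
      Ideal.Quotient.mk (Ideal.span {1 - 𝓕.u}) (algebraMap A 𝓕.extRees (ε 𝓕 x)) := by
  have hu : Ideal.Quotient.mk (Ideal.span {1 - 𝓕.u}) 𝓕.u = 1 := by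
    have : Ideal.Quotient.mk (Ideal.span {1 - 𝓕.u}) (1 - 𝓕.u) = 0 :=
      Ideal.Quotient.eq_zero_iff_mem.mpr (Ideal.mem_span_singleton_self _)
    rw [map_sub, map_one, sub_eq_zero] at this
    exact this.symm
  have hterm : ∀ z : ℤ, Ideal.Quotient.mk (Ideal.span {1 - 𝓕.u}) (termL 𝓕 x z) =
      Ideal.Quotient.mk (Ideal.span {1 - 𝓕.u})
        (algebraMap A 𝓕.extRees ((x : A[T;T⁻¹]).coeff z)) := by
    intro z
    by_cases hz : 0 ≤ z
    · rw [← termL_mul_u_pow 𝓕 x hz, map_mul, map_pow, hu, one_pow, mul_one]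
    · rw [termL_eq_smul_u_pow 𝓕 x (by omega), Algebra.smul_def, map_mul, map_pow, hu, one_pow,
        mul_one]
  conv_lhs => rw [← sum_termL 𝓕 x]
  conv_rhs => rw [← sum_termL 𝓕 x]
  rw [map_sum, map_sum, map_sum, map_sum]
  refine Finset.sum_congr rfl fun z _ => ?_
  rw [hterm z, ε_termL]

theorem ker_ε : RingHom.ker (ε 𝓕) = Ideal.span {1 - 𝓕.u} := by
  apply le_antisymm
  · intro x hx
    rw [RingHom.mem_ker] at hx
    rw [← Ideal.Quotient.eq_zero_iff_mem, mk_eq_mk_algebraMap_ε, hx, map_zero, map_zero]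
  · rw [Ideal.span_singleton_le_iff_mem, RingHom.mem_ker, map_sub, map_one, ε_u, sub_self]

theorem isSMulRegular_one_sub_u : IsSMulRegular 𝓕.extRees (1 - 𝓕.u) := by
  have h1 : IsSMulRegular A[X] (Polynomial.X - 1 : A[X]) := by
    have hm : (Polynomial.X - 1 : A[X]).Monic := by
      have := Polynomial.monic_X_sub_C (1 : A)
      simpa using this
    exact hm.isRegular.left.isSMulRegular
  have hflat : Module.Flat A[X] A[T;T⁻¹] := IsLocalization.flat _ (Submonoid.powers (Polynomial.X : A[X]))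
  have h2 : IsSMulRegular A[T;T⁻¹] (algebraMap A[X] A[T;T⁻¹] (Polynomial.X - 1)) :=
    IsSMulRegular.of_flat h1
  rw [LaurentPolynomial.algebraMap_eq_toLaurent, map_sub, map_one, Polynomial.toLaurent_X] at h2
  intro a b hab
  simp only [smul_eq_mul] at hab
  have h3 : ((1 - 𝓕.u) * a : 𝓕.extRees).1 = ((1 - 𝓕.u) * b : 𝓕.extRees).1 := by rw [hab]
  rw [Subalgebra.coe_mul, Subalgebra.coe_mul, Subalgebra.coe_sub, Subalgebra.coe_one, coe_u] at h3
  apply Subtype.ext
  apply h2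
  simp only [smul_eq_mul]
  have h4 : (T 1 - 1 : A[T;T⁻¹]) = T 1 * (1 - T (-1)) := by
    rw [mul_sub, mul_one, ← T_add]; simp
  rw [h4, mul_assoc, mul_assoc, h3]



theorem algebraMap_extRees_apply (x : 𝓕.extRees) : algebraMap 𝓕.extRees A[T;T⁻¹] x = (x : A[T;T⁻¹]) :=
  rfl

/-- Multiplying by a high power of `T⁻¹` lands in the extended Rees algebra. -/
theorem exists_mul_T_neg_mem (f : A[T;T⁻¹]) : ∃ N : ℕ, f * T (-(N : ℤ)) ∈ 𝓕.extRees := by
  classical
  obtain ⟨N, hN⟩ : ∃ N : ℕ, ∀ z ∈ f.coeff.support, z ≤ (N : ℤ) := by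
    obtain ⟨M, hM⟩ := Finset.exists_le f.coeff.support
    exact ⟨M.toNat, fun z hz => (hM z hz).trans (Int.self_le_toNat M)⟩
  refine ⟨N, ?_⟩
  rw [mem_extRees_iff]
  intro z
  have h1 : (f * T (-(N : ℤ))).coeff z = f.coeff (z + N) := by
    have := AddMonoidAlgebra.coeff_mul_single_add f (1 : A) (-(N : ℤ)) (z + N)
    rw [mul_one] at this
    rw [← this, LaurentPolynomial.T]
    congr 2
    ring
  rw [h1]
  by_cases hz : 0 < z
  · have : f.coeff (z + N) = 0 := by
      by_contra h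
      have := hN _ (Finsupp.mem_support_iff.mpr h)
      omega
    rw [this]
    exact Ideal.zero_mem _
  · rw [show z.toNat = 0 by omega, 𝓕.zero_eq]
    exact Submodule.mem_top

instance isLocalization_away_u : IsLocalization.Away 𝓕.u A[T;T⁻¹] where
  map_units := by
    rintro ⟨y, n, rfl⟩
    rw [map_pow]
    refine IsUnit.pow _ ?_
    rw [algebraMap_extRees_apply, coe_u]
    exact isUnit_T _
  surj := by
    intro f
    obtain ⟨N, hN⟩ := exists_mul_T_neg_mem 𝓕 f
    refine ⟨⟨⟨_, hN⟩, ⟨𝓕.u ^ N, N, rfl⟩⟩, ?_⟩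
    simp only [algebraMap_extRees_apply, Subalgebra.coe_pow, coe_u, T_pow]
    congr 2
    ring
  exists_of_eq := by
    intro x y h
    refine ⟨1, ?_⟩
    rw [algebraMap_extRees_apply, algebraMap_extRees_apply] at h
    rw [Subtype.ext h]



theorem mul_u_pow_of_coe_eq {x : 𝓕.extRees} {n : ℕ} {a : A}
    (hx : (x : A[T;T⁻¹]) = LaurentPolynomial.C a * T (n : ℤ)) :
    x * 𝓕.u ^ n = algebraMap A 𝓕.extRees a := by
  apply Subtype.ext
  rw [Subalgebra.coe_mul, hx, Subalgebra.coe_pow, coe_u, T_pow, mul_assoc, ← T_add]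
  change _ = LaurentPolynomial.C a
  simp

theorem ε_of_coe_eq {x : 𝓕.extRees} {n : ℕ} {a : A}
    (hx : (x : A[T;T⁻¹]) = LaurentPolynomial.C a * T (n : ℤ)) : ε 𝓕 x = a := by
  change LaurentPolynomial.eval₂ (RingHom.id A) 1 (x : A[T;T⁻¹]) = a
  rw [hx, LaurentPolynomial.eval₂_C_mul_T]
  simp

theorem exists_term (n : ℕ) (a : A) (ha : a ∈ 𝓕.F n) :
    ∃ x : 𝓕.extRees, (x : A[T;T⁻¹]) = LaurentPolynomial.C a * T (n : ℤ) := by
  refine ⟨⟨LaurentPolynomial.C a * T (n : ℤ), ?_⟩, rfl⟩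
  rw [mem_extRees_iff]
  intro z
  rw [← single_eq_C_mul_T, AddMonoidAlgebra.coeff_single, Finsupp.single_apply]
  split_ifs with h
  · subst h; simpa using ha
  · exact Ideal.zero_mem _


end ExtRees

end Groth.Agent.Lib.Seat67.ExtRees
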