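import Groth.Agent.Lib.Seat67QuotRegCM
import Groth.Agent.Lib.Helper5GorRing
import Groth.Agent.Lib.Helper29GorAnn
import Groth.Agent.S0343

/-!
# Gorenstein local rings and quotients by a regular element, localizations (seat 67)

* `gorLocal_localization_quotient_iff`: for a Noetherian ring `R`, a regular element `x` and a
  prime `Q` of `R/(x)`: `(R/(x))_Q` is Gorenstein iff `R_q` is, `q` the preimage of `Q`.
* `gorLocal_localization_map_iff`: for `T = M⁻¹S`: `T_{pT}` is Gorenstein iff `S_p` is.
* `gorLocal_localization_of_le`: `R_{r'}` Gorenstein and `r ≤ r'` imply `R_r` Gorenstein.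
-/

set_option autoImplicit false
universe u

namespace Groth.Agent.Lib.Seat67.QuotRegGor

open Groth.Agent.Lib.Helper28 Groth.Agent.Lib.Helper5.GorRing LocCoh

section Global

variable {R : Type u} [CommRing R] [IsNoetherianRing R]

theorem gorLocal_localization_quotient_iff (x : R) (hreg : IsSMulRegular R x)
    (Q : Ideal (R ⧸ Ideal.span {x})) [Q.IsPrime] :
    IsGorensteinLocalRing (Localization.AtPrime Q) ↔
      IsGorensteinLocalRing
        (Localization.AtPrime (Q.comap (Ideal.Quotient.mk (Ideal.span {x})))) := by
  have hpp : (Q.comap (Ideal.Quotient.mk (Ideal.span ({x} : Set R)))).IsPrime :=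
    Ideal.comap_isPrime _ _
  set p : Ideal R := Q.comap (Ideal.Quotient.mk (Ideal.span ({x} : Set R))) with hp
  set y : Localization.AtPrime p := algebraMap R (Localization.AtPrime p) x with hy
  have hxp : x ∈ p := by
    rw [hp, Ideal.mem_comap, Ideal.Quotient.eq_zero_iff_mem.mpr (Ideal.mem_span_singleton_self x)]
    exact Q.zero_mem
  have hym : y ∈ IsLocalRing.maximalIdeal (Localization.AtPrime p) := by
    rw [← Localization.AtPrime.map_eq_maximalIdeal]
    exact Ideal.mem_map_of_mem _ hxp
  have hyreg : IsSMulRegular (Localization.AtPrime p) y := IsSMulRegular.of_flat hreg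
  have hmapI : (Ideal.span ({x} : Set R)).map (algebraMap R (Localization.AtPrime p)) =
      Ideal.span {y} := by
    rw [Ideal.map_span, Set.image_singleton]
  let e1 : Localization.AtPrime Q ≃+*
      (Localization.AtPrime p ⧸
        (Ideal.span ({x} : Set R)).map (algebraMap R (Localization.AtPrime p))) :=
    localizationQuotientEquiv (Ideal.span ({x} : Set R)) Q
  let e2 : (Localization.AtPrime p ⧸
      (Ideal.span ({x} : Set R)).map (algebraMap R (Localization.AtPrime p))) ≃+*
      (Localization.AtPrime p ⧸ Ideal.span {y}) := Ideal.quotEquivOfEq hmapI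
  let e := e1.trans e2
  rw [Groth.Agent.S0343.result (Localization.AtPrime p) y hym hyreg]
  constructor
  · intro h
    exact gorLocal_of_ringEquiv e
  · intro h
    exact gorLocal_of_ringEquiv e.symm

end Global

section LocEquiv

variable {S : Type u} [CommRing S] (M : Submonoid S) (T : Type u) [CommRing T] [Algebra S T]
  [IsLocalization M T]

theorem gorLocal_localization_map_iff (p : Ideal S) [hp : p.IsPrime]
    (hd : Disjoint (M : Set S) (p : Set S)) [hP : (p.map (algebraMap S T)).IsPrime] :
    IsGorensteinLocalRing (Localization.AtPrime (p.map (algebraMap S T))) ↔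
      IsGorensteinLocalRing (Localization.AtPrime p) := by
  obtain ⟨e⟩ := Groth.Agent.Lib.Seat67.QuotRegCM.nonempty_localization_map_equiv M T p hd
  exact ⟨fun h => gorLocal_of_ringEquiv e, fun h => gorLocal_of_ringEquiv e.symm⟩

theorem gorLocal_congr {R : Type u} [CommRing R] {P P' : Ideal R} [P.IsPrime]
    [P'.IsPrime] (h : P = P') :
    IsGorensteinLocalRing (Localization.AtPrime P) ↔
      IsGorensteinLocalRing (Localization.AtPrime P') := by
  subst h
  exact Iff.rfl

/-- Gorensteinness of `B_{r'}` passes to `B_r` for `r ≤ r'`. -/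
theorem gorLocal_localization_of_le {B : Type u} [CommRing B]
    (r r' : Ideal B) [hr : r.IsPrime] [r'.IsPrime] (h : r ≤ r')
    (hG : IsGorensteinLocalRing (Localization.AtPrime r')) :
    IsGorensteinLocalRing (Localization.AtPrime r) := by
  have h1 : IsGorensteinRing (Localization.AtPrime r') :=
    Groth.Agent.Lib.Helper29.GorAnn.isGorensteinRing_of_isGorensteinLocalRing _
  have hd : Disjoint ((r'.primeCompl : Submonoid B) : Set B) (r : Set B) := by
    rw [Set.disjoint_left]
    intro x hx hxr
    exact hx (h hxr)
  have hP : (r.map (algebraMap B (Localization.AtPrime r'))).IsPrime :=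
    IsLocalization.isPrime_of_isPrime_disjoint r'.primeCompl _ r hr hd
  rw [← gorLocal_localization_map_iff r'.primeCompl (Localization.AtPrime r') r hd]
  exact h1.isGorensteinLocalRing_localization _

end LocEquiv

end Groth.Agent.Lib.Seat67.QuotRegGor
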