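import Groth.Agent.Lib.Seat67ExtRees
import Groth.Agent.Lib.Seat67QuotRegGor
import Groth.Agent.Lib.Helper5FiberRing

/-!
# Gorenstein descent for the extended Rees algebra (seat 67)

* `gorLocal_of_flat_local`: Gorensteinness descends along flat local homomorphisms.
* `P1 A`: the prime `𝔪 A[T, T⁻¹]` of the Laurent polynomial ring over a local ring `A`;
  `mem_P1`, `C_mem_P1`, `isLocalHom_algebraMap_P1`, `flat_P1`.
* `gorLocal_of_gorLocal_P1`: if `A[T, T⁻¹]_{𝔪 A[T, T⁻¹]}` is Gorenstein then so is `A`.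
* `P0 𝓕`: the contraction of `P1 A` to the extended Rees algebra; homogeneous.
-/

set_option autoImplicit false
universe u
open DirectSum Polynomial LaurentPolynomial AssocGr IsLocalRing LocCoh

namespace Groth.Agent.Lib.Seat67.ExtReesGor

open Groth.Agent.Lib.Seat67.ExtRees

section FlatLocal

/-- Gorensteinness descends along flat local homomorphisms of Noetherian local rings. -/
theorem gorLocal_of_flat_local (A B : Type u) [CommRing A] [CommRing B] [IsLocalRing A]
    [IsNoetherianRing A] [IsLocalRing B] [IsNoetherianRing B] [Algebra A B]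
    [IsLocalHom (algebraMap A B)] [Module.Flat A B] (hB : IsGorensteinLocalRing B) :
    IsGorensteinLocalRing A := by
  have hle : (maximalIdeal A).map (algebraMap A B) ≤ maximalIdeal B :=
    IsLocalRing.map_maximalIdeal_le (algebraMap A B)
  have hne : (maximalIdeal A).map (algebraMap A B) ≠ ⊤ := by
    intro h
    rw [h] at hle
    exact (IsLocalRing.maximalIdeal.isMaximal B).ne_top (top_le_iff.mp hle)
  have hloc : IsLocalRing (B ⧸ (maximalIdeal A).map (algebraMap A B)) :=
    Groth.Agent.Lib.Helper5.isLocalRing_quotient hne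
  exact ((Groth.Agent.Lib.Helper5.FiberRing.flatLocalIff_gor A B
    (B ⧸ (maximalIdeal A).map (algebraMap A B))
    (Ideal.Quotient.mk _) Ideal.Quotient.mk_surjective Ideal.mk_ker).mp hB).1

end FlatLocal

section P1

variable (A : Type u) [CommRing A] [IsLocalRing A]

/-- Reduction modulo the maximal ideal on Laurent polynomials. -/
noncomputable def red : A[T;T⁻¹] →+* (A ⧸ maximalIdeal A)[T;T⁻¹] :=
  AddMonoidAlgebra.mapRingHom ℤ (Ideal.Quotient.mk (maximalIdeal A))

/-- The prime ideal `𝔪 A[T, T⁻¹]` of the Laurent polynomial ring over a local ring. -/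
noncomputable def P1 : Ideal A[T;T⁻¹] := RingHom.ker (red A)

variable {A}

theorem mem_P1 {f : A[T;T⁻¹]} : f ∈ P1 A ↔ ∀ z, f.coeff z ∈ maximalIdeal A := by
  unfold P1 red
  rw [RingHom.mem_ker]
  constructor
  · intro h z
    have := congrArg (fun g : (A ⧸ maximalIdeal A)[T;T⁻¹] => g.coeff z) h
    simp only [AddMonoidAlgebra.coeff_mapRingHom] at this
    exact Ideal.Quotient.eq_zero_iff_mem.mp this
  · intro h
    apply LaurentPolynomial.ext
    intro z
    rw [AddMonoidAlgebra.coeff_mapRingHom]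
    exact Ideal.Quotient.eq_zero_iff_mem.mpr (h z)

instance : (P1 A).IsPrime := RingHom.ker_isPrime (red A)

theorem C_mem_P1 {a : A} : LaurentPolynomial.C a ∈ P1 A ↔ a ∈ maximalIdeal A := by
  rw [mem_P1]
  constructor
  · intro h
    simpa using h 0
  · intro h z
    rw [LaurentPolynomial.C_apply]
    split_ifs
    · exact h
    · exact Ideal.zero_mem _

instance isLocalHom_algebraMap_P1 :
    IsLocalHom (algebraMap A (Localization.AtPrime (P1 A))) := by
  refine ⟨fun a ha => ?_⟩
  by_contra hnu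
  have hm : a ∈ maximalIdeal A := (IsLocalRing.mem_maximalIdeal a).mpr hnu
  have h1 : LaurentPolynomial.C a ∈ P1 A := C_mem_P1.mpr hm
  have h2 : algebraMap A[T;T⁻¹] (Localization.AtPrime (P1 A)) (LaurentPolynomial.C a) ∈
      maximalIdeal (Localization.AtPrime (P1 A)) :=
    (IsLocalization.AtPrime.to_map_mem_maximal_iff (Localization.AtPrime (P1 A)) (P1 A) _).mpr h1
  apply (IsLocalRing.mem_maximalIdeal _).mp h2
  rw [IsScalarTower.algebraMap_apply A A[T;T⁻¹] (Localization.AtPrime (P1 A))] at ha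
  exact ha

instance flat_P1 : Module.Flat A (Localization.AtPrime (P1 A)) :=
  Module.Flat.trans A A[T;T⁻¹] (Localization.AtPrime (P1 A))

/-- If `A[T, T⁻¹]` localized at `𝔪 A[T, T⁻¹]` is Gorenstein then so is `A`. -/
theorem gorLocal_of_gorLocal_P1 [IsNoetherianRing A]
    (h : IsGorensteinLocalRing (Localization.AtPrime (P1 A))) : IsGorensteinLocalRing A :=
  gorLocal_of_flat_local A (Localization.AtPrime (P1 A)) h

end P1

section P0

variable {A : Type u} [CommRing A] [IsLocalRing A] (𝓕 : FiltBl.IdealFiltration A)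

/-- The contraction of `𝔪 A[T, T⁻¹]` to the extended Rees algebra. -/
noncomputable def P0 : Ideal 𝓕.extRees := (P1 A).comap (algebraMap 𝓕.extRees A[T;T⁻¹])

instance : (P0 𝓕).IsPrime := Ideal.comap_isPrime _ _

theorem mem_P0 {x : 𝓕.extRees} : x ∈ P0 𝓕 ↔ ∀ z, (x : A[T;T⁻¹]).coeff z ∈ maximalIdeal A := by
  unfold P0
  rw [Ideal.mem_comap, mem_P1]
  rfl

theorem u_notMem_P0 : 𝓕.u ∉ P0 𝓕 := by
  intro h
  have h1 : algebraMap 𝓕.extRees A[T;T⁻¹] 𝓕.u ∈ P1 A := h
  exact (inferInstance : (P1 A).IsPrime).ne_top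
    (Ideal.eq_top_of_isUnit_mem _ h1 (LaurentPolynomial.isUnit_T (-1)))

theorem P0_isHomogeneous : (P0 𝓕).IsHomogeneous (Rees.ldeg 𝓕.extRees) := by
  intro z x hx
  rw [mem_P0] at hx ⊢
  intro w
  rw [coe_decompose, AddMonoidAlgebra.coeff_single, Finsupp.single_apply]
  split_ifs
  · exact hx z
  · exact Ideal.zero_mem _

theorem map_P0 : (P0 𝓕).map (algebraMap 𝓕.extRees A[T;T⁻¹]) = P1 A :=
  IsLocalization.map_under (Submonoid.powers 𝓕.u) _ (P1 A)

omit [IsLocalRing A] in
theorem disjoint_powers_u {P : Ideal 𝓕.extRees} [hP : P.IsPrime] (hu : 𝓕.u ∉ P) :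
    Disjoint ((Submonoid.powers 𝓕.u : Submonoid 𝓕.extRees) : Set 𝓕.extRees)
      (P : Set 𝓕.extRees) := by
  rw [Set.disjoint_left]
  rintro _ ⟨n, rfl⟩ hn
  exact hu (hP.mem_of_pow_mem n hn)

end P0

end Groth.Agent.Lib.Seat67.ExtReesGor
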