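import Mathlib.Algebra.Polynomial.Laurent
import Mathlib.RingTheory.Polynomial.Basic
import Mathlib.Algebra.Polynomial.RingDivision
import Mathlib.RingTheory.Localization.Away.Basic

/-!
# Units of Laurent polynomial rings over a domain, and ring-hom extensionality (seat 67)
-/

set_option autoImplicit false
universe u v

namespace Groth.Agent.Lib.Seat67.LaurentUnits

open LaurentPolynomial Polynomial

variable {R : Type u} [CommRing R]

/-- Ring homs out of a Laurent polynomial ring agreeing on constants and on `T 1` are equal. -/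
theorem ringHom_ext' {S : Type v} [CommRing S] {f g : R[T;T⁻¹] →+* S}
    (hC : ∀ r, f (LaurentPolynomial.C r) = g (LaurentPolynomial.C r)) (hT : f (T 1) = g (T 1)) : f = g := by
  apply IsLocalization.ringHom_ext (Submonoid.powers (X : R[X]))
  apply Polynomial.ringHom_ext
  · intro r
    simp only [RingHom.comp_apply, LaurentPolynomial.algebraMap_eq_toLaurent,
      Polynomial.toLaurent_C]
    exact hC r
  · simp only [RingHom.comp_apply, LaurentPolynomial.algebraMap_eq_toLaurent,
      Polynomial.toLaurent_X]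
    exact hT

/-- Units of `R[T;T⁻¹]`, `R` a domain, are `C r * T n` with `r` a unit. -/
theorem exists_C_mul_T_of_isUnit [IsDomain R] (u : R[T;T⁻¹]) (hu : IsUnit u) :
    ∃ (r : R) (n : ℤ), IsUnit r ∧ u = LaurentPolynomial.C r * T n := by
  obtain ⟨v, huv⟩ := hu.exists_right_inv
  obtain ⟨n, p, hp⟩ := exists_T_pow u
  obtain ⟨m, q, hq⟩ := exists_T_pow v
  have hpq : p * q = X ^ (n + m) := by
    apply Polynomial.toLaurent_injective
    rw [map_mul, hp, hq, Polynomial.toLaurent_X_pow]
    calc u * T n * (v * T m) = (u * v) * (T n * T m) := by ring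
      _ = T ((n + m : ℕ) : ℤ) := by rw [huv, one_mul, ← T_add]; push_cast; rfl
  have hdvd : p ∣ X ^ (n + m) := ⟨q, hpq.symm⟩
  obtain ⟨i, -, hi⟩ := (dvd_prime_pow Polynomial.prime_X _).mp hdvd
  obtain ⟨w, hw⟩ := hi.symm
  obtain ⟨r, hr, hrw⟩ := Polynomial.isUnit_iff.mp w.isUnit
  refine ⟨r, (i : ℤ) - n, hr, ?_⟩
  have h1 : u * T n = LaurentPolynomial.C r * T i := by
    rw [← hp, ← hw, ← hrw, map_mul, Polynomial.toLaurent_X_pow, Polynomial.toLaurent_C, mul_comm]
  calc u = u * T n * T (-n) := by rw [mul_T_assoc, add_neg_cancel, T_zero, mul_one]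
    _ = LaurentPolynomial.C r * T i * T (-n) := by rw [h1]
    _ = LaurentPolynomial.C r * T ((i : ℤ) - n) := by rw [mul_T_assoc, sub_eq_add_neg]

end Groth.Agent.Lib.Seat67.LaurentUnits
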