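import Groth.Agent.Lib.Seat67ExtRees
import Groth.Agent.Lib.Seat50Nagata
import Groth.Agent.Lib.Seat67LaurentUnits

/-!
# Factoriality and the extended Rees algebra (seat 67)

* `ufm_of_ufm_polynomial`: if `A[X]` is a UFD then so is `A`.
* `u_ne_zero`, `not_isUnit_u`, `prime_u_of_ufm`: in a factorial extended Rees algebra, `u = T⁻¹`
  is a prime element.
-/

set_option autoImplicit false
universe u
open Polynomial LaurentPolynomial AssocGr
namespace Groth.Agent.Lib.Seat67.ExtReesUFD
open Groth.Agent.Lib.Seat67.ExtRees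

/-- If `A[X]` is a UFD then so is `A`. -/
theorem ufm_of_ufm_polynomial {A : Type u} [CommRing A] [IsDomain A]
    (h : UniqueFactorizationMonoid A[X]) : UniqueFactorizationMonoid A := by
  apply UniqueFactorizationMonoid.of_exists_prime_factors
  intro a ha
  have hCa : (Polynomial.C a : A[X]) ≠ 0 := Polynomial.C_ne_zero.mpr ha
  obtain ⟨s, hs, hassoc⟩ := UniqueFactorizationMonoid.exists_prime_factors (Polynomial.C a) hCa
  have hdeg : ∀ b ∈ s, b = Polynomial.C (b.coeff 0) := by
    intro b hb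
    apply Polynomial.eq_C_of_natDegree_eq_zero
    have hdvd : b ∣ Polynomial.C a := (Multiset.dvd_prod hb).trans hassoc.dvd
    have := Polynomial.natDegree_le_of_dvd hdvd hCa
    rw [Polynomial.natDegree_C] at this
    omega
  refine ⟨s.map (fun b => b.coeff 0), ?_, ?_⟩
  · intro c hc
    obtain ⟨b, hb, rfl⟩ := Multiset.mem_map.mp hc
    have := hs b hb
    rw [hdeg b hb] at this
    exact Polynomial.prime_C_iff.mp this
  · have hprod : Polynomial.C ((s.map (fun b => b.coeff 0)).prod) = s.prod := by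
      rw [map_multiset_prod, Multiset.map_map]
      conv_rhs => rw [← Multiset.map_id s]
      congr 1
      apply Multiset.map_congr rfl
      intro b hb
      exact (hdeg b hb).symm
    rw [← hprod] at hassoc
    apply associated_of_dvd_dvd
    · have := (Polynomial.C_dvd_iff_dvd_coeff _ _).mp hassoc.dvd 0
      simpa using this
    · have := (Polynomial.C_dvd_iff_dvd_coeff _ _).mp hassoc.symm.dvd 0
      simpa using this


variable {A : Type u} [CommRing A] (𝓕 : FiltBl.IdealFiltration A)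

theorem u_ne_zero [Nontrivial A] : 𝓕.u ≠ 0 := by
  intro h
  have h1 : (𝓕.u : A[T;T⁻¹]) = 0 := by rw [h]; rfl
  rw [coe_u] at h1
  exact (LaurentPolynomial.isUnit_T (-1)).ne_zero h1

theorem not_isUnit_u (hF1 : 𝓕.F 1 ≠ ⊤) : ¬ IsUnit 𝓕.u := by
  intro hu
  obtain ⟨v, hv⟩ := hu.exists_right_inv
  apply hF1
  rw [Ideal.eq_top_iff_one]
  have h1 : (v : A[T;T⁻¹]) = T 1 := by
    have h2 : (𝓕.u : A[T;T⁻¹]) * (v : A[T;T⁻¹]) = 1 := by
      rw [← Subalgebra.coe_mul, hv]; rfl
    rw [coe_u] at h2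
    calc (v : A[T;T⁻¹]) = T 1 * (T (-1) * (v : A[T;T⁻¹])) := by
          rw [← mul_assoc, ← T_add]; simp
      _ = T 1 := by rw [h2, mul_one]
  have h3 := v.2 1
  rw [h1, LaurentPolynomial.T_apply] at h3
  simpa using h3

/-- In a factorial extended Rees algebra, `u` is a prime element. -/
theorem prime_u_of_ufm [IsDomain A] [IsDomain 𝓕.extRees] (hF1 : 𝓕.F 1 ≠ ⊤)
    (hU : UniqueFactorizationMonoid 𝓕.extRees) : Prime 𝓕.u := by
  have hu0 := u_ne_zero 𝓕
  have hnu := not_isUnit_u 𝓕 hF1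
  obtain ⟨π, hπ, hdvd⟩ := WfDvdMonoid.exists_irreducible_factor hnu hu0
  have hπp : Prime π := UniqueFactorizationMonoid.irreducible_iff_prime.mp hπ
  obtain ⟨w, hw⟩ := hdvd
  -- `π` is a unit of the Laurent polynomial ring
  have hunit : IsUnit (π : A[T;T⁻¹]) := by
    have h1 : (π : A[T;T⁻¹]) * (w : A[T;T⁻¹]) = T (-1) := by
      rw [← Subalgebra.coe_mul, ← hw, coe_u]
    exact isUnit_of_mul_isUnit_left (h1 ▸ LaurentPolynomial.isUnit_T (-1))
  obtain ⟨r, n, hr, hrn⟩ := Groth.Agent.Lib.Seat67.LaurentUnits.exists_C_mul_T_of_isUnit _ hunit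
  -- `n ≤ 0`
  have hn : n ≤ 0 := by
    by_contra hpos
    push Not at hpos
    apply hF1
    have h3 := π.2 n
    rw [hrn, ← single_eq_C_mul_T, AddMonoidAlgebra.coeff_single, Finsupp.single_eq_same] at h3
    have h4 : r ∈ 𝓕.F 1 := 𝓕.antitone (by omega : 1 ≤ n.toNat) h3
    exact Ideal.eq_top_of_isUnit_mem _ h4 hr
  -- `π = r • u ^ k`
  have hπ' : π = algebraMap A 𝓕.extRees r * 𝓕.u ^ (-n).toNat := by
    apply Subtype.ext
    rw [hrn, Subalgebra.coe_mul, Subalgebra.coe_pow, coe_u, T_pow]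
    congr 2
    rw [Int.toNat_of_nonneg (by omega)]
    ring
  have hrunit : IsUnit (algebraMap A 𝓕.extRees r) := hr.map _
  have hassoc : Associated (𝓕.u ^ (-n).toNat) π := by
    rw [hπ', mul_comm]
    exact (associated_mul_unit_right _ _ hrunit)
  have hpow : Prime (𝓕.u ^ (-n).toNat) := hassoc.symm.prime hπp
  have hk : (-n).toNat = 1 := by
    by_contra hne
    exact not_prime_pow hne hpow
  rw [hk, pow_one] at hpow
  exact hpow

end Groth.Agent.Lib.Seat67.ExtReesUFD
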