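import Mathlib.AlgebraicGeometry.GammaSpecAdjunction
import Mathlib.AlgebraicGeometry.Pullbacks
import Mathlib.Algebra.Polynomial.Laurent
import Mathlib.CategoryTheory.Monoidal.Cartesian.Over
import Mathlib.CategoryTheory.Monoidal.Cartesian.Grp
import Groth.Agent.Lib.Seat67LaurentUnits

/-!
# Points of a `k`-scheme isomorphic to `Spec k[T, T⁻¹]` (seat 67)
-/

set_option autoImplicit false
set_option linter.unusedSectionVars false
universe u
open CategoryTheory AlgebraicGeometry Opposite

namespace Groth.Agent.Lib.Seat67.GmPoints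

variable {k : Type u} [CommRing k]

/-- Variant of `ext_to_Spec` phrased with `appTop`. -/
theorem ext_to_Spec' {X : Scheme.{u}} {R : Type u} [CommRing R]
    {f g : X ⟶ Spec (CommRingCat.of R)}
    (h : (Scheme.ΓSpecIso (CommRingCat.of R)).inv ≫ f.appTop =
      (Scheme.ΓSpecIso (CommRingCat.of R)).inv ≫ g.appTop) : f = g :=
  ext_to_Spec h

/-- The structure ring map `k → Γ(S)` of a `k`-scheme. -/
noncomputable def strHom (S : Over (Spec (CommRingCat.of k))) : k →+* Γ(S.left, ⊤) :=
  ((Scheme.ΓSpecIso (CommRingCat.of k)).inv ≫ S.hom.appTop).hom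

section pts

variable {B : Type u} [CommRing B] {X : Over (Spec (CommRingCat.of k))}
  (e : X.left ≅ Spec (CommRingCat.of B)) (φB : k →+* B)
  (he : e.hom ≫ Spec.map (CommRingCat.ofHom φB) = X.hom)

/-- The ring map `B → Γ(S)` attached to a point `S ⟶ X` of a `k`-scheme identified with `Spec B`. -/
noncomputable def homOf {S : Over (Spec (CommRingCat.of k))} (g : S ⟶ X) : B →+* Γ(S.left, ⊤) :=
  ((Scheme.ΓSpecIso (CommRingCat.of B)).inv ≫ (g.left ≫ e.hom).appTop).hom

include he in
theorem homOf_comp_str {S : Over (Spec (CommRingCat.of k))} (g : S ⟶ X) :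
    (homOf e g).comp φB = strHom S := by
  have h1 : (g.left ≫ e.hom) ≫ Spec.map (CommRingCat.ofHom φB) = S.hom := by
    rw [Category.assoc, he, Over.w]
  have h2 : (Scheme.ΓSpecIso (CommRingCat.of k)).inv ≫ S.hom.appTop =
      CommRingCat.ofHom φB ≫ (Scheme.ΓSpecIso (CommRingCat.of B)).inv ≫
        (g.left ≫ e.hom).appTop := by
    rw [← h1, Scheme.Hom.comp_appTop, Scheme.ΓSpecIso_inv_naturality_assoc]
  unfold strHom homOf
  rw [h2]
  rfl

theorem homOf_comp {S S' : Over (Spec (CommRingCat.of k))} (φ : S' ⟶ S) (g : S ⟶ X) :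
    homOf e (φ ≫ g) = φ.left.appTop.hom.comp (homOf e g) := by
  unfold homOf
  rw [Over.comp_left, Category.assoc, Scheme.Hom.comp_appTop]
  rfl

theorem ext_of_homOf {S : Over (Spec (CommRingCat.of k))} (g g' : S ⟶ X)
    (h : homOf e g = homOf e g') : g = g' := by
  apply Over.OverMorphism.ext
  rw [← cancel_mono e.hom]
  apply ext_to_Spec'
  apply CommRingCat.hom_ext
  exact h

/-- A point of `X ≅ Spec B` with values in `Spec C`, from a ring map `B → C` over `k`. -/
noncomputable def ptOf {C : Type u} [CommRing C] (φC : k →+* C) (ι : B →+* C)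
    (hι : ι.comp φB = φC) : Over.mk (Spec.map (CommRingCat.ofHom φC)) ⟶ X :=
  Over.homMk (Spec.map (CommRingCat.ofHom ι) ≫ e.inv) (by
    have h : e.inv ≫ X.hom = Spec.map (CommRingCat.ofHom φB) := by
      rw [← he, Iso.inv_hom_id_assoc]
    dsimp only [Over.mk_left, Over.mk_hom]
    rw [Category.assoc, h, ← Spec.map_comp, ← CommRingCat.ofHom_comp, hι])

theorem homOf_ptOf {C : Type u} [CommRing C] (φC : k →+* C) (ι : B →+* C)
    (hι : ι.comp φB = φC) :
    homOf e (ptOf e φB he φC ι hι) = (Scheme.ΓSpecIso (CommRingCat.of C)).inv.hom.comp ι := by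
  have key : (ptOf e φB he φC ι hι).left ≫ e.hom = Spec.map (CommRingCat.ofHom ι) := by
    change (Spec.map (CommRingCat.ofHom ι) ≫ e.inv) ≫ e.hom = _
    rw [Category.assoc, Iso.inv_hom_id, Category.comp_id]
  unfold homOf
  rw [key, ← Scheme.ΓSpecIso_inv_naturality]
  rfl

end pts

section mor

/-- A morphism `S ⟶ Spec C` over `k`, from a ring map `C → Γ(S)` over `k`. -/
noncomputable def morOf (S : Over (Spec (CommRingCat.of k))) {C : Type u} [CommRing C]
    (φC : k →+* C) (θ : C →+* Γ(S.left, ⊤)) (hθ : θ.comp φC = strHom S) :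
    S ⟶ Over.mk (Spec.map (CommRingCat.ofHom φC)) :=
  Over.homMk (S.left.toSpecΓ ≫ Spec.map (CommRingCat.ofHom θ)) (by
    dsimp only [Over.mk_left, Over.mk_hom]
    apply ext_to_Spec'
    rw [Category.assoc, ← Spec.map_comp, Scheme.Hom.comp_appTop, Scheme.toSpecΓ_appTop,
      Scheme.ΓSpecIso_naturality, Iso.inv_hom_id_assoc, ← CommRingCat.ofHom_comp, hθ]
    rfl)

theorem morOf_appTop (S : Over (Spec (CommRingCat.of k))) {C : Type u} [CommRing C]
    (φC : k →+* C) (θ : C →+* Γ(S.left, ⊤)) (hθ : θ.comp φC = strHom S) :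
    (morOf S φC θ hθ).left.appTop.hom.comp (Scheme.ΓSpecIso (CommRingCat.of C)).inv.hom = θ := by
  have : (Scheme.ΓSpecIso (CommRingCat.of C)).inv ≫ (morOf S φC θ hθ).left.appTop =
      CommRingCat.ofHom θ := by
    change (Scheme.ΓSpecIso (CommRingCat.of C)).inv ≫
      (S.left.toSpecΓ ≫ Spec.map (CommRingCat.ofHom θ)).appTop = _
    rw [Scheme.Hom.comp_appTop, Scheme.toSpecΓ_appTop,
      ← Scheme.ΓSpecIso_inv_naturality_assoc, Iso.inv_hom_id, Category.comp_id]
  exact congrArg CommRingCat.Hom.hom this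

end mor


section grp

open LaurentPolynomial MonObj CartesianMonoidalCategory

variable [IsDomain k] {G : Over (Spec (CommRingCat.of k))} [GrpObj G]
  (e : G.left ≅ Spec (CommRingCat.of (LaurentPolynomial k)))
  (he : e.hom ≫ Spec.map (CommRingCat.ofHom (algebraMap k (LaurentPolynomial k))) = G.hom)

/-- The unit `T` of a Laurent polynomial ring. -/
noncomputable def unitT (R : Type u) [CommRing R] : (LaurentPolynomial R)ˣ :=
  ⟨T 1, T (-1), by rw [← T_add]; simp, by rw [← T_add]; simp⟩

theorem unitT_zpow (R : Type u) [CommRing R] (n : ℤ) : ((unitT R ^ n : (LaurentPolynomial R)ˣ) :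
    LaurentPolynomial R) = T n := by
  induction n using Int.induction_on with
  | zero => simp
  | succ i ih =>
    rw [zpow_add_one, Units.val_mul, ih]
    change T (i : ℤ) * T 1 = _
    rw [← T_add]
  | pred i ih =>
    rw [zpow_sub_one, Units.val_mul, ih]
    change T (-(i : ℤ)) * T (-1) = _
    rw [← T_add, sub_eq_add_neg]

/-- The unit of `Γ(S)` attached to a point. -/
noncomputable def unitOf {S : Over (Spec (CommRingCat.of k))} (h : S ⟶ G) : Γ(S.left, ⊤)ˣ :=
  Units.map (homOf e h).toMonoidHom (unitT k)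

theorem unitOf_val {S : Over (Spec (CommRingCat.of k))} (h : S ⟶ G) :
    (unitOf e h : Γ(S.left, ⊤)) = homOf e h (T 1) := rfl

theorem unitOf_zpow {S : Over (Spec (CommRingCat.of k))} (h : S ⟶ G) (n : ℤ) :
    ((unitOf e h ^ n : Γ(S.left, ⊤)ˣ) : Γ(S.left, ⊤)) = homOf e h (T n) := by
  unfold unitOf
  rw [← map_zpow, Units.coe_map, unitT_zpow]
  rfl

/-- The structure map of the two-variable Laurent polynomial ring. -/
noncomputable def φLL : k →+* LaurentPolynomial (LaurentPolynomial k) :=
  (C : LaurentPolynomial k →+* _).comp (algebraMap k (LaurentPolynomial k))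

theorem ι₁_comp : (C : LaurentPolynomial k →+* LaurentPolynomial (LaurentPolynomial k)).comp
    (algebraMap k (LaurentPolynomial k)) = φLL := rfl

/-- Second inclusion `k[T^±] → k[T^±][T^±]`, `T ↦ T`. -/
noncomputable def ι₂ : LaurentPolynomial k →+* LaurentPolynomial (LaurentPolynomial k) :=
  LaurentPolynomial.eval₂ (φLL (k := k)) (unitT (LaurentPolynomial k))

theorem ι₂_comp : (ι₂ (k := k)).comp (algebraMap k (LaurentPolynomial k)) = φLL := by
  ext c
  simp [ι₂]

theorem ι₂_T : ι₂ (k := k) (T 1) = T 1 := by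
  rw [ι₂, LaurentPolynomial.eval₂_T, zpow_one]; rfl

/-- First universal point. -/
noncomputable def g₀ : Over.mk (Spec.map (CommRingCat.ofHom (φLL (k := k)))) ⟶ G :=
  ptOf e (algebraMap k (LaurentPolynomial k)) he φLL C ι₁_comp

/-- Second universal point. -/
noncomputable def h₀ : Over.mk (Spec.map (CommRingCat.ofHom (φLL (k := k)))) ⟶ G :=
  ptOf e (algebraMap k (LaurentPolynomial k)) he φLL ι₂ ι₂_comp

/-- The universal product, as a two-variable Laurent polynomial. -/
noncomputable def uElt : LaurentPolynomial (LaurentPolynomial k) :=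
  (Scheme.ΓSpecIso (CommRingCat.of (LaurentPolynomial (LaurentPolynomial k)))).hom.hom
    (homOf e (g₀ e he * h₀ e he) (T 1))

/-- The comparison ring map `k[T^±][T^±] → Γ(S)` attached to two points. -/
noncomputable def θOf {S : Over (Spec (CommRingCat.of k))} (g h : S ⟶ G) :
    LaurentPolynomial (LaurentPolynomial k) →+* Γ(S.left, ⊤) :=
  LaurentPolynomial.eval₂ (homOf e g) (unitOf e h)

include he in
theorem θOf_comp {S : Over (Spec (CommRingCat.of k))} (g h : S ⟶ G) :
    (θOf e g h).comp φLL = strHom S := by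
  rw [← homOf_comp_str e (algebraMap k (LaurentPolynomial k)) he g]
  ext c
  simp [θOf, φLL]

include he in
/-- **Key formula**: the coordinate of a product is the universal Laurent polynomial evaluated at
the two points. -/
theorem homOf_mul_T {S : Over (Spec (CommRingCat.of k))} (g h : S ⟶ G) :
    homOf e (g * h) (T 1) = θOf e g h (uElt e he) := by
  let φ := morOf S φLL (θOf e g h) (θOf_comp e he g h)
  have h1 : φ ≫ g₀ e he = g := by
    apply ext_of_homOf e
    rw [homOf_comp, g₀, homOf_ptOf, ← RingHom.comp_assoc, morOf_appTop]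
    refine RingHom.ext fun x => ?_
    simp only [RingHom.comp_apply, θOf, LaurentPolynomial.eval₂_C]
  have h2 : φ ≫ h₀ e he = h := by
    apply ext_of_homOf e
    rw [homOf_comp, h₀, homOf_ptOf, ← RingHom.comp_assoc, morOf_appTop]
    apply Groth.Agent.Lib.Seat67.LaurentUnits.ringHom_ext'
    · intro c
      have hg := congr($(homOf_comp_str e (algebraMap k (LaurentPolynomial k)) he g) c)
      have hh := congr($(homOf_comp_str e (algebraMap k (LaurentPolynomial k)) he h) c)
      have hι := congr($(ι₂_comp (k := k)) c)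
      simp only [RingHom.comp_apply] at hg hh hι ⊢
      rw [LaurentPolynomial.C_eq_algebraMap, hι, hh, ← hg]
      simp [θOf, φLL]
    · simp only [RingHom.comp_apply]
      rw [ι₂_T, θOf, LaurentPolynomial.eval₂_T, zpow_one, unitOf_val]
  have h3 : g * h = φ ≫ (g₀ e he * h₀ e he) := by
    rw [MonObj.comp_mul, h1, h2]
  rw [h3, homOf_comp, RingHom.comp_apply]
  have h4 : homOf e (g₀ e he * h₀ e he) (T 1) =
      (Scheme.ΓSpecIso (CommRingCat.of (LaurentPolynomial (LaurentPolynomial k)))).inv.hom
        (uElt e he) := by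
    unfold uElt
    exact (congr($((Scheme.ΓSpecIso (CommRingCat.of
      (LaurentPolynomial (LaurentPolynomial k)))).hom_inv_id).hom _)).symm
  rw [h4, ← RingHom.comp_apply, morOf_appTop]

section unit

variable (hunit : homOf e η[G] (T 1) = 1)

include hunit in
theorem homOf_one_T (S : Over (Spec (CommRingCat.of k))) : homOf e (1 : S ⟶ G) (T 1) = 1 := by
  rw [Hom.one_def, homOf_comp, RingHom.comp_apply, hunit, map_one]

include hunit in
theorem unitOf_one (S : Over (Spec (CommRingCat.of k))) : unitOf e (1 : S ⟶ G) = 1 :=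
  Units.ext (by rw [unitOf_val, homOf_one_T e hunit]; rfl)

/-- The tautological point of `G` with values in `Spec k[T^±]`. -/
noncomputable def tPt :
    Over.mk (Spec.map (CommRingCat.ofHom (algebraMap k (LaurentPolynomial k)))) ⟶ G :=
  ptOf e (algebraMap k (LaurentPolynomial k)) he (algebraMap k (LaurentPolynomial k))
    (RingHom.id _) (RingHom.id_comp _)

theorem homOf_tPt : homOf e (tPt e he) =
    (Scheme.ΓSpecIso (CommRingCat.of (LaurentPolynomial k))).inv.hom := by
  rw [tPt, homOf_ptOf, RingHom.comp_id]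

theorem ΓSpecIso_inv_injective (R : CommRingCat.{u}) :
    Function.Injective (Scheme.ΓSpecIso R).inv.hom := by
  intro x y hxy
  have := congrArg (Scheme.ΓSpecIso R).hom.hom hxy
  simpa using this

include hunit in
/-- The universal product is `X * Y`. -/
theorem uElt_eq : uElt e he = C (T 1) * T 1 := by
  have hu : IsUnit (uElt e he) := by
    unfold uElt
    exact ((unitT k).isUnit.map (homOf e (g₀ e he * h₀ e he))).map _
  obtain ⟨r, b, -, hrb⟩ :=
    Groth.Agent.Lib.Seat67.LaurentUnits.exists_C_mul_T_of_isUnit (uElt e he) hu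
  -- first unit law
  have h1 := homOf_mul_T e he (tPt e he) 1
  rw [_root_.mul_one, hrb, θOf, LaurentPolynomial.eval₂_C_mul_T, unitOf_one e hunit, one_zpow,
    Units.val_one, _root_.mul_one, homOf_tPt] at h1
  have hr : r = T 1 := (ΓSpecIso_inv_injective _ h1).symm
  -- second unit law
  have h2 := homOf_mul_T e he 1 (tPt e he)
  rw [_root_.one_mul, hrb, θOf, LaurentPolynomial.eval₂_C_mul_T, hr, homOf_one_T e hunit,
    _root_.one_mul, unitOf_zpow, homOf_tPt] at h2
  have hb : (T 1 : LaurentPolynomial k) = T b := ΓSpecIso_inv_injective _ h2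
  have hb1 : b = 1 := by
    have := congrArg (fun p : LaurentPolynomial k => p.coeff 1) hb
    simp only [LaurentPolynomial.T_apply] at this
    by_contra hne
    rw [if_pos trivial, if_neg hne] at this
    exact one_ne_zero this
  rw [hrb, hr, hb1]

include he hunit in
/-- **The only group structure on `Spec k[T^±]` with unit `T = 1` is the multiplicative group.** -/
theorem homOf_mul_T_eq {S : Over (Spec (CommRingCat.of k))} (g h : S ⟶ G) :
    homOf e (g * h) (T 1) = homOf e g (T 1) * homOf e h (T 1) := by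
  rw [homOf_mul_T e he, uElt_eq e he hunit, map_mul, θOf, LaurentPolynomial.eval₂_C,
    LaurentPolynomial.eval₂_T, zpow_one, unitOf_val]

end unit

end grp

end Groth.Agent.Lib.Seat67.GmPoints
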