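import Groth.Agent.S18637
import Groth.Agent.S11661
import Groth.Agent.S13224
import Groth.Agent.S11618

/-!
# From *canonical modules to canonical modules of the local ring `R_m` (seat 67)

`ℤ`-graded Noetherian ring `R`, `m` a homogeneous ideal which is MAXIMAL, `e : R/m → E'` a *injective
envelope, `C` a *canonical module (`GrLC.IsStarCanonical`).  Then, with `A = R_m` and
`S = R ∖ m`:

* `exists_hull`: `S⁻¹E'` is an injective hull of the residue field of `A`;
* `nonempty_equiv`: `Hom_A(S⁻¹C, S⁻¹E') ≃ₗ[A] H^n_{mA}(A)`.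

So `S⁻¹C` is a canonical module of the local ring `A` in the sense of the local rows
S7691–S7708.
-/

set_option autoImplicit false
universe u
open LocCoh

namespace Groth.Agent.Lib.Seat67.GrCanonLoc

section Hull

variable {R : Type u} [CommRing R] [IsNoetherianRing R]

/-- Precomposing an injective hull with a linear equivalence. -/
theorem isInjectiveHull_comp_equiv {M M' E : Type u} [AddCommGroup M] [Module R M]
    [AddCommGroup M'] [Module R M'] [AddCommGroup E] [Module R E] (f : M →ₗ[R] E)
    (hf : InjHull.IsInjectiveHull f) (θ : M' ≃ₗ[R] M) :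
    InjHull.IsInjectiveHull (f ∘ₗ θ.toLinearMap) := by
  refine { injective := ?_, essential := ?_, isInjective := hf.isInjective }
  · exact hf.injective.comp θ.injective
  · intro N hN
    rw [LinearMap.range_comp_of_range_eq_top _ (LinearEquiv.range θ)]
    exact hf.essential N hN

variable (p : Ideal R) [hp : p.IsPrime] {E : Type u} [AddCommGroup E] [Module R E]
  (f : (R ⧸ p) →ₗ[R] E) (hf : InjHull.IsInjectiveHull f)

include hf in
/-- For an injective hull `E` of `R/p`: `E → E_p` is bijective and `E_p` is an injective hull of the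
residue field of `R_p`. -/
theorem exists_hull :
    Function.Bijective (LocalizedModule.mkLinearMap p.primeCompl E) ∧
    ∃ f₀ : IsLocalRing.ResidueField (Localization.AtPrime p) →ₗ[Localization.AtPrime p]
      LocalizedModule p.primeCompl E, InjHull.IsInjectiveHull f₀ := by
  have hd : Disjoint (p : Set R) (p.primeCompl : Set R) := by
    rw [Set.disjoint_left]
    intro x hx hx'
    exact hx' hx
  obtain ⟨hbij, g, hg⟩ := (Groth.Agent.S11661.result R p.primeCompl p E f hf).2 hd
  refine ⟨hbij, ?_⟩
  have hmap : p.map (algebraMap R (Localization p.primeCompl)) =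
      IsLocalRing.maximalIdeal (Localization.AtPrime p) :=
    Localization.AtPrime.map_eq_maximalIdeal
  let θ : (Localization.AtPrime p ⧸ IsLocalRing.maximalIdeal (Localization.AtPrime p))
      ≃ₗ[Localization.AtPrime p]
      (Localization p.primeCompl ⧸ p.map (algebraMap R (Localization p.primeCompl))) :=
    Submodule.quotEquivOfEq _ _ hmap.symm
  exact ⟨g ∘ₗ θ.toLinearMap, isInjectiveHull_comp_equiv g hg θ⟩

end Hull

section EndFree

/-- For a module `N` free of rank one over `A`, the map `A → End_A(N)` is bijective. -/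
theorem bijective_smul_id_of_equiv {A N : Type*} [CommRing A] [AddCommGroup N] [Module A N]
    (e : N ≃ₗ[A] A) :
    Function.Bijective (fun a : A => a • (LinearMap.id : N →ₗ[A] N)) := by
  constructor
  · intro a b hab
    have h1 := LinearMap.congr_fun hab (e.symm 1)
    simp only [LinearMap.smul_apply, LinearMap.id_apply] at h1
    have h2 := congrArg e h1
    rw [map_smul, map_smul, e.apply_symm_apply, smul_eq_mul, smul_eq_mul, mul_one, mul_one] at h2
    exact h2
  · intro g
    refine ⟨e (g (e.symm 1)), ?_⟩
    apply LinearMap.ext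
    intro x
    simp only [LinearMap.smul_apply, LinearMap.id_apply]
    have hx : x = (e x) • e.symm 1 := by
      apply e.injective
      rw [map_smul, e.apply_symm_apply, smul_eq_mul, mul_one]
    apply e.injective
    conv_rhs => rw [hx, map_smul, map_smul]
    rw [map_smul, smul_eq_mul, smul_eq_mul, mul_comm]

end EndFree

section Canon

variable {R : Type u} [CommRing R] [IsNoetherianRing R] (𝒜 : ℤ → AddSubgroup R) [GradedRing 𝒜]
  (m : HomogeneousIdeal 𝒜) [hmax : m.toIdeal.IsMaximal]
  {E' : Type u} [AddCommGroup E'] [Module R E'] (𝓔 : ℤ → AddSubgroup E')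
  [DirectSum.Decomposition 𝓔] [SetLike.GradedSMul 𝒜 𝓔]
  {C : Type u} [AddCommGroup C] [Module R C] (𝒞 : ℤ → AddSubgroup C)
  [DirectSum.Decomposition 𝒞] [SetLike.GradedSMul 𝒜 𝒞]
  (n : ℕ) (I : GrLC.StarInjRes 𝒜 𝒜)

/-- Transport of local cohomology along a linear equivalence. -/
noncomputable def HCongr {A : Type u} [CommRing A] (J : Ideal A) (i : ℕ) {M N : Type u}
    [AddCommGroup M] [Module A M] [AddCommGroup N] [Module A N] (θ : M ≃ₗ[A] N) :
    LocCoh.H J i M ≃ₗ[A] LocCoh.H J i N :=
  ((localCohomology J i).mapIso θ.toModuleIso).toLinearEquiv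

/-- The localisation `S⁻¹C` of a *canonical module at the maximal homogeneous ideal is a canonical
module for the local ring `R_m`. -/
theorem nonempty_equiv (hC : GrLC.IsStarCanonical 𝒜 𝒞 𝓔 m n I) :
    Nonempty ((LocalizedModule m.toIdeal.primeCompl C →ₗ[Localization.AtPrime m.toIdeal]
        LocalizedModule m.toIdeal.primeCompl E') ≃ₗ[Localization.AtPrime m.toIdeal]
      LocCoh.H (IsLocalRing.maximalIdeal (Localization.AtPrime m.toIdeal)) n
        (Localization.AtPrime m.toIdeal)) := by
  classical
  obtain ⟨hfin, φ, -⟩ := hC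
  haveI := hfin
  haveI : Module.FinitePresentation R C := Module.finitePresentation_of_finite R C
  obtain ⟨ψ⟩ := Groth.Agent.S13224.result R 𝒜 m R 𝒜 I n
  obtain ⟨χ⟩ := Groth.Agent.S11618.result R m.toIdeal m.toIdeal.primeCompl R n
  -- (a) Hom commutes with localisation
  let a₀ := Module.FinitePresentation.linearEquivMapExtendScalars m.toIdeal.primeCompl
    (M := C) (N := E')
  let a₁ : LocalizedModule m.toIdeal.primeCompl (C →ₗ[R] E') ≃ₗ[Localization.AtPrime m.toIdeal]
      (LocalizedModule m.toIdeal.primeCompl C →ₗ[Localization.AtPrime m.toIdeal]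
        LocalizedModule m.toIdeal.primeCompl E') :=
    a₀.extendScalarsOfIsLocalization m.toIdeal.primeCompl (Localization.AtPrime m.toIdeal)
  -- (b), (c) localise `φ` and `ψ`
  let b : LocalizedModule m.toIdeal.primeCompl (C →ₗ[R] E') ≃ₗ[Localization.AtPrime m.toIdeal]
      LocalizedModule m.toIdeal.primeCompl (LocCoh.H m.toIdeal n R) :=
    IsLocalizedModule.mapEquiv m.toIdeal.primeCompl
      (LocalizedModule.mkLinearMap m.toIdeal.primeCompl (C →ₗ[R] E'))
      (LocalizedModule.mkLinearMap m.toIdeal.primeCompl (LocCoh.H m.toIdeal n R))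
      (Localization.AtPrime m.toIdeal) (φ.trans ψ)
  -- (e) `S⁻¹R ≅ A`
  let e₀ : LocalizedModule m.toIdeal.primeCompl R ≃ₗ[R] Localization.AtPrime m.toIdeal :=
    IsLocalizedModule.linearEquiv m.toIdeal.primeCompl
      (LocalizedModule.mkLinearMap m.toIdeal.primeCompl R)
      (Algebra.linearMap R (Localization.AtPrime m.toIdeal))
  let e₁ : LocalizedModule m.toIdeal.primeCompl R ≃ₗ[Localization.AtPrime m.toIdeal]
      Localization.AtPrime m.toIdeal :=
    e₀.extendScalarsOfIsLocalization m.toIdeal.primeCompl (Localization.AtPrime m.toIdeal)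
  have hmap : m.toIdeal.map (algebraMap R (Localization m.toIdeal.primeCompl)) =
      IsLocalRing.maximalIdeal (Localization.AtPrime m.toIdeal) :=
    Localization.AtPrime.map_eq_maximalIdeal
  rw [← hmap]
  exact ⟨a₁.symm.trans (b.trans (χ.trans (HCongr _ n e₁)))⟩

end Canon

end Groth.Agent.Lib.Seat67.GrCanonLoc
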