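import Mathlib

/-! The coaction `ρ : R → R[T;T⁻¹]`, `r_d ↦ r_d T^{cd}`, of a `ℤ`-graded ring, freeness of `R[T;T⁻¹]` over
`R` through `ρ`, and restriction of scalars of injective modules along flat maps (seat 86). -/

set_option autoImplicit false
set_option linter.style.haveILetI false
set_option linter.unusedSectionVars false

universe u

open LaurentPolynomial DirectSum TensorProduct

namespace Groth.Agent.Lib.Seat86.GrTwA

section Restrict

/-- Restriction of scalars along a flat ring map preserves injective modules. -/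
theorem injective_restrict_of_flat {R S : Type u} [CommRing R] [CommRing S] [Algebra R S]
    [Module.Flat R S] (J : Type u) [AddCommGroup J] [Module S J] [Module R J] [IsScalarTower R S J]
    [Module.Injective S J] : Module.Injective R J := by
  constructor
  intro X Y _ _ _ _ f hf g
  have hf' : Function.Injective (f.baseChange S) := by
    rw [LinearMap.baseChange_eq_ltensor]
    exact Module.Flat.lTensor_preserves_injective_linearMap f hf
  obtain ⟨h', hh'⟩ := Module.Injective.out (f.baseChange S) hf' (g.liftBaseChange S)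
  refine ⟨(h'.restrictScalars R).comp (TensorProduct.mk R S Y 1), fun x => ?_⟩
  have h1 := hh' ((1 : S) ⊗ₜ[R] x)
  rw [LinearMap.baseChange_tmul, LinearMap.liftBaseChange_tmul, one_smul] at h1
  exact h1

end Restrict

section Rho

variable {R : Type u} [CommRing R] (𝒜 : ℤ → AddSubgroup R) [GradedRing 𝒜]

/-- `a ↦ C a * T (c * i)` on the piece of degree `i`. -/
noncomputable def rhoPiece (c i : ℤ) : 𝒜 i →+ R[T;T⁻¹] :=
  (AddMonoidHom.mulRight (T (c * i) : R[T;T⁻¹])).comp
    ((C : R →+* R[T;T⁻¹]).toAddMonoidHom.comp (𝒜 i).subtype)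

theorem rhoPiece_apply (c i : ℤ) (a : 𝒜 i) : rhoPiece 𝒜 c i a = C (a : R) * T (c * i) := rfl

/-- The ring map `⨁ 𝒜 i → R[T;T⁻¹]`. -/
noncomputable def rhoDS (c : ℤ) : (⨁ i, 𝒜 i) →+* R[T;T⁻¹] :=
  DirectSum.toSemiring (rhoPiece 𝒜 c)
    (by
      rw [rhoPiece_apply, SetLike.coe_gOne, mul_zero, T_zero, map_one, mul_one])
    (by
      intro i j a b
      rw [rhoPiece_apply, rhoPiece_apply, rhoPiece_apply, SetLike.coe_gMul, map_mul, mul_add,
        T_add]
      ring)

/-- The coaction `ρ_c : R → R[T;T⁻¹]`, `r_d ↦ r_d T^{cd}`. -/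
noncomputable def rho (c : ℤ) : R →+* R[T;T⁻¹] :=
  (rhoDS 𝒜 c).comp (DirectSum.decomposeRingEquiv 𝒜).toRingHom

theorem rho_of_mem (c : ℤ) {d : ℤ} {r : R} (hr : r ∈ 𝒜 d) :
    rho 𝒜 c r = C r * T (c * d) := by
  change rhoDS 𝒜 c (DirectSum.decompose 𝒜 r) = _
  rw [DirectSum.decompose_of_mem 𝒜 hr]
  change DirectSum.toSemiring (rhoPiece 𝒜 c) _ _ (DirectSum.of (fun i => 𝒜 i) d ⟨r, hr⟩) = _
  rw [DirectSum.toSemiring_of]
  rfl

/-- The ring endomorphism of `R[T;T⁻¹]` extending `ρ_c` and fixing `T`. -/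
noncomputable def alpha (c : ℤ) : R[T;T⁻¹] →+* R[T;T⁻¹] :=
  AddMonoidAlgebra.liftNCRingHom (rho 𝒜 c) (AddMonoidAlgebra.of R ℤ) (fun _ _ => Commute.all _ _)

theorem alpha_single (c : ℤ) (n : ℤ) (b : R) :
    alpha 𝒜 c (AddMonoidAlgebra.single n b) = rho 𝒜 c b * T n := by
  unfold alpha
  rw [AddMonoidAlgebra.liftNCRingHom_single]
  rfl

theorem alpha_C (c : ℤ) (b : R) : alpha 𝒜 c (C b) = rho 𝒜 c b := by
  rw [← LaurentPolynomial.single_eq_C, alpha_single, T_zero, mul_one]

theorem alpha_T (c : ℤ) (n : ℤ) : alpha 𝒜 c (T n) = T n := by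
  change alpha 𝒜 c (AddMonoidAlgebra.single n 1) = _
  rw [alpha_single, map_one, one_mul]

theorem alpha_comp (c : ℤ) : (alpha 𝒜 (-c)).comp (alpha 𝒜 c) = RingHom.id _ := by
  apply AddMonoidAlgebra.ringHom_ext
  · intro b
    rw [RingHom.comp_apply, RingHom.id_apply, alpha_single, T_zero, mul_one]
    induction b using DirectSum.Decomposition.inductionOn 𝒜 with
    | zero => simp
    | @homogeneous d r =>
      rw [rho_of_mem 𝒜 c r.2, map_mul, alpha_T, alpha_C, rho_of_mem 𝒜 (-c) r.2, mul_assoc, ← T_add,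
        neg_mul, neg_add_cancel, T_zero, mul_one, LaurentPolynomial.single_eq_C]
    | add x y hx hy =>
      rw [map_add, map_add, hx, hy]
      exact (map_add (AddMonoidAlgebra.singleAddHom (0 : ℤ)) x y).symm
  · intro a
    rw [RingHom.comp_apply, RingHom.id_apply]
    change alpha 𝒜 (-c) (alpha 𝒜 c (T a)) = T a
    rw [alpha_T, alpha_T]

theorem alpha_alpha (c : ℤ) (s : R[T;T⁻¹]) : alpha 𝒜 (-c) (alpha 𝒜 c s) = s :=
  RingHom.congr_fun (alpha_comp 𝒜 c) s

theorem alpha_alpha' (c : ℤ) (s : R[T;T⁻¹]) : alpha 𝒜 c (alpha 𝒜 (-c) s) = s := by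
  have := alpha_alpha 𝒜 (-c) s
  rwa [neg_neg] at this

/-- `R[T;T⁻¹]` as an `R`-algebra through `ρ_c`. -/
def Srho (_ : ℤ → AddSubgroup R) (_ : ℤ) : Type u := R[T;T⁻¹]

noncomputable instance (c : ℤ) : CommRing (Srho 𝒜 c) := inferInstanceAs (CommRing R[T;T⁻¹])

noncomputable instance (c : ℤ) : Algebra R (Srho 𝒜 c) := (rho 𝒜 c).toAlgebra

theorem algebraMap_Srho (c : ℤ) (r : R) : algebraMap R (Srho 𝒜 c) r = rho 𝒜 c r := rfl

/-- `α_c` as an `R`-linear equivalence from the standard structure to the one through `ρ_c`. -/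
noncomputable def alphaEquiv (c : ℤ) : R[T;T⁻¹] ≃ₗ[R] Srho 𝒜 c where
  toFun := alpha 𝒜 c
  map_add' := map_add _
  map_smul' r s := by
    simp only [RingHom.id_apply]
    rw [Algebra.smul_def, Algebra.smul_def, map_mul, algebraMap_Srho]
    congr 1
    exact alpha_C 𝒜 c r
  invFun := alpha 𝒜 (-c)
  left_inv := alpha_alpha 𝒜 c
  right_inv := alpha_alpha' 𝒜 c

instance (c : ℤ) : Module.Flat R (Srho 𝒜 c) :=
  Module.Flat.of_linearEquiv (alphaEquiv 𝒜 c).symm

end Rho

end Groth.Agent.Lib.Seat86.GrTwA
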