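import Groth.Agent.Lib.Seat67QuotRegGor
import Groth.Agent.Lib.Seat86GrTwA
import Groth.Agent.Lib.Helper5GorRing
import Groth.Agent.Lib.Seat91GrLift

/-!
# Graded local-global principle for the Gorenstein property (seat 67)

For a Noetherian `ℤ`-graded ring `R` and a prime `p` with homogeneous core `p*`:
`R_p` is Gorenstein iff `R_{p*}` is (`gorLocal_iff_core`).  Consequently a *local ring `(R, m)` with
`R_m` Gorenstein is a Gorenstein ring (`gorRing_of_gorLocal_starLocal`).

The proof is the Laurent-polynomial trick: `R[T, T⁻¹]_Q` is Gorenstein iff `R_{Q ∩ R}` is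
(`gorLocal_laurent_iff`), and the automorphism `alpha` of `R[T, T⁻¹]` (helper86) carries the
standard `R`-structure to the one through `rho : r_d ↦ r_d T^d`, under which `p R[T, T⁻¹]` contracts
to `p*`.
-/

set_option autoImplicit false
universe u
open Polynomial LaurentPolynomial LocCoh

namespace Groth.Agent.Lib.Seat67.GrGorLoc

open Groth.Agent.Lib.Helper5.GorRing Groth.Agent.Lib.Seat67.QuotRegGor
  Groth.Agent.Lib.Seat86.GrTwA Groth.Agent.Lib.Helper28

section Laurent

variable (R : Type u) [CommRing R] [IsNoetherianRing R]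

/-- `R[X]_Q` is Gorenstein iff `R_{Q ∩ R}` is. -/
theorem gorLocal_poly_iff (Q : Ideal R[X]) [Q.IsPrime] :
    IsGorensteinLocalRing (Localization.AtPrime Q) ↔
      IsGorensteinLocalRing (Localization.AtPrime (Q.comap (algebraMap R R[X]))) := by
  rw [gor_localization_iff (A := R) Q]
  refine and_iff_left ?_
  refine (forall_gor_fiber_iff (A := R) (B := R[X])).mp ?_ Q
  intro p hp
  haveI : IsGorensteinRing (p.ResidueField)[X] := gorRing_of_isRegularRing _
  exact gorRing_of_ringEquiv (polyEquivTensor R p.ResidueField).toRingEquiv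

instance : IsNoetherianRing R[T;T⁻¹] :=
  IsLocalization.isNoetherianRing (Submonoid.powers (X : R[X])) R[T;T⁻¹] inferInstance

omit [IsNoetherianRing R] in
theorem comap_comap_laurent (Q : Ideal R[T;T⁻¹]) :
    (Q.comap (algebraMap R[X] R[T;T⁻¹])).comap (algebraMap R R[X]) =
      Q.comap (algebraMap R R[T;T⁻¹]) := by
  rw [Ideal.comap_comap]
  congr 1
  ext r
  simp [LaurentPolynomial.algebraMap_apply]

/-- `R[T, T⁻¹]_Q` is Gorenstein iff `R_{Q ∩ R}` is. -/
theorem gorLocal_laurent_iff (Q : Ideal R[T;T⁻¹]) [hQ : Q.IsPrime] :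
    IsGorensteinLocalRing (Localization.AtPrime Q) ↔
      IsGorensteinLocalRing (Localization.AtPrime (Q.comap (algebraMap R R[T;T⁻¹]))) := by
  haveI hQ' : (Q.comap (algebraMap R[X] R[T;T⁻¹])).IsPrime := Ideal.comap_isPrime _ _
  have hmap : (Q.comap (algebraMap R[X] R[T;T⁻¹])).map (algebraMap R[X] R[T;T⁻¹]) = Q :=
    IsLocalization.map_comap (Submonoid.powers (X : R[X])) R[T;T⁻¹] Q
  have hd : Disjoint ((Submonoid.powers (X : R[X]) : Submonoid R[X]) : Set R[X])
      ((Q.comap (algebraMap R[X] R[T;T⁻¹]) : Ideal R[X]) : Set R[X]) := by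
    rw [Set.disjoint_left]
    rintro x ⟨n, rfl⟩ hx
    rw [SetLike.mem_coe, Ideal.mem_comap, LaurentPolynomial.algebraMap_X_pow] at hx
    exact hQ.ne_top (Ideal.eq_top_of_isUnit_mem _ hx (isUnit_T n))
  haveI hP : ((Q.comap (algebraMap R[X] R[T;T⁻¹])).map (algebraMap R[X] R[T;T⁻¹])).IsPrime := by
    rw [hmap]; exact hQ
  have h1 := gorLocal_localization_map_iff (Submonoid.powers (X : R[X])) R[T;T⁻¹]
    (Q.comap (algebraMap R[X] R[T;T⁻¹])) hd
  rw [← gorLocal_congr hmap, h1, gorLocal_poly_iff]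
  haveI : ((Q.comap (algebraMap R[X] R[T;T⁻¹])).comap (algebraMap R R[X])).IsPrime :=
    Ideal.comap_isPrime _ _
  haveI : (Q.comap (algebraMap R R[T;T⁻¹])).IsPrime := Ideal.comap_isPrime _ _
  exact gorLocal_congr (comap_comap_laurent R Q)

end Laurent

section Core

variable {R : Type u} [CommRing R] [IsNoetherianRing R] (𝒜 : ℤ → AddSubgroup R) [GradedRing 𝒜]

omit [IsNoetherianRing R] in
/-- Coefficients of `rho r` are the homogeneous components of `r`. -/
theorem coeff_rho (r : R) (d : ℤ) :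
    (rho 𝒜 1 r).coeff d = (DirectSum.decompose 𝒜 r d : R) := by
  classical
  refine DirectSum.Decomposition.inductionOn 𝒜 (motive := fun r => ∀ d : ℤ,
    (rho 𝒜 1 r).coeff d = (DirectSum.decompose 𝒜 r d : R)) ?_ ?_ ?_ r d
  · intro d
    simp
  · intro i a d
    rw [rho_of_mem 𝒜 1 a.2, one_mul, DirectSum.decompose_coe,
      ← LaurentPolynomial.single_eq_C_mul_T, AddMonoidAlgebra.coeff_single]
    by_cases h : i = d
    · subst h
      simp
    · rw [DirectSum.of_eq_of_ne _ _ _ (Ne.symm h)]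
      simp [Finsupp.single_apply, h]
  · intro a b ha hb d
    rw [map_add, DirectSum.decompose_add, DirectSum.add_apply, AddSubgroup.coe_add, ← ha d,
      ← hb d, AddMonoidAlgebra.coeff_add]
    rfl

/-- The prime `p R[T, T⁻¹]` of the Laurent polynomial ring. -/
noncomputable def PL (p : Ideal R) : Ideal R[T;T⁻¹] :=
  RingHom.ker (AddMonoidAlgebra.mapRingHom ℤ (Ideal.Quotient.mk p))

omit [IsNoetherianRing R] in
theorem mem_PL {p : Ideal R} {f : R[T;T⁻¹]} : f ∈ PL p ↔ ∀ z, f.coeff z ∈ p := by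
  unfold PL
  rw [RingHom.mem_ker]
  constructor
  · intro h z
    have := congrArg (fun g : (R ⧸ p)[T;T⁻¹] => g.coeff z) h
    simp only [AddMonoidAlgebra.coeff_mapRingHom] at this
    exact Ideal.Quotient.eq_zero_iff_mem.mp this
  · intro h
    apply LaurentPolynomial.ext
    intro z
    rw [AddMonoidAlgebra.coeff_mapRingHom]
    exact Ideal.Quotient.eq_zero_iff_mem.mpr (h z)

instance (p : Ideal R) [p.IsPrime] : (PL p).IsPrime := RingHom.ker_isPrime _

omit [IsNoetherianRing R] in
theorem comap_C_PL (p : Ideal R) : (PL p).comap (algebraMap R R[T;T⁻¹]) = p := by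
  ext a
  rw [Ideal.mem_comap, mem_PL, LaurentPolynomial.algebraMap_apply]
  constructor
  · intro h
    simpa using h 0
  · intro h z
    rw [LaurentPolynomial.C_apply]
    split_ifs
    · exact h
    · exact Ideal.zero_mem _

omit [IsNoetherianRing R] in
theorem comap_rho_PL (p : Ideal R) :
    (PL p).comap (rho 𝒜 1) = (p.homogeneousCore 𝒜).toIdeal := by
  classical
  ext r
  rw [Ideal.mem_comap, mem_PL]
  constructor
  · intro h
    rw [← DirectSum.sum_support_decompose 𝒜 r]
    refine Ideal.sum_mem _ fun d _ => ?_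
    have hd := h d
    rw [coeff_rho] at hd
    exact Ideal.mem_homogeneousCore_of_homogeneous_of_mem ⟨d, (DirectSum.decompose 𝒜 r d).2⟩ hd
  · intro h z
    rw [coeff_rho]
    exact Ideal.toIdeal_homogeneousCore_le 𝒜 p
      ((p.homogeneousCore 𝒜).isHomogeneous z h)

/-- `alpha` as a ring automorphism. -/
noncomputable def alphaRingEquiv : R[T;T⁻¹] ≃+* R[T;T⁻¹] :=
  RingEquiv.ofRingHom (alpha 𝒜 1) (alpha 𝒜 (-1))
    (RingHom.ext fun s => by simpa using alpha_alpha' 𝒜 1 s)
    (RingHom.ext fun s => by simpa using alpha_alpha 𝒜 1 s)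

omit [IsNoetherianRing R] in
theorem comap_alpha_C (P : Ideal R[T;T⁻¹]) :
    (P.comap (alpha 𝒜 1)).comap (algebraMap R R[T;T⁻¹]) = P.comap (rho 𝒜 1) := by
  rw [Ideal.comap_comap]
  congr 1
  ext r
  rw [RingHom.comp_apply, LaurentPolynomial.algebraMap_apply, alpha_C]
  rfl

/-- For a prime `p` of a Noetherian `ℤ`-graded ring, `R_p` is Gorenstein iff `R_{p*}` is, where
`p*` is the homogeneous core of `p`. -/
theorem gorLocal_iff_core (p : Ideal R) [hp : p.IsPrime]
    [hc : (p.homogeneousCore 𝒜).toIdeal.IsPrime] :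
    IsGorensteinLocalRing (Localization.AtPrime p) ↔
      IsGorensteinLocalRing (Localization.AtPrime (p.homogeneousCore 𝒜).toIdeal) := by
  haveI hQ : ((PL p).comap (alpha 𝒜 1)).IsPrime := Ideal.comap_isPrime _ _
  -- step 1
  have h1 := gorLocal_laurent_iff R (PL p)
  haveI : ((PL p).comap (algebraMap R R[T;T⁻¹])).IsPrime := Ideal.comap_isPrime _ _
  rw [gorLocal_congr (comap_C_PL p)] at h1
  -- step 3
  have h3 := gorLocal_laurent_iff R ((PL p).comap (alpha 𝒜 1))
  haveI : (((PL p).comap (alpha 𝒜 1)).comap (algebraMap R R[T;T⁻¹])).IsPrime :=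
    Ideal.comap_isPrime _ _
  rw [gorLocal_congr ((comap_alpha_C 𝒜 (PL p)).trans (comap_rho_PL 𝒜 p))] at h3
  -- step 2: the automorphism
  have H : Submonoid.map (alphaRingEquiv 𝒜).toMonoidHom ((PL p).comap (alpha 𝒜 1)).primeCompl =
      (PL p).primeCompl := by
    ext x
    simp only [Submonoid.mem_map, Ideal.mem_primeCompl_iff, Ideal.mem_comap]
    constructor
    · rintro ⟨y, hy, rfl⟩
      exact hy
    · intro hx
      refine ⟨(alphaRingEquiv 𝒜).symm x, ?_, (alphaRingEquiv 𝒜).apply_symm_apply x⟩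
      have : alpha 𝒜 1 ((alphaRingEquiv 𝒜).symm x) = x := (alphaRingEquiv 𝒜).apply_symm_apply x
      rw [this]
      exact hx
  let e : Localization.AtPrime ((PL p).comap (alpha 𝒜 1)) ≃+* Localization.AtPrime (PL p) :=
    IsLocalization.ringEquivOfRingEquiv (Localization.AtPrime ((PL p).comap (alpha 𝒜 1)))
      (Localization.AtPrime (PL p)) (alphaRingEquiv 𝒜) H
  have h2 : IsGorensteinLocalRing (Localization.AtPrime ((PL p).comap (alpha 𝒜 1))) ↔
      IsGorensteinLocalRing (Localization.AtPrime (PL p)) :=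
    ⟨fun h => gorLocal_of_ringEquiv e, fun h => gorLocal_of_ringEquiv e.symm⟩
  rw [← h1, ← h2, h3]

/-- A Noetherian `ℤ`-graded *local ring `(R, m)` with `R_m` Gorenstein is a Gorenstein ring. -/
theorem gorRing_of_gorLocal_starLocal {m : HomogeneousIdeal 𝒜} (hm : GrLC.IsStarLocal 𝒜 m)
    [hmp : m.toIdeal.IsPrime]
    (h : IsGorensteinLocalRing (Localization.AtPrime m.toIdeal)) : IsGorensteinRing R := by
  refine { isGorensteinLocalRing_localization := fun p hp => ?_ }
  haveI hc : (p.homogeneousCore 𝒜).toIdeal.IsPrime := Ideal.IsPrime.homogeneousCore hp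
  rw [gorLocal_iff_core 𝒜 p]
  have hle : (p.homogeneousCore 𝒜).toIdeal ≤ m.toIdeal :=
    Groth.Agent.Lib.Seat91.GrLift.le_of_isStarLocal hm _ (p.homogeneousCore 𝒜).isHomogeneous
      hc.ne_top
  exact gorLocal_localization_of_le _ _ hle h

end Core

end Groth.Agent.Lib.Seat67.GrGorLoc
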