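import Groth.Agent.Lib.Seat67GrVertex
import Groth.Agent.Lib.Helper28DepthBC
import Groth.Agent.Lib.Helper28DepthSk
import Groth.Agent.Lib.Helper28DepthMore

set_option autoImplicit false

/-!
# Cohen–Macaulayness of a union of two cones at the vertex (seat 67)
-/

universe u v

namespace Groth.Agent.Lib.Seat67.GrInter

open Groth.Agent.Lib.Helper28 Groth.Agent.Lib.Seat67.GrCM Groth.Agent.Lib.Seat67.GrVertex Order

section Poset

variable {α : Type*} [Preorder α]

/-- The Krull dimension of a union of two upper sets is at most the maximum of the two. -/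
theorem krullDim_union_le {s t : Set α} (hs : IsUpperSet s) (ht : IsUpperSet t) :
    krullDim ↥(s ∪ t) ≤ max (krullDim ↥s) (krullDim ↥t) := by
  unfold krullDim
  refine iSup_le fun p => ?_
  have key : ∀ (u : Set α), IsUpperSet u → (p.head : α) ∈ u →
      (p.length : WithBot ℕ∞) ≤ ⨆ q : LTSeries ↥u, (q.length : WithBot ℕ∞) := by
    intro u hu hmem
    let q : LTSeries ↥u :=
      { length := p.length
        toFun := fun i => ⟨(p i : α), hu (Subtype.coe_le_coe.mpr (LTSeries.head_le p i)) hmem⟩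
        step := fun i => Subtype.coe_lt_coe.mp (Subtype.coe_lt_coe.mpr (p.step i)) }
    exact le_iSup (fun q : LTSeries ↥u => (q.length : WithBot ℕ∞)) q
  rcases p.head.2 with h | h
  · exact le_max_of_le_left (key s hs h)
  · exact le_max_of_le_right (key t ht h)

end Poset

section Dim

variable {A : Type u} [CommRing A]

theorem support_quotient_eq_zeroLocus (L : Ideal A) :
    Module.support A (A ⧸ L) = PrimeSpectrum.zeroLocus (L : Set A) := by
  rw [Module.support_of_algebra, Ideal.Quotient.algebraMap_eq, Ideal.mk_ker]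

/-- `dim A/(I ∩ J) ≤ max (dim A/I) (dim A/J)`. -/
theorem ringKrullDim_quotient_inf_le (I J : Ideal A) :
    ringKrullDim (A ⧸ (I ⊓ J)) ≤ max (ringKrullDim (A ⧸ I)) (ringKrullDim (A ⧸ J)) := by
  rw [← Module.supportDim_quotient_eq_ringKrullDim, ← Module.supportDim_quotient_eq_ringKrullDim,
    ← Module.supportDim_quotient_eq_ringKrullDim]
  unfold Module.supportDim
  rw [support_quotient_eq_zeroLocus, support_quotient_eq_zeroLocus, support_quotient_eq_zeroLocus,
    PrimeSpectrum.zeroLocus_inf]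
  apply krullDim_union_le
  · intro p q hpq hp
    rw [PrimeSpectrum.mem_zeroLocus] at hp ⊢
    exact hp.trans hpq
  · intro p q hpq hp
    rw [PrimeSpectrum.mem_zeroLocus] at hp ⊢
    exact hp.trans hpq

end Dim

section Exact

variable {A : Type u} [CommRing A] (I J : Ideal A)

/-- `A/(I ∩ J) → A/I × A/J`. -/
def fI : (A ⧸ (I ⊓ J)) →ₗ[A] (A ⧸ I) × (A ⧸ J) :=
  LinearMap.prod (Submodule.mapQ (I ⊓ J) I LinearMap.id (fun _ hx => hx.1))
    (Submodule.mapQ (I ⊓ J) J LinearMap.id (fun _ hx => hx.2))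

/-- `A/I × A/J → A/(I + J)`, `(x, y) ↦ x - y`. -/
def gI : (A ⧸ I) × (A ⧸ J) →ₗ[A] A ⧸ (I ⊔ J) :=
  (Submodule.mapQ I (I ⊔ J) LinearMap.id (fun _ hx => Ideal.mem_sup_left hx)).comp
      (LinearMap.fst A (A ⧸ I) (A ⧸ J)) -
    (Submodule.mapQ J (I ⊔ J) LinearMap.id (fun _ hx => Ideal.mem_sup_right hx)).comp
      (LinearMap.snd A (A ⧸ I) (A ⧸ J))

theorem fI_mk (a : A) : fI I J (Ideal.Quotient.mk (I ⊓ J) a) =
    (Ideal.Quotient.mk I a, Ideal.Quotient.mk J a) := rfl

theorem gI_mk (a b : A) : gI I J (Ideal.Quotient.mk I a, Ideal.Quotient.mk J b) =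
    Ideal.Quotient.mk (I ⊔ J) (a - b) := rfl

theorem fI_injective : Function.Injective (fI I J) := by
  rw [← LinearMap.ker_eq_bot, LinearMap.ker_eq_bot']
  intro x hx
  obtain ⟨a, rfl⟩ := Ideal.Quotient.mk_surjective x
  rw [fI_mk, Prod.mk_eq_zero, Ideal.Quotient.eq_zero_iff_mem, Ideal.Quotient.eq_zero_iff_mem] at hx
  exact Ideal.Quotient.eq_zero_iff_mem.mpr ⟨hx.1, hx.2⟩

theorem gI_surjective : Function.Surjective (gI I J) := by
  intro x
  obtain ⟨a, rfl⟩ := Ideal.Quotient.mk_surjective x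
  refine ⟨(Ideal.Quotient.mk I a, Ideal.Quotient.mk J 0), ?_⟩
  rw [gI_mk, sub_zero]

theorem exact_fI_gI : Function.Exact (fI I J) (gI I J) := by
  intro z
  constructor
  · intro hz
    obtain ⟨x, y⟩ := z
    obtain ⟨a, rfl⟩ := Ideal.Quotient.mk_surjective x
    obtain ⟨b, rfl⟩ := Ideal.Quotient.mk_surjective y
    rw [gI_mk, Ideal.Quotient.eq_zero_iff_mem, Submodule.mem_sup] at hz
    obtain ⟨i, hi, j, hj, hij⟩ := hz
    refine ⟨Ideal.Quotient.mk (I ⊓ J) (a - i), ?_⟩
    rw [fI_mk, Prod.mk.injEq]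
    constructor
    · rw [Ideal.Quotient.eq]
      simpa using I.neg_mem hi
    · rw [Ideal.Quotient.eq]
      have : a - i - b = j := by linear_combination -hij
      rw [this]
      exact hj
  · rintro ⟨x, rfl⟩
    obtain ⟨a, rfl⟩ := Ideal.Quotient.mk_surjective x
    rw [fI_mk, gI_mk, sub_self, map_zero]

end Exact

section Main

/-- The `m`-depth of a Cohen–Macaulay quotient `A/L`, as an `A`-module. -/
theorem idealDepth_quotient_eq_height {A : Type v} [CommRing A] [IsNoetherianRing A]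
    (m L : Ideal A) (hcm : LocCoh.IsCohenMacaulayRing (A ⧸ L))
    (hne : m.map (Ideal.Quotient.mk L) ≠ ⊤) :
    LocCoh.idealDepth m (A ⧸ L) = (m.map (Ideal.Quotient.mk L)).height := by
  rw [idealDepth_restrictScalars_eq_idealDepth_map (B := A ⧸ L) m (A ⧸ L),
    Ideal.Quotient.algebraMap_eq]
  exact idealDepth_self_eq_height_of_isCohenMacaulayRing hcm _ hne

variable {K : Type u} [Field K] {A : Type v} [CommRing A] [Algebra K A] [IsNoetherianRing A]
  (𝒜 : ℕ → Submodule K A) [GradedAlgebra 𝒜]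

theorem ne_top_of_ringKrullDim_eq {L : Ideal A} {n : ℕ}
    (h : ringKrullDim (A ⧸ L) = (n : WithBot ℕ∞)) : L ≠ ⊤ := by
  rintro rfl
  have : Subsingleton (A ⧸ (⊤ : Ideal A)) := Ideal.Quotient.subsingleton_iff.mpr rfl
  rw [ringKrullDim_eq_bot_of_subsingleton] at h
  exact WithBot.bot_ne_natCast n h

/-- Two Cohen–Macaulay cones of dimension `e` meeting in a Cohen–Macaulay cone of dimension
`e - 1`: their union is Cohen–Macaulay of dimension `e` at the vertex. -/
theorem isCohenMacaulay_inf_at_vertex (h0 : ∀ a ∈ 𝒜 0, ∃ c : K, algebraMap K A c = a)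
    (I J : Ideal A) (hI : I.IsHomogeneous 𝒜) (hJ : J.IsHomogeneous 𝒜) (e : ℕ) (he : 1 ≤ e)
    (hIcm : LocCoh.IsCohenMacaulayRing (A ⧸ I)) (hJcm : LocCoh.IsCohenMacaulayRing (A ⧸ J))
    (hIJcm : LocCoh.IsCohenMacaulayRing (A ⧸ (I ⊔ J)))
    (hIdim : ringKrullDim (A ⧸ I) = (e : WithBot ℕ∞))
    (hJdim : ringKrullDim (A ⧸ J) = (e : WithBot ℕ∞))
    (hIJdim : ringKrullDim (A ⧸ (I ⊔ J)) = ((e - 1 : ℕ) : WithBot ℕ∞))
    [hm : ((HomogeneousIdeal.irrelevant 𝒜).toIdeal.map (Ideal.Quotient.mk (I ⊓ J))).IsPrime] :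
    LocCoh.IsCohenMacaulayLocalRing (Localization.AtPrime
        ((HomogeneousIdeal.irrelevant 𝒜).toIdeal.map (Ideal.Quotient.mk (I ⊓ J)))) ∧
      ringKrullDim (Localization.AtPrime
        ((HomogeneousIdeal.irrelevant 𝒜).toIdeal.map (Ideal.Quotient.mk (I ⊓ J)))) =
          (e : WithBot ℕ∞) := by
  have hIne : I ≠ ⊤ := ne_top_of_ringKrullDim_eq hIdim
  have hJne : J ≠ ⊤ := ne_top_of_ringKrullDim_eq hJdim
  have hIJne : I ⊔ J ≠ ⊤ := ne_top_of_ringKrullDim_eq hIJdim
  have hntA : Nontrivial A := by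
    by_contra hcon
    rw [not_nontrivial_iff_subsingleton] at hcon
    exact hIne (Subsingleton.elim _ _)
  have hmax := irrelevant_isMaximal 𝒜 h0
  set m := (HomogeneousIdeal.irrelevant 𝒜).toIdeal with hmdef
  have hIJhom : (I ⊔ J).IsHomogeneous 𝒜 := hI.sup hJ
  -- the vertices are proper ideals
  have hmapne : ∀ L : Ideal A, L.IsHomogeneous 𝒜 → L ≠ ⊤ →
      m.map (Ideal.Quotient.mk L) ≠ ⊤ := by
    intro L hL hLne
    have hLm : L ≤ m := le_irrelevant_of_isHomogeneous 𝒜 h0 hL hLne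
    exact (Ideal.IsMaximal.map_of_surjective_of_ker_le Ideal.Quotient.mk_surjective
      (by rwa [Ideal.mk_ker]) : (m.map (Ideal.Quotient.mk L)).IsMaximal).ne_top
  -- depths of the three Cohen–Macaulay cones
  have d1 : LocCoh.idealDepth m (A ⧸ I) = (e : ℕ∞) := by
    rw [idealDepth_quotient_eq_height m I hIcm (hmapne I hI hIne)]
    have := height_irrelevant_map_eq_ringKrullDim 𝒜 h0 I hI hIne hIcm
    rw [hIdim] at this
    exact_mod_cast this
  have d2 : LocCoh.idealDepth m (A ⧸ J) = (e : ℕ∞) := by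
    rw [idealDepth_quotient_eq_height m J hJcm (hmapne J hJ hJne)]
    have := height_irrelevant_map_eq_ringKrullDim 𝒜 h0 J hJ hJne hJcm
    rw [hJdim] at this
    exact_mod_cast this
  have d3 : LocCoh.idealDepth m (A ⧸ (I ⊔ J)) = ((e - 1 : ℕ) : ℕ∞) := by
    rw [idealDepth_quotient_eq_height m (I ⊔ J) hIJcm (hmapne _ hIJhom hIJne)]
    have := height_irrelevant_map_eq_ringKrullDim 𝒜 h0 (I ⊔ J) hIJhom hIJne hIJcm
    rw [hIJdim] at this
    exact WithBot.coe_injective this
  -- the product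
  have d4 : (e : ℕ∞) ≤ LocCoh.idealDepth m ((A ⧸ I) × (A ⧸ J)) := by
    have := min_idealDepth_le_mid m (LinearMap.inl A (A ⧸ I) (A ⧸ J))
      (LinearMap.snd A (A ⧸ I) (A ⧸ J)) LinearMap.inl_injective LinearMap.snd_surjective
      (by
        intro z
        constructor
        · intro hz
          exact ⟨z.1, Prod.ext rfl hz.symm⟩
        · rintro ⟨x, rfl⟩
          rfl)
    rwa [d1, d2, min_self] at this
  have d5 : (e : ℕ∞) ≤ LocCoh.idealDepth m (A ⧸ (I ⊓ J)) := by
    have := min_idealDepth_le_left m (fI I J) (gI I J) (fI_injective I J) (gI_surjective I J)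
      (exact_fI_gI I J)
    rw [d3] at this
    refine le_trans ?_ this
    rw [le_min_iff]
    refine ⟨d4, ?_⟩
    have : e - 1 + 1 = e := by omega
    exact_mod_cast this.ge
  -- localize at the vertex
  have d6 : (e : ℕ∞) ≤ LocCoh.depth
      (Localization.AtPrime (m.map (Ideal.Quotient.mk (I ⊓ J))))
      (Localization.AtPrime (m.map (Ideal.Quotient.mk (I ⊓ J)))) := by
    rw [idealDepth_restrictScalars_eq_idealDepth_map (B := A ⧸ (I ⊓ J)) m (A ⧸ (I ⊓ J)),
      Ideal.Quotient.algebraMap_eq] at d5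
    rw [← depth_localizedModule_self]
    exact d5.trans (idealDepth_le_depth_localization _ (A ⧸ (I ⊓ J)) le_rfl)
  -- dimension
  have hNB : IsNoetherianRing (Localization.AtPrime (m.map (Ideal.Quotient.mk (I ⊓ J)))) :=
    IsLocalization.isNoetherianRing (m.map (Ideal.Quotient.mk (I ⊓ J))).primeCompl _ inferInstance
  have d7 : ringKrullDim (Localization.AtPrime (m.map (Ideal.Quotient.mk (I ⊓ J)))) ≤
      (e : WithBot ℕ∞) := by
    rw [IsLocalization.AtPrime.ringKrullDim_eq_height (m.map (Ideal.Quotient.mk (I ⊓ J)))]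
    refine (Ideal.height_le_ringKrullDim_of_ne_top hm.ne_top).trans ?_
    refine (ringKrullDim_quotient_inf_le I J).trans ?_
    rw [hIdim, hJdim, max_self]
  have d8 := depth_le_supportDim
    (R := Localization.AtPrime (m.map (Ideal.Quotient.mk (I ⊓ J))))
    (M := Localization.AtPrime (m.map (Ideal.Quotient.mk (I ⊓ J))))
  rw [Module.supportDim_self_eq_ringKrullDim] at d8
  have d9 : LocCoh.depth (Localization.AtPrime (m.map (Ideal.Quotient.mk (I ⊓ J))))
      (Localization.AtPrime (m.map (Ideal.Quotient.mk (I ⊓ J)))) = (e : ℕ∞) := by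
    refine le_antisymm ?_ d6
    have := d8.trans d7
    exact_mod_cast this
  have d10 : ringKrullDim (Localization.AtPrime (m.map (Ideal.Quotient.mk (I ⊓ J)))) =
      (e : WithBot ℕ∞) := by
    refine le_antisymm d7 ?_
    rw [d9] at d8
    exact_mod_cast d8
  refine ⟨{ supportDim_eq_depth := ?_ }, d10⟩
  rw [Module.supportDim_self_eq_ringKrullDim, d10, d9]
  rfl

end Main

end Groth.Agent.Lib.Seat67.GrInter
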