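import Mathlib

set_option autoImplicit false
universe u

namespace Groth.Agent.Lib.Seat67.GrUnit

open DirectSum IsLocalRing
open scoped Classical

noncomputable section

set_option linter.unusedSectionVars false

variable {R : Type u} [CommRing R] (𝒜 : ℤ → AddSubgroup R) [GradedRing 𝒜]

/-- the `i`-th homogeneous component. -/
noncomputable def cp (x : R) (i : ℤ) : R := (decompose 𝒜 x i : R)

theorem cp_mem (x : R) (i : ℤ) : cp 𝒜 x i ∈ 𝒜 i := (decompose 𝒜 x i).2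

theorem cp_add (x y : R) (i : ℤ) : cp 𝒜 (x + y) i = cp 𝒜 x i + cp 𝒜 y i := by
  unfold cp
  rw [decompose_add, DirectSum.add_apply, AddSubgroup.coe_add]

theorem cp_zero (i : ℤ) : cp 𝒜 (0 : R) i = 0 := by
  unfold cp
  rw [decompose_zero, DirectSum.zero_apply, ZeroMemClass.coe_zero]

theorem cp_sub (x y : R) (i : ℤ) : cp 𝒜 (x - y) i = cp 𝒜 x i - cp 𝒜 y i := by
  unfold cp
  rw [decompose_sub, DirectSum.sub_apply, AddSubgroup.coe_sub]

theorem cp_of_mem_same {x : R} {i : ℤ} (hx : x ∈ 𝒜 i) : cp 𝒜 x i = x :=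
  decompose_of_mem_same 𝒜 hx

theorem cp_of_mem_ne {x : R} {i j : ℤ} (hx : x ∈ 𝒜 i) (hij : i ≠ j) : cp 𝒜 x j = 0 :=
  decompose_of_mem_ne 𝒜 hx hij

theorem cp_mul_left {a : R} {i : ℤ} (ha : a ∈ 𝒜 i) (b : R) (n : ℤ) :
    cp 𝒜 (a * b) n = a * cp 𝒜 b (n - i) := by
  have h := coe_decompose_mul_add_of_left_mem 𝒜 (i := i) (j := n - i) (b := b) ha
  rw [show i + (n - i) = n by ring] at h
  exact h

theorem cp_cp (x : R) (i j : ℤ) : cp 𝒜 (cp 𝒜 x i) j = if i = j then cp 𝒜 x i else 0 := by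
  split_ifs with h
  · subst h
    exact cp_of_mem_same 𝒜 (cp_mem 𝒜 x i)
  · exact cp_of_mem_ne 𝒜 (cp_mem 𝒜 x i) h

theorem sum_cp (x : R) : ∑ i ∈ (decompose 𝒜 x).support, cp 𝒜 x i = x :=
  DirectSum.sum_support_decompose 𝒜 x

theorem cp_eq_zero_of_notMem_support (x : R) (i : ℤ) (h : i ∉ (decompose 𝒜 x).support) :
    cp 𝒜 x i = 0 := by
  unfold cp
  rw [DFinsupp.notMem_support_iff.mp h, ZeroMemClass.coe_zero]

/-- components vanish outside a bounded range. -/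
theorem exists_bound (x : R) : ∃ B : ℕ, ∀ i : ℤ, (B : ℤ) < |i| → cp 𝒜 x i = 0 := by
  refine ⟨(decompose 𝒜 x).support.sup Int.natAbs, fun i hi => ?_⟩
  apply cp_eq_zero_of_notMem_support
  intro hmem
  have := Finset.le_sup (f := Int.natAbs) hmem
  have h2 : (i.natAbs : ℤ) = |i| := Int.natCast_natAbs i
  omega

section Unit

variable {𝒜} {N : ℤ} (u : Rˣ) (hu : (u : R) ∈ 𝒜 N)

include hu in
/-- the inverse of a homogeneous unit is homogeneous. -/
theorem inv_mem : ((u⁻¹ : Rˣ) : R) ∈ 𝒜 (-N) := by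
  have h1 : cp 𝒜 ((u : R) * ((u⁻¹ : Rˣ) : R)) 0 = (u : R) * cp 𝒜 ((u⁻¹ : Rˣ) : R) (0 - N) :=
    cp_mul_left 𝒜 hu _ 0
  rw [Units.mul_inv, cp_of_mem_same 𝒜 (SetLike.GradedOne.one_mem), zero_sub] at h1
  have h2 : ((u⁻¹ : Rˣ) : R) = cp 𝒜 ((u⁻¹ : Rˣ) : R) (-N) := by
    calc ((u⁻¹ : Rˣ) : R) = ((u⁻¹ : Rˣ) : R) * 1 := (mul_one _).symm
      _ = ((u⁻¹ : Rˣ) : R) * ((u : R) * cp 𝒜 ((u⁻¹ : Rˣ) : R) (-N)) := by rw [← h1]
      _ = cp 𝒜 ((u⁻¹ : Rˣ) : R) (-N) := by rw [← mul_assoc, Units.inv_mul, one_mul]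
  rw [h2]
  exact cp_mem 𝒜 _ _

include hu in
theorem zpow_mem (j : ℤ) : ((u ^ j : Rˣ) : R) ∈ 𝒜 (N * j) := by
  induction j using Int.induction_on with
  | zero =>
    rw [zpow_zero, mul_zero]
    exact SetLike.GradedOne.one_mem
  | succ n ih =>
    rw [zpow_add_one, Units.val_mul, mul_add, mul_one]
    exact SetLike.GradedMul.mul_mem ih hu
  | pred n ih =>
    rw [zpow_sub_one, Units.val_mul, mul_sub, mul_one, sub_eq_add_neg]
    exact SetLike.GradedMul.mul_mem ih (inv_mem u hu)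

end Unit

section IdealM

variable {𝒜} {N : ℤ} (u : Rˣ) (hu : (u : R) ∈ 𝒜 N)

theorem mem_zero_of_mul {a b : R} {i j : ℤ} (ha : a ∈ 𝒜 i) (hb : b ∈ 𝒜 j) (hij : i + j = 0) :
    a * b ∈ 𝒜 0 := hij ▸ SetLike.GradedMul.mul_mem ha hb

theorem mem_of_mul_eq {a b : R} {i j k : ℤ} (ha : a ∈ 𝒜 i) (hb : b ∈ 𝒜 j) (hij : i + j = k) :
    a * b ∈ 𝒜 k := hij ▸ SetLike.GradedMul.mul_mem ha hb

theorem zpow_mul_zpow (a b : ℤ) : ((u ^ a : Rˣ) : R) * ((u ^ b : Rˣ) : R) = ((u ^ (a + b) : Rˣ) : R) := by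
  rw [← Units.val_mul, ← zpow_add]

theorem zpow_neg_mul_zpow (a : ℤ) : ((u ^ (-a) : Rˣ) : R) * ((u ^ a : Rˣ) : R) = 1 := by
  rw [zpow_mul_zpow, neg_add_cancel, zpow_zero, Units.val_one]

theorem zpow_mul_zpow_neg (a : ℤ) : ((u ^ a : Rˣ) : R) * ((u ^ (-a) : Rˣ) : R) = 1 := by
  rw [zpow_mul_zpow, add_neg_cancel, zpow_zero, Units.val_one]

/-- `x_{Nj} u^{-j}` as an element of `R₀`. -/
def Z0 (j : ℤ) (x : R) : SetLike.GradeZero.subring 𝒜 :=
  ⟨cp 𝒜 x (N * j) * ((u ^ (-j) : Rˣ) : R),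
    mem_zero_of_mul (cp_mem 𝒜 x _) (zpow_mem u hu (-j)) (by ring)⟩

theorem coe_Z0 (j : ℤ) (x : R) : (Z0 u hu j x : R) = cp 𝒜 x (N * j) * ((u ^ (-j) : Rˣ) : R) := rfl

theorem Z0_mul_zpow (j : ℤ) (x : R) : (Z0 u hu j x : R) * ((u ^ j : Rˣ) : R) = cp 𝒜 x (N * j) := by
  rw [coe_Z0, mul_assoc, zpow_neg_mul_zpow, mul_one]

theorem Z0_add (j : ℤ) (x y : R) : Z0 u hu j (x + y) = Z0 u hu j x + Z0 u hu j y := by
  apply Subtype.ext
  change cp 𝒜 (x + y) (N * j) * _ = cp 𝒜 x (N * j) * _ + cp 𝒜 y (N * j) * _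
  rw [cp_add, add_mul]

theorem Z0_sub (j : ℤ) (x y : R) : Z0 u hu j (x - y) = Z0 u hu j x - Z0 u hu j y := by
  apply Subtype.ext
  change cp 𝒜 (x - y) (N * j) * _ = cp 𝒜 x (N * j) * _ - cp 𝒜 y (N * j) * _
  rw [cp_sub, sub_mul]

theorem Z0_zero (j : ℤ) : Z0 u hu j (0 : R) = 0 := by
  apply Subtype.ext
  change cp 𝒜 (0 : R) (N * j) * _ = 0
  rw [cp_zero, zero_mul]

theorem Z0_eq_zero_of_cp {j : ℤ} {x : R} (h : cp 𝒜 x (N * j) = 0) : Z0 u hu j x = 0 := by
  apply Subtype.ext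
  change cp 𝒜 x (N * j) * _ = 0
  rw [h, zero_mul]

variable [IsLocalRing (SetLike.GradeZero.subring 𝒜)]

/-- the hypothesis: products of complementary positive degrees land in `𝔪 t`. -/
def HM : Prop :=
  ∀ (i j : ℤ), 0 < i → 0 < j → i + j = N → ∀ a ∈ 𝒜 i, ∀ b ∈ 𝒜 j,
    ∃ c : SetLike.GradeZero.subring 𝒜, c ∈ maximalIdeal (SetLike.GradeZero.subring 𝒜) ∧
      a * b = (c : R) * (u : R)

variable (hN : 0 < N)

include hN hu in
/-- key lemma: products of homogeneous elements of degrees not divisible by `N` with total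
degree `N l` lie in `𝔪 u^l`. -/
theorem exists_mul_eq (hm : HM (𝒜 := 𝒜) (N := N) u) {a b : R} {i k l : ℤ} (ha : a ∈ 𝒜 i)
    (hb : b ∈ 𝒜 k) (hi : ¬ N ∣ i) (hik : i + k = N * l) :
    ∃ c : SetLike.GradeZero.subring 𝒜, c ∈ maximalIdeal (SetLike.GradeZero.subring 𝒜) ∧
      a * b = (c : R) * ((u ^ l : Rˣ) : R) := by
  have h1 : N * (i / N) + i % N = i := Int.mul_ediv_add_emod i N
  have h2 : 0 ≤ i % N := Int.emod_nonneg i hN.ne'
  have h3 : i % N < N := Int.emod_lt_of_pos i hN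
  have h4 : i % N ≠ 0 := fun h => hi (Int.dvd_of_emod_eq_zero h)
  set q := i / N with hq
  set i' := i % N with hi'
  have ha' : a * ((u ^ (-q) : Rˣ) : R) ∈ 𝒜 i' :=
    mem_of_mul_eq ha (zpow_mem u hu (-q)) (by rw [← h1]; ring)
  have hb' : b * ((u ^ (-(l - q - 1)) : Rˣ) : R) ∈ 𝒜 (N - i') :=
    mem_of_mul_eq hb (zpow_mem u hu (-(l - q - 1))) (by
      have : k = N * l - i := by linarith
      rw [this, ← h1]; ring)
  obtain ⟨c, hc, hcab⟩ := hm i' (N - i') (lt_of_le_of_ne h2 (Ne.symm h4)) (by linarith) (by ring)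
    _ ha' _ hb'
  refine ⟨c, hc, ?_⟩
  have e1 : a = a * ((u ^ (-q) : Rˣ) : R) * ((u ^ q : Rˣ) : R) := by
    rw [mul_assoc, zpow_neg_mul_zpow, mul_one]
  have e2 : b = b * ((u ^ (-(l - q - 1)) : Rˣ) : R) * ((u ^ (l - q - 1) : Rˣ) : R) := by
    rw [mul_assoc, zpow_neg_mul_zpow, mul_one]
  calc a * b = (a * ((u ^ (-q) : Rˣ) : R) * (b * ((u ^ (-(l - q - 1)) : Rˣ) : R))) *
        (((u ^ q : Rˣ) : R) * ((u ^ (l - q - 1) : Rˣ) : R)) := by
        conv_lhs => rw [e1, e2]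
        ring
    _ = (c : R) * (u : R) * ((u ^ (l - 1) : Rˣ) : R) := by
        rw [hcab, zpow_mul_zpow]
        congr 3
        ring
    _ = (c : R) * ((u ^ l : Rˣ) : R) := by
        rw [mul_assoc]
        congr 1
        have : (u : R) = ((u ^ (1 : ℤ) : Rˣ) : R) := by rw [zpow_one]
        rw [this, zpow_mul_zpow]
        congr 3
        ring

include hN in
/-- homogeneous scalars preserve the defining condition of `M`. -/
theorem Z0_mul_mem_of_homogeneous (hm : HM (𝒜 := 𝒜) (N := N) u) {r : R} {i : ℤ} (hr : r ∈ 𝒜 i)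
    {x : R} (hx : ∀ j : ℤ, Z0 u hu j x ∈ maximalIdeal (SetLike.GradeZero.subring 𝒜)) (j : ℤ) :
    Z0 u hu j (r * x) ∈ maximalIdeal (SetLike.GradeZero.subring 𝒜) := by
  by_cases hdiv : N ∣ i
  · obtain ⟨l, rfl⟩ := hdiv
    have hr0 : r * ((u ^ (-l) : Rˣ) : R) ∈ 𝒜 0 :=
      mem_zero_of_mul hr (zpow_mem u hu (-l)) (by ring)
    have : Z0 u hu j (r * x) = ⟨r * ((u ^ (-l) : Rˣ) : R), hr0⟩ * Z0 u hu (j - l) x := by
      apply Subtype.ext
      change cp 𝒜 (r * x) (N * j) * _ = (r * ((u ^ (-l) : Rˣ) : R)) *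
        (cp 𝒜 x (N * (j - l)) * ((u ^ (-(j - l)) : Rˣ) : R))
      rw [cp_mul_left 𝒜 hr, show N * j - N * l = N * (j - l) by ring]
      have : ((u ^ (-j) : Rˣ) : R) = ((u ^ (-l) : Rˣ) : R) * ((u ^ (-(j - l)) : Rˣ) : R) := by
        rw [zpow_mul_zpow]
        congr 3
        ring
      rw [this]
      ring
    rw [this]
    exact Ideal.mul_mem_left _ _ (hx _)
  · obtain ⟨c, hc, hcab⟩ := exists_mul_eq u hu hN hm hr (cp_mem 𝒜 x (N * j - i)) hdiv
      (l := j) (by ring)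
    have : Z0 u hu j (r * x) = c := by
      apply Subtype.ext
      change cp 𝒜 (r * x) (N * j) * _ = (c : R)
      rw [cp_mul_left 𝒜 hr, hcab, mul_assoc, zpow_mul_zpow_neg, mul_one]
    rw [this]
    exact hc

include hN in
/-- the largest homogeneous ideal `𝔐`. -/
def M (hm : HM (𝒜 := 𝒜) (N := N) u) : Ideal R where
  carrier := {x | ∀ j : ℤ, Z0 u hu j x ∈ maximalIdeal (SetLike.GradeZero.subring 𝒜)}
  add_mem' := by
    intro x y hx hy j
    rw [Z0_add]
    exact Ideal.add_mem _ (hx j) (hy j)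
  zero_mem' := by
    intro j
    rw [Z0_zero]
    exact Ideal.zero_mem _
  smul_mem' := by
    intro r x hx
    change ∀ j : ℤ, Z0 u hu j (r * x) ∈ maximalIdeal (SetLike.GradeZero.subring 𝒜)
    induction r using DirectSum.Decomposition.inductionOn 𝒜 with
    | zero =>
      intro j
      rw [zero_mul, Z0_zero]
      exact Ideal.zero_mem _
    | homogeneous r =>
      exact Z0_mul_mem_of_homogeneous u hu hN hm r.2 hx
    | add a b ha hb =>
      intro j
      rw [add_mul, Z0_add]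
      exact Ideal.add_mem _ (ha j) (hb j)

theorem mem_M (hm : HM (𝒜 := 𝒜) (N := N) u) (x : R) :
    x ∈ M u hu hN hm ↔ ∀ j : ℤ, Z0 u hu j x ∈ maximalIdeal (SetLike.GradeZero.subring 𝒜) :=
  Iff.rfl

variable (hm : HM (𝒜 := 𝒜) (N := N) u)

theorem mem_M_of_mem_not_dvd {x : R} {i : ℤ} (hx : x ∈ 𝒜 i) (hi : ¬ N ∣ i) :
    x ∈ M u hu hN hm := by
  intro j
  rw [Z0_eq_zero_of_cp u hu (cp_of_mem_ne 𝒜 hx (by
    rintro rfl
    exact hi (dvd_mul_right N j)))]
  exact Ideal.zero_mem _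

theorem Z0_coe_zero (c : SetLike.GradeZero.subring 𝒜) : Z0 u hu 0 (c : R) = c := by
  apply Subtype.ext
  change cp 𝒜 (c : R) (N * 0) * _ = (c : R)
  rw [mul_zero, cp_of_mem_same 𝒜 c.2, neg_zero, zpow_zero, Units.val_one, mul_one]

include hN in
theorem Z0_coe_ne (c : SetLike.GradeZero.subring 𝒜) {j : ℤ} (hj : j ≠ 0) :
    Z0 u hu j (c : R) = 0 := by
  apply Z0_eq_zero_of_cp
  apply cp_of_mem_ne 𝒜 c.2
  intro h
  rcases mul_eq_zero.mp h.symm with h | h
  · exact hN.ne' h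
  · exact hj h

theorem coe_mem_M_iff (c : SetLike.GradeZero.subring 𝒜) :
    (c : R) ∈ M u hu hN hm ↔ c ∈ maximalIdeal (SetLike.GradeZero.subring 𝒜) := by
  constructor
  · intro h
    have := h 0
    rwa [Z0_coe_zero] at this
  · intro h j
    by_cases hj : j = 0
    · subst hj
      rwa [Z0_coe_zero]
    · rw [Z0_coe_ne u hu hN c hj]
      exact Ideal.zero_mem _

theorem one_notMem_M : (1 : R) ∉ M u hu hN hm := by
  intro h
  have h1 : ((1 : SetLike.GradeZero.subring 𝒜) : R) ∈ M u hu hN hm := h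
  rw [coe_mem_M_iff] at h1
  exact (Ideal.ne_top_iff_one _).mp (IsLocalRing.maximalIdeal.isMaximal _).ne_top h1

theorem not_isUnit_of_mem_M {x : R} (hx : x ∈ M u hu hN hm) : ¬ IsUnit x := by
  intro hxu
  obtain ⟨v, rfl⟩ := hxu
  have : (1 : R) ∈ M u hu hN hm := by
    rw [← Units.inv_mul v]
    exact Ideal.mul_mem_left _ _ hx
  exact one_notMem_M u hu hN hm this

theorem cp_mem_M {x : R} (hx : x ∈ M u hu hN hm) (i : ℤ) : cp 𝒜 x i ∈ M u hu hN hm := by
  intro j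
  by_cases hij : i = N * j
  · have : Z0 u hu j (cp 𝒜 x i) = Z0 u hu j x := by
      apply Subtype.ext
      change cp 𝒜 (cp 𝒜 x i) (N * j) * _ = cp 𝒜 x (N * j) * _
      rw [cp_cp, if_pos hij, hij]
    rw [this]
    exact hx j
  · rw [Z0_eq_zero_of_cp u hu (by rw [cp_cp, if_neg hij])]
    exact Ideal.zero_mem _

theorem Z0_sub_one_mul (j : ℤ) (x : R) :
    Z0 u hu j (((u : R) - 1) * x) = Z0 u hu (j - 1) x - Z0 u hu j x := by
  apply Subtype.ext
  change cp 𝒜 (((u : R) - 1) * x) (N * j) * _ =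
    cp 𝒜 x (N * (j - 1)) * ((u ^ (-(j - 1)) : Rˣ) : R) - cp 𝒜 x (N * j) * ((u ^ (-j) : Rˣ) : R)
  rw [sub_mul, one_mul, cp_sub, cp_mul_left 𝒜 hu, show N * j - N = N * (j - 1) by ring, sub_mul]
  congr 1
  have : ((u ^ (-(j - 1)) : Rˣ) : R) = (u : R) * ((u ^ (-j) : Rˣ) : R) := by
    have h1 : (u : R) * ((u ^ (-j) : Rˣ) : R) = ((u ^ (1 + -j) : Rˣ) : R) := by
      conv_lhs => rw [show (u : R) = ((u ^ (1 : ℤ) : Rˣ) : R) by rw [zpow_one]]
      exact zpow_mul_zpow u 1 (-j)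
    rw [h1]
    congr 3
    ring
  rw [this]
  ring

include hN in
/-- `Z0 j x` vanishes for `|j|` large. -/
theorem exists_bound_Z0 (x : R) : ∃ B : ℕ, ∀ j : ℤ, (B : ℤ) < |j| → Z0 u hu j x = 0 := by
  obtain ⟨B, hB⟩ := exists_bound 𝒜 x
  refine ⟨B, fun j hj => Z0_eq_zero_of_cp u hu (hB _ ?_)⟩
  rw [abs_mul]
  have h1 : (1 : ℤ) ≤ |N| := by rw [abs_of_pos hN]; omega
  have h2 : (0 : ℤ) ≤ |j| := abs_nonneg j
  nlinarith

/-- `u - 1` is a nonzerodivisor modulo `𝔐`. -/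
theorem mem_M_of_sub_one_mul_mem {x : R} (h : ((u : R) - 1) * x ∈ M u hu hN hm) :
    x ∈ M u hu hN hm := by
  have hd : ∀ j : ℤ, Z0 u hu (j - 1) x - Z0 u hu j x ∈
      maximalIdeal (SetLike.GradeZero.subring 𝒜) := by
    intro j
    rw [← Z0_sub_one_mul]
    exact h j
  obtain ⟨B, hB⟩ := exists_bound_Z0 u hu hN x
  intro j
  by_cases hj : j < -(B : ℤ) - 1
  · rw [hB j (by rw [abs_of_neg (by omega)]; omega)]
    exact Ideal.zero_mem _
  · push Not at hj
    refine Int.leInduction (m := -(B : ℤ) - 1)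
      (motive := fun n _ => Z0 u hu n x ∈ maximalIdeal (SetLike.GradeZero.subring 𝒜)) ?_ ?_ j hj
    · rw [hB _ (by rw [abs_of_neg (by omega)]; omega)]
      exact Ideal.zero_mem _
    · intro n _ ih
      have := hd (n + 1)
      rw [add_sub_cancel_right] at this
      have h2 : Z0 u hu (n + 1) x = Z0 u hu n x - (Z0 u hu n x - Z0 u hu (n + 1) x) := by ring
      rw [h2]
      exact Ideal.sub_mem _ ih this

/-- the maximal ideal `𝔑 = 𝔐 + (u - 1)`. -/
def NN : Ideal R := M u hu hN hm ⊔ Ideal.span {(u : R) - 1}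

/-- `𝔑 ∩ R₀ = 𝔪`. -/
theorem coe_mem_NN_iff (c : SetLike.GradeZero.subring 𝒜) :
    (c : R) ∈ NN u hu hN hm ↔ c ∈ maximalIdeal (SetLike.GradeZero.subring 𝒜) := by
  constructor
  · intro h
    obtain ⟨μ, hμ, y, hy, hsum⟩ := Submodule.mem_sup.mp h
    obtain ⟨r, rfl⟩ := Ideal.mem_span_singleton'.mp hy
    have hc : ∀ j : ℤ, Z0 u hu j (c : R) - (Z0 u hu (j - 1) r - Z0 u hu j r) ∈
        maximalIdeal (SetLike.GradeZero.subring 𝒜) := by
      intro j
      rw [← Z0_sub_one_mul, ← Z0_sub]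
      have : (c : R) - ((u : R) - 1) * r = μ := by rw [← hsum]; ring
      rw [this]
      exact hμ j
    have hd : ∀ j : ℤ, j ≠ 0 → Z0 u hu (j - 1) r - Z0 u hu j r ∈
        maximalIdeal (SetLike.GradeZero.subring 𝒜) := by
      intro j hj
      have := hc j
      rw [Z0_coe_ne u hu hN c hj, zero_sub] at this
      exact (Ideal.neg_mem_iff _).mp this
    obtain ⟨B, hB⟩ := exists_bound_Z0 u hu hN r
    -- negative indices
    have hneg : Z0 u hu (-1) r ∈ maximalIdeal (SetLike.GradeZero.subring 𝒜) := by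
      have key : ∀ n : ℤ, -(B : ℤ) - 1 ≤ n → n ≤ -1 →
          Z0 u hu n r ∈ maximalIdeal (SetLike.GradeZero.subring 𝒜) := by
        intro n hn
        refine Int.leInduction (m := -(B : ℤ) - 1)
          (motive := fun n _ => n ≤ -1 → Z0 u hu n r ∈
            maximalIdeal (SetLike.GradeZero.subring 𝒜)) ?_ ?_ n hn
        · intro _
          rw [hB _ (by rw [abs_of_neg (by omega)]; omega)]
          exact Ideal.zero_mem _
        · intro n _ ih hn1
          have h1 := ih (by omega)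
          have h2 := hd (n + 1) (by omega)
          rw [add_sub_cancel_right] at h2
          have h3 : Z0 u hu (n + 1) r = Z0 u hu n r - (Z0 u hu n r - Z0 u hu (n + 1) r) := by ring
          rw [h3]
          exact Ideal.sub_mem _ h1 h2
      exact key (-1) (by omega) le_rfl
    -- nonnegative indices
    have hpos : Z0 u hu 0 r ∈ maximalIdeal (SetLike.GradeZero.subring 𝒜) := by
      have key : ∀ n : ℤ, n ≤ (B : ℤ) + 1 → 0 ≤ n →
          Z0 u hu n r ∈ maximalIdeal (SetLike.GradeZero.subring 𝒜) := by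
        intro n hn
        refine Int.leInductionDown (m := (B : ℤ) + 1)
          (motive := fun n _ => 0 ≤ n → Z0 u hu n r ∈
            maximalIdeal (SetLike.GradeZero.subring 𝒜)) ?_ ?_ n hn
        · intro _
          rw [hB _ (by rw [abs_of_pos (by omega)]; omega)]
          exact Ideal.zero_mem _
        · intro n _ ih hn1
          have h1 := ih (by omega)
          have h2 := hd n (by omega)
          have h3 : Z0 u hu (n - 1) r = Z0 u hu n r + (Z0 u hu (n - 1) r - Z0 u hu n r) := by ring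
          rw [h3]
          exact Ideal.add_mem _ h1 h2
      exact key 0 (by omega) le_rfl
    have h0 := hc 0
    rw [Z0_coe_zero, zero_sub] at h0
    have : c = (c - (Z0 u hu (-1) r - Z0 u hu 0 r)) + (Z0 u hu (-1) r - Z0 u hu 0 r) := by ring
    rw [this]
    exact Ideal.add_mem _ h0 (Ideal.sub_mem _ hneg hpos)
  · intro h
    exact Ideal.mem_sup_left ((coe_mem_M_iff u hu hN hm c).mpr h)

theorem NN_ne_top : NN u hu hN hm ≠ ⊤ := by
  intro h
  have h1 : ((1 : SetLike.GradeZero.subring 𝒜) : R) ∈ NN u hu hN hm := by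
    rw [h]; trivial
  rw [coe_mem_NN_iff] at h1
  exact (Ideal.ne_top_iff_one _).mp (IsLocalRing.maximalIdeal.isMaximal _).ne_top h1

theorem sub_one_mem_NN : (u : R) - 1 ∈ NN u hu hN hm :=
  Ideal.mem_sup_right (Ideal.mem_span_singleton_self _)

theorem zpow_sub_one_mem (j : ℤ) : ((u ^ j : Rˣ) : R) - 1 ∈ Ideal.span {(u : R) - 1} := by
  induction j using Int.induction_on with
  | zero => simp
  | succ n ih =>
    rw [zpow_add_one, Units.val_mul]
    have : ((u ^ (n : ℤ) : Rˣ) : R) * (u : R) - 1 =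
        (((u ^ (n : ℤ) : Rˣ) : R) - 1) * (u : R) + ((u : R) - 1) := by ring
    rw [this]
    exact Ideal.add_mem _ (Ideal.mul_mem_right _ _ ih) (Ideal.mem_span_singleton_self _)
  | pred n ih =>
    rw [zpow_sub_one, Units.val_mul]
    have : ((u ^ (-(n : ℤ)) : Rˣ) : R) * ((u⁻¹ : Rˣ) : R) - 1 =
        (((u ^ (-(n : ℤ)) : Rˣ) : R) - 1) * ((u⁻¹ : Rˣ) : R) -
          ((u⁻¹ : Rˣ) : R) * ((u : R) - 1) := by
      have : ((u⁻¹ : Rˣ) : R) * (u : R) = 1 := Units.inv_mul u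
      linear_combination this
    rw [this]
    exact Ideal.sub_mem _ (Ideal.mul_mem_right _ _ ih)
      (Ideal.mul_mem_left _ _ (Ideal.mem_span_singleton_self _))

/-- every element is congruent to an element of `R₀` modulo `𝔑`. -/
theorem exists_sub_mem_NN (x : R) :
    ∃ c : SetLike.GradeZero.subring 𝒜, x - (c : R) ∈ NN u hu hN hm := by
  induction x using DirectSum.Decomposition.inductionOn 𝒜 with
  | zero => exact ⟨0, by simp⟩
  | @homogeneous i x =>
    by_cases hdiv : N ∣ i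
    · obtain ⟨j, rfl⟩ := hdiv
      have hc : (x : R) * ((u ^ (-j) : Rˣ) : R) ∈ 𝒜 0 :=
        mem_zero_of_mul x.2 (zpow_mem u hu (-j)) (by ring)
      refine ⟨⟨_, hc⟩, ?_⟩
      have : (x : R) - (x : R) * ((u ^ (-j) : Rˣ) : R) =
          (x : R) * ((u ^ (-j) : Rˣ) : R) * (((u ^ j : Rˣ) : R) - 1) := by
        rw [mul_sub, mul_assoc, zpow_neg_mul_zpow]
        ring
      change (x : R) - (x : R) * ((u ^ (-j) : Rˣ) : R) ∈ _
      rw [this]
      exact Ideal.mem_sup_right (Ideal.mul_mem_left _ _ (zpow_sub_one_mem u j))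
    · refine ⟨0, ?_⟩
      rw [ZeroMemClass.coe_zero, sub_zero]
      exact Ideal.mem_sup_left (mem_M_of_mem_not_dvd u hu hN hm x.2 hdiv)
  | add a b ha hb =>
    obtain ⟨c1, h1⟩ := ha
    obtain ⟨c2, h2⟩ := hb
    refine ⟨c1 + c2, ?_⟩
    have : a + b - ((c1 + c2 : SetLike.GradeZero.subring 𝒜) : R) =
        (a - (c1 : R)) + (b - (c2 : R)) := by
      push_cast
      ring
    rw [this]
    exact Ideal.add_mem _ h1 h2

section Quot

/-- the image of a unit power in `R/(u-1)` is `1`. -/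
theorem mk_zpow (j : ℤ) :
    Ideal.Quotient.mk (Ideal.span {(u : R) - 1}) ((u ^ j : Rˣ) : R) = 1 := by
  have := zpow_sub_one_mem u j
  rw [← Ideal.Quotient.eq_zero_iff_mem, map_sub, map_one, sub_eq_zero] at this
  exact this

include hN hu in
/-- a power of a homogeneous element is, modulo `u - 1`, in `R₀`. -/
theorem exists_pow_eq {y : R} {i : ℤ} (hy : y ∈ 𝒜 i) :
    ∃ c : SetLike.GradeZero.subring 𝒜, y ^ N.toNat = (c : R) * ((u ^ i : Rˣ) : R) := by
  have hn : ((N.toNat : ℕ) : ℤ) = N := Int.toNat_of_nonneg hN.le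
  have h1 : y ^ N.toNat ∈ 𝒜 (N * i) := by
    have := SetLike.pow_mem_graded N.toNat hy
    rw [nsmul_eq_mul, hn] at this
    exact this
  have hc : y ^ N.toNat * ((u ^ (-i) : Rˣ) : R) ∈ 𝒜 0 :=
    mem_zero_of_mul h1 (zpow_mem u hu (-i)) (by ring)
  refine ⟨⟨_, hc⟩, ?_⟩
  change y ^ N.toNat = y ^ N.toNat * ((u ^ (-i) : Rˣ) : R) * ((u ^ i : Rˣ) : R)
  rw [mul_assoc, zpow_neg_mul_zpow, mul_one]

include hN hu in
theorem isIntegral_quot :
    Algebra.IsIntegral (SetLike.GradeZero.subring 𝒜) (R ⧸ Ideal.span {(u : R) - 1}) := by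
  refine ⟨fun z => ?_⟩
  obtain ⟨x, rfl⟩ := Ideal.Quotient.mk_surjective z
  induction x using DirectSum.Decomposition.inductionOn 𝒜 with
  | zero =>
    rw [map_zero]
    exact isIntegral_zero
  | @homogeneous i y =>
    obtain ⟨c, hc⟩ := exists_pow_eq u hu hN y.2
    have hpos : 0 < N.toNat := by
      have : ((N.toNat : ℕ) : ℤ) = N := Int.toNat_of_nonneg hN.le
      omega
    refine IsIntegral.of_pow hpos ?_
    rw [← map_pow, hc, map_mul, mk_zpow, mul_one]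
    exact isIntegral_algebraMap (x := c)
  | add a b ha hb =>
    rw [map_add]
    exact IsIntegral.add ha hb

/-- every maximal ideal of `R/(u-1)` pulls back to `𝔑`. -/
theorem comap_eq_NN (𝔮 : Ideal (R ⧸ Ideal.span {(u : R) - 1})) [h𝔮 : 𝔮.IsMaximal] :
    𝔮.comap (Ideal.Quotient.mk (Ideal.span {(u : R) - 1})) = NN u hu hN hm := by
  have hint := isIntegral_quot u hu hN
  have hmax : (𝔮.comap (algebraMap (SetLike.GradeZero.subring 𝒜)
      (R ⧸ Ideal.span {(u : R) - 1}))).IsMaximal :=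
    Ideal.isMaximal_comap_of_isIntegral_of_isMaximal 𝔮
  have hm0 : 𝔮.comap (algebraMap (SetLike.GradeZero.subring 𝒜)
      (R ⧸ Ideal.span {(u : R) - 1})) = maximalIdeal (SetLike.GradeZero.subring 𝒜) :=
    IsLocalRing.eq_maximalIdeal hmax
  have hc_iff : ∀ c : SetLike.GradeZero.subring 𝒜,
      (c : R) ∈ 𝔮.comap (Ideal.Quotient.mk (Ideal.span {(u : R) - 1})) ↔
        c ∈ maximalIdeal (SetLike.GradeZero.subring 𝒜) := by
    intro c
    rw [← hm0]
    rfl
  have hprime : (𝔮.comap (Ideal.Quotient.mk (Ideal.span {(u : R) - 1}))).IsPrime :=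
    Ideal.comap_isPrime _ _
  have hu1 : (u : R) - 1 ∈ 𝔮.comap (Ideal.Quotient.mk (Ideal.span {(u : R) - 1})) := by
    rw [Ideal.mem_comap, Ideal.Quotient.eq_zero_iff_mem.mpr (Ideal.mem_span_singleton_self _)]
    exact Ideal.zero_mem _
  have hspan : Ideal.span {(u : R) - 1} ≤
      𝔮.comap (Ideal.Quotient.mk (Ideal.span {(u : R) - 1})) := by
    rw [Ideal.span_le, Set.singleton_subset_iff]
    exact hu1
  -- homogeneous elements of `M` lie in the comap
  have hhom : ∀ (i : ℤ) (y : R), y ∈ 𝒜 i → y ∈ M u hu hN hm →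
      y ∈ 𝔮.comap (Ideal.Quotient.mk (Ideal.span {(u : R) - 1})) := by
    intro i y hy hyM
    obtain ⟨c, hc⟩ := exists_pow_eq u hu hN hy
    have hcm : c ∈ maximalIdeal (SetLike.GradeZero.subring 𝒜) := by
      by_contra hcn
      have hcu : IsUnit c := by
        by_contra h
        exact hcn ((IsLocalRing.mem_maximalIdeal c).mpr h)
      have hcu' : IsUnit (c : R) := hcu.map (SetLike.GradeZero.subring 𝒜).subtype
      have : IsUnit (y ^ N.toNat) := by
        rw [hc]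
        exact hcu'.mul (Units.isUnit _)
      have hpos : N.toNat ≠ 0 := by
        have : ((N.toNat : ℕ) : ℤ) = N := Int.toNat_of_nonneg hN.le
        omega
      exact not_isUnit_of_mem_M u hu hN hm hyM ((isUnit_pow_iff hpos).mp this)
    have h1 : y ^ N.toNat ∈ 𝔮.comap (Ideal.Quotient.mk (Ideal.span {(u : R) - 1})) := by
      rw [hc]
      exact Ideal.mul_mem_right _ _ ((hc_iff c).mpr hcm)
    exact hprime.mem_of_pow_mem _ h1
  have hM : M u hu hN hm ≤ 𝔮.comap (Ideal.Quotient.mk (Ideal.span {(u : R) - 1})) := by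
    intro x hx
    rw [← sum_cp 𝒜 x]
    exact Ideal.sum_mem _ fun i _ => hhom i _ (cp_mem 𝒜 x i) (cp_mem_M u hu hN hm hx i)
  have hNN : NN u hu hN hm ≤ 𝔮.comap (Ideal.Quotient.mk (Ideal.span {(u : R) - 1})) :=
    sup_le hM hspan
  apply le_antisymm _ hNN
  intro x hx
  obtain ⟨c, hc⟩ := exists_sub_mem_NN u hu hN hm x
  have h1 : (c : R) ∈ 𝔮.comap (Ideal.Quotient.mk (Ideal.span {(u : R) - 1})) := by
    have : (c : R) = x - (x - (c : R)) := by ring
    rw [this]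
    exact Ideal.sub_mem _ hx (hNN hc)
  have h2 : (c : R) ∈ NN u hu hN hm := (coe_mem_NN_iff u hu hN hm c).mpr ((hc_iff c).mp h1)
  have : x = (x - (c : R)) + (c : R) := by ring
  rw [this]
  exact Ideal.add_mem _ hc h2

include hu hN hm in
theorem isLocalRing_quot : IsLocalRing (R ⧸ Ideal.span {(u : R) - 1}) := by
  have hne : Ideal.span {(u : R) - 1} ≠ ⊤ := by
    intro h
    have : Ideal.span {(u : R) - 1} ≤ NN u hu hN hm := le_sup_right
    rw [h] at this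
    exact NN_ne_top u hu hN hm (top_le_iff.mp this)
  have : Nontrivial (R ⧸ Ideal.span {(u : R) - 1}) := Ideal.Quotient.nontrivial_iff.mpr hne
  obtain ⟨𝔮, h𝔮⟩ := Ideal.exists_maximal (R ⧸ Ideal.span {(u : R) - 1})
  refine IsLocalRing.of_unique_max_ideal ⟨𝔮, h𝔮, fun 𝔮' h𝔮' => ?_⟩
  have h1 := comap_eq_NN u hu hN hm 𝔮
  have h2 := @comap_eq_NN _ _ _ _ _ u hu _ hN hm 𝔮' h𝔮'
  exact Ideal.comap_injective_of_surjective _ Ideal.Quotient.mk_surjective (h2.trans h1.symm)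

end Quot

end IdealM

end

end Groth.Agent.Lib.Seat67.GrUnit
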