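import Mathlib
import Groth.Agent.Lib.Seat67GrUnit

set_option autoImplicit false
universe u

namespace Groth.Agent.Lib.Seat67.GrLaurent

open DirectSum Polynomial
open scoped Classical LaurentPolynomial

noncomputable section

set_option linter.unusedSectionVars false

section Twist

variable {R : Type u} [CommRing R] (𝒜 : ℤ → AddSubgroup R) [GradedRing 𝒜]
  {B : Type u} [CommRing B] (φ : R →+* B) (v : Bˣ)

/-- the additive map `x ↦ ∑ φ(x_i) v^i`. -/
def twistAdd : R →+ B :=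
  (DirectSum.toAddMonoid (fun i : ℤ => (AddMonoidHom.mulRight ((v ^ i : Bˣ) : B)).comp
      (φ.toAddMonoidHom.comp (𝒜 i).subtype))).comp
    (DirectSum.decomposeAddEquiv 𝒜).toAddMonoidHom

theorem twistAdd_of_mem {x : R} {i : ℤ} (hx : x ∈ 𝒜 i) :
    twistAdd 𝒜 φ v x = φ x * ((v ^ i : Bˣ) : B) := by
  unfold twistAdd
  simp only [AddMonoidHom.coe_comp, AddEquiv.coe_toAddMonoidHom, Function.comp_apply,
    decomposeAddEquiv_apply]
  rw [decompose_of_mem 𝒜 hx, DirectSum.toAddMonoid_of]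
  rfl

theorem twistAdd_mul (x y : R) :
    twistAdd 𝒜 φ v (x * y) = twistAdd 𝒜 φ v x * twistAdd 𝒜 φ v y := by
  induction x using DirectSum.Decomposition.inductionOn 𝒜 with
  | zero => simp
  | @homogeneous i x =>
    induction y using DirectSum.Decomposition.inductionOn 𝒜 with
    | zero => simp
    | @homogeneous j y =>
      rw [twistAdd_of_mem 𝒜 φ v x.2, twistAdd_of_mem 𝒜 φ v y.2,
        twistAdd_of_mem 𝒜 φ v (SetLike.GradedMul.mul_mem x.2 y.2), map_mul, zpow_add,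
        Units.val_mul]
      ring
    | add a b ha hb => rw [mul_add, map_add, map_add, ha, hb, mul_add]
  | add a b ha hb => rw [add_mul, map_add, map_add, ha, hb, add_mul]

/-- the ring homomorphism `x ↦ ∑ φ(x_i) v^i`. -/
def twist : R →+* B where
  toFun := twistAdd 𝒜 φ v
  map_one' := by
    rw [twistAdd_of_mem 𝒜 φ v (SetLike.GradedOne.one_mem), map_one, zpow_zero, Units.val_one,
      mul_one]
  map_mul' := twistAdd_mul 𝒜 φ v
  map_zero' := map_zero _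
  map_add' := map_add _

theorem twist_of_mem {x : R} {i : ℤ} (hx : x ∈ 𝒜 i) :
    twist 𝒜 φ v x = φ x * ((v ^ i : Bˣ) : B) := twistAdd_of_mem 𝒜 φ v hx

end Twist

section Iso

variable {R : Type u} [CommRing R] (𝒜 : ℤ → AddSubgroup R) [GradedRing 𝒜]
  (N : ℕ) (hN : 0 < N) (u : Rˣ) (hu : (u : R) ∈ 𝒜 (N : ℤ))

/-- the unit `T` of the Laurent polynomial ring. -/
def Tu (A : Type u) [CommRing A] : (A[T;T⁻¹])ˣ :=
  ⟨LaurentPolynomial.T 1, LaurentPolynomial.T (-1),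
    by rw [← LaurentPolynomial.T_add]; simp,
    by rw [← LaurentPolynomial.T_add]; simp⟩

theorem coe_Tu_zpow (A : Type u) [CommRing A] (n : ℤ) :
    ((Tu A ^ n : (A[T;T⁻¹])ˣ) : A[T;T⁻¹]) = LaurentPolynomial.T n := by
  induction n using Int.induction_on with
  | zero => simp
  | succ n ih =>
    rw [zpow_add_one, Units.val_mul, ih, LaurentPolynomial.T_add]
    rfl
  | pred n ih =>
    rw [zpow_sub_one, Units.val_mul, ih, sub_eq_add_neg, LaurentPolynomial.T_add]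
    rfl

theorem root_pow : (AdjoinRoot.root (X ^ N - C (u : R))) ^ N =
    AdjoinRoot.of (X ^ N - C (u : R)) (u : R) := by
  have := AdjoinRoot.eval₂_root (X ^ N - C (u : R))
  rw [eval₂_sub, eval₂_pow, eval₂_X, eval₂_C, sub_eq_zero] at this
  exact this

include hN in
/-- the root is a unit. -/
def Uu : (AdjoinRoot (X ^ N - C (u : R)))ˣ :=
  ⟨AdjoinRoot.root _, (AdjoinRoot.root _) ^ (N - 1) *
      AdjoinRoot.of (X ^ N - C (u : R)) ((u⁻¹ : Rˣ) : R),
    by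
      rw [← mul_assoc, ← pow_succ', Nat.sub_add_cancel hN, root_pow, ← map_mul, Units.mul_inv,
        map_one],
    by
      rw [mul_comm, ← mul_assoc, ← pow_succ', Nat.sub_add_cancel hN, root_pow, ← map_mul,
        Units.mul_inv, map_one]⟩

theorem coe_Uu : ((Uu N hN u : (AdjoinRoot (X ^ N - C (u : R)))ˣ) : AdjoinRoot (X ^ N - C (u : R))) =
    AdjoinRoot.root _ := rfl

theorem Uu_zpow_N : ((Uu N hN u ^ (N : ℤ) : (AdjoinRoot (X ^ N - C (u : R)))ˣ) :
    AdjoinRoot (X ^ N - C (u : R))) = AdjoinRoot.of _ (u : R) := by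
  rw [zpow_natCast, Units.val_pow_eq_pow_val, coe_Uu, root_pow]

/-- `R → R'`, `x ↦ ∑ x_i U^{-i}`. -/
def Psi0 : R →+* AdjoinRoot (X ^ N - C (u : R)) :=
  twist 𝒜 (AdjoinRoot.of _) (Uu N hN u)⁻¹

include hu in
theorem Psi0_sub_one : Psi0 𝒜 N hN u ((u : R) - 1) = 0 := by
  unfold Psi0
  rw [map_sub, map_one, twist_of_mem 𝒜 _ _ hu, inv_zpow', ← Uu_zpow_N N hN u, ← Units.val_mul,
    ← zpow_add, add_neg_cancel, zpow_zero, Units.val_one, sub_self]

/-- `R/(u-1) → R'`. -/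
def Psi1 : (R ⧸ Ideal.span {(u : R) - 1}) →+* AdjoinRoot (X ^ N - C (u : R)) :=
  Ideal.Quotient.lift _ (Psi0 𝒜 N hN u) (by
    intro a ha
    obtain ⟨r, rfl⟩ := Ideal.mem_span_singleton'.mp ha
    rw [map_mul, Psi0_sub_one 𝒜 N hN u hu, mul_zero])

theorem Psi1_mk (x : R) :
    Psi1 𝒜 N hN u hu (Ideal.Quotient.mk _ x) = Psi0 𝒜 N hN u x := rfl

/-- `(R/(u-1))[T,T⁻¹] → R'`. -/
def Psi : (R ⧸ Ideal.span {(u : R) - 1})[T;T⁻¹] →+* AdjoinRoot (X ^ N - C (u : R)) :=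
  LaurentPolynomial.eval₂ (Psi1 𝒜 N hN u hu) (Uu N hN u)

/-- `R → (R/(u-1))[T,T⁻¹]`, `x ↦ ∑ x̄_i T^i`. -/
def Phi0 : R →+* (R ⧸ Ideal.span {(u : R) - 1})[T;T⁻¹] :=
  twist 𝒜 ((LaurentPolynomial.C).comp (Ideal.Quotient.mk _)) (Tu _)

theorem mk_u : Ideal.Quotient.mk (Ideal.span {(u : R) - 1}) (u : R) = 1 := by
  have : (u : R) - 1 ∈ Ideal.span {(u : R) - 1} := Ideal.mem_span_singleton_self _
  rw [← Ideal.Quotient.eq_zero_iff_mem, map_sub, map_one, sub_eq_zero] at this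
  exact this

/-- `R' → (R/(u-1))[T,T⁻¹]`. -/
def Phi : AdjoinRoot (X ^ N - C (u : R)) →+* (R ⧸ Ideal.span {(u : R) - 1})[T;T⁻¹] :=
  AdjoinRoot.lift (Phi0 𝒜 u) (LaurentPolynomial.T 1) (by
    rw [eval₂_sub, eval₂_pow, eval₂_X, eval₂_C]
    unfold Phi0
    rw [twist_of_mem 𝒜 _ _ hu, RingHom.comp_apply, mk_u, map_one, one_mul, coe_Tu_zpow,
      LaurentPolynomial.T_pow, mul_one, sub_self])

theorem Phi_of (x : R) : Phi 𝒜 N u hu (AdjoinRoot.of _ x) = Phi0 𝒜 u x := by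
  unfold Phi
  rw [AdjoinRoot.lift_of]

theorem Phi_root : Phi 𝒜 N u hu (AdjoinRoot.root _) = LaurentPolynomial.T 1 := by
  unfold Phi
  rw [AdjoinRoot.lift_root]

theorem Phi_Uu_zpow (n : ℤ) :
    Phi 𝒜 N u hu ((Uu N hN u ^ n : (AdjoinRoot (X ^ N - C (u : R)))ˣ) :
      AdjoinRoot (X ^ N - C (u : R))) = LaurentPolynomial.T n := by
  have h1 : Units.map (Phi 𝒜 N u hu).toMonoidHom (Uu N hN u) = Tu _ := by
    apply Units.ext
    change Phi 𝒜 N u hu (AdjoinRoot.root _) = LaurentPolynomial.T 1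
    exact Phi_root 𝒜 N u hu
  have h2 : Phi 𝒜 N u hu ((Uu N hN u ^ n : (AdjoinRoot (X ^ N - C (u : R)))ˣ) :
      AdjoinRoot (X ^ N - C (u : R))) =
      ((Units.map (Phi 𝒜 N u hu).toMonoidHom (Uu N hN u ^ n) : _ˣ) : _) := rfl
  rw [h2, map_zpow, h1, coe_Tu_zpow]

theorem Phi_Psi0 (x : R) :
    Phi 𝒜 N u hu (Psi0 𝒜 N hN u x) = LaurentPolynomial.C (Ideal.Quotient.mk _ x) := by
  induction x using DirectSum.Decomposition.inductionOn 𝒜 with
  | zero => simp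
  | @homogeneous i x =>
    unfold Psi0
    rw [twist_of_mem 𝒜 _ _ x.2, map_mul, Phi_of, inv_zpow', Phi_Uu_zpow]
    unfold Phi0
    rw [twist_of_mem 𝒜 _ _ x.2, coe_Tu_zpow, RingHom.comp_apply, mul_assoc,
      ← LaurentPolynomial.T_add, add_neg_cancel, LaurentPolynomial.T_zero, mul_one]
  | add a b ha hb => rw [map_add, map_add, ha, hb, map_add, map_add]

theorem Phi_Psi (p : (R ⧸ Ideal.span {(u : R) - 1})[T;T⁻¹]) :
    Phi 𝒜 N u hu (Psi 𝒜 N hN u hu p) = p := by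
  induction p using LaurentPolynomial.induction_on' with
  | add p q hp hq => rw [map_add, map_add, hp, hq]
  | C_mul_T n a =>
    unfold Psi
    rw [LaurentPolynomial.eval₂_C_mul_T, map_mul, Phi_Uu_zpow]
    obtain ⟨x, rfl⟩ := Ideal.Quotient.mk_surjective a
    rw [Psi1_mk, Phi_Psi0]

theorem Psi_Phi0 (x : R) :
    Psi 𝒜 N hN u hu (Phi0 𝒜 u x) = AdjoinRoot.of _ x := by
  induction x using DirectSum.Decomposition.inductionOn 𝒜 with
  | zero => simp
  | @homogeneous i x =>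
    unfold Phi0
    rw [twist_of_mem 𝒜 _ _ x.2, coe_Tu_zpow, RingHom.comp_apply]
    unfold Psi
    rw [LaurentPolynomial.eval₂_C_mul_T, Psi1_mk]
    unfold Psi0
    rw [twist_of_mem 𝒜 _ _ x.2, mul_assoc, inv_zpow', ← Units.val_mul, ← zpow_add,
      neg_add_cancel, zpow_zero, Units.val_one, mul_one]
  | add a b ha hb => rw [map_add, map_add, ha, hb, map_add]

theorem Psi_Phi (z : AdjoinRoot (X ^ N - C (u : R))) :
    Psi 𝒜 N hN u hu (Phi 𝒜 N u hu z) = z := by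
  have : (Psi 𝒜 N hN u hu).comp (Phi 𝒜 N u hu) = RingHom.id _ := by
    apply AdjoinRoot.ringHom_ext
    · ext x
      simp only [RingHom.comp_apply, RingHom.id_apply]
      rw [Phi_of, Psi_Phi0]
    · simp only [RingHom.comp_apply, RingHom.id_apply]
      rw [Phi_root]
      unfold Psi
      have := LaurentPolynomial.eval₂_T (Psi1 𝒜 N hN u hu) (Uu N hN u) 1
      rw [this, zpow_one, coe_Uu]
  exact congrArg (fun f => f z) this

/-- `R[U]/(U^N - u) ≃ (R/(u-1))[T,T⁻¹]`. -/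
def equiv : AdjoinRoot (X ^ N - C (u : R)) ≃+* (R ⧸ Ideal.span {(u : R) - 1})[T;T⁻¹] :=
  RingEquiv.ofRingHom (Phi 𝒜 N u hu) (Psi 𝒜 N hN u hu)
    (RingHom.ext (Phi_Psi 𝒜 N hN u hu)) (RingHom.ext (Psi_Phi 𝒜 N hN u hu))

end Iso

end

end Groth.Agent.Lib.Seat67.GrLaurent
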