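import Mathlib
import Groth.Agent.Lib.Seat67GrUnit
import Groth.Agent.Lib.Helper19RegPres
import Groth.Agent.Lib.Helper28Hypersurface

set_option autoImplicit false
set_option linter.style.haveILetI false
universe u

namespace Groth.Agent.Lib.Seat67.GrUnit

open DirectSum IsLocalRing
open scoped Classical

variable {R : Type u} [CommRing R] {𝒜 : ℤ → AddSubgroup R} [GradedRing 𝒜]
  {N : ℤ} (u : Rˣ) (hu : (u : R) ∈ 𝒜 N) [IsLocalRing (SetLike.GradeZero.subring 𝒜)]
  (hN : 0 < N) (hm : HM (𝒜 := 𝒜) (N := N) u)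

include hu hN hm in
theorem NN_sq_le : NN u hu hN hm ^ 2 ≤ M u hu hN hm ⊔ Ideal.span {((u : R) - 1) * ((u : R) - 1)} := by
  rw [pow_two, Ideal.mul_le]
  intro a ha b hb
  obtain ⟨μ₁, hμ₁, y₁, hy₁, rfl⟩ := Submodule.mem_sup.mp ha
  obtain ⟨μ₂, hμ₂, y₂, hy₂, rfl⟩ := Submodule.mem_sup.mp hb
  obtain ⟨r₁, rfl⟩ := Ideal.mem_span_singleton'.mp hy₁
  obtain ⟨r₂, rfl⟩ := Ideal.mem_span_singleton'.mp hy₂
  have : (μ₁ + r₁ * ((u : R) - 1)) * (μ₂ + r₂ * ((u : R) - 1)) =
      (μ₁ * (μ₂ + r₂ * ((u : R) - 1)) + r₁ * ((u : R) - 1) * μ₂) +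
        r₁ * r₂ * (((u : R) - 1) * ((u : R) - 1)) := by ring
  rw [this]
  refine Ideal.add_mem _ (Ideal.mem_sup_left (Ideal.add_mem _ ?_ ?_)) (Ideal.mem_sup_right ?_)
  · exact Ideal.mul_mem_right _ _ hμ₁
  · exact Ideal.mul_mem_left _ _ hμ₂
  · exact Ideal.mul_mem_left _ _ (Ideal.mem_span_singleton_self _)

include hu hN hm in
/-- `u - 1` is not in the square of `𝔑`, even locally. -/
theorem not_mem_NN_sq {s : R} (hs : s ∉ NN u hu hN hm) :
    ((u : R) - 1) * s ∉ NN u hu hN hm ^ 2 := by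
  intro h
  obtain ⟨μ, hμ, y, hy, hsum⟩ := Submodule.mem_sup.mp (NN_sq_le u hu hN hm h)
  obtain ⟨r, rfl⟩ := Ideal.mem_span_singleton'.mp hy
  have h1 : ((u : R) - 1) * (s - r * ((u : R) - 1)) ∈ M u hu hN hm := by
    have : ((u : R) - 1) * (s - r * ((u : R) - 1)) = μ := by
      rw [mul_sub, ← hsum]; ring
    rw [this]
    exact hμ
  have h2 := mem_M_of_sub_one_mul_mem u hu hN hm h1
  apply hs
  have : s = (s - r * ((u : R) - 1)) + r * ((u : R) - 1) := by ring
  rw [this]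
  exact Ideal.add_mem _ (Ideal.mem_sup_left h2)
    (Ideal.mem_sup_right (Ideal.mul_mem_left _ _ (Ideal.mem_span_singleton_self _)))

include hu hN hm in
/-- `R/(u - 1)` is a regular local ring when `R` is regular. -/
theorem isRegularLocalRing_quot [IsNoetherianRing R]
    (hreg : ∀ (p : Ideal R) [p.IsPrime], IsRegularLocalRing (Localization.AtPrime p)) :
    IsRegularLocalRing (R ⧸ Ideal.span {(u : R) - 1}) := by
  haveI hloc : IsLocalRing (R ⧸ Ideal.span {(u : R) - 1}) := isLocalRing_quot u hu hN hm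
  set I : Ideal R := Ideal.span {(u : R) - 1} with hI
  have hcomap : (maximalIdeal (R ⧸ I)).comap (Ideal.Quotient.mk I) = NN u hu hN hm :=
    comap_eq_NN u hu hN hm _
  haveI hprime : ((maximalIdeal (R ⧸ I)).comap (Ideal.Quotient.mk I)).IsPrime :=
    Ideal.comap_isPrime _ _
  haveI hregP := hreg ((maximalIdeal (R ⧸ I)).comap (Ideal.Quotient.mk I))
  set 𝔑 := (maximalIdeal (R ⧸ I)).comap (Ideal.Quotient.mk I) with h𝔑
  have hu1 : (u : R) - 1 ∈ 𝔑 := by
    rw [hcomap]
    exact sub_one_mem_NN u hu hN hm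
  have hx : algebraMap R (Localization.AtPrime 𝔑) ((u : R) - 1) ∈
      maximalIdeal (Localization.AtPrime 𝔑) := by
    rw [← Localization.AtPrime.map_eq_maximalIdeal]
    exact Ideal.mem_map_of_mem _ hu1
  have hx2 : algebraMap R (Localization.AtPrime 𝔑) ((u : R) - 1) ∉
      maximalIdeal (Localization.AtPrime 𝔑) ^ 2 := by
    rw [← Localization.AtPrime.map_eq_maximalIdeal, ← Ideal.map_pow]
    intro hmem
    rw [IsLocalization.mem_map_algebraMap_iff 𝔑.primeCompl] at hmem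
    obtain ⟨⟨⟨a, ha⟩, ⟨s, hs⟩⟩, heq⟩ := hmem
    simp only at heq
    rw [← map_mul] at heq
    obtain ⟨⟨s', hs'⟩, heq'⟩ := (IsLocalization.eq_iff_exists 𝔑.primeCompl _).mp heq
    simp only at heq'
    have hss' : s' * s ∉ NN u hu hN hm := by
      rw [← hcomap]
      exact (𝔑.primeCompl.mul_mem hs' hs)
    apply not_mem_NN_sq u hu hN hm hss'
    have : ((u : R) - 1) * (s' * s) = s' * a := by
      rw [← heq']; ring
    rw [this, ← hcomap]
    exact Ideal.mul_mem_left _ _ ha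
  haveI : IsLocalRing (Localization.AtPrime 𝔑 ⧸
      Ideal.span {algebraMap R (Localization.AtPrime 𝔑) ((u : R) - 1)}) :=
    Groth.Agent.Lib.Helper19.isLocalRing_quot_of_le_maximalIdeal _
      ((Ideal.span_singleton_le_iff_mem _).mpr hx)
  have hregQ := (Groth.Agent.Lib.Helper19.isRegularLocalRing_quot_singleton hx hx2).1
  -- the equivalences
  let e1 : (R ⧸ I) ≃+* Localization.AtPrime (maximalIdeal (R ⧸ I)) :=
    (IsLocalization.atUnits (R ⧸ I) (maximalIdeal (R ⧸ I)).primeCompl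
      (S := Localization.AtPrime (maximalIdeal (R ⧸ I))) (fun y hy => by
        by_contra hnu
        exact hy ((IsLocalRing.mem_maximalIdeal y).mpr hnu))).toRingEquiv
  let e2 := Groth.Agent.Lib.Helper28.localizationQuotientEquiv I (maximalIdeal (R ⧸ I))
  have hmapI : I.map (algebraMap R (Localization.AtPrime 𝔑)) =
      Ideal.span {algebraMap R (Localization.AtPrime 𝔑) ((u : R) - 1)} := by
    rw [hI, Ideal.map_span, Set.image_singleton]
  let e3 := Ideal.quotEquivOfEq hmapI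
  exact IsRegularLocalRing.of_ringEquiv ((e1.trans e2).trans e3).symm

end Groth.Agent.Lib.Seat67.GrUnit
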