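import Mathlib
import Groth.Agent.Lib.Seat67GrLaurent
import Groth.Agent.Lib.Seat67GrUnitReg
import Groth.Agent.Lib.Helper6SepBC
import Groth.Agent.Lib.Helper19GRLoc
import Groth.Agent.Lib.Helper28RegLoc

set_option autoImplicit false
universe u

namespace Groth.Agent.Lib.Seat67.GrLaurent

open DirectSum Polynomial IsLocalRing
open scoped Classical LaurentPolynomial

variable {R : Type u} [CommRing R] (𝒜 : ℤ → AddSubgroup R) [GradedRing 𝒜]
  [IsLocalRing (SetLike.GradeZero.subring 𝒜)]

/-- a regular local ring is a regular ring. -/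
theorem isRegularRing_of_isRegularLocalRing (A : Type u) [CommRing A] [IsRegularLocalRing A] :
    IsRegularRing A := by
  rw [isRegularRing_iff]
  intro p hp
  exact Groth.Agent.Lib.Helper28.isRegularLocalRing_localization_of_isRegularLocalRing A p

/-- Laurent polynomials over a regular ring form a regular ring. -/
theorem isRegularRing_laurent (A : Type u) [CommRing A] [IsRegularRing A] :
    IsRegularRing A[T;T⁻¹] := by
  haveI : IsRegularRing A[X] := Groth.Agent.Lib.Helper6.SepBC.isRegularRing_of_formallySmooth A A[X]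
  exact Groth.Agent.Lib.Helper19.GR.isRegularRing_of_isLocalization
    (Submonoid.powers (X : A[X]))

/-- `R[U]/(U^N - u)` is regular for a graded regular ring with homogeneous unit `u` of degree `N`
satisfying `HM`. -/
theorem isRegularRing_adjoinRoot [IsNoetherianRing R]
    (hreg : ∀ (p : Ideal R) [p.IsPrime], IsRegularLocalRing (Localization.AtPrime p))
    (N : ℕ) (hN : 0 < N) (u : Rˣ) (hu : (u : R) ∈ 𝒜 (N : ℤ))
    (hm : Groth.Agent.Lib.Seat67.GrUnit.HM (𝒜 := 𝒜) (N := (N : ℤ)) u) :
    IsRegularRing (AdjoinRoot (X ^ N - C (u : R))) := by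
  have hN' : (0 : ℤ) < (N : ℤ) := by exact_mod_cast hN
  haveI hC : IsRegularLocalRing (R ⧸ Ideal.span {(u : R) - 1}) :=
    Groth.Agent.Lib.Seat67.GrUnit.isRegularLocalRing_quot u hu hN' hm hreg
  haveI : IsRegularRing (R ⧸ Ideal.span {(u : R) - 1}) := isRegularRing_of_isRegularLocalRing _
  haveI := isRegularRing_laurent (R ⧸ Ideal.span {(u : R) - 1})
  exact IsRegularRing.of_ringEquiv (equiv 𝒜 N hN u hu).symm

end Groth.Agent.Lib.Seat67.GrLaurent
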