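import Mathlib
import Groth.Agent.Lib.Seat91GrQuotZ

/-!
# Seat67: reduction of a graded algebra modulo an ideal of the base ring

`R` a `ℤ`-graded `A`-algebra with pieces `𝒜 n` (`A`-submodules), `𝔞` an ideal of `A`.
The quotient `R ⧸ 𝔞R` is a graded algebra over `A ⧸ 𝔞` with pieces `rpiece 𝒜 𝔞 n`, the images of
the `𝒜 n` (`gradedAlgebra`).

* `rpiece_eq_bot`, `rpiece_zero`, `irr_rpiece`: positivity, degree zero part and standard
  gradedness pass to the reduction;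
* `mem_smul_of_mem_map`: `𝔞R ∩ R_n = 𝔞 R_n`;
* `length_le`: for `A` local with maximal ideal `𝔞` and `R_n` finite over `A`,
  `ℓ_A(R_n) ≤ dim_{A/𝔞} (R/𝔞R)_n · ℓ_A(A)` (Nakayama).
-/

set_option autoImplicit false
set_option linter.unusedSectionVars false
set_option linter.style.haveILetI false

universe u

namespace Groth.Agent.Lib.Seat67.GrResidue

open DirectSum
open Groth.Agent.Lib.Seat91.GrQuotZ

variable {A : Type u} [CommRing A] {R : Type u} [CommRing R] [Algebra A R]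
  (𝒜 : ℤ → Submodule A R) [GradedAlgebra 𝒜] (𝔞 : Ideal A)

theorem map_isHomogeneous : (𝔞.map (algebraMap A R)).IsHomogeneous 𝒜 := by
  unfold Ideal.map
  apply Ideal.homogeneous_span
  rintro _ ⟨a, -, rfl⟩
  exact ⟨0, SetLike.algebraMap_mem_graded 𝒜 a⟩

/-- the pieces of `R ⧸ 𝔞R` as `A ⧸ 𝔞`-submodules. -/
def rpiece (n : ℤ) : Submodule (A ⧸ 𝔞) (R ⧸ 𝔞.map (algebraMap A R)) where
  carrier := {z | ∃ a ∈ 𝒜 n, Ideal.Quotient.mk (𝔞.map (algebraMap A R)) a = z}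
  add_mem' := by
    rintro _ _ ⟨a, ha, rfl⟩ ⟨b, hb, rfl⟩
    exact ⟨a + b, add_mem ha hb, map_add _ _ _⟩
  zero_mem' := ⟨0, zero_mem _, map_zero _⟩
  smul_mem' := by
    rintro c _ ⟨a, ha, rfl⟩
    obtain ⟨c', rfl⟩ := Ideal.Quotient.mk_surjective c
    refine ⟨c' • a, Submodule.smul_mem _ _ ha, ?_⟩
    rw [Ideal.Quotient.mk_smul_mk_quotient_map_quotient, Algebra.smul_def]

theorem mem_rpiece (n : ℤ) (z : R ⧸ 𝔞.map (algebraMap A R)) :
    z ∈ rpiece 𝒜 𝔞 n ↔ ∃ a ∈ 𝒜 n, Ideal.Quotient.mk (𝔞.map (algebraMap A R)) a = z := Iff.rfl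

theorem mk_mem_rpiece {n : ℤ} {a : R} (ha : a ∈ 𝒜 n) :
    Ideal.Quotient.mk (𝔞.map (algebraMap A R)) a ∈ rpiece 𝒜 𝔞 n := ⟨a, ha, rfl⟩

theorem rpiece_restrictScalars (n : ℤ) :
    (rpiece 𝒜 𝔞 n).restrictScalars A = qgr 𝒜 (𝔞.map (algebraMap A R)) n := by
  ext z
  rfl

instance : SetLike.GradedMonoid (rpiece 𝒜 𝔞) where
  one_mem := ⟨1, SetLike.GradedOne.one_mem, map_one _⟩
  mul_mem := by
    rintro i j _ _ ⟨a, ha, rfl⟩ ⟨b, hb, rfl⟩
    exact ⟨a * b, SetLike.mul_mem_graded ha hb, map_mul _ a b⟩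

theorem isInternal_rpiece : DirectSum.IsInternal (rpiece 𝒜 𝔞) := by
  have h := isInternal_qgr 𝒜 (𝔞.map (algebraMap A R)) (map_isHomogeneous 𝒜 𝔞)
  rw [isInternal_submodule_iff_iSupIndep_and_iSup_eq_top] at h ⊢
  obtain ⟨h1, h2⟩ := h
  constructor
  · rw [iSupIndep_def] at h1 ⊢
    intro i
    have := h1 i
    simp only [← rpiece_restrictScalars] at this
    rw [← Submodule.disjoint_restrictScalars_iff (S := A)]
    simpa only [Submodule.restrictScalars_iSup] using this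
  · rw [← Submodule.restrictScalars_eq_top_iff (S := A), Submodule.restrictScalars_iSup]
    simpa only [rpiece_restrictScalars] using h2

/-- the graded algebra structure on the reduction. -/
@[instance_reducible]
noncomputable def gradedAlgebra : GradedAlgebra (rpiece 𝒜 𝔞) :=
  { (inferInstance : SetLike.GradedMonoid (rpiece 𝒜 𝔞)) with
    toDecomposition := (isInternal_rpiece 𝒜 𝔞).chooseDecomposition }

theorem rpiece_eq_bot {n : ℤ} (h : 𝒜 n = ⊥) : rpiece 𝒜 𝔞 n = ⊥ := by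
  rw [eq_bot_iff]
  rintro _ ⟨a, ha, rfl⟩
  rw [h] at ha
  rw [(Submodule.mem_bot A).1 ha, map_zero]
  exact zero_mem _

theorem rpiece_zero (h : 𝒜 0 = Submodule.span A {(1 : R)}) :
    rpiece 𝒜 𝔞 0 = Submodule.span (A ⧸ 𝔞) {(1 : R ⧸ 𝔞.map (algebraMap A R))} := by
  apply le_antisymm
  · rintro _ ⟨a, ha, rfl⟩
    rw [h] at ha
    obtain ⟨c, rfl⟩ := Submodule.mem_span_singleton.1 ha
    rw [Submodule.mem_span_singleton]
    refine ⟨Ideal.Quotient.mk 𝔞 c, ?_⟩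
    rw [← map_one (Ideal.Quotient.mk (𝔞.map (algebraMap A R))),
      Ideal.Quotient.mk_smul_mk_quotient_map_quotient, Algebra.smul_def]
  · rw [Submodule.span_le]
    rintro _ rfl
    exact SetLike.GradedOne.one_mem (A := rpiece 𝒜 𝔞)

theorem coe_rpiece (n : ℤ) : ((rpiece 𝒜 𝔞 n : Submodule _ _) : Set (R ⧸ 𝔞.map (algebraMap A R))) =
    Ideal.Quotient.mk (𝔞.map (algebraMap A R)) '' (𝒜 n : Set R) := by
  ext z
  constructor
  · rintro ⟨a, ha, rfl⟩
    exact ⟨a, ha, rfl⟩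
  · rintro ⟨a, ha, rfl⟩
    exact ⟨a, ha, rfl⟩

theorem irr_rpiece (h : Ideal.span (⋃ j ∈ Set.Ioi (0 : ℤ), (𝒜 j : Set R)) =
      Ideal.span ((𝒜 1 : Submodule A R) : Set R)) :
    Ideal.span (⋃ j ∈ Set.Ioi (0 : ℤ), (rpiece 𝒜 𝔞 j : Set (R ⧸ 𝔞.map (algebraMap A R)))) =
      Ideal.span ((rpiece 𝒜 𝔞 1 : Submodule _ _) : Set (R ⧸ 𝔞.map (algebraMap A R))) := by
  have h1 : (⋃ j ∈ Set.Ioi (0 : ℤ), (rpiece 𝒜 𝔞 j : Set (R ⧸ 𝔞.map (algebraMap A R)))) =
      Ideal.Quotient.mk (𝔞.map (algebraMap A R)) '' (⋃ j ∈ Set.Ioi (0 : ℤ), (𝒜 j : Set R)) := by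
    simp only [coe_rpiece, Set.image_iUnion]
  rw [h1, coe_rpiece, ← Ideal.map_span, ← Ideal.map_span, h]

section Nakayama

theorem mem_smul_of_mem_map {n : ℤ} {w : R} (hw : w ∈ 𝔞.map (algebraMap A R)) (hn : w ∈ 𝒜 n) :
    w ∈ 𝔞 • 𝒜 n := by
  classical
  unfold Ideal.map Ideal.span at hw
  obtain ⟨t, f, g, rfl⟩ := Submodule.mem_span_set'.1 hw
  rw [← DirectSum.decompose_of_mem_same 𝒜 hn, decompose_sum, DFinsupp.finsetSum_apply,
    AddSubmonoidClass.coe_finsetSum]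
  refine Submodule.sum_mem _ fun i _ => ?_
  obtain ⟨a, ha, hga⟩ := (g i).2
  have hmem : algebraMap A R a ∈ 𝒜 0 := SetLike.algebraMap_mem_graded 𝒜 a
  have h1 := DirectSum.coe_decompose_mul_add_of_right_mem 𝒜 (a := f i) (i := n) hmem
  rw [add_zero] at h1
  rw [smul_eq_mul, ← hga, h1, mul_comm, ← Algebra.smul_def]
  exact Submodule.smul_mem_smul ha (SetLike.coe_mem _)

variable [IsLocalRing A]

/-- the reduction map on a piece. -/
noncomputable def toRpiece (n : ℤ) :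
    𝒜 n →ₗ[A] rpiece 𝒜 (IsLocalRing.maximalIdeal A) n where
  toFun z := ⟨Ideal.Quotient.mk _ (z : R), mk_mem_rpiece 𝒜 _ z.2⟩
  map_add' _ _ := Subtype.ext (map_add _ _ _)
  map_smul' c z := by
    apply Subtype.ext
    show Ideal.Quotient.mk _ (c • (z : R)) = c • Ideal.Quotient.mk _ (z : R)
    rw [Algebra.smul_def, map_mul, Algebra.smul_def]
    rfl

theorem toRpiece_surjective (n : ℤ) : Function.Surjective (toRpiece 𝒜 n) := by
  rintro ⟨_, a, ha, rfl⟩
  exact ⟨⟨a, ha⟩, rfl⟩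

theorem finite_rpiece (n : ℤ) [Module.Finite A (𝒜 n)] :
    Module.Finite (A ⧸ IsLocalRing.maximalIdeal A) (rpiece 𝒜 (IsLocalRing.maximalIdeal A) n) := by
  haveI : Module.Finite A (rpiece 𝒜 (IsLocalRing.maximalIdeal A) n) :=
    Module.Finite.of_surjective (toRpiece 𝒜 n) (toRpiece_surjective 𝒜 n)
  exact Module.Finite.of_restrictScalars_finite A _ _

/-- **Nakayama bound** for the length of a piece. -/
theorem length_le (n : ℤ) [Module.Finite A (𝒜 n)] :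
    Module.length A (𝒜 n) ≤
      (Module.finrank (A ⧸ IsLocalRing.maximalIdeal A)
        (rpiece 𝒜 (IsLocalRing.maximalIdeal A) n) : ℕ∞) * Module.length A A := by
  classical
  set 𝔪 := IsLocalRing.maximalIdeal A with h𝔪
  letI : Field (A ⧸ 𝔪) := Ideal.Quotient.field 𝔪
  haveI := finite_rpiece 𝒜 n
  let b := Module.finBasis (A ⧸ 𝔪) (rpiece 𝒜 𝔪 n)
  have hy : ∀ i, ∃ y : R, y ∈ 𝒜 n ∧ Ideal.Quotient.mk (𝔪.map (algebraMap A R)) y = (b i : _) :=
    fun i => (b i).2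
  choose y hyn hyb using hy
  have hle : 𝒜 n ≤ Submodule.span A (Set.range y) := by
    refine Submodule.le_of_le_smul_of_le_jacobson_bot (I := 𝔪) (Module.Finite.iff_fg.1 inferInstance)
      (IsLocalRing.maximalIdeal_le_jacobson _) ?_
    intro z hz
    obtain ⟨v, hv⟩ : ∃ v : rpiece 𝒜 𝔪 n,
        (v : R ⧸ 𝔪.map (algebraMap A R)) = Ideal.Quotient.mk _ z :=
      ⟨⟨_, mk_mem_rpiece 𝒜 𝔪 hz⟩, rfl⟩
    have hsum := b.sum_repr v
    have hc : ∀ i, ∃ c : A, Ideal.Quotient.mk 𝔪 c = b.repr v i :=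
      fun i => Ideal.Quotient.mk_surjective _
    choose c hc using hc
    have hw : z - ∑ i, c i • y i ∈ 𝔪.map (algebraMap A R) := by
      rw [← Ideal.Quotient.eq, map_sum]
      have h2 := congrArg (fun u : rpiece 𝒜 𝔪 n => (u : R ⧸ 𝔪.map (algebraMap A R))) hsum
      simp only [AddSubmonoidClass.coe_finsetSum, Submodule.coe_smul] at h2
      rw [hv] at h2
      rw [← h2]
      refine Finset.sum_congr rfl fun i _ => ?_
      rw [← hc i, ← hyb i, Ideal.Quotient.mk_smul_mk_quotient_map_quotient, Algebra.smul_def]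
    have hwn : z - ∑ i, c i • y i ∈ 𝒜 n :=
      sub_mem hz (Submodule.sum_mem _ fun i _ => Submodule.smul_mem _ _ (hyn i))
    have h3 := mem_smul_of_mem_map 𝒜 𝔪 hw hwn
    have h4 : ∑ i, c i • y i ∈ Submodule.span A (Set.range y) :=
      Submodule.sum_mem _ fun i _ => Submodule.smul_mem _ _ (Submodule.subset_span ⟨i, rfl⟩)
    have e : z = ∑ i, c i • y i + (z - ∑ i, c i • y i) := by ring
    rw [e]
    exact Submodule.add_mem_sup h4 h3
  have heq : 𝒜 n = Submodule.span A (Set.range y) :=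
    le_antisymm hle (Submodule.span_le.2 (by rintro _ ⟨i, rfl⟩; exact hyn i))
  rw [heq, ← Fintype.range_linearCombination]
  refine (Module.length_le_of_surjective (Fintype.linearCombination A y).rangeRestrict
    (LinearMap.surjective_rangeRestrict _)).trans (le_of_eq ?_)
  rw [Module.length_pi]
  simp

end Nakayama

end Groth.Agent.Lib.Seat67.GrResidue
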