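import Mathlib

namespace Groth.Agent.Lib.Seat67.HensIdem

open Polynomial

variable {A : Type*} [CommRing A]

/-- in a ring with `t ∈ Jac`, `1 + t * x` is a unit -/
lemma isUnit_one_add_mul {t : A} (ht : t ∈ (⊥ : Ideal A).jacobson) (x : A) :
    IsUnit (1 + t * x) := by
  have := Ideal.mem_jacobson_bot.mp ht x
  rwa [add_comm] at this

/-- Newton–Hensel for the equation `x² = tⁿ x` in a ring henselian along `t`. -/
theorem exists_root_of_approx (t : A) [HenselianRing A (Ideal.span {t})] (n N : ℕ)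
    (hN : 2 * n + 1 ≤ N) (a₀ b : A) (h0 : a₀ ^ 2 - t ^ n * a₀ = t ^ N * b) :
    ∃ a₁ z : A, a₁ ^ 2 = t ^ n * a₁ ∧ a₁ - a₀ = t ^ (N - 2 * n) * z := by
  have htJ : t ∈ (⊥ : Ideal A).jacobson :=
    HenselianRing.jac (Ideal.subset_span (Set.mem_singleton t))
  obtain ⟨k, hk⟩ : ∃ k, N - 2 * n = k + 1 := ⟨N - 2 * n - 1, by omega⟩
  have hNk : N = 2 * n + (k + 1) := by omega
  obtain ⟨u, hu⟩ : IsUnit (1 + t * (4 * t ^ k * b)) := isUnit_one_add_mul htJ _
  have hd2 : (2 * a₀ - t ^ n) ^ 2 = t ^ (2 * n) * u := by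
    have : (2 * a₀ - t ^ n) ^ 2 = t ^ (2 * n) + 4 * (a₀ ^ 2 - t ^ n * a₀) := by ring
    rw [this, h0, hNk, hu]; ring
  set c : A := (↑u⁻¹ : A) * (t ^ (k + 1) * b) with hc
  have hmonic : (X ^ 2 + X + C c : A[X]).Monic := by
    have : (X ^ 2 + X + C c : A[X]) = X ^ 2 + (X + C c) := by ring
    rw [this]
    apply Polynomial.monic_X_pow_add
    rcases subsingleton_or_nontrivial A with hA | hA
    · exact lt_of_le_of_lt (Polynomial.degree_le_zero_iff.mpr (Subsingleton.elim _ _)) (by norm_num)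
    · rw [Polynomial.degree_X_add_C]; norm_num
  have hcI : c ∈ Ideal.span {t} := by
    rw [Ideal.mem_span_singleton]
    exact ⟨↑u⁻¹ * (t ^ k * b), by rw [hc]; ring⟩
  obtain ⟨y, hy, hyI⟩ := HenselianRing.is_henselian (I := Ideal.span {t})
    (X ^ 2 + X + C c : A[X]) hmonic 0 (by simpa using hcI) (by simp)
  rw [sub_zero] at hyI
  have hy' : y ^ 2 + y + c = 0 := by simpa [Polynomial.IsRoot] using hy
  obtain ⟨y', rfl⟩ := Ideal.mem_span_singleton.mp hyI
  obtain ⟨v, hv⟩ : IsUnit (1 + t * y') := isUnit_one_add_mul htJ _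
  have hyv : t * y' * v = -c := by rw [hv]; linear_combination hy'
  have hy2 : t * y' = -c * ↑v⁻¹ := by
    rw [← hyv, mul_assoc, Units.mul_inv, mul_one]
  refine ⟨a₀ + (2 * a₀ - t ^ n) * (t * y'), (2 * a₀ - t ^ n) * -(↑u⁻¹ * b * ↑v⁻¹), ?_, ?_⟩
  · have huc : (u : A) * c = t ^ (k + 1) * b := by
      rw [hc, ← mul_assoc, Units.mul_inv, one_mul]
    have : (a₀ + (2 * a₀ - t ^ n) * (t * y')) ^ 2 - t ^ n * (a₀ + (2 * a₀ - t ^ n) * (t * y')) =
        (a₀ ^ 2 - t ^ n * a₀) + (2 * a₀ - t ^ n) ^ 2 * ((t * y') ^ 2 + t * y') := by ring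
    rw [← sub_eq_zero, this, h0, hd2, hNk]
    have : (t * y') ^ 2 + t * y' = -c := by linear_combination hy'
    rw [this]
    linear_combination (- t ^ (2 * n)) * huc
  · rw [add_sub_cancel_left, hy2, hk, hc]
    ring

/-- Two roots of `x² = tⁿ x` which are congruent modulo `t^M`, `M > n`, differ by `t^(2n)`-torsion,
provided `t` lies in the Jacobson radical. -/
theorem pow_mul_sub_eq_zero_of_roots {t : A} (ht : t ∈ (⊥ : Ideal A).jacobson) (n M : ℕ)
    (hM : n + 1 ≤ M) (a a' h' : A) (ha : a ^ 2 = t ^ n * a) (ha' : a' ^ 2 = t ^ n * a')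
    (hh : a' - a = t ^ M * h') : t ^ (2 * n) * (a' - a) = 0 := by
  obtain ⟨k, rfl⟩ : ∃ k, M = n + 1 + k := ⟨M - (n + 1), by omega⟩
  obtain ⟨u, hu⟩ : IsUnit (1 + t * (- (t ^ (2 * k + 1) * h' ^ 2))) := isUnit_one_add_mul ht _
  have key : t ^ (2 * n) * (a' - a) * u = 0 := by
    have h1 : (a' - a) * (2 * a - t ^ n + (a' - a)) = 0 := by
      linear_combination ha' - ha
    have h2 : (2 * a - t ^ n) ^ 2 = t ^ (2 * n) := by
      linear_combination 4 * ha
    have h3 : (a' - a) * (t ^ (2 * n) - (a' - a) ^ 2) = 0 := by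
      have : (a' - a) * (t ^ (2 * n) - (a' - a) ^ 2) =
          (a' - a) * ((2 * a - t ^ n) ^ 2 - (a' - a) ^ 2) := by rw [h2]
      rw [this]
      linear_combination (2 * a - t ^ n - (a' - a)) * h1
    rw [hu]
    have : (a' - a) ^ 2 = t ^ (2 * n) * (t * (t ^ (2 * k + 1) * h' ^ 2)) := by
      rw [hh]; ring
    rw [this] at h3
    linear_combination h3
  have := congrArg (· * (↑u⁻¹ : A)) key
  simpa [mul_assoc] using this

end Groth.Agent.Lib.Seat67.HensIdem

namespace Groth.Agent.Lib.Seat67.HensIdem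

variable {A : Type*} [CommRing A]

/-- Lemma C: a root of `x² = tⁿ x` divisible by `t^(n+1)` is killed by `tⁿ` (`t` in the radical). -/
theorem pow_mul_eq_zero_of_root_of_dvd {t : A} (ht : t ∈ (⊥ : Ideal A).jacobson) (n : ℕ)
    (b c : A) (hb : b ^ 2 = t ^ n * b) (hbc : b = t ^ (n + 1) * c) : t ^ n * b = 0 := by
  obtain ⟨u, hu⟩ : IsUnit (1 + t * (-c)) := isUnit_one_add_mul ht _
  have key : t ^ n * b * u = 0 := by
    rw [hu]
    have : t ^ n * b * (1 + t * -c) = t ^ n * b - (t ^ (n + 1) * c) * b := by ring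
    rw [this, ← hbc, ← pow_two, hb, sub_self]
  have := congrArg (· * (↑u⁻¹ : A)) key
  simpa [mul_assoc] using this

/-- Representation of an idempotent of `R[1/t]` as `b / tⁿ` with `b² = tⁿ b` exactly. -/
theorem exists_rep {R : Type*} [CommRing R] (t : R) {S : Type*} [CommRing S] [Algebra R S]
    [IsLocalization.Away t S] (g : S) (hg : IsIdempotentElem g) :
    ∃ (b : R) (n : ℕ), b ^ 2 = t ^ n * b ∧ g * (algebraMap R S t) ^ n = algebraMap R S b := by
  obtain ⟨n, b, hb⟩ := IsLocalization.Away.surj t g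
  have h1 : algebraMap R S (b ^ 2) = algebraMap R S (t ^ n * b) := by
    rw [map_pow, map_mul, map_pow, ← hb]
    have : (g * algebraMap R S t ^ n) ^ 2 = (g * g) * algebraMap R S t ^ n * algebraMap R S t ^ n := by
      ring
    rw [this, hg.eq]; ring
  obtain ⟨⟨_, k, rfl⟩, hk⟩ := (IsLocalization.eq_iff_exists (Submonoid.powers t) S).mp h1
  simp only at hk
  refine ⟨t ^ k * b, n + k, ?_, ?_⟩
  · have : (t ^ k * b) ^ 2 = t ^ k * (t ^ k * b ^ 2) := by ring
    rw [this, hk]; ring
  · rw [map_mul, map_pow, ← hb]; ring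

end Groth.Agent.Lib.Seat67.HensIdem

namespace Groth.Agent.Lib.Seat67.HensIdem

variable {A : Type*} [CommRing A] (t : A)

lemma algebraMap_mem_jacobson :
    algebraMap A (AdicCompletion (Ideal.span {t}) A) t ∈
      (⊥ : Ideal (AdicCompletion (Ideal.span {t}) A)).jacobson := by
  have := AdicCompletion.isAdicComplete_self (Ideal.span {t}) ⟨{t}, by simp⟩
  exact IsAdicComplete.le_jacobson_bot
    ((Ideal.span {t}).map (algebraMap A (AdicCompletion (Ideal.span {t}) A)))
    (Ideal.mem_map_of_mem _ (Ideal.subset_span (Set.mem_singleton t)))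

lemma exists_mul_of_evalₐ_eq_zero (x : AdicCompletion (Ideal.span {t}) A) (n : ℕ)
    (h : AdicCompletion.evalₐ (Ideal.span {t}) n x = 0) :
    ∃ y : AdicCompletion (Ideal.span {t}) A,
      x = algebraMap A (AdicCompletion (Ideal.span {t}) A) t ^ n * y := by
  have hle : (Ideal.span {t} : Ideal A) ^ n ≤ (Ideal.span {t} : Ideal A) ^ n • ⊤ := by simp
  have hx : x ∈ LinearMap.ker (AdicCompletion.eval (Ideal.span {t}) A n) := by
    rw [LinearMap.mem_ker, ← AdicCompletion.factor_evalₐ_eq_eval _ x hle, h, map_zero]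
  rw [← AdicCompletion.pow_smul_top_eq_ker_eval ⟨{t}, by simp⟩, Ideal.span_singleton_pow,
    Submodule.ideal_span_singleton_smul] at hx
  obtain ⟨y, -, hy⟩ := (Submodule.mem_smul_pointwise_iff_exists _ _ _).mp hx
  exact ⟨y, by rw [← hy, Algebra.smul_def, map_pow]⟩

lemma exists_mul_of_evalₐ_algebraMap_eq_zero (a : A) (n : ℕ)
    (h : AdicCompletion.evalₐ (Ideal.span {t}) n
      (algebraMap A (AdicCompletion (Ideal.span {t}) A) a) = 0) :
    ∃ c : A, a = t ^ n * c := by
  rw [AdicCompletion.algebraMap_apply, Algebra.algebraMap_self_apply, AdicCompletion.evalₐ_of,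
    Ideal.Quotient.eq_zero_iff_mem, Ideal.span_singleton_pow, Ideal.mem_span_singleton] at h
  obtain ⟨c, hc⟩ := h
  exact ⟨c, hc⟩

end Groth.Agent.Lib.Seat67.HensIdem

namespace Groth.Agent.Lib.Seat67.HensIdem

variable {A : Type*} [CommRing A] (t : A)

/-- Lemma C': an idempotent of `A[1/t]` dying in `Â[1/t]` is zero (`t` in the radical). -/
theorem idem_eq_zero_of_awayMap_eq_zero (ht : t ∈ (⊥ : Ideal A).jacobson)
    (g : Localization.Away t) (hg : IsIdempotentElem g)
    (h0 : Localization.awayMap (algebraMap A (AdicCompletion (Ideal.span {t}) A)) t g = 0) :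
    g = 0 := by
  obtain ⟨b, n, hb, hgb⟩ := exists_rep t g hg
  set ι := algebraMap A (AdicCompletion (Ideal.span {t}) A) with hι
  have hσ : IsUnit (algebraMap A (Localization.Away t) t) :=
    IsLocalization.Away.algebraMap_isUnit t
  -- image of `b` dies in the localisation of the completion
  have h1 : algebraMap (AdicCompletion (Ideal.span {t}) A) (Localization.Away (ι t)) (ι b) = 0 := by
    have : algebraMap (AdicCompletion (Ideal.span {t}) A) (Localization.Away (ι t)) (ι b) =
        Localization.awayMap ι t (algebraMap A (Localization.Away t) b) := by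
      simp [Localization.awayMap, IsLocalization.Away.map, IsLocalization.map_eq]
    rw [this, ← hgb, map_mul, h0, zero_mul]
  obtain ⟨⟨_, j, rfl⟩, hj⟩ := (IsLocalization.map_eq_zero_iff (Submonoid.powers (ι t))
    (Localization.Away (ι t)) (ι b)).mp h1
  simp only at hj
  -- b'' = t^j b
  have hb2 : (t ^ j * b) ^ 2 = t ^ (n + j) * (t ^ j * b) := by
    have : (t ^ j * b) ^ 2 = t ^ j * t ^ j * b ^ 2 := by ring
    rw [this, hb]; ring
  have hgb2 : g * (algebraMap A (Localization.Away t) t) ^ (n + j) =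
      algebraMap A (Localization.Away t) (t ^ j * b) := by
    rw [map_mul, map_pow, ← hgb]; ring
  have hι0 : ι (t ^ j * b) = 0 := by rw [map_mul, map_pow]; exact hj
  obtain ⟨c, hc⟩ := exists_mul_of_evalₐ_algebraMap_eq_zero t (t ^ j * b) (n + j + 1)
    (by rw [← hι, hι0, map_zero])
  have hz := pow_mul_eq_zero_of_root_of_dvd ht (n + j) (t ^ j * b) c hb2 hc
  have : g * (algebraMap A (Localization.Away t) t) ^ (n + j) *
      (algebraMap A (Localization.Away t) t) ^ (n + j) = 0 := by
    rw [hgb2, ← map_pow, ← map_mul, mul_comm, hz, map_zero]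
  have hu := (hσ.pow (n + j))
  rw [hu.mul_left_eq_zero, hu.mul_left_eq_zero] at this
  exact this

end Groth.Agent.Lib.Seat67.HensIdem

namespace Groth.Agent.Lib.Seat67.HensIdem

variable {A : Type*} [CommRing A] (t : A)

theorem awayMap_algebraMap (b : A) :
    Localization.awayMap (algebraMap A (AdicCompletion (Ideal.span {t}) A)) t
      (algebraMap A (Localization.Away t) b) =
    algebraMap (AdicCompletion (Ideal.span {t}) A)
      (Localization.Away (algebraMap A (AdicCompletion (Ideal.span {t}) A) t))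
      (algebraMap A (AdicCompletion (Ideal.span {t}) A) b) := by
  simp [Localization.awayMap, IsLocalization.Away.map, IsLocalization.map_eq]

/-- Existence: every idempotent of `Â[1/t]` lifts to an idempotent of `A[1/t]`. -/
theorem exists_idem_lift [HenselianRing A (Ideal.span {t})]
    (e : Localization.Away (algebraMap A (AdicCompletion (Ideal.span {t}) A) t))
    (he : IsIdempotentElem e) :
    ∃ e₀ : Localization.Away t, IsIdempotentElem e₀ ∧
      Localization.awayMap (algebraMap A (AdicCompletion (Ideal.span {t}) A)) t e₀ = e := by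
  revert e
  set ι := algebraMap A (AdicCompletion (Ideal.span {t}) A) with hι
  intro e he
  have htJ : t ∈ (⊥ : Ideal A).jacobson :=
    HenselianRing.jac (I := Ideal.span {t}) (Ideal.subset_span (Set.mem_singleton t))
  obtain ⟨a, n, ha, hea⟩ := exists_rep (ι t) e he
  -- approximate `a` by `a₀ ∈ A` modulo `t^N`, `N = 3n+1`
  obtain ⟨a₀, ha₀⟩ := Ideal.Quotient.mk_surjective
    (AdicCompletion.evalₐ (Ideal.span {t}) (3 * n + 1) a)
  have hev : AdicCompletion.evalₐ (Ideal.span {t}) (3 * n + 1) (ι a₀) =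
      AdicCompletion.evalₐ (Ideal.span {t}) (3 * n + 1) a := by
    rw [hι, AdicCompletion.algebraMap_apply, Algebra.algebraMap_self_apply,
      AdicCompletion.evalₐ_of, ha₀]
  obtain ⟨y, hy⟩ := exists_mul_of_evalₐ_eq_zero t (ι a₀ - a) (3 * n + 1)
    (by rw [map_sub, hev, sub_self])
  obtain ⟨b, hb⟩ := exists_mul_of_evalₐ_algebraMap_eq_zero t (a₀ ^ 2 - t ^ n * a₀) (3 * n + 1) (by
    rw [← hι, map_sub, map_mul, map_pow, map_pow, map_sub, map_mul, map_pow, map_pow, hev,
      ← map_pow, ← map_pow, ← map_mul, ← map_sub, ha, sub_self, map_zero])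
  obtain ⟨a₁, z, ha₁, hz⟩ := exists_root_of_approx t n (3 * n + 1) (by omega) a₀ b hb
  have hσ : IsUnit (algebraMap A (Localization.Away t) t) :=
    IsLocalization.Away.algebraMap_isUnit t
  have hτ : IsUnit (algebraMap (AdicCompletion (Ideal.span {t}) A) (Localization.Away (ι t)) (ι t)) :=
    IsLocalization.Away.algebraMap_isUnit (ι t)
  obtain ⟨σ, hσu⟩ := hσ
  refine ⟨algebraMap A (Localization.Away t) a₁ * ↑(σ⁻¹ ^ n), ?_, ?_⟩
  · unfold IsIdempotentElem
    have : algebraMap A (Localization.Away t) a₁ * algebraMap A (Localization.Away t) a₁ =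
        (σ : Localization.Away t) ^ n * algebraMap A (Localization.Away t) a₁ := by
      rw [← map_mul, ← pow_two, ha₁, map_mul, map_pow, hσu]
    calc algebraMap A (Localization.Away t) a₁ * ↑(σ⁻¹ ^ n) *
          (algebraMap A (Localization.Away t) a₁ * ↑(σ⁻¹ ^ n))
        = (algebraMap A (Localization.Away t) a₁ * algebraMap A (Localization.Away t) a₁) *
            ↑(σ⁻¹ ^ n) * ↑(σ⁻¹ ^ n) := by ring
      _ = algebraMap A (Localization.Away t) a₁ * ((σ : Localization.Away t) ^ n * ↑(σ⁻¹ ^ n)) *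
            ↑(σ⁻¹ ^ n) := by rw [this]; ring
      _ = algebraMap A (Localization.Away t) a₁ * ↑(σ⁻¹ ^ n) := by
          rw [← Units.val_pow_eq_pow_val, ← Units.val_mul, ← mul_pow, mul_inv_cancel, one_pow,
            Units.val_one, mul_one]
  · -- compare after multiplying by τ^n
    have h1 : Localization.awayMap ι t (algebraMap A (Localization.Away t) a₁ * ↑(σ⁻¹ ^ n)) *
        algebraMap (AdicCompletion (Ideal.span {t}) A) (Localization.Away (ι t)) (ι t) ^ n =
        algebraMap (AdicCompletion (Ideal.span {t}) A) (Localization.Away (ι t)) (ι a₁) := by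
      rw [← awayMap_algebraMap, ← awayMap_algebraMap, ← map_pow, ← map_mul, ← hσu]
      congr 1
      rw [mul_assoc, ← Units.val_pow_eq_pow_val, ← Units.val_mul, ← mul_pow, inv_mul_cancel,
        one_pow, Units.val_one, mul_one]
    -- `ι a₁` and `a` agree up to torsion
    have h2 : ι t ^ (2 * n) * (ι a₁ - a) = 0 := by
      apply pow_mul_sub_eq_zero_of_roots (algebraMap_mem_jacobson t) n (n + 1) le_rfl a (ι a₁)
        (ι z + ι t ^ (2 * n) * y) ha
      · rw [← map_pow, ha₁, map_mul, map_pow]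
      · have : ι a₁ - a = ι (a₁ - a₀) + (ι a₀ - a) := by rw [map_sub]; ring
        rw [this, hy, hz, map_mul, map_pow]
        have : 3 * n + 1 - 2 * n = n + 1 := by omega
        rw [this]
        have : 3 * n + 1 = (n + 1) + 2 * n := by omega
        rw [this, pow_add]; ring
    have h3 : algebraMap (AdicCompletion (Ideal.span {t}) A) (Localization.Away (ι t)) (ι a₁) =
        algebraMap (AdicCompletion (Ideal.span {t}) A) (Localization.Away (ι t)) a := by
      have := congrArg (algebraMap (AdicCompletion (Ideal.span {t}) A) (Localization.Away (ι t))) h2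
      rw [map_mul, map_pow, map_zero, (hτ.pow (2 * n)).mul_right_eq_zero, map_sub, sub_eq_zero]
        at this
      exact this
    have h4 := h1.trans (h3.trans hea.symm)
    exact (hτ.pow n).mul_left_injective h4

end Groth.Agent.Lib.Seat67.HensIdem
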