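import Mathlib
import Groth.Agent.Lib.Seat67GrResidue
import Groth.Agent.Lib.Seat67HilbPoly

/-!
# Seat67: the Hilbert polynomial of a standard graded algebra over an Artinian local ring

`R` a Noetherian `ℤ`-graded `A`-algebra, `R_j = 0` for `j < 0`, `R_0 = A·1`, `R_+` generated by
`R_1`, `A` Artinian.

* `finite_piece`: the pieces are finite `A`-modules;
* `adjoin_eq_top_of_span`: a family spanning `R_1` generates `R` as an `A`-algebra;
* `exists_hilbPoly`: there is `P ∈ ℚ[X]` with `P(m) = ℓ_A(R_m)` for all large naturals `m`;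
* `exists_ne`: if moreover `A` is local and `dim R ≤ d` then `P(n) ≠ ℓ_A(R_n)` for some `n ≥ -d`.
-/

set_option autoImplicit false
set_option linter.unusedSectionVars false
set_option linter.style.haveILetI false

universe u

namespace Groth.Agent.Lib.Seat67.HilbArt

open DirectSum Polynomial
open Groth.Agent.Lib.Seat67.GrResidue
open Groth.Agent.Lib.Seat97.HilbStd Groth.Agent.Lib.Seat97.HilbMod
open Groth.Agent.Lib.Helper4.HilbFun

variable {A : Type u} [CommRing A] {R : Type u} [CommRing R] [Algebra A R]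
  (𝒜 : ℤ → Submodule A R) [GradedAlgebra 𝒜]
  (hpos : ∀ j : ℤ, j < 0 → 𝒜 j = ⊥) (h0 : 𝒜 0 = Submodule.span A {(1 : R)})
  (hirr : Ideal.span (⋃ j ∈ Set.Ioi (0 : ℤ), (𝒜 j : Set R)) =
    Ideal.span ((𝒜 1 : Submodule A R) : Set R))

include h0 in
theorem exists_decompose_zero_eq (a : R) : ∃ c : A, (decompose 𝒜 a 0 : R) = algebraMap A R c := by
  have h2 : ((decompose 𝒜 a 0 : 𝒜 0) : R) ∈ Submodule.span A {(1 : R)} := by
    rw [← h0]; exact SetLike.coe_mem _
  obtain ⟨c, hc⟩ := Submodule.mem_span_singleton.1 h2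
  exact ⟨c, by rw [← hc, Algebra.smul_def, mul_one]⟩

include h0 in
/-- the pieces of a Noetherian graded algebra with `R_0 = A·1` are finite over `A`. -/
theorem finite_piece [IsNoetherianRing R] (n : ℤ) : Module.Finite A (𝒜 n) := by
  classical
  have hfg : (Ideal.span (𝒜 n : Set R)).FG := IsNoetherian.noetherian _
  obtain ⟨t, htn, hspan⟩ := (Submodule.fg_span_iff_fg_span_finset_subset (𝒜 n : Set R)).1 hfg
  have key : (𝒜 n) ≤ Submodule.span A (t : Set R) := by
    intro b hb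
    have hb' : b ∈ Submodule.span R (t : Set R) := by
      rw [← hspan]; exact Submodule.subset_span hb
    obtain ⟨f, -, hf⟩ := Submodule.mem_span_finset.1 hb'
    have h1 : b = ∑ a ∈ t, ((decompose 𝒜 (f a) 0 : 𝒜 0) : R) * a := by
      have hbn : ((decompose 𝒜 b n : 𝒜 n) : R) = b := decompose_of_mem_same 𝒜 hb
      rw [← hbn, ← hf, decompose_sum, DFinsupp.finsetSum_apply, AddSubmonoidClass.coe_finsetSum]
      refine Finset.sum_congr rfl fun a ha => ?_
      have ha' : a ∈ 𝒜 n := htn ha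
      have := DirectSum.coe_decompose_mul_add_of_right_mem 𝒜 (a := f a) (i := 0) ha'
      rwa [zero_add] at this
    rw [h1]
    refine Submodule.sum_mem _ fun a ha => ?_
    obtain ⟨c, hc⟩ := exists_decompose_zero_eq 𝒜 h0 (f a)
    rw [hc, ← Algebra.smul_def]
    exact Submodule.smul_mem _ _ (Submodule.subset_span ha)
  have heq : (𝒜 n) = Submodule.span A (t : Set R) :=
    le_antisymm key (Submodule.span_le.2 htn)
  rw [heq]
  exact Module.Finite.span_of_finite A t.finite_toSet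

include hpos h0 hirr in
/-- a family spanning `R_1` generates `R` as an algebra. -/
theorem adjoin_eq_top_of_span {t : ℕ} (x : Fin t → R) (hx : ∀ i, x i ∈ 𝒜 1)
    (hspan : 𝒜 1 ≤ Submodule.span A (Set.range x)) : Algebra.adjoin A (Set.range x) = ⊤ := by
  classical
  have hx1 : ((𝒜 1 : Submodule A R) : Set R) ⊆ (Ideal.span (Set.range x) : Set R) := by
    intro z hz
    have h4 : Submodule.span A (Set.range x) ≤ (Ideal.span (Set.range x)).restrictScalars A :=
      Submodule.span_le.2 fun z hz => Ideal.subset_span hz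
    exact h4 (hspan hz)
  have hnat : ∀ m : ℕ, ∀ z ∈ 𝒜 (m : ℤ), z ∈ Algebra.adjoin A (Set.range x) := by
    intro m
    induction m with
    | zero =>
      intro z hz
      rw [Nat.cast_zero, h0] at hz
      obtain ⟨c, rfl⟩ := Submodule.mem_span_singleton.1 hz
      rw [Algebra.smul_def, mul_one]
      exact Subalgebra.algebraMap_mem _ c
    | succ m ih =>
      intro z hz
      have hz' : z ∈ 𝒜 ((m : ℤ) + 1) := by exact_mod_cast hz
      have h1 : z ∈ Ideal.span (⋃ j ∈ Set.Ioi (0 : ℤ), (𝒜 j : Set R)) :=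
        Ideal.subset_span (Set.mem_biUnion (Set.mem_Ioi.2 (by positivity : (0 : ℤ) < (m : ℤ) + 1)) hz')
      rw [hirr] at h1
      have h2 : z ∈ Ideal.span (Set.range x) := (Ideal.span_le.2 hx1) h1
      obtain ⟨c, hc⟩ := (Ideal.mem_span_range_iff_exists_fun).1 h2
      have h3 : z = ∑ i, ((decompose 𝒜 (c i) (m : ℤ) : 𝒜 (m : ℤ)) : R) * x i := by
        have hzn : ((decompose 𝒜 z ((m : ℤ) + 1) : 𝒜 ((m : ℤ) + 1)) : R) = z :=
          decompose_of_mem_same 𝒜 hz'
        rw [← hzn, ← hc, decompose_sum, DFinsupp.finsetSum_apply,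
          AddSubmonoidClass.coe_finsetSum]
        refine Finset.sum_congr rfl fun i _ => ?_
        exact DirectSum.coe_decompose_mul_add_of_right_mem 𝒜 (a := c i) (i := (m : ℤ)) (hx i)
      rw [h3]
      refine Subalgebra.sum_mem _ fun i _ => Subalgebra.mul_mem _ (ih _ (SetLike.coe_mem _)) ?_
      exact Algebra.subset_adjoin ⟨i, rfl⟩
  rw [eq_top_iff]
  intro r _
  rw [← DirectSum.sum_support_decompose 𝒜 r]
  refine Subalgebra.sum_mem _ fun j _ => ?_
  rcases lt_or_ge j 0 with hj | hj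
  · have : ((decompose 𝒜 r j : 𝒜 j) : R) ∈ (⊥ : Submodule A R) := by
      rw [← hpos j hj]; exact SetLike.coe_mem _
    rw [(Submodule.mem_bot A).1 this]
    exact Subalgebra.zero_mem _
  · obtain ⟨m, rfl⟩ := Int.eq_ofNat_of_zero_le hj
    exact hnat m _ (SetLike.coe_mem _)

section Serre

variable [IsArtinianRing A]

include hpos in
theorem grHyp {t : ℕ} (x : Fin t → R) (hx : ∀ i, x i ∈ 𝒜 1) :
    Groth.Agent.Lib.Helper5.HilbertSerre.GrHyp A R x R (fun m : ℕ => 𝒜 (m : ℤ)) t where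
  smul_mem i m v hv := by
    have h1 : x i * v ∈ 𝒜 (1 + (m : ℤ)) := SetLike.mul_mem_graded (hx i) hv
    have e : ((m + 1 : ℕ) : ℤ) = 1 + (m : ℤ) := by push_cast; ring
    rw [smul_eq_mul, e]
    exact h1
  indep := by
    have h1 : iSupIndep 𝒜 := (DirectSum.Decomposition.isInternal 𝒜).submodule_iSupIndep
    exact h1.comp (f := fun m : ℕ => (m : ℤ)) Nat.cast_injective
  top := by
    have h1 : iSup 𝒜 = ⊤ := (DirectSum.Decomposition.isInternal 𝒜).submodule_iSup_eq_top
    rw [eq_top_iff, ← h1]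
    refine iSup_le fun j => ?_
    rcases lt_or_ge j 0 with hj | hj
    · rw [hpos j hj]
      exact bot_le
    · obtain ⟨m, rfl⟩ := Int.eq_ofNat_of_zero_le hj
      exact le_iSup (fun m : ℕ => 𝒜 (m : ℤ)) m
  kill i hi := absurd i.2 (by omega)
  hmax p hp _ := IsArtinianRing.isMaximal_of_isPrime p

include hpos h0 hirr in
/-- **The Hilbert polynomial** over an Artinian base ring. -/
theorem exists_hilbPoly [IsNoetherianRing R] :
    ∃ (P : ℚ[X]) (N : ℕ), ∀ m : ℕ, N ≤ m →
      P.eval (m : ℚ) = ((Module.length A (𝒜 (m : ℤ))).toNat : ℚ) := by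
  haveI := finite_piece 𝒜 h0 1
  obtain ⟨t, s, hs⟩ := Module.Finite.exists_fin (R := A) (M := 𝒜 1)
  let x : Fin t → R := fun i => (s i : R)
  have hx : ∀ i, x i ∈ 𝒜 1 := fun i => SetLike.coe_mem _
  have hspan : 𝒜 1 ≤ Submodule.span A (Set.range x) := by
    intro y hy
    have h2 : (⟨y, hy⟩ : 𝒜 1) ∈ Submodule.span A (Set.range s) := by
      rw [hs]; trivial
    have h3 := Submodule.apply_mem_span_image_of_mem_span (𝒜 1).subtype h2
    refine Submodule.span_mono ?_ h3
    rintro _ ⟨_, ⟨i, rfl⟩, rfl⟩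
    exact ⟨i, rfl⟩
  obtain ⟨-, hpoly⟩ := Groth.Agent.Lib.Helper5.HilbertSerre.main (A₀ := A) (S := R) (x := x)
    (adjoin_eq_top_of_span 𝒜 hpos h0 hirr x hx hspan) t le_rfl R (fun m : ℕ => 𝒜 (m : ℤ))
    (grHyp 𝒜 hpos x hx)
  obtain ⟨c, N, hc⟩ := (Groth.Agent.Lib.Helper5.PolyLike.isPolyLike_iff t _).1 hpoly
  refine ⟨∑ i ∈ Finset.range t, (c i : ℚ) • Polynomial.preHilbertPoly ℚ i 0, N,
    fun m hm => ?_⟩
  rw [Groth.Agent.Lib.Helper5.HilbertSamuel.eval_sum_preHilbertPoly, ← hc m hm]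
  push_cast
  rfl

end Serre

section Bound

/-- a polynomial whose values at large naturals are bounded by `C (m + b + 1)^e` has degree
`≤ e`. -/
theorem natDegree_le_of_bound (P : ℚ[X]) (N : ℕ) (f : ℕ → ℕ)
    (hP : ∀ m : ℕ, N ≤ m → P.eval (m : ℚ) = (f m : ℚ)) (C b e : ℕ)
    (hf : ∀ m : ℕ, f m ≤ C * (m + b + 1) ^ e) : P.natDegree ≤ e := by
  refine natDegree_le_of_abs_eval_le P e ((C : ℚ) * ((b : ℚ) + 1) ^ e) N fun m hm => ?_
  rw [hP m hm, abs_of_nonneg (by positivity)]
  have h3 : ((f m : ℕ) : ℚ) ≤ (C : ℚ) * (((m + b + 1 : ℕ) : ℚ)) ^ e := by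
    exact_mod_cast hf m
  refine h3.trans ?_
  rw [mul_assoc, ← mul_pow]
  refine mul_le_mul_of_nonneg_left (pow_le_pow_left₀ (by positivity) ?_ e) (by positivity)
  push_cast
  have hm0 : (0 : ℚ) ≤ (m : ℚ) := by positivity
  have hb0 : (0 : ℚ) ≤ (b : ℚ) := by positivity
  nlinarith [mul_nonneg hm0 hb0]

variable [IsArtinianRing A] [IsLocalRing A] [IsNoetherianRing R] [Nontrivial R]

include h0 in
theorem length_zero_ne_zero : (Module.length A (𝒜 0)).toNat ≠ 0 := by
  haveI := finite_piece 𝒜 h0 0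
  rw [Ne, ENat.toNat_eq_zero, not_or]
  refine ⟨?_, Module.length_ne_top⟩
  rw [Module.length_eq_zero_iff]
  intro hsub
  have h1 : (⟨1, SetLike.GradedOne.one_mem⟩ : 𝒜 0) = 0 := Subsingleton.elim _ _
  exact one_ne_zero (congrArg Subtype.val h1)

include hpos in
theorem length_neg {j : ℤ} (hj : j < 0) : (Module.length A (𝒜 j)).toNat = 0 := by
  rw [hpos j hj, ENat.toNat_eq_zero]
  left
  rw [Module.length_eq_zero_iff]
  infer_instance

include h0 in
/-- the Nakayama bound in `ℕ`. -/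
theorem length_toNat_le (n : ℤ) :
    (Module.length A (𝒜 n)).toNat ≤
      Module.finrank (A ⧸ IsLocalRing.maximalIdeal A)
        (rpiece 𝒜 (IsLocalRing.maximalIdeal A) n) * (Module.length A A).toNat := by
  haveI := finite_piece 𝒜 h0 n
  have h := length_le 𝒜 n
  have htop : Module.length A A ≠ ⊤ := Module.length_ne_top
  have hne : (Module.finrank (A ⧸ IsLocalRing.maximalIdeal A)
      (rpiece 𝒜 (IsLocalRing.maximalIdeal A) n) : ℕ∞) * Module.length A A ≠ ⊤ :=
    WithTop.mul_ne_top (ENat.natCast_ne_top _) htop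
  have h2 := ENat.toNat_le_toNat h hne
  rwa [ENat.toNat_mul, ENat.toNat_natCast] at h2

include hpos h0 hirr in
/-- **The Hilbert function differs from the Hilbert polynomial in some degree `≥ -dim R`.** -/
theorem exists_ne (d : ℕ) (hd : ringKrullDim R ≤ (d : WithBot ℕ∞)) (P : ℚ[X]) (N : ℕ)
    (hP : ∀ m : ℕ, N ≤ m → P.eval (m : ℚ) = ((Module.length A (𝒜 (m : ℤ))).toNat : ℚ)) :
    ∃ n : ℤ, -(d : ℤ) ≤ n ∧ P.eval (n : ℚ) ≠ ((Module.length A (𝒜 n)).toNat : ℚ) := by
  classical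
  by_contra hcon
  push Not at hcon
  set 𝔪 := IsLocalRing.maximalIdeal A with h𝔪
  letI : Field (A ⧸ 𝔪) := Ideal.Quotient.field 𝔪
  letI : GradedAlgebra (rpiece 𝒜 𝔪) := gradedAlgebra 𝒜 𝔪
  have hpos' : ∀ j : ℤ, j < 0 → rpiece 𝒜 𝔪 j = ⊥ := fun j hj => rpiece_eq_bot 𝒜 𝔪 (hpos j hj)
  have h0' := rpiece_zero 𝒜 𝔪 h0
  have hirr' := irr_rpiece 𝒜 𝔪 hirr
  haveI : Module.Finite (A ⧸ 𝔪) (rpiece 𝒜 𝔪 1) := by
    haveI := finite_piece 𝒜 h0 1
    exact finite_rpiece 𝒜 1
  obtain ⟨n, y, hy⟩ := exists_isStd (rpiece 𝒜 𝔪) hpos' h0' hirr'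
  have hdim : ringKrullDim (R ⧸ 𝔪.map (algebraMap A R)) ≤ (d : WithBot ℕ∞) :=
    (ringKrullDim_quotient_le _).trans hd
  have hsupp : Module.supportDim (R ⧸ 𝔪.map (algebraMap A R)) (R ⧸ 𝔪.map (algebraMap A R)) ≤
      (d : WithBot ℕ∞) := by
    rw [Module.supportDim_self_eq_ringKrullDim]
    exact hdim
  set L := (Module.length A A).toNat with hL
  -- the polynomial vanishes
  have hP0 : P = 0 := by
    rcases d with _ | e
    · obtain ⟨b, hb⟩ := exists_finrank_eq_zero (rpiece 𝒜 𝔪) (rpiece 𝒜 𝔪) y hy hsupp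
      apply Polynomial.eq_zero_of_infinite_isRoot
      have hsub : ((fun m : ℕ => (m : ℚ)) '' Set.Ici (max N b.toNat)) ⊆ {t | P.IsRoot t} := by
        rintro _ ⟨m, hm, rfl⟩
        have hm' : max N b.toNat ≤ m := hm
        have h1 : N ≤ m := (le_max_left _ _).trans hm'
        have h2 : b ≤ (m : ℤ) := by
          have := (le_max_right N b.toNat).trans hm'
          omega
        show P.eval (m : ℚ) = 0
        have h3 := length_toNat_le 𝒜 h0 (m : ℤ)
        rw [hb (m : ℤ) h2, zero_mul] at h3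
        rw [hP m h1, Nat.le_zero.1 h3]
        rfl
      exact Set.Infinite.mono hsub ((Set.Ici_infinite _).image (Nat.cast_injective.injOn))
    · obtain ⟨C, b, hCb⟩ := exists_finrank_le (rpiece 𝒜 𝔪) (rpiece 𝒜 𝔪) y hy e hsupp
      have hdeg : P.natDegree ≤ e := by
        refine natDegree_le_of_bound P N (fun m => (Module.length A (𝒜 (m : ℤ))).toNat) hP
          (C * L) b e fun m => ?_
        have h3 := length_toNat_le 𝒜 h0 (m : ℤ)
        have h1 := hCb (m : ℤ)
        have h2 : ((m : ℤ) + (b : ℤ)).toNat = m + b := by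
          have : ((m : ℤ) + (b : ℤ)) = ((m + b : ℕ) : ℤ) := by push_cast; rfl
          rw [this, Int.toNat_natCast]
        rw [h2] at h1
        calc (Module.length A (𝒜 (m : ℤ))).toNat
            ≤ Module.finrank (A ⧸ 𝔪) (rpiece 𝒜 𝔪 (m : ℤ)) * L := h3
          _ ≤ C * (m + b + 1) ^ e * L := Nat.mul_le_mul_right _ h1
          _ = C * L * (m + b + 1) ^ e := by ring
      apply Polynomial.eq_zero_of_natDegree_lt_card_of_eval_eq_zero' P
        ((Finset.Icc 1 (e + 1)).image fun j : ℕ => -(j : ℚ))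
      · intro t ht
        obtain ⟨j, hj, rfl⟩ := Finset.mem_image.1 ht
        rw [Finset.mem_Icc] at hj
        have h1 := hcon (-(j : ℤ)) (by push_cast; omega)
        rw [length_neg 𝒜 hpos (by omega)] at h1
        simpa using h1
      · rw [Finset.card_image_of_injective]
        · simp only [Nat.card_Icc, add_tsub_cancel_right]
          omega
        · intro a b hab
          have : (a : ℚ) = (b : ℚ) := neg_injective hab
          exact_mod_cast this
  have h1 := hcon 0 (by omega)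
  rw [hP0, eval_zero] at h1
  have h2 := length_zero_ne_zero 𝒜 h0
  apply h2
  exact_mod_cast h1.symm

end Bound

end Groth.Agent.Lib.Seat67.HilbArt
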