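import Mathlib.Algebra.Category.Ring.Under.Basic
import Mathlib.CategoryTheory.Filtered.Basic
import Mathlib.CategoryTheory.Limits.Types.Filtered
import Mathlib.CategoryTheory.Limits.Preserves.Basic
import Mathlib.RingTheory.FinitePresentation
import Mathlib.Algebra.Algebra.Subalgebra.Directed
import Mathlib.RingTheory.Adjoin.FG

/-!
# Algebras as iterated filtered colimits of finitely presented algebras (seat 67)

* `fgDiagram A B`, `fgCocone A B`, `fgIsColimit A B`: an algebra is the filtered colimit of its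
  finitely generated subalgebras, in `Under (CommRingCat.of A)` (adapted from the prior team's
  `Helper14IndFG`, with light imports).
* `idDiagram π`, `idCocone π`, `idIsColimit π`: for a surjection `π : P →ₐ[A] S`, `S` is the filtered
  colimit of the `P ⧸ I'`, `I'` running over the finitely generated ideals contained in `ker π`.
* `exists_fp_lift`: an element of `F(B)`, `F` commuting with filtered colimits, comes from
  `F(A[x₁..x_k]/(f₁..f_l))`.
-/

set_option autoImplicit false
universe u
open CategoryTheory CategoryTheory.Limits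

namespace Groth.Agent.Lib.Seat67.IndFP

section FG

variable (K B : Type u) [CommRing K] [CommRing B] [Algebra K B]

/-- Index category: finitely generated subalgebras. -/
abbrev FGSub := {S : Subalgebra K B // S.FG}

instance : Nonempty (FGSub K B) := ⟨⟨⊥, Subalgebra.fg_bot⟩⟩

instance : IsDirected (FGSub K B) (· ≤ ·) :=
  ⟨fun S T => ⟨⟨S.1 ⊔ T.1, S.2.sup T.2⟩,
    (le_sup_left : S.1 ≤ S.1 ⊔ T.1), (le_sup_right : T.1 ≤ S.1 ⊔ T.1)⟩⟩

instance : IsFiltered (FGSub K B) := isFiltered_of_directed_le_nonempty _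

/-- The diagram of finitely generated subalgebras. -/
noncomputable def fgDiagram : FGSub K B ⥤ Under (CommRingCat.of K) where
  obj j := Under.mk (CommRingCat.ofHom (algebraMap K j.1))
  map {j k} f := Under.homMk (CommRingCat.ofHom (Subalgebra.inclusion (leOfHom f)).toRingHom) (by
    ext x
    rfl)
  map_id j := by
    ext x
    rfl
  map_comp f g := by
    ext x
    rfl

/-- The cocone with point `B`. -/
noncomputable def fgCocone : Cocone (fgDiagram K B) where
  pt := Under.mk (CommRingCat.ofHom (algebraMap K B))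
  ι :=
    { app := fun j => Under.homMk (CommRingCat.ofHom j.1.val.toRingHom) (by
        ext x
        rfl)
      naturality := by
        intro j k f
        ext x
        rfl }

theorem mem_fg (b : B) : ∃ j : FGSub K B, b ∈ j.1 := by
  have hfg : (Algebra.adjoin K ({b} : Set B)).FG := by
    simpa using Subalgebra.fg_adjoin_finset (R := K) ({b} : Finset B)
  exact ⟨⟨Algebra.adjoin K {b}, hfg⟩, Algebra.subset_adjoin rfl⟩

theorem top_le_iSup : (⊤ : Subalgebra K B) ≤ ⨆ j : FGSub K B, j.1 := by
  intro b _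
  obtain ⟨j, hj⟩ := mem_fg K B b
  exact (le_iSup (fun j : FGSub K B => j.1) j) hj

theorem directed_fg : Directed (· ≤ ·) (fun j : FGSub K B => j.1) := by
  intro S T
  exact ⟨⟨S.1 ⊔ T.1, S.2.sup T.2⟩, le_sup_left, le_sup_right⟩

variable {K B}

/-- The algebra structure on the point of a cocone. -/
@[reducible] def ptAlg (s : Cocone (fgDiagram K B)) : Algebra K s.pt.right :=
  s.pt.hom.hom.toAlgebra

/-- The legs of a cocone as algebra maps. -/
noncomputable def fgLeg (s : Cocone (fgDiagram K B)) (j : FGSub K B) :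
    letI := ptAlg s; j.1 →ₐ[K] s.pt.right :=
  letI := ptAlg s
  { (s.ι.app j).right.hom with
    commutes' := fun r => by
      have := congr($(Under.w (s.ι.app j)).hom r)
      exact this }

theorem fgLeg_compat (s : Cocone (fgDiagram K B)) (i j : FGSub K B) (h : i.1 ≤ j.1) :
    letI := ptAlg s; fgLeg s i = (fgLeg s j).comp (Subalgebra.inclusion h) := by
  let _ := ptAlg s
  ext x
  have := congr($(s.w (homOfLE h : i ⟶ j)).right.hom x)
  exact this.symm

/-- The induced map out of `B`. -/
noncomputable def fgDescHom (s : Cocone (fgDiagram K B)) : letI := ptAlg s; B →ₐ[K] s.pt.right :=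
  letI := ptAlg s
  (Subalgebra.iSupLift (fun j : FGSub K B => j.1) (directed_fg K B) (fgLeg s) (fgLeg_compat s) ⊤
    (top_le_iSup K B)).comp (Subalgebra.topEquiv (R := K) (A := B)).symm.toAlgHom

theorem fgDescHom_apply (s : Cocone (fgDiagram K B)) (j : FGSub K B) (b : B) (hb : b ∈ j.1) :
    fgDescHom s b = (s.ι.app j).right.hom ⟨b, hb⟩ := by
  let _ := ptAlg s
  change Subalgebra.iSupLift (fun j : FGSub K B => j.1) (directed_fg K B) (fgLeg s) (fgLeg_compat s) ⊤
    (top_le_iSup K B) ⟨b, Algebra.mem_top⟩ = _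
  exact Subalgebra.iSupLift_of_mem (K := fun j : FGSub K B => j.1) (i := j)
    (⟨b, Algebra.mem_top⟩ : (⊤ : Subalgebra K B)) hb

variable (K B)

/-- The cocone of finitely generated subalgebras is a colimit. -/
noncomputable def fgIsColimit : IsColimit (fgCocone K B) where
  desc s := letI := ptAlg s; Under.homMk (CommRingCat.ofHom (fgDescHom s).toRingHom) (by
    ext r
    exact (fgDescHom s).commutes r)
  fac s j := by
    ext x
    exact fgDescHom_apply s j x.1 x.2
  uniq s m hm := by
    ext b
    obtain ⟨j, hj⟩ := mem_fg K B b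
    have h1 := congr($(hm j).right.hom ⟨b, hj⟩)
    refine Eq.trans ?_ (fgDescHom_apply s j b hj).symm
    exact h1

end FG


section Ideal

variable {A : Type u} [CommRing A] {P S : Type u} [CommRing P] [Algebra A P] [CommRing S]
  [Algebra A S] (π : P →ₐ[A] S)

/-- Index category: finitely generated ideals contained in the kernel. -/
abbrev FGId := {I : Ideal P // I.FG ∧ I ≤ RingHom.ker π.toRingHom}

instance : Nonempty (FGId π) := ⟨⟨⊥, Submodule.fg_bot, bot_le⟩⟩

instance : IsDirected (FGId π) (· ≤ ·) :=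
  ⟨fun I J => ⟨⟨I.1 ⊔ J.1, Submodule.FG.sup I.2.1 J.2.1, sup_le I.2.2 J.2.2⟩,
    (le_sup_left : I.1 ≤ I.1 ⊔ J.1), (le_sup_right : J.1 ≤ I.1 ⊔ J.1)⟩⟩

instance : IsFiltered (FGId π) := isFiltered_of_directed_le_nonempty _

/-- The diagram of quotients by finitely generated subideals of the kernel. -/
noncomputable def idDiagram : FGId π ⥤ Under (CommRingCat.of A) where
  obj I := Under.mk (CommRingCat.ofHom (algebraMap A (P ⧸ I.1)))
  map {I J} f := Under.homMk (CommRingCat.ofHom (Ideal.Quotient.factor (leOfHom f))) (by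
    ext x
    rfl)
  map_id I := by
    ext x
    obtain ⟨x, rfl⟩ := Ideal.Quotient.mk_surjective x
    rfl
  map_comp f g := by
    ext x
    obtain ⟨x, rfl⟩ := Ideal.Quotient.mk_surjective x
    rfl

/-- The cocone with point `S`. -/
noncomputable def idCocone : Cocone (idDiagram π) where
  pt := Under.mk (CommRingCat.ofHom (algebraMap A S))
  ι :=
    { app := fun I => Under.homMk
        (CommRingCat.ofHom (Ideal.Quotient.lift I.1 π.toRingHom (fun x hx => I.2.2 hx))) (by
          ext x
          exact π.commutes x)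
      naturality := by
        intro I J f
        ext x
        obtain ⟨x, rfl⟩ := Ideal.Quotient.mk_surjective x
        rfl }

variable {π}

/-- The bottom leg of a cocone, as a ring map out of `P`. -/
noncomputable def idLeg₀ (s : Cocone (idDiagram π)) : P →+* s.pt.right :=
  (s.ι.app ⟨⊥, Submodule.fg_bot, bot_le⟩).right.hom.comp (Ideal.Quotient.mk ⊥)

theorem idLeg₀_eq (s : Cocone (idDiagram π)) (I : FGId π) (x : P) :
    idLeg₀ s x = (s.ι.app I).right.hom (Ideal.Quotient.mk I.1 x) := by
  have h : (⟨⊥, Submodule.fg_bot, bot_le⟩ : FGId π) ≤ I := (bot_le : (⊥ : Ideal P) ≤ I.1)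
  have := congr($(s.w (homOfLE h)).right.hom (Ideal.Quotient.mk ⊥ x))
  exact this.symm

theorem idLeg₀_ker (s : Cocone (idDiagram π)) (x : P) (hx : x ∈ RingHom.ker π.toRingHom) :
    idLeg₀ s x = 0 := by
  have hI : (Ideal.span {x} : Ideal P).FG ∧ Ideal.span {x} ≤ RingHom.ker π.toRingHom :=
    ⟨⟨{x}, by simp⟩, (Ideal.span_singleton_le_iff_mem _).mpr hx⟩
  rw [idLeg₀_eq s ⟨Ideal.span {x}, hI⟩ x]
  have h0 : Ideal.Quotient.mk (Ideal.span {x}) x = 0 :=
    Ideal.Quotient.eq_zero_iff_mem.mpr (Ideal.mem_span_singleton_self x)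
  exact (congrArg (s.ι.app ⟨Ideal.span {x}, hI⟩).right.hom h0).trans (map_zero _)

variable (hπ : Function.Surjective π)

/-- The induced ring map out of `S`. -/
noncomputable def idDescHom (s : Cocone (idDiagram π)) : S →+* s.pt.right :=
  (Ideal.Quotient.lift (RingHom.ker π.toRingHom) (idLeg₀ s) (idLeg₀_ker s)).comp
    (RingHom.quotientKerEquivOfSurjective (f := π.toRingHom) hπ).symm.toRingHom

theorem idDescHom_apply (s : Cocone (idDiagram π)) (x : P) :
    idDescHom hπ s (π x) = idLeg₀ s x := by
  have : (RingHom.quotientKerEquivOfSurjective (f := π.toRingHom) hπ).symm (π x) =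
      Ideal.Quotient.mk _ x := by
    rw [RingEquiv.symm_apply_eq]
    rfl
  change Ideal.Quotient.lift (RingHom.ker π.toRingHom) (idLeg₀ s) (idLeg₀_ker s)
    ((RingHom.quotientKerEquivOfSurjective (f := π.toRingHom) hπ).symm (π x)) = _
  rw [this, Ideal.Quotient.lift_mk]

variable (π)

/-- The cocone of quotients by finitely generated subideals of the kernel is a colimit. -/
noncomputable def idIsColimit : IsColimit (idCocone π) where
  desc s := Under.homMk (CommRingCat.ofHom (idDescHom hπ s)) (by
    ext r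
    have h1 : (algebraMap A S r) = π (algebraMap A P r) := (π.commutes r).symm
    change idDescHom hπ s (algebraMap A S r) = _
    rw [h1, idDescHom_apply]
    have := congr($(Under.w (s.ι.app ⟨⊥, Submodule.fg_bot, bot_le⟩)).hom r)
    exact this)
  fac s I := by
    ext x
    obtain ⟨x, rfl⟩ := Ideal.Quotient.mk_surjective x
    change idDescHom hπ s (π x) = _
    rw [idDescHom_apply, idLeg₀_eq s I]
  uniq s m hm := by
    ext b
    obtain ⟨x, rfl⟩ := hπ b
    have h1 := congr($(hm ⟨⊥, Submodule.fg_bot, bot_le⟩).right.hom (Ideal.Quotient.mk ⊥ x))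
    refine Eq.trans ?_ (idDescHom_apply hπ s x).symm
    exact h1

end Ideal


section Main

variable {A : Type u} [CommRing A]

/-- An element of `F(B)`, for `F` commuting with filtered colimits, comes from a finitely presented
`A`-algebra `A[x₁..x_k]/I'` mapping to `B`. -/
theorem exists_fp_lift (F : Under (CommRingCat.of A) ⥤ Type u)
    (hF : ∀ (J : Type u) [SmallCategory J] [IsFiltered J], PreservesColimitsOfShape J F)
    (B : Type u) [CommRing B] [Algebra A B]
    (ξ : F.obj (Under.mk (CommRingCat.ofHom (algebraMap A B)))) :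
    ∃ (k : ℕ) (I' : Ideal (MvPolynomial (Fin k) A)) (_ : I'.FG)
      (g : Under.mk (CommRingCat.ofHom (algebraMap A (MvPolynomial (Fin k) A ⧸ I'))) ⟶
        Under.mk (CommRingCat.ofHom (algebraMap A B)))
      (ξ' : F.obj (Under.mk (CommRingCat.ofHom (algebraMap A (MvPolynomial (Fin k) A ⧸ I'))))),
      F.map g ξ' = ξ := by
  -- step 1: finitely generated subalgebras
  have h1 := isColimitOfPreserves F (fgIsColimit A B)
  obtain ⟨j, ξj, hξj⟩ := Types.jointly_surjective_of_isColimit h1 ξ
  -- step 2: a presentation of the subalgebra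
  have hft : Algebra.FiniteType A j.1 := (Subalgebra.fg_iff_finiteType j.1).mp j.2
  obtain ⟨k, π, hπ⟩ := Algebra.FiniteType.iff_quotient_mvPolynomial''.mp hft
  have h2 := isColimitOfPreserves F (idIsColimit π hπ)
  obtain ⟨I', ξ', hξ'⟩ := Types.jointly_surjective_of_isColimit h2 ξj
  let g1 : Under.mk (CommRingCat.ofHom (algebraMap A (MvPolynomial (Fin k) A ⧸ I'.1))) ⟶
      Under.mk (CommRingCat.ofHom (algebraMap A j.1)) := (idCocone π).ι.app I'
  let g2 : Under.mk (CommRingCat.ofHom (algebraMap A j.1)) ⟶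
      Under.mk (CommRingCat.ofHom (algebraMap A B)) := (fgCocone A B).ι.app j
  let ξ₁ : F.obj (Under.mk (CommRingCat.ofHom (algebraMap A (MvPolynomial (Fin k) A ⧸ I'.1)))) := ξ'
  let ξ₂ : F.obj (Under.mk (CommRingCat.ofHom (algebraMap A j.1))) := ξj
  have e1 : F.map g1 ξ₁ = ξ₂ := hξ'
  have e2 : F.map g2 ξ₂ = ξ := hξj
  refine ⟨k, I'.1, I'.2.1, g1 ≫ g2, ξ₁, ?_⟩
  rw [Functor.map_comp_apply, e1, e2]

end Main

end Groth.Agent.Lib.Seat67.IndFP
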