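import Groth.Agent.Lib.Helper28DepthBC
import Groth.Agent.Lib.Helper28DepthSk

set_option autoImplicit false

/-!
# Depth along a finite split extension with equal heights in the fibres (seat 67)

`A → R` finite, both Noetherian, with an `A`-linear retraction `E : R → A` (e.g. a Reynolds
operator) and `ht (Q ∩ A) ≤ ht Q` for all primes `Q` of `R` (e.g. going-down).  Then
Cohen–Macaulayness and Serre's conditions descend from `R` to `A`, and `R` is a maximal
Cohen–Macaulay `A`-module when `R` is Cohen–Macaulay.
-/

universe u

namespace Groth.Agent.Lib.Seat67.InvCM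

open RingTheory.Sequence Groth.Agent.Lib.Helper28

variable {A R : Type u} [CommRing A] [CommRing R] [Algebra A R]
  (E : R →ₗ[A] A) (hE : ∀ a : A, E (algebraMap A R a) = a)

include hE in
/-- Purity: every ideal of `A` is contracted from `R`. -/
theorem comap_map_le (I : Ideal A) :
    (I.map (algebraMap A R)).comap (algebraMap A R) ≤ I := by
  have key : ∀ x ∈ I.map (algebraMap A R), ∀ r : R, E (r * x) ∈ I := by
    intro x hx
    induction hx using Submodule.span_induction with
    | mem x hx =>
      obtain ⟨i, hi, rfl⟩ := hx
      intro r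
      have : r * algebraMap A R i = i • r := by rw [Algebra.smul_def, mul_comm]
      rw [this, map_smul, smul_eq_mul]
      exact I.mul_mem_right _ hi
    | zero => intro r; simp
    | add x y _ _ hx hy => intro r; rw [mul_add, map_add]; exact I.add_mem (hx r) (hy r)
    | smul s x _ hx => intro r; rw [smul_eq_mul, ← mul_assoc]; exact hx (r * s)
  intro a ha
  have := key _ (Ideal.mem_comap.mp ha) 1
  rwa [one_mul, hE] at this

include hE in
theorem algebraMap_injective : Function.Injective (algebraMap A R) := by
  intro a b hab
  rw [← hE a, ← hE b, hab]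

include hE in
/-- Weakly regular sequences on `R` (as an `A`-module) are weakly regular on `A`. -/
theorem isWeaklyRegular_self_of_isWeaklyRegular {ys : List A} (h : IsWeaklyRegular R ys) :
    IsWeaklyRegular A ys := by
  refine ⟨fun i hi => ?_⟩
  rw [isSMulRegular_quotient_iff_mem_of_smul_mem]
  intro a ha
  have hR := h.regular_mod_prev i hi
  rw [isSMulRegular_quotient_iff_mem_of_smul_mem] at hR
  rw [smul_eq_mul, Ideal.mul_top] at ha ⊢
  have h2 := hR (algebraMap A R a) (by
    rw [Ideal.smul_top_eq_map, Submodule.restrictScalars_mem, Algebra.smul_def, ← map_mul]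
    exact Ideal.mem_map_of_mem _ ha)
  rw [Ideal.smul_top_eq_map, Submodule.restrictScalars_mem] at h2
  exact comap_map_le E hE _ h2

include hE in
theorem map_ne_top {a : Ideal A} (ha : a ≠ ⊤) : a.map (algebraMap A R) ≠ ⊤ := by
  intro h
  apply ha
  rw [eq_top_iff]
  refine le_trans ?_ (comap_map_le E hE a)
  rw [h, Ideal.comap_top]

include hE in
theorem smul_top_ne_top {a : Ideal A} (ha : a ≠ ⊤) : a • (⊤ : Submodule A R) ≠ ⊤ := by
  intro h
  apply map_ne_top E hE ha
  rw [Ideal.smul_top_eq_map] at h
  have h1 : (1 : R) ∈ (a.map (algebraMap A R)).restrictScalars A := by rw [h]; trivial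
  exact (Ideal.eq_top_iff_one _).mpr h1

include hE in
/-- The depth of `A` along an ideal is at least the depth of `R`. -/
theorem idealDepth_le_idealDepth_self {a : Ideal A} (ha : a ≠ ⊤) :
    LocCoh.idealDepth a R ≤ LocCoh.idealDepth a A := by
  rw [idealDepth_eq_iSup_of_smul_top_ne_top a R (smul_top_ne_top E hE ha)]
  refine iSup₂_le fun ys hys => ?_
  exact length_le_idealDepth (isWeaklyRegular_self_of_isWeaklyRegular E hE hys.1) hys.2

section Heights

variable [IsNoetherianRing A] [IsNoetherianRing R] [Module.Finite A R]
  (hEH : ∀ (Q : Ideal R) [Q.IsPrime], (Q.comap (algebraMap A R)).height ≤ Q.height)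

omit [IsNoetherianRing A] [IsNoetherianRing R] [Module.Finite A R] in
include hEH in
theorem height_le_height_map (a : Ideal A) : a.height ≤ (a.map (algebraMap A R)).height := by
  rw [Ideal.height_eq_inf_minimalPrimes (a.map (algebraMap A R))]
  refine le_iInf₂ fun Q hQ => ?_
  have hQp : Q.IsPrime := hQ.1.1
  refine le_trans (Ideal.height_mono ?_) (hEH Q)
  exact le_trans Ideal.le_comap_map (Ideal.comap_mono hQ.1.2)

/-- `depth_a A ≤ ht a` in a Noetherian ring. -/
theorem idealDepth_self_le_height (a : Ideal A) :
    LocCoh.idealDepth a A ≤ a.height := by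
  rw [Ideal.height_eq_inf_minimalPrimes]
  refine le_iInf₂ fun p hp => ?_
  have hpp : p.IsPrime := hp.1.1
  refine le_trans (idealDepth_le_depth_localization p A hp.1.2) ?_
  rw [depth_localizedModule_self]
  have h := depth_le_supportDim (R := Localization.AtPrime p) (M := Localization.AtPrime p)
  rw [supportDim_localization_self] at h
  exact WithBot.coe_le_coe.mp h

include hE hEH in
/-- If `R` is Cohen–Macaulay, the `a`-depth of the `A`-module `R` is at least `ht a`. -/
theorem height_le_idealDepth_of_isCohenMacaulayRing (hR : LocCoh.IsCohenMacaulayRing R)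
    {a : Ideal A} (ha : a ≠ ⊤) : a.height ≤ LocCoh.idealDepth a R := by
  rw [idealDepth_restrictScalars_eq_idealDepth_map (B := R) a R,
    idealDepth_self_eq_height_of_isCohenMacaulayRing hR _ (map_ne_top E hE ha)]
  exact height_le_height_map hEH a

include hE hEH in
/-- **Descent of Cohen–Macaulayness.** -/
theorem isCohenMacaulayRing_of_retraction (hR : LocCoh.IsCohenMacaulayRing R) :
    LocCoh.IsCohenMacaulayRing A := by
  apply isCohenMacaulayRing_of_forall_idealDepth_eq_height
  intro a ha
  refine le_antisymm (idealDepth_self_le_height a) ?_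
  exact le_trans (height_le_idealDepth_of_isCohenMacaulayRing E hE hEH hR ha)
    (idealDepth_le_idealDepth_self E hE ha)

omit [IsNoetherianRing A] [IsNoetherianRing R] in
include hE in
theorem nontrivial_localizedModule (p : Ideal A) [p.IsPrime] :
    Nontrivial (LocalizedModule p.primeCompl R) := by
  rw [← Module.mem_support_iff (p := ⟨p, inferInstance⟩), Module.support_eq_zeroLocus]
  have : Module.annihilator A R = ⊥ := by
    rw [eq_bot_iff]
    intro a ha
    rw [Module.mem_annihilator] at ha
    have := ha 1
    rw [Algebra.smul_def, mul_one] at this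
    exact algebraMap_injective E hE (by rw [this, map_zero])
  rw [this]
  simp

include hE hEH in
/-- `R` is a maximal Cohen–Macaulay `A`-module. -/
theorem isCohenMacaulayModule_localizedModule (hR : LocCoh.IsCohenMacaulayRing R)
    (p : Ideal A) [p.IsPrime] :
    LocCoh.IsCohenMacaulayModule (Localization.AtPrime p) (LocalizedModule p.primeCompl R) ∧
      Module.supportDim (Localization.AtPrime p) (LocalizedModule p.primeCompl R) =
        ringKrullDim (Localization.AtPrime p) := by
  have hnt := nontrivial_localizedModule E hE p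
  have h1 : p.height ≤ LocCoh.depth (Localization.AtPrime p) (LocalizedModule p.primeCompl R) :=
    le_trans (height_le_idealDepth_of_isCohenMacaulayRing E hE hEH hR
      (Ideal.IsPrime.ne_top inferInstance)) (idealDepth_le_depth_localization p R le_rfl)
  have h2 : ((LocCoh.depth (Localization.AtPrime p) (LocalizedModule p.primeCompl R) : ℕ∞) :
      WithBot ℕ∞) ≤ Module.supportDim (Localization.AtPrime p)
        (LocalizedModule p.primeCompl R) := depth_le_supportDim
  have h3 : Module.supportDim (Localization.AtPrime p) (LocalizedModule p.primeCompl R) ≤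
      ringKrullDim (Localization.AtPrime p) := Module.supportDim_le_ringKrullDim _ _
  have h4 : ringKrullDim (Localization.AtPrime p) = ((p.height : ℕ∞) : WithBot ℕ∞) :=
    IsLocalization.AtPrime.ringKrullDim_eq_height p (Localization.AtPrime p)
  have h5 : ((p.height : ℕ∞) : WithBot ℕ∞) ≤
      ((LocCoh.depth (Localization.AtPrime p) (LocalizedModule p.primeCompl R) : ℕ∞) :
        WithBot ℕ∞) := WithBot.coe_le_coe.mpr h1
  refine ⟨?_, ?_⟩
  · unfold LocCoh.IsCohenMacaulayModule
    refine le_antisymm ?_ h2
    rw [h4] at h3
    exact le_trans h3 h5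
  · refine le_antisymm h3 ?_
    rw [h4]
    exact le_trans h5 h2

end Heights

section Sk

variable [IsNoetherianRing A] [IsNoetherianRing R] [Module.Finite A R]
  (hEH : ∀ (Q : Ideal R) [Q.IsPrime], (Q.comap (algebraMap A R)).height ≤ Q.height)

include hEH in
/-- If `R` satisfies `(S_r)`, then `depth_p R ≥ j` whenever `j ≤ r` and `j ≤ ht p`. -/
theorem natCast_le_idealDepth_of_hasSk {r : ℕ} (hR : LocCoh.HasSk r R R) (p : Ideal A)
    {j : ℕ} (hjr : j ≤ r) (hjp : (j : ℕ∞) ≤ p.height) : (j : ℕ∞) ≤ LocCoh.idealDepth p R := by
  rw [idealDepth_restrictScalars_eq_idealDepth_map (B := R) p R]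
  refine le_idealDepth_of_hasSk R _ j (hasSk_mono hjr hR) ?_
  intro Q hQ _
  have h1 : Module.supportDim (Localization.AtPrime Q.asIdeal)
      (LocalizedModule Q.asIdeal.primeCompl R) = ((Q.asIdeal.height : ℕ∞) : WithBot ℕ∞) := by
    rw [Module.supportDim_eq_of_equiv (localizedModuleSelfEquiv Q.asIdeal),
      supportDim_localization_self]
  rw [h1]
  have h2 : p.height ≤ Q.asIdeal.height :=
    le_trans (Ideal.height_mono (le_trans Ideal.le_comap_map (Ideal.comap_mono hQ)))
      (hEH Q.asIdeal)
  exact_mod_cast le_trans hjp h2

include hE hEH in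
/-- **Descent of Serre's conditions** to the module `R` over `A` and to `A` itself. -/
theorem hasSk_of_retraction {r : ℕ} (hR : LocCoh.HasSk r R R) :
    LocCoh.HasSk r A R ∧ LocCoh.HasSk r A A := by
  have hdimle : ∀ (p : Ideal A) [p.IsPrime] (M : Type u) [AddCommGroup M]
      [Module (Localization.AtPrime p) M] (j : ℕ),
      (j : WithBot ℕ∞) ≤ Module.supportDim (Localization.AtPrime p) M → (j : ℕ∞) ≤ p.height := by
    intro p _ M _ _ j hj
    have h3 : Module.supportDim (Localization.AtPrime p) M ≤
        ringKrullDim (Localization.AtPrime p) := Module.supportDim_le_ringKrullDim _ _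
    rw [IsLocalization.AtPrime.ringKrullDim_eq_height p (Localization.AtPrime p)] at h3
    exact_mod_cast le_trans hj h3
  constructor
  · intro p hp
    apply min_le_of_forall_nat
    intro j hjr hjd
    exact le_trans (natCast_le_idealDepth_of_hasSk hEH hR p hjr (hdimle p _ j hjd))
      (idealDepth_le_depth_localization p R le_rfl)
  · intro p hp
    apply min_le_of_forall_nat
    intro j hjr hjd
    refine le_trans (natCast_le_idealDepth_of_hasSk hEH hR p hjr (hdimle p _ j hjd)) ?_
    exact le_trans (idealDepth_le_idealDepth_self E hE (Ideal.IsPrime.ne_top hp))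
      (idealDepth_le_depth_localization p A le_rfl)

end Sk

end Groth.Agent.Lib.Seat67.InvCM
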