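import Groth.Agent.Lib.Seat67InvTrans
import Mathlib.RingTheory.Ideal.KrullsHeightTheorem
import Mathlib.RingTheory.Ideal.GoingDown
import Mathlib.RingTheory.Flat.Stability

set_option autoImplicit false

/-!
# Going-down for the invariants of a finite group scheme (seat 67)
-/

universe u

namespace Groth.Agent.Lib.Seat67.InvGD

open TensorProduct HopfRep Groth.Agent.Lib.Helper25 Polynomial Groth.Agent.Lib.Seat67.InvTrans

variable {k : Type u} [Field k] {H : Type u} [CommRing H] [HopfAlgebra k H] [Module.Finite k H]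
variable {R : Type u} [CommRing R] [Algebra k R] [Comod k H R] [GLin.IsCoactAlg k H R]

/-- **Going-down** holds for `R^G ⊆ R`, `G` a finite group scheme. -/
instance hasGoingDown_invariants : Algebra.HasGoingDown (GLin.invariants k H R) R := by
  constructor
  intro p hp Q hQ hlt
  -- lying over
  obtain ⟨𝔮', -, h𝔮'prime, h𝔮'over⟩ :=
    Ideal.exists_ideal_over_prime_of_isIntegral (S := R) p (⊥ : Ideal R) (by
      rw [Ideal.comap_bot_of_injective _ (FaithfulSMul.algebraMap_injective _ _)]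
      exact bot_le)
  -- going up
  obtain ⟨𝔮, h𝔮'le, h𝔮prime, h𝔮over⟩ :=
    Ideal.exists_ideal_over_prime_of_isIntegral_of_isPrime (S := R)
      (Q.under (GLin.invariants k H R)) 𝔮' (by rw [h𝔮'over]; exact hlt.le)
  -- transitivity
  obtain ⟨𝔓, h𝔓prime, h𝔓ι, h𝔓ρ⟩ := exists_prime_comap_eq (k := k) (H := H) 𝔮 Q h𝔮over
  -- going down for the flat map `ι`
  have hlo : 𝔓.LiesOver 𝔮 := ⟨h𝔓ι.symm⟩
  obtain ⟨𝔓', h𝔓'le, h𝔓'prime, h𝔓'over⟩ :=
    Ideal.exists_ideal_le_liesOver_of_le (R := R) (S := R ⊗[k] H) (p := 𝔮') (q := 𝔮) 𝔓 h𝔮'le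
  refine ⟨𝔓'.comap (GLin.coactAlgHom k H R), ?_, Ideal.comap_isPrime _ _, ⟨?_⟩⟩
  · rw [← h𝔓ρ]
    exact Ideal.comap_mono h𝔓'le
  · rw [← h𝔮'over]
    ext a
    simp only [Ideal.under, Ideal.mem_comap]
    have ha : GLin.coactAlgHom k H R (algebraMap (GLin.invariants k H R) R a) =
        algebraMap R (R ⊗[k] H) (algebraMap (GLin.invariants k H R) R a) := a.2
    rw [ha]
    change algebraMap (GLin.invariants k H R) R a ∈ 𝔮' ↔ _
    rw [h𝔓'over.over]
    rfl

/-- Contracting a prime to the invariants does not raise the height. -/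
theorem height_comap_le [IsNoetherianRing R] [IsNoetherianRing (GLin.invariants k H R)]
    (Q : Ideal R) [Q.IsPrime] :
    (Q.comap (algebraMap (GLin.invariants k H R) R)).height ≤ Q.height := by
  have h := Ideal.height_eq_height_add_of_liesOver_of_hasGoingDown
    (Q.under (GLin.invariants k H R)) Q
  rw [h]
  exact le_self_add

end Groth.Agent.Lib.Seat67.InvGD
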