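import Groth.Agent.Lib.Seat67InvGD
import Groth.Agent.Lib.Seat67InvCM
import Groth.Agent.Lib.Helper25CoactAlg

set_option autoImplicit false

/-!
# Invariants of a linearly reductive finite group scheme: Cohen–Macaulayness and `(S_r)` (seat 67)
-/

universe u

namespace Groth.Agent.Lib.Seat67.InvMain

open TensorProduct HopfRep Groth.Agent.Lib.Helper25 Groth.Agent.Lib.Seat67.InvGD
  Groth.Agent.Lib.Seat67.InvCM

variable {k : Type u} [Field k] {H : Type u} [CommRing H] [HopfAlgebra k H] [Module.Finite k H]
variable {R : Type u} [CommRing R] [Algebra k R] [Comod k H R] [GLin.IsCoactAlg k H R]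

/-- The Reynolds operator as a retraction `R → R^G` of `R^G`-modules. -/
theorem exists_retraction (hG : IsLinearlyReductive k H) :
    ∃ E : R →ₗ[GLin.invariants k H R] GLin.invariants k H R,
      ∀ a : GLin.invariants k H R, E (algebraMap (GLin.invariants k H R) R a) = a := by
  have hss : IsSemisimpleComod k H R := isSemisimpleComod_of_isLinearlyReductive hG R
  obtain ⟨E₀, hE₀, hEE, hEx⟩ := exists_reynolds hss
  have hrange : ∀ x : R, E₀ x ∈ GLin.invariants k H R := fun x =>
    (hEx _).mp (LinearMap.congr_fun hEE x)
  refine ⟨{ toFun := fun r => ⟨E₀ r, hrange r⟩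
            map_add' := fun x y => Subtype.ext (map_add E₀ x y)
            map_smul' := fun a r => Subtype.ext ?_ }, fun a => Subtype.ext ?_⟩
  · change E₀ ((a : R) * r) = (a : R) * E₀ r
    exact reynolds_mul_of_mem_fixedPts hss hE₀ hEE hEx a.2 r
  · exact (hEx _).mpr a.2

variable [Algebra.FiniteType k R]

theorem isNoetherianRing_invariants : IsNoetherianRing (GLin.invariants k H R) :=
  haveI := (finite_quotient k H R).1
  Algebra.FiniteType.isNoetherianRing k _

theorem isCohenMacaulay_invariants (hG : IsLinearlyReductive k H)
    (hR : LocCoh.IsCohenMacaulayRing R) :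
    LocCoh.IsCohenMacaulayRing (GLin.invariants k H R) ∧
      ∀ (p : Ideal (GLin.invariants k H R)) [p.IsPrime],
        LocCoh.IsCohenMacaulayModule (Localization.AtPrime p) (LocalizedModule p.primeCompl R) ∧
          Module.supportDim (Localization.AtPrime p) (LocalizedModule p.primeCompl R) =
            ringKrullDim (Localization.AtPrime p) := by
  obtain ⟨E, hE⟩ := exists_retraction (R := R) hG
  haveI : IsNoetherianRing (GLin.invariants k H R) := isNoetherianRing_invariants
  haveI : IsNoetherianRing R := Algebra.FiniteType.isNoetherianRing k R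
  haveI : Module.Finite (GLin.invariants k H R) R := (finite_quotient k H R).2
  have hEH : ∀ (Q : Ideal R) [Q.IsPrime],
      (Q.comap (algebraMap (GLin.invariants k H R) R)).height ≤ Q.height :=
    fun Q _ => height_comap_le Q
  exact ⟨isCohenMacaulayRing_of_retraction E hE hEH hR,
    fun p _ => isCohenMacaulayModule_localizedModule E hE hEH hR p⟩

theorem hasSk_invariants (hG : IsLinearlyReductive k H) {r : ℕ} (hR : LocCoh.HasSk r R R) :
    LocCoh.HasSk r (GLin.invariants k H R) R ∧
      LocCoh.HasSk r (GLin.invariants k H R) (GLin.invariants k H R) := by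
  obtain ⟨E, hE⟩ := exists_retraction (R := R) hG
  haveI : IsNoetherianRing (GLin.invariants k H R) := isNoetherianRing_invariants
  haveI : IsNoetherianRing R := Algebra.FiniteType.isNoetherianRing k R
  haveI : Module.Finite (GLin.invariants k H R) R := (finite_quotient k H R).2
  have hEH : ∀ (Q : Ideal R) [Q.IsPrime],
      (Q.comap (algebraMap (GLin.invariants k H R) R)).height ≤ Q.height :=
    fun Q _ => height_comap_le Q
  exact hasSk_of_retraction E hE hEH hR

end Groth.Agent.Lib.Seat67.InvMain
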