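import Groth.Agent.Lib.Helper25FinQuot

set_option autoImplicit false

/-!
# Fibres of `Spec R → Spec R^G` are orbits, for a finite group scheme `G` (seat 67)

`H` a finite-dimensional commutative Hopf algebra over a field `k` coacting on a commutative
`k`-algebra `R`, `ι, ρ : R → R ⊗ H` the inclusion and the coaction.  Two primes of `R` with the same
contraction to the invariants are of the form `ι⁻¹ 𝔓`, `ρ⁻¹ 𝔓` for a prime `𝔓` of `R ⊗ H`.
Consequences: going-down for `R^G ⊆ R`, and `ht (Q ∩ R^G) ≤ ht Q`.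
-/

universe u

namespace Groth.Agent.Lib.Seat67.InvTrans

open TensorProduct HopfRep Groth.Agent.Lib.Helper25 Polynomial

section Unit

variable {k : Type u} [Field k] {H : Type u} [CommRing H] [Algebra k H] [Module.Finite k H]

/-- Over a field, the characteristic polynomial of multiplication by a unit has non-zero constant
term. -/
theorem chiPoly_coeff_zero_ne_zero_of_isUnit (κ : Type u) [Field κ] [Algebra k κ]
    {y : κ ⊗[k] H} (hy : IsUnit y) : (chiPoly k H κ y).coeff 0 ≠ 0 := by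
  obtain ⟨u, rfl⟩ := hy
  intro h0
  have hdet : LinearMap.det (Algebra.lmul κ (κ ⊗[k] H) (u : κ ⊗[k] H)) = 0 := by
    rw [LinearMap.det_eq_sign_charpoly_coeff]
    unfold chiPoly at h0
    rw [h0, mul_zero]
  have hmul : LinearMap.det (Algebra.lmul κ (κ ⊗[k] H) (u : κ ⊗[k] H)) *
      LinearMap.det (Algebra.lmul κ (κ ⊗[k] H) ((u⁻¹ : (κ ⊗[k] H)ˣ) : κ ⊗[k] H)) = 1 := by
    rw [← LinearMap.det_comp, ← Module.End.mul_eq_comp, ← map_mul, Units.mul_inv, map_one,
      Module.End.one_eq_id, LinearMap.det_id]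
  rw [hdet, zero_mul] at hmul
  exact zero_ne_one hmul

end Unit

section Trans

variable {k : Type u} [Field k] {H : Type u} [CommRing H] [HopfAlgebra k H] [Module.Finite k H]
variable {R : Type u} [CommRing R] [Algebra k R] [Comod k H R] [GLin.IsCoactAlg k H R]

/-- The constant term of the characteristic polynomial of `ρ r` is a multiple of `r`. -/
theorem coeff_zero_mem_span (r : R) :
    (chiPoly k H R (Comod.coact (k := k) (A := H) r)).coeff 0 ∈ Ideal.span {r} := by
  have h := aeval_self_chiPoly_coact (k := k) (A := H) r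
  have hP := (Polynomial.divX_mul_X_add (chiPoly k H R (Comod.coact (k := k) (A := H) r))).symm
  rw [hP, map_add, map_mul, aeval_X, aeval_C, Algebra.algebraMap_self, RingHom.id_apply] at h
  have h2 : (chiPoly k H R (Comod.coact (k := k) (A := H) r)).coeff 0 =
      -(aeval r (chiPoly k H R (Comod.coact (k := k) (A := H) r)).divX) * r := by
    linear_combination h
  rw [h2]
  exact Ideal.mul_mem_left _ _ (Ideal.mem_span_singleton_self r)

instance : Algebra.IsIntegral (GLin.invariants k H R) R := ⟨isIntegral_invariants⟩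

/-- **Transitivity on fibres.** -/
theorem exists_prime_comap_eq (𝔮 Q : Ideal R) [h𝔮 : 𝔮.IsPrime] [hQ : Q.IsPrime]
    (h : 𝔮.comap (algebraMap (GLin.invariants k H R) R) =
      Q.comap (algebraMap (GLin.invariants k H R) R)) :
    ∃ 𝔓 : Ideal (R ⊗[k] H), 𝔓.IsPrime ∧
      𝔓.comap (Algebra.TensorProduct.includeLeft : R →ₐ[k] R ⊗[k] H) = 𝔮 ∧
      𝔓.comap (GLin.coactAlgHom k H R) = Q := by
  classical
  let θ : R →ₐ[k] 𝔮.ResidueField := IsScalarTower.toAlgHom k R 𝔮.ResidueField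
  let Θ : R ⊗[k] H →ₐ[k] 𝔮.ResidueField ⊗[k] H := Algebra.TensorProduct.map θ (AlgHom.id k H)
  have hθ : ∀ r : R, θ r = 0 ↔ r ∈ 𝔮 := by
    intro r
    change algebraMap R 𝔮.ResidueField r = 0 ↔ _
    rw [← RingHom.mem_ker, Ideal.ker_algebraMap_residueField]
  have : IsArtinianRing (𝔮.ResidueField ⊗[k] H) := IsArtinianRing.of_finite 𝔮.ResidueField _
  -- Step 1: elements of `Q` give non-units
  have hnonunit : ∀ f ∈ Q, ¬ IsUnit (Θ (Comod.coact (k := k) (A := H) f)) := by
    intro f hf hu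
    have h1 := chiPoly_coeff_zero_ne_zero_of_isUnit (k := k) (H := H) 𝔮.ResidueField hu
    rw [chiPoly_map θ, coeff_map] at h1
    apply h1
    have hc_inv := coeff_chiPoly_mem_invariants (k := k) (A := H) f 0
    have hc_Q : (chiPoly k H R (Comod.coact (k := k) (A := H) f)).coeff 0 ∈ Q :=
      ((Ideal.span_singleton_le_iff_mem Q).mpr hf) (coeff_zero_mem_span f)
    have hmem : (⟨_, hc_inv⟩ : GLin.invariants k H R) ∈
        Q.comap (algebraMap (GLin.invariants k H R) R) := hc_Q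
    rw [← h] at hmem
    exact (hθ _).mpr hmem
  -- Step 2: a maximal ideal containing the image of `Q`
  have hex : ∃ 𝔐 : Ideal (𝔮.ResidueField ⊗[k] H), 𝔐.IsMaximal ∧
      Q ≤ 𝔐.comap (Θ.toRingHom.comp (GLin.coactAlgHom k H R).toRingHom) := by
    by_contra hcon
    push Not at hcon
    have hfin : (Set.range (MaximalSpectrum.asIdeal :
        MaximalSpectrum (𝔮.ResidueField ⊗[k] H) → Ideal (𝔮.ResidueField ⊗[k] H))).Finite :=
      Set.finite_range _
    have hmemfin : ∀ 𝔐 : Ideal (𝔮.ResidueField ⊗[k] H), 𝔐 ∈ hfin.toFinset ↔ 𝔐.IsMaximal := by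
      intro 𝔐
      rw [Set.Finite.mem_toFinset]
      constructor
      · rintro ⟨m, rfl⟩; exact m.2
      · intro hm; exact ⟨⟨𝔐, hm⟩, rfl⟩
    have hnsub : ¬ ((Q : Set R) ⊆ ⋃ 𝔐 ∈ (hfin.toFinset : Set (Ideal (𝔮.ResidueField ⊗[k] H))),
        ((𝔐.comap (Θ.toRingHom.comp (GLin.coactAlgHom k H R).toRingHom) : Ideal R) : Set R)) := by
      intro hsub
      obtain ⟨𝔐, h𝔐, hle⟩ := (Ideal.subset_union_prime
        (f := fun 𝔐 : Ideal (𝔮.ResidueField ⊗[k] H) =>
          𝔐.comap (Θ.toRingHom.comp (GLin.coactAlgHom k H R).toRingHom)) ⊥ ⊥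
        (fun 𝔐 h𝔐 _ _ => by
          have : 𝔐.IsMaximal := (hmemfin 𝔐).mp h𝔐
          exact Ideal.comap_isPrime _ 𝔐)).mp hsub
      exact hcon 𝔐 ((hmemfin 𝔐).mp h𝔐) hle
    rw [Set.not_subset] at hnsub
    obtain ⟨f, hfQ, hfn⟩ := hnsub
    apply hnonunit f hfQ
    by_contra hnu
    obtain ⟨𝔐, h𝔐max, hf𝔐⟩ := exists_max_ideal_of_mem_nonunits hnu
    apply hfn
    simp only [Set.mem_iUnion, SetLike.mem_coe, Ideal.mem_comap]
    exact ⟨𝔐, (hmemfin 𝔐).mpr h𝔐max, hf𝔐⟩
  obtain ⟨𝔐, h𝔐max, hQ𝔐⟩ := hex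
  have h𝔐prime : 𝔐.IsPrime := h𝔐max.isPrime
  have hι : (𝔐.comap Θ).comap (Algebra.TensorProduct.includeLeft : R →ₐ[k] R ⊗[k] H) = 𝔮 := by
    ext r
    rw [Ideal.mem_comap, Ideal.mem_comap]
    have h1 : Θ ((Algebra.TensorProduct.includeLeft : R →ₐ[k] R ⊗[k] H) r) =
        (Algebra.TensorProduct.includeLeft : 𝔮.ResidueField →ₐ[k] 𝔮.ResidueField ⊗[k] H) (θ r) := by
      simp [Θ]
    rw [h1, ← hθ]
    have hbot : 𝔐.comap (Algebra.TensorProduct.includeLeft :
        𝔮.ResidueField →ₐ[k] 𝔮.ResidueField ⊗[k] H) = ⊥ := by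
      have hp : (𝔐.comap (Algebra.TensorProduct.includeLeft :
        𝔮.ResidueField →ₐ[k] 𝔮.ResidueField ⊗[k] H)).IsPrime := Ideal.comap_isPrime _ 𝔐
      exact (Ideal.eq_bot_or_top _).resolve_right hp.ne_top
    rw [← Ideal.mem_comap, hbot, Ideal.mem_bot]
  refine ⟨𝔐.comap Θ, Ideal.comap_isPrime _ 𝔐, hι, ?_⟩
  -- incomparability
  have hle : Q ≤ (𝔐.comap Θ).comap (GLin.coactAlgHom k H R) := hQ𝔐
  by_contra hne
  have hlt : Q < (𝔐.comap Θ).comap (GLin.coactAlgHom k H R) := lt_of_le_of_ne hle (Ne.symm hne)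
  have h2 := Ideal.IsIntegral.comap_lt_comap (R := GLin.invariants k H R) hlt
  have h3 : ((𝔐.comap Θ).comap (GLin.coactAlgHom k H R)).comap
      (algebraMap (GLin.invariants k H R) R) =
      𝔮.comap (algebraMap (GLin.invariants k H R) R) := by
    have h4 : 𝔮.comap (algebraMap (GLin.invariants k H R) R) =
        ((𝔐.comap Θ).comap (Algebra.TensorProduct.includeLeft : R →ₐ[k] R ⊗[k] H)).comap
          (algebraMap (GLin.invariants k H R) R) :=
      congrArg (fun I : Ideal R => I.comap (algebraMap (GLin.invariants k H R) R)) hι.symm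
    rw [h4]
    ext a
    simp only [Ideal.mem_comap]
    have : (GLin.coactAlgHom k H R) (algebraMap (GLin.invariants k H R) R a) =
        (Algebra.TensorProduct.includeLeft : R →ₐ[k] R ⊗[k] H)
          (algebraMap (GLin.invariants k H R) R a) := by
      rw [GLin.coactAlgHom_apply]
      exact a.2
    rw [this]
  rw [h3, h] at h2
  exact lt_irrefl _ h2

end Trans

end Groth.Agent.Lib.Seat67.InvTrans
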