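import Mathlib
import Groth.Prelude.Def_GrLC
import Groth.Agent.Lib.Helper29GrEss

/-!
# Positively ℤ-graded rings: ring-level lemmas for graded local cohomology finiteness (seat 86)

`R = ⊕_{n ≥ 0} R_n` a ℤ-graded ring with `R_n = 0` for `n < 0`, `a = R_+` its irrelevant ideal.

* `sub_decompose_zero_mem`: `r - r_0 ∈ R_+`; `decompose_nonpos_of_mem`: elements of `R_+` have no
  components in degrees `≤ 0`.
* `isNoetherian_deg0_of_pow_kill`: an `R`-Noetherian module killed by a power of `R_+` is
  `R_0`-Noetherian.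
* `exists_piece_eq_zero_of_fg`: an internally graded `R`-module which is finite over `R_0` has
  no pieces in large degrees.
* `exists_homogeneous_avoid`: homogeneous prime avoidance in positive degree.
* `exists_regular`: if `Γ_{R_+}(M) = 0` for a finite module `M` over Noetherian `R`, there is a
  homogeneous `M`-regular element of positive degree in `R_+`.
* `gam_quot_gam`: `Γ_I(M/Γ_I(M)) = 0` over a Noetherian ring.
-/

set_option autoImplicit false
set_option linter.style.haveILetI false
set_option linter.unusedSectionVars false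
open DirectSum

noncomputable section

namespace Groth.Agent.Lib.Seat86.GrFinA

universe u v

section Gam

variable {R : Type u} [CommRing R]

theorem exists_pow_kills_of_fg {M : Type v} [AddCommGroup M] [Module R M] (I : Ideal R)
    (N : Submodule R M) (hN : N.FG)
    (hle : ∀ x ∈ N, ∃ n : ℕ, ∀ r ∈ I ^ n, r • x = 0) :
    ∃ s : ℕ, ∀ b ∈ I ^ s, ∀ x ∈ N, b • x = 0 := by
  revert hle
  refine Submodule.fg_induction (motive := fun N _ => (∀ x ∈ N, ∃ n : ℕ, ∀ r ∈ I ^ n, r • x = 0) →
    ∃ s : ℕ, ∀ b ∈ I ^ s, ∀ x ∈ N, b • x = 0) ?_ ?_ N hN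
  · intro x hx
    obtain ⟨s, hs⟩ := hx x (Submodule.mem_span_singleton_self x)
    refine ⟨s, fun b hb y hy => ?_⟩
    obtain ⟨r, rfl⟩ := Submodule.mem_span_singleton.mp hy
    rw [smul_comm, hs b hb, smul_zero]
  · intro N₁ N₂ _ _ h₁ h₂ hle
    obtain ⟨s₁, hs₁⟩ := h₁ (fun x hx => hle x (Submodule.mem_sup_left hx))
    obtain ⟨s₂, hs₂⟩ := h₂ (fun x hx => hle x (Submodule.mem_sup_right hx))
    refine ⟨s₁ + s₂, fun b hb y hy => ?_⟩
    obtain ⟨y₁, hy₁, y₂, hy₂, rfl⟩ := Submodule.mem_sup.mp hy
    rw [smul_add, hs₁ b (Ideal.pow_le_pow_right (Nat.le_add_right _ _) hb) y₁ hy₁,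
      hs₂ b (Ideal.pow_le_pow_right (Nat.le_add_left _ _) hb) y₂ hy₂, add_zero]

theorem gam_quot_gam [IsNoetherianRing R] (I : Ideal R) (M : Type u) [AddCommGroup M]
    [Module R M] : GrLC.gam I (M ⧸ GrLC.gam I M) = ⊥ := by
  rw [eq_bot_iff]
  intro y hy
  obtain ⟨m, rfl⟩ := (GrLC.gam I M).mkQ_surjective y
  obtain ⟨n, hn⟩ := hy
  let N : Submodule R M := Submodule.map (LinearMap.toSpanSingleton R M m) (I ^ n)
  have hNfg : N.FG := Submodule.FG.map _ (IsNoetherian.noetherian (I ^ n))
  have hNle : ∀ x ∈ N, ∃ n : ℕ, ∀ r ∈ I ^ n, r • x = 0 := by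
    rintro _ ⟨r, hr, rfl⟩
    have := hn r hr
    rw [← map_smul, Submodule.mkQ_apply, Submodule.Quotient.mk_eq_zero] at this
    rw [LinearMap.toSpanSingleton_apply]
    exact this
  obtain ⟨s, hs⟩ := exists_pow_kills_of_fg I N hNfg hNle
  rw [Submodule.mem_bot, Submodule.mkQ_apply, Submodule.Quotient.mk_eq_zero]
  refine ⟨s + n, fun c hc => ?_⟩
  rw [pow_add] at hc
  refine Submodule.mul_induction_on hc ?_ ?_
  · intro b hb r hr
    rw [mul_smul]
    exact hs b hb (r • m) ⟨r, hr, LinearMap.toSpanSingleton_apply _ _ _ _⟩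
  · intro x y hx hy
    rw [add_smul, hx, hy, add_zero]

end Gam

variable {R : Type u} [CommRing R] {𝒜 : ℤ → AddSubgroup R} [GradedRing 𝒜]
  (hpos : ∀ n : ℤ, n < 0 → 𝒜 n = ⊥) {a : HomogeneousIdeal 𝒜}
  (ha : a.toIdeal = Ideal.span (⋃ n ∈ Set.Ioi (0 : ℤ), (𝒜 n : Set R)))

include hpos in
theorem eq_zero_of_mem_neg {i : ℤ} (hi : i < 0) {w : R} (hw : w ∈ 𝒜 i) : w = 0 := by
  rw [hpos i hi] at hw
  exact AddSubgroup.mem_bot.mp hw

include hpos in
theorem decompose_mul_nonpos {z : R} (hz : ∀ n : ℤ, n ≤ 0 → ((decompose 𝒜 z) n : R) = 0)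
    (c : R) : ∀ n : ℤ, n ≤ 0 → ((decompose 𝒜 (c * z)) n : R) = 0 := by
  classical
  intro n hn
  have hc : c = ∑ i ∈ (decompose 𝒜 c).support, ((decompose 𝒜 c) i : R) :=
    (DirectSum.sum_support_decompose 𝒜 c).symm
  rw [← GradedRing.proj_apply, hc, Finset.sum_mul, map_sum]
  apply Finset.sum_eq_zero
  intro i _
  rw [GradedRing.proj_apply]
  by_cases hi : i < 0
  · have h0 : ((decompose 𝒜 c) i : R) = 0 :=
      eq_zero_of_mem_neg hpos hi (SetLike.coe_mem ((decompose 𝒜 c) i))
    rw [h0, zero_mul, DirectSum.decompose_zero]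
    rfl
  · have h1 : ((decompose 𝒜 (((decompose 𝒜 c) i : R) * z)) (i + (n - i)) : R) =
        ((decompose 𝒜 c) i : R) * ((decompose 𝒜 z) (n - i) : R) :=
      DirectSum.coe_decompose_mul_add_of_left_mem 𝒜 (SetLike.coe_mem _)
    have e : i + (n - i) = n := by ring
    rw [e] at h1
    rw [h1, hz (n - i) (by omega), mul_zero]

include hpos ha in
theorem decompose_nonpos_of_mem {z : R} (hz : z ∈ a.toIdeal) :
    ∀ n : ℤ, n ≤ 0 → ((decompose 𝒜 z) n : R) = 0 := by
  rw [ha] at hz
  induction hz using Submodule.span_induction with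
  | mem x hx =>
    obtain ⟨k, hk, hxk⟩ := Set.mem_iUnion₂.mp hx
    intro n hn
    have hk' : (0 : ℤ) < k := hk
    exact DirectSum.decompose_of_mem_ne 𝒜 hxk (by omega)
  | zero =>
    intro n _
    rw [DirectSum.decompose_zero]
    rfl
  | add x y _ _ hx hy =>
    intro n hn
    rw [DirectSum.decompose_add, DirectSum.add_apply, AddSubgroup.coe_add, hx n hn, hy n hn,
      add_zero]
  | smul c x _ hx =>
    intro n hn
    rw [smul_eq_mul]
    exact decompose_mul_nonpos hpos hx c n hn

include hpos ha in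
theorem sub_decompose_zero_mem (r : R) : r - ((decompose 𝒜 r) 0 : R) ∈ a.toIdeal := by
  classical
  rw [← DirectSum.sum_support_decompose 𝒜 (r - ((decompose 𝒜 r) 0 : R))]
  apply Ideal.sum_mem
  intro i _
  rcases lt_trichotomy i 0 with hi | hi | hi
  · rw [eq_zero_of_mem_neg hpos hi
      (SetLike.coe_mem ((decompose 𝒜 (r - ((decompose 𝒜 r) 0 : R))) i))]
    exact zero_mem _
  · subst hi
    rw [DirectSum.decompose_sub, DirectSum.sub_apply, AddSubgroup.coe_sub,
      DirectSum.decompose_coe, DirectSum.of_eq_same, sub_self]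
    exact zero_mem _
  · rw [ha]
    exact Ideal.subset_span (Set.mem_iUnion₂.mpr ⟨i, hi, SetLike.coe_mem _⟩)

section LemmaT

include hpos ha in
theorem smul_eq_deg0_smul {T : Type v} [AddCommGroup T] [Module R T]
    (hkill : ∀ r ∈ a.toIdeal, ∀ t : T, r • t = 0) (r : R) (t : T) :
    r • t = (⟨((decompose 𝒜 r) 0 : R), SetLike.coe_mem _⟩ : GrLC.deg0 𝒜) • t := by
  have h := hkill _ (sub_decompose_zero_mem hpos ha r) t
  rw [sub_smul, sub_eq_zero] at h
  exact h

include hpos ha in
theorem isNoetherian_deg0_of_kill {T : Type v} [AddCommGroup T] [Module R T] [IsNoetherian R T]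
    (hkill : ∀ r ∈ a.toIdeal, ∀ t : T, r • t = 0) : IsNoetherian (GrLC.deg0 𝒜) T := by
  let φ : Submodule (GrLC.deg0 𝒜) T → Submodule R T := fun N =>
    { carrier := N
      add_mem' := fun h1 h2 => N.add_mem h1 h2
      zero_mem' := N.zero_mem
      smul_mem' := fun r t ht => by
        change r • t ∈ N
        rw [smul_eq_deg0_smul hpos ha hkill r t]
        exact N.smul_mem _ ht }
  have hmono : Monotone φ := fun N N' h t ht => h ht
  have hinj : Function.Injective φ := fun N N' h => by
    ext t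
    have := SetLike.ext_iff.mp h t
    exact this
  haveI : WellFoundedGT (Submodule R T) := isNoetherian_iff'.mp inferInstance
  rw [isNoetherian_iff']
  exact (hmono.strictMono_of_injective hinj).wellFoundedGT

include hpos ha in
theorem isNoetherian_deg0_of_pow_kill (k : ℕ) :
    ∀ (T : Type v) [AddCommGroup T] [Module R T] [IsNoetherian R T],
      (∀ r ∈ a.toIdeal ^ k, ∀ t : T, r • t = 0) → IsNoetherian (GrLC.deg0 𝒜) T := by
  induction k with
  | zero =>
    intro T _ _ _ hkill
    have : Subsingleton T := ⟨fun x y => by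
      have hx := hkill 1 (by rw [pow_zero, Ideal.one_eq_top]; trivial) x
      have hy := hkill 1 (by rw [pow_zero, Ideal.one_eq_top]; trivial) y
      rw [one_smul] at hx hy
      rw [hx, hy]⟩
    infer_instance
  | succ k ih =>
    intro T _ _ _ hkill
    let T' : Submodule R T := a.toIdeal • (⊤ : Submodule R T)
    have h1 : ∀ r ∈ a.toIdeal ^ k, ∀ t : T', r • t = 0 := by
      intro r hr t
      apply Subtype.ext
      rw [Submodule.coe_smul, ZeroMemClass.coe_zero]
      have ht := t.2
      refine Submodule.smul_induction_on ht ?_ ?_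
      · intro s hs m _
        rw [smul_smul]
        exact hkill _ (by rw [pow_succ]; exact Ideal.mul_mem_mul hr hs) m
      · intro x y hx hy
        rw [smul_add, hx, hy, add_zero]
    have h2 : ∀ r ∈ a.toIdeal, ∀ t : T ⧸ T', r • t = 0 := by
      intro r hr t
      obtain ⟨m, rfl⟩ := T'.mkQ_surjective t
      rw [← map_smul, Submodule.mkQ_apply, Submodule.Quotient.mk_eq_zero]
      exact Submodule.smul_mem_smul hr Submodule.mem_top
    haveI := ih T' h1
    haveI := isNoetherian_deg0_of_kill hpos ha h2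
    refine isNoetherian_of_range_eq_ker (T'.subtype.restrictScalars (GrLC.deg0 𝒜))
      (T'.mkQ.restrictScalars (GrLC.deg0 𝒜)) ?_
    ext t
    simp only [LinearMap.mem_range, LinearMap.mem_ker, LinearMap.coe_restrictScalars,
      Submodule.subtype_apply, Submodule.mkQ_apply, Submodule.Quotient.mk_eq_zero]
    constructor
    · rintro ⟨y, rfl⟩
      exact y.2
    · intro h
      exact ⟨⟨t, h⟩, rfl⟩

end LemmaT

/-- An internally graded `R`-module, finitely generated over `R_0`, vanishes in large degrees. -/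
theorem exists_piece_eq_zero_of_fg {H : Type u} [AddCommGroup H] [Module R H]
    (𝓗 : ℤ → AddSubgroup H) (hint : DirectSum.IsInternal 𝓗)
    (hsm : ∀ (r : R) (n : ℤ) (x : H), r ∈ 𝒜 0 → x ∈ 𝓗 n → r • x ∈ 𝓗 n)
    (hfg : (⊤ : Submodule (GrLC.deg0 𝒜) H).FG) :
    ∃ r : ℤ, ∀ n : ℤ, r ≤ n → ∀ x ∈ 𝓗 n, x = 0 := by
  classical
  letI : DirectSum.Decomposition 𝓗 := hint.chooseDecomposition
  obtain ⟨S, hS⟩ := hfg
  let F : Finset ℤ := S.biUnion fun s => (decompose 𝓗 s).support
  have key : ∀ y : H, ∀ n : ℤ, n ∉ F → ((decompose 𝓗 y) n : H) = 0 := by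
    intro y
    have hy : y ∈ Submodule.span (GrLC.deg0 𝒜) (S : Set H) := by
      rw [hS]
      trivial
    induction hy using Submodule.span_induction with
    | mem s hs =>
      intro n hn
      have h1 : n ∉ (decompose 𝓗 s).support :=
        fun h => hn (Finset.mem_biUnion.mpr ⟨s, Finset.mem_coe.mp hs, h⟩)
      rw [DFinsupp.notMem_support_iff] at h1
      rw [h1]
      rfl
    | zero =>
      intro n _
      rw [DirectSum.decompose_zero]
      rfl
    | add x y _ _ hx hy =>
      intro n hn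
      rw [DirectSum.decompose_add, DirectSum.add_apply, AddSubgroup.coe_add, hx n hn, hy n hn,
        add_zero]
    | smul c x _ hx =>
      intro n hn
      have h1 := Groth.Agent.Lib.Helper29GrHom.decompose_map 𝓗 𝓗
        ((c : R) • (LinearMap.id : H →ₗ[R] H)) (fun g m hm => hsm c g m c.2 hm) x n
      simp only [LinearMap.smul_apply, LinearMap.id_apply] at h1
      change ((decompose 𝓗 ((c : R) • x)) n : H) = 0
      rw [h1, hx n hn, smul_zero]
  obtain ⟨b, hb⟩ := F.bddAbove
  refine ⟨b + 1, fun n hn x hx => ?_⟩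
  have hnF : n ∉ F := fun h => by
    have := hb (Finset.mem_coe.mpr h)
    omega
  have h2 := key x n hnF
  rwa [DirectSum.decompose_of_mem_same _ hx] at h2

section Avoid

include hpos ha in
theorem exists_single (p : Ideal R) (h : ¬ a.toIdeal ≤ p) :
    ∃ (x : R) (d : ℕ), 0 < d ∧ x ∈ 𝒜 (d : ℤ) ∧ x ∈ a.toIdeal ∧ x ∉ p := by
  classical
  obtain ⟨z, hzI, hzp⟩ := Set.not_subset.mp h
  by_contra hcon
  push Not at hcon
  apply hzp
  rw [← DirectSum.sum_support_decompose 𝒜 z]
  apply Ideal.sum_mem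
  intro n _
  by_cases hn : n ≤ 0
  · rw [decompose_nonpos_of_mem hpos ha hzI n hn]
    exact zero_mem _
  · have hnn : ((n.toNat : ℕ) : ℤ) = n := Int.toNat_of_nonneg (by omega)
    have hmem : ((decompose 𝒜 z) n : R) ∈ 𝒜 ((n.toNat : ℕ) : ℤ) := by
      rw [hnn]
      exact SetLike.coe_mem _
    exact hcon _ n.toNat (by omega) hmem (a.isHomogeneous n hzI)

include hpos ha in
theorem exists_homogeneous_avoid (P : Finset (Ideal R))
    (hP : ∀ p ∈ P, p.IsPrime ∧ ¬ a.toIdeal ≤ p) :
    ∃ (x : R) (d : ℕ), 0 < d ∧ x ∈ 𝒜 (d : ℤ) ∧ x ∈ a.toIdeal ∧ ∀ p ∈ P, x ∉ p := by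
  classical
  induction P using Finset.strongInduction with
  | H P ih =>
    rcases P.eq_empty_or_nonempty with rfl | ⟨q, hq⟩
    · exact ⟨0, 1, one_pos, zero_mem _, zero_mem _, by simp⟩
    · by_cases hE : P.erase q = ∅
      · obtain ⟨x, d, hd, hxd, hxI, hxq⟩ := exists_single hpos ha q (hP q hq).2
        refine ⟨x, d, hd, hxd, hxI, fun p hp => ?_⟩
        have : p = q := by
          by_contra hne
          have : p ∈ P.erase q := Finset.mem_erase.mpr ⟨hne, hp⟩
          rw [hE] at this
          simp at this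
        rw [this]
        exact hxq
      · have key : ∀ p ∈ P, ∃ (x : R) (d : ℕ), 0 < d ∧ x ∈ 𝒜 (d : ℤ) ∧ x ∈ a.toIdeal ∧
            ∀ p' ∈ P.erase p, x ∉ p' := fun p hp =>
          ih (P.erase p) (Finset.erase_ssubset hp)
            (fun p' hp' => hP p' (Finset.mem_of_mem_erase hp'))
        choose! x d hd hxd hxI hxa using key
        by_cases hex : ∃ p ∈ P, x p ∉ p
        · obtain ⟨p, hp, hxp⟩ := hex
          refine ⟨x p, d p, hd p hp, hxd p hp, hxI p hp, fun p' hp' => ?_⟩
          by_cases h : p' = p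
          · rw [h]; exact hxp
          · exact hxa p hp p' (Finset.mem_erase.mpr ⟨h, hp'⟩)
        · push Not at hex
          obtain ⟨p0, hp0⟩ := Finset.nonempty_iff_ne_empty.mpr hE
          have hp0P : p0 ∈ P := Finset.mem_of_mem_erase hp0
          obtain ⟨y, hy⟩ : ∃ y, y = ∏ p ∈ P.erase q, x p := ⟨_, rfl⟩
          obtain ⟨e, he'⟩ : ∃ e, e = ∑ p ∈ P.erase q, d p := ⟨_, rfl⟩
          have hye : y ∈ 𝒜 ((e : ℕ) : ℤ) := by
            rw [he', hy, Nat.cast_sum]
            exact SetLike.prod_mem_graded 𝒜 (fun p => ((d p : ℕ) : ℤ)) x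
              (fun p hp => hxd p (Finset.mem_of_mem_erase hp))
          have he : 0 < e := by
            rw [he']
            exact lt_of_lt_of_le (hd p0 hp0P)
              (Finset.single_le_sum (f := d) (fun _ _ => Nat.zero_le _) hp0)
          have hb : 0 < d q := hd q hq
          have hyI : y ∈ a.toIdeal := by
            rw [hy]
            exact Ideal.prod_mem a.toIdeal hp0 (hxI p0 hp0P)
          refine ⟨y ^ d q + x q ^ e, e * d q, Nat.mul_pos he hb, ?_, ?_, ?_⟩
          · apply add_mem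
            · have h1 := SetLike.pow_mem_graded (d q) hye
              have e1 : d q • ((e : ℕ) : ℤ) = ((e * d q : ℕ) : ℤ) := by
                rw [nsmul_eq_mul]; push_cast; ring
              rwa [e1] at h1
            · have h1 := SetLike.pow_mem_graded e (hxd q hq)
              have e2 : e • ((d q : ℕ) : ℤ) = ((e * d q : ℕ) : ℤ) := by
                rw [nsmul_eq_mul]; push_cast; ring
              rwa [e2] at h1
          · exact Ideal.add_mem _ (Ideal.pow_mem_of_mem _ hyI _ hb)
              (Ideal.pow_mem_of_mem _ (hxI q hq) _ he)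
          · intro p hp
            haveI hpp : p.IsPrime := (hP p hp).1
            by_cases h : p = q
            · intro hmem
              have h1 : x q ^ e ∈ p := by
                rw [h]; exact Ideal.pow_mem_of_mem _ (hex q hq) _ he
              have h2 : y ^ d q ∈ p := (Ideal.add_mem_iff_left _ h1).mp hmem
              have h3 : y ∈ p := hpp.mem_of_pow_mem _ h2
              rw [hy] at h3
              obtain ⟨p', hp', hxp'⟩ := (Ideal.IsPrime.prod_mem_iff).mp h3
              rw [h] at hxp'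
              exact hxa p' (Finset.mem_of_mem_erase hp') q
                (Finset.mem_erase.mpr ⟨(Finset.ne_of_mem_erase hp').symm, hq⟩) hxp'
            · intro hmem
              have hyp : y ∈ p := by
                rw [hy]
                exact Ideal.prod_mem p (Finset.mem_erase.mpr ⟨h, hp⟩) (hex p hp)
              have h1 : y ^ d q ∈ p := Ideal.pow_mem_of_mem _ hyp _ hb
              have h2 : x q ^ e ∈ p := (Ideal.add_mem_iff_right _ h1).mp hmem
              have h3 := hpp.mem_of_pow_mem _ h2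
              exact hxa q hq p (Finset.mem_erase.mpr ⟨h, hp⟩) h3

include hpos ha in
theorem exists_regular [IsNoetherianRing R] (M : Type v) [AddCommGroup M] [Module R M]
    [Module.Finite R M] (hgam : ∀ m : M, (∀ r ∈ a.toIdeal, r • m = 0) → m = 0) :
    ∃ (x : R) (d : ℕ), 0 < d ∧ x ∈ 𝒜 (d : ℤ) ∧ x ∈ a.toIdeal ∧ IsSMulRegular M x := by
  classical
  have hfin := associatedPrimes.finite R M
  obtain ⟨x, d, hd, hxd, hxa, hx⟩ := exists_homogeneous_avoid hpos ha hfin.toFinset (fun p hp => by
    rw [Set.Finite.mem_toFinset] at hp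
    obtain ⟨hprime, m, hm⟩ := (isAssociatedPrime_iff (R := R)).mp hp
    refine ⟨hprime, fun hle => ?_⟩
    have hm0 : m = 0 := hgam m (fun r hr => by
      have h1 : r ∈ (⊥ : Submodule R M).colon {m} := hm ▸ hle hr
      rw [Submodule.mem_colon_singleton, Submodule.mem_bot] at h1
      exact h1)
    apply hprime.ne_top
    rw [hm, hm0, eq_top_iff]
    intro r _
    rw [Submodule.mem_colon_singleton, smul_zero]
    exact zero_mem _)
  refine ⟨x, d, hd, hxd, hxa, ?_⟩
  have h := biUnion_associatedPrimes_eq_compl_regular R M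
  by_contra hreg
  have h1 : x ∈ ({r : R | IsSMulRegular M r}ᶜ : Set R) := hreg
  rw [← h] at h1
  obtain ⟨p, hp, hxp⟩ := Set.mem_iUnion₂.mp h1
  exact hx p (hfin.mem_toFinset.mpr hp) hxp

end Avoid

end Groth.Agent.Lib.Seat86.GrFinA
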