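import Mathlib
import Groth.Prelude.Def_GrLC
import Groth.Agent.Lib.Helper29GrShift
import Groth.Agent.Lib.Helper29GrSub

/-!
# Products, shifts and retracts of graded modules; *injectivity (seat 86)

* `prodGr 𝓐 𝓑` : the product grading on `A × B`, with `prodDecomposition`, `prod_gradedSMul`;
* `prodGMod X Y` : the product of two bundled graded modules;
* `isStarInj_prod`, `isStarInj_shift`, `isStarInj_of_retract`.
-/

set_option autoImplicit false
set_option linter.style.haveILetI false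
set_option linter.unusedSectionVars false
open DirectSum

noncomputable section

namespace Groth.Agent.Lib.Seat86.GrProd

open Groth.Agent.Lib.Helper29GrShift Groth.Agent.Lib.Helper29GrSub

universe u

variable {ι : Type} [AddCommGroup ι] [DecidableEq ι]
variable {R : Type u} [CommRing R]

section Prod

variable {A B : Type u} [AddCommGroup A] [AddCommGroup B]
  (𝓐 : ι → AddSubgroup A) (𝓑 : ι → AddSubgroup B)

/-- The product grading on `A × B`. -/
def prodGr : ι → AddSubgroup (A × B) := fun g => (𝓐 g).prod (𝓑 g)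

theorem mem_prodGr {g : ι} {z : A × B} : z ∈ prodGr 𝓐 𝓑 g ↔ z.1 ∈ 𝓐 g ∧ z.2 ∈ 𝓑 g :=
  AddSubgroup.mem_prod

/-- left inclusion of pieces -/
def inlPiece (g : ι) : ↥(𝓐 g) →+ ↥(prodGr 𝓐 𝓑 g) where
  toFun x := ⟨((x : A), 0), ⟨x.2, zero_mem _⟩⟩
  map_zero' := rfl
  map_add' x y := Subtype.ext (by simp)

/-- right inclusion of pieces -/
def inrPiece (g : ι) : ↥(𝓑 g) →+ ↥(prodGr 𝓐 𝓑 g) where
  toFun y := ⟨(0, (y : B)), ⟨zero_mem _, y.2⟩⟩
  map_zero' := rfl
  map_add' x y := Subtype.ext (by simp)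

theorem coe_map_inlPiece (y : ⨁ g, 𝓐 g) :
    DirectSum.coeAddMonoidHom (prodGr 𝓐 𝓑) (DirectSum.map (inlPiece 𝓐 𝓑) y) =
      (DirectSum.coeAddMonoidHom 𝓐 y, 0) := by
  classical
  induction y using DirectSum.induction_on with
  | zero =>
    rw [map_zero, map_zero, map_zero]
    rfl
  | of g x =>
    rw [DirectSum.map_of, DirectSum.coeAddMonoidHom_of, DirectSum.coeAddMonoidHom_of]
    rfl
  | add x y hx hy =>
    rw [map_add, map_add, map_add, hx, hy]
    simp

theorem coe_map_inrPiece (y : ⨁ g, 𝓑 g) :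
    DirectSum.coeAddMonoidHom (prodGr 𝓐 𝓑) (DirectSum.map (inrPiece 𝓐 𝓑) y) =
      (0, DirectSum.coeAddMonoidHom 𝓑 y) := by
  classical
  induction y using DirectSum.induction_on with
  | zero =>
    rw [map_zero, map_zero, map_zero]
    rfl
  | of g x =>
    rw [DirectSum.map_of, DirectSum.coeAddMonoidHom_of, DirectSum.coeAddMonoidHom_of]
    rfl
  | add x y hx hy =>
    rw [map_add, map_add, map_add, hx, hy]
    simp

variable [DirectSum.Decomposition 𝓐] [DirectSum.Decomposition 𝓑]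

/-- the decomposition map of the product -/
def decHom : A × B →+ ⨁ g, prodGr 𝓐 𝓑 g :=
  AddMonoidHom.coprod
    ((DirectSum.map (inlPiece 𝓐 𝓑)).comp (DirectSum.decomposeAddEquiv 𝓐).toAddMonoidHom)
    ((DirectSum.map (inrPiece 𝓐 𝓑)).comp (DirectSum.decomposeAddEquiv 𝓑).toAddMonoidHom)

theorem decHom_apply (a : A) (b : B) :
    decHom 𝓐 𝓑 (a, b) = DirectSum.map (inlPiece 𝓐 𝓑) (DirectSum.decompose 𝓐 a) +
      DirectSum.map (inrPiece 𝓐 𝓑) (DirectSum.decompose 𝓑 b) := rfl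

/-- The product of two decompositions. -/
@[instance_reducible]
def prodDecomposition : DirectSum.Decomposition (prodGr 𝓐 𝓑) :=
  DirectSum.Decomposition.ofAddHom (prodGr 𝓐 𝓑) (decHom 𝓐 𝓑)
    (by
      apply AddMonoidHom.ext
      rintro ⟨a, b⟩
      rw [AddMonoidHom.comp_apply, decHom_apply, map_add, coe_map_inlPiece, coe_map_inrPiece]
      have h1 : DirectSum.coeAddMonoidHom 𝓐 (DirectSum.decompose 𝓐 a) = a :=
        DirectSum.Decomposition.left_inv a
      have h2 : DirectSum.coeAddMonoidHom 𝓑 (DirectSum.decompose 𝓑 b) = b :=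
        DirectSum.Decomposition.left_inv b
      rw [h1, h2]
      simp)
    (by
      apply DirectSum.addHom_ext
      rintro g ⟨⟨a, b⟩, ha, hb⟩
      rw [AddMonoidHom.comp_apply, DirectSum.coeAddMonoidHom_of, AddMonoidHom.id_apply]
      change decHom 𝓐 𝓑 (a, b) = _
      have ha' : a ∈ 𝓐 g := ha
      have hb' : b ∈ 𝓑 g := hb
      rw [decHom_apply, DirectSum.decompose_of_mem 𝓐 ha', DirectSum.decompose_of_mem 𝓑 hb',
        DirectSum.map_of, DirectSum.map_of,
        ← (DirectSum.of (fun i => ↥(prodGr 𝓐 𝓑 i)) g).map_add]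
      congr 1
      apply Subtype.ext
      change ((a, 0) : A × B) + (0, b) = (a, b)
      simp)

end Prod

section Modules

variable (𝒜 : ι → AddSubgroup R) [GradedRing 𝒜]
variable {A B : Type u} [AddCommGroup A] [AddCommGroup B] [Module R A] [Module R B]
  (𝓐 : ι → AddSubgroup A) (𝓑 : ι → AddSubgroup B)

include 𝒜 in
theorem prod_gradedSMul [SetLike.GradedSMul 𝒜 𝓐] [SetLike.GradedSMul 𝒜 𝓑] :
    SetLike.GradedSMul 𝒜 (prodGr 𝓐 𝓑) where
  smul_mem := by
    rintro i j r ⟨a, b⟩ hr ⟨ha, hb⟩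
    exact ⟨SetLike.GradedSMul.smul_mem (A := 𝒜) (B := 𝓐) hr ha,
      SetLike.GradedSMul.smul_mem (A := 𝒜) (B := 𝓑) hr hb⟩

end Modules

section GMod

variable {𝒜 : ι → AddSubgroup R} [GradedRing 𝒜]

instance instDecProd {A B : Type u} [AddCommGroup A] [AddCommGroup B]
    (𝓐 : ι → AddSubgroup A) (𝓑 : ι → AddSubgroup B)
    [DirectSum.Decomposition 𝓐] [DirectSum.Decomposition 𝓑] :
    DirectSum.Decomposition (prodGr 𝓐 𝓑) := prodDecomposition 𝓐 𝓑

instance instGSMulProd {A B : Type u} [AddCommGroup A] [AddCommGroup B] [Module R A] [Module R B]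
    (𝓐 : ι → AddSubgroup A) (𝓑 : ι → AddSubgroup B)
    [SetLike.GradedSMul 𝒜 𝓐] [SetLike.GradedSMul 𝒜 𝓑] :
    SetLike.GradedSMul 𝒜 (prodGr 𝓐 𝓑) := prod_gradedSMul 𝒜 𝓐 𝓑

instance instDecShift {A : Type u} [AddCommGroup A] (𝓐 : ι → AddSubgroup A)
    [DirectSum.Decomposition 𝓐] (d : ι) :
    DirectSum.Decomposition (shiftGr 𝓐 d) := shiftDecomposition 𝓐 d

instance instGSMulShift {A : Type u} [AddCommGroup A] [Module R A] (𝓐 : ι → AddSubgroup A)
    [SetLike.GradedSMul 𝒜 𝓐] (d : ι) :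
    SetLike.GradedSMul 𝒜 (shiftGr 𝓐 d) := shift_gradedSMul 𝒜 𝓐 d

/-- The product of two bundled graded modules. -/
@[reducible] def prodGMod (X Y : GrLC.GMod.{u} 𝒜) : GrLC.GMod.{u} 𝒜 where
  carrier := X.carrier × Y.carrier
  gr := prodGr X.gr Y.gr
  dec := prodDecomposition X.gr Y.gr
  gsmul := prod_gradedSMul 𝒜 X.gr Y.gr

/-- The shift of a bundled graded module: `X(d)_j = X_{j+d}`. -/
@[reducible] def shiftGMod (X : GrLC.GMod.{u} 𝒜) (d : ι) : GrLC.GMod.{u} 𝒜 where
  carrier := X.carrier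
  gr := shiftGr X.gr d
  dec := shiftDecomposition X.gr d
  gsmul := shift_gradedSMul 𝒜 X.gr d

/-- A homogeneous submodule of a bundled graded module, bundled (not reducible: its
decomposition depends on the proof of homogeneity). -/
def subGMod (X : GrLC.GMod.{u} 𝒜) (P : Submodule R X.carrier)
    (hP : P.IsHomogeneous X.gr) : GrLC.GMod.{u} 𝒜 where
  carrier := ↥P
  gr := subGr X.gr P
  dec := subDecomposition X.gr P hP
  gsmul := sub_gradedSMul X.gr P 𝒜

theorem isStarInj_prod (X Y : GrLC.GMod.{u} 𝒜) (hX : GrLC.IsStarInj 𝒜 X.gr)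
    (hY : GrLC.IsStarInj 𝒜 Y.gr) : GrLC.IsStarInj 𝒜 (prodGMod X Y).gr := by
  intro A B f hf hinj g hg
  obtain ⟨h1, hh1, hh1f⟩ := hX A B f hf hinj ((LinearMap.fst R _ _).comp g)
    (fun k m hm => ((mem_prodGr _ _).mp (hg k m hm)).1)
  obtain ⟨h2, hh2, hh2f⟩ := hY A B f hf hinj ((LinearMap.snd R _ _).comp g)
    (fun k m hm => ((mem_prodGr _ _).mp (hg k m hm)).2)
  refine ⟨h1.prod h2, fun k m hm => (mem_prodGr _ _).mpr ⟨hh1 k m hm, hh2 k m hm⟩, ?_⟩
  apply LinearMap.ext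
  intro x
  apply Prod.ext
  · exact LinearMap.congr_fun hh1f x
  · exact LinearMap.congr_fun hh2f x

theorem isStarInj_shift (X : GrLC.GMod.{u} 𝒜) (hX : GrLC.IsStarInj 𝒜 X.gr) (d : ι) :
    GrLC.IsStarInj 𝒜 (shiftGMod X d).gr := by
  intro A B f hf hinj g hg
  obtain ⟨h, hh, hhf⟩ := hX (shiftGMod A (-d)) (shiftGMod B (-d)) f
    (fun j m hm => hf _ m hm) hinj g
    (fun j m hm => by
      have := hg (j + -d) m hm
      change g m ∈ X.gr (j + -d + d) at this
      rwa [neg_add_cancel_right] at this)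
  refine ⟨h, fun j m hm => ?_, hhf⟩
  change h m ∈ X.gr (j + d)
  refine hh (j + d) m ?_
  change m ∈ B.gr (j + d + -d)
  rwa [add_neg_cancel_right]

/-- A graded retract of a *injective module is *injective. -/
theorem isStarInj_of_retract (X K : GrLC.GMod.{u} 𝒜) (hX : GrLC.IsStarInj 𝒜 X.gr)
    (s : K.carrier →ₗ[R] X.carrier) (hs : GrLC.IsGrHom K.gr X.gr s)
    (π : X.carrier →ₗ[R] K.carrier) (hπ : GrLC.IsGrHom X.gr K.gr π)
    (hπs : ∀ k, π (s k) = k) : GrLC.IsStarInj 𝒜 K.gr := by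
  intro A B f hf hinj g hg
  obtain ⟨h, hh, hhf⟩ := hX A B f hf hinj (s.comp g) (fun k m hm => hs k _ (hg k m hm))
  refine ⟨π.comp h, fun k m hm => hπ k _ (hh k m hm), ?_⟩
  ext x
  have := LinearMap.congr_fun hhf x
  simp only [LinearMap.comp_apply] at this ⊢
  rw [this, hπs]

end GMod

end Groth.Agent.Lib.Seat86.GrProd
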