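import Mathlib
import Groth.Prelude.Def_GrLC
import Groth.Agent.Lib.Seat86GrProd
import Groth.Agent.Lib.Helper29GrHom
import Groth.Agent.Lib.Helper29GrGam

/-!
# The cone resolution of a cokernel (seat 86)

Given an injective homogeneous map `α : M' → M` of graded modules, *injective resolutions `E'`, `E` of
`M'`, `M`, a homogeneous chain map `f : E' → E` over `α`, and a homogeneous surjection `β : M → M''` with
kernel the range of `α`, the mapping cone of `f` (with its contractible part split off in degree `0`)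
is a *injective resolution `D` of `M''`, with `D^0 = ker ρ ⊆ E'^1 × E^0` (for a homogeneous retraction
`ρ` of `j = (-d, f) : E'^0 → E'^1 × E^0`) and `D^{n+1} = E'^{n+2} × E^{n+1}`.
-/

set_option autoImplicit false
set_option linter.style.haveILetI false
set_option linter.unusedSectionVars false
open DirectSum

noncomputable section

namespace Groth.Agent.Lib.Seat86.GrCone

open Groth.Agent.Lib.Seat86.GrProd Groth.Agent.Lib.Helper29GrSub

universe u

variable {ι : Type} [AddCommGroup ι] [DecidableEq ι]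
variable {R : Type u} [CommRing R] {𝒜 : ι → AddSubgroup R} [GradedRing 𝒜]
variable {M' M M'' : Type u} [AddCommGroup M'] [Module R M'] [AddCommGroup M] [Module R M]
  [AddCommGroup M''] [Module R M'']
  {ℳ' : ι → AddSubgroup M'} {ℳ : ι → AddSubgroup M} {ℳ'' : ι → AddSubgroup M''}
  [DirectSum.Decomposition ℳ'] [SetLike.GradedSMul 𝒜 ℳ']
  [DirectSum.Decomposition ℳ] [SetLike.GradedSMul 𝒜 ℳ]
  [DirectSum.Decomposition ℳ''] [SetLike.GradedSMul 𝒜 ℳ'']

/-- A homogeneous chain map between *injective resolutions over a module map `α`. -/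
structure ChainLift (α : M' →ₗ[R] M) (E' : GrLC.StarInjRes 𝒜 ℳ') (E : GrLC.StarInjRes 𝒜 ℳ) where
  /-- the components -/
  f : ∀ n, (E'.X n).carrier →ₗ[R] (E.X n).carrier
  grHom : ∀ n, GrLC.IsGrHom (E'.X n).gr (E.X n).gr (f n)
  comm_ε : ∀ m, f 0 (E'.ε m) = E.ε (α m)
  comm : ∀ n x, f (n + 1) (E'.d n x) = E.d n (f n x)

theorem d_d (E : GrLC.StarInjRes 𝒜 ℳ) (n : ℕ) (x : (E.X n).carrier) :
    E.d (n + 1) (E.d n x) = 0 := by
  have : E.d n x ∈ LinearMap.ker (E.d (n + 1)) := by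
    rw [E.exact_succ n]; exact LinearMap.mem_range_self _ x
  exact this

theorem d_ε (E : GrLC.StarInjRes 𝒜 ℳ) (m : M) : E.d 0 (E.ε m) = 0 := by
  have : E.ε m ∈ LinearMap.ker (E.d 0) := by
    rw [E.exact_zero]; exact LinearMap.mem_range_self _ m
  exact this

/-- A graded surjection is surjective on pieces. -/
theorem exists_mem_piece_of_surjective (β : M →ₗ[R] M'') (hβ : GrLC.IsGrHom ℳ ℳ'' β)
    (hsurj : Function.Surjective β) {g : ι} {y : M''} (hy : y ∈ ℳ'' g) :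
    ∃ m ∈ ℳ g, β m = y := by
  obtain ⟨m₀, rfl⟩ := hsurj y
  refine ⟨((DirectSum.decompose ℳ m₀) g : M), SetLike.coe_mem _, ?_⟩
  rw [← Groth.Agent.Lib.Helper29GrHom.decompose_map ℳ'' ℳ β hβ m₀ g,
    DirectSum.decompose_of_mem_same _ hy]

section Cone

variable {α : M' →ₗ[R] M} {E' : GrLC.StarInjRes 𝒜 ℳ'} {E : GrLC.StarInjRes 𝒜 ℳ}
  (F : ChainLift α E' E)

/-- The terms of the cone. -/
abbrev C (n : ℕ) : GrLC.GMod.{u} 𝒜 := prodGMod (E'.X (n + 1)) (E.X n)

/-- The differential of the cone: `(x', x) ↦ (-d x', f x' + d x)`. -/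
def dC (n : ℕ) : (C (E' := E') (E := E) n).carrier →ₗ[R] (C (E' := E') (E := E) (n + 1)).carrier :=
  LinearMap.prod (-(E'.d (n + 1)).comp (LinearMap.fst R _ _))
    ((F.f (n + 1)).comp (LinearMap.fst R _ _) + (E.d n).comp (LinearMap.snd R _ _))

theorem dC_apply (n : ℕ) (x' : (E'.X (n + 1)).carrier) (x : (E.X n).carrier) :
    dC F n (x', x) = (-(E'.d (n + 1) x'), F.f (n + 1) x' + E.d n x) := rfl

theorem dC_grHom (n : ℕ) :
    GrLC.IsGrHom (C (E' := E') (E := E) n).gr (C (E' := E') (E := E) (n + 1)).gr (dC F n) := by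
  rintro g ⟨x', x⟩ hz
  obtain ⟨hx', hx⟩ := (mem_prodGr _ _).mp hz
  exact (mem_prodGr _ _).mpr ⟨neg_mem (E'.d_grHom (n + 1) g x' hx'),
    add_mem (F.grHom (n + 1) g x' hx') (E.d_grHom n g x hx)⟩

theorem dC_dC (n : ℕ) (z : (C (E' := E') (E := E) n).carrier) : dC F (n + 1) (dC F n z) = 0 := by
  obtain ⟨x', x⟩ := z
  rw [dC_apply, dC_apply]
  apply Prod.ext
  · show -(E'.d (n + 2) (-(E'.d (n + 1) x'))) = 0
    rw [map_neg, d_d, neg_zero, neg_zero]
  · show F.f (n + 2) (-(E'.d (n + 1) x')) + E.d (n + 1) (F.f (n + 1) x' + E.d n x) = 0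
    rw [map_neg, F.comm, map_add, d_d, add_zero, neg_add_cancel]

/-- The augmentation-like map `j = (-d, f) : E'^0 → C^0`. -/
def jC : (E'.X 0).carrier →ₗ[R] (C (E' := E') (E := E) 0).carrier :=
  LinearMap.prod (-(E'.d 0)) (F.f 0)

theorem jC_apply (y : (E'.X 0).carrier) : jC F y = (-(E'.d 0 y), F.f 0 y) := rfl

theorem jC_grHom : GrLC.IsGrHom (E'.X 0).gr (C (E' := E') (E := E) 0).gr (jC F) := by
  intro g y hy
  exact (mem_prodGr _ _).mpr ⟨neg_mem (E'.d_grHom 0 g y hy), F.grHom 0 g y hy⟩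

theorem dC_jC (y : (E'.X 0).carrier) : dC F 0 (jC F y) = 0 := by
  rw [jC_apply, dC_apply]
  apply Prod.ext
  · show -(E'.d 1 (-(E'.d 0 y))) = 0
    rw [map_neg, d_d, neg_zero, neg_zero]
  · show F.f 1 (-(E'.d 0 y)) + E.d 0 (F.f 0 y) = 0
    rw [map_neg, F.comm, neg_add_cancel]

variable (hα : Function.Injective α)

include hα in
theorem jC_injective : Function.Injective (jC F) := by
  rw [← LinearMap.ker_eq_bot, LinearMap.ker_eq_bot']
  intro y hy
  rw [jC_apply, Prod.mk_eq_zero, neg_eq_zero] at hy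
  have h1 : y ∈ LinearMap.range E'.ε := by rw [← E'.exact_zero]; exact hy.1
  obtain ⟨m', rfl⟩ := h1
  have h2 := hy.2
  rw [F.comm_ε] at h2
  have h3 : α m' = 0 := E.ε_injective (by rw [h2, map_zero])
  have h4 : m' = 0 := hα (by rw [h3, map_zero])
  rw [h4, map_zero]

include hα in
/-- A homogeneous retraction of `j`. -/
theorem exists_retraction :
    ∃ ρ : (C (E' := E') (E := E) 0).carrier →ₗ[R] (E'.X 0).carrier,
      GrLC.IsGrHom (C (E' := E') (E := E) 0).gr (E'.X 0).gr ρ ∧ ∀ y, ρ (jC F y) = y := by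
  obtain ⟨ρ, hρ, hρj⟩ := E'.starInj 0 (E'.X 0) (C (E' := E') (E := E) 0) (jC F) (jC_grHom F)
    (jC_injective F hα) LinearMap.id (fun _ _ h => h)
  exact ⟨ρ, hρ, fun y => LinearMap.congr_fun hρj y⟩

end Cone

/-- The data needed to build the cone resolution. -/
structure ConeData (α : M' →ₗ[R] M) (E' : GrLC.StarInjRes 𝒜 ℳ') (E : GrLC.StarInjRes 𝒜 ℳ)
    (β : M →ₗ[R] M'') where
  /-- the chain map -/
  F : ChainLift α E' E
  /-- the retraction of `j` -/
  ρ : (C (E' := E') (E := E) 0).carrier →ₗ[R] (E'.X 0).carrier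
  ρ_grHom : GrLC.IsGrHom (C (E' := E') (E := E) 0).gr (E'.X 0).gr ρ
  ρ_j : ∀ y, ρ (jC F y) = y
  α_inj : Function.Injective α
  β_surj : Function.Surjective β
  β_grHom : GrLC.IsGrHom ℳ ℳ'' β
  ker_β : LinearMap.ker β = LinearMap.range α

namespace ConeData

variable {α : M' →ₗ[R] M} {E' : GrLC.StarInjRes 𝒜 ℳ'} {E : GrLC.StarInjRes 𝒜 ℳ}
  {β : M →ₗ[R] M''} (c : ConeData (ℳ'' := ℳ'') α E' E β)

/-- The projection `π = 1 - jρ` of `C^0` onto `ker ρ` along `range j`. -/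
def πC : (C (E' := E') (E := E) 0).carrier →ₗ[R] (C (E' := E') (E := E) 0).carrier :=
  LinearMap.id - (jC c.F).comp c.ρ

theorem πC_apply (z : (C (E' := E') (E := E) 0).carrier) : c.πC z = z - jC c.F (c.ρ z) := rfl

theorem ρ_πC (z : (C (E' := E') (E := E) 0).carrier) : c.ρ (c.πC z) = 0 := by
  rw [πC_apply, map_sub, c.ρ_j, sub_self]

theorem πC_j (y : (E'.X 0).carrier) : c.πC (jC c.F y) = 0 := by
  rw [πC_apply, c.ρ_j, sub_self]

theorem πC_of_mem {z : (C (E' := E') (E := E) 0).carrier} (hz : c.ρ z = 0) : c.πC z = z := by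
  rw [πC_apply, hz, map_zero, sub_zero]

theorem dC_πC (z : (C (E' := E') (E := E) 0).carrier) : dC c.F 0 (c.πC z) = dC c.F 0 z := by
  rw [πC_apply, map_sub, dC_jC, sub_zero]

theorem πC_grHom :
    GrLC.IsGrHom (C (E' := E') (E := E) 0).gr (C (E' := E') (E := E) 0).gr c.πC := by
  intro g z hz
  rw [πC_apply]
  exact sub_mem hz (jC_grHom c.F g _ (c.ρ_grHom g z hz))

theorem kerρ_isHomogeneous : (LinearMap.ker c.ρ).IsHomogeneous (C (E' := E') (E := E) 0).gr :=
  Groth.Agent.Lib.Helper29GrHom.ker_isHomogeneous (E'.X 0).gr (C (E' := E') (E := E) 0).gr c.ρ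
    c.ρ_grHom

/-- The degree-zero term of the cone resolution: `ker ρ`. -/
def D0 : GrLC.GMod.{u} 𝒜 := subGMod (C (E' := E') (E := E) 0) (LinearMap.ker c.ρ) c.kerρ_isHomogeneous

/-- The projection onto `ker ρ`, with values in `D0`. -/
def πK : (C (E' := E') (E := E) 0).carrier →ₗ[R] c.D0.carrier :=
  LinearMap.codRestrict (LinearMap.ker c.ρ) c.πC (fun z => c.ρ_πC z)

/-- inclusion of `D0` -/
def ιK : c.D0.carrier →ₗ[R] (C (E' := E') (E := E) 0).carrier := (LinearMap.ker c.ρ).subtype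

theorem ιK_πK (z : (C (E' := E') (E := E) 0).carrier) : c.ιK (c.πK z) = c.πC z := rfl

theorem ιK_injective : Function.Injective c.ιK := Subtype.val_injective

theorem ρ_ιK (k : c.D0.carrier) : c.ρ (c.ιK k) = 0 := Subtype.property (p := fun z => z ∈ LinearMap.ker c.ρ) k

theorem πK_ιK (k : c.D0.carrier) : c.πK (c.ιK k) = k := by
  apply c.ιK_injective
  rw [ιK_πK]
  exact c.πC_of_mem (c.ρ_ιK k)

theorem ιK_grHom : GrLC.IsGrHom c.D0.gr (C (E' := E') (E := E) 0).gr c.ιK := fun _ _ h => h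

theorem πK_grHom : GrLC.IsGrHom (C (E' := E') (E := E) 0).gr c.D0.gr c.πK := by
  intro g z hz
  exact c.πC_grHom g z hz

theorem D0_starInj : GrLC.IsStarInj 𝒜 c.D0.gr :=
  isStarInj_of_retract (C (E' := E') (E := E) 0) c.D0
    (isStarInj_prod _ _ (E'.starInj 1) (E.starInj 0)) c.ιK c.ιK_grHom c.πK c.πK_grHom c.πK_ιK

/-- The terms of the cone resolution. -/
def DX : ℕ → GrLC.GMod.{u} 𝒜
  | 0 => c.D0
  | n + 1 => C (E' := E') (E := E) (n + 1)

/-- The differentials of the cone resolution. -/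
def Dd : ∀ n, (c.DX n).carrier →ₗ[R] (c.DX (n + 1)).carrier
  | 0 => (dC c.F 0).comp c.ιK
  | n + 1 => dC c.F (n + 1)

/-- `m ↦ π(0, ε m)`. -/
def ε₀ : M →ₗ[R] c.D0.carrier := c.πK.comp ((LinearMap.inr R _ _).comp E.ε)

theorem coe_ε₀ (m : M) : c.ιK (c.ε₀ m) = c.πC (0, E.ε m) := rfl

theorem ε₀_α (m' : M') : c.ε₀ (α m') = 0 := by
  apply c.ιK_injective
  rw [coe_ε₀, map_zero]
  have : ((0 : (E'.X 1).carrier), E.ε (α m')) = jC c.F (E'.ε m') := by
    rw [jC_apply, d_ε, neg_zero, c.F.comm_ε]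
  rw [this, c.πC_j]

theorem ker_β_le : LinearMap.ker β ≤ LinearMap.ker c.ε₀ := by
  intro m hm
  rw [c.ker_β] at hm
  obtain ⟨m', rfl⟩ := hm
  exact c.ε₀_α m'

/-- The augmentation of the cone resolution. -/
def Dε : M'' →ₗ[R] c.D0.carrier :=
  ((LinearMap.ker β).liftQ c.ε₀ c.ker_β_le).comp
    (β.quotKerEquivOfSurjective c.β_surj).symm.toLinearMap

theorem Dε_β (m : M) : c.Dε (β m) = c.ε₀ m := by
  have : (β.quotKerEquivOfSurjective c.β_surj).symm (β m) = (LinearMap.ker β).mkQ m := by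
    rw [LinearEquiv.symm_apply_eq]
    rfl
  show ((LinearMap.ker β).liftQ c.ε₀ c.ker_β_le)
    ((β.quotKerEquivOfSurjective c.β_surj).symm (β m)) = _
  rw [this]
  rfl

theorem Dε_grHom : GrLC.IsGrHom ℳ'' c.D0.gr c.Dε := by
  intro g y hy
  obtain ⟨m, hm, rfl⟩ := exists_mem_piece_of_surjective β c.β_grHom c.β_surj hy
  rw [c.Dε_β]
  refine c.πK_grHom g _ ?_
  exact (mem_prodGr _ _).mpr ⟨zero_mem _, E.ε_grHom g m hm⟩

theorem Dε_injective : Function.Injective c.Dε := by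
  rw [← LinearMap.ker_eq_bot, LinearMap.ker_eq_bot']
  intro y hy
  obtain ⟨m, rfl⟩ := c.β_surj y
  rw [c.Dε_β] at hy
  have h1 : c.πC (0, E.ε m) = 0 := by
    rw [← coe_ε₀, hy, map_zero]
  rw [πC_apply, sub_eq_zero] at h1
  set y' := c.ρ (0, E.ε m) with hy'
  rw [jC_apply, Prod.mk.injEq] at h1
  have h2 : E'.d 0 y' = 0 := by
    have := h1.1
    rw [eq_comm, neg_eq_zero] at this
    exact this
  have h3 : y' ∈ LinearMap.range E'.ε := by rw [← E'.exact_zero]; exact h2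
  obtain ⟨m', hm'⟩ := h3
  have h4 : E.ε m = E.ε (α m') := by
    rw [h1.2, ← hm', c.F.comm_ε]
  have h5 : m = α m' := E.ε_injective h4
  have h6 : m ∈ LinearMap.ker β := by rw [c.ker_β, h5]; exact LinearMap.mem_range_self _ _
  exact h6

theorem exact_zero : LinearMap.ker (c.Dd 0) = LinearMap.range c.Dε := by
  apply le_antisymm
  · intro k hk
    have hk' : dC c.F 0 (c.ιK k) = 0 := hk
    obtain ⟨⟨x', x⟩, hxk⟩ : ∃ z : (E'.X 1).carrier × (E.X 0).carrier, z = c.ιK k := ⟨_, rfl⟩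
    rw [← hxk, dC_apply, Prod.mk_eq_zero, neg_eq_zero] at hk'
    have h1 : x' ∈ LinearMap.range (E'.d 0) := by rw [← E'.exact_succ 0]; exact hk'.1
    obtain ⟨y', rfl⟩ := h1
    have h2 : E.d 0 (x + c.F.f 0 y') = 0 := by
      rw [map_add, ← c.F.comm 0 y']; exact (add_comm _ _).trans hk'.2
    have h3 : x + c.F.f 0 y' ∈ LinearMap.range E.ε := by rw [← E.exact_zero]; exact h2
    obtain ⟨m, hm⟩ := h3
    refine ⟨β m, ?_⟩
    rw [c.Dε_β]
    apply c.ιK_injective
    rw [coe_ε₀, hm]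
    have h4 : ((0 : (E'.X 1).carrier), x + c.F.f 0 y') = c.ιK k + jC c.F y' := by
      rw [← hxk, jC_apply]
      apply Prod.ext
      · show (0 : (E'.X 1).carrier) = E'.d 0 y' + -(E'.d 0 y')
        rw [add_neg_cancel]
      · rfl
    rw [h4, map_add, c.πC_j, add_zero]
    exact c.πC_of_mem (c.ρ_ιK k)
  · rintro _ ⟨y, rfl⟩
    obtain ⟨m, rfl⟩ := c.β_surj y
    rw [c.Dε_β]
    show dC c.F 0 (c.ιK (c.ε₀ m)) = 0
    have : c.ιK (c.ε₀ m) = c.πC (0, E.ε m) := rfl
    rw [this, c.dC_πC, dC_apply]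
    apply Prod.ext
    · show -(E'.d 1 0) = 0
      rw [map_zero, neg_zero]
    · show c.F.f 1 0 + E.d 0 (E.ε m) = 0
      rw [map_zero, d_ε, add_zero]

/-- exactness of the cone in positive degrees -/
theorem ker_dC_succ (n : ℕ) (z : (C (E' := E') (E := E) (n + 1)).carrier)
    (hz : dC c.F (n + 1) z = 0) : ∃ w : (C (E' := E') (E := E) n).carrier, dC c.F n w = z := by
  obtain ⟨x', x⟩ := z
  rw [dC_apply, Prod.mk_eq_zero, neg_eq_zero] at hz
  have h1 : x' ∈ LinearMap.range (E'.d (n + 1)) := by rw [← E'.exact_succ (n + 1)]; exact hz.1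
  obtain ⟨y', rfl⟩ := h1
  have h2 : E.d (n + 1) (x + c.F.f (n + 1) y') = 0 := by
    rw [map_add, ← c.F.comm (n + 1) y']; exact (add_comm _ _).trans hz.2
  have h3 : x + c.F.f (n + 1) y' ∈ LinearMap.range (E.d n) := by
    rw [← E.exact_succ n]; exact h2
  obtain ⟨y, hy⟩ := h3
  refine ⟨(-y', y), ?_⟩
  rw [dC_apply]
  apply Prod.ext
  · show -(E'.d (n + 1) (-y')) = E'.d (n + 1) y'
    rw [map_neg, neg_neg]
  · show c.F.f (n + 1) (-y') + E.d n y = x
    rw [hy, map_neg]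
    abel

theorem exact_succ (n : ℕ) : LinearMap.ker (c.Dd (n + 1)) = LinearMap.range (c.Dd n) := by
  apply le_antisymm
  · intro z hz
    obtain ⟨w, hw⟩ := c.ker_dC_succ n z hz
    cases n with
    | zero =>
      refine ⟨c.πK w, ?_⟩
      show dC c.F 0 (c.πC w) = z
      rw [c.dC_πC, hw]
    | succ n => exact ⟨w, hw⟩
  · rintro _ ⟨w, rfl⟩
    cases n with
    | zero => exact dC_dC c.F 0 (c.ιK w)
    | succ n => exact dC_dC c.F (n + 1) w

theorem Dd_grHom (n : ℕ) : GrLC.IsGrHom (c.DX n).gr (c.DX (n + 1)).gr (c.Dd n) := by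
  cases n with
  | zero =>
    intro g k hk
    exact dC_grHom c.F 0 g _ (c.ιK_grHom g k hk)
  | succ n => exact dC_grHom c.F (n + 1)

theorem DX_starInj (n : ℕ) : GrLC.IsStarInj 𝒜 (c.DX n).gr := by
  cases n with
  | zero => exact c.D0_starInj
  | succ n => exact isStarInj_prod _ _ (E'.starInj (n + 2)) (E.starInj (n + 1))

/-- **The cone resolution** of the cokernel. -/
def D : GrLC.StarInjRes 𝒜 ℳ'' where
  X := c.DX
  d := c.Dd
  ε := c.Dε
  d_grHom := c.Dd_grHom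
  ε_grHom := c.Dε_grHom
  ε_injective := c.Dε_injective
  exact_zero := c.exact_zero
  exact_succ := c.exact_succ
  starInj := c.DX_starInj

end ConeData

/-- Cone data exist. -/
theorem nonempty_coneData (α : M' →ₗ[R] M) (E' : GrLC.StarInjRes 𝒜 ℳ') (E : GrLC.StarInjRes 𝒜 ℳ)
    (β : M →ₗ[R] M'') (F : ChainLift α E' E) (hα : Function.Injective α)
    (hβ : Function.Surjective β) (hβg : GrLC.IsGrHom ℳ ℳ'' β)
    (hker : LinearMap.ker β = LinearMap.range α) :
    ∃ c : ConeData (ℳ'' := ℳ'') α E' E β, c.F = F := by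
  obtain ⟨ρ, hρ, hρj⟩ := exists_retraction F hα
  exact ⟨⟨F, ρ, hρ, hρj, hα, hβ, hβg, hker⟩, rfl⟩

end Groth.Agent.Lib.Seat86.GrCone
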