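import Mathlib
import Groth.Prelude.Def_GrLC

/-!
# Maps induced on graded local cohomology by homogeneous chain maps (seat 86)

For *injective resolutions `E₁`, `E₂` (of possibly different graded modules):
* `CxHom E₁ E₂` : homogeneous chain maps; `CxHom.Hmap φ a i : E₁.H a i →ₗ[R] E₂.H a i`;
* `CxHom1 E₁ E₂` : homogeneous maps `E₁^n → E₂^{n+1}` anticommuting with the differentials;
  `CxHom1.Hmap ψ a i : E₁.H a i →ₗ[R] E₂.H a (i+1)`;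
* both preserve the pieces `Hgr`.
-/

set_option autoImplicit false
set_option linter.style.haveILetI false
set_option linter.unusedSectionVars false
open DirectSum

noncomputable section

namespace Groth.Agent.Lib.Seat86.GrHmap

universe u

variable {ι : Type} [AddCommGroup ι] [DecidableEq ι]
variable {R : Type u} [CommRing R] {𝒜 : ι → AddSubgroup R} [GradedRing 𝒜]

section Gam

variable {A B : Type u} [AddCommGroup A] [Module R A] [AddCommGroup B] [Module R B]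

theorem map_mem_gam (f : A →ₗ[R] B) (I : Ideal R) {x : A} (hx : x ∈ GrLC.gam I A) :
    f x ∈ GrLC.gam I B := by
  obtain ⟨k, hk⟩ := hx
  exact ⟨k, fun r hr => by rw [← map_smul, hk r hr, map_zero]⟩

theorem mem_gam_prod (I : Ideal R) (p : A × B) :
    p ∈ GrLC.gam I (A × B) ↔ p.1 ∈ GrLC.gam I A ∧ p.2 ∈ GrLC.gam I B := by
  constructor
  · intro hp
    exact ⟨map_mem_gam (LinearMap.fst R A B) I hp, map_mem_gam (LinearMap.snd R A B) I hp⟩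
  · rintro ⟨⟨n, hn⟩, ⟨k, hk⟩⟩
    refine ⟨n + k, fun r hr => ?_⟩
    ext
    · exact hn r (Ideal.pow_le_pow_right (Nat.le_add_right n k) hr)
    · exact hk r (Ideal.pow_le_pow_right (Nat.le_add_left k n) hr)

theorem mem_gam_of_injective (f : A →ₗ[R] B) (hf : Function.Injective f) (I : Ideal R) {x : A}
    (hx : f x ∈ GrLC.gam I B) : x ∈ GrLC.gam I A := by
  obtain ⟨k, hk⟩ := hx
  exact ⟨k, fun r hr => hf (by rw [map_smul, hk r hr, map_zero])⟩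

end Gam

variable {M₁ M₂ : Type u} [AddCommGroup M₁] [Module R M₁] [AddCommGroup M₂] [Module R M₂]
  {ℳ₁ : ι → AddSubgroup M₁} {ℳ₂ : ι → AddSubgroup M₂}
  [DirectSum.Decomposition ℳ₁] [SetLike.GradedSMul 𝒜 ℳ₁]
  [DirectSum.Decomposition ℳ₂] [SetLike.GradedSMul 𝒜 ℳ₂]

section API

variable (E : GrLC.StarInjRes 𝒜 ℳ₁) (a : HomogeneousIdeal 𝒜)

theorem toH_surjective (i : ℕ) : Function.Surjective (E.toH a i) := Submodule.mkQ_surjective _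

theorem toH_eq_zero_iff {i : ℕ} (z : ↥(E.cocyc a i)) :
    E.toH a i z = 0 ↔ (z : (E.X i).carrier) ∈ E.cobdy a i := by
  rw [Submodule.mkQ_apply, Submodule.Quotient.mk_eq_zero]
  rfl

theorem toH_eq_iff {i : ℕ} (z w : ↥(E.cocyc a i)) :
    E.toH a i z = E.toH a i w ↔ (z : (E.X i).carrier) - (w : (E.X i).carrier) ∈ E.cobdy a i := by
  rw [← sub_eq_zero, ← map_sub, toH_eq_zero_iff]
  rfl

theorem mem_cocyc_iff {i : ℕ} {x : (E.X i).carrier} :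
    x ∈ E.cocyc a i ↔ x ∈ GrLC.gam a.toIdeal (E.X i).carrier ∧ E.d i x = 0 := Iff.rfl

theorem mem_cobdy_succ_iff {n : ℕ} {x : (E.X (n + 1)).carrier} :
    x ∈ E.cobdy a (n + 1) ↔ ∃ w ∈ GrLC.gam a.toIdeal (E.X n).carrier, E.d n w = x := Iff.rfl

theorem mem_cobdy_zero_iff {x : (E.X 0).carrier} : x ∈ E.cobdy a 0 ↔ x = 0 :=
  Submodule.mem_bot R

theorem mem_Hgr_iff {i : ℕ} {g : ι} {y : E.H a i} :
    y ∈ E.Hgr a i g ↔ ∃ z : ↥(E.cocyc a i), (z : (E.X i).carrier) ∈ (E.X i).gr g ∧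
      E.toH a i z = y := Iff.rfl

theorem d_d (n : ℕ) (x : (E.X n).carrier) : E.d (n + 1) (E.d n x) = 0 := by
  have : E.d n x ∈ LinearMap.ker (E.d (n + 1)) := by
    rw [E.exact_succ n]; exact LinearMap.mem_range_self _ x
  exact this

end API

/-- A homogeneous chain map between two *injective resolutions. -/
structure CxHom (E₁ : GrLC.StarInjRes 𝒜 ℳ₁) (E₂ : GrLC.StarInjRes 𝒜 ℳ₂) where
  /-- components -/
  f : ∀ n, (E₁.X n).carrier →ₗ[R] (E₂.X n).carrier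
  grHom : ∀ n, GrLC.IsGrHom (E₁.X n).gr (E₂.X n).gr (f n)
  comm : ∀ n x, f (n + 1) (E₁.d n x) = E₂.d n (f n x)

/-- A homogeneous map of degree `+1` anticommuting with the differentials. -/
structure CxHom1 (E₁ : GrLC.StarInjRes 𝒜 ℳ₁) (E₂ : GrLC.StarInjRes 𝒜 ℳ₂) where
  /-- components -/
  r : ∀ n, (E₁.X n).carrier →ₗ[R] (E₂.X (n + 1)).carrier
  grHom : ∀ n, GrLC.IsGrHom (E₁.X n).gr (E₂.X (n + 1)).gr (r n)
  anticomm : ∀ n x, E₂.d (n + 1) (r n x) = -(r (n + 1) (E₁.d n x))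

namespace CxHom

variable {E₁ : GrLC.StarInjRes 𝒜 ℳ₁} {E₂ : GrLC.StarInjRes 𝒜 ℳ₂} (φ : CxHom E₁ E₂)
  (a : HomogeneousIdeal 𝒜)

theorem map_mem_cocyc (i : ℕ) {x : (E₁.X i).carrier} (hx : x ∈ E₁.cocyc a i) :
    φ.f i x ∈ E₂.cocyc a i := by
  obtain ⟨h1, h2⟩ := hx
  refine ⟨map_mem_gam _ _ h1, ?_⟩
  have h2' : E₁.d i x = 0 := h2
  show E₂.d i (φ.f i x) = 0
  rw [← φ.comm, h2', map_zero]

theorem map_mem_cobdy (i : ℕ) {x : (E₁.X i).carrier} (hx : x ∈ E₁.cobdy a i) :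
    φ.f i x ∈ E₂.cobdy a i := by
  cases i with
  | zero =>
    rw [mem_cobdy_zero_iff] at hx ⊢
    rw [hx, map_zero]
  | succ n =>
    obtain ⟨w, hw, rfl⟩ := hx
    exact ⟨φ.f n w, map_mem_gam _ _ hw, (φ.comm n w).symm⟩

/-- the map on cocycles -/
def cocycMap (i : ℕ) : ↥(E₁.cocyc a i) →ₗ[R] ↥(E₂.cocyc a i) :=
  (φ.f i).restrict (fun _ hx => φ.map_mem_cocyc a i hx)

theorem coe_cocycMap (i : ℕ) (z : ↥(E₁.cocyc a i)) :
    ((φ.cocycMap a i z : ↥(E₂.cocyc a i)) : (E₂.X i).carrier) = φ.f i z := rfl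

/-- The map induced on graded local cohomology. -/
def Hmap (i : ℕ) : E₁.H a i →ₗ[R] E₂.H a i :=
  Submodule.mapQ _ _ (φ.cocycMap a i) (fun _ hz => φ.map_mem_cobdy a i hz)

theorem Hmap_toH (i : ℕ) (z : ↥(E₁.cocyc a i)) :
    φ.Hmap a i (E₁.toH a i z) = E₂.toH a i (φ.cocycMap a i z) := rfl

theorem Hmap_mem_Hgr (i : ℕ) (g : ι) {y : E₁.H a i} (hy : y ∈ E₁.Hgr a i g) :
    φ.Hmap a i y ∈ E₂.Hgr a i g := by
  obtain ⟨z, hz, rfl⟩ := hy
  exact ⟨φ.cocycMap a i z, φ.grHom i g _ hz, rfl⟩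

end CxHom

namespace CxHom1

variable {E₁ : GrLC.StarInjRes 𝒜 ℳ₁} {E₂ : GrLC.StarInjRes 𝒜 ℳ₂} (ψ : CxHom1 E₁ E₂)
  (a : HomogeneousIdeal 𝒜)

theorem map_mem_cocyc (i : ℕ) {x : (E₁.X i).carrier} (hx : x ∈ E₁.cocyc a i) :
    ψ.r i x ∈ E₂.cocyc a (i + 1) := by
  obtain ⟨h1, h2⟩ := hx
  refine ⟨map_mem_gam _ _ h1, ?_⟩
  have h2' : E₁.d i x = 0 := h2
  show E₂.d (i + 1) (ψ.r i x) = 0
  rw [ψ.anticomm, h2', map_zero, neg_zero]

theorem map_mem_cobdy (i : ℕ) {x : (E₁.X i).carrier} (hx : x ∈ E₁.cobdy a i) :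
    ψ.r i x ∈ E₂.cobdy a (i + 1) := by
  cases i with
  | zero =>
    rw [mem_cobdy_zero_iff] at hx
    rw [hx, map_zero]
    exact zero_mem _
  | succ n =>
    obtain ⟨w, hw, rfl⟩ := hx
    refine ⟨-(ψ.r n w), neg_mem (map_mem_gam _ _ hw), ?_⟩
    rw [map_neg, ψ.anticomm, neg_neg]

/-- the map on cocycles -/
def cocycMap (i : ℕ) : ↥(E₁.cocyc a i) →ₗ[R] ↥(E₂.cocyc a (i + 1)) :=
  (ψ.r i).restrict (fun _ hx => ψ.map_mem_cocyc a i hx)

theorem coe_cocycMap (i : ℕ) (z : ↥(E₁.cocyc a i)) :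
    ((ψ.cocycMap a i z : ↥(E₂.cocyc a (i + 1))) : (E₂.X (i + 1)).carrier) = ψ.r i z := rfl

/-- The map induced on graded local cohomology (raising the cohomological degree). -/
def Hmap (i : ℕ) : E₁.H a i →ₗ[R] E₂.H a (i + 1) :=
  Submodule.mapQ _ _ (ψ.cocycMap a i) (fun _ hz => ψ.map_mem_cobdy a i hz)

theorem Hmap_toH (i : ℕ) (z : ↥(E₁.cocyc a i)) :
    ψ.Hmap a i (E₁.toH a i z) = E₂.toH a (i + 1) (ψ.cocycMap a i z) := rfl

theorem Hmap_mem_Hgr (i : ℕ) (g : ι) {y : E₁.H a i} (hy : y ∈ E₁.Hgr a i g) :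
    ψ.Hmap a i y ∈ E₂.Hgr a (i + 1) g := by
  obtain ⟨z, hz, rfl⟩ := hy
  exact ⟨ψ.cocycMap a i z, ψ.grHom i g _ hz, rfl⟩

end CxHom1

end Groth.Agent.Lib.Seat86.GrHmap
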