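import Mathlib
import Groth.Prelude.Def_GrLC
import Groth.Agent.Lib.Seat86GrCone
import Groth.Agent.Lib.Seat86GrHmap

/-!
# The long exact sequence of the cone resolution (seat 86)

For cone data `c` (`α : M' → M`, `E'`, `E`, chain map `F`, cokernel `β : M → M''`) with cone
resolution `c.D` of `M''`: the maps `Hmap F : H^i(E') → H^i(E)`, `Hmap toD : H^i(E) → H^i(D)`,
`Hmap fromD : H^i(D) → H^{i+1}(E')` form a long exact sequence.
-/

set_option autoImplicit false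
set_option linter.style.haveILetI false
set_option linter.unusedSectionVars false
open DirectSum

noncomputable section

namespace Groth.Agent.Lib.Seat86.GrLES

open Groth.Agent.Lib.Seat86.GrProd Groth.Agent.Lib.Seat86.GrCone Groth.Agent.Lib.Seat86.GrHmap

universe u

variable {ι : Type} [AddCommGroup ι] [DecidableEq ι]
variable {R : Type u} [CommRing R] {𝒜 : ι → AddSubgroup R} [GradedRing 𝒜]
variable {M' M M'' : Type u} [AddCommGroup M'] [Module R M'] [AddCommGroup M] [Module R M]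
  [AddCommGroup M''] [Module R M'']
  {ℳ' : ι → AddSubgroup M'} {ℳ : ι → AddSubgroup M} {ℳ'' : ι → AddSubgroup M''}
  [DirectSum.Decomposition ℳ'] [SetLike.GradedSMul 𝒜 ℳ']
  [DirectSum.Decomposition ℳ] [SetLike.GradedSMul 𝒜 ℳ]
  [DirectSum.Decomposition ℳ''] [SetLike.GradedSMul 𝒜 ℳ'']
variable {α : M' →ₗ[R] M} {E' : GrLC.StarInjRes 𝒜 ℳ'} {E : GrLC.StarInjRes 𝒜 ℳ}
  {β : M →ₗ[R] M''}

/-- A chain lift as a chain map. -/
def ofLift (F : ChainLift α E' E) : CxHom E' E := ⟨F.f, F.grHom, F.comm⟩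

variable (c : ConeData (ℳ'' := ℳ'') α E' E β) (a : HomogeneousIdeal 𝒜)

/-- components of the chain map `E → D` -/
def toDf : ∀ n, (E.X n).carrier →ₗ[R] (c.DX n).carrier
  | 0 => c.πK.comp (LinearMap.inr R _ _)
  | _ + 1 => LinearMap.inr R _ _

/-- The chain map `E → D`, `x ↦ (0, x)`. -/
def toD : CxHom E c.D where
  f := toDf c
  grHom := by
    intro n
    cases n with
    | zero =>
      intro g x hx
      exact c.πK_grHom g _ ((mem_prodGr _ _).mpr ⟨zero_mem _, hx⟩)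
    | succ n =>
      intro g x hx
      exact (mem_prodGr _ _).mpr ⟨zero_mem _, hx⟩
  comm := by
    intro n x
    cases n with
    | zero =>
      show ((0 : (E'.X 2).carrier), E.d 0 x) = dC c.F 0 (c.ιK (c.πK (0, x)))
      rw [c.ιK_πK, c.dC_πC, dC_apply, map_zero, neg_zero, map_zero, zero_add (E.d 0 x)]
    | succ n =>
      show ((0 : (E'.X (n + 3)).carrier), E.d (n + 1) x) = dC c.F (n + 1) (0, x)
      rw [dC_apply, map_zero, neg_zero, map_zero, zero_add (E.d (n + 1) x)]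

/-- components of the connecting map `D → E'[1]` -/
def fromDr : ∀ n, (c.DX n).carrier →ₗ[R] (E'.X (n + 1)).carrier
  | 0 => (LinearMap.fst R _ _).comp c.ιK
  | _ + 1 => LinearMap.fst R _ _

/-- The connecting map `D → E'[1]`, `(x', x) ↦ x'`. -/
def fromD : CxHom1 c.D E' where
  r := fromDr c
  grHom := by
    intro n
    cases n with
    | zero =>
      intro g k hk
      exact ((mem_prodGr _ _).mp (c.ιK_grHom g k hk)).1
    | succ n =>
      intro g z hz
      exact ((mem_prodGr _ _).mp hz).1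
  anticomm := by
    intro n z
    cases n with
    | zero =>
      show E'.d 1 (c.ιK z).1 = -((dC c.F 0 (c.ιK z)).1)
      obtain ⟨x', x⟩ := c.ιK z
      rw [dC_apply, neg_neg]
    | succ n =>
      show E'.d (n + 2) z.1 = -((dC c.F (n + 1) z).1)
      obtain ⟨x', x⟩ := z
      rw [dC_apply, neg_neg]

/-! ### description of cocycles and coboundaries of `D` -/

theorem D_cobdy_succ (n : ℕ) (z : (C (E' := E') (E := E) (n + 1)).carrier) :
    z ∈ c.D.cobdy a (n + 1) ↔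
      ∃ w ∈ GrLC.gam a.toIdeal (C (E' := E') (E := E) n).carrier, dC c.F n w = z := by
  cases n with
  | zero =>
    constructor
    · rintro ⟨k, hk, rfl⟩
      exact ⟨c.ιK k, map_mem_gam _ _ hk, rfl⟩
    · rintro ⟨w, hw, rfl⟩
      refine ⟨c.πK w, map_mem_gam _ _ hw, ?_⟩
      show dC c.F 0 (c.ιK (c.πK w)) = dC c.F 0 w
      rw [c.ιK_πK, c.dC_πC]
  | succ n => exact Iff.rfl

theorem D_mem_cocyc_succ (n : ℕ) (z : (C (E' := E') (E := E) (n + 1)).carrier) :
    z ∈ c.D.cocyc a (n + 1) ↔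
      z ∈ GrLC.gam a.toIdeal (C (E' := E') (E := E) (n + 1)).carrier ∧ dC c.F (n + 1) z = 0 :=
  Iff.rfl

theorem D_mem_cocyc_zero (k : c.D0.carrier) :
    k ∈ c.D.cocyc a 0 ↔ k ∈ GrLC.gam a.toIdeal c.D0.carrier ∧ dC c.F 0 (c.ιK k) = 0 := Iff.rfl

theorem mem_gam_D0_iff (k : c.D0.carrier) :
    k ∈ GrLC.gam a.toIdeal c.D0.carrier ↔
      c.ιK k ∈ GrLC.gam a.toIdeal (C (E' := E') (E := E) 0).carrier :=
  ⟨fun h => map_mem_gam _ _ h, fun h => mem_gam_of_injective _ c.ιK_injective _ h⟩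

/-! ### exactness at `H^i(E)` -/

theorem range_F_eq_ker_toD (i : ℕ) :
    LinearMap.range ((ofLift c.F).Hmap a i) = LinearMap.ker ((toD c).Hmap a i) := by
  apply le_antisymm
  · rintro _ ⟨y', rfl⟩
    obtain ⟨⟨x', hx'Γ, hx'd⟩, rfl⟩ := toH_surjective E' a i y'
    have hx'd' : E'.d i x' = 0 := hx'd
    rw [LinearMap.mem_ker, CxHom.Hmap_toH, CxHom.Hmap_toH, toH_eq_zero_iff]
    cases i with
    | zero =>
      rw [mem_cobdy_zero_iff]
      show c.πK ((0 : (E'.X 1).carrier), c.F.f 0 x') = 0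
      apply c.ιK_injective
      rw [c.ιK_πK, map_zero]
      have : ((0 : (E'.X 1).carrier), c.F.f 0 x') = jC c.F x' := by
        rw [jC_apply, hx'd', neg_zero]
      rw [this, c.πC_j]
    | succ n =>
      show ((0 : (E'.X (n + 2)).carrier), c.F.f (n + 1) x') ∈ c.D.cobdy a (n + 1)
      rw [D_cobdy_succ]
      refine ⟨(x', 0), (mem_gam_prod _ _).mpr ⟨hx'Γ, zero_mem _⟩, ?_⟩
      rw [dC_apply, hx'd', neg_zero, map_zero, add_zero (c.F.f (n + 1) x')]
  · intro y hy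
    obtain ⟨⟨x, hxΓ, hxd⟩, rfl⟩ := toH_surjective E a i y
    rw [LinearMap.mem_ker, CxHom.Hmap_toH, toH_eq_zero_iff] at hy
    cases i with
    | zero =>
      rw [mem_cobdy_zero_iff] at hy
      have hy' : c.πK ((0 : (E'.X 1).carrier), x) = 0 := hy
      have h1 : c.πC ((0 : (E'.X 1).carrier), x) = 0 := by
        rw [← c.ιK_πK, hy', map_zero]
      rw [ConeData.πC_apply, sub_eq_zero] at h1
      set y' := c.ρ ((0 : (E'.X 1).carrier), x) with hy'def
      have hy'Γ : y' ∈ GrLC.gam a.toIdeal (E'.X 0).carrier :=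
        map_mem_gam _ _ ((mem_gam_prod _ _).mpr ⟨zero_mem _, hxΓ⟩)
      rw [jC_apply, Prod.mk.injEq] at h1
      have hy'd : E'.d 0 y' = 0 := by
        have := h1.1
        rw [eq_comm, neg_eq_zero] at this
        exact this
      refine ⟨E'.toH a 0 ⟨y', hy'Γ, hy'd⟩, ?_⟩
      rw [CxHom.Hmap_toH]
      congr 1
      apply Subtype.ext
      exact h1.2.symm
    | succ n =>
      have hy' : ((0 : (E'.X (n + 2)).carrier), x) ∈ c.D.cobdy a (n + 1) := hy
      rw [D_cobdy_succ] at hy'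
      obtain ⟨⟨w', w⟩, hwΓ, hw⟩ := hy'
      rw [dC_apply, Prod.mk.injEq, neg_eq_zero] at hw
      obtain ⟨hw'Γ, hwΓ'⟩ := (mem_gam_prod _ _).mp hwΓ
      refine ⟨E'.toH a (n + 1) ⟨w', hw'Γ, hw.1⟩, ?_⟩
      rw [CxHom.Hmap_toH, toH_eq_iff]
      show c.F.f (n + 1) w' - x ∈ E.cobdy a (n + 1)
      refine ⟨-w, neg_mem hwΓ', ?_⟩
      rw [map_neg, ← hw.2]
      abel

/-! ### exactness at `H^i(D)` -/

theorem range_toD_eq_ker_fromD (i : ℕ) :
    LinearMap.range ((toD c).Hmap a i) = LinearMap.ker ((fromD c).Hmap a i) := by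
  apply le_antisymm
  · rintro _ ⟨y, rfl⟩
    obtain ⟨⟨x, hxΓ, hxd⟩, rfl⟩ := toH_surjective E a i y
    rw [LinearMap.mem_ker, CxHom.Hmap_toH, CxHom1.Hmap_toH, toH_eq_zero_iff]
    cases i with
    | zero =>
      show (c.ιK (c.πK ((0 : (E'.X 1).carrier), x))).1 ∈ E'.cobdy a 1
      rw [c.ιK_πK, ConeData.πC_apply, jC_apply]
      refine ⟨c.ρ ((0 : (E'.X 1).carrier), x),
        map_mem_gam _ _ ((mem_gam_prod _ _).mpr ⟨zero_mem _, hxΓ⟩), ?_⟩
      show E'.d 0 (c.ρ ((0 : (E'.X 1).carrier), x)) = 0 - -(E'.d 0 (c.ρ ((0 : (E'.X 1).carrier), x)))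
      rw [sub_neg_eq_add, zero_add (E'.d 0 (c.ρ ((0 : (E'.X 1).carrier), x)))]
    | succ n =>
      show (0 : (E'.X (n + 2)).carrier) ∈ E'.cobdy a (n + 2)
      exact zero_mem _
  · intro z hz
    obtain ⟨⟨k, hk⟩, rfl⟩ := toH_surjective c.D a i z
    rw [LinearMap.mem_ker, CxHom1.Hmap_toH, toH_eq_zero_iff] at hz
    cases i with
    | zero =>
      have hk' := (D_mem_cocyc_zero c a k).mp hk
      obtain ⟨hkΓ, hkd⟩ := hk'
      have hkΓ' := (mem_gam_D0_iff c a k).mp hkΓ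
      have hz' : (c.ιK k).1 ∈ E'.cobdy a 1 := hz
      obtain ⟨y', hy'Γ, hy'⟩ := hz'
      set w : (E.X 0).carrier := (c.ιK k).2 + c.F.f 0 y' with hw
      have hwΓ : w ∈ GrLC.gam a.toIdeal (E.X 0).carrier :=
        add_mem ((mem_gam_prod _ _).mp hkΓ').2 (map_mem_gam _ _ hy'Γ)
      have hsum : c.ιK k + jC c.F y' = ((0 : (E'.X 1).carrier), w) := by
        rw [jC_apply]
        apply Prod.ext
        · show (c.ιK k).1 + -(E'.d 0 y') = 0
          rw [hy', add_neg_cancel]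
        · rfl
      have hwd : E.d 0 w = 0 := by
        have h1 : dC c.F 0 ((0 : (E'.X 1).carrier), w) = 0 := by
          rw [← hsum, map_add, hkd, dC_jC, add_zero]
        rw [dC_apply, Prod.mk_eq_zero] at h1
        have h2 := h1.2
        rw [map_zero (c.F.f (0 + 1)), zero_add (E.d 0 w)] at h2
        exact h2
      refine ⟨E.toH a 0 ⟨w, hwΓ, hwd⟩, ?_⟩
      rw [CxHom.Hmap_toH]
      congr 1
      apply Subtype.ext
      show c.πK ((0 : (E'.X 1).carrier), w) = k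
      rw [← hsum, map_add, c.πK_ιK]
      have : c.πK (jC c.F y') = 0 := by
        apply c.ιK_injective
        rw [c.ιK_πK, c.πC_j, map_zero]
      rw [this]
      exact add_zero k
    | succ n =>
      obtain ⟨x', x⟩ := k
      obtain ⟨hkΓ, hkd⟩ := (D_mem_cocyc_succ c a n (x', x)).mp hk
      obtain ⟨hx'Γ, hxΓ⟩ := (mem_gam_prod _ _).mp hkΓ
      rw [dC_apply, Prod.mk_eq_zero, neg_eq_zero] at hkd
      have hz' : x' ∈ E'.cobdy a (n + 2) := hz
      obtain ⟨y', hy'Γ, hy'⟩ := hz'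
      set w : (E.X (n + 1)).carrier := x + c.F.f (n + 1) y' with hw
      have hwΓ : w ∈ GrLC.gam a.toIdeal (E.X (n + 1)).carrier :=
        add_mem hxΓ (map_mem_gam _ _ hy'Γ)
      have hwd : E.d (n + 1) w = 0 := by
        rw [hw, map_add, ← c.F.comm (n + 1) y', hy']
        exact (add_comm _ _).trans hkd.2
      refine ⟨E.toH a (n + 1) ⟨w, hwΓ, hwd⟩, ?_⟩
      rw [CxHom.Hmap_toH, toH_eq_iff]
      show ((0 : (E'.X (n + 2)).carrier), w) - (x', x) ∈ c.D.cobdy a (n + 1)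
      rw [D_cobdy_succ]
      refine ⟨(y', 0), (mem_gam_prod _ _).mpr ⟨hy'Γ, zero_mem _⟩, ?_⟩
      rw [dC_apply, hy', map_zero, add_zero (c.F.f (n + 1) y')]
      apply Prod.ext
      · show -x' = 0 - x'
        rw [zero_sub]
      · show c.F.f (n + 1) y' = w - x
        rw [hw, add_sub_cancel_left]

/-! ### exactness at `H^{i+1}(E')` -/

theorem range_fromD_eq_ker_F (i : ℕ) :
    LinearMap.range ((fromD c).Hmap a i) = LinearMap.ker ((ofLift c.F).Hmap a (i + 1)) := by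
  apply le_antisymm
  · rintro _ ⟨z, rfl⟩
    obtain ⟨⟨k, hk⟩, rfl⟩ := toH_surjective c.D a i z
    rw [LinearMap.mem_ker, CxHom1.Hmap_toH, CxHom.Hmap_toH, toH_eq_zero_iff]
    cases i with
    | zero =>
      obtain ⟨hkΓ, hkd⟩ := (D_mem_cocyc_zero c a k).mp hk
      have hkΓ' := (mem_gam_D0_iff c a k).mp hkΓ
      show c.F.f 1 (c.ιK k).1 ∈ E.cobdy a 1
      generalize c.ιK k = zk at hkΓ' hkd ⊢
      obtain ⟨x', x⟩ := zk
      rw [dC_apply, Prod.mk_eq_zero] at hkd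
      refine ⟨-x, neg_mem ((mem_gam_prod _ _).mp hkΓ').2, ?_⟩
      rw [map_neg]
      exact (eq_neg_of_add_eq_zero_left hkd.2).symm
    | succ n =>
      obtain ⟨x', x⟩ := k
      obtain ⟨hkΓ, hkd⟩ := (D_mem_cocyc_succ c a n (x', x)).mp hk
      rw [dC_apply, Prod.mk_eq_zero] at hkd
      show c.F.f (n + 2) x' ∈ E.cobdy a (n + 2)
      refine ⟨-x, neg_mem ((mem_gam_prod _ _).mp hkΓ).2, ?_⟩
      rw [map_neg]
      exact (eq_neg_of_add_eq_zero_left hkd.2).symm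
  · intro y' hy'
    obtain ⟨⟨x', hx'Γ, hx'd⟩, rfl⟩ := toH_surjective E' a (i + 1) y'
    have hx'd' : E'.d (i + 1) x' = 0 := hx'd
    rw [LinearMap.mem_ker, CxHom.Hmap_toH, toH_eq_zero_iff] at hy'
    have hy'' : c.F.f (i + 1) x' ∈ E.cobdy a (i + 1) := hy'
    obtain ⟨y, hyΓ, hy⟩ := hy''
    have hz₀Γ : ((x', -y) : (C (E' := E') (E := E) i).carrier) ∈
        GrLC.gam a.toIdeal (C (E' := E') (E := E) i).carrier :=
      (mem_gam_prod _ _).mpr ⟨hx'Γ, neg_mem hyΓ⟩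
    have hz₀d : dC c.F i (x', -y) = 0 := by
      rw [dC_apply, hx'd', neg_zero, map_neg, hy, add_neg_cancel]
      rfl
    cases i with
    | zero =>
      have hkc : c.πK (x', -y) ∈ c.D.cocyc a 0 := by
        rw [D_mem_cocyc_zero, mem_gam_D0_iff, c.ιK_πK, c.dC_πC]
        exact ⟨map_mem_gam _ _ hz₀Γ, hz₀d⟩
      refine ⟨c.D.toH a 0 ⟨c.πK (x', -y), hkc⟩, ?_⟩
      rw [CxHom1.Hmap_toH, toH_eq_iff]
      show (c.ιK (c.πK (x', -y))).1 - x' ∈ E'.cobdy a 1
      rw [c.ιK_πK, ConeData.πC_apply, jC_apply]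
      refine ⟨c.ρ (x', -y), map_mem_gam _ _ hz₀Γ, ?_⟩
      show E'.d 0 (c.ρ (x', -y)) = (x' - -(E'.d 0 (c.ρ (x', -y)))) - x'
      abel
    | succ n =>
      have hkc : ((x', -y) : (C (E' := E') (E := E) (n + 1)).carrier) ∈ c.D.cocyc a (n + 1) :=
        (D_mem_cocyc_succ c a n _).mpr ⟨hz₀Γ, hz₀d⟩
      refine ⟨c.D.toH a (n + 1) ⟨(x', -y), hkc⟩, ?_⟩
      rw [CxHom1.Hmap_toH]
      rfl

end Groth.Agent.Lib.Seat86.GrLES
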