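import Mathlib
import Groth.Prelude.Def_GrLC
import Groth.Agent.S13243
import Groth.Agent.S13225
import Groth.Agent.Lib.Seat86GrLES

/-!
# Independence of the resolution and the general long exact sequence (seat 86)

* `exists_equiv` : two *injective resolutions of the same graded module give `R`-linearly and
  homogeneously isomorphic graded local cohomology (both directions homogeneous);
* `exists_mem_piece_of_mem_range` : exactness passes to homogeneous pieces;
* `exists_les` : the long exact sequence for `0 → M' → M → M'' → 0` with ARBITRARY resolutions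
  `E'`, `E`, `E''` and a given chain lift `E' → E`.
-/

set_option autoImplicit false
set_option linter.style.haveILetI false
set_option linter.unusedSectionVars false
open DirectSum

noncomputable section

namespace Groth.Agent.Lib.Seat86.GrIndep

open Groth.Agent.Lib.Seat86.GrProd Groth.Agent.Lib.Seat86.GrCone Groth.Agent.Lib.Seat86.GrHmap
  Groth.Agent.Lib.Seat86.GrLES

universe u

variable {ι : Type} [AddCommGroup ι] [DecidableEq ι] [Module.Free ℤ ι] [Module.Finite ℤ ι]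
variable {R : Type u} [CommRing R] [IsNoetherianRing R] {𝒜 : ι → AddSubgroup R} [GradedRing 𝒜]

section Pieces

variable {A B : Type u} [AddCommGroup A] [Module R A] [AddCommGroup B] [Module R B]
  (𝓐 : ι → AddSubgroup A) (𝓑 : ι → AddSubgroup B)

/-- A homogeneous linear map commutes with components, for internal gradings. -/
theorem exists_mem_piece_of_mem_range (hA : DirectSum.IsInternal 𝓐) (hB : DirectSum.IsInternal 𝓑)
    (u : A →ₗ[R] B) (hu : ∀ (g : ι) (x : A), x ∈ 𝓐 g → u x ∈ 𝓑 g) {g : ι} {b : B}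
    (hb : b ∈ 𝓑 g) (hbu : b ∈ LinearMap.range u) : ∃ x ∈ 𝓐 g, u x = b := by
  classical
  letI : DirectSum.Decomposition 𝓐 := hA.chooseDecomposition
  letI : DirectSum.Decomposition 𝓑 := hB.chooseDecomposition
  obtain ⟨x₀, rfl⟩ := hbu
  refine ⟨((DirectSum.decompose 𝓐 x₀) g : A), SetLike.coe_mem _, ?_⟩
  rw [← Groth.Agent.Lib.Helper29GrHom.decompose_map 𝓑 𝓐 u hu x₀ g,
    DirectSum.decompose_of_mem_same _ hb]

/-- The inverse of a bijective homogeneous map between internally graded modules is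
homogeneous. -/
theorem symm_mem_piece (hA : DirectSum.IsInternal 𝓐) (hB : DirectSum.IsInternal 𝓑)
    (ψ : A ≃ₗ[R] B) (hψ : ∀ (g : ι) (x : A), x ∈ 𝓐 g → ψ x ∈ 𝓑 g) {g : ι} {b : B}
    (hb : b ∈ 𝓑 g) : ψ.symm b ∈ 𝓐 g := by
  obtain ⟨x, hx, hxb⟩ := exists_mem_piece_of_mem_range 𝓐 𝓑 hA hB ψ.toLinearMap hψ hb
    ⟨ψ.symm b, ψ.apply_symm_apply b⟩
  have : ψ.symm b = x := by
    rw [LinearEquiv.symm_apply_eq]
    exact hxb.symm
  rw [this]
  exact hx

end Pieces

variable {M : Type u} [AddCommGroup M] [Module R M] {ℳ : ι → AddSubgroup M}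
  [DirectSum.Decomposition ℳ] [SetLike.GradedSMul 𝒜 ℳ]

theorem isInternal_Hgr (E : GrLC.StarInjRes 𝒜 ℳ) (a : HomogeneousIdeal 𝒜) (i : ℕ) :
    DirectSum.IsInternal (E.Hgr a i) :=
  Groth.Agent.S13225.result R 𝒜 a M ℳ E i

/-- **Independence of the resolution**, homogeneous in both directions. -/
theorem exists_equiv (E E' : GrLC.StarInjRes 𝒜 ℳ) (a : HomogeneousIdeal 𝒜) (i : ℕ) :
    ∃ ψ : E.H a i ≃ₗ[R] E'.H a i,
      (∀ (g : ι) (y : E.H a i), y ∈ E.Hgr a i g → ψ y ∈ E'.Hgr a i g) ∧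
      (∀ (g : ι) (y : E'.H a i), y ∈ E'.Hgr a i g → ψ.symm y ∈ E.Hgr a i g) := by
  have h𝒜 : ∀ h : ι, 𝒜 h = ⨆ g ∈ (AddMonoidHom.id ι) ⁻¹' {h}, 𝒜 g := by
    intro h
    apply le_antisymm
    · exact le_iSup₂_of_le h rfl le_rfl
    · refine iSup₂_le fun g hg => ?_
      have : g = h := hg
      rw [this]
  have hℳ : ∀ h : ι, ℳ h = ⨆ g ∈ (AddMonoidHom.id ι) ⁻¹' {h}, ℳ g := by
    intro h
    apply le_antisymm
    · exact le_iSup₂_of_le h rfl le_rfl
    · refine iSup₂_le fun g hg => ?_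
      have : g = h := hg
      rw [this]
  obtain ⟨ψ, hψ⟩ := Groth.Agent.S13243.result (AddMonoidHom.id ι) R 𝒜 𝒜 h𝒜 a a rfl M ℳ ℳ hℳ E E' i
  have hψ' : ∀ (g : ι) (y : E.H a i), y ∈ E.Hgr a i g → ψ y ∈ E'.Hgr a i g := by
    intro g y hy
    refine hψ g y ?_
    exact (le_iSup₂_of_le (f := fun g' (_ : g' ∈ (AddMonoidHom.id ι) ⁻¹' {g}) => E.Hgr a i g')
      g rfl le_rfl) hy
  exact ⟨ψ, hψ', fun g y hy =>
    symm_mem_piece (E.Hgr a i) (E'.Hgr a i) (isInternal_Hgr E a i) (isInternal_Hgr E' a i) ψ hψ' hy⟩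

variable {M' M'' : Type u} [AddCommGroup M'] [Module R M'] [AddCommGroup M''] [Module R M'']
  {ℳ' : ι → AddSubgroup M'} {ℳ'' : ι → AddSubgroup M''}
  [DirectSum.Decomposition ℳ'] [SetLike.GradedSMul 𝒜 ℳ']
  [DirectSum.Decomposition ℳ''] [SetLike.GradedSMul 𝒜 ℳ'']

/-- **The long exact sequence** of graded local cohomology for a short exact sequence
`0 → M' → M → M'' → 0` of graded modules, arbitrary *injective resolutions and a given chain
lift of `α`. -/
theorem exists_les (α : M' →ₗ[R] M) (hα : Function.Injective α) (β : M →ₗ[R] M'')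
    (hβ : Function.Surjective β) (hβg : GrLC.IsGrHom ℳ ℳ'' β)
    (hker : LinearMap.ker β = LinearMap.range α)
    (E' : GrLC.StarInjRes 𝒜 ℳ') (E : GrLC.StarInjRes 𝒜 ℳ) (F : ChainLift α E' E)
    (E'' : GrLC.StarInjRes 𝒜 ℳ'') (a : HomogeneousIdeal 𝒜) :
    ∃ (p : ∀ i, E.H a i →ₗ[R] E''.H a i) (δ : ∀ i, E''.H a i →ₗ[R] E'.H a (i + 1)),
      (∀ (i : ℕ) (g : ι) (y : E.H a i), y ∈ E.Hgr a i g → p i y ∈ E''.Hgr a i g) ∧
      (∀ (i : ℕ) (g : ι) (z : E''.H a i), z ∈ E''.Hgr a i g → δ i z ∈ E'.Hgr a (i + 1) g) ∧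
      (∀ i, LinearMap.range ((ofLift F).Hmap a i) = LinearMap.ker (p i)) ∧
      (∀ i, LinearMap.range (p i) = LinearMap.ker (δ i)) ∧
      (∀ i, LinearMap.range (δ i) = LinearMap.ker ((ofLift F).Hmap a (i + 1))) := by
  obtain ⟨c, rfl⟩ := nonempty_coneData (ℳ'' := ℳ'') α E' E β F hα hβ hβg hker
  choose ψ hψ hψs using fun i => exists_equiv c.D E'' a i
  refine ⟨fun i => (ψ i).toLinearMap ∘ₗ (toD c).Hmap a i,
    fun i => (fromD c).Hmap a i ∘ₗ (ψ i).symm.toLinearMap, ?_, ?_, ?_, ?_, ?_⟩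
  · intro i g y hy
    exact hψ i g _ ((toD c).Hmap_mem_Hgr a i g hy)
  · intro i g z hz
    exact (fromD c).Hmap_mem_Hgr a i g (hψs i g z hz)
  · intro i
    rw [range_F_eq_ker_toD c a i, LinearMap.ker_comp]
    ext y
    simp only [Submodule.mem_comap, LinearMap.mem_ker, LinearEquiv.coe_coe,
      LinearEquiv.map_eq_zero_iff]
  · intro i
    rw [LinearMap.range_comp, range_toD_eq_ker_fromD c a i, LinearMap.ker_comp,
      Submodule.map_equiv_eq_comap_symm]
  · intro i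
    rw [← range_fromD_eq_ker_F c a i, LinearMap.range_comp, LinearEquiv.range, Submodule.map_top]

end Groth.Agent.Lib.Seat86.GrIndep
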