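import Mathlib
import Groth.Prelude.Def_GrLC
import Groth.Agent.S13224
import Groth.Agent.Lib.Helper8LC2
import Groth.Agent.Lib.Helper29GrCompare
import Groth.Agent.Lib.Seat86GrIndep
import Groth.Agent.Lib.Seat86GrFinA

/-!
# Graded local cohomology: chain lifts, degree zero, torsion modules (seat 86)

* `exists_chainLift`: any homogeneous map between graded modules lifts to a homogeneous chain map
  between given *injective resolutions.
* `isNoetherian_H_zero`, `exists_Hcomp_zero_eq_bot`: `H^0_{R_+}(M)` is a Noetherian `R_0`-module and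
  vanishes in large degrees (`M` finite over a Noetherian positively graded ring).
* `H_succ_eq_zero_of_torsion`: `H^{j+1}_a` of an `a`-torsion graded module vanishes.
* `exists_injective_of_les`: for a short exact sequence with `H^{j+1}(M') = 0`, the map
  `H^{j+1}(M) → H^{j+1}(M'')` is injective (and homogeneous).
-/

set_option autoImplicit false
set_option linter.style.haveILetI false
set_option linter.unusedSectionVars false
open DirectSum

noncomputable section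

namespace Groth.Agent.Lib.Seat86.GrFinB

open Groth.Agent.Lib.Seat86.GrCone Groth.Agent.Lib.Seat86.GrHmap
  Groth.Agent.Lib.Seat86.GrLES Groth.Agent.Lib.Seat86.GrIndep Groth.Agent.Lib.Seat86.GrFinA

universe u

section General

variable {ι : Type} [AddCommGroup ι] [DecidableEq ι]
variable {R : Type u} [CommRing R] {𝒜 : ι → AddSubgroup R} [GradedRing 𝒜]
variable {M' M M'' : Type u} [AddCommGroup M'] [Module R M'] [AddCommGroup M] [Module R M]
  [AddCommGroup M''] [Module R M'']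
  {ℳ' : ι → AddSubgroup M'} {ℳ : ι → AddSubgroup M} {ℳ'' : ι → AddSubgroup M''}
  [DirectSum.Decomposition ℳ'] [SetLike.GradedSMul 𝒜 ℳ']
  [DirectSum.Decomposition ℳ] [SetLike.GradedSMul 𝒜 ℳ]
  [DirectSum.Decomposition ℳ''] [SetLike.GradedSMul 𝒜 ℳ'']

/-- Any homogeneous map lifts to a homogeneous chain map of *injective resolutions. -/
theorem exists_chainLift (α : M' →ₗ[R] M) (hα : GrLC.IsGrHom ℳ' ℳ α)
    (E' : GrLC.StarInjRes 𝒜 ℳ') (E : GrLC.StarInjRes 𝒜 ℳ) : Nonempty (ChainLift α E' E) := by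
  have hker : LinearMap.ker E'.ε ≤ LinearMap.ker (E.ε ∘ₗ α) := by
    intro m hm
    rw [LinearMap.mem_ker] at hm
    have h0 : m = 0 := E'.ε_injective (by rw [hm, map_zero])
    rw [h0]
    exact zero_mem _
  have hγ : GrLC.IsGrHom ℳ' (E.X 0).gr (E.ε ∘ₗ α) :=
    fun g m hm => E.ε_grHom g _ (hα g m hm)
  obtain ⟨h, hh, hhε⟩ := Groth.Agent.Lib.Helper29GrCompare.exists_extension 𝒜 (E'.X 0) (E.X 0) ℳ'
    (E.starInj 0) E'.ε E'.ε_grHom (E.ε ∘ₗ α) hγ hker
  have hkill : ∀ x : (E'.X 0).carrier, E'.d 0 x = 0 → E.d 0 (h x) = 0 := by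
    intro x hx
    have hx' : x ∈ LinearMap.range E'.ε := by
      rw [← E'.exact_zero]
      exact hx
    obtain ⟨m, rfl⟩ := hx'
    rw [hhε m]
    exact d_ε E (α m)
  let s0 : Groth.Agent.Lib.Helper29GrCompare.Stage 𝒜 ℳ E'.X E'.d E 0 := ⟨h, hh, hkill⟩
  choose next hnext using
    Groth.Agent.Lib.Helper29GrCompare.exists_stage_succ 𝒜 ℳ E'.X E'.d E'.d_grHom E'.exact_succ E
  let S : ∀ n, Groth.Agent.Lib.Helper29GrCompare.Stage 𝒜 ℳ E'.X E'.d E n :=
    fun n => Nat.rec s0 (fun n s => next n s) n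
  exact ⟨⟨fun n => (S n).θ, fun n => (S n).hom, hhε, fun n x => hnext n (S n) x⟩⟩

/-- `H^0` is a quotient of the torsion submodule of `M`. -/
theorem exists_surjective_gam_H0 (E : GrLC.StarInjRes 𝒜 ℳ) (a : HomogeneousIdeal 𝒜) :
    ∃ φ : ↥(GrLC.gam a.toIdeal M) →ₗ[R] E.H a 0, Function.Surjective φ := by
  let ε' : ↥(GrLC.gam a.toIdeal M) →ₗ[R] ↥(E.cocyc a 0) :=
    LinearMap.codRestrict (E.cocyc a 0) (E.ε ∘ₗ (GrLC.gam a.toIdeal M).subtype)
      (fun m => ⟨map_mem_gam E.ε a.toIdeal m.2, d_ε E m.1⟩)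
  refine ⟨E.toH a 0 ∘ₗ ε', fun y => ?_⟩
  obtain ⟨z, rfl⟩ := toH_surjective E a 0 y
  obtain ⟨hz1, hz2⟩ := z.2
  have hz2' : (z : (E.X 0).carrier) ∈ LinearMap.range E.ε := by
    rw [← E.exact_zero]
    exact hz2
  obtain ⟨m, hm⟩ := hz2'
  have hmg : m ∈ GrLC.gam a.toIdeal M :=
    mem_gam_of_injective E.ε E.ε_injective a.toIdeal (by rw [hm]; exact hz1)
  refine ⟨⟨m, hmg⟩, ?_⟩
  rw [LinearMap.comp_apply]
  congr 1
  exact Subtype.ext hm

variable [Module.Free ℤ ι] [Module.Finite ℤ ι] [IsNoetherianRing R]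

/-- Graded local cohomology of a torsion module vanishes in positive degrees. -/
theorem H_succ_eq_zero_of_torsion (E' : GrLC.StarInjRes 𝒜 ℳ') (a : HomogeneousIdeal 𝒜)
    (hT : ∀ m : M', m ∈ GrLC.gam a.toIdeal M') (j : ℕ) (y : E'.H a (j + 1)) : y = 0 := by
  obtain ⟨e⟩ := Groth.Agent.S13224.result R 𝒜 a M' ℳ' E' (j + 1)
  have htop : DRing.torsionSub a.toIdeal M' = ⊤ := by
    rw [eq_top_iff]
    intro m _
    exact hT m
  have h0 := Groth.Agent.Lib.Helper8.LC.H_succ_eq_zero_of_torsion a.toIdeal j M' htop (e y)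
  exact e.injective (by rw [h0, map_zero])

/-- If `H^{j+1}(M') = 0` then `H^{j+1}(M) → H^{j+1}(M'')` is injective. -/
theorem exists_injective_of_les (α : M' →ₗ[R] M) (hα : Function.Injective α)
    (hαg : GrLC.IsGrHom ℳ' ℳ α) (β : M →ₗ[R] M'')
    (hβ : Function.Surjective β) (hβg : GrLC.IsGrHom ℳ ℳ'' β)
    (hker : LinearMap.ker β = LinearMap.range α)
    (E' : GrLC.StarInjRes 𝒜 ℳ') (E : GrLC.StarInjRes 𝒜 ℳ) (E'' : GrLC.StarInjRes 𝒜 ℳ'')
    (a : HomogeneousIdeal 𝒜) (j : ℕ) (hT : ∀ y : E'.H a (j + 1), y = 0) :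
    ∃ p : E.H a (j + 1) →ₗ[R] E''.H a (j + 1), Function.Injective p ∧
      ∀ (g : ι) (y : E.H a (j + 1)), y ∈ E.Hgr a (j + 1) g → p y ∈ E''.Hgr a (j + 1) g := by
  obtain ⟨F⟩ := exists_chainLift α hαg E' E
  obtain ⟨p, δ, hp, hδ, h1, h2, h3⟩ := exists_les α hα β hβ hβg hker E' E F E'' a
  refine ⟨p (j + 1), ?_, hp (j + 1)⟩
  rw [← LinearMap.ker_eq_bot, ← h1 (j + 1), eq_bot_iff]
  rintro _ ⟨y, rfl⟩
  rw [hT y, map_zero]
  exact zero_mem _

end General

section Pos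

variable {R : Type u} [CommRing R] [IsNoetherianRing R] {𝒜 : ℤ → AddSubgroup R} [GradedRing 𝒜]
  (hpos : ∀ n : ℤ, n < 0 → 𝒜 n = ⊥) {a : HomogeneousIdeal 𝒜}
  (ha : a.toIdeal = Ideal.span (⋃ n ∈ Set.Ioi (0 : ℤ), (𝒜 n : Set R)))
variable {M : Type u} [AddCommGroup M] [Module R M] [Module.Finite R M] {ℳ : ℤ → AddSubgroup M}
  [DirectSum.Decomposition ℳ] [SetLike.GradedSMul 𝒜 ℳ]

theorem smul_mem_Hgr (E : GrLC.StarInjRes 𝒜 ℳ) (a : HomogeneousIdeal 𝒜) (i : ℕ) (k n : ℤ) (r : R)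
    (x : E.H a i) (hr : r ∈ 𝒜 k) (hx : x ∈ E.Hgr a i n) : r • x ∈ E.Hgr a i (k + n) := by
  obtain ⟨z, hz, rfl⟩ := hx
  refine ⟨r • z, ?_, map_smul _ _ _⟩
  have h := SetLike.GradedSMul.smul_mem (A := 𝒜) (B := (E.X i).gr) hr hz
  rw [vadd_eq_add] at h
  exact h

include hpos ha in
theorem isNoetherian_H_zero (E : GrLC.StarInjRes 𝒜 ℳ) :
    IsNoetherian (GrLC.deg0 𝒜) (E.H a 0) := by
  obtain ⟨φ, hφ⟩ := exists_surjective_gam_H0 E a
  haveI : IsNoetherian R M := isNoetherian_of_isNoetherianRing_of_finite R M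
  haveI : IsNoetherian R (E.H a 0) :=
    isNoetherian_of_surjective φ (LinearMap.range_eq_top.mpr hφ)
  obtain ⟨k, hk⟩ := exists_pow_kills_of_fg a.toIdeal (GrLC.gam a.toIdeal M)
    (IsNoetherian.noetherian _) (fun x hx => hx)
  refine isNoetherian_deg0_of_pow_kill hpos ha k (E.H a 0) (fun r hr t => ?_)
  obtain ⟨m, rfl⟩ := hφ t
  rw [← map_smul]
  have h0 : r • m = 0 :=
    Subtype.ext (by rw [Submodule.coe_smul, ZeroMemClass.coe_zero]; exact hk r hr m.1 m.2)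
  rw [h0, map_zero]

include hpos ha in
theorem exists_Hcomp_zero_eq_bot (E : GrLC.StarInjRes 𝒜 ℳ) :
    ∃ r : ℤ, ∀ n : ℤ, r ≤ n → E.Hcomp a 0 n = ⊥ := by
  haveI := isNoetherian_H_zero hpos ha E
  obtain ⟨r, hr⟩ := exists_piece_eq_zero_of_fg (𝒜 := 𝒜) (E.Hgr a 0) (isInternal_Hgr E a 0)
    (fun r n x hr hx => by
      have h := smul_mem_Hgr E a 0 0 n r x hr hx
      rwa [zero_add] at h)
    (IsNoetherian.noetherian _)
  refine ⟨r, fun n hn => ?_⟩
  rw [eq_bot_iff]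
  intro x hx
  exact (Submodule.mem_bot _).mpr (hr n hn x hx)

end Pos

end Groth.Agent.Lib.Seat86.GrFinB
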