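import Mathlib
import Groth.Prelude.Def_GrLC

/-!
# Artinian modules graded over a positively ℤ-graded ring

`R` is a ℤ-graded ring with `R_n = 0` for `n < 0`, `H` an `R`-module with an independent family
of additive subgroups `ℋ n` (`n : ℤ`) such that `R_a ℋ_n ⊆ ℋ_{a+n}`.  If `H` is an Artinian
`R`-module, then `ℋ n = 0` for all large `n`, and every `ℋ n` is an Artinian `R_0`-module.
-/

set_option autoImplicit false
universe u v

open DirectSum

namespace Groth.Agent.Lib.Seat86.GrArt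

variable {R : Type u} [CommRing R] (𝒜 : ℤ → AddSubgroup R) [GradedRing 𝒜]
variable {H : Type v} [AddCommGroup H] [Module R H] (ℋ : ℤ → AddSubgroup H)

/-- The sum of the pieces of degree `≥ j`. -/
def tail (j : ℤ) : AddSubgroup H := ⨆ k : Set.Ici j, ℋ k

theorem le_tail {j k : ℤ} (hk : j ≤ k) : ℋ k ≤ tail ℋ j :=
  le_iSup (fun k : Set.Ici j => ℋ k) ⟨k, hk⟩

theorem tail_anti {j j' : ℤ} (h : j ≤ j') : tail ℋ j' ≤ tail ℋ j :=
  iSup_le fun k => le_tail ℋ (le_trans h k.2)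

theorem tail_succ_le_iSup_ne (n : ℤ) : tail ℋ (n + 1) ≤ ⨆ (j : ℤ) (_ : j ≠ n), ℋ j :=
  iSup_le fun k => le_iSup₂_of_le (k : ℤ) (by
    have := k.2
    rw [Set.mem_Ici] at this
    omega) le_rfl

variable {𝒜 ℋ}

theorem coe_eq_zero_of_neg (hpos : ∀ n : ℤ, n < 0 → 𝒜 n = ⊥) {i : ℤ} (hi : i < 0) (z : 𝒜 i) :
    (z : R) = 0 := by
  have h : (z : R) ∈ 𝒜 i := z.2
  generalize (z : R) = w at h
  rw [hpos i hi] at h
  exact h

/-- Reduce membership of `r • x` in an additive subgroup to the homogeneous components of `r`. -/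
theorem smul_mem_of_components (T : AddSubgroup H) (r : R) (x : H)
    (h : ∀ a : ℤ, ((decompose 𝒜 r a : 𝒜 a) : R) • x ∈ T) : r • x ∈ T := by
  classical
  have hr : r = ∑ a ∈ (decompose 𝒜 r).support, ((decompose 𝒜 r a : 𝒜 a) : R) :=
    (sum_support_decompose 𝒜 r).symm
  rw [hr, Finset.sum_smul]
  exact sum_mem fun a _ => h a

variable (hpos : ∀ n : ℤ, n < 0 → 𝒜 n = ⊥)
  (hsmul : ∀ (a n : ℤ) (r : R) (x : H), r ∈ 𝒜 a → x ∈ ℋ n → r • x ∈ ℋ (a + n))

include hpos hsmul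

theorem smul_mem_tail (j : ℤ) (r : R) {t : H} (ht : t ∈ tail ℋ j) : r • t ∈ tail ℋ j := by
  refine AddSubgroup.iSup_induction (fun k : Set.Ici j => ℋ k) (C := fun t => r • t ∈ tail ℋ j)
    ht ?_ ?_ ?_
  · rintro ⟨k, hk⟩ x hx
    rw [Set.mem_Ici] at hk
    refine smul_mem_of_components (𝒜 := 𝒜) _ r x fun a => ?_
    rcases lt_or_ge a 0 with ha | ha
    · rw [coe_eq_zero_of_neg hpos ha, zero_smul]
      exact zero_mem _
    · exact le_tail ℋ (by omega) (hsmul a k _ x (decompose 𝒜 r a).2 hx)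
  · rw [smul_zero]
    exact zero_mem _
  · intro x y hx hy
    rw [smul_add]
    exact add_mem hx hy

/-- For an `R_0`-stable subgroup `P` of the piece `ℋ n`, the subgroup `P + ℋ_{> n}` is
`R`-stable. -/
theorem smul_mem_sup_tail (n : ℤ) (P : AddSubgroup H) (hP : P ≤ ℋ n)
    (hP0 : ∀ r ∈ 𝒜 0, ∀ p ∈ P, r • p ∈ P) (r : R) {y : H} (hy : y ∈ P ⊔ tail ℋ (n + 1)) :
    r • y ∈ P ⊔ tail ℋ (n + 1) := by
  obtain ⟨p, hp, t, ht, rfl⟩ := AddSubgroup.mem_sup.mp hy
  rw [smul_add]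
  refine add_mem ?_ (le_sup_right (a := P) (smul_mem_tail hpos hsmul (n + 1) r ht))
  refine smul_mem_of_components (𝒜 := 𝒜) _ r p fun a => ?_
  rcases lt_trichotomy a 0 with ha | ha | ha
  · rw [coe_eq_zero_of_neg hpos ha, zero_smul]
    exact zero_mem _
  · subst ha
    exact le_sup_left (b := tail ℋ (n + 1)) (hP0 _ (decompose 𝒜 r 0).2 p hp)
  · exact le_sup_right (a := P)
      (le_tail ℋ (by omega) (hsmul a n _ p (decompose 𝒜 r a).2 (hP hp)))

/-- The `R`-submodule `ℋ_{≥ j}`. -/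
def tailSub (j : ℤ) : Submodule R H where
  carrier := ((tail ℋ j : AddSubgroup H) : Set H)
  add_mem' := (tail ℋ j).add_mem
  zero_mem' := (tail ℋ j).zero_mem
  smul_mem' := fun r _ ht => smul_mem_tail hpos hsmul j r ht

/-- The `R`-submodule `P + ℋ_{> n}`. -/
def supTailSub (n : ℤ) (P : AddSubgroup H) (hP : P ≤ ℋ n)
    (hP0 : ∀ r ∈ 𝒜 0, ∀ p ∈ P, r • p ∈ P) : Submodule R H where
  carrier := ((P ⊔ tail ℋ (n + 1) : AddSubgroup H) : Set H)
  add_mem' := (P ⊔ tail ℋ (n + 1)).add_mem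
  zero_mem' := (P ⊔ tail ℋ (n + 1)).zero_mem
  smul_mem' := fun r _ hy => smul_mem_sup_tail hpos hsmul n P hP hP0 r hy

omit hpos hsmul in
theorem eq_zero_of_mem_of_mem_tail (hind : iSupIndep ℋ) {n : ℤ} {x : H} (hx : x ∈ ℋ n)
    (hx' : x ∈ tail ℋ (n + 1)) : x = 0 := by
  have hdis := hind n
  rw [disjoint_iff] at hdis
  have : x ∈ ℋ n ⊓ ⨆ (j : ℤ) (_ : j ≠ n), ℋ j := ⟨hx, tail_succ_le_iSup_ne ℋ n hx'⟩
  rw [hdis] at this
  exact this

/-- In an Artinian graded module over a positively graded ring the pieces vanish in large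
degrees. -/
theorem exists_piece_eq_bot (hind : iSupIndep ℋ) [IsArtinian R H] :
    ∃ N : ℤ, ∀ n : ℤ, N ≤ n → ℋ n = ⊥ := by
  let f : ℕ →o (Submodule R H)ᵒᵈ :=
    { toFun := fun j => OrderDual.toDual (tailSub hpos hsmul (j : ℤ))
      monotone' := by
        intro j j' hjj'
        change tailSub hpos hsmul (j' : ℤ) ≤ tailSub hpos hsmul (j : ℤ)
        intro x hx
        exact tail_anti ℋ (by exact_mod_cast hjj') hx }
  obtain ⟨N, hN⟩ := IsArtinian.monotone_stabilizes f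
  refine ⟨(N : ℤ), fun n hn => ?_⟩
  rw [eq_bot_iff]
  intro x hx
  obtain ⟨k, rfl⟩ : ∃ k : ℕ, n = (k : ℤ) := ⟨n.toNat, by omega⟩
  have hNk : N ≤ k := by exact_mod_cast hn
  have h1 : f k = f (k + 1) := (hN k hNk).symm.trans (hN (k + 1) (by omega))
  have h2 : tailSub hpos hsmul (k : ℤ) = tailSub hpos hsmul ((k + 1 : ℕ) : ℤ) :=
    OrderDual.toDual.injective h1
  have h3 : x ∈ tailSub hpos hsmul (k : ℤ) := le_tail ℋ le_rfl hx
  rw [h2] at h3
  have h4 : x ∈ tail ℋ ((k : ℤ) + 1) := by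
    have : ((k + 1 : ℕ) : ℤ) = (k : ℤ) + 1 := by push_cast; rfl
    rw [← this]
    exact h3
  rw [AddSubgroup.mem_bot]
  exact eq_zero_of_mem_of_mem_tail hind hx h4

/-- In an Artinian graded module over a positively graded ring every piece is an Artinian module
over the degree-zero subring. -/
theorem isArtinian_piece (hind : iSupIndep ℋ) [IsArtinian R H] (n : ℤ)
    (Hn : Submodule (GrLC.deg0 𝒜) H) (hHn : ∀ x, x ∈ Hn ↔ x ∈ ℋ n) :
    IsArtinian (GrLC.deg0 𝒜) ↥Hn := by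
  -- the image of an `R_0`-submodule of `ℋ n` in `H`, as an additive subgroup
  let img : Submodule (GrLC.deg0 𝒜) ↥Hn → AddSubgroup H :=
    fun P => (P.map Hn.subtype).toAddSubgroup
  have himg_le : ∀ P, img P ≤ ℋ n := by
    intro P y hy
    obtain ⟨p, -, rfl⟩ := hy
    exact (hHn _).mp p.2
  have himg0 : ∀ P, ∀ r ∈ 𝒜 0, ∀ p ∈ img P, r • p ∈ img P := by
    intro P r hr y hy
    obtain ⟨p, hp, rfl⟩ := hy
    exact ⟨(⟨r, hr⟩ : GrLC.deg0 𝒜) • p, P.smul_mem _ hp, rfl⟩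
  let g : Submodule (GrLC.deg0 𝒜) ↥Hn → Submodule R H :=
    fun P => supTailSub hpos hsmul n (img P) (himg_le P) (himg0 P)
  have hg : StrictMono g := by
    intro P Q hPQ
    rw [SetLike.lt_iff_le_and_exists] at hPQ ⊢
    obtain ⟨hle, q, hqQ, hqP⟩ := hPQ
    refine ⟨?_, (q : H), ?_, ?_⟩
    · intro y hy
      have hy' : y ∈ img P ⊔ tail ℋ (n + 1) := hy
      have : img P ⊔ tail ℋ (n + 1) ≤ img Q ⊔ tail ℋ (n + 1) := by
        refine sup_le_sup_right ?_ _
        rintro _ ⟨p, hp, rfl⟩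
        exact ⟨p, hle hp, rfl⟩
      exact this hy'
    · exact le_sup_left (a := img Q) (b := tail ℋ (n + 1)) ⟨q, hqQ, rfl⟩
    · intro hq
      have hq' : (q : H) ∈ img P ⊔ tail ℋ (n + 1) := hq
      obtain ⟨y, ⟨p, hp, rfl⟩, t, ht, hsum⟩ := AddSubgroup.mem_sup.mp hq'
      have ht' : t = (q : H) - (p : H) := by
        rw [← hsum]
        change t = Hn.subtype p + t - (p : H)
        rw [Submodule.subtype_apply, add_sub_cancel_left]
      have ht0 : t = 0 := by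
        apply eq_zero_of_mem_of_mem_tail hind (n := n) _ ht
        rw [ht']
        exact sub_mem ((hHn _).mp q.2) ((hHn _).mp p.2)
      have : q = p := by
        apply Subtype.ext
        rw [ht0] at ht'
        exact sub_eq_zero.mp ht'.symm
      exact hqP (this ▸ hp)
  exact hg.wellFoundedLT

end Groth.Agent.Lib.Seat86.GrArt
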