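import Mathlib
import Groth.Agent.S0315

/-!
# Artinian criterion at a maximal ideal of a (non-local) Noetherian ring

For a maximal ideal `𝔪` of a Noetherian ring `A`, an `𝔪`-power-torsion module whose socle
`(0 :_N 𝔪)` is a finite `A`-module is Artinian.  The proof passes to the localization `A_𝔪`
(where the statement is the local criterion `S0315`) and uses that every `A`-submodule of an
`𝔪`-power-torsion `A_𝔪`-module is an `A_𝔪`-submodule.
-/

set_option autoImplicit false
universe u

namespace Groth.Agent.Lib.Seat86.MaxArt

variable {A : Type u} [CommRing A] (𝔪 : Ideal A) [h𝔪 : 𝔪.IsMaximal]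

section Units

variable {N : Type*} [AddCommGroup N] [Module A N]

/-- Elements outside a maximal ideal act injectively on a power-torsion module. -/
theorem smul_injective_of_powerTorsion (hN : LocCoh.IsPowerTorsion 𝔪 N) {s : A} (hs : s ∉ 𝔪) :
    Function.Injective (fun x : N => s • x) := by
  intro x y hxy
  have hz : s • (x - y) = 0 := by
    rw [smul_sub]
    exact sub_eq_zero.mpr hxy
  obtain ⟨k, hk⟩ := hN (x - y)
  obtain ⟨c, b, hb, hc⟩ := Ideal.IsMaximal.exists_inv_pow 𝔪 hs k
  have : x - y = 0 := by
    calc x - y = (c * s + b) • (x - y) := by rw [hc, one_smul]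
      _ = c • s • (x - y) + b • (x - y) := by rw [add_smul, mul_smul]
      _ = 0 := by rw [hz, smul_zero, hk b hb, add_zero]
  exact sub_eq_zero.mp this

/-- Elements outside a maximal ideal act surjectively on a power-torsion module, with a preimage
which is an `A`-multiple of the given element. -/
theorem exists_smul_smul_eq (hN : LocCoh.IsPowerTorsion 𝔪 N) {s : A} (hs : s ∉ 𝔪) (x : N) :
    ∃ c : A, s • (c • x) = x := by
  obtain ⟨k, hk⟩ := hN x
  obtain ⟨c, b, hb, hc⟩ := Ideal.IsMaximal.exists_inv_pow 𝔪 hs k
  refine ⟨c, ?_⟩
  calc s • (c • x) = (c * s) • x := by rw [mul_comm, mul_smul]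
    _ = (c * s + b) • x := by rw [add_smul, hk b hb, add_zero]
    _ = x := by rw [hc, one_smul]

end Units

section Tower

variable {A' : Type*} [CommRing A'] [Algebra A A'] [IsLocalization.AtPrime A' 𝔪]
variable {N' : Type*} [AddCommGroup N'] [Module A N'] [Module A' N'] [IsScalarTower A A' N']

/-- In an `𝔪`-power-torsion module over the localization `A_𝔪`, every `A`-submodule is stable
under `A_𝔪`. -/
theorem smul_mem_of_powerTorsion (hN' : LocCoh.IsPowerTorsion 𝔪 N') (P : Submodule A N') (a' : A')
    {y : N'} (hy : y ∈ P) : a' • y ∈ P := by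
  obtain ⟨⟨a, s⟩, rfl⟩ := IsLocalization.mk'_surjective 𝔪.primeCompl a'
  obtain ⟨c, hc⟩ := exists_smul_smul_eq 𝔪 hN' (s := (s : A)) s.2 y
  have h1 : IsLocalization.mk' A' a s • y = a • (c • y) := by
    conv_lhs => rw [← hc]
    rw [← algebraMap_smul A' (s : A) (c • y), smul_smul, IsLocalization.mk'_spec,
      algebraMap_smul]
  change IsLocalization.mk' A' a s • y ∈ P
  rw [h1]
  exact P.smul_mem a (P.smul_mem c hy)

/-- The `A_𝔪`-submodule with the same carrier as a given `A`-submodule of a power-torsion
module. -/
def extendSub (hN' : LocCoh.IsPowerTorsion 𝔪 N') (P : Submodule A N') : Submodule A' N' where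
  carrier := P
  add_mem' := P.add_mem
  zero_mem' := P.zero_mem
  smul_mem' := fun a' _ hy => smul_mem_of_powerTorsion 𝔪 hN' P a' hy

theorem extendSub_strictMono (hN' : LocCoh.IsPowerTorsion 𝔪 N') :
    StrictMono (extendSub (A' := A') 𝔪 hN') := by
  intro P Q hPQ
  rw [SetLike.lt_iff_le_and_exists] at hPQ ⊢
  obtain ⟨hle, x, hxQ, hxP⟩ := hPQ
  exact ⟨fun y hy => hle hy, x, hxQ, hxP⟩

/-- A power-torsion module which is Artinian over `A_𝔪` is Artinian over `A`. -/
theorem isArtinian_of_isArtinian_localization (hN' : LocCoh.IsPowerTorsion 𝔪 N')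
    [IsArtinian A' N'] : IsArtinian A N' :=
  (extendSub_strictMono (A' := A') 𝔪 hN').wellFoundedLT

end Tower

section Main

variable [IsNoetherianRing A] {N : Type u} [AddCommGroup N] [Module A N]

/-- **Artinian criterion at a maximal ideal**: a power-torsion module with finite socle is
Artinian. -/
theorem isArtinian_of_powerTorsion_of_finite_socle (hN : LocCoh.IsPowerTorsion 𝔪 N)
    (hsoc : Module.Finite A ↥(LocCoh.torsionBy 𝔪 N)) : IsArtinian A N := by
  classical
  let S := 𝔪.primeCompl
  let A' := Localization.AtPrime 𝔪
  let N' := LocalizedModule S N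
  -- power torsion over `A`
  have hN' : LocCoh.IsPowerTorsion 𝔪 N' := by
    intro y
    induction y using LocalizedModule.induction_on with
    | h x s =>
      obtain ⟨k, hk⟩ := hN x
      refine ⟨k, fun a ha => ?_⟩
      rw [LocalizedModule.smul'_mk, hk a ha, LocalizedModule.zero_mk]
  -- power torsion over `A'`
  have hN'' : LocCoh.IsPowerTorsion (IsLocalRing.maximalIdeal A') N' := by
    intro y
    obtain ⟨k, hk⟩ := hN' y
    refine ⟨k, fun a' ha' => ?_⟩
    rw [← Localization.AtPrime.map_eq_maximalIdeal (I := 𝔪), ← Ideal.map_pow] at ha'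
    have hle : Ideal.map (algebraMap A A') (𝔪 ^ k) ≤
        LinearMap.ker (LinearMap.toSpanSingleton A' N' y) := by
      rw [Ideal.map_le_iff_le_comap]
      intro a ha
      rw [Ideal.mem_comap, LinearMap.mem_ker, LinearMap.toSpanSingleton_apply, algebraMap_smul]
      exact hk a ha
    have := hle ha'
    rwa [LinearMap.mem_ker, LinearMap.toSpanSingleton_apply] at this
  -- the socle over `A'` is finite
  have hfin : Module.Finite (A' ⧸ IsLocalRing.maximalIdeal A')
      ↥(LocCoh.torsionBy (IsLocalRing.maximalIdeal A') N') := by
    let T : Submodule A N := LocCoh.torsionBy 𝔪 N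
    let T' : Submodule A' N' := Submodule.span A' ((LocalizedModule.mkLinearMap S N) '' (T : Set N))
    have hTfg : T.FG := Module.Finite.iff_fg.mp hsoc
    have hT'fg : T'.FG := by
      obtain ⟨G, hG⟩ := hTfg
      refine ⟨G.image (LocalizedModule.mkLinearMap S N), ?_⟩
      apply le_antisymm
      · apply Submodule.span_mono
        rw [Finset.coe_image]
        apply Set.image_mono
        rw [← hG]
        exact Submodule.subset_span
      · rw [Submodule.span_le]
        rintro _ ⟨x, hx, rfl⟩
        rw [SetLike.mem_coe, ← hG] at hx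
        refine Submodule.span_induction (p := fun x _ => LocalizedModule.mkLinearMap S N x ∈
          Submodule.span A' ((G.image (LocalizedModule.mkLinearMap S N) : Finset N') : Set N'))
          ?_ ?_ ?_ ?_ hx
        · intro z hz
          apply Submodule.subset_span
          rw [Finset.coe_image]
          exact ⟨z, hz, rfl⟩
        · rw [map_zero]
          exact zero_mem _
        · intro z w _ _ hz hw
          rw [map_add]
          exact add_mem hz hw
        · intro a z _ hz
          rw [map_smul, ← algebraMap_smul A' a]
          exact Submodule.smul_mem _ _ hz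
    have : IsNoetherian A' ↥T' := isNoetherian_of_fg_of_noetherian T' hT'fg
    have hle : LocCoh.torsionBy (IsLocalRing.maximalIdeal A') N' ≤ T' := by
      intro y hy
      induction y using LocalizedModule.induction_on with
      | h x s =>
        have hx : x ∈ T := by
          rw [Submodule.mem_torsionBySet_iff]
          rintro ⟨a, ha⟩
          have h1 : algebraMap A A' a ∈ IsLocalRing.maximalIdeal A' := by
            rw [← Localization.AtPrime.map_eq_maximalIdeal (I := 𝔪)]
            exact Ideal.mem_map_of_mem _ ha
          have h2 := (Submodule.mem_torsionBySet_iff _ _).mp hy ⟨_, h1⟩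
          change algebraMap A A' a • LocalizedModule.mk x s = 0 at h2
          rw [algebraMap_smul, LocalizedModule.smul'_mk, ← LocalizedModule.zero_mk s,
            LocalizedModule.mk_eq] at h2
          obtain ⟨u, hu⟩ := h2
          rw [smul_zero, smul_zero] at hu
          change a • x = 0
          have hinj := smul_injective_of_powerTorsion 𝔪 hN (s := ((u * s : S) : A)) (u * s).2
          apply hinj
          change ((u * s : S) : A) • a • x = ((u * s : S) : A) • (0 : N)
          rw [smul_zero, Submonoid.coe_mul, mul_smul]
          exact hu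
        have h3 : LocalizedModule.mk x s = (Localization.mk 1 s : A') •
            LocalizedModule.mkLinearMap S N x := by
          rw [LocalizedModule.mkLinearMap_apply, LocalizedModule.mk_smul_mk, one_smul, mul_one]
        rw [h3]
        exact Submodule.smul_mem _ _ (Submodule.subset_span ⟨x, hx, rfl⟩)
    have : IsNoetherian A' ↥(LocCoh.torsionBy (IsLocalRing.maximalIdeal A') N') :=
      isNoetherian_of_le hle
    have : Module.Finite A' ↥(LocCoh.torsionBy (IsLocalRing.maximalIdeal A') N') := inferInstance
    exact Module.Finite.of_restrictScalars_finite A' _ _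
  have : IsArtinian A' N' := (Groth.Agent.S0315.result A' N').mpr ⟨hN'', hfin⟩
  have : IsArtinian A N' := isArtinian_of_isArtinian_localization (A' := A') 𝔪 hN'
  refine isArtinian_of_injective (LocalizedModule.mkLinearMap S N) ?_
  intro x y hxy
  rw [LocalizedModule.mkLinearMap_apply, LocalizedModule.mkLinearMap_apply,
    LocalizedModule.mk_eq] at hxy
  obtain ⟨u, hu⟩ := hxy
  rw [one_smul, one_smul] at hu
  exact smul_injective_of_powerTorsion 𝔪 hN (s := (u : A)) u.2 hu

end Main

end Groth.Agent.Lib.Seat86.MaxArt
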