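import Mathlib
import Groth.Agent.S0817
import Groth.Agent.Lib.Seat86MaxArtCrit

/-!
# Local cohomology at a maximal ideal of a Noetherian ring is Artinian

The non-local version of `S0817`: for a maximal ideal `𝔪` of a Noetherian ring `A` and a finite
`A`-module `M`, all `H^i_𝔪(M)` are Artinian `A`-modules.
-/

set_option autoImplicit false
universe u

namespace Groth.Agent.Lib.Seat86.MaxArt

open CategoryTheory Groth.Agent.Lib.Helper8.ExtLES Groth.Agent.Lib.Helper8.LC
  Groth.Agent.Lib.Helper8.DT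

variable {A : Type u} [CommRing A] [IsNoetherianRing A] (𝔪 : Ideal A) [h𝔪 : 𝔪.IsMaximal]

omit [IsNoetherianRing A] in
theorem finite_socle_of_isArtinian_socle (N : Type u) [AddCommGroup N] [Module A N]
    (h : IsArtinian A ↥(LocCoh.torsionBy 𝔪 N)) :
    Module.Finite A ↥(LocCoh.torsionBy 𝔪 N) := by
  let _ : Field (A ⧸ 𝔪) := Ideal.Quotient.field 𝔪
  have : IsArtinian (A ⧸ 𝔪) ↥(LocCoh.torsionBy 𝔪 N) := isArtinian_of_tower A h
  let b := Module.Basis.ofVectorSpace (A ⧸ 𝔪) ↥(LocCoh.torsionBy 𝔪 N)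
  have hfin : (Module.Basis.ofVectorSpaceIndex (A ⧸ 𝔪) ↥(LocCoh.torsionBy 𝔪 N)).Finite :=
    IsArtinian.finite_of_linearIndependent (Module.Basis.ofVectorSpaceIndex.linearIndependent _ _)
  have := hfin.to_subtype
  have h1 : Module.Finite (A ⧸ 𝔪) ↥(LocCoh.torsionBy 𝔪 N) := Module.Finite.of_basis b
  exact Module.Finite.trans (A ⧸ 𝔪) _

theorem isArtinian_H_zero (M : Type u) [AddCommGroup M] [Module A M] [Module.Finite A M] :
    IsArtinian A (LocCoh.H 𝔪 0 M) := by
  have hN : IsNoetherian A M := isNoetherian_of_isNoetherianRing_of_finite A M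
  have hpt : LocCoh.IsPowerTorsion 𝔪 ↥(DRing.torsionSub 𝔪 M) := by
    rintro ⟨x, n, hn⟩
    exact ⟨n, fun a ha => Subtype.ext (hn a ha)⟩
  have hfin : Module.Finite A ↥(LocCoh.torsionBy 𝔪 ↥(DRing.torsionSub 𝔪 M)) := inferInstance
  have hart : IsArtinian A ↥(DRing.torsionSub 𝔪 M) :=
    isArtinian_of_powerTorsion_of_finite_socle 𝔪 hpt hfin
  exact isArtinian_of_linearEquiv (ΦEquiv 𝔪 (ModuleCat.of A M)).symm

theorem isArtinian_H_succ_of_torsionFree (i : ℕ)
    (ih : ∀ (M : Type u) [AddCommGroup M] [Module A M] [Module.Finite A M],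
      IsArtinian A (LocCoh.H 𝔪 i M))
    (M : Type u) [AddCommGroup M] [Module A M] [Module.Finite A M]
    (hM : DRing.torsionSub 𝔪 M = ⊥) :
    IsArtinian A (LocCoh.H 𝔪 (i + 1) M) := by
  obtain ⟨r, hr, hreg⟩ := Groth.Agent.S11610.result A A 𝔪 M (by
    rw [Algebra.algebraMap_self, Ideal.map_id]
    exact hM)
  rw [Algebra.algebraMap_self, RingHom.id_apply] at hreg
  -- the short exact sequence `0 → M → M → M/rM → 0`
  let f : M →ₗ[A] M := LinearMap.lsmul A M r
  have hf : Function.Injective f := hreg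
  have hg : Function.Surjective (LinearMap.range f).mkQ := Submodule.mkQ_surjective _
  have hex : Function.Exact f (LinearMap.range f).mkQ := LinearMap.exact_map_mkQ_range f
  have hS := Sfg_shortExact f _ hf hg hex
  have hQ : IsArtinian A (LocCoh.H 𝔪 i (M ⧸ LinearMap.range f)) := ih _
  have hrange : IsArtinian A ↥(LinearMap.range
      (Hδ 𝔪 i (Sfg f (LinearMap.range f).mkQ hex) hS).hom) := isArtinian_range _
  have hle : LocCoh.torsionBy 𝔪 (LocCoh.H 𝔪 (i + 1) M) ≤
      LinearMap.range (Hδ 𝔪 i (Sfg f (LinearMap.range f).mkQ hex) hS).hom := by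
    intro x hx
    have h0 : r • x = 0 := (Submodule.mem_torsionBySet_iff _ _).mp hx ⟨r, hr⟩
    have h1 : (localCohomology 𝔪 (i + 1)).map
        (Sfg f (LinearMap.range f).mkQ hex).f x = 0 := by
      change (localCohomology 𝔪 (i + 1)).map
        (ModuleCat.ofHom (LinearMap.lsmul A M r)) x = 0
      rw [Groth.Agent.Lib.Helper8.LC.H_map_lsmul]
      exact h0
    obtain ⟨z, hz⟩ := H_exact₁ 𝔪 i _ hS x h1
    exact ⟨z, hz⟩
  have hsoc : IsArtinian A ↥(LocCoh.torsionBy 𝔪 (LocCoh.H 𝔪 (i + 1) M)) :=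
    isArtinian_of_le hle
  exact isArtinian_of_powerTorsion_of_finite_socle 𝔪
    (fun x => isPowerTorsion_H 𝔪 (i + 1) (ModuleCat.of A M) x)
    (finite_socle_of_isArtinian_socle 𝔪 _ hsoc)

/-- For a maximal ideal `𝔪` of a Noetherian ring and a finite module `M`, the local cohomology
modules `H^i_𝔪(M)` are Artinian. -/
theorem isArtinian_H (i : ℕ) : ∀ (M : Type u) [AddCommGroup M] [Module A M] [Module.Finite A M],
    IsArtinian A (LocCoh.H 𝔪 i M) := by
  induction i with
  | zero => intro M _ _ _; exact isArtinian_H_zero 𝔪 M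
  | succ i ih =>
    intro M _ _ _
    have hbij := Groth.Agent.S11589.result A 𝔪 M (i + 1) (Nat.succ_pos i)
    suffices h : IsArtinian A (LocCoh.H 𝔪 (i + 1) (M ⧸ DRing.torsionSub 𝔪 M)) from
      isArtinian_of_linearEquiv (LinearEquiv.ofBijective _ hbij).symm
    exact isArtinian_H_succ_of_torsionFree 𝔪 i ih _
      (Groth.Agent.S0817.torsionSub_quotient_eq_bot _ M)

end Groth.Agent.Lib.Seat86.MaxArt
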