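import Mathlib
import Groth.Agent.S13224
import Groth.Agent.S13225
import Groth.Agent.Lib.Seat86StarLocal
import Groth.Agent.Lib.Seat86MaxArtLC
import Groth.Agent.Lib.Seat86GrArt

/-!
# Graded local cohomology of a *local positively graded ring: Artinian-ness and its consequences

For a Noetherian positively ℤ-graded *local ring `(R, m)`, a finite graded module `M` and a
*injective resolution `E` of `M`: `E.H m i` is an Artinian `R`-module, its pieces are independent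
and compatible with the grading of `R`.
-/

set_option autoImplicit false
universe u

open GrLC

namespace Groth.Agent.Lib.Seat86.GrLCArt

variable {R : Type u} [CommRing R] {𝒜 : ℤ → AddSubgroup R} [GradedRing 𝒜]
  {M : Type u} [AddCommGroup M] [Module R M] {ℳ : ℤ → AddSubgroup M} [DirectSum.Decomposition ℳ]
  [SetLike.GradedSMul 𝒜 ℳ] (E : GrLC.StarInjRes 𝒜 ℳ) (a : HomogeneousIdeal 𝒜) (i : ℕ)

theorem smul_mem_Hgr (k n : ℤ) (r : R) (x : E.H a i) (hr : r ∈ 𝒜 k) (hx : x ∈ E.Hgr a i n) :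
    r • x ∈ E.Hgr a i (k + n) := by
  obtain ⟨z, hz, rfl⟩ := hx
  refine ⟨r • z, ?_, map_smul _ _ _⟩
  have h := SetLike.GradedSMul.smul_mem (A := 𝒜) (B := (E.X i).gr) hr hz
  rw [vadd_eq_add] at h
  exact h

theorem mem_Hcomp_iff (n : ℤ) (x : E.H a i) : x ∈ E.Hcomp a i n ↔ x ∈ E.Hgr a i n := Iff.rfl

variable [IsNoetherianRing R]

theorem iSupIndep_Hgr : iSupIndep (E.Hgr a i) :=
  (Groth.Agent.S13225.result R 𝒜 a M ℳ E i).addSubgroup_iSupIndep

variable [Module.Finite R M] (hpos : ∀ n : ℤ, n < 0 → 𝒜 n = ⊥) {m : HomogeneousIdeal 𝒜}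
  (hm : GrLC.IsStarLocal 𝒜 m)

include hpos hm in
theorem isArtinian_H : IsArtinian R (E.H m i) := by
  have hmax : m.toIdeal.IsMaximal :=
    Groth.Agent.Lib.Seat86.StarLocal.isMaximal_of_isStarLocal hm hpos
  obtain ⟨e⟩ := Groth.Agent.S13224.result R 𝒜 m M ℳ E i
  have : IsArtinian R (LocCoh.H m.toIdeal i M) :=
    Groth.Agent.Lib.Seat86.MaxArt.isArtinian_H m.toIdeal i M
  exact isArtinian_of_linearEquiv e.symm

include hpos hm in
theorem exists_Hcomp_eq_bot : ∃ N : ℤ, ∀ n : ℤ, N ≤ n → E.Hcomp m i n = ⊥ := by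
  have := isArtinian_H E i hpos hm
  obtain ⟨N, hN⟩ := Groth.Agent.Lib.Seat86.GrArt.exists_piece_eq_bot (𝒜 := 𝒜)
    (ℋ := E.Hgr m i) hpos (smul_mem_Hgr E m i) (iSupIndep_Hgr E m i)
  refine ⟨N, fun n hn => ?_⟩
  rw [eq_bot_iff]
  intro x hx
  have hx' : x ∈ E.Hgr m i n := hx
  rw [hN n hn] at hx'
  exact hx'

include hpos hm in
theorem isArtinian_Hcomp (n : ℤ) : IsArtinian (GrLC.deg0 𝒜) (E.Hcomp m i n) := by
  have := isArtinian_H E i hpos hm
  exact Groth.Agent.Lib.Seat86.GrArt.isArtinian_piece (𝒜 := 𝒜)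
    (ℋ := E.Hgr m i) hpos (smul_mem_Hgr E m i) (iSupIndep_Hgr E m i) n (E.Hcomp m i n)
    (fun x => mem_Hcomp_iff E m i n x)

end Groth.Agent.Lib.Seat86.GrLCArt
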