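import Mathlib
import Groth.Prelude.Def_GrLC
import Groth.Agent.Lib.Helper29GrEss

/-!
# Length bookkeeping for pieces of graded modules (seat 86)

* `length_eq_add`: rank–nullity for `Module.length`, relative to a submodule `P` and a map `f`:
  `ℓ(P) = ℓ(P ⊓ ker f) + ℓ(f(P))`;
* `length_eq_of_map`, `les_step` (one step of the Euler characteristic of a long exact sequence),
  `sum_alt_telescope`, `eq_zero_of_periodic`, `eq_zero_of_le_shift`, `degree_sub_comp_lt`;
* `isNoetherian_comp`: the pieces of a Noetherian graded module are Noetherian over `R_0`.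
-/

set_option autoImplicit false
set_option linter.style.haveILetI false
set_option linter.unusedSectionVars false
open DirectSum

noncomputable section

namespace Groth.Agent.Lib.Seat86.GrLen

universe u

section Abstract

variable {S : Type*} [Ring S] {H H' : Type*} [AddCommGroup H] [Module S H] [AddCommGroup H']
  [Module S H']

/-- Rank–nullity for length, relative to a submodule. -/
theorem length_eq_add (f : H →ₗ[S] H') (P : Submodule S H) :
    Module.length S P =
      Module.length S ↥(P ⊓ LinearMap.ker f) + Module.length S ↥(P.map f) := by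
  refine Module.length_eq_add_of_exact
    (Submodule.inclusion (inf_le_left : P ⊓ LinearMap.ker f ≤ P)) (f.submoduleMap P)
    (Submodule.inclusion_injective _) (f.submoduleMap_surjective P) ?_
  intro y
  constructor
  · intro hy
    have h1 : f (y : H) = 0 := by
      have := congrArg Subtype.val hy
      rwa [LinearMap.submoduleMap_coe_apply, ZeroMemClass.coe_zero] at this
    exact ⟨⟨y, y.2, h1⟩, rfl⟩
  · rintro ⟨z, rfl⟩
    apply Subtype.ext
    rw [LinearMap.submoduleMap_coe_apply, ZeroMemClass.coe_zero]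
    exact z.2.2

theorem length_inf_ker_ne_top (f : H →ₗ[S] H') (P : Submodule S H)
    (hP : Module.length S P ≠ ⊤) : Module.length S ↥(P ⊓ LinearMap.ker f) ≠ ⊤ := by
  intro h
  apply hP
  rw [length_eq_add f P, h, top_add]

theorem length_map_ne_top (f : H →ₗ[S] H') (P : Submodule S H)
    (hP : Module.length S P ≠ ⊤) : Module.length S ↥(P.map f) ≠ ⊤ := by
  intro h
  apply hP
  rw [length_eq_add f P, h, add_top]

theorem toNat_length_eq_add (f : H →ₗ[S] H') (P : Submodule S H)
    (hP : Module.length S P ≠ ⊤) :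
    (Module.length S P).toNat =
      (Module.length S ↥(P ⊓ LinearMap.ker f)).toNat + (Module.length S ↥(P.map f)).toNat := by
  rw [length_eq_add f P,
    ENat.toNat_add (length_inf_ker_ne_top f P hP) (length_map_ne_top f P hP)]

/-- A map which is injective on `P` and maps `P` onto `P'` preserves length. -/
theorem length_eq_of_map (f : H →ₗ[S] H') (P : Submodule S H) (P' : Submodule S H')
    (hinj : ∀ y ∈ P, f y = 0 → y = 0) (hmap : P.map f = P') :
    Module.length S P = Module.length S P' := by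
  have h0 : P ⊓ LinearMap.ker f = ⊥ := by
    rw [eq_bot_iff]
    rintro y ⟨hy1, hy2⟩
    exact (Submodule.mem_bot S).mpr (hinj y hy1 hy2)
  rw [length_eq_add f P, h0, hmap, Module.length_bot, zero_add]

theorem length_of_eq_bot (P : Submodule S H) (hP : P = ⊥) : Module.length S P = 0 := by
  rw [hP, Module.length_bot]

/-- One step of the Euler characteristic of a long exact sequence (piecewise form). -/
theorem les_step {HA HB HC HA' HB' : Type*} [AddCommGroup HA] [Module S HA] [AddCommGroup HB]
    [Module S HB] [AddCommGroup HC] [Module S HC] [AddCommGroup HA'] [Module S HA']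
    [AddCommGroup HB'] [Module S HB']
    (X : HA →ₗ[S] HB) (p : HB →ₗ[S] HC) (δ : HC →ₗ[S] HA') (X' : HA' →ₗ[S] HB')
    (A : Submodule S HA) (B : Submodule S HB) (C : Submodule S HC) (A' : Submodule S HA')
    (hA : Module.length S A ≠ ⊤) (hB : Module.length S B ≠ ⊤) (hC : Module.length S C ≠ ⊤)
    (h1 : A.map X = B ⊓ LinearMap.ker p) (h2 : B.map p = C ⊓ LinearMap.ker δ)
    (h3 : C.map δ = A' ⊓ LinearMap.ker X') :
    ((Module.length S A).toNat : ℚ) - (Module.length S B).toNat + (Module.length S C).toNat =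
      ((Module.length S ↥(A ⊓ LinearMap.ker X)).toNat : ℚ) +
        (Module.length S ↥(A' ⊓ LinearMap.ker X')).toNat := by
  have eA := toNat_length_eq_add X A hA
  have eB := toNat_length_eq_add p B hB
  have eC := toNat_length_eq_add δ C hC
  rw [h1] at eA
  rw [h2] at eB
  rw [h3] at eC
  rw [eA, eB, eC]
  push_cast
  ring

theorem sum_alt_telescope (K : ℕ → ℚ) (m : ℕ) :
    ∑ i ∈ Finset.range m, (-1 : ℚ) ^ i * (K i + K (i + 1)) = K 0 - (-1) ^ m * K m := by
  induction m with
  | zero => simp
  | succ m ih =>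
    rw [Finset.sum_range_succ, ih, pow_succ]
    ring

theorem eq_zero_of_periodic (D : ℤ → ℚ) (e : ℤ) (he : 0 < e) (hper : ∀ n, D n = D (n + -e))
    (N₀ : ℤ) (h0 : ∀ n, N₀ ≤ n → D n = 0) (n : ℤ) : D n = 0 := by
  have key : ∀ j : ℕ, ∀ n, D n = D (n + j * e) := by
    intro j
    induction j with
    | zero =>
      intro n
      simp
    | succ j ih =>
      intro n
      rw [ih n, hper (n + ((j + 1 : ℕ) : ℤ) * e)]
      congr 1
      push_cast
      ring
  rw [key (N₀ - n).toNat n]
  apply h0
  have h1 : (N₀ - n) ≤ ((N₀ - n).toNat : ℤ) := Int.self_le_toNat _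
  have h2 : (0 : ℤ) ≤ ((N₀ - n).toNat : ℤ) := Int.natCast_nonneg _
  have h3 : ((N₀ - n).toNat : ℤ) * 1 ≤ ((N₀ - n).toNat : ℤ) * e :=
    mul_le_mul_of_nonneg_left (by omega) h2
  linarith

theorem eq_zero_of_le_shift (D : ℤ → ℚ) (e : ℤ) (he : 0 < e) (hnn : ∀ n, 0 ≤ D n)
    (hle : ∀ n, D (n + -e) ≤ D n)
    (N₀ : ℤ) (h0 : ∀ n, N₀ ≤ n → D n = 0) (n : ℤ) : D n = 0 := by
  have key : ∀ j : ℕ, ∀ n, D n ≤ D (n + j * e) := by
    intro j
    induction j with
    | zero =>
      intro n
      simp
    | succ j ih =>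
      intro n
      refine le_trans (ih n) ?_
      have h := hle (n + ((j + 1 : ℕ) : ℤ) * e)
      have e1 : n + ((j + 1 : ℕ) : ℤ) * e + -e = n + (j : ℤ) * e := by
        push_cast
        ring
      rwa [e1] at h
  have h1 : (N₀ - n) ≤ ((N₀ - n).toNat : ℤ) := Int.self_le_toNat _
  have h2 : (0 : ℤ) ≤ ((N₀ - n).toNat : ℤ) := Int.natCast_nonneg _
  have h3 : ((N₀ - n).toNat : ℤ) * 1 ≤ ((N₀ - n).toNat : ℤ) * e :=
    mul_le_mul_of_nonneg_left (by omega) h2
  have h4 := key (N₀ - n).toNat n
  rw [h0 (n + ((N₀ - n).toNat : ℤ) * e) (by linarith)] at h4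
  exact le_antisymm h4 (hnn n)

open Polynomial in
theorem degree_sub_comp_lt (P : Polynomial ℚ) (e : ℚ) (k : ℕ)
    (hdeg : P.degree < ((k + 1 : ℕ) : WithBot ℕ)) :
    (P - P.comp (X - C e)).degree < ((k : ℕ) : WithBot ℕ) := by
  by_cases hP : P = 0
  · rw [hP, zero_comp, sub_zero, degree_zero]
    exact WithBot.bot_lt_coe k
  · have hq : (X - C e : Polynomial ℚ).natDegree = 1 := natDegree_X_sub_C e
    have hlc : (P.comp (X - C e)).leadingCoeff = P.leadingCoeff := by
      rw [leadingCoeff_comp (by rw [hq]; exact one_ne_zero), leadingCoeff_X_sub_C, one_pow,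
        mul_one]
    have hne : P.comp (X - C e) ≠ 0 := by
      intro h
      rw [h, leadingCoeff_zero] at hlc
      exact hP (leadingCoeff_eq_zero.mp hlc.symm)
    have hd : P.degree = (P.comp (X - C e)).degree := by
      rw [degree_eq_natDegree hP, degree_eq_natDegree hne, natDegree_comp, hq, mul_one]
    have h1 := degree_sub_lt_left hd hP hlc.symm
    have h2 : P.degree ≤ ((k : ℕ) : WithBot ℕ) := by
      rw [degree_eq_natDegree hP] at hdeg ⊢
      have h3 : P.natDegree < k + 1 := by exact_mod_cast hdeg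
      exact_mod_cast Nat.lt_succ_iff.mp h3
    exact lt_of_lt_of_le h1 h2

open Polynomial in
theorem eval_sub_comp (P : Polynomial ℚ) (e t : ℚ) :
    (P - P.comp (X - C e)).eval t = P.eval t - P.eval (t - e) := by
  rw [eval_sub, eval_comp, eval_sub, eval_X, eval_C]

end Abstract

section Comp

variable {ι : Type} [AddCommGroup ι] [DecidableEq ι]
variable {R : Type u} [CommRing R] (𝒜 : ι → AddSubgroup R) [GradedRing 𝒜]
variable {M : Type u} [AddCommGroup M] [Module R M] (ℳ : ι → AddSubgroup M)
  [DirectSum.Decomposition ℳ] [SetLike.GradedSMul 𝒜 ℳ]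

/-- The pieces of a Noetherian graded module are Noetherian over the degree-zero subring. -/
theorem isNoetherian_comp [IsNoetherian R M] (g : ι) :
    IsNoetherian (GrLC.deg0 𝒜) (GrLC.comp 𝒜 ℳ g) := by
  classical
  let φ : Submodule (GrLC.deg0 𝒜) (GrLC.comp 𝒜 ℳ g) → Submodule R M := fun N =>
    Submodule.span R ((fun y : GrLC.comp 𝒜 ℳ g => (y : M)) '' (N : Set (GrLC.comp 𝒜 ℳ g)))
  have hmono : Monotone φ := fun N N' h => Submodule.span_mono (Set.image_mono h)
  have key : ∀ (N : Submodule (GrLC.deg0 𝒜) (GrLC.comp 𝒜 ℳ g)) (y : GrLC.comp 𝒜 ℳ g),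
      (y : M) ∈ φ N → y ∈ N := by
    intro N y hy
    obtain ⟨k, f, w, hsum⟩ := Submodule.mem_span_set'.mp hy
    choose v hvN hv using fun i => (w i).2
    have hyg : (y : M) ∈ ℳ g := y.2
    have h1 : (y : M) = ∑ i, ((decompose 𝒜 (f i)) 0 : R) • ((v i : GrLC.comp 𝒜 ℳ g) : M) := by
      calc (y : M) = ((decompose ℳ (y : M)) g : M) :=
            (DirectSum.decompose_of_mem_same ℳ hyg).symm
        _ = ((decompose ℳ (∑ i, f i • ((w i : M)))) g : M) := by rw [hsum]
        _ = ∑ i, ((decompose ℳ (f i • ((w i : M)))) g : M) := by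
            rw [DirectSum.decompose_sum, DFinsupp.finsetSum_apply,
              AddSubmonoidClass.coe_finsetSum]
        _ = ∑ i, ((decompose 𝒜 (f i)) 0 : R) • ((v i : GrLC.comp 𝒜 ℳ g) : M) := by
            refine Finset.sum_congr rfl fun i _ => ?_
            have hvi : ((v i : GrLC.comp 𝒜 ℳ g) : M) ∈ ℳ g := (v i).2
            rw [← hv i, Groth.Agent.Lib.Helper29GrEss.decompose_smul_of_mem_right 𝒜 ℳ hvi (f i) g,
              sub_self]
    have h2 : y = ∑ i, (⟨((decompose 𝒜 (f i)) 0 : R), SetLike.coe_mem _⟩ : GrLC.deg0 𝒜) • v i := by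
      apply Subtype.ext
      rw [h1, Submodule.coe_sum]
      rfl
    rw [h2]
    exact Submodule.sum_mem _ fun i _ => N.smul_mem _ (hvN i)
  have hinj : Function.Injective φ := by
    intro N N' h
    ext y
    constructor
    · intro hy
      have h1 : (y : M) ∈ φ N := Submodule.subset_span ⟨y, hy, rfl⟩
      rw [h] at h1
      exact key N' y h1
    · intro hy
      have h1 : (y : M) ∈ φ N' := Submodule.subset_span ⟨y, hy, rfl⟩
      rw [← h] at h1
      exact key N y h1
  haveI : WellFoundedGT (Submodule R M) := isNoetherian_iff'.mp inferInstance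
  rw [isNoetherian_iff']
  exact (hmono.strictMono_of_injective hinj).wellFoundedGT

theorem length_comp_ne_top [IsNoetherian R M] [IsArtinianRing (GrLC.deg0 𝒜)] (g : ι) :
    Module.length (GrLC.deg0 𝒜) (GrLC.comp 𝒜 ℳ g) ≠ ⊤ := by
  have hN := isNoetherian_comp 𝒜 ℳ g
  rw [Module.length_ne_top_iff]
  exact ((IsArtinianRing.tfae (GrLC.deg0 𝒜) (GrLC.comp 𝒜 ℳ g)).out 1 3).mp hN

end Comp

end Groth.Agent.Lib.Seat86.GrLen
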