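import Mathlib
import Groth.Prelude.Def_GrLC
import Groth.Agent.Lib.Seat86GrIndep

/-!
# The long exact sequence for multiplication by a homogeneous non-zero-divisor (seat 86)

`x ∈ R_d` regular on the graded module `M`, `π : M → N` a homogeneous surjection with kernel `xM`,
`E`, `E''` *injective resolutions of `M`, `N`.  Then there are `R`-linear maps
`p i : H^i(M) → H^i(N)` (homogeneous) and `δ i : H^i(N) → H^{i+1}(M)` (homogeneous of degree `-d`)
such that `… H^i(M) --x--> H^i(M) --p--> H^i(N) --δ--> H^{i+1}(M) --x--> H^{i+1}(M) …` is exact,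
also on homogeneous pieces.
-/

set_option autoImplicit false
set_option linter.style.haveILetI false
set_option linter.unusedSectionVars false
open DirectSum

noncomputable section

namespace Groth.Agent.Lib.Seat86.GrSmul

open Groth.Agent.Lib.Seat86.GrProd Groth.Agent.Lib.Seat86.GrCone Groth.Agent.Lib.Seat86.GrHmap
  Groth.Agent.Lib.Seat86.GrLES Groth.Agent.Lib.Seat86.GrIndep Groth.Agent.Lib.Helper29GrShift

universe u

variable {ι : Type} [AddCommGroup ι] [DecidableEq ι]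
variable {R : Type u} [CommRing R] {𝒜 : ι → AddSubgroup R} [GradedRing 𝒜]
variable {M : Type u} [AddCommGroup M] [Module R M] {ℳ : ι → AddSubgroup M}
  [DirectSum.Decomposition ℳ] [SetLike.GradedSMul 𝒜 ℳ]

/-- The shifted resolution: a *injective resolution of `M(e)`. -/
def shiftRes (E : GrLC.StarInjRes 𝒜 ℳ) (e : ι) : GrLC.StarInjRes 𝒜 (shiftGr ℳ e) where
  X n := shiftGMod (E.X n) e
  d := E.d
  ε := E.ε
  d_grHom n := fun j x hx => E.d_grHom n (j + e) x hx
  ε_grHom := fun j m hm => E.ε_grHom (j + e) m hm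
  ε_injective := E.ε_injective
  exact_zero := E.exact_zero
  exact_succ := E.exact_succ
  starInj n := isStarInj_shift (E.X n) (E.starInj n) e

/-- The cohomology of the shifted resolution is the same module. -/
def shiftH (E : GrLC.StarInjRes 𝒜 ℳ) (e : ι) (a : HomogeneousIdeal 𝒜) (i : ℕ) :
    (shiftRes E e).H a i ≃ₗ[R] E.H a i := LinearEquiv.refl R _

theorem shiftH_mem_iff (E : GrLC.StarInjRes 𝒜 ℳ) (e : ι) (a : HomogeneousIdeal 𝒜) (i : ℕ) (g : ι)
    (y : (shiftRes E e).H a i) :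
    y ∈ (shiftRes E e).Hgr a i g ↔ shiftH E e a i y ∈ E.Hgr a i (g + e) := Iff.rfl

/-- Multiplication by a homogeneous element as a chain lift `E(-d) → E`. -/
def smulLift (E : GrLC.StarInjRes 𝒜 ℳ) (x : R) (d : ι) (hx : x ∈ 𝒜 d) :
    ChainLift (ℳ' := shiftGr ℳ (-d)) (ℳ := ℳ) (x • (LinearMap.id : M →ₗ[R] M))
      (shiftRes E (-d)) E where
  f n := x • (LinearMap.id : (E.X n).carrier →ₗ[R] (E.X n).carrier)
  grHom n := by
    have key : ∀ (j : ι) (y : (E.X n).carrier), y ∈ (E.X n).gr (j + -d) →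
        x • y ∈ (E.X n).gr j := by
      intro j y hy
      have := SetLike.GradedSMul.smul_mem (A := 𝒜) (B := (E.X n).gr) hx hy
      rw [vadd_eq_add, add_comm, neg_add_cancel_right] at this
      exact this
    exact key
  comm_ε m := (map_smul E.ε x m).symm
  comm n y := (map_smul (E.d n) x y).symm

theorem Hmap_smulLift (E : GrLC.StarInjRes 𝒜 ℳ) (x : R) (d : ι) (hx : x ∈ 𝒜 d)
    (a : HomogeneousIdeal 𝒜) (i : ℕ) (y : (shiftRes E (-d)).H a i) :
    (ofLift (smulLift E x d hx)).Hmap a i y = x • shiftH E (-d) a i y := by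
  obtain ⟨z, rfl⟩ := toH_surjective (shiftRes E (-d)) a i y
  rw [CxHom.Hmap_toH]
  show E.toH a i _ = x • E.toH a i z
  rw [← map_smul]
  rfl

variable [Module.Free ℤ ι] [Module.Finite ℤ ι] [IsNoetherianRing R]
variable {N : Type u} [AddCommGroup N] [Module R N] {𝒩 : ι → AddSubgroup N}
  [DirectSum.Decomposition 𝒩] [SetLike.GradedSMul 𝒜 𝒩]

/-- **The long exact sequence of multiplication by a regular homogeneous element.** -/
theorem exists_les_smul (x : R) (d : ι) (hx : x ∈ 𝒜 d) (hreg : IsSMulRegular M x)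
    (E : GrLC.StarInjRes 𝒜 ℳ) (π : M →ₗ[R] N) (hπ : Function.Surjective π)
    (hπg : GrLC.IsGrHom ℳ 𝒩 π)
    (hker : LinearMap.ker π = LinearMap.range (x • (LinearMap.id : M →ₗ[R] M)))
    (E'' : GrLC.StarInjRes 𝒜 𝒩) (a : HomogeneousIdeal 𝒜) :
    ∃ (p : ∀ i, E.H a i →ₗ[R] E''.H a i) (δ : ∀ i, E''.H a i →ₗ[R] E.H a (i + 1)),
      (∀ (i : ℕ) (g : ι) (y : E.H a i), y ∈ E.Hgr a i g → p i y ∈ E''.Hgr a i g) ∧
      (∀ (i : ℕ) (g : ι) (z : E''.H a i), z ∈ E''.Hgr a i g → δ i z ∈ E.Hgr a (i + 1) (g + -d)) ∧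
      (∀ (i : ℕ) (y : E.H a i), p i y = 0 ↔ ∃ y' : E.H a i, x • y' = y) ∧
      (∀ (i : ℕ) (z : E''.H a i), δ i z = 0 ↔ ∃ y : E.H a i, p i y = z) ∧
      (∀ (i : ℕ) (y : E.H a (i + 1)), x • y = 0 ↔ ∃ z : E''.H a i, δ i z = y) ∧
      (∀ (i : ℕ) (g : ι) (y : E.H a i), y ∈ E.Hgr a i g → p i y = 0 →
        ∃ y' ∈ E.Hgr a i (g + -d), x • y' = y) ∧
      (∀ (i : ℕ) (g : ι) (z : E''.H a i), z ∈ E''.Hgr a i g → δ i z = 0 →
        ∃ y ∈ E.Hgr a i g, p i y = z) ∧
      (∀ (i : ℕ) (g : ι) (y : E.H a (i + 1)), y ∈ E.Hgr a (i + 1) (g + -d) → x • y = 0 →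
        ∃ z ∈ E''.Hgr a i g, δ i z = y) := by
  have hα : Function.Injective (x • (LinearMap.id : M →ₗ[R] M)) := by
    intro m m' hmm'
    exact hreg hmm'
  obtain ⟨p, δ, hp, hδ, h1, h2, h3⟩ := exists_les (ℳ' := shiftGr ℳ (-d)) (ℳ := ℳ) (ℳ'' := 𝒩)
    (x • (LinearMap.id : M →ₗ[R] M)) hα π hπ hπg hker (shiftRes E (-d)) E (smulLift E x d hx) E'' a
  have e1 : ∀ (i : ℕ) (y : E.H a i), p i y = 0 ↔ ∃ y' : E.H a i, x • y' = y := by
    intro i y
    rw [← LinearMap.mem_ker, ← h1 i]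
    constructor
    · rintro ⟨y', rfl⟩
      exact ⟨shiftH E (-d) a i y', (Hmap_smulLift E x d hx a i y').symm⟩
    · rintro ⟨y', rfl⟩
      exact ⟨(shiftH E (-d) a i).symm y', Hmap_smulLift E x d hx a i _⟩
  have e2 : ∀ (i : ℕ) (z : E''.H a i), δ i z = 0 ↔ ∃ y : E.H a i, p i y = z := by
    intro i z
    rw [← LinearMap.mem_ker, ← h2 i]
    rfl
  have e3 : ∀ (i : ℕ) (y : E.H a (i + 1)), x • y = 0 ↔ ∃ z : E''.H a i, δ i z = y := by
    intro i y
    have : x • y = (ofLift (smulLift E x d hx)).Hmap a (i + 1)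
        ((shiftH E (-d) a (i + 1)).symm y) := (Hmap_smulLift E x d hx a (i + 1) _).symm
    rw [this, ← LinearMap.mem_ker, ← h3 i]
    rfl
  refine ⟨p, fun i => (shiftH E (-d) a (i + 1)).toLinearMap ∘ₗ δ i, hp, ?_, e1, ?_, ?_, ?_, ?_, ?_⟩
  · intro i g z hz
    exact hδ i g z hz
  · exact e2
  · exact e3
  · intro i g y hy hpy
    have hy' : y ∈ LinearMap.range ((ofLift (smulLift E x d hx)).Hmap a i) := by
      rw [h1 i]; exact hpy
    obtain ⟨y', hy'g, hy'y⟩ := exists_mem_piece_of_mem_range ((shiftRes E (-d)).Hgr a i) (E.Hgr a i)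
      (isInternal_Hgr _ a i) (isInternal_Hgr E a i) ((ofLift (smulLift E x d hx)).Hmap a i)
      (fun g y hy => (ofLift (smulLift E x d hx)).Hmap_mem_Hgr a i g hy) hy hy'
    exact ⟨shiftH E (-d) a i y', hy'g, by rw [← Hmap_smulLift E x d hx a i y']; exact hy'y⟩
  · intro i g z hz hδz
    have hz' : z ∈ LinearMap.range (p i) := by
      rw [h2 i]; exact hδz
    exact exists_mem_piece_of_mem_range (E.Hgr a i) (E''.Hgr a i)
      (isInternal_Hgr E a i) (isInternal_Hgr E'' a i) (p i) (hp i) hz hz'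
  · intro i g y hy hxy
    have hy' : (shiftH E (-d) a (i + 1)).symm y ∈ LinearMap.range (δ i) := by
      rw [h3 i, LinearMap.mem_ker, Hmap_smulLift]
      exact hxy
    exact exists_mem_piece_of_mem_range (E''.Hgr a i) ((shiftRes E (-d)).Hgr a (i + 1))
      (isInternal_Hgr E'' a i) (isInternal_Hgr _ a (i + 1)) (δ i) (hδ i) hy hy'

end Groth.Agent.Lib.Seat86.GrSmul
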