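import Mathlib
import Groth.Prelude.Def_GrLC
import Groth.Agent.S13215
import Groth.Agent.S13224
import Groth.Agent.Lib.Seat86GrSmul
import Groth.Agent.Lib.Seat86GrFinA
import Groth.Agent.Lib.Seat86GrFinB
import Groth.Agent.Lib.Seat86GrLCArt
import Groth.Agent.Lib.Seat86GrLen

/-!
# Lengths of pieces of graded local cohomology along exact sequences (seat 86)

For a ℤ-graded Noetherian ring, graded modules `M`, `N` and *injective resolutions: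
* `length_comp_smul`: `ℓ(M_g) = ℓ(M_{g-e}) + ℓ(N_g)` for `N = M/xM`, `x ∈ R_e` regular on `M`;
* `length_Hcomp_zero`: `ℓ(H^0_a(M)_g) = ℓ(Γ_a(M) ∩ M_g)`;
* `torsion_step`: for `N = M/Γ_a(M)`: `ℓ(M_g) = ℓ(H^0_a(M)_g) + ℓ(N_g)` and
  `ℓ(H^{j+1}_a(M)_g) = ℓ(H^{j+1}_a(N)_g)`;
* `euler_smul`: the Euler characteristic identity `χ_M(g-e) - χ_M(g) + χ_N(g) = 0` for `N = M/xM`.
-/

set_option autoImplicit false
set_option linter.style.haveILetI false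
set_option linter.unusedSectionVars false
open DirectSum

noncomputable section

namespace Groth.Agent.Lib.Seat86.GrSerreA

open Groth.Agent.Lib.Seat86.GrCone Groth.Agent.Lib.Seat86.GrHmap
  Groth.Agent.Lib.Seat86.GrLES Groth.Agent.Lib.Seat86.GrIndep Groth.Agent.Lib.Seat86.GrFinA
  Groth.Agent.Lib.Seat86.GrFinB Groth.Agent.Lib.Seat86.GrSmul Groth.Agent.Lib.Seat86.GrLen
  Groth.Agent.Lib.Helper29GrQuot Groth.Agent.Lib.Helper29GrSub Groth.Agent.Lib.Helper29GrGam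

universe u

variable {R : Type u} [CommRing R] {𝒜 : ℤ → AddSubgroup R} [GradedRing 𝒜]
variable {M : Type u} [AddCommGroup M] [Module R M] {ℳ : ℤ → AddSubgroup M}
  [DirectSum.Decomposition ℳ] [SetLike.GradedSMul 𝒜 ℳ]
variable {N : Type u} [AddCommGroup N] [Module R N] {𝒩 : ℤ → AddSubgroup N}
  [DirectSum.Decomposition 𝒩] [SetLike.GradedSMul 𝒜 𝒩]

variable [IsNoetherianRing R]

/-- A homogeneous surjection is surjective on pieces. -/
theorem map_comp_eq (π : M →ₗ[R] N) (hπ : Function.Surjective π) (hπg : GrLC.IsGrHom ℳ 𝒩 π)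
    (π' : M →ₗ[GrLC.deg0 𝒜] N) (hπ' : ∀ y, π' y = π y) (g : ℤ) :
    (GrLC.comp 𝒜 ℳ g).map π' = GrLC.comp 𝒜 𝒩 g := by
  apply le_antisymm
  · rintro _ ⟨m, hm, rfl⟩
    rw [hπ']
    exact hπg g m hm
  · intro y hy
    obtain ⟨m, rfl⟩ := hπ y
    refine ⟨((decompose ℳ m) g : M), SetLike.coe_mem _, ?_⟩
    have h1 := Groth.Agent.Lib.Helper29GrHom.decompose_map 𝒩 ℳ π hπg m g
    rw [hπ', ← h1]
    exact DirectSum.decompose_of_mem_same 𝒩 hy

/-- Hilbert function additivity for multiplication by a regular homogeneous element. -/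
theorem length_comp_smul (x : R) (e : ℤ) (hx : x ∈ 𝒜 e) (hreg : IsSMulRegular M x)
    (π : M →ₗ[R] N) (hπ : Function.Surjective π) (hπg : GrLC.IsGrHom ℳ 𝒩 π)
    (hker : LinearMap.ker π = LinearMap.range (x • (LinearMap.id : M →ₗ[R] M))) (g : ℤ) :
    Module.length (GrLC.deg0 𝒜) (GrLC.comp 𝒜 ℳ g) =
      Module.length (GrLC.deg0 𝒜) (GrLC.comp 𝒜 ℳ (g + -e)) +
        Module.length (GrLC.deg0 𝒜) (GrLC.comp 𝒜 𝒩 g) := by
  obtain ⟨X, hX⟩ : ∃ X : M →ₗ[GrLC.deg0 𝒜] M, ∀ y, X y = x • y :=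
    ⟨(x • (LinearMap.id : M →ₗ[R] M)).restrictScalars (GrLC.deg0 𝒜), fun _ => rfl⟩
  obtain ⟨π', hπ'⟩ : ∃ π' : M →ₗ[GrLC.deg0 𝒜] N, ∀ y, π' y = π y :=
    ⟨π.restrictScalars _, fun _ => rfl⟩
  have hmap := map_comp_eq π hπ hπg π' hπ' g
  have hker' : ∀ y, π' y = 0 ↔ ∃ m, x • m = y := by
    intro y
    rw [hπ', ← LinearMap.mem_ker, hker]
    constructor
    · rintro ⟨m, rfl⟩
      exact ⟨m, rfl⟩
    · rintro ⟨m, rfl⟩
      exact ⟨m, rfl⟩
  have h1 : (GrLC.comp 𝒜 ℳ (g + -e)).map X = GrLC.comp 𝒜 ℳ g ⊓ LinearMap.ker π' := by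
    apply le_antisymm
    · rintro _ ⟨m, hm, rfl⟩
      refine ⟨?_, ?_⟩
      · rw [hX]
        have hm' : m ∈ ℳ (g + -e) := hm
        have h := SetLike.GradedSMul.smul_mem (A := 𝒜) (B := ℳ) hx hm'
        rw [vadd_eq_add, add_comm, neg_add_cancel_right] at h
        exact h
      · exact (hker' _).mpr ⟨m, (hX m).symm⟩
    · rintro y ⟨hy1, hy2⟩
      obtain ⟨m, rfl⟩ := (hker' y).mp hy2
      have hy1' : x • m ∈ ℳ g := hy1
      refine ⟨((decompose ℳ m) (g - e) : M), ?_, ?_⟩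
      · show ((decompose ℳ m) (g - e) : M) ∈ ℳ (g + -e)
        rw [← sub_eq_add_neg]
        exact SetLike.coe_mem _
      · rw [hX]
        have h2 := Groth.Agent.Lib.Helper29GrEss.decompose_smul_of_mem 𝒜 ℳ hx m g
        rw [← h2]
        exact DirectSum.decompose_of_mem_same ℳ hy1'
  have hA : Module.length (GrLC.deg0 𝒜) (GrLC.comp 𝒜 ℳ (g + -e)) =
      Module.length (GrLC.deg0 𝒜) ↥(GrLC.comp 𝒜 ℳ g ⊓ LinearMap.ker π') := by
    refine length_eq_of_map X _ _ (fun y _ hy => ?_) h1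
    have h3 : x • y = x • (0 : M) := by rw [← hX, hy, smul_zero]
    exact hreg h3
  rw [length_eq_add π' (GrLC.comp 𝒜 ℳ g), hmap, hA]

/-- `H^0_a(M)_g` has the length of `Γ_a(M) ∩ M_g`. -/
theorem length_Hcomp_zero (E : GrLC.StarInjRes 𝒜 ℳ) (a : HomogeneousIdeal 𝒜) (g : ℤ) :
    Module.length (GrLC.deg0 𝒜) (E.Hcomp a 0 g) =
      Module.length (GrLC.deg0 𝒜)
        ↥(GrLC.comp 𝒜 ℳ g ⊓ (GrLC.gam a.toIdeal M).restrictScalars (GrLC.deg0 𝒜)) := by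
  let ε' : ↥(GrLC.gam a.toIdeal M) →ₗ[R] ↥(E.cocyc a 0) :=
    LinearMap.codRestrict (E.cocyc a 0) (E.ε ∘ₗ (GrLC.gam a.toIdeal M).subtype)
      (fun m => ⟨map_mem_gam E.ε a.toIdeal m.2, d_ε E m.1⟩)
  have hε' : ∀ t, ((ε' t : ↥(E.cocyc a 0)) : (E.X 0).carrier) = E.ε (t : M) := fun _ => rfl
  obtain ⟨φ, hφ⟩ : ∃ φ : ↥(GrLC.gam a.toIdeal M) →ₗ[GrLC.deg0 𝒜] E.H a 0,
      ∀ t, φ t = E.toH a 0 (ε' t) :=
    ⟨(E.toH a 0 ∘ₗ ε').restrictScalars _, fun _ => rfl⟩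
  obtain ⟨ι', hι'⟩ : ∃ ι' : ↥(GrLC.gam a.toIdeal M) →ₗ[GrLC.deg0 𝒜] M, ∀ t, ι' t = (t : M) :=
    ⟨(GrLC.gam a.toIdeal M).subtype.restrictScalars _, fun _ => rfl⟩
  obtain ⟨P₂, hP₂⟩ : ∃ P₂ : Submodule (GrLC.deg0 𝒜) ↥(GrLC.gam a.toIdeal M),
      ∀ t, t ∈ P₂ ↔ (t : M) ∈ ℳ g :=
    ⟨(GrLC.comp 𝒜 ℳ g).comap ι', fun t => by rw [Submodule.mem_comap, hι']; rfl⟩
  have e1 : Module.length (GrLC.deg0 𝒜) P₂ = Module.length (GrLC.deg0 𝒜) (E.Hcomp a 0 g) := by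
    refine length_eq_of_map φ P₂ _ ?_ ?_
    · intro t _ ht
      rw [hφ, toH_eq_zero_iff E a] at ht
      have h1 : ((ε' t : ↥(E.cocyc a 0)) : (E.X 0).carrier) = 0 := (Submodule.mem_bot R).mp ht
      rw [hε'] at h1
      have h3 : (t : M) = 0 := E.ε_injective (by rw [h1, map_zero])
      exact Subtype.ext h3
    · apply le_antisymm
      · rintro _ ⟨t, ht, rfl⟩
        rw [hφ]
        exact ⟨ε' t, E.ε_grHom g _ ((hP₂ t).mp ht), rfl⟩
      · rintro y ⟨z, hz, rfl⟩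
        obtain ⟨hz1, hz2⟩ := z.2
        have hz2' : (z : (E.X 0).carrier) ∈ LinearMap.range E.ε := by
          rw [← E.exact_zero]
          exact hz2
        obtain ⟨m, hmg, hm⟩ := exists_mem_piece_of_mem_range ℳ (E.X 0).gr
          (DirectSum.Decomposition.isInternal ℳ) (DirectSum.Decomposition.isInternal _)
          E.ε E.ε_grHom hz hz2'
        have hmgam : m ∈ GrLC.gam a.toIdeal M :=
          mem_gam_of_injective E.ε E.ε_injective a.toIdeal (by rw [hm]; exact hz1)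
        refine ⟨⟨m, hmgam⟩, (hP₂ _).mpr hmg, ?_⟩
        rw [hφ]
        congr 1
        exact Subtype.ext hm
  have e2 : Module.length (GrLC.deg0 𝒜) P₂ = Module.length (GrLC.deg0 𝒜)
      ↥(GrLC.comp 𝒜 ℳ g ⊓ (GrLC.gam a.toIdeal M).restrictScalars (GrLC.deg0 𝒜)) := by
    refine length_eq_of_map ι' P₂ _ ?_ ?_
    · intro t _ ht
      rw [hι'] at ht
      exact Subtype.ext ht
    · apply le_antisymm
      · rintro _ ⟨t, ht, rfl⟩
        rw [hι']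
        exact ⟨(hP₂ t).mp ht, t.2⟩
      · rintro y ⟨hy1, hy2⟩
        exact ⟨⟨y, hy2⟩, (hP₂ _).mpr hy1, hι' _⟩
  rw [← e1, e2]

theorem Hcomp_zero_eq_bot_of_gam_eq_bot (E : GrLC.StarInjRes 𝒜 ℳ) (a : HomogeneousIdeal 𝒜)
    (hgam : GrLC.gam a.toIdeal M = ⊥) (g : ℤ) : E.Hcomp a 0 g = ⊥ := by
  obtain ⟨φ, hφ⟩ := exists_surjective_gam_H0 E a
  rw [eq_bot_iff]
  intro y _
  obtain ⟨t, rfl⟩ := hφ y
  have ht : (t : M) ∈ (⊥ : Submodule R M) := by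
    rw [← hgam]
    exact t.2
  have ht0 : t = 0 := Subtype.ext ((Submodule.mem_bot R).mp ht)
  rw [ht0, map_zero]
  exact zero_mem _

/-- Passing to `M/Γ_a(M)`: Hilbert function and higher local cohomology. -/
theorem torsion_step (a : HomogeneousIdeal 𝒜) (π : M →ₗ[R] N) (hπ : Function.Surjective π)
    (hπg : GrLC.IsGrHom ℳ 𝒩 π) (hker : LinearMap.ker π = GrLC.gam a.toIdeal M)
    (E : GrLC.StarInjRes 𝒜 ℳ) (E'' : GrLC.StarInjRes 𝒜 𝒩) :
    (∀ g : ℤ, Module.length (GrLC.deg0 𝒜) (GrLC.comp 𝒜 ℳ g) =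
      Module.length (GrLC.deg0 𝒜) (E.Hcomp a 0 g) +
        Module.length (GrLC.deg0 𝒜) (GrLC.comp 𝒜 𝒩 g)) ∧
    (∀ (j : ℕ) (g : ℤ), Module.length (GrLC.deg0 𝒜) (E.Hcomp a (j + 1) g) =
      Module.length (GrLC.deg0 𝒜) (E''.Hcomp a (j + 1) g)) := by
  classical
  constructor
  · obtain ⟨π', hπ'⟩ : ∃ π' : M →ₗ[GrLC.deg0 𝒜] N, ∀ y, π' y = π y :=
      ⟨π.restrictScalars _, fun _ => rfl⟩
    intro g
    have hk : GrLC.comp 𝒜 ℳ g ⊓ LinearMap.ker π' =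
        GrLC.comp 𝒜 ℳ g ⊓ (GrLC.gam a.toIdeal M).restrictScalars (GrLC.deg0 𝒜) := by
      ext y
      simp only [Submodule.mem_inf, LinearMap.mem_ker, Submodule.restrictScalars_mem, hπ']
      rw [← LinearMap.mem_ker, hker]
    rw [length_eq_add π' (GrLC.comp 𝒜 ℳ g), map_comp_eq π hπ hπg π' hπ' g, hk,
      length_Hcomp_zero E a g]
  · obtain ⟨T, hT⟩ : ∃ T : Submodule R M, T = GrLC.gam a.toIdeal M := ⟨_, rfl⟩
    have hThom : T.IsHomogeneous ℳ := by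
      rw [hT]
      exact gam_isHomogeneous 𝒜 ℳ a
    letI : DirectSum.Decomposition (subGr ℳ T) := subDecomposition ℳ T hThom
    letI : SetLike.GradedSMul 𝒜 (subGr ℳ T) := sub_gradedSMul ℳ T 𝒜
    obtain ⟨E'⟩ := Groth.Agent.S13215.result R 𝒜 ↥T (subGr ℳ T)
    have htors : ∀ m : ↥T, m ∈ GrLC.gam a.toIdeal ↥T := by
      intro m
      have hm : (m : M) ∈ GrLC.gam a.toIdeal M := hT ▸ m.2
      obtain ⟨k, hk⟩ := hm
      exact ⟨k, fun r hr =>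
        Subtype.ext (by rw [Submodule.coe_smul, ZeroMemClass.coe_zero]; exact hk r hr)⟩
    have hαg : GrLC.IsGrHom (subGr ℳ T) ℳ T.subtype := fun g m hm => hm
    obtain ⟨F⟩ := exists_chainLift T.subtype hαg E' E
    obtain ⟨p, δ, hp, hδ, h1, h2, h3⟩ := exists_les T.subtype T.injective_subtype π hπ hπg
      (by rw [hker, Submodule.range_subtype, hT]) E' E F E'' a
    intro j g
    have hpinj : ∀ y, p (j + 1) y = 0 → y = 0 := by
      intro y hy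
      have hy' : y ∈ LinearMap.ker (p (j + 1)) := hy
      rw [← h1 (j + 1)] at hy'
      obtain ⟨y', rfl⟩ := hy'
      rw [H_succ_eq_zero_of_torsion E' a htors j y', map_zero]
    have hpsurj : ∀ z ∈ E''.Hgr a (j + 1) g, ∃ y ∈ E.Hgr a (j + 1) g, p (j + 1) y = z := by
      intro z hz'
      have hzr : z ∈ LinearMap.range (p (j + 1)) := by
        rw [h2 (j + 1)]
        exact LinearMap.mem_ker.mpr (H_succ_eq_zero_of_torsion E' a htors (j + 1) _)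
      exact exists_mem_piece_of_mem_range (E.Hgr a (j + 1)) (E''.Hgr a (j + 1))
        (isInternal_Hgr E a (j + 1)) (isInternal_Hgr E'' a (j + 1)) (p (j + 1)) (hp (j + 1))
        hz' hzr
    obtain ⟨p', hp'⟩ : ∃ p' : E.H a (j + 1) →ₗ[GrLC.deg0 𝒜] E''.H a (j + 1),
        ∀ y, p' y = p (j + 1) y := ⟨(p (j + 1)).restrictScalars _, fun _ => rfl⟩
    refine length_eq_of_map p' _ _ (fun y _ hy => hpinj y (by rw [← hp']; exact hy)) ?_
    apply le_antisymm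
    · rintro _ ⟨y, hy, rfl⟩
      rw [hp']
      exact hp (j + 1) g y hy
    · intro z hz'
      obtain ⟨y, hy, hyz⟩ := hpsurj z hz'
      exact ⟨y, hy, by rw [hp', hyz]⟩

/-- The Euler characteristic identity for multiplication by a regular homogeneous element. -/
theorem euler_smul (x : R) (e : ℤ) (hx : x ∈ 𝒜 e) (hreg : IsSMulRegular M x)
    (E : GrLC.StarInjRes 𝒜 ℳ) (π : M →ₗ[R] N) (hπ : Function.Surjective π)
    (hπg : GrLC.IsGrHom ℳ 𝒩 π)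
    (hker : LinearMap.ker π = LinearMap.range (x • (LinearMap.id : M →ₗ[R] M)))
    (E'' : GrLC.StarInjRes 𝒜 𝒩) (a : HomogeneousIdeal 𝒜) (d : ℕ)
    (hfin : ∀ (i : ℕ) (g : ℤ), Module.length (GrLC.deg0 𝒜) (E.Hcomp a i g) ≠ ⊤)
    (hfin'' : ∀ (i : ℕ) (g : ℤ), Module.length (GrLC.deg0 𝒜) (E''.Hcomp a i g) ≠ ⊤)
    (h0 : ∀ g : ℤ, E.Hcomp a 0 g = ⊥) (hd : ∀ g : ℤ, E.Hcomp a (d + 1) g = ⊥) (g : ℤ) :
    ∑ i ∈ Finset.range (d + 1), (-1 : ℚ) ^ i *
        (((Module.length (GrLC.deg0 𝒜) (E.Hcomp a i (g + -e))).toNat : ℚ) -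
          (Module.length (GrLC.deg0 𝒜) (E.Hcomp a i g)).toNat +
          (Module.length (GrLC.deg0 𝒜) (E''.Hcomp a i g)).toNat) = 0 := by
  obtain ⟨p, δ, hp, hδ, e1, e2, e3, Q1, Q2, Q3⟩ :=
    exists_les_smul x e hx hreg E π hπ hπg hker E'' a
  choose X hX using fun i : ℕ =>
    (⟨(x • (LinearMap.id : E.H a i →ₗ[R] E.H a i)).restrictScalars (GrLC.deg0 𝒜), fun _ => rfl⟩ :
      ∃ X : E.H a i →ₗ[GrLC.deg0 𝒜] E.H a i, ∀ y, X y = x • y)
  choose p' hp' using fun i : ℕ =>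
    (⟨(p i).restrictScalars (GrLC.deg0 𝒜), fun _ => rfl⟩ :
      ∃ q : E.H a i →ₗ[GrLC.deg0 𝒜] E''.H a i, ∀ y, q y = p i y)
  choose δ' hδ' using fun i : ℕ =>
    (⟨(δ i).restrictScalars (GrLC.deg0 𝒜), fun _ => rfl⟩ :
      ∃ q : E''.H a i →ₗ[GrLC.deg0 𝒜] E.H a (i + 1), ∀ y, q y = δ i y)
  obtain ⟨K, hK⟩ : ∃ K : ℕ → ℚ, ∀ i, K i = ((Module.length (GrLC.deg0 𝒜)
      ↥(E.Hcomp a i (g + -e) ⊓ LinearMap.ker (X i))).toNat : ℚ) := ⟨_, fun _ => rfl⟩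
  have hstep : ∀ i : ℕ, ((Module.length (GrLC.deg0 𝒜) (E.Hcomp a i (g + -e))).toNat : ℚ) -
      (Module.length (GrLC.deg0 𝒜) (E.Hcomp a i g)).toNat +
      (Module.length (GrLC.deg0 𝒜) (E''.Hcomp a i g)).toNat = K i + K (i + 1) := by
    intro i
    rw [hK i, hK (i + 1)]
    refine les_step (X i) (p' i) (δ' i) (X (i + 1)) _ _ _ _ (hfin i _) (hfin i g) (hfin'' i g)
      ?_ ?_ ?_
    · apply le_antisymm
      · rintro _ ⟨y, hy, rfl⟩
        refine ⟨?_, ?_⟩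
        · rw [hX]
          have h := Groth.Agent.Lib.Seat86.GrLCArt.smul_mem_Hgr E a i e (g + -e) x y hx hy
          rw [add_comm e, neg_add_cancel_right] at h
          exact h
        · show p' i (X i y) = 0
          rw [hp', hX]
          exact (e1 i _).mpr ⟨y, rfl⟩
      · rintro y ⟨hy1, hy2⟩
        rw [SetLike.mem_coe, LinearMap.mem_ker, hp'] at hy2
        obtain ⟨y', hy', hyy⟩ := Q1 i g y hy1 hy2
        exact ⟨y', hy', by rw [hX]; exact hyy⟩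
    · apply le_antisymm
      · rintro _ ⟨y, hy, rfl⟩
        refine ⟨?_, ?_⟩
        · rw [hp']
          exact hp i g y hy
        · show δ' i (p' i y) = 0
          rw [hδ', hp']
          exact (e2 i _).mpr ⟨y, rfl⟩
      · rintro z ⟨hz1, hz2⟩
        rw [SetLike.mem_coe, LinearMap.mem_ker, hδ'] at hz2
        obtain ⟨y, hy, hyz⟩ := Q2 i g z hz1 hz2
        exact ⟨y, hy, by rw [hp']; exact hyz⟩
    · apply le_antisymm
      · rintro _ ⟨z, hz, rfl⟩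
        refine ⟨?_, ?_⟩
        · rw [hδ']
          exact hδ i g z hz
        · show X (i + 1) (δ' i z) = 0
          rw [hX, hδ']
          exact (e3 i _).mpr ⟨z, rfl⟩
      · rintro y ⟨hy1, hy2⟩
        rw [SetLike.mem_coe, LinearMap.mem_ker, hX] at hy2
        obtain ⟨z, hz, hzy⟩ := Q3 i g y hy1 hy2
        exact ⟨z, hz, by rw [hδ']; exact hzy⟩
  have hK0 : K 0 = 0 := by
    rw [hK 0]
    have h : E.Hcomp a 0 (g + -e) ⊓ LinearMap.ker (X 0) = ⊥ := by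
      rw [h0]
      exact bot_inf_eq _
    rw [length_of_eq_bot _ h]
    rfl
  have hKd : K (d + 1) = 0 := by
    rw [hK (d + 1)]
    have h : E.Hcomp a (d + 1) (g + -e) ⊓ LinearMap.ker (X (d + 1)) = ⊥ := by
      rw [hd]
      exact bot_inf_eq _
    rw [length_of_eq_bot _ h]
    rfl
  rw [Finset.sum_congr rfl (fun i _ => by rw [hstep i]), sum_alt_telescope K (d + 1), hK0, hKd]
  ring

end Groth.Agent.Lib.Seat86.GrSerreA
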