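import Mathlib
import Groth.Prelude.Def_GrLC
import Groth.Agent.S13215
import Groth.Agent.S13224
import Groth.Agent.Lib.Helper8CdDim
import Groth.Agent.Lib.Seat86GrSerreA

/-!
# Serre's formula `H_M(n) - P_M(n) = Σ (-1)^i ℓ(H^i_m(M)_n)` (seat 86)

`R` Noetherian positively ℤ-graded, `R_0` Artinian, `(R, m)` *local of Krull dimension `d`.
The proof is by induction on the degree of the Hilbert polynomial: pass to `M/Γ_m(M)`
(`claim_of_tf`), then divide by a homogeneous `M`-regular element of positive degree (`tf_step`),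
using the Euler characteristic of the long exact sequence of graded local cohomology.
-/

set_option autoImplicit false
set_option linter.style.haveILetI false
set_option linter.unusedSectionVars false
open DirectSum

noncomputable section

namespace Groth.Agent.Lib.Seat86.GrSerreB

open Groth.Agent.Lib.Seat86.GrCone Groth.Agent.Lib.Seat86.GrHmap
  Groth.Agent.Lib.Seat86.GrLES Groth.Agent.Lib.Seat86.GrIndep Groth.Agent.Lib.Seat86.GrFinA
  Groth.Agent.Lib.Seat86.GrFinB Groth.Agent.Lib.Seat86.GrSmul Groth.Agent.Lib.Seat86.GrLen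
  Groth.Agent.Lib.Seat86.GrSerreA
  Groth.Agent.Lib.Helper29GrQuot Groth.Agent.Lib.Helper29GrSub Groth.Agent.Lib.Helper29GrGam

universe u

variable {R : Type u} [CommRing R] [IsNoetherianRing R] {𝒜 : ℤ → AddSubgroup R} [GradedRing 𝒜]

section Basic

variable {M : Type u} [AddCommGroup M] [Module R M] {ℳ : ℤ → AddSubgroup M}
  [DirectSum.Decomposition ℳ] [SetLike.GradedSMul 𝒜 ℳ]

/-- Graded local cohomology vanishes above the Krull dimension. -/
theorem Hcomp_eq_bot_of_dim_lt (d : ℕ) (hd : ringKrullDim R = d) (E : GrLC.StarInjRes 𝒜 ℳ)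
    (a : HomogeneousIdeal 𝒜) (i : ℕ) (hi : d < i) (g : ℤ) : E.Hcomp a i g = ⊥ := by
  obtain ⟨e⟩ := Groth.Agent.S13224.result R 𝒜 a M ℳ E i
  rw [eq_bot_iff]
  intro y _
  have h0 : e y = 0 := Groth.Agent.Lib.Helper8.CdDim.Q_all i R
    (by rw [hd]; exact_mod_cast hi) a.toIdeal M (e y)
  exact (Submodule.mem_bot _).mpr (e.injective (by rw [h0, map_zero]))

/-- The graded local cohomology of the zero module vanishes. -/
theorem Hcomp_eq_bot_of_pieces_eq_bot (hM : ∀ g : ℤ, ℳ g = ⊥) (E : GrLC.StarInjRes 𝒜 ℳ)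
    (a : HomogeneousIdeal 𝒜) (i : ℕ) (g : ℤ) : E.Hcomp a i g = ⊥ := by
  classical
  have hzero : ∀ y : M, y = 0 := by
    intro y
    rw [← DirectSum.sum_support_decompose ℳ y]
    refine Finset.sum_eq_zero fun k _ => ?_
    have key : ∀ w : M, w ∈ ℳ k → w = 0 := fun w hw => by
      rw [hM k] at hw
      exact AddSubgroup.mem_bot.mp hw
    exact key _ (SetLike.coe_mem _)
  have hH : ∀ z : E.H a i, z = 0 := by
    cases i with
    | zero =>
      obtain ⟨φ, hφ⟩ := exists_surjective_gam_H0 E a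
      intro z
      obtain ⟨t, rfl⟩ := hφ z
      have ht : t = 0 := Subtype.ext (hzero _)
      rw [ht, map_zero]
    | succ j =>
      exact H_succ_eq_zero_of_torsion E a (fun y => by rw [hzero y]; exact zero_mem _) j
  rw [eq_bot_iff]
  intro y _
  exact (Submodule.mem_bot _).mpr (hH y)

end Basic

section Local

variable (hpos : ∀ n : ℤ, n < 0 → 𝒜 n = ⊥) [IsArtinianRing (GrLC.deg0 𝒜)]
  {m : HomogeneousIdeal 𝒜} (hm : GrLC.IsStarLocal 𝒜 m)

/-- The irrelevant ideal as a homogeneous ideal. -/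
def irr (𝒜 : ℤ → AddSubgroup R) [GradedRing 𝒜] : HomogeneousIdeal 𝒜 :=
  ⟨Ideal.span (⋃ n ∈ Set.Ioi (0 : ℤ), (𝒜 n : Set R)), Ideal.homogeneous_span 𝒜 _ (by
    intro w hw
    obtain ⟨n, _, hwn⟩ := Set.mem_iUnion₂.mp hw
    exact ⟨n, hwn⟩)⟩

theorem toIdeal_irr : (irr 𝒜).toIdeal = Ideal.span (⋃ n ∈ Set.Ioi (0 : ℤ), (𝒜 n : Set R)) := rfl

include hpos hm in
/-- With `R_0` Artinian and `(R, m)` *local, a prime containing `R_+` contains `m`. -/
theorem le_of_irrelevant_le (p : Ideal R) [hp : p.IsPrime]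
    (hle : Ideal.span (⋃ n ∈ Set.Ioi (0 : ℤ), (𝒜 n : Set R)) ≤ p) : m.toIdeal ≤ p := by
  classical
  obtain ⟨c, hc⟩ : ∃ c : HomogeneousIdeal 𝒜, c = p.homogeneousCore 𝒜 := ⟨_, rfl⟩
  have hcp : c.toIdeal ≤ p := by
    rw [hc]
    exact Ideal.toIdeal_homogeneousCore_le 𝒜 p
  have hmem : ∀ (k : ℤ) (w : R), w ∈ 𝒜 k → w ∈ p → w ∈ c.toIdeal := by
    intro k w hw hwp
    rw [hc]
    exact Ideal.mem_homogeneousCore_of_homogeneous_of_mem ⟨k, hw⟩ hwp
  have hirr : Ideal.span (⋃ n ∈ Set.Ioi (0 : ℤ), (𝒜 n : Set R)) ≤ c.toIdeal := by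
    rw [Ideal.span_le]
    intro w hw
    obtain ⟨n, hn, hwn⟩ := Set.mem_iUnion₂.mp hw
    exact hmem n w hwn (hle (Ideal.subset_span hw))
  have hmax : c.toIdeal.IsMaximal := by
    rw [Ideal.isMaximal_iff]
    refine ⟨fun h1 => hp.ne_top ((Ideal.eq_top_iff_one p).mpr (hcp h1)), ?_⟩
    intro J x hcJ hxc hxJ
    have hsub : x - ((decompose 𝒜 x) 0 : R) ∈ c.toIdeal :=
      hirr (sub_decompose_zero_mem hpos (toIdeal_irr (𝒜 := 𝒜)) x)
    have hx0c : ((decompose 𝒜 x) 0 : R) ∉ c.toIdeal := by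
      intro h
      apply hxc
      have := add_mem hsub h
      rwa [sub_add_cancel] at this
    have hx0J : ((decompose 𝒜 x) 0 : R) ∈ J := by
      have := sub_mem hxJ (hcJ hsub)
      rwa [sub_sub_cancel] at this
    have hx0p : ((decompose 𝒜 x) 0 : R) ∉ p := fun h => hx0c (hmem 0 _ (SetLike.coe_mem _) h)
    obtain ⟨p₀, hp₀⟩ : ∃ p₀ : Ideal (GrLC.deg0 𝒜),
        p₀ = Ideal.comap (GrLC.deg0 𝒜).subtype p := ⟨_, rfl⟩
    haveI : p₀.IsPrime := by
      rw [hp₀]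
      exact Ideal.comap_isPrime _ _
    have hp₀max : p₀.IsMaximal := IsArtinianRing.isMaximal_of_isPrime p₀
    have hw₀ : (⟨((decompose 𝒜 x) 0 : R), SetLike.coe_mem _⟩ : GrLC.deg0 𝒜) ∉ p₀ := by
      rw [hp₀, Ideal.mem_comap]
      exact hx0p
    obtain ⟨y₀, i₀, hi₀, hyi⟩ := hp₀max.exists_inv hw₀
    have hi₀p : (i₀ : R) ∈ p := by
      rw [hp₀, Ideal.mem_comap] at hi₀
      exact hi₀
    have hi₀c : (i₀ : R) ∈ c.toIdeal := hmem 0 _ i₀.2 hi₀p
    have h1 : (1 : R) = (y₀ : R) * ((decompose 𝒜 x) 0 : R) + (i₀ : R) := by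
      have := congrArg (fun z : GrLC.deg0 𝒜 => (z : R)) hyi
      exact this.symm
    rw [h1]
    exact J.add_mem (J.mul_mem_left _ hx0J) (hcJ hi₀c)
  have hcoatom : IsCoatom c := by
    refine ⟨?_, ?_⟩
    · intro h
      apply hmax.ne_top
      rw [h, HomogeneousIdeal.toIdeal_top]
    · intro b hb
      by_contra hbt
      have hbt' : b.toIdeal ≠ ⊤ := fun h =>
        hbt (HomogeneousIdeal.toIdeal_injective (by rw [h, HomogeneousIdeal.toIdeal_top]))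
      have hle' : c.toIdeal ≤ b.toIdeal := hb.le
      have := hmax.eq_of_le hbt' hle'
      exact hb.ne (HomogeneousIdeal.toIdeal_injective this)
  rw [← hm.2 c hcoatom]
  exact hcp

include hpos hm in
/-- A finite graded module without `m`-torsion has a homogeneous non-zero-divisor of positive
degree. -/
theorem exists_regular_of_gam_eq_bot (M : Type u) [AddCommGroup M] [Module R M]
    [Module.Finite R M] (hgam : GrLC.gam m.toIdeal M = ⊥) :
    ∃ (x : R) (e : ℕ), 0 < e ∧ x ∈ 𝒜 (e : ℤ) ∧ IsSMulRegular M x := by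
  classical
  have hfin := associatedPrimes.finite R M
  obtain ⟨x, d, hd, hxd, hxa, hx⟩ := exists_homogeneous_avoid hpos (toIdeal_irr (𝒜 := 𝒜))
    hfin.toFinset (fun p hp => by
      rw [Set.Finite.mem_toFinset] at hp
      obtain ⟨hprime, y, hy⟩ := (isAssociatedPrime_iff (R := R)).mp hp
      refine ⟨hprime, fun hle => ?_⟩
      haveI := hprime
      have hmp : m.toIdeal ≤ p := le_of_irrelevant_le hpos hm p hle
      have hy0 : y = 0 := by
        have h1 : y ∈ GrLC.gam m.toIdeal M := ⟨1, fun r hr => by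
          rw [pow_one] at hr
          have h2 : r ∈ (⊥ : Submodule R M).colon {y} := hy ▸ hmp hr
          rw [Submodule.mem_colon_singleton, Submodule.mem_bot] at h2
          exact h2⟩
        rw [hgam] at h1
        exact (Submodule.mem_bot R).mp h1
      apply hprime.ne_top
      rw [hy, hy0, eq_top_iff]
      intro r _
      rw [Submodule.mem_colon_singleton, smul_zero]
      exact zero_mem _)
  refine ⟨x, d, hd, hxd, ?_⟩
  have h := biUnion_associatedPrimes_eq_compl_regular R M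
  by_contra hreg
  have h1 : x ∈ ({r : R | IsSMulRegular M r}ᶜ : Set R) := hreg
  rw [← h] at h1
  obtain ⟨p, hp, hxp⟩ := Set.mem_iUnion₂.mp h1
  exact hx p (hfin.mem_toFinset.mpr hp) hxp

variable {M : Type u} [AddCommGroup M] [Module R M] [Module.Finite R M] {ℳ : ℤ → AddSubgroup M}
  [DirectSum.Decomposition ℳ] [SetLike.GradedSMul 𝒜 ℳ]

include hpos hm in
theorem length_Hcomp_ne_top (E : GrLC.StarInjRes 𝒜 ℳ) (i : ℕ) (n : ℤ) :
    Module.length (GrLC.deg0 𝒜) (E.Hcomp m i n) ≠ ⊤ := by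
  have hA := Groth.Agent.Lib.Seat86.GrLCArt.isArtinian_Hcomp E i hpos hm n
  rw [Module.length_ne_top_iff]
  exact ((IsArtinianRing.tfae (GrLC.deg0 𝒜) (E.Hcomp m i n)).out 2 3).mp hA

include hpos hm in
theorem exists_Hcomp_eq_bot_uniform (E : GrLC.StarInjRes 𝒜 ℳ) (d : ℕ) :
    ∃ N : ℤ, ∀ i : ℕ, i ≤ d → ∀ n : ℤ, N ≤ n → E.Hcomp m i n = ⊥ := by
  induction d with
  | zero =>
    obtain ⟨N, hN⟩ := Groth.Agent.Lib.Seat86.GrLCArt.exists_Hcomp_eq_bot E 0 hpos hm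
    exact ⟨N, fun i hi n hn => by rw [Nat.le_zero.mp hi]; exact hN n hn⟩
  | succ d ih =>
    obtain ⟨N, hN⟩ := ih
    obtain ⟨N', hN'⟩ := Groth.Agent.Lib.Seat86.GrLCArt.exists_Hcomp_eq_bot E (d + 1) hpos hm
    refine ⟨max N N', fun i hi n hn => ?_⟩
    rcases Nat.lt_or_ge i (d + 1) with h | h
    · exact hN i (by omega) n (le_trans (le_max_left _ _) hn)
    · have hi' : i = d + 1 := by omega
      rw [hi']
      exact hN' n (le_trans (le_max_right _ _) hn)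

end Local

/-! ## The Hilbert function, the Euler characteristic and the induction -/

section Defs

variable {M : Type u} [AddCommGroup M] [Module R M]

/-- The Hilbert function `n ↦ ℓ_{R_0}(M_n)`. -/
def hilb (𝒜 : ℤ → AddSubgroup R) [GradedRing 𝒜] (ℳ : ℤ → AddSubgroup M)
    [SetLike.GradedSMul 𝒜 ℳ] (n : ℤ) : ℚ :=
  ((Module.length (GrLC.deg0 𝒜) (GrLC.comp 𝒜 ℳ n)).toNat : ℚ)

variable {ℳ : ℤ → AddSubgroup M} [DirectSum.Decomposition ℳ] [SetLike.GradedSMul 𝒜 ℳ]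

/-- `ℓ_{R_0}(H^i_m(M)_n)`. -/
def lc (E : GrLC.StarInjRes 𝒜 ℳ) (m : HomogeneousIdeal 𝒜) (i : ℕ) (n : ℤ) : ℚ :=
  ((Module.length (GrLC.deg0 𝒜) (E.Hcomp m i n)).toNat : ℚ)

/-- `Σ_{i ≤ d} (-1)^i ℓ_{R_0}(H^i_m(M)_n)`. -/
def chi (E : GrLC.StarInjRes 𝒜 ℳ) (m : HomogeneousIdeal 𝒜) (d : ℕ) (n : ℤ) : ℚ :=
  ∑ i ∈ Finset.range (d + 1), (-1 : ℚ) ^ i * lc E m i n

theorem hilb_nonneg (n : ℤ) : 0 ≤ hilb 𝒜 ℳ n := by
  unfold hilb
  exact Nat.cast_nonneg _

end Defs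

/-- Serre's formula for all finite graded modules whose Hilbert polynomial has degree `< k`. -/
def Claim (m : HomogeneousIdeal 𝒜) (d k : ℕ) : Prop :=
  ∀ (M : Type u) [AddCommGroup M] [Module R M] [Module.Finite R M] (ℳ : ℤ → AddSubgroup M)
    [DirectSum.Decomposition ℳ] [SetLike.GradedSMul 𝒜 ℳ] (E : GrLC.StarInjRes 𝒜 ℳ)
    (P : Polynomial ℚ),
    (∃ N : ℤ, ∀ n : ℤ, N ≤ n → P.eval (n : ℚ) = hilb 𝒜 ℳ n) →
    P.degree < ((k : ℕ) : WithBot ℕ) →
    ∀ n : ℤ, hilb 𝒜 ℳ n - P.eval (n : ℚ) = chi E m d n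

/-- The same for modules without `m`-torsion. -/
def ClaimTF (m : HomogeneousIdeal 𝒜) (d k : ℕ) : Prop :=
  ∀ (M : Type u) [AddCommGroup M] [Module R M] [Module.Finite R M] (ℳ : ℤ → AddSubgroup M)
    [DirectSum.Decomposition ℳ] [SetLike.GradedSMul 𝒜 ℳ],
    GrLC.gam m.toIdeal M = ⊥ → ∀ (E : GrLC.StarInjRes 𝒜 ℳ) (P : Polynomial ℚ),
    (∃ N : ℤ, ∀ n : ℤ, N ≤ n → P.eval (n : ℚ) = hilb 𝒜 ℳ n) →
    P.degree < ((k : ℕ) : WithBot ℕ) →
    ∀ n : ℤ, hilb 𝒜 ℳ n - P.eval (n : ℚ) = chi E m d n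

section Induction

variable (hpos : ∀ n : ℤ, n < 0 → 𝒜 n = ⊥) [IsArtinianRing (GrLC.deg0 𝒜)]
  {m : HomogeneousIdeal 𝒜} (hm : GrLC.IsStarLocal 𝒜 m)

variable {M : Type u} [AddCommGroup M] [Module R M] [Module.Finite R M] {ℳ : ℤ → AddSubgroup M}
  [DirectSum.Decomposition ℳ] [SetLike.GradedSMul 𝒜 ℳ]
variable {N : Type u} [AddCommGroup N] [Module R N] {𝒩 : ℤ → AddSubgroup N}
  [DirectSum.Decomposition 𝒩] [SetLike.GradedSMul 𝒜 𝒩]

theorem hilb_smul (x : R) (e : ℤ) (hx : x ∈ 𝒜 e) (hreg : IsSMulRegular M x)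
    (π : M →ₗ[R] N) (hπ : Function.Surjective π) (hπg : GrLC.IsGrHom ℳ 𝒩 π)
    (hker : LinearMap.ker π = LinearMap.range (x • (LinearMap.id : M →ₗ[R] M))) (n : ℤ) :
    hilb 𝒜 ℳ n = hilb 𝒜 ℳ (n + -e) + hilb 𝒜 𝒩 n := by
  haveI : Module.Finite R N := Module.Finite.of_surjective π hπ
  unfold hilb
  rw [length_comp_smul x e hx hreg π hπ hπg hker n,
    ENat.toNat_add (length_comp_ne_top 𝒜 ℳ _) (length_comp_ne_top 𝒜 𝒩 _)]
  push_cast
  rfl

include hpos hm in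
theorem tf_zero (d : ℕ) : ClaimTF m d 0 := by
  intro M _ _ _ ℳ _ _ hgam E P hP hdeg
  classical
  have hP0 : P = 0 := by
    rw [Nat.cast_zero] at hdeg
    exact Polynomial.degree_eq_bot.mp (Nat.WithBot.lt_zero_iff.mp hdeg)
  obtain ⟨x, e, he, hxe, hreg⟩ := exists_regular_of_gam_eq_bot hpos hm M hgam
  obtain ⟨Q, hQ⟩ : ∃ Q : Submodule R M,
    Q = LinearMap.range (x • (LinearMap.id : M →ₗ[R] M)) := ⟨_, rfl⟩
  have hQhom : Q.IsHomogeneous ℳ := by
    rw [hQ]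
    rintro g _ ⟨y, rfl⟩
    refine ⟨((decompose ℳ y) (g - e) : M), ?_⟩
    simp only [LinearMap.smul_apply, LinearMap.id_apply]
    exact (Groth.Agent.Lib.Helper29GrEss.decompose_smul_of_mem 𝒜 ℳ hxe y g).symm
  letI : DirectSum.Decomposition (quotGr ℳ Q) := quotDecomposition ℳ Q hQhom
  letI : SetLike.GradedSMul 𝒜 (quotGr ℳ Q) := quot_gradedSMul ℳ Q 𝒜
  have hπg : GrLC.IsGrHom ℳ (quotGr ℳ Q) Q.mkQ := fun g y hy => ⟨y, hy, rfl⟩
  have hker : LinearMap.ker Q.mkQ = LinearMap.range (x • (LinearMap.id : M →ₗ[R] M)) := by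
    rw [Submodule.ker_mkQ, hQ]
  have hadd : ∀ n : ℤ, hilb 𝒜 ℳ n = hilb 𝒜 ℳ (n + -(e : ℤ)) + hilb 𝒜 (quotGr ℳ Q) n :=
    fun n => hilb_smul x e hxe hreg Q.mkQ Q.mkQ_surjective hπg hker n
  obtain ⟨N₁, hN₁⟩ := hP
  have hzero : ∀ n : ℤ, hilb 𝒜 ℳ n = 0 := by
    refine eq_zero_of_le_shift (hilb 𝒜 ℳ) (e : ℤ) (by exact_mod_cast he) hilb_nonneg ?_ N₁ ?_
    · intro n
      have h1 := hadd n
      have h2 : 0 ≤ hilb 𝒜 (quotGr ℳ Q) n := hilb_nonneg n
      linarith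
    · intro n hn
      rw [← hN₁ n hn, hP0, Polynomial.eval_zero]
  have hpieces : ∀ g : ℤ, ℳ g = ⊥ := by
    intro g
    have h1 := hzero g
    unfold hilb at h1
    have h2 : (Module.length (GrLC.deg0 𝒜) (GrLC.comp 𝒜 ℳ g)).toNat = 0 := by exact_mod_cast h1
    have h3 : Module.length (GrLC.deg0 𝒜) (GrLC.comp 𝒜 ℳ g) = 0 := by
      rcases (ENat.toNat_eq_zero).mp h2 with h | h
      · exact h
      · exact absurd h (length_comp_ne_top 𝒜 ℳ g)
    have h4 : Subsingleton (GrLC.comp 𝒜 ℳ g) := Module.length_eq_zero_iff.mp h3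
    rw [eq_bot_iff]
    intro y hy
    have h5 : (⟨y, hy⟩ : GrLC.comp 𝒜 ℳ g) = 0 := Subsingleton.elim _ _
    exact AddSubgroup.mem_bot.mpr (congrArg Subtype.val h5)
  intro n
  have hchi : chi E m d n = 0 := by
    unfold chi
    refine Finset.sum_eq_zero fun i _ => ?_
    unfold lc
    rw [length_of_eq_bot _ (Hcomp_eq_bot_of_pieces_eq_bot hpieces E m i n)]
    simp
  rw [hchi, hzero n, hP0, Polynomial.eval_zero, sub_zero]

include hpos hm in
theorem tf_step (d : ℕ) (hd : ringKrullDim R = d) (k : ℕ) (IH : Claim m d k) :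
    ClaimTF m d (k + 1) := by
  intro M _ _ _ ℳ _ _ hgam E P hP hdeg
  classical
  obtain ⟨x, e, he, hxe, hreg⟩ := exists_regular_of_gam_eq_bot hpos hm M hgam
  obtain ⟨Q, hQ⟩ : ∃ Q : Submodule R M,
    Q = LinearMap.range (x • (LinearMap.id : M →ₗ[R] M)) := ⟨_, rfl⟩
  have hQhom : Q.IsHomogeneous ℳ := by
    rw [hQ]
    rintro g _ ⟨y, rfl⟩
    refine ⟨((decompose ℳ y) (g - e) : M), ?_⟩
    simp only [LinearMap.smul_apply, LinearMap.id_apply]
    exact (Groth.Agent.Lib.Helper29GrEss.decompose_smul_of_mem 𝒜 ℳ hxe y g).symm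
  letI : DirectSum.Decomposition (quotGr ℳ Q) := quotDecomposition ℳ Q hQhom
  letI : SetLike.GradedSMul 𝒜 (quotGr ℳ Q) := quot_gradedSMul ℳ Q 𝒜
  obtain ⟨E''⟩ := Groth.Agent.S13215.result R 𝒜 (M ⧸ Q) (quotGr ℳ Q)
  have hπg : GrLC.IsGrHom ℳ (quotGr ℳ Q) Q.mkQ := fun g y hy => ⟨y, hy, rfl⟩
  have hker : LinearMap.ker Q.mkQ = LinearMap.range (x • (LinearMap.id : M →ₗ[R] M)) := by
    rw [Submodule.ker_mkQ, hQ]
  have hadd : ∀ n : ℤ, hilb 𝒜 ℳ n = hilb 𝒜 ℳ (n + -(e : ℤ)) + hilb 𝒜 (quotGr ℳ Q) n :=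
    fun n => hilb_smul x e hxe hreg Q.mkQ Q.mkQ_surjective hπg hker n
  have heul : ∀ n : ℤ, chi E m d (n + -(e : ℤ)) - chi E m d n + chi E'' m d n = 0 := by
    intro n
    have h := euler_smul x e hxe hreg E Q.mkQ Q.mkQ_surjective hπg hker E'' m d
      (length_Hcomp_ne_top hpos hm E) (length_Hcomp_ne_top hpos hm E'')
      (Hcomp_zero_eq_bot_of_gam_eq_bot E m hgam)
      (Hcomp_eq_bot_of_dim_lt d hd E m (d + 1) (Nat.lt_succ_self d)) n
    unfold chi lc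
    rw [← h, ← Finset.sum_sub_distrib, ← Finset.sum_add_distrib]
    refine Finset.sum_congr rfl fun i _ => ?_
    ring
  obtain ⟨N₁, hN₁⟩ := hP
  have hcast : ∀ n : ℤ, (((n + -(e : ℤ) : ℤ)) : ℚ) = (n : ℚ) - (e : ℚ) := by
    intro n
    push_cast
    ring
  have hPN : ∃ N : ℤ, ∀ n : ℤ, N ≤ n →
      (P - P.comp (Polynomial.X - Polynomial.C (e : ℚ))).eval (n : ℚ) =
        hilb 𝒜 (quotGr ℳ Q) n := by
    refine ⟨N₁ + e, fun n hn => ?_⟩
    rw [eval_sub_comp, hN₁ n (by omega)]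
    have h2 := hN₁ (n + -(e : ℤ)) (by omega)
    rw [hcast] at h2
    rw [h2, hadd n]
    ring
  have hIH := IH (M ⧸ Q) (quotGr ℳ Q) E'' _ hPN (degree_sub_comp_lt P (e : ℚ) k hdeg)
  obtain ⟨N₂, hN₂⟩ := exists_Hcomp_eq_bot_uniform hpos hm E d
  have hchi0 : ∀ n : ℤ, N₂ ≤ n → chi E m d n = 0 := by
    intro n hn
    unfold chi
    refine Finset.sum_eq_zero fun i hi => ?_
    unfold lc
    rw [length_of_eq_bot _ (hN₂ i (Nat.lt_succ_iff.mp (Finset.mem_range.mp hi)) n hn)]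
    simp
  intro n
  have key := eq_zero_of_periodic (fun n => hilb 𝒜 ℳ n - P.eval (n : ℚ) - chi E m d n) (e : ℤ)
    (by exact_mod_cast he) ?_ (max N₁ N₂) ?_ n
  · have key' : hilb 𝒜 ℳ n - P.eval (n : ℚ) - chi E m d n = 0 := key
    linarith
  · intro n
    show hilb 𝒜 ℳ n - P.eval (n : ℚ) - chi E m d n =
      hilb 𝒜 ℳ (n + -(e : ℤ)) - P.eval (((n + -(e : ℤ) : ℤ)) : ℚ) - chi E m d (n + -(e : ℤ))
    have h1 := hadd n
    have h2 := heul n
    have h3 := hIH n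
    rw [eval_sub_comp] at h3
    rw [hcast]
    linarith
  · intro n hn
    show hilb 𝒜 ℳ n - P.eval (n : ℚ) - chi E m d n = 0
    rw [hN₁ n (le_trans (le_max_left _ _) hn), hchi0 n (le_trans (le_max_right _ _) hn)]
    ring

include hpos hm in
theorem claim_of_tf (d k : ℕ) (hTF : ClaimTF m d k) : Claim m d k := by
  intro M _ _ _ ℳ _ _ E P hP hdeg
  classical
  obtain ⟨T, hT⟩ : ∃ T : Submodule R M, T = GrLC.gam m.toIdeal M := ⟨_, rfl⟩
  have hThom : T.IsHomogeneous ℳ := by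
    rw [hT]
    exact gam_isHomogeneous 𝒜 ℳ m
  letI : DirectSum.Decomposition (quotGr ℳ T) := quotDecomposition ℳ T hThom
  letI : SetLike.GradedSMul 𝒜 (quotGr ℳ T) := quot_gradedSMul ℳ T 𝒜
  obtain ⟨E''⟩ := Groth.Agent.S13215.result R 𝒜 (M ⧸ T) (quotGr ℳ T)
  have hπg : GrLC.IsGrHom ℳ (quotGr ℳ T) T.mkQ := fun g y hy => ⟨y, hy, rfl⟩
  have hgam'' : GrLC.gam m.toIdeal (M ⧸ T) = ⊥ := by
    rw [hT]
    exact gam_quot_gam m.toIdeal M
  obtain ⟨hlen, hH⟩ := torsion_step m T.mkQ T.mkQ_surjective hπg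
    (by rw [Submodule.ker_mkQ, hT]) E E''
  have h0'' : ∀ n : ℤ, lc E'' m 0 n = 0 := by
    intro n
    unfold lc
    rw [length_of_eq_bot _ (Hcomp_zero_eq_bot_of_gam_eq_bot E'' m hgam'' n)]
    simp
  have hhilb : ∀ n : ℤ, hilb 𝒜 ℳ n = lc E m 0 n + hilb 𝒜 (quotGr ℳ T) n := by
    intro n
    unfold hilb lc
    rw [hlen n, ENat.toNat_add (length_Hcomp_ne_top hpos hm E 0 n)
      (length_comp_ne_top 𝒜 (quotGr ℳ T) n)]
    push_cast
    rfl
  have hchi : ∀ n : ℤ, chi E m d n = lc E m 0 n + chi E'' m d n := by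
    intro n
    have hA : ∑ i ∈ Finset.range (d + 1), (-1 : ℚ) ^ i * lc E m i n =
        ∑ i ∈ Finset.range d, (-1 : ℚ) ^ (i + 1) * lc E m (i + 1) n + (-1 : ℚ) ^ 0 * lc E m 0 n :=
      Finset.sum_range_succ' _ d
    have hB : ∑ i ∈ Finset.range (d + 1), (-1 : ℚ) ^ i * lc E'' m i n =
        ∑ i ∈ Finset.range d, (-1 : ℚ) ^ (i + 1) * lc E'' m (i + 1) n +
          (-1 : ℚ) ^ 0 * lc E'' m 0 n :=
      Finset.sum_range_succ' _ d
    have hC : ∀ i : ℕ, lc E m (i + 1) n = lc E'' m (i + 1) n := by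
      intro i
      unfold lc
      rw [hH i n]
    unfold chi
    rw [hA, hB, h0'' n]
    simp only [hC]
    ring
  obtain ⟨N₁, hN₁⟩ := hP
  obtain ⟨N₂, hN₂⟩ := Groth.Agent.Lib.Seat86.GrLCArt.exists_Hcomp_eq_bot E 0 hpos hm
  have hP'' : ∃ N : ℤ, ∀ n : ℤ, N ≤ n → P.eval (n : ℚ) = hilb 𝒜 (quotGr ℳ T) n := by
    refine ⟨max N₁ N₂, fun n hn => ?_⟩
    have h0 : lc E m 0 n = 0 := by
      unfold lc
      rw [length_of_eq_bot _ (hN₂ n (le_trans (le_max_right _ _) hn))]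
      simp
    rw [hN₁ n (le_trans (le_max_left _ _) hn), hhilb n, h0, zero_add]
  have hmain := hTF (M ⧸ T) (quotGr ℳ T) hgam'' E'' P hP'' hdeg
  intro n
  rw [hhilb n, hchi n]
  linarith [hmain n]

include hpos hm in
/-- **Serre's formula**, by induction on the degree of the Hilbert polynomial. -/
theorem claim (d : ℕ) (hd : ringKrullDim R = d) (k : ℕ) : Claim m d k := by
  induction k with
  | zero => exact claim_of_tf hpos hm d 0 (tf_zero hpos hm d)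
  | succ k ih => exact claim_of_tf hpos hm d (k + 1) (tf_step hpos hm d hd k ih)

end Induction

end Groth.Agent.Lib.Seat86.GrSerreB
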