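import Mathlib
import Groth.Agent.Lib.Seat86GrSerreB
import Groth.Agent.Lib.Seat67Deg0Local

/-!
# Seat67: linear non-zero-divisors over an infinite residue field

`R` a Noetherian positively `ℤ`-graded ring, standard graded (`R_+` generated by `R_1`), `R_0`
Artinian, `(R, m)` *local with infinite residue field `R/m`.

* `gam_eq_bot_of_subsingleton_H_zero`: `H^0_a(M) = 0` ⇒ `Γ_a(M) = 0`;
* `exists_linear_regular`: a finite `R`-module without `m`-torsion has a non-zero-divisor in `R_1`.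
-/

set_option autoImplicit false
set_option linter.unusedSectionVars false
set_option linter.style.haveILetI false

universe u

open DirectSum

namespace Groth.Agent.Lib.Seat67.LinReg

open Groth.Agent.Lib.Seat86.GrSerreB

section Gam

variable {R : Type u} [CommRing R] {𝒜 : ℤ → AddSubgroup R} [GradedRing 𝒜]
  {M : Type u} [AddCommGroup M] [Module R M] {ℳ : ℤ → AddSubgroup M}
  [DirectSum.Decomposition ℳ] [SetLike.GradedSMul 𝒜 ℳ]

/-- if `H^0_a(M)` vanishes then `M` has no `a`-torsion. -/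
theorem gam_eq_bot_of_subsingleton_H_zero (E : GrLC.StarInjRes 𝒜 ℳ) (a : HomogeneousIdeal 𝒜)
    (h : Subsingleton (E.H a 0)) : GrLC.gam a.toIdeal M = ⊥ := by
  rw [eq_bot_iff]
  rintro y ⟨k, hk⟩
  rw [Submodule.mem_bot]
  have h1 : E.ε y ∈ GrLC.gam a.toIdeal (E.X 0).carrier :=
    ⟨k, fun r hr => by rw [← map_smul, hk r hr, map_zero]⟩
  have h2 : E.ε y ∈ LinearMap.ker (E.d 0) := by
    rw [E.exact_zero]
    exact ⟨y, rfl⟩
  let z : ↥(E.cocyc a 0) := ⟨E.ε y, ⟨h1, h2⟩⟩
  have h3 : E.toH a 0 z = 0 := Subsingleton.elim _ _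
  have h4 : z ∈ (E.cobdy a 0).comap (E.cocyc a 0).subtype := by
    have := (Submodule.Quotient.mk_eq_zero _).1 h3
    exact this
  have h5 : E.ε y = 0 := by
    have h6 : (z : (E.X 0).carrier) ∈ E.cobdy a 0 := h4
    exact (Submodule.mem_bot R).1 h6
  exact E.ε_injective (by rw [h5, map_zero])

end Gam

section Lin

variable {R : Type u} [CommRing R] [IsNoetherianRing R] {𝒜 : ℤ → AddSubgroup R} [GradedRing 𝒜]
  (hpos : ∀ n : ℤ, n < 0 → 𝒜 n = ⊥)
  (hstd : Ideal.span (⋃ n ∈ Set.Ioi (0 : ℤ), (𝒜 n : Set R)) =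
    Ideal.span ((𝒜 1 : AddSubgroup R) : Set R))
  [IsArtinianRing (GrLC.deg0 𝒜)] {m : HomogeneousIdeal 𝒜} (hm : GrLC.IsStarLocal 𝒜 m)

include hpos hstd hm in
/-- an associated prime of a module without `m`-torsion does not contain `R_1`. -/
theorem exists_notMem_of_mem_associatedPrimes (M : Type u) [AddCommGroup M] [Module R M]
    (hgam : GrLC.gam m.toIdeal M = ⊥) (p : Ideal R) (hp : p ∈ associatedPrimes R M) :
    ∃ v ∈ 𝒜 1, v ∉ p := by
  by_contra hcon
  push Not at hcon
  obtain ⟨hprime, y, hy⟩ := (isAssociatedPrime_iff (R := R)).mp hp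
  haveI := hprime
  have hle : Ideal.span (⋃ n ∈ Set.Ioi (0 : ℤ), (𝒜 n : Set R)) ≤ p := by
    rw [hstd, Ideal.span_le]
    exact fun v hv => hcon v hv
  have hmp : m.toIdeal ≤ p := le_of_irrelevant_le hpos hm p hle
  have hy0 : y = 0 := by
    have h1 : y ∈ GrLC.gam m.toIdeal M := ⟨1, fun r hr => by
      rw [pow_one] at hr
      have h2 : r ∈ (⊥ : Submodule R M).colon {y} := hy ▸ hmp hr
      rw [Submodule.mem_colon_singleton, Submodule.mem_bot] at h2
      exact h2⟩
    rw [hgam] at h1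
    exact (Submodule.mem_bot R).mp h1
  apply hprime.ne_top
  rw [hy, hy0, eq_top_iff]
  intro r _
  rw [Submodule.mem_colon_singleton, smul_zero]
  exact zero_mem _

include hpos hm in
/-- if the trace of a prime on `R_1` has finite index in `R_1` (and is proper), then the residue
field `R/m` is finite. -/
theorem finite_quotient_of_finiteIndex (p : Ideal R) [hp : p.IsPrime] (v : R) (hv1 : v ∈ 𝒜 1)
    (hvp : v ∉ p)
    (hfi : ((p.toAddSubgroup).comap (𝒜 1).subtype).FiniteIndex) : Finite (R ⧸ m.toIdeal) := by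
  classical
  haveI : Finite (↥(𝒜 1) ⧸ (p.toAddSubgroup).comap (𝒜 1).subtype) :=
    AddSubgroup.finite_quotient_of_finiteIndex
  let g : R → (↥(𝒜 1) ⧸ (p.toAddSubgroup).comap (𝒜 1).subtype) := fun r =>
    QuotientAddGroup.mk ⟨((decompose 𝒜 r 0 : 𝒜 0) : R) * v, by
      have := SetLike.mul_mem_graded (decompose 𝒜 r 0).2 hv1
      rwa [zero_add] at this⟩
  have hg : ∀ r r' : R, g r = g r' → r - r' ∈ m.toIdeal := by
    intro r r' h
    have h1 := QuotientAddGroup.eq.1 h
    have h2 : (-(((decompose 𝒜 r 0 : 𝒜 0) : R) * v) + ((decompose 𝒜 r' 0 : 𝒜 0) : R) * v) ∈ p := h1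
    have h3 : (((decompose 𝒜 r' 0 : 𝒜 0) : R) - ((decompose 𝒜 r 0 : 𝒜 0) : R)) * v ∈ p := by
      have e : (((decompose 𝒜 r' 0 : 𝒜 0) : R) - ((decompose 𝒜 r 0 : 𝒜 0) : R)) * v =
          -(((decompose 𝒜 r 0 : 𝒜 0) : R) * v) + ((decompose 𝒜 r' 0 : 𝒜 0) : R) * v := by ring
      rw [e]
      exact h2
    have h4 : ((decompose 𝒜 r' 0 : 𝒜 0) : R) - ((decompose 𝒜 r 0 : 𝒜 0) : R) ∈ p :=
      (hp.mem_or_mem h3).resolve_right hvp
    -- the degree zero component of `r' - r`
    set c : GrLC.deg0 𝒜 := ⟨((decompose 𝒜 (r' - r) 0 : 𝒜 0) : R), SetLike.coe_mem _⟩ with hc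
    have hcval : (c : R) = ((decompose 𝒜 r' 0 : 𝒜 0) : R) - ((decompose 𝒜 r 0 : 𝒜 0) : R) := by
      show ((decompose 𝒜 (r' - r) 0 : 𝒜 0) : R) = _
      rw [decompose_sub, DirectSum.sub_apply, AddSubgroupClass.coe_sub]
    have hcm : (c : R) ∈ m.toIdeal := by
      by_contra hnot
      have hunit : IsUnit c := by
        by_contra hnu
        exact hnot (Groth.Agent.Lib.Seat67.Deg0Local.mem_of_not_isUnit 𝒜 hm c hnu)
      obtain ⟨b, hb⟩ := hunit.exists_right_inv
      apply hp.ne_top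
      rw [Ideal.eq_top_iff_one]
      have h5 : (c : R) * (b : R) = 1 := congrArg Subtype.val hb
      rw [← h5, hcval]
      exact Ideal.mul_mem_right _ _ h4
    have h6 := Groth.Agent.Lib.Seat86.StarLocal.sub_proj_zero_mem hm.1 hpos (r' - r)
    have h7 : r' - r ∈ m.toIdeal := by
      have := add_mem h6 hcm
      rwa [sub_add_cancel] at this
    have := m.toIdeal.neg_mem h7
    rwa [neg_sub] at this
  let φ : (R ⧸ m.toIdeal) → (↥(𝒜 1) ⧸ (p.toAddSubgroup).comap (𝒜 1).subtype) :=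
    fun q => g (Quotient.out q)
  have hφ : Function.Injective φ := by
    intro q q' h
    have h1 := hg _ _ h
    rw [← Ideal.Quotient.mk_out q, ← Ideal.Quotient.mk_out q']
    exact (Ideal.Quotient.eq).2 h1
  exact Finite.of_injective φ hφ

include hpos hstd hm in
/-- **Linear non-zero-divisors.** -/
theorem exists_linear_regular (hinf : Infinite (R ⧸ m.toIdeal)) (M : Type u) [AddCommGroup M]
    [Module R M] [Module.Finite R M] (hgam : GrLC.gam m.toIdeal M = ⊥) :
    ∃ x : R, x ∈ 𝒜 1 ∧ IsSMulRegular M x := by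
  classical
  by_contra hcon
  push Not at hcon
  have hfin := associatedPrimes.finite R M
  have hunion := biUnion_associatedPrimes_eq_compl_regular R M
  -- the traces of the associated primes cover `R_1`
  have hcover : ⋃ p ∈ hfin.toFinset,
      ((((p : Ideal R).toAddSubgroup).comap (𝒜 1).subtype).toIntSubmodule : Set ↥(𝒜 1)) =
      Set.univ := by
    rw [Set.eq_univ_iff_forall]
    intro x
    have h1 : (x : R) ∈ ({r : R | IsSMulRegular M r}ᶜ : Set R) := hcon x x.2
    rw [← hunion] at h1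
    obtain ⟨p, hp, hxp⟩ := Set.mem_iUnion₂.mp h1
    exact Set.mem_iUnion₂.mpr ⟨p, hfin.mem_toFinset.mpr hp, hxp⟩
  obtain ⟨p, hp, hfi⟩ := Submodule.exists_finiteIndex_of_cover hcover
  rw [Set.Finite.mem_toFinset] at hp
  obtain ⟨v, hv1, hvp⟩ := exists_notMem_of_mem_associatedPrimes hpos hstd hm M hgam p hp
  haveI : p.IsPrime := hp.isPrime
  have hfi' : ((p.toAddSubgroup).comap (𝒜 1).subtype).FiniteIndex := by
    simpa using hfi
  haveI := finite_quotient_of_finiteIndex hpos hm p v hv1 hvp hfi'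
  exact not_finite (R ⧸ m.toIdeal)

end Lin

end Groth.Agent.Lib.Seat67.LinReg
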