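import Groth.Agent.Lib.Seat97GrRegQuot
import Groth.Agent.S13215
import Groth.Agent.Lib.Helper29GrQuot

/-!
# Graded local cohomology modulo a homogeneous regular sequence (seat 97)

* `exists_Hiso`, `subsingleton_H_of`, `Hgr_ne_bot_of`, `endDeg_Hgr_eq` : independence of the
  *injective resolution;
* `pullRes` : a *injective resolution of `N`, pulled back along a homogeneous bijection `M → N`;
* `regSeq_main` : if `H^i_a(R) = 0` for `i < n` and `f_1, …, f_t` (`t ≤ n`) is a weakly regular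
  sequence of homogeneous elements of `a` of degrees `d_i ≥ 0`, then for every graded presentation
  `π : R → N` of `R/(f)` and every *injective resolution `F` of `N`: `H^i_a(N) = 0` for `i < n - t`
  and `end H^{n-t}_a(N) = end H^n_a(R) + Σ d_i`.

Namespace `Groth.Agent.Lib.Seat97.GrRegSeq`.
-/

set_option autoImplicit false
set_option linter.unusedSectionVars false
set_option linter.style.haveILetI false
open DirectSum

noncomputable section

namespace Groth.Agent.Lib.Seat97.GrRegSeq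

open Groth.Agent.Lib.Seat97.GrProd Groth.Agent.Lib.Seat97.GrHmap Groth.Agent.Lib.Seat97.GrHorse
  Groth.Agent.Lib.Seat97.GrRegQuot Groth.Agent.Lib.Helper29GrCompare Groth.Agent.Lib.Helper29GrQuot

universe u

section Indep

variable {ι : Type} [AddCommGroup ι] [DecidableEq ι] [Module.Free ℤ ι] [Module.Finite ℤ ι]
variable {R : Type u} [CommRing R] [IsNoetherianRing R] {𝒜 : ι → AddSubgroup R} [GradedRing 𝒜]
variable {M : Type u} [AddCommGroup M] [Module R M] {ℳ : ι → AddSubgroup M}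
  [DirectSum.Decomposition ℳ] [SetLike.GradedSMul 𝒜 ℳ]
variable (E₁ E₂ : GrLC.StarInjRes 𝒜 ℳ) (a : HomogeneousIdeal 𝒜)

/-- Two *injective resolutions of the same graded module compute the same graded local
cohomology, through a homogeneous bijection. -/
theorem exists_Hiso (i : ℕ) : ∃ ψ : E₁.H a i →ₗ[R] E₂.H a i, Function.Bijective ψ ∧
    GrLC.IsGrHom (E₁.Hgr a i) (E₂.Hgr a i) ψ := by
  obtain ⟨c, hchom, hc0, hc⟩ := exists_comparison 𝒜 ℳ E₁.X E₁.d E₁.ε E₁.d_grHom E₁.ε_grHom
    E₁.exact_zero E₁.exact_succ E₂ E₁.ε_injective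
  exact ⟨Hmap E₁ E₂ a c hc i, Hmap_bijective a E₁ E₂ c hc hc0 i,
    isGrHom_Hmap E₁ E₂ a c hc i (hchom i)⟩

theorem subsingleton_H_of (i : ℕ) (h : Subsingleton (E₁.H a i)) : Subsingleton (E₂.H a i) := by
  obtain ⟨ψ, hψ, -⟩ := exists_Hiso E₁ E₂ a i
  exact hψ.2.subsingleton

theorem Hgr_ne_bot_of (i : ℕ) (k : ι) (h : E₁.Hgr a i k ≠ ⊥) : E₂.Hgr a i k ≠ ⊥ := by
  obtain ⟨ψ, hψ, hgr⟩ := exists_Hiso E₁ E₂ a i
  intro hbot
  apply h
  rw [eq_bot_iff]
  intro y hy
  have h1 : ψ y ∈ E₂.Hgr a i k := hgr k y hy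
  rw [hbot] at h1
  have h2 : ψ y = 0 := (AddSubgroup.mem_bot).mp h1
  have h3 : y = 0 := hψ.1 (by rw [h2, map_zero])
  exact (AddSubgroup.mem_bot).mpr h3

end Indep

section IndepInt

variable {R : Type u} [CommRing R] [IsNoetherianRing R] {𝒜 : ℤ → AddSubgroup R} [GradedRing 𝒜]
variable {M : Type u} [AddCommGroup M] [Module R M] {ℳ : ℤ → AddSubgroup M}
  [DirectSum.Decomposition ℳ] [SetLike.GradedSMul 𝒜 ℳ]
variable (E₁ E₂ : GrLC.StarInjRes 𝒜 ℳ) (a : HomogeneousIdeal 𝒜)

theorem endDeg_Hgr_eq (i : ℕ) : GrLC.endDeg (E₂.Hgr a i) = GrLC.endDeg (E₁.Hgr a i) := by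
  have h := endDeg_eq_add (E₁.Hgr a i) (E₂.Hgr a i) 0
    (fun n hn => by rw [sub_zero]; exact Hgr_ne_bot_of E₂ E₁ a i n hn)
    (fun n' hn' => ⟨n', le_refl _, by rw [add_zero]; exact Hgr_ne_bot_of E₁ E₂ a i n' hn'⟩)
  rw [h, WithTop.coe_zero, WithBot.coe_zero, add_zero]

end IndepInt

section Pull

variable {ι : Type} [AddCommGroup ι] [DecidableEq ι]
variable {R : Type u} [CommRing R] {𝒜 : ι → AddSubgroup R} [GradedRing 𝒜]
variable {M : Type u} [AddCommGroup M] [Module R M] {ℳ : ι → AddSubgroup M}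
  [DirectSum.Decomposition ℳ] [SetLike.GradedSMul 𝒜 ℳ]
variable {N : Type u} [AddCommGroup N] [Module R N] {𝒩 : ι → AddSubgroup N}
  [DirectSum.Decomposition 𝒩] [SetLike.GradedSMul 𝒜 𝒩]

/-- A *injective resolution of `N` is one of `M`, through a homogeneous bijection `M → N`. -/
def pullRes (F : GrLC.StarInjRes 𝒜 𝒩) (π : M →ₗ[R] N) (hπ : GrLC.IsGrHom ℳ 𝒩 π)
    (hbij : Function.Bijective π) : GrLC.StarInjRes 𝒜 ℳ where
  X := F.X
  d := F.d
  ε := F.ε ∘ₗ π
  d_grHom := F.d_grHom
  ε_grHom := fun k m hm => F.ε_grHom k _ (hπ k m hm)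
  ε_injective := F.ε_injective.comp hbij.1
  exact_zero := by
    rw [F.exact_zero, LinearMap.range_comp_of_range_eq_top _ (LinearMap.range_eq_top.mpr hbij.2)]
  exact_succ := F.exact_succ
  starInj := F.starInj

end Pull

section Main

variable {R : Type u} [CommRing R] [IsNoetherianRing R] {𝒜 : ℤ → AddSubgroup R} [GradedRing 𝒜]
variable (a : HomogeneousIdeal 𝒜) (I : GrLC.StarInjRes 𝒜 𝒜)

theorem range_eq_insert {t : ℕ} (f : Fin (t + 1) → R) :
    Set.range f = insert (f (Fin.last t)) (Set.range (fun i : Fin t => f i.castSucc)) := by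
  ext y
  constructor
  · rintro ⟨i, rfl⟩
    induction i using Fin.lastCases with
    | last => exact Set.mem_insert _ _
    | cast j => exact Set.mem_insert_of_mem _ ⟨j, rfl⟩
  · rintro (rfl | ⟨j, rfl⟩)
    · exact ⟨_, rfl⟩
    · exact ⟨_, rfl⟩

theorem ofList_ofFn {t : ℕ} (f : Fin t → R) :
    Ideal.ofList (List.ofFn f) = Ideal.span (Set.range f) := by
  unfold Ideal.ofList
  congr 1
  ext y
  simp [List.mem_ofFn]

/-- **Graded local cohomology modulo a homogeneous regular sequence.** -/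
theorem regSeq_main (n : ℕ) (hdepth : ∀ i : ℕ, i < n → Subsingleton (I.H a i)) :
    ∀ (t : ℕ) (_ : t ≤ n) (f : Fin t → R) (deg : Fin t → ℤ) (_ : ∀ i, f i ∈ 𝒜 (deg i))
      (_ : ∀ i, 0 ≤ deg i) (_ : ∀ i, f i ∈ a.toIdeal)
      (_ : RingTheory.Sequence.IsWeaklyRegular R (List.ofFn f))
      (N : Type u) [AddCommGroup N] [Module R N] (𝒩 : ℤ → AddSubgroup N)
      [DirectSum.Decomposition 𝒩] [SetLike.GradedSMul 𝒜 𝒩] (π : R →ₗ[R] N)
      (_ : GrLC.IsGrHom 𝒜 𝒩 π) (_ : Function.Surjective π)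
      (_ : LinearMap.ker π = Ideal.span (Set.range f)) (F : GrLC.StarInjRes 𝒜 𝒩),
      (∀ i : ℕ, i < n - t → Subsingleton (F.H a i)) ∧
        GrLC.endDeg (F.Hgr a (n - t)) = GrLC.endDeg (I.Hgr a n) +
          ((((Finset.univ : Finset (Fin t)).sum deg : ℤ) : WithTop ℤ) : WithBot (WithTop ℤ)) := by
  intro t
  induction t with
  | zero =>
    intro _ f deg _ _ _ _ N _ _ 𝒩 _ _ π hπ hπs hπk F
    have hker : LinearMap.ker π = ⊥ := by
      rw [hπk, Set.range_eq_empty f, Ideal.span_empty]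
    have hbij : Function.Bijective π := ⟨LinearMap.ker_eq_bot.mp hker, hπs⟩
    refine ⟨fun i hi => ?_, ?_⟩
    · exact subsingleton_H_of I (pullRes F π hπ hbij) a i (hdepth i (by omega))
    · have h := endDeg_Hgr_eq I (pullRes F π hπ hbij) a n
      rw [Nat.sub_zero, Finset.univ_eq_empty, Finset.sum_empty, WithTop.coe_zero,
        WithBot.coe_zero, add_zero]
      exact h
  | succ t ih =>
    intro htn f deg hfdeg hdeg0 hfa hreg N _ _ 𝒩 _ _ π hπ hπs hπk F
    classical
    -- the first `t` elements and the quotient by them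
    let f' : Fin t → R := fun i => f i.castSucc
    let x : R := f (Fin.last t)
    let J : Submodule R R := Ideal.span (Set.range f')
    have hJhom : J.IsHomogeneous 𝒜 := by
      apply Ideal.homogeneous_span
      rintro _ ⟨i, rfl⟩
      exact ⟨deg i.castSucc, hfdeg i.castSucc⟩
    letI : DirectSum.Decomposition (quotGr 𝒜 J) := quotDecomposition 𝒜 J hJhom
    letI : SetLike.GradedSMul 𝒜 (quotGr 𝒜 J) := quot_gradedSMul 𝒜 J 𝒜
    obtain ⟨E⟩ := Groth.Agent.S13215.result R 𝒜 (R ⧸ J) (quotGr 𝒜 J)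
    have hspan : Ideal.span (Set.range f) = Ideal.span (insert x (Set.range f')) := by
      rw [range_eq_insert f]
    have hJle : J ≤ LinearMap.ker π := by
      rw [hπk, hspan]
      exact Ideal.span_mono (Set.subset_insert _ _)
    -- weak regularity splits
    have hlist : List.ofFn f = List.ofFn f' ++ [x] := by
      rw [List.ofFn_succ', List.concat_eq_append]
    rw [hlist, RingTheory.Sequence.isWeaklyRegular_append_iff] at hreg
    obtain ⟨hreg', hregx⟩ := hreg
    rw [RingTheory.Sequence.isWeaklyRegular_singleton_iff] at hregx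
    have hJeq : (Ideal.ofList (List.ofFn f') • (⊤ : Submodule R R)) = J := by
      rw [ofList_ofFn]
      show Ideal.span (Set.range f') • (⊤ : Ideal R) = Ideal.span (Set.range f')
      rw [smul_eq_mul, Ideal.mul_top]
    rw [hJeq] at hregx
    -- induction hypothesis for the quotient by the first `t` elements
    have hmk : GrLC.IsGrHom 𝒜 (quotGr 𝒜 J) J.mkQ := fun k r hr => ⟨r, hr, rfl⟩
    have hkermk : LinearMap.ker J.mkQ = Ideal.span (Set.range f') := J.ker_mkQ
    obtain ⟨ihvan, ihend⟩ := ih (by omega) f' (fun i => deg i.castSucc)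
      (fun i => hfdeg i.castSucc) (fun i => hdeg0 i.castSucc) (fun i => hfa i.castSucc) hreg'
      (R ⧸ J) (quotGr 𝒜 J) J.mkQ hmk J.mkQ_surjective hkermk E
    -- the induced presentation of `N` as the quotient of `R ⧸ J` by `x`
    let π' : (R ⧸ J) →ₗ[R] N := J.liftQ π hJle
    have hπ' : GrLC.IsGrHom (quotGr 𝒜 J) 𝒩 π' := by
      rintro k _ ⟨r, hr, rfl⟩
      exact hπ k r hr
    have hπ's : Function.Surjective π' := by
      intro y
      obtain ⟨r, rfl⟩ := hπs y
      exact ⟨J.mkQ r, rfl⟩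
    have hπ'k : ∀ z : R ⧸ J, π' z = 0 ↔ ∃ w : R ⧸ J, x • w = z := by
      intro z
      obtain ⟨r, rfl⟩ := J.mkQ_surjective z
      have h1 : π' (J.mkQ r) = π r := rfl
      rw [h1, ← LinearMap.mem_ker, hπk, hspan, Ideal.mem_span_insert]
      constructor
      · rintro ⟨c, z', hz', rfl⟩
        refine ⟨J.mkQ c, ?_⟩
        rw [← map_smul, smul_eq_mul, mul_comm]
        symm
        rw [Submodule.mkQ_apply, Submodule.mkQ_apply, Submodule.Quotient.eq]
        rw [add_sub_cancel_left]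
        exact hz'
      · rintro ⟨w, hw⟩
        obtain ⟨c, rfl⟩ := J.mkQ_surjective w
        rw [← map_smul, smul_eq_mul, Submodule.mkQ_apply, Submodule.mkQ_apply,
          Submodule.Quotient.eq] at hw
        refine ⟨c, r - c * x, ?_, by ring⟩
        have := J.neg_mem hw
        rw [neg_sub] at this
        rw [mul_comm]
        exact this
    have hregx' : ∀ z : R ⧸ J, x • z = 0 → z = 0 := by
      intro z hz
      exact hregx (by show x • z = x • (0 : R ⧸ J); rw [hz, smul_zero])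
    have he : n - t = (n - (t + 1)) + 1 := by omega
    have hvan : Subsingleton (E.H a (n - (t + 1))) := ihvan _ (by omega)
    refine ⟨fun i hi => ?_, ?_⟩
    · exact subsingleton_H_quot E F a x (deg (Fin.last t)) (hfdeg (Fin.last t)) hregx' π' hπ' hπ's
        hπ'k i (ihvan i (by omega)) (ihvan (i + 1) (by omega))
    · have h := endDeg_regular_quotient E F a x (deg (Fin.last t)) (hfdeg (Fin.last t))
        (hdeg0 (Fin.last t)) (hfa (Fin.last t)) hregx' π' hπ' hπ's hπ'k (n - (t + 1)) hvan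
      rw [h, ← he, ihend, Fin.sum_univ_castSucc, add_assoc, ← WithBot.coe_add, ← WithTop.coe_add]

end Main

end Groth.Agent.Lib.Seat97.GrRegSeq
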