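import Mathlib
import Groth.Agent.Lib.Seat67LinReg
import Groth.Agent.Lib.Seat97GrRegSeq
import Groth.Agent.S13215

/-!
# Seat67: linear regular sequences and their Hilbert functions

`R` a Noetherian positively `ℤ`-graded ring, standard graded, `R_0` Artinian, `(R, m)` *local with
infinite residue field, with `H^i_m(R) = 0` for `i < d`.  Then there are `f_1, …, f_t ∈ R_1`
(`t ≤ d`) forming a (weakly) regular sequence, and the Hilbert function of `R/(f_1, …, f_t)` is the
`t`-th backward difference of the Hilbert function of `R` (`exists_seq`).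
-/

set_option autoImplicit false
set_option linter.unusedSectionVars false
set_option linter.style.haveILetI false

universe u

open DirectSum

namespace Groth.Agent.Lib.Seat67.LinSeq

open Groth.Agent.Lib.Seat86.GrSerreB Groth.Agent.Lib.Seat86.GrSerreA Groth.Agent.Lib.Seat86.GrLen
  Groth.Agent.Lib.Helper29GrQuot Groth.Agent.Lib.Seat97.GrRegSeq Groth.Agent.Lib.Seat67.LinReg

/-- the backward difference of a function on `ℤ`. -/
def D (g : ℤ → ℚ) : ℤ → ℚ := fun n => g n - g (n - 1)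

section Numeric

/-- the Hilbert function of a polynomial ring in `k` variables over a ring of length `L`. -/
def mc (L : ℚ) (k : ℕ) : ℤ → ℚ := fun n => if n < 0 then 0 else L * (Nat.multichoose k n.toNat : ℚ)

theorem D_mc (L : ℚ) (k : ℕ) : D (mc L (k + 1)) = mc L k := by
  funext n
  unfold D mc
  rcases lt_trichotomy n 0 with hn | rfl | hn
  · have h1 : n - 1 < 0 := by omega
    rw [if_pos hn, if_pos h1, if_pos hn, sub_zero]
  · have h1 : (0 : ℤ) - 1 < 0 := by omega
    rw [if_neg (lt_irrefl 0), if_pos h1, if_neg (lt_irrefl 0), sub_zero]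
    simp
  · obtain ⟨j, rfl⟩ : ∃ j : ℕ, n = (j : ℤ) + 1 := ⟨(n - 1).toNat, by omega⟩
    have h1 : ¬ ((j : ℤ) + 1 < 0) := by omega
    have h2 : ¬ ((j : ℤ) + 1 - 1 < 0) := by omega
    rw [if_neg h1, if_neg h2, if_neg h1]
    have e1 : ((j : ℤ) + 1).toNat = j + 1 := by omega
    have e2 : ((j : ℤ) + 1 - 1).toNat = j := by omega
    rw [e1, e2, Nat.multichoose_succ_succ]
    push_cast
    ring

theorem iterate_D_mc (L : ℚ) (t k : ℕ) : D^[t] (mc L (k + t)) = mc L k := by
  induction t generalizing k with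
  | zero => rfl
  | succ t ih =>
    rw [Function.iterate_succ_apply']
    have e : k + (t + 1) = (k + 1) + t := by omega
    rw [e, ih (k + 1), D_mc]

theorem mc_zero_one (L : ℚ) : mc L 0 1 = 0 := by
  unfold mc
  rw [if_neg (by omega)]
  have : (1 : ℤ).toNat = 1 := rfl
  rw [this, Nat.multichoose_zero_succ]
  simp

end Numeric

variable {R : Type u} [CommRing R] [IsNoetherianRing R] {𝒜 : ℤ → AddSubgroup R} [GradedRing 𝒜]

/-- the Hilbert function of the quotient by `f` is the `t`-th difference of that of `R`, for every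
graded presentation of the quotient. -/
def HilbProp (𝒜 : ℤ → AddSubgroup R) [GradedRing 𝒜] (t : ℕ) (f : Fin t → R) : Prop :=
  ∀ (N : Type u) [AddCommGroup N] [Module R N] (𝒩 : ℤ → AddSubgroup N)
    [DirectSum.Decomposition 𝒩] [SetLike.GradedSMul 𝒜 𝒩] (π : R →ₗ[R] N),
    GrLC.IsGrHom 𝒜 𝒩 π → Function.Surjective π →
    LinearMap.ker π = Ideal.span (Set.range f) →
    ∀ n : ℤ, hilb 𝒜 𝒩 n = D^[t] (hilb 𝒜 𝒜) n

variable (hpos : ∀ n : ℤ, n < 0 → 𝒜 n = ⊥)
  (hstd : Ideal.span (⋃ n ∈ Set.Ioi (0 : ℤ), (𝒜 n : Set R)) =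
    Ideal.span ((𝒜 1 : AddSubgroup R) : Set R))
  [IsArtinianRing (GrLC.deg0 𝒜)] {m : HomogeneousIdeal 𝒜} (hm : GrLC.IsStarLocal 𝒜 m)
  (hinf : Infinite (R ⧸ m.toIdeal)) (I : GrLC.StarInjRes 𝒜 𝒜)

theorem hilbProp_zero (f : Fin 0 → R) : HilbProp 𝒜 0 f := by
  intro N _ _ 𝒩 _ _ π hπ hπs hπk n
  have hker : LinearMap.ker π = ⊥ := by
    rw [hπk, Set.range_eq_empty f, Ideal.span_empty]
  rw [Function.iterate_zero, id_eq]
  unfold hilb
  obtain ⟨π', hπ'⟩ : ∃ π' : R →ₗ[GrLC.deg0 𝒜] N, ∀ y, π' y = π y :=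
    ⟨π.restrictScalars _, fun _ => rfl⟩
  have hmap := map_comp_eq π hπs hπ π' hπ' n
  have hlen := length_eq_of_map π' (GrLC.comp 𝒜 𝒜 n) (GrLC.comp 𝒜 𝒩 n) (fun y _ hy => by
    rw [hπ'] at hy
    exact LinearMap.ker_eq_bot'.1 hker y hy) hmap
  rw [hlen]

include hpos hstd hm hinf in
/-- **Linear regular sequences with their Hilbert functions.** -/
theorem exists_seq (d : ℕ) (hdepth : ∀ i : ℕ, i < d → Subsingleton (I.H m i)) :
    ∀ t : ℕ, t ≤ d → ∃ f : Fin t → R, (∀ i, f i ∈ 𝒜 1) ∧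
      RingTheory.Sequence.IsWeaklyRegular R (List.ofFn f) ∧ HilbProp 𝒜 t f := by
  intro t
  induction t with
  | zero =>
    intro _
    refine ⟨Fin.elim0, fun i => i.elim0, ?_, hilbProp_zero _⟩
    rw [List.ofFn_zero]
    exact RingTheory.Sequence.IsWeaklyRegular.nil R R
  | succ t ih =>
    intro htd
    classical
    obtain ⟨f, hf1, hreg, hH⟩ := ih (by omega)
    let J : Submodule R R := Ideal.span (Set.range f)
    have hJhom : J.IsHomogeneous 𝒜 := by
      apply Ideal.homogeneous_span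
      rintro _ ⟨i, rfl⟩
      exact ⟨1, hf1 i⟩
    letI : DirectSum.Decomposition (quotGr 𝒜 J) := quotDecomposition 𝒜 J hJhom
    letI : SetLike.GradedSMul 𝒜 (quotGr 𝒜 J) := quot_gradedSMul 𝒜 J 𝒜
    obtain ⟨E⟩ := Groth.Agent.S13215.result R 𝒜 (R ⧸ J) (quotGr 𝒜 J)
    have hmk : GrLC.IsGrHom 𝒜 (quotGr 𝒜 J) J.mkQ := fun k r hr => ⟨r, hr, rfl⟩
    have hkermk : LinearMap.ker J.mkQ = Ideal.span (Set.range f) := J.ker_mkQ
    have hfm : ∀ i, f i ∈ m.toIdeal := fun i =>
      Groth.Agent.Lib.Seat86.StarLocal.mem_of_pos hm.1 hpos one_pos (hf1 i)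
    obtain ⟨hvan, -⟩ := regSeq_main m I d hdepth t (by omega) f (fun _ => 1) hf1
      (fun _ => zero_le_one) hfm hreg (R ⧸ J) (quotGr 𝒜 J) J.mkQ hmk J.mkQ_surjective hkermk E
    have hgam : GrLC.gam m.toIdeal (R ⧸ J) = ⊥ :=
      gam_eq_bot_of_subsingleton_H_zero E m (hvan 0 (by omega))
    obtain ⟨x, hx1, hregx⟩ := exists_linear_regular hpos hstd hm hinf (R ⧸ J) hgam
    refine ⟨Fin.snoc f x, ?_, ?_, ?_⟩
    · intro i
      refine Fin.lastCases ?_ (fun j => ?_) i
      · rw [Fin.snoc_last]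
        exact hx1
      · rw [Fin.snoc_castSucc]
        exact hf1 j
    · have hlist : List.ofFn (Fin.snoc f x : Fin (t + 1) → R) = List.ofFn f ++ [x] := by
        rw [List.ofFn_succ', List.concat_eq_append]
        simp only [Fin.snoc_castSucc, Fin.snoc_last]
      rw [hlist, RingTheory.Sequence.isWeaklyRegular_append_iff]
      refine ⟨hreg, ?_⟩
      rw [RingTheory.Sequence.isWeaklyRegular_singleton_iff]
      have hJeq : (Ideal.ofList (List.ofFn f) • (⊤ : Submodule R R)) = J := by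
        rw [ofList_ofFn]
        show Ideal.span (Set.range f) • (⊤ : Ideal R) = Ideal.span (Set.range f)
        rw [smul_eq_mul, Ideal.mul_top]
      rw [hJeq]
      exact hregx
    · intro N _ _ 𝒩 _ _ π hπ hπs hπk n
      have hspan : Ideal.span (Set.range (Fin.snoc f x : Fin (t + 1) → R)) =
          Ideal.span (insert x (Set.range f)) := by
        rw [range_eq_insert]
        simp only [Fin.snoc_castSucc, Fin.snoc_last]
      have hJle : J ≤ LinearMap.ker π := by
        rw [hπk, hspan]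
        exact Ideal.span_mono (Set.subset_insert _ _)
      let π' : (R ⧸ J) →ₗ[R] N := J.liftQ π hJle
      have hπ' : GrLC.IsGrHom (quotGr 𝒜 J) 𝒩 π' := by
        rintro k _ ⟨r, hr, rfl⟩
        exact hπ k r hr
      have hπ's : Function.Surjective π' := by
        intro y
        obtain ⟨r, rfl⟩ := hπs y
        exact ⟨J.mkQ r, rfl⟩
      have hπ'k : ∀ z : R ⧸ J, π' z = 0 ↔ ∃ w : R ⧸ J, x • w = z := by
        intro z
        obtain ⟨r, rfl⟩ := J.mkQ_surjective z
        have h1 : π' (J.mkQ r) = π r := rfl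
        rw [h1, ← LinearMap.mem_ker, hπk, hspan, Ideal.mem_span_insert]
        constructor
        · rintro ⟨c, z', hz', rfl⟩
          refine ⟨J.mkQ c, ?_⟩
          rw [← map_smul, smul_eq_mul, mul_comm]
          symm
          rw [Submodule.mkQ_apply, Submodule.mkQ_apply, Submodule.Quotient.eq]
          rw [add_sub_cancel_left]
          exact hz'
        · rintro ⟨w, hw⟩
          obtain ⟨c, rfl⟩ := J.mkQ_surjective w
          rw [← map_smul, smul_eq_mul, Submodule.mkQ_apply, Submodule.mkQ_apply,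
            Submodule.Quotient.eq] at hw
          refine ⟨c, r - c * x, ?_, by ring⟩
          have := J.neg_mem hw
          rw [neg_sub] at this
          rw [mul_comm]
          exact this
      have hker : LinearMap.ker π' =
          LinearMap.range (x • (LinearMap.id : (R ⧸ J) →ₗ[R] (R ⧸ J))) := by
        ext z
        rw [LinearMap.mem_ker, hπ'k, LinearMap.mem_range]
        constructor
        · rintro ⟨w, hw⟩
          exact ⟨w, hw⟩
        · rintro ⟨w, hw⟩
          exact ⟨w, hw⟩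
      have hadd := hilb_smul (𝒜 := 𝒜) (ℳ := quotGr 𝒜 J) (𝒩 := 𝒩) x 1 hx1 hregx π' hπ's hπ' hker n
      have h1 := hH (R ⧸ J) (quotGr 𝒜 J) J.mkQ hmk J.mkQ_surjective hkermk
      rw [h1 n, h1 (n + -1)] at hadd
      rw [Function.iterate_succ_apply']
      show hilb 𝒜 𝒩 n = D^[t] (hilb 𝒜 𝒜) n - D^[t] (hilb 𝒜 𝒜) (n - 1)
      rw [sub_eq_add_neg n 1]
      linarith

end Groth.Agent.Lib.Seat67.LinSeq
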