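import Groth.Agent.Lib.Helper8CanonCM
import Groth.Agent.Lib.Helper8RegHull
import Groth.Agent.Lib.Helper29LCAcyclic
import Groth.Agent.Lib.Helper5SuppDim
import Groth.Agent.S5170
import Groth.Agent.S14420

/-!
# Bass numbers of a canonical module and the type of a Cohen–Macaulay local ring (seat 67)

`A` a Cohen–Macaulay local ring of dimension `n`, residue field `k`, `E` an injective hull of `k`,
`K` a canonical module (`Hom(K, E) ≅ H^n_m(A)`).

* `length_ext_canon`: `ℓ(Ext^n_A(k, K)) = 1`;
* `length_ext_self`: `ℓ(Ext^n_A(k, G)) = ℓ(k ⊗_A K)` for any `G ≅ A`.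
-/

set_option autoImplicit false
set_option linter.unusedSectionVars false
universe u
open CategoryTheory CategoryTheory.Abelian IsLocalRing TensorProduct

namespace Groth.Agent.Lib.Seat67.LocBass

open Groth.Agent.Lib.Helper8.ExtLES Groth.Agent.Lib.Helper8.Bridge Groth.Agent.Lib.Helper8.LC
  Groth.Agent.Lib.Helper8.ExtRep Groth.Agent.Lib.Helper8.CanonCM Groth.Agent.Lib.Helper8.RegHull

section

variable {A : Type u} [CommRing A] [LocCoh.IsCohenMacaulayLocalRing A] (n : ℕ)
  (hn : ringKrullDim A = n)
  (E : Type u) [AddCommGroup E] [Module A E] (f : ResidueField A →ₗ[A] E)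
  (hf : InjHull.IsInjectiveHull f) (K : Type u) [AddCommGroup K] [Module A K] [Module.Finite A K]
  (eK : (K →ₗ[A] E) ≃ₗ[A] LocCoh.H (maximalIdeal A) n A)

theorem length_residueField : Module.length A (ResidueField A) = 1 := by
  rw [Module.length_eq_of_surjective (R := ResidueField A) (S := A) (M := ResidueField A)
    IsLocalRing.residue_surjective, Module.length_eq_finrank, Module.finrank_self]
  rfl

theorem smul_residueField_eq_zero (a : A) (ha : a ∈ maximalIdeal A) (x : ResidueField A) :
    a • x = 0 := by
  obtain ⟨y, rfl⟩ := IsLocalRing.residue_surjective x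
  rw [Algebra.smul_def]
  change IsLocalRing.residue A a * IsLocalRing.residue A y = 0
  rw [(IsLocalRing.residue_eq_zero_iff a).mpr ha, zero_mul]

theorem length_H_zero_residueField :
    Module.length A (LocCoh.H (maximalIdeal A) 0 (ResidueField A)) = 1 := by
  rw [(Groth.Agent.Lib.Helper29LCAcyclic.H0Equiv (maximalIdeal A) (ResidueField A)).length_eq]
  have htop : GrLC.gam (maximalIdeal A) (ResidueField A) = ⊤ := by
    rw [eq_top_iff]
    intro x _
    refine ⟨1, fun r hr => ?_⟩
    rw [pow_one] at hr
    exact smul_residueField_eq_zero r hr x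
  rw [htop, Module.length_top, length_residueField]

/-- A finite module killed by the maximal ideal has finite length. -/
theorem isFiniteLength_of_smul_eq_zero (V : Type u) [AddCommGroup V] [Module A V]
    [Module.Finite A V] (h : ∀ a ∈ maximalIdeal A, ∀ x : V, a • x = 0) : IsFiniteLength A V :=
  isFiniteLength_of_finite_of_pow_smul V 1 (fun a ha x => h a (by simpa using ha) x)

include hn hf eK in
/-- `Ext^n_A(k, K)` has length one. -/
theorem length_ext_canon :
    Module.length A (Ext.{u} (ModuleCat.of A (ResidueField A)) (ModuleCat.of A K) n) = 1 := by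
  obtain ⟨e⟩ := dualExt n hn E f hf K eK (ResidueField A) n le_rfl
  rw [Nat.sub_self] at e
  have hfl : IsFiniteLength A
      (Ext.{u} (ModuleCat.of A (ResidueField A)) (ModuleCat.of A K) n) := by
    apply isFiniteLength_of_smul_eq_zero
    intro a ha x
    apply Groth.Agent.Lib.Helper28.ext_smul_eq_zero_of_mem_annihilator_left
    rw [Module.mem_annihilator]
    intro y
    exact smul_residueField_eq_zero a ha y
  rw [← Groth.Agent.S5170.result A E f hf _ hfl, ← e.length_eq, length_H_zero_residueField]

include hn in
theorem depth_self : LocCoh.depth A A = n := by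
  have h1 := LocCoh.IsCohenMacaulayLocalRing.supportDim_eq_depth (R := A)
  rw [Module.supportDim_self_eq_ringKrullDim, hn] at h1
  have h2 : ((n : ℕ∞) : WithBot ℕ∞) = ((LocCoh.depth A A : ℕ∞) : WithBot ℕ∞) := by
    exact_mod_cast h1
  exact (WithBot.coe_injective h2).symm

theorem supportDim_eq_zero_of_inC {F : ModuleCat.{u} A} (hF : InC (maximalIdeal A) F)
    [Nontrivial F] : Module.supportDim A F = 0 := by
  have hle := Groth.Agent.Lib.Helper5.supportDim_le_zero_of_isFiniteLength
    (isFiniteLength_of_inC hF)
  have hne := Module.supportDim_ne_bot_of_nontrivial A F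
  obtain ⟨a, ha⟩ := WithBot.ne_bot_iff_exists.mp hne
  rw [← ha] at hle ⊢
  have : a ≤ 0 := by exact_mod_cast hle
  have : a = 0 := le_antisymm this (by simp)
  rw [this]
  rfl

include hn in
theorem hvan_self : Hvan (maximalIdeal A) n (ModuleCat.of A A) := by
  intro F hF i hi
  rw [subsingleton_E_iff]
  by_cases hnt : Nontrivial F
  · haveI := hnt
    haveI : Module.Finite A F := hF.1
    exact Groth.Agent.S14420.result A A F n 0 i (depth_self n hn)
      (supportDim_eq_zero_of_inC hF) (by omega)
  · rw [not_nontrivial_iff_subsingleton] at hnt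
    have key : ∀ x : Ext.{u} F (ModuleCat.of A A) i, x = 0 := by
      intro x
      have h1 : (1 : A) • x = 0 :=
        Groth.Agent.Lib.Helper28.ext_smul_eq_zero_of_mem_annihilator_left
          (Module.mem_annihilator.mpr fun y => Subsingleton.elim _ _) x
      rwa [one_smul] at h1
    exact ⟨fun x y => by rw [key x, key y]⟩

theorem inC_residueField : InC (maximalIdeal A) (ModuleCat.of A (ResidueField A)) := by
  refine ⟨?_, 1, fun a ha x => ?_⟩
  · change Module.Finite A (ResidueField A)
    infer_instance
  · exact smul_residueField_eq_zero a (by simpa using ha) x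

include hn hf eK in
/-- `ℓ(Ext^n_A(k, G)) = ℓ(k ⊗_A K)` for `G ≅ A`: the type of `A` is the minimal number of generators
of the canonical module. -/
theorem length_ext_self (G : Type u) [AddCommGroup G] [Module A G] (θ : G ≃ₗ[A] A) :
    Module.length A (Ext.{u} (ModuleCat.of A (ResidueField A)) (ModuleCat.of A G) n) =
      Module.length A (ResidueField A ⊗[A] K) := by
  have hv := hvan_self n hn
  have hk := inC_residueField (A := A)
  let e1 := Ψ n (ModuleCat.of A (ResidueField A)) (ModuleCat.of A G)
  let e2 : Groth.Agent.Lib.Helper8.ExtLES.E n (ModuleCat.of A (ResidueField A))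
        (ModuleCat.of A G) ≃ₗ[A]
      Groth.Agent.Lib.Helper8.ExtLES.E n (ModuleCat.of A (ResidueField A)) (ModuleCat.of A A) :=
    (((Ext A (ModuleCat.{u} A) n).obj (Opposite.op (ModuleCat.of A (ResidueField A)))).mapIso
      θ.toModuleIso).toLinearEquiv
  let e3 := θEquiv hv hk
  let e4 : (ResidueField A →ₗ[A] LocCoh.H (maximalIdeal A) n A) ≃ₗ[A]
      (ResidueField A →ₗ[A] (K →ₗ[A] E)) := LinearEquiv.congrRight eK.symm
  let e5 := TensorProduct.lift.equiv (RingHom.id A) (ResidueField A) K E
  have hfl : IsFiniteLength A (ResidueField A ⊗[A] K) := by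
    apply isFiniteLength_of_smul_eq_zero
    intro a ha x
    induction x using TensorProduct.induction_on with
    | zero => exact smul_zero a
    | tmul y z => rw [TensorProduct.smul_tmul', smul_residueField_eq_zero a ha y,
        TensorProduct.zero_tmul]
    | add x y hx hy => rw [smul_add, hx, hy, add_zero]
  rw [← Groth.Agent.S5170.result A E f hf _ hfl, ← e1.length_eq, e2.length_eq, e3.length_eq]
  exact (e4.trans e5).length_eq

end

section Residue

variable {R : Type u} [CommRing R] (m : Ideal R) [hmax : m.IsMaximal] (C : Type u)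
  [AddCommGroup C] [Module R C] [Module.Finite R C]

/-- For a maximal ideal `m` of `R` and a finite `R`-module `C`: the length over `R_m` of
`k(m) ⊗ C_m` is the dimension over `R/m` of `R/m ⊗ C`. -/
theorem length_residue_tensor_localized :
    Module.length (Localization.AtPrime m)
      (ResidueField (Localization.AtPrime m) ⊗[Localization.AtPrime m]
        LocalizedModule m.primeCompl C) =
      (Module.finrank (R ⧸ m) ((R ⧸ m) ⊗[R] C) : ℕ∞) := by
  letI : Field (R ⧸ m) := Ideal.Quotient.field m
  -- over `A`: pass to `k`
  rw [Module.length_eq_of_surjective (S := Localization.AtPrime m)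
    (R := ResidueField (Localization.AtPrime m))
    (M := ResidueField (Localization.AtPrime m) ⊗[Localization.AtPrime m]
        LocalizedModule m.primeCompl C) IsLocalRing.residue_surjective]
  rw [Module.length_eq_finrank]
  congr 1
  -- the chain of `k`-linear equivalences
  let b := (IsLocalizedModule.isBaseChange m.primeCompl (Localization.AtPrime m)
    (LocalizedModule.mkLinearMap m.primeCompl C)).equiv
  let c1 : ResidueField (Localization.AtPrime m) ⊗[Localization.AtPrime m]
      (Localization.AtPrime m ⊗[R] C) ≃ₗ[ResidueField (Localization.AtPrime m)]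
      ResidueField (Localization.AtPrime m) ⊗[Localization.AtPrime m]
        LocalizedModule m.primeCompl C :=
    TensorProduct.AlgebraTensorModule.congr
      (LinearEquiv.refl (ResidueField (Localization.AtPrime m)) _) b
  let c2 := TensorProduct.AlgebraTensorModule.cancelBaseChange R (Localization.AtPrime m)
    (ResidueField (Localization.AtPrime m)) (ResidueField (Localization.AtPrime m)) C
  let c3 := TensorProduct.AlgebraTensorModule.cancelBaseChange R (R ⧸ m)
    (ResidueField (Localization.AtPrime m)) (ResidueField (Localization.AtPrime m)) C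
  rw [← c1.finrank_eq, c2.finrank_eq, ← c3.finrank_eq, Module.finrank_baseChange]

end Residue

end Groth.Agent.Lib.Seat67.LocBass
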