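import Mathlib.RingTheory.LocalRing.Module
import Mathlib.RingTheory.LocalRing.ResidueField.Ideal
import Mathlib.RingTheory.Localization.BaseChange
import Mathlib.Algebra.Module.LocalizedModule.Exact
import Mathlib.RingTheory.LocalProperties.Projective
import Mathlib.Algebra.Exact.Basic

set_option autoImplicit false

/-!
# Local criterion at a prime, phrased with `p.ResidueField ⊗[A] -` and `LocalizedModule`
-/

universe u v

namespace Groth.Agent.Lib.Seat67.LocCrit

open TensorProduct

variable {A : Type u} [CommRing A] (p : Ideal A) [p.IsPrime]

/-- The comparison `κ(p) ⊗[A] N ≃ κ(p) ⊗[A_p] N_p`. -/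
noncomputable def resTensorEquiv (N : Type v) [AddCommGroup N] [Module A N] :
    p.ResidueField ⊗[A] N ≃ₗ[Localization.AtPrime p]
      p.ResidueField ⊗[Localization.AtPrime p] (LocalizedModule p.primeCompl N) :=
  (TensorProduct.AlgebraTensorModule.cancelBaseChange A (Localization.AtPrime p)
      (Localization.AtPrime p) p.ResidueField N).symm ≪≫ₗ
    (LinearEquiv.lTensor p.ResidueField
      (IsLocalizedModule.isBaseChange p.primeCompl (Localization.AtPrime p)
        (LocalizedModule.mkLinearMap p.primeCompl N)).equiv)

theorem resTensorEquiv_tmul (N : Type v) [AddCommGroup N] [Module A N]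
    (c : p.ResidueField) (n : N) :
    resTensorEquiv p N (c ⊗ₜ n) = c ⊗ₜ (LocalizedModule.mk n 1) := by
  simp [resTensorEquiv, IsBaseChange.equiv_tmul]


variable {N N' : Type v} [AddCommGroup N] [Module A N] [AddCommGroup N'] [Module A N']

theorem resTensorEquiv_natural (f : N →ₗ[A] N') (x : p.ResidueField ⊗[A] N) :
    resTensorEquiv p N' (LinearMap.lTensor p.ResidueField f x) =
      LinearMap.lTensor p.ResidueField (LocalizedModule.map p.primeCompl f)
        (resTensorEquiv p N x) := by
  induction x using TensorProduct.induction_on with
  | zero => simp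
  | tmul c n =>
    simp [resTensorEquiv_tmul, LocalizedModule.map_mk]
  | add x y hx hy => simp only [map_add, hx, hy]

/-- Transport of injectivity between `κ(p) ⊗[A] -` and `κ(p) ⊗[A_p] (-)_p`. -/
theorem lTensor_injective_iff (f : N →ₗ[A] N') :
    Function.Injective (LinearMap.lTensor p.ResidueField f) ↔
      Function.Injective (LinearMap.lTensor p.ResidueField
        (LocalizedModule.map p.primeCompl f)) := by
  have h : ∀ x, resTensorEquiv p N' (LinearMap.lTensor p.ResidueField f x) =
      LinearMap.lTensor p.ResidueField (LocalizedModule.map p.primeCompl f)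
        (resTensorEquiv p N x) := resTensorEquiv_natural p f
  constructor
  · intro hf x y hxy
    obtain ⟨x, rfl⟩ := (resTensorEquiv p N).surjective x
    obtain ⟨y, rfl⟩ := (resTensorEquiv p N).surjective y
    rw [← h, ← h] at hxy
    rw [hf ((resTensorEquiv p N').injective hxy)]
  · intro hf x y hxy
    apply (resTensorEquiv p N).injective
    apply hf
    rw [← h, ← h, hxy]


/-- Exactness of `LocalizedModule.map`. -/
theorem locMap_exact {N₀ N₁ N₂ : Type v} [AddCommGroup N₀] [Module A N₀] [AddCommGroup N₁]
    [Module A N₁] [AddCommGroup N₂] [Module A N₂] (S : Submonoid A)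
    (g : N₀ →ₗ[A] N₁) (h : N₁ →ₗ[A] N₂) (ex : Function.Exact g h) :
    Function.Exact (LocalizedModule.map S g) (LocalizedModule.map S h) := by
  intro y
  have := LocalizedModule.map_exact S g h ex y
  simpa [LocalizedModule.map, IsLocalizedModule.mapExtendScalars_apply_apply] using this

section core

variable {F : Type v} [AddCommGroup F] [Module A F]
  [Module.Finite A N] [Module.Finite A F] [Module.Projective A F]

instance : Module.Free (Localization.AtPrime p) (LocalizedModule p.primeCompl F) :=
  Module.free_of_flat_of_isLocalRing

/-- If `κ(p) ⊗ ι` is injective then `ι_p` is a split injection. -/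
theorem exists_retraction_of_lTensor_injective (ι : N →ₗ[A] F)
    (h : Function.Injective (LinearMap.lTensor p.ResidueField ι)) :
    ∃ l' : LocalizedModule p.primeCompl F →ₗ[Localization.AtPrime p]
        LocalizedModule p.primeCompl N,
      l' ∘ₗ LocalizedModule.map p.primeCompl ι = LinearMap.id :=
  (IsLocalRing.split_injective_iff_lTensor_residueField_injective
    (LocalizedModule.map p.primeCompl ι)).mpr ((lTensor_injective_iff p ι).mp h)

omit [Module.Finite A N] [Module.Finite A F] [Module.Projective A F] in
theorem lTensor_injective_of_retraction (ι : N →ₗ[A] F)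
    (h : ∃ l' : LocalizedModule p.primeCompl F →ₗ[Localization.AtPrime p]
        LocalizedModule p.primeCompl N,
      l' ∘ₗ LocalizedModule.map p.primeCompl ι = LinearMap.id) :
    Function.Injective (LinearMap.lTensor p.ResidueField ι) := by
  refine (lTensor_injective_iff p ι).mpr ?_
  obtain ⟨l', hl⟩ := h
  have : l'.lTensor p.ResidueField ∘ₗ
      (LocalizedModule.map p.primeCompl ι).lTensor p.ResidueField = .id := by
    rw [← LinearMap.lTensor_comp, hl, LinearMap.lTensor_id]
  exact Function.HasLeftInverse.injective ⟨_, LinearMap.congr_fun this⟩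

/-- If `κ(p) ⊗ ι` is injective then `(F / im ι)_p` is free. -/
theorem free_localized_quotient (ι : N →ₗ[A] F)
    (h : Function.Injective (LinearMap.lTensor p.ResidueField ι)) :
    Module.Free (Localization.AtPrime p)
      (LocalizedModule p.primeCompl (F ⧸ LinearMap.range ι)) :=
  Module.free_of_lTensor_residueField_injective (LocalizedModule.map p.primeCompl ι)
    (LocalizedModule.map p.primeCompl (LinearMap.range ι).mkQ)
    (LocalizedModule.map_surjective _ _ (Submodule.mkQ_surjective _))
    (locMap_exact _ _ _ ι.exact_map_mkQ_range)
    ((lTensor_injective_iff p ι).mp h)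

/-- If `κ(p) ⊗ ι` is injective then `N_p` is free. -/
theorem free_localized_source (ι : N →ₗ[A] F)
    (h : Function.Injective (LinearMap.lTensor p.ResidueField ι)) :
    Module.Free (Localization.AtPrime p) (LocalizedModule p.primeCompl N) := by
  obtain ⟨l', hl⟩ := exists_retraction_of_lTensor_injective p ι h
  have : Module.Projective (Localization.AtPrime p) (LocalizedModule p.primeCompl N) :=
    Module.Projective.of_split _ _ hl
  exact Module.free_of_flat_of_isLocalRing

omit [Module.Finite A N] [Module.Finite A F] [Module.Projective A F] in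
/-- If `ι` is injective and `(F / im ι)_p` is free, then `ι_p` has a retraction. -/
theorem exists_retraction_of_free_quotient (ι : N →ₗ[A] F) (hι : Function.Injective ι)
    [Module.Free (Localization.AtPrime p)
      (LocalizedModule p.primeCompl (F ⧸ LinearMap.range ι))] :
    ∃ l' : LocalizedModule p.primeCompl F →ₗ[Localization.AtPrime p]
        LocalizedModule p.primeCompl N,
      l' ∘ₗ LocalizedModule.map p.primeCompl ι = LinearMap.id := by
  have hsurj : Function.Surjective (LocalizedModule.map p.primeCompl (LinearMap.range ι).mkQ) :=
    LocalizedModule.map_surjective _ _ (Submodule.mkQ_surjective _)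
  have hex := locMap_exact p.primeCompl _ _ ι.exact_map_mkQ_range
  have hinj := LocalizedModule.map_injective p.primeCompl ι hι
  obtain ⟨l, hl⟩ := Module.projective_lifting_property
    (LocalizedModule.map p.primeCompl (LinearMap.range ι).mkQ) LinearMap.id hsurj
  have := (Function.Exact.split_tfae hex hinj hsurj).out 0 1
  exact this.mp ⟨l, hl⟩

end core

end Groth.Agent.Lib.Seat67.LocCrit
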