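import Groth.Agent.Lib.Seat67LocCrit

set_option autoImplicit false

/-!
# Projectivity of a cokernel from exactness after tensoring with all residue fields `A ⧸ m`
-/

universe u v

namespace Groth.Agent.Lib.Seat67.LocCrit

open TensorProduct

variable {A : Type u} [CommRing A] (m : Ideal A) [m.IsMaximal]

/-- `A ⧸ m ≃ κ(m)` as `A`-modules, for `m` maximal. -/
noncomputable def quotEquivResidue : (A ⧸ m) ≃ₗ[A] m.ResidueField :=
  LinearEquiv.ofBijective ((Algebra.linearMap (A ⧸ m) m.ResidueField).restrictScalars A)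
    (Ideal.bijective_algebraMap_quotient_residueField m)

/-- `N ⊗ A/m ≃ κ(m) ⊗ N`. -/
noncomputable def rTensorQuotEquiv (N : Type v) [AddCommGroup N] [Module A N] :
    N ⊗[A] (A ⧸ m) ≃ₗ[A] m.ResidueField ⊗[A] N :=
  (TensorProduct.comm A N (A ⧸ m)) ≪≫ₗ
    (TensorProduct.congr (quotEquivResidue m) (LinearEquiv.refl A N))

theorem rTensorQuotEquiv_tmul (N : Type v) [AddCommGroup N] [Module A N] (n : N) (a : A ⧸ m) :
    rTensorQuotEquiv m N (n ⊗ₜ a) = quotEquivResidue m a ⊗ₜ n := by
  simp [rTensorQuotEquiv]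

variable {N N' : Type v} [AddCommGroup N] [Module A N] [AddCommGroup N'] [Module A N']

theorem rTensorQuotEquiv_natural (f : N →ₗ[A] N') (x : N ⊗[A] (A ⧸ m)) :
    rTensorQuotEquiv m N' (LinearMap.rTensor (A ⧸ m) f x) =
      LinearMap.lTensor m.ResidueField f (rTensorQuotEquiv m N x) := by
  induction x using TensorProduct.induction_on with
  | zero => simp
  | tmul n a => simp [rTensorQuotEquiv_tmul]
  | add x y hx hy => simp only [map_add, hx, hy]

theorem lTensor_exact_of_rTensor_quot_exact {N'' : Type v} [AddCommGroup N''] [Module A N'']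
    (f : N →ₗ[A] N') (g : N' →ₗ[A] N'')
    (h : Function.Exact (LinearMap.rTensor (A ⧸ m) f) (LinearMap.rTensor (A ⧸ m) g)) :
    Function.Exact (LinearMap.lTensor m.ResidueField f) (LinearMap.lTensor m.ResidueField g) := by
  intro y
  obtain ⟨y, rfl⟩ := (rTensorQuotEquiv m N').surjective y
  rw [← rTensorQuotEquiv_natural, LinearEquiv.map_eq_zero_iff, h y]
  constructor
  · rintro ⟨x, rfl⟩
    exact ⟨rTensorQuotEquiv m N x, (rTensorQuotEquiv_natural m f x).symm⟩
  · rintro ⟨x, hx⟩
    obtain ⟨x, rfl⟩ := (rTensorQuotEquiv m N).surjective x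
    rw [← rTensorQuotEquiv_natural] at hx
    exact ⟨x, (rTensorQuotEquiv m N').injective hx⟩


/-- If `ε ≫ δ = 0` and `κ ⊗ ε`, `κ ⊗ δ` is exact, then `κ ⊗ (im δ ↪ F)` is injective. -/
theorem lTensor_subtype_range_injective {p : Ideal A} [p.IsPrime]
    {P M F : Type v} [AddCommGroup P] [Module A P]
    [AddCommGroup M] [Module A M] [AddCommGroup F] [Module A F]
    (ε : P →ₗ[A] M) (δ : M →ₗ[A] F) (hεδ : δ ∘ₗ ε = 0)
    (h : Function.Exact (LinearMap.lTensor p.ResidueField ε)
      (LinearMap.lTensor p.ResidueField δ)) :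
    Function.Injective (LinearMap.lTensor p.ResidueField (LinearMap.range δ).subtype) := by
  set κ := p.ResidueField
  let δ' : M →ₗ[A] LinearMap.range δ := δ.rangeRestrict
  let ι : LinearMap.range δ →ₗ[A] F := (LinearMap.range δ).subtype
  have hδ : δ = ι ∘ₗ δ' := by ext x; rfl
  have hδ'ε : δ' ∘ₗ ε = 0 := by
    ext x
    have := LinearMap.congr_fun hεδ x
    simpa [δ'] using this
  have hsurjκ : Function.Surjective (LinearMap.lTensor κ δ') :=
    LinearMap.lTensor_surjective κ (LinearMap.surjective_rangeRestrict δ)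
  have hcomp : LinearMap.lTensor κ δ = LinearMap.lTensor κ ι ∘ₗ LinearMap.lTensor κ δ' := by
    rw [← LinearMap.lTensor_comp, ← hδ]
  rw [injective_iff_map_eq_zero]
  intro x hx
  obtain ⟨y, rfl⟩ := hsurjκ x
  have hy : LinearMap.lTensor κ δ y = 0 := by rw [hcomp]; exact hx
  obtain ⟨z, rfl⟩ := (h y).mp hy
  rw [← LinearMap.comp_apply, ← LinearMap.lTensor_comp, hδ'ε, LinearMap.lTensor_zero,
    LinearMap.zero_apply]

/-- Projectivity of a cokernel from exactness after tensoring with all `A ⧸ m`. -/
theorem projective_quotient_of_exact_rTensor [IsNoetherianRing A]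
    {P M F : Type u} [AddCommGroup P] [Module A P]
    [AddCommGroup M] [Module A M] [AddCommGroup F] [Module A F]
    [Module.Finite A M] [Module.Finite A F] [Module.Projective A F]
    (ε : P →ₗ[A] M) (δ : M →ₗ[A] F) (hεδ : δ ∘ₗ ε = 0)
    (h : ∀ (m : Ideal A) [m.IsMaximal],
      Function.Exact (LinearMap.rTensor (A ⧸ m) ε) (LinearMap.rTensor (A ⧸ m) δ)) :
    Module.Projective A (F ⧸ LinearMap.range δ) := by
  have : Module.FinitePresentation A (F ⧸ LinearMap.range δ) :=
    Module.finitePresentation_of_finite A _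
  apply Module.projective_of_localization_maximal
  intro m hm
  have hinj := lTensor_subtype_range_injective (p := m) ε δ hεδ
    (lTensor_exact_of_rTensor_quot_exact m ε δ (h m))
  have hfree := free_localized_quotient m (LinearMap.range δ).subtype hinj
  have hr : LinearMap.range (LinearMap.range δ).subtype = LinearMap.range δ :=
    Submodule.range_subtype _
  rw [hr] at hfree
  infer_instance

end Groth.Agent.Lib.Seat67.LocCrit
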