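import Mathlib
import Groth.Agent.Lib.Helper4DimFormulaAV
import Groth.Agent.Lib.Helper5FFR

/-!
# Matrix factorizations over hypersurfaces `R = S/(f)` with `S` regular local of dimension two (seat 67)

* `one_le_depth`, `pdLT_two`: a finite module over a two-dimensional regular local ring with a
  regular element in the maximal ideal has projective dimension `≤ 1` (Auslander–Buchsbaum).
* `exists_matrixFactorization`: for `π : S → R` surjective with kernel `(f)` and a finite nonzero
  `R`-module `M` with a regular element in the maximal ideal, there are `p : Rⁿ → M` surjective and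
  matrices `A`, `B` over `R` with `ker p = im A`, `B A = 0`, `ker A ⊆ im B` (2-periodic resolution).
* `hom_eq_zero`: no homs `X → N` if `I X = 0`, `J N = 0`, `𝔪ᵏ ≤ I + J` and `N` has a regular element.
* `ext_two_eq_zero_of_presentation`: `Ext²_R(M, N) = 0` from such a presentation.
-/

set_option autoImplicit false
universe u

namespace Groth.Agent.Lib.Seat67.MatFac

open CategoryTheory

section Depth

variable {S : Type u} [CommRing S] [IsLocalRing S]

/-- a regular element in the maximal ideal gives depth ≥ 1. -/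
theorem one_le_depth (M : Type u) [AddCommGroup M] [Module S M] (x : S)
    (hx : x ∈ IsLocalRing.maximalIdeal S) (hxM : IsSMulRegular M x) :
    1 ≤ LocCoh.depth S M := by
  unfold LocCoh.depth LocCoh.idealDepth
  split_ifs with h
  · exact le_top
  · have hreg : RingTheory.Sequence.IsWeaklyRegular M [x] := by
      rw [RingTheory.Sequence.isWeaklyRegular_cons_iff]
      exact ⟨hxM, RingTheory.Sequence.IsWeaklyRegular.nil _ _⟩
    have := le_iSup₂ (f := fun (rs : List S)
      (_ : RingTheory.Sequence.IsWeaklyRegular M rs ∧ ∀ r ∈ rs, r ∈ IsLocalRing.maximalIdeal S) =>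
        (rs.length : ℕ∞)) [x] ⟨hreg, by simpa using hx⟩
    simpa using this

end Depth

section PD

variable (S : Type u) [CommRing S] [IsRegularLocalRing S]

/-- Over a two-dimensional regular local ring, a finite module with a regular element in the
maximal ideal has projective dimension at most one. -/
theorem pdLT_two (hS : ringKrullDim S = 2) (M : Type u) [AddCommGroup M] [Module S M]
    [Module.Finite S M] [Nontrivial M] (x : S)
    (hx : x ∈ IsLocalRing.maximalIdeal S) (hxM : IsSMulRegular M x) :
    HasProjectiveDimensionLT (ModuleCat.of S M) 2 := by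
  have hAB := Groth.Agent.Lib.Helper4.DimFormula.depth_add_projectiveDimension_eq_ringKrullDim S M
  obtain ⟨e, he⟩ := Groth.Agent.Lib.Helper4.DimFormula.exists_nat_projectiveDimension_eq S M
  have hd := one_le_depth M x hx hxM
  rw [← projectiveDimension_lt_iff, he]
  rw [he, hS] at hAB
  -- (depth : WithBot ℕ∞) + e = 2
  have h1 : ((LocCoh.depth S M + (e : ℕ∞) : ℕ∞) : WithBot ℕ∞) = ((2 : ℕ∞) : WithBot ℕ∞) := hAB
  have h2 : LocCoh.depth S M + (e : ℕ∞) = 2 := WithBot.coe_injective h1
  have h3 : (1 : ℕ∞) + (e : ℕ∞) ≤ 2 := by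
    rw [← h2]; gcongr
  have h4 : e ≤ 1 := by
    have : ((1 + e : ℕ) : ℕ∞) ≤ ((2 : ℕ) : ℕ∞) := by push_cast; exact h3
    have := Nat.cast_le.mp this
    omega
  have h5 : ((e : ℕ∞) : WithBot ℕ∞) < ((2 : ℕ∞) : WithBot ℕ∞) := by
    rw [WithBot.coe_lt_coe]
    exact_mod_cast (by omega : e < 2)
  exact h5

end PD

section MF

open IsLocalRing

variable {S : Type u} [CommRing S] {R : Type u} [CommRing R] (π : S →+* R)
  {M : Type u} [AddCommGroup M] [Module R M]

/-- The pullback to `Sⁿ` of the kernel of `p : Rⁿ → M`. -/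
def pullK {n : ℕ} (p : (Fin n → R) →ₗ[R] M) : Submodule S (Fin n → S) where
  carrier := {u | p (fun i => π (u i)) = 0}
  add_mem' := by
    intro a b ha hb
    simp only [Set.mem_ofPred_eq] at *
    have : (fun i => π ((a + b) i)) = (fun i => π (a i)) + (fun i => π (b i)) := by
      ext i; simp
    rw [this, map_add, ha, hb, add_zero]
  zero_mem' := by
    simp only [Set.mem_ofPred_eq, Pi.zero_apply, map_zero]
    exact map_zero p
  smul_mem' := by
    intro c a ha
    have : (fun i => π ((c • a) i)) = π c • (fun i => π (a i)) := by ext i; simp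
    simp only [Set.mem_ofPred_eq] at *
    rw [this, map_smul, ha, smul_zero]

theorem mem_pullK {n : ℕ} (p : (Fin n → R) →ₗ[R] M) (u : Fin n → S) :
    u ∈ pullK π p ↔ p (fun i => π (u i)) = 0 := Iff.rfl

variable [IsRegularLocalRing S] [IsLocalRing R]

theorem exists_matrixFactorization (hS : ringKrullDim S = 2) (hπ : Function.Surjective π)
    (f : S) (hker : RingHom.ker π = Ideal.span {f})
    [Module.Finite R M] [Nontrivial M] (x : R) (hx : x ∈ maximalIdeal R)
    (hxM : IsSMulRegular M x) :
    ∃ (n m : ℕ) (p : (Fin n → R) →ₗ[R] M) (A : Matrix (Fin n) (Fin m) R)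
      (B : Matrix (Fin m) (Fin n) R),
      Function.Surjective p ∧ (∀ w, p (A.mulVec w) = 0) ∧
      (∀ v, p v = 0 → ∃ w, A.mulVec w = v) ∧
      (∀ w, B.mulVec (A.mulVec w) = 0) ∧ (∀ w, A.mulVec w = 0 → ∃ v, B.mulVec v = w) := by
  classical
  have : IsDomain S := Groth.Agent.Lib.Helper5.isDomain_of_isRegularLocalRing S
  obtain ⟨n, p, hp⟩ := Module.Finite.exists_fin' R M
  set K := pullK π p with hK
  have hlift : ∀ {k : ℕ} (v : Fin k → R), ∃ u : Fin k → S, (fun i => π (u i)) = v := by
    intro k v
    exact ⟨fun i => (hπ (v i)).choose, funext fun i => (hπ (v i)).choose_spec⟩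
  have hπf : π f = 0 := by
    have : f ∈ RingHom.ker π := by rw [hker]; exact Ideal.mem_span_singleton_self f
    exact this
  -- nontriviality
  have hKtop : K ≠ ⊤ := by
    intro htop
    obtain ⟨a, ha⟩ := exists_ne (0 : M)
    obtain ⟨v, rfl⟩ := hp a
    obtain ⟨u, rfl⟩ := hlift v
    have : u ∈ K := by rw [htop]; trivial
    exact ha this
  have : Nontrivial ((Fin n → S) ⧸ K) := Submodule.Quotient.nontrivial_iff.mpr hKtop
  -- regular element
  obtain ⟨x', rfl⟩ := hπ x
  have hx' : x' ∈ maximalIdeal S := by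
    rw [mem_maximalIdeal, mem_nonunits_iff]
    intro hu
    exact hx (hu.map π)
  have hreg : IsSMulRegular ((Fin n → S) ⧸ K) x' := by
    rw [isSMulRegular_iff_right_eq_zero_of_smul]
    intro a ha
    obtain ⟨u, rfl⟩ := Submodule.Quotient.mk_surjective K a
    rw [← Submodule.Quotient.mk_smul, Submodule.Quotient.mk_eq_zero, hK, mem_pullK] at ha
    rw [Submodule.Quotient.mk_eq_zero, hK, mem_pullK]
    have h1 : (fun i => π ((x' • u) i)) = π x' • (fun i => π (u i)) := by ext i; simp
    rw [h1, map_smul] at ha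
    exact (isSMulRegular_iff_right_eq_zero_of_smul.mp hxM) _ ha
  have hpd := pdLT_two S hS ((Fin n → S) ⧸ K) x' hx' hreg
  -- K projective
  have hex : Function.Exact K.subtype K.mkQ := LinearMap.exact_subtype_mkQ K
  let SC : ShortComplex (ModuleCat.{u} S) :=
    ShortComplex.mk (ModuleCat.ofHom K.subtype) (ModuleCat.ofHom K.mkQ) (by
      ext x
      exact hex.apply_apply_eq_zero x)
  have hSC : SC.ShortExact :=
    ShortComplex.ShortExact.mk'
      ((ShortComplex.moduleCat_exact_iff _).mpr fun x hx => (hex x).mp hx)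
      ((ModuleCat.mono_iff_injective _).mpr (Submodule.injective_subtype _))
      ((ModuleCat.epi_iff_surjective _).mpr (Submodule.mkQ_surjective _))
  have hFproj : Projective (ModuleCat.of S (Fin n → S)) :=
    (IsProjective.iff_projective _).mp inferInstance
  have hF1 : HasProjectiveDimensionLT (ModuleCat.of S (Fin n → S)) 1 :=
    projective_iff_hasProjectiveDimensionLT_one.mp hFproj
  have hK1 : HasProjectiveDimensionLT (ModuleCat.of S K) 1 :=
    hSC.hasProjectiveDimensionLT_X₁ 1 hF1 hpd
  have hKp : Projective (ModuleCat.of S K) := projective_iff_hasProjectiveDimensionLT_one.mpr hK1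
  have : Module.Projective S K := (IsProjective.iff_projective K).mpr hKp
  have : Module.Finite S K := Module.IsNoetherian.finite S K
  have : Module.Free S K := Module.free_of_flat_of_isLocalRing
  let b := Module.finBasis S K
  set m := Module.finrank S K with hm
  -- the map A
  let Al : (Fin m → S) →ₗ[S] (Fin n → S) := K.subtype ∘ₗ b.equivFun.symm.toLinearMap
  have hAl_inj : Function.Injective Al :=
    (Submodule.injective_subtype K).comp b.equivFun.symm.injective
  have hAl_mem : ∀ w, Al w ∈ K := fun w => (b.equivFun.symm w).2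
  have hAl_surj : ∀ v ∈ K, ∃ w, Al w = v := by
    intro v hv
    refine ⟨b.equivFun ⟨v, hv⟩, ?_⟩
    simp [Al]
  have hfK : ∀ u : Fin n → S, f • u ∈ K := by
    intro u
    rw [hK, mem_pullK]
    have h1 : (fun i => π ((f • u) i)) = π f • (fun i => π (u i)) := by ext i; simp
    rw [h1, hπf, zero_smul, map_zero]
  let b' : Fin n → (Fin m → S) := fun i => b.equivFun ⟨f • Pi.single i 1, hfK _⟩
  let Bl : (Fin n → S) →ₗ[S] (Fin m → S) := (Pi.basisFun S (Fin n)).constr S b'
  have hAB : ∀ u, Al (Bl u) = f • u := by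
    have : Al ∘ₗ Bl = f • LinearMap.id := by
      apply (Pi.basisFun S (Fin n)).ext
      intro i
      simp [Al, Bl, b']
    intro u
    have := congrArg (fun g => g u) this
    simpa using this
  have hBA : ∀ w, Bl (Al w) = f • w := by
    intro w
    apply hAl_inj
    rw [hAB, map_smul]
  -- matrices
  let MA := LinearMap.toMatrix' Al
  let MB := LinearMap.toMatrix' Bl
  have hMA : ∀ w, MA.mulVec w = Al w := fun w => LinearMap.toMatrix'_mulVec Al w
  have hMB : ∀ w, MB.mulVec w = Bl w := fun w => LinearMap.toMatrix'_mulVec Bl w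
  have hAπ : ∀ w : Fin m → S, (MA.map π).mulVec (fun i => π (w i)) = fun i => π (Al w i) := by
    intro w
    ext i
    rw [← hMA]
    exact (RingHom.map_mulVec π MA w i).symm
  have hBπ : ∀ w : Fin n → S, (MB.map π).mulVec (fun i => π (w i)) = fun i => π (Bl w i) := by
    intro w
    ext i
    rw [← hMB]
    exact (RingHom.map_mulVec π MB w i).symm
  refine ⟨n, m, p, MA.map π, MB.map π, hp, ?_, ?_, ?_, ?_⟩
  · intro w
    obtain ⟨w, rfl⟩ := hlift w
    rw [hAπ]
    exact hAl_mem w
  · intro v hv
    obtain ⟨v, rfl⟩ := hlift v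
    obtain ⟨w, hw⟩ := hAl_surj v hv
    refine ⟨fun i => π (w i), ?_⟩
    rw [hAπ, hw]
  · intro w
    obtain ⟨w, rfl⟩ := hlift w
    rw [hAπ, hBπ, hBA]
    ext i
    simp [hπf]
  · intro w hw
    obtain ⟨w, rfl⟩ := hlift w
    rw [hAπ] at hw
    -- each component of Al w is in (f)
    have hcomp : ∀ i, ∃ c : S, c * f = Al w i := by
      intro i
      have h1 : Al w i ∈ RingHom.ker π := congrFun hw i
      rw [hker] at h1
      exact Ideal.mem_span_singleton'.mp h1
    choose v hv using hcomp
    have h2 : Al w = f • v := by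
      ext i
      rw [← hv i]
      simp [mul_comm]
    have h3 : w = Bl v := by
      apply hAl_inj
      rw [hAB, h2]
    refine ⟨fun i => π (v i), ?_⟩
    rw [hBπ, ← h3]

end MF

section Hom

open IsLocalRing

variable {R : Type u} [CommRing R] [IsLocalRing R]

/-- Modules with "disjoint supports away from the closed point", the target having a regular
element: no nonzero homomorphisms. -/
theorem hom_eq_zero (I J : Ideal R) (n : ℕ) (hIJ : maximalIdeal R ^ n ≤ I ⊔ J)
    {X N : Type*} [AddCommGroup X] [Module R X] [AddCommGroup N] [Module R N]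
    (hI : ∀ a ∈ I, ∀ z : X, a • z = 0) (hJ : J ≤ Module.annihilator R N)
    (y : R) (hy : y ∈ maximalIdeal R) (hyN : IsSMulRegular N y) (φ : X →ₗ[R] N) : φ = 0 := by
  ext z
  have hyn : y ^ n ∈ I ⊔ J := hIJ (Ideal.pow_mem_pow hy n)
  obtain ⟨a, ha, b, hb, hab⟩ := Submodule.mem_sup.mp hyn
  have h1 : y ^ n • φ z = 0 := by
    rw [← hab, add_smul, ← map_smul, hI a ha z, map_zero, zero_add]
    exact Module.mem_annihilator.mp (hJ hb) _
  exact (isSMulRegular_iff_right_eq_zero_of_smul.mp (hyN.pow n)) _ h1

end Hom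

section ExtVanish

open IsLocalRing CategoryTheory.Abelian

variable {R : Type u} [CommRing R]

theorem ext_eq_zero_of_isZero_left {X Y : ModuleCat.{u} R} (hX : Limits.IsZero X) {k : ℕ}
    (x : Ext X Y k) : x = 0 := by
  have h1 : x = (Ext.mk₀ (𝟙 X)).comp x (zero_add k) := by simp
  rw [h1, hX.eq_of_src (𝟙 X) 0, Ext.mk₀_zero, Ext.zero_comp]

variable [IsLocalRing R]

/-- the main vanishing statement, from a "matrix factorization" presentation. -/
theorem ext_two_eq_zero_of_presentation {M N : Type u} [AddCommGroup M] [Module R M]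
    [AddCommGroup N] [Module R N] (I J : Ideal R) (k : ℕ)
    (hIJ : maximalIdeal R ^ k ≤ I ⊔ J) (hI : I ≤ Module.annihilator R M)
    (hJ : J ≤ Module.annihilator R N) (y : R) (hy : y ∈ maximalIdeal R) (hyN : IsSMulRegular N y)
    (n m : ℕ) (p : (Fin n → R) →ₗ[R] M) (A : Matrix (Fin n) (Fin m) R)
    (B : Matrix (Fin m) (Fin n) R)
    (hp : Function.Surjective p) (h1 : ∀ w, p (A.mulVec w) = 0)
    (h2 : ∀ v, p v = 0 → ∃ w, A.mulVec w = v)
    (h3 : ∀ w, B.mulVec (A.mulVec w) = 0) (h4 : ∀ w, A.mulVec w = 0 → ∃ v, B.mulVec v = w)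
    (x : Ext (ModuleCat.of R M) (ModuleCat.of R N) 2) : x = 0 := by
  -- first short exact sequence
  let Ω := LinearMap.ker p
  have hex1 : Function.Exact Ω.subtype p := LinearMap.exact_subtype_ker_map p
  let SC1 : ShortComplex (ModuleCat.{u} R) :=
    ShortComplex.mk (ModuleCat.ofHom Ω.subtype) (ModuleCat.ofHom p) (by
      ext z
      exact hex1.apply_apply_eq_zero z)
  have hSC1 : SC1.ShortExact :=
    ShortComplex.ShortExact.mk'
      ((ShortComplex.moduleCat_exact_iff _).mpr fun z hz => (hex1 z).mp hz)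
      ((ModuleCat.mono_iff_injective _).mpr (Submodule.injective_subtype _))
      ((ModuleCat.epi_iff_surjective _).mpr hp)
  -- second short exact sequence
  let g : (Fin m → R) →ₗ[R] Ω := LinearMap.codRestrict Ω A.mulVecLin (fun w => h1 w)
  have hg : Function.Surjective g := by
    rintro ⟨v, hv⟩
    obtain ⟨w, hw⟩ := h2 v hv
    exact ⟨w, Subtype.ext hw⟩
  let Ω2 := LinearMap.ker g
  have hex2 : Function.Exact Ω2.subtype g := LinearMap.exact_subtype_ker_map g
  let SC2 : ShortComplex (ModuleCat.{u} R) :=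
    ShortComplex.mk (ModuleCat.ofHom Ω2.subtype) (ModuleCat.ofHom g) (by
      apply ModuleCat.hom_ext
      apply LinearMap.ext
      intro z
      exact hex2.apply_apply_eq_zero z)
  have hSC2 : SC2.ShortExact :=
    ShortComplex.ShortExact.mk'
      ((ShortComplex.moduleCat_exact_iff _).mpr fun z hz => (hex2 z).mp hz)
      ((ModuleCat.mono_iff_injective _).mpr (Submodule.injective_subtype _))
      ((ModuleCat.epi_iff_surjective _).mpr hg)
  -- projectivity
  have hP1 : Projective (ModuleCat.of R (Fin n → R)) :=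
    (IsProjective.iff_projective _).mp inferInstance
  have hP2 : Projective (ModuleCat.of R (Fin m → R)) :=
    (IsProjective.iff_projective _).mp inferInstance
  have : Projective SC1.X₂ := hP1
  have : Projective SC2.X₂ := hP2
  -- Ω2 is killed by I
  have hΩ2 : ∀ a ∈ I, ∀ z : Ω2, a • z = 0 := by
    intro a ha z
    have hz : A.mulVec z.1 = 0 := by
      have := z.2
      rw [LinearMap.mem_ker] at this
      exact congrArg Subtype.val this
    obtain ⟨v, hv⟩ := h4 z.1 hz
    have hpv : p (a • v) = 0 := by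
      rw [map_smul]
      exact Module.mem_annihilator.mp (hI ha) _
    obtain ⟨w', hw'⟩ := h2 _ hpv
    apply Subtype.ext
    show a • z.1 = 0
    rw [← hv, ← Matrix.mulVec_smul, ← hw', h3]
  -- dimension shifting
  obtain ⟨x1, hx1⟩ := Ext.contravariant_sequence_exact₃ hSC1 (ModuleCat.of R N) x
    (Ext.eq_zero_of_projective _) (show 1 + 1 = 2 by rfl)
  obtain ⟨x0, hx0⟩ := Ext.contravariant_sequence_exact₃ hSC2 (ModuleCat.of R N) x1
    (Ext.eq_zero_of_projective _) (show 1 + 0 = 1 by rfl)
  have hx0z : x0 = 0 := by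
    obtain ⟨φ, rfl⟩ := (Ext.mk₀_bijective _ _).2 x0
    have : φ = 0 := by
      apply ModuleCat.hom_ext
      exact hom_eq_zero I J k hIJ hΩ2 hJ y hy hyN φ.hom
    rw [this, Ext.mk₀_zero]
  rw [← hx1, ← hx0, hx0z, Ext.comp_zero, Ext.comp_zero]

end ExtVanish

end Groth.Agent.Lib.Seat67.MatFac
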