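import Mathlib
import Groth.Agent.Lib.Seat67MatFac
import Groth.Agent.Lib.Helper13TorBal

/-!
# Tor vanishing from matrix factorizations (seat 67)

* `piTensor`, `piTensor_rTensor`: `(Fin k → R) ⊗ L ≃ (Fin k → L)` and its compatibility with matrices.
* `exists_matrixFactorization'`: as `Seat67.MatFac.exists_matrixFactorization`, with the extra
  exactness `ker B ⊆ im A`.
* `tor_one_dual_isZero_of_presentation`: `Tor₁^R(M, Hom_R(N, R)) = 0` (Mathlib's `Tor`) from such a
  presentation of `M` when `M`, `N` are killed by `I`, `J` with `𝔪ᵏ ≤ I + J`.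
-/

set_option autoImplicit false
universe u

namespace Groth.Agent.Lib.Seat67.MatFacTor

open CategoryTheory TensorProduct

section Tensor

variable {R : Type u} [CommRing R] {L : Type u} [AddCommGroup L] [Module R L]

/-- `(Fin k → R) ⊗ L ≃ (Fin k → L)`. -/
noncomputable def piTensor (k : ℕ) : (Fin k → R) ⊗[R] L ≃ₗ[R] (Fin k → L) :=
  (TensorProduct.comm R _ _).trans (TensorProduct.piScalarRight R R L (Fin k))

theorem piTensor_tmul (k : ℕ) (v : Fin k → R) (φ : L) :
    piTensor k (v ⊗ₜ[R] φ) = fun i => v i • φ := by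
  simp [piTensor, TensorProduct.piScalarRightHom_tmul]

theorem piTensor_rTensor {n m : ℕ} (A : Matrix (Fin n) (Fin m) R) (t : (Fin m → R) ⊗[R] L) :
    piTensor n (LinearMap.rTensor L A.mulVecLin t) =
      fun i => ∑ j, A i j • (piTensor m t) j := by
  induction t using TensorProduct.induction_on with
  | zero =>
    simp only [map_zero, Pi.zero_apply, smul_zero, Finset.sum_const_zero]
    rfl
  | tmul v φ =>
    rw [LinearMap.rTensor_tmul, piTensor_tmul, piTensor_tmul]
    ext i
    simp only [Matrix.mulVecLin_apply, Matrix.mulVec, dotProduct, Finset.sum_smul, smul_smul]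
  | add a b ha hb =>
    rw [map_add, map_add, ha, hb, map_add]
    ext i
    simp [Finset.sum_add_distrib]

end Tensor

section MF

open IsLocalRing Groth.Agent.Lib.Seat67.MatFac

variable {S : Type u} [CommRing S] {R : Type u} [CommRing R] (π : S →+* R)
  {M : Type u} [AddCommGroup M] [Module R M]

variable [IsRegularLocalRing S] [IsLocalRing R]

theorem exists_matrixFactorization' (hS : ringKrullDim S = 2) (hπ : Function.Surjective π)
    (f : S) (hf : f ≠ 0) (hker : RingHom.ker π = Ideal.span {f})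
    [Module.Finite R M] [Nontrivial M] (x : R) (hx : x ∈ maximalIdeal R)
    (hxM : IsSMulRegular M x) :
    ∃ (n m : ℕ) (p : (Fin n → R) →ₗ[R] M) (A : Matrix (Fin n) (Fin m) R)
      (B : Matrix (Fin m) (Fin n) R),
      Function.Surjective p ∧ (∀ w, p (A.mulVec w) = 0) ∧
      (∀ v, p v = 0 → ∃ w, A.mulVec w = v) ∧
      (∀ w, B.mulVec (A.mulVec w) = 0) ∧ (∀ w, A.mulVec w = 0 → ∃ v, B.mulVec v = w) ∧
      (∀ v, B.mulVec v = 0 → ∃ w, A.mulVec w = v) := by
  classical
  have : IsDomain S := Groth.Agent.Lib.Helper5.isDomain_of_isRegularLocalRing S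
  obtain ⟨n, p, hp⟩ := Module.Finite.exists_fin' R M
  set K := pullK π p with hK
  have hlift : ∀ {k : ℕ} (v : Fin k → R), ∃ u : Fin k → S, (fun i => π (u i)) = v := by
    intro k v
    exact ⟨fun i => (hπ (v i)).choose, funext fun i => (hπ (v i)).choose_spec⟩
  have hπf : π f = 0 := by
    have : f ∈ RingHom.ker π := by rw [hker]; exact Ideal.mem_span_singleton_self f
    exact this
  -- nontriviality
  have hKtop : K ≠ ⊤ := by
    intro htop
    obtain ⟨a, ha⟩ := exists_ne (0 : M)
    obtain ⟨v, rfl⟩ := hp a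
    obtain ⟨u, rfl⟩ := hlift v
    have : u ∈ K := by rw [htop]; trivial
    exact ha this
  have : Nontrivial ((Fin n → S) ⧸ K) := Submodule.Quotient.nontrivial_iff.mpr hKtop
  -- regular element
  obtain ⟨x', rfl⟩ := hπ x
  have hx' : x' ∈ maximalIdeal S := by
    rw [mem_maximalIdeal, mem_nonunits_iff]
    intro hu
    exact hx (hu.map π)
  have hreg : IsSMulRegular ((Fin n → S) ⧸ K) x' := by
    rw [isSMulRegular_iff_right_eq_zero_of_smul]
    intro a ha
    obtain ⟨u, rfl⟩ := Submodule.Quotient.mk_surjective K a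
    rw [← Submodule.Quotient.mk_smul, Submodule.Quotient.mk_eq_zero, hK, mem_pullK] at ha
    rw [Submodule.Quotient.mk_eq_zero, hK, mem_pullK]
    have h1 : (fun i => π ((x' • u) i)) = π x' • (fun i => π (u i)) := by ext i; simp
    rw [h1, map_smul] at ha
    exact (isSMulRegular_iff_right_eq_zero_of_smul.mp hxM) _ ha
  have hpd := pdLT_two S hS ((Fin n → S) ⧸ K) x' hx' hreg
  -- K projective
  have hex : Function.Exact K.subtype K.mkQ := LinearMap.exact_subtype_mkQ K
  let SC : ShortComplex (ModuleCat.{u} S) :=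
    ShortComplex.mk (ModuleCat.ofHom K.subtype) (ModuleCat.ofHom K.mkQ) (by
      ext x
      exact hex.apply_apply_eq_zero x)
  have hSC : SC.ShortExact :=
    ShortComplex.ShortExact.mk'
      ((ShortComplex.moduleCat_exact_iff _).mpr fun x hx => (hex x).mp hx)
      ((ModuleCat.mono_iff_injective _).mpr (Submodule.injective_subtype _))
      ((ModuleCat.epi_iff_surjective _).mpr (Submodule.mkQ_surjective _))
  have hFproj : Projective (ModuleCat.of S (Fin n → S)) :=
    (IsProjective.iff_projective _).mp inferInstance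
  have hF1 : HasProjectiveDimensionLT (ModuleCat.of S (Fin n → S)) 1 :=
    projective_iff_hasProjectiveDimensionLT_one.mp hFproj
  have hK1 : HasProjectiveDimensionLT (ModuleCat.of S K) 1 :=
    hSC.hasProjectiveDimensionLT_X₁ 1 hF1 hpd
  have hKp : Projective (ModuleCat.of S K) := projective_iff_hasProjectiveDimensionLT_one.mpr hK1
  have : Module.Projective S K := (IsProjective.iff_projective K).mpr hKp
  have : Module.Finite S K := Module.IsNoetherian.finite S K
  have : Module.Free S K := Module.free_of_flat_of_isLocalRing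
  let b := Module.finBasis S K
  set m := Module.finrank S K with hm
  -- the map A
  let Al : (Fin m → S) →ₗ[S] (Fin n → S) := K.subtype ∘ₗ b.equivFun.symm.toLinearMap
  have hAl_inj : Function.Injective Al :=
    (Submodule.injective_subtype K).comp b.equivFun.symm.injective
  have hAl_mem : ∀ w, Al w ∈ K := fun w => (b.equivFun.symm w).2
  have hAl_surj : ∀ v ∈ K, ∃ w, Al w = v := by
    intro v hv
    refine ⟨b.equivFun ⟨v, hv⟩, ?_⟩
    simp [Al]
  have hfK : ∀ u : Fin n → S, f • u ∈ K := by
    intro u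
    rw [hK, mem_pullK]
    have h1 : (fun i => π ((f • u) i)) = π f • (fun i => π (u i)) := by ext i; simp
    rw [h1, hπf, zero_smul, map_zero]
  let b' : Fin n → (Fin m → S) := fun i => b.equivFun ⟨f • Pi.single i 1, hfK _⟩
  let Bl : (Fin n → S) →ₗ[S] (Fin m → S) := (Pi.basisFun S (Fin n)).constr S b'
  have hAB : ∀ u, Al (Bl u) = f • u := by
    have : Al ∘ₗ Bl = f • LinearMap.id := by
      apply (Pi.basisFun S (Fin n)).ext
      intro i
      simp [Al, Bl, b']
    intro u
    have := congrArg (fun g => g u) this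
    simpa using this
  have hBA : ∀ w, Bl (Al w) = f • w := by
    intro w
    apply hAl_inj
    rw [hAB, map_smul]
  -- matrices
  let MA := LinearMap.toMatrix' Al
  let MB := LinearMap.toMatrix' Bl
  have hMA : ∀ w, MA.mulVec w = Al w := fun w => LinearMap.toMatrix'_mulVec Al w
  have hMB : ∀ w, MB.mulVec w = Bl w := fun w => LinearMap.toMatrix'_mulVec Bl w
  have hAπ : ∀ w : Fin m → S, (MA.map π).mulVec (fun i => π (w i)) = fun i => π (Al w i) := by
    intro w
    ext i
    rw [← hMA]
    exact (RingHom.map_mulVec π MA w i).symm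
  have hBπ : ∀ w : Fin n → S, (MB.map π).mulVec (fun i => π (w i)) = fun i => π (Bl w i) := by
    intro w
    ext i
    rw [← hMB]
    exact (RingHom.map_mulVec π MB w i).symm
  refine ⟨n, m, p, MA.map π, MB.map π, hp, ?_, ?_, ?_, ?_, ?_⟩
  · intro w
    obtain ⟨w, rfl⟩ := hlift w
    rw [hAπ]
    exact hAl_mem w
  · intro v hv
    obtain ⟨v, rfl⟩ := hlift v
    obtain ⟨w, hw⟩ := hAl_surj v hv
    refine ⟨fun i => π (w i), ?_⟩
    rw [hAπ, hw]
  · intro w
    obtain ⟨w, rfl⟩ := hlift w
    rw [hAπ, hBπ, hBA]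
    ext i
    simp [hπf]
  · intro w hw
    obtain ⟨w, rfl⟩ := hlift w
    rw [hAπ] at hw
    -- each component of Al w is in (f)
    have hcomp : ∀ i, ∃ c : S, c * f = Al w i := by
      intro i
      have h1 : Al w i ∈ RingHom.ker π := congrFun hw i
      rw [hker] at h1
      exact Ideal.mem_span_singleton'.mp h1
    choose v hv using hcomp
    have h2 : Al w = f • v := by
      ext i
      rw [← hv i]
      simp [mul_comm]
    have h3 : w = Bl v := by
      apply hAl_inj
      rw [hAB, h2]
    refine ⟨fun i => π (v i), ?_⟩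
    rw [hBπ, ← h3]
  · intro v hv
    obtain ⟨v, rfl⟩ := hlift v
    rw [hBπ] at hv
    have hcomp : ∀ i, ∃ c : S, c * f = Bl v i := by
      intro i
      have h1 : Bl v i ∈ RingHom.ker π := congrFun hv i
      rw [hker] at h1
      exact Ideal.mem_span_singleton'.mp h1
    choose u hu using hcomp
    have h2 : Bl v = f • u := by
      ext i
      rw [← hu i]
      simp [mul_comm]
    have hBl_inj : ∀ z, Bl z = 0 → z = 0 := by
      intro z hz
      have h3 : f • z = 0 := by rw [← hAB, hz, map_zero]
      ext i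
      have h4 := congrFun h3 i
      simp only [Pi.smul_apply, smul_eq_mul, Pi.zero_apply, mul_eq_zero] at h4
      exact h4.resolve_left hf
    have h3 : v = Al u := by
      have : Bl (v - Al u) = 0 := by rw [map_sub, hBA, h2, sub_self]
      exact sub_eq_zero.mp (hBl_inj _ this)
    refine ⟨fun i => π (u i), ?_⟩
    rw [hAπ, ← h3]

end MF

section TorVanish

open IsLocalRing Groth.Agent.Lib.Seat67.MatFac Groth.Agent.Helper13Tor CategoryTheory.Limits
  MonoidalCategory

variable {R : Type u} [CommRing R] [IsLocalRing R]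

theorem tor_one_dual_isZero_of_presentation {M N : Type u} [AddCommGroup M] [Module R M]
    [AddCommGroup N] [Module R N] (I J : Ideal R) (k : ℕ)
    (hIJ : maximalIdeal R ^ k ≤ I ⊔ J) (hI : I ≤ Module.annihilator R M)
    (hJ : J ≤ Module.annihilator R N) (x : R) (hx : x ∈ maximalIdeal R) (hxM : IsSMulRegular M x)
    (n m : ℕ) (p : (Fin n → R) →ₗ[R] M) (A : Matrix (Fin n) (Fin m) R)
    (B : Matrix (Fin m) (Fin n) R)
    (hp : Function.Surjective p) (h1 : ∀ w, p (A.mulVec w) = 0)
    (h2 : ∀ v, p v = 0 → ∃ w, A.mulVec w = v)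
    (h3 : ∀ w, B.mulVec (A.mulVec w) = 0) (h4 : ∀ w, A.mulVec w = 0 → ∃ v, B.mulVec v = w)
    (h5 : ∀ v, B.mulVec v = 0 → ∃ w, A.mulVec w = v) :
    IsZero (((Tor (ModuleCat.{u} R) 1).obj (ModuleCat.of R M)).obj
      (ModuleCat.of R (Module.Dual R N))) := by
  -- kernel of A
  let Kα := LinearMap.ker A.mulVecLin
  have hKmem : ∀ z : Kα, A.mulVec z.1 = 0 := fun z => z.2
  have hKI : I ≤ Module.annihilator R Kα := by
    intro a ha
    rw [Module.mem_annihilator]
    intro z
    obtain ⟨v, hv⟩ := h4 z.1 (hKmem z)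
    have hpv : p (a • v) = 0 := by
      rw [map_smul]
      exact Module.mem_annihilator.mp (hI ha) _
    obtain ⟨w', hw'⟩ := h2 _ hpv
    apply Subtype.ext
    show a • z.1 = 0
    rw [← hv, ← Matrix.mulVec_smul, ← hw', h3]
  have hKx : IsSMulRegular Kα x := by
    intro z1 z2 h12
    change x • z1 = x • z2 at h12
    apply sub_eq_zero.mp
    have hz : x • (z1 - z2) = 0 := by rw [smul_sub]; exact sub_eq_zero.mpr h12
    generalize z1 - z2 = z at hz
    have hz' : x • z.1 = 0 := congrArg Subtype.val hz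
    obtain ⟨v, hv⟩ := h4 z.1 (hKmem z)
    rw [← hv, ← Matrix.mulVec_smul] at hz'
    obtain ⟨w, hw⟩ := h5 _ hz'
    have hpv : x • p v = 0 := by rw [← map_smul, ← hw, h1]
    have hpv' : p v = 0 := (isSMulRegular_iff_right_eq_zero_of_smul.mp hxM) _ hpv
    obtain ⟨w', hw'⟩ := h2 _ hpv'
    apply Subtype.ext
    show z.1 = 0
    rw [← hv, ← hw', h3]
  have hJN : ∀ a ∈ J, ∀ z : N, a • z = 0 := fun a ha z => Module.mem_annihilator.mp (hJ ha) z
  -- injectivity of `A ⊗ N*`
  have hAinj : Function.Injective (LinearMap.rTensor (Module.Dual R N) A.mulVecLin) := by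
    rw [← LinearMap.ker_eq_bot, LinearMap.ker_eq_bot']
    intro t ht
    have h6 := piTensor_rTensor (L := Module.Dual R N) A t
    rw [ht, map_zero] at h6
    have h7 : ∀ z : N, A.mulVec (fun j => (piTensor m t) j z) = 0 := by
      intro z
      ext i
      have := congrArg (fun φ : Module.Dual R N => φ z) (congrFun h6 i).symm
      simpa [Matrix.mulVec, dotProduct] using this
    let Φ : N →ₗ[R] Kα :=
      LinearMap.codRestrict Kα (LinearMap.pi fun j => (piTensor m t) j) (fun z => h7 z)
    have hΦ : Φ = 0 := hom_eq_zero J I k (by rwa [sup_comm]) hJN hKI x hx hKx Φ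
    have h8 : piTensor m t = 0 := by
      ext j z
      have h9 : (Φ z).1 j = ((0 : N →ₗ[R] Kα) z).1 j := by rw [hΦ]
      exact h9
    exact (piTensor (L := Module.Dual R N) m).injective (by rw [h8, map_zero])
  -- first short exact sequence
  let Ω := LinearMap.ker p
  have hex1 : Function.Exact Ω.subtype p := LinearMap.exact_subtype_ker_map p
  let SC1 : ShortComplex (ModuleCat.{u} R) :=
    ShortComplex.mk (ModuleCat.ofHom Ω.subtype) (ModuleCat.ofHom p) (by
      ext z
      exact hex1.apply_apply_eq_zero z)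
  have hSC1 : SC1.ShortExact :=
    ShortComplex.ShortExact.mk'
      ((ShortComplex.moduleCat_exact_iff _).mpr fun z hz => (hex1 z).mp hz)
      ((ModuleCat.mono_iff_injective _).mpr (Submodule.injective_subtype _))
      ((ModuleCat.epi_iff_surjective _).mpr hp)
  let g : (Fin m → R) →ₗ[R] Ω := LinearMap.codRestrict Ω A.mulVecLin (fun w => h1 w)
  have hg : Function.Surjective g := by
    rintro ⟨v, hv⟩
    obtain ⟨w, hw⟩ := h2 v hv
    exact ⟨w, Subtype.ext hw⟩
  have hιinj : Function.Injective (LinearMap.rTensor (Module.Dual R N) Ω.subtype) := by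
    refine (injective_iff_map_eq_zero _).mpr fun t ht => ?_
    obtain ⟨t', rfl⟩ := LinearMap.rTensor_surjective (Module.Dual R N) hg t
    have h6 : LinearMap.rTensor (Module.Dual R N) A.mulVecLin t' = 0 := by
      rw [← ht, ← LinearMap.rTensor_comp_apply]
      rfl
    rw [hAinj (h6.trans (map_zero _).symm), map_zero]
  -- the Tor sequence
  let Y : ModuleCat.{u} R := ModuleCat.of R (Module.Dual R N)
  obtain ⟨δ, w₁, w₂, hex₁, -⟩ := exists_δ SC1 hSC1 Y 0
  have : Module.Flat R SC1.X₂ := by
    show Module.Flat R (Fin n → R)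
    infer_instance
  have hz : IsZero (((Tor (ModuleCat.{u} R) (0 + 1)).obj SC1.X₂).obj Y) :=
    isZero_tor_of_flat Y SC1.X₂ (0 + 1) (by omega)
  have hδmono : Mono δ := hex₁.mono_g (hz.eq_of_src _ _)
  have hmono : Mono (((Tor (ModuleCat.{u} R) 0).map SC1.f).app Y) := by
    have hnat := (torLZeroIso Y).hom.naturality SC1.f
    have h9 : ((Tor (ModuleCat.{u} R) 0).map SC1.f).app Y =
        (torLZeroIso Y).hom.app SC1.X₁ ≫ (tensorRight Y).map SC1.f ≫
          (torLZeroIso Y).inv.app SC1.X₂ := by
      rw [← Category.assoc, ← hnat, Category.assoc, Iso.hom_inv_id_app, Category.comp_id]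
      rfl
    rw [h9]
    have h10 : Mono ((tensorRight Y).map SC1.f) := by
      rw [ModuleCat.mono_iff_injective]
      exact hιinj
    have h12 : Mono ((torLZeroIso Y).inv.app SC1.X₂) := IsIso.mono_of_iso _
    have h13 : Mono ((torLZeroIso Y).hom.app SC1.X₁) := IsIso.mono_of_iso _
    have h11 : Mono ((tensorRight Y).map SC1.f ≫ (torLZeroIso Y).inv.app SC1.X₂) :=
      @mono_comp _ _ _ _ _ _ h10 _ h12
    exact @mono_comp _ _ _ _ _ _ h13 _ h11
  have hδ0 : δ = 0 := by
    have := hmono
    rw [← cancel_mono (((Tor (ModuleCat.{u} R) 0).map SC1.f).app Y), w₂, zero_comp]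
  exact IsZero.of_mono_eq_zero δ hδ0

end TorVanish

end Groth.Agent.Lib.Seat67.MatFacTor
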