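import Mathlib
import Groth.Agent.Lib.Helper5IntDim

set_option autoImplicit false
set_option linter.style.haveILetI false
set_option linter.unusedSectionVars false
universe u v

namespace Groth.Agent.Lib.Seat67.MvBC

open MvPolynomial

attribute [local instance] MvPolynomial.algebraMvPolynomial

variable (k : Type u) (K : Type v) [Field k] [Field K] [Algebra k K] [Algebra.IsAlgebraic k K]
  (σ : Type*)

theorem flat_mvPolynomial : Module.Flat (MvPolynomial σ k) (MvPolynomial σ K) := by
  have h : Algebra.IsPushout k (MvPolynomial σ k) K (MvPolynomial σ K) := inferInstance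
  exact Module.Flat.isBaseChange (R := k) (S := MvPolynomial σ k) (M := K) _ h.out

theorem isIntegral_mvPolynomial : Algebra.IsIntegral (MvPolynomial σ k) (MvPolynomial σ K) := by
  refine ⟨fun f => ?_⟩
  rw [MvPolynomial.isIntegral_iff_isIntegral_coeff]
  intro n
  exact Algebra.IsIntegral.isIntegral _

theorem faithfulSMul_mvPolynomial : FaithfulSMul (MvPolynomial σ k) (MvPolynomial σ K) := by
  rw [faithfulSMul_iff_algebraMap_injective]
  exact MvPolynomial.map_injective _ (algebraMap k K).injective

theorem faithfullyFlat_mvPolynomial :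
    Module.FaithfullyFlat (MvPolynomial σ k) (MvPolynomial σ K) := by
  haveI := flat_mvPolynomial k K σ
  haveI := isIntegral_mvPolynomial k K σ
  haveI := faithfulSMul_mvPolynomial k K σ
  exact Module.FaithfullyFlat.of_isIntegral_of_isDomain

/-- Krull dimension of a quotient of a polynomial ring is invariant under algebraic extension of
the base field. -/
theorem ringKrullDim_quotient_map (I : Ideal (MvPolynomial σ k)) :
    ringKrullDim (MvPolynomial σ K ⧸ I.map (MvPolynomial.map (algebraMap k K))) =
      ringKrullDim (MvPolynomial σ k ⧸ I) := by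
  haveI := faithfullyFlat_mvPolynomial k K σ
  set φ : MvPolynomial σ k →+* MvPolynomial σ K := MvPolynomial.map (algebraMap k K) with hφ
  set J := I.map φ with hJ
  have hcomap : J.comap φ = I := Ideal.comap_map_eq_self_of_faithfullyFlat (B := MvPolynomial σ K) I
  have hint : φ.IsIntegral := by
    intro f
    exact (isIntegral_mvPolynomial k K σ).isIntegral f
  let ψ : (MvPolynomial σ k ⧸ J.comap φ) →+* (MvPolynomial σ K ⧸ J) := Ideal.quotientMap J φ le_rfl
  have hψint : ψ.IsIntegral := RingHom.IsIntegral.quotient φ hint
  have hψinj : Function.Injective ψ := Ideal.quotientMap_injective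
  letI : Algebra (MvPolynomial σ k ⧸ J.comap φ) (MvPolynomial σ K ⧸ J) := ψ.toAlgebra
  haveI : Algebra.IsIntegral (MvPolynomial σ k ⧸ J.comap φ) (MvPolynomial σ K ⧸ J) := ⟨hψint⟩
  rw [Groth.Agent.Lib.Helper5.ringKrullDim_eq_of_isIntegral_of_injective
    (MvPolynomial σ k ⧸ J.comap φ) (MvPolynomial σ K ⧸ J) hψinj]
  exact ringKrullDim_eq_of_ringEquiv (Ideal.quotEquivOfEq hcomap)

end Groth.Agent.Lib.Seat67.MvBC
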