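import Mathlib
import Groth.Agent.Lib.Helper28LocLoc

/-!
# A Jacobian-type criterion for non-smoothness (seat 67)

* `not_formallySmooth_quotient`: `Q` formally smooth Noetherian local over a field `k`, `0 ≠ J ≤ 𝔪`
  with `d(J) ⊆ 𝔪 Ω_{Q/k}`; then `Q ⧸ J` is not formally smooth over `k`.
* `isLocalization_atPrime_quotient`: `A_p / I A_p` is the localization of `A/I` at `q`.
* `not_isSmoothAt_quotient`: global version for a quotient `R/I` of a formally smooth Noetherian
  domain at a prime `P` with `d(I) ⊆ 𝔭 Ω_R`.
-/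

set_option autoImplicit false
set_option linter.style.haveILetI false
universe u v

namespace Groth.Agent.Lib.Seat67.NonSmooth

open IsLocalRing KaehlerDifferential TensorProduct Groth.Agent.Lib.Helper28

section Local

variable {k : Type u} {Q : Type u} [Field k] [CommRing Q] [IsLocalRing Q] [IsNoetherianRing Q]
  [Algebra k Q] [Algebra.FormallySmooth k Q]

/-- If `J ≠ 0` is a proper ideal of a formally smooth Noetherian local `k`-algebra `Q` with
`d(J) ⊆ 𝔪 Ω`, then `Q ⧸ J` is not formally smooth over `k`. -/
theorem not_formallySmooth_quotient (J : Ideal Q) (hJ0 : J ≠ ⊥) (hJ1 : J ≤ maximalIdeal Q)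
    (hD : ∀ x ∈ J, KaehlerDifferential.D k Q x ∈
      (maximalIdeal Q) • (⊤ : Submodule Q Ω[Q⁄k])) :
    ¬ Algebra.FormallySmooth k (Q ⧸ J) := by
  intro hsm
  have hN : RingHom.ker (algebraMap Q (Q ⧸ J)) = J := by
    rw [Ideal.Quotient.algebraMap_eq, Ideal.mk_ker]
  set N := RingHom.ker (algebraMap Q (Q ⧸ J)) with hNdef
  obtain ⟨l, hl⟩ := (Algebra.FormallySmooth.iff_split_injection (R := k) (P := Q) (A := Q ⧸ J)
    Ideal.Quotient.mk_surjective).mp hsm
  have hlin : ∀ ω ∈ (maximalIdeal Q) • (⊤ : Submodule Q Ω[Q⁄k]),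
      l ((1 : Q ⧸ J) ⊗ₜ[Q] ω) ∈ (maximalIdeal Q) • (⊤ : Submodule Q N.Cotangent) := by
    intro ω hω
    refine Submodule.smul_induction_on hω ?_ ?_
    · intro a ha ω _
      rw [TensorProduct.tmul_smul, map_smul]
      exact Submodule.smul_mem_smul ha Submodule.mem_top
    · intro x y hx hy
      rw [TensorProduct.tmul_add, map_add]
      exact add_mem hx hy
  have key : (⊤ : Submodule Q N.Cotangent) ≤ (maximalIdeal Q) • (⊤ : Submodule Q N.Cotangent) := by
    intro c _
    obtain ⟨x, rfl⟩ := Ideal.toCotangent_surjective _ c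
    have h1 := LinearMap.congr_fun hl (N.toCotangent x)
    rw [LinearMap.comp_apply, kerCotangentToTensor_toCotangent, LinearMap.id_apply] at h1
    rw [← h1]
    exact hlin _ (hD x.1 (hN ▸ x.2))
  have hfinN : Module.Finite Q N := Module.IsNoetherian.finite Q N
  have hfinC : Module.Finite Q N.Cotangent :=
    Module.Finite.of_surjective N.toCotangent (Ideal.toCotangent_surjective N)
  have hfin : (⊤ : Submodule Q N.Cotangent).FG := Module.Finite.fg_top
  have htop : (⊤ : Submodule Q N.Cotangent) = ⊥ :=
    Submodule.eq_bot_of_le_smul_of_le_jacobson_bot (maximalIdeal Q) ⊤ hfin key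
      (IsLocalRing.maximalIdeal_le_jacobson ⊥)
  have hsub : Subsingleton N.Cotangent := by
    rw [← Submodule.subsingleton_iff Q]
    exact subsingleton_of_bot_eq_top htop.symm
  have hidem : IsIdempotentElem N := (Ideal.cotangent_subsingleton_iff N).mp hsub
  have hNle : N ≤ (maximalIdeal Q) • N := by
    conv_lhs => rw [← hidem.eq]
    rw [smul_eq_mul]
    exact Ideal.mul_mono_left (hN ▸ hJ1)
  have hNbot : N = ⊥ :=
    Submodule.eq_bot_of_le_smul_of_le_jacobson_bot (maximalIdeal Q) N (IsNoetherian.noetherian N)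
      hNle (IsLocalRing.maximalIdeal_le_jacobson ⊥)
  exact hJ0 (hN ▸ hNbot)

end Local

section LocQuot

variable {A : Type u} [CommRing A] (I : Ideal A) (q : Ideal (A ⧸ I)) [q.IsPrime]

/-- `A_p / I A_p` is the localization of `A/I` at `q`, for `p` the preimage of `q`. -/
theorem isLocalization_atPrime_quotient :
    IsLocalization.AtPrime
      (Localization.AtPrime (q.comap (Ideal.Quotient.mk I)) ⧸
        I.map (algebraMap A (Localization.AtPrime (q.comap (Ideal.Quotient.mk I))))) q := by
  have hIp : I ≤ q.comap (Ideal.Quotient.mk I) := by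
    intro x hx
    rw [Ideal.mem_comap, Ideal.Quotient.eq_zero_iff_mem.mpr hx]
    exact q.zero_mem
  have hmap : (q.comap (Ideal.Quotient.mk I)).map (Ideal.Quotient.mk I) = q :=
    Ideal.map_comap_of_surjective _ Ideal.Quotient.mk_surjective q
  have hprime : ((q.comap (Ideal.Quotient.mk I)).map (Ideal.Quotient.mk I)).IsPrime := by
    rw [hmap]; infer_instance
  have inst : IsLocalization (Algebra.algebraMapSubmonoid (A ⧸ I)
      (q.comap (Ideal.Quotient.mk I)).primeCompl)
      (Localization.AtPrime (q.comap (Ideal.Quotient.mk I)) ⧸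
        I.map (algebraMap A (Localization.AtPrime (q.comap (Ideal.Quotient.mk I))))) :=
    inferInstance
  rw [algebraMapSubmonoid_quotient_primeCompl I (q.comap (Ideal.Quotient.mk I)) hIp] at inst
  have h : ∀ (q' : Ideal (A ⧸ I)) [q'.IsPrime], q' = q →
      IsLocalization q'.primeCompl
        (Localization.AtPrime (q.comap (Ideal.Quotient.mk I)) ⧸
          I.map (algebraMap A (Localization.AtPrime (q.comap (Ideal.Quotient.mk I))))) →
      IsLocalization.AtPrime
        (Localization.AtPrime (q.comap (Ideal.Quotient.mk I)) ⧸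
          I.map (algebraMap A (Localization.AtPrime (q.comap (Ideal.Quotient.mk I))))) q := by
    intro q' _ hq' h'
    subst hq'
    exact h'
  exact h _ hmap inst

end LocQuot

section Main

variable {k : Type u} {R : Type u} [Field k] [CommRing R] [IsNoetherianRing R] [IsDomain R]
  [Algebra k R] [Algebra.FormallySmooth k R]

/-- **Jacobian-type criterion for non-smoothness**: if `I ≠ 0` is an ideal of a formally smooth
Noetherian domain `R` over a field `k` and `P` is a prime of `R/I` such that `d(I) ⊆ 𝔭 Ω_R`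
(`𝔭` the preimage of `P`), then `R/I` is not smooth at `P`. -/
theorem not_isSmoothAt_quotient (I : Ideal R) (hI : I ≠ ⊥) (P : Ideal (R ⧸ I)) [P.IsPrime]
    (hD : ∀ x ∈ I, KaehlerDifferential.D k R x ∈
      (P.comap (Ideal.Quotient.mk I)) • (⊤ : Submodule R Ω[R⁄k])) :
    ¬ Algebra.FormallySmooth k (Localization.AtPrime P) := by
  intro hsm
  set p := P.comap (Ideal.Quotient.mk I) with hp
  have hIp : I ≤ p := by
    intro x hx
    rw [hp, Ideal.mem_comap, Ideal.Quotient.eq_zero_iff_mem.mpr hx]
    exact P.zero_mem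
  set Q := Localization.AtPrime p with hQ
  set J := I.map (algebraMap R Q) with hJ
  haveI : Algebra.FormallySmooth R Q := Algebra.FormallySmooth.of_isLocalization p.primeCompl
  haveI : Algebra.FormallySmooth k Q := Algebra.FormallySmooth.comp k R Q
  haveI instLoc : IsLocalization.AtPrime (Q ⧸ J) P := isLocalization_atPrime_quotient I P
  let e : Localization.AtPrime P ≃ₐ[R ⧸ I] Q ⧸ J :=
    IsLocalization.algEquiv P.primeCompl (Localization.AtPrime P) (Q ⧸ J)
  haveI : IsScalarTower k (R ⧸ I) (Q ⧸ J) := by
    refine IsScalarTower.of_algebraMap_eq fun c => ?_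
    rw [IsScalarTower.algebraMap_apply k R (R ⧸ I), IsScalarTower.algebraMap_apply k Q (Q ⧸ J),
      IsScalarTower.algebraMap_apply k R Q]
    rfl
  have hsm' : Algebra.FormallySmooth k (Q ⧸ J) :=
    Algebra.FormallySmooth.of_equiv (e.restrictScalars k)
  refine not_formallySmooth_quotient (k := k) J ?_ ?_ ?_ hsm'
  · -- `J ≠ ⊥`
    intro hJ0
    apply hI
    rw [eq_bot_iff]
    intro x hx
    have h1 : algebraMap R Q x ∈ J := Ideal.mem_map_of_mem _ hx
    rw [hJ0, Ideal.mem_bot] at h1
    have hinj : Function.Injective (algebraMap R Q) :=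
      IsLocalization.injective Q p.primeCompl_le_nonZeroDivisors
    exact hinj (by rw [h1, map_zero])
  · -- `J ≤ 𝔪`
    rw [hJ, Ideal.map_le_iff_le_comap]
    intro x hx
    rw [Ideal.mem_comap]
    exact (IsLocalization.AtPrime.to_map_mem_maximal_iff Q p x).mpr (hIp hx)
  · -- derivatives
    have hgen : ∀ y ∈ I, KaehlerDifferential.D k Q (algebraMap R Q y) ∈
        (maximalIdeal Q) • (⊤ : Submodule Q Ω[Q⁄k]) := by
      intro y hy
      rw [← KaehlerDifferential.map_D k k R Q]
      have h2 := hD y hy
      refine Submodule.smul_induction_on h2 ?_ ?_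
      · intro a ha ω _
        rw [map_smul, ← algebraMap_smul Q a]
        exact Submodule.smul_mem_smul
          ((IsLocalization.AtPrime.to_map_mem_maximal_iff Q p a).mpr ha) Submodule.mem_top
      · intro x y hx hy
        rw [map_add]
        exact add_mem hx hy
    intro x hx
    rw [hJ, Ideal.map] at hx
    induction hx using Submodule.span_induction with
    | mem x hx =>
      obtain ⟨y, hy, rfl⟩ := hx
      exact hgen y hy
    | zero => rw [map_zero]; exact zero_mem _
    | add x y _ _ hx hy => rw [map_add]; exact add_mem hx hy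
    | smul a x hx ih =>
      rw [smul_eq_mul, Derivation.leibniz]
      refine add_mem (Submodule.smul_mem _ _ ih) ?_
      refine Submodule.smul_mem_smul ?_ Submodule.mem_top
      have : Ideal.span (algebraMap R Q '' I) ≤ maximalIdeal Q := by
        rw [Ideal.span_le]
        rintro _ ⟨y, hy, rfl⟩
        exact (IsLocalization.AtPrime.to_map_mem_maximal_iff Q p y).mpr (hIp hy)
      exact this hx

end Main

end Groth.Agent.Lib.Seat67.NonSmooth
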