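import Mathlib

namespace Groth.Agent.Lib.Seat67.PSIdem

open PowerSeries

universe u

/-- A power series with `c² = Xⁿ c` is divisible by `Xⁿ`. -/
theorem X_pow_dvd_of_sq_eq : ∀ (n : ℕ) (R : Type u) [CommRing R] (c : R⟦X⟧),
    c ^ 2 = X ^ n * c → (X : R⟦X⟧) ^ n ∣ c := by
  intro n
  induction n with
  | zero => intro R _ c _; simp
  | succ n ih =>
    intro R _ c hc
    set c₀ := constantCoeff c with hc₀
    have hc₀2 : c₀ * c₀ = 0 := by
      have := congrArg constantCoeff hc
      rw [map_pow, map_mul, map_pow, constantCoeff_X, zero_pow (Nat.succ_ne_zero n), zero_mul,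
        pow_two] at this
      exact this
    -- work modulo `c₀`
    let J : Ideal R := Ideal.span {c₀}
    let π := PowerSeries.map (Ideal.Quotient.mk J)
    have hπ0 : constantCoeff (π c) = 0 := by
      rw [← coeff_zero_eq_constantCoeff_apply, coeff_map, coeff_zero_eq_constantCoeff_apply,
        Ideal.Quotient.eq_zero_iff_mem]
      exact Ideal.subset_span (Set.mem_singleton _)
    obtain ⟨c', hc'⟩ := X_dvd_iff.mpr hπ0
    have hc'2 : c' ^ 2 = X ^ n * c' := by
      have h1 : (π c) ^ 2 = X ^ (n + 1) * π c := by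
        rw [← map_pow, hc, map_mul, map_pow]; simp [π]
      rw [hc'] at h1
      apply X_pow_mul_cancel (k := 2)
      linear_combination h1
    have hdvd : (X : (R ⧸ J)⟦X⟧) ^ (n + 1) ∣ π c := by
      rw [hc', pow_succ']
      exact mul_dvd_mul_left _ (ih (R ⧸ J) c' hc'2)
    have hmem : ∀ i < n + 1, coeff i c ∈ J := by
      intro i hi
      have := X_pow_dvd_iff.mp hdvd i hi
      rwa [coeff_map, Ideal.Quotient.eq_zero_iff_mem] at this
    -- choose multipliers
    have hy : ∀ i, ∃ y : R, i < n + 1 → coeff i c = c₀ * y := by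
      intro i
      by_cases hi : i < n + 1
      · obtain ⟨y, hy⟩ := Ideal.mem_span_singleton'.mp (hmem i hi)
        exact ⟨y, fun _ => by rw [← hy, mul_comm]⟩
      · exact ⟨0, fun h => absurd h hi⟩
    choose y hy using hy
    set s : R⟦X⟧ := mk (fun i => if i < n + 1 then y i else 0) with hs
    set q : R⟦X⟧ := mk (fun i => coeff (i + (n + 1)) c) with hq
    have hdec : c = C c₀ * s + X ^ (n + 1) * q := by
      ext k
      rw [map_add, coeff_C_mul, coeff_X_pow_mul', coeff_mk, coeff_mk]
      by_cases hk : k < n + 1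
      · rw [if_pos hk, if_neg (by omega), add_zero, hy k hk]
      · rw [if_neg hk, if_pos (by omega), mul_zero, zero_add, Nat.sub_add_cancel (by omega)]
    have hCC : (C c₀ : R⟦X⟧) * C c₀ = 0 := by rw [← map_mul, hc₀2, map_zero]
    have hE : C c₀ * (s * (2 * q - 1)) + X ^ (n + 1) * (q ^ 2 - q) = 0 := by
      apply X_pow_mul_cancel (k := n + 1)
      rw [mul_zero]
      have h : (C c₀ * s + X ^ (n + 1) * q) ^ 2 = X ^ (n + 1) * (C c₀ * s + X ^ (n + 1) * q) := by
        rw [← hdec]; exact hc
      linear_combination h - (s ^ 2) * hCC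
    have hs0 : c₀ * constantCoeff s = c₀ := by
      have := hy 0 (Nat.succ_pos n)
      rw [coeff_zero_eq_constantCoeff_apply] at this
      rw [← coeff_zero_eq_constantCoeff_apply, hs, coeff_mk, if_pos (Nat.succ_pos n), ← this]
    have h0 : c₀ * (2 * constantCoeff q - 1) = 0 := by
      have := congrArg constantCoeff hE
      rw [map_add, map_mul, map_mul, map_mul, map_pow, constantCoeff_X, constantCoeff_C,
        zero_pow (Nat.succ_ne_zero n), zero_mul, add_zero, map_zero, ← mul_assoc, hs0] at this
      simpa [map_ofNat] using this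
    obtain ⟨w, hw⟩ : ∃ w, constantCoeff q ^ 2 - constantCoeff q = c₀ * w := by
      have := congrArg (coeff (n + 1)) hE
      rw [map_add, coeff_C_mul, coeff_X_pow_mul', if_pos le_rfl, Nat.sub_self, map_zero,
        coeff_zero_eq_constantCoeff_apply, map_sub, map_pow] at this
      exact ⟨- coeff (n + 1) (s * (2 * q - 1)), by linear_combination this⟩
    have hzero : c₀ = 0 := by
      linear_combination (2 * constantCoeff q - 1) * h0 - 4 * c₀ * hw - 4 * w * hc₀2
    rw [X_pow_dvd_iff]
    intro i hi
    have := hmem i hi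
    rwa [show J = Ideal.span {c₀} from rfl, hzero, Ideal.span_singleton_eq_bot.mpr rfl,
      Ideal.mem_bot] at this

/-- Idempotent power series are constant. -/
theorem eq_C_of_isIdempotentElem {R : Type*} [CommRing R] (c : R⟦X⟧) (hc : IsIdempotentElem c) :
    c = C (constantCoeff c) := by
  set r := constantCoeff c with hr
  have hr2 : r * r = r := by
    have := congrArg constantCoeff hc.eq
    rwa [map_mul] at this
  obtain ⟨d, hd⟩ : (X : R⟦X⟧) ∣ c - C r := by
    rw [X_dvd_iff, map_sub, constantCoeff_C, sub_self]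
  have hd3 : (c - C r) * (1 - (c - C r) ^ 2) = 0 := by
    have h1 : c * c = c := hc.eq
    have h2 : (C r : R⟦X⟧) * C r = C r := by rw [← map_mul, hr2]
    linear_combination (3 * C r - c - 1) * h1 + (C r + 1 - 3 * c) * h2
  have hu : IsUnit (1 - (c - C r) ^ 2) := by
    rw [isUnit_iff_constantCoeff, map_sub, map_one, map_pow, map_sub, constantCoeff_C, sub_self,
      zero_pow two_ne_zero, sub_zero]
    exact isUnit_one
  rw [hu.mul_left_eq_zero, sub_eq_zero] at hd3
  exact hd3

/-- The roots of `x² = Xⁿ x` in `R⟦X⟧` are `Xⁿ r` with `r` idempotent in `R`. -/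
theorem exists_idem_of_sq_eq {R : Type u} [CommRing R] (n : ℕ) (c : R⟦X⟧)
    (hc : c ^ 2 = X ^ n * c) : ∃ r : R, IsIdempotentElem r ∧ c = X ^ n * C r := by
  obtain ⟨c', rfl⟩ := X_pow_dvd_of_sq_eq n R c hc
  have hc' : IsIdempotentElem c' := by
    apply X_pow_mul_cancel (k := 2 * n)
    linear_combination hc
  have h := eq_C_of_isIdempotentElem c' hc'
  refine ⟨constantCoeff c', ?_, by rw [← h]⟩
  have := congrArg constantCoeff hc'.eq
  rwa [map_mul] at this

end Groth.Agent.Lib.Seat67.PSIdem
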