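import Mathlib
import Groth.Agent.Lib.Seat67HilbArt

/-!
# Seat67: recognising polynomial rings over an Artinian ring by their Hilbert function

`R` a `ℤ`-graded `A`-algebra with `R_j = 0` for `j < 0`, `R_0 = A·1`, `R_+` generated by `R_1`.

* `length_homog`: `ℓ_A(A[T_1..T_r]_n) = multichoose r n · ℓ_A(A)`;
* `aeval_bijective_of_length`: if `f_1, …, f_d ∈ R_1` span `R_1` and
  `ℓ_A(R_n) = multichoose d n · ℓ_A(A) < ∞` for all `n`, then `A[T_1..T_d] → R`, `T_i ↦ f_i`, is
  bijective;
* `length_eq_multichoose`: over an Artinian local `A`, if the Hilbert polynomial agrees with the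
  Hilbert function in all degrees `> -dim R` then `ℓ_A(R_n) = multichoose (dim R) n · ℓ_A(A)`.
-/

set_option autoImplicit false
set_option linter.unusedSectionVars false
set_option linter.style.haveILetI false

universe u

namespace Groth.Agent.Lib.Seat67.PolyArt

open DirectSum MvPolynomial
open Groth.Agent.Lib.Seat67.HilbArt Groth.Agent.Lib.Seat67.HilbPoly
open Groth.Agent.Lib.Helper4.HilbFun

section Homog

variable (A : Type u) [CommRing A]

theorem homogeneousSubmodule_eq' (r n : ℕ) :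
    homogeneousSubmodule (Fin r) A n = AddMonoidAlgebra.supported A A
      (↑((Finset.univ : Finset (Fin r)).finsuppAntidiag n) : Set (Fin r →₀ ℕ)) := by
  classical
  rw [homogeneousSubmodule_eq_finsupp_supported]
  congr 1
  ext d
  simp [Finsupp.degree_eq_sum]

/-- the length of the module of forms of degree `n` in `r` variables. -/
theorem length_homog (r n : ℕ) :
    Module.length A (homogeneousSubmodule (Fin r) A n) =
      (Nat.multichoose r n : ℕ∞) * Module.length A A := by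
  classical
  rw [homogeneousSubmodule_eq']
  rw [(AddMonoidAlgebra.supportedEquivFinsupp (R := A) (S := A)
    (↑((Finset.univ : Finset (Fin r)).finsuppAntidiag n) : Set (Fin r →₀ ℕ))).length_eq]
  rw [Module.length_finsupp]
  congr 1
  rw [ENat.card_eq_coe_fintype_card]
  simp [Finset.card_finsuppAntidiag_nat_eq_multichoose]

end Homog

variable {A : Type u} [CommRing A] {R : Type u} [CommRing R] [Algebra A R]
  (𝒜 : ℤ → Submodule A R) [GradedAlgebra 𝒜]
  (hpos : ∀ j : ℤ, j < 0 → 𝒜 j = ⊥) (h0 : 𝒜 0 = Submodule.span A {(1 : R)})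
  (hirr : Ideal.span (⋃ j ∈ Set.Ioi (0 : ℤ), (𝒜 j : Set R)) =
    Ideal.span ((𝒜 1 : Submodule A R) : Set R))

section Iso

variable {d : ℕ} (f : Fin d → R) (hf : ∀ i, f i ∈ 𝒜 1)

include hf in
theorem aeval_mem_of_isHomogeneous {m : ℕ} {p : MvPolynomial (Fin d) A} (hp : p.IsHomogeneous m) :
    aeval f p ∈ 𝒜 (m : ℤ) := by
  rw [← support_sum_monomial_coeff p, map_sum]
  refine sum_mem fun s hs => ?_
  rw [aeval_monomial, ← Algebra.smul_def]
  refine Submodule.smul_mem _ _ ?_
  have hdeg : Finsupp.weight 1 s = m := hp (mem_support_iff.1 hs)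
  rw [Finsupp.prod_fintype _ _ (fun i => pow_zero _)]
  have h := SetLike.prod_pow_mem_graded 𝒜 (fun _ : Fin d => (1 : ℤ)) f
    (F := Finset.univ) (fun i => s i) (fun i _ => hf i)
  have e : ∑ i : Fin d, s i • (1 : ℤ) = (m : ℤ) := by
    rw [← hdeg, Finsupp.weight_apply, Finsupp.sum_fintype _ _ (fun i => by simp)]
    simp
  rwa [e] at h

include hf in
/-- the degree `m` component of `aeval f p` is `aeval f` of the degree `m` component of `p`. -/
theorem decompose_aeval (p : MvPolynomial (Fin d) A) (m : ℕ) :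
    ((decompose 𝒜 (aeval f p) (m : ℤ) : 𝒜 (m : ℤ)) : R) = aeval f (homogeneousComponent m p) := by
  classical
  conv_lhs => rw [← sum_homogeneousComponent p, map_sum, decompose_sum, DFinsupp.finsetSum_apply,
    AddSubmonoidClass.coe_finsetSum]
  have hmem : ∀ i : ℕ, aeval f (homogeneousComponent i p) ∈ 𝒜 (i : ℤ) := fun i =>
    aeval_mem_of_isHomogeneous 𝒜 f hf (homogeneousComponent_isHomogeneous i p)
  rw [Finset.sum_eq_single m]
  · exact DirectSum.decompose_of_mem_same 𝒜 (hmem m)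
  · intro i _ hi
    exact DirectSum.decompose_of_mem_ne 𝒜 (hmem i) (by exact_mod_cast hi)
  · intro hm
    have hlt : p.totalDegree < m := by
      by_contra hcon
      exact hm (Finset.mem_range.2 (by omega))
    rw [homogeneousComponent_eq_zero _ _ hlt, map_zero, decompose_zero]
    rfl

/-- the restriction of `aeval f` to forms of degree `m`. -/
noncomputable def pieceMap (m : ℕ) : homogeneousSubmodule (Fin d) A m →ₗ[A] 𝒜 (m : ℤ) :=
  LinearMap.codRestrict (𝒜 (m : ℤ))
    ((aeval f : MvPolynomial (Fin d) A →ₐ[A] R).toLinearMap.comp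
      (homogeneousSubmodule (Fin d) A m).subtype)
    (fun p => aeval_mem_of_isHomogeneous 𝒜 f hf ((mem_homogeneousSubmodule _ _).1 p.2))

include hpos h0 hirr in
theorem pieceMap_surjective (hspan : 𝒜 1 ≤ Submodule.span A (Set.range f)) (m : ℕ) :
    Function.Surjective (pieceMap 𝒜 f hf m) := by
  rintro ⟨r, hr⟩
  have htop := adjoin_eq_top_of_span 𝒜 hpos h0 hirr f hf hspan
  rw [Algebra.adjoin_range_eq_range_aeval] at htop
  obtain ⟨p, rfl⟩ := (AlgHom.range_eq_top _).1 htop r
  refine ⟨⟨homogeneousComponent m p, homogeneousComponent_mem m p⟩, ?_⟩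
  apply Subtype.ext
  show aeval f (homogeneousComponent m p) = aeval f p
  rw [← decompose_aeval 𝒜 f hf p m]
  exact DirectSum.decompose_of_mem_same 𝒜 hr

include hpos h0 hirr hf in
/-- **Recognition of polynomial rings by the Hilbert function.** -/
theorem aeval_bijective_of_length (hspan : 𝒜 1 ≤ Submodule.span A (Set.range f))
    (hlen : ∀ m : ℕ, Module.length A (𝒜 (m : ℤ)) = (Nat.multichoose d m : ℕ∞) * Module.length A A)
    (hfin : Module.length A A ≠ ⊤) :
    Function.Bijective (aeval f : MvPolynomial (Fin d) A →ₐ[A] R) := by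
  classical
  have htop := adjoin_eq_top_of_span 𝒜 hpos h0 hirr f hf hspan
  rw [Algebra.adjoin_range_eq_range_aeval] at htop
  refine ⟨?_, (AlgHom.range_eq_top _).1 htop⟩
  have hinj : ∀ m : ℕ, Function.Injective (pieceMap 𝒜 f hf m) := by
    intro m
    have hs := pieceMap_surjective 𝒜 hpos h0 hirr f hf hspan m
    have hadd : Module.length A (homogeneousSubmodule (Fin d) A m) =
        Module.length A (LinearMap.ker (pieceMap 𝒜 f hf m)) + Module.length A (𝒜 (m : ℤ)) :=
      Module.length_eq_add_of_exact _ _ (Submodule.subtype_injective _) hs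
        (LinearMap.exact_subtype_ker_map (pieceMap 𝒜 f hf m))
    rw [length_homog, hlen m] at hadd
    have hne : (Nat.multichoose d m : ℕ∞) * Module.length A A ≠ ⊤ :=
      WithTop.mul_ne_top (ENat.natCast_ne_top _) hfin
    have hzero : Module.length A (LinearMap.ker (pieceMap 𝒜 f hf m)) = 0 := by
      have h1 : Module.length A (LinearMap.ker (pieceMap 𝒜 f hf m)) +
          (Nat.multichoose d m : ℕ∞) * Module.length A A =
          0 + (Nat.multichoose d m : ℕ∞) * Module.length A A := by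
        rw [zero_add]
        exact hadd.symm
      exact (ENat.add_left_injective_of_ne_top hne) h1
    rw [Module.length_eq_zero_iff, Submodule.subsingleton_iff_eq_bot] at hzero
    exact LinearMap.ker_eq_bot.1 hzero
  rw [injective_iff_map_eq_zero]
  intro p hp
  rw [← sum_homogeneousComponent p]
  refine Finset.sum_eq_zero fun m _ => ?_
  have h1 : aeval f (homogeneousComponent m p) = 0 := by
    rw [← decompose_aeval 𝒜 f hf p m, hp, decompose_zero]
    rfl
  have h2 : pieceMap 𝒜 f hf m ⟨homogeneousComponent m p, homogeneousComponent_mem m p⟩ = 0 :=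
    Subtype.ext h1
  have h3 := (injective_iff_map_eq_zero _).1 (hinj m) _ h2
  exact congrArg Subtype.val h3

end Iso

section Span

variable {d : ℕ} (f : Fin d → R) (hf : ∀ i, f i ∈ 𝒜 1)

include hf h0 in
/-- an element of `R_1` in the ideal generated by `f_i ∈ R_1` is an `A`-combination of the `f_i`. -/
theorem mem_span_of_mem_ideal_span {r : R} (hr : r ∈ 𝒜 1) (hrI : r ∈ Ideal.span (Set.range f)) :
    r ∈ Submodule.span A (Set.range f) := by
  classical
  obtain ⟨c, hc⟩ := (Ideal.mem_span_range_iff_exists_fun).1 hrI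
  have h3 : r = ∑ i, ((decompose 𝒜 (c i) 0 : 𝒜 0) : R) * f i := by
    have hzn : ((decompose 𝒜 r 1 : 𝒜 1) : R) = r := decompose_of_mem_same 𝒜 hr
    rw [← hzn, ← hc, decompose_sum, DFinsupp.finsetSum_apply, AddSubmonoidClass.coe_finsetSum]
    refine Finset.sum_congr rfl fun i _ => ?_
    have := DirectSum.coe_decompose_mul_add_of_right_mem 𝒜 (a := c i) (i := 0) (hf i)
    rwa [zero_add] at this
  rw [h3]
  refine Submodule.sum_mem _ fun i _ => ?_
  obtain ⟨a, ha⟩ := exists_decompose_zero_eq 𝒜 h0 (c i)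
  rw [ha, ← Algebra.smul_def]
  exact Submodule.smul_mem _ _ (Submodule.subset_span ⟨i, rfl⟩)

end Span

section Hilb

variable [IsArtinianRing A] [IsLocalRing A] [IsNoetherianRing R] [Nontrivial R]

include h0 in
theorem length_zero_eq (hinj : Function.Injective (algebraMap A R)) :
    Module.length A (𝒜 0) = Module.length A A := by
  have e : A ≃ₗ[A] 𝒜 0 := by
    refine LinearEquiv.ofBijective
      (LinearMap.codRestrict (𝒜 0) (Algebra.linearMap A R) (fun a => ?_)) ⟨?_, ?_⟩
    · exact SetLike.algebraMap_mem_graded 𝒜 a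
    · intro a b hab
      exact hinj (congrArg Subtype.val hab)
    · rintro ⟨r, hr⟩
      rw [h0] at hr
      obtain ⟨c, rfl⟩ := Submodule.mem_span_singleton.1 hr
      refine ⟨c, Subtype.ext ?_⟩
      show algebraMap A R c = c • (1 : R)
      rw [Algebra.smul_def, mul_one]
  exact e.length_eq.symm

include hpos h0 hirr in
theorem eq_zero_of_dim_le_zero (hd : ringKrullDim R ≤ 0) (P : Polynomial ℚ) (N : ℕ)
    (hP : ∀ m : ℕ, N ≤ m → P.eval (m : ℚ) = ((Module.length A (𝒜 (m : ℤ))).toNat : ℚ)) :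
    P = 0 := by
  classical
  set 𝔪 := IsLocalRing.maximalIdeal A with h𝔪
  letI : Field (A ⧸ 𝔪) := Ideal.Quotient.field 𝔪
  letI : GradedAlgebra (Groth.Agent.Lib.Seat67.GrResidue.rpiece 𝒜 𝔪) :=
    Groth.Agent.Lib.Seat67.GrResidue.gradedAlgebra 𝒜 𝔪
  have hpos' : ∀ j : ℤ, j < 0 → Groth.Agent.Lib.Seat67.GrResidue.rpiece 𝒜 𝔪 j = ⊥ :=
    fun j hj => Groth.Agent.Lib.Seat67.GrResidue.rpiece_eq_bot 𝒜 𝔪 (hpos j hj)
  have h0' := Groth.Agent.Lib.Seat67.GrResidue.rpiece_zero 𝒜 𝔪 h0
  have hirr' := Groth.Agent.Lib.Seat67.GrResidue.irr_rpiece 𝒜 𝔪 hirr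
  haveI : Module.Finite (A ⧸ 𝔪) (Groth.Agent.Lib.Seat67.GrResidue.rpiece 𝒜 𝔪 1) := by
    haveI := finite_piece 𝒜 h0 1
    exact Groth.Agent.Lib.Seat67.GrResidue.finite_rpiece 𝒜 1
  obtain ⟨n', y, hy⟩ := Groth.Agent.Lib.Seat97.HilbStd.exists_isStd
    (Groth.Agent.Lib.Seat67.GrResidue.rpiece 𝒜 𝔪) hpos' h0' hirr'
  have hsupp : Module.supportDim (R ⧸ 𝔪.map (algebraMap A R)) (R ⧸ 𝔪.map (algebraMap A R)) ≤ 0 := by
    rw [Module.supportDim_self_eq_ringKrullDim]
    exact (ringKrullDim_quotient_le _).trans hd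
  obtain ⟨b, hb⟩ := Groth.Agent.Lib.Seat97.HilbMod.exists_finrank_eq_zero
    (Groth.Agent.Lib.Seat67.GrResidue.rpiece 𝒜 𝔪) (Groth.Agent.Lib.Seat67.GrResidue.rpiece 𝒜 𝔪)
    y hy hsupp
  apply Polynomial.eq_zero_of_infinite_isRoot
  have hsub : ((fun m : ℕ => (m : ℚ)) '' Set.Ici (max N b.toNat)) ⊆ {t | P.IsRoot t} := by
    rintro _ ⟨m, hm, rfl⟩
    have hm' : max N b.toNat ≤ m := hm
    have h1 : N ≤ m := (le_max_left _ _).trans hm'
    have h2 : b ≤ (m : ℤ) := by
      have := (le_max_right N b.toNat).trans hm'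
      omega
    show P.eval (m : ℚ) = 0
    have h3 := length_toNat_le 𝒜 h0 (m : ℤ)
    rw [hb (m : ℤ) h2, zero_mul] at h3
    rw [hP m h1, Nat.le_zero.1 h3]
    rfl
  exact Set.Infinite.mono hsub ((Set.Ici_infinite _).image (Nat.cast_injective.injOn))

include hpos h0 hirr in
theorem natDegree_le_of_dim_le (e : ℕ) (hd : ringKrullDim R ≤ ((e + 1 : ℕ) : WithBot ℕ∞))
    (P : Polynomial ℚ) (N : ℕ)
    (hP : ∀ m : ℕ, N ≤ m → P.eval (m : ℚ) = ((Module.length A (𝒜 (m : ℤ))).toNat : ℚ)) :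
    P.natDegree ≤ e := by
  classical
  set 𝔪 := IsLocalRing.maximalIdeal A with h𝔪
  letI : Field (A ⧸ 𝔪) := Ideal.Quotient.field 𝔪
  letI : GradedAlgebra (Groth.Agent.Lib.Seat67.GrResidue.rpiece 𝒜 𝔪) :=
    Groth.Agent.Lib.Seat67.GrResidue.gradedAlgebra 𝒜 𝔪
  have hpos' : ∀ j : ℤ, j < 0 → Groth.Agent.Lib.Seat67.GrResidue.rpiece 𝒜 𝔪 j = ⊥ :=
    fun j hj => Groth.Agent.Lib.Seat67.GrResidue.rpiece_eq_bot 𝒜 𝔪 (hpos j hj)
  have h0' := Groth.Agent.Lib.Seat67.GrResidue.rpiece_zero 𝒜 𝔪 h0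
  have hirr' := Groth.Agent.Lib.Seat67.GrResidue.irr_rpiece 𝒜 𝔪 hirr
  haveI : Module.Finite (A ⧸ 𝔪) (Groth.Agent.Lib.Seat67.GrResidue.rpiece 𝒜 𝔪 1) := by
    haveI := finite_piece 𝒜 h0 1
    exact Groth.Agent.Lib.Seat67.GrResidue.finite_rpiece 𝒜 1
  obtain ⟨n', y, hy⟩ := Groth.Agent.Lib.Seat97.HilbStd.exists_isStd
    (Groth.Agent.Lib.Seat67.GrResidue.rpiece 𝒜 𝔪) hpos' h0' hirr'
  have hsupp : Module.supportDim (R ⧸ 𝔪.map (algebraMap A R)) (R ⧸ 𝔪.map (algebraMap A R)) ≤
      ((e + 1 : ℕ) : WithBot ℕ∞) := by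
    rw [Module.supportDim_self_eq_ringKrullDim]
    exact (ringKrullDim_quotient_le _).trans hd
  obtain ⟨C, b, hCb⟩ := Groth.Agent.Lib.Seat97.HilbMod.exists_finrank_le
    (Groth.Agent.Lib.Seat67.GrResidue.rpiece 𝒜 𝔪) (Groth.Agent.Lib.Seat67.GrResidue.rpiece 𝒜 𝔪)
    y hy e hsupp
  refine natDegree_le_of_bound P N (fun m => (Module.length A (𝒜 (m : ℤ))).toNat) hP
    (C * (Module.length A A).toNat) b e fun m => ?_
  have h3 := length_toNat_le 𝒜 h0 (m : ℤ)
  have h1 := hCb (m : ℤ)
  have h2 : ((m : ℤ) + (b : ℤ)).toNat = m + b := by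
    have : ((m : ℤ) + (b : ℤ)) = ((m + b : ℕ) : ℤ) := by push_cast; rfl
    rw [this, Int.toNat_natCast]
  rw [h2] at h1
  calc (Module.length A (𝒜 (m : ℤ))).toNat
      ≤ Module.finrank (A ⧸ 𝔪) (Groth.Agent.Lib.Seat67.GrResidue.rpiece 𝒜 𝔪 (m : ℤ)) *
          (Module.length A A).toNat := h3
    _ ≤ C * (m + b + 1) ^ e * (Module.length A A).toNat := Nat.mul_le_mul_right _ h1
    _ = C * (Module.length A A).toNat * (m + b + 1) ^ e := by ring

include hpos h0 hirr in
/-- if the Hilbert polynomial agrees with the Hilbert function in all degrees `> -dim R`, the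
Hilbert function is that of a polynomial ring in `dim R` variables. -/
theorem length_eq_multichoose (hinj : Function.Injective (algebraMap A R)) (d : ℕ)
    (hd : ringKrullDim R = (d : WithBot ℕ∞)) (P : Polynomial ℚ) (N : ℕ)
    (hP : ∀ m : ℕ, N ≤ m → P.eval (m : ℚ) = ((Module.length A (𝒜 (m : ℤ))).toNat : ℚ))
    (hev : ∀ j : ℤ, -(d : ℤ) < j →
      P.eval (j : ℚ) = ((Module.length A (𝒜 j)).toNat : ℚ)) (m : ℕ) :
    Module.length A (𝒜 (m : ℤ)) = (Nat.multichoose d m : ℕ∞) * Module.length A A := by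
  classical
  have hLtop : Module.length A A ≠ ⊤ := Module.length_ne_top
  haveI := finite_piece 𝒜 h0 (m : ℤ)
  have hmtop : Module.length A (𝒜 (m : ℤ)) ≠ ⊤ := Module.length_ne_top
  set L := (Module.length A A).toNat with hL
  have hLeq : Module.length A A = (L : ℕ∞) := (ENat.natCast_toNat hLtop).symm
  have hH0 : (Module.length A (𝒜 0)).toNat = L := by
    rw [length_zero_eq 𝒜 h0 hinj]
  have hL0 : L ≠ 0 := by
    rw [← hH0]
    exact length_zero_ne_zero 𝒜 h0
  suffices hs : (Module.length A (𝒜 (m : ℤ))).toNat = Nat.multichoose d m * L by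
    rw [← ENat.natCast_toNat hmtop, hs, hLeq]
    push_cast
    rfl
  rcases d with _ | e
  · have hP0 : P = 0 := eq_zero_of_dim_le_zero 𝒜 hpos h0 hirr (by rw [hd]; rfl) P N hP
    rcases m with _ | k
    · rw [Nat.multichoose_zero_right, one_mul]
      exact hH0
    · have := hev ((k + 1 : ℕ) : ℤ) (by push_cast; omega)
      rw [hP0, Polynomial.eval_zero] at this
      rw [Nat.multichoose_zero_succ, zero_mul]
      exact_mod_cast this.symm
  · have hdeg : P.natDegree ≤ e := natDegree_le_of_dim_le 𝒜 hpos h0 hirr e (le_of_eq hd) P N hP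
    have hLq : (L : ℚ) ≠ 0 := by exact_mod_cast hL0
    have hQ : Polynomial.C (1 / (L : ℚ)) * P = P0 e := by
      refine eq_P0 _ e ?_ ?_ ?_
      · exact (Polynomial.natDegree_C_mul_le _ _).trans hdeg
      · have := hev 0 (by push_cast; omega)
        rw [hH0] at this
        rw [Polynomial.eval_mul, Polynomial.eval_C]
        have h2 : P.eval (0 : ℚ) = (L : ℚ) := by simpa using this
        rw [h2]
        field_simp
      · intro j hj1 hje
        have := hev (-(j : ℤ)) (by push_cast; omega)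
        rw [length_neg 𝒜 hpos (by omega)] at this
        rw [Polynomial.eval_mul, Polynomial.eval_C]
        have h2 : P.eval (-(j : ℚ)) = 0 := by simpa using this
        rw [h2, mul_zero]
    have hPm : P.eval (m : ℚ) = (L : ℚ) * (P0 e).eval (m : ℚ) := by
      rw [← hQ, Polynomial.eval_mul, Polynomial.eval_C]
      field_simp
    have := hev (m : ℤ) (by push_cast; omega)
    have h3 : ((m : ℤ) : ℚ) = (m : ℚ) := by norm_num
    rw [h3, hPm, P0_eval] at this
    have h4 : Nat.multichoose (e + 1) m = (e + m).choose m := by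
      rw [Nat.multichoose_eq]
      congr 1
      omega
    rw [h4]
    have h5 : ((Module.length A (𝒜 (m : ℤ))).toNat : ℚ) = (((e + m).choose m * L : ℕ) : ℚ) := by
      rw [← this]
      push_cast
      ring
    exact_mod_cast h5

end Hilb

end Groth.Agent.Lib.Seat67.PolyArt
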