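import Groth.Agent.Lib.Seat67ProjS1b

set_option autoImplicit false

universe u

namespace Groth.Agent.Lib.Seat67.ProjS1

open DirectSum HomogeneousLocalization

variable {A : Type u} [CommRing A] {σ : Type*} [SetLike σ A] [AddSubgroupClass σ A]
  (𝒜 : ℕ → σ) [GradedRing 𝒜] (p : Ideal A) [p.IsPrime]

omit [AddSubgroupClass σ A] [GradedRing 𝒜] in
/-- `val (mk c)` as a product in the localization. -/
theorem val_mk_eq (c : NumDenSameDeg 𝒜 p.primeCompl) :
    (HomogeneousLocalization.mk c : HomogeneousLocalization.AtPrime 𝒜 p).val =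
      algebraMap A (Localization.AtPrime p) (c.num : A) *
        IsLocalization.mk' (Localization.AtPrime p) (1 : A) (⟨c.den, c.den_mem⟩ : p.primeCompl) := by
  rw [val_mk, Localization.mk_eq_mk', IsLocalization.mk'_eq_mul_mk'_one]

/-- The homogeneous localization of a Noetherian graded ring at a prime is Noetherian. -/
theorem isNoetherianRing_atPrime [IsNoetherianRing A] :
    IsNoetherianRing (HomogeneousLocalization.AtPrime 𝒜 p) := by
  classical
  rw [isNoetherianRing_iff_ideal_fg]
  intro I
  let G : Set A := {x | ∃ c : NumDenSameDeg 𝒜 p.primeCompl, (c.num : A) = x ∧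
    (HomogeneousLocalization.mk c : HomogeneousLocalization.AtPrime 𝒜 p) ∈ I}
  have hfg : (Submodule.span A G).FG := IsNoetherian.noetherian _
  obtain ⟨S, hSG, hS⟩ := (Submodule.fg_span_iff_fg_span_finset_subset G).mp hfg
  have hex : ∀ g : A, ∃ c : NumDenSameDeg 𝒜 p.primeCompl, g ∈ S → ((c.num : A) = g ∧
      (HomogeneousLocalization.mk c : HomogeneousLocalization.AtPrime 𝒜 p) ∈ I) := by
    intro g
    by_cases hg : g ∈ S
    · obtain ⟨c, hc1, hc2⟩ := hSG hg
      exact ⟨c, fun _ => ⟨hc1, hc2⟩⟩
    · exact ⟨0, fun h => absurd h hg⟩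
  choose c hc using hex
  refine ⟨S.image (fun g => (HomogeneousLocalization.mk (c g) :
    HomogeneousLocalization.AtPrime 𝒜 p)), ?_⟩
  apply le_antisymm
  · rw [Ideal.span_le]
    intro b hb
    rw [Finset.coe_image] at hb
    obtain ⟨g, hg, rfl⟩ := hb
    exact (hc g hg).2
  · intro b hb
    obtain ⟨cb, rfl⟩ := mk_surjective b
    have hxG : (cb.num : A) ∈ Submodule.span A (S : Set A) := by
      rw [← hS]
      exact Submodule.subset_span ⟨cb, rfl, hb⟩
    obtain ⟨f, -, hf⟩ := Submodule.mem_span_finset.mp hxG
    -- homogeneous coefficients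
    let e : A → A := fun g => if (c g).deg ≤ cb.deg then
      (decompose 𝒜 (f g) (cb.deg - (c g).deg) : A) else 0
    have he : ∀ g ∈ S, e g * g = (decompose 𝒜 (f g * g) cb.deg : A) := by
      intro g hg
      have hgmem : g ∈ 𝒜 (c g).deg := by
        have := (c g).num.2
        rwa [(hc g hg).1] at this
      rw [coe_decompose_mul_of_right_mem 𝒜 cb.deg hgmem]
      simp only [e]
      split_ifs <;> simp
    have hsum : ∑ g ∈ S, e g * g = (cb.num : A) := by
      rw [Finset.sum_congr rfl he]
      have h1 : (decompose 𝒜 (cb.num : A) cb.deg : A) = cb.num :=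
        decompose_of_mem_same 𝒜 cb.num.2
      rw [← h1, ← hf, decompose_sum, DFinsupp.finsetSum_apply, AddSubmonoidClass.coe_finsetSum]
      simp only [smul_eq_mul]
    have hemem : ∀ g, e g * ((c g).den : A) ∈ 𝒜 cb.deg := by
      intro g
      simp only [e]
      split_ifs with h
      · have := SetLike.mul_mem_graded (SetLike.coe_mem (decompose 𝒜 (f g) (cb.deg - (c g).deg)))
          (c g).den.2
        rwa [Nat.sub_add_cancel h] at this
      · rw [zero_mul]; exact zero_mem _
    let r : A → NumDenSameDeg 𝒜 p.primeCompl := fun g =>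
      ⟨cb.deg, ⟨e g * ((c g).den : A), hemem g⟩, cb.den, cb.den_mem⟩
    have hb' : (HomogeneousLocalization.mk cb : HomogeneousLocalization.AtPrime 𝒜 p) =
        ∑ g ∈ S, HomogeneousLocalization.mk (r g) * HomogeneousLocalization.mk (c g) := by
      apply HomogeneousLocalization.val_injective
      have hval : ∀ y : HomogeneousLocalization.AtPrime 𝒜 p, y.val =
          algebraMap (HomogeneousLocalization.AtPrime 𝒜 p) (Localization.AtPrime p) y :=
        fun y => rfl
      rw [hval (∑ g ∈ S, _), map_sum]
      simp only [map_mul, HomogeneousLocalization.algebraMap_apply]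
      rw [val_mk_eq, ← hsum, map_sum, Finset.sum_mul]
      refine Finset.sum_congr rfl fun g hg => ?_
      rw [val_mk_eq, val_mk_eq]
      have hcg : ((c g).num : A) = g := (hc g hg).1
      change _ = algebraMap A (Localization.AtPrime p) (e g * ((c g).den : A)) *
        IsLocalization.mk' (Localization.AtPrime p) (1 : A) (⟨cb.den, cb.den_mem⟩ : p.primeCompl) *
        (algebraMap A (Localization.AtPrime p) ((c g).num : A) *
          IsLocalization.mk' (Localization.AtPrime p) (1 : A)
            (⟨(c g).den, (c g).den_mem⟩ : p.primeCompl))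
      rw [hcg, map_mul, map_mul]
      have hunit : algebraMap A (Localization.AtPrime p) ((c g).den : A) *
          IsLocalization.mk' (Localization.AtPrime p) (1 : A)
            (⟨(c g).den, (c g).den_mem⟩ : p.primeCompl) = 1 := by
        rw [← IsLocalization.mk'_eq_mul_mk'_one]
        exact IsLocalization.mk'_self' (Localization.AtPrime p)
          (x := (⟨(c g).den, (c g).den_mem⟩ : p.primeCompl))
      calc algebraMap A (Localization.AtPrime p) (e g) * algebraMap A (Localization.AtPrime p) g *
            IsLocalization.mk' (Localization.AtPrime p) (1 : A)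
              (⟨cb.den, cb.den_mem⟩ : p.primeCompl)
          = algebraMap A (Localization.AtPrime p) (e g) * algebraMap A (Localization.AtPrime p) g *
            IsLocalization.mk' (Localization.AtPrime p) (1 : A)
              (⟨cb.den, cb.den_mem⟩ : p.primeCompl) *
            (algebraMap A (Localization.AtPrime p) ((c g).den : A) *
              IsLocalization.mk' (Localization.AtPrime p) (1 : A)
                (⟨(c g).den, (c g).den_mem⟩ : p.primeCompl)) := by rw [hunit, mul_one]
        _ = _ := by ring
    rw [hb']
    refine Ideal.sum_mem _ fun g hg => Ideal.mul_mem_left _ _ (Ideal.subset_span ?_)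
    rw [Finset.coe_image]
    exact ⟨g, hg, rfl⟩

end Groth.Agent.Lib.Seat67.ProjS1
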