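import Groth.Agent.Lib.Seat67ProjS1c
import Groth.Agent.Lib.Seat67ProjS1d
import Mathlib.RingTheory.Localization.Integer
import Mathlib.Tactic.LinearCombination

set_option autoImplicit false

universe u

namespace Groth.Agent.Lib.Seat67.ProjCM

open DirectSum HomogeneousLocalization Groth.Agent.Lib.Seat67.ProjS1

variable {A : Type u} [CommRing A] {σ : Type*} [SetLike σ A] [AddSubgroupClass σ A]
  (𝒜 : ℕ → σ) [GradedRing 𝒜] (p : Ideal A) [p.IsPrime] (hp : p.IsHomogeneous 𝒜)

include hp in
/-- If the image of a homogeneous element `a` in `A_p` is a combination of the images of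
homogeneous elements `x k`, then a homogeneous multiple `u * a` (`u ∉ p`) is a combination of the
`x k` with homogeneous coefficients. -/
theorem exists_homogeneous_relation {i : ℕ} {a : A} (ha : a ∈ 𝒜 i) {n : ℕ} (x : Fin n → A)
    (deg : Fin n → ℕ) (hx : ∀ k, x k ∈ 𝒜 (deg k))
    (h : algebraMap A (Localization.AtPrime p) a ∈
      Ideal.span (Set.range fun k => algebraMap A (Localization.AtPrime p) (x k))) :
    ∃ (j : ℕ) (u : A) (e : Fin n → A), u ∈ 𝒜 j ∧ u ∉ p ∧
      (∀ k, ∀ z ∈ 𝒜 (deg k), e k * z ∈ 𝒜 (j + i)) ∧ u * a = ∑ k, e k * x k := by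
  classical
  obtain ⟨l, hl⟩ := (Ideal.mem_span_range_iff_exists_fun).mp h
  obtain ⟨v, hv⟩ := IsLocalization.exist_integer_multiples_of_finite p.primeCompl l
  choose c hc using hv
  have h1 : algebraMap A (Localization.AtPrime p) ((v : A) * a) =
      algebraMap A (Localization.AtPrime p) (∑ k, c k * x k) := by
    rw [map_mul, ← hl, Finset.mul_sum, map_sum]
    refine Finset.sum_congr rfl fun k _ => ?_
    rw [map_mul, hc k, Algebra.smul_def]
    ring
  obtain ⟨v', hv'⟩ := (IsLocalization.eq_iff_exists p.primeCompl (Localization.AtPrime p)).mp h1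
  have hw : (v' : A) * (v : A) ∉ p := (v' * v).2
  obtain ⟨j, hj⟩ := exists_decompose_notMem 𝒜 hp hw
  let e : Fin n → A := fun k => if deg k ≤ j + i then
    (decompose 𝒜 ((v' : A) * c k) (j + i - deg k) : A) else 0
  refine ⟨j, (decompose 𝒜 ((v' : A) * (v : A)) j : A), e, SetLike.coe_mem _, hj, ?_, ?_⟩
  · intro k z hz
    simp only [e]
    split_ifs with hle
    · have := SetLike.mul_mem_graded
        (SetLike.coe_mem (decompose 𝒜 ((v' : A) * c k) (j + i - deg k))) hz
      rwa [Nat.sub_add_cancel hle] at this
    · rw [zero_mul]; exact zero_mem _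
  · have he : ∀ k, e k * x k = (decompose 𝒜 ((v' : A) * c k * x k) (j + i) : A) := by
      intro k
      rw [coe_decompose_mul_of_right_mem 𝒜 (j + i) (hx k)]
      simp only [e]
      split_ifs <;> simp
    simp only [he]
    rw [← coe_decompose_mul_add_of_right_mem 𝒜 ha, mul_assoc, hv', Finset.mul_sum, decompose_sum,
      DFinsupp.finsetSum_apply, AddSubmonoidClass.coe_finsetSum]
    refine Finset.sum_congr rfl fun k _ => ?_
    rw [mul_assoc]

include hp in
/-- (H1): every ideal of `A_(p)` is contracted from `A_p`. -/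
theorem comap_map_le (I : Ideal (HomogeneousLocalization.AtPrime 𝒜 p)) [IsNoetherianRing A] :
    (I.map (algebraMap (HomogeneousLocalization.AtPrime 𝒜 p) (Localization.AtPrime p))).comap
      (algebraMap (HomogeneousLocalization.AtPrime 𝒜 p) (Localization.AtPrime p)) ≤ I := by
  classical
  have hBn : IsNoetherianRing (HomogeneousLocalization.AtPrime 𝒜 p) :=
    isNoetherianRing_atPrime 𝒜 p
  obtain ⟨n, g, hg⟩ := Submodule.fg_iff_exists_fin_generating_family.mp (IsNoetherian.noetherian I)
  intro b hb
  rw [Ideal.mem_comap, ← hg] at hb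
  change _ ∈ Ideal.map _ (Ideal.span (Set.range g)) at hb
  rw [Ideal.map_span, ← Set.range_comp] at hb
  obtain ⟨cb, rfl⟩ := mk_surjective b
  have hex : ∀ k, ∃ c : NumDenSameDeg 𝒜 p.primeCompl, HomogeneousLocalization.mk c = g k :=
    fun k => mk_surjective (g k)
  choose c hc using hex
  obtain ⟨l, hl⟩ := (Ideal.mem_span_range_iff_exists_fun).mp hb
  -- units
  have hD : ∀ s : p.primeCompl, IsLocalization.mk' (Localization.AtPrime p) (1 : A) s *
      algebraMap A (Localization.AtPrime p) (s : A) = 1 := by
    intro s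
    rw [IsLocalization.mk'_spec, map_one]
  have hspan : algebraMap A (Localization.AtPrime p) (cb.num : A) ∈
      Ideal.span (Set.range fun k => algebraMap A (Localization.AtPrime p) ((c k).num : A)) := by
    rw [Ideal.mem_span_range_iff_exists_fun]
    refine ⟨fun k => algebraMap A (Localization.AtPrime p) (cb.den : A) * l k *
      IsLocalization.mk' (Localization.AtPrime p) (1 : A)
        (⟨(c k).den, (c k).den_mem⟩ : p.primeCompl), ?_⟩
    have h1 : ∀ k, (algebraMap (HomogeneousLocalization.AtPrime 𝒜 p) (Localization.AtPrime p) ∘ g) k =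
        algebraMap A (Localization.AtPrime p) ((c k).num : A) *
          IsLocalization.mk' (Localization.AtPrime p) (1 : A)
            (⟨(c k).den, (c k).den_mem⟩ : p.primeCompl) := by
      intro k
      rw [Function.comp_apply, ← hc k, HomogeneousLocalization.algebraMap_apply, val_mk_eq]
    simp only [h1] at hl
    rw [HomogeneousLocalization.algebraMap_apply, val_mk_eq] at hl
    have h2 := hD ⟨cb.den, cb.den_mem⟩
    calc ∑ k, algebraMap A (Localization.AtPrime p) (cb.den : A) * l k *
          IsLocalization.mk' (Localization.AtPrime p) (1 : A)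
            (⟨(c k).den, (c k).den_mem⟩ : p.primeCompl) *
          algebraMap A (Localization.AtPrime p) ((c k).num : A)
        = algebraMap A (Localization.AtPrime p) (cb.den : A) *
          ∑ k, l k * (algebraMap A (Localization.AtPrime p) ((c k).num : A) *
            IsLocalization.mk' (Localization.AtPrime p) (1 : A)
              (⟨(c k).den, (c k).den_mem⟩ : p.primeCompl)) := by
          rw [Finset.mul_sum]
          refine Finset.sum_congr rfl fun k _ => ?_
          ring
      _ = algebraMap A (Localization.AtPrime p) (cb.num : A) := by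
          rw [hl]
          linear_combination (algebraMap A (Localization.AtPrime p) (cb.num : A)) * h2
  obtain ⟨j, u, e, huj, hup, he, hrel⟩ := exists_homogeneous_relation 𝒜 p hp cb.num.2
    (fun k => ((c k).num : A)) (fun k => (c k).deg) (fun k => (c k).num.2) hspan
  have hudp : u * (cb.den : A) ∈ p.primeCompl := fun h =>
    (‹p.IsPrime›.mem_or_mem h).elim hup cb.den_mem
  let r : Fin n → NumDenSameDeg 𝒜 p.primeCompl := fun k =>
    ⟨j + cb.deg, ⟨e k * ((c k).den : A), he k _ (c k).den.2⟩,
      ⟨u * (cb.den : A), SetLike.mul_mem_graded huj cb.den.2⟩, hudp⟩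
  have hb' : (HomogeneousLocalization.mk cb : HomogeneousLocalization.AtPrime 𝒜 p) =
      ∑ k, HomogeneousLocalization.mk (r k) * g k := by
    apply HomogeneousLocalization.val_injective
    have hval : ∀ y : HomogeneousLocalization.AtPrime 𝒜 p, y.val =
        algebraMap (HomogeneousLocalization.AtPrime 𝒜 p) (Localization.AtPrime p) y :=
      fun y => rfl
    rw [hval (∑ k, _), map_sum]
    simp only [map_mul, HomogeneousLocalization.algebraMap_apply, ← hc]
    rw [val_mk_eq]
    have h3 : ∀ k, (HomogeneousLocalization.mk (r k) :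
          HomogeneousLocalization.AtPrime 𝒜 p).val *
        (HomogeneousLocalization.mk (c k) : HomogeneousLocalization.AtPrime 𝒜 p).val =
        IsLocalization.mk' (Localization.AtPrime p) (1 : A) (⟨u * (cb.den : A), hudp⟩ : p.primeCompl) *
          (algebraMap A (Localization.AtPrime p) (e k) *
            algebraMap A (Localization.AtPrime p) ((c k).num : A)) := by
      intro k
      rw [val_mk_eq, val_mk_eq]
      have h4 := hD ⟨(c k).den, (c k).den_mem⟩
      change algebraMap A (Localization.AtPrime p) (e k * ((c k).den : A)) *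
        IsLocalization.mk' (Localization.AtPrime p) (1 : A) (⟨u * (cb.den : A), hudp⟩ : p.primeCompl) *
        (algebraMap A (Localization.AtPrime p) ((c k).num : A) *
          IsLocalization.mk' (Localization.AtPrime p) (1 : A)
            (⟨(c k).den, (c k).den_mem⟩ : p.primeCompl)) = _
      rw [map_mul]
      linear_combination (algebraMap A (Localization.AtPrime p) (e k) *
        IsLocalization.mk' (Localization.AtPrime p) (1 : A) (⟨u * (cb.den : A), hudp⟩ : p.primeCompl) *
        algebraMap A (Localization.AtPrime p) ((c k).num : A)) * h4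
    simp only [h3]
    rw [← Finset.mul_sum]
    have h5 : ∑ k, algebraMap A (Localization.AtPrime p) (e k) *
        algebraMap A (Localization.AtPrime p) ((c k).num : A) =
        algebraMap A (Localization.AtPrime p) u *
          algebraMap A (Localization.AtPrime p) (cb.num : A) := by
      rw [← map_mul, hrel, map_sum]
      simp only [map_mul]
    rw [h5]
    have h6 := hD ⟨u * (cb.den : A), hudp⟩
    have h7 := hD ⟨cb.den, cb.den_mem⟩
    simp only [map_mul] at h6
    linear_combination (-(algebraMap A (Localization.AtPrime p) (cb.num : A)) *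
      IsLocalization.mk' (Localization.AtPrime p) (1 : A) (⟨cb.den, cb.den_mem⟩ : p.primeCompl)) * h6 +
      (algebraMap A (Localization.AtPrime p) (cb.num : A) *
        IsLocalization.mk' (Localization.AtPrime p) (1 : A) (⟨u * (cb.den : A), hudp⟩ : p.primeCompl) *
        algebraMap A (Localization.AtPrime p) u) * h7
  rw [hb']
  refine Ideal.sum_mem _ fun k _ => Ideal.mul_mem_left _ _ ?_
  rw [← hg]
  exact Ideal.subset_span ⟨k, rfl⟩

/-- The structure map `A_(p) → A_p` is local. -/
theorem algebraMap_mem_maximalIdeal (b : HomogeneousLocalization.AtPrime 𝒜 p)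
    (hb : b ∈ IsLocalRing.maximalIdeal (HomogeneousLocalization.AtPrime 𝒜 p)) :
    algebraMap (HomogeneousLocalization.AtPrime 𝒜 p) (Localization.AtPrime p) b ∈
      IsLocalRing.maximalIdeal (Localization.AtPrime p) := by
  rw [IsLocalRing.mem_maximalIdeal, mem_nonunits_iff] at hb ⊢
  rw [HomogeneousLocalization.algebraMap_apply]
  exact fun h => hb ((HomogeneousLocalization.isUnit_iff_isUnit_val 𝒜 p b).mp h)

include hp in
/-- (H2): the maximal ideal of `A_(p)` extends to an ideal primary to the maximal ideal of `A_p`,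
when `p` does not contain a homogeneous element of positive degree. -/
theorem eq_maximalIdeal_of_le_comap {d : ℕ} (hd : 0 < d) {t₀ : A} (ht₀ : t₀ ∈ 𝒜 d) (ht₀p : t₀ ∉ p)
    (P : Ideal (Localization.AtPrime p)) (hP : P.IsPrime)
    (hle : IsLocalRing.maximalIdeal (HomogeneousLocalization.AtPrime 𝒜 p) ≤
      P.comap (algebraMap (HomogeneousLocalization.AtPrime 𝒜 p) (Localization.AtPrime p))) :
    P = IsLocalRing.maximalIdeal (Localization.AtPrime p) := by
  classical
  refine le_antisymm (IsLocalRing.le_maximalIdeal hP.ne_top) ?_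
  rw [← Localization.AtPrime.map_eq_maximalIdeal, Ideal.map_le_iff_le_comap]
  intro x hx
  rw [Ideal.mem_comap]
  -- reduce to homogeneous elements
  rw [← DirectSum.sum_support_decompose 𝒜 x, map_sum]
  refine Ideal.sum_mem _ fun i _ => ?_
  have hxi : (decompose 𝒜 x i : A) ∈ p := hp i hx
  have hxi' : (decompose 𝒜 x i : A) ∈ 𝒜 i := SetLike.coe_mem _
  -- the fraction `x_i ^ d / t₀ ^ i`
  have hmem : (HomogeneousLocalization.mk (powFrac 𝒜 p ht₀ ht₀p hxi') :
      HomogeneousLocalization.AtPrime 𝒜 p) ∈
        IsLocalRing.maximalIdeal (HomogeneousLocalization.AtPrime 𝒜 p) := by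
    rw [IsLocalRing.mem_maximalIdeal, mem_nonunits_iff,
      ← HomogeneousLocalization.isUnit_iff_isUnit_val, val_mk_eq, powFrac_num]
    intro hu
    have h1 : IsUnit (algebraMap A (Localization.AtPrime p) ((decompose 𝒜 x i : A) ^ d)) :=
      isUnit_of_mul_isUnit_left hu
    rw [map_pow] at h1
    have h2 : IsUnit (algebraMap A (Localization.AtPrime p) (decompose 𝒜 x i : A)) :=
      (isUnit_pow_iff hd.ne').mp h1
    have h3 : algebraMap A (Localization.AtPrime p) (decompose 𝒜 x i : A) ∈
        IsLocalRing.maximalIdeal (Localization.AtPrime p) := by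
      rw [← Localization.AtPrime.map_eq_maximalIdeal]
      exact Ideal.mem_map_of_mem _ hxi
    exact (IsLocalRing.mem_maximalIdeal _).mp h3 h2
  have h4 := hle hmem
  rw [Ideal.mem_comap, HomogeneousLocalization.algebraMap_apply, val_mk_eq, powFrac_num] at h4
  have h5 : algebraMap A (Localization.AtPrime p) ((decompose 𝒜 x i : A) ^ d) ∈ P := by
    have h6 := P.mul_mem_right (algebraMap A (Localization.AtPrime p)
      ((powFrac 𝒜 p ht₀ ht₀p hxi').den : A)) h4
    have h7 : IsLocalization.mk' (Localization.AtPrime p) (1 : A)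
        (⟨(powFrac 𝒜 p ht₀ ht₀p hxi').den, (powFrac 𝒜 p ht₀ ht₀p hxi').den_mem⟩ : p.primeCompl) *
        algebraMap A (Localization.AtPrime p) ((powFrac 𝒜 p ht₀ ht₀p hxi').den : A) = 1 := by
      rw [IsLocalization.mk'_spec, map_one]
    rwa [mul_assoc, h7, mul_one] at h6
  rw [map_pow] at h5
  exact hP.mem_of_pow_mem d h5

end Groth.Agent.Lib.Seat67.ProjCM
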