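import Mathlib.RingTheory.GradedAlgebra.HomogeneousLocalization
import Mathlib.RingTheory.GradedAlgebra.Radical
import Mathlib.RingTheory.IntegralClosure.IntegrallyClosed
import Mathlib.RingTheory.Localization.AtPrime.Basic

set_option autoImplicit false

/-!
# Homogeneous localization at a homogeneous prime of a graded ring whose localization is a normal
domain is a normal domain
-/

universe u

namespace Groth.Agent.Lib.Seat67.ProjNormal

open DirectSum HomogeneousLocalization

variable {A : Type u} [CommRing A] {σ : Type*} [SetLike σ A] [AddSubgroupClass σ A]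
  (𝒜 : ℕ → σ) [GradedRing 𝒜] (p : Ideal A) [p.IsPrime] (hp : p.IsHomogeneous 𝒜)

/-- The kernel of `A → A_p` is homogeneous when `A_p` is a domain. -/
theorem algebraMap_decompose_eq_zero [IsDomain (Localization.AtPrime p)] (a : A)
    (ha : algebraMap A (Localization.AtPrime p) a = 0) (i : ℕ) :
    algebraMap A (Localization.AtPrime p) (decompose 𝒜 a i : A) = 0 := by
  set Q : Ideal A := RingHom.ker (algebraMap A (Localization.AtPrime p)) with hQ
  have hQprime : Q.IsPrime := RingHom.ker_isPrime _
  have hcore : (Q.homogeneousCore 𝒜).toIdeal.IsPrime := hQprime.homogeneousCore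
  have hle : (Q.homogeneousCore 𝒜).toIdeal ≤ Q := Ideal.toIdeal_homogeneousCore_le 𝒜 Q
  obtain ⟨s, hs⟩ := (IsLocalization.map_eq_zero_iff p.primeCompl (Localization.AtPrime p) a).mp ha
  have hmem : (s : A) * a ∈ (Q.homogeneousCore 𝒜).toIdeal := by rw [hs]; exact Ideal.zero_mem _
  have ha' : a ∈ (Q.homogeneousCore 𝒜).toIdeal := by
    rcases hcore.mem_or_mem hmem with h | h
    · exfalso
      have h0 : algebraMap A (Localization.AtPrime p) s = 0 := hle h
      have hu : IsUnit (algebraMap A (Localization.AtPrime p) s) :=
        IsLocalization.map_units (Localization.AtPrime p) s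
      exact hu.ne_zero h0
    · exact h
  exact hle ((Q.homogeneousCore 𝒜).isHomogeneous i ha')


include hp in
/-- A fraction `a'/b'` of homogeneous elements of the same degree which lies in `A_p` can be
written with homogeneous numerator and denominator of the same degree, the denominator outside
`p`. -/
theorem exists_homogeneous_repr [IsDomain (Localization.AtPrime p)]
    {n n' : ℕ} {a' s b' s' : A} (ha' : a' ∈ 𝒜 n) (hs : s ∈ 𝒜 n) (hb' : b' ∈ 𝒜 n')
    (hs' : s' ∈ 𝒜 n') (z : Localization.AtPrime p)
    (hz : algebraMap A (Localization.AtPrime p) b' * algebraMap A (Localization.AtPrime p) s * z =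
      algebraMap A (Localization.AtPrime p) a' * algebraMap A (Localization.AtPrime p) s') :
    ∃ (j : ℕ) (y t : A), y ∈ 𝒜 j ∧ t ∈ 𝒜 j ∧ t ∉ p ∧
      algebraMap A (Localization.AtPrime p) b' * algebraMap A (Localization.AtPrime p) s *
          algebraMap A (Localization.AtPrime p) y =
        algebraMap A (Localization.AtPrime p) a' * algebraMap A (Localization.AtPrime p) s' *
          algebraMap A (Localization.AtPrime p) t := by
  obtain ⟨⟨y, t⟩, hyt⟩ := IsLocalization.surj p.primeCompl z
  simp only at hyt
  -- some component of `t` is outside `p`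
  obtain ⟨j, hj⟩ : ∃ j, (decompose 𝒜 (t : A) j : A) ∉ p := by
    by_contra hcon
    push Not at hcon
    exact t.2 ((hp.mem_iff).mpr hcon)
  have hbs : b' * s ∈ 𝒜 (n' + n) := SetLike.mul_mem_graded hb' hs
  have has : a' * s' ∈ 𝒜 (n' + n) := by
    rw [add_comm]; exact SetLike.mul_mem_graded ha' hs'
  have he : algebraMap A (Localization.AtPrime p) (b' * s * y - a' * s' * t) = 0 := by
    rw [map_sub, map_mul, map_mul, map_mul, map_mul, ← hyt, sub_eq_zero]
    calc algebraMap A (Localization.AtPrime p) b' * algebraMap A (Localization.AtPrime p) s *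
          (z * algebraMap A (Localization.AtPrime p) t)
        = (algebraMap A (Localization.AtPrime p) b' * algebraMap A (Localization.AtPrime p) s * z) *
          algebraMap A (Localization.AtPrime p) t := by ring
      _ = _ := by rw [hz]
  have hcomp := algebraMap_decompose_eq_zero 𝒜 p _ he (n' + n + j)
  rw [decompose_sub, DirectSum.sub_apply, AddSubgroupClass.coe_sub,
    coe_decompose_mul_add_of_left_mem 𝒜 hbs, coe_decompose_mul_add_of_left_mem 𝒜 has,
    map_sub, sub_eq_zero] at hcomp
  refine ⟨j, (decompose 𝒜 y j : A), (decompose 𝒜 (t : A) j : A), SetLike.coe_mem _,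
    SetLike.coe_mem _, hj, ?_⟩
  simpa only [map_mul] using hcomp


/-- `A_(p)` is a domain if `A_p` is. -/
theorem isDomain_atPrime [IsDomain (Localization.AtPrime p)] :
    IsDomain (HomogeneousLocalization.AtPrime 𝒜 p) :=
  Function.Injective.isDomain
    (algebraMap (HomogeneousLocalization.AtPrime 𝒜 p) (Localization.AtPrime p))
    (HomogeneousLocalization.val_injective _)

include hp in
/-- `A_(p)` is integrally closed if `A_p` is an integrally closed domain. -/
theorem isIntegrallyClosed_atPrime [IsDomain (Localization.AtPrime p)]
    [IsIntegrallyClosed (Localization.AtPrime p)] :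
    letI := isDomain_atPrime 𝒜 p
    IsIntegrallyClosed (HomogeneousLocalization.AtPrime 𝒜 p) := by
  let _ := isDomain_atPrime 𝒜 p
  set B := HomogeneousLocalization.AtPrime 𝒜 p
  set L := Localization.AtPrime p
  rw [isIntegrallyClosed_iff (FractionRing B)]
  intro x hx
  -- the comparison of fraction fields
  have hinj : Function.Injective ((algebraMap L (FractionRing L)).comp (algebraMap B L)) :=
    (IsFractionRing.injective L (FractionRing L)).comp (HomogeneousLocalization.val_injective _)
  let φ : FractionRing B →+* FractionRing L := IsFractionRing.lift hinj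
  have hφ : ∀ b : B, φ (algebraMap B (FractionRing B) b) =
      algebraMap L (FractionRing L) (algebraMap B L b) := fun b => IsFractionRing.lift_algebraMap hinj b
  have hint : IsIntegral L (φ x) :=
    hx.map_of_comp_eq (algebraMap B L) φ (by ext b; exact (hφ b).symm)
  obtain ⟨z, hz⟩ := (isIntegrallyClosed_iff (FractionRing L)).mp inferInstance hint
  obtain ⟨a, b, hb, rfl⟩ := IsFractionRing.div_surjective (A := B) x
  have hb0 : algebraMap B (FractionRing B) b ≠ 0 :=
    IsFractionRing.to_map_ne_zero_of_mem_nonZeroDivisors hb
  -- `b.val * z = a.val` in `L`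
  have hbz : b.val * z = a.val := by
    apply IsFractionRing.injective L (FractionRing L)
    rw [map_mul, hz, map_div₀, hφ, hφ]
    have : algebraMap L (FractionRing L) (algebraMap B L b) ≠ 0 := by
      rw [← hφ]; exact (map_ne_zero φ).mpr hb0
    change algebraMap L (FractionRing L) (algebraMap B L b) * _ = algebraMap L (FractionRing L) (algebraMap B L a)
    rw [mul_div_cancel₀ _ this]
  -- numerators and denominators
  have hav : algebraMap A L a.den * a.val = algebraMap A L a.num := by
    have := a.den_smul_val; rwa [Algebra.smul_def] at this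
  have hbv : algebraMap A L b.den * b.val = algebraMap A L b.num := by
    have := b.den_smul_val; rwa [Algebra.smul_def] at this
  have hua : IsUnit (algebraMap A L a.den) :=
    IsLocalization.map_units L (⟨a.den, a.den_mem⟩ : p.primeCompl)
  have hub : IsUnit (algebraMap A L b.den) :=
    IsLocalization.map_units L (⟨b.den, b.den_mem⟩ : p.primeCompl)
  have hz' : algebraMap A L b.num * algebraMap A L a.den * z =
      algebraMap A L a.num * algebraMap A L b.den := by
    rw [← hbv, ← hav, ← hbz]; ring
  obtain ⟨j, y, t, hy, ht, htp, hyt⟩ :=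
    exists_homogeneous_repr 𝒜 p hp a.num_mem_deg a.den_mem_deg b.num_mem_deg b.den_mem_deg z hz'
  let w : B := HomogeneousLocalization.mk ⟨j, ⟨y, hy⟩, ⟨t, ht⟩, htp⟩
  have hut : IsUnit (algebraMap A L t) :=
    IsLocalization.map_units L (⟨t, htp⟩ : p.primeCompl)
  have hwv : algebraMap A L t * w.val = algebraMap A L y := by
    change algebraMap A L t * Localization.mk y ⟨t, htp⟩ = _
    rw [Localization.mk_eq_mk', mul_comm]
    exact IsLocalization.mk'_spec L y ⟨t, htp⟩
  have hbw : b * w = a := by
    apply HomogeneousLocalization.val_injective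
    rw [HomogeneousLocalization.val_mul]
    apply (hua.mul (hub.mul hut)).mul_left_cancel
    calc algebraMap A L a.den * (algebraMap A L b.den * algebraMap A L t) * (b.val * w.val)
        = algebraMap A L a.den * (algebraMap A L b.den * b.val) *
            (algebraMap A L t * w.val) := by ring
      _ = algebraMap A L b.num * algebraMap A L a.den * algebraMap A L y := by
          rw [hbv, hwv]; ring
      _ = algebraMap A L a.num * algebraMap A L b.den * algebraMap A L t := hyt
      _ = algebraMap A L a.den * (algebraMap A L b.den * algebraMap A L t) * a.val := by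
          rw [← hav]; ring
  refine ⟨w, ?_⟩
  rw [eq_div_iff hb0, ← map_mul, mul_comm, hbw]

end Groth.Agent.Lib.Seat67.ProjNormal
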