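import Mathlib
import Groth.Prelude.Def_FlatCA
set_option autoImplicit false
set_option linter.style.haveILetI false
universe u
open TensorProduct

namespace Groth.Agent.Lib.Seat67.ProjPure


variable {A' : Type u} [CommRing A'] (t' t : Ideal A') [t'.IsPrime] [t.IsPrime]
  {B' : Type u} [CommRing B'] [Algebra A' B']
  (N' : Type u) [AddCommGroup N'] [Module A' N'] [Module B' N'] [IsScalarTower A' B' N']

/-- multiplication by `b` as an `A'`-linear endomorphism. -/
noncomputable def mu (b : B') : N' →ₗ[A'] N' :=
  { toFun := fun n => b • n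
    map_add' := fun x y => smul_add b x y
    map_smul' := fun a x => by
      simp only [RingHom.id_apply]
      exact smul_comm b a x }

theorem mu_apply (b : B') (n : N') : mu (A' := A') N' b n = b • n := rfl

theorem mu_add (b c : B') : mu (A' := A') N' (b + c) = mu N' b + mu N' c := by
  ext n; simp [mu_apply, add_smul]

theorem mu_mul (b c : B') : mu (A' := A') N' (b * c) = mu N' b ∘ₗ mu N' c := by
  ext n; simp [mu_apply, mul_smul]

theorem mu_zero : mu (A' := A') N' (0 : B') = 0 := by
  ext n; simp [mu_apply]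

theorem mu_algebraMap (a : A') : mu (A' := A') N' (algebraMap A' B' a) = a • LinearMap.id := by
  ext n; simp [mu_apply]

/-- the functional `κ ⊗ N' → κ` induced by a functional on `N'`. -/
noncomputable def til (φ : N' →ₗ[A'] A') : t'.ResidueField ⊗[A'] N' →ₗ[A'] t'.ResidueField :=
  (TensorProduct.rid A' t'.ResidueField).toLinearMap ∘ₗ (LinearMap.lTensor t'.ResidueField φ)

omit [Module B' N'] [IsScalarTower A' B' N'] in
theorem til_tmul (φ : N' →ₗ[A'] A') (k : t'.ResidueField) (n : N') :
    til t' N' φ (k ⊗ₜ n) = φ n • k := by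
  simp [til]

omit [Module B' N'] [IsScalarTower A' B' N'] in
theorem til_lTensor (φ : N' →ₗ[A'] A') (ψ : N' →ₗ[A'] N') (y : t'.ResidueField ⊗[A'] N') :
    til t' N' φ (LinearMap.lTensor _ ψ y) = til t' N' (φ ∘ₗ ψ) y := by
  simp [til, LinearMap.lTensor_comp]

variable {t' t N'}

theorem core (hle : t' ≤ t) [Module.Projective A' N'] (y : t'.ResidueField ⊗[A'] N')
    (s : A') (hs : s ∉ t) (g h : B') (hg : LinearMap.lTensor t'.ResidueField (mu (A' := A') N' g) y = 0)
    (hh : h ∈ t.map (algebraMap A' B')) (hsgh : algebraMap A' B' s = g + h) : y = 0 := by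
  classical
  obtain ⟨σ, hσ⟩ := (Module.projective_def' (R := A') (P := N')).1 inferInstance
  let κ := t'.ResidueField
  let L := Localization.AtPrime t
  have hunit : ∀ a : t.primeCompl, IsUnit (algebraMap A' κ a) := by
    intro a
    rw [isUnit_iff_ne_zero, Ne, Ideal.algebraMap_residueField_eq_zero]
    exact fun ha => a.2 (hle ha)
  letI : Algebra L κ := (IsLocalization.lift (M := t.primeCompl) (S := L) hunit).toAlgebra
  haveI : IsScalarTower A' L κ := IsScalarTower.of_algebraMap_eq (fun a => by
    rw [RingHom.algebraMap_toAlgebra, IsLocalization.lift_eq])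
  -- coordinates
  let z : N' →₀ κ := TensorProduct.finsuppScalarRight A' A' κ N' (LinearMap.lTensor κ σ y)
  have hz0 : z = 0 → y = 0 := by
    intro hz
    have h1 : LinearMap.lTensor κ σ y = 0 := by
      have := (TensorProduct.finsuppScalarRight A' A' κ N').injective (a₁ := LinearMap.lTensor κ σ y)
        (a₂ := 0)
      apply this
      rw [map_zero]; exact hz
    have h2 : LinearMap.lTensor κ (Finsupp.linearCombination A' id ∘ₗ σ) y = 0 := by
      rw [LinearMap.lTensor_comp, LinearMap.comp_apply, h1, map_zero]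
    rwa [hσ, LinearMap.lTensor_id, LinearMap.id_apply] at h2
  have hzj : ∀ j, z j = til t' N' (Finsupp.lapply j ∘ₗ σ) y := by
    intro j
    simp only [z, til]
    rw [TensorProduct.finsuppScalarRight_apply, LinearMap.lTensor_comp]
    rfl
  -- formula for functionals
  have hform : ∀ φ : N' →ₗ[A'] A', til t' N' φ y = z.sum (fun j k => φ j • k) := by
    intro φ
    have key : til t' N' φ = (Finsupp.lsum ℕ (fun j : N' => (φ j) • (LinearMap.id : κ →ₗ[A'] κ))) ∘ₗ
        (TensorProduct.finsuppScalarRight A' A' κ N').toLinearMap ∘ₗ (LinearMap.lTensor κ σ) := by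
      apply TensorProduct.ext'
      intro k n
      rw [til_tmul]
      simp only [LinearMap.comp_apply, LinearMap.lTensor_tmul, LinearEquiv.coe_coe]
      rw [TensorProduct.finsuppScalarRight_apply_tmul]
      have hn : Finsupp.linearCombination A' id (σ n) = n := LinearMap.congr_fun hσ n
      conv_lhs => rw [← hn]
      rw [Finsupp.linearCombination_apply, map_finsuppSum, map_finsuppSum]
      simp only [Finsupp.sum, Finset.sum_smul, id, map_smul, smul_eq_mul, Finsupp.lsum_single,
        LinearMap.smul_apply, LinearMap.id_apply]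
      refine Finset.sum_congr rfl (fun i _ => ?_)
      rw [mul_smul, smul_comm]
    rw [key]
    simp only [LinearMap.comp_apply, LinearEquiv.coe_coe]
    rfl
  -- the finitely generated L-submodule
  let c : Submodule L κ := Submodule.span L (z '' (z.support : Set N'))
  have hcfg : c.FG := Submodule.fg_span (z.support.finite_toSet.image z)
  have hzc : ∀ j, z j ∈ c := by
    intro j
    by_cases hj : j ∈ z.support
    · exact Submodule.subset_span ⟨j, hj, rfl⟩
    · rw [Finsupp.notMem_support_iff.1 hj]; exact zero_mem _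
  have htilc : ∀ φ : N' →ₗ[A'] A', til t' N' φ y ∈ c := by
    intro φ
    rw [hform φ]
    refine Submodule.sum_mem _ (fun j _ => ?_)
    show φ j • z j ∈ c
    rw [← algebraMap_smul L (φ j) (z j)]
    exact Submodule.smul_mem _ _ (hzc j)
  let 𝔪 := IsLocalRing.maximalIdeal L
  -- the ideal of good multipliers
  let Jh : Ideal B' :=
    { carrier := {b | ∀ φ : N' →ₗ[A'] A',
        til t' N' φ (LinearMap.lTensor κ (mu (A' := A') N' b) y) ∈ 𝔪 • c}
      add_mem' := by
        intro b₁ b₂ h₁ h₂ φ
        rw [mu_add, LinearMap.lTensor_add, LinearMap.add_apply, map_add]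
        exact add_mem (h₁ φ) (h₂ φ)
      zero_mem' := by
        intro φ
        rw [mu_zero, LinearMap.lTensor_zero, LinearMap.zero_apply, map_zero]
        exact zero_mem _
      smul_mem' := by
        intro b₁ b₂ h₂ φ
        rw [smul_eq_mul, mu_mul, LinearMap.lTensor_comp, LinearMap.comp_apply, til_lTensor]
        exact h₂ _ }
  have hJ : t.map (algebraMap A' B') ≤ Jh := by
    rw [Ideal.map_le_iff_le_comap]
    intro a ha φ
    rw [mu_algebraMap, LinearMap.lTensor_smul, LinearMap.lTensor_id, LinearMap.smul_apply,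
      LinearMap.id_apply, map_smul, ← algebraMap_smul L a (til t' N' φ y)]
    refine Submodule.smul_mem_smul ?_ (htilc φ)
    exact (IsLocalization.AtPrime.to_map_mem_maximal_iff L t a).2 ha
  have hcle : c ≤ 𝔪 • c := by
    refine Submodule.span_le.2 ?_
    rintro _ ⟨j, -, rfl⟩
    have hsu : IsUnit (algebraMap A' L s) := IsLocalization.map_units L (⟨s, hs⟩ : t.primeCompl)
    show z j ∈ 𝔪 • c
    rw [← Submodule.smul_mem_iff_of_isUnit _ hsu, algebraMap_smul, hzj j, ← map_smul]
    have : s • y = LinearMap.lTensor κ (mu (A' := A') N' h) y := by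
      have h1 : LinearMap.lTensor κ (mu (A' := A') N' (algebraMap A' B' s)) y = s • y := by
        rw [mu_algebraMap, LinearMap.lTensor_smul, LinearMap.lTensor_id, LinearMap.smul_apply,
          LinearMap.id_apply]
      rw [← h1, hsgh, mu_add, LinearMap.lTensor_add, LinearMap.add_apply, hg, zero_add]
    rw [this]
    exact hJ hh _
  have hc0 : c = ⊥ := Submodule.eq_bot_of_le_smul_of_le_jacobson_bot 𝔪 c hcfg hcle
    (IsLocalRing.maximalIdeal_le_jacobson ⊥)
  apply hz0
  ext j
  have := hzc j
  rw [hc0, Submodule.mem_bot] at this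
  rw [this]; rfl


section Wrap
attribute [local instance] Algebra.TensorProduct.rightAlgebra



theorem exists_s_g {A' B' : Type u} [CommRing A'] [CommRing B'] [Algebra A' B']
    (t : Ideal A') [t.IsPrime] (P : Ideal B')
    (hno : ∀ (P' : Ideal B') [P'.IsPrime], P ≤ P' → ¬ P'.LiesOver t) :
    ∃ s, s ∉ t ∧ ∃ g ∈ P, ∃ h ∈ t.map (algebraMap A' B'), algebraMap A' B' s = g + h := by
  by_contra hcon
  push Not at hcon
  have hdisj : Disjoint ((P ⊔ t.map (algebraMap A' B') : Ideal B') : Set B')
      (Submonoid.map (algebraMap A' B') t.primeCompl : Set B') := by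
    rw [Set.disjoint_left]
    rintro b hb ⟨s, hs, rfl⟩
    obtain ⟨g, hg, h, hh, hgh⟩ := Submodule.mem_sup.1 hb
    exact hcon s hs g hg h hh hgh.symm
  obtain ⟨P', hP', hle, hd⟩ := Ideal.exists_le_prime_disjoint _ _ hdisj
  refine hno P' (le_sup_left.trans hle) ⟨?_⟩
  ext a
  constructor
  · intro ha
    exact hle (Ideal.mem_sup_right (Ideal.mem_map_of_mem _ ha))
  · intro ha
    by_contra hat
    exact Set.disjoint_left.1 hd ha ⟨a, hat, rfl⟩


variable {A' : Type u} [CommRing A'] (t' : Ideal A') [t'.IsPrime]
  {B' : Type u} [CommRing B'] [Algebra A' B']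
  (N' : Type u) [AddCommGroup N'] [Module A' N'] [Module B' N'] [IsScalarTower A' B' N']

variable (B') in
noncomputable def fibEquiv :
    (t'.Fiber B') ⊗[B'] N' ≃ₗ[t'.ResidueField] t'.ResidueField ⊗[A'] N' :=
  Algebra.IsPushout.cancelBaseChange A' t'.ResidueField B' (t'.Fiber B') N'

theorem fibEquiv_symm_lTensor (b : B') (y : t'.ResidueField ⊗[A'] N') :
    (fibEquiv t' B' N').symm (LinearMap.lTensor t'.ResidueField (mu (A' := A') N' b) y) =
      (Algebra.TensorProduct.includeRight (R := A') (A := t'.ResidueField) (B := B') b) •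
        (fibEquiv t' B' N').symm y := by
  induction y using TensorProduct.induction_on with
  | zero => simp
  | add x y hx hy => simp only [map_add, smul_add, hx, hy]
  | tmul k n =>
    rw [LinearMap.lTensor_tmul, mu_apply]
    simp only [fibEquiv, Algebra.IsPushout.cancelBaseChange_symm_tmul]
    rw [TensorProduct.smul_tmul', smul_eq_mul, ← TensorProduct.smul_tmul, Algebra.smul_def]
    rfl


end Wrap

end Groth.Agent.Lib.Seat67.ProjPure
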