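import Mathlib.RingTheory.GradedAlgebra.HomogeneousLocalization
import Mathlib.RingTheory.GradedAlgebra.Radical
import Mathlib.RingTheory.Localization.AtPrime.Basic
import Mathlib.RingTheory.Ideal.MinimalPrime.Localization
import Mathlib.RingTheory.Ideal.AssociatedPrime.Basic
import Mathlib.RingTheory.Noetherian.Basic

set_option autoImplicit false

/-!
# (S₁) passes from a Noetherian graded ring to the homogeneous localizations at relevant primes
(seat 67): algebraic core
-/

universe u

namespace Groth.Agent.Lib.Seat67.ProjS1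

open DirectSum HomogeneousLocalization

section General

variable {R : Type*} [CommRing R]

/-- Elements of a minimal prime are nilpotent up to a factor outside the prime. -/
theorem exists_mul_pow_eq_zero_of_mem_minimalPrimes {p : Ideal R} (hp : p ∈ minimalPrimes R)
    {x : R} (hx : x ∈ p) : ∃ w ∉ p, ∃ m : ℕ, w * x ^ m = 0 := by
  have hpp : p.IsPrime := hp.1.1
  have hle : p.map (algebraMap R (Localization.AtPrime p)) ≤
      nilradical (Localization.AtPrime p) := by
    rw [nilradical, Ideal.radical_eq_sInf, le_sInf_iff]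
    rintro q ⟨-, hq⟩
    obtain ⟨h₁, h₂⟩ := ((IsLocalization.AtPrime.orderIsoOfPrime _ p) ⟨q, hq⟩).2
    rw [Ideal.map_le_iff_le_comap]
    exact hp.2 ⟨h₁, bot_le⟩ h₂
  obtain ⟨n, hn⟩ := hle (Ideal.mem_map_of_mem _ hx)
  rw [← map_pow, Ideal.zero_eq_bot, Ideal.mem_bot, IsLocalization.map_eq_zero_iff p.primeCompl] at hn
  obtain ⟨t, ht⟩ := hn
  exact ⟨t, t.2, n, ht⟩

/-- Converse criterion for minimality of a prime. -/
theorem mem_minimalPrimes_of_forall_exists_mul_pow_eq_zero {p : Ideal R} [hp : p.IsPrime]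
    (h : ∀ x ∈ p, ∃ w ∉ p, ∃ m : ℕ, w * x ^ m = 0) : p ∈ minimalPrimes R := by
  refine ⟨⟨hp, bot_le⟩, ?_⟩
  rintro q ⟨hq, -⟩ hqp x hx
  obtain ⟨w, hw, m, hwm⟩ := h x hx
  have h0 : w * x ^ m ∈ q := by rw [hwm]; exact q.zero_mem
  rcases hq.mem_or_mem h0 with h1 | h1
  · exact absurd (hqp h1) hw
  · exact hq.mem_of_pow_mem m h1

end General

section Graded

variable {A : Type u} [CommRing A] {σ : Type*} [SetLike σ A] [AddSubgroupClass σ A]
  (𝒜 : ℕ → σ) [GradedRing 𝒜]

/-- An element outside a homogeneous ideal has a homogeneous component outside it. -/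
theorem exists_decompose_notMem {I : Ideal A} (hI : I.IsHomogeneous 𝒜) {u : A} (hu : u ∉ I) :
    ∃ j, (decompose 𝒜 u j : A) ∉ I := by
  by_contra hcon
  push Not at hcon
  exact hu ((hI.mem_iff).mpr hcon)

/-- If `u * x = 0` with `x` homogeneous then every component of `u` kills `x`. -/
theorem decompose_mul_eq_zero {i : ℕ} {x u : A} (hx : x ∈ 𝒜 i) (h : u * x = 0) (j : ℕ) :
    (decompose 𝒜 u j : A) * x = 0 := by
  rw [← coe_decompose_mul_add_of_right_mem 𝒜 hx, h, decompose_zero, DirectSum.zero_apply,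
    ZeroMemClass.coe_zero]

/-- The annihilator of a homogeneous element is a homogeneous ideal. -/
theorem isHomogeneous_colon_singleton {k : ℕ} {a : A} (ha : a ∈ 𝒜 k) :
    ((⊥ : Submodule A A).colon {a}).IsHomogeneous 𝒜 := by
  intro j x hx
  rw [Submodule.mem_colon_singleton, Submodule.mem_bot, smul_eq_mul] at hx ⊢
  exact decompose_mul_eq_zero 𝒜 ha hx j

end Graded

end Groth.Agent.Lib.Seat67.ProjS1
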