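import Groth.Agent.Lib.Seat67ProjS1a

set_option autoImplicit false

universe u

namespace Groth.Agent.Lib.Seat67.ProjS1

open DirectSum HomogeneousLocalization

variable {A : Type u} [CommRing A] {σ : Type*} [SetLike σ A] [AddSubgroupClass σ A]
  (𝒜 : ℕ → σ) [GradedRing 𝒜] (p : Ideal A) [p.IsPrime] (hp : p.IsHomogeneous 𝒜)

include hp in
/-- A homogeneous fraction vanishes iff its numerator is killed by a homogeneous element
outside `p`. -/
theorem mk_eq_zero_iff (c : NumDenSameDeg 𝒜 p.primeCompl) :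
    (HomogeneousLocalization.mk c : HomogeneousLocalization.AtPrime 𝒜 p) = 0 ↔
      ∃ (j : ℕ) (v : A), v ∈ 𝒜 j ∧ v ∉ p ∧ v * (c.num : A) = 0 := by
  rw [HomogeneousLocalization.ext_iff_val, val_mk, val_zero, Localization.mk_eq_mk',
    IsLocalization.mk'_eq_zero_iff]
  constructor
  · rintro ⟨v, hv⟩
    obtain ⟨j, hj⟩ := exists_decompose_notMem 𝒜 hp v.2
    exact ⟨j, _, SetLike.coe_mem _, hj, decompose_mul_eq_zero 𝒜 c.num.2 hv j⟩
  · rintro ⟨j, v, -, hv, hvx⟩
    exact ⟨⟨v, hv⟩, hvx⟩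

/-- Saturation: among the annihilators of `u * a` (`u` homogeneous outside `p`) choose a maximal
one. -/
theorem exists_saturated [IsNoetherianRing A] (a : A) :
    ∃ (k : ℕ) (u : A), u ∈ 𝒜 k ∧ u ∉ p ∧
      ∀ (j : ℕ) (v : A), v ∈ 𝒜 j → v ∉ p → ∀ x : A, v * x * (u * a) = 0 → x * (u * a) = 0 := by
  let S : Set (Ideal A) :=
    {I | ∃ (k : ℕ) (u : A), u ∈ 𝒜 k ∧ u ∉ p ∧ I = (⊥ : Submodule A A).colon {u * a}}
  have hS : S.Nonempty :=
    ⟨_, 0, 1, SetLike.GradedOne.one_mem, (Ideal.ne_top_iff_one p).mp ‹p.IsPrime›.ne_top, rfl⟩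
  obtain ⟨I, ⟨k, u, huk, hup, rfl⟩, hmax⟩ := set_has_maximal_iff_noetherian.mpr inferInstance S hS
  refine ⟨k, u, huk, hup, fun j v hvj hvp x hx => ?_⟩
  have hmem : (⊥ : Submodule A A).colon {v * u * a} ∈ S :=
    ⟨j + k, v * u, SetLike.mul_mem_graded hvj huk,
      fun h => (‹p.IsPrime›.mem_or_mem h).elim hvp hup, rfl⟩
  have hle : (⊥ : Submodule A A).colon {u * a} ≤ (⊥ : Submodule A A).colon {v * u * a} := by
    intro y hy
    rw [Submodule.mem_colon_singleton, Submodule.mem_bot, smul_eq_mul] at hy ⊢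
    rw [mul_assoc v, mul_left_comm, hy, mul_zero]
  have hxmem : x ∈ (⊥ : Submodule A A).colon {v * u * a} := by
    rw [Submodule.mem_colon_singleton, Submodule.mem_bot, smul_eq_mul, ← hx]
    ring
  have hnot := hmax _ hmem
  have heq : (⊥ : Submodule A A).colon {u * a} = (⊥ : Submodule A A).colon {v * u * a} := by
    by_contra hne
    exact hnot (lt_of_le_of_ne hle hne)
  rw [← heq, Submodule.mem_colon_singleton, Submodule.mem_bot, smul_eq_mul] at hxmem
  exact hxmem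

end Groth.Agent.Lib.Seat67.ProjS1
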