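import Groth.Agent.Lib.Seat67ProjS1b

set_option autoImplicit false

universe u

namespace Groth.Agent.Lib.Seat67.ProjS1

open DirectSum HomogeneousLocalization

variable {A : Type u} [CommRing A] {σ : Type*} [SetLike σ A] [AddSubgroupClass σ A]
  (𝒜 : ℕ → σ) [GradedRing 𝒜] (p : Ideal A) [p.IsPrime] (hp : p.IsHomogeneous 𝒜)

/-- The degree-zero fraction `x ^ d / t₀ ^ i` attached to a homogeneous element `x` of degree
`i`. -/
def powFrac {d : ℕ} {t₀ : A} (ht₀ : t₀ ∈ 𝒜 d) (ht₀p : t₀ ∉ p) {i : ℕ} {x : A} (hx : x ∈ 𝒜 i) :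
    NumDenSameDeg 𝒜 p.primeCompl where
  deg := d • i
  num := ⟨x ^ d, SetLike.pow_mem_graded d hx⟩
  den := ⟨t₀ ^ i, by
    have h : d • i = i • d := by simp [mul_comm]
    rw [h]
    exact SetLike.pow_mem_graded i ht₀⟩
  den_mem := fun h => ht₀p (‹p.IsPrime›.mem_of_pow_mem _ h)

@[simp]
theorem powFrac_num {d : ℕ} {t₀ : A} (ht₀ : t₀ ∈ 𝒜 d) (ht₀p : t₀ ∉ p) {i : ℕ} {x : A}
    (hx : x ∈ 𝒜 i) : ((powFrac 𝒜 p ht₀ ht₀p hx).num : A) = x ^ d := rfl

include hp in
/-- **Core**: if every associated prime of the Noetherian graded ring `A` is minimal, the same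
holds for the homogeneous localization at a homogeneous prime `p` not containing some homogeneous
element of positive degree. -/
theorem mem_minimalPrimes_of_mem_associatedPrimes [IsNoetherianRing A]
    (hA : ∀ P ∈ associatedPrimes A A, P ∈ minimalPrimes A)
    {d : ℕ} (hd : 0 < d) {t₀ : A} (ht₀ : t₀ ∈ 𝒜 d) (ht₀p : t₀ ∉ p)
    {q : Ideal (HomogeneousLocalization.AtPrime 𝒜 p)}
    (hq : q ∈ associatedPrimes (HomogeneousLocalization.AtPrime 𝒜 p)
      (HomogeneousLocalization.AtPrime 𝒜 p)) :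
    q ∈ minimalPrimes (HomogeneousLocalization.AtPrime 𝒜 p) := by
  obtain ⟨hqprime, β, hqβ⟩ := hq
  obtain ⟨cβ, rfl⟩ := mk_surjective β
  obtain ⟨k, u, huk, hup, hsat⟩ := exists_saturated 𝒜 p (cβ.num : A)
  have ha' : u * (cβ.num : A) ∈ 𝒜 (k + cβ.deg) := SetLike.mul_mem_graded huk cβ.num.2
  have hJhom : ((⊥ : Submodule A A).colon {u * (cβ.num : A)}).IsHomogeneous 𝒜 :=
    isHomogeneous_colon_singleton 𝒜 ha'
  have hmemJ : ∀ x : A, x ∈ (⊥ : Submodule A A).colon {u * (cβ.num : A)} ↔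
      x * (u * (cβ.num : A)) = 0 := by
    intro x
    rw [Submodule.mem_colon_singleton, Submodule.mem_bot, smul_eq_mul]
  -- key equivalence on annihilators
  have hK : ∀ c : NumDenSameDeg 𝒜 p.primeCompl,
      (HomogeneousLocalization.mk c * HomogeneousLocalization.mk cβ :
        HomogeneousLocalization.AtPrime 𝒜 p) = 0 ↔ (c.num : A) * (u * (cβ.num : A)) = 0 := by
    intro c
    rw [← mk_mul, mk_eq_zero_iff 𝒜 p hp, NumDenSameDeg.num_mul]
    constructor
    · rintro ⟨j, v, hvj, hvp, hv⟩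
      apply hsat j v hvj hvp
      calc v * (c.num : A) * (u * (cβ.num : A)) = u * (v * ((c.num : A) * (cβ.num : A))) := by ring
        _ = 0 := by rw [hv, mul_zero]
    · intro h
      refine ⟨k, u, huk, hup, ?_⟩
      calc u * ((c.num : A) * (cβ.num : A)) = (c.num : A) * (u * (cβ.num : A)) := by ring
        _ = 0 := h
  -- membership in `q`
  have hR : ∀ c : NumDenSameDeg 𝒜 p.primeCompl,
      (HomogeneousLocalization.mk c : HomogeneousLocalization.AtPrime 𝒜 p) ∈ q ↔
        (c.num : A) ∈ ((⊥ : Submodule A A).colon {u * (cβ.num : A)}).radical := by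
    intro c
    rw [hqβ]
    constructor
    · rintro ⟨m, hm⟩
      rw [Submodule.mem_colon_singleton, Submodule.mem_bot, smul_eq_mul, ← mk_pow, hK,
        NumDenSameDeg.num_pow] at hm
      exact ⟨m, (hmemJ _).mpr hm⟩
    · rintro ⟨m, hm⟩
      refine ⟨m, ?_⟩
      rw [Submodule.mem_colon_singleton, Submodule.mem_bot, smul_eq_mul, ← mk_pow, hK,
        NumDenSameDeg.num_pow]
      exact (hmemJ _).mp hm
  -- the radical of the annihilator is a homogeneous prime
  have hPprime : ((⊥ : Submodule A A).colon {u * (cβ.num : A)}).radical.IsPrime := by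
    apply hJhom.radical.isPrime_of_homogeneous_mem_or_mem
    · intro htop
      have h1 : (1 : HomogeneousLocalization.AtPrime 𝒜 p) ∈ q := by
        rw [← mk_one, hR, htop]
        trivial
      exact hqprime.ne_top ((Ideal.eq_top_iff_one q).mpr h1)
    · rintro x y ⟨i, hx⟩ ⟨j, hy⟩ hxy
      have hmem : (HomogeneousLocalization.mk (powFrac 𝒜 p ht₀ ht₀p hx) *
          HomogeneousLocalization.mk (powFrac 𝒜 p ht₀ ht₀p hy) :
            HomogeneousLocalization.AtPrime 𝒜 p) ∈ q := by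
        rw [← mk_mul, hR, NumDenSameDeg.num_mul, powFrac_num, powFrac_num, ← mul_pow]
        exact Ideal.pow_mem_of_mem _ hxy d hd
      rcases hqprime.mem_or_mem hmem with h | h
      · left
        rw [hR, powFrac_num] at h
        exact Ideal.mem_radical_of_pow_mem h
      · right
        rw [hR, powFrac_num] at h
        exact Ideal.mem_radical_of_pow_mem h
  have hass : ((⊥ : Submodule A A).colon {u * (cβ.num : A)}).radical ∈ associatedPrimes A A :=
    ⟨hPprime, u * (cβ.num : A), rfl⟩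
  have hmin := hA _ hass
  -- now `q` is minimal
  have := hqprime
  apply mem_minimalPrimes_of_forall_exists_mul_pow_eq_zero
  intro b hb
  obtain ⟨c, rfl⟩ := mk_surjective b
  have hx := (hR c).mp hb
  obtain ⟨w, hw, m, hwm⟩ := exists_mul_pow_eq_zero_of_mem_minimalPrimes hmin hx
  obtain ⟨j, hj⟩ := exists_decompose_notMem 𝒜 hJhom.radical hw
  have hxm : (c.num : A) ^ m ∈ 𝒜 (m • c.deg) := SetLike.pow_mem_graded m c.num.2
  have hwj : (decompose 𝒜 w j : A) * (c.num : A) ^ m = 0 := decompose_mul_eq_zero 𝒜 hxm hwm j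
  refine ⟨HomogeneousLocalization.mk (powFrac 𝒜 p ht₀ ht₀p (SetLike.coe_mem (decompose 𝒜 w j))),
    ?_, m, ?_⟩
  · rw [hR, powFrac_num]
    exact fun h => hj (Ideal.mem_radical_of_pow_mem h)
  · rw [← mk_pow, ← mk_mul]
    apply mk_eq_zero_of_num
    apply Subtype.ext
    rw [NumDenSameDeg.num_mul, NumDenSameDeg.num_pow, powFrac_num, ZeroMemClass.coe_zero]
    obtain ⟨d', rfl⟩ : ∃ d', d = d' + 1 := ⟨d - 1, by omega⟩
    rw [pow_succ, mul_assoc, hwj, mul_zero]

end Groth.Agent.Lib.Seat67.ProjS1
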