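import Mathlib

set_option autoImplicit false
universe u

namespace Groth.Agent.Lib.Seat67.PsFrob

open MvPowerSeries

set_option linter.unusedSectionVars false

variable {σ : Type*} [Fintype σ] [DecidableEq σ] {k : Type u} [Field k] (p : ℕ) [hp : Fact p.Prime] [CharP k p]
  [PerfectRing k p]

/-- the `a`-th Frobenius component of a power series. -/
noncomputable def hcoef (g : MvPowerSeries σ k) (a : σ →₀ ℕ) : MvPowerSeries σ k :=
  fun m => (frobeniusEquiv k p).symm (coeff (a + p • m) g)

theorem coeff_hcoef (g : MvPowerSeries σ k) (a m : σ →₀ ℕ) :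
    coeff m (hcoef p g a) = (frobeniusEquiv k p).symm (coeff (a + p • m) g) := rfl

/-- the box `{a | ∀ i, a i ≤ p - 1}`. -/
noncomputable def box : Finset (σ →₀ ℕ) :=
  Finset.Iic (Finsupp.equivFunOnFinite.symm (fun _ => p - 1))

theorem mem_box (a : σ →₀ ℕ) : a ∈ box (σ := σ) p ↔ ∀ i, a i ≤ p - 1 := by
  unfold box
  rw [Finset.mem_Iic, Finsupp.le_def]
  simp

theorem coeff_pow_p (h : MvPowerSeries σ k) (m : σ →₀ ℕ) :
    coeff (p • m) (h ^ p) = (coeff m h) ^ p := by
  rw [← map_frobenius_expand p hp.out.ne_zero, coeff_map, coeff_expand_smul]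
  rfl

theorem coeff_pow_p_of_not_dvd (h : MvPowerSeries σ k) {m : σ →₀ ℕ} {i : σ} (hi : ¬ p ∣ m i) :
    coeff m (h ^ p) = 0 := by
  rw [← map_frobenius_expand p hp.out.ne_zero, coeff_map, coeff_expand_of_not_dvd p _ _ hi,
    map_zero]

/-- Frobenius decomposition: `g = ∑_{a ∈ box} X^a (g_a)^p`. -/
theorem decomposition (g : MvPowerSeries σ k) :
    g = ∑ a ∈ box (σ := σ) p, monomial a (1 : k) * (hcoef p g a) ^ p := by
  have hp0 : 0 < p := hp.out.pos
  ext m
  rw [map_sum]
  simp_rw [coeff_monomial_mul, one_mul]
  -- the remainder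
  let r : σ →₀ ℕ := Finsupp.equivFunOnFinite.symm (fun i => m i % p)
  let q : σ →₀ ℕ := Finsupp.equivFunOnFinite.symm (fun i => m i / p)
  have hr : ∀ i, r i = m i % p := fun i => rfl
  have hq : ∀ i, q i = m i / p := fun i => rfl
  have hrq : r + p • q = m := by
    ext i
    simp only [Finsupp.coe_add, Finsupp.coe_smul, Pi.add_apply, Pi.smul_apply, smul_eq_mul, hr, hq]
    exact Nat.mod_add_div _ _
  have hrm : r ≤ m := by
    rw [Finsupp.le_def]
    intro i
    rw [hr]
    exact Nat.mod_le _ _
  have hrbox : r ∈ box (σ := σ) p := by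
    rw [mem_box]
    intro i
    rw [hr]
    have := Nat.mod_lt (m i) hp0
    omega
  rw [Finset.sum_eq_single r]
  · rw [if_pos hrm]
    have : m - r = p • q := by
      rw [← hrq]
      simp
    rw [this, coeff_pow_p, coeff_hcoef, hrq]
    rw [frobeniusEquiv_symm_pow_p]
  · intro a ha hne
    split_ifs with hle
    · -- some coordinate of m - a is not divisible by p
      have : ∃ i, ¬ p ∣ (m - a) i := by
        by_contra hcon
        push Not at hcon
        apply hne
        ext i
        rw [hr]
        have h1 := hcon i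
        have h2 : a i ≤ m i := by
          have := (Finsupp.le_def.mp hle) i
          exact this
        have h3 : a i ≤ p - 1 := (mem_box p a).mp ha i
        rw [Finsupp.tsub_apply] at h1
        obtain ⟨c, hc⟩ := h1
        have h4 : m i = a i + p * c := by omega
        rw [h4, Nat.add_mul_mod_self_left, Nat.mod_eq_of_lt (by omega)]
      obtain ⟨i, hi⟩ := this
      exact coeff_pow_p_of_not_dvd p _ hi
    · rfl
  · intro h
    exact absurd hrbox h

section Der

variable {M : Type*} [AddCommGroup M] [Module (MvPowerSeries σ k) M] [Module k M]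
  [IsScalarTower k (MvPowerSeries σ k) M]

/-- the subalgebra on which a derivation is given by the partial-derivative formula. -/
noncomputable def goodSub (D : Derivation k (MvPowerSeries σ k) M) :
    Subalgebra k (MvPowerSeries σ k) where
  carrier := {g | D g = ∑ i, pderiv k i g • D (X i)}
  mul_mem' := by
    intro a b ha hb
    simp only [Set.mem_ofPred_eq] at ha hb ⊢
    rw [Derivation.leibniz, ha, hb, Finset.smul_sum, Finset.smul_sum, ← Finset.sum_add_distrib]
    refine Finset.sum_congr rfl fun i _ => ?_
    rw [Derivation.leibniz, add_smul, smul_smul, smul_smul, smul_eq_mul, smul_eq_mul]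
  add_mem' := by
    intro a b ha hb
    simp only [Set.mem_ofPred_eq] at ha hb ⊢
    rw [map_add, ha, hb, ← Finset.sum_add_distrib]
    refine Finset.sum_congr rfl fun i _ => ?_
    rw [map_add, add_smul]
  algebraMap_mem' := by
    intro c
    simp only [Set.mem_ofPred_eq]
    rw [Derivation.map_algebraMap]
    symm
    apply Finset.sum_eq_zero
    intro i _
    rw [Derivation.map_algebraMap, zero_smul]

theorem mem_goodSub (D : Derivation k (MvPowerSeries σ k) M) (g : MvPowerSeries σ k) :
    g ∈ goodSub D ↔ D g = ∑ i, pderiv k i g • D (X i) := Iff.rfl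

theorem X_mem_goodSub (D : Derivation k (MvPowerSeries σ k) M) (j : σ) :
    (X j : MvPowerSeries σ k) ∈ goodSub D := by
  rw [mem_goodSub]
  rw [Finset.sum_eq_single j]
  · rw [pderiv_X_self, one_smul]
  · intro i _ hij
    rw [pderiv_X_of_ne (Ne.symm hij), zero_smul]
  · intro h
    exact absurd (Finset.mem_univ j) h

omit [Fintype σ] [DecidableEq σ] hp [PerfectRing k p] [Module (MvPowerSeries σ k) M]
  [IsScalarTower k (MvPowerSeries σ k) M] in
include k in
theorem nsmul_p_eq_zero (x : M) : p • x = 0 := by
  rw [← Nat.cast_smul_eq_nsmul k p x, CharP.cast_eq_zero k p, zero_smul]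

theorem pow_p_mem_goodSub (D : Derivation k (MvPowerSeries σ k) M) (h : MvPowerSeries σ k) :
    h ^ p ∈ goodSub D := by
  rw [mem_goodSub, Derivation.leibniz_pow, nsmul_p_eq_zero (k := k) p]
  symm
  apply Finset.sum_eq_zero
  intro i _
  rw [Derivation.leibniz_pow, nsmul_p_eq_zero (k := k) p, zero_smul]

include p in
/-- In characteristic `p` over a perfect field, every `k`-derivation of `k[[x_1,…,x_n]]` is given
by the partial derivative formula. -/
theorem derivation_apply (D : Derivation k (MvPowerSeries σ k) M) (g : MvPowerSeries σ k) :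
    D g = ∑ i, pderiv k i g • D (X i) := by
  rw [← mem_goodSub]
  rw [decomposition p g]
  refine Subalgebra.sum_mem _ fun a _ => ?_
  refine Subalgebra.mul_mem _ ?_ (pow_p_mem_goodSub p D _)
  rw [MvPowerSeries.monomial_one_eq]
  refine Subalgebra.prod_mem _ fun i _ => ?_
  exact Subalgebra.pow_mem _ (X_mem_goodSub D i) _

end Der

end Groth.Agent.Lib.Seat67.PsFrob
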