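import Mathlib
import Groth.Agent.Lib.Seat67PsFrob
import Groth.Agent.Lib.Helper19PsDim
import Groth.Agent.Lib.Helper5RLR3
import Groth.Agent.Lib.Helper28SkLift

set_option autoImplicit false
universe u

namespace Groth.Agent.Lib.Seat67.PsDepth

open MvPowerSeries IsLocalRing

/-- positive depth gives a regular element in the maximal ideal. -/
theorem exists_regular_of_one_le_depth {R : Type u} [CommRing R] [IsLocalRing R] (M : Type u)
    [AddCommGroup M] [Module R M] (hM : maximalIdeal R • (⊤ : Submodule R M) ≠ ⊤)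
    (h : 1 ≤ LocCoh.depth R M) : ∃ x ∈ maximalIdeal R, IsSMulRegular M x := by
  by_contra hcon
  push Not at hcon
  unfold LocCoh.depth LocCoh.idealDepth at h
  rw [if_neg hM] at h
  have : (⨆ (rs : List R) (_ : RingTheory.Sequence.IsWeaklyRegular M rs ∧
      ∀ r ∈ rs, r ∈ maximalIdeal R), (rs.length : ℕ∞)) ≤ 0 := by
    apply iSup₂_le
    rintro rs ⟨hreg, hmem⟩
    cases rs with
    | nil => simp
    | cons x rs =>
      exfalso
      rw [RingTheory.Sequence.isWeaklyRegular_cons_iff] at hreg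
      exact hcon x (hmem x (by simp)) hreg.1
  have h2 := h.trans this
  simp at h2

variable (k : Type u) [Field k]

/-- the hypersurface ring `k[[x_1..x_n]]/(f)`, `n ≥ 2`, `0 ≠ f ∈ 𝔪`, has a regular element in its
maximal ideal. -/
theorem exists_regular_quotient (n : ℕ) (hn : 2 ≤ n) (f : MvPowerSeries (Fin n) k) (hf0 : f ≠ 0)
    (hf : f ∈ maximalIdeal (MvPowerSeries (Fin n) k)) :
    ∃ a ∈ maximalIdeal (MvPowerSeries (Fin n) k),
      IsSMulRegular (MvPowerSeries (Fin n) k ⧸ Ideal.span {f})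
        (Ideal.Quotient.mk (Ideal.span {f}) a) := by
  have hreg : IsSMulRegular (MvPowerSeries (Fin n) k) f := by
    have := (isRegular_iff_ne_zero'.mpr hf0 : IsRegular f)
    exact this.left.isSMulRegular
  have hne : Ideal.span {f} ≠ ⊤ := by
    intro h
    have : Ideal.span {f} ≤ maximalIdeal _ := (Ideal.span_singleton_le_iff_mem _).mpr hf
    rw [h] at this
    exact (IsLocalRing.maximalIdeal.isMaximal _).ne_top (top_le_iff.mp this)
  have hloc : IsLocalRing (MvPowerSeries (Fin n) k ⧸ Ideal.span {f}) :=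
    Groth.Agent.Lib.Helper5.isLocalRing_quotient hne
  have h1 := Groth.Agent.Lib.Helper28.depth_quotient_span_singleton_add_one f hf hreg
  have hcm := Groth.Agent.Lib.Helper5.isCohenMacaulayLocalRing_of_isRegularLocalRing
    (MvPowerSeries (Fin n) k)
  have h2 := hcm.supportDim_eq_depth
  rw [Module.supportDim_self_eq_ringKrullDim,
    Groth.Agent.Lib.Helper19.ringKrullDim_mvPowerSeries] at h2
  have h3 : LocCoh.depth (MvPowerSeries (Fin n) k) (MvPowerSeries (Fin n) k) = n := by
    have : ((n : ℕ∞) : WithBot ℕ∞) = (LocCoh.depth (MvPowerSeries (Fin n) k)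
      (MvPowerSeries (Fin n) k) : WithBot ℕ∞) := by
      rw [← h2]; rfl
    exact (WithBot.coe_injective this).symm
  rw [h3] at h1
  have h4 : 1 ≤ LocCoh.depth (MvPowerSeries (Fin n) k ⧸ Ideal.span {f})
      (MvPowerSeries (Fin n) k ⧸ Ideal.span {f}) := by
    by_contra hlt
    push Not at hlt
    have h0 : LocCoh.depth (MvPowerSeries (Fin n) k ⧸ Ideal.span {f})
      (MvPowerSeries (Fin n) k ⧸ Ideal.span {f}) = 0 := Order.lt_one_iff.mp hlt
    rw [h0, zero_add] at h1
    have : (1 : ℕ) = n := by exact_mod_cast h1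
    omega
  obtain ⟨x, hx, hxreg⟩ := exists_regular_of_one_le_depth
    (MvPowerSeries (Fin n) k ⧸ Ideal.span {f}) (by
      rw [smul_eq_mul, Ideal.mul_top]
      exact (IsLocalRing.maximalIdeal.isMaximal _).ne_top) h4
  obtain ⟨a, rfl⟩ := Ideal.Quotient.mk_surjective x
  refine ⟨a, ?_, hxreg⟩
  by_contra ha
  have hu : IsUnit a := by
    by_contra hnu
    exact ha ((IsLocalRing.mem_maximalIdeal a).mpr hnu)
  exact (IsLocalRing.mem_maximalIdeal _).mp hx (hu.map _)

end Groth.Agent.Lib.Seat67.PsDepth
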