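import Mathlib
import Groth.Agent.Lib.Seat67PsFrob

set_option autoImplicit false
universe u

namespace Groth.Agent.Lib.Seat67.PsKaehler

open MvPowerSeries KaehlerDifferential

section Descend

variable {k A N : Type*} [CommRing k] [CommRing A] [Algebra k A] (I : Ideal A)
  [AddCommGroup N] [Module (A ⧸ I) N] [Module A N] [Module k N] [IsScalarTower A (A ⧸ I) N]

/-- descend a derivation vanishing on `I` to the quotient `A ⧸ I`. -/
noncomputable def derivationQuot (D : Derivation k A N) (h : ∀ x ∈ I, D x = 0) :
    Derivation k (A ⧸ I) N :=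
  Derivation.mk'
    (((I.restrictScalars k).liftQ D.toLinearMap (fun x hx => by
        rw [LinearMap.mem_ker]; exact h x hx)).comp
      (Submodule.Quotient.restrictScalarsEquiv k I).symm.toLinearMap)
    (by
      intro a b
      obtain ⟨a, rfl⟩ := Ideal.Quotient.mk_surjective a
      obtain ⟨b, rfl⟩ := Ideal.Quotient.mk_surjective b
      have key : ∀ x : A, (((I.restrictScalars k).liftQ D.toLinearMap (fun x hx => by
          rw [LinearMap.mem_ker]; exact h x hx)).comp
          (Submodule.Quotient.restrictScalarsEquiv k I).symm.toLinearMap)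
          (Ideal.Quotient.mk I x) = D x := fun x => rfl
      rw [← map_mul, key, key, key, Derivation.leibniz]
      congr 1
      · exact (algebraMap_smul (A ⧸ I) a (D b)).symm
      · exact (algebraMap_smul (A ⧸ I) b (D a)).symm)

@[simp]
theorem derivationQuot_mk (D : Derivation k A N) (h : ∀ x ∈ I, D x = 0) (x : A) :
    derivationQuot I D h (Ideal.Quotient.mk I x) = D x := rfl

end Descend

section Main

set_option linter.unusedSectionVars false

variable {σ : Type*} [Fintype σ] [DecidableEq σ] {k : Type u} [Field k] (p : ℕ) [hp : Fact p.Prime]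
  [CharP k p] [PerfectRing k p] (f : MvPowerSeries σ k)

/-- the hypersurface ring `k[[x]]/(f)`. -/
abbrev Q : Type _ := MvPowerSeries σ k ⧸ Ideal.span {f}

/-- the gradient of `f` modulo `f`. -/
noncomputable def grad : σ → Q f := fun i => Ideal.Quotient.mk _ (pderiv k i f)

/-- the submodule spanned by the gradient. -/
noncomputable def vsub : Submodule (Q f) (σ → Q f) := Submodule.span (Q f) {grad f}

/-- the presentation map `Q^σ → Ω_{Q/k}`. -/
noncomputable def phi : (σ → Q f) →ₗ[Q f] Ω[Q f⁄k] :=
  Fintype.linearCombination (Q f) (fun i => D k (Q f) (Ideal.Quotient.mk _ (X i)))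

theorem phi_apply (c : σ → Q f) :
    phi f c = ∑ i, c i • D k (Q f) (Ideal.Quotient.mk _ (X i)) := by
  unfold phi
  rw [Fintype.linearCombination_apply]

/-- the vector-valued derivation `g ↦ (∂_i g)_i`. -/
noncomputable def Dvec : Derivation k (MvPowerSeries σ k) (σ → MvPowerSeries σ k) where
  toLinearMap := LinearMap.pi (fun i => (pderiv k i).toLinearMap)
  map_one_eq_zero' := by
    ext i
    simp
  leibniz' := by
    intro a b
    ext i
    simp

@[simp] theorem Dvec_apply (g : MvPowerSeries σ k) (i : σ) : Dvec (k := k) g i = pderiv k i g := rfl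

/-- the map `P^σ → Q^σ/(grad f)`. -/
noncomputable def toN : (σ → MvPowerSeries σ k) →ₗ[MvPowerSeries σ k] ((σ → Q f) ⧸ vsub f) :=
  ((vsub f).mkQ.restrictScalars (MvPowerSeries σ k)).comp
    ((Algebra.linearMap (MvPowerSeries σ k) (Q f)).compLeft σ)

theorem toN_apply (w : σ → MvPowerSeries σ k) :
    toN f w = (vsub f).mkQ (fun i => Ideal.Quotient.mk _ (w i)) := rfl

/-- the derivation `P → Q^σ/(grad f)`. -/
noncomputable def D0 : Derivation k (MvPowerSeries σ k) ((σ → Q f) ⧸ vsub f) :=
  (toN f).compDer Dvec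

theorem D0_apply (g : MvPowerSeries σ k) :
    D0 f g = (vsub f).mkQ (fun i => Ideal.Quotient.mk _ (pderiv k i g)) := rfl

theorem D0_eq_zero (x : MvPowerSeries σ k) (hx : x ∈ Ideal.span {f}) : D0 f x = 0 := by
  obtain ⟨h, rfl⟩ := Ideal.mem_span_singleton'.mp hx
  rw [D0_apply, Submodule.mkQ_apply, Submodule.Quotient.mk_eq_zero]
  have : (fun i => Ideal.Quotient.mk (Ideal.span {f}) (pderiv k i (h * f))) =
      (Ideal.Quotient.mk (Ideal.span {f}) h) • grad f := by
    ext i
    rw [Derivation.leibniz, map_add, smul_eq_mul, smul_eq_mul, map_mul, map_mul]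
    have hf0 : Ideal.Quotient.mk (Ideal.span {f}) f = 0 :=
      Ideal.Quotient.eq_zero_iff_mem.mpr (Ideal.mem_span_singleton_self f)
    rw [hf0, zero_mul, add_zero]
    rfl
  rw [this]
  exact Submodule.smul_mem _ _ (Submodule.subset_span rfl)

/-- the induced derivation on the quotient. -/
noncomputable def delta : Derivation k (Q f) ((σ → Q f) ⧸ vsub f) :=
  derivationQuot (Ideal.span {f}) (D0 f) (D0_eq_zero f)

/-- the induced map on Kähler differentials. -/
noncomputable def psi : Ω[Q f⁄k] →ₗ[Q f] ((σ → Q f) ⧸ vsub f) :=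
  (delta f).liftKaehlerDifferential

theorem psi_phi (c : σ → Q f) : psi f (phi f c) = (vsub f).mkQ c := by
  rw [phi_apply, map_sum]
  simp_rw [map_smul]
  unfold psi
  simp_rw [Derivation.liftKaehlerDifferential_comp_D]
  unfold delta
  simp_rw [derivationQuot_mk, D0_apply]
  simp_rw [← map_smul]
  rw [← map_sum]
  congr 1
  ext j
  rw [Finset.sum_apply, Finset.sum_eq_single j]
  · rw [Pi.smul_apply, pderiv_X_self, map_one, smul_eq_mul, mul_one]
  · intro i _ hij
    rw [Pi.smul_apply, pderiv_X_of_ne hij, map_zero, smul_zero]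
  · intro h
    exact absurd (Finset.mem_univ j) h

theorem ker_phi_le : LinearMap.ker (phi f) ≤ vsub f := by
  intro c hc
  rw [LinearMap.mem_ker] at hc
  have := psi_phi f c
  rw [hc, map_zero] at this
  rw [← Submodule.ker_mkQ (vsub f), LinearMap.mem_ker]
  exact this.symm

/-- the universal derivation of `Q`, pulled back to `P`. -/
noncomputable def D' : Derivation k (MvPowerSeries σ k) Ω[Q f⁄k] :=
  (D k (Q f)).compAlgebraMap (MvPowerSeries σ k)

theorem D'_apply (g : MvPowerSeries σ k) : D' f g = D k (Q f) (Ideal.Quotient.mk _ g) := rfl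

include p in
theorem D_mk_eq (g : MvPowerSeries σ k) :
    D k (Q f) (Ideal.Quotient.mk _ g) = phi f (fun i => Ideal.Quotient.mk _ (pderiv k i g)) := by
  rw [← D'_apply, PsFrob.derivation_apply p (D' f) g, phi_apply]
  refine Finset.sum_congr rfl fun i _ => ?_
  rw [D'_apply]
  exact (algebraMap_smul (Q f) (pderiv k i g) (D k (Q f) (Ideal.Quotient.mk _ (X i)))).symm

include p in
theorem phi_grad : phi f (grad f) = 0 := by
  have h := D_mk_eq p f f
  have hf0 : Ideal.Quotient.mk (Ideal.span {f}) f = 0 :=
    Ideal.Quotient.eq_zero_iff_mem.mpr (Ideal.mem_span_singleton_self f)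
  rw [hf0, map_zero] at h
  exact h.symm

include p in
theorem phi_surjective : Function.Surjective (phi f) := by
  rw [← LinearMap.range_eq_top, eq_top_iff, ← span_range_derivation k (Q f), Submodule.span_le]
  rintro _ ⟨x, rfl⟩
  obtain ⟨g, rfl⟩ := Ideal.Quotient.mk_surjective x
  exact ⟨_, (D_mk_eq p f g).symm⟩

include p in
theorem ker_phi : LinearMap.ker (phi f) = vsub f := by
  apply le_antisymm (ker_phi_le f)
  unfold vsub
  rw [Submodule.span_le, Set.singleton_subset_iff]
  exact phi_grad p f

include p in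
/-- the Jacobian ideal is generated by the partial derivatives. -/
theorem jacobian_eq :
    Ideal.span {g | ∃ D : Derivation k (MvPowerSeries σ k) (MvPowerSeries σ k), g = D f} =
      Ideal.span (Set.range fun i => pderiv k i f) := by
  apply le_antisymm
  · rw [Ideal.span_le]
    rintro _ ⟨D, rfl⟩
    rw [PsFrob.derivation_apply p D f]
    refine Ideal.sum_mem _ fun i _ => ?_
    rw [smul_eq_mul]
    exact Ideal.mul_mem_right _ _ (Ideal.subset_span ⟨i, rfl⟩)
  · rw [Ideal.span_le]
    rintro _ ⟨i, rfl⟩
    exact Ideal.subset_span ⟨pderiv k i, rfl⟩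

end Main

end Groth.Agent.Lib.Seat67.PsKaehler
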