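import Groth.Agent.Lib.Helper28Unmixed
import Groth.Agent.Lib.Helper28FGDim

set_option autoImplicit false

/-!
# A "cyclically pure" local subring of a Cohen–Macaulay local ring whose maximal ideal extends to
a primary ideal is Cohen–Macaulay (seat 67)
-/

universe u

namespace Groth.Agent.Lib.Seat67.PureCM

open RingTheory.Sequence Groth.Agent.Lib.Helper28

/-- Krull's height theorem for lists of generators. -/
theorem height_le_length_of_mem_minimalPrimes_ofList {R : Type*} [CommRing R] [IsNoetherianRing R]
    {p : Ideal R} {l : List R} (hp : p ∈ (Ideal.ofList l).minimalPrimes) :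
    p.height ≤ l.length := by
  classical
  have hspan : Ideal.ofList l = Ideal.span (l.toFinset : Set R) := by
    unfold Ideal.ofList
    congr 1
    ext x
    simp
  rw [hspan] at hp
  refine le_trans (Ideal.height_le_card_of_mem_minimalPrimes_span_finset hp) ?_
  exact_mod_cast List.toFinset_card_le _

variable {B L : Type u} [CommRing B] [CommRing L] [IsLocalRing B] (f : B →+* L)

/-- Step A: elements of `𝔪_B` whose images generate an ideal of large height. -/
theorem exists_list_height [IsNoetherianRing L] [IsLocalRing L]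
    (H2 : ∀ P : Ideal L, P.IsPrime → IsLocalRing.maximalIdeal B ≤ P.comap f →
      P = IsLocalRing.maximalIdeal L) (i : ℕ)
    (hi : (i : ℕ∞) ≤ (IsLocalRing.maximalIdeal L).height) :
    ∃ ys : List B, ys.length = i ∧ (∀ y ∈ ys, y ∈ IsLocalRing.maximalIdeal B) ∧
      (i : ℕ∞) ≤ (Ideal.ofList (ys.map f)).height := by
  classical
  induction i with
  | zero => exact ⟨[], rfl, by simp, by simp⟩
  | succ i ih =>
    obtain ⟨ys, hlen, hmem, hht⟩ := ih (le_trans (by exact_mod_cast Nat.le_succ i) hi)
    have hfin : (Ideal.ofList (ys.map f)).minimalPrimes.Finite :=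
      Ideal.finite_minimalPrimes_of_isNoetherianRing L _
    have hne : ∀ P ∈ (Ideal.ofList (ys.map f)).minimalPrimes, P ≠ ⊤ := fun P hP => hP.1.1.ne_top
    have hnot : ∀ P ∈ (Ideal.ofList (ys.map f)).minimalPrimes,
        ¬ (IsLocalRing.maximalIdeal B ≤ P.comap f) := by
      intro P hP hle
      have hPprime : P.IsPrime := hP.1.1
      have hPm := H2 P hPprime hle
      have htop : Ideal.ofList (ys.map f) ≠ ⊤ := fun h => hPprime.ne_top (top_le_iff.mp (h ▸ hP.1.2))
      have h1 : P.height ≤ (ys.map f).length := height_le_length_of_mem_minimalPrimes_ofList hP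
      rw [List.length_map, hlen, hPm] at h1
      have h2 : ((i + 1 : ℕ) : ℕ∞) ≤ (i : ℕ∞) := le_trans hi h1
      have h3 : i + 1 ≤ i := by exact_mod_cast h2
      omega
    have hex : ∃ y ∈ IsLocalRing.maximalIdeal B,
        ∀ P ∈ (Ideal.ofList (ys.map f)).minimalPrimes, f y ∉ P := by
      by_contra hcon
      push Not at hcon
      have hsub : ((IsLocalRing.maximalIdeal B : Ideal B) : Set B) ⊆
          ⋃ P ∈ (hfin.toFinset : Set (Ideal L)), ((P.comap f : Ideal B) : Set B) := by
        intro y hy
        obtain ⟨P, hP, hyP⟩ := hcon y hy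
        simp only [Set.mem_iUnion, Finset.mem_coe, Set.Finite.mem_toFinset]
        exact ⟨P, hP, hyP⟩
      obtain ⟨P, hP, hle⟩ := (Ideal.subset_union_prime (f := fun P : Ideal L => P.comap f) ⊥ ⊥
        (fun P hP _ _ => by
          have : P.IsPrime := ((Set.Finite.mem_toFinset hfin).mp hP).1.1
          exact Ideal.comap_isPrime f P)).mp hsub
      exact hnot P ((Set.Finite.mem_toFinset hfin).mp hP) hle
    obtain ⟨y, hy, hyP⟩ := hex
    refine ⟨y :: ys, by simp [hlen], ?_, ?_⟩
    · intro z hz
      rcases List.mem_cons.mp hz with rfl | hz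
      · exact hy
      · exact hmem z hz
    · rw [List.map_cons, Ideal.ofList_cons, Ideal.height_eq_inf_minimalPrimes]
      refine le_iInf₂ fun Q hQ => ?_
      have hQprime : Q.IsPrime := hQ.1.1
      have hle : Ideal.ofList (ys.map f) ≤ Q := le_trans le_sup_right hQ.1.2
      obtain ⟨P, hP, hPQ⟩ := Ideal.exists_minimalPrimes_le hle
      have hPprime : P.IsPrime := hP.1.1
      have hfyQ : f y ∈ Q := hQ.1.2 (Ideal.mem_sup_left (Ideal.mem_span_singleton_self _))
      have hlt : P < Q := lt_of_le_of_ne hPQ (fun h => hyP P hP (h ▸ hfyQ))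
      have h1 := Ideal.height_add_one_le_of_lt_of_isPrime hlt
      have h2 : (i : ℕ∞) ≤ P.height := le_trans hht (Ideal.height_mono hP.1.2)
      calc ((i + 1 : ℕ) : ℕ∞) = (i : ℕ∞) + 1 := by push_cast; rfl
        _ ≤ P.height + 1 := by gcongr
        _ ≤ Q.height := h1

/-- **Main lemma**: let `f : B → L` be a local homomorphism of Noetherian local rings such that
every ideal of `B` is contracted from `L` and the maximal ideal of `B` extends to an ideal primary
to the maximal ideal of `L`.  If `L` is Cohen–Macaulay, so is `B`. -/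
theorem isCohenMacaulayLocalRing_of_pure [IsNoetherianRing B]
    [hL : LocCoh.IsCohenMacaulayLocalRing L]
    (hloc : ∀ b ∈ IsLocalRing.maximalIdeal B, f b ∈ IsLocalRing.maximalIdeal L)
    (H1 : ∀ I : Ideal B, (I.map f).comap f ≤ I)
    (H2 : ∀ P : Ideal L, P.IsPrime → IsLocalRing.maximalIdeal B ≤ P.comap f →
      P = IsLocalRing.maximalIdeal L) :
    LocCoh.IsCohenMacaulayLocalRing B := by
  have hfinL : (IsLocalRing.maximalIdeal L).height ≠ ⊤ :=
    Ideal.height_ne_top (IsLocalRing.maximalIdeal.isMaximal L).ne_top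
  obtain ⟨n, hn⟩ := ENat.ne_top_iff_exists.mp hfinL
  obtain ⟨ys, hlen, hmem, hht⟩ := exists_list_height f H2 n (by rw [hn])
  have hmemL : ∀ z ∈ ys.map f, z ∈ IsLocalRing.maximalIdeal L := by
    intro z hz
    obtain ⟨y, hy, rfl⟩ := List.mem_map.mp hz
    exact hloc y (hmem y hy)
  have hht' : ((ys.map f).length : ℕ∞) ≤ (Ideal.ofList (ys.map f)).height := by
    rw [List.length_map, hlen]; exact hht
  obtain ⟨hregL, -, -⟩ := isWeaklyRegular_of_length_le_height (ys.map f) hmemL hht'
  -- the sequence is regular on `B`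
  have hregB : IsWeaklyRegular B ys := by
    refine ⟨fun i hi => ?_⟩
    rw [isSMulRegular_quotient_iff_mem_of_smul_mem]
    intro x hx
    have hiL : i < (ys.map f).length := by rw [List.length_map]; exact hi
    have hL' := hregL.regular_mod_prev i hiL
    rw [isSMulRegular_quotient_iff_mem_of_smul_mem] at hL'
    rw [smul_eq_mul, Ideal.mul_top] at hx ⊢
    have h2 := hL' (f x) (by
      rw [smul_eq_mul, Ideal.mul_top, List.getElem_map, ← List.map_take, ← Ideal.map_ofList,
        smul_eq_mul, ← map_mul]
      exact Ideal.mem_map_of_mem f hx)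
    rw [smul_eq_mul, Ideal.mul_top, ← List.map_take, ← Ideal.map_ofList] at h2
    exact H1 _ h2
  -- the maximal ideal of `B` is minimal over `(ys)`
  have hmin : IsLocalRing.maximalIdeal B ∈ (Ideal.ofList ys).minimalPrimes := by
    refine ⟨⟨inferInstance, ofList_le_of_forall_mem hmem⟩, ?_⟩
    rintro q ⟨hqprime, hq⟩ - b hb
    have hrad : IsLocalRing.maximalIdeal L ≤ (Ideal.ofList (ys.map f)).radical := by
      rw [Ideal.radical_eq_sInf]
      refine le_sInf ?_
      rintro Q ⟨hQ, hQprime⟩
      have h1 : Q.height ≤ (IsLocalRing.maximalIdeal L).height := by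
        exact Ideal.height_mono (IsLocalRing.le_maximalIdeal hQprime.ne_top)
      have h2 : (IsLocalRing.maximalIdeal L).height ≤ Q.height := by
        rw [← hn]
        exact le_trans hht (Ideal.height_mono hQ)
      have := Ideal.eq_of_le_of_height_le Q (IsLocalRing.le_maximalIdeal hQprime.ne_top) h2
      rw [this]
    obtain ⟨N, hN⟩ := hrad (hloc b hb)
    rw [← map_pow, ← Ideal.map_ofList] at hN
    exact hqprime.mem_of_pow_mem N (hq (H1 _ hN))
  have hdimB : (IsLocalRing.maximalIdeal B).height ≤ n := by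
    have := height_le_length_of_mem_minimalPrimes_ofList hmin
    rwa [hlen] at this
  have hIM : IsLocalRing.maximalIdeal B • (⊤ : Submodule B B) ≠ ⊤ := maximalIdeal_smul_top_ne_top
  have hdepth : (n : ℕ∞) ≤ LocCoh.depth B B := by
    unfold LocCoh.depth
    rw [idealDepth_eq_iSup_of_smul_top_ne_top _ B hIM, ← hlen]
    exact le_iSup₂_of_le ys ⟨hregB, hmem⟩ le_rfl
  refine { supportDim_eq_depth := le_antisymm ?_ depth_le_supportDim }
  rw [Module.supportDim_self_eq_ringKrullDim, ← IsLocalRing.maximalIdeal_height_eq_ringKrullDim]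
  exact WithBot.coe_le_coe.mpr (le_trans hdimB hdepth)

end Groth.Agent.Lib.Seat67.PureCM
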