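import Groth.Agent.Lib.Seat67QuotRegCM
import Groth.Agent.Lib.Helper28FibreTrans
import Groth.Agent.Lib.Helper28DepthFlat3
import Groth.Agent.Lib.Helper5TensorSk
/-!
# Serre's condition `(S_k)` and quotients by a regular element (seat 67)

* `snLocalRing_quotient_span_singleton_iff`: `R/(x)` is `(S_k)`-local iff `R` is `(S_{k+1})`-local.
* `snLocalRing_localization_iff_of_ker_eq_span`: surjection `R → G` with kernel `(x)`, `x` regular:
  `G_p` is `(S_k)` iff `R_{φ⁻¹ p}` is `(S_{k+1})`.
* `snLocalRing_localization_map_iff`, `snLocalRing_congr`, `hasSk_self_iff_forall_snLocalRing`.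
* `hasSk_polynomial`: `(S_n)` ascends to the polynomial ring.
-/
set_option autoImplicit false
universe u
namespace Groth.Agent.Lib.Seat67.QuotRegSk
open Groth.Agent.Lib.Helper28

section Local

variable {R : Type u} [CommRing R] [IsNoetherianRing R] [IsLocalRing R]

/-- For a regular element `x` of the maximal ideal of a Noetherian local ring `R`, the quotient
`R/(x)` satisfies the `(S_k)` inequality iff `R` satisfies the `(S_{k+1})` inequality. -/
theorem snLocalRing_quotient_span_singleton_iff (k : ℕ) (x : R)
    (hx : x ∈ IsLocalRing.maximalIdeal R) (hreg : IsSMulRegular R x) :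
    SnLocalRing k (R ⧸ Ideal.span {x}) ↔ SnLocalRing (k + 1) R := by
  have hne : Ideal.span {x} ≠ ⊤ := by
    intro h
    have : Ideal.span {x} ≤ IsLocalRing.maximalIdeal R :=
      (Ideal.span_singleton_le_iff_mem _).mpr hx
    rw [h] at this
    exact (IsLocalRing.maximalIdeal.isMaximal R).ne_top (top_le_iff.mp this)
  have hloc : IsLocalRing (R ⧸ Ideal.span {x}) := Groth.Agent.Lib.Helper5.isLocalRing_quotient hne
  have h1 := depth_quotient_span_singleton_add_one x hx hreg
  have h2 := ringKrullDim_quotient_span_singleton_succ_eq_ringKrullDim hreg hx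
  rw [← IsLocalRing.maximalIdeal_height_eq_ringKrullDim,
    ← IsLocalRing.maximalIdeal_height_eq_ringKrullDim] at h2
  have h2' : (IsLocalRing.maximalIdeal (R ⧸ Ideal.span {x})).height + 1 =
      (IsLocalRing.maximalIdeal R).height := by
    apply WithBot.coe_injective
    rw [← h2]
    push_cast
    rfl
  rw [snLocalRing_iff, snLocalRing_iff, ← h1, ← h2']
  push_cast
  rw [min_add_add_right, ENat.add_le_add_iff_right ENat.one_ne_top]

end Local

section Global

variable {R : Type u} [CommRing R] [IsNoetherianRing R] {G : Type u} [CommRing G]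

/-- For a surjection `φ : R → G` with kernel generated by a regular element `x` and a prime `p` of
`G` : `G_p` satisfies `(S_k)` iff `R_{φ⁻¹ p}` satisfies `(S_{k+1})`. -/
theorem snLocalRing_localization_iff_of_ker_eq_span (k : ℕ) (φ : R →+* G)
    (hφ : Function.Surjective φ) (x : R) (hker : RingHom.ker φ = Ideal.span {x})
    (hreg : IsSMulRegular R x) (p : Ideal G) [p.IsPrime] :
    SnLocalRing k (Localization.AtPrime p) ↔
      SnLocalRing (k + 1) (Localization.AtPrime (p.comap φ)) := by
  let e : (R ⧸ Ideal.span {x}) ≃+* G :=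
    (Ideal.quotEquivOfEq hker.symm).trans (RingHom.quotientKerEquivOfSurjective hφ)
  have he : ∀ r : R, e (Ideal.Quotient.mk _ r) = φ r := fun r => rfl
  have hQ : (p.comap (e : (R ⧸ Ideal.span {x}) →+* G)).IsPrime := Ideal.comap_isPrime _ _
  set Q := p.comap (e : (R ⧸ Ideal.span {x}) →+* G) with hQdef
  have hcomap : Q.comap (Ideal.Quotient.mk (Ideal.span {x})) = p.comap φ := by
    ext r
    simp only [hQdef, Ideal.mem_comap]
    rw [RingEquiv.coe_toRingHom, he]
  have key : ∀ (P : Ideal R) [P.IsPrime], P = p.comap φ →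
      (SnLocalRing (k + 1) (Localization.AtPrime P) ↔
      SnLocalRing (k + 1) (Localization.AtPrime (p.comap φ))) := by
    intro P _ hP
    subst hP
    exact Iff.rfl
  have hpp : (Q.comap (Ideal.Quotient.mk (Ideal.span ({x} : Set R)))).IsPrime :=
    Ideal.comap_isPrime _ _
  rw [← key _ hcomap]
  set P := Q.comap (Ideal.Quotient.mk (Ideal.span ({x} : Set R))) with hP
  set y : Localization.AtPrime P := algebraMap R (Localization.AtPrime P) x with hy
  have hxp : x ∈ P := by
    rw [hP, Ideal.mem_comap, Ideal.Quotient.eq_zero_iff_mem.mpr (Ideal.mem_span_singleton_self x)]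
    exact Q.zero_mem
  have hym : y ∈ IsLocalRing.maximalIdeal (Localization.AtPrime P) := by
    rw [← Localization.AtPrime.map_eq_maximalIdeal]
    exact Ideal.mem_map_of_mem _ hxp
  have hyreg : IsSMulRegular (Localization.AtPrime P) y := IsSMulRegular.of_flat hreg
  have hmapI : (Ideal.span ({x} : Set R)).map (algebraMap R (Localization.AtPrime P)) =
      Ideal.span {y} := by
    rw [Ideal.map_span, Set.image_singleton]
  let e1 : Localization.AtPrime Q ≃+*
      (Localization.AtPrime P ⧸
        (Ideal.span ({x} : Set R)).map (algebraMap R (Localization.AtPrime P))) :=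
    localizationQuotientEquiv (Ideal.span ({x} : Set R)) Q
  let e2 : (Localization.AtPrime P ⧸
      (Ideal.span ({x} : Set R)).map (algebraMap R (Localization.AtPrime P))) ≃+*
      (Localization.AtPrime P ⧸ Ideal.span {y}) := Ideal.quotEquivOfEq hmapI
  let e3 : Localization.AtPrime Q ≃+* Localization.AtPrime p :=
    Localization.localRingEquiv Q p e rfl
  rw [← snLocalRing_quotient_span_singleton_iff k y hym hyreg]
  constructor
  · intro h
    exact snLocalRing_of_ringEquiv k _ _ (e3.symm.trans (e1.trans e2)) h
  · intro h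
    exact snLocalRing_of_ringEquiv k _ _ (e3.symm.trans (e1.trans e2)).symm h

/-- The special case of the quotient map. -/
theorem snLocalRing_localization_quotient_iff (k : ℕ) (x : R) (hreg : IsSMulRegular R x)
    (Q : Ideal (R ⧸ Ideal.span {x})) [Q.IsPrime] :
    SnLocalRing k (Localization.AtPrime Q) ↔
      SnLocalRing (k + 1)
        (Localization.AtPrime (Q.comap (Ideal.Quotient.mk (Ideal.span {x})))) :=
  snLocalRing_localization_iff_of_ker_eq_span k (Ideal.Quotient.mk (Ideal.span {x}))
    Ideal.Quotient.mk_surjective x Ideal.mk_ker hreg Q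

end Global

section LocEquiv

variable {S : Type u} [CommRing S] (M : Submonoid S) (T : Type u) [CommRing T] [Algebra S T]
  [IsLocalization M T]

theorem snLocalRing_localization_map_iff (k : ℕ) (p : Ideal S) [hp : p.IsPrime]
    (hd : Disjoint (M : Set S) (p : Set S)) [hP : (p.map (algebraMap S T)).IsPrime] :
    SnLocalRing k (Localization.AtPrime (p.map (algebraMap S T))) ↔
      SnLocalRing k (Localization.AtPrime p) := by
  obtain ⟨e⟩ := Groth.Agent.Lib.Seat67.QuotRegCM.nonempty_localization_map_equiv M T p hd
  exact ⟨fun h => snLocalRing_of_ringEquiv k _ _ e h,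
    fun h => snLocalRing_of_ringEquiv k _ _ e.symm h⟩

theorem snLocalRing_congr {R : Type u} [CommRing R] (k : ℕ) {P P' : Ideal R} [P.IsPrime]
    [P'.IsPrime] (h : P = P') :
    SnLocalRing k (Localization.AtPrime P) ↔ SnLocalRing k (Localization.AtPrime P') := by
  subst h
  exact Iff.rfl

end LocEquiv

section HasSk

variable {R : Type u} [CommRing R] [IsNoetherianRing R]

theorem hasSk_self_iff_forall_snLocalRing (n : ℕ) :
    LocCoh.HasSk n R R ↔
      ∀ (Q : Ideal R) [Q.IsPrime], SnLocalRing n (Localization.AtPrime Q) := by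
  rw [hasSk_self_iff]
  refine forall_congr' fun Q => forall_congr' fun hQ => ?_
  unfold SnLocalRing
  rw [IsLocalization.AtPrime.ringKrullDim_eq_height Q (Localization.AtPrime Q)]
  constructor
  · intro h
    exact ⟨inferInstance, inferInstance, h⟩
  · rintro ⟨_, _, h⟩
    exact h

end HasSk

section Poly

open Polynomial

theorem hasSk_polynomial {A : Type u} [CommRing A] [IsNoetherianRing A] (n : ℕ)
    (hA : LocCoh.HasSk n A A) : LocCoh.HasSk n A[X] A[X] := by
  apply Groth.Agent.Lib.Helper5.TensorSk.hasSk_of_flat_of_fibres n hA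
  rw [forall_hasSk_fiber_iff]
  intro Q hQ
  have hloc : IsLocalRing (EGA4.FibLocRing A A[X] Q) := isLocalRing_fibLocRing (A := A) Q
  have hdom : IsDomain (EGA4.FibLocRing A A[X] Q) := isDomain_fibLocRing_polynomial Q
  have h := depth_self_eq_ringKrullDim_of_isDomain_of_le_one
    (ringKrullDim_fibLocRing_polynomial_le_one Q)
  refine ⟨hloc, inferInstance, ?_⟩
  rw [← h]
  exact min_le_right _ _


end Poly

end Groth.Agent.Lib.Seat67.QuotRegSk
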