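import Mathlib
import Groth.Prelude.Def_CAlgX

/-!
# Matrices with an invertible `r`-minor and vanishing `(r+1)`-minors (seat 67)

* `det_submatrix_mul_eq_zero`: `(r+1)`-minors of a product through `r` vanish.
* `eq_mul_inv_mul`: Schur complement argument, `N = N[:,g0] A⁻¹ N[f0,:]`.
* `formallySmooth_away`: for the generic matrix, the quotient by the `(r+1)`-minors localized at an
  `r`-minor is formally smooth over the base ring.
-/

set_option autoImplicit false
set_option linter.style.haveILetI false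
universe u v

namespace Groth.Agent.Lib.Seat67.RankFactor

open Matrix MvPolynomial

variable {S : Type*} [CommRing S]

/-- A product of an `(r+1) × r` and an `r × (r+1)` matrix has determinant zero. -/
theorem det_mul_eq_zero {r : ℕ} (A : Matrix (Fin (r + 1)) (Fin r) S)
    (B : Matrix (Fin r) (Fin (r + 1)) S) : (A * B).det = 0 := by
  let A' : Matrix (Fin (r + 1)) (Fin (r + 1)) S :=
    Matrix.of fun i j => if h : j.val < r then A i ⟨j.val, h⟩ else 0
  let B' : Matrix (Fin (r + 1)) (Fin (r + 1)) S :=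
    Matrix.of fun i j => if h : i.val < r then B ⟨i.val, h⟩ j else 0
  have h : A * B = A' * B' := by
    ext i j
    rw [Matrix.mul_apply, Matrix.mul_apply, Fin.sum_univ_castSucc]
    simp [A', B']
  rw [h, Matrix.det_mul, Matrix.det_eq_zero_of_column_eq_zero (A := A') (Fin.last r), zero_mul]
  intro i
  simp [A']

variable {n m r : ℕ}

/-- All `(r+1)`-minors of a product through `r` vanish. -/
theorem det_submatrix_mul_eq_zero (U : Matrix (Fin n) (Fin r) S) (V : Matrix (Fin r) (Fin m) S)
    (f : Fin (r + 1) → Fin n) (g : Fin (r + 1) → Fin m) :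
    ((U * V).submatrix f g).det = 0 := by
  rw [Matrix.submatrix_mul U V f id g Function.bijective_id]
  exact det_mul_eq_zero _ _

/-- **Schur complement argument**: a matrix with an invertible `r × r` minor `A` and vanishing
`(r+1)`-minors factors through `A`. -/
theorem eq_mul_inv_mul (N : Matrix (Fin n) (Fin m) S) (f0 : Fin r → Fin n) (g0 : Fin r → Fin m)
    (hA : IsUnit (N.submatrix f0 g0).det)
    (hminors : ∀ (f : Fin (r + 1) → Fin n) (g : Fin (r + 1) → Fin m), (N.submatrix f g).det = 0) :
    N = N.submatrix id g0 * (N.submatrix f0 g0)⁻¹ * N.submatrix f0 id := by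
  classical
  ext i j
  set A := N.submatrix f0 g0 with hAdef
  letI : Invertible A := Matrix.invertibleOfIsUnitDet A hA
  let F : Fin r ⊕ Fin 1 → Fin n := Sum.elim f0 (fun _ => i)
  let G : Fin r ⊕ Fin 1 → Fin m := Sum.elim g0 (fun _ => j)
  have hblock : N.submatrix F G = Matrix.fromBlocks A (N.submatrix f0 (fun _ : Fin 1 => j))
      (N.submatrix (fun _ : Fin 1 => i) g0) (N.submatrix (fun _ : Fin 1 => i) (fun _ : Fin 1 => j)) := by
    ext (a | a) (b | b) <;> rfl
  have hdet0 : (N.submatrix F G).det = 0 := by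
    have h1 := hminors (F ∘ finSumFinEquiv.symm) (G ∘ finSumFinEquiv.symm)
    have h2 : N.submatrix (F ∘ finSumFinEquiv.symm) (G ∘ finSumFinEquiv.symm) =
        (N.submatrix F G).submatrix finSumFinEquiv.symm finSumFinEquiv.symm := by
      rw [Matrix.submatrix_submatrix]
    rw [h2, Matrix.det_submatrix_equiv_self] at h1
    exact h1
  rw [hblock, Matrix.det_fromBlocks₁₁] at hdet0
  have h3 := (hA.mul_right_eq_zero).mp hdet0
  rw [Matrix.det_unique, Matrix.sub_apply, sub_eq_zero] at h3
  rw [Matrix.submatrix_apply] at h3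
  rw [h3, Matrix.invOf_eq_nonsing_inv]
  simp only [Matrix.mul_apply, Matrix.submatrix_apply, id_eq]

section Smooth

variable (k : Type u) [CommRing k] (n m r : ℕ)

/-- The generic `n × m` matrix. -/
noncomputable def gen : Matrix (Fin n) (Fin m) (MvPolynomial (Fin n × Fin m) k) :=
  Matrix.of fun i j => X (i, j)

variable {k n m}

theorem aeval_det_submatrix {C : Type*} [CommRing C] [Algebra k C] (N : Matrix (Fin n) (Fin m) C)
    {t : ℕ} (f : Fin t → Fin n) (g : Fin t → Fin m) :
    aeval (fun p : Fin n × Fin m => N p.1 p.2) ((gen k n m).submatrix f g).det =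
      (N.submatrix f g).det := by
  rw [AlgHom.map_det]
  congr 1
  ext a b
  simp [gen]

variable (k n m)

/-- The locus where a fixed `r`-minor is invertible in the determinantal scheme of rank `≤ r` is
smooth. -/
theorem formallySmooth_away (f0 : Fin r → Fin n) (g0 : Fin r → Fin m) :
    Algebra.FormallySmooth k (Localization.Away
      (Ideal.Quotient.mk (CAlgX.minorIdeal (gen k n m) (r + 1))
        ((gen k n m).submatrix f0 g0).det)) := by
  classical
  set I := CAlgX.minorIdeal (gen k n m) (r + 1) with hI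
  set Δ := Ideal.Quotient.mk I ((gen k n m).submatrix f0 g0).det with hΔ
  refine Algebra.FormallySmooth.of_comp_surjective ?_
  intro C _ _ Ic hIc φ
  let ι : (MvPolynomial (Fin n × Fin m) k ⧸ I) →ₐ[k] Localization.Away Δ :=
    IsScalarTower.toAlgHom k _ _
  let ψ : MvPolynomial (Fin n × Fin m) k →ₐ[k] C ⧸ Ic := φ.comp (ι.comp (Ideal.Quotient.mkₐ k I))
  let Nbar : Matrix (Fin n) (Fin m) (C ⧸ Ic) := Matrix.of fun i j => ψ (X (i, j))
  have hψ : ψ = aeval (fun p : Fin n × Fin m => Nbar p.1 p.2) := by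
    apply MvPolynomial.algHom_ext
    intro p
    simp [Nbar]
  have hminors : ∀ (f : Fin (r + 1) → Fin n) (g : Fin (r + 1) → Fin m),
      (Nbar.submatrix f g).det = 0 := by
    intro f g
    rw [← aeval_det_submatrix (k := k), ← hψ]
    have hmem : ((gen k n m).submatrix f g).det ∈ I := Ideal.subset_span ⟨(f, g), rfl⟩
    show φ (ι (Ideal.Quotient.mk I _)) = 0
    rw [Ideal.Quotient.eq_zero_iff_mem.mpr hmem, map_zero, map_zero]
  have hunit : IsUnit (Nbar.submatrix f0 g0).det := by
    rw [← aeval_det_submatrix (k := k), ← hψ]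
    show IsUnit (φ (ι Δ))
    exact (IsLocalization.Away.algebraMap_isUnit Δ).map φ
  have hsurj := Ideal.Quotient.mk_surjective (I := Ic)
  choose c hc using fun p : Fin n × Fin m => hsurj (Nbar p.1 p.2)
  let Nc : Matrix (Fin n) (Fin m) C := Matrix.of fun i j => c (i, j)
  have hNc : Nc.map (Ideal.Quotient.mk Ic) = Nbar := by
    ext i j
    exact hc (i, j)
  set A := Nc.submatrix f0 g0 with hA
  have hAmap : A.map (Ideal.Quotient.mk Ic) = Nbar.submatrix f0 g0 := by
    rw [← hNc]; rfl
  have hAunit : IsUnit A.det := by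
    have hnil : IsNilpotent Ic := ⟨2, hIc⟩
    rw [← hnil.isUnit_quotient_mk_iff, RingHom.map_det, RingHom.mapMatrix_apply, hAmap]
    exact hunit
  set Nt : Matrix (Fin n) (Fin m) C := Nc.submatrix id g0 * A⁻¹ * Nc.submatrix f0 id with hNt
  have hNt_minors : ∀ (f : Fin (r + 1) → Fin n) (g : Fin (r + 1) → Fin m),
      (Nt.submatrix f g).det = 0 := by
    intro f g
    rw [hNt, Matrix.mul_assoc]
    exact det_submatrix_mul_eq_zero _ _ f g
  have hNt_A : Nt.submatrix f0 g0 = A := by
    rw [hNt, Matrix.submatrix_mul _ _ f0 id g0 Function.bijective_id,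
      Matrix.submatrix_mul _ _ f0 id id Function.bijective_id]
    have h1 : (Nc.submatrix id g0).submatrix f0 id = A := rfl
    have h2 : (Nc.submatrix f0 id).submatrix id g0 = A := rfl
    have h3 : A⁻¹.submatrix id id = A⁻¹ := rfl
    rw [h1, h2, h3, Matrix.mul_nonsing_inv _ hAunit, Matrix.one_mul]
  have hinvmap : (A⁻¹).map (Ideal.Quotient.mk Ic) = (Nbar.submatrix f0 g0)⁻¹ := by
    symm
    apply Matrix.inv_eq_right_inv
    rw [← hAmap, ← Matrix.map_mul, Matrix.mul_nonsing_inv _ hAunit]
    exact Matrix.map_one _ (map_zero _) (map_one _)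
  have hNt_map : Nt.map (Ideal.Quotient.mk Ic) = Nbar := by
    have h1 := eq_mul_inv_mul Nbar f0 g0 hunit hminors
    rw [hNt, Matrix.map_mul, Matrix.map_mul, hinvmap]
    have h2 : (Nc.submatrix id g0).map (Ideal.Quotient.mk Ic) = Nbar.submatrix id g0 := by
      rw [← hNc]; rfl
    have h3 : (Nc.submatrix f0 id).map (Ideal.Quotient.mk Ic) = Nbar.submatrix f0 id := by
      rw [← hNc]; rfl
    rw [h2, h3]
    exact h1.symm
  let χ : MvPolynomial (Fin n × Fin m) k →ₐ[k] C := aeval (fun p : Fin n × Fin m => Nt p.1 p.2)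
  have hχI : ∀ a ∈ I, χ a = 0 := by
    have hle : I ≤ RingHom.ker χ.toRingHom := by
      rw [hI, CAlgX.minorIdeal, Ideal.span_le]
      rintro _ ⟨⟨f, g⟩, rfl⟩
      exact (aeval_det_submatrix Nt f g).trans (hNt_minors f g)
    intro a ha
    exact hle ha
  let χbar : (MvPolynomial (Fin n × Fin m) k ⧸ I) →ₐ[k] C := Ideal.Quotient.liftₐ I χ hχI
  have hχΔ : IsUnit (χbar Δ) := by
    show IsUnit (χ ((gen k n m).submatrix f0 g0).det)
    rw [aeval_det_submatrix, hNt_A]
    exact hAunit
  refine ⟨IsLocalization.Away.liftAlgHom (S := Localization.Away Δ) Δ (f := χbar) hχΔ, ?_⟩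
  apply IsLocalization.algHom_ext (Submonoid.powers Δ)
  apply Ideal.Quotient.algHom_ext
  apply MvPolynomial.algHom_ext
  intro p
  simp only [AlgHom.comp_apply, Ideal.Quotient.mkₐ_eq_mk]
  have hal : ∀ y, (Algebra.algHom k (MvPolynomial (Fin n × Fin m) k ⧸ I) (Localization.Away Δ)) y =
      algebraMap _ _ y := fun _ => rfl
  rw [hal, IsLocalization.Away.liftAlgHom_apply, IsLocalization.Away.lift_eq]
  show Ideal.Quotient.mk Ic (χ (X p)) = ψ (X p)
  rw [hψ, aeval_X, aeval_X, ← hNt_map]
  rfl

end Smooth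

end Groth.Agent.Lib.Seat67.RankFactor
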