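import Groth.Agent.Lib.Seat67ReesVal
import Groth.Prelude.Def_W4c2filtblowupsingRees

/-!
# Integral elements over a Rees algebra: reduction to monomials (seat 67)
-/

set_option autoImplicit false
universe u

namespace Groth.Agent.Lib.Seat67.ReesHom

open Polynomial Finset

variable {A : Type u} [CommRing A]

/-- The substitution `X ↦ X·t` from `A[X]` to `A[X][t]`. -/
noncomputable def ψ : A[X] →+* A[X][X] :=
  eval₂RingHom ((C : A[X] →+* A[X][X]).comp C) (C X * X)

theorem ψ_monomial (k : ℕ) (a : A) : ψ (monomial k a) = monomial k (monomial k a) := by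
  simp only [ψ, coe_eval₂RingHom, eval₂_monomial, RingHom.comp_apply]
  rw [mul_pow, ← C_pow, ← mul_assoc, ← C_mul, ← C_mul_X_pow_eq_monomial, ← C_mul_X_pow_eq_monomial]

theorem ψ_coeff (f : A[X]) (n : ℕ) : (ψ f).coeff n = monomial n (f.coeff n) := by
  induction f using Polynomial.induction_on' with
  | add p q hp hq => simp only [map_add, coeff_add, hp, hq]
  | monomial k a =>
    rw [ψ_monomial, coeff_monomial, coeff_monomial]
    split_ifs with h
    · subst h; rfl
    · simp

variable (𝓕 : FiltBl.IdealFiltration A)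

theorem monomial_mem_rees {n : ℕ} {a : A} (ha : a ∈ 𝓕.F n) : monomial n a ∈ 𝓕.rees := by
  intro k
  rw [coeff_monomial]
  split_ifs with h
  · subst h; exact ha
  · exact Ideal.zero_mem _

/-- From integrality of `a·Xⁿ` over the Rees algebra, extract a monic relation for `a`
with coefficients in the appropriate pieces of the filtration. -/
theorem exists_relation_of_isIntegral_monomial {n : ℕ} {a : A}
    (h : IsIntegral (↥𝓕.rees) (monomial n a)) :
    ∃ (m : ℕ) (d : ℕ → A), (∀ j < m, d j ∈ 𝓕.F (n * (m - j))) ∧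
      a ^ m + ∑ j ∈ range m, d j * a ^ j = 0 := by
  obtain ⟨P, hPm, hP⟩ := h
  refine ⟨P.natDegree, fun j => ((P.coeff j : 𝓕.rees) : A[X]).coeff (n * (P.natDegree - j)),
    fun j _ => (P.coeff j).2 _, ?_⟩
  rw [eval₂_eq_sum_range] at hP
  have hP' := congrArg (fun f : A[X] => f.coeff (n * P.natDegree)) hP
  simp only [finsetSum_coeff, coeff_zero] at hP'
  rw [Finset.sum_range_succ] at hP'
  have hterm : ∀ j ∈ range (P.natDegree + 1),
      ((algebraMap (↥𝓕.rees) A[X]) (P.coeff j) * monomial n a ^ j).coeff (n * P.natDegree) =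
      ((P.coeff j : 𝓕.rees) : A[X]).coeff (n * (P.natDegree - j)) * a ^ j := by
    intro j hj
    have hj' : j ≤ P.natDegree := Nat.lt_succ_iff.mp (mem_range.mp hj)
    rw [monomial_pow]
    have : n * P.natDegree = n * (P.natDegree - j) + n * j := by
      rw [← Nat.mul_add, Nat.sub_add_cancel hj']
    rw [this, coeff_mul_monomial]
    rfl
  rw [hterm _ (self_mem_range_succ _), Finset.sum_congr rfl
    (fun j hj => hterm j (mem_range.mpr (Nat.lt_succ_of_lt (mem_range.mp hj))))] at hP'
  have hlead : ((P.coeff P.natDegree : 𝓕.rees) : A[X]).coeff (n * (P.natDegree - P.natDegree)) = 1 := by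
    rw [Nat.sub_self, Nat.mul_zero]
    have : P.coeff P.natDegree = 1 := hPm
    rw [this]
    simp
  rw [hlead, one_mul, add_comm] at hP'
  exact hP'

section Integral
attribute [local instance] Polynomial.algebra

theorem ψ_mem_lifts (r : 𝓕.rees) :
    ψ (r : A[X]) ∈ Polynomial.lifts (algebraMap (↥𝓕.rees) A[X]) := by
  rw [lifts_iff_coeff_lifts]
  intro n
  rw [ψ_coeff]
  exact ⟨⟨monomial n ((r : A[X]).coeff n), monomial_mem_rees 𝓕 (r.2 n)⟩, rfl⟩

theorem isIntegral_ψ {x : A[X]} (hx : IsIntegral (↥𝓕.rees) x) :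
    IsIntegral (↥𝓕.rees)[X] (ψ x) := by
  obtain ⟨P, hPm, hP⟩ := hx
  set P' : A[X][X][X] := (P.map (algebraMap (↥𝓕.rees) A[X])).map ψ with hP'
  have hmon : P'.Monic := (hPm.map _).map _
  have hlift : P' ∈ Polynomial.lifts (algebraMap (↥𝓕.rees)[X] A[X][X]) := by
    rw [lifts_iff_coeff_lifts]
    intro n
    rw [hP', coeff_map, coeff_map]
    have := ψ_mem_lifts 𝓕 (P.coeff n)
    rw [Polynomial.mem_lifts] at this
    obtain ⟨q, hq⟩ := this
    exact ⟨q, hq⟩
  obtain ⟨Q, hQ, -, hQm⟩ := lifts_and_natDegree_eq_and_monic hlift hmon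
  refine ⟨Q, hQm, ?_⟩
  rw [← eval_map, hQ, hP', eval_map, eval₂_at_apply, eval_map, hP, map_zero]

theorem isIntegral_monomial_coeff {x : A[X]} (hx : IsIntegral (↥𝓕.rees) x) (n : ℕ) :
    IsIntegral (↥𝓕.rees) (monomial n (x.coeff n)) := by
  have := (isIntegral_ψ 𝓕 hx).coeff n
  rwa [ψ_coeff] at this

end Integral

end Groth.Agent.Lib.Seat67.ReesHom
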