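import Mathlib.RingTheory.Valuation.Basic
import Mathlib.RingTheory.Polynomial.IsIntegral
import Mathlib.RingTheory.IntegralClosure.IntegrallyClosed

/-!
# Valuative criterion used for Rees algebras of valuation filtrations (seat 67)
-/

set_option autoImplicit false
universe u

namespace Groth.Agent.Lib.Seat67.ReesVal

open Finset

/-- If `α^m + ∑_{j<m} δ_j α^j = 0` and `q·v(δ_j) ≥ n(m-j)p` for all `j < m`, then `q·v(α) ≥ np`. -/
theorem le_mul_valuation_of_monic_relation {K : Type u} [Field K] (V : AddValuation K (WithTop ℤ))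
    (p q n m : ℕ) (hq : 0 < q) (α : K) (δ : ℕ → K)
    (hδ : ∀ j < m, ((n * (m - j) * p : ℕ) : WithTop ℤ) ≤ (q : WithTop ℤ) * V (δ j))
    (hrel : α ^ m + ∑ j ∈ range m, δ j * α ^ j = 0) :
    ((n * p : ℕ) : WithTop ℤ) ≤ (q : WithTop ℤ) * V α := by
  by_contra hcon
  rw [not_le] at hcon
  -- `V α` is finite
  have hqne : (q : WithTop ℤ) ≠ 0 := by exact_mod_cast hq.ne'
  have hVα : V α ≠ ⊤ := by
    intro h
    rw [h, WithTop.mul_top hqne] at hcon
    exact not_top_lt hcon
  obtain ⟨z, hz⟩ := WithTop.ne_top_iff_exists.mp hVα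
  have hz' : (q : ℤ) * z < (n * p : ℕ) := by
    rw [← hz] at hcon
    have : ((q : WithTop ℤ) * (z : WithTop ℤ)) = (((q : ℤ) * z : ℤ) : WithTop ℤ) := by
      rw [WithTop.coe_mul, WithTop.coe_natCast]
    rw [this, ← WithTop.coe_natCast, WithTop.coe_lt_coe] at hcon
    exact hcon
  -- each lower term has strictly larger valuation than `α ^ m`
  have hlt : ∀ j ∈ range m, V (α ^ m) < V (δ j * α ^ j) := by
    intro j hj
    have hjm : j < m := mem_range.mp hj
    rw [AddValuation.map_mul, AddValuation.map_pow, AddValuation.map_pow, ← hz]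
    rcases eq_or_ne (V (δ j)) ⊤ with htop | hne
    · rw [htop, top_add]
      exact WithTop.coe_lt_top _
    · obtain ⟨y, hy⟩ := WithTop.ne_top_iff_exists.mp hne
      have h1 := hδ j hjm
      rw [← hy] at h1 ⊢
      have h1' : ((n * (m - j) * p : ℕ) : ℤ) ≤ (q : ℤ) * y := by
        have : ((q : WithTop ℤ) * (y : WithTop ℤ)) = (((q : ℤ) * y : ℤ) : WithTop ℤ) := by
          rw [WithTop.coe_mul, WithTop.coe_natCast]
        rw [this, ← WithTop.coe_natCast, WithTop.coe_le_coe] at h1
        exact h1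
      have hgoal : (m : ℤ) * z < y + (j : ℤ) * z := by
        have hmj : (0 : ℤ) < (m : ℤ) - j := by omega
        have h2 : (q : ℤ) * (((m : ℤ) - j) * z) < (q : ℤ) * y := by
          calc (q : ℤ) * (((m : ℤ) - j) * z) = ((m : ℤ) - j) * ((q : ℤ) * z) := by ring
            _ < ((m : ℤ) - j) * ((n * p : ℕ) : ℤ) := by
              exact mul_lt_mul_of_pos_left hz' hmj
            _ = ((n * (m - j) * p : ℕ) : ℤ) := by
              push_cast [Nat.cast_sub hjm.le]; ring
            _ ≤ (q : ℤ) * y := h1'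
        have hq' : (0 : ℤ) < q := by exact_mod_cast hq
        have h3 := lt_of_mul_lt_mul_left h2 hq'.le
        linarith
      have e1 : (m • (z : WithTop ℤ)) = (((m : ℤ) * z : ℤ) : WithTop ℤ) := by
        rw [← WithTop.coe_nsmul, nsmul_eq_mul]
      have e2 : ((y : WithTop ℤ) + j • (z : WithTop ℤ)) = ((y + (j : ℤ) * z : ℤ) : WithTop ℤ) := by
        rw [← WithTop.coe_nsmul, nsmul_eq_mul, WithTop.coe_add]
      rw [e1, e2, WithTop.coe_lt_coe]
      exact hgoal
  have hne : V (α ^ m) ≠ ⊤ := by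
    rw [AddValuation.map_pow, ← hz]
    have e1 : (m • (z : WithTop ℤ)) = (((m : ℤ) * z : ℤ) : WithTop ℤ) := by
      rw [← WithTop.coe_nsmul, nsmul_eq_mul]
    rw [e1]
    exact WithTop.coe_ne_top
  have hsum := AddValuation.map_lt_sum V hne hlt
  have heq : ∑ j ∈ range m, δ j * α ^ j = -(α ^ m) := by
    rw [eq_neg_iff_add_eq_zero, add_comm]; exact hrel
  rw [heq, AddValuation.map_neg] at hsum
  exact lt_irrefl _ hsum

end Groth.Agent.Lib.Seat67.ReesVal
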