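import Mathlib
import Groth.Agent.Lib.Seat68GrassRep

/-!
# Schemes over `Spec R` representing a separated functor on affine `R`-schemes (seat 68)

`Fo A` is the set of `A`-points, `Fm φ` the transition maps; `X` with `e A : (Spec A ⟶ X) ≃ Fo A`
natural in `A`.  No functor laws are needed.
* `exists_hom_of_natural`: Yoneda on affine points.
* `exists_iso_of_rep`: two representing objects are isomorphic over `Spec R`.
-/

set_option autoImplicit false
set_option linter.style.haveILetI false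
set_option backward.isDefEq.respectTransparency false
universe u
open CategoryTheory AlgebraicGeometry TensorProduct

namespace Groth.Agent.Lib.Seat68.AffRep

open Groth.Agent.Lib.Seat68.GrassHilb Groth.Agent.Lib.Seat68.GrassRep

variable {R : Type u} [CommRing R]
  (Fo : CommAlgCat.{u} R → Type u)
  (Fm : ∀ (A C : CommAlgCat.{u} R), (A ⟶ C) → Fo A → Fo C)

/-- the functor of points is separated for affine open covers of `Spec A`. -/
def IsSep : Prop :=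
  ∀ (A : CommAlgCat.{u} R) (N N' : Fo A),
    (∀ x : (ov A).left, ∃ V : (ov A).left.affineOpens, x ∈ V.1 ∧
      Fm _ _ (αA A V) N = Fm _ _ (αA A V) N') → N = N'

/-- `X` with `e` represents `(Fo, Fm)` on affine `R`-schemes. -/
def IsRep (X : Over (Spec (CommRingCat.of R))) (e : ∀ A : CommAlgCat.{u} R, (ov A ⟶ X) ≃ Fo A) :
    Prop :=
  ∀ (A C : CommAlgCat.{u} R) (φ : A ⟶ C) (g : ov A ⟶ X) (g' : ov C ⟶ X),
    g'.left = Spec.map (CommRingCat.ofHom φ.hom.toRingHom) ≫ g.left → e C g' = Fm _ _ φ (e A g)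

variable {Fo Fm}

section rep

variable {X : Over (Spec (CommRingCat.of R))} {e : ∀ A : CommAlgCat.{u} R, (ov A ⟶ X) ≃ Fo A}
  (he : IsRep Fo Fm X e)

include he

lemma e_comp_eq_map {Y : Over (Spec (CommRingCat.of R))} (A C : CommAlgCat.{u} R) (φ : A ⟶ C)
    (g : ov A ⟶ Y) (g' : ov C ⟶ Y)
    (h : g'.left = Spec.map (CommRingCat.ofHom φ.hom.toRingHom) ≫ g.left) (c : Y ⟶ X) :
    e C (g' ≫ c) = Fm _ _ φ (e A (g ≫ c)) :=
  he A C φ (g ≫ c) (g' ≫ c) (by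
    rw [Over.comp_left, Over.comp_left, h, Category.assoc])

lemma e_ovMap_comp (A C : CommAlgCat.{u} R) (φ : A ⟶ C) (g : ov A ⟶ X) :
    e C (ovMap φ ≫ g) = Fm _ _ φ (e A g) :=
  he A C φ g (ovMap φ ≫ g) rfl

lemma e_pt_comp_comp {Y Y' : Over (Spec (CommRingCat.of R))} (g : Y ⟶ Y') (c : Y' ⟶ X)
    (U : Y'.left.affineOpens) (V : Y.left.affineOpens) (hVU : V.1 ≤ g.left ⁻¹ᵁ U.1) :
    e (ΓA Y V) (pt Y V ≫ g ≫ c) = Fm _ _ (appLEA g U V hVU) (e (ΓA Y' U) (pt Y' U ≫ c)) := by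
  rw [← Category.assoc]
  exact e_comp_eq_map he _ _ (appLEA g U V hVU) (pt Y' U) (pt Y V ≫ g)
    (pt_comp_left g U V hVU) c

lemma e_pt_comp_αA (A : CommAlgCat.{u} R) (g : ov A ⟶ X) (V : (ov A).left.affineOpens) :
    e (ΓA (ov A) V) (pt (ov A) V ≫ g) = Fm _ _ (αA A V) (e A g) :=
  he _ _ (αA A V) g (pt (ov A) V ≫ g) (pt_comp_left_αA A V g)

/-- **Yoneda on affine points**. -/
theorem exists_hom_of_natural (hsep : IsSep Fo Fm) (Y : Over (Spec (CommRingCat.of R)))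
    (Φ : ∀ A : CommAlgCat.{u} R, (ov A ⟶ Y) → Fo A)
    (hΦ : ∀ (A C : CommAlgCat.{u} R) (φ : A ⟶ C) (g : ov A ⟶ Y) (g' : ov C ⟶ Y),
      g'.left = Spec.map (CommRingCat.ofHom φ.hom.toRingHom) ≫ g.left →
        Φ C g' = Fm _ _ φ (Φ A g)) :
    ∃ c : Y ⟶ X, ∀ (A : CommAlgCat.{u} R) (g : ov A ⟶ Y), e A (g ≫ c) = Φ A g := by
  let cW : ∀ W : Y.left.affineOpens, ov (ΓA Y W) ⟶ X := fun W => (e _).symm (Φ _ (pt Y W))
  have hecW : ∀ W : Y.left.affineOpens, e _ (cW W) = Φ _ (pt Y W) :=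
    fun W => (e _).apply_symm_apply _
  have hcW : ∀ (W W' : Y.left.affineOpens) (f : Opposite.op W'.1 ⟶ Opposite.op W.1),
      ovMap (resA Y W' W f) ≫ cW W' = cW W := by
    intro W W' f
    apply (e _).injective
    rw [e_ovMap_comp he, hecW, hecW]
    exact (hΦ _ _ (resA Y W' W f) (pt Y W') (pt Y W) (pt_left_resA Y W' W f)).symm
  have hg1 : ∀ (W W' : Y.left.affineOpens) (hle : W ≤ W'),
      Y.left.homOfLE hle ≫ (IsAffineOpen.isoSpec W'.2).hom ≫ (cW W').left =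
        (IsAffineOpen.isoSpec W.2).hom ≫ (cW W).left := by
    intro W W' hle
    have h1 : Spec.map (CommRingCat.ofHom (resA Y W' W (homOfLE hle).op).hom.toRingHom) ≫
        (cW W').left = (cW W).left := congrArg (fun t => t.left) (hcW W W' (homOfLE hle).op)
    rw [← h1, ← Category.assoc, ← Category.assoc]
    congr 1
    rw [← cancel_mono W'.2.fromSpec, Category.assoc, IsAffineOpen.isoSpec_hom_fromSpec,
      Scheme.homOfLE_ι, Category.assoc]
    have h2 : Spec.map (CommRingCat.ofHom (resA Y W' W (homOfLE hle).op).hom.toRingHom) ≫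
        W'.2.fromSpec = W.2.fromSpec := IsAffineOpen.map_fromSpec W'.2 W.2 (homOfLE hle).op
    rw [h2, IsAffineOpen.isoSpec_hom_fromSpec]
  have hg2 : ∀ W : Y.left.affineOpens,
      ((IsAffineOpen.isoSpec W.2).hom ≫ (cW W).left) ≫ X.hom = W.1.ι ≫ Y.hom := by
    intro W
    rw [Category.assoc, Over.w (cW W), ← IsAffineOpen.isoSpec_hom_fromSpec W.2, Category.assoc]
    congr 1
    exact Spec_map_ρ Y W
  let gW : ∀ W : Y.left.directedAffineCover.I₀, Y.left.directedAffineCover.X W ⟶ X.left :=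
    fun (W : Y.left.affineOpens) => (IsAffineOpen.isoSpec (U := W.1) W.2).hom ≫ (cW W).left
  have hgW : ∀ {W W' : Y.left.directedAffineCover.I₀} (hij : W ⟶ W'),
      Y.left.directedAffineCover.trans hij ≫ gW W' = gW W :=
    fun {W W'} hij => hg1 W W' (leOfHom hij)
  have hw : ∀ W, gW W ≫ X.hom = Y.left.directedAffineCover.f W ≫ Y.hom := fun W => hg2 W
  let c : Y ⟶ X := Scheme.OpenCover.glueMorphismsOverOfLocallyDirected
    Y.left.directedAffineCover gW hgW hw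
  have hc : ∀ W : Y.left.affineOpens, pt Y W ≫ c = cW W := by
    intro W
    apply Over.OverMorphism.ext
    have h1 : W.1.ι ≫ c.left = (IsAffineOpen.isoSpec W.2).hom ≫ (cW W).left :=
      Scheme.OpenCover.map_glueMorphismsOverOfLocallyDirected_left
        Y.left.directedAffineCover gW hgW hw W
    rw [Over.comp_left, pt_left, ← IsAffineOpen.isoSpec_inv_ι, Category.assoc, h1,
      Iso.inv_hom_id_assoc]
  refine ⟨c, fun A g => ?_⟩
  apply hsep
  intro x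
  obtain ⟨_, ⟨W, hW, rfl⟩, hxW, -⟩ := Y.left.isBasis_affineOpens.exists_subset_of_mem_open
    (Set.mem_univ (g.left x)) isOpen_univ
  obtain ⟨_, ⟨V, hV, rfl⟩, hxV, hVW⟩ := (ov A).left.isBasis_affineOpens.exists_subset_of_mem_open
    (show x ∈ (g.left ⁻¹ᵁ W : Set (ov A).left) from hxW) (g.left ⁻¹ᵁ W).2
  refine ⟨⟨V, hV⟩, hxV, ?_⟩
  rw [← e_pt_comp_αA he A (g ≫ c) ⟨V, hV⟩,
    e_pt_comp_comp he g c ⟨W, hW⟩ ⟨V, hV⟩ hVW, hc, hecW,
    ← hΦ _ _ (appLEA g ⟨W, hW⟩ ⟨V, hV⟩ hVW) (pt Y ⟨W, hW⟩) (pt (ov A) ⟨V, hV⟩ ≫ g)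
      (pt_comp_left g ⟨W, hW⟩ ⟨V, hV⟩ hVW)]
  exact hΦ _ _ (αA A ⟨V, hV⟩) g (pt (ov A) ⟨V, hV⟩ ≫ g) (pt_comp_left_αA A ⟨V, hV⟩ g)

end rep

/-- two schemes representing the same separated functor on affine points are isomorphic. -/
theorem exists_iso_of_rep (hsep : IsSep Fo Fm)
    {X₁ X₂ : Over (Spec (CommRingCat.of R))}
    {e₁ : ∀ A : CommAlgCat.{u} R, (ov A ⟶ X₁) ≃ Fo A}
    {e₂ : ∀ A : CommAlgCat.{u} R, (ov A ⟶ X₂) ≃ Fo A}
    (he₁ : IsRep Fo Fm X₁ e₁) (he₂ : IsRep Fo Fm X₂ e₂) :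
    ∃ i : X₁ ≅ X₂, ∀ (A : CommAlgCat.{u} R) (g : ov A ⟶ X₁), e₂ A (g ≫ i.hom) = e₁ A g := by
  obtain ⟨c₁₂, h₁₂⟩ := exists_hom_of_natural he₂ hsep X₁ (fun A g => e₁ A g) he₁
  obtain ⟨c₂₁, h₂₁⟩ := exists_hom_of_natural he₁ hsep X₂ (fun A g => e₂ A g) he₂
  refine ⟨⟨c₁₂, c₂₁, ?_, ?_⟩, h₁₂⟩
  · apply hom_ext_pt
    intro W
    apply (e₁ _).injective
    rw [← Category.assoc, h₂₁, h₁₂, Category.comp_id]
  · apply hom_ext_pt
    intro W
    apply (e₂ _).injective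
    rw [← Category.assoc, h₁₂, h₂₁, Category.comp_id]

end Groth.Agent.Lib.Seat68.AffRep
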