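import Mathlib

/-!
# Affine space is smooth of relative dimension the number of variables (seat 68)
-/

set_option autoImplicit false
set_option linter.style.haveILetI false
universe u
open CategoryTheory AlgebraicGeometry

namespace Groth.Agent.Lib.Seat68.AffSmooth

section alg

universe v
variable (R : Type u) [CommRing R] (ι : Type v) [Finite ι]

/-- the presentation of the polynomial ring with no relations -/
noncomputable def presMv : Algebra.Presentation R (MvPolynomial ι R) ι PEmpty.{1} where
  toGenerators := Algebra.Generators.mvPolynomial R ι
  relation := PEmpty.elim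
  span_range_relation_eq_ker := by
    have h1 : Set.range (PEmpty.elim : PEmpty.{1} → (Algebra.Generators.mvPolynomial R ι).Ring) = ∅ :=
      Set.range_eq_empty _
    rw [h1, Ideal.span_empty, Algebra.Generators.ker_eq_ker_aeval_val]
    symm
    rw [← RingHom.injective_iff_ker_eq_bot]
    intro x y h
    simpa [Algebra.Generators.mvPolynomial_val] using h

/-- the pre-submersive presentation of the polynomial ring -/
noncomputable def preMv : Algebra.PreSubmersivePresentation R (MvPolynomial ι R) ι PEmpty.{1} where
  toPresentation := presMv R ι
  map := PEmpty.elim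
  map_inj := fun a => a.elim

/-- the submersive presentation of the polynomial ring -/
noncomputable def subMv : Algebra.SubmersivePresentation R (MvPolynomial ι R) ι PEmpty.{1} where
  toPreSubmersivePresentation := preMv R ι
  jacobian_isUnit := by
    rw [Algebra.PreSubmersivePresentation.jacobian_eq_jacobiMatrix_det, Matrix.det_isEmpty,
      map_one]
    exact isUnit_one

instance isStandardSmooth_mvPolynomial :
    Algebra.IsStandardSmoothOfRelativeDimension (Nat.card ι) R (MvPolynomial ι R) :=
  (subMv R ι).isStandardSmoothOfRelativeDimension (by
    simp [Algebra.Presentation.dimension])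

end alg

section scheme

set_option backward.isDefEq.respectTransparency.types false in
/-- affine space over an affine base is smooth of relative dimension the number of variables. -/
theorem smooth_affineSpace (R : CommRingCat.{u}) (ι : Type u) [Finite ι] :
    SmoothOfRelativeDimension (Nat.card ι) (𝔸(ι; Spec R) ↘ Spec R) := by
  have h : 𝔸(ι; Spec R) ↘ Spec R =
      (AffineSpace.SpecIso ι R).hom ≫ Spec.map (CommRingCat.ofHom MvPolynomial.C) := by
    rw [← AffineSpace.SpecIso_inv_over, Iso.hom_inv_id_assoc]
  rw [h, MorphismProperty.cancel_left_of_respectsIso (P := @SmoothOfRelativeDimension (Nat.card ι)),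
    HasRingHomProperty.Spec_iff (P := @SmoothOfRelativeDimension (Nat.card ι))]
  apply RingHom.locally_of RingHom.isStandardSmoothOfRelativeDimension_respectsIso
  have := (RingHom.isStandardSmoothOfRelativeDimension_algebraMap (Nat.card ι)
    (R := R) (S := MvPolynomial ι R)).mpr inferInstance
  exact this

set_option backward.isDefEq.respectTransparency.types false in
/-- a scheme covered by opens isomorphic over the base to a smooth scheme is smooth. -/
theorem smooth_of_cover {S : Scheme.{u}} {X Y : Over S} (d : ℕ) {ι' : Type*}
    (U : ι' → X.left.Opens) (hU : ⨆ i, U i = ⊤) (hY : SmoothOfRelativeDimension d Y.hom)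
    (H : ∀ i, Nonempty (Over.mk ((U i).ι ≫ X.hom) ≅ Y)) :
    SmoothOfRelativeDimension d X.hom := by
  apply IsZariskiLocalAtSource.of_iSup_eq_top (P := @SmoothOfRelativeDimension d) U hU
  intro i
  obtain ⟨e⟩ := H i
  have h1 : (U i).ι ≫ X.hom = ((Over.forget S).mapIso e).hom ≫ Y.hom := (Over.w e.hom).symm
  rw [h1]
  exact (MorphismProperty.cancel_left_of_respectsIso (P := @SmoothOfRelativeDimension d)
    ((Over.forget S).mapIso e).hom Y.hom).mpr hY

end scheme

end Groth.Agent.Lib.Seat68.AffSmooth
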