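import Mathlib
import Groth.Agent.Lib.Seat68AffRep

/-!
# Affine space over `Spec R` represents `A ↦ (ι → A)` on affine points (seat 68)
-/

set_option autoImplicit false
set_option linter.style.haveILetI false
universe u
open CategoryTheory AlgebraicGeometry

namespace Groth.Agent.Lib.Seat68.AffSpaceRep

open Groth.Agent.Lib.Seat68.GrassHilb Groth.Agent.Lib.Seat68.GrassRep Groth.Agent.Lib.Seat68.AffRep

variable {R : Type u} [CommRing R] (ι : Type u)

/-- the functor of points of affine space -/
def Fo (A : CommAlgCat.{u} R) : Type u := ι → A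

/-- transition maps -/
def Fm (A C : CommAlgCat.{u} R) (φ : A ⟶ C) (c : Fo ι A) : Fo ι C := fun i => φ.hom (c i)

lemma isSep : IsSep (R := R) (Fo ι) (Fm ι) := by
  intro A c c' H
  funext i
  rw [← sub_eq_zero]
  apply eq_zero_of_forall_α A
  intro x
  obtain ⟨V, hxV, hV⟩ := H x
  refine ⟨V, hxV, ?_⟩
  have := congrFun hV i
  change (αA A V).hom (c i) = (αA A V).hom (c' i) at this
  rw [map_sub, sub_eq_zero]
  exact this

/-- affine space over `Spec R` -/
noncomputable abbrev AS : Over (Spec (CommRingCat.of R)) :=
  Over.mk (𝔸(ι; Spec (CommRingCat.of R)) ↘ Spec (CommRingCat.of R))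

/-- points of affine space -/
noncomputable def eAS (A : CommAlgCat.{u} R) : (ov A ⟶ AS (R := R) ι) ≃ Fo ι A where
  toFun g i := (Scheme.ΓSpecIso (CommRingCat.of A)).hom
    (g.left.appTop (AffineSpace.coord (Spec (CommRingCat.of R)) i))
  invFun c := Over.homMk (U := ov A) (V := AS (R := R) ι)
    (AffineSpace.homOfVector (ov A).hom
      (fun i => (Scheme.ΓSpecIso (CommRingCat.of A)).inv (c i)))
    (AffineSpace.homOfVector_over _ _)
  left_inv g := by
    apply Over.OverMorphism.ext
    change AffineSpace.homOfVector (ov A).hom (fun i => (Scheme.ΓSpecIso (CommRingCat.of A)).inv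
      ((Scheme.ΓSpecIso (CommRingCat.of A)).hom
        (g.left.appTop (AffineSpace.coord (Spec (CommRingCat.of R)) i)))) = g.left
    apply AffineSpace.hom_ext
    · rw [AffineSpace.homOfVector_over]
      exact (Over.w g).symm
    · intro i
      rw [AffineSpace.homOfVector_appTop_coord]
      simp
  right_inv c := by
    funext i
    change (Scheme.ΓSpecIso (CommRingCat.of A)).hom
      ((AffineSpace.homOfVector (ov A).hom
        (fun i => (Scheme.ΓSpecIso (CommRingCat.of A)).inv (c i))).appTop
          (AffineSpace.coord (Spec (CommRingCat.of R)) i)) = c i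
    rw [AffineSpace.homOfVector_appTop_coord]
    simp

lemma isRep_AS : IsRep (R := R) (Fo ι) (Fm ι) (AS ι) (eAS ι) := by
  intro A C φ g g' h
  funext i
  change (Scheme.ΓSpecIso (CommRingCat.of C)).hom
    (g'.left.appTop (AffineSpace.coord (Spec (CommRingCat.of R)) i)) =
    φ.hom ((Scheme.ΓSpecIso (CommRingCat.of A)).hom
      (g.left.appTop (AffineSpace.coord (Spec (CommRingCat.of R)) i)))
  rw [h, Scheme.Hom.comp_appTop, CommRingCat.comp_apply]
  have := Scheme.ΓSpecIso_naturality (CommRingCat.ofHom φ.hom.toRingHom)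
  exact congr($this (g.left.appTop (AffineSpace.coord (Spec (CommRingCat.of R)) i)))

end Groth.Agent.Lib.Seat68.AffSpaceRep
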