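import Mathlib
import Groth.Prelude.Def_EGA4Misc

/-!
# Seat68: birational (point/residue-field form) morphisms — topological preliminaries
-/

set_option autoImplicit false
universe u

namespace Groth.Agent.Lib.Seat68.Birat

open AlgebraicGeometry CategoryTheory Limits Topology

section Top

variable {α β : Type*} [TopologicalSpace α] [TopologicalSpace β]

/-- In a quasi-sober T0 space the maximal points are the points without proper generalization. -/
lemma mem_genericPoints_iff [QuasiSober α] [T0Space α] (x : α) :
    x ∈ genericPoints α ↔ ∀ z : α, z ⤳ x → z = x := by
  constructor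
  · intro hx z hz
    have hx' : closure {x} ∈ irreducibleComponents α := hx
    have h1 : closure ({x} : Set α) ⊆ closure {z} := by
      rw [← specializes_iff_closure_subset]; exact hz
    have hirr : IsIrreducible (closure ({z} : Set α)) := isIrreducible_singleton.closure
    have h2 : closure ({z} : Set α) ⊆ closure {x} := hx'.2 hirr h1
    have : x ⤳ z := by rw [specializes_iff_closure_subset]; exact h2
    exact (hz.antisymm this).eq
  · intro h
    change closure {x} ∈ irreducibleComponents α
    refine ⟨isIrreducible_singleton.closure, ?_⟩
    intro Z hZ hxZ
    have hZc : IsIrreducible (closure Z) := hZ.closure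
    obtain ⟨z, hz⟩ := QuasiSober.sober hZc isClosed_closure
    have hzx : z ⤳ x := by
      rw [specializes_iff_closure_subset, hz.def]
      exact subset_closure.trans (closure_mono hxZ)
    have := h z hzx
    subst this
    rw [hz.def]
    exact subset_closure

lemma _root_.GeneralizingMap.mem_genericPoints [QuasiSober α] [T0Space α] [QuasiSober β] [T0Space β]
    {f : α → β} (hf : GeneralizingMap f) {x : α} (hx : x ∈ genericPoints α) :
    f x ∈ genericPoints β := by
  rw [mem_genericPoints_iff] at hx ⊢
  intro z hz
  obtain ⟨w, hw, rfl⟩ := hf hz
  rw [hx w hw]

end Top

end Groth.Agent.Lib.Seat68.Birat
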