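import Mathlib
import Groth.Agent.Lib.Seat68BiratA

/-!
# Seat68: points of a fibre product over a point with trivial residue field extension
-/

set_option autoImplicit false
universe u

namespace Groth.Agent.Lib.Seat68.Birat

open AlgebraicGeometry CategoryTheory Limits Topology Scheme.Pullback

variable {X Y S : Scheme.{u}} {f : X ⟶ S} {g : Y ⟶ S}

lemma isIso_tensorInr (T : Triplet f g)
    (hb : Function.Bijective (f.residueFieldMap T.x).hom) : IsIso T.tensorInr := by
  have h1 : IsIso (f.residueFieldMap T.x) := by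
    rw [ConcreteCategory.isIso_iff_bijective]
    exact hb
  have h2 : IsIso ((S.residueFieldCongr T.hx).inv ≫ f.residueFieldMap T.x) := inferInstance
  unfold Triplet.tensorInr
  exact pushout_inr_iso_of_left_iso _ _

lemma subsingleton_spec_tensor (T : Triplet f g)
    (hb : Function.Bijective (f.residueFieldMap T.x).hom) : Subsingleton (Spec T.tensor) := by
  have := isIso_tensorInr T hb
  have h2 : Subsingleton (Spec (Y.residueField T.y)) :=
    show Subsingleton (PrimeSpectrum (Y.residueField T.y)) from inferInstance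
  exact (Spec.map T.tensorInr).homeomorph.toEquiv.subsingleton

/-- Over a point `x` of `X` at which `κ(f x) → κ(x)` is bijective, a point of `X ×_S Y` is determined
by its two projections. -/
lemma eq_of_fst_eq_of_snd_eq (t₁ t₂ : ↑(pullback f g))
    (h1 : pullback.fst f g t₁ = pullback.fst f g t₂)
    (h2 : pullback.snd f g t₁ = pullback.snd f g t₂)
    (hb : Function.Bijective (f.residueFieldMap (pullback.fst f g t₁)).hom) : t₁ = t₂ := by
  apply (carrierEquiv (f := f) (g := g)).injective
  rw [carrierEquiv_eq_iff]
  have e : Triplet.ofPoint t₁ = Triplet.ofPoint t₂ := Triplet.ext h1 h2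
  refine ⟨e, ?_⟩
  have hs1 : Subsingleton (Spec (Triplet.ofPoint t₁).tensor) :=
    subsingleton_spec_tensor (Triplet.ofPoint t₁) hb
  have hs2 : Subsingleton (Spec (Triplet.ofPoint t₂).tensor) := e ▸ hs1
  exact @Subsingleton.elim _ hs2 _ _

/-- A morphism `q : P ⟶ Y` and a point `t` of `P` such that `Spec κ(q t) ⟶ Y` lifts to a morphism to `P`
hitting `t`: then `κ(q t) → κ(t)` is bijective. -/
lemma bijective_residueFieldMap_of_lift {P Y : Scheme.{u}} (q : P ⟶ Y) (t : P)
    (h : Spec (Y.residueField (q t)) ⟶ P) (hq : h ≫ q = Y.fromSpecResidueField (q t))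
    (ht : h (IsLocalRing.closedPoint (Y.residueField (q t))) = t) :
    Function.Bijective (q.residueFieldMap t).hom := by
  obtain ⟨ψ₀, h0⟩ : ∃ ψ₀ : P.residueField (h (IsLocalRing.closedPoint (Y.residueField (q t)))) ⟶
      Y.residueField (q t), Spec.map ψ₀ ≫ P.fromSpecResidueField _ = h :=
    ⟨_, Scheme.descResidueField_stalkClosedPointTo_fromSpecResidueField
      (Y.residueField (q t)) P h⟩
  have h1 := P.residueFieldCongr_fromSpecResidueField ht.symm
  rw [← h1, ← Category.assoc, ← Spec.map_comp] at h0
  set ψ : P.residueField t ⟶ Y.residueField (q t) := (P.residueFieldCongr ht.symm).hom ≫ ψ₀ with hψ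
  have h2 : Spec.map ψ ≫ Spec.map (q.residueFieldMap t) ≫ Y.fromSpecResidueField (q t) =
      𝟙 _ ≫ Y.fromSpecResidueField (q t) := by
    rw [Scheme.Hom.SpecMap_residueFieldMap_fromSpecResidueField, ← Category.assoc, h0, hq,
      Category.id_comp]
  rw [← Category.assoc, cancel_mono, ← Spec.map_comp, ← Spec.map_id, Spec.map_inj] at h2
  have h3 : ∀ a, ψ.hom ((q.residueFieldMap t).hom a) = a := fun a => by
    have := congrArg (fun φ => φ.hom a) h2
    simpa using this
  have hψinj : Function.Injective ψ.hom := ψ.hom.injective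
  refine ⟨(q.residueFieldMap t).hom.injective, fun b => ⟨ψ.hom b, ?_⟩⟩
  apply hψinj
  rw [h3]

/-- Flexible form of `bijective_residueFieldMap_of_lift`. -/
lemma bijective_residueFieldMap_of_lift' {P Y : Scheme.{u}} (q : P ⟶ Y) (t : P) (y : Y)
    (hy : q t = y)
    (h : Spec (Y.residueField y) ⟶ P) (hq : h ≫ q = Y.fromSpecResidueField y)
    (ht : h (IsLocalRing.closedPoint (Y.residueField y)) = t) :
    Function.Bijective (q.residueFieldMap t).hom := by
  subst hy
  exact bijective_residueFieldMap_of_lift q t h hq ht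

end Groth.Agent.Lib.Seat68.Birat
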