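import Mathlib
import Groth.Agent.Lib.Seat68BiratB

/-!
# Seat68: base change of a birational (point form) morphism along a flat morphism
-/

set_option autoImplicit false
universe u

namespace Groth.Agent.Lib.Seat68.Birat

open AlgebraicGeometry CategoryTheory Limits Topology Scheme.Pullback

variable {X Y S : Scheme.{u}} {f : X ⟶ S} {g : Y ⟶ S}

set_option backward.isDefEq.respectTransparency false in
/-- Residue field of a point of the fibre product lying over a point `x` with `κ(f x) = κ(x)`. -/
lemma bijective_residueFieldMap_snd (t : ↑(pullback f g))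
    (hb : Function.Bijective (f.residueFieldMap (pullback.fst f g t)).hom) :
    Function.Bijective ((pullback.snd f g).residueFieldMap t).hom := by
  have hiso : IsIso (Triplet.ofPoint t).tensorInr := isIso_tensorInr (Triplet.ofPoint t) hb
  let h1 := Spec.map (inv (Triplet.ofPoint t).tensorInr)
  let h : Spec (Y.residueField (Triplet.ofPoint t).y) ⟶ pullback f g :=
    h1 ≫ (Triplet.ofPoint t).SpecTensorTo
  have hcomp : ∀ c, h c = (Triplet.ofPoint t).SpecTensorTo (h1 c) := fun c => rfl
  refine bijective_residueFieldMap_of_lift' (pullback.snd f g) t (Triplet.ofPoint t).y rfl h ?_ ?_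
  · simp only [h, h1, Category.assoc, Triplet.specTensorTo_snd]
    rw [← Category.assoc, ← Spec.map_comp, IsIso.hom_inv_id, Spec.map_id, Category.id_comp]
  · apply eq_of_fst_eq_of_snd_eq
    · rw [hcomp, Triplet.fst_SpecTensorTo_apply]; rfl
    · rw [hcomp, Triplet.snd_SpecTensorTo_apply]; rfl
    · rw [hcomp, Triplet.fst_SpecTensorTo_apply]
      exact hb

set_option backward.isDefEq.respectTransparency false in
/-- Generalizations lift along `pullback.snd f g` inside the fibre over a point `s` of the base, at a point
`t` which is alone in its fibre. -/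
lemma exists_specializes_of_snd (s : S) (t : ↑(pullback f g)) (hs : g (pullback.snd f g t) = s)
    (hu : ∀ t₂ : ↑(pullback f g), pullback.snd f g t₂ = pullback.snd f g t → t₂ = t)
    (z : Y) (hz : z ⤳ pullback.snd f g t) (hzs : g z = s) :
    ∃ w : ↑(pullback f g), w ⤳ t ∧ pullback.snd f g w = z := by
  let ι := S.fromSpecResidueField s
  let p : pullback f ι ⟶ Spec (S.residueField s) := pullback.snd f ι
  let q : pullback g ι ⟶ Spec (S.residueField s) := pullback.snd g ι
  let a : pullback f ι ⟶ X := pullback.fst f ι
  let b : pullback g ι ⟶ Y := pullback.fst g ι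
  let v : pullback p q ⟶ pullback g ι := pullback.snd p q
  let u : pullback p q ⟶ pullback f ι := pullback.fst p q
  have hcond : (u ≫ a) ≫ f = (v ≫ b) ≫ g := by
    simp only [u, a, v, b, Category.assoc]
    rw [pullback.condition, pullback.condition_assoc, pullback.condition (f := g)]
  let m : pullback p q ⟶ pullback f g := pullback.lift (u ≫ a) (v ≫ b) hcond
  have hm : m ≫ pullback.snd f g = v ≫ b := pullback.lift_snd _ _ _
  have hsub : Subsingleton (Spec (S.residueField s)) :=
    show Subsingleton (PrimeSpectrum (S.residueField s)) from inferInstance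
  have hcp : ι (IsLocalRing.closedPoint (S.residueField s)) = s :=
    Scheme.fromSpecResidueField_apply _ _
  -- `p` is surjective
  have hft : f (pullback.fst f g t) = s := by
    rw [← hs, ← Scheme.Hom.comp_apply, ← Scheme.Hom.comp_apply, pullback.condition]
  have hpsurj : Surjective p := by
    obtain ⟨x₀, -, -⟩ := Scheme.Pullback.exists_preimage_pullback (f := f) (g := ι)
      (pullback.fst f g t) (IsLocalRing.closedPoint (S.residueField s)) (by rw [hft, hcp])
    exact ⟨fun c => ⟨x₀, Subsingleton.elim _ _⟩⟩
  have hvflat : Flat v := inferInstance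
  have hvsurj : Surjective v := inferInstance
  -- lift the two points to the fibre of `g`
  obtain ⟨z₀, hz₀, -⟩ := Scheme.Pullback.exists_preimage_pullback (f := g) (g := ι)
    z (IsLocalRing.closedPoint (S.residueField s)) (by rw [hzs, hcp])
  obtain ⟨y₀, hy₀, -⟩ := Scheme.Pullback.exists_preimage_pullback (f := g) (g := ι)
    (pullback.snd f g t) (IsLocalRing.closedPoint (S.residueField s)) (by rw [hs, hcp])
  have hspec : z₀ ⤳ y₀ := by
    have hb : Topology.IsEmbedding b := b.isEmbedding
    rw [← hb.isInducing.specializes_iff]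
    change (pullback.fst g ι) z₀ ⤳ (pullback.fst g ι) y₀
    rw [hz₀, hy₀]
    exact hz
  obtain ⟨x₀, hx₀⟩ := hvsurj.surj y₀
  obtain ⟨w₀, hw₀, hvw₀⟩ := (Flat.generalizingMap v) (hx₀ ▸ hspec)
  have hmx : m x₀ = t := by
    apply hu
    rw [← Scheme.Hom.comp_apply, hm, Scheme.Hom.comp_apply, hx₀]
    exact hy₀
  refine ⟨m w₀, ?_, ?_⟩
  · rw [← hmx]
    exact hw₀.map m.continuous
  · rw [← Scheme.Hom.comp_apply, hm, Scheme.Hom.comp_apply, hvw₀]
    exact hz₀

end Groth.Agent.Lib.Seat68.Birat
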