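import Mathlib
import Groth.Agent.Lib.Seat68BiratC

/-!
# Seat68: base change of a birational (point form) morphism along a flat morphism — main theorem
-/

set_option autoImplicit false
universe u

namespace Groth.Agent.Lib.Seat68.Birat

open AlgebraicGeometry CategoryTheory Limits Topology Scheme.Pullback

variable {X Y S : Scheme.{u}}

theorem isBirational_snd (f : X ⟶ S) (g : Y ⟶ S) [Flat g] (hf : RadPt.IsBirational f) :
    RadPt.IsBirational (pullback.snd f g) := by
  obtain ⟨⟨hmaps, hinj, hsurj⟩, hfib⟩ := hf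
  have hcond : ∀ t : ↑(pullback f g), f (pullback.fst f g t) = g (pullback.snd f g t) := fun t => by
    rw [← Scheme.Hom.comp_apply, ← Scheme.Hom.comp_apply, pullback.condition]
  have hgen_g : ∀ y ∈ genericPoints Y, g y ∈ genericPoints S :=
    fun y hy => (Flat.generalizingMap g).mem_genericPoints hy
  have hgen_fst : ∀ t ∈ genericPoints ↑(pullback f g), pullback.fst f g t ∈ genericPoints X :=
    fun t ht => (Flat.generalizingMap (pullback.fst f g)).mem_genericPoints ht
  have hgS : ∀ t ∈ genericPoints ↑(pullback f g), g (pullback.snd f g t) ∈ genericPoints S := by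
    intro t ht
    rw [← hcond]
    exact hmaps (hgen_fst t ht)
  have key1 : ∀ t : ↑(pullback f g), g (pullback.snd f g t) ∈ genericPoints S →
      Function.Bijective (f.residueFieldMap (pullback.fst f g t)).hom :=
    fun t ht => (hfib _ ht).2 _ (hcond t)
  have key2 : ∀ t t₂ : ↑(pullback f g), g (pullback.snd f g t) ∈ genericPoints S →
      pullback.snd f g t₂ = pullback.snd f g t → t₂ = t := by
    intro t t₂ ht h2
    have hf2 : f (pullback.fst f g t₂) = g (pullback.snd f g t) := by rw [hcond, h2]
    have h1 : pullback.fst f g t₂ = pullback.fst f g t := (hfib _ ht).1 _ _ hf2 (hcond t)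
    exact (eq_of_fst_eq_of_snd_eq t t₂ h1.symm h2.symm (key1 t ht)).symm
  refine ⟨⟨?_, ?_, ?_⟩, ?_⟩
  · intro t ht
    have hgy := hgS t ht
    rw [mem_genericPoints_iff]
    intro z hz
    have hgz : g z = g (pullback.snd f g t) :=
      (mem_genericPoints_iff _).mp hgy _ (hz.map g.continuous)
    obtain ⟨w, hw, hwz⟩ := exists_specializes_of_snd (g (pullback.snd f g t)) t rfl
      (fun t₂ h => key2 t t₂ hgy h) z hz hgz
    have := (mem_genericPoints_iff _).mp ht w hw
    rw [← hwz, this]
  · intro t₁ h1 t₂ h2 h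
    exact key2 t₂ t₁ (hgS t₂ h2) h
  · intro y hy
    have hgy := hgen_g y hy
    obtain ⟨x, hx, hxy⟩ := hsurj hgy
    obtain ⟨t, ht1, ht2⟩ := Scheme.Pullback.exists_preimage_pullback (f := f) (g := g) x y hxy
    refine ⟨t, ?_, ht2⟩
    rw [mem_genericPoints_iff]
    intro w hw
    have hw2 : pullback.snd f g w ⤳ pullback.snd f g t := hw.map (pullback.snd f g).continuous
    rw [ht2] at hw2
    have hw3 := (mem_genericPoints_iff _).mp hy _ hw2
    exact key2 t w (by rw [ht2]; exact hgy) (by rw [hw3, ht2])
  · intro y hy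
    have hgy := hgen_g y hy
    refine ⟨fun t₁ t₂ h1 h2 => key2 t₂ t₁ (by rw [h2]; exact hgy) (by rw [h1, h2]), ?_⟩
    intro t ht
    exact bijective_residueFieldMap_snd t (key1 t (by rw [ht]; exact hgy))

/-- The point form of birationality is invariant under precomposition with an isomorphism. -/
lemma isBirational_iso_comp {P' P : Scheme.{u}} (e : P' ⟶ P) [IsIso e] (q : P ⟶ Y)
    (hq : RadPt.IsBirational q) : RadPt.IsBirational (e ≫ q) := by
  obtain ⟨⟨hmaps, hinj, hsurj⟩, hfib⟩ := hq
  have hinjE : Function.Injective e := e.homeomorph.injective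
  have hsurjE : Function.Surjective e := e.homeomorph.surjective
  have hspec : ∀ a b : P', e a ⤳ e b ↔ a ⤳ b :=
    fun a b => e.homeomorph.isInducing.specializes_iff
  have hE : ∀ x : P', e x ∈ genericPoints P ↔ x ∈ genericPoints P' := by
    intro x
    rw [mem_genericPoints_iff, mem_genericPoints_iff]
    constructor
    · intro h z hz
      exact hinjE (h _ ((hspec z x).mpr hz))
    · intro h w hw
      obtain ⟨z, rfl⟩ := hsurjE w
      rw [h z ((hspec z x).mp hw)]
  refine ⟨⟨?_, ?_, ?_⟩, ?_⟩
  · intro x hx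
    rw [Scheme.Hom.comp_apply]
    exact hmaps ((hE x).mpr hx)
  · intro x₁ h1 x₂ h2 h
    rw [Scheme.Hom.comp_apply, Scheme.Hom.comp_apply] at h
    exact hinjE (hinj ((hE x₁).mpr h1) ((hE x₂).mpr h2) h)
  · intro y hy
    obtain ⟨t, ht, hty⟩ := hsurj hy
    obtain ⟨x, rfl⟩ := hsurjE t
    exact ⟨x, (hE x).mp ht, by rw [Scheme.Hom.comp_apply]; exact hty⟩
  · intro y hy
    refine ⟨fun x₁ x₂ h1 h2 => ?_, fun x hx => ?_⟩
    · rw [Scheme.Hom.comp_apply] at h1 h2
      exact hinjE ((hfib y hy).1 _ _ h1 h2)
    · rw [Scheme.Hom.comp_apply] at hx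
      rw [Scheme.residueFieldMap_comp]
      have h1 := (hfib y hy).2 (e x) hx
      have h2 : Function.Bijective (e.residueFieldMap x).hom := by
        rw [← ConcreteCategory.isIso_iff_bijective]
        infer_instance
      exact h2.comp h1

/-- **Flat base change of birational morphisms** (point form). -/
theorem isBirational_of_isPullback {X Y X' Y' : Scheme.{u}} {f : X ⟶ Y} {g : Y' ⟶ Y} [Flat g]
    {f' : X' ⟶ Y'} {g' : X' ⟶ X} (sq : IsPullback g' f' f g) (hf : RadPt.IsBirational f) :
    RadPt.IsBirational f' := by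
  have h := isBirational_iso_comp sq.isoPullback.hom (pullback.snd f g) (isBirational_snd f g hf)
  rwa [IsPullback.isoPullback_hom_snd] at h

end Groth.Agent.Lib.Seat68.Birat
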