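import Mathlib
import Groth.Agent.Lib.Helper3ShN
import Groth.Agent.Lib.Helper3HzN
import Groth.Agent.Lib.Helper3Branch

/-!
# Minimal primes of a filtered colimit with flat structure maps (seat 68)

`(minimalPrimes S).encard = ⨆ i, (minimalPrimes (L i)).encard` for the (strict) henselization
written as the colimit of its essentially étale stages.
-/

set_option autoImplicit false
set_option linter.style.haveILetI false
universe u

namespace Groth.Agent.Lib.Seat68.BrEtA

open Groth.Agent.Lib.Helper3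

theorem encard_minimalPrimes_le_iSup {ι : Type*} [Preorder ι] [IsDirectedOrder ι] [Nonempty ι]
    (L : ι → Type*) [∀ i, CommRing (L i)] (f : ∀ i j, i ≤ j → L i →+* L j)
    {S : Type*} [CommRing S] (of : ∀ i, L i →+* S)
    (hof : ∀ i j (h : i ≤ j) (x : L i), of j (f i j h x) = of i x)
    (hex : ∀ z : S, ∃ i x, of i x = z)
    (hflat : ∀ i, (of i).Flat) :
    (minimalPrimes S).encard ≤ ⨆ i, (minimalPrimes (L i)).encard := by
  classical
  refine ENat.forall_natCast_le_iff_le.mp fun n hn => ?_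
  obtain ⟨F, hFsub, hFcard⟩ := Set.exists_subset_encard_eq hn
  have hFfin : F.Finite := Set.finite_of_encard_eq_coe hFcard
  let Sep : Ideal S → Ideal S → ι → Prop := fun q q' i => ∃ x : L i, of i x ∈ q ∧ of i x ∉ q'
  have hSepmono : ∀ q q' i j, i ≤ j → Sep q q' i → Sep q q' j := by
    rintro q q' i j hij ⟨x, hx1, hx2⟩
    exact ⟨f i j hij x, by rw [hof]; exact hx1, by rw [hof]; exact hx2⟩
  have hsep : ∀ q ∈ F, ∀ q' ∈ F, q ≠ q' → ∃ i, Sep q q' i := by
    intro q hq q' hq' hne
    have hqm := hFsub hq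
    have hq'm := hFsub hq'
    have hnle : ¬ q ≤ q' := by
      intro hle
      exact hne (le_antisymm hle (hq'm.2 ⟨hqm.1.1, bot_le⟩ hle))
    obtain ⟨s, hsq, hsq'⟩ := Set.not_subset.mp hnle
    obtain ⟨i, x, rfl⟩ := hex s
    exact ⟨i, x, hsq, hsq'⟩
  let idx : Ideal S → Ideal S → ι := fun q q' =>
    if h : ∃ i, Sep q q' i then h.choose else Classical.arbitrary ι
  have hidx : ∀ q q', (∃ i, Sep q q' i) → Sep q q' (idx q q') := by
    intro q q' h
    have : idx q q' = h.choose := dif_pos h
    rw [this]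
    exact h.choose_spec
  obtain ⟨j, hj⟩ := Finset.exists_le
    ((hFfin.toFinset ×ˢ hFfin.toFinset).image (fun pq => idx pq.1 pq.2))
  have hinj : Set.InjOn (Ideal.comap (of j)) F := by
    intro q hq q' hq' heq
    by_contra hne
    have hi : idx q q' ≤ j := by
      apply hj
      rw [Finset.mem_image]
      exact ⟨(q, q'), by simp [hq, hq'], rfl⟩
    obtain ⟨x, hx1, hx2⟩ := hSepmono q q' _ j hi (hidx q q' (hsep q hq q' hq' hne))
    have h1 : x ∈ Ideal.comap (of j) q := hx1
    rw [heq] at h1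
    exact hx2 h1
  have hmaps : Set.MapsTo (Ideal.comap (of j)) F (minimalPrimes (L j)) := by
    intro q hq
    letI := (of j).toAlgebra
    haveI : Module.Flat (L j) S := hflat j
    exact Branch.mapsTo_comap_minimalPrimes_of_flat (L j) S (hFsub hq)
  calc (n : ℕ∞) = F.encard := hFcard.symm
    _ = (Ideal.comap (of j) '' F).encard := (hinj.encard_image).symm
    _ ≤ (minimalPrimes (L j)).encard := Set.encard_le_encard hmaps.image_subset
    _ ≤ ⨆ i, (minimalPrimes (L i)).encard := le_iSup (fun i => (minimalPrimes (L i)).encard) j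

section Sh

open IsLocalRing

variable (R : Type u) [CommRing R] [IsLocalRing R] (Ω : Type u) [Field Ω] [Algebra R Ω]
  [Algebra (ResidueField R) Ω] [IsScalarTower R (ResidueField R) Ω]
  [IsSepClosure (ResidueField R) Ω]

theorem sh_encard_minimalPrimes :
    (minimalPrimes (Sh.Rsh R Ω)).encard = ⨆ i : Sh.Idx R Ω, (minimalPrimes i.L).encard := by
  apply le_antisymm
  · exact encard_minimalPrimes_le_iSup (fun i : Sh.Idx R Ω => i.L) (fun i j h => Sh.fmap' i j h)
      (fun i => Sh.ofL i) (fun i j h x => Sh.ofL_fmap h x) (fun z => Sh.exists_ofL z)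
      (fun i => Sh.flat_over_L i)
  · refine iSup_le fun i => ?_
    letI := (Sh.ofL i).toAlgebra
    haveI : Module.Flat i.L (Sh.Rsh R Ω) := Sh.flat_over_L i
    haveI : IsLocalHom (algebraMap i.L (Sh.Rsh R Ω)) := inferInstanceAs (IsLocalHom (Sh.ofL i))
    haveI : Module.FaithfullyFlat i.L (Sh.Rsh R Ω) := Module.FaithfullyFlat.of_flat_of_isLocalHom
    exact Branch.card_minimalPrimes_le_of_faithfullyFlat i.L (Sh.Rsh R Ω)

end Sh

section Hz

variable (R : Type u) [CommRing R] [IsLocalRing R]

theorem hz_encard_minimalPrimes :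
    (minimalPrimes (Hz.Rh R)).encard = ⨆ i : Hz.Idx R, (minimalPrimes i.L).encard := by
  apply le_antisymm
  · exact encard_minimalPrimes_le_iSup (fun i : Hz.Idx R => i.L) (fun i j h => Hz.fmap' i j h)
      (fun i => Hz.ofL i) (fun i j h x => Hz.ofL_fmap h x) (fun z => Hz.exists_ofL z)
      (fun i => Hz.flat_over_L i)
  · refine iSup_le fun i => ?_
    letI := (Hz.ofL i).toAlgebra
    haveI : Module.Flat i.L (Hz.Rh R) := Hz.flat_over_L i
    haveI : IsLocalHom (algebraMap i.L (Hz.Rh R)) := inferInstanceAs (IsLocalHom (Hz.ofL i))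
    haveI : Module.FaithfullyFlat i.L (Hz.Rh R) := Module.FaithfullyFlat.of_flat_of_isLocalHom
    exact Branch.card_minimalPrimes_le_of_faithfullyFlat i.L (Hz.Rh R)

end Hz

end Groth.Agent.Lib.Seat68.BrEtA
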