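import Mathlib
import Groth.Agent.Lib.Helper14IrrComp

/-!
# Irreducible components through a point and minimal primes of the local ring (seat 68)
-/

set_option autoImplicit false
set_option linter.style.haveILetI false
universe u

namespace Groth.Agent.Lib.Seat68.BrEtB

open AlgebraicGeometry CategoryTheory

theorem encard_closure_mem_irreducibleComponents (A : Type*) [CommRing A] :
    {z : PrimeSpectrum A | closure ({z} : Set (PrimeSpectrum A)) ∈
      irreducibleComponents (PrimeSpectrum A)}.encard = (minimalPrimes A).encard := by
  have himg : PrimeSpectrum.asIdeal '' {z : PrimeSpectrum A | closure ({z} : Set (PrimeSpectrum A)) ∈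
      irreducibleComponents (PrimeSpectrum A)} = minimalPrimes A := by
    ext p
    constructor
    · rintro ⟨z, hz, rfl⟩
      have := (PrimeSpectrum.vanishingIdeal_mem_minimalPrimes (s := {z})).mpr hz
      rwa [PrimeSpectrum.vanishingIdeal_singleton] at this
    · intro hp
      haveI : p.IsPrime := hp.1.1
      refine ⟨⟨p, inferInstance⟩, ?_, rfl⟩
      have h1 := (PrimeSpectrum.vanishingIdeal_mem_minimalPrimes
        (s := {(⟨p, inferInstance⟩ : PrimeSpectrum A)})).mp
        (by rw [PrimeSpectrum.vanishingIdeal_singleton]; exact hp)
      exact h1
  rw [← himg]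
  refine (Set.InjOn.encard_image ?_).symm
  intro z _ z' _ h
  exact PrimeSpectrum.ext h

/-- The number of irreducible components of a scheme through a point is the number of minimal
primes of the local ring. -/
theorem encard_irreducibleComponents_mem (X : Scheme.{u}) (x : X) :
    {Z : Set ↑X | Z ∈ irreducibleComponents ↑X ∧ x ∈ Z}.encard =
      (minimalPrimes (X.presheaf.stalk x)).encard := by
  have hbij := Groth.Agent.Lib.Helper14.bijOn_irreducibleComponents_specStalk X x
  rw [← hbij.image_eq, hbij.injOn.encard_image]
  exact encard_closure_mem_irreducibleComponents (X.presheaf.stalk x)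

theorem encard_minimalPrimes_of_ringEquiv {A B : Type*} [CommRing A] [CommRing B] (e : A ≃+* B) :
    (minimalPrimes A).encard = (minimalPrimes B).encard := by
  have hbot : (⊥ : Ideal B).comap (e : A →+* B) = ⊥ := by
    ext a
    simp
  have himg : Ideal.comap (e : A →+* B) '' minimalPrimes B = minimalPrimes A := by
    have := Ideal.comap_minimalPrimes_eq_of_surjective (f := (e : A →+* B)) e.surjective ⊥
    rw [hbot] at this
    exact this.symm
  rw [← himg]
  refine Set.InjOn.encard_image ?_
  intro q _ q' _ h
  exact Ideal.comap_injective_of_surjective (e : A →+* B) e.surjective h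

end Groth.Agent.Lib.Seat68.BrEtB
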