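import Mathlib
import Groth.Prelude.Def_EssEt

/-!
# The local ring of an étale algebra over a localization is essentially étale (seat 68)
-/

set_option autoImplicit false
set_option linter.style.haveILetI false
universe u

namespace Groth.Agent.Lib.Seat68.BrEtC

open TensorProduct IsLocalRing

attribute [local instance] Algebra.TensorProduct.rightAlgebra in
/-- `R → B` étale, `q ⊂ B` prime over `p ⊂ R`, `A = R_p`, `A' = B_q`: then `A'` is an essentially
étale local `A`-algebra. -/
theorem isEssentiallyEtale_of_etale
    (R B A A' : Type u) [CommRing R] [CommRing B] [CommRing A] [CommRing A'] [IsLocalRing A]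
    [Algebra R B] [Algebra R A] [Algebra B A'] [Algebra A A'] [Algebra R A']
    [IsScalarTower R A A'] [IsScalarTower R B A'] [Algebra.Etale R B]
    (q : Ideal B) [q.IsPrime] (p : Ideal R) [p.IsPrime] (hqp : q.comap (algebraMap R B) = p)
    [IsLocalization.AtPrime A p] [IsLocalization.AtPrime A' q] :
    EGA4loc.IsEssentiallyEtale A A' := by
  let C := A ⊗[R] B
  let M : Submonoid B := Algebra.algebraMapSubmonoid B p.primeCompl
  haveI hloc : IsLocalization M C := IsLocalization.tensorRight (S := B) A p.primeCompl
  have hdisj : Disjoint (M : Set B) (q : Set B) := by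
    rw [Set.disjoint_left]
    rintro _ ⟨s, hs, rfl⟩ hq
    have : s ∈ q.comap (algebraMap R B) := hq
    rw [hqp] at this
    exact hs this
  let Q : Ideal C := q.map (algebraMap B C)
  haveI hQ : Q.IsPrime := IsLocalization.isPrime_of_isPrime_disjoint M C q inferInstance hdisj
  have hQq : Q.comap (algebraMap B C) = q :=
    IsLocalization.under_map_of_isPrime_disjoint M C inferInstance hdisj
  haveI hat : IsLocalization.AtPrime (Localization.AtPrime Q) q := by
    have := IsLocalization.isLocalization_isLocalization_atPrime_isLocalization M
      (Localization.AtPrime Q) Q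
    convert this
    exact hQq.symm
  let e₀ : A' ≃ₐ[B] Localization.AtPrime Q :=
    IsLocalization.algEquiv q.primeCompl A' (Localization.AtPrime Q)
  -- the two maps `A → C_Q` agree
  have hcomm : ∀ a : A, e₀ (algebraMap A A' a) = algebraMap A (Localization.AtPrime Q) a := by
    have : (e₀ : A' →+* Localization.AtPrime Q).comp (algebraMap A A') =
        algebraMap A (Localization.AtPrime Q) := by
      apply IsLocalization.ringHom_ext p.primeCompl
      ext r
      simp only [RingHom.comp_apply]
      rw [← IsScalarTower.algebraMap_apply R A A', IsScalarTower.algebraMap_apply R B A']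
      have h1 : (e₀ : A' →+* Localization.AtPrime Q) (algebraMap B A' (algebraMap R B r)) =
          algebraMap B (Localization.AtPrime Q) (algebraMap R B r) := e₀.commutes _
      rw [h1]
      rw [IsScalarTower.algebraMap_apply B C (Localization.AtPrime Q),
        IsScalarTower.algebraMap_apply A C (Localization.AtPrime Q)]
      congr 1
      rw [← IsScalarTower.algebraMap_apply R B C, ← IsScalarTower.algebraMap_apply R A C]
    intro a
    exact congrArg (fun φ => φ a) this
  have hcomap : Q.comap (algebraMap A C) = maximalIdeal A := by
    have h1 : (Q.comap (algebraMap A C)).comap (algebraMap R A) = p := by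
      rw [Ideal.comap_comap, ← IsScalarTower.algebraMap_eq R A C,
        IsScalarTower.algebraMap_eq R B C, ← Ideal.comap_comap, hQq, hqp]
    have h2 : (maximalIdeal A).comap (algebraMap R A) = p :=
      IsLocalization.AtPrime.under_maximalIdeal A p
    have h3 := IsLocalization.map_under p.primeCompl A (Q.comap (algebraMap A C))
    have h4 := IsLocalization.map_under p.primeCompl A (maximalIdeal A)
    rw [Ideal.under_def] at h3 h4
    rw [← h3, h1, ← h2, h4]
  refine ⟨C, inferInstance, inferInstance, Q, hQ, inferInstance, hcomap, ⟨?_⟩⟩
  exact AlgEquiv.ofRingEquiv (f := e₀.toRingEquiv) hcomm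

end Groth.Agent.Lib.Seat68.BrEtC
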