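import Mathlib
import Groth.Agent.Lib.Helper18EssEtale

/-!
# Spreading out an étale algebra over a localization (seat 68)
-/

set_option autoImplicit false
set_option linter.style.haveILetI false
universe u

namespace Groth.Agent.Lib.Seat68.BrEtD

open IsLocalRing Groth.Agent.Lib

set_option maxHeartbeats 1000000 in
/-- `A = R_p`, `C` étale over `A`, `Q ⊂ C` prime over the maximal ideal: there are an étale
`R`-algebra `D` and a prime `t` of `D` over `p` with `D_t ≅ C_Q` compatibly with `R`. -/
theorem exists_etale_model
    (R A C : Type u) [CommRing R] [CommRing A] [CommRing C] [IsLocalRing A]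
    [Algebra R A] (p : Ideal R) [p.IsPrime] [IsLocalization.AtPrime A p]
    [Algebra A C] [Algebra.Etale A C] (Q : Ideal C) [Q.IsPrime]
    (hQ : Q.comap (algebraMap A C) = maximalIdeal A) :
    ∃ (D : Type u) (_ : CommRing D) (_ : Algebra R D) (t : Ideal D) (_ : t.IsPrime),
      Algebra.Etale R D ∧ t.comap (algebraMap R D) = p ∧
      ∃ e : Localization.AtPrime t ≃+* Localization.AtPrime Q,
        ∀ r : R, e (algebraMap R _ r) =
          algebraMap A (Localization.AtPrime Q) (algebraMap R A r) := by
  letI algRC : Algebra R C := ((algebraMap A C).comp (algebraMap R A)).toAlgebra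
  haveI : IsScalarTower R A C := IsScalarTower.of_algebraMap_eq' rfl
  haveI : Algebra.FinitePresentation A C := Algebra.Etale.finitePresentation
  obtain ⟨C₁, _, _, _, htw, hfp, hloc⟩ := Helper18EssEtale.spread R p A C
  let t₁ : Ideal C₁ := Q.comap (algebraMap C₁ C)
  haveI ht₁ : t₁.IsPrime := Ideal.comap_isPrime _ _
  haveI hat : IsLocalization.AtPrime (Localization.AtPrime Q) t₁ :=
    IsLocalization.isLocalization_isLocalization_atPrime_isLocalization
      (Algebra.algebraMapSubmonoid C₁ p.primeCompl) (Localization.AtPrime Q) Q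
  -- formally étale over `R`
  haveI : Algebra.FormallyEtale R A := Algebra.FormallyEtale.of_isLocalization p.primeCompl
  haveI : Algebra.FormallyEtale R C := Algebra.FormallyEtale.comp R A C
  haveI : Algebra.FormallyEtale C (Localization.AtPrime Q) :=
    Algebra.FormallyEtale.of_isLocalization Q.primeCompl
  haveI : Algebra.FormallyEtale R (Localization.AtPrime Q) :=
    Algebra.FormallyEtale.comp R C (Localization.AtPrime Q)
  haveI : IsScalarTower R C₁ (Localization.AtPrime Q) := by
    refine IsScalarTower.of_algebraMap_eq (fun r => ?_)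
    rw [IsScalarTower.algebraMap_apply R C (Localization.AtPrime Q),
      IsScalarTower.algebraMap_apply C₁ C (Localization.AtPrime Q),
      ← IsScalarTower.algebraMap_apply R C₁ C]
  let e₁ : Localization.AtPrime t₁ ≃ₐ[C₁] Localization.AtPrime Q :=
    IsLocalization.algEquiv t₁.primeCompl _ _
  haveI : Algebra.IsEtaleAt R t₁ := Algebra.FormallyEtale.of_equiv (e₁.symm.restrictScalars R)
  obtain ⟨f, hf, hfet⟩ := Algebra.exists_etale_of_isEtaleAt (R := R) t₁
  have hdisj : Disjoint (Submonoid.powers f : Set C₁) t₁ := by
    rw [Set.disjoint_left]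
    rintro x ⟨n, rfl⟩ hx
    exact hf (Ideal.IsPrime.mem_of_pow_mem ‹_› n hx)
  let t : Ideal (Localization.Away f) := t₁.map (algebraMap C₁ (Localization.Away f))
  have hp' : t.IsPrime :=
    IsLocalization.isPrime_of_isPrime_disjoint (Submonoid.powers f) _ t₁ ‹_› hdisj
  have hcomap : t.comap (algebraMap C₁ (Localization.Away f)) = t₁ :=
    IsLocalization.under_map_of_isPrime_disjoint (Submonoid.powers f) _ ‹_› hdisj
  haveI : IsLocalization.AtPrime (Localization.AtPrime t) t₁ := by
    have := IsLocalization.isLocalization_isLocalization_atPrime_isLocalization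
      (Submonoid.powers f) (Localization.AtPrime t) t
    convert this
    exact hcomap.symm
  let e : Localization.AtPrime t ≃ₐ[C₁] Localization.AtPrime Q :=
    IsLocalization.algEquiv t₁.primeCompl _ _
  refine ⟨Localization.Away f, inferInstance, inferInstance, t, hp', hfet, ?_, e.toRingEquiv, ?_⟩
  · rw [IsScalarTower.algebraMap_eq R C₁ (Localization.Away f), ← Ideal.comap_comap, hcomap]
    show (Q.comap (algebraMap C₁ C)).comap (algebraMap R C₁) = p
    rw [Ideal.comap_comap, ← IsScalarTower.algebraMap_eq R C₁ C,
      IsScalarTower.algebraMap_eq R A C, ← Ideal.comap_comap, hQ]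
    exact IsLocalization.AtPrime.under_maximalIdeal A p
  · intro r
    rw [IsScalarTower.algebraMap_apply R C₁ (Localization.AtPrime t)]
    have h1 : e.toRingEquiv (algebraMap C₁ (Localization.AtPrime t) (algebraMap R C₁ r)) =
        algebraMap C₁ (Localization.AtPrime Q) (algebraMap R C₁ r) := e.commutes _
    rw [h1, ← IsScalarTower.algebraMap_apply R C₁ (Localization.AtPrime Q),
      IsScalarTower.algebraMap_apply R C (Localization.AtPrime Q),
      IsScalarTower.algebraMap_apply A C (Localization.AtPrime Q),
      ← IsScalarTower.algebraMap_apply R A C]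

end Groth.Agent.Lib.Seat68.BrEtD
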