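import Mathlib
import Groth.Agent.Lib.Helper3EtGUSchB
import Groth.Agent.Lib.Seat68BrEtC

/-!
# Étale neighbourhoods and essentially étale local algebras (seat 68)
-/

set_option autoImplicit false
set_option linter.style.haveILetI false
universe u

namespace Groth.Agent.Lib.Seat68.BrEtE

open AlgebraicGeometry CategoryTheory IsLocalRing Groth.Agent.Lib.Helper3

/-- The local ring of an étale `Y`-scheme at `u` is an essentially étale local algebra over the
local ring of `Y` at the image point. -/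
theorem isEssentiallyEtale_stalkMap {U Y : Scheme.{u}} (g : U ⟶ Y) [Etale g] (u : U) :
    letI := (g.stalkMap u).hom.toAlgebra
    EGA4loc.IsEssentiallyEtale (Y.presheaf.stalk (g u)) (U.presheaf.stalk u) := by
  obtain ⟨V, hV, W, hW, e, huW, -⟩ := EtGUSch.exists_affine_nhds g u ⊤ trivial
  letI algRB : Algebra Γ(Y, V) Γ(U, W) := (g.appLE V W e).hom.toAlgebra
  haveI : Algebra.Etale Γ(Y, V) Γ(U, W) :=
    HasRingHomProperty.appLE (P := @Etale) g inferInstance ⟨V, hV⟩ ⟨W, hW⟩ e
  letI algRA : Algebra Γ(Y, V) (Y.presheaf.stalk (g u)) :=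
    TopCat.Presheaf.algebra_section_stalk Y.presheaf ⟨g u, e huW⟩
  letI algBA' : Algebra Γ(U, W) (U.presheaf.stalk u) :=
    TopCat.Presheaf.algebra_section_stalk U.presheaf ⟨u, huW⟩
  haveI := hV.isLocalization_stalk ⟨g u, e huW⟩
  haveI := hW.isLocalization_stalk ⟨u, huW⟩
  letI algAA' : Algebra (Y.presheaf.stalk (g u)) (U.presheaf.stalk u) :=
    (g.stalkMap u).hom.toAlgebra
  letI algRA' : Algebra Γ(Y, V) (U.presheaf.stalk u) :=
    ((g.stalkMap u).hom.comp (algebraMap Γ(Y, V) (Y.presheaf.stalk (g u)))).toAlgebra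
  haveI : IsScalarTower Γ(Y, V) (Y.presheaf.stalk (g u)) (U.presheaf.stalk u) :=
    IsScalarTower.of_algebraMap_eq' rfl
  haveI : IsScalarTower Γ(Y, V) Γ(U, W) (U.presheaf.stalk u) := by
    refine IsScalarTower.of_algebraMap_eq (fun r => ?_)
    exact (EtGUSch.germ_appLE g e huW r).symm
  exact BrEtC.isEssentiallyEtale_of_etale Γ(Y, V) Γ(U, W) (Y.presheaf.stalk (g u))
    (U.presheaf.stalk u) (hW.primeIdealOf ⟨u, huW⟩).asIdeal
    (hV.primeIdealOf ⟨g u, e huW⟩).asIdeal (EtGUSch.comap_primeIdealOf g hV hW e huW)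

theorem appLE_specMap_fromSpec {Y : Scheme.{u}} {V : Y.Opens} (hV : IsAffineOpen V)
    {D : CommRingCat.{u}} (φ : Γ(Y, V) ⟶ D)
    (e : (⊤ : (Spec D).Opens) ≤ (Spec.map φ ≫ hV.fromSpec) ⁻¹ᵁ V) :
    (Spec.map φ ≫ hV.fromSpec).appLE V ⊤ e = φ ≫ (Scheme.ΓSpecIso D).inv := by
  apply Spec.map_injective
  rw [← cancel_mono hV.fromSpec,
    IsAffineOpen.SpecMap_appLE_fromSpec _ hV (isAffineOpen_top _) e,
    IsAffineOpen.fromSpec_top, Scheme.isoSpec_Spec_inv, Spec.map_comp, Category.assoc]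

theorem primeIdealOf_fromSpec {Y : Scheme.{u}} {V : Y.Opens} (hV : IsAffineOpen V)
    (P : Spec Γ(Y, V)) (h : hV.fromSpec P ∈ V) :
    hV.primeIdealOf ⟨hV.fromSpec P, h⟩ = P := by
  apply hV.fromSpec.isOpenEmbedding.injective
  exact hV.fromSpec_primeIdealOf ⟨hV.fromSpec P, h⟩

/-- An étale algebra over the sections on an affine open, with a prime, gives an étale
neighbourhood with the expected local ring. -/
theorem exists_etale_nbhd {Y : Scheme.{u}} {V : Y.Opens} (hV : IsAffineOpen V)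
    (D : Type u) [CommRing D] [Algebra Γ(Y, V) D] [Algebra.Etale Γ(Y, V) D]
    (t : Ideal D) [t.IsPrime] :
    ∃ (U : Scheme.{u}) (g : U ⟶ Y) (u : U) (hgu : g u ∈ V), Etale g ∧
      (hV.primeIdealOf ⟨g u, hgu⟩).asIdeal = t.comap (algebraMap Γ(Y, V) D) ∧
      ∃ e : U.presheaf.stalk u ≃+* Localization.AtPrime t,
        ∀ r : Γ(Y, V), e ((g.stalkMap u).hom (Y.presheaf.germ V (g u) hgu r)) =
          algebraMap Γ(Y, V) (Localization.AtPrime t) r := by
  let φ : Γ(Y, V) ⟶ CommRingCat.of D := CommRingCat.ofHom (algebraMap Γ(Y, V) D)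
  let g : Spec (CommRingCat.of D) ⟶ Y := Spec.map φ ≫ hV.fromSpec
  let u : Spec (CommRingCat.of D) := ⟨t, inferInstance⟩
  have hrange : ∀ z, g z ∈ V := by
    intro z
    have : g z ∈ Set.range hV.fromSpec := ⟨Spec.map φ z, by simp [g]⟩
    rwa [hV.range_fromSpec] at this
  have hle : (⊤ : (Spec (CommRingCat.of D)).Opens) ≤ g ⁻¹ᵁ V := fun z _ => hrange z
  haveI : Etale (Spec.map φ) := by
    rw [HasRingHomProperty.Spec_iff (P := @Etale)]
    exact RingHom.etale_algebraMap.mpr (inferInstance : Algebra.Etale Γ(Y, V) D)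
  haveI : Etale g := inferInstance
  refine ⟨Spec (CommRingCat.of D), g, u, hrange u, inferInstance, ?_, ?_⟩
  · have h1 : g u = hV.fromSpec (Spec.map φ u) := by simp [g]
    have h2 : hV.primeIdealOf ⟨g u, hrange u⟩ = Spec.map φ u := by
      have := primeIdealOf_fromSpec hV (Spec.map φ u) (h1 ▸ hrange u)
      rw [← this]
      congr 1
    rw [h2]
    rfl
  · refine ⟨(Spec.stalkIso (CommRingCat.of D) u).commRingCatIsoToRingEquiv, fun r => ?_⟩
    have h1 := EtGUSch.germ_appLE g hle (x := u) trivial r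
    rw [← h1, appLE_specMap_fromSpec hV φ hle]
    have h2 := Spec.germ_stalkMapIso_hom (R := CommRingCat.of D) u
    have h3 := congrArg (fun ψ => ψ.hom ((Scheme.ΓSpecIso (CommRingCat.of D)).inv.hom
      (algebraMap Γ(Y, V) D r))) h2
    simp only [CommRingCat.hom_comp, RingHom.comp_apply] at h3
    have h4 : (Scheme.ΓSpecIso (CommRingCat.of D)).hom.hom
        ((Scheme.ΓSpecIso (CommRingCat.of D)).inv.hom (algebraMap Γ(Y, V) D r)) =
        algebraMap Γ(Y, V) D r := by
      rw [← RingHom.comp_apply, ← CommRingCat.hom_comp, Iso.inv_hom_id]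
      rfl
    rw [h4] at h3
    rw [IsScalarTower.algebraMap_apply Γ(Y, V) D (Localization.AtPrime t)]
    exact h3

/-- A criterion, in terms of sections on an affine open of the base, for the residue field
extension at `u` to be trivial. -/
theorem residueFieldMap_bijective_of {U Y : Scheme.{u}} (g : U ⟶ Y) (u : U) {V : Y.Opens}
    (hV : IsAffineOpen V) (hgu : g u ∈ V)
    (H : ∀ z : U.presheaf.stalk u, ∃ r s : Γ(Y, V),
      s ∉ (hV.primeIdealOf ⟨g u, hgu⟩).asIdeal ∧
      (g.stalkMap u).hom (Y.presheaf.germ V (g u) hgu s) * z -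
        (g.stalkMap u).hom (Y.presheaf.germ V (g u) hgu r) ∈
          maximalIdeal (U.presheaf.stalk u)) :
    Function.Bijective (g.residueFieldMap u) := by
  have hinj : Function.Injective (g.residueFieldMap u).hom :=
    (g.residueFieldMap u).hom.injective
  refine ⟨hinj, ?_⟩
  intro ζ
  obtain ⟨z, rfl⟩ := IsLocalRing.residue_surjective (R := U.presheaf.stalk u) ζ
  obtain ⟨r, s, hs, hz⟩ := H z
  letI := TopCat.Presheaf.algebra_section_stalk Y.presheaf ⟨g u, hgu⟩
  haveI := hV.isLocalization_stalk ⟨g u, hgu⟩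
  have hsu : IsUnit (Y.presheaf.germ V (g u) hgu s) :=
    IsLocalization.map_units (M := (hV.primeIdealOf ⟨g u, hgu⟩).asIdeal.primeCompl)
      (Y.presheaf.stalk (g u)) ⟨s, hs⟩
  obtain ⟨w, hw⟩ := hsu
  let a : Y.presheaf.stalk (g u) := Y.presheaf.germ V (g u) hgu r * ↑w⁻¹
  refine ⟨IsLocalRing.residue _ a, ?_⟩
  show IsLocalRing.ResidueField.map (g.stalkMap u).hom (IsLocalRing.residue _ a) =
    IsLocalRing.residue _ z
  rw [IsLocalRing.ResidueField.map_residue]
  have ha : (g.stalkMap u).hom a * (g.stalkMap u).hom (Y.presheaf.germ V (g u) hgu s) =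
      (g.stalkMap u).hom (Y.presheaf.germ V (g u) hgu r) := by
    rw [← map_mul, ← hw]
    congr 1
    simp [a, mul_assoc]
  have hunit : IsUnit ((g.stalkMap u).hom (Y.presheaf.germ V (g u) hgu s)) := by
    rw [← hw]
    exact (Units.isUnit w).map _
  have hmem : (g.stalkMap u).hom (Y.presheaf.germ V (g u) hgu s) * (z - (g.stalkMap u).hom a) ∈
      maximalIdeal (U.presheaf.stalk u) := by
    have : (g.stalkMap u).hom (Y.presheaf.germ V (g u) hgu s) * (z - (g.stalkMap u).hom a) =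
        (g.stalkMap u).hom (Y.presheaf.germ V (g u) hgu s) * z -
        (g.stalkMap u).hom (Y.presheaf.germ V (g u) hgu r) := by
      rw [← ha]; ring
    rw [this]
    exact hz
  have hmem' : z - (g.stalkMap u).hom a ∈ maximalIdeal (U.presheaf.stalk u) :=
    (Ideal.unit_mul_mem_iff_mem _ hunit).mp hmem
  have := (IsLocalRing.residue_eq_zero_iff _).mpr hmem'
  rw [map_sub, sub_eq_zero] at this
  exact this.symm

end Groth.Agent.Lib.Seat68.BrEtE
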