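import Mathlib
import Groth.Prelude.Def_Hens2
import Groth.Agent.Lib.Seat68BrEtA
import Groth.Agent.Lib.Seat68BrEtB
import Groth.Agent.Lib.Seat68BrEtD
import Groth.Agent.Lib.Seat68BrEtE

/-!
# Étale neighbourhoods and the stages of the (strict) henselization (seat 68)
-/

set_option autoImplicit false
set_option linter.style.haveILetI false
universe u

namespace Groth.Agent.Lib.Seat68.BrEtF

open AlgebraicGeometry CategoryTheory IsLocalRing Groth.Agent.Lib.Helper3

section DirA

variable {U Y : Scheme.{u}} (g : U ⟶ Y) [Etale g] (u : U)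

/-- the local ring of an étale neighbourhood is a stage of the strict henselization -/
theorem exists_idx_sh (Ω : Type u) [Field Ω] [Algebra (Y.presheaf.stalk (g u)) Ω]
    [Algebra (ResidueField (Y.presheaf.stalk (g u))) Ω]
    [IsScalarTower (Y.presheaf.stalk (g u)) (ResidueField (Y.presheaf.stalk (g u))) Ω]
    [IsSepClosed Ω] :
    ∃ i : Sh.Idx (Y.presheaf.stalk (g u)) Ω, Nonempty (U.presheaf.stalk u ≃+* i.L) := by
  letI := (g.stalkMap u).hom.toAlgebra
  haveI : IsLocalHom (algebraMap (Y.presheaf.stalk (g u)) (U.presheaf.stalk u)) :=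
    inferInstanceAs (IsLocalHom (g.stalkMap u).hom)
  have hEE := BrEtE.isEssentiallyEtale_stalkMap g u
  haveI := EssEt.essFiniteType_of_isEssentiallyEtale _ _ hEE
  haveI := EssEt.formallyEtale_of_isEssentiallyEtale _ _ hEE
  haveI : Algebra.FormallyUnramified (Y.presheaf.stalk (g u)) (U.presheaf.stalk u) :=
    inferInstance
  haveI : Algebra.IsSeparable (ResidueField (Y.presheaf.stalk (g u)))
      (ResidueField (U.presheaf.stalk u)) := inferInstance
  let β₀ : ResidueField (U.presheaf.stalk u) →ₐ[ResidueField (Y.presheaf.stalk (g u))] Ω :=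
    IsSepClosed.lift
  let β : ResidueField (U.presheaf.stalk u) →ₐ[Y.presheaf.stalk (g u)] Ω :=
    β₀.restrictScalars _
  obtain ⟨C, _, _, q, _, hEt, hq, ⟨e⟩⟩ := hEE
  obtain ⟨i, e', -⟩ := Sh.exists_idx (U.presheaf.stalk u) C q hq e β
  exact ⟨i, ⟨e'.toRingEquiv⟩⟩

/-- the local ring of an elementary étale neighbourhood is a stage of the henselization -/
theorem exists_idx_hz (hres : Function.Bijective (g.residueFieldMap u)) :
    ∃ i : Hz.Idx (Y.presheaf.stalk (g u)), Nonempty (U.presheaf.stalk u ≃+* i.L) := by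
  letI := (g.stalkMap u).hom.toAlgebra
  haveI : IsLocalHom (algebraMap (Y.presheaf.stalk (g u)) (U.presheaf.stalk u)) :=
    inferInstanceAs (IsLocalHom (g.stalkMap u).hom)
  have hEE := BrEtE.isEssentiallyEtale_stalkMap g u
  obtain ⟨i, ⟨e⟩⟩ := Hz.exists_idx (U.presheaf.stalk u) ⟨hEE, hres⟩
  exact ⟨i, ⟨e.toRingEquiv⟩⟩

end DirA

section DirB

theorem mem_maximalIdeal_of_ringEquiv {A B : Type*} [CommRing A] [CommRing B] [IsLocalRing A]
    [IsLocalRing B] (E : A ≃+* B) (a : A) : a ∈ maximalIdeal A ↔ E a ∈ maximalIdeal B := by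
  rw [mem_maximalIdeal, mem_maximalIdeal, mem_nonunits_iff, mem_nonunits_iff]
  exact not_congr (MulEquiv.isUnit_map E.toMulEquiv).symm

set_option maxHeartbeats 1000000 in
/-- A localized étale algebra over the local ring of `X` at `x` is the local ring of an étale
neighbourhood. -/
theorem exists_nbhd_of_model (X : Scheme.{u}) (x : X) (C : Type u) [CommRing C]
    [Algebra (X.presheaf.stalk x) C] [Algebra.Etale (X.presheaf.stalk x) C] (Q : Ideal C)
    [Q.IsPrime] (hQ : Q.comap (algebraMap (X.presheaf.stalk x) C) =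
      maximalIdeal (X.presheaf.stalk x)) :
    ∃ (U : Scheme.{u}) (g : U ⟶ X) (u : U), Etale g ∧ g u = x ∧
      Nonempty (U.presheaf.stalk u ≃+* Localization.AtPrime Q) ∧
      ((∀ z : Localization.AtPrime Q, ∃ a : X.presheaf.stalk x,
        z - algebraMap (X.presheaf.stalk x) (Localization.AtPrime Q) a ∈
          maximalIdeal (Localization.AtPrime Q)) →
        Function.Bijective (g.residueFieldMap u)) := by
  obtain ⟨V, hV, hx, -⟩ := TopologicalSpace.Opens.isBasis_iff_nbhd.mp X.isBasis_affineOpens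
    (TopologicalSpace.Opens.mem_top x)
  letI algRA : Algebra Γ(X, V) (X.presheaf.stalk x) :=
    TopCat.Presheaf.algebra_section_stalk X.presheaf ⟨x, hx⟩
  haveI := hV.isLocalization_stalk ⟨x, hx⟩
  obtain ⟨D, _, _, t, _, hDet, htp, e₁, he₁⟩ := BrEtD.exists_etale_model Γ(X, V)
    (X.presheaf.stalk x) C (hV.primeIdealOf ⟨x, hx⟩).asIdeal Q hQ
  obtain ⟨U, g, u, hgu, hg, hprime, e₂, he₂⟩ := BrEtE.exists_etale_nbhd hV D t
  have hpp : hV.primeIdealOf ⟨g u, hgu⟩ = hV.primeIdealOf ⟨x, hx⟩ :=
    PrimeSpectrum.ext (hprime.trans htp)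
  have hgux : g u = x := by
    have h1 := hV.fromSpec_primeIdealOf ⟨g u, hgu⟩
    have h2 := hV.fromSpec_primeIdealOf ⟨x, hx⟩
    rw [hpp] at h1
    exact h1.symm.trans h2
  let E : U.presheaf.stalk u ≃+* Localization.AtPrime Q := e₂.trans e₁
  have hE : ∀ r : Γ(X, V), E ((g.stalkMap u).hom (X.presheaf.germ V (g u) hgu r)) =
      algebraMap (X.presheaf.stalk x) (Localization.AtPrime Q)
        (algebraMap Γ(X, V) (X.presheaf.stalk x) r) := by
    intro r
    show e₁ (e₂ _) = _
    rw [he₂, he₁]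
  refine ⟨U, g, u, hg, hgux, ⟨E⟩, fun H => ?_⟩
  apply BrEtE.residueFieldMap_bijective_of g u hV hgu
  intro z
  obtain ⟨a, ha⟩ := H (E z)
  obtain ⟨⟨r, s⟩, hrs⟩ := IsLocalization.surj (hV.primeIdealOf ⟨x, hx⟩).asIdeal.primeCompl a
  refine ⟨r, s, ?_, ?_⟩
  · rw [hpp]
    exact s.2
  · rw [mem_maximalIdeal_of_ringEquiv E, map_sub, map_mul, hE, hE]
    have h1 : algebraMap (X.presheaf.stalk x) (Localization.AtPrime Q)
          (algebraMap Γ(X, V) (X.presheaf.stalk x) s) * E z -
        algebraMap (X.presheaf.stalk x) (Localization.AtPrime Q)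
          (algebraMap Γ(X, V) (X.presheaf.stalk x) r) =
        algebraMap (X.presheaf.stalk x) (Localization.AtPrime Q)
          (algebraMap Γ(X, V) (X.presheaf.stalk x) s) *
          (E z - algebraMap (X.presheaf.stalk x) (Localization.AtPrime Q) a) := by
      rw [← hrs, map_mul]
      ring
    rw [h1]
    exact Ideal.mul_mem_left _ _ ha

end DirB

end Groth.Agent.Lib.Seat68.BrEtF
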