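import Mathlib
import Groth.Agent.Lib.Seat68BrEtF

/-!
# Counting irreducible components through the points of étale neighbourhoods (seat 68)
-/

set_option autoImplicit false
set_option linter.style.haveILetI false
universe u

namespace Groth.Agent.Lib.Seat68.BrEtG

open AlgebraicGeometry CategoryTheory IsLocalRing Groth.Agent.Lib.Helper3

theorem geom_iSup_eq (X : Scheme.{u}) (x : X) (Ω : Type u) [Field Ω]
    [Algebra (X.presheaf.stalk x) Ω] [Algebra (ResidueField (X.presheaf.stalk x)) Ω]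
    [IsScalarTower (X.presheaf.stalk x) (ResidueField (X.presheaf.stalk x)) Ω]
    [IsSepClosed Ω] :
    (⨆ (U : Scheme.{u}) (g : U ⟶ X) (u : U) (_ : Etale g ∧ g u = x),
      {Z : Set ↑U | Z ∈ irreducibleComponents ↑U ∧ u ∈ Z}.encard) =
      ⨆ i : Sh.Idx (X.presheaf.stalk x) Ω, (minimalPrimes i.L).encard := by
  apply le_antisymm
  · refine iSup_le fun U => iSup_le fun g => iSup_le fun u => iSup_le ?_
    rintro ⟨hg, rfl⟩
    obtain ⟨i, ⟨e⟩⟩ := BrEtF.exists_idx_sh g u Ω
    rw [BrEtB.encard_irreducibleComponents_mem, BrEtB.encard_minimalPrimes_of_ringEquiv e]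
    exact le_iSup (fun i : Sh.Idx (X.presheaf.stalk (g u)) Ω => (minimalPrimes i.L).encard) i
  · refine iSup_le fun i => ?_
    obtain ⟨U, g, u, hg, hgu, ⟨E⟩, -⟩ := BrEtF.exists_nbhd_of_model X x i.C i.Q i.comap_Q
    have h1 : (minimalPrimes i.L).encard =
        {Z : Set ↑U | Z ∈ irreducibleComponents ↑U ∧ u ∈ Z}.encard := by
      rw [BrEtB.encard_irreducibleComponents_mem, BrEtB.encard_minimalPrimes_of_ringEquiv E]
      rfl
    rw [h1]
    exact le_iSup_of_le U (le_iSup_of_le g (le_iSup_of_le u (le_iSup_of_le ⟨hg, hgu⟩ le_rfl)))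

theorem elem_iSup_eq (X : Scheme.{u}) (x : X) :
    (⨆ (U : Scheme.{u}) (g : U ⟶ X) (u : U) (_ : Hens2.IsEtaleNbhd g u x),
      {Z : Set ↑U | Z ∈ irreducibleComponents ↑U ∧ u ∈ Z}.encard) =
      ⨆ i : Hz.Idx (X.presheaf.stalk x), (minimalPrimes i.L).encard := by
  apply le_antisymm
  · refine iSup_le fun U => iSup_le fun g => iSup_le fun u => iSup_le ?_
    rintro ⟨hg, rfl, hres⟩
    obtain ⟨i, ⟨e⟩⟩ := BrEtF.exists_idx_hz g u hres
    rw [BrEtB.encard_irreducibleComponents_mem, BrEtB.encard_minimalPrimes_of_ringEquiv e]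
    exact le_iSup (fun i : Hz.Idx (X.presheaf.stalk (g u)) => (minimalPrimes i.L).encard) i
  · refine iSup_le fun i => ?_
    obtain ⟨U, g, u, hg, hgu, ⟨E⟩, hres⟩ := BrEtF.exists_nbhd_of_model X x i.C i.Q i.comap_Q
    have h1 : (minimalPrimes i.L).encard =
        {Z : Set ↑U | Z ∈ irreducibleComponents ↑U ∧ u ∈ Z}.encard := by
      rw [BrEtB.encard_irreducibleComponents_mem, BrEtB.encard_minimalPrimes_of_ringEquiv E]
      rfl
    rw [h1]
    have hnb : Hens2.IsEtaleNbhd g u x := ⟨hg, hgu, hres (fun z => i.exists_sub_mem z)⟩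
    exact le_iSup_of_le U (le_iSup_of_le g (le_iSup_of_le u (le_iSup_of_le hnb le_rfl)))

end Groth.Agent.Lib.Seat68.BrEtG
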