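import Mathlib
import Groth.Agent.S9237
import Groth.Agent.S9238

/-!
# Branch numbers are invariant under ring isomorphisms (seat 68)
-/

set_option autoImplicit false
set_option linter.style.haveILetI false
universe u

namespace Groth.Agent.Lib.Seat68.BrEtH

open IsLocalRing Groth.Agent.Lib.Helper3

section

variable {B B' S' : Type u} [CommRing B] [IsLocalRing B] [CommRing B'] [IsLocalRing B']
  [CommRing S'] [IsLocalRing S'] [Algebra B' S'] [IsLocalHom (algebraMap B' S')]
  (e : B ≃+* B')

theorem isLocalHom_comp_equiv :
    IsLocalHom ((algebraMap B' S').comp (e : B →+* B')) := by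
  haveI : IsLocalHom (e : B →+* B') := ⟨fun a ha => by
    have := ha.map (e.symm : B' →+* B)
    simpa using this⟩
  exact RingHom.isLocalHom_comp _ _

theorem isHenselization_of_ringEquiv [hS : Hensel.IsHenselization B' S'] :
    letI := ((algebraMap B' S').comp (e : B →+* B')).toAlgebra
    haveI : IsLocalHom (algebraMap B S') := isLocalHom_comp_equiv e
    Hensel.IsHenselization B S' := by
  letI := ((algebraMap B' S').comp (e : B →+* B')).toAlgebra
  haveI : IsLocalHom (algebraMap B S') := isLocalHom_comp_equiv e
  refine ⟨hS.henselian, ?_⟩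
  intro T _ _ f hf
  have hf' : IsLocalHom (f.comp (e.symm : B' →+* B)) := by
    haveI : IsLocalHom (e.symm : B' →+* B) := ⟨fun a ha => by
      have := ha.map (e : B →+* B')
      simpa using this⟩
    exact RingHom.isLocalHom_comp _ _
  obtain ⟨g, hg, huniq⟩ := hS.universal T (f.comp (e.symm : B' →+* B)) hf'
  refine ⟨g, ?_, ?_⟩
  · ext b
    have h1 : g (algebraMap B' S' (e b)) = f (e.symm (e b)) := congrArg (fun φ => φ (e b)) hg
    rw [e.symm_apply_apply] at h1
    exact h1
  · intro g' hg'
    apply huniq
    ext b'
    have h1 : g' (algebraMap B' S' (e (e.symm b'))) = f (e.symm b') :=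
      congrArg (fun φ => φ (e.symm b')) hg'
    rw [e.apply_symm_apply] at h1
    exact h1

theorem isStrictHenselization_of_ringEquiv [hS : Hensel.IsStrictHenselization B' S'] :
    letI := ((algebraMap B' S').comp (e : B →+* B')).toAlgebra
    haveI : IsLocalHom (algebraMap B S') := isLocalHom_comp_equiv e
    Hensel.IsStrictHenselization B S' := by
  letI := ((algebraMap B' S').comp (e : B →+* B')).toAlgebra
  haveI : IsLocalHom (algebraMap B S') := isLocalHom_comp_equiv e
  have halg : ∀ b : B, algebraMap B S' b = algebraMap B' S' (e b) := fun b => rfl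
  haveI hsc := hS.isSepClosure
  haveI : IsSepClosed (ResidueField S') := hsc.sep_closed
  haveI : Algebra.IsSeparable (ResidueField B') (ResidueField S') := hsc.separable
  haveI : IsLocalHom (e : B →+* B') := ⟨fun a ha => by
    have := ha.map (e.symm : B' →+* B)
    simpa using this⟩
  haveI : IsLocalHom (e.symm : B' →+* B) := ⟨fun a ha => by
    have := ha.map (e : B →+* B')
    simpa using this⟩
  refine ⟨hS.henselian, ⟨inferInstance, ?_⟩, ?_⟩
  · refine Algebra.IsSeparable.of_equiv_equiv (ResidueField.mapEquiv e).symm
      (RingEquiv.refl (ResidueField S')) ?_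
    ext x
    obtain ⟨b', rfl⟩ := residue_surjective x
    simp only [RingHom.comp_apply, RingHom.coe_coe, RingEquiv.refl_apply]
    have h1 : (ResidueField.mapEquiv e).symm (residue B' b') = residue B (e.symm b') := by
      rw [RingEquiv.symm_apply_eq]
      show _ = ResidueField.map (e : B →+* B') (residue B (e.symm b'))
      rw [ResidueField.map_residue]
      simp
    rw [h1]
    show residue S' (algebraMap B S' (e.symm b')) = residue S' (algebraMap B' S' b')
    rw [halg, e.apply_symm_apply]
  · intro T _ _ f _ τ hτ
    haveI hf' : IsLocalHom (f.comp (e.symm : B' →+* B)) := RingHom.isLocalHom_comp _ _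
    have hτ' : τ.comp (ResidueField.map (algebraMap B' S')) =
        ResidueField.map (f.comp (e.symm : B' →+* B)) := by
      ext x
      obtain ⟨b', rfl⟩ := residue_surjective x
      have h1 : τ (ResidueField.map (algebraMap B S') (residue B (e.symm b'))) =
          ResidueField.map f (residue B (e.symm b')) :=
        congrArg (fun φ => φ (residue B (e.symm b'))) hτ
      rw [ResidueField.map_residue, ResidueField.map_residue, halg, e.apply_symm_apply] at h1
      show τ (ResidueField.map (algebraMap B' S') (residue B' b')) =
        ResidueField.map (f.comp (e.symm : B' →+* B)) (residue B' b')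
      rw [ResidueField.map_residue, ResidueField.map_residue]
      exact h1
    obtain ⟨g, ⟨hg1, hg2⟩, huniq⟩ := hS.universal T (f.comp (e.symm : B' →+* B)) τ hτ'
    refine ⟨g, ⟨?_, hg2⟩, ?_⟩
    · ext b
      have h1 : g (algebraMap B' S' (e b)) = f (e.symm (e b)) :=
        congrArg (fun φ => φ (e b)) hg1
      rw [e.symm_apply_apply] at h1
      exact h1
    · rintro g' ⟨hg'1, hg'2⟩
      apply huniq
      refine ⟨?_, hg'2⟩
      ext b'
      have h1 : g' (algebraMap B' S' (e (e.symm b'))) = f (e.symm b') :=
        congrArg (fun φ => φ (e.symm b')) hg'1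
      rw [e.apply_symm_apply] at h1
      exact h1

end

theorem numGeomBranches_eq_of_ringEquiv {B B' : Type u} [CommRing B] [IsLocalRing B]
    [CommRing B'] [IsLocalRing B'] (e : B ≃+* B') :
    Brnch.numGeomBranches B = Brnch.numGeomBranches B' := by
  obtain ⟨S', _, _, _, _, hS'⟩ := Branch.exists_isStrictHenselization B'
  rw [← Groth.Agent.S9238.result B' S']
  letI := ((algebraMap B' S').comp (e : B →+* B')).toAlgebra
  haveI : IsLocalHom (algebraMap B S') := isLocalHom_comp_equiv e
  haveI := isStrictHenselization_of_ringEquiv (S' := S') e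
  exact (Groth.Agent.S9238.result B S').symm

theorem numBranches_eq_of_ringEquiv {B B' : Type u} [CommRing B] [IsLocalRing B]
    [CommRing B'] [IsLocalRing B'] (e : B ≃+* B') :
    Brnch.numBranches B = Brnch.numBranches B' := by
  rw [← Groth.Agent.S9237.result B' (Hz.Rh B')]
  letI := ((algebraMap B' (Hz.Rh B')).comp (e : B →+* B')).toAlgebra
  haveI : IsLocalHom (algebraMap B (Hz.Rh B')) := isLocalHom_comp_equiv e
  haveI := isHenselization_of_ringEquiv (S' := Hz.Rh B') e
  exact (Groth.Agent.S9237.result B (Hz.Rh B')).symm

end Groth.Agent.Lib.Seat68.BrEtH
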