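import Mathlib
import Groth.Agent.Lib.Seat68BrEtA

/-!
# Minimal primes of the quotient of a (strict) henselization by an extended ideal (seat 68)
-/

set_option autoImplicit false
set_option linter.style.haveILetI false
universe u

namespace Groth.Agent.Lib.Seat68.BrEtI

open Groth.Agent.Lib.Helper3

theorem flat_quotientMap {L S : Type*} [CommRing L] [CommRing S] (φ : L →+* S) (hφ : φ.Flat)
    (J : Ideal L) (K : Ideal S) (hK : K = J.map φ) (hle : J ≤ K.comap φ) :
    (Ideal.quotientMap K φ hle).Flat := by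
  subst hK
  letI := φ.toAlgebra
  haveI : Module.Flat L S := hφ
  have h1 : Module.Flat (L ⧸ J) (S ⧸ J.map (algebraMap L S)) :=
    Module.Flat.of_linearEquiv
      (Algebra.TensorProduct.quotIdealMapEquivQuotTensor S J).toLinearEquiv
  exact RingHom.flat_algebraMap_iff.mpr h1

theorem encard_minimalPrimes_quotient_le {L S : Type*} [CommRing L] [CommRing S] (φ : L →+* S)
    (hφ : letI := φ.toAlgebra; Module.FaithfullyFlat L S)
    (J : Ideal L) (K : Ideal S) (hK : K = J.map φ) :
    (minimalPrimes (L ⧸ J)).encard ≤ (minimalPrimes (S ⧸ K)).encard := by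
  subst hK
  letI := φ.toAlgebra
  haveI : Module.FaithfullyFlat L S := hφ
  haveI h1 : Module.FaithfullyFlat (L ⧸ J) (S ⧸ J.map (algebraMap L S)) :=
    Module.FaithfullyFlat.of_linearEquiv _ _
      (Algebra.TensorProduct.quotIdealMapEquivQuotTensor S J).toLinearEquiv
  exact Branch.card_minimalPrimes_le_of_faithfullyFlat (L ⧸ J) (S ⧸ J.map (algebraMap L S))

/-- the quotient version of the colimit lemma -/
theorem encard_minimalPrimes_quotient_eq_iSup {ι : Type*} [Preorder ι] [IsDirectedOrder ι]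
    [Nonempty ι] {A : Type*} [CommRing A] (I : Ideal A)
    (L : ι → Type*) [∀ i, CommRing (L i)] (a : ∀ i, A →+* L i)
    (f : ∀ i j, i ≤ j → L i →+* L j) (hfa : ∀ i j (h : i ≤ j), (f i j h).comp (a i) = a j)
    {S : Type*} [CommRing S] (aS : A →+* S) (of : ∀ i, L i →+* S)
    (hofa : ∀ i, (of i).comp (a i) = aS)
    (hof : ∀ i j (h : i ≤ j) (x : L i), of j (f i j h x) = of i x)
    (hex : ∀ z : S, ∃ i x, of i x = z)
    (hflat : ∀ i, letI := (of i).toAlgebra; Module.FaithfullyFlat (L i) S) :
    (minimalPrimes (S ⧸ I.map aS)).encard = ⨆ i, (minimalPrimes (L i ⧸ I.map (a i))).encard := by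
  have hK : ∀ i, I.map aS = (I.map (a i)).map (of i) := by
    intro i
    rw [Ideal.map_map, hofa]
  have hJ : ∀ i j (h : i ≤ j), I.map (a j) = (I.map (a i)).map (f i j h) := by
    intro i j h
    rw [Ideal.map_map, hfa]
  have hle : ∀ i, I.map (a i) ≤ (I.map aS).comap (of i) := by
    intro i
    rw [hK i]
    exact Ideal.le_comap_map
  have hle' : ∀ i j (h : i ≤ j), I.map (a i) ≤ (I.map (a j)).comap (f i j h) := by
    intro i j h
    rw [hJ i j h]
    exact Ideal.le_comap_map
  apply le_antisymm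
  · refine BrEtA.encard_minimalPrimes_le_iSup (fun i => L i ⧸ I.map (a i))
      (fun i j h => Ideal.quotientMap (I.map (a j)) (f i j h) (hle' i j h))
      (fun i => Ideal.quotientMap (I.map aS) (of i) (hle i)) ?_ ?_ ?_
    · intro i j h x
      obtain ⟨x, rfl⟩ := Ideal.Quotient.mk_surjective x
      simp only [Ideal.quotientMap_mk]
      rw [hof]
    · intro z
      obtain ⟨z, rfl⟩ := Ideal.Quotient.mk_surjective z
      obtain ⟨i, x, rfl⟩ := hex z
      exact ⟨i, Ideal.Quotient.mk _ x, Ideal.quotientMap_mk⟩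
    · intro i
      refine flat_quotientMap (of i) ?_ (I.map (a i)) (I.map aS) (hK i) (hle i)
      letI := (of i).toAlgebra
      haveI := hflat i
      exact (inferInstance : Module.Flat (L i) S)
  · refine iSup_le fun i => ?_
    exact encard_minimalPrimes_quotient_le (of i) (hflat i) (I.map (a i)) (I.map aS) (hK i)

section Sh

open IsLocalRing

variable (R : Type u) [CommRing R] [IsLocalRing R] (Ω : Type u) [Field Ω] [Algebra R Ω]
  [Algebra (ResidueField R) Ω] [IsScalarTower R (ResidueField R) Ω]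
  [IsSepClosure (ResidueField R) Ω]

theorem sh_quot_encard_minimalPrimes (I : Ideal R) :
    (minimalPrimes (Sh.Rsh R Ω ⧸ I.map (algebraMap R (Sh.Rsh R Ω)))).encard =
      ⨆ i : Sh.Idx R Ω, (minimalPrimes (i.L ⧸ I.map (algebraMap R i.L))).encard := by
  refine encard_minimalPrimes_quotient_eq_iSup I (fun i : Sh.Idx R Ω => i.L)
    (fun i => algebraMap R i.L) (fun i j h => Sh.fmap' i j h) ?_ (algebraMap R (Sh.Rsh R Ω))
    (fun i => Sh.ofL i) (fun i => Sh.ofL_comp_algebraMap i) (fun i j h x => Sh.ofL_fmap h x)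
    (fun z => Sh.exists_ofL z) ?_
  · intro i j h
    ext r
    exact (Sh.fmap i j h).commutes r
  · intro i
    letI := (Sh.ofL i).toAlgebra
    haveI : Module.Flat i.L (Sh.Rsh R Ω) := Sh.flat_over_L i
    haveI : IsLocalHom (algebraMap i.L (Sh.Rsh R Ω)) := inferInstanceAs (IsLocalHom (Sh.ofL i))
    exact Module.FaithfullyFlat.of_flat_of_isLocalHom

end Sh

section Hz

variable (R : Type u) [CommRing R] [IsLocalRing R]

theorem hz_quot_encard_minimalPrimes (I : Ideal R) :
    (minimalPrimes (Hz.Rh R ⧸ I.map (algebraMap R (Hz.Rh R)))).encard =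
      ⨆ i : Hz.Idx R, (minimalPrimes (i.L ⧸ I.map (algebraMap R i.L))).encard := by
  refine encard_minimalPrimes_quotient_eq_iSup I (fun i : Hz.Idx R => i.L)
    (fun i => algebraMap R i.L) (fun i j h => Hz.fmap' i j h) ?_ (algebraMap R (Hz.Rh R))
    (fun i => Hz.ofL i) ?_ (fun i j h x => Hz.ofL_fmap h x)
    (fun z => Hz.exists_ofL z) ?_
  · intro i j h
    ext r
    exact (Hz.fmap i j h).commutes r
  · intro i
    ext r
    exact (Hz.algebraMap_eq i r).symm
  · intro i
    letI := (Hz.ofL i).toAlgebra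
    haveI : Module.Flat i.L (Hz.Rh R) := Hz.flat_over_L i
    haveI : IsLocalHom (algebraMap i.L (Hz.Rh R)) := inferInstanceAs (IsLocalHom (Hz.ofL i))
    exact Module.FaithfullyFlat.of_flat_of_isLocalHom

end Hz

end Groth.Agent.Lib.Seat68.BrEtI
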