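import Mathlib
import Groth.Agent.Lib.Seat68BrEtF

/-!
# Étale neighbourhoods and stages, with compatibility over the local ring (seat 68)
-/

set_option autoImplicit false
set_option linter.style.haveILetI false
universe u

namespace Groth.Agent.Lib.Seat68.BrEtJ

open AlgebraicGeometry CategoryTheory IsLocalRing Groth.Agent.Lib.Helper3

section DirA

variable {U Y : Scheme.{u}} (g : U ⟶ Y) [Etale g] (u : U)

theorem exists_idx_sh' (Ω : Type u) [Field Ω] [Algebra (Y.presheaf.stalk (g u)) Ω]
    [Algebra (ResidueField (Y.presheaf.stalk (g u))) Ω]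
    [IsScalarTower (Y.presheaf.stalk (g u)) (ResidueField (Y.presheaf.stalk (g u))) Ω]
    [IsSepClosed Ω] :
    ∃ (i : Sh.Idx (Y.presheaf.stalk (g u)) Ω) (e : U.presheaf.stalk u ≃+* i.L),
      ∀ a : Y.presheaf.stalk (g u), e ((g.stalkMap u).hom a) = algebraMap _ i.L a := by
  letI := (g.stalkMap u).hom.toAlgebra
  haveI : IsLocalHom (algebraMap (Y.presheaf.stalk (g u)) (U.presheaf.stalk u)) :=
    inferInstanceAs (IsLocalHom (g.stalkMap u).hom)
  have hEE := BrEtE.isEssentiallyEtale_stalkMap g u
  haveI := EssEt.essFiniteType_of_isEssentiallyEtale _ _ hEE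
  haveI := EssEt.formallyEtale_of_isEssentiallyEtale _ _ hEE
  haveI : Algebra.FormallyUnramified (Y.presheaf.stalk (g u)) (U.presheaf.stalk u) :=
    inferInstance
  haveI : Algebra.IsSeparable (ResidueField (Y.presheaf.stalk (g u)))
      (ResidueField (U.presheaf.stalk u)) := inferInstance
  let β₀ : ResidueField (U.presheaf.stalk u) →ₐ[ResidueField (Y.presheaf.stalk (g u))] Ω :=
    IsSepClosed.lift
  let β : ResidueField (U.presheaf.stalk u) →ₐ[Y.presheaf.stalk (g u)] Ω :=
    β₀.restrictScalars _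
  obtain ⟨C, _, _, q, _, hEt, hq, ⟨e⟩⟩ := hEE
  obtain ⟨i, e', -⟩ := Sh.exists_idx (U.presheaf.stalk u) C q hq e β
  exact ⟨i, e'.toRingEquiv, fun a => e'.commutes a⟩

theorem exists_idx_hz' (hres : Function.Bijective (g.residueFieldMap u)) :
    ∃ (i : Hz.Idx (Y.presheaf.stalk (g u))) (e : U.presheaf.stalk u ≃+* i.L),
      ∀ a : Y.presheaf.stalk (g u), e ((g.stalkMap u).hom a) = algebraMap _ i.L a := by
  letI := (g.stalkMap u).hom.toAlgebra
  haveI : IsLocalHom (algebraMap (Y.presheaf.stalk (g u)) (U.presheaf.stalk u)) :=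
    inferInstanceAs (IsLocalHom (g.stalkMap u).hom)
  have hEE := BrEtE.isEssentiallyEtale_stalkMap g u
  obtain ⟨i, ⟨e⟩⟩ := Hz.exists_idx (U.presheaf.stalk u) ⟨hEE, hres⟩
  exact ⟨i, e.toRingEquiv, fun a => e.commutes a⟩

end DirA

section DirB

set_option maxHeartbeats 1000000 in
/-- A localized étale algebra over the local ring of `X` at `x` is the local ring of an étale
neighbourhood, compatibly with the local ring of `X` at `x`. -/
theorem exists_nbhd_of_model' (X : Scheme.{u}) (x : X) (C : Type u) [CommRing C]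
    [Algebra (X.presheaf.stalk x) C] [Algebra.Etale (X.presheaf.stalk x) C] (Q : Ideal C)
    [Q.IsPrime] (hQ : Q.comap (algebraMap (X.presheaf.stalk x) C) =
      maximalIdeal (X.presheaf.stalk x)) :
    ∃ (U : Scheme.{u}) (g : U ⟶ X) (u : U) (_ : Etale g) (hgu : g u = x)
      (E : U.presheaf.stalk u ≃+* Localization.AtPrime Q),
      (∀ a : X.presheaf.stalk (g u), E ((g.stalkMap u).hom a) =
        algebraMap (X.presheaf.stalk x) (Localization.AtPrime Q)
          ((X.presheaf.stalkSpecializes (specializes_of_eq hgu.symm)).hom a)) ∧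
      ((∀ z : Localization.AtPrime Q, ∃ a : X.presheaf.stalk x,
        z - algebraMap (X.presheaf.stalk x) (Localization.AtPrime Q) a ∈
          maximalIdeal (Localization.AtPrime Q)) →
        Function.Bijective (g.residueFieldMap u)) := by
  obtain ⟨V, hV, hx, -⟩ := TopologicalSpace.Opens.isBasis_iff_nbhd.mp X.isBasis_affineOpens
    (TopologicalSpace.Opens.mem_top x)
  letI algRA : Algebra Γ(X, V) (X.presheaf.stalk x) :=
    TopCat.Presheaf.algebra_section_stalk X.presheaf ⟨x, hx⟩
  haveI := hV.isLocalization_stalk ⟨x, hx⟩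
  obtain ⟨D, _, _, t, _, hDet, htp, e₁, he₁⟩ := BrEtD.exists_etale_model Γ(X, V)
    (X.presheaf.stalk x) C (hV.primeIdealOf ⟨x, hx⟩).asIdeal Q hQ
  obtain ⟨U, g, u, hgu, hg, hprime, e₂, he₂⟩ := BrEtE.exists_etale_nbhd hV D t
  have hpp : hV.primeIdealOf ⟨g u, hgu⟩ = hV.primeIdealOf ⟨x, hx⟩ :=
    PrimeSpectrum.ext (hprime.trans htp)
  have hgux : g u = x := by
    have h1 := hV.fromSpec_primeIdealOf ⟨g u, hgu⟩
    have h2 := hV.fromSpec_primeIdealOf ⟨x, hx⟩
    rw [hpp] at h1
    exact h1.symm.trans h2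
  let E : U.presheaf.stalk u ≃+* Localization.AtPrime Q := e₂.trans e₁
  have hE : ∀ r : Γ(X, V), E ((g.stalkMap u).hom (X.presheaf.germ V (g u) hgu r)) =
      algebraMap (X.presheaf.stalk x) (Localization.AtPrime Q)
        (algebraMap Γ(X, V) (X.presheaf.stalk x) r) := by
    intro r
    show e₁ (e₂ _) = _
    rw [he₂, he₁]
  refine ⟨U, g, u, hg, hgux, E, ?_, fun H => ?_⟩
  · letI algRA' : Algebra Γ(X, V) (X.presheaf.stalk (g u)) :=
      TopCat.Presheaf.algebra_section_stalk X.presheaf ⟨g u, hgu⟩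
    haveI := hV.isLocalization_stalk ⟨g u, hgu⟩
    have hhom : (E : U.presheaf.stalk u →+* Localization.AtPrime Q).comp (g.stalkMap u).hom =
        (algebraMap (X.presheaf.stalk x) (Localization.AtPrime Q)).comp
          (X.presheaf.stalkSpecializes (specializes_of_eq hgux.symm)).hom := by
      apply IsLocalization.ringHom_ext (hV.primeIdealOf ⟨g u, hgu⟩).asIdeal.primeCompl
      ext r
      simp only [RingHom.comp_apply]
      have h1 : algebraMap Γ(X, V) (X.presheaf.stalk (g u)) r =
          X.presheaf.germ V (g u) hgu r := rfl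
      rw [h1]
      have h2 : (X.presheaf.stalkSpecializes (specializes_of_eq hgux.symm)).hom
          (X.presheaf.germ V (g u) hgu r) = X.presheaf.germ V x hx r :=
        TopCat.Presheaf.germ_stalkSpecializes_apply X.presheaf hgu
          (specializes_of_eq hgux.symm) r
      rw [h2]
      exact hE r
    intro a
    exact congrArg (fun φ => φ a) hhom
  · apply BrEtE.residueFieldMap_bijective_of g u hV hgu
    intro z
    obtain ⟨a, ha⟩ := H (E z)
    obtain ⟨⟨r, s⟩, hrs⟩ := IsLocalization.surj (hV.primeIdealOf ⟨x, hx⟩).asIdeal.primeCompl a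
    refine ⟨r, s, ?_, ?_⟩
    · rw [hpp]
      exact s.2
    · rw [BrEtF.mem_maximalIdeal_of_ringEquiv E, map_sub, map_mul, hE, hE]
      have h1 : algebraMap (X.presheaf.stalk x) (Localization.AtPrime Q)
            (algebraMap Γ(X, V) (X.presheaf.stalk x) s) * E z -
          algebraMap (X.presheaf.stalk x) (Localization.AtPrime Q)
            (algebraMap Γ(X, V) (X.presheaf.stalk x) r) =
          algebraMap (X.presheaf.stalk x) (Localization.AtPrime Q)
            (algebraMap Γ(X, V) (X.presheaf.stalk x) s) *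
            (E z - algebraMap (X.presheaf.stalk x) (Localization.AtPrime Q) a) := by
        rw [← hrs, map_mul]
        ring
      rw [h1]
      exact Ideal.mul_mem_left _ _ ha

end DirB

end Groth.Agent.Lib.Seat68.BrEtJ
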