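import Mathlib
import Groth.Agent.Lib.Seat68BrEtH
import Groth.Agent.Lib.Seat68BrEtI
import Groth.Agent.Lib.Helper3ShQuot
import Groth.Agent.Lib.Helper5RLR
import Groth.Agent.S13598

/-!
# Branch numbers of a quotient via the stages of the (strict) henselization (seat 68)
-/

set_option autoImplicit false
set_option linter.style.haveILetI false
universe u

namespace Groth.Agent.Lib.Seat68.BrEtK

open IsLocalRing Groth.Agent.Lib.Helper3 Groth.Agent.Lib

section Inst

variable {A S : Type u} [CommRing A] [IsLocalRing A] [CommRing S] [IsLocalRing S] [Algebra A S]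
  [IsLocalHom (algebraMap A S)] (I : Ideal A) [IsLocalRing (A ⧸ I)]

theorem map_ne_top : I.map (algebraMap A S) ≠ ⊤ := by
  intro h
  have h1 : I.map (algebraMap A S) ≤ maximalIdeal S := by
    rw [Ideal.map_le_iff_le_comap]
    intro a ha
    have ha' : a ∈ maximalIdeal A := Helper5.le_maximalIdeal_of_isLocalRing_quotient I ha
    show algebraMap A S a ∈ maximalIdeal S
    rw [mem_maximalIdeal, mem_nonunits_iff]
    intro hu
    exact ((mem_maximalIdeal _).mp ha') (isUnit_of_map_unit (algebraMap A S) a hu)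
  exact (maximalIdeal.isMaximal S).ne_top (top_le_iff.mp (h ▸ h1))

theorem isLocalRing_quotient_map : IsLocalRing (S ⧸ I.map (algebraMap A S)) :=
  Helper5.isLocalRing_quotient (map_ne_top I)

theorem isLocalHom_quotient [IsLocalRing (S ⧸ I.map (algebraMap A S))] :
    IsLocalHom (algebraMap (A ⧸ I) (S ⧸ I.map (algebraMap A S))) := by
  refine ⟨fun a ha => ?_⟩
  obtain ⟨a, rfl⟩ := Ideal.Quotient.mk_surjective a
  have h1 : Ideal.Quotient.mk (I.map (algebraMap A S)) (algebraMap A S a) ∉
      maximalIdeal (S ⧸ I.map (algebraMap A S)) := by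
    rw [mem_maximalIdeal, mem_nonunits_iff, not_not]
    exact ha
  rw [Helper5.mk_mem_maximalIdeal_quotient_iff] at h1
  have h2 : IsUnit (algebraMap A S a) := by
    by_contra hcon
    exact h1 hcon
  exact (isUnit_of_map_unit (algebraMap A S) a h2).map _

end Inst

section Sh

variable (A : Type u) [CommRing A] [IsLocalRing A] (Ω : Type u) [Field Ω] [Algebra A Ω]
  [Algebra (ResidueField A) Ω] [IsScalarTower A (ResidueField A) Ω]
  [IsSepClosure (ResidueField A) Ω] (I : Ideal A) [IsLocalRing (A ⧸ I)]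

theorem numGeomBranches_quotient_eq_iSup :
    Brnch.numGeomBranches (A ⧸ I) =
      ⨆ i : Sh.Idx A Ω, (minimalPrimes (i.L ⧸ I.map (algebraMap A i.L))).encard := by
  haveI := isLocalRing_quotient_map (S := Sh.Rsh A Ω) I
  haveI := isLocalHom_quotient (S := Sh.Rsh A Ω) I
  haveI := ShQuot.isStrictHenselization_quotient (A := A) (S := Sh.Rsh A Ω) I
  rw [← BrEtI.sh_quot_encard_minimalPrimes A Ω I]
  exact (Groth.Agent.S9238.result (A ⧸ I) (Sh.Rsh A Ω ⧸ I.map (algebraMap A (Sh.Rsh A Ω)))).symm

end Sh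

section Hz

variable (A : Type u) [CommRing A] [IsLocalRing A] (I : Ideal A) [IsLocalRing (A ⧸ I)]

theorem numBranches_quotient_eq_iSup :
    Brnch.numBranches (A ⧸ I) =
      ⨆ i : Hz.Idx A, (minimalPrimes (i.L ⧸ I.map (algebraMap A i.L))).encard := by
  haveI := isLocalRing_quotient_map (S := Hz.Rh A) I
  haveI := isLocalHom_quotient (S := Hz.Rh A) I
  haveI := Groth.Agent.S13598.result (A := A) (S := Hz.Rh A) I
    (Helper5.le_maximalIdeal_of_isLocalRing_quotient I)
  rw [← BrEtI.hz_quot_encard_minimalPrimes A I]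
  exact (Groth.Agent.S9237.result (A ⧸ I) (Hz.Rh A ⧸ I.map (algebraMap A (Hz.Rh A)))).symm

end Hz

end Groth.Agent.Lib.Seat68.BrEtK
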