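import Mathlib
import Groth.Agent.Lib.Seat68BrEtJ
import Groth.Agent.Lib.Seat68BrEtK
import Groth.Agent.Lib.Helper5FiberStalk

/-!
# Components of the fibres of étale neighbourhoods (seat 68)
-/

set_option autoImplicit false
set_option linter.style.haveILetI false
universe u

namespace Groth.Agent.Lib.Seat68.BrEtL

open AlgebraicGeometry CategoryTheory IsLocalRing Groth.Agent.Lib.Helper3 Groth.Agent.Lib

/-- the ideal of the fibre in the local ring -/
noncomputable def fibI {X S : Scheme.{u}} (f : X ⟶ S) (x : X) : Ideal (X.presheaf.stalk x) :=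
  (maximalIdeal (S.presheaf.stalk (f x))).map (f.stalkMap x).hom

theorem encard_fibre_components {T S : Scheme.{u}} (h : T ⟶ S) (u : T) (s : S) (hs : h u = s) :
    {Z : Set ↑(h.fiber s) | Z ∈ irreducibleComponents ↑(h.fiber s) ∧
      ∃ u' ∈ Z, h.fiberι s u' = u}.encard =
      (minimalPrimes (T.presheaf.stalk u ⧸ fibI h u)).encard := by
  subst hs
  have hset : {Z : Set ↑(h.fiber (h u)) | Z ∈ irreducibleComponents ↑(h.fiber (h u)) ∧
      ∃ u' ∈ Z, h.fiberι (h u) u' = u} =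
      {Z : Set ↑(h.fiber (h u)) | Z ∈ irreducibleComponents ↑(h.fiber (h u)) ∧
        h.asFiber u ∈ Z} := by
    ext Z
    constructor
    · rintro ⟨hZ, u', hu', he⟩
      refine ⟨hZ, ?_⟩
      have : u' = h.asFiber u :=
        (h.fiberι (h u)).isEmbedding.injective (he.trans (h.fiberι_asFiber u).symm)
      rwa [← this]
    · rintro ⟨hZ, hmem⟩
      exact ⟨hZ, _, hmem, h.fiberι_asFiber u⟩
  rw [hset, BrEtB.encard_irreducibleComponents_mem]
  obtain ⟨ε⟩ := Helper5.FiberStalk.nonempty_stalk_asFiber_equiv h u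
  exact BrEtB.encard_minimalPrimes_of_ringEquiv ε

theorem fibI_comp {U X S : Scheme.{u}} (g : U ⟶ X) (f : X ⟶ S) (u : U) :
    fibI (g ≫ f) u = (fibI f (g u)).map (g.stalkMap u).hom := by
  show (maximalIdeal (S.presheaf.stalk ((g ≫ f) u))).map ((g ≫ f).stalkMap u).hom =
    ((maximalIdeal (S.presheaf.stalk (f (g u)))).map (f.stalkMap (g u)).hom).map
      (g.stalkMap u).hom
  rw [Ideal.map_map]
  have := Scheme.Hom.stalkMap_comp g f u
  rw [this]
  rfl

/-- the core identification -/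
theorem core {U X S : Scheme.{u}} (g : U ⟶ X) (f : X ⟶ S) (u : U) {L : Type u} [CommRing L]
    [Algebra (X.presheaf.stalk (g u)) L] (E : U.presheaf.stalk u ≃+* L)
    (hE : ∀ a, E ((g.stalkMap u).hom a) = algebraMap _ L a) :
    {Z : Set ↑((g ≫ f).fiber (f (g u))) |
      Z ∈ irreducibleComponents ↑((g ≫ f).fiber (f (g u))) ∧
      ∃ u' ∈ Z, (g ≫ f).fiberι (f (g u)) u' = u}.encard =
    (minimalPrimes (L ⧸ (fibI f (g u)).map (algebraMap (X.presheaf.stalk (g u)) L))).encard := by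
  have h1 := encard_fibre_components (g ≫ f) u (f (g u)) rfl
  rw [h1]
  have hJ : (fibI f (g u)).map (algebraMap (X.presheaf.stalk (g u)) L) =
      (fibI (g ≫ f) u).map (E : U.presheaf.stalk u →+* L) := by
    have hmap : (E : U.presheaf.stalk u →+* L).comp (g.stalkMap u).hom =
        algebraMap (X.presheaf.stalk (g u)) L := RingHom.ext hE
    rw [fibI_comp, Ideal.map_map, hmap]
  exact BrEtB.encard_minimalPrimes_of_ringEquiv
    (Ideal.quotientEquiv (fibI (g ≫ f) u)
      ((fibI f (g u)).map (algebraMap (X.presheaf.stalk (g u)) L)) E hJ)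

instance isLocalRing_quotient_fibI {X S : Scheme.{u}} (f : X ⟶ S) (x : X) :
    IsLocalRing (X.presheaf.stalk x ⧸ fibI f x) :=
  Helper5.FiberStalk.isLocalRing_quotient_fibIdeal f x

theorem nonempty_stalk_asFiber_equiv {X S : Scheme.{u}} (f : X ⟶ S) (x : X) :
    Nonempty ((f.fiber (f x)).presheaf.stalk (f.asFiber x) ≃+*
      (X.presheaf.stalk x ⧸ fibI f x)) :=
  Helper5.FiberStalk.nonempty_stalk_asFiber_equiv f x

theorem fibre_geom_iSup_eq {X S : Scheme.{u}} (f : X ⟶ S) (x : X) (Ω : Type u) [Field Ω]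
    [Algebra (X.presheaf.stalk x) Ω] [Algebra (ResidueField (X.presheaf.stalk x)) Ω]
    [IsScalarTower (X.presheaf.stalk x) (ResidueField (X.presheaf.stalk x)) Ω]
    [IsSepClosed Ω] :
    (⨆ (U : Scheme.{u}) (g : U ⟶ X) (u : U) (_ : Etale g ∧ g u = x),
      {Z : Set ↑((g ≫ f).fiber (f x)) | Z ∈ irreducibleComponents ↑((g ≫ f).fiber (f x)) ∧
        ∃ u' ∈ Z, (g ≫ f).fiberι (f x) u' = u}.encard) =
    ⨆ i : Sh.Idx (X.presheaf.stalk x) Ω,
      (minimalPrimes (i.L ⧸ (fibI f x).map (algebraMap (X.presheaf.stalk x) i.L))).encard := by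
  apply le_antisymm
  · refine iSup_le fun U => iSup_le fun g => iSup_le fun u => iSup_le ?_
    rintro ⟨hg, rfl⟩
    obtain ⟨i, e, he⟩ := BrEtJ.exists_idx_sh' g u Ω
    rw [core g f u e he]
    exact le_iSup (fun i : Sh.Idx (X.presheaf.stalk (g u)) Ω =>
      (minimalPrimes (i.L ⧸ (fibI f (g u)).map (algebraMap _ i.L))).encard) i
  · refine iSup_le fun i => ?_
    obtain ⟨U, g, u, hg, hgu, E, hE, -⟩ := BrEtJ.exists_nbhd_of_model' X x i.C i.Q i.comap_Q
    subst hgu
    have hE' : ∀ a, (E : U.presheaf.stalk u ≃+* i.L) ((g.stalkMap u).hom a) =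
        algebraMap (X.presheaf.stalk (g u)) i.L a := by
      intro a
      rw [hE a]
      congr 1
      simp
    rw [← core g f u (L := i.L) E hE']
    exact le_iSup_of_le U (le_iSup_of_le g (le_iSup_of_le u (le_iSup_of_le ⟨hg, rfl⟩ le_rfl)))

theorem fibre_elem_iSup_eq {X S : Scheme.{u}} (f : X ⟶ S) (x : X) :
    (⨆ (U : Scheme.{u}) (g : U ⟶ X) (u : U) (_ : Hens2.IsEtaleNbhd g u x),
      {Z : Set ↑((g ≫ f).fiber (f x)) | Z ∈ irreducibleComponents ↑((g ≫ f).fiber (f x)) ∧
        ∃ u' ∈ Z, (g ≫ f).fiberι (f x) u' = u}.encard) =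
    ⨆ i : Hz.Idx (X.presheaf.stalk x),
      (minimalPrimes (i.L ⧸ (fibI f x).map (algebraMap (X.presheaf.stalk x) i.L))).encard := by
  apply le_antisymm
  · refine iSup_le fun U => iSup_le fun g => iSup_le fun u => iSup_le ?_
    rintro ⟨hg, rfl, hres⟩
    obtain ⟨i, e, he⟩ := BrEtJ.exists_idx_hz' g u hres
    rw [core g f u e he]
    exact le_iSup (fun i : Hz.Idx (X.presheaf.stalk (g u)) =>
      (minimalPrimes (i.L ⧸ (fibI f (g u)).map (algebraMap _ i.L))).encard) i
  · refine iSup_le fun i => ?_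
    obtain ⟨U, g, u, hg, hgu, E, hE, hres⟩ := BrEtJ.exists_nbhd_of_model' X x i.C i.Q i.comap_Q
    have hnb : Hens2.IsEtaleNbhd g u x := ⟨hg, hgu, hres (fun z => i.exists_sub_mem z)⟩
    subst hgu
    have hE' : ∀ a, (E : U.presheaf.stalk u ≃+* i.L) ((g.stalkMap u).hom a) =
        algebraMap (X.presheaf.stalk (g u)) i.L a := by
      intro a
      rw [hE a]
      congr 1
      simp
    rw [← core g f u (L := i.L) E hE']
    exact le_iSup_of_le U (le_iSup_of_le g (le_iSup_of_le u (le_iSup_of_le hnb le_rfl)))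

end Groth.Agent.Lib.Seat68.BrEtL
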