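import Mathlib
import Groth.Prelude.Def_W4c2submetdescSubtr
import Groth.Agent.Lib.Helper10SubtrVal2

/-!
# Lifting chains of three points along universally S-subtrusive morphisms (seat 68)

A chain `y₀ ⤳ y₁ ⤳ y₂` in a scheme is the image of a chain in the spectrum of a (composite)
valuation ring; a universally S-subtrusive morphism dominates that spectrum by the spectrum of
another valuation ring, whose points are totally ordered.
-/

set_option autoImplicit false
universe u

namespace Groth.Agent.Lib.Seat68.ChainLift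

open CategoryTheory CategoryTheory.Limits AlgebraicGeometry IsLocalRing

section composite

variable (V : Type u) [CommRing V] [IsDomain V] [ValuationRing V]
  (B : ValuationSubring (ResidueField V))

/-- The composite of a valuation ring `V` and a valuation ring `B` of its residue field. -/
def comp : Subring V := B.toSubring.comap (residue V)

lemma mem_comp (x : V) : x ∈ comp V B ↔ residue V x ∈ B := Iff.rfl

instance : ValuationRing (comp V B) where
  cond' := by
    rintro ⟨a, ha⟩ ⟨b, hb⟩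
    have key : ∀ a b c : V, a ∈ comp V B → b ∈ comp V B → a * c = b →
        ∃ c' : V, c' ∈ comp V B ∧ (a * c' = b ∨ b * c' = a) := by
      intro a b c _ _ hc
      by_cases hcB : residue V c ∈ B
      · exact ⟨c, hcB, Or.inl hc⟩
      · have hne : residue V c ≠ 0 := fun h => hcB (h ▸ B.zero_mem)
        have hu : IsUnit c := by
          by_contra hnu
          exact hne ((residue_eq_zero_iff c).mpr ((mem_maximalIdeal c).mpr hnu))
        obtain ⟨u, rfl⟩ := hu
        refine ⟨((u⁻¹ : Vˣ) : V), ?_, Or.inr ?_⟩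
        · rw [mem_comp]
          have h1 : residue V ((u⁻¹ : Vˣ) : V) = (residue V (u : V))⁻¹ := by
            rw [eq_comm, inv_eq_iff_eq_inv, ← map_units_inv]
            simp
          rw [h1]
          exact (B.mem_or_inv_mem _).resolve_left hcB
        · rw [← hc, mul_assoc, Units.mul_inv, mul_one]
    obtain ⟨c, hc | hc⟩ := ValuationRing.cond a b
    · obtain ⟨c', hc', h | h⟩ := key a b c ha hb hc
      · exact ⟨⟨c', hc'⟩, Or.inl (Subtype.ext h)⟩
      · exact ⟨⟨c', hc'⟩, Or.inr (Subtype.ext h)⟩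
    · obtain ⟨c', hc', h | h⟩ := key b a c hb ha hc
      · exact ⟨⟨c', hc'⟩, Or.inr (Subtype.ext h)⟩
      · exact ⟨⟨c', hc'⟩, Or.inl (Subtype.ext h)⟩

/-- The projection of the composite onto the valuation ring of the residue field. -/
noncomputable def compToRes : comp V B →+* B :=
  (residue V).restrict (comp V B) B.toSubring (fun _ hx => hx)

lemma compToRes_apply (w : comp V B) : ((compToRes V B w : B) : ResidueField V) = residue V w :=
  rfl

/-- In `Spec` of the composite, the image of the closed point of `Spec V` is the image of the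
generic point of `Spec B`. -/
lemma comap_subtype_closedPoint :
    PrimeSpectrum.comap (comp V B).subtype (closedPoint V) =
      PrimeSpectrum.comap (compToRes V B) ⟨⊥, Ideal.isPrime_bot⟩ := by
  apply PrimeSpectrum.ext
  ext w
  change (w : V) ∈ maximalIdeal V ↔ compToRes V B w = 0
  rw [← residue_eq_zero_iff, ← compToRes_apply]
  exact ⟨fun h => Subtype.ext h, fun h => congrArg Subtype.val h⟩

end composite

section select

/-- In the spectrum of a valuation ring any two points are comparable. -/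
lemma specializes_total (W : Type u) [CommRing W] [IsDomain W] [ValuationRing W]
    (Q Q' : PrimeSpectrum W) : Q ⤳ Q' ∨ Q' ⤳ Q := by
  rw [← PrimeSpectrum.le_iff_specializes, ← PrimeSpectrum.le_iff_specializes]
  exact Std.Total.total (r := fun I J : Ideal W => I ≤ J) Q.asIdeal Q'.asIdeal

/-- Lifting a generization along a surjective map out of the spectrum of a valuation ring. -/
lemma exists_generization_lift {W : Type u} [CommRing W] [IsDomain W] [ValuationRing W]
    {T : Type*} [TopologicalSpace T] [T0Space T] (b : PrimeSpectrum W → T) (hb : Continuous b)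
    (hsurj : Function.Surjective b) {P P' : T} (hPP : P ⤳ P') (Q' : PrimeSpectrum W)
    (hQ' : b Q' = P') : ∃ Q : PrimeSpectrum W, Q ⤳ Q' ∧ b Q = P := by
  obtain ⟨Q₀, hQ₀⟩ := hsurj P
  rcases specializes_total W Q₀ Q' with h | h
  · exact ⟨Q₀, h, hQ₀⟩
  · have h1 : P' ⤳ P := by
      rw [← hQ', ← hQ₀]
      exact h.map hb
    have h2 : P = P' := (hPP.antisymm h1).eq
    exact ⟨Q', specializes_rfl, hQ'.trans h2.symm⟩

end select

section chain

/-- A chain of three points in a scheme is dominated by the spectrum of a valuation ring. -/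
theorem exists_valuationRing_of_chain {S : Scheme.{u}} {y₀ y₁ y₂ : S} (h₀₁ : y₀ ⤳ y₁)
    (h₁₂ : y₁ ⤳ y₂) :
    ∃ (W : Type u) (_ : CommRing W) (_ : IsDomain W) (_ : ValuationRing W)
      (g : Spec (CommRingCat.of W) ⟶ S) (P₀ P₁ P₂ : Spec (CommRingCat.of W)),
      P₀ ⤳ P₁ ∧ P₁ ⤳ P₂ ∧ g P₀ = y₀ ∧ g P₁ = y₁ ∧ g P₂ = y₂ := by
  -- the first valuation ring
  let t₁ : S.presheaf.stalk y₁ ⟶ S.residueField y₀ :=
    S.presheaf.stalkSpecializes h₀₁ ≫ S.residue y₀
  obtain ⟨A₁, hA₁, hA₁loc⟩ := exists_factor_valuationRing t₁.hom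
  let tA₁ : S.presheaf.stalk y₁ →+* ↥A₁ := t₁.hom.codRestrict _ hA₁
  -- the second valuation ring, in the residue field of the first
  let sp : S.presheaf.stalk y₂ →+* S.presheaf.stalk y₁ := (S.presheaf.stalkSpecializes h₁₂).hom
  let ψ : S.presheaf.stalk y₂ →+* ResidueField ↥A₁ := (residue ↥A₁).comp (tA₁.comp sp)
  obtain ⟨A₂, hA₂, hA₂loc⟩ := exists_factor_valuationRing ψ
  -- the composite
  let φ : S.presheaf.stalk y₂ →+* comp ↥A₁ A₂ :=
    (tA₁.comp sp).codRestrict (comp ↥A₁ A₂) (fun x => hA₂ x)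
  let g : Spec (CommRingCat.of (comp ↥A₁ A₂)) ⟶ S :=
    Spec.map (CommRingCat.ofHom φ) ≫ S.fromSpecStalk y₂
  -- the two branches
  have hbr1 : Spec.map (CommRingCat.ofHom (comp ↥A₁ A₂).subtype) ≫ g =
      Spec.map (CommRingCat.ofHom tA₁) ≫ S.fromSpecStalk y₁ := by
    rw [← Spec.map_comp_assoc, ← Scheme.SpecMap_stalkSpecializes_fromSpecStalk h₁₂,
      ← Spec.map_comp_assoc]
    rfl
  have hbr2 : Spec.map (CommRingCat.ofHom (compToRes ↥A₁ A₂)) ≫ g =
      Spec.map (CommRingCat.ofHom (ψ.codRestrict A₂.toSubring hA₂)) ≫ S.fromSpecStalk y₂ := by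
    rw [← Spec.map_comp_assoc]
    rfl
  -- the points
  let η₁ : Spec (CommRingCat.of ↥A₁) :=
    Spec.map (CommRingCat.ofHom A₁.subtype) (closedPoint (S.residueField y₀))
  let P₀ : Spec (CommRingCat.of (comp ↥A₁ A₂)) :=
    Spec.map (CommRingCat.ofHom (comp ↥A₁ A₂).subtype) η₁
  let P₁ : Spec (CommRingCat.of (comp ↥A₁ A₂)) :=
    Spec.map (CommRingCat.ofHom (comp ↥A₁ A₂).subtype) (closedPoint ↥A₁)
  let η₂ : Spec (CommRingCat.of ↥A₂) := (⟨⊥, Ideal.isPrime_bot⟩ : PrimeSpectrum ↥A₂)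
  let P₂ : Spec (CommRingCat.of (comp ↥A₁ A₂)) :=
    Spec.map (CommRingCat.ofHom (compToRes ↥A₁ A₂)) (closedPoint ↥A₂)
  have hP₁ : P₁ = Spec.map (CommRingCat.ofHom (compToRes ↥A₁ A₂)) η₂ :=
    comap_subtype_closedPoint ↥A₁ A₂
  refine ⟨comp ↥A₁ A₂, inferInstance, inferInstance, inferInstance, g, P₀, P₁, P₂, ?_, ?_, ?_, ?_, ?_⟩
  · exact (specializes_closedPoint (R := ↥A₁) η₁).map
      (Spec.map (CommRingCat.ofHom (comp ↥A₁ A₂).subtype)).continuous
  · rw [hP₁]
    exact (specializes_closedPoint (R := ↥A₂) η₂).map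
      (Spec.map (CommRingCat.ofHom (compToRes ↥A₁ A₂))).continuous
  · -- `g P₀ = y₀`
    change (Spec.map (CommRingCat.ofHom (comp ↥A₁ A₂).subtype) ≫ g) η₁ = y₀
    rw [hbr1]
    change (Spec.map (CommRingCat.ofHom A₁.subtype) ≫ Spec.map (CommRingCat.ofHom tA₁) ≫
      S.fromSpecStalk y₁) (closedPoint (S.residueField y₀)) = y₀
    rw [← Spec.map_comp_assoc]
    have : CommRingCat.ofHom tA₁ ≫ CommRingCat.ofHom A₁.subtype = t₁ := by ext a; rfl
    rw [this, Spec.map_comp, Category.assoc, Scheme.SpecMap_stalkSpecializes_fromSpecStalk]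
    exact Scheme.fromSpecResidueField_apply y₀ _
  · -- `g P₁ = y₁`
    change (Spec.map (CommRingCat.ofHom (comp ↥A₁ A₂).subtype) ≫ g) (closedPoint ↥A₁) = y₁
    rw [hbr1]
    have : Spec.map (CommRingCat.ofHom tA₁) (closedPoint ↥A₁) =
        closedPoint (S.presheaf.stalk y₁) :=
      comap_closedPoint (S := A₁) (t₁.hom.codRestrict A₁.toSubring hA₁)
    change S.fromSpecStalk y₁ (Spec.map (CommRingCat.ofHom tA₁) (closedPoint ↥A₁)) = y₁
    rw [this, S.fromSpecStalk_closedPoint]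
  · -- `g P₂ = y₂`
    change (Spec.map (CommRingCat.ofHom (compToRes ↥A₁ A₂)) ≫ g) (closedPoint ↥A₂) = y₂
    rw [hbr2]
    have : Spec.map (CommRingCat.ofHom (ψ.codRestrict A₂.toSubring hA₂)) (closedPoint ↥A₂) =
        closedPoint (S.presheaf.stalk y₂) :=
      comap_closedPoint (S := A₂) (ψ.codRestrict A₂.toSubring hA₂)
    change S.fromSpecStalk y₂ (Spec.map (CommRingCat.ofHom (ψ.codRestrict A₂.toSubring hA₂))
      (closedPoint ↥A₂)) = y₂
    rw [this, S.fromSpecStalk_closedPoint]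

/-- Universally S-subtrusive morphisms lift chains of three points. -/
theorem exists_chain_lift {X Y : Scheme.{u}} (f : X ⟶ Y) (hf : Subtr.UnivSSubtrusive f)
    {y₀ y₁ y₂ : Y} (h₀₁ : y₀ ⤳ y₁) (h₁₂ : y₁ ⤳ y₂) :
    ∃ x₀ x₁ x₂ : X, x₀ ⤳ x₁ ∧ x₁ ⤳ x₂ ∧ f x₀ = y₀ ∧ f x₁ = y₁ ∧ f x₂ = y₂ := by
  obtain ⟨W, _, _, _, g, P₀, P₁, P₂, hP₀₁, hP₁₂, hg₀, hg₁, hg₂⟩ :=
    exists_valuationRing_of_chain h₀₁ h₁₂
  obtain ⟨W', _, _, _, a, b, hb, hab⟩ :=
    (Groth.Agent.Lib.Helper10.SubtrVal.main2 f).mp hf W g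
  obtain ⟨Q₂, hQ₂⟩ := hb.surj P₂
  obtain ⟨Q₁, hQ₁₂, hQ₁⟩ := exists_generization_lift (W := W') (fun Q => b Q) b.continuous
    hb.surj hP₁₂ Q₂ hQ₂
  obtain ⟨Q₀, hQ₀₁, hQ₀⟩ := exists_generization_lift (W := W') (fun Q => b Q) b.continuous
    hb.surj hP₀₁ Q₁ hQ₁
  have key : ∀ Q : Spec (CommRingCat.of W'), f (a Q) = g (b Q) := by
    intro Q
    rw [← Scheme.Hom.comp_apply, hab, Scheme.Hom.comp_apply]
  refine ⟨a Q₀, a Q₁, a Q₂, hQ₀₁.map a.continuous, hQ₁₂.map a.continuous, ?_, ?_, ?_⟩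
  · rw [key, hQ₀, hg₀]
  · rw [key, hQ₁, hg₁]
  · rw [key, hQ₂, hg₂]

end chain

end Groth.Agent.Lib.Seat68.ChainLift
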