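import Mathlib

/-!
# Seat68: commutative algebra for the closed-immersion criterion (S10867)

A finite ring map `φ : B → A` of finite type `k`-algebras (`k` algebraically closed) which is
injective on maximal ideals and whose cotangent maps at maximal ideals are surjective is surjective.
-/

set_option autoImplicit false

namespace Groth.Agent.Lib.Seat68.ClImmAlg

open Ideal

/-- A finite type algebra over an algebraically closed field has residue field `k` at every
maximal ideal. -/
lemma exists_sub_algebraMap_mem {k A : Type*} [Field k] [IsAlgClosed k] [CommRing A] [Algebra k A]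
    [Algebra.FiniteType k A] (m : Ideal A) [m.IsMaximal] (a : A) :
    ∃ c : k, a - algebraMap k A c ∈ m := by
  let _ : Field (A ⧸ m) := Ideal.Quotient.field m
  have : Algebra.FiniteType k (A ⧸ m) :=
    Algebra.FiniteType.of_surjective (Ideal.Quotient.mkₐ k m) (Ideal.Quotient.mkₐ_surjective k m)
  have : Module.Finite k (A ⧸ m) := finite_of_finite_type_of_isJacobsonRing k (A ⧸ m)
  have hbij := IsAlgClosed.algebraMap_bijective_of_isIntegral (k := k) (K := A ⧸ m)
  obtain ⟨c, hc⟩ := hbij.2 (Ideal.Quotient.mk m a)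
  refine ⟨c, ?_⟩
  rw [← Ideal.Quotient.eq, ← hc]
  rfl

open scoped Pointwise in
/-- A finite algebra map is surjective as soon as it is so modulo every maximal ideal. -/
lemma range_eq_top_of_forall_maximal {B A : Type*} [CommRing B] [CommRing A] [Algebra B A]
    [Module.Finite B A]
    (H : ∀ n : Ideal B, n.IsMaximal →
      (⊤ : Submodule B A) ≤ LinearMap.range (Algebra.linearMap B A) ⊔ n • (⊤ : Submodule B A)) :
    LinearMap.range (Algebra.linearMap B A) = ⊤ := by
  set N : Submodule B A := LinearMap.range (Algebra.linearMap B A) with hN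
  by_contra hne
  have hcol : N.colon (⊤ : Submodule B A) ≠ ⊤ := by
    intro h
    apply hne
    rw [eq_top_iff]
    intro a _
    have h1 : (1 : B) ∈ N.colon (⊤ : Submodule B A) := h ▸ Submodule.mem_top
    rw [Submodule.mem_colon] at h1
    simpa using h1 a Submodule.mem_top
  obtain ⟨n, hn, hle⟩ := Ideal.exists_le_maximal _ hcol
  obtain ⟨r, hr1, hr⟩ := Submodule.exists_sub_one_mem_and_smul_le_of_fg_of_le_sup
    (I := n) (N := N) (N' := ⊤) (P := ⊤) Module.Finite.fg_top le_rfl (H n hn)
  have hrn : r ∈ n := hle (by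
    rw [Submodule.mem_colon]
    intro a _
    exact hr (Submodule.smul_mem_pointwise_smul a r ⊤ Submodule.mem_top))
  apply hn.ne_top
  rw [Ideal.eq_top_iff_one]
  have := n.sub_mem hrn hr1
  simpa using this

/-- Local-to-global step: if a multiple `s * x` with `s ∉ m` lies in an ideal containing `m ^ 2`,
then so does `x ∈ m`. -/
lemma mem_of_mul_mem_of_sq_le {A : Type*} [CommRing A] {m J : Ideal A} [m.IsMaximal]
    (hJ : m ^ 2 ≤ J) {x s : A} (hx : x ∈ m) (hs : s ∉ m) (hsx : s * x ∈ J) : x ∈ J := by
  obtain ⟨t, u, hu, htu⟩ : ∃ t u, u ∈ m ∧ t * s + u = 1 := by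
    have := Ideal.IsMaximal.exists_inv ‹m.IsMaximal› hs
    obtain ⟨t, u, hu, h⟩ := this
    exact ⟨t, u, hu, h⟩
  have : x = t * (s * x) + u * x := by
    calc x = (t * s + u) * x := by rw [htu, one_mul]
      _ = t * (s * x) + u * x := by ring
  rw [this]
  refine J.add_mem (J.mul_mem_left _ hsx) (hJ ?_)
  rw [pow_two]
  exact Ideal.mul_mem_mul hu hx


/-- Clearing denominators in a localization at a prime. -/
lemma exists_mul_mem_of_algebraMap_mem_map {R S : Type*} [CommRing R] [CommRing S] [Algebra R S]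
    (m : Ideal R) [m.IsPrime] [IsLocalization.AtPrime S m] (J : Ideal R) (a : R)
    (h : algebraMap R S a ∈ Ideal.map (algebraMap R S) J) : ∃ s, s ∉ m ∧ s * a ∈ J := by
  rw [IsLocalization.mem_map_algebraMap_iff m.primeCompl] at h
  obtain ⟨⟨⟨j, hj⟩, ⟨s, hs⟩⟩, h⟩ := h
  simp only at h
  rw [← map_mul, IsLocalization.eq_iff_exists m.primeCompl] at h
  obtain ⟨⟨t, ht⟩, h⟩ := h
  refine ⟨t * s, m.primeCompl.mul_mem ht hs, ?_⟩
  have : t * s * a = t * j := by
    rw [mul_assoc, mul_comm s a]; exact h
  rw [this]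
  exact J.mul_mem_left _ hj

/-- Translating the cotangent condition on local rings to the rings of sections. -/
lemma cotangent_translate {R' R S' S : Type*} [CommRing R'] [CommRing R] [CommRing S'] [CommRing S]
    [Algebra R' S'] [Algebra R S] (n : Ideal R') [n.IsPrime] (m : Ideal R) [m.IsPrime]
    [IsLocalization.AtPrime S' n] [IsLocalization.AtPrime S m]
    [IsLocalRing S'] [IsLocalRing S]
    (φ : R' →+* R) (σ : S' →+* S)
    (hcomm : σ.comp (algebraMap R' S') = (algebraMap R S).comp φ)
    (h : Ideal.map σ (IsLocalRing.maximalIdeal S') ⊔ IsLocalRing.maximalIdeal S ^ 2 =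
      IsLocalRing.maximalIdeal S) :
    ∀ x ∈ m, ∃ s, s ∉ m ∧ s * x ∈ Ideal.map φ n ⊔ m ^ 2 := by
  intro x hx
  apply exists_mul_mem_of_algebraMap_mem_map (S := S) m
  rw [Ideal.map_sup, Ideal.map_pow, Ideal.map_map, ← hcomm, ← Ideal.map_map,
    IsLocalization.AtPrime.map_eq_maximalIdeal n S', IsLocalization.AtPrime.map_eq_maximalIdeal m S,
    h, ← IsLocalization.AtPrime.map_eq_maximalIdeal m S]
  exact Ideal.mem_map_of_mem _ hx

/-- The key algebra statement. -/
theorem surjective_of_finite {k A B : Type*} [Field k] [IsAlgClosed k] [CommRing A] [CommRing B]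
    (ψ : k →+* B) (φ : B →+* A) (hft : (φ.comp ψ).FiniteType) (hfin : φ.Finite)
    (hinj : ∀ m m' : Ideal A, m.IsMaximal → m'.IsMaximal → m.comap φ = m'.comap φ → m = m')
    (hcot : ∀ m : Ideal A, m.IsMaximal → ∀ x ∈ m, ∃ s, s ∉ m ∧
      s * x ∈ Ideal.map φ (m.comap φ) ⊔ m ^ 2) :
    Function.Surjective φ := by
  let _ : Algebra B A := φ.toAlgebra
  let _ : Algebra k A := (φ.comp ψ).toAlgebra
  have : Module.Finite B A := hfin
  have : Algebra.FiniteType k A := hft
  have : IsNoetherianRing A := Algebra.FiniteType.isNoetherianRing k A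
  have key : LinearMap.range (Algebra.linearMap B A) = ⊤ := by
    apply range_eq_top_of_forall_maximal
    intro n hn
    rw [Ideal.smul_top_eq_map]
    set J : Ideal A := Ideal.map (algebraMap B A) n with hJ
    by_cases hJtop : J = ⊤
    · rw [hJtop]
      intro a _
      exact Submodule.mem_sup_right (by simp)
    obtain ⟨m, hm, hJm⟩ := Ideal.exists_le_maximal J hJtop
    have hcomap : ∀ m' : Ideal A, m'.IsMaximal → J ≤ m' → m'.comap φ = n := by
      intro m' hm' hle
      have h1 : n ≤ m'.comap φ := Ideal.map_le_iff_le_comap.mp hle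
      exact (hn.eq_of_le (Ideal.comap_ne_top φ hm'.ne_top) h1).symm
    have hjac : Ideal.jacobson J = m := by
      apply le_antisymm
      · exact sInf_le ⟨hJm, hm⟩
      · refine le_sInf ?_
        rintro m' ⟨hle, hm'⟩
        rw [hinj m m' hm hm' ((hcomap m hm hJm).trans (hcomap m' hm' hle).symm)]
    have hmle : m ≤ J ⊔ m • m := by
      intro x hx
      obtain ⟨s, hs, hsx⟩ := hcot m hm x hx
      rw [hcomap m hm hJm] at hsx
      have hJ' : m ^ 2 ≤ J ⊔ m ^ 2 := le_sup_right
      have := mem_of_mul_mem_of_sq_le (m := m) hJ' hx hs hsx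
      rwa [pow_two] at this
    have hmJ : m ≤ J := by
      have h := Submodule.sup_smul_eq_sup_smul_of_le_smul_of_le_jacobson (I := m) (J := J)
        (N := J) (N' := m) (IsNoetherian.noetherian m) hjac.ge hmle
      have h2 : J ⊔ J • m ≤ J := sup_le le_rfl (Ideal.mul_le_left (I := J) (J := m))
      calc m ≤ J ⊔ m • m := hmle
        _ = J ⊔ J • m := h
        _ ≤ J := h2
    intro a _
    obtain ⟨c, hc⟩ := exists_sub_algebraMap_mem (k := k) m a
    have : a = algebraMap B A (ψ c) + (a - algebraMap k A c) := by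
      have : algebraMap k A c = algebraMap B A (ψ c) := rfl
      rw [this]; ring
    rw [this]
    exact Submodule.add_mem _ (Submodule.mem_sup_left ⟨ψ c, rfl⟩)
      (Submodule.mem_sup_right (hmJ hc))
  intro a
  have : a ∈ LinearMap.range (Algebra.linearMap B A) := key ▸ Submodule.mem_top
  obtain ⟨b, hb⟩ := this
  exact ⟨b, hb⟩

end Groth.Agent.Lib.Seat68.ClImmAlg
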