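import Mathlib
import Groth.Agent.Lib.Seat68ClImmAlg

/-!
# Seat68: geometric part of the closed-immersion criterion (S10867)
-/

set_option autoImplicit false

namespace Groth.Agent.Lib.Seat68.ClImmGeo

open AlgebraicGeometry CategoryTheory

universe u

/-- In a Jacobson space, if `f` is a closed map injective on closed points, the fibre through a
closed point is that point. -/
lemma preimage_singleton_eq {X Y : Scheme.{u}} (f : X ⟶ Y) [JacobsonSpace X]
    (hclosed : IsClosedMap f.base)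
    (hinj : Set.InjOn f.base {x : X | IsClosed ({x} : Set X)}) (x : X)
    (hx : IsClosed ({x} : Set X)) :
    f.base ⁻¹' {f.base x} = {x} := by
  have hy : IsClosed ({f.base x} : Set Y) := by simpa using hclosed _ hx
  have hZ : IsClosed (f.base ⁻¹' {f.base x}) := hy.preimage f.continuous
  refine Set.Subset.antisymm ?_ (by simp)
  intro z hz
  by_contra hzx
  have hW : IsLocallyClosed (f.base ⁻¹' {f.base x} ∩ ({x} : Set X)ᶜ) :=
    hZ.isLocallyClosed.inter hx.isOpen_compl.isLocallyClosed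
  obtain ⟨w, ⟨hw1, hw2⟩, hw3⟩ := nonempty_inter_closedPoints
    (Z := f.base ⁻¹' {f.base x} ∩ ({x} : Set X)ᶜ) ⟨z, hz, hzx⟩ hW
  exact hw2 (hinj hw3 hx hw1)

/-- Quasi-finiteness at closed points whose fibre is a point. -/
lemma quasiFiniteAt_of_preimage_eq {X Y : Scheme.{u}} (f : X ⟶ Y) [LocallyOfFiniteType f] (x : X)
    (h : f.base ⁻¹' {f.base x} = {x}) : f.QuasiFiniteAt x := by
  rw [Scheme.Hom.quasiFiniteAt_iff_isOpen_singleton_asFiber]
  rw [← (f.fiberHomeo (f x)).isOpen_image]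
  have : Subsingleton (f ⁻¹' {f x}) := by
    constructor
    rintro ⟨a, ha⟩ ⟨b, hb⟩
    have ha' : a ∈ ({x} : Set X) := h ▸ ha
    have hb' : b ∈ ({x} : Set X) := h ▸ hb
    simp only [Set.mem_singleton_iff] at ha' hb'
    subst ha' hb'
    rfl
  exact isOpen_discrete _

/-- A proper morphism between schemes locally of finite type over a field, injective on closed
points, is finite. -/
theorem isFinite_of_injOn_closedPoints {X Y : Scheme.{u}} (f : X ⟶ Y) [JacobsonSpace X]
    [IsProper f]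
    (hinj : Set.InjOn f.base {x : X | IsClosed ({x} : Set X)}) : IsFinite f := by
  have hclosed : IsClosedMap f.base := f.isClosedMap
  have hloc : f.quasiFiniteLocus = ⊤ := by
    rw [eq_top_iff]
    intro z _
    by_contra hz
    have hW : IsLocallyClosed ((f.quasiFiniteLocus : Set X)ᶜ) :=
      f.quasiFiniteLocus.2.isClosed_compl.isLocallyClosed
    obtain ⟨w, hw1, hw2⟩ := nonempty_inter_closedPoints
      (Z := (f.quasiFiniteLocus : Set X)ᶜ) ⟨z, hz⟩ hW
    exact hw1 (quasiFiniteAt_of_preimage_eq f w (preimage_singleton_eq f hclosed hinj w hw2))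
  have : LocallyQuasiFinite f := (Scheme.Hom.quasiFiniteLocus_eq_top_iff f).mp hloc
  exact IsFinite.of_isProper_of_locallyQuasiFinite f


/-- A maximal ideal of an affine open of a Jacobson scheme is a closed point. -/
lemma exists_closed_point_of_isMaximal {X : Scheme.{u}} [JacobsonSpace X] {V : X.Opens}
    (hV : IsAffineOpen V) (m : Ideal Γ(X, V)) (hm : m.IsMaximal) :
    ∃ (x : X) (hx : x ∈ V), IsClosed ({x} : Set X) ∧ (hV.primeIdealOf ⟨x, hx⟩).asIdeal = m := by
  let p : Spec Γ(X, V) := ⟨m, hm.isPrime⟩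
  have hxV : hV.fromSpec p ∈ V := by
    have : hV.fromSpec p ∈ Set.range hV.fromSpec := ⟨p, rfl⟩
    rwa [hV.range_fromSpec] at this
  refine ⟨hV.fromSpec p, hxV, ?_, ?_⟩
  · have hp : p ∈ closedPoints (Spec Γ(X, V)) :=
      (PrimeSpectrum.isClosed_singleton_iff_isMaximal p).mpr hm
    have h1 := hV.fromSpec.isOpenEmbedding.preimage_closedPoints
    have h2 : p ∈ hV.fromSpec ⁻¹' closedPoints X := h1 ▸ hp
    exact h2
  · have h1 : hV.fromSpec (hV.primeIdealOf ⟨hV.fromSpec p, hxV⟩) = hV.fromSpec p :=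
      hV.fromSpec_primeIdealOf _
    have h2 := hV.fromSpec.isOpenEmbedding.injective h1
    rw [h2]

set_option backward.isDefEq.respectTransparency false in
/-- Surjectivity on sections over affine opens. -/
theorem app_surjective (k : Type u) [Field k] [IsAlgClosed k] {X Y : Scheme.{u}} (f : X ⟶ Y)
    (q : Y ⟶ Spec (CommRingCat.of k)) [LocallyOfFiniteType q] [LocallyOfFiniteType (f ≫ q)]
    [IsFinite f]
    (hinj : Set.InjOn f.base {x : X | IsClosed ({x} : Set X)})
    (hT : ∀ x : X, IsClosed ({x} : Set X) →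
      Ideal.map (f.stalkMap x).hom (IsLocalRing.maximalIdeal (Y.presheaf.stalk (f.base x))) ⊔
        IsLocalRing.maximalIdeal (X.presheaf.stalk x) ^ 2 =
          IsLocalRing.maximalIdeal (X.presheaf.stalk x))
    (U : Y.Opens) (hU : IsAffineOpen U) : Function.Surjective (f.app U).hom := by
  have : JacobsonSpace X := LocallyOfFiniteType.jacobsonSpace (f ≫ q)
  have hV : IsAffineOpen (f ⁻¹ᵁ U) := hU.preimage f
  let ψ : k →+* Γ(Y, U) :=
    (q.appLE ⊤ U le_top).hom.comp (Scheme.ΓSpecIso (CommRingCat.of k)).inv.hom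
  apply ClImmAlg.surjective_of_finite (k := k) ψ (f.app U).hom
  · have h1 : ((f ≫ q).appLE ⊤ (f ⁻¹ᵁ U) le_top).hom.FiniteType :=
      (f ≫ q).finiteType_appLE (isAffineOpen_top _) hV _
    have h2 : (f ≫ q).appLE ⊤ (f ⁻¹ᵁ U) le_top = q.appLE ⊤ U le_top ≫ f.app U := by
      rw [Scheme.Hom.app_eq_appLE, Scheme.Hom.appLE_comp_appLE]
    have h3 : (Scheme.ΓSpecIso (CommRingCat.of k)).inv.hom.FiniteType :=
      RingHom.FiniteType.of_surjective _ (ConcreteCategory.bijective_of_isIso _).2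
    rw [h2] at h1
    exact h1.comp h3
  · exact IsFinite.finite_app f U hU
  · intro m m' hm hm' hmm'
    obtain ⟨x, hx, hxc, rfl⟩ := exists_closed_point_of_isMaximal hV m hm
    obtain ⟨x', hx', hxc', rfl⟩ := exists_closed_point_of_isMaximal hV m' hm'
    have e1 := IsAffineOpen.comap_primeIdealOf_appLE U hU (f ⁻¹ᵁ U) hV le_rfl hx
    have e2 := IsAffineOpen.comap_primeIdealOf_appLE U hU (f ⁻¹ᵁ U) hV le_rfl hx'
    have e3 : hU.primeIdealOf ⟨f x, hx⟩ = hU.primeIdealOf ⟨f x', hx'⟩ := by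
      rw [← e1, ← e2]
      ext1
      simpa [Scheme.Hom.app_eq_appLE] using hmm'
    have e4 := congrArg hU.fromSpec e3
    rw [hU.fromSpec_primeIdealOf, hU.fromSpec_primeIdealOf] at e4
    have e5 := hinj hxc hxc' e4
    subst e5
    rfl
  · intro m hm
    obtain ⟨x, hx, hxc, rfl⟩ := exists_closed_point_of_isMaximal hV m hm
    let _ := X.presheaf.algebra_section_stalk ⟨x, hx⟩
    let _ := Y.presheaf.algebra_section_stalk ⟨f x, hx⟩
    have := hV.isLocalization_stalk ⟨x, hx⟩
    have := hU.isLocalization_stalk ⟨f x, hx⟩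
    have e1 := IsAffineOpen.comap_primeIdealOf_appLE U hU (f ⁻¹ᵁ U) hV le_rfl hx
    have e2 : Ideal.comap (f.app U).hom (hV.primeIdealOf ⟨x, hx⟩).asIdeal =
        (hU.primeIdealOf ⟨f x, hx⟩).asIdeal := by
      rw [← e1, Scheme.Hom.app_eq_appLE]
      rfl
    rw [e2]
    refine ClImmAlg.cotangent_translate (S' := Y.presheaf.stalk (f x)) (S := X.presheaf.stalk x)
      (hU.primeIdealOf ⟨f x, hx⟩).asIdeal (hV.primeIdealOf ⟨x, hx⟩).asIdeal (f.app U).hom
      (f.stalkMap x).hom ?_ (hT x hxc)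
    change (f.stalkMap x).hom.comp (Y.presheaf.germ U (f x) hx).hom =
      (X.presheaf.germ (f ⁻¹ᵁ U) x hx).hom.comp (f.app U).hom
    rw [← CommRingCat.hom_comp, ← CommRingCat.hom_comp, Scheme.Hom.germ_stalkMap]

end Groth.Agent.Lib.Seat68.ClImmGeo
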