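import Groth.Prelude.Def_CAlg2
import Groth.Agent.Lib.Helper4Unibranch
import Mathlib

/-!
# Geometric unibranchness through field-valued points (seat 68)

* `UniqExt φ` : for `φ : B →+* C` with `B` local, a field-valued point of `C` lying over the closed
  point of `B` is determined by its restriction to `B`.
* `uniqExt_iff` : for `C` integral over `B`, `UniqExt` says `C` is local with purely inseparable
  residue field (`PowMem`).
* `isGeomUnibranch_iff_of_model` : `IsGeomUnibranch A` through any model `(D, K, N)` of the reduction,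
  its fraction field and the normalisation.
-/

set_option autoImplicit false
set_option linter.style.haveILetI false
universe u

namespace Groth.Agent.Lib.Seat68.GUnibr

open Groth.Agent.Lib.Helper4.Unibranch Groth.Agent.Lib.Helper4.Branches IsLocalRing

attribute [local instance] fieldQuotMax

/-- Field-valued points of `C` over the closed point of `B` are determined by their restriction. -/
def UniqExt {B C : Type u} [CommRing B] [IsLocalRing B] [CommRing C] (φ : B →+* C) : Prop :=
  ∀ (Ω : Type u) [Field Ω] (τ₁ τ₂ : C →+* Ω), τ₁.comp φ = τ₂.comp φ →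
    maximalIdeal B ≤ RingHom.ker (τ₁.comp φ) → τ₁ = τ₂

theorem uniqExt_iff {B C : Type u} [CommRing B] [IsLocalRing B] [CommRing C] [Algebra B C]
    [Algebra.IsIntegral B C] [Nontrivial C] :
    UniqExt (algebraMap B C) ↔ IsLocalRing C ∧ PowMem (algebraMap B C) := by
  constructor
  · intro H
    apply isLocalRing_and_powMem_of_unique
    intro τ₁ τ₂ h₁ h₂
    refine H _ τ₁ τ₂ (h₁.trans h₂.symm) ?_
    rw [h₁]
    intro b hb
    rw [RingHom.mem_ker]
    simp only [toAlgClosure, RingHom.comp_apply]
    rw [Ideal.Quotient.eq_zero_iff_mem.mpr hb, map_zero]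
  · rintro ⟨hl, hP⟩ Ω _ τ₁ τ₂ h hk
    haveI := hl
    refine ringHom_ext_of_powMem hP τ₁ τ₂ h ?_
    exact ((maximalIdeal.isMaximal B).eq_of_le (RingHom.ker_ne_top _) hk).symm

/-- `IsGeomUnibranch A` read off from a model: `D ≅ A_red` a domain, `K` its fraction field and `N`
the integral closure of `D` in `K`. -/
theorem isGeomUnibranch_iff_of_model (A : Type u) [CommRing A] [IsLocalRing A]
    (D : Type u) [CommRing D] [IsDomain D] (π : A →+* D) (hπ : Function.Surjective π)
    (hker : RingHom.ker π = nilradical A)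
    (K : Type u) [Field K] [Algebra D K] [IsFractionRing D K]
    (N : Type u) [CommRing N] [Algebra D N] [Algebra N K] [IsScalarTower D N K]
    [IsIntegralClosure N D K] :
    CAlg2.IsGeomUnibranch A ↔ IsLocalRing N ∧ PowMem ((algebraMap D N).comp π) := by
  let e₀ : CAlg2.red A ≃+* D :=
    (Ideal.quotEquivOfEq hker.symm).trans (RingHom.quotientKerEquivOfSurjective hπ)
  have he₀ : ∀ a : A, e₀ (Ideal.Quotient.mk _ a) = π a := fun a => rfl
  let Ψ₁ : CAlg2.normRed A ≃+* integralClosure D (FractionRing D) := normalizationEquiv e₀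
  let Ψ₂ : integralClosure D (FractionRing D) ≃ₐ[D] integralClosure D K :=
    (FractionRing.algEquiv D K).mapIntegralClosure
  let Ψ₃ : integralClosure D K ≃ₐ[D] N := IsIntegralClosure.equiv D (integralClosure D K) K N
  let Ψ : CAlg2.normRed A ≃+* N := Ψ₁.trans (Ψ₂.trans Ψ₃).toRingEquiv
  have hg : ∀ a, Ψ (algebraMap (CAlg2.red A) (CAlg2.normRed A) (Ideal.Quotient.mk _ a)) =
      ((algebraMap D N).comp π) a := by
    intro a
    show (Ψ₂.trans Ψ₃) (Ψ₁ _) = _
    rw [show Ψ₁ (algebraMap (CAlg2.red A) (CAlg2.normRed A) (Ideal.Quotient.mk _ a)) =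
      algebraMap D _ (e₀ (Ideal.Quotient.mk _ a)) from normalizationEquiv_algebraMap e₀ _, he₀]
    exact (Ψ₂.trans Ψ₃).commutes (π a)
  rw [isGeomUnibranch_iff_of_ringEquiv A Ψ _ hg]
  exact ⟨fun h => h.2, fun h => ⟨e₀.toMulEquiv.isDomain D, h⟩⟩

end Groth.Agent.Lib.Seat68.GUnibr
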