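import Groth.Agent.Lib.Seat68GUnibrA
import Groth.Agent.S5863

/-!
# Radiciality of `Spec φ` at the closed point through field-valued points (seat 68)

`isRadicialAt_specMap_closedPoint_iff` : for `φ : B →+* C` with `B` local,
`Spec φ` is radicial at the closed point of `Spec B` iff `UniqExt φ`.
-/

set_option autoImplicit false
set_option linter.style.haveILetI false
universe u

namespace Groth.Agent.Lib.Seat68.GUnibr

open CategoryTheory AlgebraicGeometry Limits TensorProduct IsLocalRing
open Groth.Agent.Lib.Helper4.Unibranch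

theorem specMap_residue_apply {B : Type u} [CommRing B] [IsLocalRing B]
    (z : Spec (CommRingCat.of (ResidueField B))) :
    (Spec.map (CommRingCat.ofHom (algebraMap B (ResidueField B)))) z = closedPoint B := by
  apply PrimeSpectrum.ext
  change Ideal.comap (algebraMap B (ResidueField B)) z.asIdeal = maximalIdeal B
  have hz : z.asIdeal = ⊥ := by
    have := Ideal.eq_bot_or_top z.asIdeal
    rcases this with h | h
    · exact h
    · exact absurd h z.isPrime.ne_top
  rw [hz, ← RingHom.ker_eq_comap_bot]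
  exact IsLocalRing.ker_residue (R := B)

theorem isRadicialAt_iff_universallyInjective_of_subsingleton {X Y : Scheme.{u}} (f : X ⟶ Y)
    [Subsingleton Y] (y : Y) : RadPt.IsRadicialAt f y ↔ UniversallyInjective f :=
  ⟨fun h => Groth.Agent.S5863.universallyInjective_of_isRadicialAt f
      (fun y' => by rw [Subsingleton.elim y' y]; exact h),
    fun h => haveI := h; Groth.Agent.S5863.isRadicialAt_of_universallyInjective f y⟩

theorem isRadicialAt_specMap_closedPoint_iff {B C : Type u} [CommRing B] [IsLocalRing B]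
    [CommRing C] (φ : B →+* C) :
    RadPt.IsRadicialAt (Spec.map (CommRingCat.ofHom φ)) (closedPoint B) ↔ UniqExt φ := by
  letI : Algebra B C := φ.toAlgebra
  have hφ : algebraMap B C = φ := rfl
  let κ := ResidueField B
  let T := κ ⊗[B] C
  let iL : κ →+* T := Algebra.TensorProduct.includeLeftRingHom
  let iR : C →+* T := (Algebra.TensorProduct.includeRight : C →ₐ[B] T).toRingHom
  have sq : IsPullback (Spec.map (CommRingCat.ofHom iR)) (Spec.map (CommRingCat.ofHom iL))
      (Spec.map (CommRingCat.ofHom (algebraMap B C)))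
      (Spec.map (CommRingCat.ofHom (algebraMap B κ))) :=
    (isPullback_SpecMap_of_isPushout _ _ _ _ (CommRingCat.isPushout_tensorProduct B κ C)).flip
  have hcomm : ∀ b : B, iR (φ b) = iL (algebraMap B κ b) := by
    intro b
    change (1 : κ) ⊗ₜ[B] (algebraMap B C b) = (algebraMap B κ b) ⊗ₜ[B] (1 : C)
    rw [Algebra.algebraMap_eq_smul_one, Algebra.algebraMap_eq_smul_one, TensorProduct.tmul_smul,
      TensorProduct.smul_tmul']
  haveI : Subsingleton (Spec (CommRingCat.of κ)) :=
    inferInstanceAs (Subsingleton (PrimeSpectrum κ))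
  let z₀ : Spec (CommRingCat.of κ) := (⊥ : PrimeSpectrum κ)
  have h1 := Groth.Agent.S5863.result sq z₀
  rw [specMap_residue_apply z₀, hφ] at h1
  rw [h1, isRadicialAt_iff_universallyInjective_of_subsingleton,
    universallyInjective_specMap_iff]
  constructor
  · intro H Ω _ τ₁ τ₂ h hk
    let σ : B →+* Ω := τ₁.comp φ
    let σbar : κ →+* Ω := Ideal.Quotient.lift (maximalIdeal B) σ (fun b hb => hk hb)
    have hσbar : ∀ b, σbar (algebraMap B κ b) = σ b := fun b => rfl
    letI : Algebra B Ω := σ.toAlgebra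
    let σA : κ →ₐ[B] Ω := { σbar with commutes' := fun b => hσbar b }
    let τA₁ : C →ₐ[B] Ω := { τ₁ with commutes' := fun b => rfl }
    let τA₂ : C →ₐ[B] Ω := { τ₂ with
      commutes' := fun b => (congrArg (fun f : B →+* Ω => f b) h).symm }
    let g₁ : T →ₐ[B] Ω := Algebra.TensorProduct.lift σA τA₁ (fun _ _ => Commute.all _ _)
    let g₂ : T →ₐ[B] Ω := Algebra.TensorProduct.lift σA τA₂ (fun _ _ => Commute.all _ _)
    have hg : (g₁ : T →+* Ω).comp iL = (g₂ : T →+* Ω).comp iL := by
      ext a
      change g₁ (a ⊗ₜ 1) = g₂ (a ⊗ₜ 1)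
      have e1 : g₁ (a ⊗ₜ[B] (1 : C)) = σA a * τA₁ 1 := Algebra.TensorProduct.lift_tmul _ _ _ _ _
      have e2 : g₂ (a ⊗ₜ[B] (1 : C)) = σA a * τA₂ 1 := Algebra.TensorProduct.lift_tmul _ _ _ _ _
      rw [e1, e2, map_one, map_one]
    have h12 : (g₁ : T →+* Ω) = g₂ := H Ω hg
    ext c
    have := congrArg (fun f : T →+* Ω => f ((1 : κ) ⊗ₜ[B] c)) h12
    change g₁ ((1 : κ) ⊗ₜ[B] c) = g₂ ((1 : κ) ⊗ₜ[B] c) at this
    have e1 : g₁ ((1 : κ) ⊗ₜ[B] c) = σA 1 * τA₁ c := Algebra.TensorProduct.lift_tmul _ _ _ _ _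
    have e2 : g₂ ((1 : κ) ⊗ₜ[B] c) = σA 1 * τA₂ c := Algebra.TensorProduct.lift_tmul _ _ _ _ _
    rw [e1, e2, map_one, one_mul, one_mul] at this
    exact this
  · intro H Ω _ g₁ g₂ hg
    change g₁.comp iL = g₂.comp iL at hg
    have hτ : (g₁.comp iR).comp φ = (g₂.comp iR).comp φ := by
      ext b
      simp only [RingHom.comp_apply]
      rw [hcomm]
      exact congrArg (fun f : κ →+* Ω => f (algebraMap B κ b)) hg
    have hk : maximalIdeal B ≤ RingHom.ker ((g₁.comp iR).comp φ) := by
      intro b hb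
      rw [RingHom.mem_ker]
      simp only [RingHom.comp_apply]
      rw [hcomm]
      have : algebraMap B κ b = 0 := by
        change residue B b = 0
        rwa [residue_eq_zero_iff]
      rw [this, map_zero, map_zero]
    have h12 := H Ω (g₁.comp iR) (g₂.comp iR) hτ hk
    refine RingHom.ext fun t => ?_
    induction t using TensorProduct.induction_on with
    | zero => simp
    | tmul a c =>
      have e : a ⊗ₜ[B] c = iL a * iR c := by
        change a ⊗ₜ[B] c = (a ⊗ₜ[B] (1 : C)) * ((1 : κ) ⊗ₜ[B] c)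
        rw [Algebra.TensorProduct.tmul_mul_tmul, mul_one, one_mul]
      rw [e, map_mul, map_mul]
      congr 1
      · exact congrArg (fun f : κ →+* Ω => f a) hg
      · exact congrArg (fun f : C →+* Ω => f c) h12
    | add x y hx hy => rw [map_add, map_add, hx, hy]

end Groth.Agent.Lib.Seat68.GUnibr
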