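import Groth.Agent.Lib.Seat68GUnibrB
import Groth.Agent.S5862

/-!
# Geometric unibranchness along an integral birational extension of a local ring (seat 68)

`isGeomUnibranch_iff_of_integral` : `B` local, `C` integral over `B`, both with prime nilradical,
`B_red → C_red` injective with the same fraction field.  Then `B` is geometrically unibranch iff
`Spec C → Spec B` is radicial at the closed point and `C` (then local) is geometrically unibranch.
-/

set_option autoImplicit false
set_option linter.style.haveILetI false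
universe u

namespace Groth.Agent.Lib.Seat68.GUnibr

open CategoryTheory AlgebraicGeometry Limits IsLocalRing
open Groth.Agent.Lib.Helper4.Unibranch

/-- integral ring maps send the closed point to the closed point -/
theorem specMap_closedPoint_of_isIntegral {R S : Type u} [CommRing R] [CommRing S] [IsLocalRing R]
    [IsLocalRing S] (φ : R →+* S) (hφ : φ.IsIntegral) :
    (Spec.map (CommRingCat.ofHom φ)) (closedPoint S) = closedPoint R := by
  apply PrimeSpectrum.ext
  change Ideal.comap φ (maximalIdeal S) = maximalIdeal R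
  exact eq_maximalIdeal (Ideal.isMaximal_comap_of_isIntegral_of_isMaximal' φ hφ _)

/-- a point over the closed point under an integral ring map is the closed point -/
theorem eq_closedPoint_of_isIntegral {R S : Type u} [CommRing R] [CommRing S] [IsLocalRing R]
    [IsLocalRing S] (φ : R →+* S) (hφ : φ.IsIntegral) (w : Spec (CommRingCat.of S))
    (hw : (Spec.map (CommRingCat.ofHom φ)) w = closedPoint R) : w = closedPoint S := by
  apply PrimeSpectrum.ext
  change w.asIdeal = maximalIdeal S
  have h1 : Ideal.comap φ w.asIdeal = maximalIdeal R := congrArg PrimeSpectrum.asIdeal hw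
  haveI := w.isPrime
  have h2 : (Ideal.comap φ w.asIdeal).IsMaximal := h1 ▸ maximalIdeal.isMaximal R
  exact eq_maximalIdeal (Ideal.isMaximal_of_isIntegral_of_isMaximal_comap' φ hφ _ h2)

/-- an integral ring map whose kernel consists of nilpotents is surjective on spectra -/
theorem surjective_specMap_of_isIntegral {R S : Type u} [CommRing R] [CommRing S] (φ : R →+* S)
    (hφ : φ.IsIntegral) (hker : RingHom.ker φ ≤ nilradical R) :
    Surjective (Spec.map (CommRingCat.ofHom φ)) := by
  refine ⟨fun x => ?_⟩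
  letI : Algebra R S := φ.toAlgebra
  haveI : Algebra.IsIntegral R S := ⟨hφ⟩
  haveI := x.isPrime
  obtain ⟨Q, -, hQ, hQx⟩ := Ideal.exists_ideal_over_prime_of_isIntegral x.asIdeal (⊥ : Ideal S)
    (by
      rw [← RingHom.ker_eq_comap_bot]
      exact le_trans hker (nilradical_le_prime _))
  exact ⟨⟨Q, hQ⟩, PrimeSpectrum.ext hQx⟩

theorem isLocalRing_of_isRadicialAt {B C : Type u} [CommRing B] [CommRing C] [IsLocalRing B]
    [Algebra B C] [Algebra.IsIntegral B C] [Nontrivial C]
    (h : RadPt.IsRadicialAt (Spec.map (CommRingCat.ofHom (algebraMap B C))) (closedPoint B)) :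
    IsLocalRing C := by
  rw [isRadicialAt_specMap_closedPoint_iff, uniqExt_iff] at h
  exact h.1

theorem div_eq_mul_mul_div_aux {K : Type*} [Field K] (a₁ a₂ u₁ u₂ : K) (h₁ : u₁ ≠ 0) (h₂ : u₂ ≠ 0)
    (h₃ : a₂ ≠ 0) : a₁ / a₂ = u₁ * a₁ * u₂ / (u₁ * (u₂ * a₂)) := by
  field_simp

set_option backward.isDefEq.respectTransparency false in
theorem isGeomUnibranch_iff_of_integral {B C : Type u} [CommRing B] [CommRing C] [IsLocalRing B]
    [Algebra B C] [Algebra.IsIntegral B C]
    (hB : (nilradical B).IsPrime) (hC : (nilradical C).IsPrime)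
    (hinj : ∀ b : B, algebraMap B C b ∈ nilradical C → b ∈ nilradical B)
    (hfrac : ∀ c : C, ∃ b b' : B, b ∉ nilradical B ∧
      algebraMap B C b * c - algebraMap B C b' ∈ nilradical C) :
    CAlg2.IsGeomUnibranch B ↔
      RadPt.IsRadicialAt (Spec.map (CommRingCat.ofHom (algebraMap B C))) (closedPoint B) ∧
        ∀ (_ : IsLocalRing C), CAlg2.IsGeomUnibranch C := by
  classical
  haveI := hB
  haveI := hC
  let DB := CAlg2.red B
  let DC := CAlg2.red C
  haveI : IsDomain DB := Ideal.Quotient.isDomain (nilradical B)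
  haveI : IsDomain DC := Ideal.Quotient.isDomain (nilradical C)
  haveI : Nontrivial C :=
    ⟨⟨0, 1, fun h01 => hC.ne_top ((Ideal.eq_top_iff_one _).mpr (h01 ▸ Ideal.zero_mem _))⟩⟩
  have hle : nilradical B ≤ (nilradical C).comap (algebraMap B C) := fun b hb =>
    mem_nilradical.mpr ((mem_nilradical.mp hb).map _)
  let ψ : DB →+* DC := Ideal.quotientMap (nilradical C) (algebraMap B C) hle
  have hψmk : ∀ b : B, ψ (Ideal.Quotient.mk _ b) = Ideal.Quotient.mk _ (algebraMap B C b) :=
    fun b => rfl
  have hψ : Function.Injective ψ := Ideal.quotientMap_injective' (fun b hb => hinj b hb)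
  let K := FractionRing DC
  let N := integralClosure DC K
  letI algDBDC : Algebra DB DC := ψ.toAlgebra
  letI algDBN : Algebra DB N := ((algebraMap DC N).comp ψ).toAlgebra
  haveI : IsScalarTower DB DC N := IsScalarTower.of_algebraMap_eq (fun _ => rfl)
  haveI : IsScalarTower DB N K :=
    IsScalarTower.of_algebraMap_eq (fun x => IsScalarTower.algebraMap_apply DB DC K x)
  -- integrality of `DC` over `DB`
  haveI hintDBDC : Algebra.IsIntegral DB DC := by
    refine ⟨fun x => ?_⟩
    obtain ⟨c, rfl⟩ := Ideal.Quotient.mk_surjective x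
    have hc : IsIntegral B c := Algebra.IsIntegral.isIntegral c
    obtain ⟨p, hp, hpc⟩ := hc
    refine ⟨p.map (Ideal.Quotient.mk (nilradical B)), hp.map _, ?_⟩
    rw [Polynomial.eval₂_map]
    have : (algebraMap DB DC).comp (Ideal.Quotient.mk (nilradical B)) =
        (Ideal.Quotient.mk (nilradical C)).comp (algebraMap B C) := by
      ext b; rfl
    rw [this, ← Polynomial.hom_eval₂, hpc, map_zero]
  -- `K` is the fraction field of `DB`
  have hinjK : Function.Injective (algebraMap DB K) := by
    rw [IsScalarTower.algebraMap_eq DB DC K]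
    exact (IsFractionRing.injective DC K).comp hψ
  haveI : FaithfulSMul DB K := (faithfulSMul_iff_algebraMap_injective DB K).mpr hinjK
  haveI : IsFractionRing DB K := by
    refine IsFractionRing.of_field DB K (fun z => ?_)
    obtain ⟨c₁, c₂, hc₂, rfl⟩ := IsFractionRing.div_surjective (A := DC) z
    obtain ⟨t₁, rfl⟩ := Ideal.Quotient.mk_surjective c₁
    obtain ⟨t₂, rfl⟩ := Ideal.Quotient.mk_surjective c₂
    obtain ⟨b₁, b₁', hb₁, r₁⟩ := hfrac t₁
    obtain ⟨b₂, b₂', hb₂, r₂⟩ := hfrac t₂
    have r₁' : ψ (Ideal.Quotient.mk _ b₁) * Ideal.Quotient.mk _ t₁ = ψ (Ideal.Quotient.mk _ b₁') := by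
      rw [hψmk, hψmk, ← map_mul, ← sub_eq_zero, ← map_sub]
      exact Ideal.Quotient.eq_zero_iff_mem.mpr r₁
    have r₂' : ψ (Ideal.Quotient.mk _ b₂) * Ideal.Quotient.mk _ t₂ = ψ (Ideal.Quotient.mk _ b₂') := by
      rw [hψmk, hψmk, ← map_mul, ← sub_eq_zero, ← map_sub]
      exact Ideal.Quotient.eq_zero_iff_mem.mpr r₂
    have hβ₁ : (Ideal.Quotient.mk (nilradical B) b₁) ≠ 0 := fun h =>
      hb₁ (Ideal.Quotient.eq_zero_iff_mem.mp h)
    have hβ₂ : (Ideal.Quotient.mk (nilradical B) b₂) ≠ 0 := fun h =>
      hb₂ (Ideal.Quotient.eq_zero_iff_mem.mp h)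
    have ht₂ : (Ideal.Quotient.mk (nilradical C) t₂) ≠ 0 := nonZeroDivisors.ne_zero hc₂
    have e₁ : algebraMap DB K (Ideal.Quotient.mk _ b₁) * algebraMap DC K (Ideal.Quotient.mk _ t₁) =
        algebraMap DB K (Ideal.Quotient.mk _ b₁') := by
      rw [IsScalarTower.algebraMap_apply DB DC K, IsScalarTower.algebraMap_apply DB DC K, ← map_mul]
      exact congrArg (algebraMap DC K) r₁'
    have e₂ : algebraMap DB K (Ideal.Quotient.mk _ b₂) * algebraMap DC K (Ideal.Quotient.mk _ t₂) =
        algebraMap DB K (Ideal.Quotient.mk _ b₂') := by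
      rw [IsScalarTower.algebraMap_apply DB DC K, IsScalarTower.algebraMap_apply DB DC K, ← map_mul]
      exact congrArg (algebraMap DC K) r₂'
    have hu₁0 : algebraMap DB K (Ideal.Quotient.mk _ b₁) ≠ 0 := (map_ne_zero_iff _ hinjK).mpr hβ₁
    have hu₂0 : algebraMap DB K (Ideal.Quotient.mk _ b₂) ≠ 0 := (map_ne_zero_iff _ hinjK).mpr hβ₂
    have ha₂0 : algebraMap DC K (Ideal.Quotient.mk _ t₂) ≠ 0 :=
      (map_ne_zero_iff _ (IsFractionRing.injective DC K)).mpr ht₂
    refine ⟨Ideal.Quotient.mk _ b₁' * Ideal.Quotient.mk _ b₂,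
      Ideal.Quotient.mk _ b₁ * Ideal.Quotient.mk _ b₂', ?_⟩
    rw [map_mul, map_mul, ← e₁, ← e₂]
    exact div_eq_mul_mul_div_aux _ _ _ _ hu₁0 hu₂0 ha₂0
  -- `N` is the integral closure of `DB` in `K`
  haveI : IsIntegralClosure N DB K :=
    { algebraMap_injective := Subtype.val_injective
      isIntegral_iff := by
        intro x
        constructor
        · intro hx
          exact ⟨⟨x, IsIntegral.tower_top (A := DC) hx⟩, rfl⟩
        · rintro ⟨y, rfl⟩
          exact isIntegral_trans (R := DB) (A := DC) y.1 y.2 }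
  let gC : C →+* N := (algebraMap DC N).comp (Ideal.Quotient.mk (nilradical C))
  let gB : B →+* N := (algebraMap DB N).comp (Ideal.Quotient.mk (nilradical B))
  have hgBC : gB = gC.comp (algebraMap B C) := by
    ext b; rfl
  have hinjN : Function.Injective (algebraMap DC N) := by
    intro x y hxy
    apply IsFractionRing.injective DC K
    exact congrArg Subtype.val hxy
  -- integrality of `gC`, `gB`
  have hgCint : gC.IsIntegral := by
    refine RingHom.IsIntegral.trans _ _
      (RingHom.isIntegral_of_surjective _ Ideal.Quotient.mk_surjective) ?_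
    exact (algebraMap_isIntegral_iff (R := DC) (A := N)).mpr inferInstance
  have hgBint : gB.IsIntegral := by
    rw [hgBC]
    exact RingHom.IsIntegral.trans _ _ (algebraMap_isIntegral_iff.mpr inferInstance) hgCint
  have hkerC : RingHom.ker gC ≤ nilradical C := by
    intro c hc
    rw [RingHom.mem_ker] at hc
    have : (Ideal.Quotient.mk (nilradical C)) c = 0 := hinjN (hc.trans (map_zero _).symm)
    exact Ideal.Quotient.eq_zero_iff_mem.mp this
  -- characterisations
  have EB : CAlg2.IsGeomUnibranch B ↔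
      RadPt.IsRadicialAt (Spec.map (CommRingCat.ofHom gB)) (closedPoint B) := by
    rw [isGeomUnibranch_iff_of_model B DB (Ideal.Quotient.mk _) Ideal.Quotient.mk_surjective
      Ideal.mk_ker K N, isRadicialAt_specMap_closedPoint_iff]
    letI : Algebra B N := gB.toAlgebra
    haveI : Algebra.IsIntegral B N := ⟨hgBint⟩
    exact (uniqExt_iff (B := B) (C := N)).symm
  have EC : ∀ (hl : IsLocalRing C), CAlg2.IsGeomUnibranch C ↔
      RadPt.IsRadicialAt (Spec.map (CommRingCat.ofHom gC)) (closedPoint C) := by
    intro hl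
    rw [isGeomUnibranch_iff_of_ringEquiv C (RingEquiv.refl (CAlg2.normRed C)) gC (fun _ => rfl),
      isRadicialAt_specMap_closedPoint_iff]
    letI : Algebra C N := gC.toAlgebra
    haveI : Algebra.IsIntegral C N := ⟨hgCint⟩
    have key : UniqExt gC ↔ IsLocalRing N ∧ PowMem gC := uniqExt_iff (B := C) (C := N)
    rw [key]
    exact ⟨fun h => h.2, fun h => ⟨inferInstanceAs (IsDomain DC), h⟩⟩
  have EBC : RadPt.IsRadicialAt (Spec.map (CommRingCat.ofHom (algebraMap B C))) (closedPoint B) →
      IsLocalRing C := by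
    intro h
    rw [isRadicialAt_specMap_closedPoint_iff, uniqExt_iff] at h
    exact h.1
  let f : Spec (CommRingCat.of N) ⟶ Spec (CommRingCat.of C) := Spec.map (CommRingCat.ofHom gC)
  let g : Spec (CommRingCat.of C) ⟶ Spec (CommRingCat.of B) :=
    Spec.map (CommRingCat.ofHom (algebraMap B C))
  have hfg : f ≫ g = Spec.map (CommRingCat.ofHom gB) := by
    rw [hgBC, CommRingCat.ofHom_comp, Spec.map_comp]
  have hBCint : (algebraMap B C).IsIntegral := algebraMap_isIntegral_iff.mpr inferInstance
  constructor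
  · intro hGU
    have hNloc : IsLocalRing N :=
      ((isGeomUnibranch_iff_of_model B DB (Ideal.Quotient.mk _) Ideal.Quotient.mk_surjective
        Ideal.mk_ker K N).mp hGU).1
    have hrad : RadPt.IsRadicialAt (f ≫ g) (closedPoint B) := by rw [hfg]; exact EB.mp hGU
    have hsurj : Surjective f := surjective_specMap_of_isIntegral gC hgCint hkerC
    let w₀ : Spec (CommRingCat.of C) := f (closedPoint N)
    have hw₀ : g w₀ = closedPoint B := by
      have e : (f ≫ g) (closedPoint N) = closedPoint B := by
        rw [hfg]; exact specMap_closedPoint_of_isIntegral gB hgBint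
      exact (Scheme.Hom.comp_apply f g _).symm.trans e
    have h2 := (Groth.Agent.S5862.result f g w₀).2 hsurj (by rw [hw₀]; exact hrad)
    rw [hw₀] at h2
    refine ⟨h2.2, fun hl => ?_⟩
    have hw₀' : w₀ = closedPoint C := eq_closedPoint_of_isIntegral _ hBCint w₀ hw₀
    rw [EC hl, ← hw₀']
    exact h2.1
  · rintro ⟨hg, hGUC⟩
    have hl : IsLocalRing C := EBC hg
    have hf : RadPt.IsRadicialAt f (closedPoint C) := (EC hl).mp (hGUC hl)
    have hgc : g (closedPoint C) = closedPoint B :=
      specMap_closedPoint_of_isIntegral _ hBCint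
    have h1 := (Groth.Agent.S5862.result f g (closedPoint C)).1 hf (by rw [hgc]; exact hg)
    rw [hgc, hfg] at h1
    exact EB.mpr h1

end Groth.Agent.Lib.Seat68.GUnibr
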