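import Groth.Agent.Lib.Seat68GUnibrC
import Groth.Agent.Lib.Seat68BiratA

/-!
# Birational `Spec C → Spec B`: ring-level consequences (seat 68)

For `φ : B →+* C` with `Spec φ` birational (`RadPt.IsBirational`):
* `nilradical B` is prime iff `nilradical C` is prime;
* in that case `φ⁻¹(nil C) = nil B` and every element of `C` is, modulo nilpotents, a fraction of
  elements of `B`.
-/

set_option autoImplicit false
set_option linter.style.haveILetI false
universe u

namespace Groth.Agent.Lib.Seat68.GUnibr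

open CategoryTheory AlgebraicGeometry Limits IsLocalRing
open Groth.Agent.Lib.Seat68.Birat

section GenericPoints

variable (R : Type u) [CommRing R]

theorem mem_genericPoints_spec_iff (x : Spec (CommRingCat.of R)) :
    x ∈ genericPoints (Spec (CommRingCat.of R)) ↔ x.asIdeal ∈ minimalPrimes R := by
  rw [mem_genericPoints_iff]
  constructor
  · intro h
    refine ⟨⟨x.isPrime, bot_le⟩, fun q hq hqx => ?_⟩
    have : (⟨q, hq.1⟩ : PrimeSpectrum R) ⤳ x :=
      (PrimeSpectrum.le_iff_specializes (⟨q, hq.1⟩ : PrimeSpectrum R) x).mp hqx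
    have e := h ⟨q, hq.1⟩ this
    exact (congrArg PrimeSpectrum.asIdeal e).ge
  · intro h z hz
    have hzx : z.asIdeal ≤ x.asIdeal := (PrimeSpectrum.le_iff_specializes z x).mpr hz
    exact PrimeSpectrum.ext (le_antisymm hzx (h.2 ⟨z.isPrime, bot_le⟩ hzx))

variable {R}

theorem eq_nilradical_of_mem_minimalPrimes (hR : (nilradical R).IsPrime) {p : Ideal R}
    (hp : p ∈ minimalPrimes R) : p = nilradical R :=
  le_antisymm (hp.2 ⟨hR, bot_le⟩ (@nilradical_le_prime R _ p hp.1.1))
    (@nilradical_le_prime R _ p hp.1.1)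

theorem nilradical_mem_minimalPrimes (hR : (nilradical R).IsPrime) :
    nilradical R ∈ minimalPrimes R :=
  ⟨⟨hR, bot_le⟩, fun q hq _ => @nilradical_le_prime R _ q hq.1⟩

theorem nilradical_eq_of_forall_minimalPrimes {P : Ideal R} (hP : P ∈ minimalPrimes R)
    (h : ∀ p ∈ minimalPrimes R, p = P) : nilradical R = P := by
  have h1 : sInf (minimalPrimes R) = nilradical R := by
    rw [minimalPrimes, Ideal.sInf_minimalPrimes]
    rfl
  rw [← h1]
  apply le_antisymm
  · exact sInf_le hP
  · exact le_sInf (fun p hp => (h p hp).ge)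

end GenericPoints

section Eval

variable (R : Type u) [CommRing R] (x : Spec (CommRingCat.of R))

theorem asIdeal_isPrime : (PrimeSpectrum.asIdeal x : Ideal R).IsPrime := x.isPrime

attribute [local instance] asIdeal_isPrime

/-- evaluation of an element of `R` in the residue field of `Spec R` at `x` -/
noncomputable def ev : R →+* (Spec (CommRingCat.of R)).residueField x :=
  ((Scheme.ΓSpecIso (CommRingCat.of R)).inv ≫ (Spec (CommRingCat.of R)).Γevaluation x).hom

theorem ev_eq (r : R) :
    ev R x r = (Scheme.Spec.residueFieldIso (CommRingCat.of R) x).inv.hom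
      (algebraMap R x.asIdeal.ResidueField r) := by
  have := Scheme.Spec.algebraMap_residueFieldIso_inv (CommRingCat.of R) x
  exact (congrArg (fun f => f.hom r) this).symm

theorem ev_eq_zero_iff (r : R) : ev R x r = 0 ↔ r ∈ x.asIdeal := by
  rw [ev_eq]
  have hinj : Function.Injective (Scheme.Spec.residueFieldIso (CommRingCat.of R) x).inv.hom :=
    (Scheme.Spec.residueFieldIso (CommRingCat.of R) x).symm.commRingCatIsoToRingEquiv.injective
  rw [map_eq_zero_iff _ hinj]
  exact Ideal.algebraMap_residueField_eq_zero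

theorem exists_ev_mul_eq (z : (Spec (CommRingCat.of R)).residueField x) :
    ∃ r t : R, t ∉ x.asIdeal ∧ z * ev R x t = ev R x r := by
  let I := x.asIdeal
  let iso := Scheme.Spec.residueFieldIso (CommRingCat.of R) x
  let z' : I.ResidueField := iso.hom.hom z
  obtain ⟨⟨a, s⟩, has⟩ := IsLocalization.surj (nonZeroDivisors (R ⧸ I)) z'
  obtain ⟨r, rfl⟩ := Ideal.Quotient.mk_surjective a
  obtain ⟨t, ht⟩ := Ideal.Quotient.mk_surjective (s : R ⧸ I)
  have hs0 : (s : R ⧸ I) ≠ 0 := nonZeroDivisors.ne_zero s.2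
  refine ⟨r, t, fun hmem => hs0 ?_, ?_⟩
  · rw [← ht]; exact Ideal.Quotient.eq_zero_iff_mem.mpr hmem
  · rw [ev_eq, ev_eq]
    have e1 : algebraMap (R ⧸ I) I.ResidueField (s : R ⧸ I) = algebraMap R I.ResidueField t := by
      rw [← ht]; exact Ideal.algebraMap_quotient_residueField_mk _ t
    have e2 : algebraMap (R ⧸ I) I.ResidueField (Ideal.Quotient.mk I r) =
        algebraMap R I.ResidueField r := Ideal.algebraMap_quotient_residueField_mk _ r
    have has' : z' * algebraMap R I.ResidueField t = algebraMap R I.ResidueField r := by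
      rw [← e1, ← e2]; exact has
    have hz : z = iso.inv.hom z' := by
      change z = (iso.hom ≫ iso.inv).hom z
      rw [Iso.hom_inv_id]; rfl
    rw [hz, ← map_mul, has']

end Eval

section Birational

variable {B C : Type u} [CommRing B] [CommRing C] (φ : B →+* C)

theorem residueFieldMap_ev (x : Spec (CommRingCat.of C)) (b : B) :
    ((Spec.map (CommRingCat.ofHom φ)).residueFieldMap x).hom
      (ev B ((Spec.map (CommRingCat.ofHom φ)) x) b) = ev C x (φ b) := by
  have h1 := Scheme.Γevaluation_naturality_apply (Spec.map (CommRingCat.ofHom φ)) x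
    ((Scheme.ΓSpecIso (CommRingCat.of B)).inv b)
  have h2 := Scheme.ΓSpecIso_inv_naturality (CommRingCat.ofHom φ)
  have h3 : (Spec.map (CommRingCat.ofHom φ)).appTop ((Scheme.ΓSpecIso (CommRingCat.of B)).inv b) =
      (Scheme.ΓSpecIso (CommRingCat.of C)).inv (φ b) :=
    (congrArg (fun f => f.hom b) h2).symm
  rw [h3] at h1
  exact h1

variable (hbir : RadPt.IsBirational (Spec.map (CommRingCat.ofHom φ)))
include hbir

theorem nilradical_isPrime_of_birational (hB : (nilradical B).IsPrime) :
    (nilradical C).IsPrime := by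
  let h := Spec.map (CommRingCat.ofHom φ)
  let η : Spec (CommRingCat.of B) := ⟨nilradical B, hB⟩
  have hη : η ∈ genericPoints (Spec (CommRingCat.of B)) :=
    (mem_genericPoints_spec_iff B η).mpr (nilradical_mem_minimalPrimes hB)
  obtain ⟨ξ, hξ, hξη⟩ := hbir.1.surjOn hη
  have hall : ∀ p ∈ minimalPrimes C, p = ξ.asIdeal := by
    intro p hp
    let ξ' : Spec (CommRingCat.of C) := ⟨p, hp.1.1⟩
    have hξ' : ξ' ∈ genericPoints (Spec (CommRingCat.of C)) :=
      (mem_genericPoints_spec_iff C ξ').mpr hp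
    have h1 : h ξ' ∈ genericPoints (Spec (CommRingCat.of B)) := hbir.1.mapsTo hξ'
    have h2 : (h ξ').asIdeal = nilradical B :=
      eq_nilradical_of_mem_minimalPrimes hB ((mem_genericPoints_spec_iff B _).mp h1)
    have h3 : h ξ' = h ξ := by
      rw [hξη]; exact PrimeSpectrum.ext h2
    have h4 : ξ' = ξ := hbir.1.injOn hξ' hξ h3
    exact congrArg PrimeSpectrum.asIdeal h4
  rw [nilradical_eq_of_forall_minimalPrimes ((mem_genericPoints_spec_iff C ξ).mp hξ) hall]
  exact ξ.isPrime

theorem comap_nilradical_of_birational (hC : (nilradical C).IsPrime) :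
    (nilradical B).IsPrime ∧ (nilradical C).comap φ = nilradical B := by
  let h := Spec.map (CommRingCat.ofHom φ)
  let ξ : Spec (CommRingCat.of C) := ⟨nilradical C, hC⟩
  have hξ : ξ ∈ genericPoints (Spec (CommRingCat.of C)) :=
    (mem_genericPoints_spec_iff C ξ).mpr (nilradical_mem_minimalPrimes hC)
  have hη : h ξ ∈ genericPoints (Spec (CommRingCat.of B)) := hbir.1.mapsTo hξ
  have hall : ∀ p ∈ minimalPrimes B, p = (h ξ).asIdeal := by
    intro p hp
    let η' : Spec (CommRingCat.of B) := ⟨p, hp.1.1⟩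
    have hη' : η' ∈ genericPoints (Spec (CommRingCat.of B)) :=
      (mem_genericPoints_spec_iff B η').mpr hp
    obtain ⟨ξ', hξ', hξη'⟩ := hbir.1.surjOn hη'
    have h2 : ξ'.asIdeal = nilradical C :=
      eq_nilradical_of_mem_minimalPrimes hC ((mem_genericPoints_spec_iff C _).mp hξ')
    have h3 : ξ' = ξ := PrimeSpectrum.ext h2
    rw [h3] at hξη'
    exact (congrArg PrimeSpectrum.asIdeal hξη').symm
  have hnil : nilradical B = (h ξ).asIdeal :=
    nilradical_eq_of_forall_minimalPrimes ((mem_genericPoints_spec_iff B _).mp hη) hall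
  refine ⟨hnil ▸ (h ξ).isPrime, ?_⟩
  rw [hnil]
  rfl

theorem exists_frac_of_birational (hC : (nilradical C).IsPrime) (c : C) :
    ∃ b b' : B, b ∉ nilradical B ∧ φ b * c - φ b' ∈ nilradical C := by
  let h := Spec.map (CommRingCat.ofHom φ)
  let ξ : Spec (CommRingCat.of C) := ⟨nilradical C, hC⟩
  have hξ : ξ ∈ genericPoints (Spec (CommRingCat.of C)) :=
    (mem_genericPoints_spec_iff C ξ).mpr (nilradical_mem_minimalPrimes hC)
  have hη : h ξ ∈ genericPoints (Spec (CommRingCat.of B)) := hbir.1.mapsTo hξ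
  obtain ⟨-, hcomap⟩ := comap_nilradical_of_birational φ hbir hC
  have hbij := (hbir.2 (h ξ) hη).2 ξ rfl
  obtain ⟨z, hz⟩ := hbij.2 (ev C ξ c)
  obtain ⟨r, t, ht, hrt⟩ := exists_ev_mul_eq B (h ξ) z
  refine ⟨t, r, ?_, ?_⟩
  · rw [← hcomap]; exact ht
  · have h1 := congrArg (h.residueFieldMap ξ).hom hrt
    rw [map_mul, hz, residueFieldMap_ev, residueFieldMap_ev] at h1
    have h2 : ev C ξ (φ t * c - φ r) = 0 := by
      rw [map_sub, map_mul, mul_comm, h1, sub_self]
    exact (ev_eq_zero_iff C ξ _).mp h2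

end Birational

end Groth.Agent.Lib.Seat68.GUnibr
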