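import Groth.Agent.Lib.Seat68GUnibrD
import Groth.Agent.Lib.Seat68BiratD
import Groth.Agent.Lib.Helper6StalkIso

/-!
# Integral birational morphisms and geometric unibranchness (seat 68)

`isGeomUnibranch_iff_isRadicialAt` : for `f : X ⟶ Y` integral with `RadPt.IsBirational f` and `y : Y`,
`O_{Y,y}` is geometrically unibranch iff `f` is radicial at `y` and `O_{X,x}` is geometrically unibranch
for the points `x` over `y`.
-/

set_option autoImplicit false
set_option linter.style.haveILetI false
universe u

namespace Groth.Agent.Lib.Seat68.GUnibr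

open CategoryTheory AlgebraicGeometry Limits IsLocalRing
open Groth.Agent.Lib.Seat68.Birat Groth.Agent.Lib.Helper6
open Groth.Agent.Lib.Helper4.Unibranch

set_option backward.isDefEq.respectTransparency false in
theorem isGeomUnibranch_iff_isRadicialAt {X Y : Scheme.{u}} (f : X ⟶ Y) [IsIntegralHom f]
    (hf : RadPt.IsBirational f) (y : Y) :
    CAlg2.IsGeomUnibranch (Y.presheaf.stalk y) ↔
      (RadPt.IsRadicialAt f y ∧ ∀ x : X, f x = y → CAlg2.IsGeomUnibranch (X.presheaf.stalk x)) := by
  let B : Type u := Y.presheaf.stalk y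
  let g : Spec (CommRingCat.of B) ⟶ Y := Y.fromSpecStalk y
  let W := pullback f g
  let p₁ : W ⟶ X := pullback.fst f g
  let f' : W ⟶ Spec (CommRingCat.of B) := pullback.snd f g
  haveI : IsAffine W := isAffine_of_isAffineHom f'
  let C : Type u := Γ(W, ⊤)
  let e : W ≅ Spec (CommRingCat.of C) := W.isoSpec
  let h : Spec (CommRingCat.of C) ⟶ Spec (CommRingCat.of B) := e.inv ≫ f'
  let q : Spec (CommRingCat.of C) ⟶ X := e.inv ≫ p₁
  let φc : CommRingCat.of B ⟶ CommRingCat.of C := Spec.preimage h
  let φ : B →+* C := φc.hom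
  have hφ : Spec.map (CommRingCat.ofHom φ) = h := Spec.map_preimage h
  have sq : IsPullback q h f g := by
    have s1 : IsPullback e.inv h f' (𝟙 _) := IsPullback.of_horiz_isIso ⟨by simp [h]⟩
    have s2 : IsPullback p₁ f' f g := IsPullback.of_hasPullback f g
    have := s1.paste_horiz s2
    rwa [Category.id_comp] at this
  have hbir : RadPt.IsBirational (Spec.map (CommRingCat.ofHom φ)) := by
    rw [hφ]; exact isBirational_of_isPullback sq hf
  haveI : IsIntegralHom h := inferInstanceAs (IsIntegralHom (e.inv ≫ f'))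
  have hφint : φ.IsIntegral := by
    have : IsIntegralHom (Spec.map φc) := by rw [Spec.map_preimage]; infer_instance
    exact IsIntegralHom.SpecMap_iff.mp this
  letI : Algebra B C := φ.toAlgebra
  haveI : Algebra.IsIntegral B C := ⟨hφint⟩
  have hgc : g (closedPoint B) = y := Scheme.fromSpecStalk_closedPoint
  have hrad : RadPt.IsRadicialAt f y ↔
      RadPt.IsRadicialAt (Spec.map (CommRingCat.ofHom (algebraMap B C))) (closedPoint B) := by
    have := Groth.Agent.S5863.result sq (closedPoint B)
    rw [hgc] at this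
    rw [this]
    exact Iff.of_eq (congrArg (fun m => RadPt.IsRadicialAt m (closedPoint B)) hφ.symm)
  haveI : Flat q := inferInstanceAs (Flat (e.inv ≫ p₁))
  haveI : IsPreimmersion q := inferInstanceAs (IsPreimmersion (e.inv ≫ p₁))
  -- the stalk of `X` at the image of the closed point of `Spec C`
  have hstalk : ∀ (hl : IsLocalRing C),
      Nonempty (X.presheaf.stalk (q (closedPoint C)) ≃+* C) := by
    intro hl
    haveI : IsIso (q.stalkMap (closedPoint C)) :=
      isIso_stalkMap_of_flat_of_isPreimmersion q (closedPoint C)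
    exact ⟨((asIso (q.stalkMap (closedPoint C))) ≪≫
      stalkClosedPointIso (CommRingCat.of C)).commRingCatIsoToRingEquiv⟩
  have hqc : ∀ (hl : IsLocalRing C), f (q (closedPoint C)) = y := by
    intro hl
    have h1 : f (q (closedPoint C)) = g (h (closedPoint C)) := by
      rw [← Scheme.Hom.comp_apply, ← Scheme.Hom.comp_apply, sq.w]
    rw [h1, ← hφ, specMap_closedPoint_of_isIntegral φ hφint, hgc]
  have hpt : ∀ (hl : IsLocalRing C) (x : X), f x = y → x = q (closedPoint C) := by
    intro hl x hx
    obtain ⟨t, ht1, ht2⟩ := Scheme.Pullback.exists_preimage_pullback (f := f) (g := g) x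
      (closedPoint B) (hx.trans hgc.symm)
    have hw : h (e.hom t) = closedPoint B := by
      change (e.inv ≫ f') (e.hom t) = _
      rw [Scheme.Hom.comp_apply, ← Scheme.Hom.comp_apply e.hom e.inv, e.hom_inv_id]
      exact ht2
    have hw' : e.hom t = closedPoint C := by
      apply eq_closedPoint_of_isIntegral φ hφint
      rw [hφ]; exact hw
    rw [← hw']
    change x = (e.inv ≫ p₁) (e.hom t)
    rw [Scheme.Hom.comp_apply, ← Scheme.Hom.comp_apply e.hom e.inv, e.hom_inv_id]
    exact ht1.symm
  have hnonempty : Nontrivial C := by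
    -- `Spec B` has a generic point, which lifts to `Spec C`
    obtain ⟨p, hp⟩ := Ideal.exists_minimalPrimes_le (bot_le : (⊥ : Ideal B) ≤ maximalIdeal B)
    let η : Spec (CommRingCat.of B) := ⟨p, hp.1.1.1⟩
    have hη : η ∈ genericPoints (Spec (CommRingCat.of B)) :=
      (mem_genericPoints_spec_iff B η).mpr hp.1
    obtain ⟨ξ, -, -⟩ := hbir.1.surjOn hη
    exact (PrimeSpectrum.nonempty_iff_nontrivial.mp ⟨ξ⟩)
  constructor
  · intro hGU
    have hB : (nilradical B).IsPrime :=
      (Ideal.Quotient.isDomain_iff_prime (nilradical B)).mp hGU.1.1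
    have hC : (nilradical C).IsPrime := nilradical_isPrime_of_birational φ hbir hB
    obtain ⟨-, hcomap⟩ := comap_nilradical_of_birational φ hbir hC
    have key := (isGeomUnibranch_iff_of_integral (B := B) (C := C) hB hC
      (fun b hb => by rw [← hcomap]; exact hb)
      (fun c => exists_frac_of_birational φ hbir hC c)).mp hGU
    refine ⟨hrad.mpr key.1, fun x hx => ?_⟩
    have hl : IsLocalRing C := isLocalRing_of_isRadicialAt key.1
    rw [hpt hl x hx]
    obtain ⟨eqv⟩ := hstalk hl
    exact isGeomUnibranch_of_ringEquiv eqv.symm (key.2 hl)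
  · rintro ⟨hr, hx⟩
    have hr' := hrad.mp hr
    have hl : IsLocalRing C := isLocalRing_of_isRadicialAt hr'
    obtain ⟨eqv⟩ := hstalk hl
    have hGUC : CAlg2.IsGeomUnibranch C :=
      isGeomUnibranch_of_ringEquiv eqv (hx _ (hqc hl))
    have hC : (nilradical C).IsPrime :=
      (Ideal.Quotient.isDomain_iff_prime (nilradical C)).mp hGUC.1.1
    obtain ⟨hB, hcomap⟩ := comap_nilradical_of_birational φ hbir hC
    refine (isGeomUnibranch_iff_of_integral (B := B) (C := C) hB hC
      (fun b hb => by rw [← hcomap]; exact hb)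
      (fun c => exists_frac_of_birational φ hbir hC c)).mpr ⟨hr', fun hl' => ?_⟩
    have : hl' = hl := Subsingleton.elim _ _
    subst this
    exact hGUC

end Groth.Agent.Lib.Seat68.GUnibr
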