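import Mathlib
import Groth.Agent.Lib.Seat68GrassAlg

/-!
# Charts of the Grassmannian: the open condition (seat 68)

`IsChart v N`: the vectors `1 ⊗ v i` give a basis of the quotient by `N`.  `isChart_map_iff`: the
condition after base change along `φ` holds iff `Spec φ` misses the closed set `V(dI v N)`.
-/

set_option autoImplicit false
set_option linter.style.haveILetI false
universe u

namespace Groth.Agent.Lib.Seat68.GrassChart

open TensorProduct Module

section supp

variable {A : Type*} [CommRing A] {K : Type*} [AddCommGroup K] [Module A K] [Module.Finite A K]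
  {C : Type*} [CommRing C] [Algebra A C]

/-- if `C ⊗ K = 0` for a finite module `K` then the image of `Spec C` misses the support. -/
lemma not_annihilator_le_comap_of_subsingleton [Subsingleton (C ⊗[A] K)] (p' : PrimeSpectrum C) :
    ¬ Module.annihilator A K ≤ p'.asIdeal.comap (algebraMap A C) := by
  intro hle
  let p : PrimeSpectrum A := ⟨p'.asIdeal.comap (algebraMap A C), inferInstance⟩
  have hp : p ∈ Module.support A K := Module.mem_support_iff_of_finite.mpr hle
  rw [Module.mem_support_iff_nontrivial_residueField_tensorProduct] at hp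
  let L := p'.asIdeal.ResidueField
  let f : p.asIdeal.ResidueField →+* L :=
    Ideal.ResidueField.map p.asIdeal p'.asIdeal (algebraMap A C) rfl
  letI : Algebra p.asIdeal.ResidueField L := f.toAlgebra
  haveI : IsScalarTower A p.asIdeal.ResidueField L := IsScalarTower.of_algebraMap_eq (fun a => by
    rw [RingHom.algebraMap_toAlgebra, Ideal.ResidueField.map_algebraMap]
    exact IsScalarTower.algebraMap_apply A C L a)
  haveI := hp
  have h1 : Nontrivial (L ⊗[p.asIdeal.ResidueField] (p.asIdeal.ResidueField ⊗[A] K)) :=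
    inferInstance
  have e1 := AlgebraTensorModule.cancelBaseChange A p.asIdeal.ResidueField L L K
  have e2 := AlgebraTensorModule.cancelBaseChange A C L L K
  have h2 : Subsingleton (L ⊗[C] (C ⊗[A] K)) := inferInstance
  have h3 : Subsingleton (L ⊗[A] K) := e2.symm.toEquiv.subsingleton
  have h4 : Subsingleton (L ⊗[p.asIdeal.ResidueField] (p.asIdeal.ResidueField ⊗[A] K)) :=
    e1.toEquiv.subsingleton
  exact not_subsingleton _ h4

end supp

section rank

variable {A : Type*} [CommRing A] {Q : Type*} [AddCommGroup Q] [Module A Q]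
  [Module.Finite A Q] [Module.Projective A Q] {k : ℕ}

/-- a surjection from `A^k` onto a finite projective module of constant rank `k` is injective. -/
lemma injective_of_surjective_of_rank
    (hr : ∀ p, Module.rankAtStalk (R := A) Q p = k) (f : (Fin k → A) →ₗ[A] Q)
    (hf : Function.Surjective f) : Function.Injective f := by
  obtain ⟨g, hg⟩ := Module.projective_lifting_property f LinearMap.id hf
  have hfg : ∀ q, f (g q) = q := fun q => LinearMap.congr_fun hg q
  let K := LinearMap.ker f
  let pr : (Fin k → A) →ₗ[A] K := LinearMap.codRestrict K (LinearMap.id - g ∘ₗ f) (fun x => by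
    rw [LinearMap.mem_ker, LinearMap.sub_apply, map_sub, LinearMap.comp_apply, hfg]
    simp)
  have hpr : ∀ x, ((pr x : K) : Fin k → A) = x - g (f x) := fun x => rfl
  have hprK : ∀ y : K, pr y = y := fun y => by
    apply Subtype.ext
    rw [hpr, LinearMap.mem_ker.mp y.2, map_zero, sub_zero]
  let e : (Fin k → A) ≃ₗ[A] Q × K := LinearEquiv.ofLinearMap (f.prod pr) (g.coprod K.subtype)
    (by
      apply LinearMap.ext
      rintro ⟨q, y⟩
      apply Prod.ext
      · change f (g q + (y : Fin k → A)) = q
        rw [map_add, hfg, LinearMap.mem_ker.mp y.2, add_zero]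
      · apply Subtype.ext
        change ((pr (g q + (y : Fin k → A)) : K) : Fin k → A) = y
        rw [hpr, map_add, hfg, LinearMap.mem_ker.mp y.2, add_zero]
        abel)
    (by
      apply LinearMap.ext
      intro x
      change g (f x) + ((pr x : K) : Fin k → A) = x
      rw [hpr]
      abel)
  haveI : Module.Finite A K := Module.Finite.of_surjective pr (fun y => ⟨y, hprK y⟩)
  haveI : Module.Projective A K := Module.Projective.of_split K.subtype pr (by
    apply LinearMap.ext
    intro y
    exact hprK y)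
  have hK : Module.rankAtStalk (R := A) K = 0 := by
    ext p
    haveI : Nontrivial A := p.nontrivial
    have h1 := congrFun (Module.rankAtStalk_eq_of_equiv e) p
    rw [Module.rankAtStalk_prod, Module.rankAtStalk_eq_finrank_of_free] at h1
    simp only [Pi.add_apply, hr p, Module.finrank_fin_fun, Pi.natCast_apply] at h1
    simpa using h1
  have hsub : Subsingleton K := Module.rankAtStalk_eq_zero_iff_subsingleton.mp hK
  rw [← LinearMap.ker_eq_bot]
  exact Submodule.eq_bot_of_subsingleton
  
end rank

section chart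

open Groth.Agent.Lib.Seat68.GrassAlg

variable {R : Type u} [CommRing R] {M : Type u} [AddCommGroup M] [Module R M] {k : ℕ}
  (v : Fin k → M)

section defs

variable (A : Type u) [CommRing A] [Algebra R A]

/-- the map `A^k → A ⊗ M` given by the vectors `1 ⊗ v i` -/
noncomputable def inc : (Fin k → A) →ₗ[A] A ⊗[R] M :=
  Fintype.linearCombination A (fun i => (1 : A) ⊗ₜ[R] v i)

lemma inc_apply (c : Fin k → A) : inc v A c = ∑ i, c i • ((1 : A) ⊗ₜ[R] v i) :=
  Fintype.linearCombination_apply ..

lemma inc_apply' (c : Fin k → A) : inc v A c = ∑ i, c i ⊗ₜ[R] v i := by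
  rw [inc_apply]
  refine Finset.sum_congr rfl fun i _ => ?_
  rw [smul_tmul', smul_eq_mul, mul_one]

lemma inc_single (i : Fin k) : inc v A (Pi.single i 1) = (1 : A) ⊗ₜ[R] v i := by
  rw [inc_apply, Finset.sum_eq_single i]
  · rw [Pi.single_eq_same, one_smul]
  · intro j _ hj
    rw [Pi.single_eq_of_ne hj, zero_smul]
  · intro h
    exact absurd (Finset.mem_univ i) h

end defs

variable {A : Type u} [CommRing A] [Algebra R A] {C : Type u} [CommRing C] [Algebra R C]

/-- the map `A^k → (A ⊗ M) / N` -/
noncomputable def ψ (N : Submodule A (A ⊗[R] M)) : (Fin k → A) →ₗ[A] (A ⊗[R] M) ⧸ N :=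
  N.mkQ ∘ₗ inc v A

/-- `N` lies in the chart of `v`: the vectors `v i` give a basis of the quotient -/
def IsChart (N : Submodule A (A ⊗[R] M)) : Prop := Function.Bijective (ψ v N)

/-- the ideal cutting out the complement of the chart -/
noncomputable def dI (N : Submodule A (A ⊗[R] M)) : Ideal A :=
  Module.annihilator A ((A ⊗[R] M) ⧸ (N ⊔ LinearMap.range (inc v A)))

lemma surjective_ψ_iff (N : Submodule A (A ⊗[R] M)) :
    Function.Surjective (ψ v N) ↔ N ⊔ LinearMap.range (inc v A) = ⊤ := by
  constructor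
  · intro h
    rw [eq_top_iff]
    intro z _
    obtain ⟨c, hc⟩ := h (N.mkQ z)
    have h1 : z - inc v A c ∈ N := by
      rw [← Submodule.Quotient.mk_eq_zero, Submodule.Quotient.mk_sub, sub_eq_zero]
      exact hc.symm
    have : z = (z - inc v A c) + inc v A c := by abel
    rw [this]
    exact Submodule.add_mem_sup h1 ⟨c, rfl⟩
  · intro h y
    obtain ⟨z, rfl⟩ := N.mkQ_surjective y
    have hz : z ∈ N ⊔ LinearMap.range (inc v A) := h ▸ Submodule.mem_top
    obtain ⟨n, hn, _, ⟨c, rfl⟩, rfl⟩ := Submodule.mem_sup.mp hz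
    refine ⟨c, ?_⟩
    change N.mkQ (inc v A c) = N.mkQ (n + inc v A c)
    have h0 : N.mkQ n = 0 := (Submodule.Quotient.mk_eq_zero N).mpr hn
    rw [map_add, h0, zero_add]

lemma bcM_smul (φ : A →ₐ[R] C) (a : A) (z : A ⊗[R] M) : bcM φ (a • z) = φ a • bcM φ z := by
  induction z using TensorProduct.induction_on with
  | zero => simp
  | tmul b m => rw [smul_tmul', bcM_tmul, bcM_tmul, smul_tmul', smul_eq_mul, smul_eq_mul, map_mul]
  | add x y hx hy => rw [smul_add, map_add, hx, hy, map_add, smul_add]

lemma bcM_inc (φ : A →ₐ[R] C) (c : Fin k → A) : bcM φ (inc v A c) = inc v C (φ ∘ c) := by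
  rw [inc_apply', inc_apply', map_sum]
  rfl

/-- the quotient by `N ⊔ range inc` is a finite module for a Grassmannian point. -/
instance finite_quot (N : Grassmannian A (A ⊗[R] M) k) :
    Module.Finite A ((A ⊗[R] M) ⧸ (N.toSubmodule ⊔ LinearMap.range (inc v A))) :=
  Module.Finite.of_surjective
    (Submodule.mapQ N.toSubmodule (N.toSubmodule ⊔ LinearMap.range (inc v A)) LinearMap.id
      (by rw [Submodule.comap_id]; exact le_sup_left))
    (by
      intro y
      obtain ⟨z, rfl⟩ := Submodule.mkQ_surjective _ y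
      exact ⟨N.toSubmodule.mkQ z, rfl⟩)

lemma isChart_of_sup_eq_top (N : Grassmannian A (A ⊗[R] M) k)
    (h : N.toSubmodule ⊔ LinearMap.range (inc v A) = ⊤) : IsChart v N.toSubmodule :=
  ⟨injective_of_surjective_of_rank N.rankAtStalk_eq _ ((surjective_ψ_iff v _).mpr h),
    (surjective_ψ_iff v _).mpr h⟩

theorem isChart_map_of_forall (N : Grassmannian A (A ⊗[R] M) k) (φ : A →ₐ[R] C)
    (H : ∀ p : PrimeSpectrum C, ¬ dI v N.toSubmodule ≤ p.asIdeal.comap (φ : A →+* C)) :
    IsChart v (Grassmannian.map φ N).toSubmodule := by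
  apply isChart_of_sup_eq_top
  set T := (Grassmannian.map φ N).toSubmodule ⊔ LinearMap.range (inc v C) with hT
  -- the ideal generated by the image of `dI` is the unit ideal
  have htop : Ideal.map (φ : A →+* C) (dI v N.toSubmodule) = ⊤ := by
    by_contra hne
    obtain ⟨m, hm, hle⟩ := Ideal.exists_le_maximal _ hne
    exact H ⟨m, hm.isPrime⟩ (Ideal.map_le_iff_le_comap.mp hle)
  -- elements of `dI` push everything into `T`
  have key : ∀ a ∈ dI v N.toSubmodule, ∀ z : A ⊗[R] M, φ a • bcM φ z ∈ T := by
    intro a ha z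
    have h0 : a • (N.toSubmodule ⊔ LinearMap.range (inc v A)).mkQ z = 0 :=
      Module.mem_annihilator.mp ha _
    rw [← map_smul, Submodule.mkQ_apply, Submodule.Quotient.mk_eq_zero] at h0
    obtain ⟨n, hn, _, ⟨c, rfl⟩, hsum⟩ := Submodule.mem_sup.mp h0
    rw [← bcM_smul, ← hsum, map_add, bcM_inc]
    exact Submodule.add_mem_sup (bcM_mem_map_of_mem N φ n hn) ⟨_, rfl⟩
  let J : Ideal C :=
    { carrier := {c | ∀ m : M, c • ((1 : C) ⊗ₜ[R] m) ∈ T}
      add_mem' := fun {a b} ha hb m => by rw [add_smul]; exact T.add_mem (ha m) (hb m)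
      zero_mem' := fun m => by rw [zero_smul]; exact T.zero_mem
      smul_mem' := fun c x hx m => by
        rw [smul_eq_mul, mul_smul]; exact T.smul_mem c (hx m) }
  have hJ : Ideal.map (φ : A →+* C) (dI v N.toSubmodule) ≤ J := by
    rw [Ideal.map_le_iff_le_comap]
    intro a ha m
    have := key a ha ((1 : A) ⊗ₜ[R] m)
    rwa [bcM_tmul, map_one] at this
  have h1 : (1 : C) ∈ J := hJ (htop ▸ Submodule.mem_top)
  rw [eq_top_iff]
  intro z _
  induction z using TensorProduct.induction_on with
  | zero => exact T.zero_mem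
  | tmul c m =>
    have h2 : c ⊗ₜ[R] m = c • ((1 : C) • ((1 : C) ⊗ₜ[R] m)) := by
      rw [one_smul, smul_tmul', smul_eq_mul, mul_one]
    rw [h2]
    exact T.smul_mem c (h1 m)
  | add x y hx hy => exact T.add_mem (hx Submodule.mem_top) (hy Submodule.mem_top)

theorem forall_of_isChart_map (N : Grassmannian A (A ⊗[R] M) k) (φ : A →ₐ[R] C)
    (hc : IsChart v (Grassmannian.map φ N).toSubmodule) (p : PrimeSpectrum C) :
    ¬ dI v N.toSubmodule ≤ p.asIdeal.comap (φ : A →+* C) := by
  letI : Algebra A C := φ.toAlgebra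
  haveI : IsScalarTower R A C := IsScalarTower.of_algebraMap_eq (fun r => (φ.commutes r).symm)
  have e1 : (IsScalarTower.toAlgHom R A C) = φ := AlgHom.ext fun _ => rfl
  set S := N.toSubmodule ⊔ LinearMap.range (inc v A) with hS
  have htop := (surjective_ψ_iff v _).mp hc.2
  let π := Grassmannian.baseChangeMkQ C S
  have hπs : Function.Surjective π := Grassmannian.baseChangeMkQ_surjective S
  have hker : LinearMap.ker π = ⊤ := by
    rw [eq_top_iff, ← htop]
    apply sup_le
    · intro z hz
      change z ∈ LinearMap.ker (Grassmannian.baseChangeMkQ C N.toSubmodule) at hz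
      rw [LinearMap.mem_ker] at hz ⊢
      let fac : ((A ⊗[R] M) ⧸ N.toSubmodule) →ₗ[A] ((A ⊗[R] M) ⧸ S) :=
        Submodule.mapQ _ _ LinearMap.id (by rw [Submodule.comap_id]; exact le_sup_left)
      have hfac : S.mkQ = fac ∘ₗ N.toSubmodule.mkQ := by
        apply LinearMap.ext
        intro x
        rfl
      have hπ : π = fac.baseChange C ∘ₗ Grassmannian.baseChangeMkQ C N.toSubmodule := by
        simp only [π, Grassmannian.baseChangeMkQ, hfac, LinearMap.baseChange_comp,
          LinearMap.comp_assoc]
      rw [hπ, LinearMap.comp_apply, hz, map_zero]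
    · rintro _ ⟨c, rfl⟩
      rw [LinearMap.mem_ker, inc_apply, map_sum]
      apply Finset.sum_eq_zero
      intro i _
      rw [map_smul]
      have h1 : (1 : C) ⊗ₜ[R] v i =
          bcM (IsScalarTower.toAlgHom R A C) ((1 : A) ⊗ₜ[R] v i) := by
        rw [bcM_tmul, map_one]
      rw [h1, baseChangeMkQ_bcM]
      have h0 : S.mkQ ((1 : A) ⊗ₜ[R] v i) = 0 := by
        rw [Submodule.mkQ_apply, Submodule.Quotient.mk_eq_zero]
        exact Submodule.mem_sup_right ⟨Pi.single i 1, inc_single v A i⟩
      rw [h0, tmul_zero, smul_zero]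
  haveI : Subsingleton (C ⊗[A] ((A ⊗[R] M) ⧸ S)) := by
    refine ⟨fun x y => ?_⟩
    obtain ⟨x', rfl⟩ := hπs x
    obtain ⟨y', rfl⟩ := hπs y
    have hx : x' ∈ LinearMap.ker π := hker ▸ Submodule.mem_top
    have hy : y' ∈ LinearMap.ker π := hker ▸ Submodule.mem_top
    rw [LinearMap.mem_ker.mp hx, LinearMap.mem_ker.mp hy]
  exact not_annihilator_le_comap_of_subsingleton (A := A) (K := (A ⊗[R] M) ⧸ S) p

theorem isChart_map_iff (N : Grassmannian A (A ⊗[R] M) k) (φ : A →ₐ[R] C) :
    IsChart v (Grassmannian.map φ N).toSubmodule ↔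
      ∀ p : PrimeSpectrum C, ¬ dI v N.toSubmodule ≤ p.asIdeal.comap (φ : A →+* C) :=
  ⟨forall_of_isChart_map v N φ, isChart_map_of_forall v N φ⟩

end chart

end Groth.Agent.Lib.Seat68.GrassChart
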