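import Mathlib
import Groth.Agent.Lib.Seat68GrassChart

/-!
# Charts of the Grassmannian of a free module are affine spaces: the matrix bijection (seat 68)
-/

set_option autoImplicit false
set_option linter.style.haveILetI false
universe u

namespace Groth.Agent.Lib.Seat68.GrassChart

open TensorProduct Module
open Groth.Agent.Lib.Seat68.GrassAlg

variable {R : Type u} [CommRing R] {M : Type u} [AddCommGroup M] [Module R M] {k : ℕ}
  {J : Type} (b : Basis (Fin k ⊕ J) R M)

/-- the first `k` basis vectors -/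
noncomputable def vb : Fin k → M := fun i => b (Sum.inl i)

variable {A : Type u} [CommRing A] [Algebra R A] {C : Type u} [CommRing C] [Algebra R C]

/-- the isomorphism `A^k ≃ (A ⊗ M) / N` of a chart point -/
noncomputable def ψe (N : Submodule A (A ⊗[R] M)) (hN : IsChart (vb b) N) :
    (Fin k → A) ≃ₗ[A] (A ⊗[R] M) ⧸ N :=
  LinearEquiv.ofBijective (ψ (vb b) N) (show Function.Bijective (ψ (vb b) N) from hN)

lemma ψe_apply (N : Submodule A (A ⊗[R] M)) (hN : IsChart (vb b) N) (c : Fin k → A) :
    ψe b N hN c = N.mkQ (inc (vb b) A c) := rfl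

/-- the coefficients of the remaining basis vectors in the quotient -/
noncomputable def coeff (N : Submodule A (A ⊗[R] M)) (hN : IsChart (vb b) N) (j : J) :
    Fin k → A :=
  (ψe b N hN).symm (N.mkQ ((1 : A) ⊗ₜ[R] b (Sum.inr j)))

lemma coeff_eq_iff (N : Submodule A (A ⊗[R] M)) (hN : IsChart (vb b) N) (j : J)
    (c : Fin k → A) :
    coeff b N hN j = c ↔ (1 : A) ⊗ₜ[R] b (Sum.inr j) - inc (vb b) A c ∈ N := by
  rw [coeff, LinearEquiv.symm_apply_eq, ψe_apply,
    ← sub_eq_zero, ← map_sub, Submodule.mkQ_apply, Submodule.Quotient.mk_eq_zero]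

/-- the projection `A ⊗ M → A^k` attached to a matrix -/
noncomputable def π (c : J → Fin k → A) : A ⊗[R] M →ₗ[A] (Fin k → A) :=
  (b.baseChange A).constr A (Sum.elim (fun i => Pi.single i (1 : A)) c)

lemma π_basis (c : J → Fin k → A) (x : Fin k ⊕ J) :
    π b c ((1 : A) ⊗ₜ[R] b x) = Sum.elim (fun i => Pi.single i (1 : A)) c x := by
  rw [π, ← Basis.baseChange_apply, Basis.constr_basis]

lemma π_inl (c : J → Fin k → A) (i : Fin k) :
    π b c ((1 : A) ⊗ₜ[R] b (Sum.inl i)) = Pi.single i 1 := π_basis b c (Sum.inl i)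

lemma π_inr (c : J → Fin k → A) (j : J) :
    π b c ((1 : A) ⊗ₜ[R] b (Sum.inr j)) = c j := π_basis b c (Sum.inr j)

lemma π_inc (c : J → Fin k → A) (a : Fin k → A) : π b c (inc (vb b) A a) = a := by
  rw [inc_apply, map_sum]
  simp_rw [map_smul, vb, π_inl]
  ext i
  simp [Finset.sum_apply, Pi.single_apply]

lemma π_surjective (c : J → Fin k → A) : Function.Surjective (π b c) :=
  fun a => ⟨_, π_inc b c a⟩

/-- the quotient by the kernel of `π` is `A^k` -/
noncomputable def quotEquivπ (c : J → Fin k → A) :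
    ((A ⊗[R] M) ⧸ LinearMap.ker (π b c)) ≃ₗ[A] (Fin k → A) :=
  (π b c).quotKerEquivOfSurjective (π_surjective b c)

/-- the Grassmannian point attached to a matrix -/
noncomputable def ofMat (c : J → Fin k → A) : Grassmannian A (A ⊗[R] M) k where
  toSubmodule := LinearMap.ker (π b c)
  finite_quotient := Module.Finite.equiv (quotEquivπ b c).symm
  projective_quotient := Module.Projective.of_equiv (quotEquivπ b c).symm
  rankAtStalk_eq p := by
    haveI : Nontrivial A := p.nontrivial
    rw [Module.rankAtStalk_eq_of_equiv (quotEquivπ b c)]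
    simp

lemma isChart_ofMat (c : J → Fin k → A) : IsChart (vb b) (ofMat b c).toSubmodule := by
  have h1 : ∀ a, quotEquivπ b c (ψ (vb b) (ofMat b c).toSubmodule a) = a := by
    intro a
    change quotEquivπ b c ((LinearMap.ker (π b c)).mkQ (inc (vb b) A a)) = a
    rw [Submodule.mkQ_apply, quotEquivπ, LinearMap.quotKerEquivOfSurjective_apply_mk, π_inc]
  constructor
  · intro a a' h
    rw [← h1 a, ← h1 a', h]
  · intro y
    refine ⟨quotEquivπ b c y, ?_⟩
    apply (quotEquivπ b c).injective
    rw [h1]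

lemma coeff_ofMat (c : J → Fin k → A) (h : IsChart (vb b) (ofMat b c).toSubmodule) (j : J) :
    coeff b (ofMat b c).toSubmodule h j = c j := by
  rw [coeff_eq_iff]
  change _ ∈ LinearMap.ker (π b c)
  rw [LinearMap.mem_ker, map_sub, π_inr, π_inc, sub_self]

lemma ofMat_coeff (N : Grassmannian A (A ⊗[R] M) k) (hN : IsChart (vb b) N.toSubmodule) :
    ofMat b (coeff b N.toSubmodule hN) = N := by
  apply Grassmannian.ext
  change LinearMap.ker (π b (coeff b N.toSubmodule hN)) = N.toSubmodule
  have h1 : π b (coeff b N.toSubmodule hN) =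
      (ψe b N.toSubmodule hN).symm.toLinearMap ∘ₗ N.toSubmodule.mkQ := by
    apply (b.baseChange A).ext
    intro x
    rw [Basis.baseChange_apply, π_basis]
    cases x with
    | inl i =>
      rw [Sum.elim_inl, LinearMap.comp_apply, LinearEquiv.coe_coe, eq_comm,
        LinearEquiv.symm_apply_eq, ψe_apply]
      congr 1
      exact (inc_single (vb b) A i).symm
    | inr j => rfl
  rw [h1, LinearEquiv.ker_comp, Submodule.ker_mkQ]

/-- naturality of the coefficients -/
lemma coeff_map (N : Grassmannian A (A ⊗[R] M) k) (hN : IsChart (vb b) N.toSubmodule)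
    (φ : A →ₐ[R] C) (hN' : IsChart (vb b) (Grassmannian.map φ N).toSubmodule) (j : J) :
    coeff b (Grassmannian.map φ N).toSubmodule hN' j = φ ∘ coeff b N.toSubmodule hN j := by
  rw [coeff_eq_iff]
  have h1 : (1 : A) ⊗ₜ[R] b (Sum.inr j) - inc (vb b) A (coeff b N.toSubmodule hN j) ∈
      N.toSubmodule := (coeff_eq_iff b N.toSubmodule hN j _).mp rfl
  have h2 := bcM_mem_map_of_mem N φ _ h1
  rwa [map_sub, bcM_tmul, map_one, bcM_inc] at h2

section field

variable {R : Type u} [CommRing R] {n k : ℕ}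

/-- the standard basis of `R^n`, reindexed along a bijection -/
noncomputable def bτ (τ : Fin k ⊕ Fin (n - k) ≃ Fin n) :
    Basis (Fin k ⊕ Fin (n - k)) R (Fin n → R) :=
  (Pi.basisFun R (Fin n)).reindex τ.symm

lemma bτ_apply (τ : Fin k ⊕ Fin (n - k) ≃ Fin n) (x : Fin k ⊕ Fin (n - k)) :
    bτ (R := R) τ x = Pi.single (τ x) 1 := by
  rw [bτ, Basis.reindex_apply, Equiv.symm_symm, Pi.basisFun_apply]

/-- an injection `Fin k → Fin n` extends to a bijection -/
lemma exists_equiv_of_injective (σ : Fin k → Fin n) (hσ : Function.Injective σ) :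
    ∃ τ : Fin k ⊕ Fin (n - k) ≃ Fin n, ∀ i, τ (Sum.inl i) = σ i := by
  classical
  let e₁ : Fin k ≃ Set.range σ := Equiv.ofInjective σ hσ
  have hcard : Fintype.card ↥(Set.range σ)ᶜ = n - k := by
    rw [Fintype.card_compl_set, Fintype.card_fin, Set.card_range_of_injective hσ, Fintype.card_fin]
  let e₂ : Fin (n - k) ≃ ↥(Set.range σ)ᶜ := (Fintype.equivFinOfCardEq hcard).symm
  refine ⟨(Equiv.sumCongr e₁ e₂).trans (Equiv.Set.sumCompl (Set.range σ)), fun i => ?_⟩
  simp [e₁, Equiv.ofInjective_apply]

variable {L : Type u} [Field L] [Algebra R L]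

/-- over a field, every Grassmannian point of `R^n` lies in some standard chart. -/
theorem exists_chart_of_field (N : Grassmannian L (L ⊗[R] (Fin n → R)) k) :
    ∃ τ : Fin k ⊕ Fin (n - k) ≃ Fin n,
      IsChart (vb (bτ (R := R) τ)) N.toSubmodule := by
  classical
  let Q := (L ⊗[R] (Fin n → R)) ⧸ N.toSubmodule
  have hfin : Module.finrank L Q = k := by
    have h1 := N.rankAtStalk_eq (⟨(⊥ : Ideal L), Ideal.isPrime_bot⟩ : PrimeSpectrum L)
    rw [Module.rankAtStalk_eq_finrank_of_free] at h1
    simpa only [Pi.natCast_apply, Nat.cast_id] using h1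
  let w : Fin n → Q := fun j => N.toSubmodule.mkQ ((1 : L) ⊗ₜ[R] (Pi.single j (1 : R)))
  have hw : Submodule.span L (Set.range w) = ⊤ := by
    have h1 : Set.range w = N.toSubmodule.mkQ '' Set.range ((Pi.basisFun R (Fin n)).baseChange L) := by
      rw [← Set.range_comp]
      congr 1
      funext j
      simp [w, Basis.baseChange_apply]
    rw [h1, ← Submodule.map_span, Basis.span_eq, Submodule.map_top, Submodule.range_mkQ]
  obtain ⟨κ, a, ha, hspan, hli⟩ := exists_linearIndependent' L w
  rw [hw] at hspan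
  haveI : Finite κ := Finite.of_injective a ha
  haveI : Fintype κ := Fintype.ofFinite κ
  let B : Basis κ L Q := Basis.mk hli (by rw [hspan])
  have hκ : Fintype.card κ = k := by
    rw [← Module.finrank_eq_card_basis B, hfin]
  let eκ : Fin k ≃ κ := (Fintype.equivFinOfCardEq hκ).symm
  obtain ⟨τ, hτ⟩ := exists_equiv_of_injective (a ∘ eκ) (ha.comp eκ.injective)
  refine ⟨τ, ?_⟩
  have hψ : ψ (vb (bτ (R := R) τ)) N.toSubmodule =
      Fintype.linearCombination L ((w ∘ a) ∘ eκ) := by
    apply LinearMap.ext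
    intro c
    rw [ψ, LinearMap.comp_apply, inc_apply, map_sum, Fintype.linearCombination_apply]
    refine Finset.sum_congr rfl fun i _ => ?_
    rw [map_smul, vb, bτ_apply, hτ]
    rfl
  have hli' : LinearIndependent L ((w ∘ a) ∘ eκ) := hli.comp _ eκ.injective
  have hsp' : Submodule.span L (Set.range ((w ∘ a) ∘ eκ)) = ⊤ := by
    rw [Set.range_comp _ eκ, eκ.range_eq_univ, Set.image_univ, hspan]
  constructor
  · rw [hψ]
    exact hli'.fintypeLinearCombination_injective
  · rw [hψ, ← LinearMap.range_eq_top, Fintype.range_linearCombination, hsp']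

end field

end Groth.Agent.Lib.Seat68.GrassChart
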