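import Mathlib
import Groth.Agent.Lib.Seat68GrassRep

/-!
# Open conditions on Grassmannian points are represented by open subschemes (seat 68)
-/

set_option autoImplicit false
set_option linter.style.haveILetI false
universe u
open CategoryTheory AlgebraicGeometry TensorProduct

namespace Groth.Agent.Lib.Seat68.GrassOpen

open Groth.Agent.Lib.Seat68.GrassHilb Groth.Agent.Lib.Seat68.GrassAlg
  Groth.Agent.Lib.Seat68.GrassRep

variable {R : Type u} [CommRing R]

section resfield

variable (A : CommAlgCat.{u} R) (q : PrimeSpectrum A)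

/-- the residue field at a prime, as an `R`-algebra -/
noncomputable def κ : CommAlgCat.{u} R := CommAlgCat.of R q.asIdeal.ResidueField

/-- the map to the residue field -/
noncomputable def toκ : A ⟶ κ A q :=
  CommAlgCat.ofHom (IsScalarTower.toAlgHom R A q.asIdeal.ResidueField)

lemma ker_toκ : RingHom.ker ((toκ A q).hom : A →+* κ A q) = q.asIdeal :=
  Ideal.ker_algebraMap_residueField q.asIdeal

lemma isField_κ : IsField (κ A q) := Field.toIsField q.asIdeal.ResidueField

lemma comap_toκ (p : PrimeSpectrum (κ A q)) :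
    p.asIdeal.comap ((toκ A q).hom : A →+* κ A q) = q.asIdeal := by
  have hp : p.asIdeal = ⊥ := by
    by_contra hne
    obtain ⟨x, hx, hx0⟩ := Submodule.exists_mem_ne_zero_of_ne_bot hne
    obtain ⟨y, hy⟩ := (isField_κ A q).mul_inv_cancel hx0
    apply p.2.ne_top
    rw [Ideal.eq_top_iff_one, ← hy]
    exact Ideal.mul_mem_right _ _ hx
  rw [hp, ← RingHom.ker_eq_comap_bot]
  exact ker_toκ A q

/-- the zero ideal of the residue field, as a point -/
noncomputable def botκ : PrimeSpectrum (κ A q) :=
  ⟨⊥, by
    haveI : IsDomain (κ A q) := (isField_κ A q).isDomain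
    exact Ideal.isPrime_bot⟩

end resfield

section main

variable {M : Type u} [AddCommGroup M] [Module R M] {k : ℕ} {X : Over (Spec (CommRingCat.of R))}
  (e : ∀ A : CommAlgCat.{u} R,
    (ov A ⟶ X) ≃ (Module.Grassmannian.functor (R := R) (M := M) k).obj A)
  (he : ∀ (A C : CommAlgCat.{u} R) (φ : A ⟶ C) (g : ov A ⟶ X) (g' : ov C ⟶ X),
    g'.left = Spec.map (CommRingCat.ofHom φ.hom.toRingHom) ≫ g.left →
      e C g' = (Module.Grassmannian.functor (R := R) (M := M) k).map φ (e A g))
  (Op : ∀ A : CommAlgCat.{u} R, Module.Grassmannian A (A ⊗[R] M) k → Prop)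
  (d : ∀ A : CommAlgCat.{u} R, Module.Grassmannian A (A ⊗[R] M) k → Ideal A)
  (hO : ∀ (A C : CommAlgCat.{u} R) (φ : A ⟶ C) (N : Module.Grassmannian A (A ⊗[R] M) k),
    Op C (Module.Grassmannian.map φ.hom N) ↔
      ∀ p : PrimeSpectrum C, ¬ d A N ≤ p.asIdeal.comap (φ.hom : A →+* C))

include hO in
lemma op_iff (A : CommAlgCat.{u} R) (N : Module.Grassmannian A (A ⊗[R] M) k) :
    Op A N ↔ ∀ p : PrimeSpectrum A, ¬ d A N ≤ p.asIdeal := by
  have h := hO A A (𝟙 A) N
  have h1 : Module.Grassmannian.map (𝟙 A : A ⟶ A).hom N = N :=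
    Module.Grassmannian.map_id (R := R) (M := M) k A N
  rw [h1] at h
  rw [h]
  constructor
  · intro H p hp
    exact H p (by
      intro a ha
      exact hp ha)
  · intro H p hp
    exact H p (by
      intro a ha
      exact hp ha)

include hO in
lemma op_map_of_op (A C : CommAlgCat.{u} R) (φ : A ⟶ C)
    (N : Module.Grassmannian A (A ⊗[R] M) k) (h : Op A N) :
    Op C (Module.Grassmannian.map φ.hom N) := by
  rw [hO]
  intro p hp
  exact (op_iff Op d hO A N).mp h ⟨p.asIdeal.comap (φ.hom : A →+* C), inferInstance⟩ hp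

include hO in
/-- the condition at a residue field point -/
lemma op_toκ_iff (A : CommAlgCat.{u} R) (q : PrimeSpectrum A)
    (N : Module.Grassmannian A (A ⊗[R] M) k) :
    Op (κ A q) (Module.Grassmannian.map (toκ A q).hom N) ↔ ¬ d A N ≤ q.asIdeal := by
  rw [hO]
  constructor
  · intro H
    have := H (botκ A q)
    rwa [comap_toκ] at this
  · intro H p
    rwa [comap_toκ]

include hO in
/-- the condition after a further base change, at a residue field point. -/
lemma op_comp_toκ_iff (A C : CommAlgCat.{u} R) (φ : A ⟶ C) (q : PrimeSpectrum C)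
    (N : Module.Grassmannian A (A ⊗[R] M) k) :
    Op (κ C q) (Module.Grassmannian.map (toκ C q).hom (Module.Grassmannian.map φ.hom N)) ↔
      ¬ d A N ≤ q.asIdeal.comap (φ.hom : A →+* C) := by
  have hcomp : Module.Grassmannian.map (toκ C q).hom (Module.Grassmannian.map φ.hom N) =
      Module.Grassmannian.map (φ ≫ toκ C q).hom N :=
    (Module.Grassmannian.map_comp k φ.hom (toκ C q).hom N).symm
  rw [hcomp, hO]
  constructor
  · intro H
    have := H (botκ C q)
    intro hle
    apply this
    intro a ha
    have h1 := hle ha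
    rw [Ideal.mem_comap] at h1 ⊢
    have h2 : φ.hom a ∈ (botκ C q).asIdeal.comap ((toκ C q).hom : C →+* κ C q) := by
      rw [comap_toκ]; exact h1
    exact h2
  · intro H p hle
    apply H
    intro a ha
    have h1 := hle ha
    rw [Ideal.mem_comap] at h1 ⊢
    have h2 : φ.hom a ∈ p.asIdeal.comap ((toκ C q).hom : C →+* κ C q) := h1
    rwa [comap_toκ] at h2

end main

end Groth.Agent.Lib.Seat68.GrassOpen
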