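import Mathlib
import Groth.Agent.Lib.Seat68GrassOpen


/-!
# Open conditions on Grassmannian points: the open subscheme `Uop` (seat 68)

`exists_lift_iff`: a point `Spec A ⟶ X` factors through `Uop` iff its Grassmannian point satisfies
the open condition `Op`; `mem_Uop_iff_op`: pointwise membership via residue field points.
-/
set_option autoImplicit false
set_option linter.style.haveILetI false
set_option backward.isDefEq.respectTransparency false
universe u
open CategoryTheory AlgebraicGeometry TensorProduct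

namespace Groth.Agent.Lib.Seat68.GrassOpen

open Groth.Agent.Lib.Seat68.GrassHilb Groth.Agent.Lib.Seat68.GrassAlg
  Groth.Agent.Lib.Seat68.GrassRep

variable {R : Type u} [CommRing R]

section main2

variable {M : Type u} [AddCommGroup M] [Module R M] {k : ℕ} {X : Over (Spec (CommRingCat.of R))}
  (e : ∀ A : CommAlgCat.{u} R,
    (ov A ⟶ X) ≃ (Module.Grassmannian.functor (R := R) (M := M) k).obj A)
  (he : ∀ (A C : CommAlgCat.{u} R) (φ : A ⟶ C) (g : ov A ⟶ X) (g' : ov C ⟶ X),
    g'.left = Spec.map (CommRingCat.ofHom φ.hom.toRingHom) ≫ g.left →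
      e C g' = (Module.Grassmannian.functor (R := R) (M := M) k).map φ (e A g))
  (Op : ∀ A : CommAlgCat.{u} R, Module.Grassmannian A (A ⊗[R] M) k → Prop)
  (d : ∀ A : CommAlgCat.{u} R, Module.Grassmannian A (A ⊗[R] M) k → Ideal A)
  (hO : ∀ (A C : CommAlgCat.{u} R) (φ : A ⟶ C) (N : Module.Grassmannian A (A ⊗[R] M) k),
    Op C (Module.Grassmannian.map φ.hom N) ↔
      ∀ p : PrimeSpectrum C, ¬ d A N ≤ p.asIdeal.comap (φ.hom : A →+* C))

/-- the open locus on an affine open -/
noncomputable def DW (W : X.left.affineOpens) : (Spec Γ(X.left, W.1)).Opens :=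
  ⟨(PrimeSpectrum.zeroLocus (R := Γ(X.left, W.1))
      ((d (ΓA X W) (gp e _ (pt X W)) : Ideal (ΓA X W)) : Set (ΓA X W)))ᶜ,
    (PrimeSpectrum.isClosed_zeroLocus _).isOpen_compl⟩

lemma mem_DW (W : X.left.affineOpens) (p : Spec Γ(X.left, W.1)) :
    p ∈ DW e d W ↔ ¬ d (ΓA X W) (gp e _ (pt X W)) ≤ p.asIdeal := by
  change p ∈ (PrimeSpectrum.zeroLocus _)ᶜ ↔ _
  rw [Set.mem_compl_iff, PrimeSpectrum.mem_zeroLocus]
  rfl

/-- the open subscheme of points satisfying the condition -/
noncomputable def Uop : X.left.Opens := ⨆ W : X.left.affineOpens, W.2.fromSpec ''ᵁ DW e d W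

include he hO in
lemma mem_DW_iff_of_fromSpec_eq (A : CommAlgCat.{u} R) (g : ov A ⟶ X) (q : (ov A).left)
    (W : X.left.affineOpens) (p : Spec Γ(X.left, W.1)) (hp : W.2.fromSpec p = g.left q) :
    p ∈ DW e d W ↔ ¬ d A (gp e A g) ≤ q.asIdeal := by
  have hxW : g.left q ∈ W.1 := by
    rw [← hp]
    have : W.2.fromSpec p ∈ Set.range W.2.fromSpec := ⟨p, rfl⟩
    rwa [IsAffineOpen.range_fromSpec] at this
  obtain ⟨_, ⟨V, hV, rfl⟩, hqV, hVW⟩ := (ov A).left.isBasis_affineOpens.exists_subset_of_mem_open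
    (show q ∈ (g.left ⁻¹ᵁ W.1 : Set (ov A).left) from hxW) (g.left ⁻¹ᵁ W.1).2
  obtain ⟨q'', hq''⟩ : ∃ q'' : Spec Γ((ov A).left, V), hV.fromSpec q'' = q := by
    have : q ∈ Set.range hV.fromSpec := by rw [IsAffineOpen.range_fromSpec]; exact hqV
    exact this
  let V' : (ov A).left.affineOpens := ⟨V, hV⟩
  let φ := appLEA g W V' hVW
  have hp2 : W.2.fromSpec (Spec.map (CommRingCat.ofHom φ.hom.toRingHom) q'') = g.left q := by
    have h1 := pt_comp_left g W V' hVW
    have h2 : (pt (ov A) V' ≫ g).left q'' = g.left q := by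
      rw [Over.comp_left, pt_left]
      change g.left (hV.fromSpec q'') = _
      rw [hq'']
    rw [h1] at h2
    exact h2
  have hpeq : p = Spec.map (CommRingCat.ofHom φ.hom.toRingHom) q'' :=
    W.2.fromSpec.isOpenEmbedding.injective (hp.trans hp2.symm)
  rw [mem_DW, hpeq]
  have h3 := op_comp_toκ_iff Op d hO (ΓA X W) (ΓA (ov A) V') φ q'' (gp e _ (pt X W))
  have h4 := op_comp_toκ_iff Op d hO A (ΓA (ov A) V') (αA A V') q'' (gp e A g)
  rw [← gp_pt_comp e he g W V' hVW, gp_pt_comp_αA e he A g V'] at h3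
  have h5 : q.asIdeal = (q'' : PrimeSpectrum (ΓA (ov A) V')).asIdeal.comap
      ((αA A V').hom : A →+* ΓA (ov A) V') := by
    rw [← hq'', ← Spec_map_α A V']; rfl
  rw [h5, ← h4, h3]
  rfl

include he hO in
lemma mem_Uop_iff (A : CommAlgCat.{u} R) (g : ov A ⟶ X) (q : (ov A).left) :
    g.left q ∈ Uop e d ↔ ¬ d A (gp e A g) ≤ q.asIdeal := by
  constructor
  · intro h
    rw [Uop, TopologicalSpace.Opens.mem_iSup] at h
    obtain ⟨W, p, hpD, hp⟩ := h
    exact (mem_DW_iff_of_fromSpec_eq e he Op d hO A g q W p hp).mp hpD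
  · intro h
    obtain ⟨_, ⟨W, hW, rfl⟩, hxW, -⟩ := X.left.isBasis_affineOpens.exists_subset_of_mem_open
      (Set.mem_univ (g.left q)) isOpen_univ
    obtain ⟨p, hp⟩ : ∃ p, hW.fromSpec p = g.left q := by
      have : g.left q ∈ Set.range hW.fromSpec := by rw [IsAffineOpen.range_fromSpec]; exact hxW
      exact this
    rw [Uop, TopologicalSpace.Opens.mem_iSup]
    exact ⟨⟨W, hW⟩, p, (mem_DW_iff_of_fromSpec_eq e he Op d hO A g q ⟨W, hW⟩ p hp).mpr h, hp⟩

include he hO in
/-- membership in the open locus is tested by the residue field point. -/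
lemma mem_Uop_iff_op (A : CommAlgCat.{u} R) (g : ov A ⟶ X) (q : PrimeSpectrum A) :
    g.left q ∈ Uop e d ↔ Op (κ A q) (Module.Grassmannian.map (toκ A q).hom (gp e A g)) := by
  rw [mem_Uop_iff e he Op d hO, op_toκ_iff Op d hO]

include he hO in
theorem range_subset_Uop_iff (A : CommAlgCat.{u} R) (g : ov A ⟶ X) :
    Set.range g.left ⊆ (Uop e d : Set X.left) ↔ Op A (gp e A g) := by
  rw [op_iff Op d hO]
  constructor
  · intro H p
    exact (mem_Uop_iff e he Op d hO A g p).mp (H ⟨p, rfl⟩)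
  · rintro H _ ⟨q, rfl⟩
    exact (mem_Uop_iff e he Op d hO A g q).mpr (H q)

/-- the open subscheme, over `Spec R` -/
noncomputable def UO : Over (Spec (CommRingCat.of R)) := Over.mk ((Uop e d).ι ≫ X.hom)

/-- the inclusion of the open subscheme -/
noncomputable def ιU : UO e d ⟶ X := Over.homMk (U := UO e d) (V := X) (Uop e d).ι rfl

lemma ιU_left : (ιU e d).left = (Uop e d).ι := rfl

lemma ιU_cancel {Y : Over (Spec (CommRingCat.of R))} (h h' : Y ⟶ UO e d)
    (H : h ≫ ιU e d = h' ≫ ιU e d) : h = h' := by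
  apply Over.OverMorphism.ext
  have := congrArg (fun t => t.left) H
  simp only [Over.comp_left, ιU_left] at this
  exact (cancel_mono (Uop e d).ι).mp this

include he hO in
/-- a point of `X` factors through the open subscheme iff it satisfies the condition. -/
theorem exists_lift_iff (A : CommAlgCat.{u} R) (g : ov A ⟶ X) :
    (∃ h : ov A ⟶ UO e d, h ≫ ιU e d = g) ↔ Op A (gp e A g) := by
  rw [← range_subset_Uop_iff e he Op d hO]
  constructor
  · rintro ⟨h, rfl⟩
    rintro _ ⟨q, rfl⟩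
    rw [Over.comp_left, ιU_left]
    exact (h.left q).2
  · intro H
    have hr : Set.range g.left ⊆ Set.range (Uop e d).ι := by
      rwa [Scheme.Opens.range_ι]
    refine ⟨Over.homMk (U := ov A) (V := UO e d) (IsOpenImmersion.lift (Uop e d).ι g.left hr) ?_, ?_⟩
    · change IsOpenImmersion.lift (Uop e d).ι g.left hr ≫ (Uop e d).ι ≫ X.hom = _
      rw [IsOpenImmersion.lift_fac_assoc]
      exact Over.w g
    · apply Over.OverMorphism.ext
      rw [Over.comp_left, ιU_left]
      exact IsOpenImmersion.lift_fac _ _ _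

end main2

end Groth.Agent.Lib.Seat68.GrassOpen
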