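import Mathlib
import Groth.Agent.Lib.Seat68GrassOpenB
import Groth.Agent.Lib.Seat68GrassChartB
import Groth.Agent.Lib.Seat68AffSpaceRep
import Groth.Agent.Lib.Seat68AffSmooth

/-!
# The standard affine charts of a scheme representing the Grassmannian of `R^n` (seat 68)
-/

set_option autoImplicit false
set_option linter.style.haveILetI false
universe u
open CategoryTheory AlgebraicGeometry TensorProduct

namespace Groth.Agent.Lib.Seat68.GrassCover

open Groth.Agent.Lib.Seat68.GrassHilb Groth.Agent.Lib.Seat68.GrassAlg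
  Groth.Agent.Lib.Seat68.GrassRep Groth.Agent.Lib.Seat68.GrassOpen
  Groth.Agent.Lib.Seat68.GrassChart Groth.Agent.Lib.Seat68.AffRep
  Groth.Agent.Lib.Seat68.AffSpaceRep Groth.Agent.Lib.Seat68.AffSmooth

section idx

variable (n k : ℕ)

/-- the index type of the coordinates of a chart -/
abbrev ιd : Type u := ULift.{u} (Fin (k * (n - k)))

/-- coordinates are matrix entries -/
def rr : ιd.{u} n k ≃ Fin k × Fin (n - k) := Equiv.ulift.trans finProdFinEquiv.symm

variable {n k} {A : Type u}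

/-- matrix to vector -/
def reidx (c : Fin (n - k) → Fin k → A) : ιd.{u} n k → A := fun x => c (rr n k x).2 (rr n k x).1

/-- vector to matrix -/
def unidx (c' : ιd.{u} n k → A) : Fin (n - k) → Fin k → A := fun j i => c' ((rr n k).symm (i, j))

lemma reidx_unidx (c' : ιd.{u} n k → A) : reidx (unidx c') = c' := by
  funext x
  simp [reidx, unidx]

lemma unidx_reidx (c : Fin (n - k) → Fin k → A) : unidx (reidx c) = c := by
  funext j i
  simp [reidx, unidx]

end idx

section congr

variable {R : Type u} [CommRing R] {M : Type u} [AddCommGroup M] [Module R M] {k : ℕ}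
  {J : Type} (b : Module.Basis (Fin k ⊕ J) R M) {A : Type u} [CommRing A] [Algebra R A]

lemma coeff_congr {N N' : Submodule A (A ⊗[R] M)} (h : N = N') (hN : IsChart (vb b) N)
    (hN' : IsChart (vb b) N') : coeff b N hN = coeff b N' hN' := by
  subst h
  rfl

end congr

variable {R : Type u} [CommRing R] {n k : ℕ} {X : Over (Spec (CommRingCat.of R))}
  (e : ∀ A : CommAlgCat.{u} R,
    (ov A ⟶ X) ≃ (Module.Grassmannian.functor (R := R) (M := Fin n → R) k).obj A)
  (he : ∀ (A C : CommAlgCat.{u} R) (φ : A ⟶ C) (g : ov A ⟶ X) (g' : ov C ⟶ X),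
    g'.left = Spec.map (CommRingCat.ofHom φ.hom.toRingHom) ≫ g.left →
      e C g' = (Module.Grassmannian.functor (R := R) (M := Fin n → R) k).map φ (e A g))
  (τ : Fin k ⊕ Fin (n - k) ≃ Fin n)

/-- the chart condition -/
def Op (A : CommAlgCat.{u} R) (N : Module.Grassmannian A (A ⊗[R] (Fin n → R)) k) : Prop :=
  IsChart (vb (bτ (R := R) τ)) N.toSubmodule

/-- the ideal of the complement of the chart -/
noncomputable def dd (A : CommAlgCat.{u} R) (N : Module.Grassmannian A (A ⊗[R] (Fin n → R)) k) :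
    Ideal A :=
  dI (vb (bτ (R := R) τ)) N.toSubmodule

lemma hO (A C : CommAlgCat.{u} R) (φ : A ⟶ C)
    (N : Module.Grassmannian A (A ⊗[R] (Fin n → R)) k) :
    Op τ C (Module.Grassmannian.map φ.hom N) ↔
      ∀ p : PrimeSpectrum C, ¬ dd τ A N ≤ p.asIdeal.comap (φ.hom : A →+* C) :=
  isChart_map_iff _ N φ.hom

/-- the chart as an open subscheme -/
noncomputable def Uτ : X.left.Opens := Uop e (dd τ)

include he in
lemma isChart_of_hom (A : CommAlgCat.{u} R) (h : ov A ⟶ UO e (dd τ)) :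
    IsChart (vb (bτ (R := R) τ)) (gp e A (h ≫ ιU e (dd τ))).toSubmodule :=
  (exists_lift_iff e he (Op τ) (dd τ) (hO τ) A _).mp ⟨h, rfl⟩

/-- the coordinates of a point of the chart -/
noncomputable def Φ (A : CommAlgCat.{u} R) (h : ov A ⟶ UO e (dd τ)) : Fo (ιd.{u} n k) A :=
  reidx (coeff (bτ (R := R) τ) (gp e A (h ≫ ιU e (dd τ))).toSubmodule
    (isChart_of_hom e he τ A h))

lemma Φ_bijective (A : CommAlgCat.{u} R) : Function.Bijective (Φ e he τ A) := by
  constructor
  · intro h h' hh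
    apply ιU_cancel
    apply (e A).injective
    have h1 := congrArg unidx hh
    simp only [Φ, unidx_reidx] at h1
    have h2 := ofMat_coeff (bτ (R := R) τ) _ (isChart_of_hom e he τ A h)
    have h3 := ofMat_coeff (bτ (R := R) τ) _ (isChart_of_hom e he τ A h')
    rw [h1, h3] at h2
    exact h2.symm
  · intro c
    let N := ofMat (bτ (R := R) τ) (A := A) (unidx c)
    have hgp : gp e A (ofGp e A N) = N := gp_ofGp e A N
    have hN : Op τ A (gp e A (ofGp e A N)) := by
      change IsChart _ (gp e A (ofGp e A N)).toSubmodule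
      rw [hgp]
      exact isChart_ofMat _ _
    obtain ⟨h, hh⟩ := (exists_lift_iff e he (Op τ) (dd τ) (hO τ) A _).mpr hN
    refine ⟨h, ?_⟩
    have h1 : (gp e A (h ≫ ιU e (dd τ))).toSubmodule = N.toSubmodule := by
      rw [hh, hgp]
    rw [Φ, coeff_congr _ h1 _ (isChart_ofMat _ _)]
    have h2 : coeff (bτ (R := R) τ) N.toSubmodule (isChart_ofMat _ _) = unidx c := by
      funext j
      exact coeff_ofMat _ _ _ j
    rw [h2]
    exact reidx_unidx c

/-- the chart represents affine space's functor -/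
noncomputable def eU (A : CommAlgCat.{u} R) : (ov A ⟶ UO e (dd τ)) ≃ Fo (ιd.{u} n k) A :=
  Equiv.ofBijective (Φ e he τ A) (Φ_bijective e he τ A)

lemma Φ_apply (A : CommAlgCat.{u} R) (h : ov A ⟶ UO e (dd τ)) (x : ιd.{u} n k) :
    Φ e he τ A h x = coeff (bτ (R := R) τ) (gp e A (h ≫ ιU e (dd τ))).toSubmodule
      (isChart_of_hom e he τ A h) (rr n k x).2 (rr n k x).1 := rfl

lemma coeff_congr' (C : CommAlgCat.{u} R)
    (N N' : Module.Grassmannian C (C ⊗[R] (Fin n → R)) k)
    (h : N = N') (hN : IsChart (vb (bτ (R := R) τ)) N.toSubmodule)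
    (hN' : IsChart (vb (bτ (R := R) τ)) N'.toSubmodule) :
    coeff (bτ (R := R) τ) N.toSubmodule hN = coeff (bτ (R := R) τ) N'.toSubmodule hN' := by
  subst h
  rfl

lemma isRep_U : IsRep (R := R) (Fo (ιd.{u} n k)) (Fm (ιd.{u} n k)) (UO e (dd τ)) (eU e he τ) := by
  intro A C φ g g' hgg
  have h1 : gp e C (g' ≫ ιU e (dd τ)) =
      Module.Grassmannian.map φ.hom (gp e A (g ≫ ιU e (dd τ))) :=
    gp_comp_eq_map e he A C φ g g' hgg (ιU e (dd τ))
  have h2 : IsChart (vb (bτ (R := R) τ))
      (Module.Grassmannian.map φ.hom (gp e A (g ≫ ιU e (dd τ)))).toSubmodule := by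
    rw [← h1]; exact isChart_of_hom e he τ C g'
  have h3 := coeff_congr' τ C _ _ h1 (isChart_of_hom e he τ C g') h2
  funext x
  have h4 : eU e he τ C g' x = Φ e he τ C g' x := rfl
  have h5 : Fm (ιd.{u} n k) A C φ (eU e he τ A g) x = φ.hom (Φ e he τ A g x) := rfl
  rw [h4, h5, Φ_apply, Φ_apply, h3,
    coeff_map (bτ (R := R) τ) _ (isChart_of_hom e he τ A g) φ.hom h2]
  rfl

include he in
/-- each chart is an affine space -/
theorem exists_iso_chart :
    Nonempty (Over.mk ((Uτ e τ).ι ≫ X.hom) ≅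
      Over.mk (𝔸(ιd.{u} n k; Spec (CommRingCat.of R)) ↘ Spec (CommRingCat.of R))) := by
  obtain ⟨i, -⟩ := exists_iso_of_rep (isSep (R := R) (ιd.{u} n k)) (isRep_U e he τ)
    (isRep_AS (R := R) (ιd.{u} n k))
  exact ⟨i⟩

include he in
/-- the charts cover -/
theorem iSup_Uτ : ⨆ τ : Fin k ⊕ Fin (n - k) ≃ Fin n, Uτ e τ = ⊤ := by
  rw [eq_top_iff]
  intro x _
  obtain ⟨_, ⟨W, hW, rfl⟩, hxW, -⟩ := X.left.isBasis_affineOpens.exists_subset_of_mem_open
    (Set.mem_univ x) isOpen_univ
  have hW' : IsAffineOpen W := hW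
  obtain ⟨p, hp⟩ : ∃ p, hW'.fromSpec p = x := by
    have : x ∈ Set.range hW'.fromSpec := by rw [IsAffineOpen.range_fromSpec]; exact hxW
    exact this
  let W' : X.left.affineOpens := ⟨W, hW⟩
  let q : PrimeSpectrum (ΓA X W') := p
  obtain ⟨τ, hτ⟩ := exists_chart_of_field (R := R) (n := n) (k := k)
    (L := q.asIdeal.ResidueField)
    (Module.Grassmannian.map (toκ (ΓA X W') q).hom (gp e (ΓA X W') (pt X W')))
  rw [TopologicalSpace.Opens.mem_iSup]
  refine ⟨τ, ?_⟩
  have := (mem_Uop_iff_op e he (Op τ) (dd τ) (hO τ) (ΓA X W') (pt X W') q).mpr hτ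
  rw [← hp]
  exact this

include he in
/-- a scheme representing the Grassmannian of `R^n` is smooth of relative dimension `k (n - k)`
and covered by finitely many affine spaces. -/
theorem main : SmoothOfRelativeDimension (k * (n - k)) X.hom ∧
    ∃ (ι : Type) (_ : Finite ι) (U : ι → X.left.Opens), ⨆ i, U i = ⊤ ∧
      ∀ i, Nonempty (Over.mk ((U i).ι ≫ X.hom) ≅
        Over.mk (𝔸(ULift.{u} (Fin (k * (n - k))); Spec (CommRingCat.of R)) ↘
          Spec (CommRingCat.of R))) := by
  have hsm : SmoothOfRelativeDimension (k * (n - k))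
      (Over.mk (𝔸(ιd.{u} n k; Spec (CommRingCat.of R)) ↘ Spec (CommRingCat.of R))).hom := by
    have := smooth_affineSpace (CommRingCat.of R) (ιd.{u} n k)
    simpa using this
  refine ⟨smooth_of_cover (k * (n - k)) (fun τ => Uτ e τ) (iSup_Uτ e he) hsm
    (fun τ => exists_iso_chart e he τ), ?_⟩
  exact ⟨Fin k ⊕ Fin (n - k) ≃ Fin n, inferInstance, fun τ => Uτ e τ, iSup_Uτ e he,
    fun τ => exists_iso_chart e he τ⟩

end Groth.Agent.Lib.Seat68.GrassCover
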