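import Mathlib
import Groth.Agent.Lib.Seat68GrassRep

/-!
# A surjection of modules induces a closed immersion of Grassmannians (seat 68)
-/

set_option autoImplicit false
set_option linter.style.haveILetI false
set_option backward.isDefEq.respectTransparency false
universe u
open CategoryTheory AlgebraicGeometry TensorProduct

namespace Groth.Agent.Lib.Seat68.GrassSurj

open Groth.Agent.Lib.Seat68.GrassHilb Groth.Agent.Lib.Seat68.GrassAlg
  Groth.Agent.Lib.Seat68.GrassRep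

variable {R : Type u} [CommRing R] {M₁ M₂ : Type u} [AddCommGroup M₁] [Module R M₁]
  [AddCommGroup M₂] [Module R M₂] (v : M₁ →ₗ[R] M₂) (hv : Function.Surjective v) {k : ℕ}
  {X₁ X₂ : Over (Spec (CommRingCat.of R))}
  (e₁ : ∀ A : CommAlgCat.{u} R,
    (ov A ⟶ X₁) ≃ (Module.Grassmannian.functor (R := R) (M := M₁) k).obj A)
  (he₁ : ∀ (A C : CommAlgCat.{u} R) (φ : A ⟶ C) (g : ov A ⟶ X₁) (g' : ov C ⟶ X₁),
    g'.left = Spec.map (CommRingCat.ofHom φ.hom.toRingHom) ≫ g.left →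
      e₁ C g' = (Module.Grassmannian.functor (R := R) (M := M₁) k).map φ (e₁ A g))
  (e₂ : ∀ A : CommAlgCat.{u} R,
    (ov A ⟶ X₂) ≃ (Module.Grassmannian.functor (R := R) (M := M₂) k).obj A)
  (he₂ : ∀ (A C : CommAlgCat.{u} R) (φ : A ⟶ C) (g : ov A ⟶ X₂) (g' : ov C ⟶ X₂),
    g'.left = Spec.map (CommRingCat.ofHom φ.hom.toRingHom) ≫ g.left →
      e₂ C g' = (Module.Grassmannian.functor (R := R) (M := M₂) k).map φ (e₂ A g))

include he₁ he₂ in
theorem exists_c : ∃ c : X₂ ⟶ X₁, ∀ (A : CommAlgCat.{u} R) (g : ov A ⟶ X₂),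
    gp e₁ A (g ≫ c) = pre v hv (gp e₂ A g) :=
  exists_hom_of_natural e₁ he₁ X₂ (fun A g => pre v hv (gp e₂ A g)) (by
    intro A C φ g g' h
    rw [gp_eq_map e₂ he₂ A C φ g g' h, pre_map])

include he₁ he₂ in
theorem isClosedImmersion_of (c : X₂ ⟶ X₁)
    (hc : ∀ (A : CommAlgCat.{u} R) (g : ov A ⟶ X₂), gp e₁ A (g ≫ c) = pre v hv (gp e₂ A g)) :
    IsClosedImmersion c.left := by
  obtain ⟨Z, ι, hι, hfac, hY⟩ := exists_closed_of_cond e₁ he₁
    (fun A N => Contains v N) (fun A N => coeffIdeal v N)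
    (fun A C φ N => contains_map_iff v hv N φ.hom)
  -- `c` factors through `Z`
  obtain ⟨c', hc'⟩ := hY X₂ c (fun V => by rw [hc]; exact contains_pre v hv _)
  let Z' : Over (Spec (CommRingCat.of R)) := Over.mk (ι ≫ X₁.hom)
  let ιO : Z' ⟶ X₁ := Over.homMk (U := Z') (V := X₁) ι rfl
  let c'O : X₂ ⟶ Z' := Over.homMk (U := X₂) (V := Z') c' (by
    change c' ≫ ι ≫ X₁.hom = X₂.hom
    rw [← Category.assoc, hc', Over.w])
  have hc'O : c'O ≫ ιO = c := Over.OverMorphism.ext hc'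
  have hcont : ∀ (A : CommAlgCat.{u} R) (h : ov A ⟶ Z'), Contains v (gp e₁ A (h ≫ ιO)) :=
    fun A h => (hfac A (h ≫ ιO)).mp ⟨h.left, rfl⟩
  -- the inverse
  obtain ⟨d, hd⟩ := exists_hom_of_natural e₂ he₂ Z'
    (fun A h => img v hv (gp e₁ A (h ≫ ιO)) (hcont A h)) (by
      intro A C φ g g' h
      have h1 := gp_comp_eq_map e₁ he₁ A C φ g g' h ιO
      apply pre_injective v hv
      rw [pre_img, pre_map, pre_img, h1])
  have h1 : d ≫ c = ιO := by
    apply hom_ext_pt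
    intro W
    apply gp_injective e₁
    rw [← Category.assoc, hc, hd, pre_img]
  have h2 : c'O ≫ d = 𝟙 X₂ := by
    apply hom_ext_pt
    intro W
    apply gp_injective e₂
    rw [← Category.assoc, hd]
    apply pre_injective v hv
    rw [pre_img, Category.assoc, hc'O, hc, Category.comp_id]
  have h3 : d.left ≫ c' = 𝟙 Z := by
    rw [← cancel_mono ι, Category.assoc, hc']
    exact (congrArg (fun t => t.left) h1).trans (Category.id_comp ι).symm
  have h4 : c' ≫ d.left = 𝟙 _ := congrArg (fun t => t.left) h2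
  haveI : IsIso c' := ⟨d.left, h4, h3⟩
  rw [← hc']
  infer_instance

end Groth.Agent.Lib.Seat68.GrassSurj
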