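import Groth.Prelude.Def_HilbD
import Mathlib.AlgebraicGeometry.Morphisms.ClosedImmersion
import Mathlib.AlgebraicGeometry.Morphisms.Separated
import Mathlib.AlgebraicGeometry.Morphisms.FlatRank

/-!
# The Hilbert functor of one point (seat 68)

For a separated `f : X ⟶ S`, closed subschemes of `X_T` that are finite locally free of degree one
over `T` are exactly the graphs of `S`-morphisms `T ⟶ X`, and the graph of `g` is the base change
of the diagonal along `g`.
-/

set_option autoImplicit false
set_option backward.isDefEq.respectTransparency false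
set_option backward.isDefEq.respectTransparency.types false
open CategoryTheory CategoryTheory.Limits AlgebraicGeometry
universe u

namespace Groth.Agent.Lib.Seat68.HilbOne

variable {X S : Scheme.{u}} (f : X ⟶ S)

/-- The graph `T ⟶ X_T` of an `S`-morphism `g : T ⟶ X`. -/
noncomputable def graph {T : Over S} (g : T ⟶ Over.mk f) : T.left ⟶ PicF.XT f T :=
  pullback.lift g.left (𝟙 T.left) (by simpa using Over.w g)

@[reassoc (attr := simp)]
lemma graph_fst {T : Over S} (g : T ⟶ Over.mk f) : graph f g ≫ pullback.fst f T.hom = g.left := by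
  simp [graph]

@[reassoc (attr := simp)]
lemma graph_snd {T : Over S} (g : T ⟶ Over.mk f) : graph f g ≫ pullback.snd f T.hom = 𝟙 _ := by
  simp [graph]

/-- The diagonal, as the graph of the identity. -/
noncomputable def diag : X ⟶ PicF.XT f (Over.mk f) :=
  pullback.lift (𝟙 X) (𝟙 X) (by simp)

lemma secGraph_id : HilbD.secGraph f (Over.mk f) (𝟙 X) (Category.id_comp f) = (diag f).ker := rfl

@[reassoc (attr := simp)]
lemma diag_fst : diag f ≫ pullback.fst f f = 𝟙 X := by
  simp [diag]

@[reassoc (attr := simp)]
lemma diag_snd : diag f ≫ pullback.snd f f = 𝟙 X := by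
  simp [diag]

@[reassoc (attr := simp)]
lemma XTmap_fst {T T' : Over S} (g : T' ⟶ T) :
    PicF.XTmap f g ≫ pullback.fst f T.hom = pullback.fst f T'.hom := by
  simp [PicF.XTmap]

@[reassoc (attr := simp)]
lemma XTmap_snd {T T' : Over S} (g : T' ⟶ T) :
    PicF.XTmap f g ≫ pullback.snd f T.hom = pullback.snd f T'.hom ≫ g.left := by
  simp [PicF.XTmap]

@[reassoc (attr := simp)]
lemma XTmap_fst' {T : Over S} (g : T ⟶ Over.mk f) :
    PicF.XTmap f g ≫ pullback.fst f f = pullback.fst f T.hom := XTmap_fst f g

@[reassoc (attr := simp)]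
lemma XTmap_snd' {T : Over S} (g : T ⟶ Over.mk f) :
    PicF.XTmap f g ≫ pullback.snd f f = pullback.snd f T.hom ≫ g.left := XTmap_snd f g

/-- The graph of `g` is the base change of the diagonal along `X_T ⟶ X ×_S X`. -/
lemma isPullback_graph {T : Over S} (g : T ⟶ Over.mk f) :
    IsPullback g.left (graph f g) (diag f) (PicF.XTmap f g) := by
  have key : ∀ s : PullbackCone (diag f) (PicF.XTmap f g),
      s.fst = s.snd ≫ pullback.fst f T.hom ∧ s.fst = s.snd ≫ pullback.snd f T.hom ≫ g.left := by
    intro s
    have h1 := congr($(s.condition) ≫ pullback.fst f f)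
    have h2 := congr($(s.condition) ≫ pullback.snd f f)
    simp only [Category.assoc, XTmap_fst', XTmap_snd'] at h1 h2
    erw [diag_fst] at h1
    erw [diag_snd] at h2
    simp only [Category.comp_id] at h1 h2
    exact ⟨h1, h2⟩
  refine ⟨⟨?_⟩, ⟨PullbackCone.IsLimit.mk _ (fun s => s.snd ≫ pullback.snd f T.hom) ?_ ?_ ?_⟩⟩
  · apply pullback.hom_ext
    · simp only [Category.assoc, XTmap_fst', graph_fst]
      erw [diag_fst]
      simp
    · simp only [Category.assoc, XTmap_snd', graph_snd_assoc]
      erw [diag_snd]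
      simp
  · intro s
    rw [Category.assoc, ← (key s).2]
  · intro s
    apply pullback.hom_ext
    · simp only [Category.assoc, graph_fst]
      rw [← (key s).2, (key s).1]
    · simp
  · intro s m _ hm
    have := congr($hm ≫ pullback.snd f T.hom)
    simpa using this


lemma diag_eq : diag f = pullback.diagonal f := rfl

instance [IsSeparated f] : IsClosedImmersion (diag f) := by
  rw [diag_eq]; infer_instance

instance isClosedImmersion_graph [IsSeparated f] {T : Over S} (g : T ⟶ Over.mk f) :
    IsClosedImmersion (graph f g) :=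
  MorphismProperty.of_isPullback (isPullback_graph f g) inferInstance

/-- Base change of the diagonal ideal along `g` is the ideal of the graph of `g`. -/
lemma pull_diag_ker [IsSeparated f] {T : Over S} (g : T ⟶ Over.mk f) :
    HilbD.pull f g (diag f).ker = (graph f g).ker := by
  have h : IsPullback (g.left ≫ (diag f).toImage) (graph f g) (diag f).ker.subschemeι
      (PicF.XTmap f g) := by
    refine IsPullback.of_iso (isPullback_graph f g) (Iso.refl _) (asIso (diag f).toImage)
      (Iso.refl _) (Iso.refl _) (by simp) (by simp) ?_ (by simp)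
    simp only [asIso_hom, Iso.refl_hom, Category.comp_id]
    exact (diag f).toImage_imageι.symm
  have h2 : h.isoPullback.hom ≫ pullback.snd _ _ = graph f g := h.isoPullback_hom_snd
  have h3 : pullback.snd (diag f).ker.subschemeι (PicF.XTmap f g) =
      h.isoPullback.inv ≫ graph f g := by
    rw [Iso.eq_inv_comp]; exact h2
  unfold HilbD.pull
  rw [h3, Scheme.Hom.ker_comp_of_isIso]

/-- The ideal of a graph lies in `Hilb^1`. -/
lemma graph_ker_mem [IsSeparated f] {T : Over S} (g : T ⟶ Over.mk f) :
    Mor2.IsFinLocFreeOfDeg 1 ((graph f g).ker.subschemeι ≫ PicF.XTproj f T) := by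
  have h1 : (graph f g).toImage ≫ ((graph f g).ker.subschemeι ≫ PicF.XTproj f T) = 𝟙 _ := by
    rw [← Category.assoc]
    erw [(graph f g).toImage_imageι]
    exact graph_snd f g
  have h2 : (graph f g).ker.subschemeι ≫ PicF.XTproj f T = inv (graph f g).toImage := by
    rw [← cancel_epi (graph f g).toImage, h1, IsIso.hom_inv_id]
  rw [h2]
  refine ⟨⟨inferInstance, inferInstance, inferInstance⟩, fun y => ?_⟩
  rw [Scheme.Hom.finrank_eq_one_of_isIso]
  rfl

theorem isUniversal_diag [IsSeparated f] :
    ∃ Δ : HilbD.Obj f 1 (Over.mk f),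
      Δ.1 = HilbD.secGraph f (Over.mk f) (𝟙 X) (Category.id_comp f) ∧
      HilbD.IsUniversal f 1 (Over.mk f) Δ := by
  have hΔ : Mor2.IsFinLocFreeOfDeg 1 ((diag f).ker.subschemeι ≫ PicF.XTproj f (Over.mk f)) := by
    have := graph_ker_mem f (𝟙 (Over.mk f))
    have e : graph f (𝟙 (Over.mk f)) = diag f := by
      apply pullback.hom_ext
      · erw [graph_fst]
      · erw [graph_snd]
    rwa [e] at this
  refine ⟨⟨(diag f).ker, hΔ⟩, rfl, ?_⟩
  intro T Z'
  obtain ⟨I', hI'⟩ := Z'
  obtain ⟨⟨hfin, hflat, hlfp⟩, hrank⟩ := hI'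
  have hiso : IsIso (I'.subschemeι ≫ PicF.XTproj f T) := by
    rw [Scheme.Hom.isIso_iff_finrank_eq]
    funext y
    exact hrank y
  set φ := I'.subschemeι ≫ PicF.XTproj f T with hφ
  let s : T.left ⟶ PicF.XT f T := inv φ ≫ I'.subschemeι
  have hs : s ≫ pullback.snd f T.hom = 𝟙 _ := by
    simp only [s, Category.assoc]
    exact IsIso.inv_hom_id φ
  let g : T ⟶ Over.mk f := Over.homMk (s ≫ pullback.fst f T.hom) (by
    simp only [Over.mk_hom, Category.assoc, pullback.condition]
    rw [reassoc_of% hs])
  have hg : graph f g = s := by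
    apply pullback.hom_ext
    · rw [graph_fst]; rfl
    · rw [graph_snd, hs]
  refine ⟨g, ?_, ?_⟩
  · show HilbD.pull f g (diag f).ker = I'
    rw [pull_diag_ker, hg, Scheme.Hom.ker_comp_of_isIso, Scheme.IdealSheafData.ker_subschemeι]
  · intro g' hg'
    have hg'2 : (graph f g').ker = I' := by rw [← pull_diag_ker]; exact hg'
    have hker : (graph f g).ker = (graph f g').ker := by
      rw [hg'2, hg, Scheme.Hom.ker_comp_of_isIso, Scheme.IdealSheafData.ker_subschemeι]
    let α := IsClosedImmersion.lift (graph f g) (graph f g') hker.le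
    have hα : α ≫ graph f g = graph f g' := IsClosedImmersion.lift_fac _ _ _
    have hα1 : α = 𝟙 _ := by
      have := congr($hα ≫ pullback.snd f T.hom)
      simpa using this
    rw [hα1, Category.id_comp] at hα
    apply Over.OverMorphism.ext
    rw [← graph_fst f g', ← hα, graph_fst]

end Groth.Agent.Lib.Seat68.HilbOne
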