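import Mathlib

/-!
# Morphisms of varieties injective on rational points (seat 68), part A

`k` algebraically closed, `X`, `Y` locally of finite type over `k`, `f : X ⟶ Y` a `k`-morphism with
`X` separated over `k`.  If `f` is injective on `k`-points then `f` is universally injective,
hence locally quasi-finite; in characteristic zero its residue field maps are bijective.
-/

set_option autoImplicit false
universe u

open CategoryTheory CategoryTheory.Limits AlgebraicGeometry

namespace Groth.Agent.Lib.Seat68.InjOpenA

variable {k : Type u} [Field k] [IsAlgClosed k] {X Y : Scheme.{u}}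
  (sX : X ⟶ Spec (CommRingCat.of k)) (sY : Y ⟶ Spec (CommRingCat.of k))

set_option backward.isDefEq.respectTransparency false in
theorem surjective_diagonal [IsSeparated sX] [LocallyOfFiniteType sX]
    (f : X ⟶ Y) (hf : f ≫ sY = sX)
    (hinj : ∀ a b : Spec (CommRingCat.of k) ⟶ X, a ≫ sX = 𝟙 _ → b ≫ sX = 𝟙 _ →
      a ≫ f = b ≫ f → a = b) :
    Surjective (pullback.diagonal f) := by
  subst hf
  have hsep : IsSeparated f := IsSeparated.of_comp f sY
  have hlft : LocallyOfFiniteType f := locallyOfFiniteType_of_comp f sY
  let sP : pullback f f ⟶ Spec (CommRingCat.of k) := pullback.fst f f ≫ f ≫ sY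
  have : LocallyOfFiniteType sP := by dsimp only [sP]; infer_instance
  have : JacobsonSpace ↥(pullback f f) := LocallyOfFiniteType.jacobsonSpace sP
  rw [surjective_iff]
  have hcl : IsClosed (Set.range (pullback.diagonal f)) :=
    (pullback.diagonal f).isClosedEmbedding.isClosed_range
  by_contra hns
  have hne : ((Set.range (pullback.diagonal f))ᶜ).Nonempty := by
    rw [Set.nonempty_compl]
    intro h
    exact hns (Set.range_eq_univ.mp h)
  have h1 := JacobsonSpace.closure_inter_closedPoints_eq_closure
    (X := ↥(pullback f f)) hcl.isOpen_compl.isLocallyClosed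
  have h2 : ((Set.range (pullback.diagonal f))ᶜ ∩ closedPoints ↥(pullback f f)).Nonempty := by
    by_contra hemp
    rw [Set.not_nonempty_iff_eq_empty] at hemp
    rw [hemp, closure_empty] at h1
    exact hne.closure.ne_empty h1.symm
  obtain ⟨z, hz, hzc⟩ := h2
  let p : Spec (CommRingCat.of k) ⟶ pullback f f := pointOfClosedPoint sP z hzc
  have hp : p ≫ sP = 𝟙 _ := pointOfClosedPoint_comp sP z hzc
  have hab : p ≫ pullback.fst f f = p ≫ pullback.snd f f := by
    apply hinj
    · simpa [sP] using hp
    · have : p ≫ pullback.snd f f ≫ f ≫ sY = 𝟙 _ := by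
        rw [← pullback.condition_assoc]; simpa [sP] using hp
      simpa using this
    · rw [Category.assoc, Category.assoc, pullback.condition]
  have hpd : p = (p ≫ pullback.fst f f) ≫ pullback.diagonal f := by
    apply pullback.hom_ext
    · simp
    · simp [hab]
  apply hz
  have hz' : p (IsLocalRing.closedPoint k) = z := pointOfClosedPoint_apply sP z hzc _
  refine ⟨(p ≫ pullback.fst f f) (IsLocalRing.closedPoint k), ?_⟩
  calc (pullback.diagonal f) ((p ≫ pullback.fst f f) (IsLocalRing.closedPoint k))
      = ((p ≫ pullback.fst f f) ≫ pullback.diagonal f) (IsLocalRing.closedPoint k) :=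
        (Scheme.Hom.comp_apply _ _ _).symm
    _ = p (IsLocalRing.closedPoint k) := by rw [← hpd]
    _ = z := hz'

theorem universallyInjective [IsSeparated sX] [LocallyOfFiniteType sX]
    (f : X ⟶ Y) (hf : f ≫ sY = sX)
    (hinj : ∀ a b : Spec (CommRingCat.of k) ⟶ X, a ≫ sX = 𝟙 _ → b ≫ sX = 𝟙 _ →
      a ≫ f = b ≫ f → a = b) :
    UniversallyInjective f :=
  (UniversallyInjective.iff_diagonal f).mpr (surjective_diagonal sX sY f hf hinj)

theorem locallyQuasiFinite_of_injective (f : X ⟶ Y) [LocallyOfFiniteType f]
    (hf : Function.Injective f) : LocallyQuasiFinite f := by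
  rw [locallyQuasiFinite_iff_isDiscrete_preimage_singleton]
  intro y
  have hsub : (f ⁻¹' {y}).Subsingleton := by
    intro a ha b hb
    exact hf (ha.trans hb.symm)
  exact hsub.isDiscrete

end Groth.Agent.Lib.Seat68.InjOpenA
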