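import Mathlib
import Groth.Prelude.Def_Pi1
import Groth.Agent.Lib.Helper4NormIso

/-!
# Birational integral morphisms to normal schemes (seat 68), part B

For `f : X ⟶ Y` dominant, quasi-compact and quasi-separated between integral schemes with `Y`
normal, if the stalk map at the generic point is bijective then the relative normalization of
`Y` in `X` is `Y`: `f.fromNormalization` is an isomorphism.
-/

set_option autoImplicit false
set_option linter.style.haveILetI false
universe u

open CategoryTheory CategoryTheory.Limits AlgebraicGeometry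

namespace Groth.Agent.Lib.Seat68.InjOpenB

theorem map_genericPoint {X Y : Scheme.{u}} [IrreducibleSpace X] [IrreducibleSpace Y]
    (f : X ⟶ Y) [IsDominant f] : f (genericPoint X) = genericPoint Y := by
  apply ((genericPoint_spec Y).eq _).symm
  have h := (genericPoint_spec X).image f.continuous
  rwa [Set.image_univ, f.denseRange.closure_range] at h

theorem bijective_algebraMap_stalk_functionField (Y : Scheme.{u}) [IsIntegral Y] (y : Y)
    (hy : y = genericPoint Y) :
    Function.Bijective (algebraMap (Y.presheaf.stalk y) Y.functionField) := by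
  have hins : Inseparable y (genericPoint Y) := hy ▸ Inseparable.refl _
  have h1 : IsIso (Y.presheaf.stalkSpecializes
      ((genericPoint_spec Y).specializes trivial : genericPoint Y ⤳ y)) :=
    inferInstanceAs (IsIso (Y.presheaf.stalkCongr hins).hom)
  exact ConcreteCategory.bijective_of_isIso
    (Y.presheaf.stalkSpecializes ((genericPoint_spec Y).specializes trivial : genericPoint Y ⤳ y))

variable {X Y : Scheme.{u}} [IsIntegral X] [IsIntegral Y]

theorem algebraMap_integralClosure_bijective (hY : Pi1.IsNormalScheme Y)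
    (f : X ⟶ Y) [IsDominant f]
    (hgen : Function.Bijective (f.stalkMap (genericPoint X)).hom)
    (U : Y.Opens) (hU : IsAffineOpen U) [hne : Nonempty U] :
    letI := (f.app U).hom.toAlgebra
    Function.Bijective (algebraMap Γ(Y, U) (integralClosure Γ(Y, U) Γ(X, f ⁻¹ᵁ U))) := by
  letI := (f.app U).hom.toAlgebra
  set η := genericPoint X with hη
  have hfη : f η = genericPoint Y := map_genericPoint f
  have hy₀ : f η ∈ U := by
    rw [hfη]
    exact ((genericPoint_spec Y).mem_open_set_iff U.isOpen).mpr (by simpa using hne)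
  have hηU : η ∈ f ⁻¹ᵁ U := hy₀
  have hφ := bijective_algebraMap_stalk_functionField Y (f η) hfη
  -- compatibility of germs with the stalk map
  have hcomp : ∀ a : Γ(Y, U), (f.stalkMap η).hom ((Y.presheaf.germ U (f η) hy₀).hom a) =
      (X.presheaf.germ (f ⁻¹ᵁ U) η hηU).hom ((f.app U).hom a) := by
    intro a
    have := Scheme.Hom.germ_stalkMap f U η hy₀
    exact congrArg (fun k => k.hom a) this
  have hgermX : Function.Injective (X.presheaf.germ (f ⁻¹ᵁ U) η hηU).hom :=
    germ_injective_of_isIntegral X η hηU
  have hgermY : Function.Injective (Y.presheaf.germ U (f η) hy₀).hom :=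
    germ_injective_of_isIntegral Y (f η) hy₀
  constructor
  · intro a₁ a₂ h
    have h' : (f.app U).hom a₁ = (f.app U).hom a₂ := congrArg Subtype.val h
    apply hgermY
    apply hgen.1
    rw [hcomp, hcomp, h']
  · rintro ⟨b, hb⟩
    obtain ⟨a', ha'⟩ := hgen.2 ((X.presheaf.germ (f ⁻¹ᵁ U) η hηU).hom b)
    obtain ⟨p, hp, hpb⟩ := hb
    -- `a'` is integral over `Γ(Y, U)`
    have hint : Polynomial.eval₂ (Y.presheaf.germ U (f η) hy₀).hom a' p = 0 := by
      apply hgen.1
      rw [map_zero, Polynomial.hom_eval₂, ha']
      have hcomp' : (f.stalkMap η).hom.comp (Y.presheaf.germ U (f η) hy₀).hom =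
          (X.presheaf.germ (f ⁻¹ᵁ U) η hηU).hom.comp (f.app U).hom := RingHom.ext hcomp
      rw [hcomp', ← Polynomial.hom_eval₂]
      have : Polynomial.eval₂ (f.app U).hom b p = 0 := hpb
      rw [this, map_zero]
    have hint2 : IsIntegral Γ(Y, U) (algebraMap (Y.presheaf.stalk (f η)) Y.functionField a') := by
      refine ⟨p, hp, ?_⟩
      have hal : (algebraMap Γ(Y, U) Y.functionField) =
          (algebraMap (Y.presheaf.stalk (f η)) Y.functionField).comp
            (Y.presheaf.germ U (f η) hy₀).hom := by
        ext a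
        exact (Scheme.algebraMap_germ_eq_germToFunctionField Y hy₀ a).symm
      rw [hal, ← Polynomial.hom_eval₂, hint, map_zero]
    haveI : IsDomain Γ(Y, U) := IsIntegral.component_integral U
    haveI : IsFractionRing Γ(Y, U) Y.functionField :=
      functionField_isFractionRing_of_isAffineOpen Y U hU
    haveI : IsIntegrallyClosed Γ(Y, U) :=
      Groth.Agent.Lib.Helper4.NormIso.isIntegrallyClosed_sections hY U hU
    obtain ⟨a, ha⟩ := (IsIntegrallyClosed.isIntegral_iff (R := Γ(Y, U))
      (K := Y.functionField)).mp hint2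
    have haa' : (Y.presheaf.germ U (f η) hy₀).hom a = a' := by
      apply hφ.1
      rw [← ha]
      exact Scheme.algebraMap_germ_eq_germToFunctionField Y hy₀ a
    refine ⟨a, Subtype.ext ?_⟩
    change (f.app U).hom a = b
    apply hgermX
    rw [← hcomp, haa', ha']

theorem isIso_fromNormalization (hY : Pi1.IsNormalScheme Y)
    (f : X ⟶ Y) [IsDominant f] [QuasiCompact f] [QuasiSeparated f]
    (hgen : Function.Bijective (f.stalkMap (genericPoint X)).hom) :
    IsIso f.fromNormalization := by
  let ι := {U : Y.affineOpens // Nonempty (U : Y.Opens)}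
  have hsup : (⨆ U : ι, ((U.1 : Y.affineOpens) : Y.Opens)) = ⊤ := by
    rw [eq_top_iff]
    intro y _
    obtain ⟨_, ⟨V, hV, rfl⟩, hyV, -⟩ := Y.isBasis_affineOpens.exists_subset_of_mem_open
      (Set.mem_univ y) isOpen_univ
    exact TopologicalSpace.Opens.mem_iSup.mpr ⟨⟨⟨V, hV⟩, ⟨⟨y, hyV⟩⟩⟩, hyV⟩
  change MorphismProperty.isomorphisms Scheme.{u} f.fromNormalization
  rw [IsZariskiLocalAtTarget.iff_of_iSup_eq_top (P := MorphismProperty.isomorphisms Scheme.{u}) _
    hsup]
  rintro ⟨U, hne⟩
  change IsIso (f.fromNormalization ∣_ (U : Y.Opens))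
  rw [isIso_morphismRestrict_iff_isIso_app _ U.2, Scheme.Hom.fromNormalization_app f U.2]
  letI := (f.app U.1).hom.toAlgebra
  haveI : IsIso (CommRingCat.ofHom (algebraMap Γ(Y, U.1)
      (integralClosure Γ(Y, U.1) Γ(X, f ⁻¹ᵁ U.1)))) := by
    rw [ConcreteCategory.isIso_iff_bijective]
    exact algebraMap_integralClosure_bijective hY f hgen U.1 U.2
  infer_instance

end Groth.Agent.Lib.Seat68.InjOpenB
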