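import Mathlib
import Groth.Prelude.Def_Pi1
import Groth.Agent.Lib.Seat68InjOpenA
import Groth.Agent.Lib.Seat68InjOpenB

/-!
# Morphisms of varieties injective on rational points (seat 68), part C

In characteristic zero, a dominant morphism of integral separated schemes of finite type over an
algebraically closed field, injective on rational points and with normal target, is an open
immersion.
-/

set_option autoImplicit false
set_option linter.style.haveILetI false
universe u

open CategoryTheory CategoryTheory.Limits AlgebraicGeometry

namespace Groth.Agent.Lib.Seat68.InjOpenC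

open Groth.Agent.Lib.Seat68.InjOpenA Groth.Agent.Lib.Seat68.InjOpenB

/-- The residue map of a local ring which is a field is bijective. -/
theorem residue_bijective_of_isField (R : Type*) [CommRing R] [IsLocalRing R] (h : IsField R) :
    Function.Bijective (IsLocalRing.residue R) := by
  refine ⟨?_, Ideal.Quotient.mk_surjective⟩
  rw [injective_iff_map_eq_zero]
  intro a ha
  have hm : IsLocalRing.maximalIdeal R = ⊥ := IsLocalRing.isField_iff_maximalIdeal_eq.mp h
  have : a ∈ IsLocalRing.maximalIdeal R := (IsLocalRing.residue_eq_zero_iff a).mp ha
  rw [hm] at this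
  exact this

/-- A purely inseparable ring map between fields of characteristic zero is bijective. -/
theorem bijective_of_isPurelyInseparable {F E : Type*} [Field F] [Field E] [CharZero F]
    (φ : F →+* E) (h : φ.IsPurelyInseparable) : Function.Bijective φ := by
  letI := φ.toAlgebra
  haveI : IsPurelyInseparable F E := h
  haveI : Algebra.IsAlgebraic F E := inferInstance
  haveI : Algebra.IsSeparable F E := inferInstance
  exact IsPurelyInseparable.bijective_algebraMap_of_isSeparable F E

variable {k : Type u} [Field k] {X Y : Scheme.{u}}

theorem charZero_residueField [CharZero k] (sY : Y ⟶ Spec (CommRingCat.of k)) (y : Y) :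
    CharZero (Y.residueField y) := by
  let φ : k →+* Y.residueField y :=
    (Y.residue y).hom.comp ((Y.presheaf.germ ⊤ y trivial).hom.comp
      (sY.appTop.hom.comp (Scheme.ΓSpecIso (CommRingCat.of k)).inv.hom))
  exact charZero_of_injective_ringHom φ.injective

theorem stalkMap_bijective_of_universallyInjective [CharZero k]
    (sY : Y ⟶ Spec (CommRingCat.of k)) [IsIntegral X] [IsIntegral Y]
    (f : X ⟶ Y) [IsDominant f] [UniversallyInjective f] :
    Function.Bijective (f.stalkMap (genericPoint X)).hom := by
  set η := genericPoint X with hη
  have hfη : f η = genericPoint Y := map_genericPoint f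
  have h3 : Function.Injective f ∧ ∀ x, (f.residueFieldMap x).hom.IsPurelyInseparable := by
    have h02 := (tfae_universallyInjective f).out 0 2
    exact h02.mp ‹UniversallyInjective f›
  have hpi : (f.residueFieldMap η).hom.IsPurelyInseparable := h3.2 η
  haveI := charZero_residueField sY (f η)
  have hres : Function.Bijective (f.residueFieldMap η).hom :=
    bijective_of_isPurelyInseparable _ hpi
  have hX : Function.Bijective (X.residue η).hom :=
    residue_bijective_of_isField _ (Field.toIsField X.functionField)
  have hYf : IsField (Y.presheaf.stalk (f η)) := by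
    have hb := bijective_algebraMap_stalk_functionField Y (f η) hfη
    exact MulEquiv.isField (Field.toIsField Y.functionField)
      (RingEquiv.ofBijective _ hb).toMulEquiv
  have hYr : Function.Bijective (Y.residue (f η)).hom := residue_bijective_of_isField _ hYf
  have hsq : ∀ a, (X.residue η).hom ((f.stalkMap η).hom a) =
      (f.residueFieldMap η).hom ((Y.residue (f η)).hom a) := by
    intro a
    have := Scheme.residue_residueFieldMap f η
    exact (congrArg (fun k => k.hom a) this).symm
  constructor
  · intro a b hab
    apply hYr.1
    apply hres.1
    rw [← hsq, ← hsq, hab]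
  · intro c
    obtain ⟨r, hr⟩ := hres.2 ((X.residue η).hom c)
    obtain ⟨a, rfl⟩ := hYr.2 r
    refine ⟨a, hX.1 ?_⟩
    rw [hsq, hr]

theorem isOpenImmersion_of_injective_on_points [IsAlgClosed k] [CharZero k]
    (sX : X ⟶ Spec (CommRingCat.of k)) (sY : Y ⟶ Spec (CommRingCat.of k))
    [IsIntegral X] [IsIntegral Y] [IsSeparated sX] [IsSeparated sY]
    [LocallyOfFiniteType sX] [QuasiCompact sX]
    (hY : Pi1.IsNormalScheme Y)
    (f : X ⟶ Y) (hf : f ≫ sY = sX) [IsDominant f]
    (hinj : ∀ a b : Spec (CommRingCat.of k) ⟶ X, a ≫ sX = 𝟙 _ → b ≫ sX = 𝟙 _ →
      a ≫ f = b ≫ f → a = b) :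
    IsOpenImmersion f := by
  haveI hui : UniversallyInjective f := universallyInjective sX sY f hf hinj
  subst hf
  haveI hsep : IsSeparated f := IsSeparated.of_comp f sY
  haveI hlft : LocallyOfFiniteType f := locallyOfFiniteType_of_comp f sY
  haveI hqc : QuasiCompact f := QuasiCompact.of_comp f sY
  haveI hlqf : LocallyQuasiFinite f := locallyQuasiFinite_of_injective f f.injective
  have hgen := stalkMap_bijective_of_universallyInjective sY f
  haveI : IsIso f.fromNormalization := isIso_fromNormalization hY f hgen
  rw [← f.toNormalization_fromNormalization]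
  infer_instance

end Groth.Agent.Lib.Seat68.InjOpenC
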