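import Mathlib

/-!
# Seat68: algebra of a free rank one module over a local ring, for linear systems (S10919 etc.)

`S` local ring, `N` an `S`-module freely generated by `ε`, `σ : S' → S` a local homomorphism of
local rings, `β : C → S'`, `v c = σ (β c) • ε`.
-/

set_option autoImplicit false

namespace Groth.Agent.Lib.Seat68.LinSysAlg

open IsLocalRing

variable {S N : Type*} [CommRing S] [AddCommGroup N] [Module S N]

/-- `I • ⊤` in a module freely generated by `ε`. -/
theorem mem_smul_top_iff {ε : N} (hε : Function.Bijective (fun u : S => u • ε)) (I : Ideal S)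
    (u : S) : u • ε ∈ I • (⊤ : Submodule S N) ↔ u ∈ I := by
  constructor
  · intro h
    have key : ∀ y ∈ I • (⊤ : Submodule S N), ∀ w : S, w • ε = y → w ∈ I := by
      intro y hy
      refine Submodule.smul_induction_on hy ?_ ?_
      · intro r hr n _ w hw
        obtain ⟨t, ht⟩ := hε.2 n
        replace ht : t • ε = n := ht
        have : w = r * t := by
          apply hε.1
          change w • ε = (r * t) • ε
          rw [hw, mul_smul, ht]
        rw [this]
        exact I.mul_mem_right _ hr
      · intro y₁ y₂ h₁ h₂ w hw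
        obtain ⟨t₁, ht₁⟩ := hε.2 y₁
        obtain ⟨t₂, ht₂⟩ := hε.2 y₂
        replace ht₁ : t₁ • ε = y₁ := ht₁
        replace ht₂ : t₂ • ε = y₂ := ht₂
        have : w = t₁ + t₂ := by
          apply hε.1
          change w • ε = (t₁ + t₂) • ε
          rw [hw, add_smul, ht₁, ht₂]
        rw [this]
        exact I.add_mem (h₁ t₁ ht₁) (h₂ t₂ ht₂)
    exact key _ h u rfl
  · intro h
    exact Submodule.smul_mem_smul h Submodule.mem_top

/-- every element of `I • ⊤` is `u • ε` with `u ∈ I`. -/
theorem exists_of_mem_smul_top {ε : N} (hε : Function.Bijective (fun u : S => u • ε)) (I : Ideal S)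
    {y : N} (hy : y ∈ I • (⊤ : Submodule S N)) : ∃ u ∈ I, u • ε = y := by
  obtain ⟨u, hu⟩ := hε.2 y
  replace hu : u • ε = y := hu
  exact ⟨u, (mem_smul_top_iff hε I u).mp (hu ▸ hy), hu⟩

/-- the ideal of coefficients of a submodule. -/
def coeffIdeal (ε : N) (P : Submodule S N) : Ideal S where
  carrier := {u | u • ε ∈ P}
  add_mem' := fun {a b} ha hb => by
    change (a + b) • ε ∈ P
    rw [add_smul]; exact P.add_mem ha hb
  zero_mem' := by
    change (0 : S) • ε ∈ P
    rw [zero_smul]; exact P.zero_mem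
  smul_mem' := fun c a ha => by
    change (c • a) • ε ∈ P
    rw [smul_eq_mul, mul_smul]; exact P.smul_mem c ha

theorem mem_coeffIdeal {ε : N} {P : Submodule S N} {u : S} : u ∈ coeffIdeal ε P ↔ u • ε ∈ P :=
  Iff.rfl

theorem coeffIdeal_smul_top {ε : N} (hε : Function.Bijective (fun u : S => u • ε)) (I : Ideal S) :
    coeffIdeal ε (I • (⊤ : Submodule S N)) = I := by
  ext u
  exact mem_smul_top_iff hε I u

theorem coeffIdeal_mono {ε : N} {P Q : Submodule S N} (h : P ≤ Q) :
    coeffIdeal ε P ≤ coeffIdeal ε Q := fun _ hu => h hu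

theorem coeffIdeal_sup {ε : N} (hε : Function.Bijective (fun u : S => u • ε))
    (P Q : Submodule S N) : coeffIdeal ε (P ⊔ Q) = coeffIdeal ε P ⊔ coeffIdeal ε Q := by
  apply le_antisymm
  · intro u hu
    obtain ⟨p, hp, q, hq, hpq⟩ := Submodule.mem_sup.mp hu
    obtain ⟨a, ha⟩ := hε.2 p
    obtain ⟨b, hb⟩ := hε.2 q
    replace ha : a • ε = p := ha
    replace hb : b • ε = q := hb
    have : u = a + b := by
      apply hε.1
      change u • ε = (a + b) • ε
      rw [add_smul, ha, hb, hpq]
    rw [this]
    exact Submodule.add_mem_sup (show a • ε ∈ P from ha ▸ hp) (show b • ε ∈ Q from hb ▸ hq)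
  · exact sup_le (coeffIdeal_mono le_sup_left) (coeffIdeal_mono le_sup_right)

theorem coeffIdeal_span {ε : N} (hε : Function.Bijective (fun u : S => u • ε)) (T : Set S) :
    coeffIdeal ε (Submodule.span S ((fun u => u • ε) '' T)) = Ideal.span T := by
  apply le_antisymm
  · intro u hu
    have key : ∀ y ∈ Submodule.span S ((fun u => u • ε) '' T), ∀ w : S, w • ε = y →
        w ∈ Ideal.span T := by
      intro y hy
      refine Submodule.span_induction ?_ ?_ ?_ ?_ hy
      · rintro _ ⟨t, ht, rfl⟩ w hw
        have : w = t := hε.1 hw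
        rw [this]; exact Ideal.subset_span ht
      · intro w hw
        have : w = 0 := by
          apply hε.1
          change w • ε = (0 : S) • ε
          rw [hw, zero_smul]
        rw [this]; exact Ideal.zero_mem _
      · intro y₁ y₂ _ _ h₁ h₂ w hw
        obtain ⟨t₁, ht₁⟩ := hε.2 y₁
        obtain ⟨t₂, ht₂⟩ := hε.2 y₂
        replace ht₁ : t₁ • ε = y₁ := ht₁
        replace ht₂ : t₂ • ε = y₂ := ht₂
        have : w = t₁ + t₂ := by
          apply hε.1
          change w • ε = (t₁ + t₂) • ε
          rw [hw, add_smul, ht₁, ht₂]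
        rw [this]
        exact Ideal.add_mem _ (h₁ t₁ ht₁) (h₂ t₂ ht₂)
      · intro a y _ h w hw
        obtain ⟨t, ht⟩ := hε.2 y
        replace ht : t • ε = y := ht
        have : w = a * t := by
          apply hε.1
          change w • ε = (a * t) • ε
          rw [hw, mul_smul, ht]
        rw [this]
        exact Ideal.mul_mem_left _ _ (h t ht)
    exact key _ hu u rfl
  · rw [Ideal.span_le]
    intro t ht
    exact Submodule.subset_span ⟨t, ht, rfl⟩

section Local

variable {S' : Type*} [CommRing S'] [IsLocalRing S] [IsLocalRing S'] (σ : S' →+* S)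
  [IsLocalHom σ] {C : Type*} (β : C → S') (v : C → N) {ε : N}
  (hε : Function.Bijective (fun u : S => u • ε)) (hv : ∀ c, v c = σ (β c) • ε)

include hε hv in
/-- vanishing of the section `v c` at the point, in terms of the function `β c`. -/
theorem v_mem_iff (c : C) :
    v c ∈ maximalIdeal S • (⊤ : Submodule S N) ↔ β c ∈ maximalIdeal S' := by
  rw [hv c, mem_smul_top_iff hε]
  constructor
  · intro h
    by_contra hb
    have hu : IsUnit (β c) := by
      by_contra hnu
      exact hb ((mem_maximalIdeal _).mpr hnu)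
    exact (mem_maximalIdeal _).mp h (hu.map σ)
  · intro h
    rw [mem_maximalIdeal, mem_nonunits_iff] at h ⊢
    exact fun hu => h (isUnit_of_map_unit σ _ hu)

include hε hv in
/-- separation of tangent vectors implies surjectivity of the cotangent map. -/
theorem cotangent_of_span
    (h : maximalIdeal S • (⊤ : Submodule S N) ≤
      Submodule.span S {w | ∃ c, w = v c ∧ w ∈ maximalIdeal S • (⊤ : Submodule S N)} ⊔
        maximalIdeal S ^ 2 • (⊤ : Submodule S N)) :
    Ideal.map σ (maximalIdeal S') ⊔ maximalIdeal S ^ 2 = maximalIdeal S := by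
  apply le_antisymm
  · refine sup_le ?_ (Ideal.pow_le_self two_ne_zero)
    rw [Ideal.map_le_iff_le_comap]
    intro a ha
    rw [Ideal.mem_comap, mem_maximalIdeal, mem_nonunits_iff]
    rw [mem_maximalIdeal, mem_nonunits_iff] at ha
    exact fun hu => ha (isUnit_of_map_unit σ _ hu)
  · have h1 := coeffIdeal_mono (ε := ε) h
    rw [coeffIdeal_smul_top hε, coeffIdeal_sup hε, coeffIdeal_smul_top hε] at h1
    refine h1.trans (sup_le_sup_right ?_ _)
    have h2 : {w | ∃ c, w = v c ∧ w ∈ maximalIdeal S • (⊤ : Submodule S N)} ⊆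
        (fun u => u • ε) '' (σ '' (maximalIdeal S' : Set S')) := by
      rintro w ⟨c, rfl, hw⟩
      refine ⟨σ (β c), ⟨β c, (v_mem_iff σ β v hε hv c).mp hw, rfl⟩, (hv c).symm⟩
    refine (coeffIdeal_mono (Submodule.span_mono h2)).trans ?_
    rw [coeffIdeal_span hε]
    exact Ideal.span_le.mpr (fun _ ⟨a, ha, e⟩ => e ▸ Ideal.mem_map_of_mem σ ha)

include hε hv in
/-- for a surjective local homomorphism, generators of the maximal ideal of the source give
separation of tangent vectors. -/
theorem span_of_surjective (hσ : Function.Surjective σ)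
    (hgen : maximalIdeal S' ≤ Ideal.span {b | ∃ c, b = β c ∧ β c ∈ maximalIdeal S'}) :
    maximalIdeal S • (⊤ : Submodule S N) ≤
      Submodule.span S {w | ∃ c, w = v c ∧ w ∈ maximalIdeal S • (⊤ : Submodule S N)} := by
  intro y hy
  obtain ⟨u, hu, rfl⟩ := exists_of_mem_smul_top hε _ hy
  obtain ⟨a, rfl⟩ := hσ u
  have ha : a ∈ maximalIdeal S' := by
    rw [mem_maximalIdeal, mem_nonunits_iff] at hu ⊢
    exact fun h => hu (h.map σ)
  have h1 : σ a ∈ Ideal.map σ (Ideal.span {b | ∃ c, b = β c ∧ β c ∈ maximalIdeal S'}) :=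
    Ideal.mem_map_of_mem σ (hgen ha)
  rw [Ideal.map_span] at h1
  have h2 : σ a ∈ coeffIdeal ε (Submodule.span S ((fun u => u • ε) ''
      (σ '' {b | ∃ c, b = β c ∧ β c ∈ maximalIdeal S'}))) := by
    rw [coeffIdeal_span hε]; exact h1
  refine Submodule.span_mono ?_ (mem_coeffIdeal.mp h2)
  rintro _ ⟨_, ⟨b, ⟨c, rfl, hc⟩, rfl⟩, rfl⟩
  have hmem := (v_mem_iff σ β v hε hv c).mpr hc
  rw [hv c] at hmem
  exact ⟨c, (hv c).symm, hmem⟩

end Local

end Groth.Agent.Lib.Seat68.LinSysAlg
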