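import Groth.Agent.Lib.Helper27PnSections
import Groth.Agent.Lib.Helper13ProjUPa
import Groth.Agent.Lib.Seat68ClImmAlg

/-!
# Seat68: linear forms on projective space and closed points (for S10919, S11312, S14411)

`𝒫 = polyGrading n R`, `lin c = ∑ c_j X_j`, `dehom (hX i) (lin c)` the function `lin c / X_i` on
`D₊(X_i)`.
* `gsec_lin` : the section `lin c` of `O(1)` is `∑ c_j • X_j`.
* `germ_dehom_mem_iff` : `a / X_i` vanishes at `y` iff `a ∈ p_y`.
* `exists_eq_span_of_isMaximal` : maximal ideals of `Γ(D₊(X_i))` over an algebraically closed field.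
-/

set_option autoImplicit false
universe u

open CategoryTheory CategoryTheory.Limits AlgebraicGeometry TopologicalSpace Opposite
  HomogeneousLocalization MvPolynomial
open Groth.Agent.Lib.Helper27GrTildeSect Groth.Agent.Lib.Helper27ProjGamma
  Groth.Agent.Lib.Helper27PnSections Groth.Agent.Helper13Dehom Groth.Agent.Helper13ProjUP
open Groth.Agent.Lib.Helper23.SecTw Groth.Agent.Lib.Helper6

namespace Groth.Agent.Lib.Seat68.LinSysPn

section Lin

variable (n : ℕ) (R : Type u) [CommRing R]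

local notation "𝒫" => CohB1.polyGrading n R

/-- the linear form `∑ c_j X_j`. -/
noncomputable def lin (c : Fin (n + 1) → R) : MvPolynomial (Fin (n + 1)) R := ∑ j, c j • X j

theorem lin_mem (c : Fin (n + 1) → R) : lin n R c ∈ CohB1.polyGrading n R 1 :=
  Submodule.sum_mem _ (fun j _ => Submodule.smul_mem _ _ (hX n R j))

/-- `b ↦ b / 1` as an additive map on linear forms. -/
noncomputable def gsecHom : ↥(CohB1.polyGrading n R 1) →+ Γ(GrTilde.tilde 𝒫 𝒫 ((1 : ℕ) : ℤ), ⊤) :=
  AddMonoidHom.mk' (fun b => gsec 𝒫 1 ⊤ b.2) (fun b b' => gsec_add n R 1 b.2 b'.2)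

theorem gsec_lin (c : Fin (n + 1) → R) :
    gsec 𝒫 1 ⊤ (lin_mem n R c) = ∑ j, constFun 𝒫 (c j) • gsec 𝒫 1 ⊤ (hX n R j) := by
  have h1 : (⟨lin n R c, lin_mem n R c⟩ : ↥(CohB1.polyGrading n R 1)) =
      ∑ j, c j • (⟨X j, hX n R j⟩ : ↥(CohB1.polyGrading n R 1)) := by
    apply Subtype.ext
    rw [Submodule.coe_sum]
    rfl
  have h2 : gsec 𝒫 1 ⊤ (lin_mem n R c) = gsecHom n R ⟨lin n R c, lin_mem n R c⟩ := rfl
  rw [h2, h1, map_sum]
  refine Finset.sum_congr rfl fun j _ => ?_
  exact gsec_smul n R 1 (c j) (hX n R j)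

/-- the coefficient vector of `X_j - r X_i`. -/
def cvec (i j : Fin (n + 1)) (r : R) : Fin (n + 1) → R :=
  fun l => (if l = j then 1 else 0) - (if l = i then r else 0)

theorem lin_cvec (i j : Fin (n + 1)) (r : R) : lin n R (cvec n R i j r) = X j - C r * X i := by
  unfold lin cvec
  simp only [sub_smul, Finset.sum_sub_distrib, ite_smul, one_smul, zero_smul,
    Finset.sum_ite_eq', Finset.mem_univ, if_true]
  rw [MvPolynomial.smul_eq_C_mul]

end Lin

section Dict

variable {R A : Type u} [CommRing R] [CommRing A] [Algebra R A] {𝒜 : ℕ → Submodule R A}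
  [GradedAlgebra 𝒜]

/-- `a / f^j` vanishes at `y` iff `a ∈ p_y`. -/
theorem germ_dehom_mem_iff {f : A} (hf : f ∈ 𝒜 1) {j : ℕ} {a : A} (ha : a ∈ 𝒜 j)
    (y : Proj 𝒜) (hy : y ∈ Proj.basicOpen 𝒜 f) :
    (Proj 𝒜).presheaf.germ (Proj.basicOpen 𝒜 f) y hy (dehom hf a) ∈
        IsLocalRing.maximalIdeal ((Proj 𝒜).presheaf.stalk y) ↔
      a ∈ ProjectiveSpectrum.asHomogeneousIdeal (y : ProjectiveSpectrum 𝒜) := by
  have h1 : y ∈ (Proj 𝒜).basicOpen (dehom hf a) ↔
      IsUnit ((Proj 𝒜).presheaf.germ (Proj.basicOpen 𝒜 f) y hy (dehom hf a)) :=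
    Scheme.mem_basicOpen (Proj 𝒜) (dehom hf a) y hy
  have h2 := mem_basicOpen_iff_isUnit_funVal 𝒜 _ (dehom hf a) y hy
  have h3 := isUnit_of_val_eq_mk _ (Groth.Agent.Helper13GrTildeFrac.pow_not_mem j y hy)
    (funVal_dehom hf ha y hy)
  rw [IsLocalRing.mem_maximalIdeal, mem_nonunits_iff]
  constructor
  · intro h
    by_contra hc
    exact h (h1.mp (h2.mpr (h3.mpr hc)))
  · intro h hu
    exact (h3.mp (h2.mp (h1.mpr hu))) h

end Dict


section Max

variable (n : ℕ) (k : Type u) [Field k]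

local notation "𝒫" => CohB1.polyGrading n k

/-- `p - p(a) ∈ (X_j - a_j)`. -/
theorem sub_C_eval_mem (a : Fin (n + 1) → k) (p : MvPolynomial (Fin (n + 1)) k) :
    p - C (eval a p) ∈
      Ideal.span (Set.range fun j => (X j - C (a j) : MvPolynomial (Fin (n + 1)) k)) := by
  induction p using MvPolynomial.induction_on with
  | C r => simp
  | add p q hp hq =>
    have : p + q - C (eval a (p + q)) = (p - C (eval a p)) + (q - C (eval a q)) := by
      rw [map_add, map_add]; ring
    rw [this]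
    exact Ideal.add_mem _ hp hq
  | mul_X p j hp =>
    have : p * X j - C (eval a (p * X j)) =
        (p - C (eval a p)) * X j + C (eval a p) * (X j - C (a j)) := by
      rw [map_mul, eval_X, map_mul]; ring
    rw [this]
    exact Ideal.add_mem _ (Ideal.mul_mem_right _ _ hp)
      (Ideal.mul_mem_left _ _ (Ideal.subset_span ⟨j, rfl⟩))

theorem dehom_surjective (i : Fin (n + 1)) : Function.Surjective (dehom (hX n k i)) := fun r => by
  obtain ⟨j, a, _, h⟩ := exists_dehom_eq (hX n k i) r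
  exact ⟨a, h⟩

theorem dehom_lin_cvec (i j : Fin (n + 1)) (r : k) :
    dehom (hX n k i) (lin n k (cvec n k i j r)) = dehom (hX n k i) (X j - C r) := by
  rw [lin_cvec, map_sub, map_sub, map_mul, dehom_self, mul_one]

variable [IsAlgClosed k]

/-- maximal ideals of the coordinate ring of a standard chart of projective space over an
algebraically closed field are generated by dehomogenized linear forms. -/
theorem exists_eq_span_of_isMaximal (i : Fin (n + 1))
    (M : Ideal Γ(Proj 𝒫, Proj.basicOpen 𝒫 (X i : MvPolynomial (Fin (n + 1)) k)))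
    (hM : M.IsMaximal) :
    ∃ a : Fin (n + 1) → k, M = Ideal.span
      (Set.range fun j => dehom (hX n k i) (lin n k (cvec n k i j (a j)))) := by
  have hφ := dehom_surjective n k i
  have hM' : (M.comap (dehom (hX n k i))).IsMaximal :=
    Ideal.comap_isMaximal_of_surjective (dehom (hX n k i)) hφ
  obtain ⟨a, ha⟩ := MvPolynomial.isMaximal_iff_eq_vanishingIdeal_singleton.mp hM'
  refine ⟨a, ?_⟩
  have hJ : M.comap (dehom (hX n k i)) =
      Ideal.span (Set.range fun j => (X j - C (a j) : MvPolynomial (Fin (n + 1)) k)) := by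
    apply le_antisymm
    · intro p hp
      rw [ha, MvPolynomial.mem_vanishingIdeal_singleton_iff] at hp
      have h0 : eval a p = 0 := by
        rw [← hp, MvPolynomial.aeval_eq_eval]
      have := sub_C_eval_mem n k a p
      rwa [h0, C_0, sub_zero] at this
    · rw [Ideal.span_le]
      rintro _ ⟨j, rfl⟩
      rw [ha]
      change _ ∈ MvPolynomial.vanishingIdeal k {a}
      rw [MvPolynomial.mem_vanishingIdeal_singleton_iff]
      simp
  have h1 : M = Ideal.map (dehom (hX n k i)) (M.comap (dehom (hX n k i))) :=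
    (Ideal.map_comap_of_surjective _ hφ M).symm
  rw [h1, hJ, Ideal.map_span, ← Set.range_comp]
  congr 2
  funext j
  exact (dehom_lin_cvec n k i j (a j)).symm

end Max


section Points

theorem primeIdealOf_asIdeal {X : Scheme.{u}} {U : X.Opens} (hU : IsAffineOpen U) (x : X)
    (hx : x ∈ U) :
    (hU.primeIdealOf ⟨x, hx⟩).asIdeal =
      Ideal.comap (X.presheaf.germ U x hx).hom (IsLocalRing.maximalIdeal _) := by
  rw [hU.primeIdealOf_eq_map_closedPoint]
  rfl

variable (n : ℕ) (k : Type u) [Field k] [IsAlgClosed k]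

local notation "𝒫" => CohB1.polyGrading n k

/-- at a closed point of projective space over an algebraically closed field, the maximal ideal of
the local ring is generated by the (dehomogenized) linear forms vanishing at the point. -/
theorem maximalIdeal_le_span (i : Fin (n + 1)) (y : Proj 𝒫)
    (hy : y ∈ Proj.basicOpen 𝒫 (X i : MvPolynomial (Fin (n + 1)) k))
    (hyc : IsClosed ({y} : Set (Proj 𝒫))) :
    IsLocalRing.maximalIdeal ((Proj 𝒫).presheaf.stalk y) ≤
      Ideal.span {β | ∃ c : Fin (n + 1) → k,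
        β = (Proj 𝒫).presheaf.germ _ y hy (dehom (hX n k i) (lin n k c)) ∧
        (Proj 𝒫).presheaf.germ _ y hy (dehom (hX n k i) (lin n k c)) ∈
          IsLocalRing.maximalIdeal ((Proj 𝒫).presheaf.stalk y)} := by
  have hU : IsAffineOpen (Proj.basicOpen 𝒫 (X i : MvPolynomial (Fin (n + 1)) k)) :=
    isAffineOpen_basicOpen (hX n k i)
  have hM := hU.primeIdealOf_isMaximal_of_isClosed ⟨y, hy⟩ hyc
  obtain ⟨a, ha⟩ := exists_eq_span_of_isMaximal n k i _ hM
  let _ := (Proj 𝒫).presheaf.algebra_section_stalk ⟨y, hy⟩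
  have := hU.isLocalization_stalk ⟨y, hy⟩
  have h1 := IsLocalization.AtPrime.map_eq_maximalIdeal (hU.primeIdealOf ⟨y, hy⟩).asIdeal
    ((Proj 𝒫).presheaf.stalk y)
  have h3 : Ideal.map (algebraMap Γ(Proj 𝒫, Proj.basicOpen 𝒫 (X i : MvPolynomial (Fin (n + 1)) k))
      ((Proj 𝒫).presheaf.stalk y)) (hU.primeIdealOf ⟨y, hy⟩).asIdeal ≤
      Ideal.span {β | ∃ c : Fin (n + 1) → k,
        β = (Proj 𝒫).presheaf.germ _ y hy (dehom (hX n k i) (lin n k c)) ∧
        (Proj 𝒫).presheaf.germ _ y hy (dehom (hX n k i) (lin n k c)) ∈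
          IsLocalRing.maximalIdeal ((Proj 𝒫).presheaf.stalk y)} := by
    rw [ha, Ideal.map_span]
    apply Ideal.span_mono
    rintro _ ⟨_, ⟨j, rfl⟩, rfl⟩
    refine ⟨cvec n k i j (a j), rfl, ?_⟩
    have h2 : dehom (hX n k i) (lin n k (cvec n k i j (a j))) ∈
        (hU.primeIdealOf ⟨y, hy⟩).asIdeal := by
      rw [ha]; exact Ideal.subset_span ⟨j, rfl⟩
    rw [primeIdealOf_asIdeal] at h2
    exact h2
  exact h1.symm.le.trans h3

/-- distinct closed points of projective space over an algebraically closed field are separated by a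
linear form. -/
theorem exists_lin_mem_not_mem (y z : Proj 𝒫) (hyc : IsClosed ({y} : Set (Proj 𝒫)))
    (hyz : y ≠ z) :
    ∃ c : Fin (n + 1) → k,
      lin n k c ∈ ProjectiveSpectrum.asHomogeneousIdeal (y : ProjectiveSpectrum 𝒫) ∧
      lin n k c ∉ ProjectiveSpectrum.asHomogeneousIdeal (z : ProjectiveSpectrum 𝒫) := by
  obtain ⟨i, hi⟩ := exists_X_not_mem n k y
  have hy : y ∈ Proj.basicOpen 𝒫 (X i : MvPolynomial (Fin (n + 1)) k) :=
    (ProjectiveSpectrum.mem_basicOpen 𝒫 _ y).mpr hi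
  have hU : IsAffineOpen (Proj.basicOpen 𝒫 (X i : MvPolynomial (Fin (n + 1)) k)) :=
    isAffineOpen_basicOpen (hX n k i)
  have hM := hU.primeIdealOf_isMaximal_of_isClosed ⟨y, hy⟩ hyc
  obtain ⟨a, ha⟩ := exists_eq_span_of_isMaximal n k i _ hM
  by_contra hcon
  push Not at hcon
  have hb : ∀ j, dehom (hX n k i) (lin n k (cvec n k i j (a j))) ∈
      (hU.primeIdealOf ⟨y, hy⟩).asIdeal := fun j => by
    rw [ha]; exact Ideal.subset_span ⟨j, rfl⟩
  have hly : ∀ j, lin n k (cvec n k i j (a j)) ∈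
      ProjectiveSpectrum.asHomogeneousIdeal (y : ProjectiveSpectrum 𝒫) := fun j => by
    have := hb j
    rw [primeIdealOf_asIdeal] at this
    exact (germ_dehom_mem_iff (hX n k i) (lin_mem n k _) y hy).mp this
  have hlz := fun j => hcon _ (hly j)
  have hiz : (X i : MvPolynomial (Fin (n + 1)) k) ∉
      ProjectiveSpectrum.asHomogeneousIdeal (z : ProjectiveSpectrum 𝒫) := by
    intro hXi
    obtain ⟨l, hl⟩ := exists_X_not_mem n k z
    apply hl
    have h1 := hlz l
    rw [lin_cvec] at h1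
    have h2 : (X l : MvPolynomial (Fin (n + 1)) k) = (X l - C (a l) * X i) + C (a l) * X i := by
      ring
    rw [h2]
    exact Ideal.add_mem _ h1 (Ideal.mul_mem_left _ _ hXi)
  have hz : z ∈ Proj.basicOpen 𝒫 (X i : MvPolynomial (Fin (n + 1)) k) :=
    (ProjectiveSpectrum.mem_basicOpen 𝒫 _ z).mpr hiz
  have hle : (hU.primeIdealOf ⟨y, hy⟩).asIdeal ≤ (hU.primeIdealOf ⟨z, hz⟩).asIdeal := by
    rw [ha, Ideal.span_le]
    rintro _ ⟨j, rfl⟩
    change _ ∈ (hU.primeIdealOf ⟨z, hz⟩).asIdeal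
    rw [primeIdealOf_asIdeal]
    exact (germ_dehom_mem_iff (hX n k i) (lin_mem n k _) z hz).mpr (hlz j)
  have heq : (hU.primeIdealOf ⟨y, hy⟩).asIdeal = (hU.primeIdealOf ⟨z, hz⟩).asIdeal :=
    hM.eq_of_le (hU.primeIdealOf ⟨z, hz⟩).isPrime.ne_top hle
  have h3 : hU.primeIdealOf ⟨y, hy⟩ = hU.primeIdealOf ⟨z, hz⟩ := PrimeSpectrum.ext heq
  have h4 := congrArg hU.fromSpec h3
  rw [hU.fromSpec_primeIdealOf, hU.fromSpec_primeIdealOf] at h4
  exact hyz h4

end Points

end Groth.Agent.Lib.Seat68.LinSysPn
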