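import Groth.Agent.Lib.Helper23SecTw2
import Groth.Agent.Lib.Helper2QCoh
import Groth.Prelude.Def_FlatMod2

/-!
# Seat68: stalks of an invertible module at a point with a local generator

* `bijective_smul_germ` : the germ of a (section-level) generator freely generates the stalk.
* `maxIdeal_smul_top_eq`, `pow_smul_top_eq` : `I • ⊤ = {u • ε | u ∈ I}` for a free generator `ε`.
-/

set_option autoImplicit false
universe u

open CategoryTheory AlgebraicGeometry TopologicalSpace Opposite
open Groth.Agent.Lib.Helper23.SecTw Groth.Agent.Lib.Helper6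

namespace Groth.Agent.Lib.Seat68.LinSysStalk

variable {X : Scheme.{u}}

/-- the germ of a section-level generator freely generates the stalk -/
theorem bijective_smul_germ (L : X.Modules) {W : X.Opens} {e : Γ(L, W)} (he : IsGen L W e)
    (x : X) (hx : x ∈ W) :
    Function.Bijective (fun u : X.presheaf.stalk x => u • (L.presheaf.germ W x hx) e) := by
  constructor
  · intro u u' huu'
    replace huu' : u • (L.presheaf.germ W x hx) e = u' • (L.presheaf.germ W x hx) e := huu'
    have hd : (u - u') • (L.presheaf.germ W x hx) e = 0 := by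
      rw [sub_smul, huu', sub_self]
    obtain ⟨V, hxV, r, hr⟩ := X.presheaf.exists_germ_eq (u - u')
    have hxV' : x ∈ V ⊓ W := ⟨hxV, hx⟩
    have h1 : (L.presheaf.germ (V ⊓ W) x hxV')
        (resf (inf_le_left : V ⊓ W ≤ V) r • res L (inf_le_right : V ⊓ W ≤ W) e) = 0 := by
      rw [Groth.Agent.Lib.Helper2.QCoh.germ_smul, TopCat.Presheaf.germ_res_apply,
        TopCat.Presheaf.germ_res_apply, hr, hd]
    have h0 : (L.presheaf.germ (V ⊓ W) x hxV') (0 : Γ(L, V ⊓ W)) = 0 := map_zero _
    obtain ⟨V'', hxV'', i1, i2, h2⟩ := TopCat.Presheaf.germ_eq L.presheaf x hxV' hxV' _ _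
      (h1.trans h0.symm)
    have hle : V'' ≤ V ⊓ W := i1.le
    have h3 : res L hle (resf (inf_le_left : V ⊓ W ≤ V) r • res L (inf_le_right : V ⊓ W ≤ W) e) =
        0 := by
      have : res L hle (0 : Γ(L, V ⊓ W)) = 0 := map_zero _
      rw [← this]
      exact h2
    rw [res_smul, res_res] at h3
    have h4 : resf hle (resf (inf_le_left : V ⊓ W ≤ V) r) = 0 := by
      apply (he V'' (hle.trans inf_le_right)).1
      change resf hle (resf (inf_le_left : V ⊓ W ≤ V) r) • res L _ e =
        (0 : Γ(X, V'')) • res L _ e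
      rw [h3, zero_smul]
    rw [resf_resf] at h4
    have h5 : u - u' = 0 := by
      rw [← hr, ← TopCat.Presheaf.germ_res_apply X.presheaf (homOfLE (hle.trans inf_le_left)) x
        hxV'' r]
      change (X.presheaf.germ V'' x hxV'') (resf _ r) = 0
      rw [h4, map_zero]
    exact sub_eq_zero.mp h5
  · intro y
    obtain ⟨V, hxV, m, hm⟩ := L.presheaf.exists_germ_eq y
    have hxV' : x ∈ V ⊓ W := ⟨hxV, hx⟩
    obtain ⟨r, hr⟩ := (he (V ⊓ W) inf_le_right).2 (res L (inf_le_left : V ⊓ W ≤ V) m)
    replace hr : r • res L (inf_le_right : V ⊓ W ≤ W) e = res L (inf_le_left : V ⊓ W ≤ V) m := hr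
    refine ⟨X.presheaf.germ (V ⊓ W) x hxV' r, ?_⟩
    change X.presheaf.germ (V ⊓ W) x hxV' r • (L.presheaf.germ W x hx) e = y
    rw [← hm, ← TopCat.Presheaf.germ_res_apply L.presheaf (homOfLE (inf_le_left : V ⊓ W ≤ V)) x
      hxV' m]
    change _ = (L.presheaf.germ (V ⊓ W) x hxV') (res L inf_le_left m)
    rw [← hr, Groth.Agent.Lib.Helper2.QCoh.germ_smul, TopCat.Presheaf.germ_res_apply]

end Groth.Agent.Lib.Seat68.LinSysStalk
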