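import Groth.Agent.Lib.Helper13ProjUPb
import Groth.Agent.Lib.Seat68LinSysPn
import Groth.Agent.Lib.Seat68LinSysStalk

/-!
# Seat68: the pulled-back linear system of a morphism to projective space

`f : X ⟶ Proj 𝒫` (`𝒫 = polyGrading n R`), `L = f^* O(1)`.
* `sum_smul_pullSec` : `∑ c_j • f^* X_j = f^*(lin c)`.
* `germ_pullSec_lin` : the germ of `f^*(lin c)` at `P ∈ f⁻¹ D₊(X_i)` is
  `f^♯(lin c / X_i) • (generator)`.
-/

set_option autoImplicit false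
universe u

open CategoryTheory CategoryTheory.Limits AlgebraicGeometry TopologicalSpace Opposite
  HomogeneousLocalization MvPolynomial
open Groth.Agent.Lib.Helper27GrTildeSect Groth.Agent.Lib.Helper27ProjGamma
  Groth.Agent.Lib.Helper27PnSections Groth.Agent.Helper13Dehom Groth.Agent.Helper13ProjUP
  Groth.Agent.Helper13PullbackUnit Groth.Agent.Lib.Helper23.PB
open Groth.Agent.Lib.Helper23.SecTw Groth.Agent.Lib.Helper6
open Groth.Agent.Lib.Seat68.LinSysPn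

namespace Groth.Agent.Lib.Seat68.LinSysPull

variable (n : ℕ) (R : Type u) [CommRing R]

local notation "𝒫" => CohB1.polyGrading n R

variable {T : Scheme.{u}} (f : T ⟶ Proj (CohB1.polyGrading n R))

/-- `pullSec` is `unitSec` over the whole space. -/
theorem unitSec_top_eq (s : Γ(O1 𝒫, ⊤)) :
    unitSec f (O1 𝒫) (le_refl (f ⁻¹ᵁ ⊤)) s = ProjUP.pullSec f (O1 𝒫) s := by
  rw [unitSec_apply]
  exact res_self ((Scheme.Modules.pullback f).obj (O1 𝒫)) _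

/-- the restriction of `f^*(lin c)` to `f⁻¹ D₊(X_i)`. -/
theorem res_pullSec_lin (c : Fin (n + 1) → R) (i : Fin (n + 1)) :
    res ((Scheme.Modules.pullback f).obj (O1 𝒫))
        (le_top : f ⁻¹ᵁ Proj.basicOpen 𝒫 (X i : MvPolynomial (Fin (n + 1)) R) ≤ ⊤)
        (ProjUP.pullSec f (O1 𝒫) (gsec 𝒫 1 ⊤ (lin_mem n R c))) =
      (f.appLE (Proj.basicOpen 𝒫 (X i : MvPolynomial (Fin (n + 1)) R))
        (f ⁻¹ᵁ Proj.basicOpen 𝒫 (X i : MvPolynomial (Fin (n + 1)) R)) le_rfl).hom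
          (dehom (hX n R i) (lin n R c)) • pcoord f (hX n R i) le_rfl := by
  have h0 := unitSec_top_eq n R f (gsec 𝒫 1 ⊤ (lin_mem n R c))
  have h1 := res_unitSec f (O1 𝒫) (le_refl (f ⁻¹ᵁ ⊤))
    (le_top : f ⁻¹ᵁ Proj.basicOpen 𝒫 (X i : MvPolynomial (Fin (n + 1)) R) ≤ f ⁻¹ᵁ ⊤)
    (le_refl ⊤) le_top (gsec 𝒫 1 ⊤ (lin_mem n R c))
  rw [res_self] at h1
  have h2 := unitSec_gsec f (hX n R i) (lin_mem n R c) le_rfl (U := ⊤)
    (le_top : f ⁻¹ᵁ Proj.basicOpen 𝒫 (X i : MvPolynomial (Fin (n + 1)) R) ≤ f ⁻¹ᵁ ⊤)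
  rw [← h0]
  exact h1.trans h2

/-- the constant function `r` pulls back to `toGlobal pX r`. -/
theorem appTop_constFun (pX : T ⟶ Spec (CommRingCat.of R))
    (hf : f ≫ CohB1.ProjSpace.toSpec n R = pX) (r : R) :
    f.appTop.hom (constFun 𝒫 r) = ProjUP.toGlobal pX r := by
  subst hf
  unfold ProjUP.toGlobal constFun
  rw [Scheme.Hom.comp_appTop]
  rfl

/-- `pullSec` is semilinear over the constants. -/
theorem pullSec_constFun_smul (pX : T ⟶ Spec (CommRingCat.of R))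
    (hf : f ≫ CohB1.ProjSpace.toSpec n R = pX) (r : R) (s : Γ(O1 𝒫, ⊤)) :
    ProjUP.pullSec f (O1 𝒫) (constFun 𝒫 r • s) =
      (ProjUP.toGlobal pX r : Γ(T, ⊤)) • ProjUP.pullSec f (O1 𝒫) s := by
  rw [← unitSec_top_eq, ← unitSec_top_eq, unitSec_smul, ← appTop_constFun n R f pX hf r]
  congr 1
  rw [Scheme.Hom.appLE_eq_app]
  rfl

/-- `pullSec` is additive. -/
theorem pullSec_sum {ι : Type*} (t : Finset ι) (s : ι → Γ(O1 𝒫, ⊤)) :
    ProjUP.pullSec f (O1 𝒫) (∑ j ∈ t, s j) = ∑ j ∈ t, ProjUP.pullSec f (O1 𝒫) (s j) := by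
  unfold ProjUP.pullSec
  exact map_sum _ _ _

/-- the linear combination of the pulled-back coordinates is the pull-back of the linear form. -/
theorem sum_smul_pullSec (pX : T ⟶ Spec (CommRingCat.of R))
    (hf : f ≫ CohB1.ProjSpace.toSpec n R = pX) (c : Fin (n + 1) → R) :
    ∑ j, (ProjUP.toGlobal pX (c j) : Γ(T, ⊤)) •
        ProjUP.pullSec f (O1 𝒫) (gsec 𝒫 1 ⊤ (hX n R j)) =
      ProjUP.pullSec f (O1 𝒫) (gsec 𝒫 1 ⊤ (lin_mem n R c)) := by
  rw [gsec_lin, pullSec_sum]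
  refine Finset.sum_congr rfl fun j _ => ?_
  rw [pullSec_constFun_smul n R f pX hf]

/-- the germ of `f^*(lin c)` at a point of `f⁻¹ D₊(X_i)`. -/
theorem germ_pullSec_lin (c : Fin (n + 1) → R) (i : Fin (n + 1)) (P : T)
    (hP : P ∈ f ⁻¹ᵁ Proj.basicOpen 𝒫 (X i : MvPolynomial (Fin (n + 1)) R)) :
    ((Scheme.Modules.pullback f).obj (O1 𝒫)).presheaf.germ ⊤ P trivial
        (ProjUP.pullSec f (O1 𝒫) (gsec 𝒫 1 ⊤ (lin_mem n R c))) =
      (f.stalkMap P).hom ((Proj 𝒫).presheaf.germ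
          (Proj.basicOpen 𝒫 (X i : MvPolynomial (Fin (n + 1)) R)) (f P) hP
          (dehom (hX n R i) (lin n R c))) •
        ((Scheme.Modules.pullback f).obj (O1 𝒫)).presheaf.germ
          (f ⁻¹ᵁ Proj.basicOpen 𝒫 (X i : MvPolynomial (Fin (n + 1)) R)) P hP
          (pcoord f (hX n R i) le_rfl) := by
  rw [← TopCat.Presheaf.germ_res_apply ((Scheme.Modules.pullback f).obj (O1 𝒫)).presheaf
    (homOfLE (le_top : f ⁻¹ᵁ Proj.basicOpen 𝒫 (X i : MvPolynomial (Fin (n + 1)) R) ≤ ⊤)) P hP]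
  change ((Scheme.Modules.pullback f).obj (O1 𝒫)).presheaf.germ _ P hP
    (res ((Scheme.Modules.pullback f).obj (O1 𝒫)) le_top _) = _
  rw [res_pullSec_lin, Groth.Agent.Lib.Helper2.QCoh.germ_smul, Scheme.Hom.appLE_eq_app]
  congr 1
  exact (Scheme.Hom.germ_stalkMap_apply f _ P hP _).symm

end Groth.Agent.Lib.Seat68.LinSysPull
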