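import Mathlib
import Groth.Agent.Lib.Seat68LinSysPull
import Groth.Agent.Lib.Seat68LinSysAlg
import Groth.Agent.Lib.Seat68ClImmGeo
import Groth.Prelude.Def_ProjUP

/-!
# Seat68: closed immersions into projective space and linear systems (Hartshorne II.7.3)

`k` algebraically closed, `pX : X ⟶ Spec k` proper, `f : X ⟶ P^n_k` over `k`.  Then `f` is a closed
immersion iff the linear system spanned by the `f^* X_j` separates points and tangent vectors.
-/

set_option autoImplicit false
universe u

open CategoryTheory CategoryTheory.Limits AlgebraicGeometry TopologicalSpace Opposite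
  HomogeneousLocalization MvPolynomial
open Groth.Agent.Lib.Helper27GrTildeSect Groth.Agent.Lib.Helper27ProjGamma
  Groth.Agent.Lib.Helper27PnSections Groth.Agent.Helper13Dehom Groth.Agent.Helper13ProjUP
  Groth.Agent.Helper13PullbackUnit
open Groth.Agent.Lib.Helper23.SecTw Groth.Agent.Lib.Helper6
open Groth.Agent.Lib.Seat68.LinSysPn Groth.Agent.Lib.Seat68.LinSysPull

namespace Groth.Agent.Lib.Seat68.LinSysMain

section Proper

instance isScalarTower_polyGrading (n : ℕ) (R : Type u) [CommRing R] :
    IsScalarTower R (CohB1.polyGrading n R 0) (MvPolynomial (Fin (n+1)) R) :=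
  ⟨fun r a x => by
    change ((r • a : CohB1.polyGrading n R 0) : MvPolynomial (Fin (n+1)) R) * x =
      r • ((a : MvPolynomial (Fin (n+1)) R) * x)
    rw [Submodule.coe_smul, smul_mul_assoc]⟩

instance finiteType_polyGrading (n : ℕ) (R : Type u) [CommRing R] :
    Algebra.FiniteType (CohB1.polyGrading n R 0) (MvPolynomial (Fin (n+1)) R) :=
  Algebra.FiniteType.of_restrictScalars_finiteType R _ _

theorem bijective_algebraMap_polyGrading (n : ℕ) (R : Type u) [CommRing R] :
    Function.Bijective (algebraMap R (CohB1.polyGrading n R 0)) := by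
  constructor
  · intro a b hab
    have := congrArg (fun z : CohB1.polyGrading n R 0 => (z : MvPolynomial (Fin (n+1)) R)) hab
    simp only [SetLike.GradeZero.coe_algebraMap] at this
    exact MvPolynomial.C_injective _ _ this
  · intro z
    have hz : (z : MvPolynomial (Fin (n+1)) R) ∈ (1 : Submodule R (MvPolynomial (Fin (n+1)) R)) := by
      rw [← MvPolynomial.homogeneousSubmodule_zero]
      exact z.2
    rw [Submodule.mem_one] at hz
    obtain ⟨r, hr⟩ := hz
    refine ⟨r, Subtype.ext ?_⟩
    rw [SetLike.GradeZero.coe_algebraMap]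
    exact hr

theorem isProper_toSpec (n : ℕ) (R : Type u) [CommRing R] :
    IsProper (CohB1.ProjSpace.toSpec n R) := by
  have hiso : IsIso (CommRingCat.ofHom (algebraMap R (CohB1.polyGrading n R 0))) := by
    have : CommRingCat.ofHom (algebraMap R (CohB1.polyGrading n R 0)) =
        (RingEquiv.ofBijective _ (bijective_algebraMap_polyGrading n R)).toCommRingCatIso.hom := rfl
    rw [this]
    infer_instance
  have : IsIso (Spec.map (CommRingCat.ofHom (algebraMap R (CohB1.polyGrading n R 0)))) :=
    inferInstance
  exact (inferInstance : @IsProper (Proj (CohB1.polyGrading n R)) _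
    (Proj.toSpecZero (CohB1.polyGrading n R) ≫
      Spec.map (CommRingCat.ofHom (algebraMap R (CohB1.polyGrading n R 0)))))

end Proper

variable (k : Type u) [Field k] (n : ℕ) {X : Scheme.{u}}
  (pX : X ⟶ Spec (CommRingCat.of k)) (f : X ⟶ CohB1.ProjSpace n k)

/-- the member of the linear system with coefficients `c` (in `O1` form). -/
noncomputable abbrev sec (c : Fin (n + 1) → k) :
    ProjUP.Γm ((Scheme.Modules.pullback f).obj (O1 (CohB1.polyGrading n k))) :=
  ∑ j, ProjUP.toGlobal pX (c j) •
    ProjUP.pullSec f (O1 (CohB1.polyGrading n k))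
      (gsec (CohB1.polyGrading n k) 1 ⊤ (hX n k j))

/-- the section `sec c` vanishes at `P`. -/
abbrev Van (P : X) (c : Fin (n + 1) → k) : Prop :=
  (((Scheme.Modules.pullback f).obj (O1 (CohB1.polyGrading n k))).presheaf.germ ⊤ P trivial).hom
      (sec k n pX f c) ∈
    (IsLocalRing.maximalIdeal ↑(X.presheaf.stalk P) •
      (⊤ : Submodule ↑(X.presheaf.stalk P)
        ↑(((Scheme.Modules.pullback f).obj (O1 (CohB1.polyGrading n k))).presheaf.stalk P)))

variable {k n pX f}

/-- the local description of the linear system at a point. -/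
theorem exists_local_data (hf : f ≫ CohB1.ProjSpace.toSpec n k = pX) (P : X) :
    ∃ (i : Fin (n + 1))
      (hy : f P ∈ Proj.basicOpen (CohB1.polyGrading n k)
        (MvPolynomial.X i : MvPolynomial (Fin (n + 1)) k))
      (ε : ↑(((Scheme.Modules.pullback f).obj (O1 (CohB1.polyGrading n k))).presheaf.stalk P)),
      Function.Bijective (fun u : ↑(X.presheaf.stalk P) => u • ε) ∧
      ∀ c : Fin (n + 1) → k,
        (((Scheme.Modules.pullback f).obj (O1 (CohB1.polyGrading n k))).presheaf.germ ⊤ P
            trivial).hom (sec k n pX f c) =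
          (f.stalkMap P).hom ((Proj (CohB1.polyGrading n k)).presheaf.germ
            (Proj.basicOpen (CohB1.polyGrading n k)
              (MvPolynomial.X i : MvPolynomial (Fin (n + 1)) k)) (f P) hy
            (dehom (hX n k i) (lin n k c))) • ε := by
  obtain ⟨i, hi⟩ := exists_X_not_mem n k (f P)
  have hy : f P ∈ Proj.basicOpen (CohB1.polyGrading n k)
      (MvPolynomial.X i : MvPolynomial (Fin (n + 1)) k) :=
    (ProjectiveSpectrum.mem_basicOpen (CohB1.polyGrading n k) _ (f P)).mpr hi
  have hgen := isGen_pcoord (𝒜 := CohB1.polyGrading n k) f (hX n k i) le_rfl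
  have hbij := Groth.Agent.Lib.Seat68.LinSysStalk.bijective_smul_germ _ hgen P hy
  refine ⟨i, hy, _, hbij, fun c => ?_⟩
  have h1 := sum_smul_pullSec n k f pX hf c
  have h2 := germ_pullSec_lin n k f c i P hy
  rw [← h1] at h2
  exact h2


/-- vanishing of `sec c` at `P` means that the linear form `lin c` vanishes at `f P`. -/
theorem van_iff (hf : f ≫ CohB1.ProjSpace.toSpec n k = pX) (P : X) (c : Fin (n + 1) → k) :
    Van k n pX f P c ↔ lin n k c ∈ ProjectiveSpectrum.asHomogeneousIdeal
      (f P : ProjectiveSpectrum (CohB1.polyGrading n k)) := by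
  obtain ⟨i, hy, ε, hε, hv⟩ := exists_local_data hf P
  have h1 := Groth.Agent.Lib.Seat68.LinSysAlg.v_mem_iff (f.stalkMap P).hom
    (fun c => (Proj (CohB1.polyGrading n k)).presheaf.germ
      (Proj.basicOpen (CohB1.polyGrading n k)
        (MvPolynomial.X i : MvPolynomial (Fin (n + 1)) k)) (f P) hy
      (dehom (hX n k i) (lin n k c)))
    (fun c => (((Scheme.Modules.pullback f).obj (O1 (CohB1.polyGrading n k))).presheaf.germ ⊤ P
      trivial).hom (sec k n pX f c)) hε hv c
  exact h1.trans (germ_dehom_mem_iff (hX n k i) (lin_mem n k c) (f P) hy)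

variable [IsAlgClosed k]

/-- separation of points and tangent vectors implies closed immersion. -/
theorem isClosedImmersion_of_sep [IsProper pX] (hf : f ≫ CohB1.ProjSpace.toSpec n k = pX)
    (hsep : ∀ P Q : X, IsClosed ({P} : Set X) → IsClosed ({Q} : Set X) → P ≠ Q →
      ∃ c : Fin (n + 1) → k, (Van k n pX f P c ∧ ¬ Van k n pX f Q c) ∨
        (Van k n pX f Q c ∧ ¬ Van k n pX f P c))
    (htan : ∀ P : X, IsClosed ({P} : Set X) →
      (IsLocalRing.maximalIdeal ↑(X.presheaf.stalk P) •
        (⊤ : Submodule ↑(X.presheaf.stalk P)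
          ↑(((Scheme.Modules.pullback f).obj (O1 (CohB1.polyGrading n k))).presheaf.stalk P))) ≤
        Submodule.span ↑(X.presheaf.stalk P)
          {v | ∃ c : Fin (n + 1) → k,
            v = (((Scheme.Modules.pullback f).obj (O1 (CohB1.polyGrading n k))).presheaf.germ ⊤ P
              trivial).hom (sec k n pX f c) ∧
            v ∈ (IsLocalRing.maximalIdeal ↑(X.presheaf.stalk P) •
              (⊤ : Submodule ↑(X.presheaf.stalk P)
                ↑(((Scheme.Modules.pullback f).obj
                  (O1 (CohB1.polyGrading n k))).presheaf.stalk P)))} ⊔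
          (IsLocalRing.maximalIdeal ↑(X.presheaf.stalk P) ^ 2 •
            (⊤ : Submodule ↑(X.presheaf.stalk P)
              ↑(((Scheme.Modules.pullback f).obj
                (O1 (CohB1.polyGrading n k))).presheaf.stalk P)))) :
    IsClosedImmersion f := by
  have hq : IsProper (CohB1.ProjSpace.toSpec n k) := isProper_toSpec n k
  have hfq : IsProper (f ≫ CohB1.ProjSpace.toSpec n k) := hf ▸ inferInstance
  have hfp : IsProper f := IsProper.of_comp f (CohB1.ProjSpace.toSpec n k)
  have hJ : JacobsonSpace X := LocallyOfFiniteType.jacobsonSpace pX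
  have hinj : Set.InjOn f.base {x : X | IsClosed ({x} : Set X)} := by
    intro P hP Q hQ hPQ
    by_contra hne
    have key : ∀ c, Van k n pX f P c ↔ Van k n pX f Q c := by
      intro c
      rw [van_iff hf, van_iff hf]
      have : f P = f Q := hPQ
      rw [this]
    obtain ⟨c, h | h⟩ := hsep P Q hP hQ hne
    · exact h.2 ((key c).mp h.1)
    · exact h.2 ((key c).mpr h.1)
  have hT : ∀ x : X, IsClosed ({x} : Set X) →
      Ideal.map (f.stalkMap x).hom
        (IsLocalRing.maximalIdeal ((CohB1.ProjSpace n k).presheaf.stalk (f.base x))) ⊔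
        IsLocalRing.maximalIdeal (X.presheaf.stalk x) ^ 2 =
          IsLocalRing.maximalIdeal (X.presheaf.stalk x) := by
    intro P hP
    obtain ⟨i, hy, ε, hε, hv⟩ := exists_local_data hf P
    exact Groth.Agent.Lib.Seat68.LinSysAlg.cotangent_of_span (f.stalkMap P).hom _ _ hε hv
      (htan P hP)
  have hfin : IsFinite f := Groth.Agent.Lib.Seat68.ClImmGeo.isFinite_of_injOn_closedPoints f hinj
  rw [isClosedImmersion_iff_isAffineHom]
  exact ⟨inferInstance, fun U hU =>
    Groth.Agent.Lib.Seat68.ClImmGeo.app_surjective k f (CohB1.ProjSpace.toSpec n k) hinj hT U hU⟩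

/-- a closed immersion separates points. -/
theorem sep_of_isClosedImmersion (hf : f ≫ CohB1.ProjSpace.toSpec n k = pX) [IsClosedImmersion f]
    (P Q : X) (hP : IsClosed ({P} : Set X)) (hPQ : P ≠ Q) :
    ∃ c : Fin (n + 1) → k, Van k n pX f P c ∧ ¬ Van k n pX f Q c := by
  have hfP' : IsClosed ({f P} : Set (CohB1.ProjSpace n k)) := by
    have := f.isClosedEmbedding.isClosedMap _ hP
    simpa using this
  have hfP : IsClosed ({f P} : Set (Proj (CohB1.polyGrading n k))) := hfP'
  have hne : (f P : Proj (CohB1.polyGrading n k)) ≠ f Q :=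
    fun h => hPQ (f.isClosedEmbedding.injective h)
  obtain ⟨c, h1, h2⟩ := exists_lin_mem_not_mem n k (f P) (f Q) hfP hne
  exact ⟨c, (van_iff hf P c).mpr h1, fun h => h2 ((van_iff hf Q c).mp h)⟩

/-- a closed immersion separates tangent vectors. -/
theorem tan_of_isClosedImmersion (hf : f ≫ CohB1.ProjSpace.toSpec n k = pX) [IsClosedImmersion f]
    (P : X) (hP : IsClosed ({P} : Set X)) :
    (IsLocalRing.maximalIdeal ↑(X.presheaf.stalk P) •
        (⊤ : Submodule ↑(X.presheaf.stalk P)
          ↑(((Scheme.Modules.pullback f).obj (O1 (CohB1.polyGrading n k))).presheaf.stalk P))) ≤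
        Submodule.span ↑(X.presheaf.stalk P)
          {v | ∃ c : Fin (n + 1) → k,
            v = (((Scheme.Modules.pullback f).obj (O1 (CohB1.polyGrading n k))).presheaf.germ ⊤ P
              trivial).hom (sec k n pX f c) ∧
            v ∈ (IsLocalRing.maximalIdeal ↑(X.presheaf.stalk P) •
              (⊤ : Submodule ↑(X.presheaf.stalk P)
                ↑(((Scheme.Modules.pullback f).obj
                  (O1 (CohB1.polyGrading n k))).presheaf.stalk P)))} ⊔
          (IsLocalRing.maximalIdeal ↑(X.presheaf.stalk P) ^ 2 •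
            (⊤ : Submodule ↑(X.presheaf.stalk P)
              ↑(((Scheme.Modules.pullback f).obj
                (O1 (CohB1.polyGrading n k))).presheaf.stalk P))) := by
  obtain ⟨i, hy, ε, hε, hv⟩ := exists_local_data hf P
  have hfP' : IsClosed ({f P} : Set (CohB1.ProjSpace n k)) := by
    have := f.isClosedEmbedding.isClosedMap _ hP
    simpa using this
  have hfP : IsClosed ({f P} : Set (Proj (CohB1.polyGrading n k))) := hfP'
  have hgen := maximalIdeal_le_span n k i (f P) hy hfP
  exact (Groth.Agent.Lib.Seat68.LinSysAlg.span_of_surjective (f.stalkMap P).hom _ _ hε hv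
    (f.stalkMap_surjective P) hgen).trans le_sup_left


/-- properness of a projective `k`-scheme. -/
theorem isProper_of_proj (hproj : ∃ (N : ℕ) (ι : X ⟶ CohB1.ProjSpace N k),
      IsClosedImmersion ι ∧ ι ≫ CohB1.ProjSpace.toSpec N k = pX) : IsProper pX := by
  obtain ⟨N, ι, hι, rfl⟩ := hproj
  have := isProper_toSpec N k
  infer_instance

variable (k n pX f) in
/-- **Hartshorne II.7.3**, in a form generic in the presentation of `O(1)` and its coordinates. -/
theorem core [IsProper pX] (hf : f ≫ CohB1.ProjSpace.toSpec n k = pX)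
    (M : (CohB1.ProjSpace n k).Modules) (t : Fin (n + 1) → ProjUP.Γm M)
    (hM : M = O1 (CohB1.polyGrading n k))
    (ht : ∀ j, HEq (t j) (gsec (CohB1.polyGrading n k) 1 ⊤ (hX n k j))) :
    (IsClosedImmersion f ↔
      ((∀ P Q : ↥X, IsClosed ({P} : Set ↥X) → IsClosed ({Q} : Set ↥X) → P ≠ Q →
          ∃ c : Fin (n + 1) → k,
            (((Scheme.Modules.pullback f).obj M).presheaf.germ ⊤ P trivial).hom
                (∑ i, ProjUP.toGlobal pX (c i) • ProjUP.pullSec f M (t i)) ∈
              (IsLocalRing.maximalIdeal ↑(X.presheaf.stalk P) •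
                (⊤ : Submodule ↑(X.presheaf.stalk P)
                  ↑(((Scheme.Modules.pullback f).obj M).presheaf.stalk P))) ∧
            (((Scheme.Modules.pullback f).obj M).presheaf.germ ⊤ Q trivial).hom
                (∑ i, ProjUP.toGlobal pX (c i) • ProjUP.pullSec f M (t i)) ∉
              (IsLocalRing.maximalIdeal ↑(X.presheaf.stalk Q) •
                (⊤ : Submodule ↑(X.presheaf.stalk Q)
                  ↑(((Scheme.Modules.pullback f).obj M).presheaf.stalk Q)))) ∧
        ∀ P : ↥X, IsClosed ({P} : Set ↥X) →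
          (IsLocalRing.maximalIdeal ↑(X.presheaf.stalk P) •
                (⊤ : Submodule ↑(X.presheaf.stalk P)
                  ↑(((Scheme.Modules.pullback f).obj M).presheaf.stalk P))) ≤
            Submodule.span ↑(X.presheaf.stalk P)
                {v | ∃ c : Fin (n + 1) → k,
                  v = (((Scheme.Modules.pullback f).obj M).presheaf.germ ⊤ P trivial).hom
                    (∑ i, ProjUP.toGlobal pX (c i) • ProjUP.pullSec f M (t i)) ∧
                  v ∈ (IsLocalRing.maximalIdeal ↑(X.presheaf.stalk P) •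
                    (⊤ : Submodule ↑(X.presheaf.stalk P)
                      ↑(((Scheme.Modules.pullback f).obj M).presheaf.stalk P)))} ⊔
              (IsLocalRing.maximalIdeal ↑(X.presheaf.stalk P) ^ 2 •
                (⊤ : Submodule ↑(X.presheaf.stalk P)
                  ↑(((Scheme.Modules.pullback f).obj M).presheaf.stalk P))))) ∧
    (IsClosedImmersion f ↔
      ((∀ P Q : ↥X, IsClosed ({P} : Set ↥X) → IsClosed ({Q} : Set ↥X) → P ≠ Q →
          ∃ c : Fin (n + 1) → k,
            ((((Scheme.Modules.pullback f).obj M).presheaf.germ ⊤ P trivial).hom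
                (∑ j, ProjUP.toGlobal pX (c j) • ProjUP.pullSec f M (t j)) ∈
              (IsLocalRing.maximalIdeal ↑(X.presheaf.stalk P) •
                (⊤ : Submodule ↑(X.presheaf.stalk P)
                  ↑(((Scheme.Modules.pullback f).obj M).presheaf.stalk P))) ∧
            (((Scheme.Modules.pullback f).obj M).presheaf.germ ⊤ Q trivial).hom
                (∑ j, ProjUP.toGlobal pX (c j) • ProjUP.pullSec f M (t j)) ∉
              (IsLocalRing.maximalIdeal ↑(X.presheaf.stalk Q) •
                (⊤ : Submodule ↑(X.presheaf.stalk Q)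
                  ↑(((Scheme.Modules.pullback f).obj M).presheaf.stalk Q)))) ∨
            ((((Scheme.Modules.pullback f).obj M).presheaf.germ ⊤ Q trivial).hom
                (∑ j, ProjUP.toGlobal pX (c j) • ProjUP.pullSec f M (t j)) ∈
              (IsLocalRing.maximalIdeal ↑(X.presheaf.stalk Q) •
                (⊤ : Submodule ↑(X.presheaf.stalk Q)
                  ↑(((Scheme.Modules.pullback f).obj M).presheaf.stalk Q))) ∧
            (((Scheme.Modules.pullback f).obj M).presheaf.germ ⊤ P trivial).hom
                (∑ j, ProjUP.toGlobal pX (c j) • ProjUP.pullSec f M (t j)) ∉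
              (IsLocalRing.maximalIdeal ↑(X.presheaf.stalk P) •
                (⊤ : Submodule ↑(X.presheaf.stalk P)
                  ↑(((Scheme.Modules.pullback f).obj M).presheaf.stalk P))))) ∧
        ∀ P : ↥X, IsClosed ({P} : Set ↥X) →
          (IsLocalRing.maximalIdeal ↑(X.presheaf.stalk P) •
                (⊤ : Submodule ↑(X.presheaf.stalk P)
                  ↑(((Scheme.Modules.pullback f).obj M).presheaf.stalk P))) ≤
            Submodule.span ↑(X.presheaf.stalk P)
                {v | ∃ c : Fin (n + 1) → k,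
                  v = (((Scheme.Modules.pullback f).obj M).presheaf.germ ⊤ P trivial).hom
                    (∑ j, ProjUP.toGlobal pX (c j) • ProjUP.pullSec f M (t j)) ∧
                  v ∈ (IsLocalRing.maximalIdeal ↑(X.presheaf.stalk P) •
                    (⊤ : Submodule ↑(X.presheaf.stalk P)
                      ↑(((Scheme.Modules.pullback f).obj M).presheaf.stalk P)))} ⊔
              (IsLocalRing.maximalIdeal ↑(X.presheaf.stalk P) ^ 2 •
                (⊤ : Submodule ↑(X.presheaf.stalk P)
                  ↑(((Scheme.Modules.pullback f).obj M).presheaf.stalk P))))) := by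
  subst hM
  obtain rfl : t = fun j => gsec (CohB1.polyGrading n k) 1 ⊤ (hX n k j) :=
    funext fun j => eq_of_heq (ht j)
  refine ⟨⟨fun h => ?_, fun h => ?_⟩, ⟨fun h => ?_, fun h => ?_⟩⟩
  · have := h
    exact ⟨fun P Q hP _ hPQ => sep_of_isClosedImmersion hf P Q hP hPQ,
      fun P hP => tan_of_isClosedImmersion hf P hP⟩
  · exact isClosedImmersion_of_sep hf
      (fun P Q hP hQ hPQ => (h.1 P Q hP hQ hPQ).imp fun c hc => Or.inl hc) h.2
  · have := h
    exact ⟨fun P Q hP _ hPQ => (sep_of_isClosedImmersion hf P Q hP hPQ).imp fun c hc => Or.inl hc,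
      fun P hP => tan_of_isClosedImmersion hf P hP⟩
  · exact isClosedImmersion_of_sep hf h.1 h.2


section Std

variable (k : Type u) [Field k] (n : ℕ)

theorem twist_eq_tilde_one :
    Twist.twistProjSpace n k 1 =
      GrTilde.tilde (CohB1.polyGrading n k) (CohB1.polyGrading n k) 1 := rfl

theorem twist_eq_O1 : Twist.twistProjSpace n k 1 = O1 (CohB1.polyGrading n k) :=
  twist_eq_tilde_one k n

theorem coord_heq (j : Fin (n + 1)) :
    HEq (ProjUP.coord n k j) (gsec (CohB1.polyGrading n k) 1 ⊤ (hX n k j)) := HEq.rfl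

end Std

end Groth.Agent.Lib.Seat68.LinSysMain
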