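import Mathlib
import Groth.Prelude.Def_ProCons
import Groth.Agent.Lib.Helper5ProCons
import Groth.Agent.Lib.Helper5Compl
import Groth.Agent.Lib.Helper5Closure

/-!
# Locally closed retrocompact subsets of schemes are pro-constructible (seat 68)
-/

set_option autoImplicit false
universe u

namespace Groth.Agent.Lib.Seat68.LocClosed

open Topology AlgebraicGeometry CategoryTheory TopologicalSpace

section top

variable {W : Type*} [TopologicalSpace W] [PrespectralSpace W] [QuasiSeparatedSpace W]

/-- In a prespectral quasi-separated space, a compact locally closed subset is an intersection of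
constructible subsets. -/
theorem exists_eq_sInter_of_isLocallyClosed_of_isCompact (F : Set W) (h1 : IsLocallyClosed F)
    (h2 : IsCompact F) : ∃ 𝒮 : Set (Set W), (∀ T ∈ 𝒮, IsConstructible T) ∧ F = ⋂₀ 𝒮 := by
  obtain ⟨O, Z, hO, hZ, rfl⟩ := h1
  have hbasis := PrespectralSpace.isTopologicalBasis (X := W)
  -- a compact open `D` between `O ∩ Z` and `O`
  obtain ⟨D, hDo, hDc, hFD, hDO⟩ : ∃ D : Set W, IsOpen D ∧ IsCompact D ∧ O ∩ Z ⊆ D ∧ D ⊆ O := by
    have hcov : ∀ p ∈ O ∩ Z, ∃ B : Set W, (IsOpen B ∧ IsCompact B) ∧ p ∈ B ∧ B ⊆ O := fun p hp =>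
      hbasis.exists_subset_of_mem_open hp.1 hO
    choose! B hB hpB hBO using hcov
    obtain ⟨t, hcover⟩ := h2.elim_nhds_subcover' (fun p hp => B p)
      (fun p hp => (hB p hp).1.mem_nhds (hpB p hp))
    refine ⟨⋃ p ∈ t, B p.1, isOpen_biUnion fun p _ => (hB p.1 p.2).1,
      t.isCompact_biUnion fun p _ => (hB p.1 p.2).2, ?_, ?_⟩
    · exact hcover
    · exact Set.iUnion₂_subset fun p _ => hBO p.1 p.2
  refine ⟨insert D {T | ∃ B : Set W, IsOpen B ∧ IsCompact B ∧ B ⊆ Zᶜ ∧ T = Bᶜ}, ?_, ?_⟩
  · rintro T (rfl | ⟨B, hBo, hBc, -, rfl⟩)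
    · exact hDc.isConstructible hDo
    · exact (hBc.isConstructible hBo).compl
  · apply subset_antisymm
    · rintro p hp T (rfl | ⟨B, hBo, hBc, hBZ, rfl⟩)
      · exact hFD hp
      · exact fun hpB => hBZ hpB hp.2
    · intro p hp
      have hpD : p ∈ D := hp D (Set.mem_insert _ _)
      refine ⟨hDO hpD, ?_⟩
      by_contra hpZ
      obtain ⟨B, hB, hpB, hBZ⟩ := hbasis.exists_subset_of_mem_open (show p ∈ Zᶜ from hpZ)
        hZ.isOpen_compl
      exact hp Bᶜ (Set.mem_insert_of_mem _ ⟨B, hB.1, hB.2, hBZ, rfl⟩) hpB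

end top

/-- A locally closed retrocompact subset of a scheme is pro-constructible. -/
theorem isProConstructible_of_isLocallyClosed (X : Scheme.{u}) (E : Set X)
    (h1 : IsLocallyClosed E) (h2 : IsRetrocompact E) : ProCons.IsProConstructible E := by
  intro x
  obtain ⟨U, hU, hxU, -⟩ := TopologicalSpace.Opens.isBasis_iff_nbhd.mp X.isBasis_affineOpens
    (show x ∈ (⊤ : X.Opens) from trivial)
  have : IsAffine (U : Scheme.{u}) := hU
  have : PrespectralSpace ↥(U : Set X) := inferInstanceAs (PrespectralSpace (U : Scheme.{u}))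
  have : QuasiSeparatedSpace ↥(U : Set X) :=
    inferInstanceAs (QuasiSeparatedSpace (U : Scheme.{u}))
  have hloc : IsLocallyClosed (Subtype.val ⁻¹' E : Set ↥(U : Set X)) :=
    h1.preimage continuous_subtype_val
  have hcomp : IsCompact (Subtype.val ⁻¹' E : Set ↥(U : Set X)) := by
    have h3 : IsCompact (E ∩ U) := h2 hU.isCompact U.isOpen
    have h4 : (Subtype.val ⁻¹' E : Set ↥(U : Set X)) = Subtype.val ⁻¹' (E ∩ U) := by
      ext ⟨p, hp⟩
      simp [hp]
    rw [h4]
    exact (IsInducing.subtypeVal.isCompact_preimage_iff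
      (by rw [Subtype.range_coe]; exact Set.inter_subset_right)).mpr h3
  obtain ⟨𝒮, h𝒮, hE𝒮⟩ := exists_eq_sInter_of_isLocallyClosed_of_isCompact _ hloc hcomp
  exact ⟨(U : Set X), U.isOpen, hxU, 𝒮, fun T hT => (h𝒮 T hT).isLocallyConstructible, hE𝒮⟩

/-- Closed subsets of schemes are pro-constructible. -/
theorem isProConstructible_of_isClosed (X : Scheme.{u}) (E : Set X) (h : IsClosed E) :
    ProCons.IsProConstructible E :=
  isProConstructible_of_isLocallyClosed X E h.isLocallyClosed
    (fun _ hU _ => hU.inter_left h)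

/-- Open subsets of schemes are ind-constructible. -/
theorem isIndConstructible_of_isOpen (X : Scheme.{u}) (E : Set X) (h : IsOpen E) :
    ProCons.IsIndConstructible E :=
  Groth.Agent.Lib.Helper5.isIndConstructible_of_compl
    (isProConstructible_of_isClosed X Eᶜ h.isClosed_compl)

/-- Pro-constructible subsets of a quasi-compact scheme are compact. -/
theorem isCompact_of_isProConstructible (X : Scheme.{u}) [CompactSpace X] (F : Set X)
    (hF : ProCons.IsProConstructible F) : IsCompact F := by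
  apply isCompact_of_finite_subcover
  intro ι G hG hFG
  obtain ⟨I, K, hIK⟩ := Groth.Agent.Lib.Helper5.exists_finset_iInter_subset_iUnion X G
    (fun _ : Unit => F) (fun i => isIndConstructible_of_isOpen X _ (hG i)) (fun _ => hF)
    (by intro p hp; exact hFG (Set.mem_iInter.mp hp ()))
  refine ⟨I, fun p hp => hIK ?_⟩
  simp only [Set.mem_iInter]
  intro _ _
  exact hp

/-- Pro-constructible subsets of a scheme are retrocompact. -/
theorem isRetrocompact_of_isProConstructible (X : Scheme.{u}) (E : Set X)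
    (hE : ProCons.IsProConstructible E) : IsRetrocompact E := by
  intro U hUc hUo
  let U' : X.Opens := ⟨U, hUo⟩
  have : CompactSpace (U' : Scheme.{u}) := isCompact_iff_compactSpace.mp hUc
  have h1 : IsCompact (U'.ι ⁻¹' E) := isCompact_of_isProConstructible (U' : Scheme.{u}) _
    (Groth.Agent.Lib.Helper5.isProConstructible_preimage U'.ι E hE)
  have h2 : E ∩ U = U'.ι '' (U'.ι ⁻¹' E) := by
    rw [Set.image_preimage_eq_inter_range, Scheme.Opens.range_ι]
    rfl
  rw [h2]
  exact h1.image U'.ι.continuous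

end Groth.Agent.Lib.Seat68.LocClosed
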