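import Mathlib
import Groth.Prelude.Def_ProCons
import Groth.Prelude.Def_W4c2submetdescSubtr
import Groth.Agent.Lib.Seat68ChainLift
import Groth.Agent.Lib.Seat68LocClosed
import Groth.Agent.S3398

/-!
# Local closedness descends along universally subtrusive morphisms of finite presentation (seat 68)

No retrocompactness is assumed.  The proof uses the closure for the constructible topology
(`cadh`), Chevalley's theorem and lifting of chains of three points.
-/

set_option autoImplicit false
universe u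

namespace Groth.Agent.Lib.Seat68.LocClosedFP

open Topology AlgebraicGeometry CategoryTheory TopologicalSpace
open Groth.Agent.Lib.Seat68.LocClosed Groth.Agent.Lib.Seat68.ChainLift

/-- The adherence of `A` for the constructible topology. -/
def cadh {X : Type*} [TopologicalSpace X] (A : Set X) : Set X :=
  {y | ∀ C : Set X, IsConstructible C → y ∈ C → (C ∩ A).Nonempty}

theorem isProConstructible_of_isConstructible {X : Type*} [TopologicalSpace X] {T : Set X}
    (hT : IsConstructible T) : ProCons.IsProConstructible T := by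
  intro x
  refine ⟨Set.univ, isOpen_univ, trivial, {Subtype.val ⁻¹' T}, ?_, by simp⟩
  intro T' hT'
  rw [Set.mem_singleton_iff] at hT'
  subst hT'
  exact hT.isLocallyConstructible.preimage_of_isOpenEmbedding
    isOpen_univ.isOpenEmbedding_subtypeVal

theorem isIndConstructible_of_isConstructible {X : Type*} [TopologicalSpace X] {T : Set X}
    (hT : IsConstructible T) : ProCons.IsIndConstructible T :=
  Groth.Agent.Lib.Helper5.isIndConstructible_of_compl
    (isProConstructible_of_isConstructible hT.compl)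

theorem cadh_subset_closure (X : Scheme.{u}) [QuasiSeparatedSpace X] (A : Set X) :
    cadh A ⊆ closure A := by
  intro y hy
  rw [mem_closure_iff]
  intro O hO hyO
  obtain ⟨N, ⟨hNo, hNc⟩, hyN, hNO⟩ :=
    (PrespectralSpace.isTopologicalBasis (X := X)).exists_subset_of_mem_open hyO hO
  obtain ⟨z, hzN, hzA⟩ := hy N (hNc.isConstructible hNo) hyN
  exact ⟨z, hNO hzN, hzA⟩

theorem preimage_cadh_subset {S' S : Scheme.{u}} (f : S' ⟶ S)
    [LocallyOfFinitePresentation f] [QuasiCompact f]
    [CompactSpace S] [QuasiSeparatedSpace S] (E : Set S) :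
    f ⁻¹' cadh E ⊆ cadh (f ⁻¹' E) := by
  intro x' hx' C' hC' hx'C'
  obtain ⟨z, hzC, hzE⟩ := hx' (f '' C') (f.isConstructible_image hC') ⟨x', hx'C', rfl⟩
  obtain ⟨c', hc'C', rfl⟩ := hzC
  exact ⟨c', hc'C', hzE⟩

theorem exists_cadh_specializes (S : Scheme.{u}) [CompactSpace S] [QuasiSeparatedSpace S]
    (E : Set S) (x : S) (hx : x ∈ closure E) : ∃ y ∈ cadh E, y ⤳ x := by
  classical
  by_contra hcon
  push Not at hcon
  let κ := {N : Set S // IsOpen N ∧ IsCompact N ∧ x ∈ N}
  let ι := {C : Set S // IsConstructible C ∧ C ∩ E = ∅}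
  have hcover : ⋂ N : κ, (N : Set S) ⊆ ⋃ C : ι, (C : Set S) := by
    intro y hy
    have hyx : y ⤳ x := by
      rw [specializes_iff_forall_open]
      intro O hO hxO
      obtain ⟨N, ⟨hNo, hNc⟩, hxN, hNO⟩ :=
        (PrespectralSpace.isTopologicalBasis (X := S)).exists_subset_of_mem_open hxO hO
      exact hNO (Set.mem_iInter.mp hy ⟨N, hNo, hNc, hxN⟩)
    have hy' : y ∉ cadh E := fun h => hcon y h hyx
    simp only [cadh, Set.mem_ofPred_eq, not_forall] at hy'
    obtain ⟨C, hC, hyC, hCE⟩ := hy'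
    exact Set.mem_iUnion.mpr ⟨⟨C, hC, Set.not_nonempty_iff_eq_empty.mp hCE⟩, hyC⟩
  obtain ⟨I, K, hIK⟩ := Groth.Agent.Lib.Helper5.exists_finset_iInter_subset_iUnion S
    (fun C : ι => (C : Set S)) (fun N : κ => (N : Set S))
    (fun C => isIndConstructible_of_isConstructible C.2.1)
    (fun N => isProConstructible_of_isConstructible (N.2.2.1.isConstructible N.2.1)) hcover
  have hN₀ : IsOpen (⋂ N ∈ K, (N : Set S)) := isOpen_biInter_finset (fun N _ => N.2.1)
  have hxN₀ : x ∈ ⋂ N ∈ K, (N : Set S) := by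
    simp only [Set.mem_iInter]
    intro N _
    exact N.2.2.2
  obtain ⟨e, heN, heE⟩ := mem_closure_iff.mp hx _ hN₀ hxN₀
  have := hIK heN
  simp only [Set.mem_iUnion] at this
  obtain ⟨C, -, heC⟩ := this
  have hCE : (C : Set S) ∩ E = ∅ := C.2.2
  exact (Set.eq_empty_iff_forall_notMem.mp hCE e) ⟨heC, heE⟩

/-- The case of a quasi-compact quasi-separated base. -/
theorem isLocallyClosed_of_preimage_qcqs {S' S : Scheme.{u}} (f : S' ⟶ S)
    [LocallyOfFinitePresentation f] [QuasiCompact f]
    [CompactSpace S] [QuasiSeparatedSpace S] [QuasiSeparatedSpace S']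
    (hf : Subtr.UnivSSubtrusive f) (E : Set S) (h1 : IsLocallyClosed (f ⁻¹' E)) :
    IsLocallyClosed E := by
  have hS : Subtr.IsSSubtrusive f := hf (𝟙 S') (𝟙 S) f (IsPullback.id_vert f)
  have hdiffcl : IsClosed (closure (f ⁻¹' E) \ f ⁻¹' E) := by
    have := h1.isOpen_coborder
    rw [coborder] at this
    exact isOpen_compl_iff.mp this
  have hadh : ∀ x' : S', f x' ∈ cadh E → x' ∈ closure (f ⁻¹' E) := fun x' hx' =>
    cadh_subset_closure S' _ (preimage_cadh_subset f E hx')
  have hcl : closure E ⊆ f '' closure (f ⁻¹' E) := by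
    intro x hx
    obtain ⟨y, hy, hyx⟩ := exists_cadh_specializes S E x hx
    obtain ⟨x', y', hy'x', hfx', hfy'⟩ := hS hyx
    refine ⟨x', ?_, hfx'⟩
    have : y' ∈ closure (f ⁻¹' E) := hadh y' (by rw [hfy']; exact hy)
    exact hy'x'.mem_closed isClosed_closure this
  have hT : closure E \ E = f '' (closure (f ⁻¹' E) \ f ⁻¹' E) := by
    apply subset_antisymm
    · rintro t ⟨ht1, ht2⟩
      obtain ⟨c, hc, rfl⟩ := hcl ht1
      exact ⟨c, ⟨hc, ht2⟩, rfl⟩
    · rintro _ ⟨c, ⟨hc1, hc2⟩, rfl⟩
      refine ⟨?_, hc2⟩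
      have h2 : f '' closure (f ⁻¹' E) ⊆ closure (f '' (f ⁻¹' E)) :=
        image_closure_subset_closure_image f.continuous
      exact closure_mono (Set.image_preimage_subset f E) (h2 ⟨c, hc1, rfl⟩)
  have hTpc : ProCons.IsProConstructible (closure E \ E) := by
    rw [hT]
    exact Groth.Agent.S3398.result f _ (isProConstructible_of_isClosed S' _ hdiffcl)
  have hTstable : StableUnderSpecialization (closure E \ E) := by
    rintro t t₁ htt ⟨ht1, ht2⟩
    refine ⟨isClosed_closure.stableUnderSpecialization htt ht1, fun ht₁E => ht2 ?_⟩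
    obtain ⟨e, heE, het⟩ := exists_cadh_specializes S E t ht1
    obtain ⟨x₀, x₁, x₂, hx₀₁, hx₁₂, hx₀, hx₁, hx₂⟩ := exists_chain_lift f hf het htt
    obtain ⟨O, Z, hO, hZ, hOZ⟩ := h1
    have hx₀cl : x₀ ∈ closure (f ⁻¹' E) := hadh x₀ (by rw [hx₀]; exact heE)
    have hx₂E : x₂ ∈ f ⁻¹' E := by show f x₂ ∈ E; rw [hx₂]; exact ht₁E
    have hclZ : closure (f ⁻¹' E) ⊆ Z := by
      rw [hOZ]
      exact closure_minimal Set.inter_subset_right hZ
    rw [hOZ] at hx₂E
    have hx₁E : x₁ ∈ f ⁻¹' E := by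
      rw [hOZ]
      exact ⟨hx₁₂.mem_open hO hx₂E.1, hx₀₁.mem_closed hZ (hclZ hx₀cl)⟩
    have : f x₁ ∈ E := hx₁E
    rwa [hx₁] at this
  have hTclosed : IsClosed (closure E \ E) := by
    rw [← closure_eq_iff_isClosed]
    apply subset_antisymm _ subset_closure
    intro p hp
    obtain ⟨z, hz, hzp⟩ := Groth.Agent.Lib.Helper5.exists_specializes_of_mem_closure S _ hTpc p hp
    exact hTstable hzp hz
  rw [isLocallyClosed_iff_isOpen_coborder, coborder]
  exact hTclosed.isOpen_compl

/-- Local closedness descends along universally S-subtrusive morphisms of finite presentation. -/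
theorem isLocallyClosed_of_preimage {S' S : Scheme.{u}} (f : S' ⟶ S)
    [LocallyOfFinitePresentation f] [QuasiCompact f] [QuasiSeparated f]
    (hf : Subtr.UnivSSubtrusive f) (E : Set S) (h1 : IsLocallyClosed (f ⁻¹' E)) :
    IsLocallyClosed E := by
  have hcov : IsOpenCover (fun U : S.affineOpens => (U : S.Opens)) :=
    iSup_affineOpens_eq_top S
  rw [hcov.isLocallyClosed_iff_coe_preimage]
  intro U
  have : IsAffine (U.1 : Scheme.{u}) := U.2
  have hstab : Subtr.UnivSSubtrusive.IsStableUnderBaseChange := by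
    unfold Subtr.UnivSSubtrusive
    exact MorphismProperty.universally_isStableUnderBaseChange _
  have hg : Subtr.UnivSSubtrusive (f ∣_ U.1) :=
    MorphismProperty.of_isPullback (isPullback_morphismRestrict f U.1).flip hf
  have : QuasiSeparatedSpace ((f ⁻¹ᵁ U.1 : S'.Opens) : Scheme.{u}) :=
    quasiSeparatedSpace_of_quasiSeparated (f ∣_ U.1)
  have key := isLocallyClosed_of_preimage_qcqs (f ∣_ U.1) hg (U.1.ι ⁻¹' E) (by
    have : (f ∣_ U.1) ⁻¹' (U.1.ι ⁻¹' E) = (f ⁻¹ᵁ U.1).ι ⁻¹' (f ⁻¹' E) := by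
      ext p
      simp only [Set.mem_preimage, ← Scheme.Hom.comp_apply, morphismRestrict_ι]
    rw [this]
    exact h1.preimage (Scheme.Hom.continuous _))
  exact key

end Groth.Agent.Lib.Seat68.LocClosedFP
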