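import Mathlib
import Groth.Agent.Lib.Seat68GrassChartB

/-!
# Plücker coordinates of a chart point of the Grassmannian: algebra (seat 68)

For a family `v : Fin k → M` and a submodule `N ⊆ A ⊗ M` in the chart of `v`, `pr v N hN` is the
projection `A ⊗ M → A^k`, `tr v w N hN` the matrix of the vectors `w` in the basis `v` of the
quotient; `tr_mul` (cocycle), `isChart_of_isUnit_det`, `tr_map` (naturality).
-/

set_option autoImplicit false
set_option linter.style.haveILetI false
universe u

namespace Groth.Agent.Lib.Seat68.PlkAlg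

open TensorProduct Module
open Groth.Agent.Lib.Seat68.GrassAlg Groth.Agent.Lib.Seat68.GrassChart

variable {R : Type u} [CommRing R] {M : Type u} [AddCommGroup M] [Module R M] {k : ℕ}
variable {A : Type u} [CommRing A] [Algebra R A] {C : Type u} [CommRing C] [Algebra R C]

section pr

variable (v w u : Fin k → M) (N : Submodule A (A ⊗[R] M))

/-- the isomorphism `A^k ≃ (A ⊗ M) / N` of a chart point -/
noncomputable def ψE (hN : IsChart v N) : (Fin k → A) ≃ₗ[A] (A ⊗[R] M) ⧸ N :=
  LinearEquiv.ofBijective (ψ v N) (show Function.Bijective (ψ v N) from hN)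

lemma ψE_apply (hN : IsChart v N) (c : Fin k → A) : ψE v N hN c = N.mkQ (inc v A c) := rfl

/-- the projection to `A^k` of a chart point -/
noncomputable def pr (hN : IsChart v N) : A ⊗[R] M →ₗ[A] (Fin k → A) :=
  (ψE v N hN).symm.toLinearMap ∘ₗ N.mkQ

lemma pr_apply (hN : IsChart v N) (z : A ⊗[R] M) :
    pr v N hN z = (ψE v N hN).symm (N.mkQ z) := rfl

lemma pr_inc (hN : IsChart v N) (c : Fin k → A) : pr v N hN (inc v A c) = c := by
  rw [pr_apply, ← ψE_apply v N hN, LinearEquiv.symm_apply_apply]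

lemma pr_eq_iff (hN : IsChart v N) (z : A ⊗[R] M) (c : Fin k → A) :
    pr v N hN z = c ↔ z - inc v A c ∈ N := by
  rw [pr_apply, LinearEquiv.symm_apply_eq, ψE_apply, ← sub_eq_zero, ← map_sub,
    Submodule.mkQ_apply, Submodule.Quotient.mk_eq_zero]

lemma sub_inc_pr_mem (hN : IsChart v N) (z : A ⊗[R] M) : z - inc v A (pr v N hN z) ∈ N :=
  (pr_eq_iff v N hN z _).mp rfl

lemma pr_single (hN : IsChart v N) (i : Fin k) :
    pr v N hN ((1 : A) ⊗ₜ[R] v i) = Pi.single i 1 := by
  rw [← inc_single v A i, pr_inc]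

/-- the matrix of the vectors `w` in the basis `v` of the quotient -/
noncomputable def tr (hN : IsChart v N) : Matrix (Fin k) (Fin k) A :=
  Matrix.of fun i l => pr v N hN ((1 : A) ⊗ₜ[R] w l) i

lemma tr_apply (hN : IsChart v N) (i l : Fin k) :
    tr v w N hN i l = pr v N hN ((1 : A) ⊗ₜ[R] w l) i := rfl

lemma tr_self (hN : IsChart v N) : tr v v N hN = 1 := by
  ext i l
  rw [tr_apply, pr_single, Matrix.one_apply, Pi.single_apply]

lemma pr_inc_eq_mulVec (hN : IsChart v N) (c : Fin k → A) :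
    pr v N hN (inc w A c) = (tr v w N hN).mulVec c := by
  rw [inc_apply, map_sum]
  funext i
  rw [Finset.sum_apply, Matrix.mulVec, dotProduct]
  refine Finset.sum_congr rfl fun l _ => ?_
  rw [map_smul, Pi.smul_apply, smul_eq_mul, tr_apply, mul_comm]

lemma pr_eq_mulVec (hN : IsChart v N) (hN' : IsChart w N) (z : A ⊗[R] M) :
    pr w N hN' z = (tr w v N hN').mulVec (pr v N hN z) := by
  rw [← pr_inc_eq_mulVec, pr_eq_iff]
  have h1 := sub_inc_pr_mem v N hN z
  have h2 := sub_inc_pr_mem w N hN' (inc v A (pr v N hN z))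
  have : z - inc w A (pr w N hN' (inc v A (pr v N hN z))) =
      (z - inc v A (pr v N hN z)) +
        (inc v A (pr v N hN z) - inc w A (pr w N hN' (inc v A (pr v N hN z)))) := by abel
  rw [this]
  exact N.add_mem h1 h2

lemma tr_mul (hN : IsChart v N) (hN' : IsChart w N) :
    tr w u N hN' = tr w v N hN' * tr v u N hN := by
  ext i l
  rw [tr_apply, pr_eq_mulVec v w N hN hN', Matrix.mul_apply, Matrix.mulVec, dotProduct]
  rfl

lemma tr_mul_tr (hN : IsChart v N) (hN' : IsChart w N) :
    tr w v N hN' * tr v w N hN = 1 := by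
  rw [← tr_mul, tr_self]

lemma isUnit_det_tr (hN : IsChart v N) (hN' : IsChart w N) : IsUnit (tr v w N hN).det :=
  Matrix.isUnit_det_of_left_inverse (tr_mul_tr v w N hN hN')

lemma ψ_eq (hN : IsChart v N) (c : Fin k → A) :
    ψ w N c = ψE v N hN ((tr v w N hN).mulVec c) := by
  rw [← pr_inc_eq_mulVec, pr_apply, LinearEquiv.apply_symm_apply]
  rfl

lemma isChart_of_isUnit_det (hN : IsChart v N) (h : IsUnit (tr v w N hN).det) : IsChart w N := by
  have hfun : (ψ w N : (Fin k → A) → _) = ψE v N hN ∘ (tr v w N hN).mulVec := by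
    funext c
    exact ψ_eq v w N hN c
  have hu : IsUnit (tr v w N hN) := (Matrix.isUnit_iff_isUnit_det _).mpr h
  change Function.Bijective (ψ w N)
  rw [hfun]
  refine (ψE v N hN).bijective.comp ⟨?_, ?_⟩
  · exact Matrix.mulVec_injective_of_isUnit hu
  · exact Matrix.mulVec_surjective_iff_isUnit.mpr hu

lemma tr_comp_perm (hN : IsChart v N) (π : Equiv.Perm (Fin k)) :
    tr v (w ∘ π) N hN = (tr v w N hN).submatrix id π := rfl

lemma det_tr_comp_perm (hN : IsChart v N) (π : Equiv.Perm (Fin k)) :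
    (tr v (w ∘ π) N hN).det = Equiv.Perm.sign π * (tr v w N hN).det := by
  rw [tr_comp_perm, Matrix.det_permute']

lemma isChart_comp_perm (hN : IsChart v N) (π : Equiv.Perm (Fin k)) : IsChart (v ∘ π) N := by
  apply isChart_of_isUnit_det v (v ∘ π) N hN
  rw [det_tr_comp_perm, tr_self, Matrix.det_one, mul_one]
  exact (Int.isUnit_iff.mpr (Int.units_eq_one_or (Equiv.Perm.sign π) |>.imp
    (fun h => by rw [h]; rfl) (fun h => by rw [h]; rfl))).map (Int.castRingHom A)

lemma dI_eq_top (hN : IsChart v N) : dI v N = ⊤ := by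
  have h := (surjective_ψ_iff v N).mp hN.2
  rw [dI, h]
  exact Module.annihilator_eq_top_iff.mpr inferInstance

end pr

section nat

variable (v w : Fin k → M) (N : Grassmannian A (A ⊗[R] M) k)

lemma pr_map (hN : IsChart v N.toSubmodule) (φ : A →ₐ[R] C)
    (hN' : IsChart v (Grassmannian.map φ N).toSubmodule) (z : A ⊗[R] M) :
    pr v _ hN' (bcM φ z) = φ ∘ pr v _ hN z := by
  rw [pr_eq_iff]
  have h1 := sub_inc_pr_mem v N.toSubmodule hN z
  have h2 := bcM_mem_map_of_mem N φ _ h1
  rwa [map_sub, bcM_inc] at h2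

lemma tr_map (hN : IsChart v N.toSubmodule) (φ : A →ₐ[R] C)
    (hN' : IsChart v (Grassmannian.map φ N).toSubmodule) :
    tr v w _ hN' = (tr v w _ hN).map φ := by
  ext i l
  rw [tr_apply, Matrix.map_apply, tr_apply]
  have h1 : (1 : C) ⊗ₜ[R] w l = bcM φ ((1 : A) ⊗ₜ[R] w l) := by
    rw [bcM_tmul, map_one]
  rw [h1, pr_map v N hN φ hN']
  rfl

lemma det_tr_map (hN : IsChart v N.toSubmodule) (φ : A →ₐ[R] C)
    (hN' : IsChart v (Grassmannian.map φ N).toSubmodule) :
    (tr v w _ hN').det = φ (tr v w _ hN).det := by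
  rw [tr_map v w N hN φ hN']
  exact (RingHom.map_det (φ : A →+* C) _).symm

lemma isChart_map (hN : IsChart v N.toSubmodule) (φ : A →ₐ[R] C) :
    IsChart v (Grassmannian.map φ N).toSubmodule := by
  rw [isChart_map_iff, dI_eq_top v _ hN]
  intro p hp
  have h1 : (1 : A) ∈ p.asIdeal.comap (φ : A →+* C) := hp Submodule.mem_top
  rw [Ideal.mem_comap, map_one] at h1
  exact p.2.ne_top ((Ideal.eq_top_iff_one _).mpr h1)

end nat

end Groth.Agent.Lib.Seat68.PlkAlg
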