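import Mathlib
import Groth.Agent.Lib.Seat68PlkAlg

/-!
# Plücker coordinates on the standard charts of the Grassmannian of `R^n` (seat 68)

Index type `Ix n k` (the `k`-subsets of `Fin n`), `ixE : Fin (C(n,k) - 1 + 1) ≃ Ix n k`, the chart
vectors `vK K`, the Plücker coordinates `plk K N hN L` normalised at `K`, their cocycle relations,
naturality, the unit criterion and the Cramer identity recovering the matrix entries.
-/

set_option autoImplicit false
set_option linter.style.haveILetI false
universe u

namespace Groth.Agent.Lib.Seat68.PlkIdx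

open TensorProduct Module
open Groth.Agent.Lib.Seat68.GrassAlg Groth.Agent.Lib.Seat68.GrassChart
  Groth.Agent.Lib.Seat68.PlkAlg

section idx

variable (n k : ℕ)

/-- the `k`-subsets of `Fin n` -/
abbrev Ix : Type := {K : Finset (Fin n) // K.card = k}

variable {n k}

/-- numbering of the `k`-subsets -/
noncomputable def ixE (hk : k ≤ n) : Fin (n.choose k - 1 + 1) ≃ Ix n k :=
  (finCongr (Nat.sub_add_cancel (Nat.choose_pos hk))).trans
    (Fintype.equivFinOfCardEq (α := Ix n k) (n := n.choose k)
      (by rw [Fintype.card_finset_len, Fintype.card_fin])).symm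

/-- the increasing enumeration of a subset -/
def κf (K : Ix n k) : Fin k → Fin n := K.1.orderEmbOfFin K.2

lemma κf_injective (K : Ix n k) : Function.Injective (κf K) := (K.1.orderEmbOfFin K.2).injective

lemma range_κf (K : Ix n k) : Set.range (κf K) = K.1 := Finset.range_orderEmbOfFin _ _

lemma exists_perm_of_range_eq {f g : Fin k → Fin n} (hf : Function.Injective f)
    (hg : Function.Injective g) (h : Set.range f = Set.range g) :
    ∃ π : Equiv.Perm (Fin k), f = g ∘ π := by
  refine ⟨(Equiv.ofInjective f hf).trans ((Equiv.setCongr h).trans (Equiv.ofInjective g hg).symm),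
    ?_⟩
  funext x
  simp [Equiv.apply_ofInjective_symm]

lemma exists_ix (σ : Fin k → Fin n) (hσ : Function.Injective σ) :
    ∃ (K : Ix n k) (π : Equiv.Perm (Fin k)), κf K = σ ∘ π := by
  classical
  let K : Ix n k := ⟨Finset.univ.image σ, by
    rw [Finset.card_image_of_injective _ hσ]; simp⟩
  refine ⟨K, exists_perm_of_range_eq (κf_injective K) hσ ?_⟩
  rw [range_κf]
  simp [K]

/-- a bijection extending the enumeration of `K` -/
noncomputable def τf (K : Ix n k) : Fin k ⊕ Fin (n - k) ≃ Fin n :=
  (exists_equiv_of_injective (κf K) (κf_injective K)).choose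

lemma τf_inl (K : Ix n k) (i : Fin k) : τf K (Sum.inl i) = κf K i :=
  (exists_equiv_of_injective (κf K) (κf_injective K)).choose_spec i

lemma τf_inr_not_mem (K : Ix n k) (j : Fin (n - k)) : τf K (Sum.inr j) ∉ K.1 := by
  intro h
  have h1 : τf K (Sum.inr j) ∈ Set.range (κf K) := by rw [range_κf]; exact h
  obtain ⟨i, hi⟩ := h1
  rw [← τf_inl] at hi
  exact Sum.inl_ne_inr ((τf K).injective hi)

end idx

section plk

variable {R : Type u} [CommRing R] {n k : ℕ}
variable {A : Type u} [CommRing A] [Algebra R A] {C : Type u} [CommRing C] [Algebra R C]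

/-- standard vectors along `σ` -/
def sv (σ : Fin k → Fin n) : Fin k → (Fin n → R) := fun i => Pi.single (σ i) 1

variable (R) in
/-- the chart vectors of `K` -/
noncomputable def vK (K : Ix n k) : Fin k → (Fin n → R) := vb (bτ (R := R) (τf K))

lemma vK_eq (K : Ix n k) : vK R K = sv (κf K) := by
  funext i
  rw [vK, vb, bτ_apply, τf_inl]
  rfl

lemma vb_bτ (τ : Fin k ⊕ Fin (n - k) ≃ Fin n) :
    vb (bτ (R := R) τ) = sv (fun i => τ (Sum.inl i)) := by
  funext i
  rw [vb, bτ_apply]
  rfl

/-- the Plücker coordinates of a point of the chart `K`, normalised at `K` -/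
noncomputable def plk (K : Ix n k) (N : Submodule A (A ⊗[R] (Fin n → R)))
    (hN : IsChart (vK R K) N) (L : Ix n k) : A :=
  (tr (vK R K) (vK R L) N hN).det

lemma plk_self (K : Ix n k) (N : Submodule A (A ⊗[R] (Fin n → R))) (hN : IsChart (vK R K) N) :
    plk K N hN K = 1 := by
  rw [plk, tr_self, Matrix.det_one]

lemma plk_mul (K L : Ix n k) (N : Submodule A (A ⊗[R] (Fin n → R))) (hN : IsChart (vK R K) N)
    (hN' : IsChart (vK R L) N) (J : Ix n k) :
    plk L N hN' J = plk L N hN' K * plk K N hN J := by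
  rw [plk, plk, plk, tr_mul (vK R K) (vK R L) (vK R J) N hN hN', Matrix.det_mul]

lemma plk_mul_plk (K L : Ix n k) (N : Submodule A (A ⊗[R] (Fin n → R)))
    (hN : IsChart (vK R K) N) (hN' : IsChart (vK R L) N) :
    plk L N hN' K * plk K N hN L = 1 := by
  rw [← plk_mul, plk_self]

lemma isUnit_plk (K L : Ix n k) (N : Submodule A (A ⊗[R] (Fin n → R)))
    (hN : IsChart (vK R K) N) (hN' : IsChart (vK R L) N) : IsUnit (plk K N hN L) :=
  isUnit_det_tr _ _ N hN hN'

lemma isChart_of_isUnit_plk (K L : Ix n k) (N : Submodule A (A ⊗[R] (Fin n → R)))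
    (hN : IsChart (vK R K) N) (h : IsUnit (plk K N hN L)) : IsChart (vK R L) N :=
  isChart_of_isUnit_det _ _ N hN h

lemma plk_map (K L : Ix n k) (N : Grassmannian A (A ⊗[R] (Fin n → R)) k)
    (hN : IsChart (vK R K) N.toSubmodule) (φ : A →ₐ[R] C)
    (hN' : IsChart (vK R K) (Grassmannian.map φ N).toSubmodule) :
    plk K _ hN' L = φ (plk K _ hN L) :=
  det_tr_map _ _ N hN φ hN'

lemma plk_congr (K L : Ix n k) {N N' : Submodule A (A ⊗[R] (Fin n → R))} (h : N = N')
    (hN : IsChart (vK R K) N) (hN' : IsChart (vK R K) N') : plk K N hN L = plk K N' hN' L := by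
  subst h
  rfl

/-- Cramer: replacing one chart vector by a standard vector -/
lemma det_tr_update (v : Fin k → (Fin n → R)) (σ : Fin k → Fin n) (hv : v = sv σ)
    (N : Submodule A (A ⊗[R] (Fin n → R))) (hN : IsChart v N) (i₀ : Fin k) (j : Fin n) :
    (tr v (sv (Function.update σ i₀ j)) N hN).det =
      pr v N hN ((1 : A) ⊗ₜ[R] Pi.single j 1) i₀ := by
  classical
  subst hv
  have h1 : tr (sv σ) (sv (Function.update σ i₀ j)) N hN =
      (1 : Matrix (Fin k) (Fin k) A).updateCol i₀
        (pr (sv σ) N hN ((1 : A) ⊗ₜ[R] Pi.single j 1)) := by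
    ext i l
    rw [tr_apply, Matrix.updateCol_apply]
    by_cases hl : l = i₀
    · subst hl
      rw [if_pos rfl, sv, Function.update_self]
    · rw [if_neg hl, sv, Function.update_of_ne hl]
      have h2 := congrFun (congrFun (tr_self (sv σ) N hN) i) l
      rw [tr_apply] at h2
      exact h2
  rw [h1, ← Matrix.cramer_apply, Matrix.cramer_one]
  rfl

/-- the matrix entries of a chart point are, up to sign, Plücker coordinates -/
lemma exists_plk_eq (K : Ix n k) (i₀ : Fin k) (j : Fin n) (hj : j ∉ K.1) :
    ∃ (L : Ix n k) (s : ℤˣ), ∀ (A : Type u) [CommRing A] [Algebra R A]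
      (N : Submodule A (A ⊗[R] (Fin n → R))) (hN : IsChart (vK R K) N),
      pr (vK R K) N hN ((1 : A) ⊗ₜ[R] Pi.single j 1) i₀ = ((s : ℤ) : A) * plk K N hN L := by
  classical
  have hu : Function.Injective (Function.update (κf K) i₀ j) := by
    intro a b hab
    by_cases ha : a = i₀ <;> by_cases hb : b = i₀
    · rw [ha, hb]
    · exfalso
      rw [ha, Function.update_self, Function.update_of_ne hb] at hab
      have h3 : j ∈ Set.range (κf K) := ⟨b, hab.symm⟩
      rw [range_κf] at h3
      exact hj (Finset.mem_coe.mp h3)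
    · exfalso
      rw [hb, Function.update_self, Function.update_of_ne ha] at hab
      have h3 : j ∈ Set.range (κf K) := ⟨a, hab⟩
      rw [range_κf] at h3
      exact hj (Finset.mem_coe.mp h3)
    · rw [Function.update_of_ne ha, Function.update_of_ne hb] at hab
      exact κf_injective K hab
  obtain ⟨L, π, hL⟩ := exists_ix _ hu
  refine ⟨L, Equiv.Perm.sign π, fun A _ _ N hN => ?_⟩
  have h1 : vK R L = sv (R := R) (Function.update (κf K) i₀ j) ∘ π := by
    rw [vK_eq, hL]
    rfl
  rw [plk, h1, det_tr_comp_perm, det_tr_update (vK R K) (κf K) (vK_eq K) N hN i₀ j, ← mul_assoc,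
    ← Int.cast_mul, ← Units.val_mul, Int.units_mul_self, Units.val_one, Int.cast_one, one_mul]

end plk

end Groth.Agent.Lib.Seat68.PlkIdx
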