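import Mathlib
import Groth.Prelude.Def_CohB1
import Groth.Agent.Lib.Seat54ProjPt
import Groth.Agent.Lib.Seat68GrassRep

/-!
# Points of projective space over `Spec R` in homogeneous coordinates (seat 68)

`ptS m A i q : Spec A ⟶ P^m_{Spec R}` (over `Spec R`) for an `R`-algebra `A`, with homogeneous
coordinates `q` normalised by `q i = 1`; base change, independence of the chart, preimages of the
standard opens.
-/

set_option autoImplicit false
set_option linter.style.haveILetI false
universe u

open CategoryTheory CategoryTheory.Limits AlgebraicGeometry MvPolynomial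

namespace Groth.Agent.Lib.Seat68.PlkPt

open Groth.Agent.Lib.Seat68.GrassHilb Groth.Agent.Lib.Seat68.GrassRep
  Groth.Agent.Lib.Seat54.ProjPt Groth.Agent.Lib.Seat63.PnConn

/-- the integers in universe `u` -/
abbrev Zu : Type u := ULift.{u} ℤ

/-- the unique ring homomorphism from the integers -/
noncomputable def ρZ (A : Type u) [CommRing A] : Zu.{u} →+* A :=
  (Int.castRingHom A).comp (ULift.ringEquiv : Zu.{u} ≃+* ℤ).toRingHom

lemma ρZ_unique {A : Type u} [CommRing A] (f : Zu.{u} →+* A) : f = ρZ A := by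
  have h : f.comp (ULift.ringEquiv : Zu.{u} ≃+* ℤ).symm.toRingHom = Int.castRingHom A :=
    Subsingleton.elim _ _
  ext x
  have h1 := RingHom.congr_fun h (ULift.ringEquiv x)
  rw [RingHom.comp_apply] at h1
  have h2 : (ULift.ringEquiv : Zu.{u} ≃+* ℤ).symm.toRingHom (ULift.ringEquiv x) = x :=
    (ULift.ringEquiv : Zu.{u} ≃+* ℤ).symm_apply_apply x
  rw [h2] at h1
  exact h1

lemma comp_ρZ {A C : Type u} [CommRing A] [CommRing C] (φ : A →+* C) :
    φ.comp (ρZ A) = ρZ C := ρZ_unique _

variable (m : ℕ) {R : Type u} [CommRing R]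

/-- projective space over `Spec R`, as an object over `Spec R` -/
noncomputable abbrev PSO (R : Type u) [CommRing R] : Over (Spec (CommRingCat.of R)) :=
  Over.mk (CohB1.ProjSpaceOver.toBase m (Spec (CommRingCat.of R)))

/-- the projection to projective space over the integers -/
noncomputable def prZ (R : Type u) [CommRing R] :
    (PSO m R).left ⟶ Proj (CohB1.polyGrading m Zu.{u}) :=
  pullback.fst (CohB1.ProjSpace.toSpec m Zu.{u})
    (specULiftZIsTerminal.from (Spec (CommRingCat.of R)))

/-- the point with homogeneous coordinates `q` -/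
noncomputable def ptS (A : CommAlgCat.{u} R) (i : Fin (m + 1)) (q : Fin (m + 1) → A) :
    ov A ⟶ PSO m R :=
  Over.homMk (U := ov A) (V := PSO m R)
    (pullback.lift (f := CohB1.ProjSpace.toSpec m Zu.{u})
      (g := specULiftZIsTerminal.from (Spec (CommRingCat.of R)))
      (pt m Zu.{u} i (ρZ A) q) (ov A).hom (specULiftZIsTerminal.hom_ext _ _))
    (pullback.lift_snd _ _ _)

lemma ptS_left_prZ (A : CommAlgCat.{u} R) (i : Fin (m + 1)) (q : Fin (m + 1) → A) :
    (ptS m A i q).left ≫ prZ m R = pt m Zu.{u} i (ρZ A) q :=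
  pullback.lift_fst _ _ _

lemma hom_ext_PSO {Y : Over (Spec (CommRingCat.of R))} (a b : Y ⟶ PSO m R)
    (h : a.left ≫ prZ m R = b.left ≫ prZ m R) : a = b := by
  apply Over.OverMorphism.ext
  apply pullback.hom_ext
  · exact h
  · exact (Over.w a).trans (Over.w b).symm

lemma ptS_comp (A C : CommAlgCat.{u} R) (φ : A ⟶ C) (i : Fin (m + 1)) (q : Fin (m + 1) → A)
    (hq : q i = 1) : ovMap φ ≫ ptS m A i q = ptS m C i (fun c => φ.hom (q c)) := by
  apply hom_ext_PSO
  rw [Over.comp_left, Category.assoc, ptS_left_prZ, ptS_left_prZ, ovMap_left,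
    pt_comp m Zu.{u} φ.hom.toRingHom i (ρZ A) q hq, comp_ρZ]
  rfl

lemma ptS_eq_of_mul_eq_one (A : CommAlgCat.{u} R) (i k : Fin (m + 1)) (q : Fin (m + 1) → A)
    (hq : q i = 1) (v : A) (hv : v * q k = 1) :
    ptS m A i q = ptS m A k (fun c => v * q c) := by
  apply hom_ext_PSO
  rw [ptS_left_prZ, ptS_left_prZ]
  exact pt_eq_of_mul_eq_one m Zu.{u} i k (ρZ A) q hq v hv

/-- the standard open `D₊(T_c)` of projective space over `Spec R` -/
noncomputable def DS (R : Type u) [CommRing R] (c : Fin (m + 1)) : (PSO m R).left.Opens :=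
  prZ m R ⁻¹ᵁ Proj.basicOpen (CohB1.polyGrading m Zu.{u}) (X c)

lemma ptS_preimage_DS (A : CommAlgCat.{u} R) (i : Fin (m + 1)) (q : Fin (m + 1) → A)
    (hq : q i = 1) (c : Fin (m + 1)) :
    (ptS m A i q).left ⁻¹ᵁ DS m R c = PrimeSpectrum.basicOpen (q c) := by
  rw [DS, ← Scheme.Hom.comp_preimage, ptS_left_prZ]
  exact pt_preimage_basicOpen m Zu.{u} i (ρZ A) q hq c

/-- every morphism between affine `R`-schemes comes from an algebra map -/
lemma exists_ovMap_eq {A B : CommAlgCat.{u} R} (h : ov A ⟶ ov B) : ∃ φ : B ⟶ A, ovMap φ = h := by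
  let ψ : CommRingCat.of B ⟶ CommRingCat.of A := Spec.preimage h.left
  have hψ : Spec.map ψ = h.left := Spec.map_preimage _
  have hw : CommRingCat.ofHom (algebraMap R B) ≫ ψ = CommRingCat.ofHom (algebraMap R A) := by
    apply Spec.map_injective
    rw [Spec.map_comp, hψ]
    exact Over.w h
  let φ' : B →ₐ[R] A := { ψ.hom with
    commutes' := fun r => by
      have := congrArg (fun t => t.hom r) hw
      exact this }
  refine ⟨CommAlgCat.ofHom φ', ?_⟩
  apply Over.OverMorphism.ext
  rw [ovMap_left, ← hψ]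
  rfl

end Groth.Agent.Lib.Seat68.PlkPt
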