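import Mathlib
import Groth.Agent.Lib.Seat68PlkIdx
import Groth.Agent.Lib.Seat68PlkPt
import Groth.Agent.Lib.Seat68GrassCover

/-!
# The Plücker morphism on the standard charts of a scheme representing the Grassmannian (seat 68)

`cK K : U_K ⟶ P^m_{Spec R}` with its description on affine points (`comp_cK`) and the
compatibility of the chart morphisms on affine points (`compat_pt`).
-/

set_option autoImplicit false
set_option linter.style.haveILetI false
universe u
open CategoryTheory CategoryTheory.Limits AlgebraicGeometry TensorProduct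

namespace Groth.Agent.Lib.Seat68.PlkMap

open Groth.Agent.Lib.Seat68.GrassHilb Groth.Agent.Lib.Seat68.GrassAlg
  Groth.Agent.Lib.Seat68.GrassRep Groth.Agent.Lib.Seat68.GrassOpen
  Groth.Agent.Lib.Seat68.GrassChart Groth.Agent.Lib.Seat68.AffRep
  Groth.Agent.Lib.Seat68.AffSpaceRep Groth.Agent.Lib.Seat68.GrassCover
  Groth.Agent.Lib.Seat68.PlkAlg Groth.Agent.Lib.Seat68.PlkIdx Groth.Agent.Lib.Seat68.PlkPt

section pol

variable {R : Type u} [CommRing R] (ι : Type u)

/-- the polynomial ring as an `R`-algebra object -/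
noncomputable abbrev PolA (R : Type u) [CommRing R] (ι : Type u) : CommAlgCat.{u} R :=
  CommAlgCat.of R (MvPolynomial ι R)

lemma preimage_ovMap_left {A C : CommAlgCat.{u} R} (φ : A ⟶ C) :
    Spec.preimage (ovMap φ).left = CommRingCat.ofHom φ.hom.toRingHom := by
  apply Spec.map_injective
  rw [Spec.map_preimage]
  rfl

/-- coordinates of a point -/
noncomputable def ePolFun (A : CommAlgCat.{u} R) (g : ov A ⟶ ov (PolA R ι)) : Fo ι A :=
  fun x => (Spec.preimage g.left).hom (MvPolynomial.X x)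

/-- the point with given coordinates -/
noncomputable def ePolInv (A : CommAlgCat.{u} R) (c : Fo ι A) : ov A ⟶ ov (PolA R ι) :=
  ovMap (CommAlgCat.ofHom (MvPolynomial.aeval (R := R) (fun x => c x)))

lemma ePolFun_ovMap (A : CommAlgCat.{u} R) (φ : PolA R ι ⟶ A) (x : ι) :
    ePolFun ι A (ovMap φ) x = φ.hom (MvPolynomial.X x) := by
  change (Spec.preimage (ovMap φ).left).hom (MvPolynomial.X x) = _
  rw [preimage_ovMap_left]
  rfl

lemma ePol_left_inv (A : CommAlgCat.{u} R) (g : ov A ⟶ ov (PolA R ι)) :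
    ePolInv ι A (ePolFun ι A g) = g := by
  obtain ⟨φ, rfl⟩ := exists_ovMap_eq g
  unfold ePolInv
  congr 1
  apply CommAlgCat.hom_ext
  apply MvPolynomial.algHom_ext
  intro x
  change MvPolynomial.aeval (fun x => ePolFun ι A (ovMap φ) x) (MvPolynomial.X x) = _
  rw [MvPolynomial.aeval_X, ePolFun_ovMap]

lemma ePol_right_inv (A : CommAlgCat.{u} R) (c : Fo ι A) :
    ePolFun ι A (ePolInv ι A c) = c := by
  funext x
  unfold ePolInv
  rw [ePolFun_ovMap]
  change MvPolynomial.aeval (fun x => c x) (MvPolynomial.X x) = _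
  rw [MvPolynomial.aeval_X]

/-- points of the spectrum of a polynomial ring -/
noncomputable def ePol (A : CommAlgCat.{u} R) : (ov A ⟶ ov (PolA R ι)) ≃ Fo ι A where
  toFun := ePolFun ι A
  invFun := ePolInv ι A
  left_inv := ePol_left_inv ι A
  right_inv := ePol_right_inv ι A

lemma ePol_ovMap (A : CommAlgCat.{u} R) (φ : PolA R ι ⟶ A) (x : ι) :
    ePol ι A (ovMap φ) x = φ.hom (MvPolynomial.X x) := ePolFun_ovMap ι A φ x

lemma isRep_Pol : IsRep (R := R) (Fo ι) (Fm ι) (ov (PolA R ι)) (ePol ι) := by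
  intro A C φ g g' h
  obtain ⟨ψ, rfl⟩ := exists_ovMap_eq g
  have h' : g' = ovMap (ψ ≫ φ) := by
    apply Over.OverMorphism.ext
    rw [h, ovMap_left, ovMap_left, ← Spec.map_comp]
    rfl
  subst h'
  funext x
  rw [ePol_ovMap]
  change _ = φ.hom (ePol ι A (ovMap ψ) x)
  rw [ePol_ovMap]
  rfl

end pol

variable {R : Type u} [CommRing R] {n k : ℕ} (hk : k ≤ n) {X : Over (Spec (CommRingCat.of R))}
  (e : ∀ A : CommAlgCat.{u} R,
    (ov A ⟶ X) ≃ (Module.Grassmannian.functor (R := R) (M := Fin n → R) k).obj A)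
  (he : ∀ (A C : CommAlgCat.{u} R) (φ : A ⟶ C) (g : ov A ⟶ X) (g' : ov C ⟶ X),
    g'.left = Spec.map (CommRingCat.ofHom φ.hom.toRingHom) ≫ g.left →
      e C g' = (Module.Grassmannian.functor (R := R) (M := Fin n → R) k).map φ (e A g))

/-- the chart of `K`, over `Spec R` -/
noncomputable abbrev UK (K : Ix n k) : Over (Spec (CommRingCat.of R)) := UO e (dd (τf K))

/-- the inclusion of the chart -/
noncomputable abbrev ιK (K : Ix n k) : UK e K ⟶ X := ιU e (dd (τf K))

include he in
lemma isChart_of_homK (K : Ix n k) (A : CommAlgCat.{u} R) (h : ov A ⟶ UK e K) :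
    IsChart (vK R K) (gp e A (h ≫ ιK e K)).toSubmodule :=
  isChart_of_hom e he (τf K) A h

/-- the Plücker coordinates of a point of the chart `K` -/
noncomputable def plkOf (K : Ix n k) (A : CommAlgCat.{u} R) (h : ov A ⟶ UK e K) (L : Ix n k) :
    A :=
  plk K (gp e A (h ≫ ιK e K)).toSubmodule (isChart_of_homK e he K A h) L

lemma plkOf_eq (K : Ix n k) (A : CommAlgCat.{u} R) (h : ov A ⟶ UK e K) (L : Ix n k)
    (N : Submodule A (A ⊗[R] (Fin n → R))) (hN : IsChart (vK R K) N)
    (hh : (gp e A (h ≫ ιK e K)).toSubmodule = N) : plkOf e he K A h L = plk K N hN L :=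
  plk_congr K L hh _ _

lemma plkOf_self (K : Ix n k) (A : CommAlgCat.{u} R) (h : ov A ⟶ UK e K) :
    plkOf e he K A h K = 1 := plk_self K _ _

lemma plkOf_comp (K : Ix n k) (A C : CommAlgCat.{u} R) (φ : A ⟶ C) (h : ov A ⟶ UK e K)
    (L : Ix n k) : plkOf e he K C (ovMap φ ≫ h) L = φ.hom (plkOf e he K A h L) := by
  have h1 : gp e C ((ovMap φ ≫ h) ≫ ιK e K) =
      Module.Grassmannian.map φ.hom (gp e A (h ≫ ιK e K)) := by
    rw [Category.assoc]
    exact gp_ovMap_comp e he A C φ (h ≫ ιK e K)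
  have h2 : IsChart (vK R K)
      (Module.Grassmannian.map φ.hom (gp e A (h ≫ ιK e K))).toSubmodule :=
    isChart_map _ _ (isChart_of_homK e he K A h) φ.hom
  rw [plkOf_eq e he K C (ovMap φ ≫ h) L _ h2 (congrArg (fun t => t.toSubmodule) h1)]
  exact plk_map K L _ (isChart_of_homK e he K A h) φ.hom h2

include he in
lemma exists_iK (K : Ix n k) : ∃ i : UK e K ≅ ov (PolA R (ιd.{u} n k)),
    ∀ (A : CommAlgCat.{u} R) (g : ov A ⟶ UK e K),
      ePol (ιd.{u} n k) A (g ≫ i.hom) = eU e he (τf K) A g :=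
  exists_iso_of_rep (isSep (R := R) (ιd.{u} n k)) (isRep_U e he (τf K))
    (isRep_Pol (R := R) (ιd.{u} n k))

/-- the chart is the spectrum of a polynomial ring -/
noncomputable def iK (K : Ix n k) : UK e K ≅ ov (PolA R (ιd.{u} n k)) :=
  (exists_iK e he K).choose

lemma iK_spec (K : Ix n k) (A : CommAlgCat.{u} R) (g : ov A ⟶ UK e K) :
    ePol (ιd.{u} n k) A (g ≫ (iK e he K).hom) = eU e he (τf K) A g :=
  (exists_iK e he K).choose_spec A g

/-- the Plücker coordinates of the universal point of the chart -/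
noncomputable def qK (K : Ix n k) (b : Fin (n.choose k - 1 + 1)) : PolA R (ιd.{u} n k) :=
  plkOf e he K _ (iK e he K).inv (ixE hk b)

lemma qK_self (K : Ix n k) : qK hk e he K ((ixE hk).symm K) = 1 := by
  rw [qK, Equiv.apply_symm_apply]
  exact plkOf_self e he K _ _

/-- the Plücker morphism on the chart `K` -/
noncomputable def cK (K : Ix n k) : UK e K ⟶ PSO (n.choose k - 1) R :=
  (iK e he K).hom ≫ ptS (n.choose k - 1) (PolA R (ιd.{u} n k)) ((ixE hk).symm K) (qK hk e he K)

/-- the Plücker morphism on affine points of the chart -/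
lemma comp_cK (K : Ix n k) (A : CommAlgCat.{u} R) (g : ov A ⟶ UK e K) :
    g ≫ cK hk e he K = ptS (n.choose k - 1) A ((ixE hk).symm K)
      (fun b => plkOf e he K A g (ixE hk b)) := by
  obtain ⟨φ, hφ⟩ := exists_ovMap_eq (g ≫ (iK e he K).hom)
  have hg : g = ovMap φ ≫ (iK e he K).inv := by
    rw [hφ, Category.assoc, Iso.hom_inv_id, Category.comp_id]
  rw [cK, ← Category.assoc, ← hφ, ptS_comp _ _ _ φ _ _ (qK_self hk e he K)]
  congr 1
  funext b
  rw [qK, ← plkOf_comp, ← hg]

/-- compatibility of the chart morphisms on affine points -/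
lemma compat_pt (K L : Ix n k) (A : CommAlgCat.{u} R) (g : ov A ⟶ UK e K) (g' : ov A ⟶ UK e L)
    (h : g ≫ ιK e K = g' ≫ ιK e L) : g ≫ cK hk e he K = g' ≫ cK hk e he L := by
  rw [comp_cK, comp_cK]
  have hN : IsChart (vK R K) (gp e A (g ≫ ιK e K)).toSubmodule := isChart_of_homK e he K A g
  have hN' : IsChart (vK R L) (gp e A (g ≫ ιK e K)).toSubmodule := by
    rw [h]; exact isChart_of_homK e he L A g'
  have e1 : ∀ J, plkOf e he K A g J = plk K _ hN J := fun J => rfl
  have e2 : ∀ J, plkOf e he L A g' J = plk L _ hN' J := fun J =>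
    plkOf_eq e he L A g' J _ hN' (by rw [h])
  rw [ptS_eq_of_mul_eq_one _ A ((ixE hk).symm K) ((ixE hk).symm L) _
    (by rw [Equiv.apply_symm_apply]; exact plkOf_self e he K A g)
    (plkOf e he L A g' K) (by
      rw [Equiv.apply_symm_apply, e1, e2]
      exact plk_mul_plk K L _ hN hN')]
  congr 1
  funext b
  rw [e1, e2, e2]
  exact (plk_mul K L _ hN hN' (ixE hk b)).symm

end Groth.Agent.Lib.Seat68.PlkMap
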