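import Mathlib
import Groth.Agent.Lib.Seat68PlkMapA

/-!
# The Plücker morphism of a scheme representing the Grassmannian of `R^n` (seat 68)

`cO : X ⟶ P^m_{Spec R}` over `Spec R`, glued from the chart morphisms; its description on affine
points lying in a chart (`comp_cO`) and the preimages of the standard opens (`preimage_DS`).
-/

set_option autoImplicit false
set_option linter.style.haveILetI false
universe u
open CategoryTheory CategoryTheory.Limits AlgebraicGeometry TensorProduct

namespace Groth.Agent.Lib.Seat68.PlkMap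

open Groth.Agent.Lib.Seat68.GrassHilb Groth.Agent.Lib.Seat68.GrassAlg
  Groth.Agent.Lib.Seat68.GrassRep Groth.Agent.Lib.Seat68.GrassOpen
  Groth.Agent.Lib.Seat68.GrassChart Groth.Agent.Lib.Seat68.AffRep
  Groth.Agent.Lib.Seat68.AffSpaceRep Groth.Agent.Lib.Seat68.GrassCover
  Groth.Agent.Lib.Seat68.PlkAlg Groth.Agent.Lib.Seat68.PlkIdx Groth.Agent.Lib.Seat68.PlkPt

section field

variable {R : Type u} [CommRing R] {n k : ℕ} {L : Type u} [Field L] [Algebra R L]

/-- over a field every Grassmannian point lies in one of the charts `K`. -/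
lemma exists_ix_chart_of_field (N : Module.Grassmannian L (L ⊗[R] (Fin n → R)) k) :
    ∃ K : Ix n k, IsChart (vK R K) N.toSubmodule := by
  obtain ⟨τ, hτ⟩ := exists_chart_of_field N
  obtain ⟨K, π, hK⟩ := exists_ix (fun i => τ (Sum.inl i))
    (fun a b h => Sum.inl_injective (τ.injective h))
  refine ⟨K, ?_⟩
  have h1 : vK R K = vb (bτ (R := R) τ) ∘ π := by
    rw [vK_eq, hK, vb_bτ]
    rfl
  rw [h1]
  exact isChart_comp_perm _ _ hτ π

end field

variable {R : Type u} [CommRing R] {n k : ℕ} (hk : k ≤ n) {X : Over (Spec (CommRingCat.of R))}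
  (e : ∀ A : CommAlgCat.{u} R,
    (ov A ⟶ X) ≃ (Module.Grassmannian.functor (R := R) (M := Fin n → R) k).obj A)
  (he : ∀ (A C : CommAlgCat.{u} R) (φ : A ⟶ C) (g : ov A ⟶ X) (g' : ov C ⟶ X),
    g'.left = Spec.map (CommRingCat.ofHom φ.hom.toRingHom) ≫ g.left →
      e C g' = (Module.Grassmannian.functor (R := R) (M := Fin n → R) k).map φ (e A g))

include he in
/-- the charts `K` cover -/
theorem iSup_UK : ⨆ K : Ix n k, Uτ e (τf K) = ⊤ := by
  rw [eq_top_iff]
  intro x _
  obtain ⟨_, ⟨W, hW, rfl⟩, hxW, -⟩ := X.left.isBasis_affineOpens.exists_subset_of_mem_open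
    (Set.mem_univ x) isOpen_univ
  have hW' : IsAffineOpen W := hW
  obtain ⟨p, hp⟩ : ∃ p, hW'.fromSpec p = x := by
    have : x ∈ Set.range hW'.fromSpec := by rw [IsAffineOpen.range_fromSpec]; exact hxW
    exact this
  let W' : X.left.affineOpens := ⟨W, hW⟩
  let q : PrimeSpectrum (ΓA X W') := p
  obtain ⟨K, hK⟩ := exists_ix_chart_of_field (R := R) (n := n) (k := k)
    (L := q.asIdeal.ResidueField)
    (Module.Grassmannian.map (toκ (ΓA X W') q).hom (gp e (ΓA X W') (pt X W')))
  rw [TopologicalSpace.Opens.mem_iSup]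
  refine ⟨K, ?_⟩
  have := (mem_Uop_iff_op e he (Op (τf K)) (dd (τf K)) (hO (τf K)) (ΓA X W') (pt X W') q).mpr hK
  rw [← hp]
  exact this

/-- the cover by the charts -/
noncomputable def cov : X.left.OpenCover :=
  X.left.openCoverOfIsOpenCover (fun K : Ix n k => Uτ e (τf K)) (iSup_UK e he)

lemma compat (K L : Ix n k) :
    pullback.fst (Uτ e (τf K)).ι (Uτ e (τf L)).ι ≫ (cK hk e he K).left =
      pullback.snd (Uτ e (τf K)).ι (Uτ e (τf L)).ι ≫ (cK hk e he L).left := by
  let W : Over (Spec (CommRingCat.of R)) :=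
    Over.mk (pullback.fst (Uτ e (τf K)).ι (Uτ e (τf L)).ι ≫ (UK e K).hom)
  let f1 : W ⟶ UK e K := Over.homMk (U := W) (V := UK e K) (pullback.fst _ _) rfl
  let f2 : W ⟶ UK e L := Over.homMk (U := W) (V := UK e L) (pullback.snd _ _) (by
    change pullback.snd _ _ ≫ (Uτ e (τf L)).ι ≫ X.hom =
      pullback.fst _ _ ≫ (Uτ e (τf K)).ι ≫ X.hom
    rw [← Category.assoc, ← pullback.condition, Category.assoc])
  have h12 : f1 ≫ ιK e K = f2 ≫ ιK e L := by
    apply Over.OverMorphism.ext
    exact pullback.condition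
  have key : f1 ≫ cK hk e he K = f2 ≫ cK hk e he L := by
    apply hom_ext_pt
    intro V
    rw [← Category.assoc, ← Category.assoc]
    apply compat_pt
    rw [Category.assoc, Category.assoc, h12]
  exact congrArg (fun t => t.left) key

/-- the Plücker morphism -/
noncomputable def cL : X.left ⟶ (PSO (n.choose k - 1) R).left :=
  (cov e he).glueMorphisms (fun K => (cK hk e he K).left) (fun K L => compat hk e he K L)

lemma ι_cL (K : Ix n k) : (Uτ e (τf K)).ι ≫ cL hk e he = (cK hk e he K).left :=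
  (cov e he).ι_glueMorphisms (fun K => (cK hk e he K).left) (fun K L => compat hk e he K L) K

/-- the Plücker morphism, over `Spec R` -/
noncomputable def cO : X ⟶ PSO (n.choose k - 1) R :=
  Over.homMk (U := X) (V := PSO (n.choose k - 1) R) (cL hk e he) (by
    apply (cov e he).hom_ext
    intro (K : Ix n k)
    change (Uτ e (τf K)).ι ≫ cL hk e he ≫ (PSO (n.choose k - 1) R).hom = (Uτ e (τf K)).ι ≫ X.hom
    rw [← Category.assoc, ι_cL]
    exact Over.w (cK hk e he K))

lemma cO_left : (cO hk e he).left = cL hk e he := rfl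

lemma ιK_cO (K : Ix n k) : ιK e K ≫ cO hk e he = cK hk e he K := by
  apply Over.OverMorphism.ext
  exact ι_cL hk e he K

/-- the Plücker morphism on an affine point lying in the chart `K` -/
lemma comp_cO (K : Ix n k) (A : CommAlgCat.{u} R) (g : ov A ⟶ X)
    (hg : IsChart (vK R K) (gp e A g).toSubmodule) :
    g ≫ cO hk e he = ptS (n.choose k - 1) A ((ixE hk).symm K)
      (fun b => plk K (gp e A g).toSubmodule hg (ixE hk b)) := by
  obtain ⟨h, rfl⟩ := (exists_lift_iff e he (Op (τf K)) (dd (τf K)) (hO (τf K)) A g).mpr hg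
  rw [Category.assoc, ιK_cO, comp_cK]
  rfl

/-- the preimage of the standard open `D₊(T_L)` is the chart `L`. -/
theorem preimage_DS (L : Ix n k) :
    (cO hk e he).left ⁻¹ᵁ DS (n.choose k - 1) R ((ixE hk).symm L) = Uτ e (τf L) := by
  ext x
  have hx : x ∈ ⨆ K : Ix n k, Uτ e (τf K) := by rw [iSup_UK e he]; trivial
  rw [TopologicalSpace.Opens.mem_iSup] at hx
  obtain ⟨K, hxK⟩ := hx
  obtain ⟨_, ⟨W, hW, rfl⟩, hxW, hWK⟩ := X.left.isBasis_affineOpens.exists_subset_of_mem_open
    hxK (Uτ e (τf K)).2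
  have hW' : IsAffineOpen W := hW
  obtain ⟨p, hp⟩ : ∃ p, hW'.fromSpec p = x := by
    have : x ∈ Set.range hW'.fromSpec := by rw [IsAffineOpen.range_fromSpec]; exact hxW
    exact this
  let W' : X.left.affineOpens := ⟨W, hW⟩
  let q : PrimeSpectrum (ΓA X W') := p
  have hg : IsChart (vK R K) (gp e (ΓA X W') (pt X W')).toSubmodule :=
    (range_subset_Uop_iff e he (Op (τf K)) (dd (τf K)) (hO (τf K)) (ΓA X W') (pt X W')).mp (by
      change Set.range hW'.fromSpec ⊆ _
      rw [IsAffineOpen.range_fromSpec]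
      exact hWK)
  have h1 := comp_cO hk e he K (ΓA X W') (pt X W') hg
  have hgκ : IsChart (vK R K)
      (Module.Grassmannian.map (toκ (ΓA X W') q).hom (gp e (ΓA X W') (pt X W'))).toSubmodule :=
    isChart_map _ _ hg _
  have hL : x ∈ (cO hk e he).left ⁻¹ᵁ DS (n.choose k - 1) R ((ixE hk).symm L) ↔
      plk K _ hg L ∉ q.asIdeal := by
    rw [← hp]
    change p ∈ (pt X W').left ⁻¹ᵁ ((cO hk e he).left ⁻¹ᵁ DS (n.choose k - 1) R ((ixE hk).symm L)) ↔ _
    rw [← Scheme.Hom.comp_preimage, ← Over.comp_left, h1,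
      ptS_preimage_DS _ _ _ _ (by rw [Equiv.apply_symm_apply]; exact plk_self K _ hg),
      Equiv.apply_symm_apply]
    rfl
  have hR : x ∈ Uτ e (τf L) ↔ plk K _ hg L ∉ q.asIdeal := by
    rw [← hp]
    change (pt X W').left q ∈ Uop e (dd (τf L)) ↔ _
    rw [mem_Uop_iff_op e he (Op (τf L)) (dd (τf L)) (hO (τf L)) (ΓA X W') (pt X W') q]
    have hker : ∀ a : ΓA X W', (toκ (ΓA X W') q).hom a = 0 ↔ a ∈ q.asIdeal := by
      intro a
      rw [← ker_toκ (ΓA X W') q, RingHom.mem_ker]
      rfl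
    constructor
    · intro hc hmem
      have hu := isUnit_plk K L _ hgκ hc
      rw [plk_map K L _ hg (toκ (ΓA X W') q).hom hgκ, (hker _).mpr hmem] at hu
      haveI : Nontrivial (κ (ΓA X W') q) := (isField_κ (ΓA X W') q).nontrivial
      exact not_isUnit_zero hu
    · intro hnm
      apply isChart_of_isUnit_plk K L _ hgκ
      rw [plk_map K L _ hg (toκ (ΓA X W') q).hom hgκ]
      have hne : (toκ (ΓA X W') q).hom (plk K _ hg L) ≠ 0 := fun h0 => hnm ((hker _).mp h0)
      obtain ⟨y, hy⟩ := (isField_κ (ΓA X W') q).mul_inv_cancel hne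
      exact IsUnit.of_mul_eq_one y hy
  exact hL.trans hR.symm

end Groth.Agent.Lib.Seat68.PlkMap
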