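import Mathlib
import Groth.Agent.Lib.Seat68PlkMapB
import Groth.Agent.Lib.Seat54Segre

/-!
# The Plücker morphism is a closed immersion (seat 68)
-/

set_option autoImplicit false
set_option linter.style.haveILetI false
set_option backward.isDefEq.respectTransparency false
universe u
open CategoryTheory CategoryTheory.Limits AlgebraicGeometry TensorProduct MvPolynomial

namespace Groth.Agent.Lib.Seat68.PlkMap

open Groth.Agent.Lib.Seat68.GrassHilb Groth.Agent.Lib.Seat68.GrassAlg
  Groth.Agent.Lib.Seat68.GrassRep Groth.Agent.Lib.Seat68.GrassOpen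
  Groth.Agent.Lib.Seat68.GrassChart Groth.Agent.Lib.Seat68.AffRep
  Groth.Agent.Lib.Seat68.AffSpaceRep Groth.Agent.Lib.Seat68.GrassCover
  Groth.Agent.Lib.Seat68.PlkAlg Groth.Agent.Lib.Seat68.PlkIdx Groth.Agent.Lib.Seat68.PlkPt
  Groth.Agent.Lib.Seat54.ProjPt Groth.Agent.Lib.Seat63.PnConn

section general

variable (m : ℕ) (R : Type u) [CommRing R]

/-- the standard cover of projective space over `Spec R` -/
noncomputable def covS : (PSO m R).left.OpenCover :=
  Scheme.Pullback.openCoverOfLeft (Groth.Agent.Lib.Seat54.Segre.cov m Zu.{u})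
    (CohB1.ProjSpace.toSpec m Zu.{u}) (specULiftZIsTerminal.from (Spec (CommRingCat.of R)))

/-- the chart of projective space over `Spec R` -/
noncomputable abbrev YS (a : Fin (m + 1)) : Scheme.{u} :=
  pullback (chartι m Zu.{u} a ≫ CohB1.ProjSpace.toSpec m Zu.{u})
    (specULiftZIsTerminal.from (Spec (CommRingCat.of R)))

/-- the inclusion of the chart -/
noncomputable abbrev jS (a : Fin (m + 1)) : YS m R a ⟶ (PSO m R).left :=
  pullback.map (chartι m Zu.{u} a ≫ CohB1.ProjSpace.toSpec m Zu.{u})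
    (specULiftZIsTerminal.from (Spec (CommRingCat.of R)))
    (CohB1.ProjSpace.toSpec m Zu.{u}) (specULiftZIsTerminal.from (Spec (CommRingCat.of R)))
    (chartι m Zu.{u} a) (𝟙 _) (𝟙 _) (Category.comp_id _)
    (by rw [Category.comp_id, Category.id_comp])

lemma covS_f (a : Fin (m + 1)) : (covS m R).f a = jS m R a := rfl

instance (a : Fin (m + 1)) : IsOpenImmersion (jS m R a) := (covS m R).map_prop a

lemma jS_fst (a : Fin (m + 1)) :
    jS m R a ≫ prZ m R = pullback.fst _ _ ≫ chartι m Zu.{u} a :=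
  pullback.lift_fst _ _ _

lemma jS_snd (a : Fin (m + 1)) :
    jS m R a ≫ (PSO m R).hom = pullback.snd _ _ := by
  have : jS m R a ≫ (PSO m R).hom = pullback.snd _ _ ≫ 𝟙 _ := pullback.lift_snd _ _ _
  rw [this, Category.comp_id]

lemma opensRange_jS (a : Fin (m + 1)) : (jS m R a).opensRange = DS m R a := by
  have h := Scheme.Pullback.range_map (chartι m Zu.{u} a ≫ CohB1.ProjSpace.toSpec m Zu.{u})
    (specULiftZIsTerminal.from (Spec (CommRingCat.of R)))
    (CohB1.ProjSpace.toSpec m Zu.{u}) (specULiftZIsTerminal.from (Spec (CommRingCat.of R)))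
    (chartι m Zu.{u} a) (𝟙 _) (𝟙 _) (Category.comp_id _)
    (by rw [Category.comp_id, Category.id_comp])
  have hr : ∀ z : Proj (CohB1.polyGrading m Zu.{u}), z ∈ Set.range (chartι m Zu.{u} a) ↔
      z ∈ (Proj.basicOpen (CohB1.polyGrading m Zu.{u}) (X a) : Set _) := fun z => by
    rw [Groth.Agent.Lib.Seat54.Segre.range_chartι]
  apply TopologicalSpace.Opens.ext
  rw [Scheme.Hom.coe_opensRange]
  refine h.trans ?_
  ext y
  constructor
  · rintro ⟨h1, -⟩
    exact (hr _).mp h1
  · intro h1
    exact ⟨(hr _).mpr h1, ⟨_, rfl⟩⟩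

/-- If `c ≫ q = Spec.map θ`, then `θ` is computed through `c` on global sections. -/
lemma ΓSpecIso_inv_apply_of_comp {B C : CommRingCat.{u}} {Q : Scheme.{u}} (c : Spec B ⟶ Q)
    (q : Q ⟶ Spec C) (θ : C ⟶ B) (h : c ≫ q = Spec.map θ) (x : C) :
    (Scheme.ΓSpecIso B).inv (θ.hom x) = c.appTop (q.appTop ((Scheme.ΓSpecIso C).inv x)) := by
  have h1 : θ ≫ (Scheme.ΓSpecIso B).inv = (Scheme.ΓSpecIso C).inv ≫ (Spec.map θ).appTop :=
    Scheme.ΓSpecIso_inv_naturality θ
  have h2 : (Spec.map θ).appTop = q.appTop ≫ c.appTop := by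
    rw [← h, Scheme.Hom.comp_appTop]
  have := congrArg (fun k => k.hom x) h1
  simp only [CommRingCat.hom_comp, RingHom.comp_apply] at this
  rw [this, h2]
  rfl

/-- the lift of an affine point to a chart of projective space over `Spec R` -/
noncomputable def liftS (B : CommAlgCat.{u} R) (a : Fin (m + 1)) (ψ : Ax m Zu.{u} a →+* B) :
    Spec (CommRingCat.of B) ⟶ YS m R a :=
  pullback.lift (f := chartι m Zu.{u} a ≫ CohB1.ProjSpace.toSpec m Zu.{u})
    (g := specULiftZIsTerminal.from (Spec (CommRingCat.of R)))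
    (Spec.map (CommRingCat.ofHom ψ)) (ov B).hom (specULiftZIsTerminal.hom_ext _ _)

set_option backward.isDefEq.respectTransparency false in
lemma isClosedImmersion_liftS (B : CommAlgCat.{u} R) (a : Fin (m + 1)) (ψ : Ax m Zu.{u} a →+* B)
    (hsurj : Subring.closure (Set.range ψ ∪ Set.range (algebraMap R B)) = ⊤) :
    IsClosedImmersion (liftS m R B a ψ) := by
  apply IsClosedImmersion.of_surjective_of_isAffine
  have h_fst := ΓSpecIso_inv_apply_of_comp (liftS m R B a ψ) (pullback.fst _ _)
    (CommRingCat.ofHom ψ) (pullback.lift_fst _ _ _)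
  have h_snd := ΓSpecIso_inv_apply_of_comp (liftS m R B a ψ) (pullback.snd _ _)
    (CommRingCat.ofHom (algebraMap R B)) (pullback.lift_snd _ _ _)
  have key1 : ∀ x, (Scheme.ΓSpecIso (CommRingCat.of B)).inv.hom (ψ x) ∈
      (liftS m R B a ψ).appTop.hom.range := fun x => by
    rw [show ψ x = (CommRingCat.ofHom ψ).hom x from rfl]
    exact ⟨_, (h_fst x).symm⟩
  have key2 : ∀ r, (Scheme.ΓSpecIso (CommRingCat.of B)).inv.hom (algebraMap R B r) ∈
      (liftS m R B a ψ).appTop.hom.range := fun r => by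
    rw [show algebraMap R B r = (CommRingCat.ofHom (algebraMap R B)).hom r from rfl]
    exact ⟨_, (h_snd r).symm⟩
  have hle : Subring.closure (Set.range ψ ∪ Set.range (algebraMap R B)) ≤
      ((liftS m R B a ψ).appTop.hom.range).comap
        (Scheme.ΓSpecIso (CommRingCat.of B)).inv.hom := by
    rw [Subring.closure_le]
    rintro _ (⟨x, rfl⟩ | ⟨r, rfl⟩)
    · exact key1 x
    · exact key2 r
  rw [hsurj] at hle
  intro b
  have hb : (Scheme.ΓSpecIso (CommRingCat.of B)).hom b ∈
      ((liftS m R B a ψ).appTop.hom.range).comap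
        (Scheme.ΓSpecIso (CommRingCat.of B)).inv.hom := hle trivial
  obtain ⟨y, hy⟩ := hb
  refine ⟨y, ?_⟩
  rw [show (liftS m R B a ψ).appTop y = (liftS m R B a ψ).appTop.hom y from rfl, hy]
  exact congrArg (fun k => k.hom b) (Scheme.ΓSpecIso (CommRingCat.of B)).hom_inv_id

lemma liftS_covS_f (B : CommAlgCat.{u} R) (a : Fin (m + 1)) (q : Fin (m + 1) → B) :
    liftS m R B a (evAt m Zu.{u} a (ρZ B) q) ≫ jS m R a = (ptS m B a q).left := by
  apply pullback.hom_ext
  · have h1 : (ptS m B a q).left ≫ pullback.fst _ _ = pt m Zu.{u} a (ρZ B) q :=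
      ptS_left_prZ m B a q
    have h2 : jS m R a ≫ pullback.fst _ _ = pullback.fst _ _ ≫ chartι m Zu.{u} a := jS_fst m R a
    rw [h1, Category.assoc, h2, ← Category.assoc]
    unfold liftS Groth.Agent.Lib.Seat54.ProjPt.pt
    rw [pullback.lift_fst]
  · have h1 : (ptS m B a q).left ≫ pullback.snd _ _ = (ov B).hom := Over.w (ptS m B a q)
    have h2 : jS m R a ≫ pullback.snd _ _ = pullback.snd _ _ := jS_snd m R a
    rw [h1, Category.assoc, h2]
    unfold liftS
    rw [pullback.lift_snd]

end general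

variable {R : Type u} [CommRing R] {n k : ℕ} (hk : k ≤ n) {X : Over (Spec (CommRingCat.of R))}
  (e : ∀ A : CommAlgCat.{u} R,
    (ov A ⟶ X) ≃ (Module.Grassmannian.functor (R := R) (M := Fin n → R) k).obj A)
  (he : ∀ (A C : CommAlgCat.{u} R) (φ : A ⟶ C) (g : ov A ⟶ X) (g' : ov C ⟶ X),
    g'.left = Spec.map (CommRingCat.ofHom φ.hom.toRingHom) ≫ g.left →
      e C g' = (Module.Grassmannian.functor (R := R) (M := Fin n → R) k).map φ (e A g))

lemma ePol_id (ι : Type u) (x : ι) :
    ePol (R := R) ι (PolA R ι) (𝟙 _) x = MvPolynomial.X x := by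
  have h : (𝟙 (ov (PolA R ι)) : ov (PolA R ι) ⟶ ov (PolA R ι)) = ovMap (𝟙 (PolA R ι)) := by
    apply Over.OverMorphism.ext
    rw [ovMap_left]
    change 𝟙 _ = Spec.map (𝟙 _)
    rw [Spec.map_id]
  rw [h, ePol_ovMap]
  rfl

/-- the variables of the chart ring are, up to sign, Plücker coordinates -/
lemma exists_X_eq (L : Ix n k) (x : ιd.{u} n k) :
    ∃ (b : Fin (n.choose k - 1 + 1)) (s : ℤˣ),
      (MvPolynomial.X x : PolA R (ιd.{u} n k)) = ((s : ℤ) : PolA R (ιd.{u} n k)) *
        qK hk e he L b := by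
  obtain ⟨L', s, hs⟩ := exists_plk_eq (R := R) L (rr n k x).1 (τf L (Sum.inr (rr n k x).2))
    (τf_inr_not_mem L _)
  refine ⟨(ixE hk).symm L', s, ?_⟩
  have h1 := iK_spec e he L _ (iK e he L).inv
  rw [Iso.inv_hom_id] at h1
  have h2 := congrFun h1 x
  rw [ePol_id] at h2
  rw [h2, qK, Equiv.apply_symm_apply]
  change Φ e he (τf L) _ (iK e he L).inv x = _
  rw [Φ_apply]
  have h3 := hs (PolA R (ιd.{u} n k)) (gp e _ ((iK e he L).inv ≫ ιK e L)).toSubmodule
    (isChart_of_homK e he L _ (iK e he L).inv)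
  rw [plkOf, ← h3]
  have h4 : bτ (R := R) (τf L) (Sum.inr (rr n k x).2) =
      Pi.single (τf L (Sum.inr (rr n k x).2)) 1 := bτ_apply _ _
  unfold GrassChart.coeff
  rw [h4]
  rfl

/-- the chart morphism into the chart of projective space -/
noncomputable def topK (L : Ix n k) :
    (Uτ e (τf L)).toScheme ⟶ YS (n.choose k - 1) R ((ixE hk).symm L) :=
  (iK e he L).hom.left ≫ liftS (n.choose k - 1) R (PolA R (ιd.{u} n k)) ((ixE hk).symm L)
    (evAt (n.choose k - 1) Zu.{u} ((ixE hk).symm L) (ρZ _) (qK hk e he L))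

instance isClosedImmersion_topK (L : Ix n k) : IsClosedImmersion (topK hk e he L) := by
  have h1 : IsClosedImmersion (liftS (n.choose k - 1) R (PolA R (ιd.{u} n k)) ((ixE hk).symm L)
      (evAt (n.choose k - 1) Zu.{u} ((ixE hk).symm L) (ρZ _) (qK hk e he L))) := by
    apply isClosedImmersion_liftS
    rw [eq_top_iff]
    intro p _
    induction p using MvPolynomial.induction_on with
    | C r =>
      apply Subring.subset_closure
      exact Or.inr ⟨r, rfl⟩
    | add p q hp hq => exact Subring.add_mem _ (hp trivial) (hq trivial)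
    | mul_X p x hp =>
      refine Subring.mul_mem _ (hp trivial) ?_
      obtain ⟨b, s, hs⟩ := exists_X_eq hk e he L x
      rw [hs]
      refine Subring.mul_mem _ (intCast_mem _ _) ?_
      apply Subring.subset_closure
      refine Or.inl ⟨coord _ _ _ b, ?_⟩
      exact evAt_coord _ _ _ _ _ (qK_self hk e he L) b
  haveI : IsIso (iK e he L).hom.left :=
    (inferInstance : IsIso ((Over.forget _).map (iK e he L).hom))
  have h2 : IsClosedImmersion ((iK e he L).hom.left ≫
      liftS (n.choose k - 1) R (PolA R (ιd.{u} n k)) ((ixE hk).symm L)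
        (evAt (n.choose k - 1) Zu.{u} ((ixE hk).symm L) (ρZ _) (qK hk e he L))) :=
    inferInstance
  exact h2

lemma topK_covS_f (L : Ix n k) :
    topK hk e he L ≫ jS (n.choose k - 1) R ((ixE hk).symm L) = (cK hk e he L).left := by
  unfold topK
  rw [Category.assoc, liftS_covS_f]
  rfl

lemma isPullback_topK (L : Ix n k) :
    IsPullback (topK hk e he L) (Uτ e (τf L)).ι
      (jS (n.choose k - 1) R ((ixE hk).symm L)) (cL hk e he) :=
  IsOpenImmersion.isPullback _ _ _ _ (by rw [ι_cL, topK_covS_f]) (by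
    rw [opensRange_jS, ← cO_left, preimage_DS, Scheme.Opens.opensRange_ι])

lemma isClosedImmersion_snd (a : Fin (n.choose k - 1 + 1)) :
    IsClosedImmersion (pullback.snd (cL hk e he) (jS (n.choose k - 1) R a)) := by
  obtain ⟨L, rfl⟩ := (ixE hk).symm.surjective a
  have sq := (isPullback_topK hk e he L).flip
  have hsnd : pullback.snd (cL hk e he) (jS (n.choose k - 1) R ((ixE hk).symm L)) =
      sq.isoPullback.inv ≫ topK hk e he L := by
    rw [Iso.eq_inv_comp]
    exact sq.isoPullback_hom_snd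
  rw [hsnd]
  infer_instance

/-- the Plücker morphism is a closed immersion. -/
theorem isClosedImmersion_cL : IsClosedImmersion (cL hk e he) :=
  IsZariskiLocalAtTarget.of_openCover (P := @IsClosedImmersion) (covS (n.choose k - 1) R)
    (fun a => isClosedImmersion_snd hk e he a)

include hk he in
/-- **Plücker embedding**: a scheme representing the Grassmannian of rank `k` quotients of `R^n`
on affine `R`-schemes admits a closed immersion into `P^{C(n,k)-1}` over `Spec R`. -/
theorem main : ∃ c : X.left ⟶ CohB1.ProjSpaceOver (n.choose k - 1) (Spec (CommRingCat.of R)),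
    IsClosedImmersion c ∧
      c ≫ CohB1.ProjSpaceOver.toBase (n.choose k - 1) (Spec (CommRingCat.of R)) = X.hom :=
  ⟨cL hk e he, isClosedImmersion_cL hk e he, Over.w (cO hk e he)⟩

end Groth.Agent.Lib.Seat68.PlkMap
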