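import Mathlib
import Groth.Agent.Lib.Seat68PlkMapC

/-!
# Plücker embedding for the Grassmannian of a finite free module (seat 68)

Transport of `PlkMap.main` along a linear equivalence `R^n ≃ M`.
-/

set_option autoImplicit false
set_option linter.style.haveILetI false
universe u
open CategoryTheory CategoryTheory.Limits AlgebraicGeometry TensorProduct

namespace Groth.Agent.Lib.Seat68.PlkTransport

open Groth.Agent.Lib.Seat68.GrassHilb Groth.Agent.Lib.Seat68.GrassAlg
  Groth.Agent.Lib.Seat68.GrassRep

variable {R : Type u} [CommRing R] {M : Type u} [AddCommGroup M] [Module R M] {n k : ℕ}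
  (v : (Fin n → R) ≃ₗ[R] M)

lemma surj_v : Function.Surjective (v : (Fin n → R) →ₗ[R] M) := v.surjective

lemma ker_baseChange_eq_bot (A : Type u) [CommRing A] [Algebra R A] :
    LinearMap.ker ((v : (Fin n → R) →ₗ[R] M).baseChange A) = ⊥ := by
  have h : ((v : (Fin n → R) →ₗ[R] M).baseChange A) = (v.baseChange R A _ _).toLinearMap := rfl
  rw [h]
  exact LinearEquiv.ker _

lemma pre_bijective (A : Type u) [CommRing A] [Algebra R A] :
    Function.Bijective (pre (A := A) (k := k) (v : (Fin n → R) →ₗ[R] M) (surj_v v)) := by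
  refine ⟨pre_injective _ _, fun N' => ?_⟩
  have hc : Contains (v : (Fin n → R) →ₗ[R] M) N' := by
    unfold Contains
    rw [ker_baseChange_eq_bot]
    exact bot_le
  exact ⟨img _ (surj_v v) N' hc, pre_img _ _ _ _⟩

variable {X : Over (Spec (CommRingCat.of R))}
  (e : ∀ A : CommAlgCat.{u} R,
    (ov A ⟶ X) ≃ (Module.Grassmannian.functor (R := R) (M := M) k).obj A)
  (he : ∀ (A C : CommAlgCat.{u} R) (φ : A ⟶ C) (g : ov A ⟶ X) (g' : ov C ⟶ X),
    g'.left = Spec.map (CommRingCat.ofHom φ.hom.toRingHom) ≫ g.left →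
      e C g' = (Module.Grassmannian.functor (R := R) (M := M) k).map φ (e A g))

/-- the transported representation -/
noncomputable def e' (A : CommAlgCat.{u} R) :
    (ov A ⟶ X) ≃ (Module.Grassmannian.functor (R := R) (M := Fin n → R) k).obj A :=
  (e A).trans (Equiv.ofBijective _ (pre_bijective (k := k) v A))

include he in
lemma he' (A C : CommAlgCat.{u} R) (φ : A ⟶ C) (g : ov A ⟶ X) (g' : ov C ⟶ X)
    (h : g'.left = Spec.map (CommRingCat.ofHom φ.hom.toRingHom) ≫ g.left) :
    e' v e C g' = (Module.Grassmannian.functor (R := R) (M := Fin n → R) k).map φ (e' v e A g) := by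
  change pre _ (surj_v v) (e C g') = Module.Grassmannian.map φ.hom (pre _ (surj_v v) (e A g))
  rw [he A C φ g g' h]
  exact pre_map _ (surj_v v) (e A g) φ.hom

include v he in
/-- **Plücker embedding** for a finite free module. -/
theorem main (hk : k ≤ n) :
    ∃ c : X.left ⟶ CohB1.ProjSpaceOver (n.choose k - 1) (Spec (CommRingCat.of R)),
      IsClosedImmersion c ∧
        c ≫ CohB1.ProjSpaceOver.toBase (n.choose k - 1) (Spec (CommRingCat.of R)) = X.hom :=
  Groth.Agent.Lib.Seat68.PlkMap.main hk (e' v e) (he' v e he)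

end Groth.Agent.Lib.Seat68.PlkTransport
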