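import Mathlib
import Groth.Agent.Lib.Seat68BiratA

/-!
# Seat68: irreducible open neighbourhoods of points with a domain as local ring
-/

set_option autoImplicit false
universe u

namespace Groth.Agent.Lib.Seat68.RatSec

open AlgebraicGeometry CategoryTheory Limits Topology
open Groth.Agent.Lib.Seat68.Birat

section Top

variable {α : Type*} [TopologicalSpace α]

/-- If the irreducible components are locally finite and all components through `y` contain the point `z₀`
with `z₀ ⤳ y` ... then `y` has an irreducible open neighbourhood inside `closure {z₀}`. -/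
lemma exists_isOpen_subset_closure
    (hcomp : LocallyFinite (fun Z : ↥(irreducibleComponents α) => (Z : Set α)))
    (y z₀ : α) (hz : ∀ Z ∈ irreducibleComponents α, y ∈ Z → Z = closure {z₀}) :
    ∃ V : Set α, IsOpen V ∧ y ∈ V ∧ V ⊆ closure {z₀} := by
  obtain ⟨t, ht, hfin⟩ := hcomp y
  let C : Set α := ⋃ Z ∈ {Z : ↥(irreducibleComponents α) | ((Z : Set α) ∩ t).Nonempty ∧ y ∉ (Z : Set α)},
    (Z : Set α)
  have hCclosed : IsClosed C := by
    apply Set.Finite.isClosed_biUnion
    · exact hfin.subset fun Z hZ => hZ.1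
    · intro Z _
      exact isClosed_of_mem_irreducibleComponents Z.1 Z.2
  have hyC : y ∉ C := by
    simp only [C, Set.mem_iUnion, not_exists]
    intro Z hZ hy
    exact hZ.2 hy
  refine ⟨interior t ∩ Cᶜ, isOpen_interior.inter hCclosed.isOpen_compl,
    ⟨mem_interior_iff_mem_nhds.mpr ht, hyC⟩, ?_⟩
  rintro z ⟨hzt, hzC⟩
  obtain ⟨Z, hZ, hzZ⟩ := exists_mem_irreducibleComponents_subset_of_isIrreducible
    (closure {z}) isIrreducible_singleton.closure
  have hzZ' : z ∈ Z := hzZ (subset_closure rfl)
  by_cases hy : y ∈ Z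
  · rw [← hz Z hZ hy]; exact hzZ'
  · exfalso
    apply hzC
    simp only [C, Set.mem_iUnion]
    exact ⟨⟨Z, hZ⟩, ⟨⟨z, hzZ', interior_subset hzt⟩, hy⟩, hzZ'⟩

end Top

section Sch

/-- In a scheme whose irreducible components are locally finite, a point whose local ring is a domain has an
irreducible open neighbourhood. -/
lemma exists_irreducible_open_nhd (Y : Scheme.{u})
    (hcomp : LocallyFinite (fun Z : ↥(irreducibleComponents ↥Y) => (Z : Set ↥Y)))
    (y : Y) [IsDomain (Y.presheaf.stalk y)] :
    ∃ V : Y.Opens, y ∈ V ∧ IsIrreducible (V : Set Y) := by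
  let p₀ : Spec (Y.presheaf.stalk y) := ⟨⊥, Ideal.isPrime_bot⟩
  let z₀ : Y := Y.fromSpecStalk y p₀
  have hz : ∀ Z ∈ irreducibleComponents ↥Y, y ∈ Z → Z = closure {z₀} := by
    intro Z hZ hyZ
    have hZc : IsClosed Z := isClosed_of_mem_irreducibleComponents Z hZ
    obtain ⟨η, hη⟩ := QuasiSober.sober hZ.1 hZc
    have hηy : η ⤳ y := by
      rw [specializes_iff_mem_closure, hη.def]; exact hyZ
    have hηr : η ∈ Set.range (Y.fromSpecStalk y) := by
      rw [Scheme.range_fromSpecStalk]; exact hηy
    obtain ⟨q, rfl⟩ := hηr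
    have hpq : p₀ ⤳ q :=
      (PrimeSpectrum.le_iff_specializes (R := Y.presheaf.stalk y) p₀ q).mp
        (bot_le (a := q.asIdeal))
    have hzη : z₀ ⤳ Y.fromSpecStalk y q := hpq.map (Y.fromSpecStalk y).continuous
    have hgen : Y.fromSpecStalk y q ∈ genericPoints ↥Y := by
      change closure {Y.fromSpecStalk y q} ∈ irreducibleComponents ↥Y
      rw [hη.def]; exact hZ
    have := (mem_genericPoints_iff _).mp hgen z₀ hzη
    rw [← hη.def, ← this]
  obtain ⟨V, hVo, hyV, hVsub⟩ := exists_isOpen_subset_closure hcomp y z₀ hz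
  refine ⟨⟨V, hVo⟩, hyV, ⟨y, hyV⟩, ?_⟩
  exact (isIrreducible_singleton.closure).isPreirreducible.open_subset hVo hVsub

end Sch

end Groth.Agent.Lib.Seat68.RatSec
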