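import Mathlib
import Groth.Agent.Lib.Seat68BiratB

/-!
# Seat68: sections of separated / unramified morphisms
-/

set_option autoImplicit false
universe u

namespace Groth.Agent.Lib.Seat68.RatSec

open AlgebraicGeometry CategoryTheory Limits Topology
open Groth.Agent.Lib.Seat68.Birat

/-- If `f ≫ g` is an open immersion and `g` is formally unramified and locally of finite type then `f` is an
open immersion. -/
lemma isOpenImmersion_of_comp {X Y Z : Scheme.{u}} (f : X ⟶ Y) (g : Y ⟶ Z)
    [IsOpenImmersion (f ≫ g)] [FormallyUnramified g] [LocallyOfFiniteType g] :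
    IsOpenImmersion f := by
  let gr : X ⟶ pullback (f ≫ g) g := pullback.lift (𝟙 X) f (by simp)
  have h1 : f = gr ≫ pullback.snd _ _ := (pullback.lift_snd _ _ _).symm
  have h2 : IsOpenImmersion gr :=
    MorphismProperty.of_isPullback (P := @IsOpenImmersion)
      (pullback_lift_diagonal_isPullback f g) inferInstance
  rw [h1]
  infer_instance

set_option backward.isDefEq.respectTransparency false in
/-- At a point in the image of a section (over an open immersion `j`) of `f`, the residue field extension
of `f` is trivial. -/
lemma bijective_residueFieldMap_of_section {T X Y : Scheme.{u}} (a : T ⟶ X) (f : X ⟶ Y)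
    (j : T ⟶ Y) [IsOpenImmersion j] (ha : a ≫ f = j) (t : T) :
    Function.Bijective (f.residueFieldMap (a t)).hom := by
  have hy : f (a t) = j t := by rw [← Scheme.Hom.comp_apply, ha]
  let h1 := Spec.map (inv (j.residueFieldMap t))
  let h : Spec (Y.residueField (j t)) ⟶ X := h1 ≫ T.fromSpecResidueField t ≫ a
  refine bijective_residueFieldMap_of_lift' f (a t) (j t) hy h ?_ ?_
  · simp only [h, h1, Category.assoc, ha]
    rw [← Scheme.Hom.SpecMap_residueFieldMap_fromSpecResidueField, ← Category.assoc,
      ← Spec.map_comp, IsIso.hom_inv_id, Spec.map_id, Category.id_comp]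
  · have hc : ∀ c, h c = a (T.fromSpecResidueField t (h1 c)) := fun c => rfl
    rw [hc, Scheme.fromSpecResidueField_apply]

/-- A morphism from the spectrum of a field hitting `x` factors through `Spec κ(x)`. -/
lemma exists_factor_fromSpecResidueField {X : Scheme.{u}} (K : Type u) [Field K]
    (p : Spec (.of K) ⟶ X) (x : X) (hp : p (IsLocalRing.closedPoint K) = x) :
    ∃ α : X.residueField x ⟶ .of K, Spec.map α ≫ X.fromSpecResidueField x = p := by
  subst hp
  exact ⟨_, Scheme.descResidueField_stalkClosedPointTo_fromSpecResidueField K X p⟩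

/-- Two morphisms from the spectrum of a field hitting the same point `x`, equal after composing with `f`,
are equal when the residue field extension of `f` at `x` is trivial. -/
lemma specHom_ext_of_bijective {X Y : Scheme.{u}} (f : X ⟶ Y) (K : Type u) [Field K]
    (p q : Spec (.of K) ⟶ X) (x : X) (hp : p (IsLocalRing.closedPoint K) = x)
    (hq : q (IsLocalRing.closedPoint K) = x) (hpq : p ≫ f = q ≫ f)
    (hb : Function.Bijective (f.residueFieldMap x).hom) : p = q := by
  obtain ⟨α, rfl⟩ := exists_factor_fromSpecResidueField K p x hp
  obtain ⟨β, rfl⟩ := exists_factor_fromSpecResidueField K q x hq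
  simp only [Category.assoc] at hpq
  rw [← Scheme.Hom.SpecMap_residueFieldMap_fromSpecResidueField, ← Category.assoc, ← Category.assoc,
    cancel_mono, ← Spec.map_comp, ← Spec.map_comp, Spec.map_inj] at hpq
  have hαβ : α = β := by
    ext c
    obtain ⟨d, rfl⟩ := hb.2 c
    exact congrArg (fun φ => φ.hom d) hpq
  rw [hαβ]

set_option backward.isDefEq.respectTransparency false in
/-- Two sections (over an open immersion `j : T ⟶ Y`, `T` reduced) of a separated morphism which agree
pointwise on a dense subset are equal. -/
lemma sections_ext {T X Y : Scheme.{u}} [IsReduced T] (a b : T ⟶ X) (f : X ⟶ Y) [IsSeparated f]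
    (j : T ⟶ Y) [IsOpenImmersion j] (ha : a ≫ f = j) (hb : b ≫ f = j)
    (S : Set T) (hS : Dense S) (hab : ∀ t ∈ S, a t = b t) : a = b := by
  refine ext_of_fromSpecResidueField_eq a b f S hS (fun t ht => ?_) (ha.trans hb.symm)
  refine specHom_ext_of_bijective f (T.residueField t) _ _ (a t) ?_ ?_ ?_
    (bijective_residueFieldMap_of_section a f j ha t)
  · exact congrArg a (Scheme.fromSpecResidueField_apply t _)
  · exact (congrArg b (Scheme.fromSpecResidueField_apply t _)).trans (hab t ht).symm
  · rw [Category.assoc, Category.assoc, ha, hb]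

end Groth.Agent.Lib.Seat68.RatSec
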