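import Mathlib
import Groth.Agent.Lib.Seat68RatSecA
import Groth.Agent.Lib.Seat68RatSecB
import Groth.Agent.Lib.Helper3EtGUSchC
import Groth.Agent.Lib.Helper4Unibranch
import Groth.Agent.Lib.Helper10RedInd
import Groth.Agent.S5067

/-!
# Seat68: rational sections of unramified morphisms at geometrically unibranch points — core step
-/

set_option autoImplicit false
universe u

namespace Groth.Agent.Lib.Seat68.RatSec

open AlgebraicGeometry CategoryTheory Limits Topology
open Groth.Agent.Lib.Seat68.Birat

lemma bijective_residueFieldMap_congr_pt {X Y : Scheme.{u}} (f : X ⟶ Y) {x x' : X} (h : x = x')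
    (hb : Function.Bijective (f.residueFieldMap x).hom) :
    Function.Bijective (f.residueFieldMap x').hom := by
  subst h; exact hb

lemma bijective_residueFieldMap_comp {X Y Z : Scheme.{u}} (a : X ⟶ Y) (j : Y ⟶ Z) (x : X)
    (ha : Function.Bijective (a.residueFieldMap x).hom)
    (hj : Function.Bijective (j.residueFieldMap (a x)).hom) :
    Function.Bijective ((a ≫ j).residueFieldMap x).hom := by
  rw [Scheme.residueFieldMap_comp]
  exact ha.comp hj

lemma bijective_residueFieldMap_of_comp {X Y Z : Scheme.{u}} (a : X ⟶ Y) (j : Y ⟶ Z) (x : X)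
    (haj : Function.Bijective ((a ≫ j).residueFieldMap x).hom)
    (hj : Function.Bijective (j.residueFieldMap (a x)).hom) :
    Function.Bijective (a.residueFieldMap x).hom := by
  rw [Scheme.residueFieldMap_comp] at haj
  have h2 : Function.Bijective ((a.residueFieldMap x).hom ∘ (j.residueFieldMap (a x)).hom) := haj
  exact (Function.Bijective.of_comp_iff _ hj).mp h2

/-- Core step: an unramified separated morphism of integral schemes, birational, is an open immersion
near any point over a geometrically unibranch point. -/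
theorem exists_open_isOpenImmersion {Z₀ Y₀ : Scheme.{u}} [IsIntegral Z₀] [IsIntegral Y₀]
    (g₀ : Z₀ ⟶ Y₀) [IsSeparated g₀] [LocallyOfFiniteType g₀] [FormallyUnramified g₀]
    (hgen : g₀ (genericPoint Z₀) = genericPoint Y₀)
    (hbir : Function.Bijective (g₀.residueFieldMap (genericPoint Z₀)).hom)
    (x₀ : Z₀) (hY : CAlg2.IsGeomUnibranch (Y₀.presheaf.stalk (g₀ x₀))) :
    ∃ W₀ : Z₀.Opens, x₀ ∈ W₀ ∧ IsOpenImmersion (W₀.ι ≫ g₀) := by
  have hinj : Function.Injective (g₀.stalkMap x₀).hom :=
    Groth.Agent.Lib.Helper3.EtGUSch.stalkMap_injective_of_specializes g₀ x₀ (genericPoint Z₀)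
      (genericPoint_specializes x₀) hgen
  obtain ⟨W₀, hxW, hW⟩ := Groth.Agent.Lib.Helper3.EtGUSch.exists_etale_nhd_of_integral g₀ x₀ hY hinj
    ⟨⊤, trivial, MorphismProperty.comp_mem _ _ _ inferInstance inferInstance⟩
  refine ⟨W₀, hxW, ?_⟩
  have : Nonempty (W₀ : Scheme.{u}) := ⟨⟨x₀, hxW⟩⟩
  have : IsIntegral (W₀ : Scheme.{u}) := isIntegral_of_isOpenImmersion W₀.ι
  have hgp : W₀.ι (genericPoint W₀.toScheme) = genericPoint Z₀ :=
    genericPoint_eq_of_isOpenImmersion W₀.ι
  refine Groth.Agent.S5067.result (W₀.ι ≫ g₀) ?_ ?_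
  · rw [Scheme.Hom.comp_apply, hgp, hgen]
  · refine bijective_residueFieldMap_comp _ _ _ (ConcreteCategory.bijective_of_isIso _) ?_
    exact bijective_residueFieldMap_congr_pt g₀ hgp.symm hbir

end Groth.Agent.Lib.Seat68.RatSec
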