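import Mathlib
import Groth.Agent.Lib.Seat68RatSecC

/-!
# Seat68: rational sections of unramified morphisms at geometrically unibranch points — assembly
-/

set_option autoImplicit false
universe u

namespace Groth.Agent.Lib.Seat68.RatSec

open AlgebraicGeometry CategoryTheory Limits Topology
open Groth.Agent.Lib.Seat68.Birat

/-- The generic point of an irreducible open subscheme, viewed in the ambient scheme, specializes to every
point of the open. -/
lemma subset_closure_genericPoint {Y : Scheme.{u}} (V₀ : Y.Opens) [IrreducibleSpace V₀.toScheme] :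
    (V₀ : Set Y) ⊆ closure {V₀.ι (genericPoint V₀.toScheme)} := by
  intro z hz
  have h1 : (genericPoint V₀.toScheme) ⤳ (⟨z, hz⟩ : V₀.toScheme) := genericPoint_specializes _
  have h2 := h1.map V₀.ι.continuous
  rw [specializes_iff_mem_closure] at h2
  exact h2

set_option backward.isDefEq.respectTransparency false in
lemma mem_closure_singleton_of_mem_closure_range {X Y : Scheme.{u}} (f : X ⟶ Y) (U : Y.Opens)
    (u : U.toScheme ⟶ X) (hu : u ≫ f = U.ι) (V₀ : Y.Opens) (η : Y) (hηU : η ∈ U)
    (hη : (V₀ : Set Y) ⊆ closure {η}) (x : X) (hx : x ∈ closure (Set.range u)) (hxV : f x ∈ V₀) :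
    x ∈ closure {u ⟨η, hηU⟩} := by
  have hopen : IsOpen (f ⁻¹' (V₀ : Set Y)) := V₀.isOpen.preimage f.continuous
  have h1 : x ∈ closure (f ⁻¹' (V₀ : Set Y) ∩ Set.range u) :=
    hopen.inter_closure ⟨hxV, hx⟩
  refine closure_minimal ?_ isClosed_closure h1
  rintro _ ⟨hV, t', rfl⟩
  have hft : f (u t') = t'.1 := by
    rw [← Scheme.Hom.comp_apply, hu]; rfl
  have h2 : η ⤳ t'.1 := by
    rw [specializes_iff_mem_closure]
    apply hη
    rw [← hft]; exact hV
  have h3 : (⟨η, hηU⟩ : U.toScheme) ⤳ t' :=
    (U.ι.isEmbedding.isInducing.specializes_iff (x := (⟨η, hηU⟩ : U.toScheme)) (y := t')).mp h2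
  have h4 := h3.map u.continuous
  rw [specializes_iff_mem_closure] at h4
  exact h4

end Groth.Agent.Lib.Seat68.RatSec
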