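import Mathlib
import Groth.Agent.Lib.Seat68RatSecD
import Groth.Agent.Lib.Helper10FibCI3

/-!
# Seat68: rational sections of unramified morphisms at geometrically unibranch points — main theorem
-/

set_option autoImplicit false
universe u

namespace Groth.Agent.Lib.Seat68.RatSec

open AlgebraicGeometry CategoryTheory Limits Topology
open Groth.Agent.Lib.Seat68.Birat

lemma isGeomUnibranch_congr_pt {Y : Scheme.{u}} {y y' : Y} (h : y = y')
    (hy : CAlg2.IsGeomUnibranch (Y.presheaf.stalk y)) :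
    CAlg2.IsGeomUnibranch (Y.presheaf.stalk y') := by
  subst h; exact hy

set_option backward.isDefEq.respectTransparency false in
theorem exists_extension {X Y : Scheme.{u}} [IsReduced Y] (f : X ⟶ Y) [IsSeparated f]
    [LocallyOfFiniteType f] [FormallyUnramified f]
    (U : Y.Opens) (u : (U : Scheme.{u}) ⟶ X) (hu : u ≫ f = U.ι)
    (V₀ : Y.Opens) (hV₀ : IsIrreducible (V₀ : Set Y)) (hUV : ((U : Set Y) ∩ V₀).Nonempty)
    (x : X) (hx : x ∈ closure (Set.range u)) (hxV : f x ∈ V₀)
    (hy : CAlg2.IsGeomUnibranch (Y.presheaf.stalk (f x))) :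
    ∃ (V : Y.Opens) (v : (V : Scheme.{u}) ⟶ X), f x ∈ V ∧ v ≫ f = V.ι ∧
      Y.homOfLE (inf_le_left : U ⊓ V ≤ U) ≫ u = Y.homOfLE (inf_le_right : U ⊓ V ≤ V) ≫ v := by
  have hirr : IrreducibleSpace V₀.toScheme := Subtype.irreducibleSpace hV₀
  have hint : IsIntegral V₀.toScheme := isIntegral_of_irreducibleSpace_of_isReduced _
  -- the generic point
  let η₀ : V₀.toScheme := genericPoint V₀.toScheme
  have hη₀U : V₀.ι η₀ ∈ U := by
    have hne : ((V₀.ι ⁻¹ᵁ U : V₀.toScheme.Opens) : Set V₀.toScheme).Nonempty := by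
      obtain ⟨z, hzU, hzV⟩ := hUV
      exact ⟨⟨z, hzV⟩, hzU⟩
    have := ((genericPoint_spec V₀.toScheme).mem_open_set_iff (V₀.ι ⁻¹ᵁ U).isOpen).mpr
      (by simpa using hne)
    exact this
  let η : Y := V₀.ι η₀
  have hηcl : (V₀ : Set Y) ⊆ closure {η} := subset_closure_genericPoint V₀
  let t : U.toScheme := ⟨η, hη₀U⟩
  let ξ : X := u t
  have hfξ : f ξ = η := by
    change f (u t) = η
    rw [← Scheme.Hom.comp_apply, hu]; rfl
  have hxξ : x ∈ closure {ξ} :=
    mem_closure_singleton_of_mem_closure_range f U u hu V₀ η hη₀U hηcl x hx hxV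
  -- the closed subscheme
  let Zc : TopologicalSpace.Closeds X := ⟨closure {ξ}, isClosed_closure⟩
  let I := Scheme.IdealSheafData.vanishingIdeal Zc
  let ι := I.subschemeι
  have hrange : Set.range ι = closure {ξ} := by
    rw [I.range_subschemeι, Scheme.IdealSheafData.coe_support_vanishingIdeal]
    rfl
  have hred : IsReduced I.subscheme :=
    Groth.Agent.Lib.Helper10.RedInd.isReduced_subscheme_vanishingIdeal Zc
  have hirrZ : IrreducibleSpace I.subscheme := by
    have h1 : IsIrreducible (Set.range ι) := by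
      rw [hrange]; exact isIrreducible_singleton.closure
    have h2 : IrreducibleSpace (Set.range ι) := Subtype.irreducibleSpace h1
    exact (ι.isEmbedding.toHomeomorph.irreducibleSpace_iff).mpr h2
  have hintZ : IsIntegral I.subscheme := isIntegral_of_irreducibleSpace_of_isReduced _
  -- generic point of Z
  have hιgp : ι (genericPoint I.subscheme) = ξ := by
    have h1 : IsGenericPoint (ι (genericPoint I.subscheme)) (closure {ξ}) := by
      have := (genericPoint_spec I.subscheme).image ι.continuous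
      rw [Set.image_univ, hrange, closure_closure] at this
      exact this
    exact h1.eq (by rfl : IsGenericPoint ξ (closure {ξ}))
  -- the morphism g
  let g : I.subscheme ⟶ Y := ι ≫ f
  have hgsep : IsSeparated g := inferInstance
  have hglft : LocallyOfFiniteType g := inferInstance
  have hιunr : FormallyUnramified ι := inferInstance
  have hgunr : FormallyUnramified g := MorphismProperty.comp_mem _ _ _ hιunr inferInstance
  let G : I.subscheme.Opens := g ⁻¹ᵁ V₀
  let g₀ : G.toScheme ⟶ V₀.toScheme := g ∣_ V₀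
  have hg₀sep : IsSeparated g₀ := inferInstance
  have hg₀lft : LocallyOfFiniteType g₀ := inferInstance
  have hg₀unr : FormallyUnramified g₀ := IsZariskiLocalAtTarget.restrict hgunr V₀
  have hg₀ι : g₀ ≫ V₀.ι = G.ι ≫ g := morphismRestrict_ι g V₀
  -- the point x in Z
  obtain ⟨xZ, hxZ⟩ : x ∈ Set.range ι := by rw [hrange]; exact hxξ
  have hgxZ : g xZ = f x := by
    change (ι ≫ f) xZ = f x
    rw [Scheme.Hom.comp_apply, hxZ]
  have hxG : xZ ∈ G := by
    change g xZ ∈ V₀
    rw [hgxZ]; exact hxV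
  let x₀ : G.toScheme := ⟨xZ, hxG⟩
  have hne : Nonempty G.toScheme := ⟨x₀⟩
  have hintG : IsIntegral G.toScheme := isIntegral_of_isOpenImmersion G.ι
  have hGgp : G.ι (genericPoint G.toScheme) = genericPoint I.subscheme :=
    genericPoint_eq_of_isOpenImmersion G.ι
  have hgen : g₀ (genericPoint G.toScheme) = genericPoint V₀.toScheme := by
    apply V₀.ι.injective
    rw [← Scheme.Hom.comp_apply, hg₀ι, Scheme.Hom.comp_apply, hGgp]
    change f (ι (genericPoint I.subscheme)) = η
    rw [hιgp, hfξ]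
  have hbir : Function.Bijective (g₀.residueFieldMap (genericPoint G.toScheme)).hom := by
    refine bijective_residueFieldMap_of_comp g₀ V₀.ι _ ?_ (ConcreteCategory.bijective_of_isIso _)
    rw [hg₀ι]
    refine bijective_residueFieldMap_comp _ _ _ (ConcreteCategory.bijective_of_isIso _) ?_
    refine bijective_residueFieldMap_comp _ _ _ ?_ ?_
    · have := Groth.Agent.Lib.Helper10.FibCI.isIso_residueFieldMap_of_surjectiveOnStalks ι
        (G.ι (genericPoint G.toScheme))
      exact ConcreteCategory.bijective_of_isIso _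
    · have h1 := bijective_residueFieldMap_of_section u f U.ι hu t
      refine bijective_residueFieldMap_congr_pt f ?_ h1
      change ξ = ι (G.ι (genericPoint G.toScheme))
      rw [hGgp, hιgp]
  have hg₀x₀ : V₀.ι (g₀ x₀) = f x := by
    rw [← Scheme.Hom.comp_apply, hg₀ι, Scheme.Hom.comp_apply]
    exact hgxZ
  have hY₀ : CAlg2.IsGeomUnibranch (V₀.toScheme.presheaf.stalk (g₀ x₀)) := by
    have h1 := isGeomUnibranch_congr_pt hg₀x₀.symm hy
    exact Groth.Agent.Lib.Helper4.Unibranch.isGeomUnibranch_of_ringEquiv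
      (asIso (V₀.ι.stalkMap (g₀ x₀))).commRingCatIsoToRingEquiv h1
  obtain ⟨W₀, hxW, hW⟩ := exists_open_isOpenImmersion g₀ hgen hbir x₀ hY₀
  -- the extension
  let h' : W₀.toScheme ⟶ Y := (W₀.ι ≫ g₀) ≫ V₀.ι
  have hh' : IsOpenImmersion h' := inferInstance
  have hh'V₀ : ∀ w, h' w ∈ V₀ := fun w => (g₀ (W₀.ι w)).2
  let V : Y.Opens := h'.opensRange
  let e := h'.isoOpensRange
  have he : e.inv ≫ h' = V.ι := Scheme.Hom.isoOpensRange_inv_comp h'
  let v : V.toScheme ⟶ X := e.inv ≫ W₀.ι ≫ G.ι ≫ ι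
  have hvf : v ≫ f = V.ι := by
    have h1 : G.ι ≫ ι ≫ f = g₀ ≫ V₀.ι := hg₀ι.symm
    simp only [v, Category.assoc]
    rw [h1, ← he]
    simp only [h', Category.assoc]
  have hfxV : f x ∈ V := ⟨⟨x₀, hxW⟩, hg₀x₀⟩
  refine ⟨V, v, hfxV, hvf, ?_⟩
  -- agreement on `U ⊓ V`
  have hneW : Nonempty W₀.toScheme := ⟨⟨x₀, hxW⟩⟩
  have hintW : IsIntegral W₀.toScheme := isIntegral_of_isOpenImmersion W₀.ι
  have hWgp : W₀.ι (genericPoint W₀.toScheme) = genericPoint G.toScheme :=
    genericPoint_eq_of_isOpenImmersion W₀.ι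
  have hh'gp : h' (genericPoint W₀.toScheme) = η := by
    change V₀.ι (g₀ (W₀.ι (genericPoint W₀.toScheme))) = η
    rw [hWgp, hgen]
  have hηV : η ∈ V := ⟨genericPoint W₀.toScheme, hh'gp⟩
  let tη : (U ⊓ V).toScheme := ⟨η, ⟨hη₀U, hηV⟩⟩
  have hVV₀ : (V : Set Y) ⊆ V₀ := by
    rintro _ ⟨w, rfl⟩
    exact hh'V₀ w
  have hdense : Dense ({tη} : Set (U ⊓ V).toScheme) := by
    intro t'
    rw [← specializes_iff_mem_closure]
    refine ((U ⊓ V).ι.isEmbedding.isInducing.specializes_iff (x := tη) (y := t')).mp ?_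
    rw [specializes_iff_mem_closure]
    exact hηcl (hVV₀ t'.2.2)
  refine sections_ext _ _ f (U ⊓ V).ι ?_ ?_ {tη} hdense ?_
  · rw [Category.assoc, hu, Scheme.homOfLE_ι]
  · rw [Category.assoc, hvf, Scheme.homOfLE_ι]
  · rintro _ rfl
    have h1 : Y.homOfLE (inf_le_left : U ⊓ V ≤ U) tη = t := Scheme.homOfLE_apply' _ _ _
    have h2 : e.inv (Y.homOfLE (inf_le_right : U ⊓ V ≤ V) tη) = genericPoint W₀.toScheme := by
      apply h'.injective
      rw [hh'gp, ← Scheme.Hom.comp_apply, he]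
      rw [Scheme.homOfLE_apply']
      rfl
    rw [Scheme.Hom.comp_apply, Scheme.Hom.comp_apply, h1]
    change ξ = ι (G.ι (W₀.ι (e.inv (Y.homOfLE (inf_le_right : U ⊓ V ≤ V) tη))))
    rw [h2, hWgp, hGgp, hιgp]

/-- A reduced geometrically unibranch local ring is a domain. -/
lemma isDomain_of_isGeomUnibranch_of_isReduced (A : Type u) [CommRing A] [IsLocalRing A]
    [_root_.IsReduced A] (h : CAlg2.IsGeomUnibranch A) : IsDomain A := by
  have hd : IsDomain (CAlg2.red A) := h.1.1
  have hnil : nilradical A = ⊥ := nilradical_eq_zero A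
  have e : A ≃+* CAlg2.red A :=
    (RingEquiv.quotientBot A).symm.trans (Ideal.quotEquivOfEq hnil.symm)
  exact e.toMulEquiv.isDomain _

/-- EGA IV 18.10-type extension of rational sections (statement of S5994). -/
theorem exists_extension_of_isGeomUnibranch {X Y : Scheme.{u}} [IsReduced Y]
    (hcomp : LocallyFinite (fun Z : ↥(irreducibleComponents ↥Y) => (Z : Set ↥Y)))
    (f : X ⟶ Y) [IsSeparated f] [LocallyOfFiniteType f] [FormallyUnramified f]
    (U : Y.Opens) (hU : Dense (U : Set ↥Y)) (u : (U : Scheme.{u}) ⟶ X) (hu : u ≫ f = U.ι)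
    (y : Y) (hy : CAlg2.IsGeomUnibranch (Y.presheaf.stalk y))
    (hZ : (closure (Set.range u) ∩ f ⁻¹' {y}).Nonempty) :
    ∃ (V : Y.Opens) (v : (V : Scheme.{u}) ⟶ X), y ∈ V ∧ v ≫ f = V.ι ∧
      Y.homOfLE (inf_le_left : U ⊓ V ≤ U) ≫ u = Y.homOfLE (inf_le_right : U ⊓ V ≤ V) ≫ v := by
  obtain ⟨x, hx, hxy⟩ := hZ
  have hxy' : f x = y := hxy
  subst hxy'
  have hdom : IsDomain (Y.presheaf.stalk (f x)) :=
    isDomain_of_isGeomUnibranch_of_isReduced _ hy
  obtain ⟨V₀, hyV₀, hV₀⟩ := exists_irreducible_open_nhd Y hcomp (f x)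
  have hUV : ((U : Set Y) ∩ V₀).Nonempty := by
    obtain ⟨z, hz1, hz2⟩ := hU.inter_open_nonempty V₀ V₀.isOpen ⟨f x, hyV₀⟩
    exact ⟨z, hz2, hz1⟩
  exact exists_extension f U u hu V₀ hV₀ hUV x hx hyV₀ hy

end Groth.Agent.Lib.Seat68.RatSec
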