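import Mathlib
import Groth.Agent.Lib.Seat68RatSecE

/-!
# Seat68: consequences of the extension theorem for rational sections (S5995, S5996)
-/

set_option autoImplicit false
universe u

namespace Groth.Agent.Lib.Seat68.RatSec

open AlgebraicGeometry CategoryTheory Limits Topology
open Groth.Agent.Lib.Seat68.Birat

/-- A section over an open `U` of a separated morphism has closed image in `f⁻¹(U)`:
points of the closure of the image lying over `U` are in the image. -/
lemma mem_range_of_mem_closure_range {X Y : Scheme.{u}} (f : X ⟶ Y) [IsSeparated f]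
    (U : Y.Opens) (u : (U : Scheme.{u}) ⟶ X) (hu : u ≫ f = U.ι)
    (x : X) (hx : x ∈ closure (Set.range u)) (hxU : f x ∈ U) : x ∈ Set.range u := by
  let XU : X.Opens := f ⁻¹ᵁ U
  have hsub : Set.range u ⊆ Set.range XU.ι := by
    rintro _ ⟨t, rfl⟩
    rw [Scheme.Opens.range_ι]
    change f (u t) ∈ U
    rw [← Scheme.Hom.comp_apply, hu]
    exact t.2
  let u' : (U : Scheme.{u}) ⟶ XU := IsOpenImmersion.lift XU.ι u hsub
  have hu' : u' ≫ XU.ι = u := IsOpenImmersion.lift_fac _ _ _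
  have hsec : u' ≫ (f ∣_ U) = 𝟙 _ := by
    rw [← cancel_mono U.ι, Category.assoc, morphismRestrict_ι, ← Category.assoc, hu', hu,
      Category.id_comp]
  have hci : IsClosedImmersion (u' ≫ (f ∣_ U)) := by rw [hsec]; infer_instance
  have hci' : IsClosedImmersion u' := IsClosedImmersion.of_comp u' (f ∣_ U)
  have hclosed : IsClosed (Set.range u') := u'.isClosedEmbedding.isClosed_range
  have hrange : Set.range u' = XU.ι ⁻¹' (Set.range u) := by
    ext z
    constructor
    · rintro ⟨t, rfl⟩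
      exact ⟨t, by rw [← hu']; rfl⟩
    · rintro ⟨t, ht⟩
      refine ⟨t, XU.ι.injective ?_⟩
      rw [← ht, ← hu']; rfl
  let x' : XU.toScheme := ⟨x, hxU⟩
  have hx' : x' ∈ closure (Set.range u') := by
    rw [hrange, ← XU.ι.isOpenEmbedding.isOpenMap.preimage_closure_eq_closure_preimage
      XU.ι.continuous]
    exact hx
  rw [hclosed.closure_eq] at hx'
  obtain ⟨t, ht⟩ := hx'
  refine ⟨t, ?_⟩
  rw [← hu', Scheme.Hom.comp_apply, ht]
  rfl

/-- Statement of S5995. -/
theorem isOpen_and_isClosed_range_of_maximal {X Y : Scheme.{u}} [IsReduced Y]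
    (hcomp : LocallyFinite (fun Z : ↥(irreducibleComponents ↥Y) => (Z : Set ↥Y)))
    (f : X ⟶ Y) [IsSeparated f] [LocallyOfFiniteType f] [FormallyUnramified f]
    (U : Y.Opens) (hU : Dense (U : Set ↥Y)) (u : (U : Scheme.{u}) ⟶ X) (hu : u ≫ f = U.ι)
    (hY : ∀ y : Y, CAlg2.IsGeomUnibranch (Y.presheaf.stalk y))
    (hmax : ∀ (V : Y.Opens) (v : (V : Scheme.{u}) ⟶ X), v ≫ f = V.ι →
      Y.homOfLE (inf_le_left : U ⊓ V ≤ U) ≫ u = Y.homOfLE (inf_le_right : U ⊓ V ≤ V) ≫ v → V ≤ U) :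
    IsOpen (Set.range u) ∧ IsClosed (Set.range u) := by
  constructor
  · have h1 : IsOpenImmersion (u ≫ f) := by rw [hu]; infer_instance
    have h2 : IsOpenImmersion u := isOpenImmersion_of_comp u f
    exact u.isOpenEmbedding.isOpen_range
  · rw [← closure_subset_iff_isClosed]
    intro x hx
    obtain ⟨V, v, hyV, hvf, hagree⟩ := exists_extension_of_isGeomUnibranch hcomp f U hU u hu (f x)
      (hY (f x)) ⟨x, hx, rfl⟩
    exact mem_range_of_mem_closure_range f U u hu x hx (hmax V v hvf hagree hyV)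

set_option backward.isDefEq.respectTransparency false in
/-- Statement of S5996. -/
theorem exists_extension_of_isClosed_image {X Y : Scheme.{u}} [IsReduced Y]
    (hcomp : LocallyFinite (fun Z : ↥(irreducibleComponents ↥Y) => (Z : Set ↥Y)))
    (f : X ⟶ Y) [IsSeparated f] [LocallyOfFiniteType f] [FormallyUnramified f]
    (U : Y.Opens) (hU : Dense (U : Set ↥Y)) (u : (U : Scheme.{u}) ⟶ X) (hu : u ≫ f = U.ι)
    (hcl : ∀ T : Set ↥X, IsClosed T → IsIrreducible T → IsClosed (f '' T))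
    (y : Y) (hy : CAlg2.IsGeomUnibranch (Y.presheaf.stalk y)) :
    ∃ (V : Y.Opens) (v : (V : Scheme.{u}) ⟶ X), y ∈ V ∧ v ≫ f = V.ι ∧
      Y.homOfLE (inf_le_left : U ⊓ V ≤ U) ≫ u = Y.homOfLE (inf_le_right : U ⊓ V ≤ V) ≫ v := by
  refine exists_extension_of_isGeomUnibranch hcomp f U hU u hu y hy ?_
  have hdom : IsDomain (Y.presheaf.stalk y) := isDomain_of_isGeomUnibranch_of_isReduced _ hy
  obtain ⟨V₀, hyV₀, hV₀⟩ := exists_irreducible_open_nhd Y hcomp y
  have hirr : IrreducibleSpace V₀.toScheme := Subtype.irreducibleSpace hV₀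
  let η₀ : V₀.toScheme := genericPoint V₀.toScheme
  have hη₀U : V₀.ι η₀ ∈ U := by
    have hne : ((V₀.ι ⁻¹ᵁ U : V₀.toScheme.Opens) : Set V₀.toScheme).Nonempty := by
      obtain ⟨z, hzV, hzU⟩ := hU.inter_open_nonempty V₀ V₀.isOpen ⟨y, hyV₀⟩
      exact ⟨⟨z, hzV⟩, hzU⟩
    have := ((genericPoint_spec V₀.toScheme).mem_open_set_iff (V₀.ι ⁻¹ᵁ U).isOpen).mpr
      (by simpa using hne)
    exact this
  let η : Y := V₀.ι η₀
  have hηcl : (V₀ : Set Y) ⊆ closure {η} := subset_closure_genericPoint V₀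
  let t : U.toScheme := ⟨η, hη₀U⟩
  let ξ : X := u t
  have hfξ : f ξ = η := by
    change f (u t) = η
    rw [← Scheme.Hom.comp_apply, hu]; rfl
  have hT : IsClosed (f '' closure {ξ}) := hcl _ isClosed_closure isIrreducible_singleton.closure
  have hηT : η ∈ f '' closure {ξ} := ⟨ξ, subset_closure rfl, hfξ⟩
  have hyT : y ∈ f '' closure {ξ} :=
    (closure_minimal (Set.singleton_subset_iff.mpr hηT) hT) (hηcl hyV₀)
  obtain ⟨x, hxT, hxy⟩ := hyT
  refine ⟨x, ?_, hxy⟩
  have hsub : ({ξ} : Set X) ⊆ Set.range u := Set.singleton_subset_iff.mpr ⟨t, rfl⟩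
  exact closure_mono hsub hxT

end Groth.Agent.Lib.Seat68.RatSec
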