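import Mathlib
import Groth.Agent.Lib.Seat68InjOpenC

/-!
# Seat68: a finite surjective degree-one morphism onto a normal integral scheme is an isomorphism
-/

set_option autoImplicit false
universe u

namespace Groth.Agent.Lib.Seat68.SplitDiv

open AlgebraicGeometry CategoryTheory Limits Topology
open Groth.Agent.Lib.Seat68.InjOpenA Groth.Agent.Lib.Seat68.InjOpenB Groth.Agent.Lib.Seat68.InjOpenC

variable {X Y : Scheme.{u}}

/-- For a dominant morphism of integral schemes, bijectivity of the residue field map at the generic point
gives bijectivity of the stalk map there. -/
theorem stalkMap_bijective_of_residueFieldMap_bijective [IsIntegral X] [IsIntegral Y]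
    (f : X ⟶ Y) [IsDominant f]
    (hres : Function.Bijective (f.residueFieldMap (genericPoint X)).hom) :
    Function.Bijective (f.stalkMap (genericPoint X)).hom := by
  set η := genericPoint X with hη
  have hfη : f η = genericPoint Y := map_genericPoint f
  have hX : Function.Bijective (X.residue η).hom :=
    residue_bijective_of_isField _ (Field.toIsField X.functionField)
  have hYf : IsField (Y.presheaf.stalk (f η)) := by
    have hb := bijective_algebraMap_stalk_functionField Y (f η) hfη
    exact MulEquiv.isField (Field.toIsField Y.functionField)
      (RingEquiv.ofBijective _ hb).toMulEquiv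
  have hYr : Function.Bijective (Y.residue (f η)).hom := residue_bijective_of_isField _ hYf
  have hsq : ∀ a, (X.residue η).hom ((f.stalkMap η).hom a) =
      (f.residueFieldMap η).hom ((Y.residue (f η)).hom a) := by
    intro a
    have := Scheme.residue_residueFieldMap f η
    exact (congrArg (fun k => k.hom a) this).symm
  constructor
  · intro a b hab
    apply hYr.1
    apply hres.1
    rw [← hsq, ← hsq, hab]
  · intro c
    obtain ⟨r, hr⟩ := hres.2 ((X.residue η).hom c)
    obtain ⟨a, rfl⟩ := hYr.2 r
    refine ⟨a, hX.1 ?_⟩
    rw [hsq, hr]

/-- Residue degree one means the residue field map is bijective. -/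
theorem residueFieldMap_bijective_of_residueDegree_eq_one (f : X ⟶ Y) (x : X)
    (h : f.residueDegree x = 1) : Function.Bijective (f.residueFieldMap x).hom := by
  letI := (f.residueFieldMap x).hom.toAlgebra
  have h1 : Module.finrank (Y.residueField (f x)) (X.residueField x) = 1 := h
  have h2 : (⊥ : Subalgebra (Y.residueField (f x)) (X.residueField x)) = ⊤ :=
    Subalgebra.bot_eq_top_of_finrank_eq_one h1
  refine ⟨(f.residueFieldMap x).hom.injective, ?_⟩
  have h3 : Function.Surjective (algebraMap (Y.residueField (f x)) (X.residueField x)) :=
    Algebra.surjective_algebraMap_iff.mpr h2.symm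
  exact h3

/-- A finite dominant morphism of integral schemes with normal target and residue degree one at the
generic point is an isomorphism. -/
theorem isIso_of_isFinite_of_residueDegree_eq_one [IsIntegral X] [IsIntegral Y]
    (hY : Pi1.IsNormalScheme Y) (f : X ⟶ Y) [IsFinite f] [IsDominant f]
    (hdeg : f.residueDegree (genericPoint X) = 1) : IsIso f := by
  have h1 := residueFieldMap_bijective_of_residueDegree_eq_one f _ hdeg
  have h2 := stalkMap_bijective_of_residueFieldMap_bijective f h1
  have h3 : IsIso f.fromNormalization := isIso_fromNormalization hY f h2
  have h4 : IsIso f.toNormalization := inferInstance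
  rw [← f.toNormalization_fromNormalization]
  infer_instance

end Groth.Agent.Lib.Seat68.SplitDiv
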