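import Mathlib
import Groth.Prelude.Def_W4c2submetdescSubtr
import Groth.Agent.Lib.Helper22LimBC2
import Groth.Agent.Lib.Helper5Closure

/-!
# S-subtrusive morphisms and cofiltered limits (seat 68)

If `S = lim S_j` is a cofiltered limit with affine transition maps, `f₀ : X₀ ⟶ Y₀` lives over a
stage and the base changes `f_j` are S-subtrusive for a cofinal set of stages, then the base change
`f` to the limit is S-subtrusive, provided `f` is quasi-compact.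
-/

set_option autoImplicit false
universe u

namespace Groth.Agent.Lib.Seat68.SubtrLim

open CategoryTheory CategoryTheory.Limits AlgebraicGeometry Groth.Agent.Lib.Helper22.LimBC

/-- points of a pullback square of schemes. -/
theorem exists_preimage_of_isPullback {P X Y Z : Scheme.{u}} {a : P ⟶ X} {b : P ⟶ Y} {f : X ⟶ Z}
    {g : Y ⟶ Z} (sq : IsPullback a b f g) (x : X) (y : Y) (h : f x = g y) :
    ∃ p : P, a p = x ∧ b p = y := by
  obtain ⟨z, hz1, hz2⟩ := Scheme.Pullback.exists_preimage_pullback x y h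
  refine ⟨sq.isoPullback.inv z, ?_, ?_⟩
  · rw [← Scheme.Hom.comp_apply, sq.isoPullback_inv_fst, hz1]
  · rw [← Scheme.Hom.comp_apply, sq.isoPullback_inv_snd, hz2]

/-- S-subtrusiveness is invariant under precomposition with an isomorphism. -/
lemma isSSubtrusive_iso_comp {X X' Y : Scheme.{u}} (e : X' ≅ X) (f : X ⟶ Y)
    (hf : Subtr.IsSSubtrusive f) : Subtr.IsSSubtrusive (e.hom ≫ f) := by
  intro y y' hyy
  obtain ⟨x, x', hxx, hx, hx'⟩ := hf hyy
  refine ⟨e.inv x, e.inv x', hxx.map e.inv.continuous, ?_, ?_⟩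
  · rw [← Scheme.Hom.comp_apply, Iso.inv_hom_id_assoc, hx]
  · rw [← Scheme.Hom.comp_apply, Iso.inv_hom_id_assoc, hx']

/-- S-subtrusiveness is invariant under postcomposition with an isomorphism. -/
lemma isSSubtrusive_comp_iso {X Y Y' : Scheme.{u}} (f : X ⟶ Y) (e : Y ≅ Y')
    (hf : Subtr.IsSSubtrusive f) : Subtr.IsSSubtrusive (f ≫ e.hom) := by
  intro y y' hyy
  obtain ⟨x, x', hxx, hx, hx'⟩ := hf (hyy.map e.inv.continuous)
  refine ⟨x, x', hxx, ?_, ?_⟩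
  · rw [Scheme.Hom.comp_apply, hx, ← Scheme.Hom.comp_apply, Iso.inv_hom_id]; rfl
  · rw [Scheme.Hom.comp_apply, hx', ← Scheme.Hom.comp_apply, Iso.inv_hom_id]; rfl

section main

variable {I : Type u} [SmallCategory I] [IsCofiltered I]
    (D : I ⥤ Scheme.{u}) (c : Cone D) (hc : IsLimit c)
    [∀ {i j : I} (a : i ⟶ j), IsAffineHom (D.map a)] (i₀ : I)
    {X₀ Y₀ : Scheme.{u}} (f₀ : X₀ ⟶ Y₀) (g₀ : Y₀ ⟶ D.obj i₀)

include hc in
theorem isSSubtrusive_of_isLimit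
    {X Y : Scheme.{u}} (f : X ⟶ Y) [QuasiCompact f] (g : Y ⟶ c.pt) (qY : Y ⟶ Y₀) (qX : X ⟶ X₀)
    (hY : IsPullback qY g g₀ (c.π.app i₀)) (hX : IsPullback qX f f₀ qY)
    (good : Over i₀ → Prop) (hgood : ∀ j, ∃ k, good k ∧ Nonempty (k ⟶ j))
    (h : ∀ j, good j → Subtr.IsSSubtrusive (bcMor D i₀ f₀ g₀ j)) :
    Subtr.IsSSubtrusive f := by
  intro y y' hyy
  have hcX : IsLimit (bcCone i₀ (hX.paste_vert hY)) := isLimitBcCone i₀ (hX.paste_vert hY) hc
  have sq : ∀ j, IsPullback (bcπ i₀ (hX.paste_vert hY) j) f (bcMor D i₀ f₀ g₀ j) (bcπ i₀ hY j) :=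
    isPullback_bcπ_bcMor hY hX
  -- the closed sets
  let A : ∀ j : Over i₀, Set ((bcDiagram D i₀ (f₀ ≫ g₀)).obj j) := fun j =>
    closure ((bcMor D i₀ f₀ g₀ j) ⁻¹' {bcπ i₀ hY j y'})
  let t : Over i₀ → Set X := fun j => (bcπ i₀ (hX.paste_vert hY) j) ⁻¹' (A j)
  have htc : ∀ j, IsClosed (t j) := fun j =>
    isClosed_closure.preimage (bcπ i₀ (hX.paste_vert hY) j).continuous
  have hmono : ∀ {k j : Over i₀} (a : k ⟶ j), t k ⊆ t j := by
    intro k j a x hx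
    have e1 : bcπ i₀ (hX.paste_vert hY) j x =
        (bcDiagram D i₀ (f₀ ≫ g₀)).map a (bcπ i₀ (hX.paste_vert hY) k x) := by
      rw [← Scheme.Hom.comp_apply, bcπ_map]
    show bcπ i₀ (hX.paste_vert hY) j x ∈ A j
    rw [e1]
    have hsub : (bcDiagram D i₀ (f₀ ≫ g₀)).map a '' (A k) ⊆ A j := by
      refine (image_closure_subset_closure_image
        ((bcDiagram D i₀ (f₀ ≫ g₀)).map a).continuous).trans (closure_mono ?_)
      rintro _ ⟨z, hz, rfl⟩
      have hz' : bcMor D i₀ f₀ g₀ k z = bcπ i₀ hY k y' := hz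
      show bcMor D i₀ f₀ g₀ j ((bcDiagram D i₀ (f₀ ≫ g₀)).map a z) = bcπ i₀ hY j y'
      rw [← Scheme.Hom.comp_apply, map_bcMor, Scheme.Hom.comp_apply, hz',
        ← Scheme.Hom.comp_apply, bcπ_map]
    exact hsub ⟨_, hx, rfl⟩
  have hne : ∀ k, good k → ((f ⁻¹' {y}) ∩ t k).Nonempty := by
    intro k hk
    obtain ⟨xk, xk', hsp, h1, h2⟩ := h k hk (hyy.map (bcπ i₀ hY k).continuous)
    obtain ⟨x, hx1, hx2⟩ := exists_preimage_of_isPullback (sq k) xk y h1
    refine ⟨x, hx2, ?_⟩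
    show bcπ i₀ (hX.paste_vert hY) k x ∈ A k
    rw [hx1]
    have h2' : xk' ∈ (bcMor D i₀ f₀ g₀ k) ⁻¹' {bcπ i₀ hY k y'} := h2
    exact closure_mono (Set.singleton_subset_iff.mpr h2') hsp.mem_closure
  have hcomp : IsCompact (f ⁻¹' {y}) := f.isCompact_preimage_singleton y
  obtain ⟨x, hxy, hxt⟩ := hcomp.inter_iInter_nonempty t htc (by
    intro u
    obtain ⟨k0, hk0⟩ := IsCofiltered.inf_objs_exists u
    obtain ⟨k, hk, ⟨b⟩⟩ := hgood k0
    obtain ⟨x, hx1, hx2⟩ := hne k hk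
    refine ⟨x, hx1, ?_⟩
    simp only [Set.mem_iInter]
    intro j hj
    exact hmono (b ≫ (hk0 hj).some) hx2)
  have hx_cl : x ∈ closure (f ⁻¹' {y'}) := by
    rw [mem_closure_iff]
    intro U hU hxU
    obtain ⟨_, ⟨j, V, hV, rfl⟩, hxV, hVU⟩ := TopologicalSpace.Opens.isBasis_iff_nbhd.mp
      (isBasis_preimage_isAffineOpen _ _ hcX) (U := ⟨U, hU⟩) hxU
    have h1 : bcπ i₀ (hX.paste_vert hY) j x ∈ A j := Set.mem_iInter.mp hxt j
    obtain ⟨tj, htjV, htj⟩ := mem_closure_iff.mp h1 V V.isOpen hxV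
    obtain ⟨t', ht1, ht2⟩ := exists_preimage_of_isPullback (sq j) tj y' htj
    refine ⟨t', hVU ?_, ht2⟩
    show bcπ i₀ (hX.paste_vert hY) j t' ∈ V
    rw [ht1]
    exact htjV
  obtain ⟨x', hx'mem, hx'x⟩ := Groth.Agent.Lib.Helper5.exists_specializes_of_mem_closure X
    (f ⁻¹' {y'}) (Groth.Agent.Lib.Helper5.isProConstructible_preimage f {y'}
      (Groth.Agent.Lib.Helper5.isProConstructible_singleton Y y')) x hx_cl
  exact ⟨x, x', hx'x, hxy, hx'mem⟩

end main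

end Groth.Agent.Lib.Seat68.SubtrLim
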