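import Mathlib
import Groth.Prelude.Def_W4c2submetdescSubtr
import Groth.Agent.Lib.Seat68SubtrLim
import Groth.Agent.Lib.Seat68FGSub
import Groth.Agent.Lib.Helper10SubtrVal

/-!
# Universal S-subtrusiveness can be tested on affine spaces (seat 68)
-/

set_option autoImplicit false
universe u

namespace Groth.Agent.Lib.Seat68.SubtrAff

open CategoryTheory CategoryTheory.Limits AlgebraicGeometry Groth.Agent.Lib.Helper22.LimBC
  Groth.Agent.Lib.Seat68.SubtrLim Groth.Agent.Lib.Seat68.FGSub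

lemma isPullback_congr {C : Type*} [Category C] {P X Y Z : C} {a : P ⟶ X} {b : P ⟶ Y}
    {f f' : X ⟶ Z} {g g' : Y ⟶ Z} (h : IsPullback a b f g) (e : f = f') (e' : g = g') :
    IsPullback a b f' g' := by
  subst e e'; exact h

/-- S-subtrusiveness of `pullback.snd f g` gives it for any other pullback of `f` along `g`. -/
lemma isSSubtrusive_of_isPullback {P X Y Z : Scheme.{u}} {a : P ⟶ X} {b : P ⟶ Z} {f : X ⟶ Y}
    {g : Z ⟶ Y} (sq : IsPullback a b f g) (h : Subtr.IsSSubtrusive (pullback.snd f g)) :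
    Subtr.IsSSubtrusive b := by
  rw [← sq.isoPullback_hom_snd]
  exact isSSubtrusive_iso_comp _ _ h

/-- and conversely. -/
lemma isSSubtrusive_pullback_snd_of_isPullback {P X Y Z : Scheme.{u}} {a : P ⟶ X} {b : P ⟶ Z}
    {f : X ⟶ Y} {g : Z ⟶ Y} (sq : IsPullback a b f g) (h : Subtr.IsSSubtrusive b) :
    Subtr.IsSSubtrusive (pullback.snd f g) := by
  rw [← sq.isoPullback_inv_snd]
  exact isSSubtrusive_iso_comp sq.isoPullback.symm _ h

/-- Base change along a preimmersion preserves S-subtrusiveness. -/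
lemma isSSubtrusive_of_isPullback_of_isPreimmersion {P X Y Z : Scheme.{u}} {a : P ⟶ X}
    {b : P ⟶ Z} {f : X ⟶ Y} {g : Z ⟶ Y} (sq : IsPullback a b f g) [IsPreimmersion g]
    (hf : Subtr.IsSSubtrusive f) : Subtr.IsSSubtrusive b := by
  have : IsPreimmersion a :=
    MorphismProperty.of_isPullback (P := @IsPreimmersion) sq.flip inferInstance
  intro z z' hzz
  obtain ⟨x, x', hxx, hx, hx'⟩ := hf (hzz.map g.continuous)
  obtain ⟨p, hp1, hp2⟩ := exists_preimage_of_isPullback sq x z hx
  obtain ⟨p', hp1', hp2'⟩ := exists_preimage_of_isPullback sq x' z' hx'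
  refine ⟨p, p', ?_, hp2, hp2'⟩
  rw [← a.isEmbedding.isInducing.specializes_iff, hp1, hp1']
  exact hxx

/-- Base change of `f` along `m ≫ p`, `m` a preimmersion, from base change along `p`. -/
lemma isSSubtrusive_pullback_snd_comp {X Y W Z : Scheme.{u}} (f : X ⟶ Y) (p : W ⟶ Y)
    (m : Z ⟶ W) [IsPreimmersion m] (h : Subtr.IsSSubtrusive (pullback.snd f p)) :
    Subtr.IsSSubtrusive (pullback.snd f (m ≫ p)) := by
  let a' : pullback f (m ≫ p) ⟶ pullback f p :=
    pullback.lift (pullback.fst f (m ≫ p)) (pullback.snd f (m ≫ p) ≫ m)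
      (by rw [pullback.condition, Category.assoc])
  have sq' : IsPullback a' (pullback.snd f (m ≫ p)) (pullback.snd f p) m := by
    refine IsPullback.of_right ?_ (pullback.lift_snd _ _ _) (IsPullback.of_hasPullback f p)
    rw [pullback.lift_fst]
    exact IsPullback.of_hasPullback f (m ≫ p)
  exact isSSubtrusive_of_isPullback_of_isPreimmersion sq' h

section limit

variable {X Y : Scheme.{u}} (f : X ⟶ Y) [QuasiCompact f] (A V : Type u) [CommRing A] [CommRing V]
  [Algebra A V] (ι : Spec (CommRingCat.of A) ⟶ Y)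

/-- If the base changes of `f` to all finitely generated `A`-subalgebras of `V` are S-subtrusive,
so is the base change to `V`. -/
theorem isSSubtrusive_of_fg
    (H : ∀ S : FGSub A V, Subtr.IsSSubtrusive
      (pullback.snd f (Spec.map (CommRingCat.ofHom (algebraMap A S.1)) ≫ ι))) :
    Subtr.IsSSubtrusive (pullback.snd f (Spec.map (CommRingCat.ofHom (algebraMap A V)) ≫ ι)) := by
  let D := specDiagram A V
  let c := specCone A V
  have hc : IsLimit c := specIsLimit A V
  let S₀ : FGSub A V := ⟨⊥, Subalgebra.fg_bot⟩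
  let i₀ : (FGSub A V)ᵒᵖ := Opposite.op S₀
  let ι₀ : D.obj i₀ ⟶ Y := Spec.map (CommRingCat.ofHom (algebraMap A S₀.1)) ≫ ι
  let gV : Spec (CommRingCat.of V) ⟶ Y := Spec.map (CommRingCat.ofHom (algebraMap A V)) ≫ ι
  let πV : Spec (CommRingCat.of V) ⟶ D.obj i₀ := c.π.app i₀
  have hgV : πV ≫ ι₀ = gV := by
    show Spec.map (CommRingCat.ofHom (algebraMap S₀.1 V)) ≫
      Spec.map (CommRingCat.ofHom (algebraMap A S₀.1)) ≫ ι = _
    rw [← Spec.map_comp_assoc]
    rfl
  let f₀ := pullback.snd f ι₀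
  let qX : pullback f gV ⟶ pullback f ι₀ :=
    pullback.lift (pullback.fst f gV) (pullback.snd f gV ≫ πV)
      (by rw [pullback.condition, Category.assoc, hgV])
  have hX : IsPullback qX (pullback.snd f gV) f₀ πV := by
    refine IsPullback.of_right ?_ (pullback.lift_snd _ _ _) (IsPullback.of_hasPullback f ι₀)
    rw [pullback.lift_fst, hgV]
    exact IsPullback.of_hasPullback f gV
  have hY : IsPullback πV (𝟙 (Spec (CommRingCat.of V))) (𝟙 (D.obj i₀)) πV := IsPullback.id_vert _
  refine isSSubtrusive_of_isLimit D c hc i₀ f₀ (𝟙 _) (pullback.snd f gV) (𝟙 _) πV qX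
    hY hX (fun _ => True) (fun j => ⟨j, trivial, ⟨𝟙 j⟩⟩) ?_
  intro j _
  -- `bcMor j` is, up to an isomorphism of the target, the base change of `f₀`
  have hiso : IsIso (dSnd D i₀ (𝟙 (D.obj i₀)) j) := by
    show IsIso (pullback.snd (𝟙 (D.obj i₀)) (D.map j.hom))
    infer_instance
  have e1 : bcMor D i₀ f₀ (𝟙 _) j =
      dSnd D i₀ (f₀ ≫ 𝟙 _) j ≫ (asIso (dSnd D i₀ (𝟙 (D.obj i₀)) j)).symm.hom := by
    rw [Iso.symm_hom, Iso.eq_comp_inv]
    exact bcMor_snd D i₀ f₀ (𝟙 _) j
  -- the base change of `f₀` to the stage `j`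
  have sq1 : IsPullback (dFst D i₀ (f₀ ≫ 𝟙 _) j) (dSnd D i₀ (f₀ ≫ 𝟙 _) j) f₀ (D.map j.hom) :=
    isPullback_congr (isPullback_d D i₀ (f₀ ≫ 𝟙 _) j) (Category.comp_id _) rfl
  have sq2 : IsPullback (dFst D i₀ (f₀ ≫ 𝟙 _) j ≫ pullback.fst f ι₀) (dSnd D i₀ (f₀ ≫ 𝟙 _) j) f
      (D.map j.hom ≫ ι₀) := sq1.paste_horiz (IsPullback.of_hasPullback f ι₀)
  have e2 : D.map j.hom ≫ ι₀ =
      Spec.map (CommRingCat.ofHom (algebraMap A j.left.unop.1)) ≫ ι := by
    show Spec.map ((ringDiagram A V).map j.hom.unop) ≫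
      Spec.map (CommRingCat.ofHom (algebraMap A S₀.1)) ≫ ι = _
    rw [← Spec.map_comp_assoc]
    rfl
  have key : Subtr.IsSSubtrusive (dSnd D i₀ (f₀ ≫ 𝟙 _) j) :=
    isSSubtrusive_of_isPullback (isPullback_congr sq2 rfl e2) (H j.left.unop)
  rw [e1]
  exact isSSubtrusive_comp_iso _ _ key

end limit

section embed

variable {Y : Scheme.{u}} (A : Type u) [CommRing A] (ι : Spec (CommRingCat.of A) ⟶ Y)
  [IsOpenImmersion ι] (S : Type u) [CommRing S] [Algebra A S] [Algebra.FiniteType A S]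

/-- A finitely generated algebra over an affine open of `Y` embeds in an affine space over `Y`
of positive dimension. -/
theorem exists_preimmersion_affineSpace :
    ∃ (n : ℕ) (_ : 0 < n) (m : Spec (CommRingCat.of S) ⟶ AffineSpace (ULift.{u} (Fin n)) Y),
      IsPreimmersion m ∧ m ≫ (AffineSpace (ULift.{u} (Fin n)) Y ↘ Y) =
        Spec.map (CommRingCat.ofHom (algebraMap A S)) ≫ ι := by
  obtain ⟨n, π, hπ⟩ := Algebra.FiniteType.iff_quotient_mvPolynomial''.mp
    (inferInstance : Algebra.FiniteType A S)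
  let v : ULift.{u} (Fin (n + 1)) → S := fun i =>
    Fin.lastCases 0 (fun j => π (MvPolynomial.X j)) i.down
  let π' : MvPolynomial (ULift.{u} (Fin (n + 1))) A →ₐ[A] S := MvPolynomial.aeval v
  have hπ' : Function.Surjective π' := by
    have : π = π'.comp (MvPolynomial.rename (fun j : Fin n => ULift.up (Fin.castSucc j))) := by
      apply MvPolynomial.algHom_ext
      intro j
      simp [π', v]
    rw [this] at hπ
    exact Function.Surjective.of_comp hπ
  refine ⟨n + 1, Nat.succ_pos n, Spec.map (CommRingCat.ofHom π'.toRingHom) ≫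
    (AffineSpace.SpecIso _ (CommRingCat.of A)).inv ≫ AffineSpace.map _ ι, ?_, ?_⟩
  · have h1 : IsClosedImmersion (Spec.map (CommRingCat.ofHom π'.toRingHom)) :=
      IsClosedImmersion.spec_of_surjective _ hπ'
    have h2 : IsOpenImmersion (AffineSpace.map (ULift.{u} (Fin (n + 1))) ι) :=
      MorphismProperty.of_isPullback (P := @IsOpenImmersion)
        (AffineSpace.isPullback_map ι).flip inferInstance
    infer_instance
  · rw [Category.assoc, Category.assoc, AffineSpace.map_over, AffineSpace.SpecIso_inv_over_assoc,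
      ← Spec.map_comp_assoc]
    congr 2
    ext a
    simp [π']

end embed

/-- A quasi-compact morphism is universally S-subtrusive as soon as its base changes to the affine
spaces of positive dimension over the target are S-subtrusive. -/
theorem univSSubtrusive_of_affineSpace {X Y : Scheme.{u}} (f : X ⟶ Y) [QuasiCompact f]
    (H : ∀ n : ℕ, 0 < n →
      Subtr.IsSSubtrusive (pullback.snd f (AffineSpace (ULift.{u} (Fin n)) Y ↘ Y))) :
    Subtr.UnivSSubtrusive f := by
  rw [Groth.Agent.Lib.Helper10.SubtrVal.main]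
  intro V _ _ _ g
  obtain ⟨_, ⟨U, hU, rfl⟩, hyU, -⟩ := Y.isBasis_affineOpens.exists_subset_of_mem_open
    (Set.mem_univ (g (IsLocalRing.closedPoint V))) isOpen_univ
  have hrange : Set.range g ⊆ Set.range hU.fromSpec := by
    rw [hU.range_fromSpec]
    rintro _ ⟨p, rfl⟩
    exact ((IsLocalRing.specializes_closedPoint p).map g.continuous).mem_open U.isOpen hyU
  let g' := IsOpenImmersion.lift hU.fromSpec g hrange
  have hg' : g' ≫ hU.fromSpec = g := IsOpenImmersion.lift_fac _ _ _
  let φ : Γ(Y, U) ⟶ CommRingCat.of V := Spec.preimage g'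
  have hφ : Spec.map φ = g' := Spec.map_preimage _
  letI : Algebra Γ(Y, U) V := φ.hom.toAlgebra
  have hgoal : Spec.map (CommRingCat.ofHom (algebraMap Γ(Y, U) V)) ≫ hU.fromSpec = g := by
    rw [← hg', ← hφ]; rfl
  have main := isSSubtrusive_of_fg f Γ(Y, U) V hU.fromSpec (by
    intro S
    haveI : Algebra.FiniteType Γ(Y, U) S.1 := (Subalgebra.fg_iff_finiteType S.1).mp S.2
    obtain ⟨n, hn, m, hm, hm2⟩ := exists_preimmersion_affineSpace Γ(Y, U) hU.fromSpec S.1
    rw [← hm2]
    exact isSSubtrusive_pullback_snd_comp f _ m (H n hn))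
  rw [hgoal] at main
  exact main

end Groth.Agent.Lib.Seat68.SubtrAff
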