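import Mathlib
import Groth.Prelude.Def_W4c2submetdescSubtr
import Groth.Prelude.Def_SGA1
import Groth.Agent.Lib.Seat68SubtrAff
import Groth.Agent.Lib.Helper10SubtrDVR
import Groth.Agent.Lib.Helper10QCClosed
import Groth.Agent.S4450

/-!
# Universally submersive vs. universally S-subtrusive over a locally Noetherian base (seat 68)
-/

set_option autoImplicit false
universe u

namespace Groth.Agent.Lib.Seat68.SubtrNoeth

open CategoryTheory CategoryTheory.Limits AlgebraicGeometry IsLocalRing
  Groth.Agent.Lib.Seat68.SubtrLim Groth.Agent.Lib.Seat68.SubtrAff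

/-- In a locally Noetherian scheme, a proper specialization `y' ⤳ y` is realised by a morphism
from the spectrum of a discrete valuation ring. -/
theorem exists_dvr_of_specializes {Y : Scheme.{u}} [IsLocallyNoetherian Y] {y y' : Y}
    (hyy : y' ⤳ y) (hne : y ≠ y') :
    ∃ (A : Type u) (_ : CommRing A) (_ : IsDomain A) (_ : IsDiscreteValuationRing A)
      (h : Spec (CommRingCat.of A) ⟶ Y) (η : Spec (CommRingCat.of A)),
      h (closedPoint A) = y ∧ h η = y' := by
  obtain ⟨A, h, hA, h1, h2⟩ := Groth.Agent.S4450.result (𝟙 Y) y' y hyy hne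
  refine ⟨↥A, inferInstance, inferInstance, hA, h,
    Spec.map (CommRingCat.ofHom A.subtype) (closedPoint (Y.residueField y')), h1, ?_⟩
  have h3 := congrArg (fun m : Spec (Y.residueField y') ⟶ Y =>
    m (closedPoint (Y.residueField y'))) h2
  refine h3.trans ?_
  rw [Category.comp_id]
  exact Scheme.fromSpecResidueField_apply y' _

/-- universally submersive morphisms are quotient maps. -/
lemma isQuotientMap_of_univSubmersive {X Y : Scheme.{u}} (f : X ⟶ Y)
    (hf : SGA1.UnivSubmersive f) : Topology.IsQuotientMap f :=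
  hf (𝟙 X) (𝟙 Y) f (IsPullback.id_vert f)

lemma univSubmersive_pullback_snd {X Y Z : Scheme.{u}} (f : X ⟶ Y) (g : Z ⟶ Y)
    (hf : SGA1.UnivSubmersive f) : SGA1.UnivSubmersive (pullback.snd f g) :=
  fun _ _ i₁ i₂ f' hpb =>
    hf (i₁ ≫ pullback.fst f g) (i₂ ≫ g) f' (hpb.paste_vert (IsPullback.of_hasPullback f g).flip)

/-- Over a locally Noetherian base, a universally submersive morphism is S-subtrusive. -/
theorem isSSubtrusive_of_univSubmersive {X Y : Scheme.{u}} [IsLocallyNoetherian Y] (f : X ⟶ Y)
    (hf : SGA1.UnivSubmersive f) : Subtr.IsSSubtrusive f := by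
  intro y y' hyy
  by_cases hne : y = y'
  · subst hne
    obtain ⟨x, hx⟩ := (isQuotientMap_of_univSubmersive f hf).surjective y
    exact ⟨x, x, specializes_rfl, hx, hx⟩
  obtain ⟨A, _, _, _, h, η, h1, h2⟩ := exists_dvr_of_specializes hyy hne
  have hq : Topology.IsQuotientMap (pullback.snd f h) :=
    isQuotientMap_of_univSubmersive _ (univSubmersive_pullback_snd f h hf)
  have hs : Subtr.IsSSubtrusive (pullback.snd f h) :=
    (Groth.Agent.Lib.Helper10.SubtrDVR.main A (pullback.snd f h)).mp hq
  obtain ⟨w, w', hww, hw, hw'⟩ := hs (specializes_closedPoint (R := A) η)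
  refine ⟨pullback.fst f h w, pullback.fst f h w', hww.map (pullback.fst f h).continuous, ?_, ?_⟩
  · rw [← Scheme.Hom.comp_apply, pullback.condition, Scheme.Hom.comp_apply, hw, h1]
  · rw [← Scheme.Hom.comp_apply, pullback.condition, Scheme.Hom.comp_apply, hw', h2]

/-- A quasi-compact universally S-subtrusive morphism is universally submersive. -/
theorem univSubmersive_of_univSSubtrusive {X Y : Scheme.{u}} (f : X ⟶ Y) [QuasiCompact f]
    (hf : Subtr.UnivSSubtrusive f) : SGA1.UnivSubmersive f := by
  intro X' Y' i₁ i₂ f' hpb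
  have hqc : QuasiCompact f' := MorphismProperty.of_isPullback hpb.flip inferInstance
  have hs : Subtr.IsSSubtrusive f' := hf i₁ i₂ f' hpb
  have hsurj : Function.Surjective f' := by
    intro y
    obtain ⟨x, _, _, hx, _⟩ := hs (specializes_refl y)
    exact ⟨x, hx⟩
  change Topology.IsQuotientMap f'
  rw [Topology.isQuotientMap_iff_isClosed]
  refine ⟨hsurj, fun C => ⟨fun hC => hC.preimage f'.continuous, fun hC => ?_⟩⟩
  have himg : f' '' (f' ⁻¹' C) = C := Set.image_preimage_eq C hsurj
  rw [← himg]
  apply Groth.Agent.Lib.Helper10.QCClosed.isClosed_image_of_stableUnderSpecialization f' _ hC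
  rw [himg]
  intro y' y hyy hy'
  obtain ⟨x, x', hxx, hx, hx'⟩ := hs hyy
  have hx'C : x' ∈ f' ⁻¹' C := by
    show f' x' ∈ C
    rw [hx']; exact hy'
  have hxC : x ∈ f' ⁻¹' C := hC.stableUnderSpecialization hxx hx'C
  have : f' x ∈ C := hxC
  rwa [hx] at this

/-- the affine space over a locally Noetherian scheme is locally Noetherian. -/
lemma isLocallyNoetherian_affineSpace (Y : Scheme.{u}) [IsLocallyNoetherian Y] (n : ℕ) :
    IsLocallyNoetherian (AffineSpace (ULift.{u} (Fin n)) Y) :=
  LocallyOfFiniteType.isLocallyNoetherian (AffineSpace (ULift.{u} (Fin n)) Y ↘ Y)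

/-- Over a locally Noetherian base, a quasi-compact universally submersive morphism is
universally S-subtrusive. -/
theorem univSSubtrusive_of_univSubmersive {X Y : Scheme.{u}} [IsLocallyNoetherian Y] (f : X ⟶ Y)
    [QuasiCompact f] (hf : SGA1.UnivSubmersive f) : Subtr.UnivSSubtrusive f := by
  apply univSSubtrusive_of_affineSpace f
  intro n _
  have := isLocallyNoetherian_affineSpace Y n
  exact isSSubtrusive_of_univSubmersive _ (univSubmersive_pullback_snd f _ hf)

end Groth.Agent.Lib.Seat68.SubtrNoeth
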