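import Mathlib
import Groth.Agent.Lib.Seat68SubtrNoeth

/-!
# The DVR criterion for universally S-subtrusive morphisms over a locally Noetherian base (seat 68)
-/

set_option autoImplicit false
universe u

namespace Groth.Agent.Lib.Seat68.SubtrDVR

open CategoryTheory CategoryTheory.Limits AlgebraicGeometry IsLocalRing
  Groth.Agent.Lib.Seat68.SubtrLim Groth.Agent.Lib.Seat68.SubtrAff Groth.Agent.Lib.Seat68.SubtrNoeth

/-- (ii) ⇒ (iii). -/
theorem exists_dvr_lift {X Y : Scheme.{u}} (f : X ⟶ Y)
    [LocallyOfFiniteType f] (hf : Subtr.UnivSSubtrusive f) (D : Type u) [CommRing D] [IsDomain D]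
    [IsDiscreteValuationRing D] (g : Spec (CommRingCat.of D) ⟶ Y) :
    ∃ (D' : Type u) (_ : CommRing D') (_ : IsDomain D') (_ : IsDiscreteValuationRing D')
      (a : Spec (CommRingCat.of D') ⟶ X) (b : Spec (CommRingCat.of D') ⟶ Spec (CommRingCat.of D)),
      Surjective b ∧ a ≫ f = b ≫ g := by
  have hs : Subtr.IsSSubtrusive (pullback.snd f g) :=
    hf (pullback.fst f g) g (pullback.snd f g) (IsPullback.of_hasPullback f g).flip
  let η : Spec (CommRingCat.of D) := (⟨⊥, Ideal.isPrime_bot⟩ : PrimeSpectrum D)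
  obtain ⟨w, w', hww, hw, hw'⟩ := hs (specializes_closedPoint (R := D) η)
  have hLN : IsLocallyNoetherian (pullback f g) := inferInstance
  have hne : w ≠ w' := by
    intro h
    rw [h] at hw
    exact Groth.Agent.Lib.Helper10.SubtrDVR.bot_ne_closedPoint D (hw'.symm.trans hw)
  obtain ⟨A, _, _, _, h, η', h1, h2⟩ := exists_dvr_of_specializes hww hne
  refine ⟨A, inferInstance, inferInstance, inferInstance, h ≫ pullback.fst f g,
    h ≫ pullback.snd f g, ⟨fun z => ?_⟩, ?_⟩
  · rcases Groth.Agent.Lib.Helper10.SubtrDVR.eq_closedPoint_or_eq_bot D z with rfl | rfl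
    · exact ⟨closedPoint A, by rw [Scheme.Hom.comp_apply, h1, hw]⟩
    · exact ⟨η', by rw [Scheme.Hom.comp_apply, h2, hw']⟩
  · rw [Category.assoc, Category.assoc, pullback.condition]

/-- (iii) ⇒ (ii). -/
theorem univSSubtrusive_of_dvr_lift {X Y : Scheme.{u}} [IsLocallyNoetherian Y] (f : X ⟶ Y)
    [QuasiCompact f]
    (H : ∀ (D : Type u) [CommRing D] [IsDomain D] [IsDiscreteValuationRing D]
      (g : Spec (CommRingCat.of D) ⟶ Y),
        ∃ (D' : Type u) (_ : CommRing D') (_ : IsDomain D') (_ : IsDiscreteValuationRing D')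
          (a : Spec (CommRingCat.of D') ⟶ X)
          (b : Spec (CommRingCat.of D') ⟶ Spec (CommRingCat.of D)),
          Surjective b ∧ a ≫ f = b ≫ g) : Subtr.UnivSSubtrusive f := by
  apply univSSubtrusive_of_affineSpace f
  intro n _
  have := isLocallyNoetherian_affineSpace Y n
  have key : ∀ (A : Type u) [CommRing A] [IsDomain A] [IsDiscreteValuationRing A]
      (h : Spec (CommRingCat.of A) ⟶ AffineSpace (ULift.{u} (Fin n)) Y)
      (η : Spec (CommRingCat.of A)),
      ∃ x x' : ↥(pullback f (AffineSpace (ULift.{u} (Fin n)) Y ↘ Y)), x' ⤳ x ∧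
        pullback.snd f (AffineSpace (ULift.{u} (Fin n)) Y ↘ Y) x = h (closedPoint A) ∧
        pullback.snd f (AffineSpace (ULift.{u} (Fin n)) Y ↘ Y) x' = h η := by
    intro A _ _ _ h η
    obtain ⟨D', _, _, _, a, b, hb, hab⟩ := H A (h ≫ (AffineSpace (ULift.{u} (Fin n)) Y ↘ Y))
    let l : Spec (CommRingCat.of D') ⟶ pullback f (AffineSpace (ULift.{u} (Fin n)) Y ↘ Y) :=
      pullback.lift a (b ≫ h) (by rw [hab, Category.assoc])
    have hl : l ≫ pullback.snd f _ = b ≫ h := pullback.lift_snd _ _ _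
    obtain ⟨q, hq⟩ := hb.surj (closedPoint A)
    obtain ⟨η', hη'⟩ := hb.surj η
    have hbc : b (closedPoint D') = closedPoint A := by
      have h1 : b q ⤳ b (closedPoint D') :=
        (specializes_closedPoint (R := D') q).map b.continuous
      rw [hq] at h1
      exact ((specializes_closedPoint (R := A) _).antisymm h1).eq
    refine ⟨l (closedPoint D'), l η',
      (specializes_closedPoint (R := D') η').map l.continuous, ?_, ?_⟩
    · rw [← Scheme.Hom.comp_apply, hl, Scheme.Hom.comp_apply, hbc]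
    · rw [← Scheme.Hom.comp_apply, hl, Scheme.Hom.comp_apply, hη']
  intro y y' hyy
  by_cases hne : y = y'
  · subst hne
    obtain ⟨x, x', hxx, hx, hx'⟩ := key
      (PowerSeries ((AffineSpace (ULift.{u} (Fin n)) Y).residueField y))
      (Spec.map (CommRingCat.ofHom (algebraMap
        ((AffineSpace (ULift.{u} (Fin n)) Y).residueField y)
        (PowerSeries ((AffineSpace (ULift.{u} (Fin n)) Y).residueField y)))) ≫
        (AffineSpace (ULift.{u} (Fin n)) Y).fromSpecResidueField y) (closedPoint _)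
    have hx2 : pullback.snd f (AffineSpace (ULift.{u} (Fin n)) Y ↘ Y) x = y := by
      rw [hx, Scheme.Hom.comp_apply]
      exact Scheme.fromSpecResidueField_apply y _
    exact ⟨x, x, specializes_rfl, hx2, hx2⟩
  · obtain ⟨A, _, _, _, h, η, h1, h2⟩ := exists_dvr_of_specializes hyy hne
    obtain ⟨x, x', hxx, hx, hx'⟩ := key A h η
    exact ⟨x, x', hxx, hx.trans h1, hx'.trans h2⟩

end Groth.Agent.Lib.Seat68.SubtrDVR
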