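import Mathlib.RingTheory.Valuation.ValuationSubring
import Mathlib.RingTheory.Valuation.Basic
import Mathlib.Algebra.Ring.GeomSum
import Mathlib.Algebra.CharP.Basic
import Mathlib.GroupTheory.OrderOfElement
import Mathlib.Data.Nat.PrimeFin

set_option autoImplicit false
open Finset

namespace Groth.Agent.Lib.Seat68.ValInter

variable {K : Type*} [Field K]

/-- Case `x ∉ W`: the geometric sum is dominated by its top term. -/
lemma geomSum_of_not_mem (W : ValuationSubring K) (x : K) (hx : x ∉ W) (t : ℕ) (ht : 2 ≤ t) :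
    (∑ j ∈ range t, x ^ j) ≠ 0 ∧ (∑ j ∈ range t, x ^ j)⁻¹ ∈ W ∧
      x * (∑ j ∈ range t, x ^ j)⁻¹ ∈ W := by
  set val := W.valuation with hval
  have h1 : 1 < val x := by
    rw [← not_le, W.valuation_le_one_iff]; exact hx
  obtain ⟨s, rfl⟩ : ∃ s, t = s + 1 := ⟨t - 1, by omega⟩
  have hs : 1 ≤ s := by omega
  rw [Finset.sum_range_succ]
  have hlt : val (∑ j ∈ range s, x ^ j) < val (x ^ s) := by
    apply Valuation.map_sum_lt
    · rw [map_pow]; exact pow_ne_zero _ (ne_of_gt (lt_trans zero_lt_one h1))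
    · intro j hj
      rw [map_pow, map_pow]
      exact pow_lt_pow_right₀ h1 (Finset.mem_range.mp hj)
  have hu : val (∑ j ∈ range s, x ^ j + x ^ s) = val (x ^ s) :=
    Valuation.map_add_eq_of_lt_right _ hlt
  have hxs : val x ≤ val (x ^ s) := by
    rw [map_pow]; exact le_self_pow₀ h1.le (by omega)
  have hu1 : 1 < val (∑ j ∈ range s, x ^ j + x ^ s) := by
    rw [hu]; exact lt_of_lt_of_le h1 hxs
  have hne : (∑ j ∈ range s, x ^ j + x ^ s) ≠ 0 := by
    intro h0; rw [h0, map_zero] at hu1; exact not_lt.mpr zero_le_one hu1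
  refine ⟨hne, ?_, ?_⟩
  · rw [← W.valuation_le_one_iff, map_inv₀]
    exact inv_le_one_of_one_le₀ hu1.le
  · rw [← W.valuation_le_one_iff, map_mul, map_inv₀, hu]
    exact mul_inv_le_one_of_le₀ hxs zero_le


/-- Case `x ∈ W`: for a prime `t` avoiding the residue characteristic and the order of the residue
of `x`, the geometric sum is a unit of `W`. -/
lemma geomSum_of_mem (W : ValuationSubring K) (x : K) (hx : x ∈ W) (t : ℕ) (ht : t.Prime)
    (h1 : ringChar (IsLocalRing.ResidueField W) < t)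
    (h2 : orderOf (IsLocalRing.residue W ⟨x, hx⟩) < t) :
    (∑ j ∈ range t, x ^ j) ≠ 0 ∧ (∑ j ∈ range t, x ^ j) ∈ W ∧ (∑ j ∈ range t, x ^ j)⁻¹ ∈ W := by
  set a : W := ⟨x, hx⟩ with ha
  set k := IsLocalRing.ResidueField W
  set r := IsLocalRing.residue W a with hr
  have hcoe : ((∑ j ∈ range t, a ^ j : W) : K) = ∑ j ∈ range t, x ^ j := by
    push_cast; rfl
  have hres : IsLocalRing.residue W (∑ j ∈ range t, a ^ j) = ∑ j ∈ range t, r ^ j := by
    rw [map_sum]; simp only [map_pow]; rfl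
  have hne : (∑ j ∈ range t, r ^ j) ≠ 0 := by
    by_cases hr1 : r = 1
    · rw [hr1]
      simp only [one_pow, sum_const, card_range, nsmul_eq_mul, mul_one]
      intro h0
      have hdvd : ringChar k ∣ t := (ringChar.spec k t).mp h0
      rcases (Nat.dvd_prime ht).mp hdvd with h | h
      · exact CharP.ringChar_ne_one h
      · rw [h] at h1; exact lt_irrefl _ h1
    · intro h0
      have hmul := geom_sum_mul r t
      rw [h0, zero_mul] at hmul
      have hpow : r ^ t = 1 := (sub_eq_zero.mp hmul.symm)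
      have hdvd : orderOf r ∣ t := orderOf_dvd_of_pow_eq_one hpow
      rcases (Nat.dvd_prime ht).mp hdvd with h | h
      · exact hr1 (orderOf_eq_one_iff.mp h)
      · omega
  have hunit : IsUnit (∑ j ∈ range t, a ^ j : W) := by
    by_contra hnu
    have : (∑ j ∈ range t, a ^ j : W) ∈ IsLocalRing.maximalIdeal W := hnu
    rw [← IsLocalRing.residue_eq_zero_iff, hres] at this
    exact hne this
  obtain ⟨b, hb⟩ := hunit.exists_right_inv
  have hb' : (∑ j ∈ range t, x ^ j) * (b : K) = 1 := by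
    rw [← hcoe]; exact_mod_cast congrArg (Subtype.val) hb
  have hu0 : (∑ j ∈ range t, x ^ j) ≠ 0 := left_ne_zero_of_mul_eq_one hb'
  refine ⟨hu0, ?_, ?_⟩
  · rw [← hcoe]; exact Subtype.mem _
  · rw [inv_eq_of_mul_eq_one_right hb']
    exact Subtype.mem _


open Classical in
/-- The key lemma on finite families of valuation rings of a field (Matsumura, Thm 12.2):
every `x : K` can be written as `(x v) / v` with `v` and `x v` in all the `W i`, where moreover
`v` is a unit of every `W i` that contains `x`. -/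
theorem exists_common {ι : Type*} [Finite ι] (W : ι → ValuationSubring K) (x : K) :
    ∃ v : K, v ≠ 0 ∧ (∀ i, v ∈ W i ∧ x * v ∈ W i) ∧ (∀ i, x ∈ W i → v⁻¹ ∈ W i) := by
  rcases isEmpty_or_nonempty ι with hι | hι
  · exact ⟨1, one_ne_zero, fun i => (hι.false i).elim, fun i => (hι.false i).elim⟩
  let N : ι → ℕ := fun i =>
    if h : x ∈ W i then
      max (ringChar (IsLocalRing.ResidueField (W i))) (orderOf (IsLocalRing.residue (W i) ⟨x, h⟩))
    else 0
  obtain ⟨M, hM⟩ := (Set.finite_range N).bddAbove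
  obtain ⟨t, htM, ht⟩ := Nat.exists_infinite_primes (M + 1)
  have hN : ∀ i, N i < t := fun i => lt_of_le_of_lt (hM ⟨i, rfl⟩) (by omega)
  have key : ∀ i, (∑ j ∈ range t, x ^ j) ≠ 0 ∧ (∑ j ∈ range t, x ^ j)⁻¹ ∈ W i ∧
      x * (∑ j ∈ range t, x ^ j)⁻¹ ∈ W i ∧ (x ∈ W i → (∑ j ∈ range t, x ^ j) ∈ W i) := by
    intro i
    by_cases h : x ∈ W i
    · have hNi := hN i
      simp only [N, dif_pos h] at hNi
      obtain ⟨h0, h1, h2⟩ := geomSum_of_mem (W i) x h t ht
        (lt_of_le_of_lt (le_max_left _ _) hNi) (lt_of_le_of_lt (le_max_right _ _) hNi)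
      exact ⟨h0, h2, (W i).mul_mem _ _ h h2, fun _ => h1⟩
    · obtain ⟨h0, h1, h2⟩ := geomSum_of_not_mem (W i) x h t ht.two_le
      exact ⟨h0, h1, h2, fun h' => (h h').elim⟩
  obtain ⟨i₀⟩ := hι
  refine ⟨(∑ j ∈ range t, x ^ j)⁻¹, inv_ne_zero (key i₀).1, fun i => ⟨(key i).2.1, (key i).2.2.1⟩,
    fun i hi => ?_⟩
  rw [inv_inv]
  exact (key i).2.2.2 hi

end Groth.Agent.Lib.Seat68.ValInter
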