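import Groth.Agent.Lib.Seat68ValInter
import Mathlib.RingTheory.Valuation.ValuationRing
import Mathlib.RingTheory.Ideal.Operations
import Mathlib.RingTheory.Localization.AtPrime.Basic
import Mathlib.RingTheory.Spectrum.Maximal.Basic

set_option autoImplicit false
open Finset

namespace Groth.Agent.Lib.Seat68.ValInter

variable {K : Type*} [Field K]

section General

variable {A : Type*} [CommRing A] [IsDomain A] [Algebra A K]
  {ι : Type*} [Finite ι] (W : ι → ValuationSubring K)

/-- The centre on `A` of the valuation ring `W i`. -/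
def centre (hA : ∀ a : A, ∀ i, algebraMap A K a ∈ W i) (i : ι) : Ideal A :=
  Ideal.comap ((algebraMap A K).codRestrict (W i) (fun a => hA a i))
    (IsLocalRing.maximalIdeal (W i))

lemma mem_centre_iff (hA : ∀ a : A, ∀ i, algebraMap A K a ∈ W i) (i : ι) (a : A) :
    a ∈ centre W hA i ↔ algebraMap A K a ∈ (W i).nonunits := by
  unfold centre
  rw [Ideal.mem_comap, ← ValuationSubring.coe_mem_nonunits_iff]
  rfl

instance centre_isPrime (hA : ∀ a : A, ∀ i, algebraMap A K a ∈ W i) (i : ι) :
    (centre W hA i).IsPrime := by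
  unfold centre; infer_instance

variable (hinj : Function.Injective (algebraMap A K))
  (hA : ∀ x : K, x ∈ Set.range (algebraMap A K) ↔ ∀ i, x ∈ W i)

include hinj hA

lemma mem_all (a : A) (i : ι) : algebraMap A K a ∈ W i := (hA _).mp ⟨a, rfl⟩ i

/-- Every element of `K` is a quotient of elements of `A`. -/
theorem exists_div (x : K) : ∃ a b : A, b ≠ 0 ∧ x = algebraMap A K a / algebraMap A K b := by
  obtain ⟨v, hv0, hv, -⟩ := exists_common W x
  obtain ⟨b, hb⟩ := (hA v).mpr (fun i => (hv i).1)
  obtain ⟨a, ha⟩ := (hA (x * v)).mpr (fun i => (hv i).2)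
  refine ⟨a, b, ?_, ?_⟩
  · rintro rfl; rw [map_zero] at hb; exact hv0 hb.symm
  · rw [ha, hb, mul_div_assoc, div_self hv0, mul_one]

/-- A proper ideal of `A` is contained in the union of the centres. -/
lemma subset_iUnion_centre [Nonempty ι] (I : Ideal A) (hI : I ≠ ⊤) :
    (I : Set A) ⊆ ⋃ i, (centre W (mem_all W hinj hA) i : Set A) := by
  intro a ha
  by_contra hcon
  simp only [Set.mem_iUnion, SetLike.mem_coe, not_exists, mem_centre_iff,
    ValuationSubring.mem_nonunits_iff_or, not_or, not_not] at hcon
  obtain ⟨c, hc⟩ := (hA (algebraMap A K a)⁻¹).mpr (fun i => (hcon i).2)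
  obtain ⟨i₀⟩ := ‹Nonempty ι›
  have ha0 : algebraMap A K a ≠ 0 := (hcon i₀).1
  apply hI
  rw [Ideal.eq_top_iff_one]
  have : a * c = 1 := hinj (by rw [map_mul, hc, map_one, mul_inv_cancel₀ ha0])
  rw [← this]; exact I.mul_mem_right _ ha

/-- A proper ideal of `A` is contained in one of the centres (prime avoidance). -/
lemma exists_le_centre [Nonempty ι] (I : Ideal A) (hI : I ≠ ⊤) :
    ∃ i, I ≤ centre W (mem_all W hinj hA) i := by
  classical
  haveI := Fintype.ofFinite ι
  obtain ⟨i₀⟩ := ‹Nonempty ι›
  have h := subset_iUnion_centre W hinj hA I hI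
  have h' : (I : Set A) ⊆ ⋃ i ∈ ((Finset.univ : Finset ι) : Set ι),
      (centre W (mem_all W hinj hA) i : Set A) := by
    simpa using h
  obtain ⟨i, -, hi⟩ := (Ideal.subset_union_prime (s := Finset.univ)
    (f := fun i => centre W (mem_all W hinj hA) i) i₀ i₀
    (fun i _ _ _ => inferInstance)).mp h'
  exact ⟨i, hi⟩

lemma centre_ne_top (i : ι) : centre W (mem_all W hinj hA) i ≠ ⊤ :=
  Ideal.IsPrime.ne_top inferInstance

/-- `A` is semilocal. -/
theorem finite_maximalSpectrum [Nonempty ι] : Finite (MaximalSpectrum A) := by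
  classical
  have hex : ∀ M : MaximalSpectrum A, ∃ i, M.asIdeal = centre W (mem_all W hinj hA) i := by
    intro M
    obtain ⟨i, hi⟩ := exists_le_centre W hinj hA M.asIdeal M.isMaximal.ne_top
    exact ⟨i, M.isMaximal.eq_of_le (centre_ne_top W hinj hA i) hi⟩
  choose φ hφ using hex
  refine Finite.of_injective φ (fun M M' h => ?_)
  ext1
  rw [hφ M, hφ M', h]

/-- Divisibility in the localisation at a prime below the centre of `W i`. -/
lemma dvd_of_div_mem (p : Ideal A) [p.IsPrime] (i : ι)
    (hp : p ≤ centre W (mem_all W hinj hA) i) (a b : A)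
    (hx : algebraMap A K a / algebraMap A K b ∈ W i) (hb : b ≠ 0) :
    algebraMap A (Localization.AtPrime p) b ∣ algebraMap A (Localization.AtPrime p) a := by
  obtain ⟨v, hv0, hv, hvi⟩ := exists_common W (algebraMap A K a / algebraMap A K b)
  obtain ⟨c, hc⟩ := (hA v).mpr (fun i => (hv i).1)
  obtain ⟨d, hd⟩ := (hA (algebraMap A K a / algebraMap A K b * v)).mpr (fun i => (hv i).2)
  have hb' : algebraMap A K b ≠ 0 := fun h => hb (hinj (by rw [h, map_zero]))
  have hcp : c ∉ p := by
    intro hcp
    have := hp hcp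
    rw [mem_centre_iff, hc, ValuationSubring.mem_nonunits_iff_or] at this
    rcases this with h | h
    · exact hv0 h
    · exact h (hvi i hx)
  have hrel : a * c = d * b := hinj (by
    rw [map_mul, map_mul, hc, hd]
    field_simp)
  have hunit : IsUnit (algebraMap A (Localization.AtPrime p) c) :=
    IsLocalization.map_units (M := p.primeCompl) _ ⟨c, hcp⟩
  have h1 : algebraMap A (Localization.AtPrime p) b ∣
      algebraMap A (Localization.AtPrime p) a * algebraMap A (Localization.AtPrime p) c := by
    rw [← map_mul, hrel, map_mul]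
    exact dvd_mul_left _ _
  exact (hunit.dvd_mul_right).mp h1

/-- The localisations of `A` at its primes are valuation rings. -/
theorem valuationRing_localization [Nonempty ι] (p : Ideal A) [p.IsPrime] :
    ValuationRing (Localization.AtPrime p) := by
  obtain ⟨i, hi⟩ := exists_le_centre W hinj hA p (Ideal.IsPrime.ne_top inferInstance)
  rw [ValuationRing.iff_dvd_total]
  refine ⟨fun α β => ?_⟩
  obtain ⟨a, s, rfl⟩ := IsLocalization.exists_mk'_eq p.primeCompl α
  obtain ⟨b, s', rfl⟩ := IsLocalization.exists_mk'_eq p.primeCompl β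
  have hα : Associated (IsLocalization.mk' (Localization.AtPrime p) a s)
      (algebraMap A (Localization.AtPrime p) a) :=
    ⟨(IsLocalization.map_units (Localization.AtPrime p) s).unit, IsLocalization.mk'_spec _ _ _⟩
  have hβ : Associated (IsLocalization.mk' (Localization.AtPrime p) b s')
      (algebraMap A (Localization.AtPrime p) b) :=
    ⟨(IsLocalization.map_units (Localization.AtPrime p) s').unit, IsLocalization.mk'_spec _ _ _⟩
  rw [hα.dvd_iff_dvd_left, hβ.dvd_iff_dvd_right, hα.dvd_iff_dvd_right, hβ.dvd_iff_dvd_left]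
  by_cases hb : b = 0
  · left; rw [hb, map_zero]; exact dvd_zero _
  by_cases ha : a = 0
  · right; rw [ha, map_zero]; exact dvd_zero _
  rcases (W i).mem_or_inv_mem (algebraMap A K a / algebraMap A K b) with h | h
  · right; exact dvd_of_div_mem W hinj hA p i hi a b h hb
  · left
    rw [inv_div] at h
    exact dvd_of_div_mem W hinj hA p i hi b a h ha

end General

end Groth.Agent.Lib.Seat68.ValInter
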