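import Groth.Agent.Lib.Seat68ValInterB
import Mathlib.RingTheory.Spectrum.Maximal.Localization
import Mathlib.RingTheory.Localization.AsSubring

set_option autoImplicit false

namespace Groth.Agent.Lib.Seat68.ValInter

universe u

section Prufer

variable (R L : Type u) [CommRing R] [IsDomain R] [Field L] [Algebra R L] [IsFractionRing R L]
  (hR : ∀ (p : Ideal R) [p.IsPrime], ValuationRing (Localization.AtPrime p))

include hR in
/-- In a Prüfer domain, the localisation at a maximal ideal, as a subring of the fraction field,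
contains `x` or `x⁻¹` for every `x`. -/
lemma mem_or_inv_mem_ofField (m : MaximalSpectrum R) (x : L) :
    x ∈ Localization.subalgebra.ofField L _ m.asIdeal.primeCompl_le_nonZeroDivisors ∨
      x⁻¹ ∈ Localization.subalgebra.ofField L _ m.asIdeal.primeCompl_le_nonZeroDivisors := by
  haveI := hR m.asIdeal
  obtain ⟨a, b, hb, rfl⟩ := IsFractionRing.div_surjective (A := R) x
  have hb0 : b ≠ 0 := nonZeroDivisors.ne_zero hb
  have hinjB : Function.Injective (algebraMap R (Localization.AtPrime m.asIdeal)) :=
    IsLocalization.injective _ m.asIdeal.primeCompl_le_nonZeroDivisors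
  have hinjL : Function.Injective (algebraMap R L) := IsFractionRing.injective R L
  have key : ∀ a b : R, b ≠ 0 →
      algebraMap R (Localization.AtPrime m.asIdeal) b ∣
        algebraMap R (Localization.AtPrime m.asIdeal) a →
      algebraMap R L a / algebraMap R L b ∈
        Localization.subalgebra.ofField L _ m.asIdeal.primeCompl_le_nonZeroDivisors := by
    intro a b hb0 hdvd
    obtain ⟨γ, hγ⟩ := hdvd
    obtain ⟨c, s, rfl⟩ := IsLocalization.exists_mk'_eq m.asIdeal.primeCompl γ
    have h1 : a * s = b * c := hinjB (by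
      rw [map_mul, map_mul, hγ, mul_assoc, IsLocalization.mk'_spec])
    refine ⟨c, s, s.2, ?_⟩
    have hs0 : algebraMap R L s ≠ 0 := fun h =>
      (nonZeroDivisors.ne_zero (m.asIdeal.primeCompl_le_nonZeroDivisors s.2)) (hinjL (by rw [h, map_zero]))
    have hb0' : algebraMap R L b ≠ 0 := fun h => hb0 (hinjL (by rw [h, map_zero]))
    have h2 := congrArg (algebraMap R L) h1
    rw [map_mul, map_mul] at h2
    field_simp
    rw [h2]
  by_cases ha0 : a = 0
  · left
    rw [ha0, map_zero, zero_div]
    exact Subalgebra.zero_mem _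
  rcases ValuationRing.dvd_total (algebraMap R (Localization.AtPrime m.asIdeal) a)
    (algebraMap R (Localization.AtPrime m.asIdeal) b) with h | h
  · right
    rw [inv_div]
    exact key b a ha0 h
  · left
    exact key a b hb0 h

/-- The localisation of a Prüfer domain at a maximal ideal, as a valuation subring of the
fraction field. -/
noncomputable def valSub (m : MaximalSpectrum R) : ValuationSubring L :=
  ValuationSubring.ofSubring
    (Localization.subalgebra.ofField L _ m.asIdeal.primeCompl_le_nonZeroDivisors).toSubring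
    (fun x => mem_or_inv_mem_ofField R L hR m x)

lemma mem_valSub (m : MaximalSpectrum R) (x : L) :
    x ∈ valSub R L hR m ↔
      x ∈ Localization.subalgebra.ofField L _ m.asIdeal.primeCompl_le_nonZeroDivisors :=
  Iff.rfl

lemma mem_range_iff_forall_mem_valSub (x : L) :
    x ∈ (algebraMap R L).range ↔ ∀ m : MaximalSpectrum R, x ∈ valSub R L hR m := by
  have h := MaximalSpectrum.iInf_localization_eq_bot R L
  have h2 : x ∈ (⨅ v : MaximalSpectrum R,
    Localization.subalgebra.ofField L _ v.asIdeal.primeCompl_le_nonZeroDivisors) ↔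
      x ∈ (⊥ : Subalgebra R L) := by rw [h]
  rw [Algebra.mem_iInf, Algebra.mem_bot] at h2
  rw [RingHom.mem_range]
  exact h2.symm

variable (K : Subfield L)

include hR in
/-- The main statement: `R ∩ K` is a semilocal Prüfer domain with fraction field `K`. -/
theorem prufer_inf_subfield (hfin : Finite (MaximalSpectrum R)) :
    (∀ (p : Ideal ↥((algebraMap R L).range ⊓ K.toSubring)) [p.IsPrime],
        ValuationRing (Localization.AtPrime p)) ∧
      Finite (MaximalSpectrum ↥((algebraMap R L).range ⊓ K.toSubring)) ∧
      ∀ x : L, x ∈ K → ∃ a b : L, a ∈ (algebraMap R L).range ⊓ K.toSubring ∧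
        b ∈ (algebraMap R L).range ⊓ K.toSubring ∧ b ≠ 0 ∧ x = a / b := by
  classical
  set A' := ↥((algebraMap R L).range ⊓ K.toSubring) with hA'
  let φ : A' →+* K := RingHom.codRestrict (Subring.subtype _) K (fun x => x.2.2)
  letI : Algebra A' K := φ.toAlgebra
  have hφ : ∀ a : A', ((algebraMap A' K a : K) : L) = (a : L) := fun a => rfl
  have hinj : Function.Injective (algebraMap A' K) := by
    intro a b hab
    apply Subtype.ext
    rw [← hφ a, ← hφ b, hab]
  let W : MaximalSpectrum R → ValuationSubring K := fun m => (valSub R L hR m).comap K.subtype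
  have hA : ∀ x : K, x ∈ Set.range (algebraMap A' K) ↔ ∀ m, x ∈ W m := by
    intro x
    constructor
    · rintro ⟨a, rfl⟩ m
      show ((algebraMap A' K a : K) : L) ∈ valSub R L hR m
      rw [hφ]
      exact (mem_range_iff_forall_mem_valSub R L hR _).mp a.2.1 m
    · intro h
      have h1 : (x : L) ∈ (algebraMap R L).range :=
        (mem_range_iff_forall_mem_valSub R L hR _).mpr (fun m => h m)
      exact ⟨⟨(x : L), ⟨h1, x.2⟩⟩, Subtype.ext rfl⟩
  haveI : Nonempty (MaximalSpectrum R) := by
    obtain ⟨m, hm⟩ := Ideal.exists_maximal R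
    exact ⟨⟨m, hm⟩⟩
  refine ⟨fun p _ => valuationRing_localization W hinj hA p,
    finite_maximalSpectrum W hinj hA, fun x hx => ?_⟩
  obtain ⟨a, b, hb, hab⟩ := exists_div W hinj hA (⟨x, hx⟩ : K)
  refine ⟨(a : L), (b : L), a.2, b.2, ?_, ?_⟩
  · intro h0
    apply hb
    exact Subtype.ext h0
  · have h1 : x = ((algebraMap A' K a / algebraMap A' K b : K) : L) := congrArg (Subtype.val) hab
    rw [h1, Subfield.coe_div, hφ, hφ]

end Prufer

end Groth.Agent.Lib.Seat68.ValInter
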