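import Mathlib.RingTheory.Valuation.ValuationSubring
import Mathlib.Algebra.Order.GroupWithZero.Canonical
import Mathlib.Algebra.BigOperators.Group.Finset.Basic
import Mathlib.Order.Fin.Basic

set_option autoImplicit false
open Finset

namespace Groth.Agent.Lib.Seat68.ValRank

section Order

variable {Γ : Type*} [LinearOrderedCommGroupWithZero Γ]

/-- `c` is smaller than every power of `x`. -/
def Small (c x : Γ) : Prop := ∀ m : ℕ, c < x ^ m

lemma Small.one {c : Γ} (hc : c < 1) : Small c 1 := fun m => by simpa using hc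

lemma Small.mul {c x y : Γ} (hx : Small c x) (hy : Small c y) (hx1 : x ≤ 1) (hy1 : y ≤ 1) :
    Small c (x * y) := by
  intro m
  rw [mul_pow]
  rcases le_total x y with h | h
  · calc c < x ^ (m + m) := hx _
      _ = x ^ m * x ^ m := pow_add _ _ _
      _ ≤ x ^ m * y ^ m := mul_le_mul_right (pow_le_pow_left₀ zero_le h m) _
  · calc c < y ^ (m + m) := hy _
      _ = y ^ m * y ^ m := pow_add _ _ _
      _ ≤ x ^ m * y ^ m := mul_le_mul_left (pow_le_pow_left₀ zero_le h m) _

lemma Small.pow {c x : Γ} (hx : Small c x) (e : ℕ) : Small c (x ^ e) := by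
  intro m
  rw [← pow_mul]
  exact hx _

variable {ι : Type*} [Fintype ι] [LinearOrder ι]

/-- A family of values in `(0,1)`, each infinitely smaller than the later ones. -/
structure ChainSmall (g : ι → Γ) : Prop where
  ne_zero : ∀ i, g i ≠ 0
  lt_one : ∀ i, g i < 1
  small : ∀ i j, i < j → Small (g i) (g j)

lemma ChainSmall.small_prod {g : ι → Γ} (hg : ChainSmall g) (i₀ : ι) (α : ι → ℕ) :
    Small (g i₀) (∏ i ∈ univ.filter (fun i => i₀ < i), g i ^ α i) := by
  have : (∏ i ∈ univ.filter (fun i => i₀ < i), g i ^ α i) ≤ 1 ∧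
      Small (g i₀) (∏ i ∈ univ.filter (fun i => i₀ < i), g i ^ α i) := by
    refine Finset.prod_induction _ (fun x => x ≤ 1 ∧ Small (g i₀) x) ?_ ?_ ?_
    · rintro a b ⟨ha, ha'⟩ ⟨hb, hb'⟩
      exact ⟨mul_le_one' ha hb, ha'.mul hb' ha hb⟩
    · exact ⟨le_refl _, Small.one (hg.lt_one i₀)⟩
    · intro i hi
      rw [Finset.mem_filter] at hi
      exact ⟨pow_le_one₀ zero_le (hg.lt_one i).le, (hg.small i₀ i hi.2).pow _⟩
  exact this.2

lemma prod_split (f : ι → Γ) (i₀ : ι) :
    ∏ i, f i = (∏ i ∈ univ.filter (fun i => i < i₀), f i) * f i₀ *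
      ∏ i ∈ univ.filter (fun i => i₀ < i), f i := by
  classical
  rw [← Finset.prod_filter_mul_prod_filter_not univ (fun i => i < i₀)]
  rw [mul_assoc]
  congr 1
  have : univ.filter (fun i => ¬ i < i₀) = insert i₀ (univ.filter (fun i => i₀ < i)) := by
    ext i
    simp only [mem_filter, mem_univ, true_and, mem_insert, not_lt]
    constructor
    · intro h; rcases eq_or_lt_of_le h with h | h
      · left; exact h.symm
      · right; exact h
    · rintro (h | h)
      · exact h ▸ le_refl _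
      · exact h.le
  rw [this, Finset.prod_insert (by simp)]

/-- Monomials with exponents first differing at `i₀` have different values. -/
lemma ChainSmall.prod_lt {g : ι → Γ} (hg : ChainSmall g) (α β : ι → ℕ) (i₀ : ι)
    (hlt : ∀ i, i < i₀ → α i = β i) (h0 : α i₀ < β i₀) :
    ∏ i, g i ^ β i < ∏ i, g i ^ α i := by
  rw [prod_split (fun i => g i ^ β i) i₀, prod_split (fun i => g i ^ α i) i₀]
  have hL : (∏ i ∈ univ.filter (fun i => i < i₀), g i ^ β i) =
      ∏ i ∈ univ.filter (fun i => i < i₀), g i ^ α i := by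
    refine Finset.prod_congr rfl (fun i hi => ?_)
    rw [Finset.mem_filter] at hi
    rw [hlt i hi.2]
  rw [hL, mul_assoc, mul_assoc]
  have hLpos : 0 < ∏ i ∈ univ.filter (fun i => i < i₀), g i ^ α i := by
    apply Finset.prod_pos
    intro i _
    exact pow_pos (zero_lt_iff.mpr (hg.ne_zero i)) _
  refine mul_lt_mul_of_pos_left ?_ hLpos
  have hg0 : 0 < g i₀ := zero_lt_iff.mpr (hg.ne_zero i₀)
  have hUβ : (∏ i ∈ univ.filter (fun i => i₀ < i), g i ^ β i) ≤ 1 := by
    apply Finset.prod_le_one'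
    intro i _
    exact pow_le_one₀ zero_le (hg.lt_one i).le
  have hUα := hg.small_prod i₀ α 1
  rw [pow_one] at hUα
  obtain ⟨d, hd⟩ : ∃ d, β i₀ = α i₀ + 1 + d := ⟨β i₀ - α i₀ - 1, by omega⟩
  calc g i₀ ^ β i₀ * ∏ i ∈ univ.filter (fun i => i₀ < i), g i ^ β i
      ≤ g i₀ ^ β i₀ * 1 := mul_le_mul_right hUβ _
    _ = g i₀ ^ α i₀ * (g i₀ * g i₀ ^ d) := by rw [mul_one, hd, pow_add, pow_add, pow_one, mul_assoc]
    _ ≤ g i₀ ^ α i₀ * (g i₀ * 1) :=
        mul_le_mul_right (mul_le_mul_right (pow_le_one₀ zero_le (hg.lt_one i₀).le) _) _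
    _ = g i₀ ^ α i₀ * g i₀ := by rw [mul_one]
    _ < g i₀ ^ α i₀ * ∏ i ∈ univ.filter (fun i => i₀ < i), g i ^ α i :=
        mul_lt_mul_of_pos_left hUα (pow_pos hg0 _)

/-- Distinct exponent vectors give distinct monomial values. -/
theorem ChainSmall.prod_injective {g : ι → Γ} (hg : ChainSmall g) :
    Function.Injective (fun α : ι → ℕ => ∏ i, g i ^ α i) := by
  classical
  intro α β h
  by_contra hne
  have hne' : (univ.filter (fun i => α i ≠ β i)).Nonempty := by
    by_contra hempty
    rw [Finset.not_nonempty_iff_eq_empty, Finset.filter_eq_empty_iff] at hempty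
    exact hne (funext fun i => by simpa using hempty (Finset.mem_univ i))
  set i₀ := (univ.filter (fun i => α i ≠ β i)).min' hne' with hi₀
  have hmem := Finset.min'_mem _ hne'
  rw [← hi₀, Finset.mem_filter] at hmem
  have hlt : ∀ i, i < i₀ → α i = β i := by
    intro i hi
    by_contra hc
    have := Finset.min'_le (univ.filter (fun i => α i ≠ β i)) i (by simp [hc])
    exact absurd (lt_of_lt_of_le hi this) (lt_irrefl _)
  dsimp only at h
  rcases lt_or_gt_of_ne hmem.2 with h0 | h0
  · exact absurd h (ne_of_gt (hg.prod_lt α β i₀ hlt h0))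
  · exact absurd h (ne_of_lt (hg.prod_lt β α i₀ (fun i hi => (hlt i hi).symm) h0))

end Order

end Groth.Agent.Lib.Seat68.ValRank
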