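import Groth.Agent.Lib.Seat68ValRank
import Mathlib.RingTheory.AlgebraicIndependent.TranscendenceBasis
import Mathlib.RingTheory.Algebraic.Basic
import Mathlib.Algebra.Field.Subfield.Basic

set_option autoImplicit false
open Finset Cardinal

namespace Groth.Agent.Lib.Seat68.ValRank

variable {K : Type*} [Field K]

/-- A field generated by a set `s` is algebraic over the ring generated by `s`. -/
lemma isAlgebraic_of_closure_eq_top (s : Set K) (hs : Subfield.closure s = ⊤) :
    Algebra.IsAlgebraic (Algebra.adjoin (⊥ : Subring K) s) K := by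
  refine ⟨fun x => ?_⟩
  have hx : x ∈ Subfield.closure s := by rw [hs]; trivial
  obtain ⟨a, ha, b, hb, rfl⟩ := Subfield.mem_closure_iff.mp hx
  have hle : Subring.closure s ≤ (Algebra.adjoin (⊥ : Subring K) s).toSubring :=
    Subring.closure_le.mpr Algebra.subset_adjoin
  have ha' : IsAlgebraic (Algebra.adjoin (⊥ : Subring K) s) a :=
    isAlgebraic_algebraMap (⟨a, hle ha⟩ : Algebra.adjoin (⊥ : Subring K) s)
  have hb' : IsAlgebraic (Algebra.adjoin (⊥ : Subring K) s) b :=
    isAlgebraic_algebraMap (⟨b, hle hb⟩ : Algebra.adjoin (⊥ : Subring K) s)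
  rw [div_eq_mul_inv]
  exact ha'.mul (IsAlgebraic.inv_iff.mpr hb')

variable (W : ValuationSubring K) {ι : Type} [Fintype ι] [LinearOrder ι]

/-- Key independence statement: a polynomial relation with integer coefficients among a
chain-small family, in which only the variables of `S` occur, is trivial, provided the values of
the nonzero integers are monomials in the values of the family outside `S`. -/
theorem eq_zero_of_aeval_eq_zero (y : ι → K)
    (hy : ChainSmall (fun i => W.valuation (y i))) (S : Finset ι)
    (hc : ∀ c : ℤ, (c : K) ≠ 0 → ∃ e : ι → ℕ, (∀ j ∈ S, e j = 0) ∧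
      W.valuation (c : K) = ∏ j, W.valuation (y j) ^ e j)
    (q : MvPolynomial ι (⊥ : Subring K)) (hq : ∀ d ∈ q.support, ∀ j, j ∉ S → d j = 0)
    (h0 : MvPolynomial.aeval y q = 0) : q = 0 := by
  classical
  by_contra hne
  have hsupp : q.support.Nonempty := by
    rw [Finset.nonempty_iff_ne_empty, Ne, MvPolynomial.support_eq_empty]; exact hne
  set v := W.valuation with hv
  set g : ι → W.ValueGroup := fun i => v (y i) with hg
  -- the terms
  let T : (ι →₀ ℕ) → K := fun d =>
    algebraMap (⊥ : Subring K) K (q.coeff d) * ∏ i, y i ^ d i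
  have hsum : MvPolynomial.aeval y q = ∑ d ∈ q.support, T d := by
    rw [MvPolynomial.aeval_def, MvPolynomial.eval₂_eq']
  -- exponent data for the coefficients
  have hcoeff : ∀ d ∈ q.support, ∃ e : ι → ℕ, (∀ j ∈ S, e j = 0) ∧
      v (algebraMap (⊥ : Subring K) K (q.coeff d)) = ∏ j, g j ^ e j := by
    intro d hd
    obtain ⟨c, hcd⟩ := Subring.mem_bot.mp (q.coeff d).2
    have hne0 : (c : K) ≠ 0 := by
      rw [hcd]
      intro h
      exact (MvPolynomial.mem_support_iff.mp hd) (Subtype.ext h)
    obtain ⟨e, he, hve⟩ := hc c hne0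
    refine ⟨e, he, ?_⟩
    have : algebraMap (⊥ : Subring K) K (q.coeff d) = (c : K) := hcd.symm
    rw [this]
    exact hve
  choose! e he hve using hcoeff
  have hval : ∀ d ∈ q.support, v (T d) = ∏ j, g j ^ (e d j + d j) := by
    intro d hd
    simp only [T, map_mul, map_prod, map_pow]
    rw [hve d hd, ← Finset.prod_mul_distrib]
    refine Finset.prod_congr rfl (fun j _ => ?_)
    rw [pow_add]
  have hinj : ∀ d ∈ q.support, ∀ d' ∈ q.support, v (T d) = v (T d') → d = d' := by
    intro d hd d' hd' h
    rw [hval d hd, hval d' hd'] at h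
    have := hy.prod_injective h
    ext j
    have hj := congrFun this j
    by_cases hjS : j ∈ S
    · rw [he d hd j hjS, he d' hd' j hjS] at hj
      simpa using hj
    · rw [hq d hd j hjS, hq d' hd' j hjS]
  have hne0 : ∀ d ∈ q.support, v (T d) ≠ 0 := by
    intro d hd
    rw [hval d hd]
    apply Finset.prod_ne_zero_iff.mpr
    intro j _
    exact pow_ne_zero _ (hy.ne_zero j)
  obtain ⟨d₀, hd₀, hmax⟩ := Finset.exists_max_image q.support (fun d => v (T d)) hsupp
  have hlt : ∀ d ∈ q.support \ {d₀}, v (T d) < v (T d₀) := by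
    intro d hd
    rw [Finset.mem_sdiff, Finset.mem_singleton] at hd
    refine lt_of_le_of_ne (hmax d hd.1) (fun h => hd.2 (hinj d hd.1 d₀ hd₀ h))
  have := Valuation.map_sum_eq_of_lt v hd₀ hlt
  rw [← hsum, h0, map_zero] at this
  exact hne0 d₀ hd₀ this.symm

/-- The size of the independent part of a chain-small family is bounded by the number of
generators of the field. -/
theorem card_le_of_chainSmall (y : ι → K)
    (hy : ChainSmall (fun i => W.valuation (y i))) (S : Finset ι)
    (hc : ∀ c : ℤ, (c : K) ≠ 0 → ∃ e : ι → ℕ, (∀ j ∈ S, e j = 0) ∧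
      W.valuation (c : K) = ∏ j, W.valuation (y j) ^ e j)
    (s : Finset K) (hs : Subfield.closure (s : Set K) = ⊤) : S.card ≤ s.card := by
  classical
  have hind : AlgebraicIndependent (⊥ : Subring K) (fun j : S => y j) := by
    rw [algebraicIndependent_iff]
    intro p hp
    have h1 : MvPolynomial.aeval y (MvPolynomial.rename (Subtype.val : S → ι) p) = 0 := by
      rw [MvPolynomial.aeval_rename]; exact hp
    have h2 := eq_zero_of_aeval_eq_zero W y hy S hc _ ?_ h1
    · exact MvPolynomial.rename_injective _ Subtype.val_injective (by rw [h2, map_zero])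
    · intro d hd j hj
      rw [MvPolynomial.support_rename_of_injective Subtype.val_injective, Finset.mem_image] at hd
      obtain ⟨d', -, rfl⟩ := hd
      apply Finsupp.mapDomain_of_notMem_range
      rintro ⟨⟨j', hj'⟩, rfl⟩
      exact hj hj'
  have := isAlgebraic_of_closure_eq_top (s : Set K) hs
  have h1 := hind.lift_cardinalMk_le_trdeg
  have h2 : Algebra.trdeg (⊥ : Subring K) K ≤ Cardinal.mk (s : Set K) :=
    Algebra.IsAlgebraic.trdeg_le_cardinalMk _ _
  have h5 := h1.trans (Cardinal.lift_le.mpr h2)
  have h6 : Cardinal.mk (s : Set K) = (s.card : Cardinal) := Cardinal.mk_coe_finset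
  have h7 : Cardinal.mk S = (S.card : Cardinal) := Cardinal.mk_coe_finset
  rw [h6, h7, Cardinal.lift_natCast, Cardinal.lift_natCast] at h5
  exact_mod_cast h5

end Groth.Agent.Lib.Seat68.ValRank
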