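import Groth.Agent.Lib.Seat68ValRankB
import Mathlib.RingTheory.Int.Basic
import Mathlib.RingTheory.PrincipalIdealDomain
import Mathlib.Data.Nat.Factorization.Basic

set_option autoImplicit false
open Finset

namespace Groth.Agent.Lib.Seat68.ValRank

variable {K : Type*} [Field K] (W : ValuationSubring K)

lemma val_int_le_one (c : ℤ) : W.valuation (c : K) ≤ 1 :=
  (W.valuation_le_one_iff _).mpr (intCast_mem W c)

lemma val_nat_le_one (c : ℕ) : W.valuation (c : K) ≤ 1 :=
  (W.valuation_le_one_iff _).mpr (natCast_mem W c)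

/-- Either all nonzero integers are units of `W`, or there is a prime number `p`, nonzero in `K`,
which is a nonunit of `W`, and then the value of every nonzero integer is a power of that of `p`. -/
theorem int_val_dichotomy :
    (∀ c : ℤ, (c : K) ≠ 0 → W.valuation (c : K) = 1) ∨
      ∃ p : ℕ, p.Prime ∧ (p : K) ≠ 0 ∧ W.valuation (p : K) < 1 ∧
        ∀ c : ℤ, (c : K) ≠ 0 → ∃ e : ℕ, W.valuation (c : K) = W.valuation (p : K) ^ e := by
  by_cases hA : ∀ c : ℤ, (c : K) ≠ 0 → W.valuation (c : K) = 1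
  · exact Or.inl hA
  right
  push Not at hA
  obtain ⟨c, hc0, hc1⟩ := hA
  have hc1' : W.valuation (c : K) < 1 := lt_of_le_of_ne (val_int_le_one W c) hc1
  -- the prime ideal of integers that are nonunits of `W`
  let I : Ideal ℤ := Ideal.comap (Int.castRingHom W) (IsLocalRing.maximalIdeal W)
  have hI : ∀ k : ℤ, k ∈ I ↔ W.valuation (k : K) < 1 := by
    intro k
    show (Int.castRingHom W k) ∈ IsLocalRing.maximalIdeal W ↔ _
    rw [W.valuation_lt_one_iff]
    simp
  have hIprime : I.IsPrime := Ideal.comap_isPrime _ _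
  have hcI : c ∈ I := (hI c).mpr hc1'
  have hc0' : c ≠ 0 := by rintro rfl; simp at hc0
  obtain ⟨g, hg⟩ : ∃ g : ℤ, I = Ideal.span {g} := ⟨_, (IsPrincipalIdealRing.principal I).principal.choose_spec⟩
  have hg0 : g ≠ 0 := by
    rintro rfl
    rw [hg, Ideal.span_singleton_zero] at hcI
    exact hc0' hcI
  have hgprime : Prime g := by
    rw [← Ideal.span_singleton_prime hg0, ← hg]; exact hIprime
  set p := g.natAbs with hp
  have hpprime : p.Prime := Int.prime_iff_natAbs_prime.mp hgprime
  have hIp : ∀ k : ℤ, k ∈ I ↔ (p : ℤ) ∣ k := by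
    intro k
    rw [hg, Ideal.mem_span_singleton, hp, Int.natAbs_dvd]
  have hpI : (p : ℤ) ∈ I := (hIp _).mpr dvd_rfl
  have hpval : W.valuation (p : K) < 1 := by
    have := (hI (p : ℤ)).mp hpI
    simpa using this
  have hpK : (p : K) ≠ 0 := by
    intro h0
    obtain ⟨d, hd⟩ := (hIp c).mp hcI
    apply hc0
    rw [hd]
    push_cast
    rw [h0, zero_mul]
  refine ⟨p, hpprime, hpK, hpval, ?_⟩
  -- values of naturals
  have hnat : ∀ n : ℕ, (n : K) ≠ 0 → ∃ e : ℕ, W.valuation (n : K) = W.valuation (p : K) ^ e := by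
    intro n hn
    have hn0 : n ≠ 0 := by rintro rfl; simp at hn
    obtain ⟨e, n', hn', rfl⟩ := Nat.exists_eq_pow_mul_and_not_dvd hn0 p hpprime.ne_one
    refine ⟨e, ?_⟩
    have h1 : W.valuation (n' : K) = 1 := by
      refine le_antisymm (val_nat_le_one W n') (not_lt.mp fun hlt => ?_)
      have : ((n' : ℤ)) ∈ I := (hI _).mpr (by simpa using hlt)
      rw [hIp] at this
      exact hn' (by exact_mod_cast this)
    push_cast
    rw [map_mul, map_pow, h1, mul_one]
  intro k hk
  obtain ⟨n, rfl | rfl⟩ := Int.eq_nat_or_neg k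
  · have hn : (n : K) ≠ 0 := by simpa using hk
    obtain ⟨e, he⟩ := hnat n hn
    exact ⟨e, by simpa using he⟩
  · have hn : (n : K) ≠ 0 := by simpa using hk
    obtain ⟨e, he⟩ := hnat n hn
    refine ⟨e, ?_⟩
    rw [← he]
    simp [Valuation.map_neg]

end Groth.Agent.Lib.Seat68.ValRank
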