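import Groth.Agent.Lib.Seat68ValRankC
import Groth.Agent.Lib.Seat68ValInterB
import Mathlib.RingTheory.KrullDimension.Basic
import Mathlib.Order.KrullDimension
import Mathlib.Data.Fintype.WithTopBot

set_option autoImplicit false
open Finset

namespace Groth.Agent.Lib.Seat68.ValRank

open Groth.Agent.Lib.Seat68.ValInter

variable {K : Type*} [Field K]
variable {A : Type*} [CommRing A] [IsDomain A] [Algebra A K]
  {ι' : Type*} [Finite ι'] (W : ι' → ValuationSubring K)
  (hinj : Function.Injective (algebraMap A K))
  (hA : ∀ x : K, x ∈ Set.range (algebraMap A K) ↔ ∀ i, x ∈ W i)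

include hinj hA

/-- Elements of a prime below the centre of `W i` are infinitely smaller than elements outside. -/
lemma small_of_mem_of_not_mem (q : Ideal A) [q.IsPrime] (i : ι')
    (hq : q ≤ centre W (mem_all W hinj hA) i) (a b : A) (ha : a ∈ q) (hb : b ∉ q) :
    Small ((W i).valuation (algebraMap A K a)) ((W i).valuation (algebraMap A K b)) := by
  intro m
  by_contra hcon
  rw [not_lt, ← map_pow, (W i).valuation_le_iff] at hcon
  obtain ⟨w, hw⟩ := hcon
  obtain ⟨v₀, hv0, hv, hvi⟩ := exists_common W (w : K)
  obtain ⟨t, ht⟩ := (hA v₀).mpr (fun i => (hv i).1)
  obtain ⟨u, hu⟩ := (hA ((w : K) * v₀)).mpr (fun i => (hv i).2)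
  have htq : t ∉ q := by
    intro htq
    have := hq htq
    rw [mem_centre_iff, ht, ValuationSubring.mem_nonunits_iff_or] at this
    rcases this with h | h
    · exact hv0 h
    · exact h (hvi i w.2)
  have hrel : u * a = t * b ^ m := hinj (by
    rw [map_mul, map_mul, map_pow, hu, ht, mul_assoc, mul_comm v₀, ← mul_assoc, hw, mul_comm])
  have : t * b ^ m ∈ q := hrel ▸ q.mul_mem_left u ha
  rcases (Ideal.IsPrime.mem_or_mem inferInstance this) with h | h
  · exact htq h
  · exact hb (Ideal.IsPrime.mem_of_pow_mem inferInstance m h)

lemma val_ne_zero_of_ne_zero (i : ι') (a : A) (ha : a ≠ 0) :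
    (W i).valuation (algebraMap A K a) ≠ 0 := by
  rw [Ne, Valuation.zero_iff]
  exact fun h => ha (hinj (by rw [h, map_zero]))

lemma val_lt_one_of_mem (i : ι') (a : A) (ha : a ∈ centre W (mem_all W hinj hA) i) :
    (W i).valuation (algebraMap A K a) < 1 := by
  rw [mem_centre_iff] at ha
  exact (ValuationSubring.mem_nonunits_iff (W i)).mp ha


section Chain

variable [Nonempty ι'] (l : LTSeries (PrimeSpectrum A)) (i : ι')
  (hi : (l (Fin.last l.length)).asIdeal ≤ centre W (mem_all W hinj hA) i)

include hi

lemma le_centre_of_chain (j : Fin (l.length + 1)) :
    (l j).asIdeal ≤ centre W (mem_all W hinj hA) i :=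
  le_trans (PrimeSpectrum.asIdeal_le_asIdeal _ _ |>.mpr (l.strictMono.monotone (Fin.le_last j))) hi

lemma chain_mono {j k : Fin (l.length + 1)} (h : j ≤ k) : (l j).asIdeal ≤ (l k).asIdeal :=
  (PrimeSpectrum.asIdeal_le_asIdeal _ _).mpr (l.strictMono.monotone h)

/-- Elements chosen in the successive differences of a chain of primes form a chain-small family. -/
lemma chainSmall_family (x : Fin l.length → A)
    (hx : ∀ j, x j ∈ (l j.succ).asIdeal ∧ x j ∉ (l j.castSucc).asIdeal) :
    ChainSmall (fun j => (W i).valuation (algebraMap A K (x j))) where
  ne_zero j := val_ne_zero_of_ne_zero W hinj hA i _ (fun h => (hx j).2 (h ▸ Ideal.zero_mem _))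
  lt_one j := val_lt_one_of_mem W hinj hA i _ (le_centre_of_chain W hinj hA l i hi _ (hx j).1)
  small j k hjk := by
    refine small_of_mem_of_not_mem W hinj hA (l k.castSucc).asIdeal i
      (le_centre_of_chain W hinj hA l i hi _) _ _ ?_ (hx k).2
    refine chain_mono W hinj hA l i hi ?_ (hx j).1
    rw [Fin.le_def]
    simp only [Fin.val_succ, Fin.val_castSucc]
    exact hjk

end Chain


section Bound

variable [Nonempty ι']

/-- Every chain of primes of `A` has length at most the number of field generators plus one. -/
theorem length_le (l : LTSeries (PrimeSpectrum A)) (s : Finset K)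
    (hs : Subfield.closure (s : Set K) = ⊤) : l.length ≤ s.card + 1 := by
  classical
  obtain ⟨i, hi⟩ := exists_le_centre W hinj hA (l (Fin.last l.length)).asIdeal
    (l (Fin.last l.length)).isPrime.ne_top
  have hstep : ∀ j : Fin l.length, ∃ x : A, x ∈ (l j.succ).asIdeal ∧ x ∉ (l j.castSucc).asIdeal := by
    intro j
    have h := l.step j
    have h' : (l j.castSucc).asIdeal < (l j.succ).asIdeal := (PrimeSpectrum.asIdeal_lt_asIdeal _ _).mpr h
    exact SetLike.exists_of_lt h'
  choose x' hx' using hstep
  rcases int_val_dichotomy (W i) with hcA | ⟨p, hp, hpK, hpv, hcB⟩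
  · -- all nonzero integers are units
    have hy := chainSmall_family W hinj hA l i hi x' hx'
    have := card_le_of_chainSmall (W i) (fun j => algebraMap A K (x' j)) hy Finset.univ
      (fun c hc => ⟨fun _ => 0, fun _ _ => rfl, by simp [hcA c hc]⟩) s hs
    simp only [Finset.card_univ, Fintype.card_fin] at this
    omega
  · -- a prime number `p` is a nonunit
    have hpA : algebraMap A K (p : A) = (p : K) := map_natCast _ _
    by_cases h1 : ∃ k₀ : Fin l.length, (p : A) ∈ (l k₀.succ).asIdeal ∧ (p : A) ∉ (l k₀.castSucc).asIdeal
    · obtain ⟨k₀, hk₀⟩ := h1
      let x : Fin l.length → A := Function.update x' k₀ (p : A)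
      have hx : ∀ j, x j ∈ (l j.succ).asIdeal ∧ x j ∉ (l j.castSucc).asIdeal := by
        intro j
        by_cases hj : j = k₀
        · subst hj; simp only [x, Function.update_self]; exact hk₀
        · simp only [x, Function.update_of_ne hj]; exact hx' j
      have hy := chainSmall_family W hinj hA l i hi x hx
      have hxk : algebraMap A K (x k₀) = (p : K) := by simp only [x, Function.update_self, hpA]
      have := card_le_of_chainSmall (W i) (fun j => algebraMap A K (x j)) hy (Finset.univ.erase k₀)
        (fun c hc => by
          obtain ⟨e₀, he₀⟩ := hcB c hc
          refine ⟨fun j => if j = k₀ then e₀ else 0, fun j hj => ?_, ?_⟩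
          · rw [Finset.mem_erase] at hj; exact if_neg hj.1
          · rw [Fintype.prod_eq_single k₀ (fun j hj => by simp [hj])]
            simp only [if_true, hxk, he₀]) s hs
      rw [Finset.card_erase_of_mem (Finset.mem_univ _), Finset.card_univ, Fintype.card_fin] at this
      omega
    · by_cases h2 : (p : A) ∈ (l 0).asIdeal
      · -- `p` lies in all primes of the chain: put it first
        let y : WithBot (Fin l.length) → K := fun o =>
          WithBot.recBotCoe (p : K) (fun j => algebraMap A K (x' j)) o
        have hy0 := chainSmall_family W hinj hA l i hi x' hx'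
        have hy : ChainSmall (fun o => (W i).valuation (y o)) := by
          refine ⟨fun o => ?_, fun o => ?_, fun a b hab => ?_⟩
          · induction o using WithBot.recBotCoe with
            | bot => simpa [y] using hpK
            | coe j => exact hy0.ne_zero j
          · induction o using WithBot.recBotCoe with
            | bot => exact hpv
            | coe j => exact hy0.lt_one j
          · induction b using WithBot.recBotCoe with
            | bot => exact absurd hab (not_lt_bot)
            | coe k =>
              induction a using WithBot.recBotCoe with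
              | bot =>
                have := small_of_mem_of_not_mem W hinj hA (l k.castSucc).asIdeal i
                  (le_centre_of_chain W hinj hA l i hi _) (p : A) (x' k)
                  (chain_mono W hinj hA l i hi (Fin.zero_le _) h2) (hx' k).2
                rw [hpA] at this
                exact this
              | coe j => exact hy0.small j k (WithBot.coe_lt_coe.mp hab)
        have := card_le_of_chainSmall (W i) y hy (Finset.univ.erase ⊥)
          (fun c hc => by
            obtain ⟨e₀, he₀⟩ := hcB c hc
            refine ⟨fun o => if o = ⊥ then e₀ else 0, fun j hj => ?_, ?_⟩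
            · rw [Finset.mem_erase] at hj; exact if_neg hj.1
            · rw [Fintype.prod_eq_single ⊥ (fun j hj => by simp [hj])]
              simp only [if_true, he₀]
              rfl) s hs
        rw [Finset.card_erase_of_mem (Finset.mem_univ _), Finset.card_univ] at this
        have hcard : Fintype.card (WithBot (Fin l.length)) = l.length + 1 := by
          show Fintype.card (Option (Fin l.length)) = _
          rw [Fintype.card_option, Fintype.card_fin]
        rw [hcard] at this
        omega
      · -- `p` lies in no prime of the chain: put it last
        have hnot : ∀ j : Fin (l.length + 1), (p : A) ∉ (l j).asIdeal := by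
          intro j
          induction j using Fin.induction with
          | zero => exact h2
          | succ j ih =>
            intro hmem
            exact h1 ⟨j, hmem, ih⟩
        let y : WithTop (Fin l.length) → K := fun o =>
          WithTop.recTopCoe (p : K) (fun j => algebraMap A K (x' j)) o
        have hy0 := chainSmall_family W hinj hA l i hi x' hx'
        have hy : ChainSmall (fun o => (W i).valuation (y o)) := by
          refine ⟨fun o => ?_, fun o => ?_, fun a b hab => ?_⟩
          · induction o using WithTop.recTopCoe with
            | top => simpa [y] using hpK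
            | coe j => exact hy0.ne_zero j
          · induction o using WithTop.recTopCoe with
            | top => exact hpv
            | coe j => exact hy0.lt_one j
          · induction a using WithTop.recTopCoe with
            | top => exact absurd hab (not_top_lt)
            | coe j =>
              induction b using WithTop.recTopCoe with
              | top =>
                have := small_of_mem_of_not_mem W hinj hA (l (Fin.last l.length)).asIdeal i hi
                  (x' j) (p : A) (chain_mono W hinj hA l i hi (Fin.le_last _) (hx' j).1)
                  (hnot _)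
                rw [hpA] at this
                exact this
              | coe k => exact hy0.small j k (WithTop.coe_lt_coe.mp hab)
        have := card_le_of_chainSmall (W i) y hy (Finset.univ.erase ⊤)
          (fun c hc => by
            obtain ⟨e₀, he₀⟩ := hcB c hc
            refine ⟨fun o => if o = ⊤ then e₀ else 0, fun j hj => ?_, ?_⟩
            · rw [Finset.mem_erase] at hj; exact if_neg hj.1
            · rw [Fintype.prod_eq_single ⊤ (fun j hj => by simp [hj])]
              simp only [if_true, he₀]
              rfl) s hs
        rw [Finset.card_erase_of_mem (Finset.mem_univ _), Finset.card_univ] at this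
        have hcard : Fintype.card (WithTop (Fin l.length)) = l.length + 1 := by
          show Fintype.card (Option (Fin l.length)) = _
          rw [Fintype.card_option, Fintype.card_fin]
        rw [hcard] at this
        omega

/-- `A` has finite Krull dimension. -/
theorem ringKrullDim_lt_top (s : Finset K) (hs : Subfield.closure (s : Set K) = ⊤) :
    ringKrullDim A < ⊤ := by
  have : ringKrullDim A ≤ (((s.card + 1 : ℕ) : ℕ∞) : WithBot ℕ∞) := by
    unfold ringKrullDim
    rw [Order.krullDim_eq_iSup_length, WithBot.coe_le_coe]
    apply iSup_le
    intro l
    exact_mod_cast length_le W hinj hA l s hs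
  refine lt_of_le_of_lt this ?_
  rw [lt_top_iff_ne_top]
  intro h
  have h2 : (((s.card + 1 : ℕ) : ℕ∞) : WithBot ℕ∞) = ((⊤ : ℕ∞) : WithBot ℕ∞) := h
  exact ENat.coe_ne_top _ (WithBot.coe_injective h2)

end Bound

end Groth.Agent.Lib.Seat68.ValRank
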