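import Groth.Agent.Lib.Seat68ValRankD
import Groth.Agent.Lib.Seat68ValInterC

set_option autoImplicit false

namespace Groth.Agent.Lib.Seat68.ValRank

open Groth.Agent.Lib.Seat68.ValInter

universe u

/-- The closure of a set `T`, as a field in its own right, is generated by `T`. -/
lemma closure_subtype_eq_top {L : Type*} [Field L] (T : Set L) :
    Subfield.closure {z : Subfield.closure T | (z : L) ∈ T} = ⊤ := by
  rw [eq_top_iff]
  rintro ⟨z, hz⟩ -
  refine Subfield.closure_induction
    (p := fun x hx => (⟨x, hx⟩ : Subfield.closure T) ∈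
      Subfield.closure {z : Subfield.closure T | (z : L) ∈ T}) ?_ ?_ ?_ ?_ ?_ ?_ hz
  · intro x hx
    exact Subfield.subset_closure hx
  · exact one_mem _
  · intro x y hx hy h1 h2
    exact add_mem h1 h2
  · intro x hx h1
    exact neg_mem h1
  · intro x hx h1
    exact inv_mem h1
  · intro x y hx hy h1 h2
    exact mul_mem h1 h2

variable (R : Type u) [CommRing R] [IsDomain R]
  (hR : ∀ (p : Ideal R) [p.IsPrime], ValuationRing (Localization.AtPrime p))

include hR in
/-- A semilocal Prüfer domain is a directed union of semilocal Prüfer subrings of finite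
Krull dimension. -/
theorem exists_subring_finite_dim (hfin : Finite (MaximalSpectrum R)) (s : Finset R) :
    ∃ R' : Subring R, (↑s : Set R) ⊆ R' ∧
      (∀ (p : Ideal R') [p.IsPrime], ValuationRing (Localization.AtPrime p)) ∧
      Finite (MaximalSpectrum R') ∧ ringKrullDim R' < ⊤ := by
  classical
  let L := FractionRing R
  let T : Set L := algebraMap R L '' (s : Set R)
  let K : Subfield L := Subfield.closure T
  let R' : Subring R := K.toSubring.comap (algebraMap R L)
  have hsR' : (↑s : Set R) ⊆ R' := by
    intro x hx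
    show algebraMap R L x ∈ K
    exact Subfield.subset_closure ⟨x, hx, rfl⟩
  let φ : R' →+* K := RingHom.codRestrict ((algebraMap R L).comp R'.subtype) K (fun x => x.2)
  letI : Algebra R' K := φ.toAlgebra
  have hφ : ∀ a : R', ((algebraMap R' K a : K) : L) = algebraMap R L (a : R) := fun a => rfl
  have hinjL : Function.Injective (algebraMap R L) := IsFractionRing.injective R L
  have hinj : Function.Injective (algebraMap R' K) := by
    intro a b hab
    apply Subtype.ext
    apply hinjL
    rw [← hφ a, ← hφ b, hab]
  let W : MaximalSpectrum R → ValuationSubring K := fun m => (valSub R L hR m).comap K.subtype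
  have hA : ∀ x : K, x ∈ Set.range (algebraMap R' K) ↔ ∀ m, x ∈ W m := by
    intro x
    constructor
    · rintro ⟨a, rfl⟩ m
      show ((algebraMap R' K a : K) : L) ∈ valSub R L hR m
      rw [hφ]
      exact (mem_range_iff_forall_mem_valSub R L hR _).mp ⟨_, rfl⟩ m
    · intro h
      obtain ⟨r, hr⟩ : (x : L) ∈ (algebraMap R L).range :=
        (mem_range_iff_forall_mem_valSub R L hR _).mpr (fun m => h m)
      have hrR' : r ∈ R' := by
        show algebraMap R L r ∈ K
        rw [hr]; exact x.2
      exact ⟨⟨r, hrR'⟩, Subtype.ext hr⟩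
  haveI : Nonempty (MaximalSpectrum R) := by
    obtain ⟨m, hm⟩ := Ideal.exists_maximal R
    exact ⟨⟨m, hm⟩⟩
  -- generators of `K`
  let sK : Finset K := s.attach.image
    (fun x => (⟨algebraMap R L x.1, Subfield.subset_closure ⟨x.1, x.2, rfl⟩⟩ : K))
  have hsK : Subfield.closure (sK : Set K) = ⊤ := by
    have h1 : {z : K | (z : L) ∈ T} ⊆ (sK : Set K) := by
      rintro ⟨z, hz⟩ ⟨r, hr, rfl⟩
      simp only [sK, Finset.coe_image, Set.mem_image, Finset.mem_coe, Finset.mem_attach, true_and]
      exact ⟨⟨r, hr⟩, rfl⟩
    rw [eq_top_iff, ← closure_subtype_eq_top T]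
    exact Subfield.closure_mono h1
  refine ⟨R', hsR', fun p _ => valuationRing_localization W hinj hA p,
    finite_maximalSpectrum W hinj hA, ringKrullDim_lt_top W hinj hA sK hsK⟩

end Groth.Agent.Lib.Seat68.ValRank
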