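import Mathlib

/-!
# Seat69: basic facts on injective modules over a (Noetherian) commutative ring

* `injective_prod`, `injective_of_linearEquiv`, `injective_of_retract`, `injective_of_isCompl`
* `exists_isCompl_of_injective` : an injective submodule is a direct summand
* `injective_sSup_of_directed` : directed unions of injective submodules are injective (Noetherian)
* `injective_torsion'` : the `S`-torsion of an injective module is injective (Noetherian; Artin–Rees)
-/

namespace Groth.Agent.Lib.Seat69.InjBasic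

universe u

variable {A : Type u} [CommRing A]

theorem injective_prod (M N : Type u) [AddCommGroup M] [Module A M] [AddCommGroup N] [Module A N]
    [hM : Module.Injective A M] [hN : Module.Injective A N] : Module.Injective A (M × N) :=
  Module.Baer.injective fun I g => by
    obtain ⟨g1, h1⟩ := Module.Baer.of_injective hM I ((LinearMap.fst A M N).comp g)
    obtain ⟨g2, h2⟩ := Module.Baer.of_injective hN I ((LinearMap.snd A M N).comp g)
    exact ⟨g1.prod g2, fun x hx => Prod.ext (h1 x hx) (h2 x hx)⟩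

theorem injective_of_linearEquiv {M N : Type u} [AddCommGroup M] [Module A M] [AddCommGroup N]
    [Module A N] (e : M ≃ₗ[A] N) [hM : Module.Injective A M] : Module.Injective A N :=
  Module.Baer.injective (Module.Baer.of_equiv e (Module.Baer.of_injective hM))

theorem injective_of_retract {M N : Type u} [AddCommGroup M] [Module A M] [AddCommGroup N]
    [Module A N] (i : M →ₗ[A] N) (r : N →ₗ[A] M) (hri : ∀ x, r (i x) = x)
    [hN : Module.Injective A N] : Module.Injective A M where
  out X Y _ _ _ _ f hf g := by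
    obtain ⟨h, hh⟩ := hN.out f hf (i.comp g)
    exact ⟨r.comp h, fun x => by simp [hh x, hri]⟩

variable {J : Type u} [AddCommGroup J] [Module A J]

theorem injective_of_isCompl {K C : Submodule A J} (h : IsCompl K C) [Module.Injective A J] :
    Module.Injective A K :=
  injective_of_retract K.subtype (Submodule.projectionOnto K C h)
    (fun x => Submodule.projectionOnto_apply_left h x)

theorem exists_isCompl_of_injective (K : Submodule A J) [hK : Module.Injective A K] :
    ∃ C : Submodule A J, IsCompl K C := by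
  obtain ⟨h, hh⟩ := hK.out K.subtype K.subtype_injective LinearMap.id
  exact ⟨LinearMap.ker h, LinearMap.isCompl_of_proj hh⟩

theorem injective_sSup_of_directed [IsNoetherianRing A] (𝒞 : Set (Submodule A J))
    (hne : 𝒞.Nonempty) (hdir : DirectedOn (· ≤ ·) 𝒞)
    (hinj : ∀ K ∈ 𝒞, Module.Injective A K) : Module.Injective A (sSup 𝒞 : Submodule A J) := by
  refine Module.Baer.injective fun I g => ?_
  set N : Submodule A J := Submodule.map (sSup 𝒞).subtype (LinearMap.range g) with hN
  have hNfg : N.FG := by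
    apply Submodule.FG.map
    rw [LinearMap.range_eq_map]
    apply Submodule.FG.map
    exact Module.Finite.fg_top
  have hNle : N ≤ sSup 𝒞 := Submodule.map_subtype_le _ _
  obtain ⟨K, hK𝒞, hNK⟩ :=
    (CompleteLattice.isCompactElement_iff_le_of_directed_sSup_le _ N).mp
      ((Submodule.fg_iff_compact N).mp hNfg) 𝒞 hne hdir hNle
  have hmem : ∀ x : I, ((sSup 𝒞).subtype.comp g) x ∈ K := fun x =>
    hNK (Submodule.mem_map_of_mem (LinearMap.mem_range_self g x))
  let g' : I →ₗ[A] K := LinearMap.codRestrict K ((sSup 𝒞).subtype.comp g) hmem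
  obtain ⟨G, hG⟩ := Module.Baer.of_injective (hinj K hK𝒞) I g'
  refine ⟨(Submodule.inclusion (le_sSup hK𝒞)).comp G, fun x hx => ?_⟩
  apply Subtype.ext
  simp only [LinearMap.coe_comp, Function.comp_apply, Submodule.coe_inclusion, hG x hx]
  rfl

/-- a finitely generated submodule of the `S`-torsion is killed by a single element of `S` -/
theorem exists_smul_eq_zero_of_fg {K : Type u} [AddCommGroup K] [Module A K] (S : Submonoid A)
    (N : Submodule A K) (hN : N.FG) (hle : N ≤ Submodule.torsion' A K S) :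
    ∃ s ∈ S, ∀ x ∈ N, s • x = 0 := by
  revert hle
  refine Submodule.fg_induction (motive := fun N _ => N ≤ Submodule.torsion' A K S →
    ∃ s ∈ S, ∀ x ∈ N, s • x = 0) ?_ ?_ N hN
  · intro x hx
    obtain ⟨s, hs⟩ := (Submodule.mem_torsion'_iff _ _).mp (hx (Submodule.mem_span_singleton_self x))
    refine ⟨s.1, s.2, fun y hy => ?_⟩
    obtain ⟨r, rfl⟩ := Submodule.mem_span_singleton.mp hy
    rw [smul_comm]
    have : (s : A) • x = 0 := hs
    rw [this, smul_zero]
  · intro M₁ M₂ _ _ h₁ h₂ hle
    obtain ⟨s₁, hs₁, h₁⟩ := h₁ (le_sup_left.trans hle)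
    obtain ⟨s₂, hs₂, h₂⟩ := h₂ (le_sup_right.trans hle)
    refine ⟨s₁ * s₂, S.mul_mem hs₁ hs₂, fun x hx => ?_⟩
    obtain ⟨y, hy, z, hz, rfl⟩ := Submodule.mem_sup.mp hx
    rw [smul_add, mul_smul s₁ s₂ z, h₂ z hz, smul_zero, add_zero, mul_comm, mul_smul, h₁ y hy,
      smul_zero]

/-- The `S`-torsion submodule of an injective module over a Noetherian ring is injective. -/
theorem injective_torsion' [IsNoetherianRing A] (K : Type u) [AddCommGroup K] [Module A K]
    [hK : Module.Injective A K] (S : Submonoid A) :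
    Module.Injective A (Submodule.torsion' A K S) := by
  set T := Submodule.torsion' A K S with hT
  refine Module.Baer.injective fun I g => ?_
  -- a single `s ∈ S` kills the image of `g`
  obtain ⟨s, hsS, hs⟩ : ∃ s ∈ S, ∀ x : I, s • (g x : K) = 0 := by
    have hfg : (Submodule.map T.subtype (LinearMap.range g)).FG := by
      apply Submodule.FG.map
      rw [LinearMap.range_eq_map]
      exact Submodule.FG.map _ Module.Finite.fg_top
    obtain ⟨s, hsS, hs⟩ := exists_smul_eq_zero_of_fg S _ hfg (Submodule.map_subtype_le _ _)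
    exact ⟨s, hsS, fun x => hs _ (Submodule.mem_map_of_mem (LinearMap.mem_range_self g x))⟩
  -- Artin–Rees
  obtain ⟨k, hk⟩ := Ideal.exists_pow_inf_eq_pow_smul (Ideal.span {s}) (I : Submodule A A)
  set 𝔟 : Ideal A := Ideal.span {s} ^ (k + 1) with h𝔟
  have hAR : ∀ a ∈ I, a ∈ 𝔟 → ∃ b ∈ I, a = s * b := by
    intro a haI ha𝔟
    have h1 : a ∈ (Ideal.span {s} ^ (k + 1) • (⊤ : Submodule A A) ⊓ (I : Submodule A A)) := by
      refine ⟨?_, haI⟩
      simpa [h𝔟] using ha𝔟
    rw [hk (k + 1) (Nat.le_succ k), Nat.add_sub_cancel_left, pow_one] at h1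
    have h2 : a ∈ Ideal.span {s} * I := by
      exact Submodule.smul_mono le_rfl inf_le_right h1
    obtain ⟨b, hb, rfl⟩ := Ideal.mem_span_singleton_mul.mp h2
    exact ⟨b, hb, rfl⟩
  -- the submodule `I' = I ∩ 𝔟` of `I`
  set I' : Submodule A I := Submodule.comap I.subtype 𝔟 with hI'
  have hker : I' ≤ LinearMap.ker (T.subtype.comp g) := by
    intro x hx
    obtain ⟨b, hb, hab⟩ := hAR x.1 x.2 hx
    have hx' : x = s • (⟨b, hb⟩ : I) := Subtype.ext (by simpa using hab)
    rw [LinearMap.mem_ker, hx', map_smul]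
    exact hs ⟨b, hb⟩
  let gbar : (I ⧸ I') →ₗ[A] K := I'.liftQ (T.subtype.comp g) hker
  let ι : (I ⧸ I') →ₗ[A] (A ⧸ 𝔟) := I'.mapQ 𝔟 I.subtype le_rfl
  have hι : Function.Injective ι := by
    rw [injective_iff_map_eq_zero]
    intro y hy
    obtain ⟨x, rfl⟩ := Submodule.Quotient.mk_surjective _ y
    rw [Submodule.Quotient.mk_eq_zero]
    have : ι (Submodule.Quotient.mk x) = Submodule.Quotient.mk (x : A) := rfl
    rw [this, Submodule.Quotient.mk_eq_zero] at hy
    exact hy
  obtain ⟨h, hh⟩ := Module.Injective.extension_property A K _ _ ι hι gbar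
  let G0 : A →ₗ[A] K := h.comp 𝔟.mkQ
  have hG0 : ∀ a : A, G0 a ∈ T := by
    intro a
    rw [hT, Submodule.mem_torsion'_iff]
    refine ⟨⟨s ^ (k + 1), S.pow_mem hsS _⟩, ?_⟩
    change s ^ (k + 1) • G0 a = 0
    rw [← map_smul]
    have : (s ^ (k + 1) • a : A) ∈ 𝔟 := by
      rw [smul_eq_mul, h𝔟, Ideal.span_singleton_pow]
      exact Ideal.mul_mem_right _ _ (Ideal.mem_span_singleton_self _)
    change h (𝔟.mkQ _) = 0
    rw [Submodule.mkQ_apply, (Submodule.Quotient.mk_eq_zero _).mpr this, map_zero]
  refine ⟨LinearMap.codRestrict T G0 hG0, fun x hx => Subtype.ext ?_⟩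
  change h (Submodule.Quotient.mk x) = (g ⟨x, hx⟩ : K)
  have h1 : (Submodule.Quotient.mk x : A ⧸ 𝔟) = ι (Submodule.Quotient.mk ⟨x, hx⟩) := rfl
  rw [h1]
  have h2 := LinearMap.congr_fun hh (Submodule.Quotient.mk ⟨x, hx⟩)
  rw [LinearMap.comp_apply] at h2
  rw [h2]
  rfl

end Groth.Agent.Lib.Seat69.InjBasic
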