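import Mathlib
import Groth.Agent.Lib.Seat69InjBasic

/-!
# Seat69: local pieces of injective modules over a Noetherian ring

* `exists_minimal_inSupp` : a nonzero module over a Noetherian ring has a minimal prime in its support
* `exists_local_summand` : a nonzero injective module `K` has a nonzero injective direct summand `K'`
  on which every `s ∉ p` acts bijectively and all of whose elements are killed by a power of `p`.
-/

set_option linter.style.haveILetI false

namespace Groth.Agent.Lib.Seat69.InjLocal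

open Groth.Agent.Lib.Seat69.InjBasic

universe u

variable {A : Type u} [CommRing A]

/-- `p` is in the support of `K`, witnessed by an element whose annihilator lies in `p` -/
def InSupp (K : Type u) [AddCommGroup K] [Module A K] (p : Ideal A) : Prop :=
  ∃ x : K, ∀ a : A, a • x = 0 → a ∈ p

theorem exists_minimal_inSupp [IsNoetherianRing A] (K : Type u) [AddCommGroup K] [Module A K]
    [Nontrivial K] :
    ∃ p : Ideal A, p.IsPrime ∧ InSupp K p ∧
      ∀ q : Ideal A, q.IsPrime → InSupp K q → q ≤ p → q = p := by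
  obtain ⟨x, hx⟩ := exists_ne (0 : K)
  have hann : LinearMap.ker (LinearMap.toSpanSingleton A K x) ≠ ⊤ := by
    intro h
    have h1 : (1 : A) ∈ LinearMap.ker (LinearMap.toSpanSingleton A K x) := h ▸ Submodule.mem_top
    rw [LinearMap.mem_ker, LinearMap.toSpanSingleton_apply, one_smul] at h1
    exact hx h1
  obtain ⟨m, hm, hle⟩ := Ideal.exists_le_maximal _ hann
  let S : Set (Ideal A) := {p | p.IsPrime ∧ InSupp K p}
  have hne : S.Nonempty := ⟨m, hm.isPrime, x, fun a ha => hle (by
    rw [LinearMap.mem_ker, LinearMap.toSpanSingleton_apply]; exact ha)⟩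
  obtain ⟨p, hpS, hmin⟩ :=
    (InvImage.wf (fun p : Ideal A => p.height) wellFounded_lt).has_min S hne
  refine ⟨p, hpS.1, hpS.2, fun q hq hqs hqp => ?_⟩
  by_contra hne
  have hlt : q < p := lt_of_le_of_ne hqp hne
  haveI := hq
  exact hmin q ⟨hq, hqs⟩ (Ideal.height_strict_mono_of_isPrime hlt)

theorem exists_local_summand [IsNoetherianRing A] (K : Type u) [AddCommGroup K] [Module A K]
    [Module.Injective A K] [Nontrivial K] :
    ∃ (p : Ideal A) (_ : p.IsPrime) (K' : Submodule A K), K' ≠ ⊥ ∧ Module.Injective A K' ∧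
      (∀ s ∉ p, ∀ x ∈ K', s • x = 0 → x = 0) ∧ (∀ s ∉ p, ∀ x ∈ K', ∃ y ∈ K', s • y = x) ∧
      (∀ x ∈ K', ∃ n, ∀ a ∈ p ^ n, a • x = 0) := by
  obtain ⟨p, hp, hpS, hmin⟩ := exists_minimal_inSupp (A := A) K
  haveI := hp
  set T := Submodule.torsion' A K p.primeCompl with hT
  haveI : Module.Injective A T := injective_torsion' K p.primeCompl
  obtain ⟨K', hc⟩ := exists_isCompl_of_injective T
  haveI : Module.Injective A K' := injective_of_isCompl hc.symm
  have hb : ∀ s ∉ p, ∀ x ∈ K', s • x = 0 → x = 0 := by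
    intro s hs x hx h0
    have hxT : x ∈ T := (Submodule.mem_torsion'_iff _ _).mpr ⟨⟨s, hs⟩, h0⟩
    exact (Submodule.disjoint_def.mp hc.disjoint) x hxT hx
  refine ⟨p, hp, K', ?_, inferInstance, hb, ?_, ?_⟩
  · rintro rfl
    obtain ⟨x, hx⟩ := hpS
    have hT' : T = ⊤ := by simpa using hc.sup_eq_top
    have hxT : x ∈ T := hT' ▸ Submodule.mem_top
    obtain ⟨s, hs⟩ := (Submodule.mem_torsion'_iff _ _).mp hxT
    exact s.2 (hx s hs)
  · intro s hs x hx
    let μ : K' →ₗ[A] K' := LinearMap.lsmul A K' s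
    have hμ : Function.Injective μ := by
      rw [injective_iff_map_eq_zero]
      intro y hy
      exact Subtype.ext (hb s hs y y.2 (congrArg Subtype.val hy))
    obtain ⟨h, hh⟩ := Module.Injective.extension_property A K' _ _ μ hμ LinearMap.id
    refine ⟨h ⟨x, hx⟩, (h ⟨x, hx⟩).2, ?_⟩
    have h1 := LinearMap.congr_fun hh ⟨x, hx⟩
    rw [LinearMap.comp_apply, LinearMap.id_apply] at h1
    have h2 : h (s • ⟨x, hx⟩) = ⟨x, hx⟩ := h1
    rw [map_smul] at h2
    exact congrArg Subtype.val h2
  · intro x hx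
    set I : Ideal A := LinearMap.ker (LinearMap.toSpanSingleton A K x) with hI
    have hIx : ∀ a, a ∈ I ↔ a • x = 0 := fun a => by
      rw [hI, LinearMap.mem_ker, LinearMap.toSpanSingleton_apply]
    have hrad : p ≤ I.radical := by
      rw [← Ideal.sInf_minimalPrimes]
      refine le_sInf fun q hq => ?_
      have hqprime : q.IsPrime := hq.1.1
      have hqp : q ≤ p := by
        by_contra hnot
        obtain ⟨s, hsq, hsp⟩ := Set.not_subset.mp hnot
        obtain ⟨y, hyI, hsy⟩ := Ideal.exists_mul_mem_of_mem_minimalPrimes hq hsq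
        apply hyI
        rw [hIx] at hsy ⊢
        exact hb s hsp (y • x) (K'.smul_mem y hx) (by rwa [← mul_smul])
      have : q = p := hmin q hqprime ⟨x, fun a ha => hq.1.2 ((hIx a).mpr ha)⟩ hqp
      exact this.ge
    obtain ⟨n, hn⟩ := Ideal.exists_pow_le_of_le_radical_of_fg hrad (IsNoetherian.noetherian p)
    exact ⟨n, fun a ha => (hIx a).mp (hn ha)⟩

end Groth.Agent.Lib.Seat69.InjLocal
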