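import Mathlib
import Groth.Agent.Lib.Seat69InjBasic
import Groth.Agent.Lib.Seat69InjLocal

/-!
# Seat69: modules of "Artinian type" (finite over an Artinian algebra) and injective modules

* `ArtType A N` : `N` is `A`-isomorphic to a finite module over an Artinian `A`-algebra
* closure: `ArtType.of_linearEquiv`, `ArtType.of_subsingleton`, `ArtType.prod`, `ArtType.exists_module`
* `artType_of_local` : finitely generated `A_p`-submodules of a `p`-power torsion `A_p`-module
* `exists_good_family` : a nonzero injective submodule contains a nonzero injective submodule that is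
  a directed union of submodules of Artinian type
-/

set_option linter.style.haveILetI false

namespace Groth.Agent.Lib.Seat69.ArtinType

open Groth.Agent.Lib.Seat69.InjBasic Groth.Agent.Lib.Seat69.InjLocal

universe u

/-- an `A`-module is of Artinian type if it is `A`-isomorphic to a finite module over an Artinian
`A`-algebra -/
def ArtType (A : Type u) [CommRing A] (N : Type u) [AddCommGroup N] [Module A N] : Prop :=
  ∃ (B : Type u) (_ : CommRing B) (_ : Algebra A B) (_ : IsArtinianRing B) (M : Type u)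
    (_ : AddCommGroup M) (_ : Module A M) (_ : Module B M) (_ : IsScalarTower A B M)
    (_ : Module.Finite B M), Nonempty (M ≃ₗ[A] N)

variable {A : Type u} [CommRing A]

theorem ArtType.of_linearEquiv {N N' : Type u} [AddCommGroup N] [Module A N] [AddCommGroup N']
    [Module A N'] (e : N ≃ₗ[A] N') (h : ArtType A N) : ArtType A N' := by
  obtain ⟨B, i1, i2, i3, M, i4, i5, i6, i7, i8, ⟨e'⟩⟩ := h
  exact ⟨B, i1, i2, i3, M, i4, i5, i6, i7, i8, ⟨e'.trans e⟩⟩

theorem ArtType.of_subsingleton (N : Type u) [AddCommGroup N] [Module A N] [Subsingleton N] :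
    ArtType A N := by
  haveI : Subsingleton (A ⧸ (⊤ : Ideal A)) := Ideal.Quotient.subsingleton_iff.mpr rfl
  haveI : Finite (A ⧸ (⊤ : Ideal A)) := Finite.of_subsingleton
  exact ⟨A ⧸ (⊤ : Ideal A), inferInstance, inferInstance, inferInstance, PUnit.{u + 1},
    inferInstance, inferInstance, inferInstance, inferInstance, inferInstance,
    ⟨LinearEquiv.ofSubsingleton _ _⟩⟩

theorem finite_compHom {B B' : Type u} [CommRing B] [CommRing B'] (f : B →+* B')
    (hf : Function.Surjective f) (M : Type u) [AddCommGroup M] [Module B' M]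
    [hM : Module.Finite B' M] : @Module.Finite B M _ _ (Module.compHom M f) := by
  letI := Module.compHom M f
  obtain ⟨s, hs⟩ := Module.finite_def.mp hM
  refine ⟨s, ?_⟩
  rw [eq_top_iff]
  intro x hx0
  clear hx0
  have hx : x ∈ Submodule.span B' (s : Set M) := hs ▸ Submodule.mem_top
  induction hx using Submodule.span_induction with
  | mem y hy => exact Submodule.subset_span hy
  | zero => exact zero_mem _
  | add y z _ _ hy hz => exact add_mem hy hz
  | smul b y _ hy =>
    obtain ⟨b', rfl⟩ := hf b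
    exact Submodule.smul_mem _ b' hy

theorem ArtType.prod {N1 N2 : Type u} [AddCommGroup N1] [Module A N1] [AddCommGroup N2]
    [Module A N2] (h1 : ArtType A N1) (h2 : ArtType A N2) : ArtType A (N1 × N2) := by
  obtain ⟨B1, _, _, _, M1, _, _, _, _, _, ⟨e1⟩⟩ := h1
  obtain ⟨B2, _, _, _, M2, _, _, _, _, _, ⟨e2⟩⟩ := h2
  letI m1 : Module (B1 × B2) M1 := Module.compHom M1 (RingHom.fst B1 B2)
  letI m2 : Module (B1 × B2) M2 := Module.compHom M2 (RingHom.snd B1 B2)
  haveI t1 : IsScalarTower A (B1 × B2) M1 := ⟨fun a b m => by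
    change (a • b).1 • m = a • (b.1 • m)
    rw [Prod.smul_fst, smul_assoc]⟩
  haveI t2 : IsScalarTower A (B1 × B2) M2 := ⟨fun a b m => by
    change (a • b).2 • m = a • (b.2 • m)
    rw [Prod.smul_snd, smul_assoc]⟩
  haveI f1 : Module.Finite (B1 × B2) M1 :=
    finite_compHom (RingHom.fst B1 B2) (fun b => ⟨(b, 0), rfl⟩) M1
  haveI f2 : Module.Finite (B1 × B2) M2 :=
    finite_compHom (RingHom.snd B1 B2) (fun b => ⟨(0, b), rfl⟩) M2
  exact ⟨B1 × B2, inferInstance, inferInstance, inferInstance, M1 × M2, inferInstance,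
    inferInstance, inferInstance, inferInstance, inferInstance, ⟨e1.prodCongr e2⟩⟩

theorem ArtType.exists_module {N : Type u} [AddCommGroup N] [Module A N] (h : ArtType A N) :
    ∃ (B : Type u) (_ : CommRing B) (_ : Algebra A B) (_ : IsArtinianRing B) (_ : Module B N)
      (_ : IsScalarTower A B N), Module.Finite B N := by
  obtain ⟨B, _, _, _, M, _, _, _, _, _, ⟨e⟩⟩ := h
  letI : Module B N := e.symm.toAddEquiv.module B
  refine ⟨B, inferInstance, inferInstance, inferInstance, inferInstance, ⟨fun a b n => ?_⟩, ?_⟩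
  · change e ((a • b) • e.symm n) = a • e (b • e.symm n)
    rw [smul_assoc, map_smul]
  · exact Module.Finite.equiv (e.symm.toAddEquiv.linearEquiv B).symm

section Local

variable [IsNoetherianRing A] (p : Ideal A) [p.IsPrime] (L : Type u) [AddCommGroup L] [Module A L]
  [Module (Localization.AtPrime p) L] [IsScalarTower A (Localization.AtPrime p) L]

/-- the obvious `A`-linear identification -/
def rsEquiv (N : Submodule (Localization.AtPrime p) L) : ↥(N.restrictScalars A) ≃ₗ[A] ↥N where
  toFun x := ⟨x.1, x.2⟩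
  invFun x := ⟨x.1, x.2⟩
  map_add' _ _ := rfl
  map_smul' _ _ := rfl
  left_inv _ := rfl
  right_inv _ := rfl

omit [IsNoetherianRing A] in
theorem exists_pow_smul_eq_zero (htors : ∀ x : L, ∃ n, ∀ a ∈ p ^ n, a • x = 0)
    (N : Submodule (Localization.AtPrime p) L) (hN : N.FG) :
    ∃ n : ℕ, ∀ b ∈ IsLocalRing.maximalIdeal (Localization.AtPrime p) ^ n, ∀ x ∈ N, b • x = 0 := by
  refine Submodule.fg_induction (motive := fun N _ => ∃ n : ℕ,
    ∀ b ∈ IsLocalRing.maximalIdeal (Localization.AtPrime p) ^ n, ∀ x ∈ N, b • x = 0) ?_ ?_ N hN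
  · intro x
    obtain ⟨n, hn⟩ := htors x
    refine ⟨n, fun b hb y hy => ?_⟩
    obtain ⟨r, rfl⟩ := Submodule.mem_span_singleton.mp hy
    rw [smul_comm]
    have hbx : b • x = 0 := by
      rw [← Localization.AtPrime.map_eq_maximalIdeal, ← Ideal.map_pow, Ideal.map] at hb
      induction hb using Submodule.span_induction with
      | mem c hc =>
        obtain ⟨a, ha, rfl⟩ := hc
        rw [algebraMap_smul]
        exact hn a ha
      | zero => rw [zero_smul]
      | add c d _ _ hc hd => rw [add_smul, hc, hd, add_zero]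
      | smul r c _ hc => rw [smul_eq_mul, mul_smul, hc, smul_zero]
    rw [hbx, smul_zero]
  · intro N₁ N₂ _ _ h₁ h₂
    obtain ⟨n₁, h₁⟩ := h₁
    obtain ⟨n₂, h₂⟩ := h₂
    refine ⟨n₁ + n₂, fun b hb x hx => ?_⟩
    obtain ⟨y, hy, z, hz, rfl⟩ := Submodule.mem_sup.mp hx
    rw [smul_add, h₁ b (Ideal.pow_le_pow_right (Nat.le_add_right _ _) hb) y hy,
      h₂ b (Ideal.pow_le_pow_right (Nat.le_add_left _ _) hb) z hz, add_zero]

theorem artType_of_local (htors : ∀ x : L, ∃ n, ∀ a ∈ p ^ n, a • x = 0)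
    (N : Submodule (Localization.AtPrime p) L) (hN : N.FG) : ArtType A ↥N := by
  obtain ⟨n, hn⟩ := exists_pow_smul_eq_zero p L htors N hN
  haveI : IsNoetherianRing (Localization.AtPrime p) :=
    IsLocalization.isNoetherianRing p.primeCompl _ inferInstance
  set 𝔪 := IsLocalRing.maximalIdeal (Localization.AtPrime p) with h𝔪
  have hmin : 𝔪 ∈ (𝔪 ^ (n + 1)).minimalPrimes := by
    refine ⟨⟨inferInstance, Ideal.pow_le_self (Nat.succ_ne_zero n)⟩, fun q hq _ => ?_⟩
    exact hq.1.le_of_pow_le hq.2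
  haveI : IsArtinianRing (Localization.AtPrime p ⧸ 𝔪 ^ (n + 1)) :=
    IsLocalRing.quotient_artinian_of_mem_minimalPrimes_of_isLocalRing _ hmin
  have hM : Module.IsTorsionBySet (Localization.AtPrime p) ↥N ((𝔪 ^ (n + 1) : Ideal _) : Set _) := by
    intro x b
    apply Subtype.ext
    exact hn b.1 (Ideal.pow_le_pow_right (Nat.le_succ n) b.2) x.1 x.2
  letI : Module (Localization.AtPrime p ⧸ 𝔪 ^ (n + 1)) ↥N := hM.module
  haveI : Module.Finite (Localization.AtPrime p) ↥N := Module.Finite.iff_fg.mpr hN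
  haveI : Module.Finite (Localization.AtPrime p ⧸ 𝔪 ^ (n + 1)) ↥N :=
    Module.Finite.of_restrictScalars_finite (Localization.AtPrime p) _ _
  exact ⟨Localization.AtPrime p ⧸ 𝔪 ^ (n + 1), inferInstance, inferInstance, inferInstance, ↥N,
    inferInstance, inferInstance, inferInstance, inferInstance, inferInstance,
    ⟨LinearEquiv.refl A _⟩⟩

end Local

section Family

variable [IsNoetherianRing A] {J : Type u} [AddCommGroup J] [Module A J]

/-- the family of images of finitely generated `A_p`-submodules -/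
def localFamily (p : Ideal A) [p.IsPrime] {L : Type u} [AddCommGroup L] [Module A L]
    [Module (Localization.AtPrime p) L] [IsScalarTower A (Localization.AtPrime p) L]
    (φ : L →ₗ[A] J) : Set (Submodule A J) :=
  {N | ∃ N'' : Submodule (Localization.AtPrime p) L,
    N''.FG ∧ N = Submodule.map φ (N''.restrictScalars A)}

theorem localFamily_spec (p : Ideal A) [p.IsPrime] (L : Type u) [AddCommGroup L] [Module A L]
    [Module (Localization.AtPrime p) L] [IsScalarTower A (Localization.AtPrime p) L]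
    (htors : ∀ x : L, ∃ n, ∀ a ∈ p ^ n, a • x = 0) (φ : L →ₗ[A] J)
    (hφ : Function.Injective φ) :
    ⊥ ∈ localFamily p φ ∧ DirectedOn (· ≤ ·) (localFamily p φ) ∧
      (∀ N ∈ localFamily p φ, ArtType A ↥N) ∧ sSup (localFamily p φ) = LinearMap.range φ := by
  refine ⟨⟨⊥, Submodule.fg_bot, by simp⟩, ?_, ?_, ?_⟩
  · rintro _ ⟨N₁, h₁, rfl⟩ _ ⟨N₂, h₂, rfl⟩
    refine ⟨_, ⟨N₁ ⊔ N₂, h₁.sup h₂, rfl⟩, ?_, ?_⟩
    · exact Submodule.map_mono (fun x hx => (le_sup_left : N₁ ≤ N₁ ⊔ N₂) hx)
    · exact Submodule.map_mono (fun x hx => (le_sup_right : N₂ ≤ N₁ ⊔ N₂) hx)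
  · rintro _ ⟨N'', hfg, rfl⟩
    have h1 : ArtType A ↥N'' := artType_of_local p L htors N'' hfg
    exact (h1.of_linearEquiv (rsEquiv p L N'').symm).of_linearEquiv
      (Submodule.equivMapOfInjective φ hφ _)
  · apply le_antisymm
    · refine sSup_le ?_
      rintro N ⟨N'', -, rfl⟩
      exact LinearMap.map_le_range
    · rintro _ ⟨y, rfl⟩
      have hmem : Submodule.map φ
          ((Submodule.span (Localization.AtPrime p) {y}).restrictScalars A) ∈ localFamily p φ :=
        ⟨_, Submodule.fg_span_singleton y, rfl⟩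
      refine Submodule.mem_sSup_of_mem hmem ?_
      exact Submodule.mem_map_of_mem (Submodule.subset_span rfl)

theorem exists_good_family (C : Submodule A J) [Module.Injective A C] (hC : C ≠ ⊥) :
    ∃ 𝒟 : Set (Submodule A J), ⊥ ∈ 𝒟 ∧ DirectedOn (· ≤ ·) 𝒟 ∧ (∀ N ∈ 𝒟, ArtType A ↥N) ∧
      (∀ N ∈ 𝒟, N ≤ C) ∧ Module.Injective A (sSup 𝒟 : Submodule A J) ∧ sSup 𝒟 ≠ ⊥ := by
  haveI : Nontrivial ↥C := (Submodule.nontrivial_iff_ne_bot).mpr hC
  obtain ⟨p, hp, K', hK'ne, hK'inj, hb, hc, hd⟩ := exists_local_summand (A := A) ↥C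
  haveI := hp
  haveI := hK'inj
  -- `K'` is its own localization at `p`
  haveI hloc : IsLocalizedModule p.primeCompl (LinearMap.id : ↥K' →ₗ[A] ↥K') := by
    refine ⟨fun s => ?_, fun y => ⟨(y, 1), by simp⟩, fun {x₁ x₂} h => ⟨1, by simpa using h⟩⟩
    rw [Module.End.isUnit_iff]
    constructor
    · rw [injective_iff_map_eq_zero]
      intro y hy
      exact Subtype.ext (hb s.1 s.2 y.1 y.2 (congrArg Subtype.val hy))
    · intro y
      obtain ⟨z, hz, hzy⟩ := hc s.1 s.2 y.1 y.2
      exact ⟨⟨z, hz⟩, Subtype.ext hzy⟩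
  let e : LocalizedModule p.primeCompl ↥K' ≃ₗ[A] ↥K' :=
    IsLocalizedModule.iso p.primeCompl (LinearMap.id : ↥K' →ₗ[A] ↥K')
  let φ : LocalizedModule p.primeCompl ↥K' →ₗ[A] J :=
    C.subtype.comp (K'.subtype.comp e.toLinearMap)
  have hφ : Function.Injective φ :=
    C.subtype_injective.comp (K'.subtype_injective.comp e.injective)
  have htors : ∀ y : LocalizedModule p.primeCompl ↥K', ∃ n, ∀ a ∈ p ^ n, a • y = 0 := by
    intro y
    obtain ⟨n, hn⟩ := hd (e y).1 (e y).2
    refine ⟨n, fun a ha => ?_⟩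
    apply e.injective
    rw [map_smul, map_zero]
    exact Subtype.ext (hn a ha)
  obtain ⟨h1, h2, h3, hsup⟩ :=
    localFamily_spec (J := J) p (LocalizedModule p.primeCompl ↥K') htors φ hφ
  refine ⟨_, h1, h2, h3, ?_, ?_, ?_⟩
  · rintro _ ⟨N'', -, rfl⟩
    rintro _ ⟨y, -, rfl⟩
    exact (K'.subtype (e y)).2
  · rw [hsup]
    haveI : Module.Injective A (LocalizedModule p.primeCompl ↥K') :=
      injective_of_linearEquiv (M := ↥K') e.symm
    exact injective_of_linearEquiv (M := LocalizedModule p.primeCompl ↥K')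
      (LinearEquiv.ofInjective φ hφ)
  · rw [hsup]
    intro h0
    apply hK'ne
    rw [eq_bot_iff]
    intro x hx
    have h1 : φ (e.symm ⟨x, hx⟩) ∈ LinearMap.range φ := LinearMap.mem_range_self _ _
    rw [h0, Submodule.mem_bot] at h1
    have h2 : e.symm ⟨x, hx⟩ = 0 := hφ (by rw [h1, map_zero])
    have h3 : (⟨x, hx⟩ : ↥K') = 0 := by
      rw [← e.apply_symm_apply ⟨x, hx⟩, h2, map_zero]
    exact congrArg Subtype.val h3

end Family

end Groth.Agent.Lib.Seat69.ArtinType
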