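import Mathlib

/-!
# Seat69: endomorphisms of a canonical ideal

`O` a one-dimensional Noetherian local domain with fraction field `K`, `ω ⊆ K` a nonzero finitely
generated `O`-submodule such that `Ext^i(M, ω) = 0` (`i ≥ 1`) for finitely generated torsion-free
`M` (`Vanishing ω`).

* `exists_socle` : some `z ∉ ω` has `m z ⊆ ω`
* `linearMap_eq_mul` : linear maps between submodules of `K` are multiplications
* `end_omega` : every endomorphism of `ω` is multiplication by an element of `O`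
-/

set_option linter.style.haveILetI false

namespace Groth.Agent.Lib.Seat69.CanonEnd

open CategoryTheory

universe u

variable {O : Type u} [CommRing O] [IsDomain O] [IsNoetherianRing O] [IsLocalRing O]
  {K : Type u} [Field K] [Algebra O K] [IsFractionRing O K]

/-- the vanishing hypothesis (provided by S15013) -/
def Vanishing (ω : Submodule O K) : Prop :=
  ∀ (M : Type u) [AddCommGroup M] [Module O M] [Module.Finite O M] [NoZeroSMulDivisors O M]
    (i : ℕ), 1 ≤ i → Subsingleton (Abelian.Ext (ModuleCat.of O M) (ModuleCat.of O ↥ω) i)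

omit [IsDomain O] [IsNoetherianRing O] in
theorem exists_ne_zero_mem_maximalIdeal (hdim : ringKrullDim O = 1) :
    ∃ x ∈ IsLocalRing.maximalIdeal O, x ≠ 0 := by
  by_contra h
  push Not at h
  have hbot : IsLocalRing.maximalIdeal O = ⊥ := by
    rw [eq_bot_iff]
    intro x hx
    exact h x hx
  have hf : IsField O := IsLocalRing.isField_iff_maximalIdeal_eq.mpr hbot
  have := ringKrullDim_eq_zero_of_isField hf
  rw [hdim] at this
  exact one_ne_zero this

omit [IsNoetherianRing O] in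
theorem maximalIdeal_le_radical (hdim : ringKrullDim O = 1) {x : O} (hx0 : x ≠ 0) :
    IsLocalRing.maximalIdeal O ≤ (Ideal.span {x}).radical := by
  haveI : Ring.KrullDimLE 1 O := Ring.krullDimLE_iff.mpr (le_of_eq hdim)
  rw [Ideal.radical_eq_sInf]
  refine le_sInf ?_
  rintro p ⟨hxp, hp⟩
  have hpne : p ≠ ⊥ := by
    rintro rfl
    exact hx0 (by simpa using hxp (Ideal.mem_span_singleton_self x))
  have hmax : p.IsMaximal := hp.isMaximal_of_ne_bot hpne
  rw [IsLocalRing.eq_maximalIdeal hmax]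

theorem exists_socle (hdim : ringKrullDim O = 1) (ω : Submodule O K) (hω0 : ω ≠ ⊥)
    (hωfg : ω.FG) : ∃ z : K, z ∉ ω ∧ ∀ a ∈ IsLocalRing.maximalIdeal O, a • z ∈ ω := by
  classical
  obtain ⟨x, hxm, hx0⟩ := exists_ne_zero_mem_maximalIdeal hdim
  obtain ⟨n, hn⟩ := Ideal.exists_pow_le_of_le_radical_of_fg (maximalIdeal_le_radical hdim hx0)
    (IsNoetherian.noetherian _)
  have hex : ∃ n : ℕ, (IsLocalRing.maximalIdeal O) ^ n • ω ≤ Ideal.span {x} • ω :=
    ⟨n, Submodule.smul_mono_left hn⟩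
  have h0 : Nat.find hex ≠ 0 := by
    intro h0
    have h1 := Nat.find_spec hex
    rw [h0, pow_zero, Ideal.one_eq_top, Submodule.top_smul] at h1
    apply hω0
    refine Submodule.eq_bot_of_le_smul_of_le_jacobson_bot (Ideal.span {x}) ω hωfg h1 ?_
    rw [Ideal.span_singleton_le_iff_mem]
    exact (IsLocalRing.maximalIdeal_le_jacobson ⊥) hxm
  obtain ⟨k, hk⟩ := Nat.exists_eq_succ_of_ne_zero h0
  have hk1 : ¬ ((IsLocalRing.maximalIdeal O) ^ k • ω ≤ Ideal.span {x} • ω) :=
    Nat.find_min hex (by omega)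
  have hk2 : (IsLocalRing.maximalIdeal O) ^ (k + 1) • ω ≤ Ideal.span {x} • ω := by
    have := Nat.find_spec hex
    rwa [hk] at this
  obtain ⟨y, hy, hyx⟩ := Set.not_subset.mp hk1
  have hxK : (algebraMap O K x) ≠ 0 := by
    rw [Ne, FaithfulSMul.algebraMap_eq_zero_iff]
    exact hx0
  refine ⟨(algebraMap O K x)⁻¹ * y, ?_, ?_⟩
  · intro hz
    apply hyx
    rw [Submodule.ideal_span_singleton_smul]
    refine (Submodule.mem_smul_pointwise_iff_exists _ _ _).mpr ⟨_, hz, ?_⟩
    rw [Algebra.smul_def, ← mul_assoc, mul_inv_cancel₀ hxK, one_mul]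
  · intro a ha
    have h1 : a • y ∈ Ideal.span {x} • ω := by
      apply hk2
      rw [pow_succ', mul_smul]
      exact Submodule.smul_mem_smul ha hy
    rw [Submodule.ideal_span_singleton_smul] at h1
    obtain ⟨w, hw, hxw⟩ := (Submodule.mem_smul_pointwise_iff_exists _ _ _).mp h1
    have : a • ((algebraMap O K x)⁻¹ * y) = w := by
      rw [Algebra.smul_def] at hxw ⊢
      rw [mul_left_comm, ← Algebra.smul_def a y, ← hxw, ← mul_assoc,
        inv_mul_cancel₀ hxK, one_mul]
    rw [this]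
    exact hw

omit [IsNoetherianRing O] [IsLocalRing O] in
/-- linear maps between submodules of `K` are multiplications by elements of `K` -/
theorem linearMap_eq_mul (I J : Submodule O K) (φ : I →ₗ[O] J) :
    ∃ b : K, ∀ x : I, (φ x : K) = b * x := by
  by_cases hI : ∃ x₀ : I, (x₀ : K) ≠ 0
  · obtain ⟨x₀, hx₀⟩ := hI
    refine ⟨(φ x₀ : K) * (x₀ : K)⁻¹, fun x => ?_⟩
    obtain ⟨⟨n₁, d₁⟩, h₁⟩ := IsLocalization.surj (nonZeroDivisors O) (x : K)
    obtain ⟨⟨n₂, d₂⟩, h₂⟩ := IsLocalization.surj (nonZeroDivisors O) (x₀ : K)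
    -- `(d₂ n₁) • x₀ = (d₁ n₂) • x` in `I`
    have hd₁ : algebraMap O K d₁ ≠ 0 := by
      rw [Ne, FaithfulSMul.algebraMap_eq_zero_iff]
      exact nonZeroDivisors.ne_zero d₁.2
    have hd₂ : algebraMap O K d₂ ≠ 0 := by
      rw [Ne, FaithfulSMul.algebraMap_eq_zero_iff]
      exact nonZeroDivisors.ne_zero d₂.2
    have key : ((d₂ : O) * n₁) • x₀ = ((d₁ : O) * n₂) • x := by
      apply Subtype.ext
      simp only [Submodule.coe_smul, Algebra.smul_def, map_mul]
      simp only at h₁ h₂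
      rw [← h₁, ← h₂]
      ring
    have key2 := congrArg (fun t => ((φ t : J) : K)) key
    simp only [map_smul, Submodule.coe_smul, Algebra.smul_def, map_mul] at key2
    simp only at h₁ h₂
    rw [← h₁, ← h₂] at key2
    have hx₀' : (x₀ : K) ≠ 0 := hx₀
    field_simp
    field_simp at key2
    linear_combination (-1 : K) * key2
  · push Not at hI
    refine ⟨0, fun x => ?_⟩
    have hx : x = 0 := Subtype.ext (hI x)
    rw [hx, map_zero]
    simp

omit [IsDomain O] [IsNoetherianRing O] [IsLocalRing O] in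
theorem nzsd_K : NoZeroSMulDivisors O K :=
  ⟨fun {c x} h => by
    rw [Algebra.smul_def, mul_eq_zero] at h
    exact h.imp (fun h => (FaithfulSMul.algebraMap_eq_zero_iff O K).mp h) id⟩

/-- submodules of torsion-free modules are torsion-free -/
theorem nzsd_submodule {R M : Type*} [CommRing R] [AddCommGroup M] [Module R M]
    [NoZeroSMulDivisors R M] (N : Submodule R M) : NoZeroSMulDivisors R N :=
  Function.Injective.noZeroSMulDivisors N.subtype N.subtype_injective rfl (fun _ _ => rfl)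

/-- every endomorphism of `ω` is multiplication by an element of `O` -/
theorem end_omega (hdim : ringKrullDim O = 1) (ω : Submodule O K) (hω0 : ω ≠ ⊥) (hωfg : ω.FG)
    (hvan : Vanishing ω) (φ : ω →ₗ[O] ω) : ∃ a : O, ∀ x : ω, φ x = a • x := by
  classical
  obtain ⟨b, hb⟩ := linearMap_eq_mul ω ω φ
  have hbω : ∀ w ∈ ω, b * w ∈ ω := fun w hw => by
    rw [← hb ⟨w, hw⟩]
    exact (φ ⟨w, hw⟩).2
  by_cases hbO : b ∈ Set.range (algebraMap O K)
  · obtain ⟨a, rfl⟩ := hbO
    exact ⟨a, fun x => Subtype.ext (by rw [hb x, Submodule.coe_smul, Algebra.smul_def])⟩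
  exfalso
  obtain ⟨z, hzω, hz⟩ := exists_socle hdim ω hω0 hωfg
  let B₁ : Submodule O K := Submodule.span O {1, b}
  have h1B : (1 : K) ∈ B₁ := Submodule.subset_span (by simp)
  have hbB : b ∈ B₁ := Submodule.subset_span (by simp)
  haveI : Module.Finite O B₁ :=
    Module.Finite.span_of_finite O (by simp : ({1, b} : Set K).Finite)
  haveI : NoZeroSMulDivisors O K := nzsd_K
  haveI : NoZeroSMulDivisors O B₁ := nzsd_submodule B₁
  have hB₁ω : ∀ y ∈ B₁, ∀ w ∈ ω, y * w ∈ ω := by
    intro y hy w hw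
    induction hy using Submodule.span_induction with
    | mem y hy =>
      rcases hy with rfl | rfl
      · simpa using hw
      · exact hbω w hw
    | zero => simp
    | add y y' _ _ h h' =>
      rw [add_mul]
      exact ω.add_mem h h'
    | smul r y _ h =>
      rw [smul_mul_assoc]
      exact ω.smul_mem r h
  let ι : O →ₗ[O] B₁ := LinearMap.toSpanSingleton O B₁ ⟨1, h1B⟩
  have hι1 : ∀ a : O, ((ι a : B₁) : K) = algebraMap O K a := fun a => by
    simp [ι, Algebra.smul_def]
  have hι : Function.Injective ι := by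
    rw [injective_iff_map_eq_zero]
    intro a ha
    have h1 := congrArg Subtype.val ha
    rw [hι1] at h1
    exact (FaithfulSMul.algebraMap_eq_zero_iff O K).mp h1
  let S : ShortComplex (ModuleCat.{u} O) :=
    ModuleCat.shortComplexOfCompEqZero ι (LinearMap.range ι).mkQ (by
      ext
      simp)
  have hS : S.ShortExact := by
    refine ModuleCat.shortComplex_shortExact S ?_ hι (Submodule.mkQ_surjective _)
    intro y
    change (LinearMap.range ι).mkQ y = 0 ↔ y ∈ Set.range ι
    rw [Submodule.mkQ_apply, Submodule.Quotient.mk_eq_zero]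
    rfl
  -- Step 1: `Ext¹(Q, ω) = 0`
  have hQ : ∀ x₃ : Abelian.Ext (ModuleCat.of O (↥B₁ ⧸ LinearMap.range ι)) (ModuleCat.of O ↥ω) 1,
      x₃ = 0 := by
    intro x₃
    have h2 : (Abelian.Ext.mk₀ S.g).comp x₃ (zero_add 1) = 0 := by
      haveI := hvan B₁ 1 le_rfl
      exact Subsingleton.elim _ _
    obtain ⟨x₁, hx₁⟩ :=
      Abelian.Ext.contravariant_sequence_exact₃ hS _ x₃ h2 (show 1 + 0 = 1 by rfl)
    obtain ⟨g₀, rfl⟩ := (Abelian.Ext.mk₀_bijective _ _).2 x₁
    let w : ω := g₀.hom (1 : O)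
    let g' : B₁ →ₗ[O] ω := LinearMap.codRestrict ω
      ((LinearMap.mulRight O (w : K)).comp B₁.subtype) (fun y => hB₁ω y y.2 w w.2)
    have hfac : S.f ≫ ModuleCat.ofHom g' = g₀ := by
      apply ModuleCat.hom_ext
      apply LinearMap.ext_ring
      apply Subtype.ext
      change ((ι 1 : B₁) : K) * (w : K) = _
      rw [hι1, map_one, one_mul]
    rw [← hx₁, ← hfac, ← Abelian.Ext.mk₀_comp_mk₀]
    exact hS.extClass_comp_assoc _
  -- Step 2
  let bB : B₁ := ⟨b, hbB⟩
  let ρ : O →ₗ[O] (↥B₁ ⧸ LinearMap.range ι) :=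
    (LinearMap.range ι).mkQ.comp (LinearMap.toSpanSingleton O B₁ bB)
  have hρa : ∀ a : O, ρ a = (LinearMap.range ι).mkQ (a • bB) := fun a => rfl
  have hρ : Function.Surjective ρ := by
    intro q
    obtain ⟨y, rfl⟩ := Submodule.mkQ_surjective _ q
    obtain ⟨a₁, a₂, hy⟩ := Submodule.mem_span_pair.mp y.2
    refine ⟨a₂, ?_⟩
    rw [hρa, Submodule.mkQ_apply, Submodule.mkQ_apply, Submodule.Quotient.eq]
    refine ⟨-a₁, Subtype.ext ?_⟩
    rw [hι1]
    simp only [Submodule.coe_sub, Submodule.coe_smul, bB, ← hy, Algebra.smul_def, map_neg]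
    ring
  have hS' := LinearMap.shortExact_shortComplexKer hρ
  have hI1 : (1 : O) ∉ LinearMap.ker ρ := by
    intro h1
    rw [LinearMap.mem_ker, hρa, one_smul, Submodule.mkQ_apply, Submodule.Quotient.mk_eq_zero] at h1
    obtain ⟨a, ha⟩ := h1
    apply hbO
    refine ⟨a, ?_⟩
    rw [← hι1, ha]
  have hIm : (LinearMap.ker ρ : Ideal O) ≤ IsLocalRing.maximalIdeal O :=
    IsLocalRing.le_maximalIdeal (by rwa [Ne, Ideal.eq_top_iff_one])
  let h : ↥(LinearMap.ker ρ) →ₗ[O] ω := LinearMap.codRestrict ω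
    ((LinearMap.toSpanSingleton O K z).comp (LinearMap.ker ρ).subtype) (fun a => hz a (hIm a.2))
  have h0 := hQ (hS'.extClass.comp (Abelian.Ext.mk₀ (ModuleCat.ofHom h)) (show 1 + 0 = 1 by rfl))
  obtain ⟨x₂, hx₂⟩ := Abelian.Ext.contravariant_sequence_exact₁ hS' _
    (Abelian.Ext.mk₀ (ModuleCat.ofHom h)) (show 1 + 0 = 1 by rfl) h0
  obtain ⟨g, rfl⟩ := (Abelian.Ext.mk₀_bijective _ _).2 x₂
  rw [Abelian.Ext.mk₀_comp_mk₀] at hx₂
  have hgh : ρ.shortComplexKer.f ≫ g = ModuleCat.ofHom h := (Abelian.Ext.mk₀_bijective _ _).1 hx₂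
  obtain ⟨⟨n, d⟩, hnd⟩ := IsLocalization.surj (nonZeroDivisors O) b
  simp only at hnd
  have hdI : (d : O) ∈ LinearMap.ker ρ := by
    rw [LinearMap.mem_ker, hρa, Submodule.mkQ_apply, Submodule.Quotient.mk_eq_zero]
    refine ⟨n, Subtype.ext ?_⟩
    rw [hι1, ← hnd]
    simp only [Submodule.coe_smul, bB, Algebra.smul_def]
    ring
  have h3 : g.hom (d : O) = h ⟨d, hdI⟩ := by
    have := congrArg (fun f => f.hom ⟨(d : O), hdI⟩) hgh
    exact this
  have h4 : ((g.hom (d : O) : ω) : K) = (d : O) • ((g.hom (1 : O) : ω) : K) := by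
    rw [← Submodule.coe_smul, ← map_smul, smul_eq_mul, mul_one]
  have h5 : ((h ⟨d, hdI⟩ : ω) : K) = (d : O) • z := rfl
  rw [h3, h5] at h4
  have hd0 : (d : O) ≠ 0 := nonZeroDivisors.ne_zero d.2
  have h6 : z = ((g.hom (1 : O) : ω) : K) := smul_right_injective K hd0 h4
  exact hzω (h6 ▸ (g.hom (1 : O)).2)

end Groth.Agent.Lib.Seat69.CanonEnd
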