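import Mathlib
import Groth.Agent.Lib.Helper10TF

/-!
# Seat69: reflexivity of finitely generated torsion-free modules with respect to an abstract
canonical module

`O` a domain, `W` an `O`-module which is finitely generated, torsion-free, nonzero, with
`Ext^i(M, W) = 0` (`i ≥ 1`) for finitely generated torsion-free `M`, and `End(W) = O`
(`IsCanon O W`).  Then `ev O W M : M → Hom(Hom(M, W), W)` is bijective for finitely generated
torsion-free `M` (`ev_bijective`), and `Hom(E, W) → Hom(N, W)` is surjective when `E/N` is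
finitely generated torsion-free (`exists_extension`).
-/

set_option linter.style.haveILetI false

namespace Groth.Agent.Lib.Seat69.CanonRefl

open CategoryTheory

universe u

/-- abstract canonical module -/
structure IsCanon (O : Type u) [CommRing O] (W : Type u) [AddCommGroup W] [Module O W] : Prop where
  finite : Module.Finite O W
  tf : NoZeroSMulDivisors O W
  nontriv : Nontrivial W
  van : ∀ (M : Type u) [AddCommGroup M] [Module O M] [Module.Finite O M]
    [NoZeroSMulDivisors O M] (i : ℕ), 1 ≤ i →
    Subsingleton (Abelian.Ext (ModuleCat.of O M) (ModuleCat.of O W) i)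
  end_eq : ∀ φ : W →ₗ[O] W, ∃ a : O, ∀ x, φ x = a • x

variable {O : Type u} [CommRing O] [IsDomain O] {W : Type u} [AddCommGroup W] [Module O W]

theorem exists_comp_eq_of_surjective {R M N P : Type*} [CommRing R] [AddCommGroup M] [Module R M]
    [AddCommGroup N] [Module R N] [AddCommGroup P] [Module R P] (π : M →ₗ[R] N)
    (hπ : Function.Surjective π) (c : M →ₗ[R] P) (h : LinearMap.ker π ≤ LinearMap.ker c) :
    ∃ φ : N →ₗ[R] P, φ ∘ₗ π = c := by
  refine ⟨((LinearMap.ker π).liftQ c h) ∘ₗ (π.quotKerEquivOfSurjective hπ).symm.toLinearMap, ?_⟩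
  ext v
  simp only [LinearMap.comp_apply, LinearEquiv.coe_coe]
  have : (π.quotKerEquivOfSurjective hπ).symm (π v) = Submodule.Quotient.mk v := by
    rw [LinearEquiv.symm_apply_eq]
    rfl
  rw [this]
  rfl

omit [IsDomain O] in
/-- `Hom(E, W) → Hom(N, W)` is surjective when `E/N` is finitely generated torsion-free -/
theorem exists_extension (hW : IsCanon O W) {N E C : Type u} [AddCommGroup N] [Module O N]
    [AddCommGroup E] [Module O E] [AddCommGroup C] [Module O C] [Module.Finite O C]
    [NoZeroSMulDivisors O C] (j : N →ₗ[O] E) (q : E →ₗ[O] C) (hj : Function.Injective j)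
    (hq : Function.Surjective q) (hex : Function.Exact j q) (ξ : N →ₗ[O] W) :
    ∃ η : E →ₗ[O] W, η ∘ₗ j = ξ := by
  let S : ShortComplex (ModuleCat.{u} O) :=
    ModuleCat.shortComplexOfCompEqZero j q hex.linearMap_comp_eq_zero
  have hS : S.ShortExact := ModuleCat.shortComplex_shortExact S hex hj hq
  have h0 : hS.extClass.comp (Abelian.Ext.mk₀ (ModuleCat.ofHom ξ)) (show 1 + 0 = 1 by rfl) = 0 := by
    haveI := hW.van C 1 le_rfl
    exact Subsingleton.elim _ _
  obtain ⟨x₂, hx₂⟩ := Abelian.Ext.contravariant_sequence_exact₁ hS _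
    (Abelian.Ext.mk₀ (ModuleCat.ofHom ξ)) (show 1 + 0 = 1 by rfl) h0
  obtain ⟨η', rfl⟩ := (Abelian.Ext.mk₀_bijective _ _).2 x₂
  rw [Abelian.Ext.mk₀_comp_mk₀] at hx₂
  have hηξ : S.f ≫ η' = ModuleCat.ofHom ξ := (Abelian.Ext.mk₀_bijective _ _).1 hx₂
  refine ⟨η'.hom, ?_⟩
  ext x
  have := congrArg (fun f => f.hom x) hηξ
  exact this

/-- the evaluation map into the double `W`-dual -/
def ev (O : Type u) [CommRing O] (W : Type u) [AddCommGroup W] [Module O W] (M : Type u)
    [AddCommGroup M] [Module O M] : M →ₗ[O] ((M →ₗ[O] W) →ₗ[O] W) :=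
  LinearMap.applyₗ

omit [IsDomain O] in
@[simp] theorem ev_apply (M : Type u) [AddCommGroup M] [Module O M] (m : M)
    (φ : M →ₗ[O] W) : ev O W M m φ = φ m := rfl

theorem ev_injective (hW : IsCanon O W) (M : Type u) [AddCommGroup M] [Module O M]
    [Module.Finite O M] [NoZeroSMulDivisors O M] : Function.Injective (ev O W M) := by
  rw [injective_iff_map_eq_zero]
  intro m hm
  by_contra hm0
  obtain ⟨n, f, hf⟩ := Groth.Agent.Lib.Helper10.exists_injective_of_isTorsionFree O M
  have hfm : f m ≠ 0 := fun h => hm0 (hf (by rw [h, map_zero]))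
  obtain ⟨i, hi⟩ : ∃ i, f m i ≠ 0 := by
    by_contra hall
    push Not at hall
    exact hfm (funext hall)
  haveI := hW.nontriv
  haveI := hW.tf
  obtain ⟨w, hw0⟩ := exists_ne (0 : W)
  let φ : M →ₗ[O] W :=
    (LinearMap.toSpanSingleton O W w).comp ((LinearMap.proj i).comp f)
  have h1 : ev O W M m φ = 0 := by rw [hm]; rfl
  have h2 : ev O W M m φ = (f m i) • w := rfl
  rw [h1] at h2
  rcases eq_zero_or_eq_zero_of_smul_eq_zero h2.symm with h | h
  · exact hi h
  · exact hw0 h

omit [IsDomain O] in
/-- torsion-freeness of the cokernel of `Hom(M, W) → Hom(F, W)` for a surjection `F → M` -/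
theorem nzsd_coker_lcomp [NoZeroSMulDivisors O W] {F M : Type u} [AddCommGroup F] [Module O F]
    [AddCommGroup M] [Module O M] (π : F →ₗ[O] M) (hπ : Function.Surjective π) :
    NoZeroSMulDivisors O ((F →ₗ[O] W) ⧸ LinearMap.range (LinearMap.lcomp O W π)) := by
  rw [noZeroSMulDivisors_iff_right_eq_zero_of_smul]
  intro a ha q hq
  obtain ⟨c, rfl⟩ := Submodule.mkQ_surjective _ q
  rw [Submodule.mkQ_apply, ← Submodule.Quotient.mk_smul, Submodule.Quotient.mk_eq_zero] at hq
  obtain ⟨φ, hφ⟩ := hq
  rw [Submodule.mkQ_apply, Submodule.Quotient.mk_eq_zero]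
  have hker : LinearMap.ker π ≤ LinearMap.ker c := by
    intro y hy
    rw [LinearMap.mem_ker] at hy ⊢
    have h1 : a • c y = 0 := by
      have := LinearMap.congr_fun hφ y
      rw [LinearMap.smul_apply] at this
      rw [← this]
      change φ (π y) = 0
      rw [hy, map_zero]
    exact (eq_zero_or_eq_zero_of_smul_eq_zero h1).resolve_left ha
  obtain ⟨φ', hφ'⟩ := exists_comp_eq_of_surjective π hπ c hker
  exact ⟨φ', hφ'⟩

omit [IsDomain O] in
theorem ev_surjective (hW : IsCanon O W) (M : Type u) [AddCommGroup M] [Module O M]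
    [Module.Finite O M] [NoZeroSMulDivisors O M] : Function.Surjective (ev O W M) := by
  classical
  haveI := hW.tf
  haveI := hW.finite
  obtain ⟨n, π, hπ⟩ := Module.Finite.exists_fin' O M
  let Dπ : (M →ₗ[O] W) →ₗ[O] ((Fin n → O) →ₗ[O] W) := LinearMap.lcomp O W π
  have hDπ : Function.Injective Dπ := by
    intro φ ψ h
    ext m
    obtain ⟨v, rfl⟩ := hπ m
    exact LinearMap.congr_fun h v
  haveI := nzsd_coker_lcomp (W := W) π hπ
  intro ξ
  obtain ⟨η, hη'⟩ := exists_extension hW Dπ (LinearMap.range Dπ).mkQ hDπ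
    (Submodule.mkQ_surjective _) (LinearMap.exact_map_mkQ_range Dπ) ξ
  have hη : ∀ φ : M →ₗ[O] W, η (φ.comp π) = ξ φ := fun φ => LinearMap.congr_fun hη' φ
  -- `η` is evaluation at some `a`
  let comp : Fin n → (W →ₗ[O] W) := fun i =>
    { toFun := fun w => η ((LinearMap.toSpanSingleton O W w).comp (LinearMap.proj i))
      map_add' := fun w w' => by
        rw [← map_add]
        congr 1
        ext v
        simp
      map_smul' := fun r w => by
        rw [RingHom.id_apply, ← map_smul]
        congr 1
        ext v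
        simp [smul_smul, mul_comm] }
  choose a ha using fun i => hW.end_eq (comp i)
  have hηev : ∀ ψ : (Fin n → O) →ₗ[O] W, η ψ = ψ a := by
    intro ψ
    have hψ : ψ = ∑ i, (LinearMap.toSpanSingleton O W (ψ (Pi.single i 1))).comp
        (LinearMap.proj i) := by
      apply LinearMap.pi_ext'
      intro i
      apply LinearMap.ext_ring
      simp only [LinearMap.comp_apply, LinearMap.single_apply, LinearMap.sum_apply,
        LinearMap.proj_apply, LinearMap.toSpanSingleton_apply]
      rw [Finset.sum_eq_single i]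
      · simp
      · intro j _ hji
        simp [hji.symm]
      · simp
    have h1 : ∀ i, η ((LinearMap.toSpanSingleton O W (ψ (Pi.single i 1))).comp
        (LinearMap.proj i)) = a i • ψ (Pi.single i 1) := fun i => ha i _
    conv_lhs => rw [hψ]
    rw [map_sum]
    simp only [h1]
    conv_rhs => rw [show a = ∑ i, a i • (Pi.single i 1 : Fin n → O) from by
      ext j; simp [Finset.sum_apply, Pi.single_apply]]
    rw [map_sum]
    simp only [map_smul]
  refine ⟨π a, ?_⟩
  ext φ
  rw [ev_apply, ← hη φ, hηev]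
  rfl

theorem ev_bijective (hW : IsCanon O W) (M : Type u) [AddCommGroup M] [Module O M]
    [Module.Finite O M] [NoZeroSMulDivisors O M] : Function.Bijective (ev O W M) :=
  ⟨ev_injective hW M, ev_surjective hW M⟩

end Groth.Agent.Lib.Seat69.CanonRefl
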