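import Mathlib
import Groth.Agent.Lib.Seat69CanonRefl

/-!
# Seat69: `Ext`-duality for an abstract canonical module

For `IsCanon O W` over a Noetherian domain `O` and finitely generated torsion-free `M`, `N`:
`Ext^i(M, N) ≃+ Ext^i(Hom(N, W), Hom(M, W))` (`ext_dual`).
-/

set_option linter.style.haveILetI false

namespace Groth.Agent.Lib.Seat69.CanonExt

open CategoryTheory Groth.Agent.Lib.Seat69.CanonRefl

universe u

variable {O : Type u} [CommRing O]

/-- vanishing of higher `Ext` from finitely generated torsion-free modules -/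
def Van (O : Type u) [CommRing O] (W : Type u) [AddCommGroup W] [Module O W] : Prop :=
  ∀ (M : Type u) [AddCommGroup M] [Module O M] [Module.Finite O M]
    [NoZeroSMulDivisors O M] (i : ℕ), 1 ≤ i →
    Subsingleton (Abelian.Ext (ModuleCat.of O M) (ModuleCat.of O W) i)

theorem Van.of_linearEquiv {W₁ W₂ : Type u} [AddCommGroup W₁] [Module O W₁] [AddCommGroup W₂]
    [Module O W₂] (e : W₁ ≃ₗ[O] W₂) (h : Van O W₁) : Van O W₂ := by
  intro M _ _ _ _ i hi
  haveI := h M i hi
  refine ⟨fun a b => ?_⟩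
  suffices H : ∀ x : Abelian.Ext (ModuleCat.of O M) (ModuleCat.of O W₂) i, x = 0 by
    rw [H a, H b]
  intro x
  have h1 : x.comp (Abelian.Ext.mk₀ (ModuleCat.ofHom e.symm.toLinearMap)) (add_zero i) = 0 :=
    Subsingleton.elim _ _
  have h2 : (x.comp (Abelian.Ext.mk₀ (ModuleCat.ofHom e.symm.toLinearMap)) (add_zero i)).comp
      (Abelian.Ext.mk₀ (ModuleCat.ofHom e.toLinearMap)) (add_zero i) = x := by
    rw [Abelian.Ext.comp_assoc_of_second_deg_zero, Abelian.Ext.mk₀_comp_mk₀]
    have : ModuleCat.ofHom e.symm.toLinearMap ≫ ModuleCat.ofHom e.toLinearMap =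
        𝟙 (ModuleCat.of O W₂) := by
      ext y
      simp
    rw [this, Abelian.Ext.comp_mk₀_id]
  rw [← h2, h1, Abelian.Ext.zero_comp]

theorem Van.prod {W₁ W₂ : Type u} [AddCommGroup W₁] [Module O W₁] [AddCommGroup W₂]
    [Module O W₂] (h₁ : Van O W₁) (h₂ : Van O W₂) : Van O (W₁ × W₂) := by
  intro M _ _ _ _ i hi
  haveI := h₁ M i hi
  haveI := h₂ M i hi
  refine ⟨fun a b => ?_⟩
  suffices H : ∀ x : Abelian.Ext (ModuleCat.of O M) (ModuleCat.of O (W₁ × W₂)) i, x = 0 by
    rw [H a, H b]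
  intro x
  let S : ShortComplex (ModuleCat.{u} O) :=
    ModuleCat.shortComplexOfCompEqZero (LinearMap.inl O W₁ W₂) (LinearMap.snd O W₁ W₂)
      (by ext; simp)
  have hS : S.ShortExact := ModuleCat.shortComplex_shortExact S
    (Function.Exact.inl_snd) LinearMap.inl_injective LinearMap.snd_surjective
  obtain ⟨x₁, rfl⟩ := Abelian.Ext.covariant_sequence_exact₂ _ hS x (Subsingleton.elim _ _)
  rw [Subsingleton.elim x₁ 0, Abelian.Ext.zero_comp]

theorem Van.of_subsingleton (W : Type u) [AddCommGroup W] [Module O W] [Subsingleton W] :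
    Van O W := by
  intro M _ _ _ _ i hi
  have hz : Limits.IsZero (ModuleCat.of O W) := ModuleCat.isZero_of_subsingleton _
  haveI := hz.hasInjectiveDimensionLT_zero
  refine ⟨fun a b => ?_⟩
  rw [Abelian.Ext.eq_zero_of_hasInjectiveDimensionLT a 0 (Nat.zero_le _),
    Abelian.Ext.eq_zero_of_hasInjectiveDimensionLT b 0 (Nat.zero_le _)]

theorem Van.pi_fin {W : Type u} [AddCommGroup W] [Module O W] (h : Van O W) :
    ∀ n : ℕ, Van O (Fin n → W)
  | 0 => Van.of_subsingleton _
  | n + 1 => (h.prod (Van.pi_fin h n)).of_linearEquiv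
      (Fin.consLinearEquiv O (fun _ : Fin (n + 1) => W))

theorem Van.dual_free {W : Type u} [AddCommGroup W] [Module O W] (h : Van O W) (n : ℕ) :
    Van O ((Fin n → O) →ₗ[O] W) :=
  (h.pi_fin n).of_linearEquiv (LinearEquiv.piRing O W (Fin n) O).symm

section Dual

variable [IsDomain O] [IsNoetherianRing O] {W : Type u} [AddCommGroup W] [Module O W]

omit [IsDomain O] [IsNoetherianRing O] in
theorem nzsd_dual [NoZeroSMulDivisors O W] (X : Type u) [AddCommGroup X] [Module O X] :
    NoZeroSMulDivisors O (X →ₗ[O] W) := by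
  rw [noZeroSMulDivisors_iff_right_eq_zero_of_smul]
  intro a ha φ h
  ext x
  have := LinearMap.congr_fun h x
  rw [LinearMap.smul_apply, LinearMap.zero_apply] at this
  exact (eq_zero_or_eq_zero_of_smul_eq_zero this).resolve_left ha

omit [IsDomain O] in
theorem finite_dual [Module.Finite O W] (X : Type u) [AddCommGroup X] [Module O X]
    [Module.Finite O X] : Module.Finite O (X →ₗ[O] W) := by
  obtain ⟨n, π, hπ⟩ := Module.Finite.exists_fin' O X
  haveI : IsNoetherian O ((Fin n → O) →ₗ[O] W) := isNoetherian_of_isNoetherianRing_of_finite O _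
  refine Module.Finite.of_injective (LinearMap.lcomp O W π) ?_
  intro φ ψ h
  ext x
  obtain ⟨v, rfl⟩ := hπ x
  exact LinearMap.congr_fun h v

variable (O W) in
/-- transpose `Hom(X, N) → Hom(Hom(N, W), Hom(X, W))` -/
def T (X N : Type u) [AddCommGroup X] [Module O X] [AddCommGroup N] [Module O N] :
    (X →ₗ[O] N) →+ ((N →ₗ[O] W) →ₗ[O] (X →ₗ[O] W)) where
  toFun f := LinearMap.lcomp O W f
  map_zero' := by ext; simp
  map_add' f g := by ext; simp

omit [IsDomain O] [IsNoetherianRing O] in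
@[simp] theorem T_apply (X N : Type u) [AddCommGroup X] [Module O X] [AddCommGroup N] [Module O N]
    (f : X →ₗ[O] N) (φ : N →ₗ[O] W) (x : X) : T O W X N f φ x = φ (f x) := rfl

omit [IsNoetherianRing O] in
theorem T_bijective (hW : IsCanon O W) (X N : Type u) [AddCommGroup X] [Module O X]
    [AddCommGroup N] [Module O N] [Module.Finite O N] [NoZeroSMulDivisors O N] :
    Function.Bijective (T O W X N) := by
  constructor
  · rw [injective_iff_map_eq_zero]
    intro f hf
    ext x
    apply ev_injective hW N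
    ext φ
    rw [LinearMap.zero_apply, map_zero, ev_apply, LinearMap.zero_apply]
    exact LinearMap.congr_fun (LinearMap.congr_fun hf φ) x
  · intro g
    let e := LinearEquiv.ofBijective (ev O W N) (ev_bijective hW N)
    refine ⟨e.symm.toLinearMap ∘ₗ g.flip, ?_⟩
    ext φ x
    rw [T_apply, LinearMap.comp_apply]
    have h1 : e (e.symm (g.flip x)) φ = g.flip x φ := by rw [LinearEquiv.apply_symm_apply]
    exact h1

theorem nonempty_addEquiv_of_surjective {A E A' E' : Type*} [AddCommGroup A] [AddCommGroup E]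
    [AddCommGroup A'] [AddCommGroup E'] (p : A →+ E) (hp : Function.Surjective p)
    (p' : A' →+ E') (hp' : Function.Surjective p') (t : A ≃+ A')
    (h : ∀ a, p a = 0 ↔ p' (t a) = 0) : Nonempty (E ≃+ E') := by
  have he : AddSubgroup.map (t : A →+ A') p.ker = p'.ker := by
    ext a'
    constructor
    · rintro ⟨a, ha, rfl⟩
      exact (h a).mp ha
    · intro ha'
      refine ⟨t.symm a', (h _).mpr ?_, by simp⟩
      rw [AddEquiv.apply_symm_apply]
      exact ha'
  exact ⟨(QuotientAddGroup.quotientKerEquivOfSurjective p hp).symm.trans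
    ((QuotientAddGroup.congr p.ker p'.ker t he).trans
      (QuotientAddGroup.quotientKerEquivOfSurjective p' hp'))⟩

end Dual

section Main

variable [IsDomain O] [IsNoetherianRing O] {W : Type u} [AddCommGroup W] [Module O W]

/-- linear maps as `Ext⁰` -/
noncomputable def lin0 (X Y : Type u) [AddCommGroup X] [Module O X] [AddCommGroup Y] [Module O Y] :
    (X →ₗ[O] Y) ≃+ Abelian.Ext (ModuleCat.of O X) (ModuleCat.of O Y) 0 :=
  (ModuleCat.homAddEquiv (M := ModuleCat.of O X) (N := ModuleCat.of O Y)).symm.trans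
    Abelian.Ext.addEquiv₀.symm

omit [IsDomain O] [IsNoetherianRing O] in
theorem lin0_apply (X Y : Type u) [AddCommGroup X] [Module O X] [AddCommGroup Y] [Module O Y]
    (f : X →ₗ[O] Y) : lin0 X Y f = Abelian.Ext.mk₀ (ModuleCat.ofHom f) := rfl

omit [IsDomain O] [IsNoetherianRing O] in
theorem lin0_surjective (X Y : Type u) [AddCommGroup X] [Module O X] [AddCommGroup Y]
    [Module O Y] (x : Abelian.Ext (ModuleCat.of O X) (ModuleCat.of O Y) 0) :
    ∃ f : X →ₗ[O] Y, x = Abelian.Ext.mk₀ (ModuleCat.ofHom f) := by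
  obtain ⟨f, rfl⟩ := (lin0 X Y).surjective x
  exact ⟨f, rfl⟩

variable {M : Type u} [AddCommGroup M] [Module O M] {n : ℕ}

variable (W) in
/-- the dual short complex `0 → Hom(M, W) → Hom(P, W) → Hom(Z, W) → 0` -/
noncomputable abbrev S₂ (π : (Fin n → O) →ₗ[O] M) : ShortComplex (ModuleCat.{u} O) :=
  ModuleCat.shortComplexOfCompEqZero (LinearMap.lcomp O W π)
    (LinearMap.lcomp O W (LinearMap.ker π).subtype) (by
      ext φ x
      change φ (π x.1) = 0
      rw [LinearMap.mem_ker.mp x.2, map_zero])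

omit [IsDomain O] [IsNoetherianRing O] in
theorem shortExact_S₂ (hW : IsCanon O W) [Module.Finite O M] [NoZeroSMulDivisors O M]
    (π : (Fin n → O) →ₗ[O] M) (hπ : Function.Surjective π) : (S₂ W π).ShortExact := by
  refine ModuleCat.shortComplex_shortExact _ ?_ ?_ ?_
  · change Function.Exact (LinearMap.lcomp O W π) (LinearMap.lcomp O W (LinearMap.ker π).subtype)
    intro ψ
    constructor
    · intro h
      have hker : LinearMap.ker π ≤ LinearMap.ker ψ := fun y hy =>
        LinearMap.congr_fun h ⟨y, hy⟩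
      obtain ⟨φ, hφ⟩ := exists_comp_eq_of_surjective π hπ ψ hker
      exact ⟨φ, hφ⟩
    · rintro ⟨φ, rfl⟩
      ext x
      change φ (π x.1) = 0
      rw [LinearMap.mem_ker.mp x.2, map_zero]
  · change Function.Injective (LinearMap.lcomp O W π)
    intro φ ψ h
    ext m
    obtain ⟨v, rfl⟩ := hπ m
    exact LinearMap.congr_fun h v
  · change Function.Surjective (LinearMap.lcomp O W (LinearMap.ker π).subtype)
    intro ξ
    obtain ⟨η, hη⟩ := exists_extension hW (LinearMap.ker π).subtype π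
      (Submodule.subtype_injective _) hπ (LinearMap.exact_subtype_ker_map π) ξ
    exact ⟨η, hη⟩

omit [IsNoetherianRing O] in
theorem ext_dual_zero (hW : IsCanon O W) (M N : Type u) [AddCommGroup M] [Module O M]
    [AddCommGroup N] [Module O N] [Module.Finite O N] [NoZeroSMulDivisors O N] :
    Nonempty (Abelian.Ext (ModuleCat.of O M) (ModuleCat.of O N) 0 ≃+
      Abelian.Ext (ModuleCat.of O (N →ₗ[O] W)) (ModuleCat.of O (M →ₗ[O] W)) 0) :=
  ⟨(lin0 M N).symm.trans ((AddEquiv.ofBijective (T O W M N) (T_bijective hW M N)).trans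
    (lin0 _ _))⟩

end Main

section Step

variable [IsDomain O] [IsNoetherianRing O] {W : Type u} [AddCommGroup W] [Module O W]

theorem ext_dual_one (hW : IsCanon O W) (M N : Type u) [AddCommGroup M] [Module O M]
    [Module.Finite O M] [NoZeroSMulDivisors O M] [AddCommGroup N] [Module O N]
    [Module.Finite O N] [NoZeroSMulDivisors O N] :
    Nonempty (Abelian.Ext (ModuleCat.of O M) (ModuleCat.of O N) 1 ≃+
      Abelian.Ext (ModuleCat.of O (N →ₗ[O] W)) (ModuleCat.of O (M →ₗ[O] W)) 1) := by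
  haveI := hW.tf
  haveI := hW.finite
  obtain ⟨n, π, hπ⟩ := Module.Finite.exists_fin' O M
  have hS₁ := LinearMap.shortExact_shortComplexKer hπ
  have hS₂ := shortExact_S₂ hW π hπ
  haveI : NoZeroSMulDivisors O (N →ₗ[O] W) := nzsd_dual N
  haveI : Module.Finite O (N →ₗ[O] W) := finite_dual N
  have hvanDP : Van O ((Fin n → O) →ₗ[O] W) := Van.dual_free hW.van n
  let P1 : (↥(LinearMap.ker π) →ₗ[O] N) →+
      Abelian.Ext (ModuleCat.of O M) (ModuleCat.of O N) 1 :=
    (hS₁.extClass.precomp (ModuleCat.of O N) (show 1 + 0 = 1 by rfl)).comp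
      (lin0 _ N).toAddMonoidHom
  let P2 : ((N →ₗ[O] W) →ₗ[O] (↥(LinearMap.ker π) →ₗ[O] W)) →+
      Abelian.Ext (ModuleCat.of O (N →ₗ[O] W)) (ModuleCat.of O (M →ₗ[O] W)) 1 :=
    (hS₂.extClass.postcomp (ModuleCat.of O (N →ₗ[O] W)) (show 0 + 1 = 1 by rfl)).comp
      (lin0 _ _).toAddMonoidHom
  have hP1 : ∀ f, P1 f = hS₁.extClass.comp (Abelian.Ext.mk₀ (ModuleCat.ofHom f))
      (show 1 + 0 = 1 by rfl) := fun f => rfl
  have hP2 : ∀ g, P2 g = (Abelian.Ext.mk₀ (ModuleCat.ofHom g)).comp hS₂.extClass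
      (show 0 + 1 = 1 by rfl) := fun g => rfl
  have hP1s : Function.Surjective P1 := by
    intro y
    have h0 : (Abelian.Ext.mk₀ (π.shortComplexKer).g).comp y (zero_add 1) = 0 := by
      haveI : Projective (π.shortComplexKer).X₂ :=
        (inferInstance : Projective (ModuleCat.of O (Fin n → O)))
      exact Abelian.Ext.eq_zero_of_projective _
    obtain ⟨x₁, hx₁⟩ :=
      Abelian.Ext.contravariant_sequence_exact₃ hS₁ _ y h0 (show 1 + 0 = 1 by rfl)
    obtain ⟨f, rfl⟩ := lin0_surjective _ _ x₁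
    exact ⟨f, hx₁⟩
  have hP2s : Function.Surjective P2 := by
    intro y
    have h0 : y.comp (Abelian.Ext.mk₀ (S₂ W π).f) (add_zero 1) = 0 := by
      haveI := hvanDP (N →ₗ[O] W) 1 le_rfl
      exact Subsingleton.elim _ _
    obtain ⟨x₃, hx₃⟩ :=
      Abelian.Ext.covariant_sequence_exact₁ _ hS₂ y h0 (show 0 + 1 = 1 by rfl)
    obtain ⟨g, rfl⟩ := lin0_surjective _ _ x₃
    exact ⟨g, hx₃⟩
  let t : (↥(LinearMap.ker π) →ₗ[O] N) ≃+ ((N →ₗ[O] W) →ₗ[O] (↥(LinearMap.ker π) →ₗ[O] W)) :=
    AddEquiv.ofBijective (T O W _ N) (T_bijective hW _ N)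
  refine nonempty_addEquiv_of_surjective P1 hP1s P2 hP2s t (fun f => ?_)
  constructor
  · intro h
    rw [hP1] at h
    obtain ⟨x₂, hx₂⟩ :=
      Abelian.Ext.contravariant_sequence_exact₁ hS₁ _ _ (show 1 + 0 = 1 by rfl) h
    obtain ⟨f', rfl⟩ := lin0_surjective _ _ x₂
    rw [Abelian.Ext.mk₀_comp_mk₀] at hx₂
    have h1 := (Abelian.Ext.mk₀_bijective _ _).1 hx₂
    have hff' : f = f' ∘ₗ (LinearMap.ker π).subtype := (congrArg ModuleCat.Hom.hom h1).symm
    have hT : (t f : (N →ₗ[O] W) →ₗ[O] (↥(LinearMap.ker π) →ₗ[O] W)) =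
        (LinearMap.lcomp O W (LinearMap.ker π).subtype) ∘ₗ (T O W _ N f') := by
      rw [hff']
      rfl
    rw [hP2, hT, ModuleCat.ofHom_comp, ← Abelian.Ext.mk₀_comp_mk₀,
      Abelian.Ext.comp_assoc_of_second_deg_zero]
    have := hS₂.comp_extClass
    rw [this, Abelian.Ext.comp_zero]
  · intro h
    rw [hP2] at h
    obtain ⟨x₂, hx₂⟩ :=
      Abelian.Ext.covariant_sequence_exact₃ _ hS₂ _ (show 0 + 1 = 1 by rfl) h
    obtain ⟨g', rfl⟩ := lin0_surjective _ _ x₂
    obtain ⟨f', rfl⟩ := (T_bijective hW (Fin n → O) N).2 g'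
    rw [Abelian.Ext.mk₀_comp_mk₀] at hx₂
    have h1 := (Abelian.Ext.mk₀_bijective _ _).1 hx₂
    have h2 : t f = t (f' ∘ₗ (LinearMap.ker π).subtype) :=
      (congrArg ModuleCat.Hom.hom h1).symm
    have h3 : f = f' ∘ₗ (LinearMap.ker π).subtype := t.injective h2
    rw [hP1, h3, ModuleCat.ofHom_comp, ← Abelian.Ext.mk₀_comp_mk₀]
    exact hS₁.extClass_comp_assoc _

end Step

section Succ

variable [IsDomain O] [IsNoetherianRing O] {W : Type u} [AddCommGroup W] [Module O W]

omit [IsDomain O] [IsNoetherianRing O] in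
theorem nzsd_sub {R X : Type*} [CommRing R] [AddCommGroup X] [Module R X]
    [NoZeroSMulDivisors R X] (Z : Submodule R X) : NoZeroSMulDivisors R Z :=
  Function.Injective.noZeroSMulDivisors Z.subtype Z.subtype_injective rfl (fun _ _ => rfl)

theorem ext_dual_succ (hW : IsCanon O W) (k : ℕ)
    (IH : ∀ (M N : Type u) [AddCommGroup M] [Module O M] [Module.Finite O M]
      [NoZeroSMulDivisors O M] [AddCommGroup N] [Module O N] [Module.Finite O N]
      [NoZeroSMulDivisors O N],
      Nonempty (Abelian.Ext (ModuleCat.of O M) (ModuleCat.of O N) (k + 1) ≃+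
        Abelian.Ext (ModuleCat.of O (N →ₗ[O] W)) (ModuleCat.of O (M →ₗ[O] W)) (k + 1)))
    (M N : Type u) [AddCommGroup M] [Module O M]
    [Module.Finite O M] [NoZeroSMulDivisors O M] [AddCommGroup N] [Module O N]
    [Module.Finite O N] [NoZeroSMulDivisors O N] :
    Nonempty (Abelian.Ext (ModuleCat.of O M) (ModuleCat.of O N) (k + 2) ≃+
      Abelian.Ext (ModuleCat.of O (N →ₗ[O] W)) (ModuleCat.of O (M →ₗ[O] W)) (k + 2)) := by
  haveI := hW.tf
  haveI := hW.finite
  obtain ⟨n, π, hπ⟩ := Module.Finite.exists_fin' O M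
  have hS₁ := LinearMap.shortExact_shortComplexKer hπ
  have hS₂ := shortExact_S₂ hW π hπ
  haveI : NoZeroSMulDivisors O (N →ₗ[O] W) := nzsd_dual N
  haveI : Module.Finite O (N →ₗ[O] W) := finite_dual N
  haveI : NoZeroSMulDivisors O ↥(LinearMap.ker π) := nzsd_sub _
  have hvanDP : Van O ((Fin n → O) →ₗ[O] W) := Van.dual_free hW.van n
  haveI hproj : Projective (π.shortComplexKer).X₂ :=
    (inferInstance : Projective (ModuleCat.of O (Fin n → O)))
  -- the connecting maps
  let δ₁ : Abelian.Ext (ModuleCat.of O ↥(LinearMap.ker π)) (ModuleCat.of O N) (k + 1) →+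
      Abelian.Ext (ModuleCat.of O M) (ModuleCat.of O N) (k + 2) :=
    hS₁.extClass.precomp (ModuleCat.of O N) (show 1 + (k + 1) = k + 2 by omega)
  let δ₂ : Abelian.Ext (ModuleCat.of O (N →ₗ[O] W))
        (ModuleCat.of O (↥(LinearMap.ker π) →ₗ[O] W)) (k + 1) →+
      Abelian.Ext (ModuleCat.of O (N →ₗ[O] W)) (ModuleCat.of O (M →ₗ[O] W)) (k + 2) :=
    hS₂.extClass.postcomp (ModuleCat.of O (N →ₗ[O] W)) (show (k + 1) + 1 = k + 2 by omega)
  have hδ₁ : Function.Bijective δ₁ := by
    constructor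
    · rw [injective_iff_map_eq_zero]
      intro x hx
      obtain ⟨x₂, rfl⟩ := Abelian.Ext.contravariant_sequence_exact₁ hS₁ _ x
        (show 1 + (k + 1) = k + 2 by omega) hx
      rw [Abelian.Ext.eq_zero_of_projective x₂, Abelian.Ext.comp_zero]
    · intro y
      have h0 : (Abelian.Ext.mk₀ (π.shortComplexKer).g).comp y (zero_add (k + 2)) = 0 :=
        Abelian.Ext.eq_zero_of_projective _
      obtain ⟨x₁, hx₁⟩ := Abelian.Ext.contravariant_sequence_exact₃ hS₁ _ y h0
        (show 1 + (k + 1) = k + 2 by omega)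
      exact ⟨x₁, hx₁⟩
  have hδ₂ : Function.Bijective δ₂ := by
    constructor
    · rw [injective_iff_map_eq_zero]
      intro x hx
      obtain ⟨x₂, rfl⟩ := Abelian.Ext.covariant_sequence_exact₃ _ hS₂ x
        (show (k + 1) + 1 = k + 2 by omega) hx
      haveI := hvanDP (N →ₗ[O] W) (k + 1) (by omega)
      rw [Subsingleton.elim x₂ 0, Abelian.Ext.zero_comp]
    · intro y
      have h0 : y.comp (Abelian.Ext.mk₀ (S₂ W π).f) (add_zero (k + 2)) = 0 := by
        haveI := hvanDP (N →ₗ[O] W) (k + 2) (by omega)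
        exact Subsingleton.elim _ _
      obtain ⟨x₃, hx₃⟩ := Abelian.Ext.covariant_sequence_exact₁ _ hS₂ y h0
        (show (k + 1) + 1 = k + 2 by omega)
      exact ⟨x₃, hx₃⟩
  obtain ⟨e⟩ := IH ↥(LinearMap.ker π) N
  exact ⟨(AddEquiv.ofBijective δ₁ hδ₁).symm.trans (e.trans (AddEquiv.ofBijective δ₂ hδ₂))⟩

/-- `Ext`-duality for finitely generated torsion-free modules -/
theorem ext_dual (hW : IsCanon O W) (i : ℕ) (M N : Type u) [AddCommGroup M] [Module O M]
    [Module.Finite O M] [NoZeroSMulDivisors O M] [AddCommGroup N] [Module O N]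
    [Module.Finite O N] [NoZeroSMulDivisors O N] :
    Nonempty (Abelian.Ext (ModuleCat.of O M) (ModuleCat.of O N) i ≃+
      Abelian.Ext (ModuleCat.of O (N →ₗ[O] W)) (ModuleCat.of O (M →ₗ[O] W)) i) := by
  rcases i with _ | i
  · exact ext_dual_zero hW M N
  · induction i generalizing M N with
    | zero => exact ext_dual_one hW M N
    | succ k ih =>
      exact ext_dual_succ hW k (fun M N _ _ _ _ _ _ _ _ => ih M N) M N

end Succ

end Groth.Agent.Lib.Seat69.CanonExt
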