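import Mathlib.RingTheory.PowerSeries.Order
import Mathlib.RingTheory.PowerSeries.Inverse
import Mathlib.RingTheory.PowerSeries.Basic
import Mathlib.RingTheory.Nakayama
import Mathlib.RingTheory.Jacobson.Ideal
import Mathlib.RingTheory.Finiteness.Basic
import Mathlib.RingTheory.Polynomial.Basic
import Mathlib.Algebra.Algebra.Subalgebra.Tower
import Mathlib.Algebra.Ring.GeomSum
import Mathlib.RingTheory.PowerSeries.Trunc

/-!
# Closed subalgebras of `k[[t]]` over which `k[[t]]` is finite

For a `k`-subalgebra `A` of `k[[t]]` which is `t`-adically closed and over which `k[[t]]` is a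
finite module, an `A`-submodule `N` of `k[[t]]` whose value set contains every integer `≥ c`
contains every power series of order `≥ c`.
-/

set_option autoImplicit false
universe u

namespace Groth.Agent.Lib.Seat69.PowerSeriesSub

open PowerSeries

variable {k : Type u} [Field k]

/-- `t`-adic closedness of a subalgebra of `k[[t]]`. -/
def IsClosedSub (A : Subalgebra k (PowerSeries k)) : Prop :=
  ∀ f : PowerSeries k, (∀ n : ℕ, ∃ g ∈ A, (n : ℕ∞) ≤ PowerSeries.order (f - g)) → f ∈ A

/-- In a closed subalgebra, `1 + x` is invertible when `x` has positive order. -/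
theorem inv_one_add_mem (A : Subalgebra k (PowerSeries k)) (hcl : IsClosedSub A)
    (x : PowerSeries k) (hx : x ∈ A) (hx1 : 1 ≤ PowerSeries.order x) :
    (1 + x)⁻¹ ∈ A := by
  have hc : constantCoeff (1 + x) ≠ 0 := by
    have : constantCoeff x = 0 := by
      rw [← coeff_zero_eq_constantCoeff_apply]
      exact coeff_of_lt_order 0 (lt_of_lt_of_le (by exact_mod_cast zero_lt_one) hx1)
    rw [map_add, map_one, this, add_zero]
    exact one_ne_zero
  apply hcl
  intro n
  refine ⟨∑ q ∈ Finset.range n, (-x) ^ q, ?_, ?_⟩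
  · exact Subalgebra.sum_mem _ (fun q _ => Subalgebra.pow_mem _ (Subalgebra.neg_mem _ hx) q)
  · have h1 : (1 + x) * ∑ q ∈ Finset.range n, (-x) ^ q = 1 - (-x) ^ n := by
      have := mul_neg_geom_sum (-x) n
      simpa [sub_neg_eq_add] using this
    have h2 : (1 + x)⁻¹ - ∑ q ∈ Finset.range n, (-x) ^ q = (1 + x)⁻¹ * (-x) ^ n := by
      have h3 : (1 + x)⁻¹ * ((1 + x) * ∑ q ∈ Finset.range n, (-x) ^ q) =
          ∑ q ∈ Finset.range n, (-x) ^ q := by
        rw [← mul_assoc, PowerSeries.inv_mul_cancel _ hc, one_mul]
      rw [h1] at h3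
      rw [← h3]; ring
    rw [h2]
    calc (n : ℕ∞) ≤ n • PowerSeries.order (-x) := by
          rw [order_neg]
          calc (n : ℕ∞) = n • (1 : ℕ∞) := by simp
            _ ≤ n • PowerSeries.order x := nsmul_le_nsmul_right hx1 n
      _ ≤ PowerSeries.order ((-x) ^ n) := le_order_pow _ _
      _ ≤ PowerSeries.order ((1 + x)⁻¹) + PowerSeries.order ((-x) ^ n) := le_add_self
      _ ≤ PowerSeries.order ((1 + x)⁻¹ * (-x) ^ n) := le_order_mul _ _

/-- Elements of positive order of a closed subalgebra lie in its Jacobson radical. -/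
theorem mem_jacobson_bot_of_order_pos (A : Subalgebra k (PowerSeries k)) (hcl : IsClosedSub A)
    (a : A) (ha : 1 ≤ PowerSeries.order (a : PowerSeries k)) :
    a ∈ Ideal.jacobson (⊥ : Ideal A) := by
  rw [Ideal.mem_jacobson_bot]
  intro y
  have hxy : ((a * y : A) : PowerSeries k) ∈ A := (a * y).2
  have hord : 1 ≤ PowerSeries.order ((a * y : A) : PowerSeries k) := by
    rw [Subalgebra.coe_mul]
    exact le_trans (le_trans ha le_self_add) (le_order_mul _ _)
  have hinv := inv_one_add_mem A hcl _ hxy hord
  have hc : constantCoeff (1 + ((a * y : A) : PowerSeries k)) ≠ 0 := by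
    have : constantCoeff ((a * y : A) : PowerSeries k) = 0 := by
      rw [← coeff_zero_eq_constantCoeff_apply]
      exact coeff_of_lt_order 0 (lt_of_lt_of_le (by exact_mod_cast zero_lt_one) hord)
    rw [map_add, map_one, this, add_zero]
    exact one_ne_zero
  rw [isUnit_iff_exists_inv]
  refine ⟨⟨_, hinv⟩, ?_⟩
  apply Subtype.ext
  change (((a * y : A) : PowerSeries k) + 1) * (1 + ((a * y : A) : PowerSeries k))⁻¹ = 1
  rw [add_comm]
  exact PowerSeries.mul_inv_cancel _ hc

/-- `k[[t]]` is not a finite `k`-module. -/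
theorem not_finite_powerSeries : ¬ Module.Finite k (PowerSeries k) := by
  intro h
  have hinj : Function.Injective
      (Polynomial.coeToPowerSeries.algHom (R := k) k).toLinearMap := by
    intro p q hpq
    apply Polynomial.coe_injective k
    simpa using hpq
  have : Module.Finite k (Polynomial k) := Module.Finite.of_injective _ hinj
  exact Polynomial.not_finite this

/-- If `k[[t]]` is finite over the subalgebra `A`, then `A` has a nonzero element of positive
order. -/
theorem exists_pos_order (A : Subalgebra k (PowerSeries k)) (hA : Module.Finite ↥A (PowerSeries k)) :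
    ∃ a ∈ A, a ≠ 0 ∧ 1 ≤ PowerSeries.order a := by
  by_contra hne
  push Not at hne
  -- every element of `A` is constant
  have hconst : ∀ a ∈ A, a = C (constantCoeff a) := by
    intro a ha
    by_contra h
    have hmem : a - C (constantCoeff a) ∈ A :=
      Subalgebra.sub_mem _ ha (by
        have : (C (constantCoeff a) : PowerSeries k) = algebraMap k (PowerSeries k) (constantCoeff a) := rfl
        rw [this]; exact Subalgebra.algebraMap_mem _ _)
    have h0 : a - C (constantCoeff a) ≠ 0 := sub_ne_zero.mpr h
    have := hne _ hmem h0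
    apply this.not_ge
    apply le_order
    intro i hi
    have hi0 : i = 0 := by
      have : (i : ℕ∞) < 1 := hi
      exact_mod_cast Nat.lt_one_iff.mp (by exact_mod_cast this)
    subst hi0
    simp
  have hbot : A = ⊥ := by
    rw [eq_bot_iff]
    intro a ha
    rw [hconst a ha]
    exact Subalgebra.algebraMap_mem _ _
  subst hbot
  have h1 : Module.Finite k ↥(⊥ : Subalgebra k (PowerSeries k)) :=
    Module.Finite.equiv (Algebra.botEquivOfInjective (C.injective (R := k))).symm.toLinearEquiv
  have : Module.Finite k (PowerSeries k) :=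
    Module.Finite.trans (↥(⊥ : Subalgebra k (PowerSeries k))) (PowerSeries k)
  exact not_finite_powerSeries this

/-- Main lemma: over a closed subalgebra `A` with `k[[t]]` finite over it, an `A`-submodule whose
value set contains all integers `≥ c` contains all power series of order `≥ c`. -/
theorem mem_of_order_ge (A : Subalgebra k (PowerSeries k)) (hA : Module.Finite ↥A (PowerSeries k))
    (hcl : IsClosedSub A) (N : Submodule ↥A (PowerSeries k)) (c : ℕ)
    (hN : ∀ n : ℕ, c ≤ n → ∃ f ∈ N, PowerSeries.order f = n)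
    (g : PowerSeries k) (hg : (c : ℕ∞) ≤ PowerSeries.order g) : g ∈ N := by
  classical
  obtain ⟨a, haA, ha0, ha1⟩ := exists_pos_order A hA
  -- the submodule `V = t^c k[[t]]`
  let μ : PowerSeries k →ₗ[↥A] PowerSeries k := LinearMap.mulLeft ↥A ((X : PowerSeries k) ^ c)
  let V : Submodule ↥A (PowerSeries k) := Submodule.map μ ⊤
  have hVfg : V.FG := Submodule.FG.map μ (Module.Finite.fg_top)
  have hVmem : ∀ w : PowerSeries k, (X : PowerSeries k) ^ c * w ∈ V := fun w =>
    ⟨w, Submodule.mem_top, rfl⟩
  let a' : ↥A := ⟨a, haA⟩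
  let I : Ideal ↥A := Ideal.span {a'}
  have hIJ : I ≤ Ideal.jacobson ⊥ := by
    rw [Ideal.span_le, Set.singleton_subset_iff]
    exact mem_jacobson_bot_of_order_pos A hcl a' ha1
  -- scalars from `k` act through `A`
  have hsmul : ∀ (lam : k) (h : PowerSeries k), h ∈ N → C lam * h ∈ N := by
    intro lam h hh
    have : C lam * h = (algebraMap k ↥A lam) • h := by
      rw [Algebra.smul_def]; rfl
    rw [this]
    exact N.smul_mem _ hh
  -- successive approximation
  have happrox : ∀ (l : ℕ) (w : PowerSeries k), ∃ h ∈ N, ∃ w' : PowerSeries k,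
      (X : PowerSeries k) ^ c * w = h + (X : PowerSeries k) ^ (c + l) * w' := by
    intro l
    induction l with
    | zero => intro w; exact ⟨0, N.zero_mem, w, by simp⟩
    | succ l ih =>
      intro w
      obtain ⟨h, hh, w', hw'⟩ := ih w
      obtain ⟨h', hh', hord⟩ := hN (c + l) (Nat.le_add_right c l)
      have hh'0 : h' ≠ 0 := by
        intro h0
        rw [h0, order_zero] at hord
        exact ENat.top_ne_natCast _ hord
      -- `h' = X^(c+l) * v` with `v` a unit
      have hv : (X : PowerSeries k) ^ (c + l) * divXPowOrder h' = h' := by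
        have := X_pow_order_mul_divXPowOrder (f := h')
        rw [hord, ENat.toNat_natCast] at this
        exact this
      have hμ : constantCoeff (divXPowOrder h') ≠ 0 := by
        rw [Ne, constantCoeff_divXPowOrder_eq_zero_iff]; exact hh'0
      set v := divXPowOrder h' with hvdef
      set lam : k := constantCoeff w' / constantCoeff v with hlam
      have hcc : constantCoeff (w' - C lam * v) = 0 := by
        rw [map_sub, map_mul, constantCoeff_C, hlam, div_mul_cancel₀ _ hμ, sub_self]
      obtain ⟨w'', hw''⟩ := X_dvd_iff.mpr hcc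
      refine ⟨h + C lam * h', N.add_mem hh (hsmul lam h' hh'), w'', ?_⟩
      rw [hw', ← hv]
      have : w' = C lam * v + X * w'' := by rw [← hw'']; ring
      rw [this]
      ring
  have hNN : V ≤ N ⊔ I • V := by
    rintro _ ⟨w, -, rfl⟩
    change (X : PowerSeries k) ^ c * w ∈ _
    obtain ⟨d, hd⟩ : ∃ d : ℕ, PowerSeries.order a = d := by
      have : PowerSeries.order a ≠ ⊤ := by rwa [Ne, order_eq_top]
      exact ⟨(PowerSeries.order a).toNat, (ENat.natCast_toNat this).symm⟩
    obtain ⟨h, hh, w', hw'⟩ := happrox d w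
    rw [hw']
    refine Submodule.add_mem_sup hh ?_
    -- `X^(c+d) * w' = a * (X^c * (u⁻¹ * w'))`
    have hu : (X : PowerSeries k) ^ d * divXPowOrder a = a := by
      have := X_pow_order_mul_divXPowOrder (f := a)
      rw [hd, ENat.toNat_natCast] at this
      exact this
    have hμ : constantCoeff (divXPowOrder a) ≠ 0 := by
      rw [Ne, constantCoeff_divXPowOrder_eq_zero_iff]; exact ha0
    have hkey : (X : PowerSeries k) ^ (c + d) * w' =
        a' • ((X : PowerSeries k) ^ c * ((divXPowOrder a)⁻¹ * w')) := by
      change _ = a * _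
      have h1 := PowerSeries.mul_inv_cancel _ hμ
      calc (X : PowerSeries k) ^ (c + d) * w'
          = X ^ c * X ^ d * (divXPowOrder a * (divXPowOrder a)⁻¹) * w' := by
            rw [h1, pow_add]; ring
        _ = (X ^ d * divXPowOrder a) * (X ^ c * ((divXPowOrder a)⁻¹ * w')) := by ring
        _ = a * (X ^ c * ((divXPowOrder a)⁻¹ * w')) := by rw [hu]
    rw [hkey]
    exact Submodule.smul_mem_smul (Ideal.subset_span (Set.mem_singleton a')) (hVmem _)
  have hVN : V ≤ N := Submodule.le_of_le_smul_of_le_jacobson_bot hVfg hIJ hNN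
  -- finally `g ∈ V`
  have hdvd : (X : PowerSeries k) ^ c ∣ g := by
    rw [X_pow_dvd_iff]
    intro m hm
    exact coeff_of_lt_order m (lt_of_lt_of_le (by exact_mod_cast hm) hg)
  obtain ⟨w, rfl⟩ := hdvd
  exact hVN (hVmem w)

end Groth.Agent.Lib.Seat69.PowerSeriesSub
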