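import Mathlib.RingTheory.PowerSeries.NoZeroDivisors
import Mathlib.LinearAlgebra.Dimension.Free
import Mathlib.LinearAlgebra.Dimension.Constructions

/-!
# Codimension of a subspace of `k[[t]]` in terms of its value set (seat 69)

If a `k`-subspace `W ⊆ k[[t]]` contains all series of order `≥ m`, then `dim k[[t]]/W` is the number
of naturals which are not the order of an element of `W`.  (Adapted from the prior proof of S15015.)
-/

set_option autoImplicit false
universe u

namespace Groth.Agent.Lib.Seat69.ValueDim

open PowerSeries

theorem finrank_quotient_eq_ncard_compl (k : Type u) [Field k] (W : Submodule k (PowerSeries k))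
    (m : ℕ) (hW : ∀ F : PowerSeries k, (m : ℕ∞) ≤ order F → F ∈ W) (S : Set ℕ)
    (hS : ∀ n : ℕ, n ∈ S ↔ ∃ f ∈ W, order f = n) :
    Sᶜ.Finite ∧ Module.finrank k (PowerSeries k ⧸ W) = Sᶜ.ncard := by
  classical
  have hmS : ∀ n, m ≤ n → n ∈ S := by
    intro n hn
    rw [hS]
    refine ⟨X ^ n, hW _ ?_, order_X_pow n⟩
    rw [order_X_pow]
    exact_mod_cast hn
  have hfin : Sᶜ.Finite := by
    apply (Set.finite_lt_nat m).subset
    intro n hn
    by_contra hlt
    exact hn (hmS n (not_lt.mp hlt))
  refine ⟨hfin, ?_⟩
  have : Fintype ↥Sᶜ := hfin.fintype
  let Q := PowerSeries k ⧸ W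
  let mk : PowerSeries k →ₗ[k] Q := W.mkQ
  have hmk0 : ∀ F, F ∈ W → mk F = 0 := fun F hF =>
    (Submodule.Quotient.mk_eq_zero _).mpr hF
  let v : ↥Sᶜ → Q := fun n => mk (X ^ (n : ℕ))
  -- linear independence
  have hli : LinearIndependent k v := by
    rw [Fintype.linearIndependent_iff]
    intro g hg
    set G : PowerSeries k := ∑ n : ↥Sᶜ, g n • X ^ (n : ℕ) with hG
    have hGA : G ∈ W := by
      have : mk G = 0 := by
        rw [hG, map_sum]
        simpa [v] using hg
      exact (Submodule.Quotient.mk_eq_zero _).mp this
    have hcoeff : ∀ j : ℕ, coeff j G = if h : j ∈ Sᶜ then g ⟨j, h⟩ else 0 := by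
      intro j
      rw [hG, map_sum]
      simp only [coeff_smul, coeff_X_pow, smul_eq_mul, mul_ite, mul_one, mul_zero]
      split_ifs with h
      · rw [Finset.sum_eq_single ⟨j, h⟩]
        · simp
        · intro b _ hb
          rw [if_neg]
          intro hmb
          exact hb (Subtype.ext hmb.symm)
        · intro h'; exact absurd (Finset.mem_univ _) h'
      · apply Finset.sum_eq_zero
        intro b _
        rw [if_neg]
        intro hmb
        exact h (hmb ▸ b.2)
    by_cases hG0 : G = 0
    · intro n
      have := hcoeff n
      rw [hG0, map_zero, dif_pos n.2] at this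
      exact this.symm
    · exfalso
      have h1 := coeff_order hG0
      have h2 : (order G).toNat ∈ S := by
        rw [hS]
        exact ⟨G, hGA, (ENat.natCast_toNat (ne_of_lt (order_finite_iff_ne_zero.mpr hG0))).symm⟩
      rw [hcoeff, dif_neg (fun h => h h2)] at h1
      exact h1 rfl
  -- spanning
  have hspan : ∀ j : ℕ, ∀ F : PowerSeries k, ((m - j : ℕ) : ℕ∞) ≤ order F →
      mk F ∈ Submodule.span k (Set.range v) := by
    intro j
    induction j with
    | zero =>
      intro F hF
      rw [hmk0 F (hW F (by simpa using hF))]
      exact Submodule.zero_mem _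
    | succ j ih =>
      intro F hF
      by_cases hjc : m ≤ j
      · apply ih F
        have : m - j = m - (j + 1) := by omega
        rw [this]; exact hF
      push Not at hjc
      set n := m - (j + 1) with hn
      have hn1 : m - j = n + 1 := by omega
      by_cases hnΓ : n ∈ S
      · obtain ⟨f, hfA, hf⟩ := (hS n).mp hnΓ
        have hf0 : f ≠ 0 := by
          intro h0
          rw [h0, order_zero] at hf
          exact ENat.top_ne_natCast n hf
        have hb : coeff n f ≠ 0 := by
          have := coeff_order hf0
          rwa [hf, ENat.toNat_natCast] at this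
        set F' := F - (coeff n F / coeff n f) • f with hF'
        have hord : ((m - j : ℕ) : ℕ∞) ≤ order F' := by
          rw [hn1]
          apply nat_le_order
          intro i hi
          rw [hF', map_sub, coeff_smul]
          rcases Nat.lt_succ_iff_lt_or_eq.mp hi with hlt | heq
          · rw [coeff_of_lt_order i (lt_of_lt_of_le (by exact_mod_cast hlt) hF),
              coeff_of_lt_order i (by rw [hf]; exact_mod_cast hlt)]
            simp
          · subst heq
            rw [smul_eq_mul, div_mul_cancel₀ _ hb, sub_self]
        have := ih F' hord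
        have e : mk F = mk F' := by
          rw [hF', map_sub, hmk0 _ (W.smul_mem _ hfA), sub_zero]
        rw [e]; exact this
      · set F' := F - (coeff n F) • X ^ n with hF'
        have hord : ((m - j : ℕ) : ℕ∞) ≤ order F' := by
          rw [hn1]
          apply nat_le_order
          intro i hi
          rw [hF', map_sub, coeff_smul, coeff_X_pow]
          rcases Nat.lt_succ_iff_lt_or_eq.mp hi with hlt | heq
          · rw [coeff_of_lt_order i (lt_of_lt_of_le (by exact_mod_cast hlt) hF),
              if_neg (by omega)]
            simp
          · subst heq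
            simp
        have := ih F' hord
        have e : mk F = mk F' + (coeff n F) • v ⟨n, hnΓ⟩ := by
          rw [hF', map_sub, map_smul]
          simp [v]
        rw [e]
        exact Submodule.add_mem _ this
          (Submodule.smul_mem _ _ (Submodule.subset_span ⟨⟨n, hnΓ⟩, rfl⟩))
  have htop : ⊤ ≤ Submodule.span k (Set.range v) := by
    intro q _
    obtain ⟨F, rfl⟩ := Submodule.Quotient.mk_surjective _ q
    exact hspan m F (by simp)
  let b : Module.Basis ↥Sᶜ k Q := Module.Basis.mk hli htop
  rw [Module.finrank_eq_card_basis b, ← Set.toFinset_card, Set.ncard_eq_toFinset_card']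

/-- a subspace containing elements of every order `≥ e` and all series of order `≥ m` contains all
series of order `≥ e` -/
theorem mem_of_order_ge (k : Type u) [Field k] (W : Submodule k (PowerSeries k))
    (m : ℕ) (hW : ∀ F : PowerSeries k, (m : ℕ∞) ≤ order F → F ∈ W) (e : ℕ)
    (he : ∀ n : ℕ, e ≤ n → ∃ f ∈ W, order f = n)
    (F : PowerSeries k) (hF : (e : ℕ∞) ≤ order F) : F ∈ W := by
  have key : ∀ j : ℕ, ∀ F : PowerSeries k, (e : ℕ∞) ≤ order F → ((m - j : ℕ) : ℕ∞) ≤ order F →
      F ∈ W := by
    intro j
    induction j with
    | zero =>
      intro F _ hF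
      exact hW F (by simpa using hF)
    | succ j ih =>
      intro F hFe hF
      by_cases hjc : m ≤ j
      · apply ih F hFe
        have : m - j = m - (j + 1) := by omega
        rw [this]; exact hF
      push Not at hjc
      set n := m - (j + 1) with hn
      have hn1 : m - j = n + 1 := by omega
      by_cases hne : e ≤ n
      · obtain ⟨f, hfW, hf⟩ := he n hne
        have hf0 : f ≠ 0 := by
          intro h0
          rw [h0, order_zero] at hf
          exact ENat.top_ne_natCast n hf
        have hb : coeff n f ≠ 0 := by
          have := coeff_order hf0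
          rwa [hf, ENat.toNat_natCast] at this
        set F' := F - (coeff n F / coeff n f) • f with hF'
        have hord : ((m - j : ℕ) : ℕ∞) ≤ order F' := by
          rw [hn1]
          apply nat_le_order
          intro i hi
          rw [hF', map_sub, coeff_smul]
          rcases Nat.lt_succ_iff_lt_or_eq.mp hi with hlt | heq
          · rw [coeff_of_lt_order i (lt_of_lt_of_le (by exact_mod_cast hlt) hF),
              coeff_of_lt_order i (by rw [hf]; exact_mod_cast hlt)]
            simp
          · subst heq
            rw [smul_eq_mul, div_mul_cancel₀ _ hb, sub_self]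
        have hord' : (e : ℕ∞) ≤ order F' := by
          refine le_trans ?_ hord
          exact_mod_cast (by omega : e ≤ m - j)
        have h1 := ih F' hord' hord
        have : F = F' + (coeff n F / coeff n f) • f := by rw [hF']; ring
        rw [this]
        exact W.add_mem h1 (W.smul_mem _ hfW)
      · push Not at hne
        apply ih F hFe
        refine le_trans ?_ hFe
        exact_mod_cast (by omega : m - j ≤ e)
  exact key m F hF (by simp)

end Groth.Agent.Lib.Seat69.ValueDim
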