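import Mathlib
import Groth.Agent.Lib.Seat69ValueDim
import Groth.Agent.S15015

/-!
# Rank one torsion-free modules over a unibranch curve singularity: normalised representatives
(seat 69)
-/

set_option autoImplicit false
universe u

namespace Groth.Agent.Lib.Seat69.RankOneMono

/-- counting lemma: if `Γ ⊆ S`, `Γ + S ⊆ S`, then every `j ≥ #Γᶜ + #Sᶜ` lies in `S` -/
theorem mem_of_ncard_le (Γ S : Set ℕ) (hΓS : Γ ⊆ S) (hadd : ∀ a ∈ Γ, ∀ s ∈ S, a + s ∈ S)
    (hΓfin : Γᶜ.Finite) (j : ℕ) (hj : Γᶜ.ncard + Sᶜ.ncard ≤ j) : j ∈ S := by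
  classical
  by_contra hjS
  have hSfin : Sᶜ.Finite := hΓfin.subset (Set.compl_subset_compl.mpr hΓS)
  let T := (Finset.range (j + 1)).filter (· ∈ Γ)
  let T' := (Finset.range (j + 1)).filter (· ∉ Γ)
  have h1 : T.card + T'.card = j + 1 := by
    have := Finset.card_filter_add_card_filter_not (s := Finset.range (j + 1)) (· ∈ Γ)
    rw [Finset.card_range] at this
    exact this
  have h2 : T'.card ≤ Γᶜ.ncard := by
    rw [Set.ncard_eq_toFinset_card _ hΓfin]
    apply Finset.card_le_card
    intro i hi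
    rw [Set.Finite.mem_toFinset]
    exact (Finset.mem_filter.mp hi).2
  have h3 : T.card ≤ Sᶜ.ncard := by
    rw [Set.ncard_eq_toFinset_card _ hSfin]
    apply Finset.card_le_card_of_injOn (fun i => j - i)
    · intro i hi
      have hi' := Finset.mem_filter.mp hi
      have hij : i ≤ j := by
        have := Finset.mem_range.mp hi'.1
        omega
      rw [Finset.mem_coe, Set.Finite.mem_toFinset]
      intro hs
      apply hjS
      have := hadd i hi'.2 (j - i) hs
      rwa [Nat.add_sub_cancel' hij] at this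
    · intro i hi i' hi' hii
      have hij : i ≤ j := by
        have := Finset.mem_range.mp (Finset.mem_filter.mp hi).1
        omega
      have hij' : i' ≤ j := by
        have := Finset.mem_range.mp (Finset.mem_filter.mp hi').1
        omega
      simp only at hii
      omega
  omega

open PowerSeries

/-- divisibility in `k[[t]]` is governed by the order -/
theorem dvd_of_order_le {k : Type u} [Field k] {f g : PowerSeries k} (hf : f ≠ 0)
    (h : order f ≤ order g) : f ∣ g := by
  by_cases hg : g = 0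
  · rw [hg]
    exact dvd_zero f
  have hfa : X ^ f.order.toNat * divXPowOrder f = f := X_pow_order_mul_divXPowOrder
  have hga : X ^ g.order.toNat * divXPowOrder g = g := X_pow_order_mul_divXPowOrder
  have hle : f.order.toNat ≤ g.order.toNat :=
    ENat.toNat_le_toNat h (ne_of_lt (order_finite_iff_ne_zero.mpr hg))
  have hw := Inv_divided_by_X_pow_order_rightInv hf
  refine ⟨Inv_divided_by_X_pow_order hf * X ^ (g.order.toNat - f.order.toNat) * divXPowOrder g, ?_⟩
  calc g = X ^ g.order.toNat * divXPowOrder g := hga.symm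
    _ = X ^ f.order.toNat * X ^ (g.order.toNat - f.order.toNat) * divXPowOrder g := by
        rw [← pow_add, Nat.add_sub_cancel' hle]
    _ = (X ^ f.order.toNat * (divXPowOrder f * Inv_divided_by_X_pow_order hf)) *
          X ^ (g.order.toNat - f.order.toNat) * divXPowOrder g := by rw [hw, mul_one]
    _ = f * (Inv_divided_by_X_pow_order hf * X ^ (g.order.toNat - f.order.toNat) *
          divXPowOrder g) := by
        rw [← mul_assoc (X ^ f.order.toNat), hfa]
        ring

/-- a nonzero submodule has an element of minimal order -/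
theorem exists_min_order {k : Type u} [Field k] {A : Subalgebra k (PowerSeries k)}
    (I : Submodule ↥A (PowerSeries k)) (hI : I ≠ ⊥) :
    ∃ f₀ ∈ I, f₀ ≠ 0 ∧ ∀ g ∈ I, order f₀ ≤ order g := by
  classical
  obtain ⟨g₀, hg₀I, hg₀⟩ := (Submodule.ne_bot_iff I).mp hI
  let T : Set ℕ∞ := {n | ∃ g ∈ I, g ≠ 0 ∧ order g = n}
  have hT : T.Nonempty := ⟨order g₀, g₀, hg₀I, hg₀, rfl⟩
  obtain ⟨f₀, hf₀I, hf₀, hf₀m⟩ := wellFounded_lt.min_mem T hT
  refine ⟨f₀, hf₀I, hf₀, fun g hg => ?_⟩
  by_cases hg0 : g = 0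
  · rw [hg0, order_zero]
    exact le_top
  · have hgT : order g ∈ T := ⟨g, hg, hg0, rfl⟩
    have := wellFounded_lt.not_lt_min T hgT
    rw [hf₀m]
    exact not_lt.mp this

theorem order_X_pow_mul {k : Type u} [Field k] (e : ℕ) (h : PowerSeries k) :
    order (X ^ e * h) = (e : ℕ∞) + order h := by
  rw [order_mul, order_X_pow]

/-- **normalised representative of a nonzero `A`-submodule of `k[[t]]`** -/
theorem exists_normalised (k : Type u) [Field k] (A : Subalgebra k (PowerSeries k))
    (hcl : ∀ f : PowerSeries k, (∀ n : ℕ, ∃ g ∈ A, (n : ℕ∞) ≤ PowerSeries.order (f - g)) → f ∈ A)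
    (Γ : Set ℕ) (hΓ : ∀ n : ℕ, n ∈ Γ ↔ ∃ f ∈ A, PowerSeries.order f = n)
    (c : ℕ) (hc : ∀ n, c ≤ n → n ∈ Γ)
    (I : Submodule ↥A (PowerSeries k)) (hI : I ≠ ⊥) :
    ∃ M' : Submodule ↥A (PowerSeries k),
      (Ideal.span {(X : PowerSeries k) ^ (2 * Γᶜ.ncard)}).restrictScalars ↥A ≤ M' ∧
      Nonempty (↥I ≃ₗ[↥A] ↥M') ∧
      Module.finrank k (PowerSeries k ⧸ M'.restrictScalars k) = Γᶜ.ncard := by
  classical
  have hΓfin : Γᶜ.Finite := (Set.finite_lt_nat c).subset (fun n hn => by
    by_contra h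
    exact hn (hc n (not_lt.mp h)))
  set δ := Γᶜ.ncard with hδ
  obtain ⟨f₀, hf₀I, hf₀, hmin⟩ := exists_min_order I hI
  let μ : PowerSeries k →ₗ[↥A] PowerSeries k := LinearMap.mulLeft ↥A f₀
  have hμinj : Function.Injective μ := fun x y hxy => mul_left_cancel₀ hf₀ hxy
  let N : Submodule ↥A (PowerSeries k) := I.comap μ
  have h1N : (1 : PowerSeries k) ∈ N := by
    show f₀ * 1 ∈ I
    rwa [mul_one]
  have hsmul : ∀ (b : PowerSeries k) (hb : b ∈ A) (f : PowerSeries k),
      (⟨b, hb⟩ : ↥A) • f = b * f := fun b hb f => rfl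
  have hAN : ∀ b ∈ A, b ∈ N := fun b hb => by
    have := N.smul_mem (⟨b, hb⟩ : ↥A) h1N
    rwa [hsmul, mul_one] at this
  have hNI : Nonempty (↥N ≃ₗ[↥A] ↥I) := by
    let φ : ↥N →ₗ[↥A] ↥I := (μ.domRestrict N).codRestrict I (fun x => x.2)
    refine ⟨LinearEquiv.ofBijective φ ⟨?_, ?_⟩⟩
    · intro x y hxy
      exact Subtype.ext (hμinj (congrArg Subtype.val hxy))
    · intro g
      obtain ⟨h, hh⟩ := dvd_of_order_le hf₀ (hmin g.1 g.2)
      have hhN : h ∈ N := by
        show f₀ * h ∈ I
        rw [← hh]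
        exact g.2
      exact ⟨⟨h, hhN⟩, Subtype.ext hh.symm⟩
  have hcN : ∀ F : PowerSeries k, (c : ℕ∞) ≤ order F → F ∈ N := fun F hF =>
    hAN F (Groth.Agent.S15016.mem_of_order_ge k A hcl c (fun n hn => (hΓ n).mp (hc n hn)) F hF)
  let S : Set ℕ := {n | ∃ f ∈ N, order f = n}
  have hΓS : Γ ⊆ S := fun n hn => by
    obtain ⟨f, hfA, hf⟩ := (hΓ n).mp hn
    exact ⟨f, hAN f hfA, hf⟩
  have hadd : ∀ a ∈ Γ, ∀ s ∈ S, a + s ∈ S := by
    rintro a ha s ⟨f, hfN, hf⟩
    obtain ⟨b, hbA, hb⟩ := (hΓ a).mp ha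
    refine ⟨b * f, ?_, ?_⟩
    · have := N.smul_mem (⟨b, hbA⟩ : ↥A) hfN
      rwa [hsmul] at this
    · rw [order_mul, hb, hf]
      norm_cast
  have hSfin : Sᶜ.Finite := hΓfin.subset (Set.compl_subset_compl.mpr hΓS)
  have hcN_le : Sᶜ.ncard ≤ δ := Set.ncard_le_ncard (Set.compl_subset_compl.mpr hΓS) hΓfin
  set cN := Sᶜ.ncard with hcNdef
  have hS_mem : ∀ j, δ + cN ≤ j → j ∈ S := fun j hj =>
    mem_of_ncard_le Γ S hΓS hadd hΓfin j hj
  have hbig : ∀ F : PowerSeries k, ((δ + cN : ℕ) : ℕ∞) ≤ order F → F ∈ N := by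
    intro F hF
    exact ValueDim.mem_of_order_ge k (N.restrictScalars k) c hcN (δ + cN)
      (fun n hn => hS_mem n hn) F hF
  let e := δ - cN
  let ν : PowerSeries k →ₗ[↥A] PowerSeries k := LinearMap.mulLeft ↥A (X ^ e)
  have hνinj : Function.Injective ν := fun x y hxy =>
    mul_left_cancel₀ (pow_ne_zero e X_ne_zero) hxy
  let M' : Submodule ↥A (PowerSeries k) := N.map ν
  have hNM' : Nonempty (↥N ≃ₗ[↥A] ↥M') := ⟨Submodule.equivMapOfInjective ν hνinj N⟩
  have ha : (Ideal.span {(X : PowerSeries k) ^ (2 * δ)}).restrictScalars ↥A ≤ M' := by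
    intro F hF
    rw [Submodule.restrictScalars_mem, Ideal.mem_span_singleton'] at hF
    obtain ⟨F₁, rfl⟩ := hF
    refine ⟨X ^ (δ + cN) * F₁, hbig _ ?_, ?_⟩
    · rw [order_X_pow_mul]
      exact le_self_add
    · show X ^ e * (X ^ (δ + cN) * F₁) = F₁ * X ^ (2 * δ)
      rw [← mul_assoc, ← pow_add, show e + (δ + cN) = 2 * δ by omega, mul_comm]
  refine ⟨M', ha, ?_, ?_⟩
  · obtain ⟨e1⟩ := hNI
    obtain ⟨e2⟩ := hNM'
    exact ⟨e1.symm.trans e2⟩
  · let S' : Set ℕ := {n | ∃ f ∈ M'.restrictScalars k, order f = n}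
    have hW : ∀ F : PowerSeries k, ((2 * δ : ℕ) : ℕ∞) ≤ order F → F ∈ M'.restrictScalars k := by
      intro F hF
      by_cases hF0 : F = 0
      · rw [hF0]
        exact zero_mem _
      apply ha
      rw [Submodule.restrictScalars_mem, Ideal.mem_span_singleton]
      have h1 : (X : PowerSeries k) ^ (2 * δ) ∣ X ^ F.order.toNat := by
        apply pow_dvd_pow
        have := ENat.toNat_le_toNat hF (ne_of_lt (order_finite_iff_ne_zero.mpr hF0))
        simpa using this
      exact h1.trans (X_pow_order_dvd (φ := F))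
    have hD := ValueDim.finrank_quotient_eq_ncard_compl k (M'.restrictScalars k) (2 * δ) hW S'
      (fun n => Iff.rfl)
    rw [hD.2]
    have hS' : S'ᶜ = Set.Iio e ∪ (fun s => e + s) '' Sᶜ := by
      ext n
      simp only [Set.mem_compl_iff, Set.mem_union, Set.mem_Iio, Set.mem_image]
      constructor
      · intro hn
        by_cases hne : n < e
        · exact Or.inl hne
        · right
          refine ⟨n - e, ?_, by omega⟩
          rintro ⟨h, hhN, hh⟩
          apply hn
          refine ⟨X ^ e * h, ⟨h, hhN, rfl⟩, ?_⟩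
          rw [order_X_pow_mul, hh]
          norm_cast
          omega
      · rintro (hne | ⟨s, hs, rfl⟩)
        · rintro ⟨f, ⟨h, hhN, rfl⟩, hf⟩
          have h2 : (e : ℕ∞) ≤ order (ν h) := by
            show (e : ℕ∞) ≤ order (X ^ e * h)
            rw [order_X_pow_mul]
            exact le_self_add
          rw [hf] at h2
          exact absurd (by exact_mod_cast h2) (not_le.mpr hne)
        · rintro ⟨f, ⟨h, hhN, rfl⟩, hf⟩
          apply hs
          refine ⟨h, hhN, ?_⟩
          have h2 : order (ν h) = (e : ℕ∞) + order h := order_X_pow_mul e h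
          rw [h2] at hf
          have hne_top : order h ≠ ⊤ := by
            intro ht
            rw [ht, add_top] at hf
            exact ENat.top_ne_natCast _ hf
          obtain ⟨m, hm⟩ := ENat.ne_top_iff_exists.mp hne_top
          rw [← hm] at hf ⊢
          norm_cast at hf ⊢
          omega
    have hdisj : Disjoint (Set.Iio e) ((fun s => e + s) '' Sᶜ) := by
      rw [Set.disjoint_left]
      rintro n hn ⟨s, -, rfl⟩
      simp only [Set.mem_Iio] at hn
      omega
    rw [hS', Set.ncard_union_eq hdisj (Set.finite_Iio e) (hSfin.image _),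
      Set.ncard_image_of_injective _ (add_right_injective e)]
    have h3 : (Set.Iio e).ncard = e := by
      rw [← Finset.coe_Iio, Set.ncard_coe_finset, Nat.card_Iio]
    rw [h3]
    omega

end Groth.Agent.Lib.Seat69.RankOneMono
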