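import Mathlib
import Groth.Agent.Lib.Seat69PowerSeriesSub
import Groth.Agent.Lib.Seat69RankOneMono
import Groth.Agent.S15016

/-!
# Seat69: ring-theoretic properties of a closed subalgebra `A ⊆ k[[t]]` with `k[[t]]` finite over `A`

`A` is a one-dimensional Noetherian local domain whose fraction field is the fraction field of
`k[[t]]`.

* `isUnit_iff`, `isLocalRing`
* `T A e` : power series of order `≥ e` as an `A`-submodule; `T_fg`
* `isNoetherian_powerSeries`, `isNoetherianRing`
* `ringKrullDim_eq_one`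
* `isFractionRing`
-/

set_option linter.style.haveILetI false

namespace Groth.Agent.Lib.Seat69.CurveRing

open PowerSeries Groth.Agent.Lib.Seat69.PowerSeriesSub Groth.Agent.Lib.Seat69.RankOneMono

universe u

variable {k : Type u} [Field k] (A : Subalgebra k (PowerSeries k))

theorem smul_eq (a : ↥A) (f : PowerSeries k) : a • f = (a : PowerSeries k) * f := by
  rw [Algebra.smul_def]
  rfl

theorem constantCoeff_eq_zero_iff (f : PowerSeries k) :
    constantCoeff f = 0 ↔ 1 ≤ order f := by
  constructor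
  · intro h
    have h1 := nat_le_order f 1 (fun i hi => by
      have hi0 : i = 0 := by omega
      subst hi0
      rw [coeff_zero_eq_constantCoeff_apply, h])
    exact_mod_cast h1
  · intro h
    rw [← coeff_zero_eq_constantCoeff_apply]
    exact coeff_of_lt_order 0 (lt_of_lt_of_le (by exact_mod_cast zero_lt_one) h)

theorem isUnit_iff (hcl : IsClosedSub A) (a : ↥A) :
    IsUnit a ↔ constantCoeff (a : PowerSeries k) ≠ 0 := by
  constructor
  · intro h
    have h1 : IsUnit (a : PowerSeries k) := h.map A.val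
    rw [PowerSeries.isUnit_iff_constantCoeff] at h1
    exact h1.ne_zero
  · intro h
    set a₀ := constantCoeff (a : PowerSeries k) with ha₀
    have hCmem : ∀ l : k, (C l : PowerSeries k) ∈ A := fun l => A.algebraMap_mem l
    have hx : C a₀⁻¹ * (a : PowerSeries k) - 1 ∈ A :=
      A.sub_mem (A.mul_mem (hCmem _) a.2) A.one_mem
    have hx1 : 1 ≤ order (C a₀⁻¹ * (a : PowerSeries k) - 1) := by
      rw [← constantCoeff_eq_zero_iff, map_sub, map_mul, constantCoeff_C, map_one, ← ha₀,
        inv_mul_cancel₀ h, sub_self]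
    have hinv := inv_one_add_mem A hcl _ hx hx1
    have h2 : (1 : PowerSeries k) + (C a₀⁻¹ * (a : PowerSeries k) - 1) = C a₀⁻¹ * a := by ring
    rw [h2] at hinv
    refine IsUnit.of_mul_eq_one (⟨C a₀⁻¹ * (C a₀⁻¹ * (a : PowerSeries k))⁻¹,
      A.mul_mem (hCmem _) hinv⟩ : ↥A) ?_
    apply Subtype.ext
    show (a : PowerSeries k) * (C a₀⁻¹ * (C a₀⁻¹ * (a : PowerSeries k))⁻¹) = 1
    have h3 : constantCoeff (C a₀⁻¹ * (a : PowerSeries k)) ≠ 0 := by
      rw [map_mul, constantCoeff_C, ← ha₀]
      exact mul_ne_zero (inv_ne_zero h) h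
    calc (a : PowerSeries k) * (C a₀⁻¹ * (C a₀⁻¹ * (a : PowerSeries k))⁻¹)
        = (C a₀⁻¹ * (a : PowerSeries k)) * (C a₀⁻¹ * (a : PowerSeries k))⁻¹ := by ring
      _ = 1 := PowerSeries.mul_inv_cancel _ h3

theorem isLocalRing (hcl : IsClosedSub A) : IsLocalRing ↥A := by
  refine IsLocalRing.of_nonunits_add ?_
  intro a b ha hb
  rw [mem_nonunits_iff, isUnit_iff A hcl, not_not] at ha hb ⊢
  have h1 : ((a + b : ↥A) : PowerSeries k) = (a : PowerSeries k) + b := rfl
  rw [h1, map_add, ha, hb, add_zero]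

/-- power series of order `≥ e`, as an `A`-submodule -/
def T (e : ℕ) : Submodule ↥A (PowerSeries k) where
  carrier := {f | (e : ℕ∞) ≤ order f}
  add_mem' {f g} hf hg := le_trans (le_min hf hg) (min_order_le_order_add f g)
  zero_mem' := by
    show (e : ℕ∞) ≤ order (0 : PowerSeries k)
    rw [order_zero]
    exact le_top
  smul_mem' a f hf := by
    show (e : ℕ∞) ≤ order (a • f)
    rw [smul_eq]
    exact le_trans (le_trans hf le_add_self) (le_order_mul _ _)

theorem mem_T {e : ℕ} {f : PowerSeries k} : f ∈ T A e ↔ (e : ℕ∞) ≤ order f := Iff.rfl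

theorem T_fg (hA : Module.Finite ↥A (PowerSeries k)) (e : ℕ) : (T A e).FG := by
  let μ : PowerSeries k →ₗ[↥A] PowerSeries k := LinearMap.mulLeft ↥A ((X : PowerSeries k) ^ e)
  have h : T A e = Submodule.map μ ⊤ := by
    ext f
    constructor
    · intro hf
      have hX : ((X : PowerSeries k) ^ e) ≠ 0 := pow_ne_zero _ X_ne_zero
      have hle : order ((X : PowerSeries k) ^ e) ≤ order f := by
        rw [order_X_pow]
        exact hf
      obtain ⟨q, rfl⟩ := dvd_of_order_le hX hle
      exact ⟨q, Submodule.mem_top, rfl⟩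
    · rintro ⟨q, -, rfl⟩
      show (e : ℕ∞) ≤ order ((X : PowerSeries k) ^ e * q)
      refine le_trans ?_ (le_order_mul _ _)
      rw [order_X_pow]
      exact le_self_add
  rw [h]
  exact Submodule.FG.map μ Module.Finite.fg_top

theorem finite_quot (e : ℕ) : Module.Finite k (PowerSeries k ⧸ T A e) := by
  let ψ : (Fin e → k) →ₗ[k] (PowerSeries k ⧸ T A e) :=
    Fintype.linearCombination k (fun i : Fin e => (T A e).mkQ ((X : PowerSeries k) ^ (i : ℕ)))
  refine Module.Finite.of_surjective ψ ?_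
  intro q
  obtain ⟨f, rfl⟩ := Submodule.Quotient.mk_surjective _ q
  refine ⟨fun i => coeff (i : ℕ) f, ?_⟩
  rw [Fintype.linearCombination_apply]
  have h1 : ∑ i : Fin e, coeff (i : ℕ) f • (T A e).mkQ ((X : PowerSeries k) ^ (i : ℕ)) =
      Submodule.Quotient.mk (∑ i : Fin e, coeff (i : ℕ) f • (X : PowerSeries k) ^ (i : ℕ)) := by
    have h0 : ∀ i : Fin e, coeff (i : ℕ) f • (T A e).mkQ ((X : PowerSeries k) ^ (i : ℕ)) =
        (T A e).mkQ (coeff (i : ℕ) f • (X : PowerSeries k) ^ (i : ℕ)) :=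
      fun i => (Submodule.Quotient.mk_smul _ _ _).symm
    simp only [h0]
    rw [← map_sum]
    rfl
  rw [h1, Submodule.Quotient.eq, mem_T]
  apply nat_le_order
  intro j hj
  rw [map_sub, map_sum]
  have h2 : ∀ i : Fin e, coeff j (coeff (i : ℕ) f • (X : PowerSeries k) ^ (i : ℕ)) =
      if (i : ℕ) = j then coeff j f else 0 := by
    intro i
    rw [coeff_smul, coeff_X_pow, smul_eq_mul]
    by_cases h : (i : ℕ) = j
    · rw [if_pos h.symm, if_pos h, mul_one, h]
    · rw [if_neg (Ne.symm h), if_neg h, mul_zero]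
  simp only [h2]
  rw [Finset.sum_eq_single (⟨j, hj⟩ : Fin e)]
  · simp
  · intro b _ hb
    rw [if_neg]
    intro h
    exact hb (Fin.ext h)
  · intro h
    exact absurd (Finset.mem_univ _) h

section Noeth

variable (hA : Module.Finite ↥A (PowerSeries k)) (hcl : IsClosedSub A) (c : ℕ)
  (hc : ∀ n : ℕ, c ≤ n → ∃ f ∈ A, PowerSeries.order f = n)

include hcl hc in
theorem mem_of_le_order {q : PowerSeries k} (hq : (c : ℕ∞) ≤ order q) : q ∈ A :=
  Groth.Agent.S15016.mem_of_order_ge k A hcl c hc q hq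

include hcl hc in
/-- if `f₀ ≠ 0` has order `j` then every power series of order `≥ c + j` is an `A`-multiple of
`f₀` -/
theorem exists_smul_eq {f₀ g : PowerSeries k} (hf₀ : f₀ ≠ 0) (j : ℕ) (hj : order f₀ = j)
    (hg : ((c + j : ℕ) : ℕ∞) ≤ order g) : ∃ a : ↥A, a • f₀ = g := by
  have hle : order f₀ ≤ order g := by
    rw [hj]
    refine le_trans ?_ hg
    exact_mod_cast Nat.le_add_left j c
  obtain ⟨q, rfl⟩ := dvd_of_order_le hf₀ hle
  have hq : (c : ℕ∞) ≤ order q := by
    rw [order_mul, hj] at hg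
    have h1 : ((c + j : ℕ) : ℕ∞) = (j : ℕ∞) + (c : ℕ∞) := by
      push_cast
      exact add_comm _ _
    rw [h1] at hg
    exact (ENat.add_le_add_iff_left (ENat.natCast_ne_top j)).mp hg
  refine ⟨⟨q, mem_of_le_order A hcl c hc hq⟩, ?_⟩
  rw [smul_eq]
  exact mul_comm _ _

include hA hcl hc in
theorem isNoetherian_powerSeries : IsNoetherian ↥A (PowerSeries k) := by
  rw [isNoetherian_def]
  intro N
  by_cases hN : N = ⊥
  · rw [hN]
    exact Submodule.fg_bot
  obtain ⟨f₀, hf₀N, hf₀, -⟩ := exists_min_order N hN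
  obtain ⟨j, hj⟩ : ∃ j : ℕ, order f₀ = j := by
    have h1 := order_finite_iff_ne_zero.mpr hf₀
    exact ⟨(order f₀).toNat, (ENat.natCast_toNat (ne_of_lt h1)).symm⟩
  have hT : T A (c + j) ≤ N := by
    intro g hg
    obtain ⟨a, rfl⟩ := exists_smul_eq A hcl c hc hf₀ j hj hg
    exact N.smul_mem _ hf₀N
  refine Submodule.fg_of_fg_map_of_fg_inf_ker (T A (c + j)).mkQ ?_ ?_
  · haveI := finite_quot A (c + j)
    haveI : IsNoetherian k (PowerSeries k ⧸ T A (c + j)) :=
      isNoetherian_of_isNoetherianRing_of_finite k _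
    haveI : IsNoetherian ↥A (PowerSeries k ⧸ T A (c + j)) := isNoetherian_of_tower k inferInstance
    exact IsNoetherian.noetherian _
  · rw [Submodule.ker_mkQ, inf_eq_right.mpr hT]
    exact T_fg A hA _

include hA hcl hc in
theorem isNoetherianRing : IsNoetherianRing ↥A := by
  haveI := isNoetherian_powerSeries A hA hcl c hc
  exact isNoetherian_of_injective (Algebra.linearMap ↥A (PowerSeries k)) Subtype.val_injective

include hA hcl hc in
theorem ringKrullDim_eq_one [IsLocalRing ↥A] : ringKrullDim ↥A = 1 := by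
  rw [ringKrullDim_eq_one_iff_of_isLocalRing_isDomain]
  constructor
  · intro hF
    obtain ⟨a, haA, ha0, ha1⟩ := exists_pos_order A hA
    have hne : (⟨a, haA⟩ : ↥A) ≠ 0 := fun h => ha0 (congrArg Subtype.val h)
    obtain ⟨b, hb⟩ := hF.mul_inv_cancel hne
    have hu : IsUnit (⟨a, haA⟩ : ↥A) := IsUnit.of_mul_eq_one b hb
    rw [isUnit_iff A hcl] at hu
    exact hu ((constantCoeff_eq_zero_iff a).mpr ha1)
  · intro x hx y hy
    have hx0 : (x : PowerSeries k) ≠ 0 := fun h => hx (Subtype.ext h)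
    obtain ⟨j, hj⟩ : ∃ j : ℕ, order (x : PowerSeries k) = j := by
      have h1 := order_finite_iff_ne_zero.mpr hx0
      exact ⟨(order (x : PowerSeries k)).toNat, (ENat.natCast_toNat (ne_of_lt h1)).symm⟩
    have hy1 : 1 ≤ order (y : PowerSeries k) := by
      rw [← constantCoeff_eq_zero_iff]
      by_contra h
      exact (IsLocalRing.mem_maximalIdeal y).mp hy ((isUnit_iff A hcl y).mpr h)
    refine ⟨c + j, ?_⟩
    have hord : ((c + j : ℕ) : ℕ∞) ≤ order ((y : PowerSeries k) ^ (c + j)) := by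
      refine le_trans ?_ (le_order_pow _ _)
      calc ((c + j : ℕ) : ℕ∞) = (c + j) • (1 : ℕ∞) := by simp
        _ ≤ (c + j) • order (y : PowerSeries k) := nsmul_le_nsmul_right hy1 _
    obtain ⟨a, ha⟩ := exists_smul_eq A hcl c hc hx0 j hj hord
    rw [Ideal.mem_span_singleton']
    refine ⟨a, ?_⟩
    apply Subtype.ext
    show (a : PowerSeries k) * (x : PowerSeries k) = (y : PowerSeries k) ^ (c + j)
    rw [← ha, smul_eq]

end Noeth

section Frac

variable (hcl : IsClosedSub A) (c : ℕ)
  (hc : ∀ n : ℕ, c ≤ n → ∃ f ∈ A, PowerSeries.order f = n)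
  (K : Type u) [Field K] [Algebra (PowerSeries k) K] [IsFractionRing (PowerSeries k) K]

include hcl hc in
theorem isFractionRing : IsFractionRing ↥A K := by
  have hinj : Function.Injective (algebraMap ↥A K) := by
    intro a b h
    apply Subtype.ext
    exact IsFractionRing.injective (PowerSeries k) K h
  rw [IsFractionRing, isLocalization_iff]
  refine ⟨?_, ?_, ?_⟩
  · intro y
    apply IsUnit.mk0
    intro h
    have : (y : ↥A) = 0 := hinj (by rw [h, map_zero])
    exact nonZeroDivisors.coe_ne_zero y this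
  · intro z
    obtain ⟨⟨f, g⟩, hfg⟩ := IsLocalization.surj (nonZeroDivisors (PowerSeries k)) z
    have hXc : ∀ q : PowerSeries k, (X : PowerSeries k) ^ c * q ∈ A := by
      intro q
      apply mem_of_le_order A hcl c hc
      refine le_trans ?_ (le_order_mul _ _)
      rw [order_X_pow]
      exact le_self_add
    have hg0 : (g : PowerSeries k) ≠ 0 := nonZeroDivisors.coe_ne_zero g
    have hne : (⟨(X : PowerSeries k) ^ c * g, hXc g⟩ : ↥A) ≠ 0 := by
      intro h
      have h1 : (X : PowerSeries k) ^ c * g = 0 := congrArg Subtype.val h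
      exact mul_ne_zero (pow_ne_zero _ X_ne_zero) hg0 h1
    refine ⟨(⟨(X : PowerSeries k) ^ c * f, hXc f⟩,
      ⟨⟨(X : PowerSeries k) ^ c * g, hXc g⟩, mem_nonZeroDivisors_of_ne_zero hne⟩), ?_⟩
    show z * algebraMap (PowerSeries k) K ((X : PowerSeries k) ^ c * g) =
      algebraMap (PowerSeries k) K ((X : PowerSeries k) ^ c * f)
    rw [map_mul, map_mul, ← hfg]
    ring
  · intro x y h
    exact ⟨1, by rw [hinj h]⟩

end Frac

end Groth.Agent.Lib.Seat69.CurveRing
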