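import Mathlib
import Groth.Agent.Lib.Helper3FlatModel

/-!
# helper69: flat finitely presented algebras with reduced fibres over a reduced ring are reduced

`isReduced_of_flat_fp_of_fibres`: `A` reduced (no Noetherian hypothesis), `B` flat of finite
presentation over `A`, all fibres `κ(p) ⊗[A] B` reduced; then `B` is reduced.  Proof: Noetherian model
`B = A ⊗[R₀] B₀` (helper3's `exists_flat_model`), a nilpotent `b` lives over a finitely generated
subalgebra `R₁ ⊆ A` (reduced, Noetherian, finitely many minimal primes), `R₁ ↪ ∏ κ(p_q)` over primes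
`p_q` of `A` above the minimal primes `q` of `R₁`, flatness.
-/

set_option autoImplicit false
set_option linter.style.haveILetI false
universe u
open scoped TensorProduct

namespace Groth.Agent.Lib.Seat69.FlatRedFib

/-- A flat algebra over a ring `R` which embeds into a finite product of fields `K i`, with all
`K i ⊗[R] M` reduced, is reduced. -/
theorem isReduced_of_flat_of_fields {R M : Type u} [CommRing R] [CommRing M] [Algebra R M]
    [Module.Flat R M] {ι : Type u} [Finite ι] (K : ι → Type u) [∀ i, Field (K i)]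
    [∀ i, Algebra R (K i)] (hinj : Function.Injective (algebraMap R (∀ i, K i)))
    (hred : ∀ i, IsReduced (K i ⊗[R] M)) : IsReduced M := by
  classical
  haveI := Fintype.ofFinite ι
  have h1 : Function.Injective (Algebra.TensorProduct.includeLeft : M →ₐ[R] M ⊗[R] (∀ i, K i)) :=
    Algebra.TensorProduct.includeLeft_injective hinj
  haveI : ∀ i, IsReduced (M ⊗[R] K i) := fun i =>
    isReduced_of_injective (Algebra.TensorProduct.comm R M (K i)).toRingEquiv.toRingHom
      (Algebra.TensorProduct.comm R M (K i)).injective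
  haveI : IsReduced (M ⊗[R] (∀ i, K i)) :=
    isReduced_of_injective (Algebra.TensorProduct.piRight R R M K).toRingEquiv.toRingHom
      (Algebra.TensorProduct.piRight R R M K).injective
  exact isReduced_of_injective
    (Algebra.TensorProduct.includeLeft : M →ₐ[R] M ⊗[R] (∀ i, K i)).toRingHom h1

/-- every element of `A ⊗[R₀] B₀` comes from `R₁ ⊗[R₀] B₀` for a finitely generated subalgebra
`R₁ ⊆ A`. -/
theorem exists_fg_subalgebra_tensor {R₀ A B₀ : Type u} [CommRing R₀] [CommRing A] [CommRing B₀]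
    [Algebra R₀ A] [Algebra R₀ B₀] (β : A ⊗[R₀] B₀) :
    ∃ (R₁ : Subalgebra R₀ A), R₁.FG ∧ ∃ β₁ : R₁ ⊗[R₀] B₀,
      Algebra.TensorProduct.map R₁.val (AlgHom.id R₀ B₀) β₁ = β := by
  induction β using TensorProduct.induction_on with
  | zero => exact ⟨⊥, Subalgebra.fg_bot, 0, map_zero _⟩
  | tmul a c =>
    refine ⟨Algebra.adjoin R₀ {a}, Subalgebra.fg_adjoin_finset {a} |> (by simpa using ·),
      (⟨a, Algebra.subset_adjoin (Set.mem_singleton a)⟩ : Algebra.adjoin R₀ {a}) ⊗ₜ c, ?_⟩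
    simp
  | add x y hx hy =>
    obtain ⟨R₁, h₁, β₁, rfl⟩ := hx
    obtain ⟨R₂, h₂, β₂, rfl⟩ := hy
    let i₁ : R₁ ⊗[R₀] B₀ →ₐ[R₀] ↥(R₁ ⊔ R₂) ⊗[R₀] B₀ :=
      Algebra.TensorProduct.map (Subalgebra.inclusion (le_sup_left : R₁ ≤ R₁ ⊔ R₂)) (AlgHom.id R₀ B₀)
    let i₂ : R₂ ⊗[R₀] B₀ →ₐ[R₀] ↥(R₁ ⊔ R₂) ⊗[R₀] B₀ :=
      Algebra.TensorProduct.map (Subalgebra.inclusion (le_sup_right : R₂ ≤ R₁ ⊔ R₂)) (AlgHom.id R₀ B₀)
    refine ⟨R₁ ⊔ R₂, h₁.sup h₂, i₁ β₁ + i₂ β₂, ?_⟩
    rw [map_add]
    congr 1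
    · rw [← AlgHom.comp_apply, ← Algebra.TensorProduct.map_comp]
      rfl
    · rw [← AlgHom.comp_apply, ← Algebra.TensorProduct.map_comp]
      rfl

theorem isScalarTower_residueField {R₀ A : Type u} [CommRing R₀] [CommRing A] [Algebra R₀ A]
    (p : Ideal A) [p.IsPrime] : IsScalarTower R₀ A p.ResidueField := by
  refine IsScalarTower.of_algebraMap_eq (fun x => ?_)
  rw [IsScalarTower.algebraMap_apply R₀ (Localization.AtPrime p) p.ResidueField,
    IsScalarTower.algebraMap_apply A (Localization.AtPrime p) p.ResidueField,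
    IsScalarTower.algebraMap_apply R₀ A (Localization.AtPrime p)]

theorem isScalarTower_subalgebra_residueField {R₀ A : Type u} [CommRing R₀] [CommRing A]
    [Algebra R₀ A] (R₁ : Subalgebra R₀ A) (p : Ideal A) [p.IsPrime] :
    IsScalarTower R₀ R₁ p.ResidueField := by
  haveI := isScalarTower_residueField (R₀ := R₀) p
  refine IsScalarTower.of_algebraMap_eq (fun x => ?_)
  rw [IsScalarTower.algebraMap_apply R₁ A p.ResidueField,
    IsScalarTower.algebraMap_apply R₀ A p.ResidueField]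
  rfl

/-- the model step: reducedness of the fibres passes to the model over the subalgebra -/
theorem isReduced_tensor_model {R₀ A B₀ B : Type u} [CommRing R₀] [CommRing A] [CommRing B₀]
    [CommRing B] [Algebra R₀ A] [Algebra R₀ B₀] [Algebra A B] (e : A ⊗[R₀] B₀ ≃ₐ[A] B)
    (R₁ : Subalgebra R₀ A) (p : Ideal A) [p.IsPrime]
    (h : IsReduced (p.ResidueField ⊗[A] B)) : IsReduced (p.ResidueField ⊗[R₁] (R₁ ⊗[R₀] B₀)) := by
  haveI := isScalarTower_residueField (R₀ := R₀) p
  haveI := isScalarTower_subalgebra_residueField R₁ p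
  let e1 : p.ResidueField ⊗[R₁] (R₁ ⊗[R₀] B₀) ≃ₐ[R₁] p.ResidueField ⊗[R₀] B₀ :=
    Algebra.TensorProduct.cancelBaseChange R₀ R₁ R₁ p.ResidueField B₀
  let e2 : p.ResidueField ⊗[A] (A ⊗[R₀] B₀) ≃ₐ[A] p.ResidueField ⊗[R₀] B₀ :=
    Algebra.TensorProduct.cancelBaseChange R₀ A A p.ResidueField B₀
  let e3 : p.ResidueField ⊗[A] (A ⊗[R₀] B₀) ≃ₐ[A] p.ResidueField ⊗[A] B :=
    Algebra.TensorProduct.congr AlgEquiv.refl e
  let φ : p.ResidueField ⊗[R₁] (R₁ ⊗[R₀] B₀) →+* p.ResidueField ⊗[A] B :=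
    (e3.toRingEquiv.toRingHom.comp e2.symm.toRingEquiv.toRingHom).comp e1.toRingEquiv.toRingHom
  refine isReduced_of_injective φ ?_
  exact (e3.injective.comp e2.symm.injective).comp e1.injective

/-- **Lemma R.** A flat finitely presented algebra over a reduced ring with reduced fibres is
reduced. -/
theorem isReduced_of_flat_fp_of_fibres {A B : Type u} [CommRing A] [CommRing B] [Algebra A B]
    [IsReduced A] [Module.Flat A B] [Algebra.FinitePresentation A B]
    (h : ∀ (p : Ideal A) [p.IsPrime], IsReduced (p.ResidueField ⊗[A] B)) : IsReduced B := by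
  classical
  obtain ⟨R₀, B₀, _, _, _, _, hft, hfp, hflat, ⟨e⟩⟩ :=
    Groth.Agent.Lib.Helper3.FlatOpen.exists_flat_model A B
  refine ⟨fun b hb => ?_⟩
  have hβ : IsNilpotent (e.symm b) := hb.map e.symm
  obtain ⟨R₁, hR₁, β₁, hβ₁⟩ := exists_fg_subalgebra_tensor (e.symm b)
  haveI : Algebra.FiniteType R₀ R₁ := R₁.fg_iff_finiteType.mp hR₁
  haveI : Algebra.FiniteType ℤ R₀ := hft
  haveI : Algebra.FiniteType ℤ R₁ := Algebra.FiniteType.trans (R := ℤ) (S := R₀) (A := R₁) hft
    (R₁.fg_iff_finiteType.mp hR₁)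
  haveI : IsNoetherianRing R₁ := Algebra.FiniteType.isNoetherianRing ℤ R₁
  haveI : IsReduced R₁ := isReduced_of_injective R₁.val.toRingHom Subtype.val_injective
  haveI : Module.Flat R₀ B₀ := hflat
  have hι : Function.Injective (Algebra.TensorProduct.map R₁.val (AlgHom.id R₀ B₀)) :=
    Module.Flat.rTensor_preserves_injective_linearMap (M := B₀) R₁.val.toLinearMap
      Subtype.val_injective
  have hβ₁n : IsNilpotent β₁ := by
    obtain ⟨n, hn⟩ := hβ
    refine ⟨n, hι ?_⟩
    rw [map_pow, hβ₁, hn, map_zero]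
  suffices hB₁ : IsReduced (R₁ ⊗[R₀] B₀) by
    have h0 : β₁ = 0 := hB₁.eq_zero β₁ hβ₁n
    rw [h0, map_zero] at hβ₁
    have : e.symm b = e.symm 0 := by rw [← hβ₁, map_zero]
    exact e.symm.injective this
  -- the minimal primes of `R₁`
  have hfin : (minimalPrimes R₁).Finite := minimalPrimes.finite_of_isNoetherianRing R₁
  haveI : Finite {q : Ideal R₁ // q ∈ minimalPrimes R₁} := hfin.to_subtype
  have hinjR : Function.Injective (algebraMap R₁ A) := Subtype.val_injective
  have hex : ∀ q : {q : Ideal R₁ // q ∈ minimalPrimes R₁}, ∃ p' : Ideal A,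
      p'.IsPrime ∧ p'.comap (algebraMap R₁ A) = q.1 := fun q =>
    Ideal.exists_comap_eq_of_mem_minimalPrimes_of_injective hinjR q.1 q.2
  choose P hP hPq using hex
  haveI : ∀ q, (P q).IsPrime := hP
  refine isReduced_of_flat_of_fields (R := R₁) (M := R₁ ⊗[R₀] B₀)
    (fun q : {q : Ideal R₁ // q ∈ minimalPrimes R₁} => (P q).ResidueField) ?_ ?_
  · rw [injective_iff_map_eq_zero]
    intro r hr
    have h1 : ∀ q : {q : Ideal R₁ // q ∈ minimalPrimes R₁}, r ∈ q.1 := by
      intro q
      rw [← hPq q, Ideal.mem_comap, ← Ideal.algebraMap_residueField_eq_zero]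
      have := congrFun hr q
      rw [← IsScalarTower.algebraMap_apply R₁ A (P q).ResidueField]
      exact this
    have h2 : r ∈ nilradical R₁ := by
      rw [nilradical_eq_sInf, Ideal.mem_sInf]
      intro J hJ
      haveI : J.IsPrime := hJ
      obtain ⟨q, hq, hqJ⟩ := Ideal.exists_minimalPrimes_le (show (⊥ : Ideal R₁) ≤ J from bot_le)
      exact hqJ (h1 ⟨q, hq⟩)
    exact (nilradical_eq_zero R₁ ▸ h2 : r ∈ (0 : Ideal R₁))
  · intro q
    exact isReduced_tensor_model e R₁ (P q) (h (P q))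

end Groth.Agent.Lib.Seat69.FlatRedFib
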