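import Mathlib

/-!
# Augmented algebras with nil augmentation ideal (seat 69)

Helper lemmas for: a finitely generated augmented algebra has nil augmentation ideal of bounded
exponent iff it is finite with local geometric fibres.
-/

set_option autoImplicit false
universe u
open scoped TensorProduct

namespace Groth.Agent.Lib.Seat69.FrobHeight

variable {R : Type u} [CommRing R] {A : Type u} [CommRing A] [Algebra R A] (ε : A →ₐ[R] R)

/-- finite generation + nil augmentation ideal ⇒ finite module -/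
theorem finite_of_nil [Algebra.FiniteType R A]
    (hnil : ∀ a : A, ε a = 0 → IsNilpotent a) : Module.Finite R A := by
  obtain ⟨s, hs⟩ := (Algebra.FiniteType.out : (⊤ : Subalgebra R A).FG)
  classical
  let s' : Finset A := s.image (fun x => x - algebraMap R A (ε x))
  have hs' : Algebra.adjoin R (s' : Set A) = ⊤ := by
    rw [eq_top_iff, ← hs, Algebra.adjoin_le_iff]
    intro x hx
    have h1 : x - algebraMap R A (ε x) ∈ Algebra.adjoin R (s' : Set A) :=
      Algebra.subset_adjoin (Finset.mem_image_of_mem _ hx)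
    have h2 : algebraMap R A (ε x) ∈ Algebra.adjoin R (s' : Set A) := Subalgebra.algebraMap_mem _ _
    have := add_mem h1 h2
    rwa [sub_add_cancel] at this
  have hint : ∀ y ∈ (s' : Set A), IsIntegral R y := by
    intro y hy
    obtain ⟨x, -, rfl⟩ := Finset.mem_image.mp hy
    have : ε (x - algebraMap R A (ε x)) = 0 := by
      rw [map_sub, AlgHom.commutes]
      simp
    obtain ⟨n, hn⟩ := hnil _ this
    exact ⟨Polynomial.X ^ n, Polynomial.monic_X_pow n, by simp [hn]⟩
  have hfg := fg_adjoin_of_finite s'.finite_toSet hint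
  rw [hs'] at hfg
  exact ⟨by simpa using hfg⟩

variable (K : Type u) [Field K] [Algebra R K]

/-- the base-changed augmentation -/
noncomputable def εK : K ⊗[R] A →ₐ[K] K :=
  (Algebra.TensorProduct.rid R K K).toAlgHom.comp (Algebra.TensorProduct.map (AlgHom.id K K) ε)

theorem εK_tmul (c : K) (a : A) : εK ε K (c ⊗ₜ a) = ε a • c := by
  simp [εK]

theorem sub_εK_isNilpotent (hnil : ∀ a : A, ε a = 0 → IsNilpotent a) (z : K ⊗[R] A) :
    IsNilpotent (z - algebraMap K (K ⊗[R] A) (εK ε K z)) := by
  induction z using TensorProduct.induction_on with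
  | zero => simp
  | tmul c a =>
    have h1 : c ⊗ₜ[R] a - algebraMap K (K ⊗[R] A) (εK ε K (c ⊗ₜ a)) =
        c ⊗ₜ[R] (a - algebraMap R A (ε a)) := by
      rw [εK_tmul, Algebra.TensorProduct.algebraMap_apply, TensorProduct.tmul_sub]
      congr 1
      rw [Algebra.algebraMap_self, RingHom.id_apply, TensorProduct.smul_tmul,
        Algebra.algebraMap_eq_smul_one]
    rw [h1]
    have h2 : ε (a - algebraMap R A (ε a)) = 0 := by
      rw [map_sub, AlgHom.commutes]
      simp
    obtain ⟨n, hn⟩ := hnil _ h2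
    exact ⟨n, by rw [Algebra.TensorProduct.tmul_pow, hn, TensorProduct.tmul_zero]⟩
  | add x y hx hy =>
    have : x + y - algebraMap K (K ⊗[R] A) (εK ε K (x + y)) =
        (x - algebraMap K (K ⊗[R] A) (εK ε K x)) + (y - algebraMap K (K ⊗[R] A) (εK ε K y)) := by
      rw [map_add, map_add]
      ring
    rw [this]
    exact (Commute.all _ _).isNilpotent_add hx hy

theorem isLocalRing_of_nil (hnil : ∀ a : A, ε a = 0 → IsNilpotent a) :
    IsLocalRing (K ⊗[R] A) := by
  haveI : Nontrivial (K ⊗[R] A) := (εK ε K).toRingHom.domain_nontrivial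
  refine IsLocalRing.of_isUnit_or_isUnit_one_sub_self fun z => ?_
  have hz := sub_εK_isNilpotent ε K hnil z
  by_cases h : εK ε K z = 0
  · right
    rw [h, map_zero, sub_zero] at hz
    exact hz.isUnit_one_sub
  · left
    have hu : IsUnit (algebraMap K (K ⊗[R] A) (εK ε K z)) := (IsUnit.mk0 _ h).map _
    have := hz.isUnit_add_right_of_commute hu (Commute.all _ _)
    rwa [sub_add_cancel] at this

/-- if all geometric fibres are local, the augmentation ideal is contained in the nilradical -/
theorem mem_nilradical_of_local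
    (hloc : ∀ (K : Type u) [Field K] [IsAlgClosed K] [Algebra R K], IsLocalRing (K ⊗[R] A))
    (a : A) (ha : ε a = 0) : a ∈ nilradical A := by
  rw [nilradical_eq_sInf, Ideal.mem_sInf]
  intro 𝔮 h𝔮
  haveI : 𝔮.IsPrime := h𝔮
  let F := FractionRing (A ⧸ 𝔮)
  let K := AlgebraicClosure F
  let ψ₀ : A →+* K := (algebraMap (A ⧸ 𝔮) K).comp (Ideal.Quotient.mk 𝔮)
  letI : Algebra R K := (ψ₀.comp (algebraMap R A)).toAlgebra
  let ψ : A →ₐ[R] K := { ψ₀ with commutes' := fun r => rfl }
  haveI := hloc K
  let μ : K ⊗[R] A →ₐ[K] K :=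
    Algebra.TensorProduct.lift (AlgHom.id K K) ψ (fun _ _ => Commute.all _ _)
  have hμs : Function.Surjective μ.toRingHom := fun c => ⟨c ⊗ₜ 1, by simp [μ]⟩
  have hεs : Function.Surjective (εK ε K).toRingHom := fun c => ⟨c ⊗ₜ 1, by
    show εK ε K (c ⊗ₜ 1) = c
    rw [εK_tmul]
    simp⟩
  have h1 : RingHom.ker μ.toRingHom = IsLocalRing.maximalIdeal _ :=
    IsLocalRing.eq_maximalIdeal (RingHom.ker_isMaximal_of_surjective _ hμs)
  have h2 : RingHom.ker (εK ε K).toRingHom = IsLocalRing.maximalIdeal _ :=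
    IsLocalRing.eq_maximalIdeal (RingHom.ker_isMaximal_of_surjective _ hεs)
  have h3 : (1 : K) ⊗ₜ[R] a ∈ RingHom.ker (εK ε K).toRingHom := by
    rw [RingHom.mem_ker]
    show εK ε K (1 ⊗ₜ a) = 0
    rw [εK_tmul, ha, zero_smul]
  rw [h2, ← h1, RingHom.mem_ker] at h3
  have h4 : ψ₀ a = 0 := by simpa [μ, ψ] using h3
  have hinj : Function.Injective (algebraMap (A ⧸ 𝔮) K) := by
    rw [IsScalarTower.algebraMap_eq (A ⧸ 𝔮) F K]
    exact (algebraMap F K).injective.comp (IsFractionRing.injective (A ⧸ 𝔮) F)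
  have : Ideal.Quotient.mk 𝔮 a = 0 := hinj (by rw [map_zero]; exact h4)
  exact Ideal.Quotient.eq_zero_iff_mem.mp this

end Groth.Agent.Lib.Seat69.FrobHeight
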