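import Mathlib
import Groth.Prelude
import Groth.Agent.Lib.Helper6GeomRedConstr

/-!
# helper69: pointwise geometric reducedness of fibres, absolute formulation

`GRAt f x`: for every field valued point `t : Spec K ⟶ Y` and every point `z` of `X ×_Y Spec K` over
`x`, the local ring at `z` is reduced.  Equivalent to `FBase.IsGeomReducedAt` of the fibre through
`x` (`isGeomReducedAt_iff_gRAt`), local on the source (`gRAt_iff_ι`), stable under base change
(`gRAt_of_isPullback`), insensitive to open immersions on the base (`gRAt_comp_of_isOpenImmersion`).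
-/

set_option autoImplicit false
set_option linter.style.haveILetI false
universe u

namespace Groth.Agent.Lib.Seat69.GeomRedAt

open AlgebraicGeometry CategoryTheory CategoryTheory.Limits TopologicalSpace Opposite IsLocalRing

/-- stalks along an open immersion -/
theorem isReduced_stalk_iff_of_isOpenImmersion {A B : Scheme.{u}} (j : A ⟶ B) [IsOpenImmersion j]
    (a : A) : _root_.IsReduced (B.presheaf.stalk (j a)) ↔ _root_.IsReduced (A.presheaf.stalk a) := by
  have hb : Function.Bijective (j.stalkMap a) := ConcreteCategory.bijective_of_isIso (j.stalkMap a)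
  constructor
  · intro h
    let e : B.presheaf.stalk (j a) ≃+* A.presheaf.stalk a := RingEquiv.ofBijective (j.stalkMap a).hom hb
    exact isReduced_of_injective e.symm.toRingHom e.symm.injective
  · intro h
    exact isReduced_of_injective (j.stalkMap a).hom hb.1

variable {X Y : Scheme.{u}}

/-- The fibre of `f` through `x` is geometrically reduced at `x` (absolute formulation). -/
def GRAt (f : X ⟶ Y) (x : X) : Prop :=
  ∀ (K : Type u) [Field K] (t : Spec (CommRingCat.of K) ⟶ Y) (z : ↥(pullback f t)),
    (pullback.fst f t) z = x → _root_.IsReduced ((pullback f t).presheaf.stalk z)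

/-- locality on the source -/
theorem gRAt_iff_ι (f : X ⟶ Y) (U : X.Opens) (x : X) (hx : x ∈ U) :
    GRAt f x ↔ GRAt (U.ι ≫ f) ⟨x, hx⟩ := by
  have key : ∀ (K : Type u) [Field K] (t : Spec (CommRingCat.of K) ⟶ Y),
      ∃ (m : pullback (U.ι ≫ f) t ⟶ pullback f t), IsOpenImmersion m ∧
        m ≫ pullback.fst f t = pullback.fst (U.ι ≫ f) t ≫ U.ι ∧
        Set.range m = pullback.fst f t ⁻¹' (U : Set X) := by
    intro K _ t
    refine ⟨pullback.map (U.ι ≫ f) t f t U.ι (𝟙 _) (𝟙 _) (by simp) (by simp), inferInstance,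
      pullback.lift_fst _ _ _, ?_⟩
    rw [Scheme.Pullback.range_map]
    ext z
    simp
  constructor
  · intro h K _ t z₀ hz₀
    obtain ⟨m, hm, hm1, -⟩ := key K t
    have h1 : (pullback.fst f t) (m z₀) = x := by
      rw [← Scheme.Hom.comp_apply, hm1, Scheme.Hom.comp_apply, hz₀]
      rfl
    exact (isReduced_stalk_iff_of_isOpenImmersion m z₀).mp (h K t (m z₀) h1)
  · intro h K _ t z hz
    obtain ⟨m, hm, hm1, hm2⟩ := key K t
    have hzr : z ∈ Set.range m := by
      rw [hm2]
      show (pullback.fst f t) z ∈ U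
      rw [hz]; exact hx
    obtain ⟨z₀, rfl⟩ := hzr
    have h1 : (pullback.fst (U.ι ≫ f) t) z₀ = ⟨x, hx⟩ := by
      apply Subtype.ext
      have := congrArg (fun φ => φ z₀) (congrArg (fun φ : _ ⟶ X => (φ : _ → X)) hm1)
      simp only [Scheme.Hom.comp_apply] at this
      rw [hz] at this
      exact this.symm
    exact (isReduced_stalk_iff_of_isOpenImmersion m z₀).mpr (h K t z₀ h1)

/-- stalks along an isomorphism, inverse direction -/
theorem isReduced_stalk_iso {A B : Scheme.{u}} (e : A ≅ B) (a : A) :
    _root_.IsReduced (B.presheaf.stalk (e.hom a)) ↔ _root_.IsReduced (A.presheaf.stalk a) :=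
  isReduced_stalk_iff_of_isOpenImmersion e.hom a

/-- Comparison with the fibre formulation, for a fixed field extension of the residue field. -/
theorem fibre_compare (f : X ⟶ Y) (y : Y) (w : ↥(pullback f (Y.fromSpecResidueField y)))
    (K : Type u) [Field K] (ψ : Y.residueField y ⟶ CommRingCat.of K) :
    (∀ z' : ↥(pullback (pullback.snd f (Y.fromSpecResidueField y)) (Spec.map ψ)),
        (pullback.fst (pullback.snd f (Y.fromSpecResidueField y)) (Spec.map ψ)) z' = w →
        _root_.IsReduced
          ((pullback (pullback.snd f (Y.fromSpecResidueField y)) (Spec.map ψ)).presheaf.stalk z')) ↔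
    (∀ z : ↥(pullback f (Spec.map ψ ≫ Y.fromSpecResidueField y)),
        (pullback.fst f (Spec.map ψ ≫ Y.fromSpecResidueField y)) z =
          (pullback.fst f (Y.fromSpecResidueField y)) w →
        _root_.IsReduced ((pullback f (Spec.map ψ ≫ Y.fromSpecResidueField y)).presheaf.stalk z)) := by
  have hinj : Function.Injective (pullback.fst f (Y.fromSpecResidueField y)) :=
    (f.fiberι y).isEmbedding.injective
  let e := pullbackLeftPullbackSndIso f (Y.fromSpecResidueField y) (Spec.map ψ)
  have he1 : e.hom ≫ pullback.fst f (Spec.map ψ ≫ Y.fromSpecResidueField y) =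
      pullback.fst (pullback.snd f (Y.fromSpecResidueField y)) (Spec.map ψ) ≫
        pullback.fst f (Y.fromSpecResidueField y) :=
    pullbackLeftPullbackSndIso_hom_fst _ _ _
  have he2 : ∀ z', (pullback.fst f (Spec.map ψ ≫ Y.fromSpecResidueField y)) (e.hom z') =
      (pullback.fst f (Y.fromSpecResidueField y))
        ((pullback.fst (pullback.snd f (Y.fromSpecResidueField y)) (Spec.map ψ)) z') := by
    intro z'
    rw [← Scheme.Hom.comp_apply, he1, Scheme.Hom.comp_apply]
  constructor
  · intro h z hz
    obtain ⟨z₀, rfl⟩ : ∃ z₀, e.hom z₀ = z := ⟨e.inv z, by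
      rw [← Scheme.Hom.comp_apply, Iso.inv_hom_id]; rfl⟩
    rw [isReduced_stalk_iso e z₀]
    refine h z₀ ?_
    apply hinj
    rw [← hz, he2]
  · intro h z' hz'
    have h1 := h (e.hom z') (by rw [he2, hz'])
    exact (isReduced_stalk_iso e z').mp h1

/-- Comparison with the fibre formulation `FBase.IsGeomReducedAt`. -/
theorem isGeomReducedAt_iff_gRAt (f : X ⟶ Y) (y : Y) (w : ↥(f.fiber y)) :
    FBase.IsGeomReducedAt (f.fiberToSpecResidueField y) w ↔ GRAt f (f.fiberι y w) := by
  constructor
  · intro h K _ t z hz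
    -- factor `t` through `Spec κ(y)`
    have hty : ∀ p : ↥(Spec (CommRingCat.of K)), t p = y := by
      intro p
      have h1 : t (pullback.snd f t z) = f (pullback.fst f t z) := by
        rw [← Scheme.Hom.comp_apply, ← Scheme.Hom.comp_apply, pullback.condition]
      have h2 : f (f.fiberι y w) = y := by
        have := congrArg (fun φ : _ ⟶ Y => (φ : _ → Y) w) (f.fiber_fac y)
        simp only [Scheme.Hom.comp_apply] at this
        rw [this]
        exact Scheme.fromSpecResidueField_apply _ _
      rw [Subsingleton.elim p (pullback.snd f t z), h1, hz, h2]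
    obtain ⟨⟨y0, ψ⟩, rfl⟩ := (Scheme.SpecToEquivOfField K Y).symm.surjective t
    have hy0 : y0 = y := by
      have := hty (pullback.snd f _ z)
      change (Spec.map ψ ≫ Y.fromSpecResidueField y0) _ = y at this
      rw [Scheme.Hom.comp_apply, Scheme.fromSpecResidueField_apply] at this
      exact this
    subst hy0
    have h' : ∀ z' : ↥(pullback (pullback.snd f (Y.fromSpecResidueField y0)) (Spec.map ψ)),
        (pullback.fst (pullback.snd f (Y.fromSpecResidueField y0)) (Spec.map ψ)) z' = w →
        _root_.IsReduced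
          ((pullback (pullback.snd f (Y.fromSpecResidueField y0)) (Spec.map ψ)).presheaf.stalk z') := by
      letI : Algebra (IsLocalRing.ResidueField (Y.presheaf.stalk y0)) K := RingHom.toAlgebra ψ.hom
      unfold FBase.IsGeomReducedAt FBase.bc FBase.bcπ at h
      specialize h K
      exact h
    exact (fibre_compare f y0 w K ψ).mp h' z hz
  · intro h K instK instAlg w' hw'
    let ψ : Y.residueField y ⟶ CommRingCat.of K :=
      CommRingCat.ofHom (algebraMap (IsLocalRing.ResidueField (Y.presheaf.stalk y)) K)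
    have h' : ∀ z : ↥(pullback f (Spec.map ψ ≫ Y.fromSpecResidueField y)),
        (pullback.fst f (Spec.map ψ ≫ Y.fromSpecResidueField y)) z =
          (pullback.fst f (Y.fromSpecResidueField y)) w →
        _root_.IsReduced ((pullback f (Spec.map ψ ≫ Y.fromSpecResidueField y)).presheaf.stalk z) :=
      fun z hz => h K (Spec.map ψ ≫ Y.fromSpecResidueField y) z hz
    exact (fibre_compare f y w K ψ).mpr h' w' hw'

/-- base change -/
theorem gRAt_of_isPullback {X' Y' : Scheme.{u}} {f : X ⟶ Y} {g : Y' ⟶ Y} {g' : X' ⟶ X}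
    {f' : X' ⟶ Y'} (h : IsPullback g' f' f g) (x' : X') (hx : GRAt f (g' x')) : GRAt f' x' := by
  intro K _ t z hz
  have h1 : IsPullback (pullback.fst f' t ≫ g') (pullback.snd f' t) f (t ≫ g) :=
    (IsPullback.of_hasPullback f' t).paste_horiz h
  let e : pullback f' t ≅ pullback f (t ≫ g) := h1.isoPullback
  have he : e.hom ≫ pullback.fst f (t ≫ g) = pullback.fst f' t ≫ g' := h1.isoPullback_hom_fst
  rw [← isReduced_stalk_iso e z]
  refine hx K (t ≫ g) (e.hom z) ?_
  rw [← Scheme.Hom.comp_apply, he, Scheme.Hom.comp_apply, hz]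

/-- composing with an open immersion on the base -/
theorem gRAt_comp_of_isOpenImmersion {Y' : Scheme.{u}} (f : X ⟶ Y) (j : Y ⟶ Y') [IsOpenImmersion j]
    (x : X) : GRAt (f ≫ j) x ↔ GRAt f x := by
  have hpb : IsPullback (𝟙 X) f (f ≫ j) j := IsPullback.of_horiz_isIso_mono ⟨by simp⟩
  constructor
  · intro h
    exact gRAt_of_isPullback hpb x h
  · intro h K _ t z hz
    have hr : Set.range t ⊆ Set.range j := by
      rintro _ ⟨p, rfl⟩
      refine ⟨f x, ?_⟩
      rw [Subsingleton.elim p (pullback.snd (f ≫ j) t z), ← Scheme.Hom.comp_apply]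
      have := congrArg (fun φ : _ ⟶ Y' => (φ : _ → Y') z) (pullback.condition (f := f ≫ j) (g := t))
      simp only [Scheme.Hom.comp_apply] at this
      rw [← this, hz, Scheme.Hom.comp_apply]
    obtain ⟨t₀, rfl⟩ : ∃ t₀, t₀ ≫ j = t := ⟨IsOpenImmersion.lift j t hr, IsOpenImmersion.lift_fac _ _ _⟩
    have h1 : IsPullback (pullback.fst f t₀ ≫ 𝟙 X) (pullback.snd f t₀) (f ≫ j) (t₀ ≫ j) :=
      (IsPullback.of_hasPullback f t₀).paste_horiz hpb
    let e : pullback f t₀ ≅ pullback (f ≫ j) (t₀ ≫ j) := h1.isoPullback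
    have he : e.hom ≫ pullback.fst (f ≫ j) (t₀ ≫ j) = pullback.fst f t₀ ≫ 𝟙 X :=
      h1.isoPullback_hom_fst
    obtain ⟨z₀, rfl⟩ : ∃ z₀, e.hom z₀ = z := ⟨e.inv z, by
      rw [← Scheme.Hom.comp_apply, Iso.inv_hom_id]; rfl⟩
    rw [isReduced_stalk_iso e z₀]
    refine h K t₀ z₀ ?_
    rw [← hz, ← Scheme.Hom.comp_apply, he, Category.comp_id]

end Groth.Agent.Lib.Seat69.GeomRedAt
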